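import Groth.Agent.Lib.Helper25MultBC
import Groth.Agent.Lib.Helper25HopfSub

/-!
# Closed subgroups of groups of multiplicative type over a field (helper25)

`isDiagonalizable_monoidAlgebra`, `isDiagonalizable_of_surjective`, `isDiagonalizable_of_isDiag`,
`bcQuot`, `isMultType_quotient`.
-/

set_option autoImplicit false
set_option linter.style.haveILetI false
universe u v w

namespace Groth.Agent.Lib.Helper25.BCB


open TensorProduct Coalgebra SGA3b

section Diagonalizable

variable {K : Type u} [Field K] {H H' : Type u} [CommRing H] [HopfAlgebra K H]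
  [CommRing H'] [HopfAlgebra K H']

theorem isDiagonalizable_monoidAlgebra (M : Type u) [CommGroup M] :
    HopfRep.IsDiagonalizable K (MonoidAlgebra K M) := by
  unfold HopfRep.IsDiagonalizable
  rw [eq_top_iff]
  intro x _
  induction x using MonoidAlgebra.induction_linear with
  | zero => exact Submodule.zero_mem _
  | add f g hf hg => exact Submodule.add_mem _ (hf trivial) (hg trivial)
  | single m r =>
    have h1 : MonoidAlgebra.single m r = r • MonoidAlgebra.of K M m := by
      rw [MonoidAlgebra.of_apply, MonoidAlgebra.smul_single, smul_eq_mul, mul_one]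
    rw [h1]
    exact Submodule.smul_mem _ _ (Submodule.subset_span (MonoidAlgebra.isGroupLikeElem_of m))

theorem isDiagonalizable_of_surjective (φ : H →ₐc[K] H') (hφ : Function.Surjective φ)
    (h : HopfRep.IsDiagonalizable K H) : HopfRep.IsDiagonalizable K H' := by
  unfold HopfRep.IsDiagonalizable at h ⊢
  rw [eq_top_iff]
  intro y _
  obtain ⟨x, rfl⟩ := hφ y
  have hx : x ∈ Submodule.span K {a : H | IsGroupLikeElem K a} := by
    rw [h]
    trivial
  have h1 : (Submodule.span K {a : H | IsGroupLikeElem K a}).map (φ : H →ₗ[K] H') ≤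
      Submodule.span K {a : H' | IsGroupLikeElem K a} := by
    rw [Submodule.map_span, Submodule.span_le]
    rintro _ ⟨a, ha, rfl⟩
    exact Submodule.subset_span (IsGroupLikeElem.map φ ha)
  exact h1 ⟨x, hx, rfl⟩

theorem isDiagonalizable_of_isDiag (h : IsDiag K H) : HopfRep.IsDiagonalizable K H := by
  obtain ⟨M, _, ⟨e⟩⟩ := h
  have hs : Function.Surjective (e.symm.toBialgHom) := fun y => ⟨e y, e.symm_apply_apply y⟩
  exact isDiagonalizable_of_surjective e.symm.toBialgHom hs (isDiagonalizable_monoidAlgebra M)

end Diagonalizable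

section Quot

variable (k : Type u) [Field k] (A : Type u) [CommRing A] [HopfAlgebra k A]

/-- Base change of the quotient map, as a map of bialgebras. -/
noncomputable def bcQuot (K : Type u) [Field K] [Algebra k K] (J : Ideal A) [J.IsHopfIdeal k] :
    K ⊗[k] A →ₐc[K] K ⊗[k] (A ⧸ J) :=
  Bialgebra.TensorProduct.map (BialgHom.id K K) (Bialgebra.Quotient.mkBialgHom J)

theorem bcQuot_surjective (K : Type u) [Field K] [Algebra k K] (J : Ideal A) [J.IsHopfIdeal k] :
    Function.Surjective (bcQuot k A K J) := by
  intro y
  induction y using TensorProduct.induction_on with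
  | zero => exact ⟨0, map_zero _⟩
  | tmul c ab =>
    obtain ⟨a, rfl⟩ := Ideal.Quotient.mk_surjective ab
    exact ⟨c ⊗ₜ[k] a, rfl⟩
  | add x y hx hy =>
    obtain ⟨x', rfl⟩ := hx
    obtain ⟨y', rfl⟩ := hy
    exact ⟨x' + y', map_add _ _ _⟩

/-- A closed subgroup of a group of multiplicative type over a field is of multiplicative
type. -/
theorem isMultType_quotient (h : IsMultType k A) (J : Ideal A) [J.IsHopfIdeal k] :
    IsMultType k (A ⧸ J) := by
  obtain ⟨K, _, _, hD⟩ := exists_field_isDiag k A (isMultTypeConst_of_isMultType k A h)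
  apply isMultType_of_isMultTypeConst
  apply isMultTypeConst_of_field_isDiag k (A ⧸ J) K
  apply HopfSub.isDiag_of_isDiagonalizable
  exact isDiagonalizable_of_surjective (bcQuot k A K J) (bcQuot_surjective k A K J)
    (isDiagonalizable_of_isDiag hD)

end Quot


end Groth.Agent.Lib.Helper25.BCB
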