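import Groth.Agent.Lib.Helper25PurInsep

/-!
# Splitting of groups of multiplicative type over a finite separable extension (helper25)

For a finitely generated bialgebra `A` over a field `k` which becomes spanned by group-likes over
an algebraic extension `K`: there is a finite separable subextension `F` of `K/k` with `F ⊗ A`
spanned by group-likes (`exists_separable_isDiagonalizable`).  Key step: purely inseparable descent
of group-like elements (`exists_eq_thetaMap_of_isGroupLikeElem`).
-/

set_option autoImplicit false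
set_option linter.style.haveILetI false
universe u v w w'

namespace Groth.Agent.Lib.Helper25.SepSplit

open TensorProduct Coalgebra Groth.Agent.Lib.Helper25 Groth.Agent.Lib.Helper25.TowerBC
  Groth.Agent.Lib.Helper25.PurInsep

section Coordinates

variable {R : Type u} [Field R] {F : Type v} [CommRing F] [Algebra R F]
  {S : Type v} [CommRing S] [Algebra R S]
  {T : Type w} [CommRing T] [Algebra R T] (v : F →ₐ[R] S) (u₁ u₂ : S →ₐ[R] T)
  {A : Type w'} [CommRing A] [Bialgebra R A]

/-- An element of `S ⊗ A` whose images under `u₁ ⊗ id` and `u₂ ⊗ id` agree comes from `F ⊗ A`,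
provided the equalizer of `u₁` and `u₂` is the image of `F`. -/
theorem exists_eq_thetaMap_of_thetaMap_eq
    (hS : ∀ c : S, u₁ c = u₂ c → c ∈ v.range)
    (z : S ⊗[R] A) (h : thetaMap u₁ A z = thetaMap u₂ A z) :
    ∃ z' : F ⊗[R] A, z = thetaMap v A z' := by
  classical
  let bA := Module.Free.chooseBasis R A
  set bS := Algebra.TensorProduct.basis S bA with hbS
  set c := bS.repr z with hc
  have hcr : ∀ r, c r ∈ v.range := by
    intro r
    apply hS
    rw [hc, hbS, ← basis_repr_thetaMap bA u₁, ← basis_repr_thetaMap bA u₂, h]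
  choose d hd using hcr
  refine ⟨∑ r ∈ c.support, d r ⊗ₜ[R] bA r, ?_⟩
  conv_lhs => rw [← bS.linearCombination_repr z]
  rw [Finsupp.linearCombination_apply, Finsupp.sum, map_sum]
  refine Finset.sum_congr rfl (fun r _ => ?_)
  have hdr : v (d r) = c r := hd r
  rw [← hc, thetaMap_tmul, hdr, hbS, Algebra.TensorProduct.basis_apply,
    TensorProduct.smul_tmul', smul_eq_mul, mul_one]

end Coordinates

section PIrel

variable {k : Type u} [Field k] {F : Type v} [Field F] [Algebra k F] {L : Type v} [Field L]
  [Algebra k L] [Algebra F L] [IsScalarTower k F L] [IsPurelyInseparable F L]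
  {K : Type w} [Field K] [Algebra k K] [Algebra F K] [Algebra L K] [IsScalarTower k F K]
  [IsScalarTower F L K] [IsScalarTower k L K]
  {A : Type w'} [CommRing A] [Bialgebra k A]

/-- Purely inseparable descent of group-like elements, relative form: for `L/F` purely
inseparable inside `K`, with `K ⊗ A` spanned by group-likes, every group-like element of
`L ⊗ A` comes from `F ⊗ A`. -/
theorem exists_eq_thetaMap_of_isGroupLikeElem (hA : HopfRep.IsDiagonalizable K (K ⊗[k] A))
    {g : L ⊗[k] A} (hg : IsGroupLikeElem L g) :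
    ∃ g' : F ⊗[k] A, g = thetaMap (IsScalarTower.toAlgHom k F L) A g' := by
  let j : L →ₐ[k] K := IsScalarTower.toAlgHom k L K
  let jT : K →ₐ[k] K ⊗[F] L := IsScalarTower.toAlgHom k K (K ⊗[F] L)
  let u₁ : L →ₐ[k] K ⊗[F] L := jT.comp j
  let u₂ : L →ₐ[k] K ⊗[F] L :=
    (Algebra.TensorProduct.includeRight : L →ₐ[F] K ⊗[F] L).restrictScalars k
  let π : K ⊗[F] L →ₐ[k] K :=
    (Algebra.TensorProduct.productLeftAlgHom (AlgHom.id K K)
      (IsScalarTower.toAlgHom F L K)).restrictScalars k
  have hπ1 : π.comp u₁ = j := by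
    ext c
    simp [π, u₁, jT, j, Algebra.TensorProduct.algebraMap_apply]
  have hπ2 : π.comp u₂ = j := by
    ext c
    simp [π, u₂, j]
  have hπj : π.comp jT = AlgHom.id k K := by
    ext c
    simp [π, jT, Algebra.TensorProduct.algebraMap_apply]
  obtain ⟨eA, heA⟩ := exists_basis_thetaMap_groupLike (T := K ⊗[F] L) hA
  have heAg : ∀ i, IsGroupLikeElem (K ⊗[F] L) (eA i) := fun i => by
    rw [heA]
    exact isGroupLikeElem_thetaMap _ A i.2
  have hg1 := isGroupLikeElem_thetaMap u₁ A hg
  have hg2 := isGroupLikeElem_thetaMap u₂ A hg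
  obtain ⟨i₁, h1⟩ := exists_eq_basis_of_isGroupLikeElem
    (idempotent_trivial (k := F) (k' := L) (K := K)) eA heAg hg1
  obtain ⟨i₂, h2⟩ := exists_eq_basis_of_isGroupLikeElem
    (idempotent_trivial (k := F) (k' := L) (K := K)) eA heAg hg2
  have h3 : thetaMap π A (thetaMap u₁ A g) = thetaMap π A (thetaMap u₂ A g) := by
    rw [thetaMap_comp, thetaMap_comp, hπ1, hπ2]
  rw [h1, h2, heA, heA, thetaMap_comp, thetaMap_comp] at h3
  have h4 : (i₁ : K ⊗[k] A) = i₂ := by
    have e : π.comp (IsScalarTower.toAlgHom k K (K ⊗[F] L)) = AlgHom.id k K := hπj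
    rw [e, thetaMap_id, thetaMap_id] at h3
    exact h3
  have h5 : thetaMap u₁ A g = thetaMap u₂ A g := by rw [h1, h2, Subtype.ext h4]
  apply exists_eq_thetaMap_of_thetaMap_eq (IsScalarTower.toAlgHom k F L) u₁ u₂ ?_ g h5
  intro c hc
  have hcr : c ∈ (algebraMap F L).range := by
    apply mem_range_of_tmul_eq (k := F) (IsScalarTower.toAlgHom F L K) c
    have e1 : u₁ c = (IsScalarTower.toAlgHom F L K c) ⊗ₜ[F] (1 : L) := by
      simp [u₁, jT, j, Algebra.TensorProduct.algebraMap_apply]
    rw [← e1, hc]
    rfl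
  obtain ⟨d, hd⟩ := hcr
  exact ⟨d, hd⟩

end PIrel

section Reflect

variable {R : Type u} [Field R] {S : Type v} [CommRing S] [Algebra R S]
  {T : Type w} [CommRing T] [Algebra R T] (u : S →ₐ[R] T)
  {A : Type w'} [CommRing A] [Bialgebra R A]

theorem basis_repr_thetaMap2 {ι : Type*} (bA : Module.Basis ι R A)
    (z : (S ⊗[R] A) ⊗[S] (S ⊗[R] A)) (r s : ι) :
    ((Algebra.TensorProduct.basis T bA).tensorProduct (Algebra.TensorProduct.basis T bA)).repr
      (thetaMap2 u A z) (r, s) =
    u (((Algebra.TensorProduct.basis S bA).tensorProduct (Algebra.TensorProduct.basis S bA)).repr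
      z (r, s)) := by
  induction z using TensorProduct.induction_on with
  | zero => simp
  | add x y hx hy => simp only [map_add, Finsupp.coe_add, Pi.add_apply, hx, hy]
  | tmul x y =>
    rw [thetaMap2_tmul, Module.Basis.tensorProduct_repr_tmul_apply,
      Module.Basis.tensorProduct_repr_tmul_apply, basis_repr_thetaMap, basis_repr_thetaMap]
    simp

theorem thetaMap2_injective (hu : Function.Injective u) : Function.Injective (thetaMap2 u A) := by
  rw [injective_iff_map_eq_zero]
  intro z hz
  let bA := Module.Free.chooseBasis R A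
  apply ((Algebra.TensorProduct.basis S bA).tensorProduct
    (Algebra.TensorProduct.basis S bA)).repr.injective
  ext ⟨r, s⟩
  apply hu
  rw [← basis_repr_thetaMap2 u bA z r s, hz]
  simp

theorem thetaMap_injective (hu : Function.Injective u) : Function.Injective (thetaMap u A) := by
  rw [injective_iff_map_eq_zero]
  intro z hz
  let bA := Module.Free.chooseBasis R A
  apply (Algebra.TensorProduct.basis S bA).repr.injective
  ext r
  apply hu
  rw [← basis_repr_thetaMap bA u z r, hz]
  simp

/-- Group-likeness is reflected by injective base change. -/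
theorem isGroupLikeElem_of_thetaMap (hu : Function.Injective u) {x : S ⊗[R] A}
    (h : IsGroupLikeElem T (thetaMap u A x)) : IsGroupLikeElem S x where
  counit_eq_one := by
    apply hu
    rw [← counit_thetaMap, h.counit_eq_one, map_one]
  comul_eq_tmul_self := by
    apply thetaMap2_injective u hu
    rw [← comul_thetaMap, h.comul_eq_tmul_self, thetaMap2_tmul]

end Reflect

section Img

variable {k : Type u} [Field k] {K : Type v} [Field K] [Algebra k K]
  (A : Type w') [CommRing A] [Bialgebra k A]

/-- The image of `L ⊗ A` in `K ⊗ A`, for an intermediate field `L`. -/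
def Img (L : IntermediateField k K) : Set (K ⊗[k] A) := Set.range (thetaMap L.val A)

variable {A}

theorem Img_mono {L L' : IntermediateField k K} (h : L ≤ L') : Img A L ⊆ Img A L' := by
  rintro _ ⟨x, rfl⟩
  refine ⟨thetaMap (IntermediateField.inclusion h) A x, ?_⟩
  rw [thetaMap_comp]
  rfl

theorem exists_finiteDimensional_mem_Img [Algebra.IsAlgebraic k K] (x : K ⊗[k] A) :
    ∃ L : IntermediateField k K, FiniteDimensional k L ∧ x ∈ Img A L := by
  induction x using TensorProduct.induction_on with
  | zero => exact ⟨⊥, inferInstance, 0, by simp⟩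
  | add x y hx hy =>
    obtain ⟨L₁, h₁, x', rfl⟩ := hx
    obtain ⟨L₂, h₂, y', rfl⟩ := hy
    refine ⟨L₁ ⊔ L₂, inferInstance, ?_⟩
    obtain ⟨x'', hx''⟩ := Img_mono (A := A) (le_sup_left : L₁ ≤ L₁ ⊔ L₂) ⟨x', rfl⟩
    obtain ⟨y'', hy''⟩ := Img_mono (A := A) (le_sup_right : L₂ ≤ L₁ ⊔ L₂) ⟨y', rfl⟩
    exact ⟨x'' + y'', by rw [map_add, hx'', hy'']⟩
  | tmul c a =>
    have hc : IsIntegral k c := (Algebra.IsAlgebraic.isAlgebraic c).isIntegral
    haveI := IntermediateField.adjoin.finiteDimensional hc
    refine ⟨IntermediateField.adjoin k {c}, inferInstance,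
      (⟨c, IntermediateField.mem_adjoin_simple_self k c⟩ : IntermediateField.adjoin k {c}) ⊗ₜ[k] a,
      ?_⟩
    rw [thetaMap_tmul]
    rfl

/-- Every group-like element of `K ⊗ A` is defined over a finite separable subextension. -/
theorem exists_separable_mem_Img [Algebra.IsAlgebraic k K]
    (hA : HopfRep.IsDiagonalizable K (K ⊗[k] A)) {g : K ⊗[k] A} (hg : IsGroupLikeElem K g) :
    ∃ F : IntermediateField k K, FiniteDimensional k F ∧ Algebra.IsSeparable k F ∧
      g ∈ Img A F := by
  obtain ⟨L, hL, gL, rfl⟩ := exists_finiteDimensional_mem_Img (A := A) g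
  have hgL : IsGroupLikeElem L gL :=
    isGroupLikeElem_of_thetaMap L.val L.val.injective hg
  let F' : IntermediateField k L := separableClosure k L
  obtain ⟨g', hg'⟩ := exists_eq_thetaMap_of_isGroupLikeElem (F := ↥F') (L := ↥L) (K := K) hA hgL
  refine ⟨IntermediateField.lift F', ?_, ?_, ?_⟩
  · exact (IntermediateField.liftAlgEquiv F').toLinearEquiv.finiteDimensional
  · exact AlgEquiv.Algebra.isSeparable (IntermediateField.liftAlgEquiv F')
  · refine ⟨thetaMap (IntermediateField.liftAlgEquiv F' : F' →ₐ[k] IntermediateField.lift F') A g',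
      ?_⟩
    rw [hg', thetaMap_comp, thetaMap_comp]
    rfl

/-- Linear algebra: membership in a subspace can be tested after extension of scalars. -/
theorem mem_of_thetaMap_mem_span (F : IntermediateField k K) (W : Submodule F (F ⊗[k] A))
    (x : F ⊗[k] A)
    (h : thetaMap F.val A x ∈ Submodule.span K (thetaMap F.val A '' (W : Set (F ⊗[k] A)))) :
    x ∈ W := by
  by_contra hx
  obtain ⟨l, hlx, hlW⟩ := Submodule.exists_dual_map_eq_bot_of_notMem hx inferInstance
  let ℓ : A →ₗ[k] K := (F.val.toLinearMap) ∘ₗ (l.restrictScalars k) ∘ₗ (TensorProduct.mk k F A 1)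
  let lK : K ⊗[k] A →ₗ[K] K := LinearMap.liftBaseChange K ℓ
  have key : ∀ y : F ⊗[k] A, lK (thetaMap F.val A y) = F.val (l y) := by
    intro y
    induction y using TensorProduct.induction_on with
    | zero => simp
    | add x y hx hy => rw [map_add, map_add, hx, hy, map_add, map_add]
    | tmul c a =>
      have e1 : c ⊗ₜ[k] a = c • ((1 : F) ⊗ₜ[k] a) := by
        rw [TensorProduct.smul_tmul', smul_eq_mul, mul_one]
      rw [thetaMap_tmul, e1, map_smul, smul_eq_mul, map_mul]
      simp [lK, ℓ]
  have hzero : ∀ z ∈ Submodule.span K (thetaMap F.val A '' (W : Set (F ⊗[k] A))), lK z = 0 := by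
    intro z hz
    refine Submodule.span_induction ?_ ?_ ?_ ?_ hz
    · rintro _ ⟨w, hw, rfl⟩
      rw [key]
      have : l w ∈ Submodule.map l W := ⟨w, hw, rfl⟩
      rw [hlW] at this
      rw [(Submodule.mem_bot F).mp this, map_zero]
    · simp
    · intro a b _ _ ha hb
      rw [map_add, ha, hb, add_zero]
    · intro c a _ ha
      rw [map_smul, ha, smul_zero]
  have h1 := hzero _ h
  rw [key] at h1
  apply hlx
  exact (map_eq_zero_iff F.val F.val.injective).mp h1

/-- If the generators of `A` lie, over `K`, in the span of group-likes defined over `F`, then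
`F ⊗ A` is spanned by group-likes. -/
theorem isDiagonalizable_of_generators (F : IntermediateField k K) (s : Set A)
    (hs : Algebra.adjoin k s = ⊤)
    (h : ∀ a ∈ s, ∃ G : Set (K ⊗[k] A), (∀ g ∈ G, IsGroupLikeElem K g ∧ g ∈ Img A F) ∧
      (1 : K) ⊗ₜ[k] a ∈ Submodule.span K G) :
    HopfRep.IsDiagonalizable F (F ⊗[k] A) := by
  set GLs : Set (F ⊗[k] A) := {x | IsGroupLikeElem F x} with hGL
  set W : Submodule F (F ⊗[k] A) := Submodule.span F GLs with hW
  -- `W` is a subalgebra
  have hcl : (Submonoid.closure GLs : Set (F ⊗[k] A)) = GLs := by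
    apply Set.eq_of_subset_of_subset
    · have : Submonoid.closure GLs ≤ groupLikeSubmonoid F (F ⊗[k] A) :=
        Submonoid.closure_le.mpr (fun x hx => hx)
      exact this
    · exact Submonoid.subset_closure
  have hWadj : Subalgebra.toSubmodule (Algebra.adjoin F GLs) = W := by
    rw [Algebra.adjoin_eq_span, hcl]
  -- the generators lie in `W`
  have hgen : ∀ a ∈ s, (1 : F) ⊗ₜ[k] a ∈ W := by
    intro a ha
    obtain ⟨G, hG, haG⟩ := h a ha
    apply mem_of_thetaMap_mem_span F W
    rw [thetaMap_tmul, map_one]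
    refine Submodule.span_mono ?_ haG
    intro g hg
    obtain ⟨hgl, g₀, rfl⟩ := hG g hg
    refine ⟨g₀, ?_, rfl⟩
    apply Submodule.subset_span
    exact isGroupLikeElem_of_thetaMap F.val F.val.injective hgl
  -- hence everything does
  have hall : ∀ a : A, (1 : F) ⊗ₜ[k] a ∈ Algebra.adjoin F GLs := by
    intro a
    have ha : a ∈ Algebra.adjoin k s := by rw [hs]; trivial
    refine Algebra.adjoin_induction (p := fun a _ => (1 : F) ⊗ₜ[k] a ∈ Algebra.adjoin F GLs)
      ?_ ?_ ?_ ?_ ha
    · intro x hx
      have := hgen x hx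
      rw [← hWadj] at this
      exact this
    · intro r
      rw [Algebra.algebraMap_eq_smul_one (A := A), TensorProduct.tmul_smul,
        ← Algebra.TensorProduct.one_def, ← algebraMap_smul F r (1 : F ⊗[k] A)]
      exact Subalgebra.smul_mem _ (Subalgebra.one_mem _) _
    · intro x y _ _ hx hy
      rw [TensorProduct.tmul_add]
      exact Subalgebra.add_mem _ hx hy
    · intro x y _ _ hx hy
      have : (1 : F) ⊗ₜ[k] (x * y) = ((1 : F) ⊗ₜ[k] x) * ((1 : F) ⊗ₜ[k] y) := by
        rw [Algebra.TensorProduct.tmul_mul_tmul, mul_one]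
      rw [this]
      exact Subalgebra.mul_mem _ hx hy
  unfold HopfRep.IsDiagonalizable
  rw [← hGL, ← hW, ← hWadj, eq_top_iff]
  have hx : ∀ x : F ⊗[k] A, x ∈ Subalgebra.toSubmodule (Algebra.adjoin F GLs) := by
    intro x
    induction x using TensorProduct.induction_on with
    | zero => exact Submodule.zero_mem _
    | add x y hx hy => exact Submodule.add_mem _ hx hy
    | tmul c a =>
      have e1 : c ⊗ₜ[k] a = c • ((1 : F) ⊗ₜ[k] a) := by
        rw [TensorProduct.smul_tmul', smul_eq_mul, mul_one]
      rw [e1]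
      exact Submodule.smul_mem _ c (hall a)
  intro x _
  exact hx x

/-- A finitely generated bialgebra which is diagonalizable over an algebraic extension `K` is
diagonalizable over a finite separable subextension. -/
theorem exists_separable_isDiagonalizable [Algebra.IsAlgebraic k K] [Algebra.FiniteType k A]
    (hA : HopfRep.IsDiagonalizable K (K ⊗[k] A)) :
    ∃ F : IntermediateField k K, FiniteDimensional k F ∧ Algebra.IsSeparable k F ∧
      HopfRep.IsDiagonalizable F (F ⊗[k] A) := by
  classical
  obtain ⟨s, hs⟩ := (Algebra.FiniteType.out : (⊤ : Subalgebra k A).FG)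
  have hspan : ∀ a : A, (1 : K) ⊗ₜ[k] a ∈ Submodule.span K {x : K ⊗[k] A | IsGroupLikeElem K x} := by
    intro a
    rw [show Submodule.span K {x : K ⊗[k] A | IsGroupLikeElem K x} = ⊤ from hA]
    trivial
  choose Ga hGa1 hGa2 using fun a => Submodule.mem_span_finite_of_mem_span (hspan a)
  let G : Finset (K ⊗[k] A) := s.biUnion Ga
  have hGgl : ∀ g ∈ G, IsGroupLikeElem K g := by
    intro g hg
    obtain ⟨a, _, hga⟩ := Finset.mem_biUnion.mp hg
    exact hGa1 a hga
  choose Fsel hF1 hF2 hF3 using fun g : G => exists_separable_mem_Img hA (hGgl g.1 g.2)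
  haveI : ∀ g : G, FiniteDimensional k (Fsel g) := hF1
  haveI : ∀ g : G, Algebra.IsSeparable k (Fsel g) := hF2
  refine ⟨⨆ g : G, Fsel g, inferInstance, inferInstance, ?_⟩
  apply isDiagonalizable_of_generators _ (s : Set A) hs
  intro a ha
  refine ⟨(Ga a : Set (K ⊗[k] A)), ?_, hGa2 a⟩
  intro g hg
  have hgG : g ∈ G := Finset.mem_biUnion.mpr ⟨a, ha, hg⟩
  refine ⟨hGa1 a hg, ?_⟩
  exact Img_mono (le_iSup (fun g : G => Fsel g) ⟨g, hgG⟩) (hF3 ⟨g, hgG⟩)

end Img

end Groth.Agent.Lib.Helper25.SepSplit
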