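import Groth.Agent.Lib.Helper25HensFEt
import Groth.Agent.S2969
import Mathlib.RingTheory.Etale.Field
import Mathlib.RingTheory.Finiteness.Descent

/-!
# Lifting finite groups of multiplicative type over a Henselian local ring (helper25)
-/

set_option autoImplicit false
set_option linter.unusedSectionVars false
set_option linter.style.haveILetI false
universe u

namespace Groth.Agent.Lib.Helper25.HensFEt

open TensorProduct SGA3b Groth.Agent.Lib.Helper25

/-- Over a field, a group of multiplicative type and of finite type is isotrivial (prelude form). -/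
theorem isIsotrivial_of_field (k : Type u) [Field k] (A : Type u) [CommRing A] [HopfAlgebra k A]
    (hft : Algebra.FiniteType k A) (h : IsMultType k A) : IsIsotrivial k A := by
  obtain ⟨k', _, _, hfin, hsep, hDFT⟩ := Groth.Agent.S2969.result k A hft h
  haveI := hfin
  haveI := hsep
  have hD : IsDiag k' (k' ⊗[k] A) := by
    obtain ⟨M, _, _, ⟨e⟩⟩ := hDFT
    exact ⟨M, inferInstance, ⟨e⟩⟩
  haveI : Algebra.FormallyEtale k k' := Algebra.FormallyEtale.of_isSeparable k k'
  haveI : Algebra.FiniteType k k' := inferInstance
  haveI : Algebra.FinitePresentation k k' :=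
    Algebra.FinitePresentation.of_finiteType.mp inferInstance
  have het : Algebra.Etale k k' := {}
  exact ⟨k', inferInstance, inferInstance, het, hfin, inferInstance, hD⟩

theorem finite_of_triv {R : Type u} [CommRing R] (P : Type u) [CommRing P] [Algebra R P]
    [Module.FaithfullyFlat R P] (A : Type u) [CommRing A] [HopfAlgebra R A]
    (M : Type u) [CommGroup M] [Finite M] (e : P ⊗[R] A ≃ₐc[P] MonoidAlgebra P M) :
    Module.Finite R A := by
  haveI : Module.Finite P (MonoidAlgebra P M) :=
    Module.Finite.of_basis (MonoidAlgebra.basis M P)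
  haveI : Module.Finite P (P ⊗[R] A) :=
    Module.Finite.equiv e.symm.toCoalgEquiv.toLinearEquiv
  exact Module.Finite.of_finite_tensorProduct_of_faithfullyFlat P

theorem finite_group_of_triv {K : Type u} [CommRing K] (Q : Type u) [CommRing Q] [Algebra K Q]
    [Nontrivial Q] (C₀ : Type u) [CommRing C₀] [HopfAlgebra K C₀] [Module.Finite K C₀]
    (M : Type u) [CommGroup M] (ε : Q ⊗[K] C₀ ≃ₐc[Q] MonoidAlgebra Q M) : Finite M := by
  haveI : Module.Finite Q (MonoidAlgebra Q M) :=
    Module.Finite.equiv ε.toCoalgEquiv.toLinearEquiv
  exact Module.Finite.finite_basis (MonoidAlgebra.basis M Q)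

end Groth.Agent.Lib.Helper25.HensFEt
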