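import Groth.Agent.Lib.Helper25QIsoG
import Groth.Agent.Lib.Helper25HensLocal
import Groth.Agent.Lib.Helper25EtNilC

/-!
# Quasi-isotriviality, part H: the endgame (helper25)

A group of multiplicative type and of finite type over any ring is quasi-isotrivial
(SGA3 X 4.5).
-/

set_option autoImplicit false
set_option linter.unusedSectionVars false
set_option linter.style.haveILetI false
universe u

namespace Groth.Agent.Lib.Helper25.QIso

open TensorProduct SGA3b Groth.Agent.Lib.Helper25 BCB

section SameType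

variable {R : Type u} [CommRing R] {A : Type u} [CommRing A] [HopfAlgebra R A]
  {M : Type u} [CommGroup M]

/-- The type over a field point agrees with the type over a faithfully flat cover. -/
theorem nonempty_mulEquiv_of_ff (R' : Type u) [CommRing R'] [Algebra R R']
    [Module.FaithfullyFlat R R'] (ε : R' ⊗[R] A ≃ₐc[R'] MonoidAlgebra R' M)
    (K : Type u) [Field K] [Algebra R K] (N : Type u) [CommGroup N]
    (e : K ⊗[R] A ≃ₐc[K] MonoidAlgebra K N) : Nonempty (N ≃* M) := by
  haveI : Nontrivial (K ⊗[R] R') := Module.FaithfullyFlat.rTensor_nontrivial R R' K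
  obtain ⟨y, hy⟩ := Ideal.exists_maximal (K ⊗[R] R')
  letI : Field ((K ⊗[R] R') ⧸ y) := Ideal.Quotient.field y
  let cb : R' →ₐ[R] (K ⊗[R] R') ⧸ y :=
    (Ideal.Quotient.mkₐ R y).comp Algebra.TensorProduct.includeRight
  letI : Algebra R' ((K ⊗[R] R') ⧸ y) := cb.toRingHom.toAlgebra
  haveI : IsScalarTower R R' ((K ⊗[R] R') ⧸ y) :=
    IsScalarTower.of_algebraMap_eq (fun r => (cb.commutes r).symm)
  let e1 : ((K ⊗[R] R') ⧸ y) ⊗[R] A ≃ₐc[(K ⊗[R] R') ⧸ y] MonoidAlgebra ((K ⊗[R] R') ⧸ y) N :=
    MTGlue.bcDiag R K ((K ⊗[R] R') ⧸ y) e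
  let e2 : ((K ⊗[R] R') ⧸ y) ⊗[R] A ≃ₐc[(K ⊗[R] R') ⧸ y] MonoidAlgebra ((K ⊗[R] R') ⧸ y) M :=
    MTGlue.bcDiag R R' ((K ⊗[R] R') ⧸ y) ε
  exact ⟨MTGlue.mulEquiv_of_bialgEquiv (e1.symm.trans e2)⟩

end SameType

section FieldPoint

variable (R : Type u) [CommRing R] (A : Type u) [CommRing A] [HopfAlgebra R A]

/-- A group of multiplicative type and of finite type is diagonalisable over some field `K` over
`R` with prescribed kernel `p` (a finite separable extension of the residue field). -/
theorem exists_field_point_diag (hft : Algebra.FiniteType R A) (h : IsMultType R A)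
    (p : Ideal R) [p.IsPrime] :
    ∃ (K : Type u) (_ : Field K) (_ : Algebra R K),
      RingHom.ker (algebraMap R K) = p ∧ IsDiag K (K ⊗[R] A) := by
  haveI := hft
  have hft' : Algebra.FiniteType p.ResidueField (p.ResidueField ⊗[R] A) := inferInstance
  have hmt : IsMultType p.ResidueField (p.ResidueField ⊗[R] A) :=
    EtNil.isMultType_baseChange R A p.ResidueField h
  obtain ⟨k', _, _, het, hfin, hff, hD⟩ :=
    HensFEt.isIsotrivial_of_field p.ResidueField (p.ResidueField ⊗[R] A) hft' hmt
  haveI := hff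
  haveI : Nontrivial k' := by
    by_contra hcon
    rw [not_nontrivial_iff_subsingleton] at hcon
    haveI := hcon
    haveI : Nontrivial (p.ResidueField ⊗[p.ResidueField] k') :=
      Module.FaithfullyFlat.rTensor_nontrivial p.ResidueField k' p.ResidueField
    exact not_subsingleton (p.ResidueField ⊗[p.ResidueField] k')
      (TensorProduct.lid p.ResidueField k').toEquiv.subsingleton
  obtain ⟨m, hm⟩ := Ideal.exists_maximal k'
  letI : Field (k' ⧸ m) := Ideal.Quotient.field m
  letI : Algebra R (k' ⧸ m) :=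
    ((algebraMap p.ResidueField (k' ⧸ m)).comp (algebraMap R p.ResidueField)).toAlgebra
  haveI : IsScalarTower R p.ResidueField (k' ⧸ m) :=
    IsScalarTower.of_algebraMap_eq (fun _ => rfl)
  refine ⟨k' ⧸ m, inferInstance, inferInstance, ?_, ?_⟩
  · ext r
    rw [RingHom.mem_ker, IsScalarTower.algebraMap_apply R p.ResidueField (k' ⧸ m),
      map_eq_zero_iff _ (algebraMap p.ResidueField (k' ⧸ m)).injective, ← RingHom.mem_ker,
      Ideal.ker_algebraMap_residueField]
  · have h1 : IsDiag (k' ⧸ m) ((k' ⧸ m) ⊗[p.ResidueField] (p.ResidueField ⊗[R] A)) :=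
      Desc.isDiag_of_algHom p.ResidueField (p.ResidueField ⊗[R] A) k' (k' ⧸ m)
        (Ideal.Quotient.mkₐ p.ResidueField m) hD
    exact isDiag_of_equiv (cancelBC R p.ResidueField (k' ⧸ m) A).symm h1

end FieldPoint

section EtalePoint

variable (R : Type u) [CommRing R] (A : Type u) [CommRing A] [HopfAlgebra R A]

/-- Constant type: an étale neighbourhood of a prime over which `A` is diagonalisable. -/
theorem exists_etale_point_diag (hft : Algebra.FiniteType R A) (h : IsMultTypeConst R A)
    (p : Ideal R) [p.IsPrime] :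
    ∃ (C : Type u) (_ : CommRing C) (_ : Algebra R C), Algebra.Etale R C ∧
      (∃ q : Ideal C, q.IsPrime ∧ q.comap (algebraMap R C) = p) ∧ IsDiag C (C ⊗[R] A) := by
  have hmt : IsMultType R A := isMultType_of_isMultTypeConst R A h
  obtain ⟨R', _, _, hff, M, _, ⟨ε⟩⟩ := h
  haveI := hff
  obtain ⟨K, _, _, hker, N, _, ⟨e⟩⟩ := exists_field_point_diag R A hft hmt p
  obtain ⟨φ⟩ := nonempty_mulEquiv_of_ff R' ε K N e
  let e₀ : K ⊗[R] A ≃ₐc[K] MonoidAlgebra K M :=
    e.trans (MonoidAlgebra.domCongrBialgEquiv K K φ)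
  haveI := hft
  have hft' : Algebra.FiniteType K (K ⊗[R] A) := inferInstance
  haveI : Group.FG M :=
    MonoidAlgebra.finiteType_iff_group_fg.mp (Algebra.FiniteType.equiv hft' e₀.toAlgEquiv)
  obtain ⟨C', _, _, het, ⟨f⟩, ⟨E⟩⟩ := HensDiag.exists_etale_nbhd_diag R' ε K e₀
  refine ⟨C', inferInstance, inferInstance, het, ⟨RingHom.ker f, RingHom.ker_isPrime f, ?_⟩,
    ⟨M, inferInstance, ⟨E⟩⟩⟩
  rw [← hker]
  ext r
  rw [Ideal.mem_comap, RingHom.mem_ker, RingHom.mem_ker]
  change f (algebraMap R C' r) = 0 ↔ _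
  rw [f.commutes]

end EtalePoint

section OpenImage

variable (R : Type u) [CommRing R] (A : Type u) [CommRing A] [HopfAlgebra R A]

/-- From an étale neighbourhood of `p` over which `A` is diagonalisable to a basic open
neighbourhood of `p` over which `A` is quasi-isotrivial of constant type. -/
theorem exists_away_of_etale_point (C : Type u) [CommRing C] [Algebra R C] [Algebra.Etale R C]
    (p : Ideal R) [hp : p.IsPrime]
    (hq : ∃ q : Ideal C, q.IsPrime ∧ q.comap (algebraMap R C) = p)
    (hD : IsDiag C (C ⊗[R] A)) :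
    ∃ g : R, g ∉ p ∧
      IsQuasiIsotrivialConst (Localization.Away g) (Localization.Away g ⊗[R] A) := by
  classical
  haveI : Module.Flat R C := inferInstance
  have hopen : IsOpen (Set.range (PrimeSpectrum.comap (algebraMap R C))) :=
    (PrimeSpectrum.isOpenMap_comap_of_hasGoingDown_of_finitePresentation).isOpen_range
  obtain ⟨q, hqp, hqc⟩ := hq
  have hpU : (⟨p, hp⟩ : PrimeSpectrum R) ∈ Set.range (PrimeSpectrum.comap (algebraMap R C)) :=
    ⟨⟨q, hqp⟩, PrimeSpectrum.ext hqc⟩
  obtain ⟨_, ⟨g, rfl⟩, hpg, hgU⟩ :=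
    PrimeSpectrum.isTopologicalBasis_basic_opens.exists_subset_of_mem_open hpU hopen
  refine ⟨g, hpg, Localization.Away g ⊗[R] C, inferInstance, inferInstance, inferInstance,
    ?_, ?_⟩
  · apply Module.FaithfullyFlat.of_comap_surjective
    intro P
    have hP : PrimeSpectrum.comap (algebraMap R (Localization.Away g)) P ∈
        (PrimeSpectrum.basicOpen g : Set (PrimeSpectrum R)) := by
      change g ∉ P.asIdeal.comap (algebraMap R (Localization.Away g))
      intro hg
      rw [Ideal.mem_comap] at hg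
      exact P.isPrime.ne_top (Ideal.eq_top_of_isUnit_mem _ hg
        (IsLocalization.Away.algebraMap_isUnit g))
    obtain ⟨Q, hQ⟩ := hgU hP
    haveI := P.isPrime
    haveI := Q.isPrime
    have hPQ : P.asIdeal.comap (algebraMap R (Localization.Away g)) =
        Q.asIdeal.comap (algebraMap R C) := by
      have := congrArg PrimeSpectrum.asIdeal hQ
      exact this.symm
    obtain ⟨z, hz, hz1, hz2⟩ := HPoints.exists_prime_tensor (R := R) P.asIdeal Q.asIdeal hPQ
    exact ⟨⟨z, hz⟩, PrimeSpectrum.ext hz1⟩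
  · exact isDiag_of_equiv (cancelBC R (Localization.Away g) (Localization.Away g ⊗[R] C) A)
      (Desc.isDiag_of_algHom R A C (Localization.Away g ⊗[R] C)
        Algebra.TensorProduct.includeRight hD)

end OpenImage

section Main

variable (R : Type u) [CommRing R] (A : Type u) [CommRing A] [HopfAlgebra R A]

/-- Local statement: constant type over an étale neighbourhood `R₁` of `p`. -/
theorem exists_away_of_const (hft : Algebra.FiniteType R A) (R₁ : Type u) [CommRing R₁]
    [Algebra R R₁] [Algebra.Etale R R₁] (p : Ideal R) [hp : p.IsPrime] (p₁ : Ideal R₁)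
    [hp₁ : p₁.IsPrime] (hpp : p₁.comap (algebraMap R R₁) = p)
    (h : IsMultTypeConst R₁ (R₁ ⊗[R] A)) :
    ∃ g : R, g ∉ p ∧
      IsQuasiIsotrivialConst (Localization.Away g) (Localization.Away g ⊗[R] A) := by
  haveI := hft
  have hft₁ : Algebra.FiniteType R₁ (R₁ ⊗[R] A) := inferInstance
  obtain ⟨C, _, _, het, ⟨q, hq, hqc⟩, hD⟩ := exists_etale_point_diag R₁ (R₁ ⊗[R] A) hft₁ h p₁
  haveI := het
  letI : Algebra R C := ((algebraMap R₁ C).comp (algebraMap R R₁)).toAlgebra
  haveI : IsScalarTower R R₁ C := IsScalarTower.of_algebraMap_eq (fun _ => rfl)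
  haveI : Algebra.Etale R C := Algebra.Etale.comp R R₁ C
  refine exists_away_of_etale_point R A C p ⟨q, hq, ?_⟩
    (isDiag_of_equiv (cancelBC R R₁ C A).symm hD)
  rw [IsScalarTower.algebraMap_eq R R₁ C, ← Ideal.comap_comap, hqc, hpp]

/-- **SGA3 X 4.5.** A group of multiplicative type and of finite type is quasi-isotrivial. -/
theorem isQuasiIsotrivial_of_finiteType (hft : Algebra.FiniteType R A) (h : IsMultType R A) :
    IsQuasiIsotrivial R A := by
  classical
  obtain ⟨s, hs, hsf⟩ := h
  refine ⟨{g : R | IsQuasiIsotrivialConst (Localization.Away g) (Localization.Away g ⊗[R] A)},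
    ?_, fun g hg => hg⟩
  by_contra hne
  obtain ⟨m, hm, hle⟩ := Ideal.exists_le_maximal _ hne
  haveI hmp : m.IsPrime := hm.isPrime
  have hex : ∃ f ∈ s, f ∉ m := by
    by_contra hcon
    push Not at hcon
    have hsm : Ideal.span s ≤ m := Ideal.span_le.mpr hcon
    rw [hs] at hsm
    exact hm.ne_top (top_le_iff.mp hsm)
  obtain ⟨f, hfs, hfm⟩ := hex
  have hdisj : Disjoint (Submonoid.powers f : Set R) (m : Set R) := by
    rw [Set.disjoint_left]
    rintro _ ⟨k, rfl⟩ hk
    exact hfm (hmp.mem_of_pow_mem k hk)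
  haveI hp₁ : (m.map (algebraMap R (Localization.Away f))).IsPrime :=
    IsLocalization.isPrime_of_isPrime_disjoint (Submonoid.powers f) (Localization.Away f) m
      hmp hdisj
  have hpp : (m.map (algebraMap R (Localization.Away f))).comap
      (algebraMap R (Localization.Away f)) = m :=
    IsLocalization.comap_map_of_isPrime_disjoint (Submonoid.powers f) (Localization.Away f)
      hmp hdisj
  obtain ⟨g, hgm, hg⟩ := exists_away_of_const R A hft (Localization.Away f) m
    (m.map (algebraMap R (Localization.Away f))) hpp (hsf f hfs)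
  exact hgm (hle (Ideal.subset_span hg))

end Main

end Groth.Agent.Lib.Helper25.QIso
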