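import Groth.Agent.Lib.Helper25AdicE
import Groth.Agent.Lib.Helper25QIsoH

/-!
# Tori over a complete base (helper25)

`exists_mulEquiv_of_isTorus`: if `Q ⊗ H ≃ Q[M]` for a faithfully flat `Q` over a nontrivial ring and
`H` is a torus, then `M ≃ ℤ^n`.  `isTorus_of_cover`.
-/

set_option autoImplicit false
set_option linter.unusedSectionVars false
set_option linter.style.haveILetI false
universe u

namespace Groth.Agent.Lib.Helper25.Adic

open TensorProduct SGA3b Groth.Agent.Lib.Helper25 BCB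

section TorusType

variable (R₁ : Type u) [CommRing R₁] [Nontrivial R₁] (H : Type u) [CommRing H] [HopfAlgebra R₁ H]
  {M : Type u} [CommGroup M]

theorem exists_mulEquiv_of_isTorus (Q : Type u) [CommRing Q] [Algebra R₁ Q]
    [Module.FaithfullyFlat R₁ Q] (ε₀ : Q ⊗[R₁] H ≃ₐc[Q] MonoidAlgebra Q M)
    (hT : IsTorus R₁ H) : ∃ n : ℕ, Nonempty (M ≃* Multiplicative (Fin n → ℤ)) := by
  obtain ⟨s, hs, hTs⟩ := hT
  obtain ⟨𝔪, h𝔪⟩ := Ideal.exists_maximal R₁
  haveI := h𝔪.isPrime
  have hex : ∃ f ∈ s, f ∉ 𝔪 := by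
    by_contra hall
    push Not at hall
    have h1 : Ideal.span s ≤ 𝔪 := Ideal.span_le.mpr hall
    rw [hs] at h1
    exact h𝔪.ne_top (top_le_iff.mp h1)
  obtain ⟨f, hfs, hf𝔪⟩ := hex
  haveI : Nontrivial (Localization.Away f) := by
    rw [← not_subsingleton_iff_nontrivial,
      IsLocalization.subsingleton_iff (M := Submonoid.powers f)]
    rintro ⟨n, hn⟩
    apply hf𝔪
    have h2 : f ^ n ∈ 𝔪 := by
      change f ^ n = 0 at hn
      rw [hn]
      exact 𝔪.zero_mem
    exact Ideal.IsPrime.mem_of_pow_mem inferInstance n h2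
  obtain ⟨R', _, _, hff', n, ⟨τ⟩⟩ := hTs f hfs
  haveI := hff'
  haveI : Nontrivial R' := by
    haveI : Nontrivial (Localization.Away f ⊗[Localization.Away f] R') :=
      Module.FaithfullyFlat.rTensor_nontrivial (Localization.Away f) R' (Localization.Away f)
    exact (TensorProduct.lid (Localization.Away f) R').injective.nontrivial
  obtain ⟨y, hy⟩ := Ideal.exists_maximal R'
  letI : Field (R' ⧸ y) := Ideal.Quotient.field y
  letI : Algebra R₁ (R' ⧸ y) :=
    ((algebraMap (Localization.Away f) (R' ⧸ y)).comp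
      (algebraMap R₁ (Localization.Away f))).toAlgebra
  haveI : IsScalarTower R₁ (Localization.Away f) (R' ⧸ y) :=
    IsScalarTower.of_algebraMap_eq (fun _ => rfl)
  let τ' : R' ⊗[Localization.Away f] (Localization.Away f ⊗[R₁] H) ≃ₐc[R']
      MonoidAlgebra R' (ULift.{u} (Multiplicative (Fin n → ℤ))) :=
    τ.trans (MonoidAlgebra.domCongrBialgEquiv (R := R') (A := R') MulEquiv.ulift.symm)
  let e : (R' ⧸ y) ⊗[R₁] H ≃ₐc[R' ⧸ y]
      MonoidAlgebra (R' ⧸ y) (ULift.{u} (Multiplicative (Fin n → ℤ))) :=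
    (cancelBC R₁ (Localization.Away f) (R' ⧸ y) H).symm.trans
      (MTGlue.bcDiag (Localization.Away f) R' (R' ⧸ y) τ')
  obtain ⟨g⟩ := QIso.nonempty_mulEquiv_of_ff Q ε₀ (R' ⧸ y)
    (ULift.{u} (Multiplicative (Fin n → ℤ))) e
  exact ⟨n, ⟨g.symm.trans MulEquiv.ulift⟩⟩

end TorusType

section Cover

variable (A : Type u) [CommRing A] (C : Type u) [CommRing C] [HopfAlgebra A C]

attribute [local instance] Algebra.TensorProduct.rightAlgebra in
theorem isTorus_of_cover (P : Type u) [CommRing P] [Algebra A P] [Module.FaithfullyFlat A P]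
    (n : ℕ) (ε : P ⊗[A] C ≃ₐc[P] MonoidAlgebra P (Multiplicative (Fin n → ℤ))) :
    IsTorus A C := by
  refine ⟨{1}, by simp, ?_⟩
  intro f hf
  rw [Set.mem_singleton_iff] at hf
  subst hf
  refine ⟨Localization.Away (1 : A) ⊗[A] P, inferInstance, inferInstance, inferInstance, n, ?_⟩
  let ε' : P ⊗[A] C ≃ₐc[P] MonoidAlgebra P (ULift.{u} (Multiplicative (Fin n → ℤ))) :=
    ε.trans (MonoidAlgebra.domCongrBialgEquiv (R := P) (A := P) MulEquiv.ulift.symm)
  exact ⟨((cancelBC A (Localization.Away (1 : A)) (Localization.Away (1 : A) ⊗[A] P) C).trans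
    (MTGlue.bcDiag A P (Localization.Away (1 : A) ⊗[A] P) ε')).trans
    (MonoidAlgebra.domCongrBialgEquiv (R := Localization.Away (1 : A) ⊗[A] P)
      (A := Localization.Away (1 : A) ⊗[A] P) MulEquiv.ulift)⟩

theorem isTorus_of_subsingleton [Subsingleton A] : IsTorus A C := by
  refine ⟨∅, ?_, fun f hf => absurd hf (Set.notMem_empty f)⟩
  rw [Ideal.eq_top_iff_one]
  have : (1 : A) = 0 := Subsingleton.elim _ _
  rw [this]
  exact Ideal.zero_mem _

end Cover

end Groth.Agent.Lib.Helper25.Adic
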