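import Groth.Agent.Lib.Helper25FamDesc
import Mathlib.RingTheory.Ideal.GoingDown
import Mathlib.RingTheory.LocalRing.ResidueField.Ideal
import Mathlib.RingTheory.Flat.FaithfullyFlat.Algebra

/-!
# Points of a jointly faithfully flat family over a base with `I ≤ rad` (helper25)

* `exists_prime_tensor`: two primes of `S₁`, `S₂` over the same prime of `R` come from a prime of
  `S₁ ⊗[R] S₂`.
* `exists_points`: for a finite jointly faithfully flat family `Q` of flat `R`-algebras and
  `I ≤ rad R`, every prime `x` of `Q i` is linked, through a prime of `Q i ⊗ Q j`, to a prime `x'`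
  of some `Q j` which specialises to a prime `y ⊇ I Q j`.
-/

set_option autoImplicit false
set_option linter.unusedSectionVars false
set_option linter.style.haveILetI false
universe u

namespace Groth.Agent.Lib.Helper25.HPoints

open TensorProduct Groth.Agent.Lib.Helper25

section Tensor

variable {R S₁ S₂ : Type u} [CommRing R] [CommRing S₁] [CommRing S₂] [Algebra R S₁] [Algebra R S₂]

theorem exists_prime_tensor (x : Ideal S₁) [hx : x.IsPrime] (x' : Ideal S₂) [hx' : x'.IsPrime]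
    (h : x.comap (algebraMap R S₁) = x'.comap (algebraMap R S₂)) :
    ∃ z : Ideal (S₁ ⊗[R] S₂), z.IsPrime ∧
      z.comap (Algebra.TensorProduct.includeLeft : S₁ →ₐ[R] S₁ ⊗[R] S₂).toRingHom = x ∧
      z.comap (Algebra.TensorProduct.includeRight : S₂ →ₐ[R] S₁ ⊗[R] S₂).toRingHom = x' := by
  let p : Ideal R := x.comap (algebraMap R S₁)
  haveI hp : p.IsPrime := Ideal.IsPrime.comap _
  let k := p.ResidueField
  let K₁ := x.ResidueField
  let K₂ := x'.ResidueField
  let f₁ : k →ₐ[R] K₁ := Ideal.ResidueField.mapₐ p x (Algebra.ofId R S₁) rfl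
  let f₂ : k →ₐ[R] K₂ := Ideal.ResidueField.mapₐ p x' (Algebra.ofId R S₂) h
  letI : Algebra k K₁ := f₁.toRingHom.toAlgebra
  letI : Algebra k K₂ := f₂.toRingHom.toAlgebra
  haveI : IsScalarTower R k K₁ := IsScalarTower.of_algebraMap_eq (fun r => (f₁.commutes r).symm)
  haveI : IsScalarTower R k K₂ := IsScalarTower.of_algebraMap_eq (fun r => (f₂.commutes r).symm)
  haveI : Nontrivial (K₁ ⊗[k] K₂) :=
    Algebra.TensorProduct.nontrivial_of_algebraMap_injective_of_flat_left k K₁ K₂
      (algebraMap k K₂).injective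
  haveI : Nontrivial (K₁ ⊗[R] K₂) :=
    (TensorProduct.mapOfCompatibleSMul_surjective k R R K₁ K₂).nontrivial
  obtain ⟨n, hn⟩ := Ideal.exists_maximal (K₁ ⊗[R] K₂)
  haveI := hn.isPrime
  let g : S₁ ⊗[R] S₂ →ₐ[R] K₁ ⊗[R] K₂ :=
    Algebra.TensorProduct.map (IsScalarTower.toAlgHom R S₁ K₁) (IsScalarTower.toAlgHom R S₂ K₂)
  refine ⟨n.comap g.toRingHom, Ideal.IsPrime.comap _, ?_, ?_⟩
  · have h1 : g.toRingHom.comp
        (Algebra.TensorProduct.includeLeft : S₁ →ₐ[R] S₁ ⊗[R] S₂).toRingHom =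
        (Algebra.TensorProduct.includeLeft : K₁ →ₐ[R] K₁ ⊗[R] K₂).toRingHom.comp
          (algebraMap S₁ K₁) := by
      ext s
      simp [g]
    rw [Ideal.comap_comap, h1, ← Ideal.comap_comap]
    have h2 : n.comap (Algebra.TensorProduct.includeLeft : K₁ →ₐ[R] K₁ ⊗[R] K₂).toRingHom = ⊥ :=
      Ideal.eq_bot_of_prime _
    rw [h2, ← RingHom.ker_eq_comap_bot, Ideal.ker_algebraMap_residueField]
  · have h1 : g.toRingHom.comp
        (Algebra.TensorProduct.includeRight : S₂ →ₐ[R] S₁ ⊗[R] S₂).toRingHom =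
        (Algebra.TensorProduct.includeRight : K₂ →ₐ[R] K₁ ⊗[R] K₂).toRingHom.comp
          (algebraMap S₂ K₂) := by
      ext s
      simp [g]
    rw [Ideal.comap_comap, h1, ← Ideal.comap_comap]
    have h2 : n.comap (Algebra.TensorProduct.includeRight : K₂ →ₐ[R] K₁ ⊗[R] K₂).toRingHom = ⊥ :=
      Ideal.eq_bot_of_prime _
    rw [h2, ← RingHom.ker_eq_comap_bot, Ideal.ker_algebraMap_residueField]

end Tensor

section Family

variable {R : Type u} [CommRing R] (I : Ideal R) {ι : Type u} [Fintype ι] [DecidableEq ι]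
  (Q : ι → Type u) [∀ i, CommRing (Q i)] [∀ i, Algebra R (Q i)]

/-- A maximal ideal survives in one member of a jointly faithfully flat family. -/
theorem exists_map_ne_top [Module.FaithfullyFlat R (∀ i, Q i)] (m : Ideal R) [hm : m.IsMaximal] :
    ∃ j, m.map (algebraMap R (Q j)) ≠ ⊤ := by
  by_contra hcon
  push Not at hcon
  apply Module.FaithfullyFlat.submodule_ne_top (R := R) (M := ∀ i, Q i) hm
  rw [eq_top_iff]
  intro s _
  have hs : s = ∑ j, Pi.single j (s j) := by
    ext j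
    simp [Finset.sum_apply]
  rw [hs]
  refine Submodule.sum_mem _ (fun j _ => ?_)
  have h1 : s j ∈ m • (⊤ : Submodule R (Q j)) := by
    rw [Ideal.smul_top_eq_map, hcon j]
    trivial
  have h2 := Submodule.mem_map_of_mem (f := LinearMap.single R Q j) h1
  rw [Submodule.map_smul''] at h2
  exact Submodule.smul_mono le_rfl le_top h2

theorem exists_points (hI : I ≤ Ideal.jacobson ⊥) [∀ i, Module.Flat R (Q i)]
    [Module.FaithfullyFlat R (∀ i, Q i)] (i : ι) (x : Ideal (Q i)) [hx : x.IsPrime] :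
    ∃ (j : ι) (y x' : Ideal (Q j)) (_ : y.IsPrime) (_ : x'.IsPrime)
      (z : Ideal (Q i ⊗[R] Q j)) (_ : z.IsPrime),
      I.map (algebraMap R (Q j)) ≤ y ∧ x' ≤ y ∧
      z.comap (Algebra.TensorProduct.includeLeft : Q i →ₐ[R] Q i ⊗[R] Q j).toRingHom = x ∧
      z.comap (Algebra.TensorProduct.includeRight : Q j →ₐ[R] Q i ⊗[R] Q j).toRingHom = x' := by
  let p : Ideal R := x.comap (algebraMap R (Q i))
  haveI hp : p.IsPrime := Ideal.IsPrime.comap _
  obtain ⟨m, hm, hpm⟩ := Ideal.exists_le_maximal p hp.ne_top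
  haveI := hm
  have hIm : I ≤ m := hI.trans (sInf_le ⟨bot_le, hm⟩)
  obtain ⟨j, hj⟩ := exists_map_ne_top Q m
  obtain ⟨y, hy, hmy⟩ := Ideal.exists_le_maximal _ hj
  haveI hyp : y.IsPrime := hy.isPrime
  have hym : y.comap (algebraMap R (Q j)) = m := by
    symm
    apply hm.eq_of_le (Ideal.IsPrime.comap _).ne_top
    exact Ideal.map_le_iff_le_comap.mp hmy
  haveI : y.LiesOver m := ⟨hym.symm⟩
  obtain ⟨x', hx'y, hx'p, hx'over⟩ :=
    Ideal.exists_ideal_le_liesOver_of_le (p := p) (q := m) y hpm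
  haveI := hx'p
  have hcomap : x.comap (algebraMap R (Q i)) = x'.comap (algebraMap R (Q j)) :=
    hx'over.over
  obtain ⟨z, hz, hzl, hzr⟩ := exists_prime_tensor x x' hcomap
  exact ⟨j, y, x', hyp, hx'p, z, hz, (Ideal.map_mono hIm).trans hmy, hx'y, hzl, hzr⟩

end Family

end Groth.Agent.Lib.Helper25.HPoints
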