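import Mathlib
import Groth.Prelude.Def_SGA3b
import Groth.Agent.Lib.Helper6ReducedSmooth

/-!
# Torsion subgroups of groups of multiplicative type (helper25)

* `map_powConv`, `map_mem_torsionIdeal`, `powConv_groupLike`, `powConv_baseChange`,
  `one_tmul_mem_torsionIdeal`: functoriality and base change of the power maps `SGA3b.powConv` and of
  the torsion ideals `SGA3b.torsionIdeal`.
* `powSub`, `quotMap`, `torsionIdeal_le_ker_quotMap`, `eq_zero_of_mem_torsionIdeal_of_injOn`: the
  torsion ideals of a group algebra.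
* `exists_good_not_mem_powSub`, `exists_good_injOn`: finitely generated commutative groups without
  `p`-torsion are residually (finite of order prime to `p`).
* `iInf_torsionIdeal_monoidAlgebra_eq_bot`, `iInf_torsionIdeal_eq_bot_of_smooth`: density of the
  torsion prime to the characteristic in a smooth group of multiplicative type over a field.
-/

set_option autoImplicit false
set_option linter.style.haveILetI false
universe u v

namespace Groth.Agent.Lib.Helper25.Tors


open TensorProduct WithConv SGA3b Coalgebra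

section Basic

variable {R : Type u} [CommRing R] {A : Type u} [CommRing A] [HopfAlgebra R A]
  {B : Type u} [CommRing B] [HopfAlgebra R B]

omit [HopfAlgebra R A] in
theorem comp_convPow [Bialgebra R A] {C : Type*} [CommRing C] [Algebra R C] {D : Type*} [CommRing D]
    [Algebra R D] (h : C →ₐ[R] D)
    (f : WithConv (A →ₐ[R] C)) (n : ℕ) :
    h.comp (f ^ n).ofConv = ofConv ((toConv (h.comp f.ofConv)) ^ n) := by
  induction n with
  | zero =>
    rw [pow_zero, pow_zero]
    ext a
    simp [AlgHom.convOne_apply]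
  | succ n ih =>
    rw [pow_succ, AlgHom.comp_convMul_distrib, ih, pow_succ]

omit [HopfAlgebra R A] [HopfAlgebra R B] in
theorem convPow_comp [Bialgebra R A] [Bialgebra R B] {C : Type*} [CommRing C] [Algebra R C]
    (f : WithConv (B →ₐ[R] C)) (h : A →ₐc[R] B) (n : ℕ) :
    (f ^ n).ofConv.comp (h : A →ₐ[R] B) = ofConv ((toConv (f.ofConv.comp (h : A →ₐ[R] B))) ^ n) := by
  induction n with
  | zero =>
    rw [pow_zero, pow_zero]
    ext a
    simp [AlgHom.convOne_apply]
  | succ n ih =>
    rw [pow_succ, AlgHom.convMul_comp_bialgHom_distrib, ih, pow_succ]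

/-- Bialgebra maps commute with the power maps. -/
theorem map_powConv (f : A →ₐc[R] B) (n : ℕ) (a : A) :
    f (powConv R A n a) = powConv R B n (f a) := by
  have h1 := comp_convPow (f : A →ₐ[R] B) (toConv (AlgHom.id R A)) n
  have h2 := convPow_comp (toConv (AlgHom.id R B)) f n
  have h3 : (f : A →ₐ[R] B).comp (powConv R A n) = (powConv R B n).comp (f : A →ₐ[R] B) := by
    unfold powConv
    rw [h1, h2]
    rfl
  exact AlgHom.congr_fun h3 a

theorem map_torsionIdeal_le (f : A →ₐc[R] B) (n : ℕ) :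
    (torsionIdeal R A n).map (f : A →+* B) ≤ torsionIdeal R B n := by
  unfold torsionIdeal
  rw [Ideal.map_le_iff_le_comap, Ideal.map_le_iff_le_comap]
  intro a ha
  rw [Ideal.mem_comap, Ideal.mem_comap]
  have h1 : f a ∈ RingHom.ker (Bialgebra.counitAlgHom R B) := by
    rw [RingHom.mem_ker] at ha ⊢
    have : Bialgebra.counitAlgHom R B (f a) = Bialgebra.counitAlgHom R A a := by
      change counit (R := R) (f a) = counit (R := R) a
      exact CoalgHomClass.counit_comp_apply f a
    rw [this, ha]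
  have h2 := Ideal.mem_map_of_mem (powConv R B n) h1
  have h3 : (f : A →+* B) (powConv R A n a) = powConv R B n (f a) := map_powConv f n a
  rw [h3]
  exact h2

theorem map_mem_torsionIdeal (f : A →ₐc[R] B) (n : ℕ) {a : A} (ha : a ∈ torsionIdeal R A n) :
    f a ∈ torsionIdeal R B n := by
  have hle : torsionIdeal R A n ≤ (torsionIdeal R B n).comap (f : A →ₐ[R] B) := by
    unfold torsionIdeal
    rw [Ideal.map_le_iff_le_comap]
    intro x hx
    rw [Ideal.mem_comap, Ideal.mem_comap]
    have h1 : f x ∈ RingHom.ker (Bialgebra.counitAlgHom R B) := by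
      rw [RingHom.mem_ker] at hx ⊢
      have : Bialgebra.counitAlgHom R B (f x) = Bialgebra.counitAlgHom R A x := by
        change counit (R := R) (f x) = counit (R := R) x
        exact CoalgHomClass.counit_comp_apply f x
      rw [this, hx]
    have h2 := Ideal.mem_map_of_mem (powConv R B n) h1
    have h3 : (f : A →ₐ[R] B) (powConv R A n x) = powConv R B n (f x) := map_powConv f n x
    rw [h3]
    exact h2
  exact hle ha

/-- The power map on a group-like element. -/
theorem powConv_groupLike (n : ℕ) {g : A} (hg : comul (R := R) g = g ⊗ₜ[R] g)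
    (hε : counit (R := R) g = 1) :
    powConv R A n g = g ^ n := by
  unfold powConv
  induction n with
  | zero =>
    rw [pow_zero, pow_zero]
    change algebraMap R A (counit (R := R) g) = 1
    rw [hε, map_one]
  | succ n ih =>
    rw [pow_succ, pow_succ]
    change ((toConv (AlgHom.id R A) ^ n) * toConv (AlgHom.id R A)) g = _
    rw [AlgHom.convMul_apply, hg, Algebra.TensorProduct.lift_tmul]
    change (toConv (AlgHom.id R A) ^ n).ofConv g * g = _
    rw [ih]

end Basic



open TensorProduct WithConv SGA3b Coalgebra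

section BC

variable {R : Type u} [CommRing R] {A : Type u} [CommRing A] [HopfAlgebra R A]
  (T : Type u) [CommRing T] [Algebra R T]

/-- Base change of the power maps (after helper6's `powConv_baseChange`). -/
theorem powConv_baseChange (n : ℕ) (t : T) (a : A) :
    powConv T (T ⊗[R] A) n (t ⊗ₜ[R] a) = t ⊗ₜ[R] powConv R A n a := by
  unfold powConv
  induction n generalizing t a with
  | zero =>
    rw [pow_zero, pow_zero]
    change algebraMap T (T ⊗[R] A) (counit (R := T) (t ⊗ₜ[R] a)) =
      t ⊗ₜ[R] algebraMap R A (counit (R := R) a)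
    rw [TensorProduct.counit_tmul, Algebra.TensorProduct.algebraMap_apply,
      Algebra.algebraMap_eq_smul_one (counit (R := R) a), TensorProduct.tmul_smul]
    simp [CommSemiring.counit_apply, TensorProduct.smul_tmul']
  | succ n ih =>
    rw [pow_succ, pow_succ]
    change ((toConv (AlgHom.id T (T ⊗[R] A)) ^ n) * toConv (AlgHom.id T (T ⊗[R] A))) (t ⊗ₜ[R] a) =
      t ⊗ₜ[R] ((toConv (AlgHom.id R A) ^ n) * toConv (AlgHom.id R A)) a
    rw [AlgHom.convMul_apply, AlgHom.convMul_apply, TensorProduct.comul_tmul,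
      ← (ℛ R a).eq]
    simp only [CommSemiring.comul_apply, TensorProduct.tmul_sum, map_sum]
    refine Finset.sum_congr rfl (fun i _ => ?_)
    simp only [AlgebraTensorModule.tensorTensorTensorComm_tmul, Algebra.TensorProduct.lift_tmul,
      AlgHom.id_apply]
    change (toConv (AlgHom.id T (T ⊗[R] A)) ^ n).ofConv ((1 : T) ⊗ₜ[R] (ℛ R a).left i) * _ = _
    rw [ih, Algebra.TensorProduct.tmul_mul_tmul, one_mul]

theorem one_tmul_mem_torsionIdeal (n : ℕ) {a : A} (ha : a ∈ torsionIdeal R A n) :
    (1 : T) ⊗ₜ[R] a ∈ torsionIdeal T (T ⊗[R] A) n := by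
  have hle : torsionIdeal R A n ≤ (torsionIdeal T (T ⊗[R] A) n).comap
      (Algebra.TensorProduct.includeRight : A →ₐ[R] T ⊗[R] A) := by
    unfold torsionIdeal
    rw [Ideal.map_le_iff_le_comap]
    intro x hx
    rw [Ideal.mem_comap, Ideal.mem_comap]
    change (1 : T) ⊗ₜ[R] (powConv R A n x) ∈ _
    rw [← powConv_baseChange]
    apply Ideal.mem_map_of_mem
    rw [RingHom.mem_ker] at hx ⊢
    change counit (R := T) ((1 : T) ⊗ₜ[R] x) = 0
    have hx' : counit (R := R) x = 0 := hx
    rw [TensorProduct.counit_tmul, hx', zero_smul]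
  exact hle ha

end BC

section GroupAlg

variable (R : Type u) [CommRing R] (M : Type u) [CommGroup M]

/-- The subgroup of `n`-th powers. -/
def powSub (n : ℕ) : Subgroup M := (powMonoidHom n : M →* M).range

theorem powSub_mul_le (n n' : ℕ) : powSub M (n * n') ≤ powSub M n := by
  rintro _ ⟨x, rfl⟩
  refine ⟨x ^ n', ?_⟩
  change (x ^ n') ^ n = x ^ (n * n')
  rw [← pow_mul, mul_comm]

/-- The map `R[M] → R[M/Mⁿ]`. -/
noncomputable def quotMap (n : ℕ) :
    MonoidAlgebra R M →ₐc[R] MonoidAlgebra R (M ⧸ powSub M n) :=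
  MonoidAlgebra.mapDomainBialgHom R (QuotientGroup.mk' (powSub M n))

theorem powConv_eq_counit_of_pow_eq_one {N : Type u} [CommGroup N] (n : ℕ)
    (hN : ∀ q : N, q ^ n = 1) (y : MonoidAlgebra R N) :
    powConv R (MonoidAlgebra R N) n y = algebraMap R _ (counit (R := R) y) := by
  induction y using MonoidAlgebra.induction_linear with
  | zero => simp
  | add f g hf hg => rw [map_add, map_add, map_add, hf, hg]
  | single q r =>
    have h1 : MonoidAlgebra.single q r = r • MonoidAlgebra.of R N q := by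
      rw [MonoidAlgebra.of_apply, MonoidAlgebra.smul_single, smul_eq_mul, mul_one]
    have hgl : IsGroupLikeElem R (MonoidAlgebra.of R N q) := MonoidAlgebra.isGroupLikeElem_of q
    rw [h1, map_smul, map_smul, powConv_groupLike n hgl.comul_eq_tmul_self hgl.counit_eq_one,
      hgl.counit_eq_one, ← map_pow, hN q, map_one, smul_eq_mul, mul_one,
      Algebra.algebraMap_eq_smul_one]

theorem torsionIdeal_le_ker_quotMap (n : ℕ) :
    torsionIdeal R (MonoidAlgebra R M) n ≤ RingHom.ker (quotMap R M n) := by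
  unfold torsionIdeal
  rw [Ideal.map_le_iff_le_comap]
  intro x hx
  rw [Ideal.mem_comap, RingHom.mem_ker, map_powConv,
    powConv_eq_counit_of_pow_eq_one R n]
  · rw [RingHom.mem_ker] at hx
    have hx' : counit (R := R) x = 0 := hx
    rw [CoalgHomClass.counit_comp_apply, hx', map_zero]
  · intro q
    obtain ⟨m, rfl⟩ := QuotientGroup.mk_surjective q
    rw [← QuotientGroup.mk_pow, QuotientGroup.eq_one_iff]
    exact ⟨m, rfl⟩

/-- If the `n`-th power classes separate the support of `x` and `x` lies in the `n`-torsion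
ideal, then `x = 0`. -/
theorem eq_zero_of_mem_torsionIdeal_of_injOn (n : ℕ) (x : MonoidAlgebra R M)
    (hx : x ∈ torsionIdeal R (MonoidAlgebra R M) n)
    (hinj : Set.InjOn (QuotientGroup.mk' (powSub M n)) (x.coeff.support : Set M)) : x = 0 := by
  have h1 : quotMap R M n x = 0 := torsionIdeal_le_ker_quotMap R M n hx
  have h2 := Finsupp.mapDomain_injOn (M := R) (x.coeff.support : Set M) hinj
  have h3 : Finsupp.mapDomain (QuotientGroup.mk' (powSub M n)) x.coeff =
      Finsupp.mapDomain (QuotientGroup.mk' (powSub M n)) (0 : M →₀ R) := by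
    rw [Finsupp.mapDomain_zero]
    exact congrArg MonoidAlgebra.coeff h1
  have h4 := h2 (by simp) (by simp) h3
  exact MonoidAlgebra.coeff_injective h4

end GroupAlg



section GroupTheory

variable {M : Type u} [CommGroup M]

/-- The admissible exponents: positive and prime to `p`. -/
def Good (p n : ℕ) : Prop := 0 < n ∧ ¬ p ∣ n

theorem Good.mul {p n n' : ℕ} (hp : p = 0 ∨ p.Prime) (h : Good p n) (h' : Good p n') :
    Good p (n * n') := by
  refine ⟨Nat.mul_pos h.1 h'.1, ?_⟩
  rcases hp with rfl | hp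
  · intro h0
    rw [zero_dvd_iff] at h0
    rcases Nat.mul_eq_zero.mp h0 with h1 | h1
    · exact (Nat.pos_iff_ne_zero.mp h.1) h1
    · exact (Nat.pos_iff_ne_zero.mp h'.1) h1
  · intro h0
    rcases (Nat.Prime.dvd_mul hp).mp h0 with h1 | h1
    · exact h.2 h1
    · exact h'.2 h1

theorem good_one {p : ℕ} (hp : p = 0 ∨ p.Prime) : Good p 1 := by
  refine ⟨Nat.one_pos, ?_⟩
  rcases hp with rfl | hp
  · simp
  · exact Nat.Prime.not_dvd_one hp

theorem good_prime_of_lt {p l : ℕ} (hp : p = 0 ∨ p.Prime) (hl : l.Prime) (hlt : p < l) :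
    Good p l := by
  refine ⟨hl.pos, ?_⟩
  intro h
  rcases hp with rfl | hp
  · rw [zero_dvd_iff] at h
    exact hl.ne_zero h
  · rcases (Nat.dvd_prime hl).mp h with h1 | h1
    · exact hp.ne_one h1
    · omega

/-- In a finitely generated commutative group without `p`-torsion, every nontrivial element
is a non-`n`-th power for some admissible `n`. -/
theorem exists_good_not_mem_powSub [Group.FG M] {p : ℕ} (hp : p = 0 ∨ p.Prime)
    (htors : p ≠ 0 → ∀ m : M, m ^ p = 1 → m = 1) (m : M) (hm : m ≠ 1) :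
    ∃ n, Good p n ∧ m ∉ powSub M n := by
  classical
  obtain ⟨ι, j, _, _, q, hq, e, ⟨φ⟩⟩ := CommGroup.equiv_free_prod_prod_multiplicative_zmod M
  have hφm : φ m ≠ 1 := by
    intro h
    exact hm (by simpa using congrArg φ.symm h)
  by_cases hv : (φ m).1 = 1
  · -- torsion part
    have ht : (φ m).2 ≠ 1 := by
      intro h
      exact hφm (Prod.ext hv h)
    obtain ⟨i₀, hi₀⟩ : ∃ i₀, (φ m).2 i₀ ≠ 1 := by
      by_contra hall
      push Not at hall
      exact ht (funext hall)
    have he : e i₀ ≠ 0 := by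
      intro h0
      apply hi₀
      have : Subsingleton (Multiplicative (ZMod (q i₀ ^ e i₀))) := by
        rw [h0, pow_zero]
        infer_instance
      exact Subsingleton.elim _ _
    refine ⟨q i₀ ^ e i₀, ⟨pow_pos (hq i₀).pos _, ?_⟩, ?_⟩
    · intro hdvd
      rcases hp with rfl | hp
      · rw [zero_dvd_iff] at hdvd
        exact (pow_pos (hq i₀).pos _).ne' hdvd
      · have hpq : p = q i₀ := (Nat.prime_dvd_prime_iff_eq hp (hq i₀)).mp (hp.dvd_of_dvd_pow hdvd)
        -- an element of order `p`
        let w : (i : ι) → Multiplicative (ZMod (q i ^ e i)) :=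
          Pi.mulSingle i₀ (Multiplicative.ofAdd ((q i₀ ^ (e i₀ - 1) : ℕ) : ZMod (q i₀ ^ e i₀)))
        let y : M := φ.symm (1, w)
        have hyp : y ^ p = 1 := by
          apply φ.injective
          rw [map_pow, map_one]
          change (φ (φ.symm (1, w))) ^ p = 1
          rw [MulEquiv.apply_symm_apply]
          refine Prod.ext (by simp) ?_
          change w ^ p = 1
          rw [← Pi.mulSingle_pow, ← ofAdd_nsmul, hpq, nsmul_eq_mul, ← Nat.cast_mul,
            ← pow_succ', Nat.sub_add_cancel (Nat.pos_of_ne_zero he), ZMod.natCast_self,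
            ofAdd_zero, Pi.mulSingle_one]
        have hy1 : y = 1 := htors hp.ne_zero y hyp
        have hw : w = 1 := by
          have := congrArg φ hy1
          rw [map_one] at this
          change φ (φ.symm (1, w)) = 1 at this
          rw [MulEquiv.apply_symm_apply] at this
          exact (Prod.ext_iff.mp this).2
        have hw0 := congrFun hw i₀
        change Pi.mulSingle i₀ _ i₀ = 1 at hw0
        rw [Pi.mulSingle_eq_same] at hw0
        have hz : ((q i₀ ^ (e i₀ - 1) : ℕ) : ZMod (q i₀ ^ e i₀)) = 0 := by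
          have := congrArg Multiplicative.toAdd hw0
          simpa using this
        rw [ZMod.natCast_eq_zero_iff] at hz
        have hlt : q i₀ ^ (e i₀ - 1) < q i₀ ^ e i₀ :=
          Nat.pow_lt_pow_right (hq i₀).one_lt (Nat.sub_lt (Nat.pos_of_ne_zero he) Nat.one_pos)
        exact absurd (Nat.le_of_dvd (pow_pos (hq i₀).pos _) hz) (not_le.mpr hlt)
    · rintro ⟨x, hx⟩
      apply hi₀
      have h1 : φ m = (φ x) ^ (q i₀ ^ e i₀) := by
        rw [← map_pow]
        exact congrArg φ hx.symm
      have h2 : (φ m).2 i₀ = ((φ x).2 i₀) ^ (q i₀ ^ e i₀) := by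
        rw [h1]
        rfl
      rw [h2]
      have h3 : ∀ z : Multiplicative (ZMod (q i₀ ^ e i₀)), z ^ (q i₀ ^ e i₀) = 1 := by
        intro z
        have : (q i₀ ^ e i₀) • (Multiplicative.toAdd z) = 0 := by
          rw [nsmul_eq_mul, ZMod.natCast_self, zero_mul]
        exact congrArg Multiplicative.ofAdd this
      exact h3 _
  · -- free part
    obtain ⟨j₀, hj₀⟩ : ∃ j₀, (φ m).1 j₀ ≠ 1 := by
      by_contra hall
      push Not at hall
      exact hv (funext hall)
    set z : ℤ := Multiplicative.toAdd ((φ m).1 j₀) with hz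
    have hz0 : z ≠ 0 := by
      intro h0
      apply hj₀
      have : Multiplicative.ofAdd z = Multiplicative.ofAdd (0 : ℤ) := by rw [h0]
      simpa [hz] using this
    obtain ⟨l, hl1, hl⟩ := Nat.exists_infinite_primes (max z.natAbs p + 1)
    have hlp : p < l := by
      have := le_max_right z.natAbs p
      omega
    have hlz : z.natAbs < l := by
      have := le_max_left z.natAbs p
      omega
    refine ⟨l, good_prime_of_lt hp hl hlp, ?_⟩
    rintro ⟨x, hx⟩
    have h1 : φ m = (φ x) ^ l := by
      rw [← map_pow]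
      exact congrArg φ hx.symm
    have h2 : (φ m).1 j₀ = ((φ x).1 j₀) ^ l := by
      rw [h1]
      rfl
    have h3 : z = l • Multiplicative.toAdd ((φ x).1 j₀) := by
      rw [hz, h2]
      rfl
    have h4 : (l : ℤ) ∣ z := ⟨_, by rw [h3, nsmul_eq_mul]⟩
    have h5 : l ∣ z.natAbs := Int.natCast_dvd.mp h4
    have h6 := Nat.le_of_dvd (Int.natAbs_pos.mpr hz0) h5
    omega

/-- Admissible exponents separating a finite set. -/
theorem exists_good_injOn [Group.FG M] {p : ℕ} (hp : p = 0 ∨ p.Prime)
    (htors : p ≠ 0 → ∀ m : M, m ^ p = 1 → m = 1) (F : Finset M) :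
    ∃ n, Good p n ∧ Set.InjOn (QuotientGroup.mk' (powSub M n)) (F : Set M) := by
  classical
  -- one exponent for every nontrivial element
  have key : ∀ m : M, ∃ n, Good p n ∧ (m ≠ 1 → m ∉ powSub M n) := by
    intro m
    by_cases hm : m = 1
    · exact ⟨1, good_one hp, fun h => absurd hm h⟩
    · obtain ⟨n, hn, hmn⟩ := exists_good_not_mem_powSub hp htors m hm
      exact ⟨n, hn, fun _ => hmn⟩
  choose ν hν1 hν2 using key
  let P : Finset (M × M) := F ×ˢ F
  let n : ℕ := ∏ ab ∈ P, ν (ab.1 / ab.2)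
  have hn : Good p n := by
    apply Finset.prod_induction _ (Good p)
    · intro a b ha hb
      exact ha.mul hp hb
    · exact good_one hp
    · intro ab _
      exact hν1 _
  refine ⟨n, hn, ?_⟩
  intro a ha b hb hab
  by_contra hne
  have h1 : a / b ≠ 1 := by
    intro h
    exact hne (div_eq_one.mp h)
  have h2 := hν2 (a / b) h1
  have h3 : a / b ∈ powSub M n := by
    have := (QuotientGroup.eq (s := powSub M n)).mp hab
    have h4 : a / b = (a⁻¹ * b)⁻¹ := by
      rw [mul_inv_rev, inv_inv, div_eq_mul_inv, mul_comm]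
    rw [h4]
    exact (powSub M n).inv_mem this
  have hmem : (a, b) ∈ P := Finset.mem_product.mpr ⟨ha, hb⟩
  have h5 : n = ν (a / b) * ∏ ab ∈ P.erase (a, b), ν (ab.1 / ab.2) := by
    change ∏ ab ∈ P, ν (ab.1 / ab.2) = _
    rw [← Finset.mul_prod_erase P _ hmem]
  rw [h5] at h3
  exact h2 (powSub_mul_le M _ _ h3)

end GroupTheory



open TensorProduct SGA3b

section GroupAlgFinal

theorem iInf_torsionIdeal_monoidAlgebra_eq_bot (R : Type u) [CommRing R] (M : Type u) [CommGroup M]
    [Group.FG M] {p : ℕ} (hp : p = 0 ∨ p.Prime)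
    (htors : p ≠ 0 → ∀ m : M, m ^ p = 1 → m = 1) :
    ⨅ n : {n : ℕ // 0 < n ∧ ¬ p ∣ n}, torsionIdeal R (MonoidAlgebra R M) n.1 = ⊥ := by
  rw [eq_bot_iff]
  intro x hx
  rw [Ideal.mem_bot]
  obtain ⟨n, hn, hinj⟩ := exists_good_injOn hp htors x.coeff.support
  have hxn : x ∈ torsionIdeal R (MonoidAlgebra R M) n :=
    (Ideal.mem_iInf.mp hx) ⟨n, hn⟩
  exact eq_zero_of_mem_torsionIdeal_of_injOn R M n x hxn hinj

theorem eq_one_of_pow_char_eq_one (K : Type u) [Field K] (M : Type u) [CommGroup M] (p : ℕ)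
    [hp : Fact p.Prime] [CharP K p] [IsReduced (MonoidAlgebra K M)] (m : M) (hm : m ^ p = 1) :
    m = 1 := by
  haveI : CharP (MonoidAlgebra K M) p :=
    charP_of_injective_algebraMap (algebraMap K (MonoidAlgebra K M)).injective p
  have h1 : (MonoidAlgebra.of K M m - 1) ^ p = 0 := by
    rw [sub_pow_char, one_pow, ← map_pow, hm, map_one, sub_self]
  have h2 : MonoidAlgebra.of K M m - 1 = 0 := IsReduced.eq_zero _ ⟨p, h1⟩
  have h3 : MonoidAlgebra.of K M m = MonoidAlgebra.of K M 1 := by
    rw [map_one]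
    exact sub_eq_zero.mp h2
  exact MonoidAlgebra.of_injective h3

end GroupAlgFinal



open TensorProduct SGA3b

section Main

theorem exists_ne_zero_of_span_eq_top {k : Type u} [Field k] (s : Set k) (hs : Ideal.span s = ⊤) :
    ∃ f ∈ s, f ≠ 0 := by
  by_contra hall
  push Not at hall
  have h1 : Ideal.span s ≤ ⊥ := Ideal.span_le.mpr (fun x hx => by
    rw [hall x hx]
    exact Ideal.zero_mem _)
  rw [hs] at h1
  exact top_ne_bot (eq_bot_iff.mpr h1)

theorem nontrivial_away {k : Type u} [Field k] {f : k} (hf : f ≠ 0) :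
    Nontrivial (Localization.Away f) := by
  have hinj : Function.Injective (algebraMap k (Localization.Away f)) :=
    IsLocalization.injective (Localization.Away f) (M := Submonoid.powers f)
      (powers_le_nonZeroDivisors_of_noZeroDivisors hf)
  exact hinj.nontrivial

theorem iInf_torsionIdeal_eq_bot_of_smooth (k A : Type u) [Field k] [CommRing A] [HopfAlgebra k A]
    [Algebra.FiniteType k A] [Algebra.FormallySmooth k A] (h : IsMultType k A) :
    ⨅ n : {n : ℕ // 0 < n ∧ ¬ ringChar k ∣ n}, torsionIdeal k A n.1 = ⊥ := by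
  classical
  obtain ⟨s, hs, hmt⟩ := h
  obtain ⟨f, hfs, hf0⟩ := exists_ne_zero_of_span_eq_top s hs
  obtain ⟨R', instR', instAlg, hff, M, instM, ⟨e⟩⟩ := hmt f hfs
  haveI := hff
  haveI : Nontrivial (Localization.Away f) := nontrivial_away hf0
  haveI : Nontrivial R' :=
    (FaithfulSMul.algebraMap_injective (Localization.Away f) R').nontrivial
  -- `M` is finitely generated
  haveI hMfg : Group.FG M := by
    haveI h1 : Algebra.FiniteType R' (R' ⊗[Localization.Away f] (Localization.Away f ⊗[k] A)) :=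
      inferInstance
    haveI h2 : Algebra.FiniteType R' (MonoidAlgebra R' M) :=
      Algebra.FiniteType.equiv h1 e.toAlgEquiv
    exact MonoidAlgebra.finiteType_iff_group_fg.mp h2
  have hp : ringChar k = 0 ∨ (ringChar k).Prime :=
    (CharP.char_is_prime_or_zero k (ringChar k)).symm
  -- `M` has no `p`-torsion
  have htors : ringChar k ≠ 0 → ∀ m : M, m ^ ringChar k = 1 → m = 1 := by
    intro hp0 m hm
    have hpp : (ringChar k).Prime := hp.resolve_left hp0
    haveI : Fact (ringChar k).Prime := ⟨hpp⟩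
    obtain ⟨𝔪, h𝔪⟩ := Ideal.exists_maximal R'
    letI : Field (R' ⧸ 𝔪) := Ideal.Quotient.field 𝔪
    let φ : k →+* (R' ⧸ 𝔪) := (Ideal.Quotient.mk 𝔪).comp
      ((algebraMap (Localization.Away f) R').comp (algebraMap k (Localization.Away f)))
    haveI : CharP (R' ⧸ 𝔪) (ringChar k) := charP_of_injective_ringHom φ.injective (ringChar k)
    haveI h1 : Algebra.FormallySmooth R'
        (R' ⊗[Localization.Away f] (Localization.Away f ⊗[k] A)) := inferInstance
    haveI h3 : Algebra.FormallySmooth R' (MonoidAlgebra R' M) :=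
      Algebra.FormallySmooth.of_equiv e.toAlgEquiv
    haveI h4 : Algebra.FormallySmooth (R' ⧸ 𝔪) ((R' ⧸ 𝔪) ⊗[R'] MonoidAlgebra R' M) :=
      inferInstance
    haveI h5 : Algebra.FormallySmooth (R' ⧸ 𝔪) (MonoidAlgebra (R' ⧸ 𝔪) M) :=
      Algebra.FormallySmooth.of_equiv (MonoidAlgebra.scalarTensorEquiv R' (R' ⧸ 𝔪))
    haveI h6 : Algebra.FiniteType (R' ⧸ 𝔪) (MonoidAlgebra (R' ⧸ 𝔪) M) := inferInstance
    haveI h7 : Algebra.FinitePresentation (R' ⧸ 𝔪) (MonoidAlgebra (R' ⧸ 𝔪) M) :=
      Algebra.FinitePresentation.of_finiteType.mp h6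
    haveI h8 : Algebra.Smooth (R' ⧸ 𝔪) (MonoidAlgebra (R' ⧸ 𝔪) M) := ⟨h5, h7⟩
    haveI : IsReduced (MonoidAlgebra (R' ⧸ 𝔪) M) :=
      Groth.Agent.Lib.Helper6.isReduced_of_smooth (R' ⧸ 𝔪) _
    exact eq_one_of_pow_char_eq_one (R' ⧸ 𝔪) M (ringChar k) m hm
  -- conclusion
  rw [eq_bot_iff]
  intro a ha
  rw [Ideal.mem_bot]
  have ha' : ∀ n : {n : ℕ // 0 < n ∧ ¬ ringChar k ∣ n}, a ∈ torsionIdeal k A n.1 :=
    fun n => Ideal.mem_iInf.mp ha n
  have h3 : e ((1 : R') ⊗ₜ[Localization.Away f] ((1 : Localization.Away f) ⊗ₜ[k] a)) ∈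
      ⨅ n : {n : ℕ // 0 < n ∧ ¬ ringChar k ∣ n}, torsionIdeal R' (MonoidAlgebra R' M) n.1 := by
    rw [Ideal.mem_iInf]
    intro n
    have h1 := one_tmul_mem_torsionIdeal R' n.1
      (one_tmul_mem_torsionIdeal (Localization.Away f) n.1 (ha' n))
    exact map_mem_torsionIdeal e.toBialgHom n.1 h1
  rw [iInf_torsionIdeal_monoidAlgebra_eq_bot R' M hp htors, Ideal.mem_bot] at h3
  have h2 : (1 : R') ⊗ₜ[Localization.Away f] ((1 : Localization.Away f) ⊗ₜ[k] a) = 0 :=
    (EmbeddingLike.map_eq_zero_iff (f := e)).mp h3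
  have h1 : (1 : Localization.Away f) ⊗ₜ[k] a = 0 := by
    apply Module.FaithfullyFlat.tensorProduct_mk_injective (A := Localization.Away f) (B := R')
      (Localization.Away f ⊗[k] A)
    rw [TensorProduct.mk_apply, h2, map_zero]
  apply Module.Flat.tensorProduct_mk_injective k A (Localization.Away f)
  rw [TensorProduct.mk_apply, h1, map_zero]

end Main


end Groth.Agent.Lib.Helper25.Tors
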