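import Mathlib
import Groth.Prelude.Def_SGA3b
import Groth.Agent.Lib.Helper25Torsion

/-!
# Density of torsion in group algebras: field case and coefficient ideals (helper25)
-/

set_option autoImplicit false
set_option linter.style.haveILetI false
set_option linter.unusedSectionVars false
universe u

namespace Groth.Agent.Lib.Helper25.TorsDense

open Groth.Agent.Lib.Helper25.Tors

section Field

variable (K : Type u) [Field K] (F : Type u) [CommGroup F] [Group.FG F]

theorem quot_pow_eq_one (n : ℕ) (q : F ⧸ powSub F n) : q ^ n = 1 := by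
  obtain ⟨m, rfl⟩ := QuotientGroup.mk_surjective q
  rw [← QuotientGroup.mk_pow, QuotientGroup.eq_one_iff]
  exact ⟨m, rfl⟩

theorem finite_quot {n : ℕ} (hn : 0 < n) : Finite (F ⧸ powSub F n) := by
  apply CommGroup.finite_of_fg_isMulTorsion
  intro q
  rw [isOfFinOrder_iff_pow_eq_one]
  exact ⟨n, hn, quot_pow_eq_one F n q⟩

theorem isReduced_quot {n : ℕ} (hn : Good (ringChar K) n) :
    IsReduced (MonoidAlgebra K (F ⧸ powSub F n)) := by
  haveI := finite_quot F hn.1
  have hdvd : Nat.card (F ⧸ powSub F n) ∣ n ^ Group.rank (F ⧸ powSub F n) :=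
    card_dvd_exponent_pow_rank' _ (quot_pow_eq_one F n)
  haveI : NeZero (Nat.card (F ⧸ powSub F n) : K) := by
    constructor
    intro h0
    have h1 := (CharP.cast_eq_zero_iff K (ringChar K) _).mp h0
    have h2 : ringChar K ∣ n ^ Group.rank (F ⧸ powSub F n) := h1.trans hdvd
    rcases (CharP.char_is_prime_or_zero K (ringChar K)) with hp | hp
    · exact hn.2 (hp.dvd_of_dvd_pow h2)
    · rw [hp] at h2
      exact pow_ne_zero _ hn.1.ne' (Nat.eq_zero_of_zero_dvd h2)
  infer_instance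

/-- The field case: density of the prime-to-`p` torsion. -/
theorem field_case (hF : ∀ p : ℕ, p ≠ 0 → ∀ m : F, m ^ p = 1 → m = 1)
    (a y : MonoidAlgebra K F)
    (h : ∀ n : ℕ, 0 < n → ∃ k : ℕ, quotMap K F n (a ^ k * y) = 0) : a * y = 0 := by
  classical
  have hp : ringChar K = 0 ∨ (ringChar K).Prime :=
    (CharP.char_is_prime_or_zero K (ringChar K)).symm
  obtain ⟨n, hn, hinj⟩ := exists_good_injOn hp (fun hp0 => hF _ hp0) (a * y).coeff.support
  obtain ⟨k, hk⟩ := h n hn.1
  haveI := isReduced_quot K F hn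
  have h1 : (quotMap K F n (a * y)) ^ (k + 1) = 0 := by
    have : (a * y) ^ (k + 1) = a * (a ^ k * y) * y ^ k := by ring
    rw [← map_pow, this, map_mul, map_mul, hk, mul_zero, zero_mul]
  have h2 : quotMap K F n (a * y) = 0 := IsReduced.eq_zero _ ⟨k + 1, h1⟩
  have h3 := Finsupp.mapDomain_injOn (M := K) ((a * y).coeff.support : Set F) hinj
  have h4 : Finsupp.mapDomain (QuotientGroup.mk' (powSub F n)) (a * y).coeff =
      Finsupp.mapDomain (QuotientGroup.mk' (powSub F n)) (0 : F →₀ K) := by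
    rw [Finsupp.mapDomain_zero]
    exact congrArg MonoidAlgebra.coeff h2
  have h5 := h3 (by simp) (by simp) h4
  exact MonoidAlgebra.coeff_injective h5

end Field

section Coeff

variable {B : Type u} [CommRing B] (G : Type u) [CommGroup G]

theorem mapRingHom_eq_zero_iff {S : Type u} [CommRing S] (ρ : B →+* S) (z : MonoidAlgebra B G) :
    MonoidAlgebra.mapRingHom G ρ z = 0 ↔ ∀ g, z.coeff g ∈ RingHom.ker ρ := by
  constructor
  · intro h g
    have := congrArg (fun w => w.coeff g) h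
    simpa [RingHom.mem_ker] using this
  · intro h
    ext g
    simpa [RingHom.mem_ker] using h g

/-- Elements of the group algebra with coefficients in an ideal. -/
noncomputable def coeffIdeal (𝔟 : Ideal B) : Ideal (MonoidAlgebra B G) :=
  RingHom.ker (MonoidAlgebra.mapRingHom G (Ideal.Quotient.mk 𝔟))

theorem mem_coeffIdeal {𝔟 : Ideal B} {z : MonoidAlgebra B G} :
    z ∈ coeffIdeal G 𝔟 ↔ ∀ g, z.coeff g ∈ 𝔟 := by
  unfold coeffIdeal
  rw [RingHom.mem_ker, mapRingHom_eq_zero_iff, Ideal.mk_ker]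

theorem coeffIdeal_mono {𝔟 𝔠 : Ideal B} (h : 𝔟 ≤ 𝔠) : coeffIdeal G 𝔟 ≤ coeffIdeal G 𝔠 := by
  intro z hz
  rw [mem_coeffIdeal] at hz ⊢
  exact fun g => h (hz g)

theorem coeffIdeal_top : coeffIdeal G (⊤ : Ideal B) = ⊤ := by
  rw [eq_top_iff]
  intro z _
  rw [mem_coeffIdeal]
  exact fun g => Submodule.mem_top

theorem coeffIdeal_bot {z : MonoidAlgebra B G} (hz : z ∈ coeffIdeal G (⊥ : Ideal B)) : z = 0 := by
  rw [mem_coeffIdeal] at hz
  ext g
  simpa using hz g

theorem single_mem_coeffIdeal {𝔟 : Ideal B} (g : G) {b : B} (hb : b ∈ 𝔟) :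
    MonoidAlgebra.single g b ∈ coeffIdeal G 𝔟 := by
  classical
  rw [mem_coeffIdeal]
  intro g'
  rw [MonoidAlgebra.coeff_single, Finsupp.single_apply]
  split_ifs
  · exact hb
  · exact 𝔟.zero_mem

/-- Decomposition of an element with coefficients in `𝔟 ⊔ (u)`. -/
theorem exists_decomp {𝔟 : Ideal B} (u : B) {z : MonoidAlgebra B G}
    (hz : z ∈ coeffIdeal G (𝔟 ⊔ Ideal.span {u})) :
    ∃ z₀ ∈ coeffIdeal G 𝔟, ∃ w : MonoidAlgebra B G, z = z₀ + u • w := by
  classical
  rw [mem_coeffIdeal] at hz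
  have key : ∀ g, ∃ b ∈ 𝔟, ∃ c : B, z.coeff g = b + u * c := by
    intro g
    obtain ⟨b, hb, v, hv, hbv⟩ := Submodule.mem_sup.mp (hz g)
    obtain ⟨c, rfl⟩ := Ideal.mem_span_singleton'.mp hv
    exact ⟨b, hb, c, by rw [← hbv, mul_comm]⟩
  choose β hβ γ hγ using key
  refine ⟨∑ g ∈ z.coeff.support, MonoidAlgebra.single g (β g), ?_,
    ∑ g ∈ z.coeff.support, MonoidAlgebra.single g (γ g), ?_⟩
  · exact Ideal.sum_mem _ (fun g _ => single_mem_coeffIdeal G g (hβ g))
  · rw [Finset.smul_sum, ← Finset.sum_add_distrib]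
    conv_lhs => rw [← MonoidAlgebra.sum_coeff_single z]
    unfold Finsupp.sum
    refine Finset.sum_congr rfl (fun g _ => ?_)
    rw [MonoidAlgebra.smul_single', ← MonoidAlgebra.single_add, ← hγ g]

theorem smul_mem_coeffIdeal {𝔟 : Ideal B} (u : B) {w : MonoidAlgebra B G}
    (hw : ∀ g, u * w.coeff g ∈ 𝔟) : u • w ∈ coeffIdeal G 𝔟 := by
  rw [mem_coeffIdeal]
  intro g
  rw [MonoidAlgebra.coeff_smul_apply, smul_eq_mul]
  exact hw g

end Coeff

end Groth.Agent.Lib.Helper25.TorsDense
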