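import Mathlib
import Groth.Prelude.Def_SGA3b
import Groth.Agent.Lib.Helper25Torsion
import Groth.Agent.Lib.Helper25TorsDense0

/-!
# Density of torsion in group algebras of torsion-free groups: Noetherian induction (helper25)
-/

set_option autoImplicit false
set_option linter.style.haveILetI false
set_option linter.unusedSectionVars false
universe u

namespace Groth.Agent.Lib.Helper25.TorsDense

open Groth.Agent.Lib.Helper25.Tors

section Induction

variable (F : Type u) [CommGroup F] [Group.FG F]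

theorem quotMap_mapRingHom {B S : Type u} [CommRing B] [CommRing S] (ρ : B →+* S) (n : ℕ)
    (x : MonoidAlgebra B F) :
    quotMap S F n (MonoidAlgebra.mapRingHom F ρ x) =
      MonoidAlgebra.mapRingHom _ ρ (quotMap B F n x) := by
  have := congrArg (fun f => f x)
    (MonoidAlgebra.mapRingHom_comp_mapDomainRingHom ρ (QuotientGroup.mk' (powSub F n)))
  exact this.symm

theorem quotMap_mem_coeffIdeal {B : Type u} [CommRing B] {𝔟 : Ideal B} (n : ℕ)
    {z : MonoidAlgebra B F} (hz : z ∈ coeffIdeal F 𝔟) :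
    quotMap B F n z ∈ coeffIdeal _ 𝔟 := by
  unfold coeffIdeal at hz ⊢
  rw [RingHom.mem_ker] at hz ⊢
  rw [← quotMap_mapRingHom, hz, map_zero]

/-- The density statement relative to an ideal of the base. -/
def Dense (B : Type u) [CommRing B] (𝔟 : Ideal B) : Prop :=
  ∀ a y : MonoidAlgebra B F,
    (∀ n : ℕ, 0 < n → ∃ k : ℕ, quotMap B F n (a ^ k * y) ∈ coeffIdeal _ 𝔟) →
    ∃ k : ℕ, a ^ k * y ∈ coeffIdeal F 𝔟

theorem dense_prime (hF : ∀ p : ℕ, p ≠ 0 → ∀ m : F, m ^ p = 1 → m = 1)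
    (B : Type u) [CommRing B] (𝔟 : Ideal B) [𝔟.IsPrime] : Dense F B 𝔟 := by
  intro a y h
  let K := FractionRing (B ⧸ 𝔟)
  let ρ : B →+* K := (algebraMap (B ⧸ 𝔟) K).comp (Ideal.Quotient.mk 𝔟)
  have hker : RingHom.ker ρ = 𝔟 := by
    ext x
    rw [RingHom.mem_ker]
    change algebraMap (B ⧸ 𝔟) K (Ideal.Quotient.mk 𝔟 x) = 0 ↔ _
    rw [map_eq_zero_iff _ (IsFractionRing.injective (B ⧸ 𝔟) K), Ideal.Quotient.eq_zero_iff_mem]
  have hmem : ∀ (G : Type u) [CommGroup G] (z : MonoidAlgebra B G),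
      z ∈ coeffIdeal G 𝔟 ↔ MonoidAlgebra.mapRingHom G ρ z = 0 := by
    intro G _ z
    rw [mapRingHom_eq_zero_iff, hker, mem_coeffIdeal]
  refine ⟨1, ?_⟩
  rw [pow_one, hmem, map_mul]
  apply field_case K F hF
  intro n hn
  obtain ⟨k, hk⟩ := h n hn
  refine ⟨k, ?_⟩
  rw [hmem, ← quotMap_mapRingHom, map_mul, map_pow] at hk
  exact hk

theorem dense_of_gt (B : Type u) [CommRing B] (𝔟 : Ideal B)
    (ih : ∀ 𝔠 : Ideal B, 𝔟 < 𝔠 → Dense F B 𝔠) (hnp : ¬ 𝔟.IsPrime) : Dense F B 𝔟 := by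
  intro a y h
  rcases Ideal.not_isPrime_iff.mp hnp with htop | ⟨u, hu, v, hv, huv⟩
  · refine ⟨0, ?_⟩
    rw [htop, coeffIdeal_top]
    exact Submodule.mem_top
  -- the two bigger ideals
  have hlt₁ : 𝔟 < 𝔟 ⊔ Ideal.span {u} := by
    refine lt_of_le_of_ne le_sup_left ?_
    intro heq
    apply hu
    rw [heq]
    exact Ideal.mem_sup_right (Ideal.subset_span rfl)
  have hlt₂ : 𝔟 < Submodule.comap (LinearMap.mulLeft B u) 𝔟 := by
    refine lt_of_le_of_ne ?_ ?_
    · intro x hx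
      rw [Submodule.mem_comap, LinearMap.mulLeft_apply]
      exact 𝔟.mul_mem_left u hx
    · intro heq
      apply hv
      rw [heq, Submodule.mem_comap, LinearMap.mulLeft_apply]
      exact huv
  -- first step
  obtain ⟨k₁, hk₁⟩ := ih _ hlt₁ a y (fun n hn => by
    obtain ⟨k, hk⟩ := h n hn
    exact ⟨k, coeffIdeal_mono _ le_sup_left hk⟩)
  obtain ⟨z₀, hz₀, w, hw⟩ := exists_decomp F u hk₁
  -- second step
  have hyp₂ : ∀ n : ℕ, 0 < n → ∃ k : ℕ, quotMap B F n (a ^ k * w) ∈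
      coeffIdeal _ (Submodule.comap (LinearMap.mulLeft B u) 𝔟) := by
    intro n hn
    obtain ⟨k, hk⟩ := h n hn
    refine ⟨k, ?_⟩
    rw [mem_coeffIdeal]
    intro g
    rw [Submodule.mem_comap, LinearMap.mulLeft_apply]
    have h1 : u • quotMap B F n (a ^ k * w) ∈ coeffIdeal _ 𝔟 := by
      have h2 : u • quotMap B F n (a ^ k * w) =
          quotMap B F n (a ^ k₁) * quotMap B F n (a ^ k * y) - quotMap B F n (a ^ k * z₀) := by
        rw [← map_smul, ← map_mul, ← map_sub]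
        congr 1
        have : u • w = a ^ k₁ * y - z₀ := by rw [hw]; ring
        rw [← mul_smul_comm, this]
        ring
      rw [h2]
      refine Ideal.sub_mem _ (Ideal.mul_mem_left _ _ hk) ?_
      exact quotMap_mem_coeffIdeal F n (Ideal.mul_mem_left _ _ hz₀)
    have h3 := (mem_coeffIdeal _).mp h1 g
    rwa [MonoidAlgebra.coeff_smul_apply, smul_eq_mul] at h3
  obtain ⟨k₂, hk₂⟩ := ih _ hlt₂ a w hyp₂
  refine ⟨k₂ + k₁, ?_⟩
  have h4 : a ^ (k₂ + k₁) * y = a ^ k₂ * z₀ + u • (a ^ k₂ * w) := by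
    rw [pow_add, mul_assoc, hw, mul_add, mul_smul_comm]
  rw [h4]
  refine Ideal.add_mem _ (Ideal.mul_mem_left _ _ hz₀) ?_
  apply smul_mem_coeffIdeal
  intro g
  have := (mem_coeffIdeal _).mp hk₂ g
  rwa [Submodule.mem_comap, LinearMap.mulLeft_apply] at this

theorem dense_all (hF : ∀ p : ℕ, p ≠ 0 → ∀ m : F, m ^ p = 1 → m = 1)
    (B : Type u) [CommRing B] [IsNoetherianRing B] (𝔟 : Ideal B) : Dense F B 𝔟 := by
  induction 𝔟 using IsNoetherian.induction with
  | hgt 𝔟 ih =>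
    by_cases hp : Ideal.IsPrime (𝔟 : Ideal B)
    · exact dense_prime F hF B 𝔟
    · exact dense_of_gt F B 𝔟 ih hp

theorem core_noeth (hF : ∀ p : ℕ, p ≠ 0 → ∀ m : F, m ^ p = 1 → m = 1)
    (B : Type u) [CommRing B] [IsNoetherianRing B] (a y : MonoidAlgebra B F)
    (h : ∀ n : ℕ, 0 < n → ∃ k : ℕ, quotMap B F n (a ^ k * y) = 0) : ∃ k : ℕ, a ^ k * y = 0 := by
  obtain ⟨k, hk⟩ := dense_all F hF B ⊥ a y (fun n hn => by
    obtain ⟨k, hk⟩ := h n hn
    exact ⟨k, by rw [hk]; exact Ideal.zero_mem _⟩)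
  exact ⟨k, coeffIdeal_bot F hk⟩

end Induction
section General

theorem mapRingHom_injective {B S : Type u} [CommRing B] [CommRing S] (G : Type u) [CommGroup G]
    (ι : B →+* S) (hι : Function.Injective ι) :
    Function.Injective (MonoidAlgebra.mapRingHom G ι) := by
  rw [injective_iff_map_eq_zero]
  intro z hz
  rw [mapRingHom_eq_zero_iff, (RingHom.injective_iff_ker_eq_bot ι).mp hι] at hz
  ext g
  simpa using hz g

theorem exists_mapRingHom_eq {B S : Type u} [CommRing B] [CommRing S] (G : Type u) [CommGroup G]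
    (ι : B →+* S) (z : MonoidAlgebra S G) (hz : ∀ g, z.coeff g ∈ ι.range) :
    ∃ z₀ : MonoidAlgebra B G, MonoidAlgebra.mapRingHom G ι z₀ = z := by
  classical
  choose β hβ using hz
  refine ⟨∑ g ∈ z.coeff.support, MonoidAlgebra.single g (β g), ?_⟩
  rw [map_sum]
  conv_rhs => rw [← MonoidAlgebra.sum_coeff_single z]
  unfold Finsupp.sum
  refine Finset.sum_congr rfl (fun g _ => ?_)
  rw [MonoidAlgebra.mapRingHom_single, hβ]

variable (F : Type u) [CommGroup F] [Group.FG F]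

/-- Density of the torsion in `B[F]`, `F` finitely generated and torsion-free, `B` any ring. -/
theorem core (hF : ∀ p : ℕ, p ≠ 0 → ∀ m : F, m ^ p = 1 → m = 1)
    (B : Type u) [CommRing B] (a y : MonoidAlgebra B F)
    (h : ∀ n : ℕ, 0 < n → ∃ k : ℕ, quotMap B F n (a ^ k * y) = 0) : ∃ k : ℕ, a ^ k * y = 0 := by
  classical
  let S : Finset B := a.coeff.support.image a.coeff ∪ y.coeff.support.image y.coeff
  let B₀ : Subalgebra ℤ B := Algebra.adjoin ℤ (S : Set B)
  haveI : IsNoetherianRing B₀ := isNoetherianRing_of_fg (Subalgebra.fg_adjoin_finset S)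
  let ι : B₀ →+* B := B₀.val.toRingHom
  have hι : Function.Injective ι := Subtype.val_injective
  have hrange : ∀ b ∈ S, b ∈ ι.range := by
    intro b hb
    exact ⟨⟨b, Algebra.subset_adjoin hb⟩, rfl⟩
  have ha : ∀ g, a.coeff g ∈ ι.range := by
    intro g
    by_cases hg : g ∈ a.coeff.support
    · exact hrange _ (Finset.mem_union_left _ (Finset.mem_image_of_mem _ hg))
    · rw [Finsupp.notMem_support_iff.mp hg]
      exact ι.range.zero_mem
  have hy : ∀ g, y.coeff g ∈ ι.range := by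
    intro g
    by_cases hg : g ∈ y.coeff.support
    · exact hrange _ (Finset.mem_union_right _ (Finset.mem_image_of_mem _ hg))
    · rw [Finsupp.notMem_support_iff.mp hg]
      exact ι.range.zero_mem
  obtain ⟨a₀, ha₀⟩ := exists_mapRingHom_eq F ι a ha
  obtain ⟨y₀, hy₀⟩ := exists_mapRingHom_eq F ι y hy
  have h₀ : ∀ n : ℕ, 0 < n → ∃ k : ℕ, quotMap B₀ F n (a₀ ^ k * y₀) = 0 := by
    intro n hn
    obtain ⟨k, hk⟩ := h n hn
    refine ⟨k, ?_⟩
    apply mapRingHom_injective _ ι hι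
    rw [← quotMap_mapRingHom, map_mul, map_pow, ha₀, hy₀, hk, map_zero]
  obtain ⟨k, hk⟩ := core_noeth F hF B₀ a₀ y₀ h₀
  refine ⟨k, ?_⟩
  rw [← ha₀, ← hy₀, ← map_pow, ← map_mul, hk, map_zero]

end General

end Groth.Agent.Lib.Helper25.TorsDense
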