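import Mathlib
import Groth.Prelude.Def_SGA3b
import Groth.Agent.Lib.Helper25Torsion
import Groth.Agent.Lib.Helper25TorsDense1

/-!
# Density of torsion in group algebras of finitely generated groups (helper25)
-/

set_option autoImplicit false
set_option linter.style.haveILetI false
set_option linter.unusedSectionVars false
universe u

namespace Groth.Agent.Lib.Helper25.TorsDense

open Groth.Agent.Lib.Helper25.Tors SGA3b Coalgebra

section GroupAlgebra

variable (R : Type u) [CommRing R] {M : Type u} [CommGroup M] {F T : Type u} [CommGroup F]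
  [CommGroup T] (ψ : M ≃* F × T)

/-- `R[M] ≅ R[T][F]` for `M ≅ F × T`. -/
noncomputable def splitEquiv : MonoidAlgebra R M ≃+* MonoidAlgebra (MonoidAlgebra R T) F :=
  (MonoidAlgebra.mapDomainRingEquiv R ψ).trans
    (MonoidAlgebra.curryAlgEquiv R (A := R) (M := F) (N := T)).toRingEquiv

theorem splitEquiv_single (m : M) (r : R) :
    splitEquiv R ψ (MonoidAlgebra.single m r) =
      MonoidAlgebra.single (ψ m).1 (MonoidAlgebra.single (ψ m).2 r) := by
  unfold splitEquiv
  rw [RingEquiv.trans_apply, MonoidAlgebra.mapDomainRingEquiv_single]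
  exact MonoidAlgebra.curryAlgEquiv_single (R := R) (ψ m).1 (ψ m).2 r

theorem powConv_single (N : ℕ) (m : M) (r : R) :
    powConv R (MonoidAlgebra R M) N (MonoidAlgebra.single m r) = MonoidAlgebra.single (m ^ N) r := by
  have h1 : MonoidAlgebra.single m r = r • MonoidAlgebra.of R M m := by
    rw [MonoidAlgebra.of_apply, MonoidAlgebra.smul_single, smul_eq_mul, mul_one]
  have hgl : IsGroupLikeElem R (MonoidAlgebra.of R M m) := MonoidAlgebra.isGroupLikeElem_of m
  rw [h1, map_smul, powConv_groupLike N hgl.comul_eq_tmul_self hgl.counit_eq_one, ← map_pow,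
    MonoidAlgebra.of_apply, MonoidAlgebra.smul_single, smul_eq_mul, mul_one]

theorem quotMap_split_powConv {n N : ℕ} (hnN : n ∣ N) (hT : ∀ t : T, t ^ N = 1)
    (x : MonoidAlgebra R M) :
    quotMap (MonoidAlgebra R T) F n (splitEquiv R ψ (powConv R (MonoidAlgebra R M) N x)) =
      MonoidAlgebra.single 1 (MonoidAlgebra.single 1 (counit (R := R) x)) := by
  induction x using MonoidAlgebra.induction_linear with
  | zero => simp
  | add f g hf hg =>
    rw [map_add, map_add, map_add, hf, hg, map_add, MonoidAlgebra.single_add,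
      MonoidAlgebra.single_add]
  | single m r =>
    rw [powConv_single, splitEquiv_single, map_pow, Prod.pow_snd, hT, Prod.pow_fst]
    have h1 : quotMap (MonoidAlgebra R T) F n
        (MonoidAlgebra.single ((ψ m).1 ^ N) (MonoidAlgebra.single 1 r)) =
        MonoidAlgebra.single (QuotientGroup.mk' (powSub F n) ((ψ m).1 ^ N))
          (MonoidAlgebra.single 1 r) := by
      change MonoidAlgebra.mapDomain _ _ = _
      rw [MonoidAlgebra.mapDomain_single]
    have h2 : QuotientGroup.mk' (powSub F n) ((ψ m).1 ^ N) = 1 := by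
      obtain ⟨c, rfl⟩ := hnN
      rw [QuotientGroup.mk'_apply, QuotientGroup.eq_one_iff]
      refine ⟨(ψ m).1 ^ c, ?_⟩
      change ((ψ m).1 ^ c) ^ n = _
      rw [← pow_mul, mul_comm]
    rw [h1, h2]
    congr 2
    simp

theorem quotMap_split_eq_zero {n N : ℕ} (hnN : n ∣ N) (hT : ∀ t : T, t ^ N = 1)
    {x : MonoidAlgebra R M} (hx : x ∈ torsionIdeal R (MonoidAlgebra R M) N) :
    quotMap (MonoidAlgebra R T) F n (splitEquiv R ψ x) = 0 := by
  have hle : torsionIdeal R (MonoidAlgebra R M) N ≤
      RingHom.ker ((RingHomClass.toRingHom (quotMap (MonoidAlgebra R T) F n)).comp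
        (splitEquiv R ψ).toRingHom) := by
    unfold torsionIdeal
    rw [Ideal.map_le_iff_le_comap]
    intro z hz
    rw [Ideal.mem_comap, RingHom.mem_ker]
    change quotMap (MonoidAlgebra R T) F n (splitEquiv R ψ (powConv R (MonoidAlgebra R M) N z)) = 0
    rw [quotMap_split_powConv R ψ hnN hT]
    have hz' : counit (R := R) z = 0 := hz
    rw [hz', MonoidAlgebra.single_zero, MonoidAlgebra.single_zero]
  exact hle hx

include ψ in
/-- Density of the torsion in the group algebra of a finitely generated commutative group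
`M ≅ F × T`, `F` torsion-free, `T` of finite exponent. -/
theorem monoidAlgebra_dense_of_split [Group.FG F]
    (hF : ∀ p : ℕ, p ≠ 0 → ∀ m : F, m ^ p = 1 → m = 1)
    {e₀ : ℕ} (he₀ : 0 < e₀) (hT : ∀ t : T, t ^ e₀ = 1)
    (a y : MonoidAlgebra R M)
    (h : ∀ n : ℕ, 0 < n → ∃ k : ℕ, a ^ k * y ∈ torsionIdeal R (MonoidAlgebra R M) n) :
    ∃ k : ℕ, a ^ k * y = 0 := by
  have h' : ∀ n : ℕ, 0 < n → ∃ k : ℕ, quotMap (MonoidAlgebra R T) F n
      ((splitEquiv R ψ a) ^ k * splitEquiv R ψ y) = 0 := by
    intro n hn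
    obtain ⟨k, hk⟩ := h (n * e₀) (Nat.mul_pos hn he₀)
    refine ⟨k, ?_⟩
    rw [← map_pow, ← map_mul]
    apply quotMap_split_eq_zero R ψ (Dvd.intro _ rfl) _ hk
    intro t
    rw [mul_comm, pow_mul, hT, one_pow]
  obtain ⟨k, hk⟩ := core F hF (MonoidAlgebra R T) _ _ h'
  refine ⟨k, ?_⟩
  rw [← map_pow, ← map_mul] at hk
  exact (splitEquiv R ψ).injective (by rw [hk, map_zero])

end GroupAlgebra

end Groth.Agent.Lib.Helper25.TorsDense
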