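import Mathlib
import Groth.Prelude.Def_SGA3b
import Groth.Agent.Lib.Helper25Torsion
import Groth.Agent.Lib.Helper25TorsDense1
import Groth.Agent.Lib.Helper25TorsDense2

/-!
# Density of torsion in group algebras of finitely generated groups, structure theorem (helper25)
-/

set_option autoImplicit false
set_option linter.style.haveILetI false
set_option linter.unusedSectionVars false
universe u

namespace Groth.Agent.Lib.Helper25.TorsDense

open Groth.Agent.Lib.Helper25.Tors SGA3b Coalgebra

section FG

theorem mulInt_torsionFree {j : Type} (p : ℕ) (hp : p ≠ 0) (m : ULift.{u} (j → Multiplicative ℤ))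
    (hm : m ^ p = 1) : m = 1 := by
  apply ULift.ext
  funext i
  have h1 : (m.down i) ^ p = 1 := by
    have := congrArg (fun x : ULift.{u} (j → Multiplicative ℤ) => x.down i) hm
    simpa using this
  have h2 : p • Multiplicative.toAdd (m.down i) = 0 := by
    have := congrArg Multiplicative.toAdd h1
    simpa using this
  have h3 : Multiplicative.toAdd (m.down i) = 0 := by
    rcases smul_eq_zero.mp h2 with h | h
    · exact absurd h hp
    · exact h
  exact Multiplicative.toAdd.injective h3

theorem zmod_pow_eq_one {ι : Type} [Fintype ι] (q : ι → ℕ)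
    (t : ULift.{u} ((i : ι) → Multiplicative (ZMod (q i)))) : t ^ (∏ i, q i) = 1 := by
  apply ULift.ext
  funext i
  change (t.down i) ^ (∏ i, q i) = 1
  apply Multiplicative.toAdd.injective
  change (∏ i, q i) • Multiplicative.toAdd (t.down i) = 0
  rw [nsmul_eq_mul]
  have : ((∏ i, q i : ℕ) : ZMod (q i)) = 0 := by
    rw [ZMod.natCast_eq_zero_iff]
    exact Finset.dvd_prod_of_mem q (Finset.mem_univ i)
  rw [this, zero_mul]

/-- Density of the torsion in the group algebra of a finitely generated commutative group. -/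
theorem monoidAlgebra_dense (R : Type u) [CommRing R] (M : Type u) [CommGroup M] [Group.FG M]
    (a y : MonoidAlgebra R M)
    (h : ∀ n : ℕ, 0 < n → ∃ k : ℕ, a ^ k * y ∈ torsionIdeal R (MonoidAlgebra R M) n) :
    ∃ k : ℕ, a ^ k * y = 0 := by
  classical
  obtain ⟨ι, j, _, _, p, hp, e, ⟨φ⟩⟩ := CommGroup.equiv_free_prod_prod_multiplicative_zmod M
  let ψ : M ≃* ULift.{u} (j → Multiplicative ℤ) ×
      ULift.{u} ((i : ι) → Multiplicative (ZMod (p i ^ e i))) :=
    φ.trans (MulEquiv.prodCongr MulEquiv.ulift.symm MulEquiv.ulift.symm)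
  haveI : Group.FG (ULift.{u} (j → Multiplicative ℤ)) := by
    refine Group.fg_of_surjective (f := (MonoidHom.fst _ _).comp ψ.toMonoidHom) ?_
    intro f
    refine ⟨ψ.symm (f, 1), ?_⟩
    simp
  refine monoidAlgebra_dense_of_split R ψ (fun q hq m hm => mulInt_torsionFree q hq m hm)
    (e₀ := ∏ i, p i ^ e i) ?_ (zmod_pow_eq_one _) a y h
  exact Finset.prod_pos (fun i _ => pow_pos (hp i).pos _)

end FG

end Groth.Agent.Lib.Helper25.TorsDense
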