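import Mathlib
import Groth.Prelude.Def_SGA3b
import Groth.Agent.Lib.Helper25Torsion
import Groth.Agent.Lib.Helper25TorsDense3

/-!
# Density of torsion in groups of multiplicative type: descent (helper25)
-/

set_option autoImplicit false
set_option linter.style.haveILetI false
set_option linter.unusedSectionVars false
universe u

namespace Groth.Agent.Lib.Helper25.TorsDense

open Groth.Agent.Lib.Helper25.Tors SGA3b Coalgebra TensorProduct

section Descent

variable {R : Type u} [CommRing R] {A : Type u} [CommRing A] [HopfAlgebra R A]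

theorem dense_of_isDiag (hft : Algebra.FiniteType R A) (h : IsDiag R A) (a y : A)
    (hyp : ∀ n : ℕ, 0 < n → ∃ k : ℕ, a ^ k * y ∈ torsionIdeal R A n) :
    ∃ k : ℕ, a ^ k * y = 0 := by
  obtain ⟨M, _, ⟨e⟩⟩ := h
  by_cases hR : Nontrivial R
  · haveI : Group.FG M :=
      MonoidAlgebra.finiteType_iff_group_fg.mp (Algebra.FiniteType.equiv hft e.toAlgEquiv)
    obtain ⟨k, hk⟩ := monoidAlgebra_dense R M (e a) (e y) (fun n hn => by
      obtain ⟨k, hk⟩ := hyp n hn
      refine ⟨k, ?_⟩
      have := map_mem_torsionIdeal (e : A →ₐc[R] MonoidAlgebra R M) n hk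
      simpa using this)
    have h0 : e (a ^ k * y) = e 0 := by rw [map_mul, map_pow, hk, map_zero]
    exact ⟨k, e.injective h0⟩
  · rw [not_nontrivial_iff_subsingleton] at hR
    haveI : Subsingleton A := Module.subsingleton R A
    exact ⟨0, Subsingleton.elim _ _⟩

theorem dense_of_isMultTypeConst (hft : Algebra.FiniteType R A) (h : IsMultTypeConst R A) (a y : A)
    (hyp : ∀ n : ℕ, 0 < n → ∃ k : ℕ, a ^ k * y ∈ torsionIdeal R A n) :
    ∃ k : ℕ, a ^ k * y = 0 := by
  obtain ⟨R', _, _, hff, hd⟩ := h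
  haveI := hff
  haveI := hft
  have hpow : ∀ k : ℕ, ((1 : R') ⊗ₜ[R] a) ^ k * ((1 : R') ⊗ₜ[R] y) = (1 : R') ⊗ₜ[R] (a ^ k * y) := by
    intro k
    rw [Algebra.TensorProduct.tmul_pow, one_pow, Algebra.TensorProduct.tmul_mul_tmul, one_mul]
  obtain ⟨k, hk⟩ := dense_of_isDiag (R := R') (A := R' ⊗[R] A) inferInstance hd
    ((1 : R') ⊗ₜ[R] a) ((1 : R') ⊗ₜ[R] y) (fun n hn => by
      obtain ⟨k, hk⟩ := hyp n hn
      refine ⟨k, ?_⟩
      rw [hpow]
      exact one_tmul_mem_torsionIdeal R' n hk)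
  refine ⟨k, ?_⟩
  rw [hpow] at hk
  apply Module.FaithfullyFlat.tensorProduct_mk_injective (A := R) (B := R') A
  rw [map_zero]
  exact hk

theorem dense_of_isMultType (hft : Algebra.FiniteType R A) (h : IsMultType R A) (a y : A)
    (hyp : ∀ n : ℕ, 0 < n → ∃ k : ℕ, a ^ k * y ∈ torsionIdeal R A n) :
    ∃ k : ℕ, a ^ k * y = 0 := by
  obtain ⟨s, hs, hmt⟩ := h
  haveI := hft
  -- the ideal of scalars killing some `a ^ k * y`
  let N : Ideal R :=
    { carrier := {r | ∃ k : ℕ, r • (a ^ k * y) = 0}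
      zero_mem' := ⟨0, zero_smul _ _⟩
      add_mem' := by
        rintro r r' ⟨k, hk⟩ ⟨k', hk'⟩
        refine ⟨k + k', ?_⟩
        rw [add_smul]
        have h1 : r • (a ^ (k + k') * y) = a ^ k' * (r • (a ^ k * y)) := by
          rw [mul_smul_comm, ← mul_assoc, ← pow_add, add_comm]
        have h2 : r' • (a ^ (k + k') * y) = a ^ k * (r' • (a ^ k' * y)) := by
          rw [mul_smul_comm, ← mul_assoc, ← pow_add]
        rw [h1, h2, hk, hk', mul_zero, mul_zero, add_zero]
      smul_mem' := by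
        rintro c r ⟨k, hk⟩
        refine ⟨k, ?_⟩
        rw [smul_eq_mul, mul_smul, hk, smul_zero] }
  have hN : ∀ f ∈ s, f ∈ N.radical := by
    intro f hf
    have hpow : ∀ k : ℕ, ((1 : Localization.Away f) ⊗ₜ[R] a) ^ k * ((1 : Localization.Away f) ⊗ₜ[R] y) =
        (1 : Localization.Away f) ⊗ₜ[R] (a ^ k * y) := by
      intro k
      rw [Algebra.TensorProduct.tmul_pow, one_pow, Algebra.TensorProduct.tmul_mul_tmul, one_mul]
    obtain ⟨k, hk⟩ := dense_of_isMultTypeConst (R := Localization.Away f)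
      (A := Localization.Away f ⊗[R] A) inferInstance (hmt f hf)
      ((1 : Localization.Away f) ⊗ₜ[R] a) ((1 : Localization.Away f) ⊗ₜ[R] y) (fun n hn => by
        obtain ⟨k, hk⟩ := hyp n hn
        refine ⟨k, ?_⟩
        rw [hpow]
        exact one_tmul_mem_torsionIdeal (Localization.Away f) n hk)
    rw [hpow] at hk
    haveI : IsLocalizedModule (Submonoid.powers f)
        (TensorProduct.mk R (Localization.Away f) A 1) :=
      (isLocalizedModule_iff_isBaseChange (S := Submonoid.powers f)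
        (A := Localization.Away f) _).mpr (TensorProduct.isBaseChange R A _)
    have hk' : TensorProduct.mk R (Localization.Away f) A 1 (a ^ k * y) = 0 := hk
    obtain ⟨⟨_, j, rfl⟩, hj⟩ := (IsLocalizedModule.eq_zero_iff (Submonoid.powers f)
      (TensorProduct.mk R (Localization.Away f) A 1)).mp hk'
    exact ⟨j, k, hj⟩
  have hNtop : N = ⊤ := by
    rw [← Ideal.radical_eq_top, eq_top_iff, ← hs]
    exact Ideal.span_le.mpr hN
  obtain ⟨k, hk⟩ : (1 : R) ∈ N := by rw [hNtop]; exact Submodule.mem_top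
  exact ⟨k, by rwa [one_smul] at hk⟩

end Descent

section Final

variable {R : Type u} [CommRing R] {A : Type u} [CommRing A] [HopfAlgebra R A]

theorem iInf_map_torsionIdeal_eq_bot (hft : Algebra.FiniteType R A) (h : IsMultType R A) (a : A) :
    ⨅ n : {n : ℕ // 0 < n},
      Ideal.map (algebraMap A (Localization.Away a)) (torsionIdeal R A n.1) = ⊥ := by
  rw [eq_bot_iff]
  intro x hx
  rw [Ideal.mem_bot]
  obtain ⟨y, ⟨_, j, rfl⟩, rfl⟩ := IsLocalization.exists_mk'_eq (Submonoid.powers a) x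
  have hy : ∀ n : ℕ, 0 < n → algebraMap A (Localization.Away a) y ∈
      Ideal.map (algebraMap A (Localization.Away a)) (torsionIdeal R A n) := by
    intro n hn
    have h1 := Ideal.mem_iInf.mp hx ⟨n, hn⟩
    have h2 := Ideal.mul_mem_right (algebraMap A (Localization.Away a) (a ^ j)) _ h1
    rwa [IsLocalization.mk'_spec] at h2
  have hyp : ∀ n : ℕ, 0 < n → ∃ k : ℕ, a ^ k * y ∈ torsionIdeal R A n := by
    intro n hn
    obtain ⟨⟨i, ⟨_, k, rfl⟩⟩, hik⟩ :=
      (IsLocalization.mem_map_algebraMap_iff (Submonoid.powers a) _).mp (hy n hn)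
    have h3 : algebraMap A (Localization.Away a) (y * a ^ k) =
        algebraMap A (Localization.Away a) i := by
      rw [map_mul]
      exact hik
    obtain ⟨⟨_, k', rfl⟩, hk'⟩ := (IsLocalization.eq_iff_exists (Submonoid.powers a) _).mp h3
    refine ⟨k' + k, ?_⟩
    have h4 : a ^ (k' + k) * y = a ^ k' * i := by
      rw [pow_add, ← hk']
      ring
    rw [h4]
    exact Ideal.mul_mem_left _ _ i.2
  obtain ⟨k, hk⟩ := dense_of_isMultType hft h a y hyp
  rw [IsLocalization.mk'_eq_zero_iff]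
  exact ⟨⟨a ^ k, k, rfl⟩, hk⟩

end Final

end Groth.Agent.Lib.Helper25.TorsDense
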