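import Mathlib
import Groth.Prelude.Def_SGA3b
import Groth.Agent.Lib.Helper25Torsion
import Groth.Agent.Lib.Helper25Killed

/-!
# Translations of a commutative Hopf algebra by points (helper25)
-/

set_option autoImplicit false
set_option linter.style.haveILetI false
set_option linter.unusedSectionVars false
universe u

namespace Groth.Agent.Lib.Helper25.TorsDense

open Groth.Agent.Lib.Helper25.Tors SGA3b Coalgebra TensorProduct WithConv

section Translate

variable {R : Type u} [CommRing R] {D : Type u} [CommRing D] [HopfAlgebra R D]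

/-- A point, as an endomorphism-valued point. -/
noncomputable def pt (x : WithConv (D →ₐ[R] R)) : WithConv (D →ₐ[R] D) :=
  toConv ((Algebra.ofId R D).comp x.ofConv)

theorem pt_mul (x y : WithConv (D →ₐ[R] R)) : pt (x * y) = pt x * pt y := by
  unfold pt
  rw [AlgHom.comp_convMul_distrib]

theorem pt_one : pt (1 : WithConv (D →ₐ[R] R)) = 1 := by
  unfold pt
  apply WithConv.ofConv_injective
  ext d
  simp [AlgHom.convOne_apply]

/-- Translation by a point. -/
noncomputable def trans (x : WithConv (D →ₐ[R] R)) : D →ₐ[R] D :=
  (pt x * toConv (AlgHom.id R D)).ofConv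

theorem comp_pt (f : D →ₐ[R] D) (x : WithConv (D →ₐ[R] R)) :
    f.comp (pt x).ofConv = (pt x).ofConv := by
  unfold pt
  ext d
  simp

theorem trans_comp_trans (x y : WithConv (D →ₐ[R] R)) :
    (trans x).comp (trans y) = trans (y * x) := by
  conv_lhs => rw [trans.eq_1 y]
  rw [AlgHom.comp_convMul_distrib, comp_pt]
  change ofConv (toConv (pt y).ofConv * toConv (trans x)) = _
  unfold trans
  rw [toConv_ofConv, toConv_ofConv, ← mul_assoc, ← pt_mul]

theorem trans_one : trans (1 : WithConv (D →ₐ[R] R)) = AlgHom.id R D := by
  unfold trans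
  rw [pt_one, one_mul]

theorem trans_trans_inv (x : WithConv (D →ₐ[R] R)) (d : D) : trans x (trans x⁻¹ d) = d := by
  have := congrArg (fun f => f d) (trans_comp_trans x x⁻¹)
  simpa [trans_one] using this

theorem trans_inv_trans (x : WithConv (D →ₐ[R] R)) (d : D) : trans x⁻¹ (trans x d) = d := by
  have := congrArg (fun f => f d) (trans_comp_trans x⁻¹ x)
  simpa [trans_one] using this

/-- Evaluating a translate at a point. -/
theorem point_comp_trans (z x : WithConv (D →ₐ[R] R)) :
    z.ofConv.comp (trans x) = (x * z).ofConv := by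
  unfold trans
  rw [AlgHom.comp_convMul_distrib]
  congr 2
  unfold pt
  apply WithConv.ofConv_injective
  ext d
  simp

end Translate

end Groth.Agent.Lib.Helper25.TorsDense
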