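import Mathlib
import Groth.Prelude.Def_SGA3b
import Groth.Agent.Lib.Helper25Torsion
import Groth.Agent.Lib.Helper25Killed
import Groth.Agent.Lib.Helper25Points
import Groth.Agent.Lib.Helper25TorsDense5

/-!
# Translations by torsion points and torsion ideals; covering by translates (helper25)
-/

set_option autoImplicit false
set_option linter.style.haveILetI false
set_option linter.unusedSectionVars false
universe u

namespace Groth.Agent.Lib.Helper25.TorsDense

open Groth.Agent.Lib.Helper25.Tors SGA3b Coalgebra TensorProduct WithConv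

section TorsionTranslate

variable {R : Type u} [CommRing R] {D : Type u} [CommRing D] [HopfAlgebra R D]

theorem counit_powConv (L : ℕ) (d : D) : counit (R := R) (powConv R D L d) = counit (R := R) d := by
  have h := comp_convPow (Bialgebra.counitAlgHom R D) (toConv (AlgHom.id R D)) L
  have h1 : toConv ((Bialgebra.counitAlgHom R D).comp (toConv (AlgHom.id R D)).ofConv) =
      (1 : WithConv (D →ₐ[R] R)) := by
    apply WithConv.ofConv_injective
    ext d
    simp [AlgHom.convOne_apply]
  rw [h1, one_pow] at h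
  have h2 := congrArg (fun f => f d) h
  simpa [powConv, AlgHom.convOne_apply] using h2

theorem torsionIdeal_mul_le (n L : ℕ) : torsionIdeal R D (n * L) ≤ torsionIdeal R D n := by
  unfold torsionIdeal
  rw [← Groth.Agent.Lib.Helper25.Tors.powConv_comp]
  change Ideal.map ((powConv R D n : D →+* D).comp (powConv R D L : D →+* D)) _ ≤ _
  rw [← Ideal.map_map]
  apply Ideal.map_mono
  rw [Ideal.map_le_iff_le_comap]
  intro d hd
  rw [Ideal.mem_comap, RingHom.mem_ker]
  rw [RingHom.mem_ker] at hd
  change counit (R := R) (powConv R D L d) = 0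
  rw [counit_powConv]
  exact hd

variable [IsCocomm R D]

theorem trans_comp_powConv (x : WithConv (D →ₐ[R] R)) (L : ℕ) (hx : x ^ L = 1) :
    (trans x).comp (powConv R D L) = powConv R D L := by
  let Φ : D →ₐc[R] D := ((toConv (BialgHom.id R D)) ^ L).ofConv
  have hΦ : (Φ : D →ₐ[R] D) = powConv R D L := by
    have := BialgHom.toAlgHom_convPow (toConv (BialgHom.id R D)) L
    exact congrArg WithConv.ofConv this
  rw [← hΦ]
  unfold trans
  rw [AlgHom.convMul_comp_bialgHom_distrib, hΦ]
  have h1 : (pt x).ofConv.comp (powConv R D L) = (1 : WithConv (D →ₐ[R] D)).ofConv := by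
    unfold pt
    rw [ofConv_toConv, AlgHom.comp_assoc]
    have h2 : x.ofConv.comp (powConv R D L) = (x ^ L).ofConv := by
      unfold powConv
      rw [comp_convPow, AlgHom.comp_id, toConv_ofConv]
    rw [h2, hx, ← pt_one]
    rfl
  rw [h1, toConv_ofConv, one_mul, AlgHom.id_comp, ofConv_toConv]

theorem trans_mem_torsionIdeal (x : WithConv (D →ₐ[R] R)) (L : ℕ) (hx : x ^ L = 1) {d : D}
    (hd : d ∈ torsionIdeal R D L) : trans x d ∈ torsionIdeal R D L := by
  have h1 : torsionIdeal R D L ≤ (torsionIdeal R D L).comap (trans x) := by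
    conv_lhs => unfold torsionIdeal
    rw [Ideal.map_le_iff_le_comap]
    intro c hc
    rw [Ideal.mem_comap, Ideal.mem_comap]
    have h2 : trans x (powConv R D L c) = powConv R D L c :=
      congrArg (fun f => f c) (trans_comp_powConv x L hx)
    rw [h2]
    exact Ideal.mem_map_of_mem _ hc
  exact h1 hd

end TorsionTranslate

section Cover

variable {Ω : Type u} [Field Ω] [IsAlgClosed Ω] {D : Type u} [CommRing D] [HopfAlgebra Ω D]
  [Algebra.FiniteType Ω D]

theorem prod_idem_eq_zero_of_span {ι : Type*} (X₀ : Finset ι) (f : ι → D)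
    (hf : ∀ i, IsIdempotentElem (f i))
    (hspan : Ideal.span ((fun i => 1 - f i) '' (X₀ : Set ι)) = ⊤) : ∏ i ∈ X₀, f i = 0 := by
  classical
  let P : D := ∏ i ∈ X₀, f i
  have h1 : Ideal.span ((fun i => 1 - f i) '' (X₀ : Set ι)) ≤ LinearMap.ker (LinearMap.mulLeft D P) := by
    rw [Ideal.span_le]
    rintro _ ⟨i, hi, rfl⟩
    change LinearMap.mulLeft D P (1 - f i) = 0
    rw [LinearMap.mulLeft_apply]
    have h2 : P = f i * ∏ j ∈ X₀.erase i, f j := (Finset.mul_prod_erase X₀ f hi).symm
    rw [h2]
    calc f i * (∏ j ∈ X₀.erase i, f j) * (1 - f i)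
        = (f i - f i * f i) * ∏ j ∈ X₀.erase i, f j := by ring
      _ = 0 := by rw [(hf i).eq, sub_self, zero_mul]
  rw [hspan] at h1
  have h3 : (1 : D) ∈ LinearMap.ker (LinearMap.mulLeft D P) := h1 Submodule.mem_top
  have h4 : LinearMap.mulLeft D P 1 = 0 := h3
  rwa [LinearMap.mulLeft_apply, mul_one] at h4

theorem exists_finset_prod_trans_eq_zero (e : D) (he : IsIdempotentElem e)
    (hε : counit (R := Ω) e = 0) :
    ∃ X₀ : Finset (WithConv (D →ₐ[Ω] Ω)), ∏ x ∈ X₀, trans x e = 0 := by
  classical
  have htop : Ideal.span (Set.range (fun x : WithConv (D →ₐ[Ω] Ω) => 1 - trans x e)) = ⊤ := by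
    by_contra hne
    obtain ⟨z, hz⟩ := Groth.Agent.Lib.Helper25.exists_point_vanishing_on (k := Ω) _ hne
    have h1 := hz (1 - trans (toConv z)⁻¹ e) (Ideal.subset_span ⟨(toConv z)⁻¹, rfl⟩)
    have h2 : z (trans (toConv z)⁻¹ e) = 0 := by
      have := congrArg (fun f => f e) (point_comp_trans (toConv z) (toConv z)⁻¹)
      rw [inv_mul_cancel] at this
      simp only [AlgHom.comp_apply, ofConv_toConv] at this
      rw [this, AlgHom.convOne_apply, hε, map_zero]
    rw [map_sub, map_one, h2, sub_zero] at h1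
    exact one_ne_zero h1
  obtain ⟨s', hs', hs'top⟩ := (Ideal.span_eq_top_iff_finite _).mp htop
  rw [← Set.image_univ] at hs'
  obtain ⟨X₀, -, rfl⟩ := Finset.subset_set_image_iff.mp hs'
  refine ⟨X₀, prod_idem_eq_zero_of_span X₀ (fun x => trans x e) (fun x => he.map (trans x)) ?_⟩
  rw [← hs'top, Finset.coe_image]

end Cover

end Groth.Agent.Lib.Helper25.TorsDense
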