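import Mathlib
import Groth.Prelude.Def_SGA3b
import Groth.Agent.Lib.Helper25Torsion
import Groth.Agent.Lib.Helper25TorsDense6

/-!
# Characters of a finitely generated commutative group with values in an algebraically closed
field: points of the group algebra, extraction of roots (helper25)
-/

set_option autoImplicit false
set_option linter.style.haveILetI false
set_option linter.unusedSectionVars false
universe u

namespace Groth.Agent.Lib.Helper25.TorsDense

open Groth.Agent.Lib.Helper25.Tors SGA3b Coalgebra TensorProduct WithConv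

section Chars

variable (Ω : Type u) [Field Ω] (M : Type u) [CommGroup M]

/-- The point of `Ω[M]` attached to a character. -/
noncomputable def charPt (χ : M →* Ωˣ) : WithConv (MonoidAlgebra Ω M →ₐ[Ω] Ω) :=
  toConv (MonoidAlgebra.lift Ω Ω M ((Units.coeHom Ω).comp χ))

theorem charPt_of (χ : M →* Ωˣ) (m : M) :
    (charPt Ω M χ).ofConv (MonoidAlgebra.of Ω M m) = (χ m : Ω) := by
  simp [charPt]

theorem point_ext {f g : WithConv (MonoidAlgebra Ω M →ₐ[Ω] Ω)}
    (h : ∀ m, f.ofConv (MonoidAlgebra.of Ω M m) = g.ofConv (MonoidAlgebra.of Ω M m)) : f = g := by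
  apply WithConv.ofConv_injective
  apply (MonoidAlgebra.lift Ω Ω M).symm.injective
  ext m
  exact h m

theorem mul_of (f g : WithConv (MonoidAlgebra Ω M →ₐ[Ω] Ω)) (m : M) :
    (f * g).ofConv (MonoidAlgebra.of Ω M m) =
      f.ofConv (MonoidAlgebra.of Ω M m) * g.ofConv (MonoidAlgebra.of Ω M m) := by
  have hgl : IsGroupLikeElem Ω (MonoidAlgebra.of Ω M m) := MonoidAlgebra.isGroupLikeElem_of m
  rw [AlgHom.convMul_apply, hgl.comul_eq_tmul_self, Algebra.TensorProduct.lift_tmul]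

theorem one_of (m : M) :
    (1 : WithConv (MonoidAlgebra Ω M →ₐ[Ω] Ω)).ofConv (MonoidAlgebra.of Ω M m) = 1 := by
  have hgl : IsGroupLikeElem Ω (MonoidAlgebra.of Ω M m) := MonoidAlgebra.isGroupLikeElem_of m
  rw [AlgHom.convOne_apply, hgl.counit_eq_one, map_one]

theorem charPt_mul (χ χ' : M →* Ωˣ) : charPt Ω M (χ * χ') = charPt Ω M χ * charPt Ω M χ' := by
  apply point_ext
  intro m
  rw [mul_of, charPt_of, charPt_of, charPt_of, MonoidHom.mul_apply, Units.val_mul]

theorem charPt_one : charPt Ω M 1 = 1 := by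
  apply point_ext
  intro m
  rw [one_of, charPt_of, MonoidHom.one_apply, Units.val_one]

/-- `charPt` as a monoid homomorphism. -/
noncomputable def charPtHom : (M →* Ωˣ) →* WithConv (MonoidAlgebra Ω M →ₐ[Ω] Ω) where
  toFun := charPt Ω M
  map_one' := charPt_one Ω M
  map_mul' := charPt_mul Ω M

theorem charPtHom_surjective : Function.Surjective (charPtHom Ω M) := by
  intro h
  refine ⟨MonoidHom.toHomUnits
    ((h.ofConv : MonoidAlgebra Ω M →* Ω).comp (MonoidAlgebra.of Ω M)), ?_⟩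
  apply point_ext
  intro m
  change (charPt Ω M _).ofConv _ = _
  rw [charPt_of]
  rfl

end Chars

section Roots

variable (Ω : Type u) [Field Ω] [IsAlgClosed Ω]

theorem exists_unit_pow_eq (w : Ωˣ) {n : ℕ} (hn : 0 < n) : ∃ v : Ωˣ, v ^ n = w := by
  obtain ⟨z, hz⟩ := IsAlgClosed.exists_pow_nat_eq (w : Ω) hn
  have hz0 : z ≠ 0 := by
    rintro rfl
    rw [zero_pow hn.ne'] at hz
    exact w.ne_zero hz.symm
  refine ⟨Units.mk0 z hz0, ?_⟩
  apply Units.ext
  rw [Units.val_pow_eq_pow_val, Units.val_mk0, hz]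

theorem zmod_pi_pow_eq_one {ι : Type} [Fintype ι] (q : ι → ℕ)
    (t : (i : ι) → Multiplicative (ZMod (q i))) : t ^ (∏ i, q i) = 1 := by
  funext i
  change (t i) ^ (∏ i, q i) = 1
  apply Multiplicative.toAdd.injective
  change (∏ i, q i) • Multiplicative.toAdd (t i) = 0
  rw [nsmul_eq_mul]
  have : ((∏ i, q i : ℕ) : ZMod (q i)) = 0 := by
    rw [ZMod.natCast_eq_zero_iff]
    exact Finset.dvd_prod_of_mem q (Finset.mem_univ i)
  rw [this, zero_mul]

theorem exists_pow_eq_pow_free {j : Type} [Fintype j] (θ : (j → Multiplicative ℤ) →* Ωˣ)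
    {n E : ℕ} (hn : 0 < n) :
    ∃ θ' : (j → Multiplicative ℤ) →* Ωˣ, θ' ^ n = θ ^ E := by
  classical
  have key : ∀ i : j, ∃ v : Ωˣ, v ^ n = (θ (Pi.mulSingle i (Multiplicative.ofAdd 1))) ^ E :=
    fun i => exists_unit_pow_eq Ω _ hn
  choose v hv using key
  refine ⟨∏ i, (zpowersHom Ωˣ (v i)).comp (Pi.evalMonoidHom (fun _ => Multiplicative ℤ) i), ?_⟩
  apply MonoidHom.pi_ext
  intro i x
  have h1 : ∀ (f g : (j → Multiplicative ℤ) →* Ωˣ),
      f (Pi.mulSingle i (Multiplicative.ofAdd 1)) = g (Pi.mulSingle i (Multiplicative.ofAdd 1)) →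
      f (Pi.mulSingle i x) = g (Pi.mulSingle i x) := by
    intro f g hfg
    have : f.comp (MonoidHom.mulSingle (fun _ => Multiplicative ℤ) i) =
        g.comp (MonoidHom.mulSingle (fun _ => Multiplicative ℤ) i) := by
      apply MonoidHom.ext_mint
      exact hfg
    exact congrArg (fun h => h x) this
  apply h1
  rw [MonoidHom.pow_apply, MonoidHom.pow_apply, MonoidHom.finsetProd_apply, ← hv i]
  congr 1
  rw [Finset.prod_eq_single i]
  · simp
  · intro i' _ hne
    simp [Pi.mulSingle_eq_of_ne hne]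
  · intro h
    exact absurd (Finset.mem_univ i) h

variable (M : Type u) [CommGroup M] [Group.FG M]

theorem exists_pow_eq_pow (χ₀ : M →* Ωˣ) {m : ℕ} (hm : 0 < m) :
    ∃ E : ℕ, 0 < E ∧ ∃ χ' : M →* Ωˣ, χ' ^ (m * E) = χ₀ ^ E := by
  classical
  obtain ⟨ι, j, _, _, p, hp, e, ⟨ψ⟩⟩ := CommGroup.equiv_free_prod_prod_multiplicative_zmod M
  have hE : 0 < ∏ i, p i ^ e i := Finset.prod_pos (fun i _ => pow_pos (hp i).pos _)
  refine ⟨∏ i, p i ^ e i, hE, ?_⟩
  obtain ⟨θ', hθ'⟩ := exists_pow_eq_pow_free Ω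
    ((χ₀.comp ψ.symm.toMonoidHom).comp (MonoidHom.inl _ _)) (n := m * ∏ i, p i ^ e i)
    (E := ∏ i, p i ^ e i) (Nat.mul_pos hm hE)
  refine ⟨θ'.comp ((MonoidHom.fst _ _).comp ψ.toMonoidHom), ?_⟩
  ext m'
  have h1 := congrArg (fun f => f (ψ m').1) hθ'
  simp only [MonoidHom.pow_apply, MonoidHom.comp_apply, MonoidHom.inl_apply] at h1
  have h2 : m' = ψ.symm ((ψ m').1, 1) * ψ.symm (1, (ψ m').2) := by
    rw [← map_mul, Prod.mk_mul_mk, mul_one, one_mul]
    simp
  have h3 : (χ₀ (ψ.symm (1, (ψ m').2))) ^ (∏ i, p i ^ e i) = 1 := by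
    rw [← map_pow, ← map_pow, Prod.pow_mk, one_pow, zmod_pi_pow_eq_one]
    change χ₀ (ψ.symm 1) = 1
    rw [map_one, map_one]
  rw [MonoidHom.pow_apply, MonoidHom.pow_apply]
  simp only [MonoidHom.comp_apply, MonoidHom.coe_fst]
  congr 1
  conv_rhs => rw [h2, map_mul, mul_pow, h3, mul_one]
  exact h1

end Roots

end Groth.Agent.Lib.Helper25.TorsDense
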