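import Mathlib
import Groth.Prelude.Def_SGA3b
import Groth.Agent.Lib.Helper25Torsion
import Groth.Agent.Lib.Helper25TorsDense6
import Groth.Agent.Lib.Helper25TorsDense7

/-!
# Torsion points in the cosets of an open subgroup of multiplicative type (helper25)
-/

set_option autoImplicit false
set_option linter.style.haveILetI false
set_option linter.unusedSectionVars false
universe u

namespace Groth.Agent.Lib.Helper25.TorsDense

open Groth.Agent.Lib.Helper25.Tors SGA3b Coalgebra TensorProduct WithConv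

section TorsionRep

variable {Ω : Type u} [Field Ω] {D : Type u} [CommRing D] [HopfAlgebra Ω D]
  {B : Type u} [CommRing B] [HopfAlgebra Ω B] (φ : D →ₐc[Ω] B)

/-- Composition of points with a bialgebra map, as a monoid homomorphism. -/
noncomputable def compHom : WithConv (B →ₐ[Ω] Ω) →* WithConv (D →ₐ[Ω] Ω) where
  toFun h := toConv (h.ofConv.comp (φ : D →ₐ[Ω] B))
  map_one' := by
    apply WithConv.ofConv_injective
    ext d
    simp [AlgHom.convOne_apply]
  map_mul' f g := by
    apply WithConv.ofConv_injective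
    rw [ofConv_toConv, AlgHom.convMul_comp_bialgHom_distrib]

theorem compHom_apply (h : WithConv (B →ₐ[Ω] Ω)) (d : D) :
    (compHom φ h).ofConv d = h.ofConv (φ d) := rfl

theorem exists_compHom_eq (hφ : Function.Surjective φ) (g : WithConv (D →ₐ[Ω] Ω))
    (hg : ∀ d, φ d = 0 → g.ofConv d = 0) : ∃ h, compHom φ h = g := by
  refine ⟨toConv (AlgHom.liftOfSurjective (φ : D →ₐ[Ω] B) hφ g.ofConv ?_), ?_⟩
  · intro d hd
    rw [RingHom.mem_ker] at hd ⊢
    exact hg d hd
  · apply WithConv.ofConv_injective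
    exact AlgHom.liftOfSurjective_comp _ _ _ _

end TorsionRep

section TorsionRep2

variable {Ω : Type u} [Field Ω] [IsAlgClosed Ω] {D : Type u} [CommRing D] [HopfAlgebra Ω D]
  [IsCocomm Ω D] {M : Type u} [CommGroup M] [Group.FG M]
  (φ : D →ₐc[Ω] MonoidAlgebra Ω M)

theorem exists_torsion_rep (hφ : Function.Surjective φ) {e : D}
    (hker : RingHom.ker (φ : D →+* MonoidAlgebra Ω M) = Ideal.span {e})
    (x : WithConv (D →ₐ[Ω] Ω)) {m : ℕ} (hm : 0 < m) (hx : (x ^ m).ofConv e = 0) :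
    ∃ g : WithConv (D →ₐ[Ω] Ω), g.ofConv e = 0 ∧ ∃ N : ℕ, 0 < N ∧ (g * x) ^ N = 1 := by
  have hφe : φ e = 0 := by
    have : e ∈ RingHom.ker (φ : D →+* MonoidAlgebra Ω M) := by
      rw [hker]
      exact Ideal.mem_span_singleton_self e
    exact this
  -- factor `x ^ m` through `φ`
  obtain ⟨h₀, hh₀⟩ := exists_compHom_eq φ hφ (x ^ m) (by
    intro d hd
    have hd' : d ∈ Ideal.span {e} := by
      rw [← hker]
      exact hd
    obtain ⟨c, rfl⟩ := Ideal.mem_span_singleton'.mp hd'
    rw [map_mul, hx, mul_zero])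
  obtain ⟨χ₀, hχ₀⟩ := charPtHom_surjective Ω M h₀
  obtain ⟨E, hE, χ', hχ'⟩ := exists_pow_eq_pow Ω M χ₀ hm
  refine ⟨compHom φ (charPtHom Ω M χ'⁻¹), ?_, m * E, Nat.mul_pos hm hE, ?_⟩
  · rw [compHom_apply, hφe, map_zero]
  · have h1 : χ'⁻¹ ^ (m * E) * χ₀ ^ E = 1 := by
      rw [← hχ']
      ext m'
      simp
    rw [mul_pow, pow_mul x, ← hh₀, ← hχ₀, ← map_pow, ← map_pow, ← map_pow, ← map_pow, ← map_mul,
      ← map_mul, h1, map_one, map_one]

end TorsionRep2

end Groth.Agent.Lib.Helper25.TorsDense
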