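import Mathlib
import Groth.Prelude.Def_SGA3b
import Groth.Agent.Lib.Helper25Torsion
import Groth.Agent.Lib.Helper25TorsDense4
import Groth.Agent.Lib.Helper25TorsDense8

/-!
# Translations and bialgebra maps (helper25)
-/

set_option autoImplicit false
set_option linter.style.haveILetI false
set_option linter.unusedSectionVars false
universe u

namespace Groth.Agent.Lib.Helper25.TorsDense

open Groth.Agent.Lib.Helper25.Tors SGA3b Coalgebra TensorProduct WithConv

section MapTrans

variable {Ω : Type u} [Field Ω] {D : Type u} [CommRing D] [HopfAlgebra Ω D]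
  {B : Type u} [CommRing B] [HopfAlgebra Ω B] (φ : D →ₐc[Ω] B)

theorem map_trans (h : WithConv (B →ₐ[Ω] Ω)) :
    (φ : D →ₐ[Ω] B).comp (trans (compHom φ h)) = (trans h).comp (φ : D →ₐ[Ω] B) := by
  unfold trans
  rw [AlgHom.comp_convMul_distrib, AlgHom.convMul_comp_bialgHom_distrib]
  congr 2
  apply WithConv.ofConv_injective
  ext d
  simp only [pt, compHom, MonoidHom.coe_mk, OneHom.coe_mk, ofConv_toConv, AlgHom.comp_apply, Algebra.ofId_apply]
  exact AlgHomClass.commutes φ _

theorem trans_mem_ker {h : WithConv (B →ₐ[Ω] Ω)} {d : D} (hd : φ d = 0) :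
    φ (trans (compHom φ h) d) = 0 := by
  have := congrArg (fun f => f d) (map_trans φ h)
  simp only [AlgHom.comp_apply] at this
  change φ (trans (compHom φ h) d) = trans h (φ d) at this
  rw [this, hd, map_zero]

/-- Translation by a point of the subgroup fixes the idempotent cutting it out. -/
theorem trans_idem_eq {e : D} (he : IsIdempotentElem e)
    (hker : RingHom.ker (φ : D →+* B) = Ideal.span {e}) (h : WithConv (B →ₐ[Ω] Ω)) :
    trans (compHom φ h) e = e := by
  have hφe : φ e = 0 := by
    have : e ∈ RingHom.ker (φ : D →+* B) := by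
      rw [hker]
      exact Ideal.mem_span_singleton_self e
    exact this
  have hmem : ∀ h' : WithConv (B →ₐ[Ω] Ω), ∃ c, trans (compHom φ h') e = c * e := by
    intro h'
    have h1 : trans (compHom φ h') e ∈ RingHom.ker (φ : D →+* B) := trans_mem_ker φ hφe
    rw [hker] at h1
    obtain ⟨c, hc⟩ := Ideal.mem_span_singleton'.mp h1
    exact ⟨c, hc.symm⟩
  obtain ⟨c, hc⟩ := hmem h
  obtain ⟨c', hc'⟩ := hmem h⁻¹
  set e' := trans (compHom φ h) e with he'
  have h2 : e = trans (compHom φ h) c' * e' := by
    have := trans_trans_inv (compHom φ h) e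
    rw [← map_inv, hc', map_mul] at this
    exact this.symm
  have hide' : IsIdempotentElem e' := he.map (trans (compHom φ h))
  have h3 : e' * e = e' := by rw [hc, mul_assoc, he.eq]
  have h4 : e * e' = e := by
    conv_lhs => rw [h2, mul_assoc, hide'.eq]
    exact h2.symm
  rw [← h3, mul_comm, h4]

end MapTrans

end Groth.Agent.Lib.Helper25.TorsDense
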