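import Mathlib
import Groth.Prelude.Def_SGA3b
import Groth.Agent.Lib.Helper25Torsion
import Groth.Agent.Lib.Helper25TorsDense4
import Groth.Agent.Lib.Helper25TorsDense8
import Groth.Agent.Lib.Helper25TorsDense9

/-!
# Density of the torsion in a commutative group with an open diagonalisable subgroup, over an
algebraically closed field (helper25)
-/

set_option autoImplicit false
set_option linter.style.haveILetI false
set_option linter.unusedSectionVars false
universe u

namespace Groth.Agent.Lib.Helper25.TorsDense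

open Groth.Agent.Lib.Helper25.Tors SGA3b Coalgebra TensorProduct WithConv

section CoreField

variable {Ω : Type u} [Field Ω] [IsAlgClosed Ω] {D : Type u} [CommRing D] [HopfAlgebra Ω D]
  [IsCocomm Ω D] [Algebra.FiniteType Ω D] {M : Type u} [CommGroup M]
  (φ : D →ₐc[Ω] MonoidAlgebra Ω M)

/-- Some power of any point lies in the subgroup, given a finite covering by translates. -/
theorem exists_pow_mem_range (hφ : Function.Surjective φ) {e : D}
    (hker : RingHom.ker (φ : D →+* MonoidAlgebra Ω M) = Ideal.span {e})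
    (X₀ : Finset (WithConv (D →ₐ[Ω] Ω))) (hX₀ : ∏ x ∈ X₀, trans x e = 0)
    (x : WithConv (D →ₐ[Ω] Ω)) : ∃ m : ℕ, 0 < m ∧ (x ^ m).ofConv e = 0 := by
  classical
  have hφe : φ e = 0 := by
    have : e ∈ RingHom.ker (φ : D →+* MonoidAlgebra Ω M) := by
      rw [hker]
      exact Ideal.mem_span_singleton_self e
    exact this
  -- every point lies in a coset
  have hcos : ∀ z : WithConv (D →ₐ[Ω] Ω), ∃ x₀ ∈ X₀, x₀ * z ∈ (compHom φ).range := by
    intro z
    have h1 : z.ofConv (∏ x ∈ X₀, trans x e) = 0 := by rw [hX₀, map_zero]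
    rw [map_prod, Finset.prod_eq_zero_iff] at h1
    obtain ⟨x₀, hx₀, h2⟩ := h1
    refine ⟨x₀, hx₀, ?_⟩
    have h3 : (x₀ * z).ofConv e = 0 := by
      have := congrArg (fun f => f e) (point_comp_trans z x₀)
      simp only [AlgHom.comp_apply] at this
      rw [← this]
      exact h2
    obtain ⟨h, hh⟩ := exists_compHom_eq φ hφ (x₀ * z) (by
      intro d hd
      have hd' : d ∈ Ideal.span {e} := by
        rw [← hker]
        exact hd
      obtain ⟨c, rfl⟩ := Ideal.mem_span_singleton'.mp hd'
      rw [map_mul, h3, mul_zero])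
    exact ⟨h, hh⟩
  choose f hf1 hf2 using fun i : ℕ => hcos (x ^ i)
  obtain ⟨i, i', hne, heq⟩ := Finite.exists_ne_map_eq_of_infinite
    (fun i : ℕ => (⟨f i, hf1 i⟩ : {x₀ // x₀ ∈ X₀}))
  have heq' : f i = f i' := congrArg Subtype.val heq
  -- WLOG `i < i'`
  have key : ∀ i i' : ℕ, i < i' → f i = f i' → ∃ m : ℕ, 0 < m ∧ (x ^ m).ofConv e = 0 := by
    intro i i' hlt heq'
    refine ⟨i' - i, Nat.sub_pos_of_lt hlt, ?_⟩
    have h1 : x ^ (i' - i) ∈ (compHom φ).range := by
      have h2 : x ^ (i' - i) = (f i * x ^ i)⁻¹ * (f i' * x ^ i') := by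
        rw [heq']
        have : x ^ i' = x ^ i * x ^ (i' - i) := by
          rw [← pow_add]
          congr 1
          omega
        rw [this]
        group
      rw [h2]
      exact (compHom φ).range.mul_mem ((compHom φ).range.inv_mem (hf2 i)) (hf2 i')
    obtain ⟨h, hh⟩ := h1
    rw [← hh, compHom_apply, hφe, map_zero]
  rcases Nat.lt_or_gt_of_ne hne with hlt | hlt
  · exact key i i' hlt heq'
  · exact key i' i hlt heq'.symm

/-- Density of the torsion in a commutative group over an algebraically closed field with an open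
diagonalisable subgroup. -/
theorem core_field (hφ : Function.Surjective φ) {e : D} (he : IsIdempotentElem e)
    (hker : RingHom.ker (φ : D →+* MonoidAlgebra Ω M) = Ideal.span {e}) (a y : D)
    (hyp : ∀ n : ℕ, 0 < n → ∃ j : ℕ, a ^ j * y ∈ torsionIdeal Ω D n) :
    ∃ j : ℕ, a ^ j * y = 0 := by
  classical
  have hφe : φ e = 0 := by
    have : e ∈ RingHom.ker (φ : D →+* MonoidAlgebra Ω M) := by
      rw [hker]
      exact Ideal.mem_span_singleton_self e
    exact this
  have hε : counit (R := Ω) e = 0 := by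
    rw [← CoalgHomClass.counit_comp_apply φ, hφe, map_zero]
  have hftM : Algebra.FiniteType Ω (MonoidAlgebra Ω M) :=
    Algebra.FiniteType.of_surjective (φ : D →ₐ[Ω] MonoidAlgebra Ω M) hφ
  haveI : Group.FG M := MonoidAlgebra.finiteType_iff_group_fg.mp hftM
  obtain ⟨X₀, hX₀⟩ := exists_finset_prod_trans_eq_zero (Ω := Ω) e he hε
  -- for each member of the covering
  have hx : ∀ x ∈ X₀, ∃ j : ℕ, ∀ j' : ℕ, j ≤ j' → a ^ j' * y = a ^ j' * y * trans x e := by
    intro x _
    obtain ⟨m, hm, hxm⟩ := exists_pow_mem_range φ hφ hker X₀ hX₀ x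
    obtain ⟨g, hg, N, hN, hgx⟩ := exists_torsion_rep φ hφ hker x hm hxm
    obtain ⟨h, hh⟩ := exists_compHom_eq φ hφ g (by
      intro d hd
      have hd' : d ∈ Ideal.span {e} := by
        rw [← hker]
        exact hd
      obtain ⟨c, rfl⟩ := Ideal.mem_span_singleton'.mp hd'
      rw [map_mul, hg, mul_zero])
    -- the torsion representative
    have hte : trans (g * x) e = trans x e := by
      rw [← trans_comp_trans, AlgHom.comp_apply, ← hh, trans_idem_eq φ he hker]
    have hinv : ∀ n : ℕ, ((g * x)⁻¹) ^ (n * N) = 1 := by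
      intro n
      rw [inv_pow, pow_mul', hgx, one_pow, inv_one]
    -- apply density in the group algebra
    obtain ⟨j, hj⟩ := monoidAlgebra_dense Ω M (φ (trans (g * x)⁻¹ a)) (φ (trans (g * x)⁻¹ y))
      (fun n hn => by
        obtain ⟨j, hj⟩ := hyp (n * N) (Nat.mul_pos hn hN)
        refine ⟨j, ?_⟩
        have h1 := trans_mem_torsionIdeal (g * x)⁻¹ (n * N) (hinv n) hj
        have h2 := torsionIdeal_mul_le n N h1
        have h3 := map_mem_torsionIdeal φ n h2
        rwa [map_mul, map_pow, map_mul, map_pow] at h3)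
    refine ⟨j, ?_⟩
    intro j' hj'
    have h1 : φ (trans (g * x)⁻¹ (a ^ j * y)) = 0 := by
      rw [map_mul, map_pow, map_mul, map_pow]
      exact hj
    have h2 : trans (g * x)⁻¹ (a ^ j * y) ∈ Ideal.span {e} := by
      rw [← hker]
      exact h1
    obtain ⟨c, hc⟩ := Ideal.mem_span_singleton'.mp h2
    have h3 : a ^ j * y = trans (g * x) c * trans x e := by
      have := trans_trans_inv (g * x) (a ^ j * y)
      rw [← hc, map_mul, hte] at this
      exact this.symm
    have h4 : a ^ j' * y = a ^ (j' - j) * (a ^ j * y) := by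
      rw [← mul_assoc, ← pow_add]
      congr 2
      omega
    have hid : IsIdempotentElem (trans x e) := he.map (trans x)
    rw [h4, h3]
    have : trans (g * x) c * trans x e * trans x e = trans (g * x) c * trans x e := by
      rw [mul_assoc, hid.eq]
    rw [mul_assoc (a ^ (j' - j)), this]
  choose! ν hν using hx
  refine ⟨∑ x ∈ X₀, ν x, ?_⟩
  have hall : ∀ x ∈ X₀, a ^ (∑ x ∈ X₀, ν x) * y = a ^ (∑ x ∈ X₀, ν x) * y * trans x e :=
    fun x hx => hν x hx _ (Finset.single_le_sum (f := ν) (fun _ _ => Nat.zero_le _) hx)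
  have hprod : ∀ S : Finset (WithConv (D →ₐ[Ω] Ω)), S ⊆ X₀ →
      a ^ (∑ x ∈ X₀, ν x) * y = a ^ (∑ x ∈ X₀, ν x) * y * ∏ x ∈ S, trans x e := by
    intro S
    induction S using Finset.induction_on with
    | empty => intro _; rw [Finset.prod_empty, mul_one]
    | insert s S hs ih =>
      intro hsub
      rw [Finset.prod_insert hs, ← mul_assoc, ← hall s (hsub (Finset.mem_insert_self s S))]
      exact ih (fun x hx => hsub (Finset.mem_insert_of_mem hx))
  rw [hprod X₀ (Finset.Subset.refl _), hX₀, mul_zero]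

end CoreField

end Groth.Agent.Lib.Helper25.TorsDense
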