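import Groth.Agent.Lib.Helper25AdicE
import Groth.Agent.Lib.Helper25TorsDense10
import Groth.Agent.Lib.Helper25HPoints

/-!
# Commutative groups with finite torsion over a complete base (helper25)

`mem_of_finite_quotient` (Nakayama), `finite_quot_torsionIdeal_baseChange`,
`idem_eq_zero_of_mem_torsionIdeal` (via the density of torsion, SGA3 XV / S5300).
-/

set_option autoImplicit false
set_option linter.unusedSectionVars false
set_option linter.style.haveILetI false
universe u

namespace Groth.Agent.Lib.Helper25.Adic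

open TensorProduct SGA3b Groth.Agent.Lib.Helper25 BCB

section Nak

theorem mem_of_finite_quotient {P : Type u} [CommRing P] (J : Ideal P)
    (hJ : J ≤ Ideal.jacobson ⊥) {D : Type u} [CommRing D] [Algebra P D] (e : D)
    (K : Submodule P D) (hK : ∀ k ∈ K, ∃ c, k = c * e) (he : e ∈ J • K) (T : Ideal D)
    [Module.Finite P (D ⧸ T)] : e ∈ T := by
  let mkA : D →ₐ[P] D ⧸ T := Ideal.Quotient.mkₐ P T
  let N' : Submodule P (D ⧸ T) := LinearMap.range (LinearMap.mulLeft P (mkA e))
  have hfg : N'.FG := by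
    change (LinearMap.range (LinearMap.mulLeft P (mkA e))).FG
    rw [LinearMap.range_eq_map]
    exact Submodule.FG.map _ Module.Finite.fg_top
  have hkey : ∀ z ∈ J • K, ∀ y : D ⧸ T, mkA z * y ∈ J • N' := by
    intro z hz
    refine Submodule.smul_induction_on hz ?_ ?_
    · intro j hj k hk y
      obtain ⟨c, rfl⟩ := hK k hk
      have h1 : mkA (j • (c * e)) * y = j • (mkA e * (mkA c * y)) := by
        rw [map_smul, map_mul, smul_mul_assoc]
        congr 1
        ring
      rw [h1]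
      exact Submodule.smul_mem_smul hj ⟨_, rfl⟩
    · intro a b ha hb y
      rw [map_add, add_mul]
      exact Submodule.add_mem _ (ha y) (hb y)
  have hle : N' ≤ J • N' := by
    rintro _ ⟨y, rfl⟩
    exact hkey e he y
  have hbot := Submodule.eq_bot_of_le_smul_of_le_jacobson_bot J N' hfg hle hJ
  have h2 : mkA e * 1 ∈ N' := ⟨1, rfl⟩
  rw [hbot, Submodule.mem_bot, mul_one] at h2
  exact Ideal.Quotient.eq_zero_iff_mem.mp h2

end Nak

section FinBC

variable (A : Type u) [CommRing A] (C : Type u) [CommRing C] [HopfAlgebra A C]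
  (P : Type u) [CommRing P] [Algebra A P]

theorem finite_quot_torsionIdeal_baseChange (n : ℕ)
    [Module.Finite A (C ⧸ torsionIdeal A C n)] :
    Module.Finite P ((P ⊗[A] C) ⧸ torsionIdeal P (P ⊗[A] C) n) := by
  let ι : C →ₐ[A] P ⊗[A] C := Algebra.TensorProduct.includeRight
  have hι : torsionIdeal A C n ≤ (torsionIdeal P (P ⊗[A] C) n).comap ι := by
    intro c hc
    exact Tors.one_tmul_mem_torsionIdeal P n hc
  let g : C ⧸ torsionIdeal A C n →ₐ[A] (P ⊗[A] C) ⧸ torsionIdeal P (P ⊗[A] C) n :=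
    Ideal.quotientMapₐ (torsionIdeal P (P ⊗[A] C) n) ι hι
  have hg : ∀ c : C, g (Ideal.Quotient.mk _ c) = Ideal.Quotient.mk _ ((1 : P) ⊗ₜ[A] c) :=
    fun c => rfl
  let L : P ⊗[A] (C ⧸ torsionIdeal A C n) →ₗ[P] (P ⊗[A] C) ⧸ torsionIdeal P (P ⊗[A] C) n :=
    LinearMap.liftBaseChange P g.toLinearMap
  have hL : Function.Surjective L := by
    intro y
    obtain ⟨z, rfl⟩ := Ideal.Quotient.mk_surjective y
    induction z using TensorProduct.induction_on with
    | zero => exact ⟨0, by rw [map_zero, map_zero]⟩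
    | add x y hx hy =>
      obtain ⟨a, ha⟩ := hx
      obtain ⟨b, hb⟩ := hy
      exact ⟨a + b, by rw [map_add, ha, hb, map_add]⟩
    | tmul p c =>
      refine ⟨p ⊗ₜ[A] Ideal.Quotient.mk _ c, ?_⟩
      rw [LinearMap.liftBaseChange_tmul]
      change p • g (Ideal.Quotient.mk _ c) = _
      rw [hg]
      have h1 : p ⊗ₜ[A] c = p • ((1 : P) ⊗ₜ[A] c) := by
        rw [TensorProduct.smul_tmul', smul_eq_mul, mul_one]
      rw [h1]
      rfl
  exact Module.Finite.of_surjective L hL

end FinBC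

section Fibre

variable {P : Type u} [CommRing P] {D : Type u} [CommRing D] [HopfAlgebra P D]
  [Coalgebra.IsCocomm P D] {M : Type u} [CommGroup M]

/-- An idempotent generating the kernel of a surjection onto a group algebra and lying in all
torsion ideals vanishes (density of torsion in the fibres). -/
theorem idem_eq_zero_of_mem_torsionIdeal (hft : Algebra.FiniteType P D)
    (F : D →ₐc[P] MonoidAlgebra P M) (hFs : Function.Surjective F) (e : D)
    (he : IsIdempotentElem e)
    (hke : RingHom.ker (F : D →+* MonoidAlgebra P M) = Ideal.span {e})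
    (hmem : ∀ n : ℕ, 0 < n → e ∈ torsionIdeal P D n) : e = 0 := by
  apply he.eq_zero_of_isNilpotent
  rw [nilpotent_iff_mem_prime]
  intro 𝔯 h𝔯
  let q : Ideal P := 𝔯.comap (algebraMap P D)
  haveI hq : q.IsPrime := Ideal.IsPrime.comap _
  let Ω := AlgebraicClosure q.ResidueField
  haveI := hft
  let φ : Ω ⊗[P] D →ₐc[Ω] MonoidAlgebra Ω M :=
    ((steBialg P Ω M : Ω ⊗[P] MonoidAlgebra P M ≃ₐc[Ω] MonoidAlgebra Ω M) :
      Ω ⊗[P] MonoidAlgebra P M →ₐc[Ω] MonoidAlgebra Ω M).comp
      (Bialgebra.TensorProduct.map (BialgHom.id Ω Ω) F)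
  have hφapp : ∀ z, φ z = steBialg P Ω M (Algebra.TensorProduct.map (AlgHom.id P Ω)
      (F : D →ₐ[P] MonoidAlgebra P M) z) := by
    intro z
    induction z using TensorProduct.induction_on with
    | zero => simp
    | add x y hx hy => rw [map_add, hx, hy, map_add, map_add]
    | tmul t d => rfl
  have hmapsurj : Function.Surjective (Algebra.TensorProduct.map (AlgHom.id P Ω)
      (F : D →ₐ[P] MonoidAlgebra P M)) := by
    intro w
    induction w using TensorProduct.induction_on with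
    | zero => exact ⟨0, map_zero _⟩
    | add x y hx hy =>
      obtain ⟨a, rfl⟩ := hx
      obtain ⟨b, rfl⟩ := hy
      exact ⟨a + b, map_add _ _ _⟩
    | tmul t x =>
      obtain ⟨d, rfl⟩ := hFs x
      exact ⟨t ⊗ₜ[P] d, rfl⟩
  have hφs : Function.Surjective φ := by
    intro x
    obtain ⟨w, hw⟩ := (steBialg P Ω M).surjective x
    obtain ⟨z, rfl⟩ := hmapsurj w
    exact ⟨z, by rw [hφapp]; exact hw⟩
  have hkerφ : RingHom.ker (φ : Ω ⊗[P] D →+* MonoidAlgebra Ω M) =
      Ideal.span {(1 : Ω) ⊗ₜ[P] e} := by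
    have h1 : RingHom.ker (φ : Ω ⊗[P] D →+* MonoidAlgebra Ω M) =
        RingHom.ker (Algebra.TensorProduct.map (AlgHom.id P Ω)
          (F : D →ₐ[P] MonoidAlgebra P M)) := by
      ext x
      rw [RingHom.mem_ker, RingHom.mem_ker]
      change φ x = 0 ↔ _
      rw [hφapp, EmbeddingLike.map_eq_zero_iff]
    have h2 : RingHom.ker (F : D →ₐ[P] MonoidAlgebra P M) = Ideal.span {e} := hke
    rw [h1, Algebra.TensorProduct.lTensor_ker _ hFs, h2, Ideal.map_span, Set.image_singleton]
    rfl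
  have hide : IsIdempotentElem ((1 : Ω) ⊗ₜ[P] e) := by
    change ((1 : Ω) ⊗ₜ[P] e) * ((1 : Ω) ⊗ₜ[P] e) = _
    rw [Algebra.TensorProduct.tmul_mul_tmul, one_mul, he.eq]
  obtain ⟨j, hj⟩ := TorsDense.core_field φ hφs hide hkerφ 1 ((1 : Ω) ⊗ₜ[P] e) (fun n hn =>
    ⟨0, by
      rw [pow_zero, one_mul]
      exact Tors.one_tmul_mem_torsionIdeal Ω n (hmem n hn)⟩)
  rw [one_pow, one_mul] at hj
  -- a prime of `Ω ⊗ D` over `𝔯`
  have hcomap : (⊥ : Ideal Ω).comap (algebraMap P Ω) = 𝔯.comap (algebraMap P D) := by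
    change RingHom.ker (algebraMap P Ω) = q
    rw [IsScalarTower.algebraMap_eq P q.ResidueField Ω, ← RingHom.comap_ker,
      (RingHom.injective_iff_ker_eq_bot _).mp (algebraMap q.ResidueField Ω).injective,
      ← RingHom.ker_eq_comap_bot, Ideal.ker_algebraMap_residueField]
  haveI : (⊥ : Ideal Ω).IsPrime := Ideal.isPrime_bot
  obtain ⟨z, hz, -, hz2⟩ := HPoints.exists_prime_tensor (⊥ : Ideal Ω) 𝔯 hcomap
  rw [← hz2, Ideal.mem_comap]
  change (1 : Ω) ⊗ₜ[P] e ∈ z
  rw [hj]
  exact Ideal.zero_mem _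

end Fibre

end Groth.Agent.Lib.Helper25.Adic
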