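import Groth.Agent.Lib.Helper25AdicE

/-!
# Algebraization without flatness (helper25)

* `finite_support_of_orth`: orthogonal idempotent functionals on a coalgebra over a Noetherian ring
  have finite support on every element (determinant trick + Noetherian induction); no flatness.
* `exists_algebraization'`: `exists_algebraization` without flatness of `C`.
* `level_exists'`, `level_unique'`, `exists_bialgHom_lift_adic'`: the lifting results of
  `Helper25AdicC` assuming only that the reductions `R/J^{n+1} ⊗ C` are flat.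
* `exists_surj_idem'`.
-/

set_option autoImplicit false
set_option linter.unusedSectionVars false
set_option linter.style.haveILetI false
universe u

namespace Groth.Agent.Lib.Helper25.Adic

open TensorProduct SGA3b Groth.Agent.Lib.Helper25 DescGL DescLift BCB HomLift

section Orth

variable {R : Type u} [CommRing R] {C : Type u} [CommRing C] [Bialgebra R C] {M : Type u}
  (φ : M → (C →ₗ[R] R))

theorem conv_eq_sum (α β : C →ₗ[R] R) (c : C) (s : Finset (C × C))
    (hs : Coalgebra.comul (R := R) c = ∑ i ∈ s, i.1 ⊗ₜ[R] i.2) :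
    conv α β c = ∑ i ∈ s, α i.1 * β i.2 := by
  rw [conv_apply, hs, map_sum, map_sum]
  apply Finset.sum_congr rfl
  intro i _
  rw [TensorProduct.map_tmul, LinearMap.mul'_apply]

/-- Determinant trick: if `Δ c` has `r` terms, the product of `r + 1` distinct coefficients
vanishes. -/
theorem prod_eq_zero_of_orth [DecidableEq M]
    (hΔ : ∀ a b c, conv (φ a) (φ b) c = if a = b then φ b c else 0)
    (c : C) (s : Finset (C × C))
    (hs : Coalgebra.comul (R := R) c = ∑ i ∈ s, i.1 ⊗ₜ[R] i.2)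
    (m : Option s → M) (hm : Function.Injective m) : ∏ j, φ (m j) c = 0 := by
  classical
  let X : Matrix (Option s) (Option s) R := fun j k =>
    match k with
    | none => 0
    | some i => φ (m j) i.1.1
  let Y : Matrix (Option s) (Option s) R := fun k j =>
    match k with
    | none => 0
    | some i => φ (m j) i.1.2
  have hXY : X * Y = Matrix.diagonal (fun j => φ (m j) c) := by
    ext j j'
    rw [Matrix.mul_apply, Fintype.sum_option]
    have h1 : X j none * Y none j' = 0 := by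
      change (0 : R) * 0 = 0
      rw [zero_mul]
    have h2 : ∀ i : s, X j (some i) * Y (some i) j' = φ (m j) i.1.1 * φ (m j') i.1.2 :=
      fun i => rfl
    rw [h1, zero_add]
    simp only [h2]
    have h3 := hΔ (m j) (m j') c
    rw [conv_eq_sum _ _ c s hs, ← Finset.sum_coe_sort s] at h3
    rw [h3, Matrix.diagonal_apply]
    by_cases hjj : j = j'
    · subst hjj
      rw [if_pos rfl, if_pos rfl]
    · rw [if_neg hjj, if_neg (fun h => hjj (hm h))]
  have hdet : X.det = 0 := Matrix.det_eq_zero_of_column_eq_zero none (fun j => rfl)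
  have h4 := congrArg Matrix.det hXY
  rw [Matrix.det_mul, hdet, zero_mul, Matrix.det_diagonal] at h4
  exact h4.symm

theorem finite_notMem_prime_of_orth [DecidableEq M]
    (hΔ : ∀ a b c, conv (φ a) (φ b) c = if a = b then φ b c else 0)
    (p : Ideal R) [p.IsPrime] (c : C) : {m | φ m c ∉ p}.Finite := by
  classical
  by_contra hinf
  obtain ⟨s, hs⟩ := TensorProduct.exists_finset (Coalgebra.comul (R := R) c)
  have hinf' : Set.Infinite {m | φ m c ∉ p} := hinf
  haveI : Infinite ↥{m | φ m c ∉ p} := hinf'.to_subtype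
  let emb := Infinite.natEmbedding ↥{m | φ m c ∉ p}
  let m : Option s → M := fun j => (emb (Fintype.equivFin (Option s) j).val).1
  have hm : Function.Injective m := by
    intro j j' h
    have h1 : emb (Fintype.equivFin (Option s) j).val = emb (Fintype.equivFin (Option s) j').val :=
      Subtype.ext h
    have h2 := emb.injective h1
    exact (Fintype.equivFin (Option s)).injective (Fin.ext h2)
  have h0 := prod_eq_zero_of_orth φ hΔ c s hs m hm
  have h1 : ∏ j, φ (m j) c ∈ p := by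
    rw [h0]
    exact p.zero_mem
  obtain ⟨j, _, hj⟩ := (Ideal.IsPrime.prod_mem_iff).mp h1
  exact (emb (Fintype.equivFin (Option s) j).val).2 hj

theorem finite_notMem_of_orth [IsNoetherianRing R] [DecidableEq M]
    (hΔ : ∀ a b c, conv (φ a) (φ b) c = if a = b then φ b c else 0)
    (𝔞 : Ideal R) : ∀ c, {m | φ m c ∉ 𝔞}.Finite := by
  classical
  refine IsNoetherian.induction (P := fun 𝔞 : Ideal R => ∀ c, {m | φ m c ∉ 𝔞}.Finite) ?_ 𝔞
  intro (𝔞 : Ideal R) ih c
  by_cases htop : 𝔞 = ⊤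
  · subst htop
    have : {m | φ m c ∉ (⊤ : Ideal R)} = ∅ := by
      ext m
      simp
    rw [this]
    exact Set.finite_empty
  by_cases hp : Ideal.IsPrime 𝔞
  · exact finite_notMem_prime_of_orth φ hΔ 𝔞 c
  · obtain ⟨x, hx, y, hy, hxy⟩ := (Ideal.not_isPrime_iff.mp hp).resolve_left htop
    have h1 : 𝔞 < 𝔞 ⊔ Ideal.span {x} := by
      apply lt_of_le_of_ne le_sup_left
      intro h
      apply hx
      rw [h]
      exact Ideal.mem_sup_right (Ideal.mem_span_singleton_self x)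
    have h2 : 𝔞 < 𝔞 ⊔ Ideal.span {y} := by
      apply lt_of_le_of_ne le_sup_left
      intro h
      apply hy
      rw [h]
      exact Ideal.mem_sup_right (Ideal.mem_span_singleton_self y)
    have hmul : (𝔞 ⊔ Ideal.span {x}) * (𝔞 ⊔ Ideal.span {y}) ≤ 𝔞 := by
      rw [Ideal.sup_mul, Ideal.mul_sup, Ideal.mul_sup]
      refine sup_le (sup_le Ideal.mul_le_left Ideal.mul_le_left) (sup_le Ideal.mul_le_right ?_)
      rw [Ideal.span_singleton_mul_span_singleton, Ideal.span_singleton_le_iff_mem]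
      exact hxy
    obtain ⟨s, hs⟩ := TensorProduct.exists_finset (Coalgebra.comul (R := R) c)
    let T : Set M := ⋃ i ∈ s, ({m | φ m i.1 ∉ 𝔞 ⊔ Ideal.span {x}} ∪
      {m | φ m i.2 ∉ 𝔞 ⊔ Ideal.span {y}})
    have hT : T.Finite := Set.Finite.biUnion s.finite_toSet
      (fun i _ => (ih _ h1 i.1).union (ih _ h2 i.2))
    refine hT.subset ?_
    intro m hm
    by_contra hmT
    apply hm
    have h3 : φ m c = ∑ i ∈ s, φ m i.1 * φ m i.2 := by
      have h4 := hΔ m m c
      rw [if_pos rfl, conv_eq_sum _ _ c s hs] at h4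
      exact h4.symm
    rw [h3]
    apply Ideal.sum_mem
    intro i hi
    apply hmul
    apply Ideal.mul_mem_mul
    · by_contra h
      exact hmT (Set.mem_biUnion hi (Or.inl h))
    · by_contra h
      exact hmT (Set.mem_biUnion hi (Or.inr h))

/-- Orthogonal idempotent functionals have finite support on every element; no flatness. -/
theorem finite_support_of_orth [IsNoetherianRing R] [DecidableEq M]
    (hΔ : ∀ a b c, conv (φ a) (φ b) c = if a = b then φ b c else 0) (c : C) :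
    {m | φ m c ≠ 0}.Finite := by
  have h := finite_notMem_of_orth φ hΔ ⊥ c
  refine h.subset ?_
  intro m hm
  exact fun h0 => hm ((Submodule.mem_bot R).mp h0)

end Orth


section ALG'

variable {R : Type u} [CommRing R] (J : Ideal R)
  {C : Type u} [CommRing C] [Bialgebra R C] {M : Type u} [CommGroup M]

/-- `exists_algebraization` without flatness of `C`. -/
theorem exists_algebraization' [IsNoetherianRing R] [IsAdicComplete J R]
    (f : ∀ n : ℕ, (R ⧸ J ^ (n + 1)) ⊗[R] C →ₐc[R ⧸ J ^ (n + 1)]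
      MonoidAlgebra (R ⧸ J ^ (n + 1)) M)
    (hf : ∀ n c, MonoidAlgebra.mapRingHom M
        (Ideal.Quotient.factor (Ideal.pow_le_pow_right (Nat.le_succ (n + 1))))
        (f (n + 1) ((1 : R ⧸ J ^ (n + 1 + 1)) ⊗ₜ[R] c)) = f n ((1 : R ⧸ J ^ (n + 1)) ⊗ₜ[R] c)) :
    ∃ F : C →ₐc[R] MonoidAlgebra R M, ∀ n c,
      MonoidAlgebra.mapRingHom M (Ideal.Quotient.mk (J ^ (n + 1))) (F c) =
        f n ((1 : R ⧸ J ^ (n + 1)) ⊗ₜ[R] c) := by
  classical
  let ψ : ∀ n, M → (C →ₗ[R] R ⧸ J ^ (n + 1)) :=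
    fun n m => coeffBC (f n).toCoalgHom.toLinearMap m
  have hψ : ∀ n m c, ψ n m c = (f n ((1 : R ⧸ J ^ (n + 1)) ⊗ₜ[R] c)).coeff m :=
    fun _ _ _ => rfl
  have hcompat : ∀ n m c,
      Ideal.Quotient.factor (Ideal.pow_le_pow_right (Nat.le_succ (n + 1))) (ψ (n + 1) m c) =
        ψ n m c := by
    intro n m c
    rw [hψ, hψ, ← hf n c, MonoidAlgebra.coeff_mapRingHom]
  have hex : ∀ m c, ∃ L : R, ∀ n, Ideal.Quotient.mk (J ^ (n + 1)) L = ψ n m c :=
    fun m c => exists_limit J (fun n => ψ n m c) (fun n => hcompat n m c)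
  choose φf hφf using hex
  have hsm : ∀ (n : ℕ) (r x : R), Ideal.Quotient.mk (J ^ (n + 1)) (r • x) =
      r • Ideal.Quotient.mk (J ^ (n + 1)) x := by
    intro n r x
    rw [smul_eq_mul, map_mul, Algebra.smul_def, Ideal.Quotient.algebraMap_eq]
  let φ : M → (C →ₗ[R] R) := fun m =>
    { toFun := φf m
      map_add' := fun x y => by
        apply eq_of_forall_mk_eq J
        intro n
        rw [map_add, hφf, hφf, hφf, map_add]
      map_smul' := fun r x => by
        apply eq_of_forall_mk_eq J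
        intro n
        rw [RingHom.id_apply, hsm, hφf, hφf, map_smul] }
  have hφ : ∀ m c n, Ideal.Quotient.mk (J ^ (n + 1)) (φ m c) = ψ n m c := fun m c n => hφf m c n
  have hΔ : ∀ a b c, conv (φ a) (φ b) c = if a = b then φ b c else 0 := by
    intro a b c
    apply eq_of_forall_mk_eq J
    intro n
    have h1 := conv_coeffBC (f n).toCoalgHom a b c
    have h2 : ∀ w : C ⊗[R] C, Ideal.Quotient.mk (J ^ (n + 1))
        (LinearMap.mul' R R (TensorProduct.map (φ a) (φ b) w)) =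
        LinearMap.mul' R (R ⧸ J ^ (n + 1)) (TensorProduct.map (ψ n a) (ψ n b) w) := by
      intro w
      induction w using TensorProduct.induction_on with
      | zero => simp
      | add x y hx hy => simp only [map_add, hx, hy]
      | tmul x y =>
        rw [TensorProduct.map_tmul, TensorProduct.map_tmul, LinearMap.mul'_apply,
          LinearMap.mul'_apply, map_mul, hφ, hφ]
    rw [conv_apply, h2, h1]
    split_ifs
    · rw [hφ, hψ]
      rfl
    · rw [map_zero]
  have hfin := finite_support_of_orth φ hΔ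
  let Fl : C →ₗ[R] MonoidAlgebra R M :=
    { toFun := fun c => MonoidAlgebra.ofCoeff (Finsupp.ofSupportFinite (fun m => φ m c) (hfin c))
      map_add' := fun x y => by
        apply MonoidAlgebra.coeff_injective
        ext m
        simp [Finsupp.ofSupportFinite_coe]
      map_smul' := fun r x => by
        apply MonoidAlgebra.coeff_injective
        ext m
        simp [Finsupp.ofSupportFinite_coe] }
  have hFl : ∀ c m, (Fl c).coeff m = φ m c := fun c m => rfl
  have hFn : ∀ n c, MonoidAlgebra.mapRingHom M (Ideal.Quotient.mk (J ^ (n + 1))) (Fl c) =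
      f n ((1 : R ⧸ J ^ (n + 1)) ⊗ₜ[R] c) := by
    intro n c
    apply MonoidAlgebra.coeff_injective
    ext m
    rw [MonoidAlgebra.coeff_mapRingHom, hFl, hφ, hψ]
  have hone : Fl 1 = 1 := by
    apply sub_eq_zero.mp
    apply monoidAlgebra_eq_zero_of_forall_map J
    intro n
    rw [map_sub, hFn, map_one, ← Algebra.TensorProduct.one_def, map_one, sub_self]
  have hmul : ∀ x y, Fl (x * y) = Fl x * Fl y := by
    intro x y
    apply sub_eq_zero.mp
    apply monoidAlgebra_eq_zero_of_forall_map J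
    intro n
    have h1 : (1 : R ⧸ J ^ (n + 1)) ⊗ₜ[R] (x * y) =
        ((1 : R ⧸ J ^ (n + 1)) ⊗ₜ[R] x) * ((1 : R ⧸ J ^ (n + 1)) ⊗ₜ[R] y) := by
      rw [Algebra.TensorProduct.tmul_mul_tmul, mul_one]
    rw [map_sub, hFn, RingHom.map_mul, hFn, hFn, h1, map_mul, sub_self]
  let Fa : C →ₐ[R] MonoidAlgebra R M := AlgHom.ofLinearMap Fl hone hmul
  have hFa : ∀ c, Fa c = Fl c := fun _ => rfl
  have hcounit : (Bialgebra.counitAlgHom R (MonoidAlgebra R M)).comp Fa =
      Bialgebra.counitAlgHom R C := by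
    apply AlgHom.ext
    intro c
    apply eq_of_forall_mk_eq J
    intro n
    change Ideal.Quotient.mk (J ^ (n + 1)) (Coalgebra.counit (R := R) (Fl c)) =
      Ideal.Quotient.mk (J ^ (n + 1)) (Coalgebra.counit (R := R) c)
    rw [← counit_mapRingHom, hFn]
    have h1 : Coalgebra.counit (R := R ⧸ J ^ (n + 1)) (f n ((1 : R ⧸ J ^ (n + 1)) ⊗ₜ[R] c)) =
        Coalgebra.counit (R := R ⧸ J ^ (n + 1)) ((1 : R ⧸ J ^ (n + 1)) ⊗ₜ[R] c) :=
      CoalgHomClass.counit_comp_apply (f n) _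
    rw [h1, TensorProduct.counit_tmul, CommSemiring.counit_apply, Algebra.smul_def, mul_one,
      Ideal.Quotient.algebraMap_eq]
  have hcomul : (Algebra.TensorProduct.map Fa Fa).comp (Bialgebra.comulAlgHom R C) =
      (Bialgebra.comulAlgHom R (MonoidAlgebra R M)).comp Fa := by
    apply AlgHom.ext
    intro c
    apply sub_eq_zero.mp
    apply coeff2_eq_zero R
    intro a b
    rw [map_sub, sub_eq_zero]
    have hca : ∀ m, coeffL R m ∘ₗ Fl = φ m := fun m => LinearMap.ext (fun c => hFl c m)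
    have h1 : ((Algebra.TensorProduct.map Fa Fa).comp (Bialgebra.comulAlgHom R C)) c =
        TensorProduct.map Fl Fl (Coalgebra.comul (R := R) c) := rfl
    have h2 : ((Bialgebra.comulAlgHom R (MonoidAlgebra R M)).comp Fa) c =
        Coalgebra.comul (R := R) (Fl c) := rfl
    rw [h1, h2, coeff2_map, coeff2_comul, hca, hca, ← conv_apply, hΔ, hFl]
  exact ⟨BialgHom.ofAlgHom Fa hcounit hcomul, hFn⟩

end ALG'

section Level'

variable (R : Type u) [CommRing R] (C : Type u) [CommRing C] [HopfAlgebra R C]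
  (M : Type u) [CommGroup M]
  (S : Type u) [CommRing S] [Algebra R S] [Module.Flat S (S ⊗[R] C)]
  (R₀ : Type u) [CommRing R₀] [Algebra R R₀]
  [Algebra S R₀] [IsScalarTower R S R₀]

theorem exists_triv_of_nilpotent' (hπ : Function.Surjective (algebraMap S R₀))
    (hnil : IsNilpotent (RingHom.ker (algebraMap S R₀)))
    (e₀ : R₀ ⊗[R] C ≃ₐc[R₀] MonoidAlgebra R₀ M) :
    ∃ (S' : Type u) (_ : CommRing S') (_ : Algebra S S'),
      Module.FaithfullyFlat S S' ∧ IsDiag S' (S' ⊗[S] (S ⊗[R] C)) := by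
  have hD : IsDiag R₀ (R₀ ⊗[S] (S ⊗[R] C)) :=
    ⟨M, inferInstance, ⟨(cancelBC R S R₀ C).trans e₀⟩⟩
  obtain ⟨S', i1, i2, _, hff, N, i3, ⟨eN⟩⟩ :=
    EtaleLift.exists_etale_diag_lift S (S ⊗[R] C) S R₀ hπ hnil R₀ hD
  exact ⟨S', i1, i2, hff, N, i3, ⟨(cancelBC S S S' (S ⊗[R] C)).symm.trans eN⟩⟩

theorem level_exists' (hπ : Function.Surjective (algebraMap S R₀))
    (hnil : IsNilpotent (RingHom.ker (algebraMap S R₀)))
    (e₀ : R₀ ⊗[R] C ≃ₐc[R₀] MonoidAlgebra R₀ M) :
    ∃ g : S ⊗[R] C →ₐc[S] MonoidAlgebra S M, ∀ c : C,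
      MonoidAlgebra.mapRingHom M (algebraMap S R₀) (g ((1 : S) ⊗ₜ[R] c)) =
        e₀ ((1 : R₀) ⊗ₜ[R] c) := by
  obtain ⟨S', _, _, hff, N, _, ⟨eC⟩⟩ := exists_triv_of_nilpotent' R C M S R₀ hπ hnil e₀
  haveI := hff
  let φ₀ : R₀ ⊗[S] (S ⊗[R] C) →ₐc[R₀] R₀ ⊗[S] MonoidAlgebra S M :=
    ((steBialg S R₀ M).symm : MonoidAlgebra R₀ M →ₐc[R₀] R₀ ⊗[S] MonoidAlgebra S M).comp
      ((e₀ : R₀ ⊗[R] C →ₐc[R₀] MonoidAlgebra R₀ M).comp
        (cancelBC R S R₀ C : R₀ ⊗[S] (S ⊗[R] C) →ₐc[R₀] R₀ ⊗[R] C))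
  obtain ⟨φ, hφ⟩ := homLiftSurj_exists (B := MonoidAlgebra S M) (C := S ⊗[R] C) R₀ S'
    (steBialg S S' M) eC hπ
    (idemLift_of_nil _ (isNilpotent_of_mem_map _ _ hnil))
    (idemLift_of_nil _ (isNilpotent_of_mem_map _ _ hnil)) φ₀
  refine ⟨φ, fun c => ?_⟩
  have h1 := hφ ((1 : S) ⊗ₜ[R] c)
  have h2 : φ₀ ((1 : R₀) ⊗ₜ[S] ((1 : S) ⊗ₜ[R] c)) =
      (steBialg S R₀ M).symm (e₀ (cancelBC R S R₀ C ((1 : R₀) ⊗ₜ[S] ((1 : S) ⊗ₜ[R] c)))) := rfl
  rw [h2, cancelBC_tmul, one_smul] at h1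
  have h3 := congrArg (steBialg S R₀ M) h1
  rw [BialgEquiv.apply_symm_apply, MTGlue.steBialg_one_tmul] at h3
  exact h3.symm

theorem level_unique' (hπ : Function.Surjective (algebraMap S R₀))
    (hnil : IsNilpotent (RingHom.ker (algebraMap S R₀)))
    (e₀ : R₀ ⊗[R] C ≃ₐc[R₀] MonoidAlgebra R₀ M)
    (g g' : S ⊗[R] C →ₐc[S] MonoidAlgebra S M)
    (h : ∀ c : C, MonoidAlgebra.mapRingHom M (algebraMap S R₀) (g ((1 : S) ⊗ₜ[R] c)) =
      MonoidAlgebra.mapRingHom M (algebraMap S R₀) (g' ((1 : S) ⊗ₜ[R] c))) : g = g' := by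
  obtain ⟨S', _, _, hff, N, _, ⟨eC⟩⟩ := exists_triv_of_nilpotent' R C M S R₀ hπ hnil e₀
  haveI := hff
  apply homLiftSurj_unique (B := MonoidAlgebra S M) (C := S ⊗[R] C) R₀ S'
    (steBialg S S' M) eC hπ (idemLift_of_nil _ (isNilpotent_of_mem_map _ _ hnil))
  intro z
  have h0 : steBialg S R₀ M ((1 : R₀) ⊗ₜ[S] g z) = steBialg S R₀ M ((1 : R₀) ⊗ₜ[S] g' z) := by
    rw [MTGlue.steBialg_one_tmul, MTGlue.steBialg_one_tmul]
    induction z using TensorProduct.induction_on with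
    | zero => simp
    | add x y hx hy => rw [map_add, map_add, map_add, map_add, hx, hy]
    | tmul s c =>
      have h1 : s ⊗ₜ[R] c = s • ((1 : S) ⊗ₜ[R] c) := by
        rw [TensorProduct.smul_tmul', smul_eq_mul, mul_one]
      have hg : ∀ φ : S ⊗[R] C →ₐc[S] MonoidAlgebra S M,
          φ (s • ((1 : S) ⊗ₜ[R] c)) = s • φ ((1 : S) ⊗ₜ[R] c) := fun φ => map_smul φ s _
      rw [h1, hg g, hg g', mapRingHom_smul, mapRingHom_smul, h]
  exact (steBialg S R₀ M).injective h0

end Level'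

section Main'

variable (R : Type u) [CommRing R] (J : Ideal R)
  (C : Type u) [CommRing C] [HopfAlgebra R C] (M : Type u) [CommGroup M]
  (R₀ : Type u) [CommRing R₀] [Algebra R R₀]

theorem level_n_exists'
    (hfl : ∀ n : ℕ, Module.Flat (R ⧸ J ^ (n + 1)) ((R ⧸ J ^ (n + 1)) ⊗[R] C))
    (hsurj : Function.Surjective (algebraMap R R₀))
    (hker : RingHom.ker (algebraMap R R₀) = J)
    (e₀ : R₀ ⊗[R] C ≃ₐc[R₀] MonoidAlgebra R₀ M) (n : ℕ) :
    ∃ g : (R ⧸ J ^ (n + 1)) ⊗[R] C →ₐc[R ⧸ J ^ (n + 1)] MonoidAlgebra (R ⧸ J ^ (n + 1)) M,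
      ∀ c : C, MonoidAlgebra.mapRingHom M (redTo R J R₀ hker n)
        (g ((1 : R ⧸ J ^ (n + 1)) ⊗ₜ[R] c)) = e₀ ((1 : R₀) ⊗ₜ[R] c) := by
  haveI := hfl n
  letI : Algebra (R ⧸ J ^ (n + 1)) R₀ := (redTo R J R₀ hker n).toAlgebra
  haveI : IsScalarTower R (R ⧸ J ^ (n + 1)) R₀ := IsScalarTower.of_algebraMap_eq (fun r => rfl)
  exact level_exists' R C M (R ⧸ J ^ (n + 1)) R₀ (redTo_surjective R J R₀ hsurj hker n)
    (isNilpotent_ker_redTo R J R₀ hker n) e₀

theorem level_n_unique'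
    (hfl : ∀ n : ℕ, Module.Flat (R ⧸ J ^ (n + 1)) ((R ⧸ J ^ (n + 1)) ⊗[R] C))
    (hsurj : Function.Surjective (algebraMap R R₀))
    (hker : RingHom.ker (algebraMap R R₀) = J)
    (e₀ : R₀ ⊗[R] C ≃ₐc[R₀] MonoidAlgebra R₀ M) (n : ℕ)
    (g g' : (R ⧸ J ^ (n + 1)) ⊗[R] C →ₐc[R ⧸ J ^ (n + 1)] MonoidAlgebra (R ⧸ J ^ (n + 1)) M)
    (h : ∀ c : C, MonoidAlgebra.mapRingHom M (redTo R J R₀ hker n)
        (g ((1 : R ⧸ J ^ (n + 1)) ⊗ₜ[R] c)) =
      MonoidAlgebra.mapRingHom M (redTo R J R₀ hker n)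
        (g' ((1 : R ⧸ J ^ (n + 1)) ⊗ₜ[R] c))) : g = g' := by
  haveI := hfl n
  letI : Algebra (R ⧸ J ^ (n + 1)) R₀ := (redTo R J R₀ hker n).toAlgebra
  haveI : IsScalarTower R (R ⧸ J ^ (n + 1)) R₀ := IsScalarTower.of_algebraMap_eq (fun r => rfl)
  exact level_unique' R C M (R ⧸ J ^ (n + 1)) R₀ (redTo_surjective R J R₀ hsurj hker n)
    (isNilpotent_ker_redTo R J R₀ hker n) e₀ g g' h

/-- **Lifting of homomorphisms over a complete base** (SGA3 IX 7.1 + X 2.1, diagonalisable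
case): a trivialisation of the reduction of a flat Hopf algebra lifts to a bialgebra map into the
group algebra. -/
theorem exists_bialgHom_lift_adic' [IsNoetherianRing R] [IsAdicComplete J R]
    (hfl : ∀ n : ℕ, Module.Flat (R ⧸ J ^ (n + 1)) ((R ⧸ J ^ (n + 1)) ⊗[R] C))
    (hsurj : Function.Surjective (algebraMap R R₀))
    (hker : RingHom.ker (algebraMap R R₀) = J)
    (e₀ : R₀ ⊗[R] C ≃ₐc[R₀] MonoidAlgebra R₀ M) :
    ∃ F : C →ₐc[R] MonoidAlgebra R M, ∀ c : C,
      MonoidAlgebra.mapRingHom M (algebraMap R R₀) (F c) = e₀ ((1 : R₀) ⊗ₜ[R] c) := by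
  choose f hf using level_n_exists' R J C M R₀ hfl hsurj hker e₀
  have hcompat : ∀ n c, MonoidAlgebra.mapRingHom M
      (Ideal.Quotient.factor (Ideal.pow_le_pow_right (Nat.le_succ (n + 1))))
      (f (n + 1) ((1 : R ⧸ J ^ (n + 1 + 1)) ⊗ₜ[R] c)) = f n ((1 : R ⧸ J ^ (n + 1)) ⊗ₜ[R] c) := by
    intro n c
    letI : Algebra (R ⧸ J ^ (n + 1 + 1)) (R ⧸ J ^ (n + 1)) :=
      (Ideal.Quotient.factor (Ideal.pow_le_pow_right (Nat.le_succ (n + 1)))).toAlgebra
    haveI : IsScalarTower R (R ⧸ J ^ (n + 1 + 1)) (R ⧸ J ^ (n + 1)) :=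
      IsScalarTower.of_algebraMap_eq (fun r => rfl)
    have h1 : bcGA (R ⧸ J ^ (n + 1)) (f (n + 1)) = f n := by
      apply level_n_unique' R J C M R₀ hfl hsurj hker e₀ n
      intro c
      rw [bcGA_one_tmul, mapRingHom_mapRingHom, hf n c]
      have h2 : (redTo R J R₀ hker n).comp
          (algebraMap (R ⧸ J ^ (n + 1 + 1)) (R ⧸ J ^ (n + 1))) = redTo R J R₀ hker (n + 1) := by
        apply Ideal.Quotient.ringHom_ext
        apply RingHom.ext
        intro r
        rfl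
      rw [h2, hf (n + 1) c]
    rw [← h1, bcGA_one_tmul]
    rfl
  obtain ⟨F, hF⟩ := exists_algebraization' J f hcompat
  refine ⟨F, fun c => ?_⟩
  have h1 := hF 0 c
  have h2 := hf 0 c
  rw [← h1, mapRingHom_mapRingHom] at h2
  have h3 : (redTo R J R₀ hker 0).comp (Ideal.Quotient.mk (J ^ (0 + 1))) = algebraMap R R₀ := by
    apply RingHom.ext
    intro r
    rfl
  rw [h3] at h2
  exact h2

end Main'

section Pack'

/-- `exists_surj_idem` assuming only that the reductions `R/J^{n+1} ⊗ C` are flat. -/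
theorem exists_surj_idem' (R : Type u) [CommRing R] [IsNoetherianRing R] (J : Ideal R)
    [IsAdicComplete J R] (C : Type u) [CommRing C] [HopfAlgebra R C]
    (hfl : ∀ n : ℕ, Module.Flat (R ⧸ J ^ (n + 1)) ((R ⧸ J ^ (n + 1)) ⊗[R] C))
    (hft : Algebra.FiniteType R C) (M : Type u) [CommGroup M]
    (R₀ : Type u) [CommRing R₀] [Algebra R R₀]
    (hsurj : Function.Surjective (algebraMap R R₀))
    (hker : RingHom.ker (algebraMap R R₀) = J)
    (e₀ : R₀ ⊗[R] C ≃ₐc[R₀] MonoidAlgebra R₀ M) :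
    ∃ (F : C →ₐc[R] MonoidAlgebra R M) (e : C), Function.Surjective F ∧ IsIdempotentElem e ∧
      RingHom.ker (F : C →+* MonoidAlgebra R M) = Ideal.span {e} ∧
      e ∈ J • LinearMap.ker F.toCoalgHom.toLinearMap := by
  haveI : IsNoetherianRing C := Algebra.FiniteType.isNoetherianRing R C
  obtain ⟨F, hF⟩ := exists_bialgHom_lift_adic' R J C M R₀ hfl hsurj hker e₀
  have hJ : J ≤ Ideal.jacobson ⊥ := IsAdicComplete.le_jacobson_bot J
  obtain ⟨e, he, hke⟩ := exists_idempotent_ker J F e₀ hJ hsurj hker hF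
  have hFe : F e = 0 := by
    have h2 : e ∈ RingHom.ker (F : C →+* MonoidAlgebra R M) := by
      rw [hke]
      exact Ideal.mem_span_singleton_self e
    exact h2
  exact ⟨F, e, surjective_of_reduction J F e₀ hJ hsurj hker hF, he, hke,
    mem_smul_ker_of_map_eq_zero J F e₀ hJ hsurj hker hF hFe⟩

end Pack'

end Groth.Agent.Lib.Helper25.Adic
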