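import Groth.Agent.Lib.Helper25AdicH
import Mathlib.RingTheory.Flat.Localization
import Mathlib.RingTheory.Flat.Tensor
import Mathlib.RingTheory.LocalProperties.Exactness

/-!
# Flatness of the infinitesimal neighbourhoods from flatness along the closed fibre (helper25)

* `lTensor_injective_of_local_flat`: if `C` is flat over `A` at the primes containing `I C`, then
  `C ⊗ -` preserves injections between `A`-modules killed by a power of `I`.
* `flat_baseChange_of_local_flat`: `T ⊗[A] C` is flat over `T` for an `A`-algebra `T` in which a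
  power of `I` vanishes.
* `exists_cover_surj_idem'`: SGA3 X 3 for `C` flat along the closed fibre.
-/

set_option autoImplicit false
set_option linter.unusedSectionVars false
set_option linter.style.haveILetI false
universe u

namespace Groth.Agent.Lib.Helper25.Adic

open TensorProduct SGA3b Groth.Agent.Lib.Helper25

section LocalFlat

variable (A : Type u) [CommRing A] (I : Ideal A) (C : Type u) [CommRing C] [Algebra A C]

theorem lTensor_injective_of_local_flat
    (hfl : ∀ (q : Ideal C) [q.IsPrime], Ideal.map (algebraMap A C) I ≤ q →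
      Module.Flat A (Localization.AtPrime q))
    {N N' : Type u} [AddCommGroup N] [Module A N] [AddCommGroup N'] [Module A N']
    (g : N →ₗ[A] N') (hg : Function.Injective g) (k : ℕ)
    (hk : ∀ a ∈ I, ∀ x : N, a ^ k • x = 0) :
    Function.Injective (g.lTensor C) := by
  rw [← AlgebraTensorModule.coe_lTensor (A := C)]
  refine injective_of_isLocalized_maximal
    (fun q _ => Localization.AtPrime q ⊗[A] N)
    (fun q _ => AlgebraTensorModule.rTensor A N (Algebra.linearMap C (Localization.AtPrime q)))
    (fun q _ => Localization.AtPrime q ⊗[A] N')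
    (fun q _ => AlgebraTensorModule.rTensor A N' (Algebra.linearMap C (Localization.AtPrime q)))
    _ (fun q hq => ?_)
  rw [IsLocalizedModule.map_lTensor]
  by_cases hle : Ideal.map (algebraMap A C) I ≤ q
  · haveI := hfl q hle
    rw [AlgebraTensorModule.coe_lTensor]
    exact Module.Flat.lTensor_preserves_injective_linearMap g hg
  · obtain ⟨a, ha, haq⟩ : ∃ a ∈ I, algebraMap A C a ∉ q := by
      by_contra h
      push Not at h
      apply hle
      rw [Ideal.map_le_iff_le_comap]
      intro a ha
      exact h a ha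
    have hunit : IsUnit (algebraMap A (Localization.AtPrime q) a) := by
      rw [IsScalarTower.algebraMap_apply A C (Localization.AtPrime q)]
      exact IsLocalization.map_units (Localization.AtPrime q)
        (⟨algebraMap A C a, haq⟩ : q.primeCompl)
    have hsub : ∀ z : Localization.AtPrime q ⊗[A] N, z = 0 := by
      intro z
      induction z using TensorProduct.induction_on with
      | zero => rfl
      | add x y hx hy => rw [hx, hy, add_zero]
      | tmul x n =>
        obtain ⟨u, hu⟩ := hunit
        have hx : x = (a ^ k) • ((↑(u⁻¹ ^ k) : Localization.AtPrime q) * x) := by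
          rw [Algebra.smul_def, map_pow, ← hu, ← mul_assoc, ← Units.val_pow_eq_pow_val,
            ← Units.val_mul, ← mul_pow, mul_inv_cancel, one_pow, Units.val_one, one_mul]
        rw [hx, TensorProduct.smul_tmul, hk a ha n, TensorProduct.tmul_zero]
    intro z z' _
    rw [hsub z, hsub z']

end LocalFlat

section FlatBC

variable (A : Type u) [CommRing A] (I : Ideal A) (C : Type u) [CommRing C] [Algebra A C]

/-- If `C` is `A`-flat at the primes containing `I C`, then `T ⊗[A] C` is flat over every
`A`-algebra `T` in which the `k`-th powers of the elements of `I` vanish. -/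
theorem flat_baseChange_of_local_flat
    (hfl : ∀ (q : Ideal C) [q.IsPrime], Ideal.map (algebraMap A C) I ≤ q →
      Module.Flat A (Localization.AtPrime q))
    (T : Type u) [CommRing T] [Algebra A T] (k : ℕ)
    (hT : ∀ a ∈ I, (algebraMap A T a) ^ k = 0) : Module.Flat T (T ⊗[A] C) := by
  rw [Module.Flat.iff_rTensor_injective']
  intro 𝔞
  let e1 := AlgebraTensorModule.cancelBaseChange A T T 𝔞 C
  let e2 := AlgebraTensorModule.cancelBaseChange A T T T C
  let g : 𝔞 →ₗ[A] T := 𝔞.subtype.restrictScalars A
  have hg : Function.Injective g := Subtype.val_injective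
  have hk : ∀ a ∈ I, ∀ x : 𝔞, a ^ k • x = 0 := by
    intro a ha x
    apply Subtype.ext
    rw [Submodule.coe_smul_of_tower, Algebra.smul_def, map_pow, hT a ha, zero_mul]
    rfl
  have hinjL := lTensor_injective_of_local_flat A I C hfl g hg k hk
  have hinjR : Function.Injective (g.rTensor C) := (g.lTensor_inj_iff_rTensor_inj C).mp hinjL
  have hcomm : ∀ z, e2 (LinearMap.rTensor (T ⊗[A] C) 𝔞.subtype z) = g.rTensor C (e1 z) := by
    intro z
    induction z using TensorProduct.induction_on with
    | zero => simp
    | add x y hx hy => simp only [map_add, hx, hy]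
    | tmul x w =>
      induction w using TensorProduct.induction_on with
      | zero => simp
      | add x' y' hx' hy' => simp only [TensorProduct.tmul_add, map_add, hx', hy']
      | tmul t c =>
        rw [LinearMap.rTensor_tmul]
        change e2 (𝔞.subtype x ⊗ₜ[T] (t ⊗ₜ[A] c)) = g.rTensor C (e1 (x ⊗ₜ[T] (t ⊗ₜ[A] c)))
        rw [AlgebraTensorModule.cancelBaseChange_tmul, AlgebraTensorModule.cancelBaseChange_tmul,
          LinearMap.rTensor_tmul]
        rfl
  intro z z' h
  apply e1.injective
  apply hinjR
  rw [← hcomm, ← hcomm, h]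

end FlatBC

section Cover'

open BCB

/-- SGA3 X 3: over a complete Noetherian base, after a finite étale cover `P` the group `Spec C`
contains `D(M)_P` as an open and closed subgroup which is everything modulo `I`. -/
theorem exists_cover_surj_idem' (A : Type u) [CommRing A] [IsNoetherianRing A] (I : Ideal A)
    [IsAdicComplete I A] (C : Type u) [CommRing C] [HopfAlgebra A C]
    (hft : Algebra.FiniteType A C)
    (hfl : ∀ (q : Ideal C) [q.IsPrime], Ideal.map (algebraMap A C) I ≤ q →
      Module.Flat A (Localization.AtPrime q)) (h0 : IsIsotrivial (A ⧸ I) ((A ⧸ I) ⊗[A] C)) :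
    ∃ (P : Type u) (_ : CommRing P) (_ : Algebra A P) (M : Type u) (_ : CommGroup M),
      Algebra.Etale A P ∧ Module.Finite A P ∧ Module.FaithfullyFlat A P ∧
      (∃ (Q : Type u) (_ : CommRing Q) (_ : Algebra (A ⧸ I) Q), Module.FaithfullyFlat (A ⧸ I) Q ∧
        Nonempty (Q ⊗[A ⧸ I] ((A ⧸ I) ⊗[A] C) ≃ₐc[Q] MonoidAlgebra Q M)) ∧
      ∃ (F : P ⊗[A] C →ₐc[P] MonoidAlgebra P M) (e : P ⊗[A] C),
        Function.Surjective F ∧ IsIdempotentElem e ∧
        RingHom.ker (F : P ⊗[A] C →+* MonoidAlgebra P M) = Ideal.span {e} ∧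
        e ∈ (I.map (algebraMap A P)) • LinearMap.ker F.toCoalgHom.toLinearMap := by
  classical
  obtain ⟨Q, _, _, het, hfin, hff, M, _, ⟨ε₀⟩⟩ := h0
  letI : Algebra A Q := ((algebraMap (A ⧸ I) Q).comp (algebraMap A (A ⧸ I))).toAlgebra
  haveI : IsScalarTower A (A ⧸ I) Q := IsScalarTower.of_algebraMap_eq (fun _ => rfl)
  haveI := het
  haveI := hfin
  haveI := hff
  obtain ⟨P, _, _, θ, hetP, hfinP, hsurjθ, hkerθ⟩ := HensFEt.exists_finEtale_lift I Q
  haveI := hetP
  haveI := hfinP
  have hπ : Function.Surjective (algebraMap A (A ⧸ I)) := Ideal.Quotient.mk_surjective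
  have hjac : RingHom.ker (algebraMap A (A ⧸ I)) ≤ Ideal.jacobson ⊥ := by
    rw [Ideal.Quotient.algebraMap_eq, Ideal.mk_ker]
    exact IsAdicComplete.le_jacobson_bot I
  haveI hffP : Module.FaithfullyFlat A P :=
    HensFEt.faithfullyFlat_of_ker_le_jacobson (B := A) (Bb := A ⧸ I) hπ hjac P Q θ.toRingHom
      (fun b => by
        change θ (algebraMap A P b) = _
        rw [AlgHom.commutes, IsScalarTower.algebraMap_apply A (A ⧸ I) Q])
  letI : Algebra P Q := θ.toRingHom.toAlgebra
  haveI : IsScalarTower A P Q := IsScalarTower.of_algebraMap_eq (fun r => (θ.commutes r).symm)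
  have hsurj : Function.Surjective (algebraMap P Q) := hsurjθ
  have hker : RingHom.ker (algebraMap P Q) = I.map (algebraMap A P) := by
    apply le_antisymm hkerθ
    rw [Ideal.map_le_iff_le_comap]
    intro a ha
    rw [Ideal.mem_comap, RingHom.mem_ker]
    change θ (algebraMap A P a) = 0
    rw [AlgHom.commutes, IsScalarTower.algebraMap_apply A (A ⧸ I) Q,
      Ideal.Quotient.algebraMap_eq, Ideal.Quotient.eq_zero_iff_mem.mpr ha, map_zero]
  haveI : IsNoetherianRing P := IsNoetherianRing.of_finite A P
  haveI : IsAdicComplete (I.map (algebraMap A P)) P := by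
    rw [IsAdicComplete.map_algebraMap_iff]
    haveI : IsPrecomplete I P := LunaCompl.isPrecomplete_of_finite A I P
    haveI : IsHausdorff I P := IsHausdorff.of_le_jacobson I P (IsAdicComplete.le_jacobson_bot I)
    exact {}
  let e₀ : Q ⊗[P] (P ⊗[A] C) ≃ₐc[Q] MonoidAlgebra Q M :=
    (cancelBC A P Q C).trans ((cancelBC A (A ⧸ I) Q C).symm.trans ε₀)
  haveI := hft
  have hftP : Algebra.FiniteType P (P ⊗[A] C) := inferInstance
  have hflP : ∀ n : ℕ, Module.Flat (P ⧸ (I.map (algebraMap A P)) ^ (n + 1))
      ((P ⧸ (I.map (algebraMap A P)) ^ (n + 1)) ⊗[P] (P ⊗[A] C)) := by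
    intro n
    haveI : Module.Flat (P ⧸ (I.map (algebraMap A P)) ^ (n + 1))
        ((P ⧸ (I.map (algebraMap A P)) ^ (n + 1)) ⊗[A] C) := by
      apply flat_baseChange_of_local_flat A I C hfl _ (n + 1)
      intro a ha
      rw [IsScalarTower.algebraMap_apply A P (P ⧸ (I.map (algebraMap A P)) ^ (n + 1)),
        Ideal.Quotient.algebraMap_eq, ← map_pow, Ideal.Quotient.eq_zero_iff_mem]
      exact Ideal.pow_mem_pow (Ideal.mem_map_of_mem _ ha) (n + 1)
    exact Module.Flat.of_linearEquiv (AlgebraTensorModule.cancelBaseChange A P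
      (P ⧸ (I.map (algebraMap A P)) ^ (n + 1)) (P ⧸ (I.map (algebraMap A P)) ^ (n + 1)) C)
  obtain ⟨F, e, hFs, he, hke, hle⟩ := exists_surj_idem' P (I.map (algebraMap A P)) (P ⊗[A] C) hflP
    hftP M Q hsurj hker e₀
  exact ⟨P, inferInstance, inferInstance, M, inferInstance, hetP, hfinP, hffP,
    ⟨Q, inferInstance, inferInstance, hff, ⟨ε₀⟩⟩, F, e, hFs, he, hke, hle⟩

end Cover'

end Groth.Agent.Lib.Helper25.Adic
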