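import Groth.Agent.Lib.Helper25FrobSplit

/-!
# Helper25FrobSplit2: the unique decomposition `N = N_red × N_loc` of a finite group scheme over a
perfect field (S11932).

Unbundled convolution calculus (`cv`, `cu`), `antipode_comp_bialgHom`, the ideal `kerIdeal σ` of the
kernel of a retraction, `isHopfIdeal_kerIdeal`, `isLocalRing_quot_kerIdeal`, `Phi_bijective`,
`kerIdeal_le_of_isLocalRing`, `le_kerIdeal_of_injective`, `existsUnique_local_complement`.
-/

set_option autoImplicit false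
set_option linter.style.haveILetI false
universe u v w

open TensorProduct WithConv

namespace Groth.Agent.Lib.Helper25.FrobSplit


section Conv

variable {k : Type u} [CommSemiring k] {C : Type v} [AddCommMonoid C] [Module k C] [Coalgebra k C]
  {A : Type w} [Semiring A] [Algebra k A]

/-- convolution of linear maps (unbundled from `WithConv`) -/
noncomputable def cv (f g : C →ₗ[k] A) : C →ₗ[k] A := (toConv f * toConv g).ofConv

variable (k C A) in
/-- the convolution unit -/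
noncomputable def cu : C →ₗ[k] A := Algebra.linearMap k A ∘ₗ Coalgebra.counit

theorem cv_assoc (f g h : C →ₗ[k] A) : cv (cv f g) h = cv f (cv g h) := by
  unfold cv
  rw [toConv_ofConv, toConv_ofConv, mul_assoc]

theorem cv_cu (f : C →ₗ[k] A) : cv f (cu k C A) = f := by
  unfold cv cu
  rw [← LinearMap.convOne_def, mul_one, ofConv_toConv]

theorem cu_cv (f : C →ₗ[k] A) : cv (cu k C A) f = f := by
  unfold cv cu
  rw [← LinearMap.convOne_def, one_mul, ofConv_toConv]

theorem comp_cv {B : Type*} [Semiring B] [Algebra k B] (h : A →ₐ[k] B) (f g : C →ₗ[k] A) :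
    h.toLinearMap ∘ₗ cv f g = cv (h.toLinearMap ∘ₗ f) (h.toLinearMap ∘ₗ g) := by
  unfold cv
  rw [LinearMap.algHom_comp_convMul_distrib]

theorem cv_comp {D : Type*} [AddCommMonoid D] [Module k D] [Coalgebra k D] (f g : C →ₗ[k] A)
    (h : D →ₗc[k] C) : cv f g ∘ₗ h.toLinearMap = cv (f ∘ₗ h.toLinearMap) (g ∘ₗ h.toLinearMap) := by
  unfold cv
  rw [LinearMap.convMul_comp_coalgHom_distrib]

theorem comp_cu {B : Type*} [Semiring B] [Algebra k B] (h : A →ₐ[k] B) :
    h.toLinearMap ∘ₗ cu k C A = cu k C B := by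
  ext x
  simp [cu]

theorem cu_comp {D : Type*} [AddCommMonoid D] [Module k D] [Coalgebra k D]
    (h : D →ₗc[k] C) : cu k C A ∘ₗ h.toLinearMap = cu k D A := by
  ext x
  simp [cu]

theorem cv_apply_tmul (f g : C →ₗ[k] A) (c : C) :
    cv f g c = LinearMap.mul' k A (TensorProduct.map f g (Coalgebra.comul c)) := rfl

end Conv

section Antipode

variable {k : Type u} [CommSemiring k] {H : Type v} [Semiring H] [HopfAlgebra k H]

theorem cv_antipode_id : cv (HopfAlgebra.antipode k (A := H)) LinearMap.id = cu k H H := by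
  unfold cv cu
  rw [LinearMap.antipode_mul_id, LinearMap.convOne_def, ofConv_toConv]

theorem cv_id_antipode : cv LinearMap.id (HopfAlgebra.antipode k (A := H)) = cu k H H := by
  unfold cv cu
  rw [LinearMap.id_mul_antipode, LinearMap.convOne_def, ofConv_toConv]

end Antipode



section BialgAntipode

variable {k : Type u} [CommSemiring k] {A : Type v} [Semiring A] [HopfAlgebra k A]
  {B : Type w} [Semiring B] [HopfAlgebra k B]

/-- A bialgebra map between Hopf algebras commutes with the antipodes (composition form). -/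
theorem antipode_comp_bialgHom (f : A →ₐc[k] B) :
    HopfAlgebra.antipode k (A := B) ∘ₗ (f : A →ₐ[k] B).toLinearMap =
      (f : A →ₐ[k] B).toLinearMap ∘ₗ HopfAlgebra.antipode k (A := A) := by
  set L : A →ₗ[k] B := HopfAlgebra.antipode k (A := B) ∘ₗ (f : A →ₐ[k] B).toLinearMap with hL
  set g : A →ₗ[k] B := (f : A →ₐ[k] B).toLinearMap with hg
  set Rr : A →ₗ[k] B := (f : A →ₐ[k] B).toLinearMap ∘ₗ HopfAlgebra.antipode k (A := A) with hR
  have h1 : cv L g = cu k A B := by
    have := cv_comp (HopfAlgebra.antipode k (A := B)) LinearMap.id (f : A →ₗc[k] B)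
    rw [cv_antipode_id, cu_comp] at this
    rw [this]
    rfl
  have h2 : cv g Rr = cu k A B := by
    have := comp_cv (f : A →ₐ[k] B) LinearMap.id (HopfAlgebra.antipode k (A := A))
    rw [cv_id_antipode, comp_cu] at this
    rw [this]
    rfl
  calc L = cv L (cu k A B) := (cv_cu L).symm
    _ = cv L (cv g Rr) := by rw [h2]
    _ = cv (cv L g) Rr := (cv_assoc _ _ _).symm
    _ = Rr := by rw [h1, cu_cv]

end BialgAntipode



section General

variable {k : Type u} [Field k] {E : Type v} {R : Type w} [CommRing E] [HopfAlgebra k E]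
  [CommRing R] [HopfAlgebra k R] (π : E →ₐc[k] R) (σ : R →ₐc[k] E)

/-- the ideal of the kernel of the retraction `σ^* : Spec E → Spec R` -/
def kerIdeal : Ideal E :=
  Ideal.map (σ : R →+* E) (RingHom.ker (Bialgebra.counitAlgHom k R))

theorem sigma_mem_kerIdeal {x : R} (hx : Coalgebra.counit (R := k) x = 0) :
    σ x ∈ kerIdeal σ :=
  Ideal.mem_map_of_mem (σ : R →+* E) (by simpa [RingHom.mem_ker] using hx)

theorem kerIdeal_le_iff (J : Ideal E) :
    kerIdeal σ ≤ J ↔ ∀ x : R, Coalgebra.counit (R := k) x = 0 → σ x ∈ J := by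
  unfold kerIdeal
  rw [Ideal.map_le_iff_le_comap]
  constructor
  · intro h x hx
    exact h (by simpa [RingHom.mem_ker] using hx)
  · intro h x hx
    exact h x (by simpa [RingHom.mem_ker] using hx)

/-- F1 : modulo `kerIdeal`, `σ` is the counit. -/
theorem mk_sigma (x : R) :
    Ideal.Quotient.mk (kerIdeal σ) (σ x) =
      algebraMap k (E ⧸ kerIdeal σ) (Coalgebra.counit (R := k) x) := by
  have h : σ (x - algebraMap k R (Coalgebra.counit (R := k) x)) ∈ kerIdeal σ :=
    sigma_mem_kerIdeal σ (by simp)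
  rw [map_sub, AlgHomClass.commutes] at h
  have := (Ideal.Quotient.eq_zero_iff_mem).mpr h
  rw [map_sub, sub_eq_zero] at this
  rw [this]
  rfl

theorem mk_comp_sigma :
    (Ideal.Quotient.mkₐ k (kerIdeal σ)).toLinearMap ∘ₗ (σ : R →ₐ[k] E).toLinearMap =
      cu k R (E ⧸ kerIdeal σ) := by
  ext x
  exact mk_sigma σ x

theorem counit_sigma (x : R) : Coalgebra.counit (R := k) (σ x) = Coalgebra.counit (R := k) x :=
  CoalgHomClass.counit_comp_apply σ x

theorem kerIdeal_le_ker_counit : kerIdeal σ ≤ RingHom.ker (Bialgebra.counitAlgHom k E) := by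
  rw [kerIdeal_le_iff]
  intro x hx
  rw [RingHom.mem_ker]
  change Coalgebra.counit (R := k) (σ x) = 0
  rw [counit_sigma, hx]

theorem kerIdeal_ne_top : kerIdeal σ ≠ ⊤ := by
  intro h
  have : (1 : E) ∈ RingHom.ker (Bialgebra.counitAlgHom k E) :=
    kerIdeal_le_ker_counit σ (h ▸ Submodule.mem_top)
  rw [RingHom.mem_ker, map_one] at this
  exact one_ne_zero this

end General



section HopfIdeal

variable {k : Type u} [Field k] {E : Type v} {R : Type w} [CommRing E] [HopfAlgebra k E]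
  [CommRing R] [HopfAlgebra k R] (σ : R →ₐc[k] E)

/-- `(ε ⊗ ε) ∘ Δ` in terms of `ε`. -/
theorem map_counit_counit_comul {C : Type*} [AddCommMonoid C] [Module k C] [Coalgebra k C] (x : C) :
    TensorProduct.map (Coalgebra.counit (R := k) (A := C)) (Coalgebra.counit (R := k) (A := C))
      (Coalgebra.comul x) = (1 : k) ⊗ₜ[k] Coalgebra.counit (R := k) x := by
  have h := Coalgebra.rTensor_counit_comul (R := k) x
  have h2 : TensorProduct.map (Coalgebra.counit (R := k) (A := C)) (Coalgebra.counit (R := k) (A := C))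
      = (LinearMap.lTensor k (Coalgebra.counit (R := k) (A := C))) ∘ₗ
        (LinearMap.rTensor C (Coalgebra.counit (R := k) (A := C))) := by
    ext a b
    simp
  rw [h2, LinearMap.comp_apply, h, LinearMap.lTensor_tmul]

theorem isHopfIdeal_kerIdeal : (kerIdeal σ).IsHopfIdeal k := by
  have hcou : ∀ x ∈ kerIdeal σ, Coalgebra.counit (R := k) x = 0 := by
    intro x hx
    have := kerIdeal_le_ker_counit σ hx
    rwa [RingHom.mem_ker] at this
  -- comultiplication
  set πI : E →ₐ[k] E ⧸ kerIdeal σ := Ideal.Quotient.mkₐ k (kerIdeal σ) with hπI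
  set G : E →ₐ[k] (E ⧸ kerIdeal σ) ⊗[k] (E ⧸ kerIdeal σ) :=
    (Algebra.TensorProduct.map πI πI).comp (Bialgebra.comulAlgHom k E) with hG
  have hcom : kerIdeal σ ≤ RingHom.ker G := by
    rw [kerIdeal_le_iff]
    intro x hx
    rw [RingHom.mem_ker]
    change TensorProduct.map πI.toLinearMap πI.toLinearMap (Coalgebra.comul (σ x)) = 0
    have h1 : Coalgebra.comul (R := k) (σ x) =
        TensorProduct.map (σ : R →ₐ[k] E).toLinearMap (σ : R →ₐ[k] E).toLinearMap
          (Coalgebra.comul x) := (CoalgHomClass.map_comp_comul_apply σ x).symm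
    rw [h1, ← LinearMap.comp_apply, ← TensorProduct.map_comp, mk_comp_sigma]
    have h2 : TensorProduct.map (cu k R (E ⧸ kerIdeal σ)) (cu k R (E ⧸ kerIdeal σ)) =
        TensorProduct.map (Algebra.linearMap k (E ⧸ kerIdeal σ))
          (Algebra.linearMap k (E ⧸ kerIdeal σ)) ∘ₗ
        TensorProduct.map (Coalgebra.counit (R := k) (A := R))
          (Coalgebra.counit (R := k) (A := R)) := by
      rw [← TensorProduct.map_comp]
      rfl
    rw [h2, LinearMap.comp_apply, map_counit_counit_comul, hx, tmul_zero, map_zero]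
  -- antipode
  have hant : kerIdeal σ ≤ Ideal.comap (HopfAlgebra.antipodeAlgHom k E : E →+* E) (kerIdeal σ) := by
    rw [kerIdeal_le_iff]
    intro x hx
    rw [Ideal.mem_comap]
    change HopfAlgebra.antipode k (σ x) ∈ kerIdeal σ
    have h1 := LinearMap.congr_fun (antipode_comp_bialgHom σ) x
    simp only [LinearMap.comp_apply] at h1
    change HopfAlgebra.antipode k (σ x) = σ (HopfAlgebra.antipode k x) at h1
    rw [h1]
    exact sigma_mem_kerIdeal σ (by rw [HopfAlgebra.counit_antipode, hx])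
  refine { counit_eq_zero := ?_, map_mkQ_comul_eq_zero := ?_, antipode_mem := ?_ }
  · intro x hx
    exact hcou x hx
  · intro x hx
    have := hcom hx
    rw [RingHom.mem_ker] at this
    exact this
  · intro x hx
    exact hant hx

end HopfIdeal



section LocalPart

variable {k : Type u} [Field k] {E : Type v} {R : Type w} [CommRing E] [HopfAlgebra k E]
  [CommRing R] [HopfAlgebra k R] (π : E →ₐc[k] R) (σ : R →ₐc[k] E)

include π in
theorem isLocalRing_quot_kerIdeal (hπσ : ∀ x, π (σ x) = x)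
    (hnil : ∀ a : E, π a = 0 → IsNilpotent a) : IsLocalRing (E ⧸ kerIdeal σ) := by
  haveI : Nontrivial (E ⧸ kerIdeal σ) := Ideal.Quotient.nontrivial_iff.mpr (kerIdeal_ne_top σ)
  apply IsLocalRing.of_isUnit_or_isUnit_one_sub_self
  intro b
  obtain ⟨a, rfl⟩ := Ideal.Quotient.mk_surjective b
  have hn : IsNilpotent (Ideal.Quotient.mk (kerIdeal σ) (a - σ (π a))) := by
    apply IsNilpotent.map
    apply hnil
    rw [map_sub, hπσ, sub_self]
  have hdec : Ideal.Quotient.mk (kerIdeal σ) a =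
      Ideal.Quotient.mk (kerIdeal σ) (a - σ (π a)) +
        algebraMap k (E ⧸ kerIdeal σ) (Coalgebra.counit (R := k) a) := by
    have h1 : Coalgebra.counit (R := k) (π a) = Coalgebra.counit (R := k) a :=
      CoalgHomClass.counit_comp_apply π a
    rw [← h1, ← mk_sigma, ← map_add, sub_add_cancel]
  by_cases hc : Coalgebra.counit (R := k) a = 0
  · right
    rw [hdec, hc, map_zero, add_zero]
    exact hn.isUnit_one_sub
  · left
    rw [hdec]
    exact hn.isUnit_add_right_of_commute ((IsUnit.mk0 _ hc).map _) (Commute.all _ _)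

end LocalPart



section ConvAlg

variable {k : Type u} [CommSemiring k] {C : Type v} [CommSemiring C] [Bialgebra k C]
  {A : Type w} [CommSemiring A] [Algebra k A]

theorem toLinearMap_convMul' (f g : C →ₐ[k] A) :
    (toConv f * toConv g).ofConv.toLinearMap = cv f.toLinearMap g.toLinearMap := by
  have := AlgHom.toLinearMap_convMul (toConv f) (toConv g)
  unfold cv
  rw [← this]

end ConvAlg

section Bij

variable {k : Type u} [Field k] {E : Type v} {R : Type w} [CommRing E] [HopfAlgebra k E]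
  [CommRing R] [HopfAlgebra k R] (π : E →ₐc[k] R) (σ : R →ₐc[k] E)

/-- `g ↦ r(g)⁻¹ g` as an algebra endomorphism of `E` -/
noncomputable def theta : E →ₐ[k] E :=
  (toConv ((HopfAlgebra.antipodeAlgHom k E).comp ((σ.comp π : E →ₐc[k] E) : E →ₐ[k] E)) *
    toConv (AlgHom.id k E)).ofConv

theorem theta_toLinearMap :
    (theta π σ).toLinearMap =
      cv (HopfAlgebra.antipode k (A := E) ∘ₗ
        ((σ : R →ₐ[k] E).toLinearMap ∘ₗ (π : E →ₐ[k] R).toLinearMap)) LinearMap.id := by
  unfold theta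
  rw [toLinearMap_convMul']
  rfl

theorem theta_comp_sigma (hπσ : ∀ x, π (σ x) = x) :
    (theta π σ).toLinearMap ∘ₗ (σ : R →ₐ[k] E).toLinearMap = cu k R E := by
  rw [theta_toLinearMap]
  have h0 := cv_comp (HopfAlgebra.antipode k (A := E) ∘ₗ
        ((σ : R →ₐ[k] E).toLinearMap ∘ₗ (π : E →ₐ[k] R).toLinearMap)) LinearMap.id
        (σ : R →ₗc[k] E)
  have h1 : (HopfAlgebra.antipode k (A := E) ∘ₗ
        ((σ : R →ₐ[k] E).toLinearMap ∘ₗ (π : E →ₐ[k] R).toLinearMap)) ∘ₗ
        (σ : R →ₗc[k] E).toLinearMap =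
      (σ : R →ₐ[k] E).toLinearMap ∘ₗ HopfAlgebra.antipode k (A := R) := by
    rw [← antipode_comp_bialgHom σ]
    ext x
    simp only [LinearMap.comp_apply]
    change HopfAlgebra.antipode k (σ (π (σ x))) = HopfAlgebra.antipode k (σ x)
    rw [hπσ]
  have h2 : (LinearMap.id : E →ₗ[k] E) ∘ₗ (σ : R →ₗc[k] E).toLinearMap =
      (σ : R →ₐ[k] E).toLinearMap ∘ₗ (LinearMap.id : R →ₗ[k] R) := rfl
  rw [h1, h2, ← comp_cv, cv_antipode_id, comp_cu] at h0
  exact h0

theorem kerIdeal_le_ker_theta (hπσ : ∀ x, π (σ x) = x) :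
    kerIdeal σ ≤ RingHom.ker (theta π σ) := by
  rw [kerIdeal_le_iff]
  intro x hx
  rw [RingHom.mem_ker]
  have := LinearMap.congr_fun (theta_comp_sigma π σ hπσ) x
  simp only [LinearMap.comp_apply] at this
  change theta π σ (σ x) = _ at this
  rw [this]
  simp [cu, hx]

/-- `theta` descends to `E ⧸ kerIdeal σ`. -/
noncomputable def thetaBar (hπσ : ∀ x, π (σ x) = x) : (E ⧸ kerIdeal σ) →ₐ[k] E :=
  Ideal.Quotient.liftₐ (kerIdeal σ) (theta π σ) (fun a ha => by
    have := kerIdeal_le_ker_theta π σ hπσ ha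
    rwa [RingHom.mem_ker] at this)

theorem thetaBar_comp_mk (hπσ : ∀ x, π (σ x) = x) :
    (thetaBar π σ hπσ).comp (Ideal.Quotient.mkₐ k (kerIdeal σ)) = theta π σ := by
  ext x
  rfl

/-- the map `E → R ⊗ E/I` of the statement -/
noncomputable def Phi : E →ₐ[k] R ⊗[k] (E ⧸ kerIdeal σ) :=
  (Algebra.TensorProduct.map (π : E →ₐ[k] R) (Ideal.Quotient.mkₐ k (kerIdeal σ))).comp
    (Bialgebra.comulAlgHom k E)

/-- its inverse -/
noncomputable def Psi (hπσ : ∀ x, π (σ x) = x) : R ⊗[k] (E ⧸ kerIdeal σ) →ₐ[k] E :=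
  Algebra.TensorProduct.lift (σ : R →ₐ[k] E) (thetaBar π σ hπσ) (fun _ _ => Commute.all _ _)

theorem Phi_toLinearMap :
    (Phi π σ).toLinearMap =
      cv ((Algebra.TensorProduct.includeLeft : R →ₐ[k] R ⊗[k] (E ⧸ kerIdeal σ)).toLinearMap ∘ₗ
          (π : E →ₐ[k] R).toLinearMap)
        ((Algebra.TensorProduct.includeRight : (E ⧸ kerIdeal σ) →ₐ[k] R ⊗[k] (E ⧸ kerIdeal σ)).toLinearMap
          ∘ₗ (Ideal.Quotient.mkₐ k (kerIdeal σ)).toLinearMap) := by
  ext x
  rw [cv_apply_tmul]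
  change Algebra.TensorProduct.map (π : E →ₐ[k] R) (Ideal.Quotient.mkₐ k (kerIdeal σ))
    (Coalgebra.comul (R := k) x) = _
  generalize Coalgebra.comul (R := k) x = t
  induction t using TensorProduct.induction_on with
  | zero => simp
  | tmul a b => simp
  | add x y hx hy => simp only [map_add, hx, hy]

end Bij



section Bij2

variable {k : Type u} [Field k] {E : Type v} {R : Type w} [CommRing E] [HopfAlgebra k E]
  [CommRing R] [HopfAlgebra k R] (π : E →ₐc[k] R) (σ : R →ₐc[k] E)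

set_option quotPrecheck false
local notation "πl" => (π : E →ₐ[k] R).toLinearMap
local notation "σl" => (σ : R →ₐ[k] E).toLinearMap
local notation "πIl" => (Ideal.Quotient.mkₐ k (kerIdeal σ)).toLinearMap
local notation "ι₁" => (Algebra.TensorProduct.includeLeft : R →ₐ[k] R ⊗[k] (E ⧸ kerIdeal σ))
local notation "ι₂" =>
  (Algebra.TensorProduct.includeRight : (E ⧸ kerIdeal σ) →ₐ[k] R ⊗[k] (E ⧸ kerIdeal σ))
local notation "ι₁l" =>
  (Algebra.TensorProduct.includeLeft : R →ₐ[k] R ⊗[k] (E ⧸ kerIdeal σ)).toLinearMap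
local notation "ι₂l" =>
  (Algebra.TensorProduct.includeRight :
    (E ⧸ kerIdeal σ) →ₐ[k] R ⊗[k] (E ⧸ kerIdeal σ)).toLinearMap
local notation "Sl" => HopfAlgebra.antipode k (A := E)

theorem Psi_comp_Phi (hπσ : ∀ x, π (σ x) = x) :
    (Psi π σ hπσ).comp (Phi π σ) = AlgHom.id k E := by
  apply AlgHom.toLinearMap_injective
  rw [AlgHom.comp_toLinearMap, Phi_toLinearMap, comp_cv]
  have h1 : (Psi π σ hπσ).toLinearMap ∘ₗ (ι₁l ∘ₗ πl) = σl ∘ₗ πl := by
    ext x
    simp [Psi]
  have h2 : (Psi π σ hπσ).toLinearMap ∘ₗ (ι₂l ∘ₗ πIl) = (theta π σ).toLinearMap := by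
    ext x
    simp only [LinearMap.comp_apply, AlgHom.toLinearMap_apply,
      Algebra.TensorProduct.includeRight_apply, Psi, Algebra.TensorProduct.lift_tmul, map_one,
      one_mul]
    rfl
  rw [h1, h2, theta_toLinearMap, ← cv_assoc]
  have h3 : cv (σl ∘ₗ πl) (Sl ∘ₗ (σl ∘ₗ πl)) = cu k E E := by
    have := cv_comp (LinearMap.id : E →ₗ[k] E) Sl ((σ.comp π : E →ₐc[k] E) : E →ₗc[k] E)
    rw [cv_id_antipode, cu_comp] at this
    rw [this]
    rfl
  rw [h3, cu_cv]
  rfl

theorem Phi_comp_sigma (hπσ : ∀ x, π (σ x) = x) :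
    (Phi π σ).toLinearMap ∘ₗ σl = ι₁l := by
  rw [Phi_toLinearMap]
  have h0 := cv_comp (ι₁l ∘ₗ πl) (ι₂l ∘ₗ πIl) (σ : R →ₗc[k] E)
  have h1 : (ι₁l ∘ₗ πl) ∘ₗ (σ : R →ₗc[k] E).toLinearMap = ι₁l := by
    ext x
    simp only [LinearMap.comp_apply]
    change ι₁ (π (σ x)) = ι₁ x
    rw [hπσ]
  have h2 : (ι₂l ∘ₗ πIl) ∘ₗ (σ : R →ₗc[k] E).toLinearMap =
      cu k R (R ⊗[k] (E ⧸ kerIdeal σ)) := by
    rw [LinearMap.comp_assoc]
    have : πIl ∘ₗ (σ : R →ₗc[k] E).toLinearMap = cu k R (E ⧸ kerIdeal σ) := mk_comp_sigma σ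
    rw [this, comp_cu]
  rw [h1, h2, cv_cu] at h0
  exact h0

theorem Phi_comp_rho (hπσ : ∀ x, π (σ x) = x) :
    (Phi π σ).toLinearMap ∘ₗ (σl ∘ₗ πl) = ι₁l ∘ₗ πl := by
  rw [← LinearMap.comp_assoc, Phi_comp_sigma π σ hπσ]

theorem Phi_comp_theta (hπσ : ∀ x, π (σ x) = x) :
    (Phi π σ).toLinearMap ∘ₗ (theta π σ).toLinearMap = ι₂l ∘ₗ πIl := by
  rw [theta_toLinearMap, comp_cv]
  have h1 : (Phi π σ).toLinearMap ∘ₗ (Sl ∘ₗ (σl ∘ₗ πl)) = (ι₁l ∘ₗ πl) ∘ₗ Sl := by
    have ha : Sl ∘ₗ (σl ∘ₗ πl) = (σl ∘ₗ πl) ∘ₗ Sl := antipode_comp_bialgHom (σ.comp π)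
    rw [ha, ← LinearMap.comp_assoc, Phi_comp_rho π σ hπσ]
  rw [h1, LinearMap.comp_id]
  conv_lhs => rw [Phi_toLinearMap]
  rw [← cv_assoc]
  have h2 : cv ((ι₁l ∘ₗ πl) ∘ₗ Sl) (ι₁l ∘ₗ πl) =
      cu k E (R ⊗[k] (E ⧸ kerIdeal σ)) := by
    have := comp_cv ((Algebra.TensorProduct.includeLeft :
      R →ₐ[k] R ⊗[k] (E ⧸ kerIdeal σ)).comp (π : E →ₐ[k] R)) Sl (LinearMap.id : E →ₗ[k] E)
    rw [cv_antipode_id, comp_cu] at this
    rw [this]
    rfl
  rw [h2, cu_cv]

theorem Phi_comp_Psi (hπσ : ∀ x, π (σ x) = x) :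
    (Phi π σ).comp (Psi π σ hπσ) = AlgHom.id k (R ⊗[k] (E ⧸ kerIdeal σ)) := by
  apply Algebra.TensorProduct.ext
  · ext x
    have := LinearMap.congr_fun (Phi_comp_sigma π σ hπσ) x
    simp only [LinearMap.comp_apply] at this
    simpa [Psi] using this
  · apply Ideal.Quotient.algHom_ext
    ext x
    have := LinearMap.congr_fun (Phi_comp_theta π σ hπσ) x
    simp only [LinearMap.comp_apply] at this
    change (Phi π σ) ((Psi π σ hπσ) ((1 : R) ⊗ₜ[k] (Ideal.Quotient.mk (kerIdeal σ) x))) =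
      (1 : R) ⊗ₜ[k] (Ideal.Quotient.mk (kerIdeal σ) x)
    have e : (Psi π σ hπσ) ((1 : R) ⊗ₜ[k] (Ideal.Quotient.mk (kerIdeal σ) x)) = theta π σ x := by
      simp only [Psi, Algebra.TensorProduct.lift_tmul, map_one, one_mul]
      rfl
    rw [e]
    exact this

theorem Phi_bijective (hπσ : ∀ x, π (σ x) = x) : Function.Bijective (Phi π σ) := by
  refine ⟨Function.LeftInverse.injective (g := Psi π σ hπσ) (fun x => ?_),
    Function.RightInverse.surjective (g := Psi π σ hπσ) (fun x => ?_)⟩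
  · exact DFunLike.congr_fun (Psi_comp_Phi π σ hπσ) x
  · exact DFunLike.congr_fun (Phi_comp_Psi π σ hπσ) x

end Bij2



section Unique

variable {k : Type u} [Field k] {E : Type v} {R : Type w} [CommRing E] [HopfAlgebra k E]
  [CommRing R] [HopfAlgebra k R] (π : E →ₐc[k] R) (σ : R →ₐc[k] E)

/-- Step 1 of uniqueness: `kerIdeal σ` is contained in any coideal `I'` with local Artinian
quotient, provided `R` has enough `q`-th roots. -/
theorem kerIdeal_le_of_isLocalRing (I' : Ideal E)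
    (hcou : ∀ x ∈ I', Coalgebra.counit (R := k) x = 0)
    [IsLocalRing (E ⧸ I')] [IsArtinianRing (E ⧸ I')]
    (hR : ∀ M : ℕ, ∃ q : ℕ, M ≤ q ∧ 0 < q ∧ ∀ x : R, ∃ z : R, z ^ q = x) :
    kerIdeal σ ≤ I' := by
  rw [kerIdeal_le_iff]
  intro x hx
  obtain ⟨M, hM⟩ := IsArtinianRing.isNilpotent_jacobson_bot (R := E ⧸ I')
  obtain ⟨q, hMq, hq, hroot⟩ := hR M
  obtain ⟨z, rfl⟩ := hroot x
  have hz : Coalgebra.counit (R := k) z = 0 := by
    have : Bialgebra.counitAlgHom k R (z ^ q) = 0 := hx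
    rw [map_pow] at this
    exact pow_eq_zero_iff hq.ne' |>.mp this
  -- the counit on the quotient
  let εB : (E ⧸ I') →ₐ[k] k := Ideal.Quotient.liftₐ I' (Bialgebra.counitAlgHom k E) hcou
  set y : E ⧸ I' := Ideal.Quotient.mk I' (σ z) with hy
  have hεy : εB y = 0 := by
    change Coalgebra.counit (R := k) (σ z) = 0
    rw [counit_sigma, hz]
  have hynu : y ∈ IsLocalRing.maximalIdeal (E ⧸ I') := by
    rw [IsLocalRing.mem_maximalIdeal, mem_nonunits_iff]
    intro hu
    have := hu.map εB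
    rw [hεy] at this
    exact not_isUnit_zero this
  rw [← IsLocalRing.jacobson_eq_maximalIdeal (⊥ : Ideal (E ⧸ I')) bot_ne_top] at hynu
  have hyM : y ^ M = 0 := by
    have := Ideal.pow_mem_pow hynu M
    rwa [hM, Ideal.zero_eq_bot, Ideal.mem_bot] at this
  have hyq : y ^ q = 0 := pow_eq_zero_of_le hMq hyM
  rw [map_pow, ← Ideal.Quotient.eq_zero_iff_mem, map_pow]
  exact hyq

/-- Step 2 of uniqueness. -/
theorem le_kerIdeal_of_injective (hπσ : ∀ x, π (σ x) = x) (I' : Ideal E) (hle : kerIdeal σ ≤ I')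
    (hinj : Function.Injective
      ((Algebra.TensorProduct.map (π : E →ₐ[k] R) (Ideal.Quotient.mkₐ k I')).comp
        (Bialgebra.comulAlgHom k E))) :
    I' ≤ kerIdeal σ := by
  intro x hx
  rw [← Ideal.Quotient.eq_zero_iff_mem]
  obtain ⟨a, ha⟩ := (Phi_bijective π σ hπσ).2 ((1 : R) ⊗ₜ[k] Ideal.Quotient.mk (kerIdeal σ) x)
  let proj : (E ⧸ kerIdeal σ) →ₐ[k] (E ⧸ I') := Ideal.Quotient.factorₐ k hle
  have hcomp : (Algebra.TensorProduct.map (AlgHom.id k R) proj).comp (Phi π σ) =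
      (Algebra.TensorProduct.map (π : E →ₐ[k] R) (Ideal.Quotient.mkₐ k I')).comp
        (Bialgebra.comulAlgHom k E) := by
    unfold Phi
    rw [← AlgHom.comp_assoc, ← Algebra.TensorProduct.map_comp]
    rfl
  have h0 : ((Algebra.TensorProduct.map (π : E →ₐ[k] R) (Ideal.Quotient.mkₐ k I')).comp
        (Bialgebra.comulAlgHom k E)) a = 0 := by
    rw [← hcomp, AlgHom.comp_apply, ha, Algebra.TensorProduct.map_tmul]
    have : proj (Ideal.Quotient.mk (kerIdeal σ) x) = Ideal.Quotient.mk I' x := rfl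
    rw [this, Ideal.Quotient.eq_zero_iff_mem.mpr hx, tmul_zero]
  have ha0 : a = 0 := hinj (by rw [h0, map_zero])
  rw [ha0, map_zero] at ha
  -- apply ε ⊗ id
  let c : R ⊗[k] (E ⧸ kerIdeal σ) →ₐ[k] (E ⧸ kerIdeal σ) :=
    Algebra.TensorProduct.lift ((Algebra.ofId k _).comp (Bialgebra.counitAlgHom k R))
      (AlgHom.id k _) (fun _ _ => Commute.all _ _)
  have := congrArg c ha
  simp only [c, map_zero, Algebra.TensorProduct.lift_tmul, map_one, one_mul, AlgHom.id_apply]
    at this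
  exact this.symm

end Unique



section Final

variable (k : Type u) [Field k] [PerfectField k] (p : ℕ) [Fact p.Prime] [CharP k p]
  (E : Type u) [CommRing E] [HopfAlgebra k E] [FiniteDimensional k E]
  [(nilradical E).IsHopfIdeal k]

include k p in
theorem exists_root :
    ∀ M : ℕ, ∃ q : ℕ, M ≤ q ∧ 0 < q ∧ ∀ x : E ⧸ nilradical E, ∃ z : E ⧸ nilradical E, z ^ q = x := by
  intro M
  haveI hCR : CharP (E ⧸ nilradical E) p := charP_of_bialg k p (E ⧸ nilradical E)
  haveI : ExpChar (E ⧸ nilradical E) p := ExpChar.prime Fact.out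
  haveI : IsReduced (E ⧸ nilradical E) :=
    (Ideal.isRadical_iff_quotient_reduced (nilradical E)).mp (Ideal.radical_isRadical _)
  haveI : PerfectRing (E ⧸ nilradical E) p :=
    PerfectRing.ofSurjective _ p (frobenius_surjective_of_finite k p (E ⧸ nilradical E))
  refine ⟨p ^ M, (Nat.lt_pow_self (Fact.out : p.Prime).one_lt).le,
    pow_pos (Fact.out : p.Prime).pos _, fun x => ?_⟩
  obtain ⟨z, hz⟩ := (bijective_iterateFrobenius (E ⧸ nilradical E) p M).2 x
  exact ⟨z, by rw [← hz, iterateFrobenius_def]⟩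

include p in
theorem existsUnique_local_complement :
    ∃! I : Ideal E, ∃ (_ : I.IsHopfIdeal k), IsLocalRing (E ⧸ I) ∧
      Function.Bijective ((Algebra.TensorProduct.map (Ideal.Quotient.mkₐ k (nilradical E))
        (Ideal.Quotient.mkₐ k I)).comp (Bialgebra.comulAlgHom k E)) := by
  obtain ⟨σ, hσ⟩ := exists_bialgHom_section k p E
  set π : E →ₐc[k] (E ⧸ nilradical E) := Bialgebra.Quotient.mkBialgHom (R := k) (nilradical E)
    with hπ
  have hπσ : ∀ x, π (σ x) = x := fun x => DFunLike.congr_fun hσ x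
  have hnil : ∀ a : E, π a = 0 → IsNilpotent a := by
    intro a ha
    have : Ideal.Quotient.mk (nilradical E) a = 0 := ha
    rw [Ideal.Quotient.eq_zero_iff_mem] at this
    exact mem_nilradical.mp this
  refine ⟨kerIdeal σ, ⟨isHopfIdeal_kerIdeal σ, isLocalRing_quot_kerIdeal π σ hπσ hnil,
    Phi_bijective π σ hπσ⟩, ?_⟩
  rintro I' ⟨hH, hloc, hbij⟩
  haveI := hloc
  haveI : Module.Finite k (E ⧸ I') :=
    Module.Finite.of_surjective (Ideal.Quotient.mkₐ k I').toLinearMap
      (Ideal.Quotient.mkₐ_surjective k I')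
  haveI : IsArtinianRing (E ⧸ I') := IsArtinianRing.of_finite k (E ⧸ I')
  have hle := kerIdeal_le_of_isLocalRing σ I' (fun x hx => hH.counit_eq_zero hx)
    (exists_root k p E)
  exact le_antisymm (le_kerIdeal_of_injective π σ hπσ I' hle hbij.1) hle

end Final


end Groth.Agent.Lib.Helper25.FrobSplit
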