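import Groth.Agent.Lib.Helper25AdicI
import Groth.Agent.Lib.Helper25FamDesc
import Groth.Agent.Lib.Helper25FrobSplit2
import Groth.Agent.Lib.Helper25MultRigidB

/-!
# Descent of the open and closed subgroup (helper25)

SGA3 X 3, non-flat case: the idempotent cutting out `D(M)_P ⊆ H_P` descends to the base.
-/

set_option autoImplicit false
set_option linter.unusedSectionVars false
set_option linter.style.haveILetI false
universe u

namespace Groth.Agent.Lib.Helper25.Adic

open TensorProduct SGA3b Groth.Agent.Lib.Helper25 BCB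

section KerBC

variable {A : Type u} [CommRing A] {P : Type u} [CommRing P] [Algebra A P]
  {C : Type u} [CommRing C] [HopfAlgebra A C] {M : Type u} [CommGroup M]
  (F : P ⊗[A] C →ₐc[P] MonoidAlgebra P M) (e : P ⊗[A] C)
  (P' : Type u) [CommRing P'] [Algebra A P'] [Algebra P P'] [IsScalarTower A P P']

theorem cancelBC_one_tmul' (y : P ⊗[A] C) :
    cancelBC A P P' C ((1 : P') ⊗ₜ[P] y) =
      Algebra.TensorProduct.map (IsScalarTower.toAlgHom A P P') (AlgHom.id A C) y := by
  induction y using TensorProduct.induction_on with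
  | zero => simp
  | add x y hx hy => rw [TensorProduct.tmul_add, map_add, hx, hy, map_add]
  | tmul c a =>
    rw [cancelBC_tmul, Algebra.TensorProduct.map_tmul, IsScalarTower.coe_toAlgHom',
      Algebra.algebraMap_eq_smul_one]
    rfl

theorem eq_mul_of_bcGA_eq_zero (hFs : Function.Surjective F)
    (hke : RingHom.ker (F : P ⊗[A] C →+* MonoidAlgebra P M) = Ideal.span {e})
    (he : IsIdempotentElem e) (x : P' ⊗[A] C) (hx : bcGA P' F x = 0) :
    x = Algebra.TensorProduct.map (IsScalarTower.toAlgHom A P P') (AlgHom.id A C) e * x := by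
  set ε' := Algebra.TensorProduct.map (IsScalarTower.toAlgHom A P P') (AlgHom.id A C) e with hε'
  let Fa : P ⊗[A] C →ₐ[P] MonoidAlgebra P M := (F : P ⊗[A] C →ₐ[P] MonoidAlgebra P M)
  have h1 : Algebra.TensorProduct.map (AlgHom.id P P') Fa ((cancelBC A P P' C).symm x) = 0 := by
    have h0 : ∀ z : P' ⊗[P] (P ⊗[A] C), Algebra.TensorProduct.map (AlgHom.id P P') Fa z =
        Bialgebra.TensorProduct.map (BialgHom.id P' P') F z := by
      intro z
      induction z using TensorProduct.induction_on with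
      | zero => simp
      | add x y hx hy => rw [map_add, map_add, hx, hy]
      | tmul p z => rfl
    rw [h0]
    apply (steBialg P P' M).injective
    rw [map_zero]
    exact hx
  have h2 : (cancelBC A P P' C).symm x ∈ Ideal.span {(1 : P') ⊗ₜ[P] e} := by
    have h3 : (cancelBC A P P' C).symm x ∈
        RingHom.ker (Algebra.TensorProduct.map (AlgHom.id P P') Fa) := h1
    rw [Algebra.TensorProduct.lTensor_ker _ hFs] at h3
    have h4 : RingHom.ker Fa = Ideal.span {e} := hke
    rw [h4, Ideal.map_span, Set.image_singleton] at h3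
    exact h3
  obtain ⟨y, hy⟩ := Ideal.mem_span_singleton'.mp h2
  have h5 : x = cancelBC A P P' C y * ε' := by
    have h6 := congrArg (cancelBC A P P' C) hy
    rw [BialgEquiv.apply_symm_apply, map_mul, cancelBC_one_tmul'] at h6
    exact h6.symm
  have he' : ε' * ε' = ε' := by rw [hε', ← map_mul, he.eq]
  rw [h5, mul_comm ε', mul_assoc, he']

end KerBC

section Sep

variable {A : Type u} [CommRing A] (I : Ideal A) {P : Type u} [CommRing P] [Algebra A P]
  {C : Type u} [CommRing C] [HopfAlgebra A C] {M : Type u} [CommGroup M]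
  (F : P ⊗[A] C →ₐc[P] MonoidAlgebra P M) (e : P ⊗[A] C)
  (P' : Type u) [CommRing P'] [Algebra A P']

theorem eq_mul_of_forall_mem_pow [Algebra P P'] [IsScalarTower A P P']
    [IsHausdorff (I.map (algebraMap A P')) P'] (hFs : Function.Surjective F)
    (hke : RingHom.ker (F : P ⊗[A] C →+* MonoidAlgebra P M) = Ideal.span {e})
    (he : IsIdempotentElem e) (x : P' ⊗[A] C)
    (hx : ∀ n : ℕ, x ∈ (I ^ n).map (algebraMap A (P' ⊗[A] C))) :
    x = Algebra.TensorProduct.map (IsScalarTower.toAlgHom A P P') (AlgHom.id A C) e * x := by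
  classical
  apply eq_mul_of_bcGA_eq_zero F e P' hFs hke he
  apply monoidAlgebra_eq_zero_of_forall_map (I.map (algebraMap A P'))
  intro n
  let ρ : P' ⊗[A] C →+* MonoidAlgebra (P' ⧸ (I.map (algebraMap A P')) ^ (n + 1)) M :=
    (MonoidAlgebra.mapRingHom M (Ideal.Quotient.mk ((I.map (algebraMap A P')) ^ (n + 1)))).comp
      ((bcGA P' F : P' ⊗[A] C →ₐ[P'] MonoidAlgebra P' M) : P' ⊗[A] C →+* MonoidAlgebra P' M)
  have hle : (I ^ (n + 1)).map (algebraMap A (P' ⊗[A] C)) ≤ RingHom.ker ρ := by
    rw [Ideal.map_le_iff_le_comap]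
    intro a ha
    rw [Ideal.mem_comap, RingHom.mem_ker]
    change MonoidAlgebra.mapRingHom M _ (bcGA P' F (algebraMap A (P' ⊗[A] C) a)) = 0
    rw [IsScalarTower.algebraMap_apply A P' (P' ⊗[A] C), AlgHomClass.commutes]
    have h1 : Ideal.Quotient.mk ((I.map (algebraMap A P')) ^ (n + 1)) (algebraMap A P' a) = 0 := by
      rw [Ideal.Quotient.eq_zero_iff_mem, ← Ideal.map_pow]
      exact Ideal.mem_map_of_mem _ ha
    apply MonoidAlgebra.coeff_injective
    ext m
    rw [MonoidAlgebra.coeff_mapRingHom, MonoidAlgebra.coe_algebraMap, Function.comp_apply,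
      Algebra.algebraMap_self, RingHom.id_apply, MonoidAlgebra.coeff_single,
      Finsupp.single_apply]
    split_ifs
    · rw [h1]
      rfl
    · rw [map_zero]
      rfl
  exact hle (hx (n + 1))

theorem eq_mul_of_forall_mem_pow' (j : P →ₐ[A] P')
    [IsHausdorff (I.map (algebraMap A P')) P'] (hFs : Function.Surjective F)
    (hke : RingHom.ker (F : P ⊗[A] C →+* MonoidAlgebra P M) = Ideal.span {e})
    (he : IsIdempotentElem e) (x : P' ⊗[A] C)
    (hx : ∀ n : ℕ, x ∈ (I ^ n).map (algebraMap A (P' ⊗[A] C))) :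
    x = Algebra.TensorProduct.map j (AlgHom.id A C) e * x := by
  letI : Algebra P P' := j.toRingHom.toAlgebra
  haveI : IsScalarTower A P P' := IsScalarTower.of_algebraMap_eq (fun a => (j.commutes a).symm)
  have h1 : IsScalarTower.toAlgHom A P P' = j := AlgHom.ext (fun _ => rfl)
  have h2 := eq_mul_of_forall_mem_pow I F e P' hFs hke he x hx
  rw [h1] at h2
  exact h2

end Sep

section Descent

variable {A : Type u} [CommRing A] (I : Ideal A) {P : Type u} [CommRing P] [Algebra A P]
  {C : Type u} [CommRing C] [HopfAlgebra A C] {M : Type u} [CommGroup M]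
  (F : P ⊗[A] C →ₐc[P] MonoidAlgebra P M) (e : P ⊗[A] C)

theorem mem_map_of_mem_smul_ker
    (hle : e ∈ (I.map (algebraMap A P)) • LinearMap.ker F.toCoalgHom.toLinearMap) :
    e ∈ I.map (algebraMap A (P ⊗[A] C)) := by
  have h0 : I.map (algebraMap A (P ⊗[A] C)) =
      (I.map (algebraMap A P)).map (algebraMap P (P ⊗[A] C)) := by
    rw [Ideal.map_map, ← IsScalarTower.algebraMap_eq]
  refine Submodule.smul_induction_on hle ?_ ?_
  · intro j hj k _
    rw [Algebra.smul_def]
    apply Ideal.mul_mem_right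
    rw [h0]
    exact Ideal.mem_map_of_mem _ hj
  · intro x y hx hy
    exact Ideal.add_mem _ hx hy

theorem forall_mem_pow_of_idem (he : IsIdempotentElem e)
    (h : e ∈ I.map (algebraMap A (P ⊗[A] C))) (n : ℕ) :
    e ∈ (I ^ n).map (algebraMap A (P ⊗[A] C)) := by
  rw [Ideal.map_pow]
  have h1 : e ^ n ∈ (I.map (algebraMap A (P ⊗[A] C))) ^ n := Ideal.pow_mem_pow h n
  cases n with
  | zero =>
    rw [pow_zero, Ideal.one_eq_top]
    trivial
  | succ k => rwa [he.pow_succ_eq] at h1

/-- The idempotent cutting out `D(M)_P` descends to the base. -/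
theorem exists_eq_one_tmul_of_idem [IsNoetherianRing A] [Module.Finite A P]
    [Module.FaithfullyFlat A P] (hI : I ≤ Ideal.jacobson ⊥) (hFs : Function.Surjective F)
    (hke : RingHom.ker (F : P ⊗[A] C →+* MonoidAlgebra P M) = Ideal.span {e})
    (he : IsIdempotentElem e)
    (hle : e ∈ (I.map (algebraMap A P)) • LinearMap.ker F.toCoalgHom.toLinearMap) :
    ∃ c : C, e = (1 : P) ⊗ₜ[A] c := by
  apply FamDesc.exists_eq_one_tmul_of_rTensor_eq P C e
  let jL : P →ₐ[A] P ⊗[A] P := Algebra.TensorProduct.includeLeft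
  let jR : P →ₐ[A] P ⊗[A] P := Algebra.TensorProduct.includeRight
  have hr : ∀ (j : P →ₐ[A] P ⊗[A] P) (z : P ⊗[A] C), LinearMap.rTensor C j.toLinearMap z =
      Algebra.TensorProduct.map j (AlgHom.id A C) z := by
    intro j z
    induction z using TensorProduct.induction_on with
    | zero => simp
    | add x y hx hy => rw [map_add, map_add, hx, hy]
    | tmul p c => rfl
  haveI : IsHausdorff (I.map (algebraMap A (P ⊗[A] P))) (P ⊗[A] P) := by
    rw [IsHausdorff.map_algebraMap_iff]
    exact IsHausdorff.of_le_jacobson I _ hI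
  have hmem := forall_mem_pow_of_idem I e he (mem_map_of_mem_smul_ker I F e hle)
  have hmemβ : ∀ (j : P →ₐ[A] P ⊗[A] P) (n : ℕ), Algebra.TensorProduct.map j (AlgHom.id A C) e ∈
      (I ^ n).map (algebraMap A ((P ⊗[A] P) ⊗[A] C)) := by
    intro j n
    have h1 := Ideal.mem_map_of_mem (Algebra.TensorProduct.map j (AlgHom.id A C)).toRingHom
      (hmem n)
    rw [Ideal.map_map] at h1
    have h2 : ((Algebra.TensorProduct.map j (AlgHom.id A C)).toRingHom).comp
        (algebraMap A (P ⊗[A] C)) = algebraMap A ((P ⊗[A] P) ⊗[A] C) :=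
      (Algebra.TensorProduct.map j (AlgHom.id A C)).comp_algebraMap
    rw [h2] at h1
    exact h1
  have h12 := eq_mul_of_forall_mem_pow' I F e (P ⊗[A] P) jL hFs hke he _ (hmemβ jR)
  have h21 := eq_mul_of_forall_mem_pow' I F e (P ⊗[A] P) jR hFs hke he _ (hmemβ jL)
  rw [hr jL, hr jR]
  calc Algebra.TensorProduct.map jL (AlgHom.id A C) e
      = Algebra.TensorProduct.map jR (AlgHom.id A C) e *
          Algebra.TensorProduct.map jL (AlgHom.id A C) e := h21
    _ = Algebra.TensorProduct.map jL (AlgHom.id A C) e *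
          Algebra.TensorProduct.map jR (AlgHom.id A C) e := mul_comm _ _
    _ = Algebra.TensorProduct.map jR (AlgHom.id A C) e := h12.symm

end Descent

section HopfIdem

variable {A : Type u} [CommRing A] {C : Type u} [CommRing C] [HopfAlgebra A C] (e : C)

/-- An idempotent `e` with `ε(e) = 0`, `Δ(e) (1-e)⊗(1-e) = 0`, `S(e) (1-e) = 0` generates a
Hopf ideal. -/
theorem isHopfIdeal_span_of_idem (hε : Coalgebra.counit (R := A) e = 0)
    (hΔ : Coalgebra.comul (R := A) e * ((1 - e) ⊗ₜ[A] (1 - e)) = 0)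
    (hS : HopfAlgebra.antipode A e * (1 - e) = 0) : (Ideal.span ({e} : Set C)).IsHopfIdeal A := by
  have hmk : Ideal.Quotient.mkₐ A (Ideal.span ({e} : Set C)) e = 0 :=
    Ideal.Quotient.eq_zero_iff_mem.mpr (Ideal.mem_span_singleton_self e)
  have hco : ((Ideal.span ({e} : Set C)).restrictScalars A).IsCoideal := by
    refine ⟨?_, ?_⟩
    · intro x hx
      obtain ⟨r, rfl⟩ := Ideal.mem_span_singleton'.mp hx
      rw [Bialgebra.counit_mul, hε, mul_zero]
    · intro x hx
      obtain ⟨r, rfl⟩ := Ideal.mem_span_singleton'.mp hx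
      change (Algebra.TensorProduct.map (Ideal.Quotient.mkₐ A (Ideal.span ({e} : Set C)))
        (Ideal.Quotient.mkₐ A (Ideal.span ({e} : Set C))))
        (Bialgebra.comulAlgHom A C (r * e)) = 0
      have h1 : (Algebra.TensorProduct.map (Ideal.Quotient.mkₐ A (Ideal.span ({e} : Set C)))
          (Ideal.Quotient.mkₐ A (Ideal.span ({e} : Set C))))
          (Bialgebra.comulAlgHom A C e) = 0 := by
        have h2 := congrArg (Algebra.TensorProduct.map
          (Ideal.Quotient.mkₐ A (Ideal.span ({e} : Set C)))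
          (Ideal.Quotient.mkₐ A (Ideal.span ({e} : Set C)))) hΔ
        rw [map_mul, Algebra.TensorProduct.map_tmul, map_sub, map_one, hmk, sub_zero,
          ← Algebra.TensorProduct.one_def, mul_one, map_zero] at h2
        exact h2
      rw [map_mul, map_mul, h1, mul_zero]
  refine { toIsCoideal := hco, antipode_mem := ?_ }
  intro x hx
  obtain ⟨r, rfl⟩ := Ideal.mem_span_singleton'.mp hx
  change HopfAlgebra.antipodeAlgHom A C (r * e) ∈ _
  rw [map_mul]
  apply Ideal.mul_mem_left
  have h3 : HopfAlgebra.antipodeAlgHom A C e = HopfAlgebra.antipodeAlgHom A C e * e := by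
    have h4 : HopfAlgebra.antipodeAlgHom A C e * (1 - e) = 0 := hS
    rw [mul_sub, mul_one, sub_eq_zero] at h4
    exact h4
  rw [h3]
  exact Ideal.mul_mem_left _ _ (Ideal.mem_span_singleton_self e)

end HopfIdem

section KerHopf

variable {P : Type u} [CommRing P] {X Z : Type u} [CommRing X] [CommRing Z]

theorem comul_mul_eq_zero_of_ker [Bialgebra P X] [Bialgebra P Z] (F : X →ₐc[P] Z)
    (hFs : Function.Surjective F) (e : X) (he : IsIdempotentElem e)
    (hke : RingHom.ker (F : X →+* Z) = Ideal.span {e}) :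
    Coalgebra.comul (R := P) e * ((1 - e) ⊗ₜ[P] (1 - e)) = 0 := by
  let Fa : X →ₐ[P] Z := (F : X →ₐ[P] Z)
  have hFe : F e = 0 := by
    have h2 : e ∈ RingHom.ker (F : X →+* Z) := by
      rw [hke]
      exact Ideal.mem_span_singleton_self e
    exact h2
  have h1 : Algebra.TensorProduct.map Fa Fa (Coalgebra.comul (R := P) e) = 0 := by
    have h2 := CoalgHomClass.map_comp_comul_apply F e
    rw [hFe, map_zero] at h2
    exact h2
  have h2 : Coalgebra.comul (R := P) e ∈ RingHom.ker (Algebra.TensorProduct.map Fa Fa) := h1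
  have h4 : RingHom.ker Fa = Ideal.span {e} := hke
  rw [Algebra.TensorProduct.map_ker _ _ hFs hFs, h4, Ideal.map_span, Ideal.map_span,
    Set.image_singleton, Set.image_singleton] at h2
  obtain ⟨y, hy, z, hz, hyz⟩ := Submodule.mem_sup.mp h2
  obtain ⟨r, rfl⟩ := Ideal.mem_span_singleton'.mp hy
  obtain ⟨s, rfl⟩ := Ideal.mem_span_singleton'.mp hz
  have h5 : e * (1 - e) = 0 := by rw [mul_sub, mul_one, he.eq, sub_self]
  rw [← hyz, add_mul, mul_assoc, mul_assoc, Algebra.TensorProduct.includeLeft_apply,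
    Algebra.TensorProduct.includeRight_apply, Algebra.TensorProduct.tmul_mul_tmul,
    Algebra.TensorProduct.tmul_mul_tmul, h5, TensorProduct.zero_tmul, TensorProduct.tmul_zero,
    mul_zero, mul_zero, add_zero]

theorem antipode_mul_eq_zero_of_ker [HopfAlgebra P X] [HopfAlgebra P Z] (F : X →ₐc[P] Z)
    (e : X) (he : IsIdempotentElem e)
    (hke : RingHom.ker (F : X →+* Z) = Ideal.span {e}) :
    HopfAlgebra.antipode P e * (1 - e) = 0 := by
  have hFe : F e = 0 := by
    have h2 : e ∈ RingHom.ker (F : X →+* Z) := by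
      rw [hke]
      exact Ideal.mem_span_singleton_self e
    exact h2
  have h1 : F (HopfAlgebra.antipode P e) = 0 := by
    have h2 := congrArg (fun f : X →ₗ[P] Z => f e) (FrobSplit.antipode_comp_bialgHom F)
    simp only [LinearMap.comp_apply] at h2
    have h3 : HopfAlgebra.antipode P (F e) = F (HopfAlgebra.antipode P e) := h2
    rw [← h3, hFe, map_zero]
  have h2 : HopfAlgebra.antipode P e ∈ RingHom.ker (F : X →+* Z) := h1
  rw [hke] at h2
  obtain ⟨r, hr⟩ := Ideal.mem_span_singleton'.mp h2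
  rw [← hr, mul_assoc, mul_sub, mul_one, he.eq, sub_self, mul_zero]

end KerHopf

section Quot

variable {R : Type u} [CommRing R] {X Y Z : Type u} [CommRing X] [CommRing Y] [CommRing Z]
  [Bialgebra R X] [Bialgebra R Y] [Bialgebra R Z]

theorem nonempty_bialgEquiv_of_ker_eq (π : X →ₐc[R] Y) (F : X →ₐc[R] Z)
    (hπ : Function.Surjective π) (hF : Function.Surjective F)
    (hker : ∀ x, π x = 0 ↔ F x = 0) : Nonempty (Y ≃ₐc[R] Z) := by
  let πa : X →ₐ[R] Y := (π : X →ₐ[R] Y)
  let Fa : X →ₐ[R] Z := (F : X →ₐ[R] Z)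
  have H : RingHom.ker πa.toRingHom ≤ RingHom.ker Fa.toRingHom := fun x hx => (hker x).mp hx
  let Ψa : Y →ₐ[R] Z := AlgHom.liftOfSurjective πa hπ Fa H
  have hΨ : ∀ x, Ψa (π x) = F x := fun x => AlgHom.liftOfSurjective_apply πa hπ Fa H x
  have hcounit : (Bialgebra.counitAlgHom R Z).comp Ψa = Bialgebra.counitAlgHom R Y := by
    apply AlgHom.ext
    intro y
    obtain ⟨x, rfl⟩ := hπ y
    change Coalgebra.counit (R := R) (Ψa (π x)) = Coalgebra.counit (R := R) (π x)
    rw [hΨ, CoalgHomClass.counit_comp_apply, CoalgHomClass.counit_comp_apply]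
  have hcomul : (Algebra.TensorProduct.map Ψa Ψa).comp (Bialgebra.comulAlgHom R Y) =
      (Bialgebra.comulAlgHom R Z).comp Ψa := by
    apply AlgHom.ext
    intro y
    obtain ⟨x, rfl⟩ := hπ y
    change Algebra.TensorProduct.map Ψa Ψa (Coalgebra.comul (R := R) (π x)) =
      Coalgebra.comul (R := R) (Ψa (π x))
    rw [hΨ, ← CoalgHomClass.map_comp_comul_apply F x, ← CoalgHomClass.map_comp_comul_apply π x]
    generalize Coalgebra.comul (R := R) x = w
    induction w using TensorProduct.induction_on with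
    | zero => simp
    | add a b ha hb => rw [map_add, map_add, ha, hb, map_add]
    | tmul a b =>
      rw [TensorProduct.map_tmul, TensorProduct.map_tmul, Algebra.TensorProduct.map_tmul]
      change Ψa (π a) ⊗ₜ[R] Ψa (π b) = F a ⊗ₜ[R] F b
      rw [hΨ, hΨ]
  let Ψ : Y →ₐc[R] Z := BialgHom.ofAlgHom Ψa hcounit hcomul
  have hbij : Function.Bijective Ψ := by
    constructor
    · rw [injective_iff_map_eq_zero]
      intro y hy
      obtain ⟨x, rfl⟩ := hπ y
      have h1 : F x = 0 := by
        rw [← hΨ]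
        exact hy
      exact (hker x).mpr h1
    · intro z
      obtain ⟨x, rfl⟩ := hF z
      exact ⟨π x, hΨ x⟩
  exact ⟨BialgEquiv.ofBijective Ψ hbij⟩

end Quot

section BcMap2

variable {A : Type u} [CommRing A] (P : Type u) [CommRing P] [Algebra A P]
  (C : Type u) [CommRing C] [Bialgebra A C]

theorem bcMap2_mul (x y : C ⊗[A] C) :
    MRB.bcMap2 (R := A) P C (x * y) = MRB.bcMap2 (R := A) P C x * MRB.bcMap2 (R := A) P C y := by
  induction x using TensorProduct.induction_on with
  | zero => simp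
  | add a b ha hb => rw [add_mul, map_add, ha, hb, map_add, add_mul]
  | tmul a b =>
    induction y using TensorProduct.induction_on with
    | zero => simp
    | add c d hc hd => rw [mul_add, map_add, hc, hd, map_add, mul_add]
    | tmul c d =>
      rw [Algebra.TensorProduct.tmul_mul_tmul, MRB.bcMap2_tmul, MRB.bcMap2_tmul, MRB.bcMap2_tmul,
        Algebra.TensorProduct.tmul_mul_tmul, Algebra.TensorProduct.tmul_mul_tmul,
        Algebra.TensorProduct.tmul_mul_tmul, mul_one]

theorem bcMap2_injective [Module.FaithfullyFlat A P] : Function.Injective (MRB.bcMap2 (R := A) P C) := by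
  intro x y h
  have h1 : ((1 : P) ⊗ₜ[P] (1 : P)) ⊗ₜ[A] x = ((1 : P) ⊗ₜ[P] (1 : P)) ⊗ₜ[A] y :=
    (AlgebraTensorModule.tensorTensorTensorComm A P A P P P C C).injective h
  have h2 := congrArg (LinearMap.rTensor (C ⊗[A] C)
    ((TensorProduct.lid P P).toLinearMap.restrictScalars A)) h1
  rw [LinearMap.rTensor_tmul, LinearMap.rTensor_tmul] at h2
  have h3 : ((TensorProduct.lid P P).toLinearMap.restrictScalars A) ((1 : P) ⊗ₜ[P] (1 : P)) = 1 := by
    change (TensorProduct.lid P P) ((1 : P) ⊗ₜ[P] (1 : P)) = 1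
    rw [TensorProduct.lid_tmul, one_smul]
  rw [h3] at h2
  exact Module.FaithfullyFlat.tensorProduct_mk_injective (A := A) (B := P) (C ⊗[A] C) h2

end BcMap2

section Final

variable {A : Type u} [CommRing A] {P : Type u} [CommRing P] [Algebra A P]
  [Module.FaithfullyFlat A P]
  {C : Type u} [CommRing C] [HopfAlgebra A C] {M : Type u} [CommGroup M]
  (F : P ⊗[A] C →ₐc[P] MonoidAlgebra P M) (c : C)

theorem isHopfIdeal_of_ker_eq_span_one_tmul (hFs : Function.Surjective F)
    (hke : RingHom.ker (F : P ⊗[A] C →+* MonoidAlgebra P M) = Ideal.span {(1 : P) ⊗ₜ[A] c})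
    (he : IsIdempotentElem c) : (Ideal.span ({c} : Set C)).IsHopfIdeal A := by
  have heP : IsIdempotentElem ((1 : P) ⊗ₜ[A] c) := by
    unfold IsIdempotentElem
    rw [Algebra.TensorProduct.tmul_mul_tmul, mul_one, he.eq]
  have hinj := Module.FaithfullyFlat.tensorProduct_mk_injective (A := A) (B := P) C
  have h1sub : (1 : P) ⊗ₜ[A] (1 - c) = 1 - (1 : P) ⊗ₜ[A] c := by
    rw [TensorProduct.tmul_sub, Algebra.TensorProduct.one_def]
  apply isHopfIdeal_span_of_idem c
  · have h1 := counit_eq_zero_of_ker_eq_span F _ hke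
    rw [TensorProduct.counit_tmul, CommSemiring.counit_apply, Algebra.smul_def, mul_one] at h1
    exact FaithfulSMul.algebraMap_injective A P (by rw [h1, map_zero])
  · apply bcMap2_injective P C
    rw [map_zero, bcMap2_mul, ← MRB.comul_one_tmul, MRB.bcMap2_tmul, h1sub]
    exact comul_mul_eq_zero_of_ker F hFs _ heP hke
  · apply hinj
    change (1 : P) ⊗ₜ[A] (HopfAlgebra.antipode A c * (1 - c)) = (1 : P) ⊗ₜ[A] (0 : C)
    rw [TensorProduct.tmul_zero]
    have h2 : (1 : P) ⊗ₜ[A] (HopfAlgebra.antipode A c * (1 - c)) =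
        HopfAlgebra.antipode P ((1 : P) ⊗ₜ[A] c) * (1 - (1 : P) ⊗ₜ[A] c) := by
      rw [TensorProduct.antipode_def, AlgebraTensorModule.map_tmul, HopfAlgebra.antipode_one,
        ← h1sub, Algebra.TensorProduct.tmul_mul_tmul, mul_one]
    rw [h2]
    exact antipode_mul_eq_zero_of_ker F _ heP hke

theorem nonempty_equiv_quot (hFs : Function.Surjective F)
    (hke : RingHom.ker (F : P ⊗[A] C →+* MonoidAlgebra P M) = Ideal.span {(1 : P) ⊗ₜ[A] c})
    [hH : (Ideal.span ({c} : Set C)).IsHopfIdeal A] :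
    Nonempty (P ⊗[A] (C ⧸ Ideal.span ({c} : Set C)) ≃ₐc[P] MonoidAlgebra P M) := by
  let π : P ⊗[A] C →ₐc[P] P ⊗[A] (C ⧸ Ideal.span ({c} : Set C)) :=
    Bialgebra.TensorProduct.map (BialgHom.id P P)
      (Bialgebra.Quotient.mkBialgHom (Ideal.span ({c} : Set C)))
  have hπ0 : ∀ z, π z = Algebra.TensorProduct.map (AlgHom.id A P)
      (Ideal.Quotient.mkₐ A (Ideal.span ({c} : Set C))) z := by
    intro z
    induction z using TensorProduct.induction_on with
    | zero => simp
    | add x y hx hy => rw [map_add, map_add, hx, hy]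
    | tmul p x => rfl
  have hπs : Function.Surjective π := by
    intro w
    obtain ⟨z, hz⟩ := Algebra.TensorProduct.map_surjective (AlgHom.id A P)
      (Ideal.Quotient.mkₐ A (Ideal.span ({c} : Set C))) Function.surjective_id
      (Ideal.Quotient.mkₐ_surjective A _) w
    exact ⟨z, by rw [hπ0, hz]⟩
  have hk : RingHom.ker (Algebra.TensorProduct.map (AlgHom.id A P)
      (Ideal.Quotient.mkₐ A (Ideal.span ({c} : Set C)))) = Ideal.span {(1 : P) ⊗ₜ[A] c} := by
    have hkq : RingHom.ker (Ideal.Quotient.mkₐ A (Ideal.span ({c} : Set C))) =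
        Ideal.span ({c} : Set C) := by
      ext x
      rw [RingHom.mem_ker]
      exact Ideal.Quotient.eq_zero_iff_mem
    rw [Algebra.TensorProduct.lTensor_ker _ (Ideal.Quotient.mkₐ_surjective A _),
      hkq, Ideal.map_span, Set.image_singleton]
    rfl
  refine nonempty_bialgEquiv_of_ker_eq π F hπs hFs ?_
  intro z
  rw [hπ0]
  constructor
  · intro h
    have h1 : z ∈ RingHom.ker (Algebra.TensorProduct.map (AlgHom.id A P)
        (Ideal.Quotient.mkₐ A (Ideal.span ({c} : Set C)))) := h
    rw [hk, ← hke] at h1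
    exact h1
  · intro h
    have h1 : z ∈ RingHom.ker (F : P ⊗[A] C →+* MonoidAlgebra P M) := h
    rw [hke, ← hk] at h1
    exact h1

end Final

section Mem

variable {A : Type u} [CommRing A] {P : Type u} [CommRing P] [Algebra A P]
  [Module.FaithfullyFlat A P] {C : Type u} [CommRing C] [Algebra A C]

theorem mem_map_of_one_tmul_mem (I : Ideal A) (c : C)
    (h : (1 : P) ⊗ₜ[A] c ∈ I.map (algebraMap A (P ⊗[A] C))) :
    c ∈ I.map (algebraMap A C) := by
  let q : P ⊗[A] C →ₐ[A] P ⊗[A] (C ⧸ I.map (algebraMap A C)) :=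
    Algebra.TensorProduct.map (AlgHom.id A P) (Ideal.Quotient.mkₐ A (I.map (algebraMap A C)))
  have hle : I.map (algebraMap A (P ⊗[A] C)) ≤ RingHom.ker q.toRingHom := by
    rw [Ideal.map_le_iff_le_comap]
    intro a ha
    rw [Ideal.mem_comap, RingHom.mem_ker]
    change q (algebraMap A (P ⊗[A] C) a) = 0
    have h0 : a • (1 : C ⧸ I.map (algebraMap A C)) = 0 := by
      rw [← Algebra.algebraMap_eq_smul_one,
        IsScalarTower.algebraMap_apply A C (C ⧸ I.map (algebraMap A C)),
        Ideal.Quotient.algebraMap_eq, Ideal.Quotient.eq_zero_iff_mem]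
      exact Ideal.mem_map_of_mem _ ha
    rw [AlgHom.commutes, Algebra.algebraMap_eq_smul_one, Algebra.TensorProduct.one_def,
      ← TensorProduct.tmul_smul, h0, TensorProduct.tmul_zero]
  have h1 : q ((1 : P) ⊗ₜ[A] c) = 0 := hle h
  have h2 : (1 : P) ⊗ₜ[A] (Ideal.Quotient.mk (I.map (algebraMap A C)) c) =
      (1 : P) ⊗ₜ[A] (0 : C ⧸ I.map (algebraMap A C)) := by
    rw [TensorProduct.tmul_zero]
    exact h1
  have h3 := Module.FaithfullyFlat.tensorProduct_mk_injective (A := A) (B := P)
    (C ⧸ I.map (algebraMap A C)) h2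
  exact Ideal.Quotient.eq_zero_iff_mem.mp h3

end Mem

end Groth.Agent.Lib.Helper25.Adic
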