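import Groth.Agent.Lib.Helper25AdicC

/-!
# Lifting homomorphisms along ideals with idempotent lifting: families of trivialisations (helper25)

Family versions of `HomLift.homLift_unique`, `HomLift.homLift_exists`: the Hopf algebras `B`, `C`
become group algebras over the members of a jointly faithfully flat finite family `S i`, the types
being allowed to vary with `i`.
-/

set_option autoImplicit false
set_option linter.unusedSectionVars false
set_option linter.style.haveILetI false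
universe u

namespace Groth.Agent.Lib.Helper25.Adic

open TensorProduct SGA3b Groth.Agent.Lib.Helper25 DescGL DescLift BCB HomLift

section FamDescHom

variable {R : Type u} [CommRing R] {B C : Type u} [CommRing B] [CommRing C]
  [HopfAlgebra R B] [HopfAlgebra R C]
  {ι : Type u} [Fintype ι] [DecidableEq ι] (S : ι → Type u) [∀ i, CommRing (S i)]
  [∀ i, Algebra R (S i)] [Module.FaithfullyFlat R (∀ i, S i)]

/-- Family descent of bialgebra maps. -/
theorem exists_bialgHom_of_fam_isBC (f : ∀ i, S i ⊗[R] C →ₐc[S i] S i ⊗[R] B)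
    (g : ∀ i j, (S i ⊗[R] S j) ⊗[R] C →ₐc[S i ⊗[R] S j] (S i ⊗[R] S j) ⊗[R] B)
    (h₁ : ∀ i j, IsBC (Algebra.TensorProduct.includeLeft : S i →ₐ[R] S i ⊗[R] S j) (f i) (g i j))
    (h₂ : ∀ i j, IsBC (Algebra.TensorProduct.includeRight : S j →ₐ[R] S i ⊗[R] S j) (f j)
      (g i j)) :
    ∃ φ : C →ₐc[R] B, ∀ i (c : C), f i ((1 : S i) ⊗ₜ[R] c) = (1 : S i) ⊗ₜ[R] φ c := by
  classical
  have hdesc : ∀ c : C, ∃ b : B, ∀ i, f i ((1 : S i) ⊗ₜ[R] c) = (1 : S i) ⊗ₜ[R] b := by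
    intro c
    apply FamDesc.exists_forall_eq_one_tmul S B (fun i => f i ((1 : S i) ⊗ₜ[R] c))
    intro i j
    rw [← map_eq_rTensor, ← map_eq_rTensor, ← h₁ i j c, ← h₂ i j c]
  choose φf hφf using hdesc
  have hinj' : ∀ b b' : B, (∀ i, (1 : S i) ⊗ₜ[R] b = (1 : S i) ⊗ₜ[R] b') → b = b' := by
    intro b b' h
    rw [← sub_eq_zero]
    apply FamDesc.eq_zero_of_forall_one_tmul (R := R) S B
    intro i
    rw [TensorProduct.tmul_sub, h i, sub_self]
  let φa : C →ₐ[R] B :=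
    { toFun := φf
      map_one' := by
        apply hinj'
        intro i
        rw [← hφf, ← Algebra.TensorProduct.one_def, map_one, Algebra.TensorProduct.one_def]
      map_mul' := fun c c' => by
        apply hinj'
        intro i
        have h1 : (1 : S i) ⊗ₜ[R] (c * c') = ((1 : S i) ⊗ₜ[R] c) * ((1 : S i) ⊗ₜ[R] c') := by
          rw [Algebra.TensorProduct.tmul_mul_tmul, mul_one]
        rw [← hφf, h1, map_mul, hφf, hφf, Algebra.TensorProduct.tmul_mul_tmul, mul_one]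
      map_zero' := by
        apply hinj'
        intro i
        rw [← hφf, TensorProduct.tmul_zero, map_zero, TensorProduct.tmul_zero]
      map_add' := fun c c' => by
        apply hinj'
        intro i
        rw [← hφf, TensorProduct.tmul_add, map_add, hφf, hφf, TensorProduct.tmul_add]
      commutes' := fun r => by
        apply hinj'
        intro i
        have h1 : (1 : S i) ⊗ₜ[R] (algebraMap R C r) =
            algebraMap (S i) (S i ⊗[R] C) (algebraMap R (S i) r) := by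
          rw [Algebra.TensorProduct.algebraMap_apply, Algebra.algebraMap_eq_smul_one r,
            TensorProduct.tmul_smul, TensorProduct.smul_tmul', Algebra.algebraMap_self,
            RingHom.id_apply, Algebra.algebraMap_eq_smul_one r]
        have h2 : (1 : S i) ⊗ₜ[R] (algebraMap R B r) =
            algebraMap (S i) (S i ⊗[R] B) (algebraMap R (S i) r) := by
          rw [Algebra.TensorProduct.algebraMap_apply, Algebra.algebraMap_eq_smul_one r,
            TensorProduct.tmul_smul, TensorProduct.smul_tmul', Algebra.algebraMap_self,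
            RingHom.id_apply, Algebra.algebraMap_eq_smul_one r]
        rw [← hφf, h1, h2, AlgHomClass.commutes] }
  have hφa : ∀ c, φa c = φf c := fun _ => rfl
  obtain ⟨φ, hφ⟩ := Desc.exists_bialgHom_of_forall_baseChange S φa
    (fun i => ⟨f i, fun c => by rw [hφa]; exact hφf c i⟩)
  exact ⟨φ, fun i c => by rw [hφ, hφa]; exact hφf c i⟩

end FamDescHom

section RedCompat

variable {R : Type u} [CommRing R] (J : Ideal R) {B C : Type u} [CommRing B] [CommRing C]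
  [HopfAlgebra R B] [HopfAlgebra R C]

/-- Compatibility of reductions with base change. -/
theorem isBC_red_of_isBC {T T₂ : Type u} [CommRing T] [CommRing T₂] [Algebra R T] [Algebra R T₂]
    (j : T →ₐ[R] T₂) (φ₀ : (R ⧸ J) ⊗[R] C →ₐc[R ⧸ J] (R ⧸ J) ⊗[R] B)
    {g₀ : (T ⧸ J.map (algebraMap R T)) ⊗[R] C →ₐc[T ⧸ J.map (algebraMap R T)]
      (T ⧸ J.map (algebraMap R T)) ⊗[R] B}
    {k₀ : (T₂ ⧸ J.map (algebraMap R T₂)) ⊗[R] C →ₐc[T₂ ⧸ J.map (algebraMap R T₂)]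
      (T₂ ⧸ J.map (algebraMap R T₂)) ⊗[R] B}
    (hg₀ : IsBC (quotTo J T) φ₀ g₀) (hk₀ : IsBC (quotTo J T₂) φ₀ k₀)
    {f' : T ⊗[R] C →ₐc[T] T ⊗[R] B} (hf' : IsBC (red J T) f' g₀)
    {g : T₂ ⊗[R] C →ₐc[T₂] T₂ ⊗[R] B} (hg : IsBC j f' g) : IsBC (red J T₂) g k₀ := by
  have key : IsBC (quotMapOf J j) g₀ k₀ := by
    obtain ⟨k, hk⟩ := exists_isBC (quotMapOf J j) g₀
    have h1 : IsBC (quotTo J T₂) φ₀ k := (hg₀.comp hk).congr (algHom_quot_ext J _ _)
    rw [← h1.unique hk₀]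
    exact hk
  obtain ⟨k, hk⟩ := exists_isBC (red J T₂) g
  have h1 : IsBC ((red J T₂).comp j) f' k := hg.comp hk
  have h2 : IsBC ((quotMapOf J j).comp (red J T)) f' k₀ := hf'.comp key
  rw [quotMapOf_comp_red] at h2
  rw [h1.unique h2] at hk
  exact hk

/-- `(1 : R') ⊗ (b mod J B) = 0` if `b` dies in `(R'/J R') ⊗ B`. -/
theorem one_tmul_mkQ_eq_zero_of_quot (B : Type u) [CommRing B] [HopfAlgebra R B]
    (R' : Type u) [CommRing R'] [Algebra R R'] (b : B)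
    (h : (1 : R' ⧸ J.map (algebraMap R R')) ⊗ₜ[R] b = 0) :
    (1 : R') ⊗ₜ[R] ((J • (⊤ : Submodule R B)).mkQ b) = 0 := by
  have h1 : (1 : R' ⧸ J.map (algebraMap R R')) ⊗ₜ[R'] ((1 : R') ⊗ₜ[R] b) = 0 := by
    have h0 : cancelBC R R' (R' ⧸ J.map (algebraMap R R')) B
        ((1 : R' ⧸ J.map (algebraMap R R')) ⊗ₜ[R'] ((1 : R') ⊗ₜ[R] b)) =
        cancelBC R R' (R' ⧸ J.map (algebraMap R R')) B 0 := by
      rw [cancelBC_tmul, one_smul, map_zero]
      exact h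
    exact (cancelBC R R' (R' ⧸ J.map (algebraMap R R')) B).injective h0
  rw [NilGL.one_tmul_eq_zero_iff] at h1
  have h2 := NilLift.lTensor_eq_zero_of_mem_smul_top R' B J (NilLift.smul_quot_eq_zero B J)
    (J • (⊤ : Submodule R B)).mkQ h1
  rwa [LinearMap.baseChange_tmul] at h2

end RedCompat

section FamLift

variable {R : Type u} [CommRing R] (J : Ideal R) {B C : Type u} [CommRing B] [CommRing C]
  [HopfAlgebra R B] [HopfAlgebra R C]
  {ι : Type u} [Fintype ι] [DecidableEq ι] (S : ι → Type u) [∀ i, CommRing (S i)]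
  [∀ i, Algebra R (S i)] [Module.FaithfullyFlat R (∀ i, S i)]
  {M N : ι → Type u} [∀ i, CommGroup (M i)] [∀ i, CommGroup (N i)]
  (eB : ∀ i, S i ⊗[R] B ≃ₐc[S i] MonoidAlgebra (S i) (M i))
  (eC : ∀ i, S i ⊗[R] C ≃ₐc[S i] MonoidAlgebra (S i) (N i))

theorem one_tmul_quot_eq_zero_of_fam (b : B)
    (h : ∀ i, (1 : S i ⧸ J.map (algebraMap R (S i))) ⊗ₜ[R] b = 0) :
    (1 : R ⧸ J) ⊗ₜ[R] b = 0 := by
  rw [NilGL.one_tmul_eq_zero_iff, ← Submodule.Quotient.mk_eq_zero]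
  apply FamDesc.eq_zero_of_forall_one_tmul (R := R) S (B ⧸ J • (⊤ : Submodule R B))
  intro i
  exact one_tmul_mkQ_eq_zero_of_quot J B (S i) b (h i)

include eB eC in
/-- Injectivity of the reduction map on homomorphisms, family version. -/
theorem famLift_unique (hIL : ∀ i, IdemLift (J.map (algebraMap R (S i)))) (φ ψ : C →ₐc[R] B)
    (h : ∀ c : C, (1 : R ⧸ J) ⊗ₜ[R] φ c = (1 : R ⧸ J) ⊗ₜ[R] ψ c) : φ = ψ := by
  apply BialgHom.ext
  intro c
  rw [← sub_eq_zero]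
  apply FamDesc.eq_zero_of_forall_one_tmul (R := R) S B
  intro i
  rw [TensorProduct.tmul_sub, sub_eq_zero]
  have h1 : IsBC (red J (S i)) (bcOf (S i) φ) (bcOf (S i ⧸ J.map (algebraMap R (S i))) φ) :=
    isBC_bcOf _ φ
  have h2 : IsBC (red J (S i)) (bcOf (S i) ψ) (bcOf (S i ⧸ J.map (algebraMap R (S i))) φ) := by
    intro c
    rw [bcOf_tmul, bcOf_tmul, Algebra.TensorProduct.map_tmul, map_one]
    have h3 := congrArg (Algebra.TensorProduct.map (quotTo J (S i)) (AlgHom.id R B)) (h c)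
    rw [Algebra.TensorProduct.map_tmul, Algebra.TensorProduct.map_tmul, map_one] at h3
    exact h3
  have h3 := unique_of_triv J (eB i) (eC i) (hIL i) h1 h2
  have h5 := congrArg (fun F => F ((1 : S i) ⊗ₜ[R] c)) h3
  exact h5

include eB eC in
/-- Surjectivity of the reduction map on homomorphisms, family version. -/
theorem famLift_exists (hIL : ∀ i, IdemLift (J.map (algebraMap R (S i))))
    (hIL2 : ∀ i j, IdemLift (J.map (algebraMap R (S i ⊗[R] S j))))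
    (φ₀ : (R ⧸ J) ⊗[R] C →ₐc[R ⧸ J] (R ⧸ J) ⊗[R] B) :
    ∃ φ : C →ₐc[R] B, ∀ c : C, φ₀ ((1 : R ⧸ J) ⊗ₜ[R] c) = (1 : R ⧸ J) ⊗ₜ[R] φ c := by
  classical
  have hg₀ : ∀ i, ∃ g₀ : (S i ⧸ J.map (algebraMap R (S i))) ⊗[R] C →ₐc[S i ⧸ J.map (algebraMap R (S i))]
      (S i ⧸ J.map (algebraMap R (S i))) ⊗[R] B, IsBC (quotTo J (S i)) φ₀ g₀ :=
    fun i => exists_isBC _ φ₀
  choose g₀ hg₀ using hg₀
  have hf : ∀ i, ∃ f' : S i ⊗[R] C →ₐc[S i] S i ⊗[R] B, IsBC (red J (S i)) f' (g₀ i) :=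
    fun i => exists_of_triv J (eB i) (eC i) (hIL i) (g₀ i)
  choose f hf using hf
  have hk₀ : ∀ i j, ∃ k₀ : ((S i ⊗[R] S j) ⧸ J.map (algebraMap R (S i ⊗[R] S j))) ⊗[R] C →ₐc[
      (S i ⊗[R] S j) ⧸ J.map (algebraMap R (S i ⊗[R] S j))]
      ((S i ⊗[R] S j) ⧸ J.map (algebraMap R (S i ⊗[R] S j))) ⊗[R] B,
      IsBC (quotTo J (S i ⊗[R] S j)) φ₀ k₀ := fun i j => exists_isBC _ φ₀
  choose k₀ hk₀ using hk₀
  have hgL : ∀ i j, ∃ g : (S i ⊗[R] S j) ⊗[R] C →ₐc[S i ⊗[R] S j] (S i ⊗[R] S j) ⊗[R] B,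
      IsBC (Algebra.TensorProduct.includeLeft : S i →ₐ[R] S i ⊗[R] S j) (f i) g :=
    fun i j => exists_isBC _ (f i)
  choose gL hgL using hgL
  have hgR : ∀ i j, ∃ g : (S i ⊗[R] S j) ⊗[R] C →ₐc[S i ⊗[R] S j] (S i ⊗[R] S j) ⊗[R] B,
      IsBC (Algebra.TensorProduct.includeRight : S j →ₐ[R] S i ⊗[R] S j) (f j) g :=
    fun i j => exists_isBC _ (f j)
  choose gR hgR using hgR
  have hgg : ∀ i j, gL i j = gR i j := fun i j =>
    unique_of_triv J (MTGlue.bcDiag R (S i) (S i ⊗[R] S j) (eB i))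
      (MTGlue.bcDiag R (S i) (S i ⊗[R] S j) (eC i)) (hIL2 i j)
      (isBC_red_of_isBC J _ φ₀ (hg₀ i) (hk₀ i j) (hf i) (hgL i j))
      (isBC_red_of_isBC J _ φ₀ (hg₀ j) (hk₀ i j) (hf j) (hgR i j))
  obtain ⟨φ, hφ⟩ := exists_bialgHom_of_fam_isBC S f gL hgL (fun i j => by
    rw [hgg]
    exact hgR i j)
  refine ⟨φ, ?_⟩
  intro c
  obtain ⟨b, hb⟩ := exists_eq_one_tmul_quot J B
    (φ₀ ((1 : R ⧸ J) ⊗ₜ[R] c) - (1 : R ⧸ J) ⊗ₜ[R] φ c)
  rw [← sub_eq_zero, hb]
  apply one_tmul_quot_eq_zero_of_fam J S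
  intro i
  have h1 : Algebra.TensorProduct.map (quotTo J (S i)) (AlgHom.id R B)
      (φ₀ ((1 : R ⧸ J) ⊗ₜ[R] c) - (1 : R ⧸ J) ⊗ₜ[R] φ c) = 0 := by
    rw [map_sub, ← hg₀ i c, hf i c, hφ i c, Algebra.TensorProduct.map_tmul,
      Algebra.TensorProduct.map_tmul, map_one, map_one, sub_self]
  rw [hb, Algebra.TensorProduct.map_tmul, map_one] at h1
  exact h1

end FamLift

section FamSurj

variable {S : Type u} [CommRing S] {B C : Type u} [CommRing B] [CommRing C]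
  [HopfAlgebra S B] [HopfAlgebra S C]
  (S₀ : Type u) [CommRing S₀] [Algebra S S₀]
  {ι : Type u} [Fintype ι] [DecidableEq ι] (T : ι → Type u) [∀ i, CommRing (T i)]
  [∀ i, Algebra S (T i)] [Module.FaithfullyFlat S (∀ i, T i)]
  {M N : ι → Type u} [∀ i, CommGroup (M i)] [∀ i, CommGroup (N i)]
  (eB : ∀ i, T i ⊗[S] B ≃ₐc[T i] MonoidAlgebra (T i) (M i))
  (eC : ∀ i, T i ⊗[S] C ≃ₐc[T i] MonoidAlgebra (T i) (N i))

include eB eC in
theorem famLiftSurj_exists (hπ : Function.Surjective (algebraMap S S₀))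
    (hIL : ∀ i, IdemLift ((RingHom.ker (algebraMap S S₀)).map (algebraMap S (T i))))
    (hIL2 : ∀ i j, IdemLift ((RingHom.ker (algebraMap S S₀)).map
      (algebraMap S (T i ⊗[S] T j))))
    (φ₀ : S₀ ⊗[S] C →ₐc[S₀] S₀ ⊗[S] B) :
    ∃ φ : C →ₐc[S] B, ∀ c : C, φ₀ ((1 : S₀) ⊗ₜ[S] c) = (1 : S₀) ⊗ₜ[S] φ c := by
  let θ := quotKerEquiv S₀ hπ
  obtain ⟨φ₀', hφ₀'⟩ := exists_isBC (θ.symm : S₀ →ₐ[S] S ⧸ RingHom.ker (algebraMap S S₀)) φ₀
  obtain ⟨φ, hφ⟩ := famLift_exists (RingHom.ker (algebraMap S S₀)) T eB eC hIL hIL2 φ₀'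
  refine ⟨φ, fun c => ?_⟩
  have h1 := hφ₀' c
  rw [hφ c] at h1
  have h2 := congrArg (Algebra.TensorProduct.map
    (θ : S ⧸ RingHom.ker (algebraMap S S₀) →ₐ[S] S₀) (AlgHom.id S B)) h1
  rw [map_map', Algebra.TensorProduct.map_tmul, map_one] at h2
  have h3 : (θ : S ⧸ RingHom.ker (algebraMap S S₀) →ₐ[S] S₀).comp
      (θ.symm : S₀ →ₐ[S] S ⧸ RingHom.ker (algebraMap S S₀)) = AlgHom.id S S₀ := by
    apply AlgHom.ext
    intro x
    exact θ.apply_symm_apply x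
  rw [h3, Algebra.TensorProduct.map_id] at h2
  exact h2.symm

include eB eC in
theorem famLiftSurj_unique (hπ : Function.Surjective (algebraMap S S₀))
    (hIL : ∀ i, IdemLift ((RingHom.ker (algebraMap S S₀)).map (algebraMap S (T i))))
    (φ ψ : C →ₐc[S] B)
    (h : ∀ c : C, (1 : S₀) ⊗ₜ[S] φ c = (1 : S₀) ⊗ₜ[S] ψ c) : φ = ψ := by
  let θ := quotKerEquiv S₀ hπ
  apply famLift_unique (RingHom.ker (algebraMap S S₀)) T eB eC hIL φ ψ
  intro c
  have h2 := congrArg (Algebra.TensorProduct.map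
    (θ.symm : S₀ →ₐ[S] S ⧸ RingHom.ker (algebraMap S S₀)) (AlgHom.id S B)) (h c)
  rw [Algebra.TensorProduct.map_tmul, Algebra.TensorProduct.map_tmul, map_one] at h2
  exact h2

end FamSurj

end Groth.Agent.Lib.Helper25.Adic
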