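import Groth.Agent.Lib.Helper25DescChart

set_option autoImplicit false
set_option linter.unusedSectionVars false
set_option linter.style.haveILetI false
universe u

namespace Groth.Agent.Lib.Helper25.Desc

open TensorProduct SGA3b Groth.Agent.Lib.Helper25 Groth.Agent.Lib.Helper25.BCB

section Cover

variable {R : Type u} [CommRing R] (t : Finset R) (ht : Ideal.span (t : Set R) = ⊤)
  (P : t → Type u) [∀ h, CommRing (P h)] [∀ h, Algebra R (P h)]
  [∀ h : t, Algebra (Localization.Away (h : R)) (P h)]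
  [∀ h : t, IsScalarTower R (Localization.Away (h : R)) (P h)]
  [∀ h, Module.Flat R (P h)]
  [∀ h : t, Module.FaithfullyFlat (Localization.Away (h : R)) (P h)]

include ht in
/-- A family of faithfully flat algebras over the members of a finite basic open cover is
jointly faithfully flat. -/
theorem faithfullyFlat_pi_cover : Module.FaithfullyFlat R (∀ h : t, P h) := by
  classical
  apply FamDesc.faithfullyFlat_pi
  intro m hm
  haveI := hm.isPrime
  have hex : ∃ h ∈ t, h ∉ m := by
    by_contra hcon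
    push Not at hcon
    have : Ideal.span (t : Set R) ≤ m := Ideal.span_le.mpr (fun h hh => hcon h hh)
    rw [ht] at this
    exact hm.ne_top (top_le_iff.mp this)
  obtain ⟨h, hht, hhm⟩ := hex
  obtain ⟨i, hi⟩ : ∃ i : t, (i : R) ∉ m := ⟨⟨h, hht⟩, hhm⟩
  refine ⟨i, ?_⟩
  rw [Ideal.smul_top_eq_map]
  intro htop
  have h1 : Ideal.map (algebraMap R (P i)) m = ⊤ := by
    rw [Submodule.restrictScalars_eq_top_iff] at htop
    exact htop
  have h2 : Ideal.map (algebraMap R (Localization.Away (i : R))) m ≠ ⊤ :=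
    (IsLocalization.map_algebraMap_ne_top_iff_disjoint (Submonoid.powers (i : R))
      (S := Localization.Away (i : R)) m).mpr
      ((Ideal.disjoint_powers_iff_notMem_of_isPrime (i : R)).mpr hi)
  obtain ⟨m', hm', hle⟩ := Ideal.exists_le_maximal _ h2
  have hffh : Module.FaithfullyFlat (Localization.Away (i : R)) (P i) := inferInstance
  have h3 : m' • (⊤ : Submodule (Localization.Away (i : R)) (P i)) ≠ ⊤ :=
    hffh.submodule_ne_top hm'
  apply h3
  rw [Ideal.smul_top_eq_map, Submodule.restrictScalars_eq_top_iff, eq_top_iff, ← h1,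
    IsScalarTower.algebraMap_eq R (Localization.Away (i : R)) (P i), ← Ideal.map_map]
  exact Ideal.map_mono hle

end Cover

section NilMain

open Groth.Agent.Lib.Helper25.EtaleLift Groth.Agent.Lib.Helper25.EtNil DescLift

variable {R : Type u} [CommRing R] (I : Ideal R) (hI : ∀ x ∈ I, IsNilpotent x)
  (A₀ : Type u) [CommRing A₀] [HopfAlgebra (R ⧸ I) A₀]

include hI in
theorem idemLift_map_nil (X : Type u) [CommRing X] [Algebra R X] :
    IdemLift (I.map (algebraMap R X)) :=
  idemLift_of_nil _ (isNilpotent_of_mem_map _ I hI)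

include hI in
/-- Quasi-isotrivial groups of multiplicative type lift along nil ideals. -/
theorem exists_lift_quasiIsotrivial_nil (h0 : IsQuasiIsotrivial (R ⧸ I) A₀) :
    ∃ (A : Type u) (_ : CommRing A) (_ : HopfAlgebra R A),
      IsQuasiIsotrivial R A ∧ Nonempty (((R ⧸ I) ⊗[R] A) ≃ₐc[R ⧸ I] A₀) := by
  classical
  obtain ⟨sbar, hsbar, hloc⟩ := h0
  have hs : Ideal.span ((Ideal.Quotient.mk I) ⁻¹' sbar) = ⊤ :=
    span_preimage_eq_top_nil I hI sbar hsbar
  obtain ⟨t, hts, ht⟩ := (Ideal.span_eq_top_iff_finite _).mp hs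
  have hcharts : ∀ i : t, ∃ (P : Type u) (_ : CommRing P) (_ : Algebra R P)
      (_ : Algebra (Localization.Away (i : R)) P),
      IsScalarTower R (Localization.Away (i : R)) P ∧
      Algebra.Etale (Localization.Away (i : R)) P ∧
      Module.FaithfullyFlat (Localization.Away (i : R)) P ∧
      IsDiag ((R ⧸ I) ⊗[R] P) (((R ⧸ I) ⊗[R] P) ⊗[R ⧸ I] A₀) := fun i =>
    chart_nil I hI A₀ (i : R) (hloc _ (hts i.2))
  choose P hCR hAlgR hAlgL hTower hEt hFF hDiag using hcharts
  letI := hCR
  letI := hAlgR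
  letI := hAlgL
  haveI := hTower
  haveI := hEt
  haveI := hFF
  choose M hGrp hε using hDiag
  letI := hGrp
  haveI hflat : ∀ i : t, Module.Flat R (P i) := fun i =>
    Module.Flat.trans R (Localization.Away (i : R)) (P i)
  let L : LiftData R I A₀ :=
    { ι := t
      P := P
      M := M
      flat := hflat
      ff := faithfullyFlat_pi_cover t ht P
      ε := fun i => Classical.choice (hε i)
      il1 := fun i => idemLift_map_nil I hI _
      il2 := fun i j => idemLift_map_nil I hI _
      il3 := fun i j k => idemLift_map_nil I hI _ }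
  obtain ⟨A, hAcr, hAhopf, hloc', hred⟩ := L.exists_lift
  refine ⟨A, hAcr, hAhopf, ?_, hred⟩
  refine ⟨(t : Set R), ht, ?_⟩
  intro f hf
  obtain ⟨i, rfl⟩ : ∃ i : t, (i : R) = f := ⟨⟨f, hf⟩, rfl⟩
  obtain ⟨e⟩ := hloc' i
  refine ⟨P i, inferInstance, hAlgL i, hEt i, hFF i, ?_⟩
  exact isDiag_of_equiv (cancelBC R (Localization.Away (i : R)) (P i) A)
    ⟨M i, inferInstance, ⟨e⟩⟩

end NilMain

end Groth.Agent.Lib.Helper25.Desc
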