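import Groth.Agent.Lib.Helper25AdicK
import Groth.Agent.Lib.Helper25AdicH
import Groth.Agent.Lib.Helper25DescNilMain

/-!
# Lifting homomorphisms into diagonalisable groups: quasi-isotrivial source (helper25)

* `exists_family_of_isQuasiIsotrivial`: a quasi-isotrivial group is trivialised by a jointly
  faithfully flat finite family.
* `qlevel_exists`, `qlevel_unique`: lifting homomorphisms `D(M) → H` over a nilpotent thickening, `H`
  quasi-isotrivial.
* `exists_bialgHom_lift_adic_q`, `bialgHom_lift_adic_unique_q`: over a complete Noetherian base.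
-/

set_option autoImplicit false
set_option linter.unusedSectionVars false
set_option linter.style.haveILetI false
universe u

namespace Groth.Agent.Lib.Helper25.Adic

open TensorProduct SGA3b Groth.Agent.Lib.Helper25 DescGL DescLift BCB HomLift

section Family

theorem exists_family_of_isQuasiIsotrivial {S : Type u} [CommRing S] (X : Type u) [CommRing X]
    [HopfAlgebra S X] (h : IsQuasiIsotrivial S X) :
    ∃ (ι : Type u) (_ : Fintype ι) (_ : DecidableEq ι) (T : ι → Type u)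
      (_ : ∀ i, CommRing (T i)) (_ : ∀ i, Algebra S (T i)),
      Module.FaithfullyFlat S (∀ i, T i) ∧ ∀ i, IsDiag (T i) (T i ⊗[S] X) := by
  classical
  obtain ⟨s, hs, hloc⟩ := h
  obtain ⟨t, hts, ht⟩ := (Ideal.span_eq_top_iff_finite _).mp hs
  have hcharts : ∀ i : t, ∃ (P : Type u) (_ : CommRing P) (_ : Algebra S P)
      (_ : Algebra (Localization.Away (i : S)) P),
      IsScalarTower S (Localization.Away (i : S)) P ∧ Module.Flat S P ∧
      Module.FaithfullyFlat (Localization.Away (i : S)) P ∧ IsDiag P (P ⊗[S] X) := by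
    intro i
    obtain ⟨R', _, _, het, hff, hD⟩ := hloc i (hts i.2)
    letI : Algebra S R' := ((algebraMap (Localization.Away (i : S)) R').comp
      (algebraMap S (Localization.Away (i : S)))).toAlgebra
    haveI : IsScalarTower S (Localization.Away (i : S)) R' :=
      IsScalarTower.of_algebraMap_eq (fun _ => rfl)
    haveI := hff
    refine ⟨R', inferInstance, inferInstance, inferInstance, inferInstance,
      Module.Flat.trans S (Localization.Away (i : S)) R', hff, ?_⟩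
    exact isDiag_of_equiv (cancelBC S (Localization.Away (i : S)) R' X).symm hD
  choose P hCR hAlgS hAlgL hTower hFlat hFF hDiag using hcharts
  letI := hCR
  letI := hAlgS
  letI := hAlgL
  haveI := hTower
  haveI := hFlat
  haveI := hFF
  exact ⟨t, inferInstance, inferInstance, P, inferInstance, inferInstance,
    Desc.faithfullyFlat_pi_cover t ht P, hDiag⟩

end Family

section QLevel

variable (R : Type u) [CommRing R] (C : Type u) [CommRing C] [HopfAlgebra R C]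
  (M : Type u) [CommGroup M]
  (S : Type u) [CommRing S] [Algebra R S]
  (R₀ : Type u) [CommRing R₀] [Algebra R R₀] [Algebra S R₀] [IsScalarTower R S R₀]

theorem qlevel_exists (hπ : Function.Surjective (algebraMap S R₀))
    (hnil : IsNilpotent (RingHom.ker (algebraMap S R₀)))
    (hq : IsQuasiIsotrivial S (S ⊗[R] C))
    (φ₀ : R₀ ⊗[R] C →ₐc[R₀] MonoidAlgebra R₀ M) :
    ∃ g : S ⊗[R] C →ₐc[S] MonoidAlgebra S M, ∀ c : C,
      MonoidAlgebra.mapRingHom M (algebraMap S R₀) (g ((1 : S) ⊗ₜ[R] c)) =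
        φ₀ ((1 : R₀) ⊗ₜ[R] c) := by
  classical
  obtain ⟨ι, _, _, T, _, _, hff, hD⟩ := exists_family_of_isQuasiIsotrivial (S ⊗[R] C) hq
  haveI := hff
  choose N hN heC using hD
  letI := hN
  let eC : ∀ i, T i ⊗[S] (S ⊗[R] C) ≃ₐc[T i] MonoidAlgebra (T i) (N i) :=
    fun i => Classical.choice (heC i)
  let φ₀' : R₀ ⊗[S] (S ⊗[R] C) →ₐc[R₀] R₀ ⊗[S] MonoidAlgebra S M :=
    ((steBialg S R₀ M).symm : MonoidAlgebra R₀ M →ₐc[R₀] R₀ ⊗[S] MonoidAlgebra S M).comp
      (φ₀.comp (cancelBC R S R₀ C : R₀ ⊗[S] (S ⊗[R] C) →ₐc[R₀] R₀ ⊗[R] C))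
  obtain ⟨φ, hφ⟩ := famLiftSurj_exists (B := MonoidAlgebra S M) (C := S ⊗[R] C) R₀ T
    (M := fun _ => M) (fun i => steBialg S (T i) M) eC hπ
    (fun i => idemLift_of_nil _ (isNilpotent_of_mem_map _ _ hnil))
    (fun i j => idemLift_of_nil _ (isNilpotent_of_mem_map _ _ hnil)) φ₀'
  refine ⟨φ, fun c => ?_⟩
  have h1 := hφ ((1 : S) ⊗ₜ[R] c)
  have h2 : φ₀' ((1 : R₀) ⊗ₜ[S] ((1 : S) ⊗ₜ[R] c)) =
      (steBialg S R₀ M).symm (φ₀ (cancelBC R S R₀ C ((1 : R₀) ⊗ₜ[S] ((1 : S) ⊗ₜ[R] c)))) := rfl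
  rw [h2, cancelBC_tmul, one_smul] at h1
  have h3 := congrArg (steBialg S R₀ M) h1
  rw [BialgEquiv.apply_symm_apply, MTGlue.steBialg_one_tmul] at h3
  exact h3.symm

theorem qlevel_unique (hπ : Function.Surjective (algebraMap S R₀))
    (hnil : IsNilpotent (RingHom.ker (algebraMap S R₀)))
    (hq : IsQuasiIsotrivial S (S ⊗[R] C))
    (g g' : S ⊗[R] C →ₐc[S] MonoidAlgebra S M)
    (h : ∀ c : C, MonoidAlgebra.mapRingHom M (algebraMap S R₀) (g ((1 : S) ⊗ₜ[R] c)) =
      MonoidAlgebra.mapRingHom M (algebraMap S R₀) (g' ((1 : S) ⊗ₜ[R] c))) : g = g' := by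
  classical
  obtain ⟨ι, _, _, T, _, _, hff, hD⟩ := exists_family_of_isQuasiIsotrivial (S ⊗[R] C) hq
  haveI := hff
  choose N hN heC using hD
  letI := hN
  let eC : ∀ i, T i ⊗[S] (S ⊗[R] C) ≃ₐc[T i] MonoidAlgebra (T i) (N i) :=
    fun i => Classical.choice (heC i)
  apply famLiftSurj_unique (B := MonoidAlgebra S M) (C := S ⊗[R] C) R₀ T
    (M := fun _ => M) (fun i => steBialg S (T i) M) eC hπ
    (fun i => idemLift_of_nil _ (isNilpotent_of_mem_map _ _ hnil))
  intro z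
  have h0 : steBialg S R₀ M ((1 : R₀) ⊗ₜ[S] g z) = steBialg S R₀ M ((1 : R₀) ⊗ₜ[S] g' z) := by
    rw [MTGlue.steBialg_one_tmul, MTGlue.steBialg_one_tmul]
    induction z using TensorProduct.induction_on with
    | zero => simp
    | add x y hx hy => rw [map_add, map_add, map_add, map_add, hx, hy]
    | tmul s c =>
      have h1 : s ⊗ₜ[R] c = s • ((1 : S) ⊗ₜ[R] c) := by
        rw [TensorProduct.smul_tmul', smul_eq_mul, mul_one]
      have hg : ∀ φ : S ⊗[R] C →ₐc[S] MonoidAlgebra S M,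
          φ (s • ((1 : S) ⊗ₜ[R] c)) = s • φ ((1 : S) ⊗ₜ[R] c) := fun φ => map_smul φ s _
      rw [h1, hg g, hg g', mapRingHom_smul, mapRingHom_smul, h]
  exact (steBialg S R₀ M).injective h0

end QLevel

section MainQ

variable (R : Type u) [CommRing R] (J : Ideal R)
  (C : Type u) [CommRing C] [HopfAlgebra R C] (M : Type u) [CommGroup M]
  (R₀ : Type u) [CommRing R₀] [Algebra R R₀]

theorem qlevel_n_exists
    (hq : ∀ n : ℕ, IsQuasiIsotrivial (R ⧸ J ^ (n + 1)) ((R ⧸ J ^ (n + 1)) ⊗[R] C))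
    (hsurj : Function.Surjective (algebraMap R R₀))
    (hker : RingHom.ker (algebraMap R R₀) = J)
    (φ₀ : R₀ ⊗[R] C →ₐc[R₀] MonoidAlgebra R₀ M) (n : ℕ) :
    ∃ g : (R ⧸ J ^ (n + 1)) ⊗[R] C →ₐc[R ⧸ J ^ (n + 1)] MonoidAlgebra (R ⧸ J ^ (n + 1)) M,
      ∀ c : C, MonoidAlgebra.mapRingHom M (redTo R J R₀ hker n)
        (g ((1 : R ⧸ J ^ (n + 1)) ⊗ₜ[R] c)) = φ₀ ((1 : R₀) ⊗ₜ[R] c) := by
  letI : Algebra (R ⧸ J ^ (n + 1)) R₀ := (redTo R J R₀ hker n).toAlgebra
  haveI : IsScalarTower R (R ⧸ J ^ (n + 1)) R₀ := IsScalarTower.of_algebraMap_eq (fun r => rfl)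
  exact qlevel_exists R C M (R ⧸ J ^ (n + 1)) R₀ (redTo_surjective R J R₀ hsurj hker n)
    (isNilpotent_ker_redTo R J R₀ hker n) (hq n) φ₀

theorem qlevel_n_unique
    (hq : ∀ n : ℕ, IsQuasiIsotrivial (R ⧸ J ^ (n + 1)) ((R ⧸ J ^ (n + 1)) ⊗[R] C))
    (hsurj : Function.Surjective (algebraMap R R₀))
    (hker : RingHom.ker (algebraMap R R₀) = J) (n : ℕ)
    (g g' : (R ⧸ J ^ (n + 1)) ⊗[R] C →ₐc[R ⧸ J ^ (n + 1)] MonoidAlgebra (R ⧸ J ^ (n + 1)) M)
    (h : ∀ c : C, MonoidAlgebra.mapRingHom M (redTo R J R₀ hker n)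
        (g ((1 : R ⧸ J ^ (n + 1)) ⊗ₜ[R] c)) =
      MonoidAlgebra.mapRingHom M (redTo R J R₀ hker n)
        (g' ((1 : R ⧸ J ^ (n + 1)) ⊗ₜ[R] c))) : g = g' := by
  letI : Algebra (R ⧸ J ^ (n + 1)) R₀ := (redTo R J R₀ hker n).toAlgebra
  haveI : IsScalarTower R (R ⧸ J ^ (n + 1)) R₀ := IsScalarTower.of_algebraMap_eq (fun r => rfl)
  exact qlevel_unique R C M (R ⧸ J ^ (n + 1)) R₀ (redTo_surjective R J R₀ hsurj hker n)
    (isNilpotent_ker_redTo R J R₀ hker n) (hq n) g g' h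

/-- **Lifting of homomorphisms over a complete base** (SGA3 IX 7.1 + X 2.1, diagonalisable
case): a trivialisation of the reduction of a flat Hopf algebra lifts to a bialgebra map into the
group algebra. -/
theorem exists_bialgHom_lift_adic_q [IsNoetherianRing R] [IsAdicComplete J R]
    (hq : ∀ n : ℕ, IsQuasiIsotrivial (R ⧸ J ^ (n + 1)) ((R ⧸ J ^ (n + 1)) ⊗[R] C))
    (hsurj : Function.Surjective (algebraMap R R₀))
    (hker : RingHom.ker (algebraMap R R₀) = J)
    (φ₀ : R₀ ⊗[R] C →ₐc[R₀] MonoidAlgebra R₀ M) :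
    ∃ F : C →ₐc[R] MonoidAlgebra R M, ∀ c : C,
      MonoidAlgebra.mapRingHom M (algebraMap R R₀) (F c) = φ₀ ((1 : R₀) ⊗ₜ[R] c) := by
  choose f hf using qlevel_n_exists R J C M R₀ hq hsurj hker φ₀
  have hcompat : ∀ n c, MonoidAlgebra.mapRingHom M
      (Ideal.Quotient.factor (Ideal.pow_le_pow_right (Nat.le_succ (n + 1))))
      (f (n + 1) ((1 : R ⧸ J ^ (n + 1 + 1)) ⊗ₜ[R] c)) = f n ((1 : R ⧸ J ^ (n + 1)) ⊗ₜ[R] c) := by
    intro n c
    letI : Algebra (R ⧸ J ^ (n + 1 + 1)) (R ⧸ J ^ (n + 1)) :=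
      (Ideal.Quotient.factor (Ideal.pow_le_pow_right (Nat.le_succ (n + 1)))).toAlgebra
    haveI : IsScalarTower R (R ⧸ J ^ (n + 1 + 1)) (R ⧸ J ^ (n + 1)) :=
      IsScalarTower.of_algebraMap_eq (fun r => rfl)
    have h1 : bcGA (R ⧸ J ^ (n + 1)) (f (n + 1)) = f n := by
      apply qlevel_n_unique R J C M R₀ hq hsurj hker n
      intro c
      rw [bcGA_one_tmul, mapRingHom_mapRingHom, hf n c]
      have h2 : (redTo R J R₀ hker n).comp
          (algebraMap (R ⧸ J ^ (n + 1 + 1)) (R ⧸ J ^ (n + 1))) = redTo R J R₀ hker (n + 1) := by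
        apply Ideal.Quotient.ringHom_ext
        apply RingHom.ext
        intro r
        rfl
      rw [h2, hf (n + 1) c]
    rw [← h1, bcGA_one_tmul]
    rfl
  obtain ⟨F, hF⟩ := exists_algebraization' J f hcompat
  refine ⟨F, fun c => ?_⟩
  have h1 := hF 0 c
  have h2 := hf 0 c
  rw [← h1, mapRingHom_mapRingHom] at h2
  have h3 : (redTo R J R₀ hker 0).comp (Ideal.Quotient.mk (J ^ (0 + 1))) = algebraMap R R₀ := by
    apply RingHom.ext
    intro r
    rfl
  rw [h3] at h2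
  exact h2


/-- Base change of a bialgebra map `C → R[M]` to a level. -/
noncomputable def toLevel (F : C →ₐc[R] MonoidAlgebra R M) (S : Type u) [CommRing S] [Algebra R S] :
    S ⊗[R] C →ₐc[S] MonoidAlgebra S M :=
  ((steBialg R S M : S ⊗[R] MonoidAlgebra R M ≃ₐc[S] MonoidAlgebra S M) :
      S ⊗[R] MonoidAlgebra R M →ₐc[S] MonoidAlgebra S M).comp
    (Bialgebra.TensorProduct.map (BialgHom.id S S) F)

theorem toLevel_one_tmul (F : C →ₐc[R] MonoidAlgebra R M) (S : Type u) [CommRing S] [Algebra R S]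
    (c : C) : toLevel R C M F S ((1 : S) ⊗ₜ[R] c) =
      MonoidAlgebra.mapRingHom M (algebraMap R S) (F c) := by
  change steBialg R S M (Bialgebra.TensorProduct.map (BialgHom.id S S) F ((1 : S) ⊗ₜ[R] c)) = _
  rw [Bialgebra.TensorProduct.map_tmul, BialgHom.id_apply, MTGlue.steBialg_one_tmul]

/-- Uniqueness of lifts over a complete base. -/
theorem bialgHom_lift_adic_unique_q [IsHausdorff J R]
    (hq : ∀ n : ℕ, IsQuasiIsotrivial (R ⧸ J ^ (n + 1)) ((R ⧸ J ^ (n + 1)) ⊗[R] C))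
    (hsurj : Function.Surjective (algebraMap R R₀))
    (hker : RingHom.ker (algebraMap R R₀) = J)
    (F F' : C →ₐc[R] MonoidAlgebra R M)
    (h : ∀ c : C, MonoidAlgebra.mapRingHom M (algebraMap R R₀) (F c) =
      MonoidAlgebra.mapRingHom M (algebraMap R R₀) (F' c)) : F = F' := by
  apply BialgHom.ext
  intro c
  apply sub_eq_zero.mp
  apply monoidAlgebra_eq_zero_of_forall_map J
  intro n
  rw [map_sub, sub_eq_zero]
  have h1 : toLevel R C M F (R ⧸ J ^ (n + 1)) = toLevel R C M F' (R ⧸ J ^ (n + 1)) := by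
    apply qlevel_n_unique R J C M R₀ hq hsurj hker n
    intro c
    rw [toLevel_one_tmul, toLevel_one_tmul, mapRingHom_mapRingHom, mapRingHom_mapRingHom]
    have h2 : (redTo R J R₀ hker n).comp (algebraMap R (R ⧸ J ^ (n + 1))) = algebraMap R R₀ := by
      apply RingHom.ext
      intro r
      rfl
    rw [h2, h c]
  have h3 := congrArg (fun G => G ((1 : R ⧸ J ^ (n + 1)) ⊗ₜ[R] c)) h1
  simp only [toLevel_one_tmul] at h3
  exact h3

end MainQ

end Groth.Agent.Lib.Helper25.Adic
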