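import Groth.Agent.Lib.Helper25AdicL
import Groth.Agent.Lib.Helper25AdicI
import Groth.Agent.Lib.Helper25EtNilC
import Groth.Agent.S2987

/-!
# Quasi-isotriviality: base change, and the infinitesimal neighbourhoods (helper25)

* `isQuasiIsotrivial_baseChange`, `isQuasiIsotrivial_of_equiv`.
* `isQuasiIsotrivial_level`: for `C` flat along the closed fibre with quasi-isotrivial reduction, all
  infinitesimal neighbourhoods (over any `A`-algebra `R`) are quasi-isotrivial.
-/

set_option autoImplicit false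
set_option linter.unusedSectionVars false
set_option linter.style.haveILetI false
universe u

namespace Groth.Agent.Lib.Helper25.Adic

open TensorProduct SGA3b Groth.Agent.Lib.Helper25 BCB

section BCaux

theorem exists_etale_diag_baseChange_aux
    (R : Type u) [CommRing R] (A : Type u) [CommRing A] [HopfAlgebra R A]
    (Rf S T Tg : Type u) [CommRing Rf] [CommRing S] [CommRing T] [CommRing Tg]
    [Algebra R Rf] [Algebra Rf S] [Algebra R S] [IsScalarTower R Rf S]
    [Algebra R T] [Algebra T Tg] [Algebra R Tg] [IsScalarTower R T Tg]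
    [Algebra Rf Tg] [IsScalarTower R Rf Tg] [Module.FaithfullyFlat Rf S] [Algebra.Etale Rf S]
    (hD : IsDiag S (S ⊗[R] A)) :
    ∃ (S' : Type u) (_ : CommRing S') (_ : Algebra Tg S'),
      Algebra.Etale Tg S' ∧ Module.FaithfullyFlat Tg S' ∧
        IsDiag S' (S' ⊗[Tg] (Tg ⊗[T] (T ⊗[R] A))) := by
  letI : Algebra S (Tg ⊗[Rf] S) := Algebra.TensorProduct.includeRight.toRingHom.toAlgebra
  haveI : IsScalarTower R S (Tg ⊗[Rf] S) := by
    apply IsScalarTower.of_algebraMap_eq
    intro r
    change _ = (1 : Tg) ⊗ₜ[Rf] (algebraMap R S r)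
    rw [Algebra.TensorProduct.algebraMap_apply, IsScalarTower.algebraMap_apply R Rf S,
      IsScalarTower.algebraMap_apply R Rf Tg, Algebra.algebraMap_eq_smul_one (algebraMap R Rf r),
      Algebra.algebraMap_eq_smul_one (A := S) (algebraMap R Rf r), TensorProduct.smul_tmul]
  haveI : IsScalarTower R T (Tg ⊗[Rf] S) := by
    apply IsScalarTower.of_algebraMap_eq
    intro r
    rw [Algebra.TensorProduct.algebraMap_apply, Algebra.TensorProduct.algebraMap_apply,
      ← IsScalarTower.algebraMap_apply R T Tg]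
  have h1 : IsDiag (Tg ⊗[Rf] S) ((Tg ⊗[Rf] S) ⊗[R] A) :=
    isDiag_baseChange_of_tower R A S (Tg ⊗[Rf] S) hD
  have h2 : IsDiag (Tg ⊗[Rf] S) ((Tg ⊗[Rf] S) ⊗[T] (T ⊗[R] A)) :=
    isDiag_of_equiv (cancelBC R T (Tg ⊗[Rf] S) A) h1
  exact ⟨Tg ⊗[Rf] S, inferInstance, inferInstance, inferInstance, inferInstance,
    isDiag_of_equiv (cancelBC T Tg (Tg ⊗[Rf] S) (T ⊗[R] A)) h2⟩

end BCaux

section QI

variable (R : Type u) [CommRing R] (A : Type u) [CommRing A] [HopfAlgebra R A]

/-- Quasi-isotriviality is stable under base change. -/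
theorem isQuasiIsotrivial_baseChange (T : Type u) [CommRing T] [Algebra R T]
    (h : IsQuasiIsotrivial R A) : IsQuasiIsotrivial T (T ⊗[R] A) := by
  obtain ⟨s, hs, hc⟩ := h
  refine ⟨algebraMap R T '' s, ?_, ?_⟩
  · rw [← Ideal.map_span, hs, Ideal.map_top]
  · rintro _ ⟨f, hf, rfl⟩
    obtain ⟨Q, _, _, het, hff, hD⟩ := hc f hf
    have hunit : IsUnit (algebraMap R (Localization.Away (algebraMap R T f)) f) := by
      rw [IsScalarTower.algebraMap_apply R T (Localization.Away (algebraMap R T f))]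
      exact IsLocalization.Away.algebraMap_isUnit _
    letI : Algebra (Localization.Away f) (Localization.Away (algebraMap R T f)) :=
      (IsLocalization.Away.lift f hunit).toAlgebra
    haveI : IsScalarTower R (Localization.Away f) (Localization.Away (algebraMap R T f)) := by
      apply IsScalarTower.of_algebraMap_eq
      intro r
      exact (IsLocalization.Away.lift_eq f hunit r).symm
    letI : Algebra R Q := ((algebraMap (Localization.Away f) Q).comp
      (algebraMap R (Localization.Away f))).toAlgebra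
    haveI : IsScalarTower R (Localization.Away f) Q :=
      IsScalarTower.of_algebraMap_eq (fun _ => rfl)
    haveI := het
    haveI := hff
    have hD' : IsDiag Q (Q ⊗[R] A) :=
      isDiag_of_equiv (cancelBC R (Localization.Away f) Q A).symm hD
    obtain ⟨S', _, _, h1, h2, h3⟩ := exists_etale_diag_baseChange_aux R A (Localization.Away f) Q T
      (Localization.Away (algebraMap R T f)) hD'
    exact ⟨S', inferInstance, inferInstance, h1, h2, h3⟩

variable {R A}

theorem isQuasiIsotrivial_of_equiv {A' : Type u} [CommRing A'] [HopfAlgebra R A']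
    (e : A ≃ₐc[R] A') (h : IsQuasiIsotrivial R A') : IsQuasiIsotrivial R A := by
  obtain ⟨s, hs, hc⟩ := h
  refine ⟨s, hs, ?_⟩
  intro f hf
  obtain ⟨Q, _, _, het, hff, hD⟩ := hc f hf
  exact ⟨Q, inferInstance, inferInstance, het, hff,
    isDiag_of_equiv (bcEquiv Q (bcEquiv (Localization.Away f) e)) hD⟩

end QI

section Level

variable (A : Type u) [CommRing A] (I : Ideal A) (C : Type u) [CommRing C] [HopfAlgebra A C]

theorem isQuasiIsotrivial_of_nilpotent
    (hfl : ∀ (q : Ideal C) [q.IsPrime], Ideal.map (algebraMap A C) I ≤ q →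
      Module.Flat A (Localization.AtPrime q))
    (h0 : IsQuasiIsotrivial (A ⧸ I) ((A ⧸ I) ⊗[A] C))
    (T : Type u) [CommRing T] [Algebra A T] (k : ℕ)
    (hK : (I.map (algebraMap A T)) ^ k = ⊥) : IsQuasiIsotrivial T (T ⊗[A] C) := by
  haveI : Module.Flat T (T ⊗[A] C) := by
    apply flat_baseChange_of_local_flat A I C hfl T k
    intro a ha
    have h1 : (algebraMap A T a) ^ k ∈ (I.map (algebraMap A T)) ^ k :=
      Ideal.pow_mem_pow (Ideal.mem_map_of_mem _ ha) k
    rw [hK] at h1
    exact h1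
  apply Groth.Agent.S2987.result T (T ⊗[A] C) (I.map (algebraMap A T)) ⟨k, hK⟩
  letI : Algebra (A ⧸ I) (T ⧸ I.map (algebraMap A T)) := (HomLift.quotTo I T).toRingHom.toAlgebra
  haveI : IsScalarTower A (A ⧸ I) (T ⧸ I.map (algebraMap A T)) :=
    IsScalarTower.of_algebraMap_eq (fun a => ((HomLift.quotTo I T).commutes a).symm)
  have h1 := isQuasiIsotrivial_baseChange (A ⧸ I) ((A ⧸ I) ⊗[A] C) (T ⧸ I.map (algebraMap A T)) h0
  exact isQuasiIsotrivial_of_equiv ((cancelBC A T (T ⧸ I.map (algebraMap A T)) C).trans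
    (cancelBC A (A ⧸ I) (T ⧸ I.map (algebraMap A T)) C).symm) h1

/-- For `C` flat along the closed fibre with quasi-isotrivial reduction, the infinitesimal
neighbourhoods of the closed fibre over any `A`-algebra `R` are quasi-isotrivial. -/
theorem isQuasiIsotrivial_level
    (hfl : ∀ (q : Ideal C) [q.IsPrime], Ideal.map (algebraMap A C) I ≤ q →
      Module.Flat A (Localization.AtPrime q))
    (h0 : IsQuasiIsotrivial (A ⧸ I) ((A ⧸ I) ⊗[A] C))
    (R : Type u) [CommRing R] [Algebra A R] (n : ℕ) :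
    IsQuasiIsotrivial (R ⧸ (I.map (algebraMap A R)) ^ (n + 1))
      ((R ⧸ (I.map (algebraMap A R)) ^ (n + 1)) ⊗[R] (R ⊗[A] C)) := by
  have key : ∀ J : Ideal R, (J.map (Ideal.Quotient.mk (J ^ (n + 1)))) ^ (n + 1) = ⊥ := by
    intro J
    rw [← Ideal.map_pow, Ideal.map_quotient_self]
  have hK : (I.map (algebraMap A (R ⧸ (I.map (algebraMap A R)) ^ (n + 1)))) ^ (n + 1) = ⊥ := by
    have h1 : I.map (algebraMap A (R ⧸ (I.map (algebraMap A R)) ^ (n + 1))) =
        (I.map (algebraMap A R)).map (Ideal.Quotient.mk ((I.map (algebraMap A R)) ^ (n + 1))) := by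
      rw [IsScalarTower.algebraMap_eq A R (R ⧸ (I.map (algebraMap A R)) ^ (n + 1)),
        ← Ideal.map_map]
      rfl
    rw [h1]
    exact key _
  exact isQuasiIsotrivial_of_equiv (cancelBC A R (R ⧸ (I.map (algebraMap A R)) ^ (n + 1)) C)
    (isQuasiIsotrivial_of_nilpotent A I C hfl h0 _ (n + 1) hK)

end Level

end Groth.Agent.Lib.Helper25.Adic
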