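import Groth.Agent.Lib.Helper25AdicM

/-!
# Homomorphisms from isotrivial groups over a complete base (helper25)

SGA3 X 3: `Hom(G, H) → Hom(G₀, H₀)` is bijective for `G` isotrivial of multiplicative type and `H`
flat along `H₀`, `H₀` quasi-isotrivial of multiplicative type.
-/

set_option autoImplicit false
set_option linter.unusedSectionVars false
set_option linter.style.haveILetI false
universe u

namespace Groth.Agent.Lib.Helper25.Adic

open TensorProduct SGA3b Groth.Agent.Lib.Helper25 DescGL DescLift BCB HomLift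

section Finite

variable (A : Type u) [CommRing A] [IsNoetherianRing A] (I : Ideal A) [IsAdicComplete I A]
  (T : Type u) [CommRing T] [Algebra A T] [Module.Finite A T]

theorem isAdicComplete_of_finite : IsAdicComplete (I.map (algebraMap A T)) T := by
  rw [IsAdicComplete.map_algebraMap_iff]
  haveI : IsPrecomplete I T := LunaCompl.isPrecomplete_of_finite A I T
  haveI : IsHausdorff I T := IsHausdorff.of_le_jacobson I T (IsAdicComplete.le_jacobson_bot I)
  exact {}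

end Finite

section OverT

variable (A : Type u) [CommRing A] [IsNoetherianRing A] (I : Ideal A) [IsAdicComplete I A]
  (B : Type u) [CommRing B] [HopfAlgebra A B]
  (C : Type u) [CommRing C] [HopfAlgebra A C]
  (hfl : ∀ (q : Ideal C) [q.IsPrime], Ideal.map (algebraMap A C) I ≤ q →
    Module.Flat A (Localization.AtPrime q))
  (h0 : IsQuasiIsotrivial (A ⧸ I) ((A ⧸ I) ⊗[A] C))
  (T : Type u) [CommRing T] [Algebra A T] [Module.Finite A T]
  {N : Type u} [CommGroup N] (εT : T ⊗[A] B ≃ₐc[T] MonoidAlgebra T N)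

include hfl h0 εT in
/-- Uniqueness over a finite `A`-algebra trivialising `B`. -/
theorem unique_over_finite (g g' : T ⊗[A] C →ₐc[T] T ⊗[A] B)
    (h : ∀ c : C, Algebra.TensorProduct.map (red I T) (AlgHom.id A B) (g ((1 : T) ⊗ₜ[A] c)) =
      Algebra.TensorProduct.map (red I T) (AlgHom.id A B) (g' ((1 : T) ⊗ₜ[A] c))) : g = g' := by
  haveI : IsNoetherianRing T := IsNoetherianRing.of_finite A T
  haveI : IsAdicComplete (I.map (algebraMap A T)) T := isAdicComplete_of_finite A I T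
  have hsurj : Function.Surjective (algebraMap T (T ⧸ I.map (algebraMap A T))) :=
    Ideal.Quotient.mk_surjective
  have hker : RingHom.ker (algebraMap T (T ⧸ I.map (algebraMap A T))) = I.map (algebraMap A T) := by
    rw [Ideal.Quotient.algebraMap_eq, Ideal.mk_ker]
  let G : T ⊗[A] C →ₐc[T] MonoidAlgebra T N := (εT : T ⊗[A] B →ₐc[T] MonoidAlgebra T N).comp g
  let G' : T ⊗[A] C →ₐc[T] MonoidAlgebra T N := (εT : T ⊗[A] B →ₐc[T] MonoidAlgebra T N).comp g'
  have hG : ∀ x, G x = εT (g x) := fun _ => rfl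
  have hG' : ∀ x, G' x = εT (g' x) := fun _ => rfl
  have hGG : G = G' := by
    apply bialgHom_lift_adic_unique_q T (I.map (algebraMap A T)) (T ⊗[A] C) N
      (T ⧸ I.map (algebraMap A T)) (isQuasiIsotrivial_level A I C hfl h0 T) hsurj hker
    intro x
    induction x using TensorProduct.induction_on with
    | zero => simp
    | add x y hx hy => rw [map_add, map_add, map_add, map_add, hx, hy]
    | tmul t c =>
      have h1 : t ⊗ₜ[A] c = t • ((1 : T) ⊗ₜ[A] c) := by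
        rw [TensorProduct.smul_tmul', smul_eq_mul, mul_one]
      have hg : ∀ φ : T ⊗[A] C →ₐc[T] MonoidAlgebra T N,
          φ (t • ((1 : T) ⊗ₜ[A] c)) = t • φ ((1 : T) ⊗ₜ[A] c) := fun φ => map_smul φ t _
      rw [h1, hg G, hg G', mapRingHom_smul, mapRingHom_smul, hG, hG',
        ← bcDiag_map (T' := T ⧸ I.map (algebraMap A T)) εT,
        ← bcDiag_map (T' := T ⧸ I.map (algebraMap A T)) εT]
      congr 2
      exact h c
  apply bialgHom_ext_one_tmul
  intro c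
  have h1 := congrArg (fun F => F ((1 : T) ⊗ₜ[A] c)) hGG
  exact εT.injective h1

include hfl h0 εT in
/-- Existence over a finite `A`-algebra trivialising `B`. -/
theorem exists_over_finite
    (g₀ : (T ⧸ I.map (algebraMap A T)) ⊗[A] C →ₐc[T ⧸ I.map (algebraMap A T)]
      (T ⧸ I.map (algebraMap A T)) ⊗[A] B) :
    ∃ f' : T ⊗[A] C →ₐc[T] T ⊗[A] B, IsBC (red I T) f' g₀ := by
  haveI : IsNoetherianRing T := IsNoetherianRing.of_finite A T
  haveI : IsAdicComplete (I.map (algebraMap A T)) T := isAdicComplete_of_finite A I T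
  have hsurj : Function.Surjective (algebraMap T (T ⧸ I.map (algebraMap A T))) :=
    Ideal.Quotient.mk_surjective
  have hker : RingHom.ker (algebraMap T (T ⧸ I.map (algebraMap A T))) = I.map (algebraMap A T) := by
    rw [Ideal.Quotient.algebraMap_eq, Ideal.mk_ker]
  let ε₀ := MTGlue.bcDiag A T (T ⧸ I.map (algebraMap A T)) εT
  let Φ₀ : (T ⧸ I.map (algebraMap A T)) ⊗[T] (T ⊗[A] C) →ₐc[T ⧸ I.map (algebraMap A T)]
      MonoidAlgebra (T ⧸ I.map (algebraMap A T)) N :=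
    (ε₀ : _ →ₐc[T ⧸ I.map (algebraMap A T)] _).comp
      (g₀.comp (cancelBC A T (T ⧸ I.map (algebraMap A T)) C :
        (T ⧸ I.map (algebraMap A T)) ⊗[T] (T ⊗[A] C) →ₐc[T ⧸ I.map (algebraMap A T)]
          (T ⧸ I.map (algebraMap A T)) ⊗[A] C))
  obtain ⟨F, hF⟩ := exists_bialgHom_lift_adic_q T (I.map (algebraMap A T)) (T ⊗[A] C) N
    (T ⧸ I.map (algebraMap A T)) (isQuasiIsotrivial_level A I C hfl h0 T) hsurj hker Φ₀
  refine ⟨(εT.symm : MonoidAlgebra T N →ₐc[T] T ⊗[A] B).comp F, ?_⟩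
  intro c
  have h1 := hF ((1 : T) ⊗ₜ[A] c)
  have h2 : Φ₀ ((1 : T ⧸ I.map (algebraMap A T)) ⊗ₜ[T] ((1 : T) ⊗ₜ[A] c)) =
      ε₀ (g₀ (cancelBC A T (T ⧸ I.map (algebraMap A T)) C
        ((1 : T ⧸ I.map (algebraMap A T)) ⊗ₜ[T] ((1 : T) ⊗ₜ[A] c)))) := rfl
  rw [h2, cancelBC_tmul, one_smul] at h1
  have h4 := bcDiag_map (T' := T ⧸ I.map (algebraMap A T)) εT (εT.symm (F ((1 : T) ⊗ₜ[A] c)))
  rw [BialgEquiv.apply_symm_apply] at h4
  have h5 : ε₀ (g₀ ((1 : T ⧸ I.map (algebraMap A T)) ⊗ₜ[A] c)) =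
      ε₀ (Algebra.TensorProduct.map (red I T) (AlgHom.id A B)
        (εT.symm (F ((1 : T) ⊗ₜ[A] c)))) := by
    rw [h4, h1]
  exact ε₀.injective h5

end OverT

section Main

/-- SGA3 X 3: `Hom(G, H) → Hom(G₀, H₀)` is bijective. -/
theorem hom_bijective_of_isotrivial (A : Type u) [CommRing A] [IsNoetherianRing A] (I : Ideal A)
    [IsAdicComplete I A] (B : Type u) [CommRing B] [HopfAlgebra A B] (hG : IsIsotrivial A B)
    (C : Type u) [CommRing C] [HopfAlgebra A C]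
    (hfl : ∀ (q : Ideal C) [q.IsPrime], Ideal.map (algebraMap A C) I ≤ q →
      Module.Flat A (Localization.AtPrime q))
    (h0 : IsQuasiIsotrivial (A ⧸ I) ((A ⧸ I) ⊗[A] C)) :
    (∀ φ ψ : C →ₐc[A] B, (∀ c : C, (1 : A ⧸ I) ⊗ₜ[A] (φ c) = (1 : A ⧸ I) ⊗ₜ[A] (ψ c)) → φ = ψ) ∧
    (∀ φ₀ : ((A ⧸ I) ⊗[A] C) →ₐc[A ⧸ I] ((A ⧸ I) ⊗[A] B),
      ∃ φ : C →ₐc[A] B, ∀ c : C, φ₀ ((1 : A ⧸ I) ⊗ₜ[A] c) = (1 : A ⧸ I) ⊗ₜ[A] (φ c)) := by
  obtain ⟨P, _, _, hetP, hfinP, hffP, N, _, ⟨εB⟩⟩ := hG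
  haveI := hfinP
  haveI := hffP
  constructor
  · intro φ ψ h
    have h1 : bcOf P φ = bcOf P ψ := by
      apply unique_over_finite A I B C hfl h0 P εB
      intro c
      rw [bcOf_tmul, bcOf_tmul, Algebra.TensorProduct.map_tmul, Algebra.TensorProduct.map_tmul,
        map_one]
      have h3 := congrArg (Algebra.TensorProduct.map (quotTo I P) (AlgHom.id A B)) (h c)
      rw [Algebra.TensorProduct.map_tmul, Algebra.TensorProduct.map_tmul, map_one] at h3
      exact h3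
    apply BialgHom.ext
    intro c
    have h4 : (1 : P) ⊗ₜ[A] φ c = (1 : P) ⊗ₜ[A] ψ c :=
      congrArg (fun F => F ((1 : P) ⊗ₜ[A] c)) h1
    exact Module.FaithfullyFlat.tensorProduct_mk_injective (A := A) (B := P) B h4
  · intro φ₀
    obtain ⟨g₀, hg₀⟩ := exists_isBC (quotTo I P) φ₀
    obtain ⟨f', hf'⟩ := exists_over_finite A I B C hfl h0 P εB g₀
    obtain ⟨k₀, hk₀⟩ := exists_isBC (quotTo I (P ⊗[A] P)) φ₀
    obtain ⟨g₁, hg₁⟩ := exists_isBC (Algebra.TensorProduct.includeLeft : P →ₐ[A] P ⊗[A] P) f'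
    obtain ⟨g₂, hg₂⟩ := exists_isBC (Algebra.TensorProduct.includeRight : P →ₐ[A] P ⊗[A] P) f'
    have hr₁ := isBC_red_of_isBC I _ φ₀ hg₀ hk₀ hf' hg₁
    have hr₂ := isBC_red_of_isBC I _ φ₀ hg₀ hk₀ hf' hg₂
    have hgg : g₁ = g₂ := by
      apply unique_over_finite A I B C hfl h0 (P ⊗[A] P) (MTGlue.bcDiag A P (P ⊗[A] P) εB)
      intro c
      rw [← hr₁ c, ← hr₂ c]
    rw [← hgg] at hg₂
    obtain ⟨φ, hφ⟩ := exists_bialgHom_of_isBC_eq P f' g₁ hg₁ hg₂
    refine ⟨φ, ?_⟩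
    intro c
    obtain ⟨b, hb⟩ := exists_eq_one_tmul_quot I B
      (φ₀ ((1 : A ⧸ I) ⊗ₜ[A] c) - (1 : A ⧸ I) ⊗ₜ[A] φ c)
    rw [← sub_eq_zero, hb]
    apply one_tmul_quot_eq_zero_of_baseChange I B P
    have h1 : Algebra.TensorProduct.map (quotTo I P) (AlgHom.id A B)
        (φ₀ ((1 : A ⧸ I) ⊗ₜ[A] c) - (1 : A ⧸ I) ⊗ₜ[A] φ c) = 0 := by
      rw [map_sub, ← hg₀ c, hf' c, hφ c, Algebra.TensorProduct.map_tmul,
        Algebra.TensorProduct.map_tmul, map_one, map_one, sub_self]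
    rw [hb, Algebra.TensorProduct.map_tmul, map_one] at h1
    exact h1

end Main

end Groth.Agent.Lib.Helper25.Adic
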