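import Mathlib.RingTheory.Etale.StandardEtale
import Mathlib.RingTheory.AdjoinRoot
import Mathlib.RingTheory.Polynomial.Nilpotent
import Mathlib.FieldTheory.PrimitiveElement
import Mathlib.RingTheory.Flat.FaithfullyFlat.Basic
import Mathlib.RingTheory.HopkinsLevitzki

/-!
# Lifting finite separable residue extensions along nilpotent ideals (helper25)

* `etale_adjoinRoot`: `R[X]/(f)` is étale for `f` monic separable.
* `separable_of_map_separable`: separability lifts along surjections with nil kernel.
* `AdjoinLift`: for `A → k` surjective with nilpotent kernel and `k'/k` generated by `α` with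
  minimal polynomial `f̄`, and `f` a monic lift of `f̄`, the map `A[X]/(f) → k'` is surjective with
  nilpotent kernel.
-/

set_option autoImplicit false
set_option linter.unusedSectionVars false
set_option linter.style.haveILetI false
universe u v

namespace Groth.Agent.Lib.Helper25.ArtinLift

open Polynomial

theorem etale_adjoinRoot {R : Type u} [CommRing R] (f : R[X]) (hf : f.Monic) (hs : f.Separable) :
    Algebra.Etale R (AdjoinRoot f) := by
  obtain ⟨a, b, hab⟩ := hs
  let P : StandardEtalePair R :=
    { f := f, monic_f := hf, g := 1, cond := ⟨b, a, 0, by rw [pow_zero, ← hab]; ring⟩ }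
  have e1 : P.Ring ≃ₐ[R] Localization.Away (AdjoinRoot.mk f (1 : R[X])) := P.equivAwayAdjoinRoot
  have h1 : AdjoinRoot.mk f (1 : R[X]) = 1 := map_one _
  haveI : IsLocalization.Away (1 : AdjoinRoot f)
      (Localization.Away (AdjoinRoot.mk f (1 : R[X]))) := by
    rw [← h1]; infer_instance
  have e2 : AdjoinRoot f ≃ₐ[AdjoinRoot f] Localization.Away (AdjoinRoot.mk f (1 : R[X])) :=
    IsLocalization.atOne (R := AdjoinRoot f) (S := Localization.Away (AdjoinRoot.mk f (1 : R[X])))
  exact Algebra.Etale.of_equiv (e1.trans (e2.restrictScalars R).symm)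

section Sep

variable {A : Type u} {k : Type v} [CommRing A] [CommRing k] (π : A →+* k)
  (hπ : Function.Surjective π) (hker : ∀ x ∈ RingHom.ker π, IsNilpotent x)

include hker in
theorem isNilpotent_of_map_eq_zero (w : A[X]) (hw : w.map π = 0) : IsNilpotent w := by
  rw [Polynomial.isNilpotent_iff]
  intro i
  apply hker
  rw [RingHom.mem_ker, ← Polynomial.coeff_map, hw, Polynomial.coeff_zero]

include hπ hker in
theorem separable_of_map_separable (f : A[X]) (h : (f.map π).Separable) : f.Separable := by
  obtain ⟨a', b', hab⟩ := h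
  obtain ⟨a, rfl⟩ := Polynomial.map_surjective π hπ a'
  obtain ⟨b, rfl⟩ := Polynomial.map_surjective π hπ b'
  set w := a * f + b * derivative f with hw
  have h1 : (w - 1).map π = 0 := by
    rw [Polynomial.map_sub, hw, Polynomial.map_add, Polynomial.map_mul, Polynomial.map_mul,
      ← Polynomial.derivative_map, hab, Polynomial.map_one, sub_self]
  have h2 : IsUnit w := by
    have := (isNilpotent_of_map_eq_zero π hker _ h1).isUnit_add_one
    rwa [sub_add_cancel] at this
  obtain ⟨u, hu⟩ := h2
  refine ⟨↑u⁻¹ * a, ↑u⁻¹ * b, ?_⟩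
  have : ↑u⁻¹ * a * f + ↑u⁻¹ * b * derivative f = ↑u⁻¹ * w := by rw [hw]; ring
  rw [this, ← hu]
  exact u.inv_mul

end Sep

section Lift

variable {A : Type u} [CommRing A] {k : Type v} [Field k] {k' : Type v} [Field k']
  [Algebra A k] [Algebra k k'] [Algebra A k'] [IsScalarTower A k k']
  (hsurj : Function.Surjective (algebraMap A k))
  (f : A[X]) (α : k') (hmin : f.map (algebraMap A k) = minpoly k α)

include hmin in
theorem eval₂_eq_zero : f.eval₂ (algebraMap A k') α = 0 := by
  rw [IsScalarTower.algebraMap_eq A k k', ← Polynomial.eval₂_map, hmin, ← Polynomial.aeval_def,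
    minpoly.aeval]

/-- The evaluation map `A[X]/(f) → k'`. -/
noncomputable def phi : AdjoinRoot f →+* k' :=
  AdjoinRoot.lift (algebraMap A k') α (eval₂_eq_zero f α hmin)

theorem phi_mk (P : A[X]) :
    phi f α hmin (AdjoinRoot.mk f P) = Polynomial.aeval α (P.map (algebraMap A k)) := by
  rw [phi, AdjoinRoot.lift_mk, Polynomial.aeval_def, Polynomial.eval₂_map,
    ← IsScalarTower.algebraMap_eq]

theorem phi_of (x : A) : phi f α hmin (AdjoinRoot.of f x) = algebraMap A k' x := by
  rw [phi]
  exact AdjoinRoot.lift_of _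

include hsurj in
theorem phi_surjective (hgen : ∀ y : k', ∃ p : k[X], y = Polynomial.aeval α p) :
    Function.Surjective (phi f α hmin) := by
  intro y
  obtain ⟨p, rfl⟩ := hgen y
  obtain ⟨P, rfl⟩ := Polynomial.map_surjective _ hsurj p
  exact ⟨AdjoinRoot.mk f P, phi_mk f α hmin P⟩

include hsurj in
theorem ker_phi_le :
    RingHom.ker (phi f α hmin) ≤
      Ideal.map (AdjoinRoot.of f) (RingHom.ker (algebraMap A k)) := by
  intro x hx
  obtain ⟨P, rfl⟩ := AdjoinRoot.mk_surjective x
  rw [RingHom.mem_ker, phi_mk] at hx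
  obtain ⟨q, hq⟩ := minpoly.dvd k α hx
  obtain ⟨Q, rfl⟩ := Polynomial.map_surjective _ hsurj q
  set N := P - f * Q with hN
  have h1 : N.map (algebraMap A k) = 0 := by
    rw [hN, Polynomial.map_sub, Polynomial.map_mul, hq, hmin, sub_self]
  have h2 : N ∈ Ideal.map (C : A →+* A[X]) (RingHom.ker (algebraMap A k)) := by
    rw [Ideal.mem_map_C_iff]
    intro n
    rw [RingHom.mem_ker, ← Polynomial.coeff_map, h1, Polynomial.coeff_zero]
  have h3 : AdjoinRoot.mk f P = AdjoinRoot.mk f N := by
    rw [hN, map_sub, map_mul, AdjoinRoot.mk_self, zero_mul, sub_zero]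
  rw [h3]
  have h4 := Ideal.mem_map_of_mem (AdjoinRoot.mk f) h2
  rw [Ideal.map_map] at h4
  exact h4

include hsurj in
theorem isNilpotent_ker_phi (hnil : IsNilpotent (RingHom.ker (algebraMap A k))) :
    IsNilpotent (RingHom.ker (phi f α hmin)) := by
  obtain ⟨n, hn⟩ := hnil
  refine ⟨n, ?_⟩
  have h1 : RingHom.ker (phi f α hmin) ^ n ≤
      Ideal.map (AdjoinRoot.of f) (RingHom.ker (algebraMap A k)) ^ n :=
    Ideal.pow_right_mono (ker_phi_le hsurj f α hmin) n
  rw [← Ideal.map_pow, hn, Ideal.zero_eq_bot, Ideal.map_bot] at h1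
  exact le_bot_iff.mp h1

end Lift

end Groth.Agent.Lib.Helper25.ArtinLift
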