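import Mathlib

/-!
# Descent lemmas used for Clifford algebras (helper25)

* `mem_of_one_tmul_mem_baseChange`: faithfully flat descent of membership in a submodule.
* `mem_baseChange_center`: for an algebra `C` finite as a module and a flat `R`-algebra `A`,
  central elements of `A ⊗ C` are in the base change of the centre of `C`.
-/

set_option autoImplicit false
set_option linter.unusedSectionVars false
set_option linter.style.haveILetI false
universe u v u'

namespace Groth.Agent.Lib.Helper25.Cliff

open TensorProduct

section Mem

variable {R : Type*} [CommRing R] (A : Type*) [CommRing A] [Algebra R A]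
  {N : Type*} [AddCommGroup N] [Module R N]

theorem mem_of_one_tmul_mem_baseChange [Module.FaithfullyFlat R A] (P : Submodule R N) (x : N)
    (h : (1 : A) ⊗ₜ[R] x ∈ P.baseChange A) : x ∈ P := by
  have h1 : (Submodule.span R {x}).baseChange A ≤ P.baseChange A := by
    rw [Submodule.baseChange_span, Submodule.span_le]
    rintro _ ⟨y, hy, rfl⟩
    rw [Set.mem_singleton_iff] at hy
    subst hy
    exact h
  exact (Submodule.baseChange_le_iff.mp h1) (Submodule.mem_span_singleton_self x)

end Mem

section Center

variable {R : Type*} [CommRing R] (A : Type*) [CommRing A] [Algebra R A]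
  (C : Type*) [Ring C] [Algebra R C]

/-- The commutator with `s` as a linear map. -/
noncomputable def commL (s : C) : C →ₗ[R] C := LinearMap.mulRight R s - LinearMap.mulLeft R s

theorem commL_apply (s x : C) : commL (R := R) C s x = x * s - s * x := rfl

theorem baseChange_commL (s : C) (t : A ⊗[R] C) :
    (commL (R := R) C s).baseChange A t = t * (1 ⊗ₜ s) - (1 ⊗ₜ s) * t := by
  induction t using TensorProduct.induction_on with
  | zero => simp
  | tmul a x =>
    rw [LinearMap.baseChange_tmul, commL_apply, Algebra.TensorProduct.tmul_mul_tmul,
      Algebra.TensorProduct.tmul_mul_tmul, mul_one, one_mul, TensorProduct.tmul_sub]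
  | add x y hx hy =>
    rw [map_add, hx, hy, add_mul, mul_add]
    abel

theorem mem_baseChange_center [Module.Finite R C] [Module.Flat R A] (t : A ⊗[R] C)
    (ht : t ∈ Subalgebra.center A (A ⊗[R] C)) :
    t ∈ (Subalgebra.toSubmodule (Subalgebra.center R C)).baseChange A := by
  classical
  obtain ⟨n, s, hs⟩ := Module.Finite.exists_fin (R := R) (M := C)
  let f : C →ₗ[R] (Fin n → C) := LinearMap.pi fun i => commL (R := R) C (s i)
  have hker : LinearMap.ker f = Subalgebra.toSubmodule (Subalgebra.center R C) := by
    ext x
    rw [LinearMap.mem_ker, Subalgebra.mem_toSubmodule, Subalgebra.mem_center_iff]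
    constructor
    · intro hx y
      have hcomm : ∀ i, x * s i = s i * x := fun i => by
        have := congrFun hx i
        simpa [f, commL_apply, sub_eq_zero] using this
      have hy : y ∈ Submodule.span R (Set.range s) := hs ▸ Submodule.mem_top
      induction hy using Submodule.span_induction with
      | mem y hy =>
        obtain ⟨i, rfl⟩ := hy
        exact (hcomm i).symm
      | zero => simp
      | add y z _ _ hy hz => rw [add_mul, mul_add, hy, hz]
      | smul r y _ hy => rw [smul_mul_assoc, mul_smul_comm, hy]
    · intro hx
      funext i
      simp only [f, LinearMap.pi_apply, commL_apply, Pi.zero_apply]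
      rw [hx (s i), sub_self]
  have hkey := Module.Flat.ker_lTensor_eq (R := R) A A f
  rw [← hker]
  change t ∈ LinearMap.range ((LinearMap.ker f).subtype.baseChange A)
  have ht0 : (AlgebraTensorModule.lTensor A A f) t = 0 := by
    have hinj := (TensorProduct.piRight R A A (fun _ : Fin n => C)).injective
    apply hinj
    rw [map_zero]
    funext i
    have hall : ∀ t' : A ⊗[R] C, (TensorProduct.piRight R A A (fun _ : Fin n => C))
        ((AlgebraTensorModule.lTensor A A f) t') i =
        (commL (R := R) C (s i)).baseChange A t' := by
      intro t'
      induction t' using TensorProduct.induction_on with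
      | zero => simp
      | tmul a x =>
        rw [LinearMap.baseChange_tmul]
        change (TensorProduct.piRight R A A (fun _ : Fin n => C)) (a ⊗ₜ f x) i = _
        rw [TensorProduct.piRight_apply, TensorProduct.piRightHom_tmul]
        rfl
      | add x y hx hy =>
        rw [map_add, map_add, Pi.add_apply, map_add, hx, hy]
    have := hall t
    rw [this, baseChange_commL, Pi.zero_apply]
    rw [Subalgebra.mem_center_iff] at ht
    rw [ht (1 ⊗ₜ s i), sub_self]
  have : t ∈ LinearMap.ker (AlgebraTensorModule.lTensor A A f) := ht0
  rw [hkey] at this
  exact this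

end Center

end Groth.Agent.Lib.Helper25.Cliff
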