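import Mathlib
import Groth.Agent.Lib.Helper25CliffG

/-!
# Faithfully flat descent for Azumaya algebras (helper25)
-/

set_option autoImplicit false
set_option linter.unusedSectionVars false
set_option linter.style.haveILetI false
universe u v w

namespace Groth.Agent.Lib.Helper25.Az

open TensorProduct

section OpTensor

variable (R : Type*) [CommRing R] (S : Type*) [CommRing S] [Algebra R S]
  (B : Type*) [Ring B] [Algebra R B]

/-- `S ⊗ Bᵐᵒᵖ ≃ (S ⊗ B)ᵐᵒᵖ` as `S`-modules. -/
noncomputable def opTensorEquiv : S ⊗[R] Bᵐᵒᵖ ≃ₗ[S] (S ⊗[R] B)ᵐᵒᵖ :=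
  (LinearEquiv.baseChange R S _ _ (MulOpposite.opLinearEquiv R (M := B)).symm).trans
    (MulOpposite.opLinearEquiv S)

theorem opTensorEquiv_tmul (s : S) (b : B) :
    opTensorEquiv R S B (s ⊗ₜ MulOpposite.op b) = MulOpposite.op (s ⊗ₜ b) := rfl

end OpTensor

section Descent

variable (R : Type*) [CommRing R] (S : Type*) [CommRing S] [Algebra R S]
  (B : Type*) [Ring B] [Algebra R B]

/-- identification `S ⊗ (B ⊗ Bᵐᵒᵖ) ≃ (S ⊗ B) ⊗_S (S ⊗ B)ᵐᵒᵖ`. -/
noncomputable def tensorOpEquiv :
    S ⊗[R] (B ⊗[R] Bᵐᵒᵖ) ≃ₗ[S] (S ⊗[R] B) ⊗[S] (S ⊗[R] B)ᵐᵒᵖ :=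
  (AlgebraTensorModule.distribBaseChange R S B Bᵐᵒᵖ).trans
    (TensorProduct.congr (LinearEquiv.refl S _) (opTensorEquiv R S B))

theorem tensorOpEquiv_tmul (s : S) (b c : B) :
    tensorOpEquiv R S B (s ⊗ₜ (b ⊗ₜ MulOpposite.op c)) =
      (s ⊗ₜ b) ⊗ₜ MulOpposite.op ((1 : S) ⊗ₜ c) := rfl

variable [Module.Finite R B] [Module.Projective R B]

/-- base change of endomorphisms. -/
noncomputable def endBCEquiv [Module.Flat R S] :
    S ⊗[R] (B →ₗ[R] B) ≃ₗ[S] (S ⊗[R] B →ₗ[S] S ⊗[R] B) :=
  haveI := Module.finitePresentation_of_projective R B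
  (Module.FinitePresentation.isBaseChange_map R B B S).equiv

theorem endBCEquiv_tmul [Module.Flat R S] (s : S) (f : B →ₗ[R] B) :
    endBCEquiv R S B (s ⊗ₜ f) = s • f.baseChange S :=
  haveI := Module.finitePresentation_of_projective R B
  (Module.FinitePresentation.isBaseChange_map R B B S).equiv_tmul s f

theorem descent_square [Module.Flat R S] (t : S ⊗[R] (B ⊗[R] Bᵐᵒᵖ)) :
    endBCEquiv R S B (LinearMap.lTensor S (AlgHom.mulLeftRight R B).toLinearMap t) =
      AlgHom.mulLeftRight S (S ⊗[R] B) (tensorOpEquiv R S B t) := by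
  induction t using TensorProduct.induction_on with
  | zero => simp
  | add x y hx hy => rw [map_add, map_add, hx, hy, map_add, map_add]
  | tmul s y =>
    induction y using TensorProduct.induction_on with
    | zero => simp
    | add x y hx hy =>
      rw [TensorProduct.tmul_add, map_add, map_add, hx, hy, map_add, map_add]
    | tmul b c =>
      obtain ⟨c, rfl⟩ := MulOpposite.op_surjective c
      rw [LinearMap.lTensor_tmul, endBCEquiv_tmul, tensorOpEquiv_tmul]
      apply LinearMap.ext
      intro z
      induction z using TensorProduct.induction_on with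
      | zero => simp
      | add x y hx hy => rw [map_add, map_add, hx, hy]
      | tmul t x =>
        rw [LinearMap.smul_apply, LinearMap.baseChange_tmul, AlgHom.toLinearMap_apply,
          AlgHom.mulLeftRight_apply, AlgHom.mulLeftRight_apply, MulOpposite.unop_op,
          MulOpposite.unop_op, Algebra.TensorProduct.tmul_mul_tmul,
          Algebra.TensorProduct.tmul_mul_tmul, mul_one, TensorProduct.smul_tmul', smul_eq_mul]

/-- **Faithfully flat descent for Azumaya algebras.** -/
theorem isAzumaya_of_faithfullyFlat [FaithfulSMul R B] [Module.FaithfullyFlat R S]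
    [IsAzumaya S (S ⊗[R] B)] : IsAzumaya R B where
  bij := by
    have hb : Function.Bijective
        (LinearMap.lTensor S (AlgHom.mulLeftRight R B).toLinearMap) := by
      have h1 : Function.Bijective (fun t =>
          endBCEquiv R S B (LinearMap.lTensor S (AlgHom.mulLeftRight R B).toLinearMap t)) := by
        have : (fun t => endBCEquiv R S B
            (LinearMap.lTensor S (AlgHom.mulLeftRight R B).toLinearMap t)) =
            (fun t => AlgHom.mulLeftRight S (S ⊗[R] B) (tensorOpEquiv R S B t)) :=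
          funext (descent_square R S B)
        rw [this]
        exact (IsAzumaya.bij (R := S) (A := S ⊗[R] B)).comp (tensorOpEquiv R S B).bijective
      exact (Function.Bijective.of_comp_iff' (endBCEquiv R S B).bijective _).mp h1
    exact (Module.FaithfullyFlat.lTensor_bijective_iff_bijective R S _).mp hb

end Descent

section Transport

variable {R₁ R₂ B₁ B₂ : Type*} [CommRing R₁] [CommRing R₂] [Ring B₁] [Ring B₂]
  [Algebra R₁ B₁] [Algebra R₂ B₂]

/-- the base ring of a central algebra with injective structure map is the centre. -/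
noncomputable def centerEquiv (R B : Type*) [CommRing R] [Ring B] [Algebra R B]
    [Algebra.IsCentral R B] (h : Function.Injective (algebraMap R B)) :
    R ≃+* Subring.center B :=
  RingEquiv.ofBijective ((algebraMap R B).codRestrict (Subring.center B)
    (fun r => Subring.mem_center_iff.mpr (fun g => (Algebra.commutes r g).symm)))
    ⟨fun a b hab => h (congrArg Subtype.val hab), fun x => by
      have hx : x.1 ∈ Subalgebra.center R B := by
        rw [Subalgebra.mem_center_iff]
        intro b
        exact Subring.mem_center_iff.mp x.2 b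
      obtain ⟨a, ha⟩ := (Algebra.IsCentral.mem_center_iff R).mp hx
      exact ⟨a, Subtype.ext ha.symm⟩⟩

theorem centerEquiv_coe (R B : Type*) [CommRing R] [Ring B] [Algebra R B]
    [Algebra.IsCentral R B] (h : Function.Injective (algebraMap R B)) (r : R) :
    (centerEquiv R B h r : B) = algebraMap R B r := rfl

/-- A ring isomorphism between central algebras induces an isomorphism of base rings. -/
theorem exists_ringEquiv_of_isCentral [Algebra.IsCentral R₁ B₁] [Algebra.IsCentral R₂ B₂]
    (h₁ : Function.Injective (algebraMap R₁ B₁)) (h₂ : Function.Injective (algebraMap R₂ B₂))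
    (τ : B₁ ≃+* B₂) :
    ∃ σ : R₁ ≃+* R₂, ∀ r, τ (algebraMap R₁ B₁ r) = algebraMap R₂ B₂ (σ r) := by
  refine ⟨(centerEquiv R₁ B₁ h₁).trans ((Subring.centerCongr τ).trans
    (centerEquiv R₂ B₂ h₂).symm), fun r => ?_⟩
  rw [← centerEquiv_coe R₂ B₂ h₂, RingEquiv.trans_apply, RingEquiv.trans_apply,
    RingEquiv.apply_symm_apply]
  rfl

/-- An algebra over its centre which is ring-isomorphic to a matrix algebra over a commutative
ring is Azumaya. -/
theorem isAzumaya_of_ringEquiv_matrix {S S₀ B : Type*} [CommRing S] [CommRing S₀] [Ring B]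
    [Algebra S B] [Algebra.IsCentral S B] (hinj : Function.Injective (algebraMap S B))
    {n : Type*} [Fintype n] [DecidableEq n] [Nonempty n] (τ : Matrix n n S₀ ≃+* B) :
    IsAzumaya S B := by
  classical
  haveI : IsAzumaya S₀ (Matrix n n S₀) := IsAzumaya.matrix S₀ n
  haveI : IsAzumaya S (Matrix n n S) := IsAzumaya.matrix S n
  have h₁ : Function.Injective (algebraMap S₀ (Matrix n n S₀)) :=
    FaithfulSMul.algebraMap_injective S₀ (Matrix n n S₀)
  obtain ⟨σ, hσ⟩ := exists_ringEquiv_of_isCentral h₁ hinj τ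
  let ρ : Matrix n n S ≃+* B := (σ.symm.mapMatrix (m := n)).trans τ
  have hρ : ∀ s : S, ρ (algebraMap S (Matrix n n S) s) = algebraMap S B s := by
    intro s
    have : (σ.symm.mapMatrix (m := n)) (algebraMap S (Matrix n n S) s) =
        algebraMap S₀ (Matrix n n S₀) (σ.symm s) := by
      ext i j
      by_cases hij : i = j
      · simp [Matrix.algebraMap_matrix_apply, hij]
      · simp [Matrix.algebraMap_matrix_apply, hij]
    rw [RingEquiv.trans_apply, this, hσ, RingEquiv.apply_symm_apply]
  let e : Matrix n n S ≃ₐ[S] B := AlgEquiv.ofRingEquiv (f := ρ) hρ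
  exact IsAzumaya.of_AlgEquiv S (Matrix n n S) B e

end Transport

section CentralBC

variable (R : Type*) [CommRing R] (S : Type*) [CommRing S] [Algebra R S]
  (B : Type*) [Ring B] [Algebra R B]

/-- flat base change of a finite central algebra is central. -/
theorem isCentral_baseChange [Algebra.IsCentral R B] [Module.Finite R B] [Module.Flat R S] :
    Algebra.IsCentral S (S ⊗[R] B) where
  out := by
    intro t ht
    have h := Groth.Agent.Lib.Helper25.Cliff.mem_baseChange_center S B t ht
    rw [Algebra.IsCentral.center_eq_bot] at h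
    obtain ⟨y, rfl⟩ := h
    clear ht
    induction y using TensorProduct.induction_on with
    | zero => rw [map_zero]; exact Subalgebra.zero_mem _
    | add x y hx hy => rw [map_add]; exact Subalgebra.add_mem _ hx hy
    | tmul s z =>
      obtain ⟨z, hz⟩ := z
      obtain ⟨r, hr⟩ := Algebra.mem_bot.mp hz
      rw [LinearMap.baseChange_tmul, Submodule.subtype_apply, Algebra.mem_bot]
      refine ⟨r • s, ?_⟩
      rw [Algebra.TensorProduct.algebraMap_apply, Algebra.algebraMap_self_apply]
      change (r • s) ⊗ₜ[R] (1 : B) = s ⊗ₜ[R] z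
      rw [← hr, Algebra.algebraMap_eq_smul_one r, TensorProduct.smul_tmul]

theorem algebraMap_baseChange_injective [Module.Flat R S]
    (h : Function.Injective (algebraMap R B)) :
    Function.Injective (algebraMap S (S ⊗[R] B)) := by
  have h1 : Function.Injective (LinearMap.lTensor S (Algebra.linearMap R B)) :=
    Module.Flat.lTensor_preserves_injective_linearMap _ h
  have h2 : ∀ s : S, algebraMap S (S ⊗[R] B) s =
      LinearMap.lTensor S (Algebra.linearMap R B) ((TensorProduct.rid R S).symm s) := by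
    intro s
    rw [TensorProduct.rid_symm_apply, LinearMap.lTensor_tmul, Algebra.linearMap_apply,
      map_one, Algebra.TensorProduct.algebraMap_apply, Algebra.algebraMap_self_apply]
  intro a b hab
  rw [h2, h2] at hab
  exact (TensorProduct.rid R S).symm.injective (h1 hab)

end CentralBC

section MatrixProd

/-- `M_n(R₁ × R₂) ≃ M_n(R₁) × M_n(R₂)`. -/
noncomputable def matrixProdEquiv (n : Type*) [Fintype n] [DecidableEq n] (R₁ R₂ : Type*)
    [Ring R₁] [Ring R₂] : Matrix n n (R₁ × R₂) ≃+* Matrix n n R₁ × Matrix n n R₂ :=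
  RingEquiv.ofBijective ((RingHom.fst R₁ R₂).mapMatrix.prod (RingHom.snd R₁ R₂).mapMatrix)
    ⟨fun M N h => by
      ext i j
      · exact congrFun (congrFun (congrArg Prod.fst h) i) j
      · exact congrFun (congrFun (congrArg Prod.snd h) i) j,
     fun p => ⟨Matrix.of fun i j => (p.1 i j, p.2 i j), by
      ext i j <;> rfl⟩⟩

end MatrixProd

section Cancel

variable (A : Type*) [CommRing A] (R : Type*) [CommRing R] [Algebra A R] (A' : Type*)
  [CommRing A'] [Algebra A A'] (B : Type*) [Ring B] [Algebra A B] [Algebra R B]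
  [IsScalarTower A R B]

/-- `(R ⊗[A] A') ⊗[R] B ≃ A' ⊗[A] B`, linear version. -/
noncomputable def cancelLin : (R ⊗[A] A') ⊗[R] B ≃ₗ[A] A' ⊗[A] B :=
  ((TensorProduct.comm R (R ⊗[A] A') B).restrictScalars A).trans
    (((AlgebraTensorModule.cancelBaseChange A R R B A').restrictScalars A).trans
      (TensorProduct.comm A B A'))

theorem cancelLin_symm_tmul (a : A') (b : B) :
    (cancelLin A R A' B).symm (a ⊗ₜ b) = ((1 : R) ⊗ₜ[A] a) ⊗ₜ[R] b := rfl

/-- the inverse of `cancelLin` as an algebra map. -/
noncomputable def cancelHom : A' ⊗[A] B →ₐ[A] (R ⊗[A] A') ⊗[R] B :=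
  Algebra.TensorProduct.lift
    (((Algebra.TensorProduct.includeLeft :
      (R ⊗[A] A') →ₐ[R ⊗[A] A'] (R ⊗[A] A') ⊗[R] B).restrictScalars
      A).comp (Algebra.TensorProduct.includeRight : A' →ₐ[A] R ⊗[A] A'))
    ((Algebra.TensorProduct.includeRight : B →ₐ[R] (R ⊗[A] A') ⊗[R] B).restrictScalars A)
    (fun a b => by
      change Commute (((1 : R) ⊗ₜ[A] a) ⊗ₜ[R] (1 : B)) ((1 : R ⊗[A] A') ⊗ₜ[R] b)
      rw [commute_iff_eq, Algebra.TensorProduct.tmul_mul_tmul,
        Algebra.TensorProduct.tmul_mul_tmul, mul_one, one_mul, mul_one, one_mul])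

theorem cancelHom_eq (t : A' ⊗[A] B) :
    cancelHom A R A' B t = (cancelLin A R A' B).symm t := by
  induction t using TensorProduct.induction_on with
  | zero => simp
  | add x y hx hy => rw [map_add, map_add, hx, hy]
  | tmul a b =>
    rw [cancelLin_symm_tmul, cancelHom, Algebra.TensorProduct.lift_tmul]
    change (((1 : R) ⊗ₜ[A] a) ⊗ₜ[R] (1 : B)) * ((1 : R ⊗[A] A') ⊗ₜ[R] b) = _
    rw [Algebra.TensorProduct.tmul_mul_tmul, mul_one, one_mul]

/-- `(R ⊗[A] A') ⊗[R] B ≃ A' ⊗[A] B` as rings. -/
noncomputable def cancelRingEquiv : (R ⊗[A] A') ⊗[R] B ≃+* A' ⊗[A] B :=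
  (RingEquiv.ofBijective (cancelHom A R A' B : A' ⊗[A] B →+* (R ⊗[A] A') ⊗[R] B) (by
    have : (⇑(cancelHom A R A' B : A' ⊗[A] B →+* (R ⊗[A] A') ⊗[R] B)) =
        ⇑(cancelLin A R A' B).symm := funext (cancelHom_eq A R A' B)
    rw [this]
    exact (cancelLin A R A' B).symm.bijective)).symm

end Cancel

section Chain

/-- An `R`-algebra `B`, finite projective over `R`, which is central over an unramified
`R`-algebra `Z` and becomes a matrix algebra over some commutative ring after a faithfully flat
base change `R → A`, is Azumaya over `Z`. -/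
theorem isAzumaya_of_fppf_matrix {R : Type*} [CommRing R] {Z : Type*} [CommRing Z] [Algebra R Z]
    {B : Type*} [Ring B] [Algebra R B] [Algebra Z B] [IsScalarTower R Z B]
    [Module.Finite R B] [Module.Projective R B] [Algebra.FormallyUnramified R Z]
    [Algebra.EssFiniteType R Z] [Algebra.IsCentral Z B]
    (hinj : Function.Injective (algebraMap Z B))
    (A : Type*) [CommRing A] [Algebra R A] [Module.FaithfullyFlat R A]
    {S₀ : Type*} [CommRing S₀] {n : Type*} [Fintype n] [DecidableEq n] [Nonempty n]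
    (τ : Matrix n n S₀ ≃+* A ⊗[R] B) : IsAzumaya Z B := by
  haveI : Module.Finite Z B := Module.Finite.of_restrictScalars_finite R Z B
  haveI : FaithfulSMul Z B := (faithfulSMul_iff_algebraMap_injective Z B).mpr hinj
  haveI : Module.Projective Z B := Algebra.FormallyUnramified.projective_of_restrictScalars R Z B
  haveI : Algebra.IsCentral (Z ⊗[R] A) ((Z ⊗[R] A) ⊗[Z] B) := isCentral_baseChange Z (Z ⊗[R] A) B
  have hinj' := algebraMap_baseChange_injective Z (Z ⊗[R] A) B hinj
  haveI : IsAzumaya (Z ⊗[R] A) ((Z ⊗[R] A) ⊗[Z] B) :=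
    isAzumaya_of_ringEquiv_matrix hinj' (τ.trans (cancelRingEquiv R Z A B).symm)
  exact isAzumaya_of_faithfullyFlat Z (Z ⊗[R] A) B

end Chain

end Groth.Agent.Lib.Helper25.Az
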