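import Groth.Agent.Lib.Helper25CliffA
import Groth.Agent.Lib.Helper25HalfDisc
import Mathlib.LinearAlgebra.CliffordAlgebra.BaseChange
import Mathlib.RingTheory.TensorProduct.Free

/-!
# Base change of Clifford algebras, characteristic free (helper25)

For a quadratic form `Q` on a free `R`-module and an `R`-algebra `A`:
`bcEquiv A Q : A ⊗[R] C(Q) ≃ₐ[A] C(Q_A)` where `Q_A = QuadGrp.baseChangeForm A Q`.
-/

set_option autoImplicit false
set_option linter.unusedSectionVars false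
set_option linter.style.haveILetI false
universe u v u'

namespace Groth.Agent.Lib.Helper25.Cliff

open CliffordAlgebra TensorProduct QuadGrp

section Ext

variable {ι R M N : Type*} [LinearOrder ι] [CommRing R] [AddCommGroup M] [AddCommGroup N]
  [Module R M] [Module R N]

/-- A quadratic map on a free module is determined by its values and polar values on a basis. -/
theorem quadraticMap_ext_of_basis (bm : Module.Basis ι R M) {Q₁ Q₂ : QuadraticMap R M N}
    (h1 : ∀ i, Q₁ (bm i) = Q₂ (bm i))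
    (h2 : ∀ i j, QuadraticMap.polar Q₁ (bm i) (bm j) = QuadraticMap.polar Q₂ (bm i) (bm j)) :
    Q₁ = Q₂ := by
  rw [← QuadraticMap.toQuadraticMap_toBilin Q₁ bm, ← QuadraticMap.toQuadraticMap_toBilin Q₂ bm]
  congr 1
  refine bm.ext fun i => bm.ext fun j => ?_
  rw [QuadraticMap.toBilin_apply, QuadraticMap.toBilin_apply, h1, h2]

end Ext

variable {R : Type u} [CommRing R] {M : Type v} [AddCommGroup M] [Module R M] [Module.Free R M]
  (A : Type u') [CommRing A] [Algebra R A] (Q : QuadraticForm R M)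

/-- The `A`-linear map `A ⊗ M → A ⊗ C(Q)`. -/
noncomputable def bcι : A ⊗[R] M →ₗ[A] A ⊗[R] CliffordAlgebra Q :=
  TensorProduct.AlgebraTensorModule.map (LinearMap.id : A →ₗ[A] A) (ι Q)

@[simp] theorem bcι_tmul (a : A) (m : M) : bcι A Q (a ⊗ₜ[R] m) = a ⊗ₜ[R] ι Q m := rfl

theorem bcι_sq (x : A ⊗[R] M) :
    bcι A Q x * bcι A Q x =
      algebraMap A (A ⊗[R] CliffordAlgebra Q) (baseChangeForm A Q x) := by
  classical
  let b := Module.Free.chooseBasis R M
  letI : LinearOrder (Module.Free.ChooseBasisIndex R M) := linearOrderOfSTO (WellOrderingRel)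
  let Q₂ : QuadraticMap A (A ⊗[R] M) (A ⊗[R] CliffordAlgebra Q) :=
    LinearMap.BilinMap.toQuadraticMap
      ((LinearMap.mul A (A ⊗[R] CliffordAlgebra Q)).compl₁₂ (bcι A Q) (bcι A Q))
  let Q₁ : QuadraticMap A (A ⊗[R] M) (A ⊗[R] CliffordAlgebra Q) :=
    (Algebra.linearMap A (A ⊗[R] CliffordAlgebra Q)).compQuadraticMap (baseChangeForm A Q)
  have h : Q₂ = Q₁ := by
    refine quadraticMap_ext_of_basis (Algebra.TensorProduct.basis A b) (fun i => ?_)
      (fun i j => ?_)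
    · rw [Algebra.TensorProduct.basis_apply]
      change bcι A Q (1 ⊗ₜ b i) * bcι A Q (1 ⊗ₜ b i) =
        algebraMap A _ (baseChangeForm A Q (1 ⊗ₜ b i))
      rw [bcι_tmul, Algebra.TensorProduct.tmul_mul_tmul, ι_sq_scalar, mul_one,
        HalfDisc.baseChangeForm_one_tmul, Algebra.TensorProduct.algebraMap_apply,
        Algebra.algebraMap_self, RingHom.id_apply, Algebra.algebraMap_eq_smul_one (Q (b i)),
        Algebra.algebraMap_eq_smul_one (Q (b i)), TensorProduct.smul_tmul]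
    · rw [Algebra.TensorProduct.basis_apply, Algebra.TensorProduct.basis_apply]
      have e2 : QuadraticMap.polar Q₂ (1 ⊗ₜ b i) (1 ⊗ₜ b j) =
          bcι A Q (1 ⊗ₜ b i) * bcι A Q (1 ⊗ₜ b j) + bcι A Q (1 ⊗ₜ b j) * bcι A Q (1 ⊗ₜ b i) := by
        change bcι A Q (1 ⊗ₜ b i + 1 ⊗ₜ b j) * bcι A Q (1 ⊗ₜ b i + 1 ⊗ₜ b j) -
          bcι A Q (1 ⊗ₜ b i) * bcι A Q (1 ⊗ₜ b i) - bcι A Q (1 ⊗ₜ b j) * bcι A Q (1 ⊗ₜ b j) = _
        rw [map_add]
        noncomm_ring
      have e1 : QuadraticMap.polar Q₁ (1 ⊗ₜ b i) (1 ⊗ₜ b j) =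
          algebraMap A _ (QuadraticMap.polar (baseChangeForm A Q) (1 ⊗ₜ b i) (1 ⊗ₜ b j)) := by
        change algebraMap A _ _ - algebraMap A _ _ - algebraMap A _ _ = _
        rw [← map_sub, ← map_sub]
        rfl
      rw [e1, e2, HalfDisc.polar_baseChangeForm, bcι_tmul, bcι_tmul,
        Algebra.TensorProduct.tmul_mul_tmul, Algebra.TensorProduct.tmul_mul_tmul, mul_one,
        ← TensorProduct.tmul_add, ι_mul_ι_add_swap, Algebra.TensorProduct.algebraMap_apply,
        Algebra.algebraMap_self, RingHom.id_apply,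
        Algebra.algebraMap_eq_smul_one (QuadraticMap.polar Q (b i) (b j)),
        Algebra.algebraMap_eq_smul_one (QuadraticMap.polar Q (b i) (b j)),
        TensorProduct.smul_tmul]
  exact DFunLike.congr_fun h x

/-- `C(Q_A) → A ⊗ C(Q)`. -/
noncomputable def toBC : CliffordAlgebra (baseChangeForm A Q) →ₐ[A] A ⊗[R] CliffordAlgebra Q :=
  CliffordAlgebra.lift _ ⟨bcι A Q, bcι_sq A Q⟩

@[simp] theorem toBC_ι (x : A ⊗[R] M) : toBC A Q (ι _ x) = bcι A Q x :=
  CliffordAlgebra.lift_ι_apply _ _ x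

/-- `C(Q) → C(Q_A)`, semilinear version of `CliffordAlgebra.map`. -/
noncomputable def ofBCAux : CliffordAlgebra Q →ₐ[R] CliffordAlgebra (baseChangeForm A Q) :=
  CliffordAlgebra.lift Q
    ⟨(ι (baseChangeForm A Q)).restrictScalars R ∘ₗ TensorProduct.mk R A M 1, fun v => by
      refine (CliffordAlgebra.ι_sq_scalar (baseChangeForm A Q) (1 ⊗ₜ v)).trans ?_
      rw [HalfDisc.baseChangeForm_one_tmul, ← IsScalarTower.algebraMap_apply]⟩

@[simp] theorem ofBCAux_ι (v : M) :
    ofBCAux A Q (ι Q v) = ι (baseChangeForm A Q) (1 ⊗ₜ v) :=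
  CliffordAlgebra.lift_ι_apply _ _ v

/-- `A ⊗ C(Q) → C(Q_A)`. -/
noncomputable def ofBC : A ⊗[R] CliffordAlgebra Q →ₐ[A] CliffordAlgebra (baseChangeForm A Q) :=
  Algebra.TensorProduct.lift (Algebra.ofId _ _) (ofBCAux A Q) fun _ _ => Algebra.commutes _ _

theorem ofBC_tmul (a : A) (x : CliffordAlgebra Q) :
    ofBC A Q (a ⊗ₜ x) = a • ofBCAux A Q x := by
  change algebraMap _ _ a * ofBCAux A Q x = _
  rw [Algebra.smul_def]

@[simp] theorem ofBC_tmul_ι (a : A) (v : M) :
    ofBC A Q (a ⊗ₜ ι Q v) = ι (baseChangeForm A Q) (a ⊗ₜ v) := by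
  rw [ofBC_tmul, ofBCAux_ι, ← map_smul, TensorProduct.smul_tmul', smul_eq_mul, mul_one]

theorem toBC_comp_ofBC : (toBC A Q).comp (ofBC A Q) = AlgHom.id _ _ := by
  apply Algebra.TensorProduct.ext'
  intro a x
  rw [AlgHom.comp_apply, AlgHom.id_apply, ofBC_tmul, map_smul]
  have : toBC A Q (ofBCAux A Q x) = 1 ⊗ₜ x := by
    induction x using CliffordAlgebra.induction with
    | algebraMap r =>
      rw [AlgHom.commutes, IsScalarTower.algebraMap_apply R A (CliffordAlgebra (baseChangeForm A Q)),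
        AlgHom.commutes, Algebra.TensorProduct.algebraMap_apply, Algebra.algebraMap_self,
        RingHom.id_apply, Algebra.algebraMap_eq_smul_one r, Algebra.algebraMap_eq_smul_one r,
        TensorProduct.smul_tmul]
    | ι v => rw [ofBCAux_ι, toBC_ι, bcι_tmul]
    | mul x y hx hy => rw [map_mul, map_mul, hx, hy, Algebra.TensorProduct.tmul_mul_tmul, mul_one]
    | add x y hx hy => rw [map_add, map_add, hx, hy, TensorProduct.tmul_add]
  rw [this, TensorProduct.smul_tmul', smul_eq_mul, mul_one]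

theorem ofBC_comp_toBC : (ofBC A Q).comp (toBC A Q) = AlgHom.id _ _ := by
  apply CliffordAlgebra.hom_ext
  apply TensorProduct.AlgebraTensorModule.ext
  intro a v
  change ofBC A Q (toBC A Q (ι _ (a ⊗ₜ v))) = ι _ (a ⊗ₜ v)
  rw [toBC_ι, bcι_tmul, ofBC_tmul_ι]

/-- Base change of Clifford algebras. -/
noncomputable def bcEquiv : A ⊗[R] CliffordAlgebra Q ≃ₐ[A] CliffordAlgebra (baseChangeForm A Q) :=
  AlgEquiv.ofAlgHom (ofBC A Q) (toBC A Q) (ofBC_comp_toBC A Q) (toBC_comp_ofBC A Q)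

theorem bcEquiv_tmul (a : A) (x : CliffordAlgebra Q) :
    bcEquiv A Q (a ⊗ₜ x) = a • ofBCAux A Q x := ofBC_tmul A Q a x

theorem bcEquiv_one_tmul (x : CliffordAlgebra Q) :
    bcEquiv A Q (1 ⊗ₜ x) = ofBCAux A Q x := by
  rw [bcEquiv_tmul, one_smul]

end Groth.Agent.Lib.Helper25.Cliff
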