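import Groth.Agent.Lib.Helper25CliffC
import Mathlib.Data.Matrix.Composition
import Mathlib.LinearAlgebra.Matrix.Reindex
import Mathlib.LinearAlgebra.Matrix.Unique
import Mathlib.LinearAlgebra.QuadraticForm.IsometryEquiv

/-!
# The Clifford algebra of a split form of even rank is a matrix algebra (helper25)

`hypSum R m` is the split form `∑ i, x i * y i` on `Fin m → R × R`.  By induction on `m`
(`Helper25CliffC`), `C(hypSum R m) ≃ M_{2^m}(R)`, there is a parity idempotent, and for `m ≥ 1`
the even part is `M_{2^(m-1)}(R) × M_{2^(m-1)}(R)`.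
-/

set_option autoImplicit false
set_option linter.unusedSectionVars false
set_option linter.style.haveILetI false
universe u v w

namespace Groth.Agent.Lib.Helper25.Cliff

open CliffordAlgebra Matrix

variable {R : Type u} [CommRing R] {M : Type v} [AddCommGroup M] [Module R M]
  {M' : Type w} [AddCommGroup M'] [Module R M']
  {Q : QuadraticForm R M} {Q' : QuadraticForm R M'}

/-- Maps induced by isometries respect the grading. -/
theorem map_mem_evenOdd (f : Q →qᵢ Q') (i : ZMod 2) (x : CliffordAlgebra Q)
    (hx : x ∈ evenOdd Q i) : CliffordAlgebra.map f x ∈ evenOdd Q' i := by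
  refine map_mem_of_mem_evenOdd Q (evenOdd Q') (SetLike.one_mem_graded _)
    (fun i j x y hx hy => SetLike.mul_mem_graded hx hy) (CliffordAlgebra.map f) (fun v => ?_) i x hx
  rw [CliffordAlgebra.map_apply_ι]
  exact ι_mem_evenOdd_one _ _

theorem IsParityIdem.map (e : Q.IsometryEquiv Q') {ε : CliffordAlgebra Q}
    (hε : IsParityIdem Q ε) : IsParityIdem Q' (CliffordAlgebra.map e.toIsometry ε) where
  even := map_mem_evenOdd _ 0 ε hε.even
  idem := by rw [← map_mul, hε.idem]
  comm := fun v' => by
    obtain ⟨v, rfl⟩ := e.toLinearEquiv.surjective v'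
    have : ι Q' (e.toLinearEquiv v) = CliffordAlgebra.map e.toIsometry (ι Q v) := by
      rw [CliffordAlgebra.map_apply_ι]; rfl
    rw [this, ← map_mul, hε.comm, map_mul, map_sub, map_one]

/-- A splitting of the Clifford algebra: a matrix algebra structure and a parity idempotent. -/
structure SplitData (Q : QuadraticForm R M) (N : ℕ) where
  e : CliffordAlgebra Q ≃ₐ[R] Matrix (Fin N) (Fin N) R
  ε : CliffordAlgebra Q
  hε : IsParityIdem Q ε

/-- Transport along an isometry. -/
noncomputable def SplitData.ofIsometry {N : ℕ} (D : SplitData Q N) (f : Q.IsometryEquiv Q') :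
    SplitData Q' N where
  e := (equivOfIsometry f).symm.trans D.e
  ε := CliffordAlgebra.map f.toIsometry D.ε
  hε := D.hε.map f

/-- Adding a hyperbolic plane. -/
noncomputable def SplitData.succ [Module.Free R M] [Module.Finite R M] {N : ℕ}
    (D : SplitData Q N) : SplitData (Q.prod (hyp R)) (2 * N) where
  e := (hypEquiv' D.hε).trans <| (D.e.mapMatrix (m := Fin 2)).trans <|
    (Matrix.compAlgEquiv (Fin 2) (Fin N) R R).trans <|
    Matrix.reindexAlgEquiv R R finProdFinEquiv
  ε := nextIdem D.hε
  hε := isParityIdem_nextIdem D.hε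

section Zero

variable [Subsingleton M]

/-- The Clifford algebra of the zero module is the base ring. -/
noncomputable def zeroEquiv (Q : QuadraticForm R M) : CliffordAlgebra Q ≃ₐ[R] R :=
  AlgEquiv.ofAlgHom
    (CliffordAlgebra.lift Q ⟨0, fun m => by
      rw [Subsingleton.elim m 0]; simp⟩ : CliffordAlgebra Q →ₐ[R] R)
    (Algebra.ofId R _)
    (by ext)
    (by
      apply CliffordAlgebra.hom_ext
      ext m
      rw [Subsingleton.elim m 0]; simp)

/-- `R ≃ M₁(R)`. -/
noncomputable def oneMatEquiv (R : Type u) [CommRing R] : R ≃ₐ[R] Matrix (Fin 1) (Fin 1) R :=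
  AlgEquiv.ofBijective (Algebra.ofId R (Matrix (Fin 1) (Fin 1) R)) (by
    constructor
    · intro r s hrs
      have := congrFun (congrFun hrs 0) 0
      simpa [Algebra.ofId_apply, Matrix.algebraMap_matrix_apply] using this
    · intro A
      refine ⟨A 0 0, ?_⟩
      ext i j
      rw [Subsingleton.elim i 0, Subsingleton.elim j 0]
      simp [Algebra.ofId_apply, Matrix.algebraMap_matrix_apply])

/-- The base of the induction. -/
noncomputable def SplitData.zero (Q : QuadraticForm R M) : SplitData Q 1 where
  e := (zeroEquiv Q).trans (oneMatEquiv R)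
  ε := 0
  hε :=
    { even := Submodule.zero_mem _
      idem := mul_zero _
      comm := fun v => by rw [Subsingleton.elim v 0]; simp }

end Zero

section HypSum

variable (R)

/-- The split form `∑ i, x i * y i` on `Fin m → R × R`. -/
noncomputable def hypSum (m : ℕ) : QuadraticForm R (Fin m → R × R) :=
  ∑ i, (hyp R).comp (LinearMap.proj i)

variable {R}

theorem hypSum_apply (m : ℕ) (x : Fin m → R × R) :
    hypSum R m x = ∑ i, (x i).1 * (x i).2 := by
  simp [hypSum, QuadraticMap.sum_apply]

variable (R)

/-- `hypSum (m + 1) ≅ hypSum m ⊥ H`. -/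
noncomputable def hypSumSucc (m : ℕ) :
    ((hypSum R m).prod (hyp R)).IsometryEquiv (hypSum R (m + 1)) where
  toLinearEquiv := (LinearEquiv.prodComm R (Fin m → R × R) (R × R)).trans
    (Fin.consLinearEquiv R (fun _ : Fin (m + 1) => R × R))
  map_app' := fun p => by
    change hypSum R (m + 1) (Fin.cons p.2 p.1) = _
    rw [hypSum_apply, Fin.sum_univ_succ, QuadraticMap.prod_apply, hypSum_apply, hyp_apply]
    simp [add_comm]

/-- `C(hypSum R m) ≃ M_{2^m}(R)` together with a parity idempotent. -/
theorem nonempty_splitData_hypSum (m : ℕ) : Nonempty (SplitData (hypSum R m) (2 ^ m)) := by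
  induction m with
  | zero => exact ⟨SplitData.zero _⟩
  | succ m ih =>
    obtain ⟨D⟩ := ih
    rw [pow_succ']
    exact ⟨D.succ.ofIsometry (hypSumSucc R m)⟩

end HypSum

section EvenIso

theorem mem_even_iff {x : CliffordAlgebra Q} : x ∈ CliffordAlgebra.even Q ↔ x ∈ evenOdd Q 0 := by
  rw [← CliffordAlgebra.even_toSubmodule, Subalgebra.mem_toSubmodule]

/-- The map on even parts induced by an isometry. -/
noncomputable def evenMap (f : Q →qᵢ Q') :
    ↥(CliffordAlgebra.even Q) →ₐ[R] ↥(CliffordAlgebra.even Q') :=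
  ((CliffordAlgebra.map f).comp (CliffordAlgebra.even Q).val).codRestrict (CliffordAlgebra.even Q')
    (fun u => mem_even_iff.mpr (map_mem_evenOdd f 0 u.1 (mem_even_iff.mp u.2)))

theorem evenMap_coe (f : Q →qᵢ Q') (u : ↥(CliffordAlgebra.even Q)) :
    (evenMap f u : CliffordAlgebra Q') = CliffordAlgebra.map f u.1 := rfl

/-- The isomorphism of even parts induced by an isometry equivalence. -/
noncomputable def evenEquivOfIsometry (f : Q.IsometryEquiv Q') :
    ↥(CliffordAlgebra.even Q) ≃ₐ[R] ↥(CliffordAlgebra.even Q') :=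
  AlgEquiv.ofAlgHom (evenMap f.toIsometry) (evenMap f.symm.toIsometry)
    (by
      apply AlgHom.ext
      intro u
      apply Subtype.ext
      rw [AlgHom.comp_apply, evenMap_coe, evenMap_coe, AlgHom.id_apply]
      exact (equivOfIsometry f).apply_symm_apply u.1)
    (by
      apply AlgHom.ext
      intro u
      apply Subtype.ext
      rw [AlgHom.comp_apply, evenMap_coe, evenMap_coe, AlgHom.id_apply]
      exact (equivOfIsometry f).symm_apply_apply u.1)

theorem evenEquivOfIsometry_coe (f : Q.IsometryEquiv Q') (u : ↥(CliffordAlgebra.even Q)) :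
    (evenEquivOfIsometry f u : CliffordAlgebra Q') = CliffordAlgebra.map f.toIsometry u.1 := rfl

end EvenIso

section HypSumEven

variable (R)

/-- The even part of `C(hypSum R (m + 1))` is `M_{2^m}(R) × M_{2^m}(R)`. -/
theorem nonempty_even_hypSum_equiv (m : ℕ) :
    Nonempty (↥(CliffordAlgebra.even (hypSum R (m + 1))) ≃ₐ[R]
      (Matrix (Fin (2 ^ m)) (Fin (2 ^ m)) R × Matrix (Fin (2 ^ m)) (Fin (2 ^ m)) R)) := by
  obtain ⟨D⟩ := nonempty_splitData_hypSum R m
  exact ⟨(evenEquivOfIsometry (hypSumSucc R m)).symm.trans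
    ((evenHypEquiv D.hε).trans (AlgEquiv.prodCongr D.e D.e))⟩

end HypSumEven

end Groth.Agent.Lib.Helper25.Cliff
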