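import Mathlib
import Groth.Agent.Lib.Helper25CliffD

/-!
# Structure facts in the split case (helper25)

* parity idempotents: odd elements commuting with `ε` vanish; `ε` is central in the even part;
* an algebra isomorphic to a matrix algebra has trivial centre;
* for `Q₀` with a parity idempotent, `C(Q₀ ⊥ ⟨1⟩)` has an odd central element of square one;
* `C₀(hypSum m ⊥ ⟨1⟩) ≃ M_{2^m}`.
-/

set_option autoImplicit false
set_option linter.unusedSectionVars false
set_option linter.style.haveILetI false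
universe u v

namespace Groth.Agent.Lib.Helper25.Cliff

open CliffordAlgebra

section Parity

variable {R : Type u} [CommRing R] {M : Type v} [AddCommGroup M] [Module R M]
  {Q : QuadraticForm R M} {ε : CliffordAlgebra Q} (hε : IsParityIdem Q ε)

include hε

theorem IsParityIdem.even_mul (x : CliffordAlgebra Q) (hx : x ∈ evenOdd Q 0) :
    x * ε = ε * x := by
  refine even_induction Q (motive := fun x _ => x * ε = ε * x) ?_ ?_ ?_ x hx
  · intro r
    exact (Algebra.commutes r ε)
  · intro x y _ _ h1 h2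
    rw [add_mul, mul_add, h1, h2]
  · intro m₁ m₂ x _ h
    rw [mul_assoc, mul_assoc, h, ← mul_assoc (ι Q m₂), hε.comm, mul_assoc, ← mul_assoc (ι Q m₁),
      hε.comm', mul_assoc, mul_assoc]

theorem IsParityIdem.odd_mul (x : CliffordAlgebra Q) (hx : x ∈ evenOdd Q 1) :
    x * ε = (1 - ε) * x := by
  refine odd_induction Q (P := fun x _ => x * ε = (1 - ε) * x) ?_ ?_ ?_ x hx
  · intro v
    exact hε.comm v
  · intro x y _ _ h1 h2
    rw [add_mul, mul_add, h1, h2]
  · intro m₁ m₂ x _ h
    rw [mul_assoc, mul_assoc, h, ← mul_assoc (ι Q m₂), hε.comm', mul_assoc, ← mul_assoc (ι Q m₁),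
      hε.comm, mul_assoc, mul_assoc]

theorem IsParityIdem.eq_zero_of_odd_of_commute (x : CliffordAlgebra Q) (hx : x ∈ evenOdd Q 1)
    (h : x * ε = ε * x) : x = 0 := by
  have h1 := hε.odd_mul x hx
  rw [h] at h1
  -- ε x = (1 - ε) x
  have h2 : ε * x = 0 := by
    have : ε * (ε * x) = ε * ((1 - ε) * x) := congrArg (fun y => ε * y) h1
    rw [← mul_assoc, hε.idem, ← mul_assoc, hε.mul_one_sub, zero_mul] at this
    exact this
  have h3 : (1 - ε) * x = 0 := by rw [← h1, h2]
  have : x = ε * x + (1 - ε) * x := by rw [← add_mul, add_sub_cancel, one_mul]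
  rw [this, h2, h3, add_zero]

theorem IsParityIdem.mem_center_even :
    (⟨ε, mem_even_iff.mpr hε.even⟩ : ↥(CliffordAlgebra.even Q)) ∈
      Subalgebra.center R ↥(CliffordAlgebra.even Q) := by
  rw [Subalgebra.mem_center_iff]
  intro b
  apply Subtype.ext
  exact hε.even_mul b.1 (mem_even_iff.mp b.2)

end Parity

section MatrixCenter

variable {A : Type*} [CommRing A] {C : Type*} [Ring C] [Algebra A C] {n : Type*} [Fintype n]
  [DecidableEq n]

theorem center_eq_bot_of_algEquiv_matrix (e : C ≃ₐ[A] Matrix n n A) :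
    Subalgebra.center A C = ⊥ := by
  rw [eq_bot_iff]
  intro x hx
  have h1 : e x ∈ Subalgebra.center A (Matrix n n A) := by
    rw [Subalgebra.mem_center_iff] at hx ⊢
    intro b
    obtain ⟨c, rfl⟩ := e.surjective b
    rw [← map_mul, ← map_mul, hx c]
  rw [Algebra.IsCentral.center_eq_bot, Algebra.mem_bot] at h1
  obtain ⟨a, ha⟩ := h1
  rw [Algebra.mem_bot]
  refine ⟨a, e.injective ?_⟩
  rw [AlgEquiv.commutes, ← ha]

end MatrixCenter

section OddCentral

variable {R : Type u} [CommRing R] {M : Type v} [AddCommGroup M] [Module R M]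
  (Q : QuadraticForm R M)

/-- `Q ⊥ ⟨1⟩`. -/
noncomputable abbrev addOne : QuadraticForm R (M × R) := Q.prod (QuadraticMap.sq (R := R))

theorem addOne_apply (p : M × R) : addOne Q p = Q p.1 + p.2 * p.2 := rfl

/-- the new unit vector. -/
noncomputable def eNew : CliffordAlgebra (addOne Q) := ι (addOne Q) (0, 1)

/-- the inclusion `C(Q) → C(Q ⊥ ⟨1⟩)`. -/
noncomputable def inlMap : CliffordAlgebra Q →ₐ[R] CliffordAlgebra (addOne Q) :=
  CliffordAlgebra.map (QuadraticMap.Isometry.inl Q (QuadraticMap.sq (R := R)))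

theorem inlMap_ι (v : M) : inlMap Q (ι Q v) = ι (addOne Q) (v, 0) := by
  rw [inlMap, CliffordAlgebra.map_apply_ι]
  rfl

theorem eNew_mul_eNew : eNew Q * eNew Q = 1 := by
  rw [eNew, ι_sq_scalar, addOne_apply]
  simp

theorem ι_inl_mul_eNew (v : M) :
    ι (addOne Q) (v, 0) * eNew Q = -(eNew Q * ι (addOne Q) (v, 0)) := by
  rw [eNew]
  apply ι_mul_ι_comm_of_isOrtho
  change addOne Q ((v, 0) + (0, 1)) = addOne Q (v, 0) + addOne Q (0, 1)
  simp [addOne_apply]

theorem ι_eq_add (p : M × R) : ι (addOne Q) p = ι (addOne Q) (p.1, 0) + p.2 • eNew Q := by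
  rw [eNew, ← map_smul, ← map_add]
  congr 1
  ext <;> simp

theorem eNew_mul_inlMap_even (x : CliffordAlgebra Q) (hx : x ∈ evenOdd Q 0) :
    eNew Q * inlMap Q x = inlMap Q x * eNew Q := by
  refine even_induction Q (motive := fun x _ => eNew Q * inlMap Q x = inlMap Q x * eNew Q)
    ?_ ?_ ?_ x hx
  · intro r
    rw [AlgHom.commutes]
    exact (Algebra.commutes r _).symm
  · intro x y _ _ h1 h2
    rw [map_add, mul_add, add_mul, h1, h2]
  · intro m₁ m₂ x _ h
    have ha := ι_inl_mul_eNew Q m₁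
    have hb := ι_inl_mul_eNew Q m₂
    rw [map_mul, map_mul, inlMap_ι, inlMap_ι]
    calc eNew Q * (ι _ (m₁, 0) * ι _ (m₂, 0) * inlMap Q x)
        = (eNew Q * ι _ (m₁, 0)) * ι _ (m₂, 0) * inlMap Q x := by simp only [mul_assoc]
      _ = -(ι _ (m₁, 0) * eNew Q) * ι _ (m₂, 0) * inlMap Q x := by rw [ha, neg_neg]
      _ = ι _ (m₁, 0) * (-(eNew Q * ι _ (m₂, 0))) * inlMap Q x := by
          simp only [mul_assoc, neg_mul, mul_neg]
      _ = ι _ (m₁, 0) * (ι _ (m₂, 0) * eNew Q) * inlMap Q x := by rw [hb]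
      _ = ι _ (m₁, 0) * ι _ (m₂, 0) * (eNew Q * inlMap Q x) := by simp only [mul_assoc]
      _ = ι _ (m₁, 0) * ι _ (m₂, 0) * inlMap Q x * eNew Q := by rw [h]; simp only [mul_assoc]

variable {Q} {ε : CliffordAlgebra Q} (hε : IsParityIdem Q ε)

/-- the parity element `1 - 2ε`, moved to `C(Q ⊥ ⟨1⟩)`. -/
noncomputable def parEl (ε : CliffordAlgebra Q) : CliffordAlgebra (addOne Q) :=
  inlMap Q (1 - 2 • ε)

include hε

theorem parEl_mul_self : parEl ε * parEl ε = 1 := by
  rw [parEl, ← map_mul]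
  have : (1 - 2 • ε) * (1 - 2 • ε) = 1 := by
    have h := hε.idem
    calc (1 - 2 • ε) * (1 - 2 • ε) = 1 - 4 • ε + 4 • (ε * ε) := by
          simp only [nsmul_eq_mul, Nat.cast_ofNat]; noncomm_ring
      _ = 1 := by rw [h]; abel
  rw [this, map_one]

theorem ι_inl_mul_parEl (v : M) :
    ι (addOne Q) (v, 0) * parEl ε = -(parEl ε * ι (addOne Q) (v, 0)) := by
  rw [parEl, ← inlMap_ι, ← map_mul, ← map_mul, ← map_neg]
  congr 1
  have h1 := hε.comm v
  calc ι Q v * (1 - 2 • ε) = ι Q v - 2 • (ι Q v * ε) := by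
        simp only [nsmul_eq_mul, Nat.cast_ofNat]; noncomm_ring
    _ = ι Q v - 2 • ((1 - ε) * ι Q v) := by rw [h1]
    _ = -((1 - 2 • ε) * ι Q v) := by
        simp only [nsmul_eq_mul, Nat.cast_ofNat]; noncomm_ring

theorem eNew_mul_parEl : eNew Q * parEl ε = parEl ε * eNew Q := by
  apply eNew_mul_inlMap_even
  refine Submodule.sub_mem _ (SetLike.one_mem_graded _) ?_
  exact Submodule.smul_of_tower_mem _ 2 hε.even

/-- the odd central element. -/
noncomputable def oddCentral (ε : CliffordAlgebra Q) : CliffordAlgebra (addOne Q) :=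
  parEl ε * eNew Q

theorem oddCentral_mul_self : oddCentral ε * oddCentral ε = 1 := by
  rw [oddCentral, mul_assoc, ← mul_assoc (eNew Q), eNew_mul_parEl hε, mul_assoc, eNew_mul_eNew,
    mul_one, parEl_mul_self hε]

theorem oddCentral_mem : oddCentral ε ∈ evenOdd (addOne Q) 1 := by
  have h1 : parEl ε ∈ evenOdd (addOne Q) 0 := by
    apply map_mem_evenOdd
    refine Submodule.sub_mem _ (SetLike.one_mem_graded _) ?_
    exact Submodule.smul_of_tower_mem _ 2 hε.even
  have h2 : eNew Q ∈ evenOdd (addOne Q) 1 := ι_mem_evenOdd_one _ _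
  have := SetLike.mul_mem_graded h1 h2
  rwa [zero_add] at this

theorem oddCentral_commute_ι (p : M × R) :
    oddCentral ε * ι (addOne Q) p = ι (addOne Q) p * oddCentral ε := by
  rw [ι_eq_add, mul_add, add_mul, mul_smul_comm, smul_mul_assoc]
  congr 1
  · rw [oddCentral, mul_assoc, ← neg_neg (eNew Q * _), ← ι_inl_mul_eNew, mul_neg, ← mul_assoc,
      ← neg_mul, ← ι_inl_mul_parEl hε, mul_assoc]
  · rw [oddCentral, mul_assoc, eNew_mul_eNew, ← mul_assoc, eNew_mul_parEl hε, mul_assoc,
      eNew_mul_eNew]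

theorem oddCentral_mem_center :
    oddCentral ε ∈ Subalgebra.center R (CliffordAlgebra (addOne Q)) := by
  rw [Subalgebra.mem_center_iff]
  intro x
  induction x using CliffordAlgebra.induction with
  | algebraMap r => exact Algebra.commutes r _
  | ι p => exact (oddCentral_commute_ι hε p).symm
  | mul x y hx hy => rw [mul_assoc, hy, ← mul_assoc, hx, mul_assoc]
  | add x y hx hy => rw [add_mul, mul_add, hx, hy]

end OddCentral


section OddEven

variable (R : Type u) [CommRing R]

/-- `-hypSum ≅ hypSum`. -/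
noncomputable def negHypSumIso (m : ℕ) : (-(hypSum R m)).IsometryEquiv (hypSum R m) where
  toLinearEquiv := LinearEquiv.piCongrRight
    (fun _ => LinearEquiv.prodCongr (LinearEquiv.refl R R) (LinearEquiv.neg R))
  map_app' := fun x => by
    rw [QuadraticMap.neg_apply, hypSum_apply, hypSum_apply, ← Finset.sum_neg_distrib]
    refine Finset.sum_congr rfl fun i _ => ?_
    simp

/-- `C₀(hypSum m ⊥ ⟨1⟩) ≃ M_{2^m}(R)`. -/
theorem nonempty_even_addOne_hypSum_equiv (m : ℕ) :
    Nonempty (↥(CliffordAlgebra.even (addOne (hypSum R m))) ≃ₐ[R]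
      Matrix (Fin (2 ^ m)) (Fin (2 ^ m)) R) := by
  obtain ⟨D⟩ := nonempty_splitData_hypSum R m
  let P := CliffordAlgebra.EquivEven.Q' (-(hypSum R m))
  let g : (-P).IsometryEquiv (addOne (hypSum R m)) :=
    { toLinearEquiv := LinearEquiv.refl _ _
      map_app' := fun p => by
        change addOne (hypSum R m) p = -(P p)
        rw [CliffordAlgebra.EquivEven.Q'_apply, addOne_apply, QuadraticMap.neg_apply]
        ring }
  exact ⟨(evenEquivOfIsometry g).symm.trans ((evenEquivEvenNeg P).symm.trans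
    ((equivEven _).symm.trans ((equivOfIsometry (negHypSumIso R m)).trans D.e)))⟩

end OddEven

section Transport

variable {R : Type u} [CommRing R] {M : Type v} [AddCommGroup M] [Module R M]
  {M' : Type*} [AddCommGroup M'] [Module R M']

/-- A form isometric to `Q₀ ⊥ ⟨1⟩`, where `Q₀` has a parity idempotent, has an odd central
element of square one. -/
theorem exists_odd_central_of_isometry {Q₀ : QuadraticForm R M} {ε : CliffordAlgebra Q₀}
    (hε : IsParityIdem Q₀ ε) (Q' : QuadraticForm R M') (f : (addOne Q₀).IsometryEquiv Q') :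
    ∃ z : CliffordAlgebra Q', z ∈ evenOdd Q' 1 ∧ z ∈ Subalgebra.center R (CliffordAlgebra Q') ∧
      z * z = 1 := by
  refine ⟨equivOfIsometry f (oddCentral ε), ?_, ?_, ?_⟩
  · exact map_mem_evenOdd f.toIsometry 1 _ (oddCentral_mem hε)
  · rw [Subalgebra.mem_center_iff]
    intro b
    obtain ⟨c, rfl⟩ := (equivOfIsometry f).surjective b
    rw [← map_mul, ← map_mul]
    congr 1
    exact (Subalgebra.mem_center_iff.mp (oddCentral_mem_center hε)) c
  · rw [← map_mul, oddCentral_mul_self hε, map_one]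

end Transport

end Groth.Agent.Lib.Helper25.Cliff
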