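import Mathlib
import Groth.Agent.Lib.Helper25CliffH
import Groth.Agent.Lib.Helper25CliffE
import Groth.Agent.Lib.Helper19QSplitL

/-!
# fppf-local splitting of non-degenerate quadratic forms, in the form needed for Clifford algebras
(helper25; built on helper19's `QSplit` library)
-/

set_option autoImplicit false
set_option linter.unusedSectionVars false
set_option linter.style.haveILetI false
universe u v

namespace Groth.Agent.Lib.Helper25.Cliff

open CliffordAlgebra TensorProduct QuadGrp Matrix
open Groth.Agent.Lib.Helper19QSplit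

section Mat

variable {R : Type u} [CommRing R] {M : Type v} [AddCommGroup M] [Module R M] [Module.Free R M]
  {ι : Type*} [Fintype ι] [DecidableEq ι] (b : Module.Basis ι R M) (Q : QuadraticForm R M)

/-- the matrix of a bilinear lift of `Q` in the basis `b`. -/
noncomputable def bmat : Matrix ι ι R := Matrix.of fun i j => bilinLift Q (b i) (b j)

theorem bmat_diag (i : ι) : bmat b Q i i = Q (b i) := by
  have := bilinLift_spec Q
  conv_rhs => rw [← this]
  rfl

theorem bmat_add_swap (i j : ι) : bmat b Q i j + bmat b Q j i = QuadraticMap.polar Q (b i) (b j) := by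
  have := bilinLift_spec Q
  conv_rhs => rw [← this]
  rw [LinearMap.BilinMap.polar_toQuadraticMap]
  rfl

variable (A : Type*) [CommRing A] [Algebra R A]

theorem baseChangeForm_eq_qf_bmat (z : A ⊗[R] M) :
    baseChangeForm A Q z =
      qf ((bmat b Q).map (algebraMap R A)) ((Algebra.TensorProduct.basis A b).equivFun z) := by
  classical
  letI : LinearOrder ι := LinearOrder.lift' (Fintype.equivFin ι) (Equiv.injective _)
  set bA := Algebra.TensorProduct.basis A b with hbA
  have hsingle : ∀ i, bA.equivFun (bA i) = Pi.single i 1 := by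
    intro i
    funext j
    rw [Module.Basis.equivFun_self]
    simp [Pi.single_apply, eq_comm]
  have key : baseChangeForm A Q =
      (qfForm ((bmat b Q).map (algebraMap R A))).comp bA.equivFun.toLinearMap := by
    refine quadraticMap_ext_of_basis bA (fun i => ?_) (fun i j => ?_)
    · rw [QuadraticMap.comp_apply]
      change _ = qfForm _ (bA.equivFun (bA i))
      rw [hsingle, hbA, Algebra.TensorProduct.basis_apply,
        HalfDisc.baseChangeForm_one_tmul, qfForm_apply]
      rw [qf_single, Matrix.map_apply, bmat_diag]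
    · have hpol : QuadraticMap.polar
          ((qfForm ((bmat b Q).map (algebraMap R A))).comp bA.equivFun.toLinearMap) (bA i) (bA j) =
          QuadraticMap.polar (qfForm ((bmat b Q).map (algebraMap R A)))
            (bA.equivFun (bA i)) (bA.equivFun (bA j)) := by
        unfold QuadraticMap.polar
        rw [QuadraticMap.comp_apply, QuadraticMap.comp_apply, QuadraticMap.comp_apply]
        simp only [LinearEquiv.coe_coe, map_add]
      rw [hpol, hsingle, hsingle, hbA,
        Algebra.TensorProduct.basis_apply, Algebra.TensorProduct.basis_apply,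
        HalfDisc.polar_baseChangeForm, polar_qfForm]
      rw [pol_single, Matrix.map_apply, Matrix.map_apply, ← map_add, bmat_add_swap]
  rw [key]
  rfl

/-- From an invertible matrix diagonalising the form to an isometry. -/
theorem nonempty_isometryEquiv_of_matrix {N : Type*} [AddCommGroup N] [Module A N]
    (Q'' : QuadraticForm A N) (g : Matrix ι ι A) (hg : IsUnit g.det)
    (ψ : (ι → A) ≃ₗ[A] N)
    (h : ∀ x : ι → A, Q'' (ψ x) = qf ((bmat b Q).map (algebraMap R A)) (g *ᵥ x)) :
    Nonempty ((baseChangeForm A Q).IsometryEquiv Q'') := by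
  classical
  letI : Invertible g := Matrix.invertibleOfIsUnitDet g hg
  let ge : (ι → A) ≃ₗ[A] (ι → A) := Matrix.toLinearEquiv' g ‹_›
  have hge : ∀ x, ge x = g *ᵥ x := fun x => by
    change Matrix.toLin' g x = _
    rw [Matrix.toLin'_apply]
  let φ := (Algebra.TensorProduct.basis A b).equivFun
  refine ⟨{ (φ.trans (ge.symm.trans ψ)) with map_app' := fun z => ?_ }⟩
  change Q'' (ψ (ge.symm (φ z))) = baseChangeForm A Q z
  rw [h, ← hge, LinearEquiv.apply_symm_apply, baseChangeForm_eq_qf_bmat b Q A z]

end Mat


section Even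

variable {R : Type u} [CommRing R] {M : Type v} [AddCommGroup M] [Module R M] [Module.Free R M]
  [Module.Finite R M]

theorem isUnit_det_bmat_add_transpose {ι : Type*} [Fintype ι] [DecidableEq ι]
    (b : Module.Basis ι R M) (Q : QuadraticForm R M)
    (hQ : Function.Bijective (QuadraticMap.polarBilin Q)) :
    IsUnit (bmat b Q + (bmat b Q)ᵀ).det := by
  let L : M ≃ₗ[R] Module.Dual R M := LinearEquiv.ofBijective (QuadraticMap.polarBilin Q) hQ
  have h : bmat b Q + (bmat b Q)ᵀ = LinearMap.toMatrix b b.dualBasis L.toLinearMap := by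
    ext i j
    rw [Matrix.add_apply, Matrix.transpose_apply, bmat_add_swap, LinearMap.toMatrix_apply,
      Module.Basis.dualBasis_repr]
    change _ = QuadraticMap.polar Q (b j) (b i)
    rw [QuadraticMap.polar_comm]
  rw [h]
  exact LinearEquiv.isUnit_det L b b.dualBasis

/-- coordinates `(Fin m ⊕ Fin m → A) ≃ (Fin m → A × A)`. -/
noncomputable def pairEquiv (A : Type*) [CommRing A] (m : ℕ) :
    ((Fin m ⊕ Fin m) → A) ≃ₗ[A] (Fin m → A × A) where
  toFun x := fun l => (x (Sum.inl l), x (Sum.inr l))
  invFun y := Sum.elim (fun l => (y l).1) (fun l => (y l).2)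
  map_add' x y := rfl
  map_smul' a x := rfl
  left_inv x := by funext j; rcases j with j | j <;> rfl
  right_inv y := rfl

theorem exists_etale_cover_hypSys {ι : Type*} [Fintype ι] [DecidableEq ι]
    (U : Matrix ι ι R) (hdet : IsUnit (U + Uᵀ).det) (m : ℕ) (hm : 2 * m ≤ Fintype.card ι) :
    ∃ (B : Type u) (_ : CommRing B) (_ : Algebra R B), Algebra.Etale R B ∧
      Function.Surjective (PrimeSpectrum.comap (algebraMap R B)) ∧
      Nonempty (HypSys (U.map (algebraMap R B)) m) := by
  obtain ⟨n, B, iR, iA, hE, hcov, hPr⟩ := exists_finite_etale_cover (A := R)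
    (fun B _ _ => Nonempty (HypSys (U.map (algebraMap R B)) m))
    (fun p => by
      obtain ⟨B, iR, iA, hE, hq, hD⟩ := exists_etale_hypSys U hdet m hm p.asIdeal
      exact ⟨B, iR, iA, hE, hq, hD⟩)
  refine ⟨∀ t, B t, inferInstance, inferInstance, inferInstance, fun p => ?_, ?_⟩
  · obtain ⟨t, q, hq⟩ := hcov p
    refine ⟨PrimeSpectrum.comap (Pi.evalRingHom B t) q, PrimeSpectrum.ext ?_⟩
    rw [PrimeSpectrum.comap_asIdeal, PrimeSpectrum.comap_asIdeal, Ideal.comap_comap]
    exact hq
  · have e : ∀ t, (U.map (algebraMap R (∀ t, B t))).map (Pi.evalRingHom B t) =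
        U.map (algebraMap R (B t)) := fun t => by
      ext i j; rfl
    exact ⟨HypSys.pi fun t => (e t).symm ▸ (hPr t).some⟩

/-- **fppf-local (indeed étale-local) splitting in even rank.** -/
theorem exists_fppf_isometry_hypSum (m : ℕ) (hV : Module.finrank R M = 2 * m)
    (Q : QuadraticForm R M) (hQ : Function.Bijective (QuadraticMap.polarBilin Q)) :
    ∃ (A : Type u) (_ : CommRing A) (_ : Algebra R A), Module.FaithfullyFlat R A ∧
      Algebra.FinitePresentation R A ∧
      Nonempty ((baseChangeForm A Q).IsometryEquiv (hypSum A m)) := by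
  classical
  rcases subsingleton_or_nontrivial R with hR | hR
  · refine ⟨R, inferInstance, inferInstance, inferInstance, inferInstance, ⟨?_⟩⟩
    haveI : Subsingleton (R ⊗[R] M) := Module.subsingleton R _
    haveI : Subsingleton (Fin m → R × R) := Module.subsingleton R _
    exact
      { (0 : (R ⊗[R] M) ≃ₗ[R] (Fin m → R × R)) with
        map_app' := fun x => Subsingleton.elim _ _ }
  · let b : Module.Basis (Fin m ⊕ Fin m) R M :=
      (Module.finBasisOfFinrankEq R M hV).reindex
        ((finCongr (two_mul m)).trans finSumFinEquiv.symm)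
    have hdet := isUnit_det_bmat_add_transpose b Q hQ
    obtain ⟨B, _, _, hE, hsurj, ⟨H⟩⟩ := exists_etale_cover_hypSys (bmat b Q) hdet m (by simp; omega)
    have hflat : Module.Flat R B := Algebra.Smooth.flat R B
    have hff : Module.FaithfullyFlat R B := Module.FaithfullyFlat.of_comap_surjective hsurj
    refine ⟨B, inferInstance, inferInstance, hff, inferInstance, ?_⟩
    refine nonempty_isometryEquiv_of_matrix b Q B (hypSum B m) H.toMatrix
      H.isUnit_det_toMatrix (pairEquiv B m) (fun x => ?_)
    rw [H.qf_toMatrix_mulVec, hypSum_apply]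
    rfl

end Even


section Odd

variable {R : Type u} [CommRing R] {M : Type v} [AddCommGroup M] [Module R M] [Module.Free R M]

/-- coordinates `(Option (Fin m ⊕ Fin m) → A) ≃ (Fin m → A × A) × A`. -/
noncomputable def optEquiv (A : Type*) [CommRing A] (m : ℕ) :
    (Option (Fin m ⊕ Fin m) → A) ≃ₗ[A] ((Fin m → A × A) × A) where
  toFun x := (fun l => (x (some (Sum.inl l)), x (some (Sum.inr l))), x none)
  invFun y := fun k => match k with
    | none => y.2
    | some (Sum.inl l) => (y.1 l).1
    | some (Sum.inr l) => (y.1 l).2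
  map_add' x y := rfl
  map_smul' a x := rfl
  left_inv x := by
    funext k
    rcases k with _ | k | k <;> rfl
  right_inv y := rfl

/-- coordinates `(Fin (2m+1) → A) ≃ (Fin m → A × A) × A` along helper19's `sigma`. -/
noncomputable def oddCoordEquiv (A : Type*) [CommRing A] (m : ℕ) :
    (Fin (2 * m + 1) → A) ≃ₗ[A] ((Fin m → A × A) × A) :=
  (LinearEquiv.funCongrLeft A A (sigma m)).trans (optEquiv A m)

theorem oddCoordEquiv_apply (A : Type*) [CommRing A] (m : ℕ) (x : Fin (2 * m + 1) → A) :
    oddCoordEquiv A m x =
      (fun l => (x (sigma m (some (Sum.inl l))), x (sigma m (some (Sum.inr l)))),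
        x (sigma m none)) := rfl

theorem halfDisc_qfForm_bmat {n : ℕ} (b : Module.Basis (Fin n) R M) (Q : QuadraticForm R M) :
    halfDisc (Pi.basisFun R (Fin n)) (LinearEquiv.refl R R) (qfForm (bmat b Q)) =
      halfDisc b (LinearEquiv.refl R R) Q := by
  unfold halfDisc
  congr 1
  funext p
  induction p using Sym2.ind with
  | _ i j =>
    rw [coeffs_qfForm, coeffs_mk]
    simp only [LinearEquiv.refl_apply]
    split_ifs
    · exact bmat_diag b Q i
    · exact bmat_add_swap b Q i j

/-- **fppf-local splitting in odd rank.** -/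
theorem exists_fppf_isometry_addOne_hypSum (m : ℕ) (b : Module.Basis (Fin (2 * m + 1)) R M)
    (Q : QuadraticForm R M) (hQ : QuadGrp.IsSemiregular b (LinearEquiv.refl R R) Q) :
    ∃ (A : Type u) (_ : CommRing A) (_ : Algebra R A), Module.FaithfullyFlat R A ∧
      Algebra.FinitePresentation R A ∧
      Nonempty ((baseChangeForm A Q).IsometryEquiv (addOne (hypSum A m))) := by
  classical
  rcases subsingleton_or_nontrivial R with hR | hR
  · refine ⟨R, inferInstance, inferInstance, inferInstance, inferInstance, ⟨?_⟩⟩
    haveI : Subsingleton (R ⊗[R] M) := Module.subsingleton R _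
    haveI : Subsingleton ((Fin m → R × R) × R) := Module.subsingleton R _
    exact
      { (0 : (R ⊗[R] M) ≃ₗ[R] ((Fin m → R × R) × R)) with
        map_app' := fun x => Subsingleton.elim _ _ }
  · have hU : IsUnit (halfDisc (Pi.basisFun R (Fin (2 * m + 1))) (LinearEquiv.refl R R)
        (qfForm (bmat b Q))) := by
      rw [halfDisc_qfForm_bmat]; exact hQ
    obtain ⟨A, _, _, hff, hfp, D, hD⟩ := exists_fppf_oddSplit (bmat b Q)
      (fun K _ φ => nondegenerate_of_isUnit_halfDisc (bmat b Q) hU φ) m (by simp)
    obtain ⟨g, hg, hgx⟩ := D.exists_matrix (sigma m)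
    refine ⟨A, inferInstance, inferInstance, hff, hfp, ?_⟩
    refine nonempty_isometryEquiv_of_matrix b Q A (addOne (hypSum A m)) g hg
      (oddCoordEquiv A m) (fun x => ?_)
    rw [hgx, hD, mul_one, addOne_apply, hypSum_apply, oddCoordEquiv_apply]
    rw [sq, add_comm]

end Odd

end Groth.Agent.Lib.Helper25.Cliff
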