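import Groth.Agent.Lib.Helper25CliffE
import Groth.Agent.Lib.Helper25CliffD

/-!
# Base change of the even Clifford algebra (helper25)

`bcEven A Q : A ⊗[R] C₀(Q) ≃ₐ[A] C₀(Q_A)` for a quadratic form on a free module.
-/

set_option autoImplicit false
set_option linter.unusedSectionVars false
set_option linter.style.haveILetI false
universe u v u'

namespace Groth.Agent.Lib.Helper25.Cliff

open CliffordAlgebra TensorProduct QuadGrp

variable {R : Type u} [CommRing R] {M : Type v} [AddCommGroup M] [Module R M] [Module.Free R M]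
  (A : Type u') [CommRing A] [Algebra R A] (Q : QuadraticForm R M)

theorem ofBCAux_mem_evenOdd (i : ZMod 2) (x : CliffordAlgebra Q) (hx : x ∈ evenOdd Q i) :
    ofBCAux A Q x ∈ evenOdd (baseChangeForm A Q) i := by
  have := map_mem_of_mem_evenOdd Q
    (fun j => (evenOdd (baseChangeForm A Q) j).restrictScalars R)
    (SetLike.one_mem_graded (evenOdd (baseChangeForm A Q)))
    (fun i j x y hx hy => SetLike.mul_mem_graded (A := evenOdd (baseChangeForm A Q)) hx hy)
    (ofBCAux A Q) (fun v => by
      rw [ofBCAux_ι]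
      exact ι_mem_evenOdd_one _ _) i x hx
  exact this

theorem bcEquiv_tmul_mem_evenOdd (i : ZMod 2) (a : A) (x : CliffordAlgebra Q)
    (hx : x ∈ evenOdd Q i) : bcEquiv A Q (a ⊗ₜ x) ∈ evenOdd (baseChangeForm A Q) i := by
  rw [bcEquiv_tmul]
  exact Submodule.smul_mem _ _ (ofBCAux_mem_evenOdd A Q i x hx)

/-- Elements of `A ⊗ (evenOdd Q i)` go to `evenOdd Q_A i`. -/
theorem bcEquiv_baseChange_mem_evenOdd (i : ZMod 2) (t : A ⊗[R] ↥(evenOdd Q i)) :
    bcEquiv A Q ((evenOdd Q i).subtype.baseChange A t) ∈ evenOdd (baseChangeForm A Q) i := by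
  induction t using TensorProduct.induction_on with
  | zero => rw [map_zero, map_zero]; exact Submodule.zero_mem _
  | tmul a u =>
    rw [LinearMap.baseChange_tmul]
    exact bcEquiv_tmul_mem_evenOdd A Q i a u.1 u.2
  | add x y hx hy =>
    rw [map_add, map_add]
    exact Submodule.add_mem _ hx hy

/-- The projection onto `evenOdd Q i` along the other part. -/
noncomputable def eoProj (i : ZMod 2) : CliffordAlgebra Q →ₗ[R] ↥(evenOdd Q i) :=
  if h : i = 0 then
    h ▸ Submodule.linearProjOfIsCompl (evenOdd Q 0) (evenOdd Q 1) (evenOdd_isCompl Q)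
  else
    have h1 : i = 1 := by
      fin_cases i
      · exact absurd rfl h
      · rfl
    h1 ▸ Submodule.linearProjOfIsCompl (evenOdd Q 1) (evenOdd Q 0) (evenOdd_isCompl Q).symm

theorem eoProj_zero_add_one (x : CliffordAlgebra Q) :
    ((eoProj Q 0 x : CliffordAlgebra Q)) + (eoProj Q 1 x : CliffordAlgebra Q) = x := by
  have h0 : eoProj Q 0 = Submodule.linearProjOfIsCompl (evenOdd Q 0) (evenOdd Q 1)
      (evenOdd_isCompl Q) := by
    rw [eoProj, dif_pos rfl]
  have h1 : eoProj Q 1 = Submodule.linearProjOfIsCompl (evenOdd Q 1) (evenOdd Q 0)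
      (evenOdd_isCompl Q).symm := by
    rw [eoProj, dif_neg (by decide)]
  rw [h0, h1]
  exact Submodule.IsCompl.projection_add_projection_eq_self (evenOdd_isCompl Q) x

theorem eoProj_apply_mem (i : ZMod 2) (u : ↥(evenOdd Q i)) : eoProj Q i u.1 = u := by
  fin_cases i
  · have h0 : eoProj Q 0 = Submodule.linearProjOfIsCompl (evenOdd Q 0) (evenOdd Q 1)
        (evenOdd_isCompl Q) := by
      rw [eoProj, dif_pos rfl]
    change eoProj Q 0 u.1 = u
    rw [h0]
    exact Submodule.linearProjOfIsCompl_apply_left _ u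
  · have h1 : eoProj Q 1 = Submodule.linearProjOfIsCompl (evenOdd Q 1) (evenOdd Q 0)
        (evenOdd_isCompl Q).symm := by
      rw [eoProj, dif_neg (by decide)]
    change eoProj Q 1 u.1 = u
    rw [h1]
    exact Submodule.linearProjOfIsCompl_apply_left _ u


/-- The projection onto the even subalgebra. -/
noncomputable def evenProj : CliffordAlgebra Q →ₗ[R] ↥(even Q) where
  toFun x := ⟨(eoProj Q 0 x).1, (eoProj Q 0 x).2⟩
  map_add' x y := by
    apply Subtype.ext
    change ((eoProj Q 0 (x + y) : ↥(evenOdd Q 0)) : CliffordAlgebra Q) =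
      (eoProj Q 0 x).1 + (eoProj Q 0 y).1
    rw [map_add]; rfl
  map_smul' r x := by
    apply Subtype.ext
    change ((eoProj Q 0 (r • x) : ↥(evenOdd Q 0)) : CliffordAlgebra Q) =
      r • (eoProj Q 0 x).1
    rw [map_smul]; rfl

theorem evenProj_coe (x : CliffordAlgebra Q) :
    ((evenProj Q x : ↥(even Q)) : CliffordAlgebra Q) = (eoProj Q 0 x : CliffordAlgebra Q) := rfl

theorem evenProj_apply_mem (u : ↥(even Q)) : evenProj Q u.1 = u := by
  apply Subtype.ext
  rw [evenProj_coe]
  have := eoProj_apply_mem Q 0 ⟨u.1, u.2⟩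
  rw [this]

/-- The decomposition of `A ⊗ C(Q)` into base-changed even and odd parts. -/
theorem baseChange_eoProj_add (t : A ⊗[R] CliffordAlgebra Q) :
    (even Q).val.toLinearMap.baseChange A ((evenProj Q).baseChange A t) +
      (evenOdd Q 1).subtype.baseChange A ((eoProj Q 1).baseChange A t) = t := by
  induction t using TensorProduct.induction_on with
  | zero => simp
  | tmul a x =>
    simp only [LinearMap.baseChange_tmul, Submodule.subtype_apply, AlgHom.toLinearMap_apply,
      Subalgebra.coe_val]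
    rw [← TensorProduct.tmul_add, evenProj_coe, eoProj_zero_add_one]
  | add x y hx hy =>
    simp only [map_add] at hx hy ⊢
    rw [add_add_add_comm, hx, hy]

/-- The algebra map `C₀(Q) → C₀(Q_A)`. -/
noncomputable def evenBCAux : ↥(even Q) →ₐ[R] ↥(even (baseChangeForm A Q)) :=
  ((ofBCAux A Q).comp (even Q).val).codRestrict ((even (baseChangeForm A Q)).restrictScalars R)
    (fun u => ofBCAux_mem_evenOdd A Q 0 u.1 u.2)

@[simp] theorem evenBCAux_coe (u : ↥(even Q)) :
    ((evenBCAux A Q u : ↥(even (baseChangeForm A Q))) : CliffordAlgebra (baseChangeForm A Q)) =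
      ofBCAux A Q u.1 := rfl

/-- `A ⊗ C₀(Q) → C₀(Q_A)`. -/
noncomputable def evenBC : A ⊗[R] ↥(even Q) →ₐ[A] ↥(even (baseChangeForm A Q)) :=
  Algebra.TensorProduct.lift (Algebra.ofId _ _) (evenBCAux A Q) fun _ _ => Algebra.commutes _ _

theorem evenBC_tmul (a : A) (u : ↥(even Q)) :
    evenBC A Q (a ⊗ₜ u) = a • evenBCAux A Q u := by
  change algebraMap _ _ a * evenBCAux A Q u = _
  rw [Algebra.smul_def]

theorem evenBC_coe (t : A ⊗[R] ↥(even Q)) :
    ((evenBC A Q t : ↥(even (baseChangeForm A Q))) : CliffordAlgebra (baseChangeForm A Q)) =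
      bcEquiv A Q ((even Q).val.toLinearMap.baseChange A t) := by
  induction t using TensorProduct.induction_on with
  | zero => simp
  | tmul a u =>
    rw [evenBC_tmul, LinearMap.baseChange_tmul, bcEquiv_tmul]
    rfl
  | add x y hx hy =>
    rw [map_add, map_add, map_add, ← hx, ← hy]
    rfl

theorem evenBC_bijective : Function.Bijective (evenBC A Q) := by
  constructor
  · rw [injective_iff_map_eq_zero]
    intro t ht
    have h1 : bcEquiv A Q ((even Q).val.toLinearMap.baseChange A t) = 0 := by
      rw [← evenBC_coe, ht]; rfl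
    have h2 : (even Q).val.toLinearMap.baseChange A t = 0 := by
      simpa using h1
    have h3 : (evenProj Q).baseChange A ((even Q).val.toLinearMap.baseChange A t) = t := by
      rw [← LinearMap.comp_apply, ← LinearMap.baseChange_comp]
      have : evenProj Q ∘ₗ (even Q).val.toLinearMap = LinearMap.id := by
        ext u
        simp only [LinearMap.comp_apply, AlgHom.toLinearMap_apply, Subalgebra.coe_val,
          LinearMap.id_apply]
        rw [evenProj_apply_mem]
      rw [this, LinearMap.baseChange_id, LinearMap.id_apply]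
    rw [← h3, h2, map_zero]
  · intro y
    obtain ⟨t, ht⟩ := (bcEquiv A Q).surjective y.1
    set t0 := (evenProj Q).baseChange A t with ht0
    set t1 := (eoProj Q 1).baseChange A t with ht1
    have hsum := baseChange_eoProj_add A Q t
    rw [← ht0, ← ht1] at hsum
    have hodd : bcEquiv A Q ((evenOdd Q 1).subtype.baseChange A t1) ∈
        evenOdd (baseChangeForm A Q) 1 := bcEquiv_baseChange_mem_evenOdd A Q 1 t1
    have heven : bcEquiv A Q ((even Q).val.toLinearMap.baseChange A t0) ∈
        evenOdd (baseChangeForm A Q) 0 := by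
      rw [← evenBC_coe]
      exact (evenBC A Q t0).2
    have hy : bcEquiv A Q ((evenOdd Q 1).subtype.baseChange A t1) =
        y.1 - bcEquiv A Q ((even Q).val.toLinearMap.baseChange A t0) := by
      rw [← ht, ← map_sub, ← hsum, add_sub_cancel_left]
    have hodd0 : bcEquiv A Q ((evenOdd Q 1).subtype.baseChange A t1) ∈
        evenOdd (baseChangeForm A Q) 0 := by
      rw [hy]
      exact Submodule.sub_mem _ y.2 heven
    have hz : bcEquiv A Q ((evenOdd Q 1).subtype.baseChange A t1) = 0 := by
      have hdisj := (evenOdd_isCompl (baseChangeForm A Q)).disjoint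
      exact (Submodule.disjoint_def.mp hdisj) _ hodd0 hodd
    refine ⟨t0, Subtype.ext ?_⟩
    rw [evenBC_coe]
    rw [hz] at hy
    exact (sub_eq_zero.mp hy.symm).symm

/-- Base change of the even Clifford algebra. -/
noncomputable def bcEven : A ⊗[R] ↥(even Q) ≃ₐ[A] ↥(even (baseChangeForm A Q)) :=
  AlgEquiv.ofBijective (evenBC A Q) (evenBC_bijective A Q)

theorem bcEven_apply (t : A ⊗[R] ↥(even Q)) : bcEven A Q t = evenBC A Q t := rfl

theorem bcEven_tmul_coe (a : A) (u : ↥(even Q)) :
    (bcEven A Q (a ⊗ₜ u)).1 = a • ofBCAux A Q u.1 := by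
  rw [bcEven_apply, evenBC_tmul]
  rfl

theorem bcEven_coe (t : A ⊗[R] ↥(even Q)) :
    (bcEven A Q t).1 = bcEquiv A Q ((even Q).val.toLinearMap.baseChange A t) :=
  evenBC_coe A Q t

end Groth.Agent.Lib.Helper25.Cliff
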