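import Mathlib
import Groth.Agent.Lib.Helper25CliffF
import Groth.Agent.Lib.Helper25CliffG

/-!
# Descent helpers for Clifford algebras (helper25)
-/

set_option autoImplicit false
set_option linter.unusedSectionVars false
set_option linter.style.haveILetI false
universe u v u'

namespace Groth.Agent.Lib.Helper25.Cliff

open CliffordAlgebra TensorProduct QuadGrp

variable {R : Type u} [CommRing R] {M : Type v} [AddCommGroup M] [Module R M] [Module.Free R M]
  (A : Type u') [CommRing A] [Algebra R A] (Q : QuadraticForm R M)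

theorem ofBCAux_injective [Module.FaithfullyFlat R A] : Function.Injective (ofBCAux A Q) := by
  rw [injective_iff_map_eq_zero]
  intro x hx
  rw [← bcEquiv_one_tmul, EmbeddingLike.map_eq_zero_iff] at hx
  exact (Module.FaithfullyFlat.one_tmul_eq_zero_iff R _ x).mp hx

theorem ofBCAux_span_induction {P : CliffordAlgebra (baseChangeForm A Q) → Prop}
    (h : ∀ (a : A) (x : CliffordAlgebra Q), P (a • ofBCAux A Q x))
    (hadd : ∀ y y', P y → P y' → P (y + y')) (y : CliffordAlgebra (baseChangeForm A Q)) : P y := by
  obtain ⟨t, rfl⟩ := (bcEquiv A Q).surjective y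
  induction t using TensorProduct.induction_on with
  | zero =>
    have := h 0 0
    rwa [zero_smul, ← map_zero (bcEquiv A Q)] at this
  | tmul a x => rw [bcEquiv_tmul]; exact h a x
  | add x y hx hy => rw [map_add]; exact hadd _ _ hx hy

theorem ofBCAux_mem_center {z : CliffordAlgebra Q}
    (hz : z ∈ Subalgebra.center R (CliffordAlgebra Q)) :
    ofBCAux A Q z ∈ Subalgebra.center A (CliffordAlgebra (baseChangeForm A Q)) := by
  rw [Subalgebra.mem_center_iff] at hz ⊢
  intro y
  induction y using ofBCAux_span_induction A Q with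
  | h a x =>
    rw [smul_mul_assoc, mul_smul_comm, ← map_mul, ← map_mul, hz x]
  | hadd y y' hy hy' => rw [add_mul, mul_add, hy, hy']

/-- If `x` commutes with a submodule `P`, then `ofBCAux x` commutes with the image of
`P.baseChange A`. -/
theorem commute_bcEquiv_of_mem_baseChange (P : Submodule R (CliffordAlgebra Q))
    (x : CliffordAlgebra Q) (hx : ∀ p ∈ P, x * p = p * x) (t : A ⊗[R] CliffordAlgebra Q)
    (ht : t ∈ P.baseChange A) :
    ofBCAux A Q x * bcEquiv A Q t = bcEquiv A Q t * ofBCAux A Q x := by
  obtain ⟨s, rfl⟩ := ht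
  induction s using TensorProduct.induction_on with
  | zero => simp
  | tmul a p =>
    rw [LinearMap.baseChange_tmul, bcEquiv_tmul, Submodule.subtype_apply, mul_smul_comm,
      smul_mul_assoc, ← map_mul, ← map_mul, hx p.1 p.2]
  | add s s' hs hs' => rw [map_add, map_add, mul_add, add_mul, hs, hs']

theorem symm_mem_baseChange_center [Module.Finite R M] [Module.Flat R A]
    (y : CliffordAlgebra (baseChangeForm A Q))
    (hy : y ∈ Subalgebra.center A (CliffordAlgebra (baseChangeForm A Q))) :
    (bcEquiv A Q).symm y ∈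
      (Subalgebra.toSubmodule (Subalgebra.center R (CliffordAlgebra Q))).baseChange A := by
  apply mem_baseChange_center
  rw [Subalgebra.mem_center_iff] at hy ⊢
  intro t
  apply (bcEquiv A Q).injective
  rw [map_mul, map_mul, AlgEquiv.apply_symm_apply, hy]

instance instFiniteEven [Module.Finite R M] : Module.Finite R ↥(CliffordAlgebra.even Q) :=
  Module.Finite.of_surjective (evenProj Q) (fun u => ⟨u.1, evenProj_apply_mem Q u⟩)

theorem even_symm_mem_baseChange_center [Module.Finite R M] [Module.Flat R A]
    (y : ↥(CliffordAlgebra.even (baseChangeForm A Q)))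
    (hy : y ∈ Subalgebra.center A ↥(CliffordAlgebra.even (baseChangeForm A Q))) :
    (bcEven A Q).symm y ∈
      (Subalgebra.toSubmodule (Subalgebra.center R ↥(CliffordAlgebra.even Q))).baseChange A := by
  apply mem_baseChange_center
  rw [Subalgebra.mem_center_iff] at hy ⊢
  intro t
  apply (bcEven A Q).injective
  rw [map_mul, map_mul, AlgEquiv.apply_symm_apply, hy]

/-- If `x` commutes with the image of a submodule `P` of the even part, then `ofBCAux x` commutes
with the image of `P.baseChange A` under `bcEven`. -/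
theorem commute_bcEven_of_mem_baseChange (P : Submodule R ↥(CliffordAlgebra.even Q))
    (x : CliffordAlgebra Q) (hx : ∀ p ∈ P, x * p.1 = p.1 * x)
    (t : A ⊗[R] ↥(CliffordAlgebra.even Q)) (ht : t ∈ P.baseChange A) :
    ofBCAux A Q x * (bcEven A Q t).1 = (bcEven A Q t).1 * ofBCAux A Q x := by
  obtain ⟨s, rfl⟩ := ht
  induction s using TensorProduct.induction_on with
  | zero => simp
  | tmul a p =>
    rw [LinearMap.baseChange_tmul, bcEven_tmul_coe, Submodule.subtype_apply, mul_smul_comm,
      smul_mul_assoc, ← map_mul, ← map_mul, hx p.1 p.2]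
  | add s s' hs hs' =>
    rw [map_add, map_add]
    change ofBCAux A Q x * ((bcEven A Q _).1 + (bcEven A Q _).1) =
      ((bcEven A Q _).1 + (bcEven A Q _).1) * ofBCAux A Q x
    rw [mul_add, add_mul, hs, hs']

theorem mem_bot_of_ofBCAux_mem_bot [Module.FaithfullyFlat R A] (z : CliffordAlgebra Q)
    (h : ofBCAux A Q z ∈ (⊥ : Subalgebra A (CliffordAlgebra (baseChangeForm A Q)))) :
    z ∈ (⊥ : Subalgebra R (CliffordAlgebra Q)) := by
  rw [Algebra.mem_bot] at h
  obtain ⟨a, ha⟩ := h
  have h1 : (1 : A) ⊗ₜ[R] z = a ⊗ₜ[R] (1 : CliffordAlgebra Q) := by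
    apply (bcEquiv A Q).injective
    rw [bcEquiv_one_tmul, ← ha, bcEquiv_tmul, map_one, Algebra.algebraMap_eq_smul_one]
  have h2 : z ∈ Subalgebra.toSubmodule (⊥ : Subalgebra R (CliffordAlgebra Q)) := by
    apply mem_of_one_tmul_mem_baseChange A
    rw [h1]
    exact Submodule.tmul_mem_baseChange_of_mem a (Subalgebra.one_mem _)
  exact h2

end Groth.Agent.Lib.Helper25.Cliff
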