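import Mathlib
import Groth.Agent.Lib.Helper25CliffJ

/-!
# The centre of a Clifford algebra is graded; the multiplication map `Z(C) ⊗ C₀ → C` (helper25)
-/

set_option autoImplicit false
set_option linter.unusedSectionVars false
set_option linter.style.haveILetI false
universe u v u'

namespace Groth.Agent.Lib.Helper25.Cliff

open CliffordAlgebra TensorProduct QuadGrp

section Graded

variable {R : Type u} [CommRing R] {M : Type v} [AddCommGroup M] [Module R M] [Module.Free R M]
  (Q : QuadraticForm R M)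

theorem eq_zero_of_mem_even_of_mem_odd {x : CliffordAlgebra Q} (h0 : x ∈ evenOdd Q 0)
    (h1 : x ∈ evenOdd Q 1) : x = 0 :=
  (Submodule.disjoint_def.mp (evenOdd_isCompl Q).disjoint) x h0 h1

theorem eq_zero_of_mem_even_of_mem_odd' {Q' : QuadraticForm R M} {x : CliffordAlgebra Q'}
    (h0 : x ∈ evenOdd Q' 0) (h1 : x ∈ evenOdd Q' 1) : x = 0 :=
  (Submodule.disjoint_def.mp (evenOdd_isCompl Q').disjoint) x h0 h1

theorem eoProj_one_of_odd {b : CliffordAlgebra Q} (hb : b ∈ evenOdd Q 1) :
    (eoProj Q 1 b : CliffordAlgebra Q) = b := by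
  have := eoProj_apply_mem Q 1 ⟨b, hb⟩
  exact congrArg Subtype.val this

theorem eoProj_zero_of_even {a : CliffordAlgebra Q} (ha : a ∈ evenOdd Q 0) :
    (eoProj Q 0 a : CliffordAlgebra Q) = a := by
  have := eoProj_apply_mem Q 0 ⟨a, ha⟩
  exact congrArg Subtype.val this

theorem eoProj_zero_of_odd {b : CliffordAlgebra Q} (hb : b ∈ evenOdd Q 1) :
    (eoProj Q 0 b : CliffordAlgebra Q) = 0 := by
  have h := eoProj_zero_add_one Q b
  rw [eoProj_one_of_odd Q hb] at h
  exact add_eq_right.mp h

theorem eoProj_one_of_even {a : CliffordAlgebra Q} (ha : a ∈ evenOdd Q 0) :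
    (eoProj Q 1 a : CliffordAlgebra Q) = 0 := by
  have h := eoProj_zero_add_one Q a
  rw [eoProj_zero_of_even Q ha] at h
  exact add_eq_left.mp h

theorem evenProj_of_even {a : CliffordAlgebra Q} (ha : a ∈ evenOdd Q 0) :
    (evenProj Q a).1 = a := by
  rw [evenProj_coe, eoProj_zero_of_even Q ha]

theorem evenProj_of_odd {b : CliffordAlgebra Q} (hb : b ∈ evenOdd Q 1) :
    evenProj Q b = 0 := by
  apply Subtype.ext
  rw [evenProj_coe, eoProj_zero_of_odd Q hb]
  rfl

theorem mem_center_of_commute_ι {c : CliffordAlgebra Q} (h : ∀ v, ι Q v * c = c * ι Q v) :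
    c ∈ Subalgebra.center R (CliffordAlgebra Q) := by
  rw [Subalgebra.mem_center_iff]
  intro x
  induction x using CliffordAlgebra.induction with
  | algebraMap r => exact Algebra.commutes r _
  | ι v => exact h v
  | mul x y hx hy => rw [mul_assoc, hy, ← mul_assoc, hx, mul_assoc]
  | add x y hx hy => rw [add_mul, mul_add, hx, hy]

/-- The centre is a graded subalgebra. -/
theorem center_eoProj {c : CliffordAlgebra Q} (hc : c ∈ Subalgebra.center R (CliffordAlgebra Q))
    (i : ZMod 2) : (eoProj Q i c : CliffordAlgebra Q) ∈ Subalgebra.center R (CliffordAlgebra Q) := by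
  set c0 : CliffordAlgebra Q := (eoProj Q 0 c : CliffordAlgebra Q) with hc0
  set c1 : CliffordAlgebra Q := (eoProj Q 1 c : CliffordAlgebra Q) with hc1
  have h0 : c0 ∈ evenOdd Q 0 := (eoProj Q 0 c).2
  have h1 : c1 ∈ evenOdd Q 1 := (eoProj Q 1 c).2
  have hsum : c0 + c1 = c := eoProj_zero_add_one Q c
  have key : ∀ v, ι Q v * c0 = c0 * ι Q v ∧ ι Q v * c1 = c1 * ι Q v := by
    intro v
    have hv : ι Q v ∈ evenOdd Q 1 := ι_mem_evenOdd_one Q v
    have d0 : ι Q v * c0 - c0 * ι Q v ∈ evenOdd Q 1 := by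
      refine Submodule.sub_mem _ ?_ ?_
      · have := SetLike.mul_mem_graded hv h0
        rwa [add_zero] at this
      · have := SetLike.mul_mem_graded h0 hv
        rwa [zero_add] at this
    have d1 : ι Q v * c1 - c1 * ι Q v ∈ evenOdd Q 0 := by
      refine Submodule.sub_mem _ ?_ ?_
      · have := SetLike.mul_mem_graded hv h1
        rwa [show (1 : ZMod 2) + 1 = 0 from rfl] at this
      · have := SetLike.mul_mem_graded h1 hv
        rwa [show (1 : ZMod 2) + 1 = 0 from rfl] at this
    have hz : (ι Q v * c0 - c0 * ι Q v) + (ι Q v * c1 - c1 * ι Q v) = 0 := by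
      have := (Subalgebra.mem_center_iff.mp hc (ι Q v))
      rw [← hsum, mul_add, add_mul] at this
      rw [sub_add_sub_comm, this, sub_self]
    have e0 : ι Q v * c0 - c0 * ι Q v = -(ι Q v * c1 - c1 * ι Q v) := eq_neg_of_add_eq_zero_left hz
    have z0 : ι Q v * c0 - c0 * ι Q v = 0 :=
      eq_zero_of_mem_even_of_mem_odd Q (e0 ▸ Submodule.neg_mem _ d1) d0
    have z1 : ι Q v * c1 - c1 * ι Q v = 0 := by
      rw [z0] at e0
      exact neg_eq_zero.mp e0.symm
    exact ⟨sub_eq_zero.mp z0, sub_eq_zero.mp z1⟩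
  fin_cases i
  · exact mem_center_of_commute_ι Q fun v => (key v).1
  · exact mem_center_of_commute_ι Q fun v => (key v).2

end Graded


section MulMap

variable {R : Type u} [CommRing R] {M : Type v} [AddCommGroup M] [Module R M] [Module.Free R M]
  (Q : QuadraticForm R M)

/-- the multiplication map `Z(C) ⊗ C₀ → C`. -/
noncomputable def mulCE : ↥(Subalgebra.center R (CliffordAlgebra Q)) ⊗[R] ↥(CliffordAlgebra.even Q)
    →ₗ[R] CliffordAlgebra Q :=
  TensorProduct.lift
    (((LinearMap.mul R (CliffordAlgebra Q)).comp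
      (Subalgebra.center R (CliffordAlgebra Q)).val.toLinearMap).compl₂
      (CliffordAlgebra.even Q).val.toLinearMap)

theorem mulCE_tmul (c : ↥(Subalgebra.center R (CliffordAlgebra Q)))
    (y : ↥(CliffordAlgebra.even Q)) : mulCE Q (c ⊗ₜ y) = c.1 * y.1 := rfl

theorem evenProj_odd_mul {w : CliffordAlgebra Q} (hw : w ∈ evenOdd Q 1) (x : CliffordAlgebra Q) :
    (evenProj Q (w * x)).1 = w * (eoProj Q 1 x : CliffordAlgebra Q) := by
  have hx := eoProj_zero_add_one Q x
  conv_lhs => rw [← hx, mul_add, map_add]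
  have h0 : w * (eoProj Q 0 x : CliffordAlgebra Q) ∈ evenOdd Q 1 := by
    have := SetLike.mul_mem_graded hw (eoProj Q 0 x).2
    rwa [add_zero] at this
  have h1 : w * (eoProj Q 1 x : CliffordAlgebra Q) ∈ evenOdd Q 0 := by
    have := SetLike.mul_mem_graded hw (eoProj Q 1 x).2
    rwa [show (1 : ZMod 2) + 1 = 0 from rfl] at this
  rw [evenProj_of_odd Q h0, zero_add, evenProj_of_even Q h1]

variable {Q}

theorem mulCE_bijective
    (h0 : ∀ c ∈ Subalgebra.center R (CliffordAlgebra Q), c ∈ evenOdd Q 0 →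
      c ∈ (⊥ : Subalgebra R (CliffordAlgebra Q)))
    {κ : Type*} [Fintype κ] (z w : κ → CliffordAlgebra Q)
    (hz : ∀ k, z k ∈ Subalgebra.center R (CliffordAlgebra Q) ∧ z k ∈ evenOdd Q 1)
    (hw : ∀ k, w k ∈ Subalgebra.center R (CliffordAlgebra Q) ∧ w k ∈ evenOdd Q 1)
    (h1 : ∑ k, z k * w k = 1) : Function.Bijective (mulCE Q) := by
  classical
  let Z := Subalgebra.center R (CliffordAlgebra Q)
  let C0 := CliffordAlgebra.even Q
  let zz : κ → ↥Z := fun k => ⟨z k, (hz k).1⟩
  let ν : CliffordAlgebra Q →ₗ[R] ↥Z ⊗[R] ↥C0 :=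
    (TensorProduct.mk R ↥Z ↥C0 1) ∘ₗ evenProj Q +
      ∑ k, (TensorProduct.mk R ↥Z ↥C0 (zz k)) ∘ₗ evenProj Q ∘ₗ LinearMap.mulLeft R (w k)
  have hν : ∀ x, ν x = (1 : ↥Z) ⊗ₜ[R] evenProj Q x + ∑ k, zz k ⊗ₜ[R] evenProj Q (w k * x) := by
    intro x
    simp only [ν, LinearMap.add_apply, LinearMap.comp_apply, TensorProduct.mk_apply,
      LinearMap.sum_apply, LinearMap.mulLeft_apply]
  -- right inverse
  have hr : ∀ x, mulCE Q (ν x) = x := by
    intro x
    rw [hν, map_add, map_sum, mulCE_tmul]
    have : ∀ k, mulCE Q (zz k ⊗ₜ[R] evenProj Q (w k * x)) =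
        z k * w k * (eoProj Q 1 x : CliffordAlgebra Q) := by
      intro k
      rw [mulCE_tmul, evenProj_odd_mul Q (hw k).2, mul_assoc]
    rw [Finset.sum_congr rfl fun k _ => this k, ← Finset.sum_mul, h1, one_mul, evenProj_coe,
      OneMemClass.coe_one, one_mul]
    exact eoProj_zero_add_one Q x
  -- left inverse on pure tensors
  have hA : ∀ (c : ↥Z) (y : ↥C0), c.1 ∈ evenOdd Q 0 → ν (c.1 * y.1) = c ⊗ₜ[R] y := by
    intro c y hc
    obtain ⟨r, hr⟩ := Algebra.mem_bot.mp (h0 c.1 c.2 hc)
    have hcy : c.1 * y.1 = r • y.1 := by rw [← hr, Algebra.smul_def]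
    rw [hν, hcy]
    have e1 : evenProj Q (r • y.1) = r • y := by rw [map_smul, evenProj_apply_mem]
    have e2 : ∀ k, evenProj Q (w k * r • y.1) = 0 := by
      intro k
      apply evenProj_of_odd
      rw [mul_smul_comm]
      refine Submodule.smul_mem _ _ ?_
      have := SetLike.mul_mem_graded (hw k).2 (mem_even_iff.mp y.2)
      rwa [add_zero] at this
    rw [e1, Finset.sum_eq_zero (fun k _ => by rw [e2 k, TensorProduct.tmul_zero]), add_zero,
      TensorProduct.tmul_smul, TensorProduct.smul_tmul']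
    congr 1
    apply Subtype.ext
    change r • (1 : CliffordAlgebra Q) = c.1
    rw [← hr, Algebra.algebraMap_eq_smul_one]
  have hB : ∀ (c : ↥Z) (y : ↥C0), c.1 ∈ evenOdd Q 1 → ν (c.1 * y.1) = c ⊗ₜ[R] y := by
    intro c y hc
    have hwc : ∀ k, ∃ s : R, algebraMap R (CliffordAlgebra Q) s = w k * c.1 := by
      intro k
      refine Algebra.mem_bot.mp (h0 _ (Subalgebra.mul_mem _ (hw k).1 c.2) ?_)
      have := SetLike.mul_mem_graded (hw k).2 hc
      rwa [show (1 : ZMod 2) + 1 = 0 from rfl] at this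
    choose s hs using hwc
    rw [hν]
    have e1 : evenProj Q (c.1 * y.1) = 0 := by
      apply evenProj_of_odd
      have := SetLike.mul_mem_graded hc (mem_even_iff.mp y.2)
      rwa [add_zero] at this
    have e2 : ∀ k, evenProj Q (w k * (c.1 * y.1)) = s k • y := by
      intro k
      rw [← mul_assoc, ← hs k, ← Algebra.smul_def, map_smul, evenProj_apply_mem]
    rw [e1, TensorProduct.tmul_zero, zero_add,
      Finset.sum_congr rfl fun k _ => by rw [e2 k, TensorProduct.tmul_smul,
        TensorProduct.smul_tmul'],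
      ← TensorProduct.sum_tmul]
    congr 1
    apply Subtype.ext
    rw [AddSubmonoidClass.coe_finset_sum]
    have : ∀ k, ((s k • zz k : ↥Z) : CliffordAlgebra Q) = z k * w k * c.1 := by
      intro k
      change s k • z k = _
      rw [mul_assoc, ← hs k, ← Algebra.commutes, ← Algebra.smul_def]
    rw [Finset.sum_congr rfl fun k _ => this k, ← Finset.sum_mul, h1, one_mul]
  have hl : ∀ t, ν (mulCE Q t) = t := by
    intro t
    induction t using TensorProduct.induction_on with
    | zero => simp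
    | tmul c y =>
      let c0 : ↥Z := ⟨(eoProj Q 0 c.1 : CliffordAlgebra Q), center_eoProj Q c.2 0⟩
      let c1 : ↥Z := ⟨(eoProj Q 1 c.1 : CliffordAlgebra Q), center_eoProj Q c.2 1⟩
      have hc : c = c0 + c1 := Subtype.ext (eoProj_zero_add_one Q c.1).symm
      have hmul : mulCE Q (c ⊗ₜ[R] y) = c0.1 * y.1 + c1.1 * y.1 := by
        rw [mulCE_tmul, ← add_mul]
        congr 1
        exact (eoProj_zero_add_one Q c.1).symm
      rw [hmul, map_add, hA c0 y (eoProj Q 0 c.1).2, hB c1 y (eoProj Q 1 c.1).2,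
        ← TensorProduct.add_tmul, ← hc]
    | add t t' ht ht' => rw [map_add, map_add, ht, ht']
  exact ⟨Function.LeftInverse.injective hl, Function.RightInverse.surjective hr⟩

end MulMap


section BaseChangeMem

variable {R : Type*} [CommRing R] (A : Type*) [CommRing A] [Algebra R A]

theorem baseChange_map_mem {N N' : Type*} [AddCommGroup N] [Module R N] [AddCommGroup N']
    [Module R N'] (π : N →ₗ[R] N') (P : Submodule R N) (P' : Submodule R N')
    (h : ∀ p ∈ P, π p ∈ P') (t : A ⊗[R] N) (ht : t ∈ P.baseChange A) :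
    π.baseChange A t ∈ P'.baseChange A := by
  obtain ⟨s, rfl⟩ := ht
  induction s using TensorProduct.induction_on with
  | zero => simp
  | tmul a p =>
    rw [LinearMap.baseChange_tmul, LinearMap.baseChange_tmul]
    exact Submodule.tmul_mem_baseChange_of_mem a (h p.1 p.2)
  | add s s' hs hs' =>
    rw [map_add, map_add]
    exact Submodule.add_mem _ hs hs'

theorem mul_mem_baseChange_mul {C : Type*} [Ring C] [Algebra R C] (P₁ P₂ : Submodule R C)
    (t t' : A ⊗[R] C) (ht : t ∈ P₁.baseChange A) (ht' : t' ∈ P₂.baseChange A) :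
    t * t' ∈ (P₁ * P₂).baseChange A := by
  obtain ⟨s, rfl⟩ := ht
  obtain ⟨s', rfl⟩ := ht'
  induction s using TensorProduct.induction_on with
  | zero => simp
  | tmul a p =>
    induction s' using TensorProduct.induction_on with
    | zero => simp
    | tmul a' p' =>
      rw [LinearMap.baseChange_tmul, LinearMap.baseChange_tmul,
        Algebra.TensorProduct.tmul_mul_tmul]
      exact Submodule.tmul_mem_baseChange_of_mem _ (Submodule.mul_mem_mul p.2 p'.2)
    | add s s' hs hs' =>
      rw [map_add, mul_add]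
      exact Submodule.add_mem _ hs hs'
  | add s₁ s₂ hs₁ hs₂ =>
    rw [map_add, add_mul]
    exact Submodule.add_mem _ hs₁ hs₂

end BaseChangeMem

section OddFamily

variable {R : Type u} [CommRing R] {M : Type v} [AddCommGroup M] [Module R M] [Module.Free R M]
  [Module.Finite R M] (A : Type u') [CommRing A] [Algebra R A] (Q : QuadraticForm R M)

/-- the odd part of the centre, as a submodule. -/
noncomputable def oddCenter : Submodule R (CliffordAlgebra Q) :=
  Subalgebra.toSubmodule (Subalgebra.center R (CliffordAlgebra Q)) ⊓ evenOdd Q 1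

theorem mem_oddCenter {c : CliffordAlgebra Q} :
    c ∈ oddCenter Q ↔ c ∈ Subalgebra.center R (CliffordAlgebra Q) ∧ c ∈ evenOdd Q 1 := Iff.rfl

theorem one_mem_oddCenter_mul [Module.FaithfullyFlat R A]
    (zA : CliffordAlgebra (baseChangeForm A Q)) (hodd : zA ∈ evenOdd (baseChangeForm A Q) 1)
    (hcen : zA ∈ Subalgebra.center A (CliffordAlgebra (baseChangeForm A Q)))
    (hsq : zA * zA = 1) : (1 : CliffordAlgebra Q) ∈ oddCenter Q * oddCenter Q := by
  set ζ := (bcEquiv A Q).symm zA with hζ
  have hζz : bcEquiv A Q ζ = zA := (bcEquiv A Q).apply_symm_apply zA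
  have h1 : ζ ∈ (Subalgebra.toSubmodule
      (Subalgebra.center R (CliffordAlgebra Q))).baseChange A :=
    symm_mem_baseChange_center A Q zA hcen
  let π₁ : CliffordAlgebra Q →ₗ[R] CliffordAlgebra Q := (evenOdd Q 1).subtype ∘ₗ eoProj Q 1
  have h2 : π₁.baseChange A ζ = ζ := by
    have hsum := baseChange_eoProj_add A Q ζ
    have he : bcEquiv A Q ((CliffordAlgebra.even Q).val.toLinearMap.baseChange A
        ((evenProj Q).baseChange A ζ)) ∈ evenOdd (baseChangeForm A Q) 0 := by
      rw [← evenBC_coe]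
      exact mem_even_iff.mp (evenBC A Q _).2
    have ho : bcEquiv A Q ((evenOdd Q 1).subtype.baseChange A ((eoProj Q 1).baseChange A ζ)) ∈
        evenOdd (baseChangeForm A Q) 1 := bcEquiv_baseChange_mem_evenOdd A Q 1 _
    have hz : bcEquiv A Q ((CliffordAlgebra.even Q).val.toLinearMap.baseChange A
        ((evenProj Q).baseChange A ζ)) = 0 := by
      refine eq_zero_of_mem_even_of_mem_odd' he ?_
      have : bcEquiv A Q ((CliffordAlgebra.even Q).val.toLinearMap.baseChange A
          ((evenProj Q).baseChange A ζ)) = zA -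
          bcEquiv A Q ((evenOdd Q 1).subtype.baseChange A ((eoProj Q 1).baseChange A ζ)) := by
        rw [← hζz, ← map_sub]
        congr 1
        exact eq_sub_of_add_eq hsum
      rw [this]
      exact Submodule.sub_mem _ hodd ho
    have hz' : (CliffordAlgebra.even Q).val.toLinearMap.baseChange A
        ((evenProj Q).baseChange A ζ) = 0 := by simpa using hz
    rw [hz', zero_add] at hsum
    rw [LinearMap.baseChange_comp, LinearMap.comp_apply]
    exact hsum
  have h3 : ζ ∈ (oddCenter Q).baseChange A := by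
    rw [← h2]
    refine baseChange_map_mem A π₁ _ _ (fun c hc => ?_) ζ h1
    exact ⟨center_eoProj Q hc 1, (eoProj Q 1 c).2⟩
  have h4 : ζ * ζ ∈ (oddCenter Q * oddCenter Q).baseChange A :=
    mul_mem_baseChange_mul A _ _ ζ ζ h3 h3
  have h5 : ζ * ζ = (1 : A) ⊗ₜ[R] (1 : CliffordAlgebra Q) := by
    apply (bcEquiv A Q).injective
    rw [map_mul, hζz, hsq, ← Algebra.TensorProduct.one_def, map_one]
  rw [h5] at h4
  exact mem_of_one_tmul_mem_baseChange A _ _ h4

theorem exists_family_of_mem_mul (P : Submodule R (CliffordAlgebra Q)) (x : CliffordAlgebra Q)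
    (hx : x ∈ P * P) :
    ∃ (κ : Type) (_ : Fintype κ) (z w : κ → CliffordAlgebra Q), (∀ k, z k ∈ P) ∧ (∀ k, w k ∈ P) ∧
      ∑ k, z k * w k = x := by
  refine Submodule.mul_induction_on hx ?_ ?_
  · intro m hm n hn
    exact ⟨Unit, inferInstance, fun _ => m, fun _ => n, fun _ => hm, fun _ => hn, by simp⟩
  · rintro x y ⟨κ, _, z, w, hz, hw, h⟩ ⟨κ', _, z', w', hz', hw', h'⟩
    refine ⟨κ ⊕ κ', inferInstance, Sum.elim z z', Sum.elim w w', ?_, ?_, ?_⟩
    · rintro (k | k)
      · exact hz k
      · exact hz' k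
    · rintro (k | k)
      · exact hw k
      · exact hw' k
    · rw [Fintype.sum_sum_type]
      simp only [Sum.elim_inl, Sum.elim_inr]
      rw [h, h']

end OddFamily

end Groth.Agent.Lib.Helper25.Cliff
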