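import Mathlib
import Groth.Agent.Lib.Helper25CliffI
import Groth.Agent.Lib.Helper25CliffK

/-!
# The naive Clifford group is locally homogeneous when the centre is trivial (helper25)
-/

set_option autoImplicit false
set_option linter.unusedSectionVars false
set_option linter.style.haveILetI false
universe u v

namespace Groth.Agent.Lib.Helper25.Cliff

open CliffordAlgebra TensorProduct QuadGrp

section Basic

variable {R : Type u} [CommRing R] {M : Type v} [AddCommGroup M] [Module R M] [Module.Free R M]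
  (Q : QuadraticForm R M)

theorem algebraMap_injective : Function.Injective (algebraMap R (CliffordAlgebra Q)) := by
  obtain ⟨B, hB⟩ := exists_bilin Q
  intro r s h
  have h1 : (extEquiv Q B hB).symm (algebraMap R (CliffordAlgebra Q) r) =
      algebraMap R (ExteriorAlgebra R M) r := by
    rw [LinearEquiv.symm_apply_eq, Algebra.algebraMap_eq_smul_one, Algebra.algebraMap_eq_smul_one,
      map_smul, extEquiv_one]
  have h2 : (extEquiv Q B hB).symm (algebraMap R (CliffordAlgebra Q) s) =
      algebraMap R (ExteriorAlgebra R M) s := by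
    rw [LinearEquiv.symm_apply_eq, Algebra.algebraMap_eq_smul_one, Algebra.algebraMap_eq_smul_one,
      map_smul, extEquiv_one]
  have := congrArg (extEquiv Q B hB).symm h
  rw [h1, h2] at this
  exact ExteriorAlgebra.algebraMap_leftInverse M |>.injective this

theorem eq_zero_of_smul_unit_eq_zero (u : (CliffordAlgebra Q)ˣ) (r : R)
    (h : r • (u : CliffordAlgebra Q) = 0) : r = 0 := by
  apply algebraMap_injective Q
  rw [map_zero, Algebra.algebraMap_eq_smul_one, ← Units.mul_inv u, ← smul_mul_assoc, h, zero_mul]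

/-- trivial centre in the regular even-rank case. -/
theorem center_eq_bot_of_regular [Module.Finite R M] (m : ℕ)
    (hM : Module.finrank R M = 2 * m) (hQ : Function.Bijective (QuadraticMap.polarBilin Q)) :
    Subalgebra.center R (CliffordAlgebra Q) = ⊥ := by
  obtain ⟨A', iR, iA, hff, hfp, ⟨f⟩⟩ := exists_fppf_isometry_hypSum m hM Q hQ
  obtain ⟨D⟩ := nonempty_splitData_hypSum A' m
  let D' := D.ofIsometry f.symm
  rw [eq_bot_iff]
  intro z hz
  apply mem_bot_of_ofBCAux_mem_bot A' Q
  have := ofBCAux_mem_center A' Q hz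
  rw [center_eq_bot_of_algEquiv_matrix D'.e] at this
  exact this

end Basic

section Conj

variable {R : Type u} [CommRing R] {M : Type v} [AddCommGroup M] [Module R M]
  (Q : QuadraticForm R M)

/-- conjugation by a unit as an algebra endomorphism. -/
noncomputable def conjHom (u : (CliffordAlgebra Q)ˣ) : CliffordAlgebra Q →ₐ[R] CliffordAlgebra Q where
  toFun x := u * x * ↑u⁻¹
  map_one' := by simp
  map_mul' x y := by
    simp only [mul_assoc]
    rw [← mul_assoc (↑u⁻¹ : CliffordAlgebra Q) (u : CliffordAlgebra Q), Units.inv_mul, one_mul]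
  map_zero' := by simp
  map_add' x y := by simp [mul_add, add_mul]
  commutes' r := by
    rw [← Algebra.commutes, mul_assoc, Units.mul_inv, mul_one]

theorem conjHom_apply (u : (CliffordAlgebra Q)ˣ) (x : CliffordAlgebra Q) :
    conjHom Q u x = u * x * ↑u⁻¹ := rfl

theorem conj_ι_mem_range {u : (CliffordAlgebra Q)ˣ} (hu : u ∈ GPin' Q) (v : M) :
    (u : CliffordAlgebra Q) * ι Q v * ↑u⁻¹ ∈ LinearMap.range (ι Q) := by
  rw [mem_GPin'] at hu
  rw [← hu, Submodule.mem_smul_pointwise_iff_exists]
  refine ⟨ι Q v, ⟨v, rfl⟩, ?_⟩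
  rw [ConjAct.units_smul_def]
  simp

theorem conjHom_mem_evenOdd {u : (CliffordAlgebra Q)ˣ} (hu : u ∈ GPin' Q) (i : ZMod 2)
    (x : CliffordAlgebra Q) (hx : x ∈ evenOdd Q i) : conjHom Q u x ∈ evenOdd Q i := by
  refine map_mem_of_mem_evenOdd Q (evenOdd Q) (SetLike.one_mem_graded (evenOdd Q))
    (fun i j x y hx hy => SetLike.mul_mem_graded (A := evenOdd Q) hx hy) (conjHom Q u)
    (fun v => ?_) i x hx
  obtain ⟨v', hv'⟩ := conj_ι_mem_range Q hu v
  rw [conjHom_apply, ← hv']
  exact ι_mem_evenOdd_one Q v'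

end Conj

section LocHomog

variable {R : Type u} [CommRing R] {M : Type v} [AddCommGroup M] [Module R M] [Module.Free R M]
  (Q : QuadraticForm R M)

theorem isLocHomog_of_mem_GPin' (hZ : Subalgebra.center R (CliffordAlgebra Q) = ⊥)
    {u : (CliffordAlgebra Q)ˣ} (hu : u ∈ GPin' Q) : IsLocHomog Q (u : CliffordAlgebra Q) := by
  set U : CliffordAlgebra Q := (u : CliffordAlgebra Q) with hU
  set u0 : CliffordAlgebra Q := (eoProj Q 0 U : CliffordAlgebra Q) with hu0
  set u1 : CliffordAlgebra Q := (eoProj Q 1 U : CliffordAlgebra Q) with hu1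
  have h0 : u0 ∈ evenOdd Q 0 := (eoProj Q 0 U).2
  have h1 : u1 ∈ evenOdd Q 1 := (eoProj Q 1 U).2
  have hsum : u0 + u1 = U := eoProj_zero_add_one Q U
  -- the twisted commutation for homogeneous `x`
  have key : ∀ (i : ZMod 2) (x : CliffordAlgebra Q), x ∈ evenOdd Q i →
      u0 * x = conjHom Q u x * u0 ∧ u1 * x = conjHom Q u x * u1 := by
    intro i x hx
    have hφ := conjHom_mem_evenOdd Q hu i x hx
    have hUx : U * x = conjHom Q u x * U := by
      rw [conjHom_apply, mul_assoc, Units.inv_mul, mul_one]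
    have d0 : u0 * x - conjHom Q u x * u0 ∈ evenOdd Q i := by
      refine Submodule.sub_mem _ ?_ ?_
      · have := SetLike.mul_mem_graded h0 hx
        rwa [zero_add] at this
      · have := SetLike.mul_mem_graded hφ h0
        rwa [add_zero] at this
    have d1 : u1 * x - conjHom Q u x * u1 ∈ evenOdd Q (i + 1) := by
      refine Submodule.sub_mem _ ?_ ?_
      · have := SetLike.mul_mem_graded h1 hx
        rwa [add_comm] at this
      · exact SetLike.mul_mem_graded hφ h1
    have hz : (u0 * x - conjHom Q u x * u0) + (u1 * x - conjHom Q u x * u1) = 0 := by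
      rw [← hsum, add_mul, mul_add] at hUx
      rw [sub_add_sub_comm, hUx, sub_self]
    have e0 : u0 * x - conjHom Q u x * u0 = -(u1 * x - conjHom Q u x * u1) :=
      eq_neg_of_add_eq_zero_left hz
    have z0 : u0 * x - conjHom Q u x * u0 = 0 := by
      have hd : Disjoint (evenOdd Q i) (evenOdd Q (i + 1)) := by
        fin_cases i
        · exact (evenOdd_isCompl Q).disjoint
        · exact (evenOdd_isCompl Q).disjoint.symm
      exact (Submodule.disjoint_def.mp hd) _ d0 (e0 ▸ Submodule.neg_mem _ d1)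
    have z1 : u1 * x - conjHom Q u x * u1 = 0 := by
      rw [z0] at e0
      exact neg_eq_zero.mp e0.symm
    exact ⟨sub_eq_zero.mp z0, sub_eq_zero.mp z1⟩
  have key' : ∀ x : CliffordAlgebra Q,
      u0 * x = conjHom Q u x * u0 ∧ u1 * x = conjHom Q u x * u1 := by
    intro x
    have hx := eoProj_zero_add_one Q x
    have k0 := key 0 _ (eoProj Q 0 x).2
    have k1 := key 1 _ (eoProj Q 1 x).2
    constructor
    · rw [← hx, mul_add, map_add, add_mul, k0.1, k1.1]
    · rw [← hx, mul_add, map_add, add_mul, k0.2, k1.2]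
  -- `u⁻¹ u₀` and `u⁻¹ u₁` are central
  have hc : ∀ y : CliffordAlgebra Q, (∀ x, y * x = conjHom Q u x * y) →
      ∃ e : R, y = e • U := by
    intro y hy
    have hcen : (↑u⁻¹ : CliffordAlgebra Q) * y ∈ Subalgebra.center R (CliffordAlgebra Q) := by
      rw [Subalgebra.mem_center_iff]
      intro x
      rw [mul_assoc, hy x, conjHom_apply]
      simp only [← mul_assoc]
      rw [Units.inv_mul, one_mul]
    rw [hZ, Algebra.mem_bot] at hcen
    obtain ⟨e, he⟩ := hcen
    refine ⟨e, ?_⟩
    have : y = U * ((↑u⁻¹ : CliffordAlgebra Q) * y) := by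
      rw [← mul_assoc, Units.mul_inv, one_mul]
    rw [this, ← he, ← Algebra.commutes, ← Algebra.smul_def]
  obtain ⟨e, he⟩ := hc u0 fun x => (key' x).1
  obtain ⟨e', he'⟩ := hc u1 fun x => (key' x).2
  have hee' : e + e' = 1 := by
    have : (e + e' - 1) • U = 0 := by
      rw [sub_smul, add_smul, one_smul, ← he, ← he', hsum, sub_self]
    have := eq_zero_of_smul_unit_eq_zero Q u _ this
    exact sub_eq_zero.mp this
  have he'eq : e' = 1 - e := by rw [← hee']; ring
  have hidem : e * (1 - e) = 0 := by
    apply eq_zero_of_smul_unit_eq_zero Q u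
    rw [mul_smul, ← he'eq, ← he']
    -- e • u1 = 0: it is the odd part of e • U = u0
    have h2 : e • u0 + e • u1 = u0 := by rw [← smul_add, hsum, ← he]
    have h3 : e • u1 = u0 - e • u0 := eq_sub_of_add_eq' h2
    have h4 : e • u1 ∈ evenOdd Q 0 := by
      rw [h3]
      exact Submodule.sub_mem _ h0 (Submodule.smul_mem _ _ h0)
    exact eq_zero_of_mem_even_of_mem_odd Q h4 (Submodule.smul_mem _ _ h1)
  refine ⟨e, ?_, ?_, ?_⟩
  · change e * e = e
    have : e * (1 - e) = e - e * e := by ring
    rw [this] at hidem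
    exact (sub_eq_zero.mp hidem).symm
  · rw [← he]; exact h0
  · rw [← he'eq, ← he']; exact h1

end LocHomog

end Groth.Agent.Lib.Helper25.Cliff
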