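import Mathlib
import Groth.Agent.Lib.Helper25CliffL

/-!
# The centre of an odd-rank Clifford algebra (helper25)
-/

set_option autoImplicit false
set_option linter.unusedSectionVars false
set_option linter.style.haveILetI false
universe u v

namespace Groth.Agent.Lib.Helper25.Cliff

open CliffordAlgebra TensorProduct QuadGrp

section OddCentre

variable {R : Type u} [CommRing R] {M : Type v} [AddCommGroup M] [Module R M] [Module.Free R M]
  [Module.Finite R M] (m : ℕ) (b : Module.Basis (Fin (2 * m + 1)) R M) (Q : QuadraticForm R M)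
  (hQ : QuadGrp.IsSemiregular b (LinearEquiv.refl R R) Q)

include hQ

/-- even central elements are scalars (odd rank, semiregular). -/
theorem even_center_mem_bot (z : CliffordAlgebra Q)
    (hz : z ∈ Subalgebra.center R (CliffordAlgebra Q)) (hz0 : z ∈ evenOdd Q 0) :
    z ∈ (⊥ : Subalgebra R (CliffordAlgebra Q)) := by
  obtain ⟨R', iR, iA, hff, hfp, ⟨f⟩⟩ := exists_fppf_isometry_addOne_hypSum m b Q hQ
  obtain ⟨E⟩ := nonempty_even_addOne_hypSum_equiv R' m
  let E' : ↥(CliffordAlgebra.even (QuadGrp.baseChangeForm R' Q)) ≃ₐ[R']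
      Matrix (Fin (2 ^ m)) (Fin (2 ^ m)) R' := (evenEquivOfIsometry f).trans E
  apply mem_bot_of_ofBCAux_mem_bot R' Q
  have h1 := ofBCAux_mem_center R' Q hz
  have h2 := ofBCAux_mem_evenOdd R' Q 0 z hz0
  have h3 : (⟨ofBCAux R' Q z, mem_even_iff.mpr h2⟩ :
      ↥(CliffordAlgebra.even (QuadGrp.baseChangeForm R' Q))) ∈
      Subalgebra.center R' ↥(CliffordAlgebra.even (QuadGrp.baseChangeForm R' Q)) := by
    rw [Subalgebra.mem_center_iff]
    intro c
    apply Subtype.ext
    exact (Subalgebra.mem_center_iff (R := R')).mp h1 c.1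
  rw [center_eq_bot_of_algEquiv_matrix E', Algebra.mem_bot] at h3
  obtain ⟨a, ha⟩ := h3
  rw [Algebra.mem_bot]
  exact ⟨a, congrArg Subtype.val ha⟩

/-- the odd part of the centre squares to the unit ideal. -/
theorem exists_oddCenter_family :
    ∃ (κ : Type) (_ : Fintype κ) (z w : κ → CliffordAlgebra Q), (∀ k, z k ∈ oddCenter Q) ∧
      (∀ k, w k ∈ oddCenter Q) ∧ ∑ k, z k * w k = 1 := by
  obtain ⟨R', iR, iA, hff, hfp, ⟨f⟩⟩ := exists_fppf_isometry_addOne_hypSum m b Q hQ
  obtain ⟨D⟩ := nonempty_splitData_hypSum R' m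
  have hflat : Module.Flat R R' := inferInstance
  obtain ⟨zA, hodd, hcen, hsq⟩ :=
    exists_odd_central_of_isometry D.hε (QuadGrp.baseChangeForm R' Q) f.symm
  have h1 := one_mem_oddCenter_mul R' Q zA hodd hcen hsq
  exact exists_family_of_mem_mul Q (oddCenter Q) 1 h1

/-- products of odd central elements are scalars. -/
theorem oddCenter_mul_mem_bot {x y : CliffordAlgebra Q} (hx : x ∈ oddCenter Q)
    (hy : y ∈ oddCenter Q) : ∃ r : R, algebraMap R (CliffordAlgebra Q) r = x * y := by
  refine Algebra.mem_bot.mp (even_center_mem_bot m b Q hQ _ (Subalgebra.mul_mem _ hx.1 hy.1) ?_)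
  have := SetLike.mul_mem_graded hx.2 hy.2
  rwa [show (1 : ZMod 2) + 1 = 0 from rfl] at this

/-- Over a local ring, the centre is `R ⊕ R z` with `z` an odd central unit. -/
theorem exists_odd_central_unit [IsLocalRing R] :
    ∃ z : CliffordAlgebra Q, z ∈ oddCenter Q ∧ IsUnit z ∧
      ∀ c ∈ oddCenter Q, ∃ r : R, c = r • z := by
  classical
  obtain ⟨κ, _, z, w, hz, hw, hsum⟩ := exists_oddCenter_family m b Q hQ
  have hr : ∀ k, ∃ r : R, algebraMap R (CliffordAlgebra Q) r = z k * w k := fun k =>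
    oddCenter_mul_mem_bot m b Q hQ (hz k) (hw k)
  choose r hr using hr
  have hsum' : ∑ k, r k = 1 := by
    apply algebraMap_injective Q
    rw [map_sum, map_one, Finset.sum_congr rfl fun k _ => hr k, hsum]
  obtain ⟨k, hk⟩ : ∃ k, IsUnit (r k) := by
    by_contra hcon
    push Not at hcon
    have : ∑ k, r k ∈ IsLocalRing.maximalIdeal R :=
      Ideal.sum_mem _ fun k _ => (IsLocalRing.mem_maximalIdeal _).mpr (hcon k)
    rw [hsum'] at this
    exact (IsLocalRing.maximalIdeal.isMaximal R).ne_top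
      ((Ideal.eq_top_iff_one _).mpr this)
  obtain ⟨s, hs⟩ := hk.exists_right_inv
  have hzw : z k * (s • w k) = 1 := by
    rw [mul_smul_comm, ← hr k, Algebra.smul_def, ← map_mul, mul_comm, hs, map_one]
  have hcomm : z k * (s • w k) = (s • w k) * z k :=
    ((Subalgebra.mem_center_iff (R := R)).mp (hz k).1 (s • w k)).symm
  refine ⟨z k, hz k, ⟨⟨z k, s • w k, hzw, hcomm ▸ hzw⟩, rfl⟩, fun c hc => ?_⟩
  obtain ⟨t, ht⟩ := oddCenter_mul_mem_bot m b Q hQ hc (hw k)
  refine ⟨s * t, ?_⟩
  calc c = c * (z k * (s • w k)) := by rw [hzw, mul_one]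
    _ = s • (z k * (c * w k)) := by
        rw [mul_smul_comm, mul_smul_comm, ← mul_assoc,
          (Subalgebra.mem_center_iff (R := R)).mp (hz k).1 c, mul_assoc]
    _ = (s * t) • z k := by
        rw [← ht, ← Algebra.commutes, ← Algebra.smul_def, smul_smul]

end OddCentre

end Groth.Agent.Lib.Helper25.Cliff
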