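import Mathlib
import Groth.Agent.Lib.Helper25CliffM

/-!
# Parity elements and the action of the canonical anti-involution on odd central elements
(helper25)
-/

set_option autoImplicit false
set_option linter.unusedSectionVars false
set_option linter.style.haveILetI false
universe u v

namespace Groth.Agent.Lib.Helper25.Cliff

open CliffordAlgebra TensorProduct QuadGrp

section StarMap

variable {R : Type*} [CommRing R] {M : Type*} [AddCommGroup M] [Module R M]
  {A : Type*} [CommRing A] {M' : Type*} [AddCommGroup M'] [Module A M']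
  {Q : QuadraticForm R M} {Q' : QuadraticForm A M'}

/-- a ring homomorphism of Clifford algebras sending scalars to `star`-fixed elements and vectors
to `star`-negated elements commutes with `star`. -/
theorem star_map_of (φ : CliffordAlgebra Q →+* CliffordAlgebra Q')
    (hr : ∀ r : R, star (φ (algebraMap R _ r)) = φ (algebraMap R _ r))
    (hι : ∀ v, star (φ (ι Q v)) = -φ (ι Q v)) (x : CliffordAlgebra Q) :
    star (φ x) = φ (star x) := by
  induction x using CliffordAlgebra.induction with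
  | algebraMap r => rw [hr, star_algebraMap]
  | ι v => rw [hι, star_ι, map_neg]
  | mul x y hx hy => rw [map_mul, star_mul, hx, hy, star_mul, map_mul]
  | add x y hx hy => rw [map_add, star_add, hx, hy, star_add, map_add]

end StarMap

section StarIso

variable {R : Type u} [CommRing R] {M : Type v} [AddCommGroup M] [Module R M]
  {M' : Type*} [AddCommGroup M'] [Module R M'] {Q : QuadraticForm R M} {Q' : QuadraticForm R M'}

theorem star_map (f : Q →qᵢ Q') (x : CliffordAlgebra Q) :
    star (CliffordAlgebra.map f x) = CliffordAlgebra.map f (star x) := by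
  refine star_map_of (CliffordAlgebra.map f).toRingHom (fun r => ?_) (fun v => ?_) x
  · change star (CliffordAlgebra.map f (algebraMap R _ r)) = CliffordAlgebra.map f (algebraMap R _ r)
    rw [AlgHom.commutes, star_algebraMap]
  · change star (CliffordAlgebra.map f (ι Q v)) = -CliffordAlgebra.map f (ι Q v)
    rw [CliffordAlgebra.map_apply_ι, star_ι]

end StarIso

section ParityElt

variable {R : Type u} [CommRing R] {M : Type v} [AddCommGroup M] [Module R M]

/-- A parity element: even, of square one, anticommuting with all vectors. -/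
structure IsParityElt (Q : QuadraticForm R M) (w : CliffordAlgebra Q) : Prop where
  even : w ∈ evenOdd Q 0
  sq : w * w = 1
  anti : ∀ v, ι Q v * w = -(w * ι Q v)

variable {M' : Type*} [AddCommGroup M'] [Module R M'] {Q : QuadraticForm R M}
  {Q' : QuadraticForm R M'}

theorem IsParityElt.map (e : Q.IsometryEquiv Q') {w : CliffordAlgebra Q} (hw : IsParityElt Q w) :
    IsParityElt Q' (CliffordAlgebra.map e.toIsometry w) where
  even := map_mem_evenOdd e.toIsometry 0 w hw.even
  sq := by rw [← map_mul, hw.sq, map_one]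
  anti := fun v' => by
    obtain ⟨v, rfl⟩ := e.surjective v'
    have : ι Q' (e.toLinearEquiv v) = CliffordAlgebra.map e.toIsometry (ι Q v) := by
      rw [CliffordAlgebra.map_apply_ι]; rfl
    rw [this, ← map_mul, ← map_mul, hw.anti, map_neg]

/-- if `t` anticommutes with the images of all vectors, it commutes with images of even
elements. -/
theorem commute_of_anti_of_even {B : Type*} [Ring B] [Algebra R B]
    (φ : CliffordAlgebra Q →ₐ[R] B) (t : B) (ht : ∀ v, φ (ι Q v) * t = -(t * φ (ι Q v)))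
    (x : CliffordAlgebra Q) (hx : x ∈ evenOdd Q 0) : t * φ x = φ x * t := by
  refine even_induction Q (motive := fun x _ => t * φ x = φ x * t) ?_ ?_ ?_ x hx
  · intro r
    rw [AlgHom.commutes]
    exact (Algebra.commutes r _).symm
  · intro x y _ _ h1 h2
    rw [map_add, mul_add, add_mul, h1, h2]
  · intro m₁ m₂ x _ h
    have ha := ht m₁
    have hb := ht m₂
    rw [map_mul, map_mul]
    calc t * (φ (ι Q m₁) * φ (ι Q m₂) * φ x)
        = (t * φ (ι Q m₁)) * φ (ι Q m₂) * φ x := by simp only [mul_assoc]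
      _ = -(φ (ι Q m₁) * t) * φ (ι Q m₂) * φ x := by rw [ha, neg_neg]
      _ = φ (ι Q m₁) * (-(t * φ (ι Q m₂))) * φ x := by
          simp only [mul_assoc, neg_mul, mul_neg]
      _ = φ (ι Q m₁) * (φ (ι Q m₂) * t) * φ x := by rw [hb]
      _ = φ (ι Q m₁) * φ (ι Q m₂) * (t * φ x) := by simp only [mul_assoc]
      _ = φ (ι Q m₁) * φ (ι Q m₂) * φ x * t := by rw [h]; simp only [mul_assoc]

end ParityElt

section AddHyp

variable {R : Type u} [CommRing R] {M : Type v} [AddCommGroup M] [Module R M]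
  (Q : QuadraticForm R M)

/-- `Q ⊥ H`. -/
noncomputable abbrev addHyp : QuadraticForm R (M × (R × R)) := Q.prod (hyp R)

theorem addHyp_apply (p : M × (R × R)) : addHyp Q p = Q p.1 + p.2.1 * p.2.2 := rfl

noncomputable def eH : CliffordAlgebra (addHyp Q) := ι (addHyp Q) (0, (1, 0))
noncomputable def fH : CliffordAlgebra (addHyp Q) := ι (addHyp Q) (0, (0, 1))

noncomputable def inlH : CliffordAlgebra Q →ₐ[R] CliffordAlgebra (addHyp Q) :=
  CliffordAlgebra.map (QuadraticMap.Isometry.inl Q (hyp R))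

theorem inlH_ι (v : M) : inlH Q (ι Q v) = ι (addHyp Q) (v, 0) := by
  rw [inlH, CliffordAlgebra.map_apply_ι]
  rfl

theorem eH_sq : eH Q * eH Q = 0 := by
  rw [eH, ι_sq_scalar, addHyp_apply]
  simp

theorem fH_sq : fH Q * fH Q = 0 := by
  rw [fH, ι_sq_scalar, addHyp_apply]
  simp

theorem eH_fH : eH Q * fH Q + fH Q * eH Q = 1 := by
  rw [eH, fH, ι_mul_ι_add_swap]
  have : QuadraticMap.polar (addHyp Q) (0, (1, 0)) (0, (0, 1)) = 1 := by
    simp [QuadraticMap.polar, addHyp_apply]
  rw [this, map_one]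

theorem fH_eH_eq : fH Q * eH Q = 1 - eH Q * fH Q := eq_sub_of_add_eq' (eH_fH Q)

theorem ι_inl_mul_eH (v : M) :
    ι (addHyp Q) (v, 0) * eH Q = -(eH Q * ι (addHyp Q) (v, 0)) := by
  rw [eH]
  apply ι_mul_ι_comm_of_isOrtho
  change addHyp Q ((v, 0) + (0, (1, 0))) = addHyp Q (v, 0) + addHyp Q (0, (1, 0))
  simp [addHyp_apply]

theorem ι_inl_mul_fH (v : M) :
    ι (addHyp Q) (v, 0) * fH Q = -(fH Q * ι (addHyp Q) (v, 0)) := by
  rw [fH]
  apply ι_mul_ι_comm_of_isOrtho
  change addHyp Q ((v, 0) + (0, (0, 1))) = addHyp Q (v, 0) + addHyp Q (0, (0, 1))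
  simp [addHyp_apply]

theorem ι_addHyp_eq (p : M × (R × R)) :
    ι (addHyp Q) p = ι (addHyp Q) (p.1, 0) + p.2.1 • eH Q + p.2.2 • fH Q := by
  rw [eH, fH, ← map_smul, ← map_smul, ← map_add, ← map_add]
  congr 1
  ext <;> simp

/-- the parity element of the hyperbolic plane. -/
noncomputable def pH : CliffordAlgebra (addHyp Q) := 1 - 2 • (eH Q * fH Q)

theorem pH_mem : pH Q ∈ evenOdd (addHyp Q) 0 := by
  refine Submodule.sub_mem _ (SetLike.one_mem_graded _) (Submodule.smul_of_tower_mem _ 2 ?_)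
  exact ι_mul_ι_mem_evenOdd_zero _ _ _

theorem eH_fH_eH : eH Q * fH Q * eH Q = eH Q := by
  rw [mul_assoc, fH_eH_eq, mul_sub, mul_one, ← mul_assoc, eH_sq, zero_mul, sub_zero]

theorem fH_eH_fH : fH Q * eH Q * fH Q = fH Q := by
  rw [fH_eH_eq, sub_mul, one_mul, mul_assoc, fH_sq, mul_zero, sub_zero]

theorem pH_sq : pH Q * pH Q = 1 := by
  have h : eH Q * fH Q * (eH Q * fH Q) = eH Q * fH Q := by
    rw [← mul_assoc, eH_fH_eH]
  calc pH Q * pH Q = 1 - 4 • (eH Q * fH Q) + 4 • (eH Q * fH Q * (eH Q * fH Q)) := by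
        simp only [pH, nsmul_eq_mul, Nat.cast_ofNat]; noncomm_ring
    _ = 1 := by rw [h]; abel

theorem eH_mul_pH : eH Q * pH Q = -(pH Q * eH Q) := by
  have h1 : eH Q * (eH Q * fH Q) = 0 := by rw [← mul_assoc, eH_sq, zero_mul]
  calc eH Q * pH Q = eH Q - 2 • (eH Q * (eH Q * fH Q)) := by
        simp only [pH, nsmul_eq_mul, Nat.cast_ofNat]; noncomm_ring
    _ = -(eH Q - 2 • (eH Q * fH Q * eH Q)) := by
        rw [h1, eH_fH_eH]; simp only [nsmul_eq_mul, Nat.cast_ofNat]; noncomm_ring
    _ = -(pH Q * eH Q) := by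
        simp only [pH, nsmul_eq_mul, Nat.cast_ofNat]; noncomm_ring

theorem fH_mul_pH : fH Q * pH Q = -(pH Q * fH Q) := by
  have h1 : eH Q * fH Q * fH Q = 0 := by rw [mul_assoc, fH_sq, mul_zero]
  calc fH Q * pH Q = fH Q - 2 • (fH Q * eH Q * fH Q) := by
        simp only [pH, nsmul_eq_mul, Nat.cast_ofNat]; noncomm_ring
    _ = -(fH Q - 2 • (eH Q * fH Q * fH Q)) := by
        rw [h1, fH_eH_fH]; simp only [nsmul_eq_mul, Nat.cast_ofNat]; noncomm_ring
    _ = -(pH Q * fH Q) := by
        simp only [pH, nsmul_eq_mul, Nat.cast_ofNat]; noncomm_ring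

theorem ι_inl_mul_pH (v : M) : ι (addHyp Q) (v, 0) * pH Q = pH Q * ι (addHyp Q) (v, 0) := by
  have h : ι (addHyp Q) (v, 0) * (eH Q * fH Q) = eH Q * fH Q * ι (addHyp Q) (v, 0) := by
    rw [← mul_assoc, ι_inl_mul_eH, neg_mul, mul_assoc, ι_inl_mul_fH, mul_neg, neg_neg, mul_assoc]
  simp only [pH, mul_sub, sub_mul, mul_one, one_mul, mul_smul_comm, smul_mul_assoc, h]

theorem star_pH : star (pH Q) = -pH Q := by
  have : star (eH Q * fH Q) = fH Q * eH Q := by
    rw [star_mul, eH, fH, star_ι, star_ι, neg_mul_neg]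
  rw [pH, star_sub, star_one, star_nsmul, this, fH_eH_eq]
  simp only [nsmul_eq_mul, Nat.cast_ofNat]
  noncomm_ring

variable {Q}

/-- the parity element of `Q ⊥ H` from one of `Q`. -/
theorem IsParityElt.prodHyp {w : CliffordAlgebra Q} (hw : IsParityElt Q w) :
    IsParityElt (addHyp Q) (inlH Q w * pH Q) := by
  have hWe : eH Q * inlH Q w = inlH Q w * eH Q :=
    commute_of_anti_of_even (inlH Q) (eH Q) (fun v => by rw [inlH_ι]; exact ι_inl_mul_eH Q v)
      w hw.even
  have hWf : fH Q * inlH Q w = inlH Q w * fH Q :=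
    commute_of_anti_of_even (inlH Q) (fH Q) (fun v => by rw [inlH_ι]; exact ι_inl_mul_fH Q v)
      w hw.even
  have hWp : pH Q * inlH Q w = inlH Q w * pH Q := by
    have h : eH Q * fH Q * inlH Q w = inlH Q w * (eH Q * fH Q) := by
      rw [mul_assoc, hWf, ← mul_assoc, hWe, mul_assoc]
    simp only [pH, mul_sub, sub_mul, mul_one, one_mul, mul_smul_comm, smul_mul_assoc, h]
  have hWv : ∀ v, ι (addHyp Q) (v, 0) * inlH Q w = -(inlH Q w * ι (addHyp Q) (v, 0)) := by
    intro v
    rw [← inlH_ι, ← map_mul, ← map_mul, hw.anti, map_neg]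
  refine ⟨?_, ?_, ?_⟩
  · have h1 : inlH Q w ∈ evenOdd (addHyp Q) 0 := map_mem_evenOdd _ 0 w hw.even
    have := SetLike.mul_mem_graded h1 (pH_mem Q)
    rwa [add_zero] at this
  · rw [mul_assoc, ← mul_assoc (pH Q), hWp, mul_assoc, pH_sq, mul_one, ← map_mul, hw.sq, map_one]
  · intro p
    rw [ι_addHyp_eq, add_mul, add_mul, mul_add, mul_add, neg_add, neg_add]
    congr 1
    · congr 1
      · rw [← mul_assoc, hWv, neg_mul, mul_assoc, ι_inl_mul_pH, ← mul_assoc]
      · rw [smul_mul_assoc, mul_smul_comm, ← smul_neg]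
        congr 1
        rw [← mul_assoc, hWe, mul_assoc, eH_mul_pH, mul_neg, ← mul_assoc]
    · rw [smul_mul_assoc, mul_smul_comm, ← smul_neg]
      congr 1
      rw [← mul_assoc, hWf, mul_assoc, fH_mul_pH, mul_neg, ← mul_assoc]

theorem star_addHyp {w : CliffordAlgebra Q} (hw : IsParityElt Q w) (s : R)
    (hs : star w = s • w) : star (inlH Q w * pH Q) = (-s) • (inlH Q w * pH Q) := by
  have hWe : eH Q * inlH Q w = inlH Q w * eH Q :=
    commute_of_anti_of_even (inlH Q) (eH Q) (fun v => by rw [inlH_ι]; exact ι_inl_mul_eH Q v)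
      w hw.even
  have hWf : fH Q * inlH Q w = inlH Q w * fH Q :=
    commute_of_anti_of_even (inlH Q) (fH Q) (fun v => by rw [inlH_ι]; exact ι_inl_mul_fH Q v)
      w hw.even
  have hWp : pH Q * inlH Q w = inlH Q w * pH Q := by
    have h : eH Q * fH Q * inlH Q w = inlH Q w * (eH Q * fH Q) := by
      rw [mul_assoc, hWf, ← mul_assoc, hWe, mul_assoc]
    simp only [pH, mul_sub, sub_mul, mul_one, one_mul, mul_smul_comm, smul_mul_assoc, h]
  have hsW : star (inlH Q w) = s • inlH Q w := by
    rw [inlH, star_map, hs, map_smul]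
  rw [star_mul, star_pH, hsW, neg_mul, mul_smul_comm, hWp, neg_smul]

end AddHyp

end Groth.Agent.Lib.Helper25.Cliff
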