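import Mathlib
import Groth.Agent.Lib.Helper25CliffN

/-!
# The canonical anti-involution on the odd part of the centre (odd rank) (helper25)
-/

set_option autoImplicit false
set_option linter.unusedSectionVars false
set_option linter.style.haveILetI false
universe u v u'

namespace Groth.Agent.Lib.Helper25.Cliff

open CliffordAlgebra TensorProduct QuadGrp

section HypSumParity

variable (R : Type u) [CommRing R]

theorem exists_parityElt_hypSum (m : ℕ) :
    ∃ w : CliffordAlgebra (hypSum R m), IsParityElt (hypSum R m) w ∧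
      star w = ((-1 : R) ^ m) • w := by
  induction m with
  | zero =>
    refine ⟨1, ⟨SetLike.one_mem_graded _, one_mul 1, fun v => ?_⟩, by simp⟩
    rw [Subsingleton.elim v 0, map_zero, zero_mul, mul_zero, neg_zero]
  | succ m ih =>
    obtain ⟨w, hw, hs⟩ := ih
    refine ⟨CliffordAlgebra.map (hypSumSucc R m).toIsometry (inlH _ w * pH _),
      hw.prodHyp.map (hypSumSucc R m), ?_⟩
    rw [star_map, star_addHyp hw _ hs, map_smul, pow_succ, mul_neg_one]

end HypSumParity

section OddCentral'

variable {R : Type u} [CommRing R] {M : Type v} [AddCommGroup M] [Module R M]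
  {Q : QuadraticForm R M} {w : CliffordAlgebra Q} (hw : IsParityElt Q w)

include hw

theorem inlMap_mul_self : inlMap Q w * inlMap Q w = 1 := by
  rw [← map_mul, hw.sq, map_one]

theorem ι_inl_mul_inlMap (v : M) :
    ι (addOne Q) (v, 0) * inlMap Q w = -(inlMap Q w * ι (addOne Q) (v, 0)) := by
  rw [← inlMap_ι, ← map_mul, ← map_mul, hw.anti, map_neg]

theorem eNew_mul_inlMap : eNew Q * inlMap Q w = inlMap Q w * eNew Q :=
  eNew_mul_inlMap_even Q w hw.even

/-- the odd central element attached to a parity element. -/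
noncomputable def oddCentral' (w : CliffordAlgebra Q) : CliffordAlgebra (addOne Q) :=
  inlMap Q w * eNew Q

theorem oddCentral'_mul_self : oddCentral' w * oddCentral' w = 1 := by
  rw [oddCentral', mul_assoc, ← mul_assoc (eNew Q), eNew_mul_inlMap hw, mul_assoc, eNew_mul_eNew,
    mul_one, inlMap_mul_self hw]

theorem oddCentral'_mem : oddCentral' w ∈ evenOdd (addOne Q) 1 := by
  have h1 : inlMap Q w ∈ evenOdd (addOne Q) 0 := map_mem_evenOdd _ 0 w hw.even
  have h2 : eNew Q ∈ evenOdd (addOne Q) 1 := ι_mem_evenOdd_one _ _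
  have := SetLike.mul_mem_graded h1 h2
  rwa [zero_add] at this

theorem oddCentral'_commute_ι (p : M × R) :
    oddCentral' w * ι (addOne Q) p = ι (addOne Q) p * oddCentral' w := by
  rw [ι_eq_add, mul_add, add_mul, mul_smul_comm, smul_mul_assoc]
  congr 1
  · rw [oddCentral', mul_assoc, ← neg_neg (eNew Q * _), ← ι_inl_mul_eNew, mul_neg, ← mul_assoc,
      ← neg_mul, ← ι_inl_mul_inlMap hw, mul_assoc]
  · rw [oddCentral', mul_assoc, eNew_mul_eNew, ← mul_assoc, eNew_mul_inlMap hw, mul_assoc,
      eNew_mul_eNew]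

theorem oddCentral'_mem_center :
    oddCentral' w ∈ Subalgebra.center R (CliffordAlgebra (addOne Q)) := by
  rw [Subalgebra.mem_center_iff]
  intro x
  induction x using CliffordAlgebra.induction with
  | algebraMap r => exact Algebra.commutes r _
  | ι p => exact (oddCentral'_commute_ι hw p).symm
  | mul x y hx hy => rw [mul_assoc, hy, ← mul_assoc, hx, mul_assoc]
  | add x y hx hy => rw [add_mul, mul_add, hx, hy]

theorem star_oddCentral' (s : R) (hs : star w = s • w) :
    star (oddCentral' w) = (-s) • oddCentral' w := by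
  have hsW : star (inlMap Q w) = s • inlMap Q w := by
    rw [inlMap, star_map, hs, map_smul]
  rw [oddCentral', star_mul, eNew, star_ι, hsW, neg_mul, mul_smul_comm, neg_smul]
  congr 2
  exact eNew_mul_inlMap hw

end OddCentral'

section Split

variable {A : Type u} [CommRing A] {M' : Type*} [AddCommGroup M'] [Module A M']

/-- In the split case there is an odd central element of square one on which `star` acts by
`(-1)^(m+1)`. -/
theorem exists_odd_central_star (m : ℕ) (Q' : QuadraticForm A M')
    (f : (addOne (hypSum A m)).IsometryEquiv Q') :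
    ∃ z : CliffordAlgebra Q', z ∈ evenOdd Q' 1 ∧ z ∈ Subalgebra.center A (CliffordAlgebra Q') ∧
      z * z = 1 ∧ star z = ((-1 : A) ^ (m + 1)) • z := by
  obtain ⟨w, hw, hs⟩ := exists_parityElt_hypSum A m
  refine ⟨equivOfIsometry f (oddCentral' w), ?_, ?_, ?_, ?_⟩
  · exact map_mem_evenOdd f.toIsometry 1 _ (oddCentral'_mem hw)
  · rw [Subalgebra.mem_center_iff]
    intro b
    obtain ⟨c, rfl⟩ := (equivOfIsometry f).surjective b
    rw [← map_mul, ← map_mul]
    congr 1
    exact (Subalgebra.mem_center_iff.mp (oddCentral'_mem_center hw)) c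
  · rw [← map_mul, oddCentral'_mul_self hw, map_one]
  · change star (CliffordAlgebra.map f.toIsometry (oddCentral' w)) = _
    rw [star_map, star_oddCentral' hw _ hs, map_smul, pow_succ, mul_neg_one]
    rfl

end Split


section SplitCentre

variable {A : Type u} [CommRing A] {M' : Type*} [AddCommGroup M'] [Module A M']

theorem even_center_mem_bot_of_isometry (m : ℕ) (Q' : QuadraticForm A M')
    (f : (addOne (hypSum A m)).IsometryEquiv Q') (y : CliffordAlgebra Q')
    (hy : y ∈ Subalgebra.center A (CliffordAlgebra Q')) (hy0 : y ∈ evenOdd Q' 0) :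
    y ∈ (⊥ : Subalgebra A (CliffordAlgebra Q')) := by
  obtain ⟨E⟩ := nonempty_even_addOne_hypSum_equiv A m
  let E' : ↥(CliffordAlgebra.even Q') ≃ₐ[A] Matrix (Fin (2 ^ m)) (Fin (2 ^ m)) A :=
    (evenEquivOfIsometry f.symm).trans E
  have h3 : (⟨y, mem_even_iff.mpr hy0⟩ : ↥(CliffordAlgebra.even Q')) ∈
      Subalgebra.center A ↥(CliffordAlgebra.even Q') := by
    rw [Subalgebra.mem_center_iff]
    intro c
    apply Subtype.ext
    exact (Subalgebra.mem_center_iff (R := A)).mp hy c.1
  rw [center_eq_bot_of_algEquiv_matrix E', Algebra.mem_bot] at h3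
  obtain ⟨a, ha⟩ := h3
  rw [Algebra.mem_bot]
  exact ⟨a, congrArg Subtype.val ha⟩

/-- in the split case `star` acts by `(-1)^(m+1)` on odd central elements. -/
theorem star_odd_central_of_isometry (m : ℕ) (Q' : QuadraticForm A M')
    (f : (addOne (hypSum A m)).IsometryEquiv Q') (y : CliffordAlgebra Q')
    (hy : y ∈ Subalgebra.center A (CliffordAlgebra Q')) (hy1 : y ∈ evenOdd Q' 1) :
    star y = ((-1 : A) ^ (m + 1)) • y := by
  obtain ⟨z, hz1, hzc, hzz, hzs⟩ := exists_odd_central_star m Q' f
  have hyz : y * z ∈ evenOdd Q' 0 := by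
    have := SetLike.mul_mem_graded hy1 hz1
    rwa [show (1 : ZMod 2) + 1 = 0 from rfl] at this
  obtain ⟨a, ha⟩ := Algebra.mem_bot.mp
    (even_center_mem_bot_of_isometry m Q' f _ (Subalgebra.mul_mem _ hy hzc) hyz)
  have hya : y = a • z := by
    calc y = y * z * z := by rw [mul_assoc, hzz, mul_one]
      _ = a • z := by rw [← ha, ← Algebra.smul_def]
  rw [hya, CliffordAlgebra.star_smul, hzs, smul_comm]

end SplitCentre

section Descent

variable {R : Type u} [CommRing R] {M : Type v} [AddCommGroup M] [Module R M] [Module.Free R M]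
  (A : Type u') [CommRing A] [Algebra R A] (Q : QuadraticForm R M)

theorem star_ofBCAux (x : CliffordAlgebra Q) :
    star (ofBCAux A Q x) = ofBCAux A Q (star x) := by
  refine star_map_of (ofBCAux A Q).toRingHom (fun r => ?_) (fun v => ?_) x
  · change star (ofBCAux A Q (algebraMap R _ r)) = ofBCAux A Q (algebraMap R _ r)
    rw [AlgHom.commutes,
      IsScalarTower.algebraMap_apply R A (CliffordAlgebra (baseChangeForm A Q)), star_algebraMap]
  · change star (ofBCAux A Q (ι Q v)) = -ofBCAux A Q (ι Q v)
    rw [ofBCAux_ι, star_ι]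

end Descent

section Main

variable {R : Type u} [CommRing R] {M : Type v} [AddCommGroup M] [Module R M] [Module.Free R M]
  [Module.Finite R M]

theorem star_odd_central (m : ℕ) (b : Module.Basis (Fin (2 * m + 1)) R M) (Q : QuadraticForm R M)
    (hQ : QuadGrp.IsSemiregular b (LinearEquiv.refl R R) Q) (z : CliffordAlgebra Q)
    (hz : z ∈ Subalgebra.center R (CliffordAlgebra Q)) (hz1 : z ∈ evenOdd Q 1) :
    star z = ((-1 : R) ^ (m + 1)) • z := by
  obtain ⟨R', iR, iA, hff, hfp, ⟨f⟩⟩ := exists_fppf_isometry_addOne_hypSum m b Q hQ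
  apply ofBCAux_injective R' Q
  rw [← star_ofBCAux, map_smul,
    star_odd_central_of_isometry m _ f.symm _ (ofBCAux_mem_center R' Q hz)
      (ofBCAux_mem_evenOdd R' Q 1 z hz1),
    ← algebraMap_smul R' ((-1 : R) ^ (m + 1)) (ofBCAux R' Q z), map_pow, map_neg, map_one]

end Main

end Groth.Agent.Lib.Helper25.Cliff
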