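import Mathlib
import Groth.Agent.Lib.Helper25CliffO

/-!
# Pin = Pin' in rank 3 mod 4 with 2 invertible (helper25)
-/

set_option autoImplicit false
set_option linter.unusedSectionVars false
set_option linter.style.haveILetI false
universe u v

namespace Groth.Agent.Lib.Helper25.Cliff

open CliffordAlgebra TensorProduct QuadGrp

section CentralParts

variable {R : Type u} [CommRing R] {M : Type v} [AddCommGroup M] [Module R M] [Module.Free R M]
  (Q : QuadraticForm R M)

/-- For `u` in the naive Clifford group, the homogeneous components of `u` are `u c₀`, `u c₁` with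
`c₀, c₁` central, `c₀ + c₁ = 1`. -/
theorem exists_central_parts {u : (CliffordAlgebra Q)ˣ} (hu : u ∈ GPin' Q) :
    ∃ c0 c1 : CliffordAlgebra Q, c0 ∈ Subalgebra.center R (CliffordAlgebra Q) ∧
      c1 ∈ Subalgebra.center R (CliffordAlgebra Q) ∧ c0 + c1 = 1 ∧
      (u : CliffordAlgebra Q) * c0 ∈ evenOdd Q 0 ∧ (u : CliffordAlgebra Q) * c1 ∈ evenOdd Q 1 := by
  set U : CliffordAlgebra Q := (u : CliffordAlgebra Q) with hU
  set u0 : CliffordAlgebra Q := (eoProj Q 0 U : CliffordAlgebra Q) with hu0
  set u1 : CliffordAlgebra Q := (eoProj Q 1 U : CliffordAlgebra Q) with hu1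
  have h0 : u0 ∈ evenOdd Q 0 := (eoProj Q 0 U).2
  have h1 : u1 ∈ evenOdd Q 1 := (eoProj Q 1 U).2
  have hsum : u0 + u1 = U := eoProj_zero_add_one Q U
  have key : ∀ (i : ZMod 2) (x : CliffordAlgebra Q), x ∈ evenOdd Q i →
      u0 * x = conjHom Q u x * u0 ∧ u1 * x = conjHom Q u x * u1 := by
    intro i x hx
    have hφ := conjHom_mem_evenOdd Q hu i x hx
    have hUx : U * x = conjHom Q u x * U := by
      rw [conjHom_apply, mul_assoc, Units.inv_mul, mul_one]
    have d0 : u0 * x - conjHom Q u x * u0 ∈ evenOdd Q i := by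
      refine Submodule.sub_mem _ ?_ ?_
      · have := SetLike.mul_mem_graded h0 hx
        rwa [zero_add] at this
      · have := SetLike.mul_mem_graded hφ h0
        rwa [add_zero] at this
    have d1 : u1 * x - conjHom Q u x * u1 ∈ evenOdd Q (i + 1) := by
      refine Submodule.sub_mem _ ?_ ?_
      · have := SetLike.mul_mem_graded h1 hx
        rwa [add_comm] at this
      · exact SetLike.mul_mem_graded hφ h1
    have hz : (u0 * x - conjHom Q u x * u0) + (u1 * x - conjHom Q u x * u1) = 0 := by
      rw [← hsum, add_mul, mul_add] at hUx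
      rw [sub_add_sub_comm, hUx, sub_self]
    have e0 : u0 * x - conjHom Q u x * u0 = -(u1 * x - conjHom Q u x * u1) :=
      eq_neg_of_add_eq_zero_left hz
    have z0 : u0 * x - conjHom Q u x * u0 = 0 := by
      have hd : Disjoint (evenOdd Q i) (evenOdd Q (i + 1)) := by
        fin_cases i
        · exact (evenOdd_isCompl Q).disjoint
        · exact (evenOdd_isCompl Q).disjoint.symm
      exact (Submodule.disjoint_def.mp hd) _ d0 (e0 ▸ Submodule.neg_mem _ d1)
    have z1 : u1 * x - conjHom Q u x * u1 = 0 := by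
      rw [z0] at e0
      exact neg_eq_zero.mp e0.symm
    exact ⟨sub_eq_zero.mp z0, sub_eq_zero.mp z1⟩
  have key' : ∀ x : CliffordAlgebra Q,
      u0 * x = conjHom Q u x * u0 ∧ u1 * x = conjHom Q u x * u1 := by
    intro x
    have hx := eoProj_zero_add_one Q x
    have k0 := key 0 _ (eoProj Q 0 x).2
    have k1 := key 1 _ (eoProj Q 1 x).2
    constructor
    · rw [← hx, mul_add, map_add, add_mul, k0.1, k1.1]
    · rw [← hx, mul_add, map_add, add_mul, k0.2, k1.2]
  have hc : ∀ y : CliffordAlgebra Q, (∀ x, y * x = conjHom Q u x * y) →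
      (↑u⁻¹ : CliffordAlgebra Q) * y ∈ Subalgebra.center R (CliffordAlgebra Q) := by
    intro y hy
    rw [Subalgebra.mem_center_iff]
    intro x
    rw [mul_assoc, hy x, conjHom_apply]
    simp only [← mul_assoc]
    rw [Units.inv_mul, one_mul]
  refine ⟨(↑u⁻¹ : CliffordAlgebra Q) * u0, (↑u⁻¹ : CliffordAlgebra Q) * u1,
    hc u0 fun x => (key' x).1, hc u1 fun x => (key' x).2, ?_, ?_, ?_⟩
  · rw [← mul_add, hsum, Units.inv_mul]
  · rw [← mul_assoc, Units.mul_inv, one_mul]; exact h0
  · rw [← mul_assoc, Units.mul_inv, one_mul]; exact h1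

end CentralParts

section StarMem

variable {R : Type u} [CommRing R] {M : Type v} [AddCommGroup M] [Module R M]
  {Q : QuadraticForm R M}

theorem star_mem_evenOdd {x : CliffordAlgebra Q} {i : ZMod 2} (hx : x ∈ evenOdd Q i) :
    star x ∈ evenOdd Q i := by
  rw [star_def]
  exact (reverse_mem_evenOdd_iff (Q := Q)).2 ((involute_mem_evenOdd_iff (Q := Q)).2 hx)

end StarMem

section PinEq

variable {R : Type u} [CommRing R] [Invertible (2 : R)] {M : Type v} [AddCommGroup M] [Module R M]
  [Module.Free R M] [Module.Finite R M]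

theorem isLocHomog_of_mem_Pin' (m : ℕ) (hm : Odd m) (b : Module.Basis (Fin (2 * m + 1)) R M)
    (Q : QuadraticForm R M) (hQ : QuadGrp.IsSemiregular b (LinearEquiv.refl R R) Q)
    {u : (CliffordAlgebra Q)ˣ} (hu : u ∈ GPin' Q)
    (hn : star (u : CliffordAlgebra Q) * u = 1) : IsLocHomog Q (u : CliffordAlgebra Q) := by
  obtain ⟨c0, c1, hc0, hc1, hsum, he, ho⟩ := exists_central_parts Q hu
  obtain ⟨U, hU⟩ : ∃ U : CliffordAlgebra Q, U = (u : CliffordAlgebra Q) := ⟨_, rfl⟩
  have hUinv' : (↑u⁻¹ : CliffordAlgebra Q) * U = 1 := by rw [hU, Units.inv_mul]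
  rw [← hU] at he ho hn
  -- star is the identity on the centre
  have hstar : ∀ c ∈ Subalgebra.center R (CliffordAlgebra Q), star c = c := by
    intro c hc
    have hz0 := center_eoProj Q hc 0
    have hz1 := center_eoProj Q hc 1
    obtain ⟨a, ha⟩ := Algebra.mem_bot.mp
      (even_center_mem_bot m b Q hQ _ hz0 (eoProj Q 0 c).2)
    have h1 := star_odd_central m b Q hQ _ hz1 (eoProj Q 1 c).2
    have hpow : ((-1 : R) ^ (m + 1)) = 1 := by
      obtain ⟨k, rfl⟩ := hm
      rw [show 2 * k + 1 + 1 = 2 * (k + 1) by ring, pow_mul]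
      simp
    rw [hpow, one_smul] at h1
    conv_lhs => rw [← eoProj_zero_add_one Q c, star_add, h1, ← ha, star_algebraMap]
    rw [ha]
    exact eoProj_zero_add_one Q c
  have hcomm01 : c0 * c1 = c1 * c0 := ((Subalgebra.mem_center_iff (R := R)).mp hc0 c1).symm
  -- c0 * c1 = 0 from the norm condition
  have h2 : (2 : R) • (c0 * c1) = 0 := by
    have e1 : star (U * c0) * (U * c1) = c0 * c1 := by
      rw [star_mul, hstar c0 hc0, mul_assoc, ← mul_assoc (star U), hn, one_mul]
    have e2 : star (U * c1) * (U * c0) = c0 * c1 := by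
      rw [star_mul, hstar c1 hc1, mul_assoc, ← mul_assoc (star U), hn, one_mul, hcomm01]
    have e3 : star (U * c0) * (U * c0) + star (U * c1) * (U * c1) ∈ evenOdd Q 0 := by
      refine Submodule.add_mem _ ?_ ?_
      · have h1 : star (U * c0) ∈ evenOdd Q 0 := star_mem_evenOdd he
        have := SetLike.mul_mem_graded h1 he
        rwa [add_zero] at this
      · have h1 : star (U * c1) ∈ evenOdd Q 1 := star_mem_evenOdd ho
        have := SetLike.mul_mem_graded h1 ho
        rwa [show (1 : ZMod 2) + 1 = 0 from rfl] at this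
    have e4 : star (U * c0) * (U * c1) + star (U * c1) * (U * c0) ∈ evenOdd Q 1 := by
      refine Submodule.add_mem _ ?_ ?_
      · have h1 : star (U * c0) ∈ evenOdd Q 0 := star_mem_evenOdd he
        have := SetLike.mul_mem_graded h1 ho
        rwa [zero_add] at this
      · have h1 : star (U * c1) ∈ evenOdd Q 1 := star_mem_evenOdd ho
        have := SetLike.mul_mem_graded h1 he
        rwa [add_zero] at this
    have e5 : (star (U * c0) * (U * c0) + star (U * c1) * (U * c1)) +
        (star (U * c0) * (U * c1) + star (U * c1) * (U * c0)) = 1 := by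
      have : U = U * c0 + U * c1 := by rw [← mul_add, hsum, mul_one]
      have h' : star (U * c0 + U * c1) * (U * c0 + U * c1) = 1 := by rw [← this]; exact hn
      rw [← h', star_add]
      noncomm_ring
    have e6 : star (U * c0) * (U * c1) + star (U * c1) * (U * c0) ∈ evenOdd Q 0 := by
      have : star (U * c0) * (U * c1) + star (U * c1) * (U * c0) =
          1 - (star (U * c0) * (U * c0) + star (U * c1) * (U * c1)) := by
        rw [← e5]; abel
      rw [this]
      exact Submodule.sub_mem _ (SetLike.one_mem_graded _) e3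
    have e7 := eq_zero_of_mem_even_of_mem_odd Q e6 e4
    rw [e1, e2, ← two_smul R] at e7
    exact e7
  have h3 : c0 * c1 = 0 := by
    have := congrArg (fun x => (⅟(2 : R)) • x) h2
    simpa [smul_smul] using this
  have hidem : c0 * c0 = c0 := by
    have : c0 * (c0 + c1) = c0 := by rw [hsum, mul_one]
    rw [mul_add, h3, add_zero] at this
    exact this
  -- c0 is fixed by the grade involution
  have hinv : involute c0 = c0 := by
    have hU0 : involute (U * c0) = U * c0 := involute_eq_of_mem_even he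
    have hU1 : involute (U * c1) = -(U * c1) := involute_eq_of_mem_odd ho
    have hUinv : involute U = U * (c0 - c1) := by
      have : U = U * c0 + U * c1 := by rw [← mul_add, hsum, mul_one]
      conv_lhs => rw [this, map_add, hU0, hU1]
      rw [mul_sub, sub_eq_add_neg]
    have h4 : U * c0 = U * ((c0 - c1) * involute c0) := by
      conv_lhs => rw [← hU0, map_mul, hUinv, mul_assoc]
    have h5 : c0 = (c0 - c1) * involute c0 := by
      have : (↑u⁻¹ : CliffordAlgebra Q) * (U * c0) =
          (↑u⁻¹ : CliffordAlgebra Q) * (U * ((c0 - c1) * involute c0)) :=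
        congrArg (fun x => (↑u⁻¹ : CliffordAlgebra Q) * x) h4
      rw [← mul_assoc, ← mul_assoc, hUinv', one_mul, one_mul] at this
      exact this
    have h6 : (c0 - c1) * (c0 - c1) = 1 := by
      have : (c0 - c1) * (c0 - c1) = (c0 + c1) * (c0 + c1) - 2 • (c0 * c1) - 2 • (c1 * c0) := by
        noncomm_ring
      rw [this, hsum, ← hcomm01, h3]
      simp
    have h7 : involute c0 = (c0 - c1) * c0 := by
      have : (c0 - c1) * c0 = (c0 - c1) * ((c0 - c1) * involute c0) :=
        congrArg (fun x => (c0 - c1) * x) h5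
      rw [← mul_assoc, h6, one_mul] at this
      exact this.symm
    rw [h7, sub_mul, hidem, ← hcomm01, h3, sub_zero]
  have hc0even : c0 ∈ evenOdd Q 0 := by
    -- the odd part of c0 is killed by 2
    obtain ⟨x0, hx0⟩ : ∃ x0 : CliffordAlgebra Q, x0 = (eoProj Q 0 c0 : CliffordAlgebra Q) :=
      ⟨_, rfl⟩
    obtain ⟨x1, hx1⟩ : ∃ x1 : CliffordAlgebra Q, x1 = (eoProj Q 1 c0 : CliffordAlgebra Q) :=
      ⟨_, rfl⟩
    have hx1m : x1 ∈ evenOdd Q 1 := hx1 ▸ (eoProj Q 1 c0).2
    have hx0m : x0 ∈ evenOdd Q 0 := hx0 ▸ (eoProj Q 0 c0).2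
    have hdec : x0 + x1 = c0 := by rw [hx0, hx1]; exact eoProj_zero_add_one Q c0
    have h8 : involute c0 = x0 - x1 := by
      conv_lhs => rw [← hdec, map_add, involute_eq_of_mem_even hx0m, involute_eq_of_mem_odd hx1m]
      rw [sub_eq_add_neg]
    have h9 : (2 : R) • x1 = 0 := by
      have : x0 - x1 = x0 + x1 := by rw [← h8, hinv, hdec]
      rw [two_smul]
      have h10 : x1 + x1 = (x0 + x1) - (x0 - x1) := by abel
      rw [h10, this, sub_self]
    have h11 : x1 = 0 := by
      have := congrArg (fun x => (⅟(2 : R)) • x) h9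
      simpa [smul_smul] using this
    rw [← hdec, h11, add_zero]
    exact hx0m
  obtain ⟨e, he'⟩ := Algebra.mem_bot.mp (even_center_mem_bot m b Q hQ _ hc0 hc0even)
  have hc1e : c1 = algebraMap R (CliffordAlgebra Q) (1 - e) := by
    rw [map_sub, map_one, he']
    exact eq_sub_of_add_eq' hsum
  refine ⟨e, ?_, ?_, ?_⟩
  · change e * e = e
    apply algebraMap_injective Q
    rw [map_mul, he', hidem]
  · rw [← hU, Algebra.smul_def, he', ← (Subalgebra.mem_center_iff (R := R)).mp hc0 U]
    exact he
  · rw [← hU, Algebra.smul_def, ← hc1e, ← (Subalgebra.mem_center_iff (R := R)).mp hc1 U]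
    exact ho

end PinEq

end Groth.Agent.Lib.Helper25.Cliff
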