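import Mathlib
import Groth.Agent.Lib.Helper25CliffP

/-!
# `GPin' = Z^× · GSpin` over a local ring in odd rank (helper25)
-/

set_option autoImplicit false
set_option linter.unusedSectionVars false
set_option linter.style.haveILetI false
universe u v

namespace Groth.Agent.Lib.Helper25.Cliff

open CliffordAlgebra TensorProduct QuadGrp

section Factor

variable {R : Type u} [CommRing R] {M : Type v} [AddCommGroup M] [Module R M]
  (Q : QuadraticForm R M)

theorem central_unit_mem_GPin' (Z : (CliffordAlgebra Q)ˣ)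
    (hZ : (Z : CliffordAlgebra Q) ∈ Subalgebra.center R (CliffordAlgebra Q)) : Z ∈ GPin' Q := by
  rw [mem_GPin']
  ext x
  rw [Submodule.mem_smul_pointwise_iff_exists]
  have hconj : ∀ y : CliffordAlgebra Q, ConjAct.toConjAct Z • y = y := by
    intro y
    rw [ConjAct.units_smul_def]
    change (Z : CliffordAlgebra Q) * y * ↑Z⁻¹ = y
    rw [← (Subalgebra.mem_center_iff (R := R)).mp hZ y, mul_assoc, Units.mul_inv, mul_one]
  constructor
  · rintro ⟨y, hy, rfl⟩
    rw [hconj]; exact hy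
  · intro hx
    exact ⟨x, hx, hconj x⟩

/-- If a point of the naive Clifford group factors as (even element) × (central element), it is a
central unit times a point of `GSpin`. -/
theorem exists_center_mul_gSpin_of_factor {u' : (CliffordAlgebra Q)ˣ} (hu' : u' ∈ GPin' Q)
    (a ζ : CliffordAlgebra Q) (ha : a ∈ evenOdd Q 0)
    (hζ : ζ ∈ Subalgebra.center R (CliffordAlgebra Q)) (h : (u' : CliffordAlgebra Q) = a * ζ) :
    ∃ z : CliffordAlgebra Q, z ∈ Subalgebra.center R (CliffordAlgebra Q) ∧ IsUnit z ∧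
      ∃ u ∈ GSpin Q, (u' : CliffordAlgebra Q) = z * u := by
  have hζc : ∀ x, x * ζ = ζ * x := (Subalgebra.mem_center_iff (R := R)).mp hζ
  have haζ : ζ * a = (u' : CliffordAlgebra Q) := by rw [← hζc, h]
  -- `a` and `ζ` are units
  let ua : (CliffordAlgebra Q)ˣ :=
    ⟨a, ζ * ↑u'⁻¹, by rw [← mul_assoc, ← h, Units.mul_inv],
      by rw [← hζc, mul_assoc, haζ, Units.inv_mul]⟩
  let uζ : (CliffordAlgebra Q)ˣ :=
    ⟨ζ, ↑u'⁻¹ * a, by rw [← hζc, mul_assoc, ← h, Units.inv_mul]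
      , by rw [mul_assoc, ← h, Units.inv_mul]⟩
  have huζ : uζ ∈ GPin' Q := central_unit_mem_GPin' Q uζ hζ
  have hprod : u' = ua * uζ := Units.ext h
  have hua : ua ∈ GPin' Q := by
    have : ua = u' * uζ⁻¹ := by rw [hprod, mul_assoc, mul_inv_cancel, mul_one]
    rw [this]
    exact (GPin' Q).mul_mem hu' ((GPin' Q).inv_mem huζ)
  refine ⟨ζ, hζ, ⟨uζ, rfl⟩, ua, ⟨⟨hua, ?_⟩, ?_⟩, ?_⟩
  · refine (mem_LH Q ua).mpr ⟨1, IsIdempotentElem.one, ?_, ?_⟩
    · rw [one_smul]; exact ha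
    · rw [sub_self, zero_smul]; exact Submodule.zero_mem _
  · exact (mem_evenUnits Q ua).mpr ha
  · exact haζ.symm

end Factor


section Local

variable {R : Type u} [CommRing R] [IsLocalRing R] {M : Type v} [AddCommGroup M] [Module R M]
  [Module.Free R M] [Module.Finite R M]

theorem inv_mem_center {C : Type*} [Ring C] [Algebra R C] (z : Cˣ)
    (hz : (z : C) ∈ Subalgebra.center R C) : (↑z⁻¹ : C) ∈ Subalgebra.center R C := by
  rw [Subalgebra.mem_center_iff] at hz ⊢
  intro x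
  calc x * ↑z⁻¹ = ↑z⁻¹ * (z * x) * ↑z⁻¹ := by rw [← mul_assoc, Units.inv_mul, one_mul]
    _ = ↑z⁻¹ * (x * z) * ↑z⁻¹ := by rw [hz x]
    _ = ↑z⁻¹ * x := by rw [mul_assoc, mul_assoc, Units.mul_inv, mul_one]

theorem exists_factor_of_mem_GPin' (m : ℕ) (b : Module.Basis (Fin (2 * m + 1)) R M)
    (Q : QuadraticForm R M) (hQ : QuadGrp.IsSemiregular b (LinearEquiv.refl R R) Q)
    {u' : (CliffordAlgebra Q)ˣ} (hu' : u' ∈ GPin' Q) :
    ∃ a ζ : CliffordAlgebra Q, a ∈ evenOdd Q 0 ∧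
      ζ ∈ Subalgebra.center R (CliffordAlgebra Q) ∧ (u' : CliffordAlgebra Q) = a * ζ := by
  obtain ⟨z0, hz0, hz0u, hgen⟩ := exists_odd_central_unit m b Q hQ
  obtain ⟨c0, c1, hc0, hc1, hsum, he, ho⟩ := exists_central_parts Q hu'
  obtain ⟨U, hU⟩ : ∃ U : CliffordAlgebra Q, U = (u' : CliffordAlgebra Q) := ⟨_, rfl⟩
  rw [← hU] at he ho ⊢
  -- c0 = p + q z0
  obtain ⟨p, hp⟩ := Algebra.mem_bot.mp
    (even_center_mem_bot m b Q hQ _ (center_eoProj Q hc0 0) (eoProj Q 0 c0).2)
  obtain ⟨q, hq⟩ := hgen _ ⟨center_eoProj Q hc0 1, (eoProj Q 1 c0).2⟩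
  have hc0eq : c0 = p • 1 + q • z0 := by
    rw [← eoProj_zero_add_one Q c0, ← hp, hq, Algebra.algebraMap_eq_smul_one]
  obtain ⟨a, ha⟩ : ∃ a : CliffordAlgebra Q, a = U * c0 := ⟨_, rfl⟩
  obtain ⟨b', hb'⟩ : ∃ b' : CliffordAlgebra Q, b' = U * c1 := ⟨_, rfl⟩
  rw [← ha] at he
  rw [← hb'] at ho
  have hab : a + b' = U := by rw [ha, hb', ← mul_add, hsum, mul_one]
  have hz0c : ∀ x, x * z0 = z0 * x := (Subalgebra.mem_center_iff (R := R)).mp hz0.1
  -- a = (a + b') (p + q z0)
  have hexp : a = (p • a + q • (b' * z0)) + (q • (a * z0) + p • b') := by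
    have h1 : a = (a + b') * (p • 1 + q • z0) := by rw [hab, ← hc0eq, ha]
    refine h1.trans ?_
    simp only [mul_add, add_mul, mul_smul_comm, mul_one, smul_add]
    abel
  have hE : p • a + q • (b' * z0) ∈ evenOdd Q 0 := by
    refine Submodule.add_mem _ (Submodule.smul_mem _ _ he) (Submodule.smul_mem _ _ ?_)
    have := SetLike.mul_mem_graded ho hz0.2
    rwa [show (1 : ZMod 2) + 1 = 0 from rfl] at this
  have hO : q • (a * z0) + p • b' ∈ evenOdd Q 1 := by
    refine Submodule.add_mem _ (Submodule.smul_mem _ _ ?_) (Submodule.smul_mem _ _ ho)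
    have := SetLike.mul_mem_graded he hz0.2
    rwa [zero_add] at this
  have hO0 : q • (a * z0) + p • b' = 0 := by
    refine eq_zero_of_mem_even_of_mem_odd Q ?_ hO
    have : q • (a * z0) + p • b' = a - (p • a + q • (b' * z0)) :=
      eq_sub_of_add_eq' hexp.symm
    rw [this]
    exact Submodule.sub_mem _ he hE
  have hE0 : a = p • a + q • (b' * z0) := hexp.trans (by rw [hO0, add_zero])
  rcases IsLocalRing.isUnit_or_isUnit_one_sub_self p with hpu | hpu
  · -- p is a unit: b' = -(p⁻¹ q) • (a z0)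
    obtain ⟨s, hs⟩ := hpu.exists_left_inv
    have hb'eq : b' = -((s * q) • (a * z0)) := by
      have h1 : p • b' = -(q • (a * z0)) := eq_neg_of_add_eq_zero_right hO0
      have h2 := congrArg (fun x => s • x) h1
      simp only [smul_smul, hs, one_smul, smul_neg] at h2
      exact h2
    refine ⟨a, 1 - (s * q) • z0, he, ?_, ?_⟩
    · exact Subalgebra.sub_mem _ (Subalgebra.one_mem _) (Subalgebra.smul_mem _ hz0.1 _)
    · rw [← hab, hb'eq, mul_sub, mul_one, mul_smul_comm, sub_eq_add_neg]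
  · -- 1 - p is a unit: a = ((1-p)⁻¹ q) • (b' z0)
    obtain ⟨s, hs⟩ := hpu.exists_left_inv
    have haeq : a = (s * q) • (b' * z0) := by
      have h1 : (1 - p) • a = q • (b' * z0) := by
        rw [sub_smul, one_smul]
        exact sub_eq_of_eq_add' hE0
      have h2 := congrArg (fun x => s • x) h1
      simp only [smul_smul, hs, one_smul] at h2
      exact h2
    obtain ⟨uz, huz⟩ := hz0u
    have hinvc := inv_mem_center (R := R) uz (huz ▸ hz0.1)
    have hinvodd : (↑uz⁻¹ : CliffordAlgebra Q) ∈ evenOdd Q 1 := by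
      have := isLocHomog_inv_aux Q uz 0 (by rw [zero_smul]; exact Submodule.zero_mem _)
        (by rw [sub_zero, one_smul, huz]; exact hz0.2)
      simpa using this.2
    refine ⟨b' * ↑uz⁻¹, z0 * (1 + (s * q) • z0), ?_, ?_, ?_⟩
    · have := SetLike.mul_mem_graded ho hinvodd
      rwa [show (1 : ZMod 2) + 1 = 0 from rfl] at this
    · exact Subalgebra.mul_mem _ hz0.1
        (Subalgebra.add_mem _ (Subalgebra.one_mem _) (Subalgebra.smul_mem _ hz0.1 _))
    · rw [mul_assoc, ← mul_assoc (↑uz⁻¹ : CliffordAlgebra Q), ← huz, Units.inv_mul, one_mul,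
        mul_add, mul_one, mul_smul_comm, huz, ← haeq, add_comm, hab]

theorem exists_center_mul_gSpin (m : ℕ) (b : Module.Basis (Fin (2 * m + 1)) R M)
    (Q : QuadraticForm R M) (hQ : QuadGrp.IsSemiregular b (LinearEquiv.refl R R) Q)
    (u' : (CliffordAlgebra Q)ˣ) (hu' : u' ∈ GPin' Q) :
    ∃ z : CliffordAlgebra Q, z ∈ Subalgebra.center R (CliffordAlgebra Q) ∧ IsUnit z ∧
      ∃ u ∈ GSpin Q, (u' : CliffordAlgebra Q) = z * u := by
  obtain ⟨a, ζ, ha, hζ, h⟩ := exists_factor_of_mem_GPin' m b Q hQ hu'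
  exact exists_center_mul_gSpin_of_factor Q hu' a ζ ha hζ h

end Local

end Groth.Agent.Lib.Helper25.Cliff
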