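import Mathlib
import Groth.Agent.Lib.Helper25CliffQ

/-!
# The centre of the even Clifford algebra in the split case (helper25)
-/

set_option autoImplicit false
set_option linter.unusedSectionVars false
set_option linter.style.haveILetI false
universe u v

namespace Groth.Agent.Lib.Helper25.Cliff

open CliffordAlgebra TensorProduct QuadGrp

section CenterEven

variable {R : Type u} [CommRing R] {M : Type v} [AddCommGroup M] [Module R M]
  [Module.Free R M] [Module.Finite R M] {Q : QuadraticForm R M}
  {ε : CliffordAlgebra Q} (hε : IsParityIdem Q ε)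

/-- If `C(Q)` has trivial centre then the centre of `C₀(Q ⊥ H)` is spanned by the parity idempotent
`nextIdem` and its complement. -/
theorem center_even_prod_hyp (hZ : Subalgebra.center R (CliffordAlgebra Q) = ⊥)
    (z : ↥(CliffordAlgebra.even (Q.prod (hyp R))))
    (hz : z ∈ Subalgebra.center R ↥(CliffordAlgebra.even (Q.prod (hyp R)))) :
    ∃ a b : R, z.1 = a • nextIdem hε + b • (1 - nextIdem hε) := by
  have h1 : evenHypEquiv hε z ∈
      Subalgebra.center R (CliffordAlgebra Q × CliffordAlgebra Q) := by
    rw [Subalgebra.mem_center_iff] at hz ⊢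
    intro c
    obtain ⟨c', rfl⟩ := (evenHypEquiv hε).surjective c
    rw [← map_mul, ← map_mul, hz c']
  have hx : (evenHypEquiv hε z).1 ∈ Subalgebra.center R (CliffordAlgebra Q) := by
    rw [Subalgebra.mem_center_iff] at h1 ⊢
    intro c
    exact congrArg Prod.fst (h1 (c, 0))
  have hy : (evenHypEquiv hε z).2 ∈ Subalgebra.center R (CliffordAlgebra Q) := by
    rw [Subalgebra.mem_center_iff] at h1 ⊢
    intro c
    exact congrArg Prod.snd (h1 (0, c))
  rw [hZ, Algebra.mem_bot] at hx hy
  obtain ⟨a, ha⟩ := hx
  obtain ⟨b, hb⟩ := hy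
  refine ⟨a, b, ?_⟩
  -- compare under hypEquiv'
  apply (hypEquiv' hε).injective
  have hz0 := hypEquiv'_mem hε 0 z.1 (mem_even_iff.mp z.2)
  rw [mem_dgrade_zero] at hz0
  have e00 : hypEquiv' hε z.1 0 0 = algebraMap R _ a := ha.symm
  have e11 : hypEquiv' hε z.1 1 1 = algebraMap R _ b := hb.symm
  rw [map_add, map_smul, map_smul, map_sub, map_one, hypEquiv'_nextIdem]
  ext i j
  fin_cases i <;> fin_cases j
  · simp [e00, Matrix.single, Algebra.algebraMap_eq_smul_one]
  · simp [hz0.1, Matrix.single]
  · simp [hz0.2, Matrix.single]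
  · simp [e11, Matrix.single, Algebra.algebraMap_eq_smul_one]

end CenterEven

section HypSumCenter

variable (R : Type u) [CommRing R]

/-- On `hypSum R (k+1)` there is a parity idempotent spanning, with its complement, the centre of
the even part. -/
theorem exists_parityIdem_center_hypSum (k : ℕ) :
    ∃ ε : CliffordAlgebra (hypSum R (k + 1)), IsParityIdem (hypSum R (k + 1)) ε ∧
      ∀ z : ↥(CliffordAlgebra.even (hypSum R (k + 1))),
        z ∈ Subalgebra.center R ↥(CliffordAlgebra.even (hypSum R (k + 1))) →
        ∃ a b : R, z.1 = a • ε + b • (1 - ε) := by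
  obtain ⟨D⟩ := nonempty_splitData_hypSum R k
  have hZ : Subalgebra.center R (CliffordAlgebra (hypSum R k)) = ⊥ :=
    center_eq_bot_of_algEquiv_matrix D.e
  let f := hypSumSucc R k
  refine ⟨CliffordAlgebra.map f.toIsometry (nextIdem D.hε),
    (isParityIdem_nextIdem D.hε).map f, fun z hz => ?_⟩
  -- transport `z` back
  set z' := (evenEquivOfIsometry f).symm z with hz'
  have hz'c : z' ∈ Subalgebra.center R ↥(CliffordAlgebra.even ((hypSum R k).prod (hyp R))) := by
    rw [Subalgebra.mem_center_iff] at hz ⊢
    intro c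
    apply (evenEquivOfIsometry f).injective
    rw [map_mul, map_mul, hz', AlgEquiv.apply_symm_apply, hz]
  obtain ⟨a, b, hab⟩ := center_even_prod_hyp D.hε hZ z' hz'c
  refine ⟨a, b, ?_⟩
  have : z.1 = CliffordAlgebra.map f.toIsometry z'.1 := by
    rw [← evenEquivOfIsometry_coe, hz', AlgEquiv.apply_symm_apply]
  rw [this, hab, map_add, map_smul, map_smul, map_sub, map_one]

end HypSumCenter

end Groth.Agent.Lib.Helper25.Cliff
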