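import Mathlib
import Groth.Agent.Lib.Helper25CliffR

/-!
# Local splitting rings; base change of isometries (helper25)
-/

set_option autoImplicit false
set_option linter.unusedSectionVars false
set_option linter.style.haveILetI false
universe u v u'

namespace Groth.Agent.Lib.Helper25.Cliff

open CliffordAlgebra TensorProduct QuadGrp Matrix
open Groth.Agent.Lib.Helper19QSplit

section LocalSplit

variable {R : Type u} [CommRing R] [IsLocalRing R] {M : Type v} [AddCommGroup M] [Module R M]
  [Module.Free R M] [Module.Finite R M]

/-- Over a local ring a regular form of even rank splits over a local faithfully flat extension. -/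
theorem exists_local_isometry_hypSum (m : ℕ) (hV : Module.finrank R M = 2 * m)
    (Q : QuadraticForm R M) (hQ : Function.Bijective (QuadraticMap.polarBilin Q)) :
    ∃ (R' : Type u) (_ : CommRing R') (_ : IsLocalRing R') (_ : Algebra R R'),
      Module.FaithfullyFlat R R' ∧
      Nonempty ((baseChangeForm R' Q).IsometryEquiv (hypSum R' m)) := by
  classical
  let b : Module.Basis (Fin m ⊕ Fin m) R M :=
    (Module.finBasisOfFinrankEq R M hV).reindex
      ((finCongr (two_mul m)).trans finSumFinEquiv.symm)
  have hdet := isUnit_det_bmat_add_transpose b Q hQ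
  obtain ⟨B, _, _, hE, ⟨q, hq, hqp⟩, ⟨H⟩⟩ :=
    exists_etale_hypSys (bmat b Q) hdet m (by simp; omega) (IsLocalRing.maximalIdeal R)
  let R' := Localization.AtPrime q
  have hflatB : Module.Flat R B := Algebra.Smooth.flat R B
  have hflatR' : Module.Flat B R' := IsLocalization.flat R' q.primeCompl
  haveI : Module.Flat R R' := Module.Flat.trans R B R'
  haveI : IsLocalHom (algebraMap R R') := by
    refine ((IsLocalRing.local_hom_TFAE (algebraMap R R')).out 0 4).mpr ?_
    rw [IsScalarTower.algebraMap_eq R B R', ← Ideal.comap_comap]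
    have : Ideal.comap (algebraMap B R') (IsLocalRing.maximalIdeal R') = q :=
      IsLocalization.AtPrime.comap_maximalIdeal R' q
    rw [this, hqp]
  have hff : Module.FaithfullyFlat R R' := Module.FaithfullyFlat.of_flat_of_isLocalHom
  refine ⟨R', inferInstance, inferInstance, inferInstance, hff, ?_⟩
  have e : ((bmat b Q).map (algebraMap R B)).map (algebraMap B R') =
      (bmat b Q).map (algebraMap R R') := by
    rw [Matrix.map_map, IsScalarTower.algebraMap_eq R B R']
    rfl
  let H' : HypSys ((bmat b Q).map (algebraMap R R')) m := e ▸ H.map (algebraMap B R')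
  refine nonempty_isometryEquiv_of_matrix b Q R' (hypSum R' m) H'.toMatrix
    H'.isUnit_det_toMatrix (pairEquiv R' m) (fun x => ?_)
  rw [H'.qf_toMatrix_mulVec, hypSum_apply]
  rfl

end LocalSplit

section IsoBC

variable {R : Type u} [CommRing R] {M : Type v} [AddCommGroup M] [Module R M] [Module.Free R M]
  (A : Type u') [CommRing A] [Algebra R A] (Q : QuadraticForm R M)

/-- uniqueness of the base-changed form. -/
theorem baseChangeForm_ext (Q' : QuadraticForm A (A ⊗[R] M))
    (h1 : ∀ m, Q' ((1 : A) ⊗ₜ[R] m) = algebraMap R A (Q m)) : Q' = baseChangeForm A Q := by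
  classical
  let b := Module.Free.chooseBasis R M
  letI : LinearOrder (Module.Free.ChooseBasisIndex R M) := linearOrderOfSTO (WellOrderingRel)
  refine quadraticMap_ext_of_basis (Algebra.TensorProduct.basis A b) (fun i => ?_) (fun i j => ?_)
  · rw [Algebra.TensorProduct.basis_apply, h1, HalfDisc.baseChangeForm_one_tmul]
  · rw [Algebra.TensorProduct.basis_apply, Algebra.TensorProduct.basis_apply,
      HalfDisc.polar_baseChangeForm]
    unfold QuadraticMap.polar
    rw [← TensorProduct.tmul_add, h1, h1, h1, map_sub, map_sub]

variable {Q}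

/-- base change of an isometry. -/
theorem baseChange_mem_O {g : M ≃ₗ[R] M} (hg : g ∈ O Q) :
    g.baseChange R A M M ∈ O (baseChangeForm A Q) := by
  rw [mem_O]
  intro v
  have : (baseChangeForm A Q).comp (g.baseChange R A M M).toLinearMap = baseChangeForm A Q := by
    apply baseChangeForm_ext
    intro m
    rw [QuadraticMap.comp_apply]
    change baseChangeForm A Q (g.baseChange R A M M (1 ⊗ₜ m)) = _
    rw [LinearEquiv.baseChange_tmul, HalfDisc.baseChangeForm_one_tmul, hg m]
  exact congrArg (fun q => q v) this

theorem ofBCAux_map {g : M ≃ₗ[R] M} (hg : g ∈ O Q) (x : CliffordAlgebra Q) :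
    ofBCAux A Q (CliffordAlgebra.map (isometryOfMem Q g hg) x) =
      CliffordAlgebra.map (isometryOfMem (baseChangeForm A Q) (g.baseChange R A M M)
        (baseChange_mem_O A hg)) (ofBCAux A Q x) := by
  induction x using CliffordAlgebra.induction with
  | algebraMap r =>
    rw [AlgHom.commutes, AlgHom.commutes,
      IsScalarTower.algebraMap_apply R A (CliffordAlgebra (baseChangeForm A Q)), AlgHom.commutes]
  | ι v =>
    rw [CliffordAlgebra.map_apply_ι, ofBCAux_ι, ofBCAux_ι, CliffordAlgebra.map_apply_ι]
    congr 1
  | mul x y hx hy => rw [map_mul, map_mul, hx, hy, map_mul, map_mul]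
  | add x y hx hy => rw [map_add, map_add, hx, hy, map_add, map_add]

end IsoBC

end Groth.Agent.Lib.Helper25.Cliff
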