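import Mathlib
import Groth.Agent.Lib.Helper25CliffS

/-!
# Reflections and the Dickson dichotomy (helper25)
-/

set_option autoImplicit false
set_option linter.unusedSectionVars false
set_option linter.style.haveILetI false
universe u v u'

namespace Groth.Agent.Lib.Helper25.Cliff

open CliffordAlgebra TensorProduct QuadGrp Matrix

section Refl

variable {R : Type u} [CommRing R] {M : Type v} [AddCommGroup M] [Module R M]
  (Q : QuadraticForm R M)

/-- The reflection in a vector `v` with `c * Q v = 1`: `w ↦ w - c B(w, v) v`. -/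
noncomputable def reflLin (c : R) (v : M) : M →ₗ[R] M :=
  LinearMap.id - (c • (QuadraticMap.polarBilin Q).flip v).smulRight v

theorem reflLin_apply (c : R) (v w : M) :
    reflLin Q c v w = w - (c * QuadraticMap.polar Q w v) • v := by
  simp [reflLin]

theorem polar_reflLin {c : R} {v : M} (hc : c * Q v = 1) (w : M) :
    QuadraticMap.polar Q (reflLin Q c v w) v = - QuadraticMap.polar Q w v := by
  rw [reflLin_apply, QuadraticMap.polar_sub_left, QuadraticMap.polar_smul_left,
    QuadraticMap.polar_self]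
  simp only [smul_eq_mul, nsmul_eq_mul, Nat.cast_ofNat]
  linear_combination (-2 * QuadraticMap.polar Q w v) * hc

theorem reflLin_involutive {c : R} {v : M} (hc : c * Q v = 1) :
    Function.Involutive (reflLin Q c v) := by
  intro w
  rw [reflLin_apply, polar_reflLin Q hc, reflLin_apply, mul_neg, neg_smul]
  abel

theorem map_reflLin {c : R} {v : M} (hc : c * Q v = 1) (w : M) :
    Q (reflLin Q c v w) = Q w := by
  rw [reflLin_apply, sub_eq_add_neg, ← neg_smul, QuadraticMap.map_add Q, QuadraticMap.map_smul,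
    QuadraticMap.polar_smul_right]
  simp only [smul_eq_mul]
  linear_combination (c * QuadraticMap.polar Q w v * QuadraticMap.polar Q w v) * hc

/-- The reflection as a linear equivalence. -/
noncomputable def reflEquiv {c : R} {v : M} (hc : c * Q v = 1) : M ≃ₗ[R] M :=
  LinearEquiv.ofInvolutive (reflLin Q c v) (reflLin_involutive Q hc)

theorem reflEquiv_apply {c : R} {v : M} (hc : c * Q v = 1) (w : M) :
    reflEquiv Q hc w = w - (c * QuadraticMap.polar Q w v) • v := reflLin_apply Q c v w

theorem reflEquiv_mem_O {c : R} {v : M} (hc : c * Q v = 1) : reflEquiv Q hc ∈ O Q := by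
  rw [mem_O]
  intro w
  exact map_reflLin Q hc w

/-- The Clifford automorphism of a reflection is the twisted conjugation by `ι v`. -/
theorem map_reflEquiv_mul_ι {c : R} {v : M} (hc : c * Q v = 1) (x : CliffordAlgebra Q) :
    CliffordAlgebra.map (isometryOfMem Q (reflEquiv Q hc) (reflEquiv_mem_O Q hc)) x * ι Q v =
      ι Q v * involute x := by
  induction x using CliffordAlgebra.induction with
  | algebraMap r =>
    rw [AlgHom.commutes, AlgHom.commutes]
    exact Algebra.commutes r _
  | ι w =>
    rw [CliffordAlgebra.map_apply_ι, involute_ι, isometryOfMem_apply, reflEquiv_apply, map_sub,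
      map_smul, sub_mul, smul_mul_assoc, ι_sq_scalar, mul_neg]
    have h := ι_mul_ι_add_swap (Q := Q) w v
    rw [Algebra.smul_def, ← map_mul (algebraMap R (CliffordAlgebra Q)), mul_right_comm, hc,
      one_mul, ← h]
    abel
  | mul x y hx hy =>
    rw [map_mul, map_mul, mul_assoc, hy, ← mul_assoc, hx, mul_assoc]
  | add x y hx hy =>
    rw [map_add, map_add, add_mul, hx, hy, mul_add]

theorem map_reflEquiv_mul_ι_of_even {c : R} {v : M} (hc : c * Q v = 1) (x : CliffordAlgebra Q)
    (hx : x ∈ evenOdd Q 0) :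
    CliffordAlgebra.map (isometryOfMem Q (reflEquiv Q hc) (reflEquiv_mem_O Q hc)) x * ι Q v =
      ι Q v * x := by
  rw [map_reflEquiv_mul_ι, involute_eq_of_mem_even hx]

/-- over a local ring a regular form of positive rank represents a unit. -/
theorem exists_isUnit_apply [IsLocalRing R] [Module.Free R M] [Module.Finite R M]
    (hpos : 0 < Module.finrank R M) (hQ : IsRegular Q) : ∃ v, IsUnit (Q v) := by
  by_contra h
  push Not at h
  have hmem : ∀ v, Q v ∈ IsLocalRing.maximalIdeal R := fun v =>
    (IsLocalRing.mem_maximalIdeal _).mpr (h v)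
  let b := Module.finBasis R M
  obtain ⟨x, hx⟩ := hQ.2 (b.coord ⟨0, hpos⟩)
  have h1 : QuadraticMap.polar Q x (b ⟨0, hpos⟩) = 1 := by
    have := congrArg (fun f => f (b ⟨0, hpos⟩)) hx
    simpa using this
  have h2 : QuadraticMap.polar Q x (b ⟨0, hpos⟩) ∈ IsLocalRing.maximalIdeal R := by
    unfold QuadraticMap.polar
    exact Ideal.sub_mem _ (Ideal.sub_mem _ (hmem _) (hmem _)) (hmem _)
  rw [h1] at h2
  exact (Ideal.ne_top_iff_one _).mp (IsLocalRing.maximalIdeal.isMaximal R).ne_top h2

end Refl

section Dickson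

variable {R : Type u} [CommRing R] {M : Type v} [AddCommGroup M] [Module R M] [Module.Free R M]
  [Module.Finite R M] (A : Type u') [CommRing A] [Algebra R A] {Q : QuadraticForm R M}

/-- The isometry equivalence underlying an element of `O Q`. -/
def isoEquivOfMem (g : M ≃ₗ[R] M) (hg : g ∈ O Q) : Q.IsometryEquiv Q :=
  { g with map_app' := hg }

theorem isoEquivOfMem_toIsometry (g : M ≃ₗ[R] M) (hg : g ∈ O Q) :
    (isoEquivOfMem g hg).toIsometry = isometryOfMem Q g hg := rfl

/-- The Clifford automorphism induced by the base change of an isometry. -/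
noncomputable def bcMap (g : M ≃ₗ[R] M) (hg : g ∈ O Q) :
    CliffordAlgebra (baseChangeForm A Q) →ₐ[A] CliffordAlgebra (baseChangeForm A Q) :=
  CliffordAlgebra.map (isometryOfMem (baseChangeForm A Q) (g.baseChange R A M M)
    (baseChange_mem_O A hg))

theorem ofBCAux_map' (g : M ≃ₗ[R] M) (hg : g ∈ O Q) (x : CliffordAlgebra Q) :
    ofBCAux A Q (CliffordAlgebra.map (isometryOfMem Q g hg) x) = bcMap A g hg (ofBCAux A Q x) :=
  ofBCAux_map A hg x

theorem map_mul_apply (g h : M ≃ₗ[R] M) (hg : g ∈ O Q) (hh : h ∈ O Q) (x : CliffordAlgebra Q) :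
    CliffordAlgebra.map (isometryOfMem Q (g * h) ((O Q).mul_mem hg hh)) x =
      CliffordAlgebra.map (isometryOfMem Q g hg) (CliffordAlgebra.map (isometryOfMem Q h hh) x) := by
  have : CliffordAlgebra.map (isometryOfMem Q (g * h) ((O Q).mul_mem hg hh)) =
      (CliffordAlgebra.map (isometryOfMem Q g hg)).comp
        (CliffordAlgebra.map (isometryOfMem Q h hh)) := by
    apply CliffordAlgebra.hom_ext; ext m; simp [isometryOfMem]
  rw [this, AlgHom.comp_apply]

theorem bcMap_mul_apply (g h : M ≃ₗ[R] M) (hg : g ∈ O Q) (hh : h ∈ O Q)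
    (y : CliffordAlgebra (baseChangeForm A Q)) :
    bcMap A (g * h) ((O Q).mul_mem hg hh) y = bcMap A g hg (bcMap A h hh y) := by
  induction y using ofBCAux_span_induction A Q with
  | h a x =>
    rw [map_smul, map_smul, map_smul, ← ofBCAux_map', ← ofBCAux_map', ← ofBCAux_map',
      map_mul_apply]
  | hadd y y' hy hy' => rw [map_add, map_add, map_add, hy, hy']

/-- `ofBCAux` carries the centre of the even part into the centre of the even part. -/
theorem ofBCAux_commute_even (z : ↥(CliffordAlgebra.even Q))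
    (hz : z ∈ Subalgebra.center R ↥(CliffordAlgebra.even Q))
    (y : ↥(CliffordAlgebra.even (baseChangeForm A Q))) :
    ofBCAux A Q z.1 * y.1 = y.1 * ofBCAux A Q z.1 := by
  have := commute_bcEven_of_mem_baseChange A Q ⊤ z.1 (fun p _ => by
    have := (Subalgebra.mem_center_iff (R := R)).mp hz p
    exact (congrArg Subtype.val this).symm) ((bcEven A Q).symm y)
    (by rw [Submodule.baseChange_top]; trivial)
  rwa [AlgEquiv.apply_symm_apply] at this

theorem ofBCAux_mem_center_even (z : ↥(CliffordAlgebra.even Q))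
    (hz : z ∈ Subalgebra.center R ↥(CliffordAlgebra.even Q)) :
    (⟨ofBCAux A Q z.1, mem_even_iff.mpr (ofBCAux_mem_evenOdd A Q 0 z.1 (mem_even_iff.mp z.2))⟩ :
      ↥(CliffordAlgebra.even (baseChangeForm A Q))) ∈
      Subalgebra.center A ↥(CliffordAlgebra.even (baseChangeForm A Q)) := by
  rw [Subalgebra.mem_center_iff]
  intro y
  apply Subtype.ext
  exact (ofBCAux_commute_even A z hz y).symm

/-- **The Dickson condition, tested on a parity idempotent over a faithfully flat extension.** -/
theorem isDicksonTrivial_iff [Module.FaithfullyFlat R A]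
    {ε : CliffordAlgebra (baseChangeForm A Q)} (hε : IsParityIdem (baseChangeForm A Q) ε)
    (hZ : ∀ z : ↥(CliffordAlgebra.even (baseChangeForm A Q)),
      z ∈ Subalgebra.center A ↥(CliffordAlgebra.even (baseChangeForm A Q)) →
      ∃ a b : A, z.1 = a • ε + b • (1 - ε))
    (g : M ≃ₗ[R] M) (hg : g ∈ O Q) :
    IsDicksonTrivial Q g hg ↔ bcMap A g hg ε = ε := by
  constructor
  · intro hD
    have ht := even_symm_mem_baseChange_center A Q _ hε.mem_center_even
    have key : ∀ t ∈ (Subalgebra.toSubmodule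
        (Subalgebra.center R ↥(CliffordAlgebra.even Q))).baseChange A,
        bcMap A g hg (bcEven A Q t).1 = (bcEven A Q t).1 := by
      rintro _ ⟨s, rfl⟩
      induction s using TensorProduct.induction_on with
      | zero => simp
      | tmul a p =>
        rw [LinearMap.baseChange_tmul, bcEven_tmul_coe, Submodule.subtype_apply, map_smul,
          ← ofBCAux_map', hD p.1 p.2]
      | add s s' hs hs' =>
        rw [map_add, map_add]
        change bcMap A g hg ((bcEven A Q _).1 + (bcEven A Q _).1) =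
          ((bcEven A Q _).1 + (bcEven A Q _).1)
        rw [map_add, hs, hs']
    have := key _ ht
    rwa [AlgEquiv.apply_symm_apply] at this
  · intro hfix z hz
    obtain ⟨a, b, hab⟩ := hZ _ (ofBCAux_mem_center_even A z hz)
    change ofBCAux A Q z.1 = _ at hab
    apply ofBCAux_injective A Q
    rw [ofBCAux_map', hab, map_add, map_smul, map_smul, map_sub, map_one, hfix]

end Dickson

section Dichotomy

variable {R : Type u} [CommRing R] {M : Type v} [AddCommGroup M] [Module R M] [Module.Free R M]
  {Q : QuadraticForm R M}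

theorem isParityIdem_one_sub {ε : CliffordAlgebra Q} (hε : IsParityIdem Q ε) :
    IsParityIdem Q (1 - ε) where
  even := Submodule.sub_mem _ (SetLike.one_mem_graded _) hε.even
  idem := hε.one_sub_idem
  comm := fun v => by rw [hε.comm', sub_sub_cancel]

theorem ι_ne_zero_of_isUnit [Nontrivial R] {v : M} (hv : IsUnit (Q v)) : ι Q v ≠ 0 := by
  intro h
  have h1 : algebraMap R (CliffordAlgebra Q) (Q v) = 0 := by
    rw [← ι_sq_scalar, h, zero_mul]
  have h2 : Q v = 0 := algebraMap_injective Q (by rw [h1, map_zero])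
  rw [h2] at hv
  exact not_isUnit_zero hv

theorem IsParityIdem.smul_eq_zero {ε : CliffordAlgebra Q} (hε : IsParityIdem Q ε) {v : M}
    (hv : IsUnit (Q v)) {r : R} (h : r • ε = 0) : r = 0 := by
  have h1 : r • (1 - ε) = 0 := by
    have : ι Q v * (r • ε) * ι Q v = 0 := by rw [h, mul_zero, zero_mul]
    rw [mul_smul_comm, hε.comm, smul_mul_assoc, mul_assoc, ι_sq_scalar, ← Algebra.commutes,
      ← Algebra.smul_def, smul_comm] at this
    obtain ⟨u, hu⟩ := hv
    have h2 := congrArg (fun y => (↑u⁻¹ : R) • y) this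
    simp only [smul_zero] at h2
    rwa [← hu, smul_smul, Units.inv_mul, one_smul] at h2
  have h2 : r • (1 : CliffordAlgebra Q) = 0 := by
    have : r • (1 : CliffordAlgebra Q) = r • ε + r • (1 - ε) := by
      rw [← smul_add, add_sub_cancel]
    rw [this, h, h1, add_zero]
  rw [← Algebra.algebraMap_eq_smul_one] at h2
  exact algebraMap_injective Q (by rw [h2, map_zero])

theorem eq_zero_or_one_of_idem [IsLocalRing R] {a : R} (h : a * a = a) : a = 0 ∨ a = 1 := by
  have h0 : a * (1 - a) = 0 := by rw [mul_sub, mul_one, h, sub_self]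
  rcases IsLocalRing.isUnit_or_isUnit_one_sub_self a with hu | hu
  · right
    have := hu.mul_right_eq_zero.mp h0
    exact (sub_eq_zero.mp this).symm
  · left
    exact hu.mul_left_eq_zero.mp h0

/-- **Dichotomy**: over a local ring, an isometry carries the parity idempotent to itself or to
its complement. -/
theorem IsParityIdem.map_eq_or [IsLocalRing R] {ε : CliffordAlgebra Q} (hε : IsParityIdem Q ε)
    (hZ : ∀ z : ↥(CliffordAlgebra.even Q), z ∈ Subalgebra.center R ↥(CliffordAlgebra.even Q) →
      ∃ a b : R, z.1 = a • ε + b • (1 - ε))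
    {v : M} (hv : IsUnit (Q v)) (σ : Q.IsometryEquiv Q) :
    CliffordAlgebra.map σ.toIsometry ε = ε ∨ CliffordAlgebra.map σ.toIsometry ε = 1 - ε := by
  have hη := hε.map σ
  obtain ⟨a, b, hab⟩ := hZ _ hη.mem_center_even
  change CliffordAlgebra.map σ.toIsometry ε = _ at hab
  have hidem := hη.idem
  rw [hab] at hidem
  have e1 : (a • ε + b • (1 - ε)) * (a • ε + b • (1 - ε)) =
      (a * a) • ε + (b * b) • (1 - ε) := by
    rw [add_mul, mul_add, mul_add, smul_mul_smul_comm, smul_mul_smul_comm, smul_mul_smul_comm,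
      smul_mul_smul_comm, hε.idem, hε.one_sub_idem, hε.mul_one_sub, hε.one_sub_mul, smul_zero,
      smul_zero, add_zero, zero_add]
  rw [e1] at hidem
  have ha : a * a = a := by
    have h1 := congrArg (fun y => y * ε) hidem
    simp only [add_mul, smul_mul_assoc, hε.idem, hε.one_sub_mul, smul_zero, add_zero] at h1
    have h2 : (a * a - a) • ε = 0 := by rw [sub_smul, h1, sub_self]
    exact sub_eq_zero.mp (hε.smul_eq_zero hv h2)
  have hb : b * b = b := by
    have h1 := congrArg (fun y => y * (1 - ε)) hidem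
    simp only [add_mul, smul_mul_assoc, hε.one_sub_idem, hε.mul_one_sub, smul_zero, zero_add] at h1
    have h2 : (b * b - b) • (1 - ε) = 0 := by rw [sub_smul, h1, sub_self]
    exact sub_eq_zero.mp ((isParityIdem_one_sub hε).smul_eq_zero hv h2)
  have hne := ι_ne_zero_of_isUnit (Q := Q) hv
  rcases eq_zero_or_one_of_idem ha with rfl | rfl <;>
    rcases eq_zero_or_one_of_idem hb with rfl | rfl
  · exfalso
    rw [zero_smul, zero_smul, add_zero] at hab
    have := hη.comm v
    rw [hab, mul_zero, sub_zero, one_mul] at this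
    exact hne this.symm
  · right
    rw [hab, zero_smul, one_smul, zero_add]
  · left
    rw [hab, zero_smul, one_smul, add_zero]
  · exfalso
    rw [one_smul, one_smul, add_sub_cancel] at hab
    have := hη.comm v
    rw [hab, mul_one, sub_self, zero_mul] at this
    exact hne this

theorem IsParityIdem.ne_one_sub [Nontrivial R] {ε : CliffordAlgebra Q} (hε : IsParityIdem Q ε)
    {v : M} (hv : IsUnit (Q v)) : ε ≠ 1 - ε := by
  intro h
  have h0 : ε = 0 := by
    have := hε.mul_one_sub
    rwa [← h, hε.idem] at this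
  have := hε.comm v
  rw [h0, mul_zero, sub_zero, one_mul] at this
  exact ι_ne_zero_of_isUnit hv this.symm

/-- transport of the description of the centre of the even part along an isometry. -/
theorem center_desc_of_isometry {M' : Type*} [AddCommGroup M'] [Module R M']
    {Q' : QuadraticForm R M'} (f : Q.IsometryEquiv Q') {ε : CliffordAlgebra Q'}
    (hZ : ∀ z : ↥(CliffordAlgebra.even Q'), z ∈ Subalgebra.center R ↥(CliffordAlgebra.even Q') →
      ∃ a b : R, z.1 = a • ε + b • (1 - ε))
    (z : ↥(CliffordAlgebra.even Q)) (hz : z ∈ Subalgebra.center R ↥(CliffordAlgebra.even Q)) :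
    ∃ a b : R, z.1 = a • CliffordAlgebra.map f.symm.toIsometry ε +
      b • (1 - CliffordAlgebra.map f.symm.toIsometry ε) := by
  have h1 : evenEquivOfIsometry f z ∈ Subalgebra.center R ↥(CliffordAlgebra.even Q') := by
    rw [Subalgebra.mem_center_iff] at hz ⊢
    intro y
    obtain ⟨x, rfl⟩ := (evenEquivOfIsometry f).surjective y
    rw [← map_mul, ← map_mul, hz x]
  obtain ⟨a, b, hab⟩ := hZ _ h1
  refine ⟨a, b, ?_⟩
  rw [evenEquivOfIsometry_coe] at hab
  have h2 := congrArg (CliffordAlgebra.map f.symm.toIsometry) hab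
  rw [map_add, map_smul, map_smul, map_sub, map_one] at h2
  rw [← h2]
  exact ((equivOfIsometry f).symm_apply_apply z.1).symm

end Dichotomy

section Index

variable {R : Type u} [CommRing R] [IsLocalRing R] {M : Type v} [AddCommGroup M] [Module R M]
  [Module.Free R M] [Module.Finite R M]

/-- The data produced by a local splitting: the Dickson condition is the fixing of a parity
idempotent, and every isometry fixes it or swaps it with its complement; a reflection swaps. -/
theorem exists_dickson_test (m : ℕ) (hm : 1 ≤ m) (hM : Module.finrank R M = 2 * m)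
    (Q : QuadraticForm R M) (hQ : IsRegular Q) :
    ∃ (R' : Type u) (_ : CommRing R') (_ : Algebra R R')
      (ε : CliffordAlgebra (baseChangeForm R' Q)),
      ε ≠ 1 - ε ∧
      (∀ (g : M ≃ₗ[R] M) (hg : g ∈ O Q), IsDicksonTrivial Q g hg ↔ bcMap R' g hg ε = ε) ∧
      (∀ (g : M ≃ₗ[R] M) (hg : g ∈ O Q), bcMap R' g hg ε = ε ∨ bcMap R' g hg ε = 1 - ε) ∧
      (∀ (v : M) (c : R) (hc : c * Q v = 1),
        bcMap R' (reflEquiv Q hc) (reflEquiv_mem_O Q hc) ε = 1 - ε) := by
  obtain ⟨k, rfl⟩ : ∃ k, m = k + 1 := ⟨m - 1, by omega⟩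
  obtain ⟨R', iR, iL, iA, hff, ⟨f⟩⟩ := exists_local_isometry_hypSum (k + 1) hM Q hQ
  obtain ⟨ε₀, hε₀, hZ₀⟩ := exists_parityIdem_center_hypSum (R := R') k
  have hε := hε₀.map f.symm
  have hZ := center_desc_of_isometry f hZ₀
  obtain ⟨v₀, hv₀⟩ := exists_isUnit_apply Q (by omega) hQ
  have hv' : IsUnit (baseChangeForm R' Q ((1 : R') ⊗ₜ[R] v₀)) := by
    rw [HalfDisc.baseChangeForm_one_tmul]
    exact hv₀.map _
  refine ⟨R', iR, iA, CliffordAlgebra.map f.symm.toIsometry ε₀, hε.ne_one_sub hv',
    fun g hg => isDicksonTrivial_iff R' hε hZ g hg,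
    fun g hg => hε.map_eq_or hZ hv' (isoEquivOfMem _ (baseChange_mem_O R' hg)),
    fun v c hc => ?_⟩
  -- the reflection swaps
  rcases hε.map_eq_or hZ hv' (isoEquivOfMem _ (baseChange_mem_O R' (reflEquiv_mem_O Q hc)))
    with h | h
  · exfalso
    have hD := (isDicksonTrivial_iff R' hε hZ _ (reflEquiv_mem_O Q hc)).mpr h
    have hcomm : ∀ p ∈ Subalgebra.toSubmodule (Subalgebra.center R ↥(CliffordAlgebra.even Q)),
        ι Q v * p.1 = p.1 * ι Q v := by
      intro p hp
      have h1 := map_reflEquiv_mul_ι_of_even Q hc p.1 (mem_even_iff.mp p.2)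
      rw [hD p hp] at h1
      exact h1.symm
    have ht := even_symm_mem_baseChange_center R' Q _ hε.mem_center_even
    have h2 := commute_bcEven_of_mem_baseChange R' Q _ (ι Q v) hcomm _ ht
    rw [AlgEquiv.apply_symm_apply] at h2
    have hodd : ofBCAux R' Q (ι Q v) ∈ evenOdd (baseChangeForm R' Q) 1 :=
      ofBCAux_mem_evenOdd R' Q 1 _ (ι_mem_evenOdd_one Q v)
    have h3 := hε.eq_zero_of_odd_of_commute _ hodd h2
    rw [ofBCAux_ι] at h3
    have hvu : IsUnit (baseChangeForm R' Q ((1 : R') ⊗ₜ[R] v)) := by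
      rw [HalfDisc.baseChangeForm_one_tmul]
      exact (IsUnit.of_mul_eq_one _ (by rw [mul_comm]; exact hc)).map _
    exact ι_ne_zero_of_isUnit hvu h3
  · exact h

/-- **Index two**: over a local ring, the Dickson-trivial isometries of a regular form of even
positive rank have index two in the orthogonal group. -/
theorem index_SOeven_subgroupOf (m : ℕ) (hm : 1 ≤ m) (hM : Module.finrank R M = 2 * m)
    (Q : QuadraticForm R M) (hQ : IsRegular Q) :
    ((SOeven Q).subgroupOf (O Q)).index = 2 := by
  obtain ⟨R', iR, iA, ε, hne, hiff, hdich, hrefl⟩ := exists_dickson_test m hm hM Q hQ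
  obtain ⟨v, hv⟩ := exists_isUnit_apply Q (by omega) hQ
  obtain ⟨u, hu⟩ := hv
  have hc : (↑u⁻¹ : R) * Q v = 1 := by rw [← hu, Units.inv_mul]
  have hmem : ∀ (g : M ≃ₗ[R] M) (hg : g ∈ O Q), g ∈ SOeven Q ↔ bcMap R' g hg ε = ε := by
    intro g hg
    rw [← hiff g hg]
    exact ⟨fun ⟨_, h⟩ => h, fun h => ⟨hg, h⟩⟩
  rw [Subgroup.index_eq_two_iff]
  refine ⟨⟨reflEquiv Q hc, reflEquiv_mem_O Q hc⟩, fun b => ?_⟩
  rw [Subgroup.mem_subgroupOf, Subgroup.mem_subgroupOf]
  change Xor' (b.1 * reflEquiv Q hc ∈ SOeven Q) (b.1 ∈ SOeven Q)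
  rw [hmem _ ((O Q).mul_mem b.2 (reflEquiv_mem_O Q hc)), hmem _ b.2,
    bcMap_mul_apply R' _ _ b.2 (reflEquiv_mem_O Q hc), hrefl v _ hc, map_sub, map_one]
  rcases hdich b.1 b.2 with h | h
  · right
    refine ⟨h, ?_⟩
    rw [h]
    exact fun h' => hne h'.symm
  · left
    refine ⟨?_, ?_⟩
    · rw [h, sub_sub_cancel]
    · rw [h]
      exact fun h' => hne h'.symm

end Index

end Groth.Agent.Lib.Helper25.Cliff
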