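import Mathlib
import Groth.Agent.Lib.Helper25CliffT

/-!
# Skolem–Noether over local rings and lifting isometries to the Clifford group (helper25)
-/

set_option autoImplicit false
set_option linter.unusedSectionVars false
set_option linter.style.haveILetI false
universe u v u'

namespace Groth.Agent.Lib.Helper25.Cliff

section SN

open Module LinearMap LinearEquiv

variable {R : Type*} [CommRing R] {V : Type*} [AddCommGroup V] [Module R V]

theorem exists_conj_of_unimodular (f : End R V ≃ₐ[R] End R V) (u : V) (v : Dual R V)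
    (huv : v u = 1) (z : V) (d : Dual R V) (hd : d (f (smulRight v u) z) = 1) :
    ∃ T : V ≃ₗ[R] V, ∀ A : End R V, f A = T.toLinearMap ∘ₗ A ∘ₗ T.symm.toLinearMap := by
  obtain ⟨T, hTdef⟩ : ∃ T : V →ₗ[R] V, T = applyₗ z ∘ₗ f.toLinearMap ∘ₗ smulRightₗ v := ⟨_, rfl⟩
  have hT x : T x = f (smulRight v x) z := by rw [hTdef]; rfl
  have this A x : T (A x) = f A (T x) := by
    simp only [hT, ← End.mul_apply, ← map_mul]
    congr; ext; simp
  have surj : Function.Surjective T := fun w ↦ by
    exact ⟨f.symm (smulRight d w) u, by simp [this, hT, hd]⟩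
  have inj : Function.Injective T := fun x y hxy ↦ by
    have h_smul : smulRightₗ v x = smulRightₗ v y := by
      apply f.injective <| LinearMap.ext fun z ↦ ?_
      obtain ⟨w, rfl⟩ := surj z
      simp_rw [← this, smulRightₗ_apply_apply, _root_.map_smul, hxy]
    simpa [huv] using congr((fun f ↦ f u) $h_smul)
  refine ⟨.ofBijective T ⟨inj, surj⟩, fun A ↦ ?_⟩
  apply LinearMap.ext
  intro x
  obtain ⟨w, rfl⟩ := surj x
  have h1 : (LinearEquiv.ofBijective T ⟨inj, surj⟩).symm (T w) = w :=
    (LinearEquiv.ofBijective T ⟨inj, surj⟩).symm_apply_apply w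
  rw [← this, LinearMap.comp_apply, LinearMap.comp_apply, LinearEquiv.coe_coe, LinearEquiv.coe_coe,
    h1]
  rfl

theorem exists_unimodular_data [IsLocalRing R] [Module.Free R V] [Module.Finite R V]
    [Nontrivial V] (f : End R V ≃ₐ[R] End R V) :
    ∃ (u : V) (v : Dual R V) (z : V) (d : Dual R V),
      v u = 1 ∧ d (f (smulRight v u) z) = 1 := by
  classical
  let b := Module.finBasis R V
  have hpos : 0 < Module.finrank R V := (Module.finrank_pos_iff_of_free R V).mpr inferInstance
  let i₀ : Fin (Module.finrank R V) := ⟨0, hpos⟩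
  refine ⟨b i₀, b.coord i₀, ?_⟩
  by_contra hcon
  push Not at hcon
  have hvu : b.coord i₀ (b i₀) = 1 := by simp
  have hm : ∀ (z : V) (d : Dual R V),
      d (f (smulRight (b.coord i₀) (b i₀)) z) ∈ IsLocalRing.maximalIdeal R := by
    intro z d
    rw [IsLocalRing.mem_maximalIdeal, mem_nonunits_iff]
    rintro ⟨c, hc⟩
    apply hcon z ((↑c⁻¹ : R) • d) hvu
    rw [LinearMap.smul_apply, ← hc, smul_eq_mul, Units.inv_mul]
  have hone : (1 : End R V) = ∑ i, (smulRight (b.coord i₀) (b i)) *
      (smulRight (b.coord i₀) (b i₀)) * (smulRight (b.coord i) (b i₀)) := by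
    apply LinearMap.ext
    intro y
    rw [LinearMap.sum_apply]
    simp only [End.mul_apply, smulRight_apply, _root_.map_smul, hvu, one_smul,
      End.one_apply]
    exact (b.sum_repr y).symm
  have h2 := congrArg (fun A => b.coord i₀ (f A (b i₀))) hone
  simp only [map_one, End.one_apply, map_sum, map_mul, LinearMap.sum_apply, End.mul_apply] at h2
  rw [hvu] at h2
  have h3 : (1 : R) ∈ IsLocalRing.maximalIdeal R := by
    rw [h2]
    refine Ideal.sum_mem _ fun i _ => ?_
    exact hm _ ((b.coord i₀) ∘ₗ f (smulRight (b.coord i₀) (b i)))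
  exact (Ideal.ne_top_iff_one _).mp (IsLocalRing.maximalIdeal.isMaximal R).ne_top h3

/-- **Skolem–Noether for `End V`, `V` finite free over a local ring.** -/
theorem exists_conj_of_isLocalRing [IsLocalRing R] [Module.Free R V] [Module.Finite R V]
    [Nontrivial V] (f : End R V ≃ₐ[R] End R V) :
    ∃ T : V ≃ₗ[R] V, ∀ A : End R V, f A = T.toLinearMap ∘ₗ A ∘ₗ T.symm.toLinearMap := by
  obtain ⟨u, v, z, d, huv, hd⟩ := exists_unimodular_data f
  exact exists_conj_of_unimodular f u v huv z d hd

/-- **Skolem–Noether for split algebras over a local ring.** -/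
theorem exists_unit_conj_of_algEquiv_matrix [IsLocalRing R] {C : Type*} [Ring C] [Algebra R C]
    {N : ℕ} [NeZero N] (e : C ≃ₐ[R] Matrix (Fin N) (Fin N) R) (σ : C ≃ₐ[R] C) :
    ∃ θ : Cˣ, ∀ x, σ x = θ * x * ↑θ⁻¹ := by
  classical
  let e' : C ≃ₐ[R] Module.End R (Fin N → R) := e.trans Matrix.toLinAlgEquiv'
  let f : Module.End R (Fin N → R) ≃ₐ[R] Module.End R (Fin N → R) := e'.symm.trans (σ.trans e')
  haveI : Nonempty (Fin N) := ⟨⟨0, Nat.pos_of_ne_zero (NeZero.ne N)⟩⟩
  obtain ⟨T, hT⟩ := exists_conj_of_isLocalRing f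
  have h1 : e'.symm T.toLinearMap * e'.symm T.symm.toLinearMap = 1 := by
    rw [← map_mul, End.mul_eq_comp, LinearEquiv.comp_coe, LinearEquiv.symm_trans_self,
      LinearEquiv.refl_toLinearMap]
    exact map_one e'.symm
  have h2 : e'.symm T.symm.toLinearMap * e'.symm T.toLinearMap = 1 := by
    rw [← map_mul, End.mul_eq_comp, LinearEquiv.comp_coe, LinearEquiv.self_trans_symm,
      LinearEquiv.refl_toLinearMap]
    exact map_one e'.symm
  refine ⟨⟨e'.symm T.toLinearMap, e'.symm T.symm.toLinearMap, h1, h2⟩, fun x => ?_⟩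
  have h3 : σ x = e'.symm (f (e' x)) := by
    simp only [f, AlgEquiv.trans_apply, AlgEquiv.symm_apply_apply]
  rw [h3, hT]
  change e'.symm (T.toLinearMap * (e' x * T.symm.toLinearMap)) = _
  rw [map_mul, map_mul, AlgEquiv.symm_apply_apply, mul_assoc]
  rfl

end SN

section Ker

open TensorProduct

variable {R : Type*} [CommRing R] (A : Type*) [CommRing A] [Algebra R A]
  {N P : Type*} [AddCommGroup N] [Module R N] [AddCommGroup P] [Module R P]

/-- Flat base change of the common kernel of finitely many linear maps. -/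
theorem mem_baseChange_ker_pi [Module.Flat R A] {n : ℕ} (φ : Fin n → N →ₗ[R] P) (t : A ⊗[R] N)
    (ht : ∀ i, (φ i).baseChange A t = 0) :
    t ∈ (LinearMap.ker (LinearMap.pi φ)).baseChange A := by
  classical
  let f : N →ₗ[R] (Fin n → P) := LinearMap.pi φ
  have hkey := Module.Flat.ker_lTensor_eq (R := R) A A f
  change t ∈ LinearMap.range ((LinearMap.ker f).subtype.baseChange A)
  have ht0 : (AlgebraTensorModule.lTensor A A f) t = 0 := by
    have hinj := (TensorProduct.piRight R A A (fun _ : Fin n => P)).injective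
    apply hinj
    rw [map_zero]
    funext i
    have hall : ∀ t' : A ⊗[R] N, (TensorProduct.piRight R A A (fun _ : Fin n => P))
        ((AlgebraTensorModule.lTensor A A f) t') i = (φ i).baseChange A t' := by
      intro t'
      induction t' using TensorProduct.induction_on with
      | zero => simp
      | tmul a x =>
        rw [LinearMap.baseChange_tmul]
        change (TensorProduct.piRight R A A (fun _ : Fin n => P)) (a ⊗ₜ f x) i = _
        rw [TensorProduct.piRight_apply, TensorProduct.piRightHom_tmul]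
        rfl
      | add x y hx hy =>
        rw [map_add, map_add, Pi.add_apply, map_add, hx, hy]
    rw [hall t, ht i, Pi.zero_apply]
  have : t ∈ LinearMap.ker (AlgebraTensorModule.lTensor A A f) := ht0
  rw [hkey] at this
  exact this

end Ker

section Lift

open CliffordAlgebra TensorProduct QuadGrp

variable {R : Type u} [CommRing R] {M : Type v} [AddCommGroup M] [Module R M] [Module.Free R M]
  (A : Type u') [CommRing A] [Algebra R A] (Q : QuadraticForm R M)

/-- The twisted commutator `x ↦ ι (g v) x - x ι v`. -/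
noncomputable def twL (g : M →ₗ[R] M) (v : M) : CliffordAlgebra Q →ₗ[R] CliffordAlgebra Q :=
  LinearMap.mulLeft R (ι Q (g v)) - LinearMap.mulRight R (ι Q v)

theorem twL_apply (g : M →ₗ[R] M) (v : M) (x : CliffordAlgebra Q) :
    twL Q g v x = ι Q (g v) * x - x * ι Q v := rfl

theorem bcEquiv_baseChange_twL (g : M →ₗ[R] M) (v : M) (t : A ⊗[R] CliffordAlgebra Q) :
    bcEquiv A Q ((twL Q g v).baseChange A t) =
      ι (baseChangeForm A Q) ((1 : A) ⊗ₜ[R] g v) * bcEquiv A Q t -
        bcEquiv A Q t * ι (baseChangeForm A Q) ((1 : A) ⊗ₜ[R] v) := by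
  induction t using TensorProduct.induction_on with
  | zero => simp
  | tmul a x =>
    rw [LinearMap.baseChange_tmul, twL_apply, bcEquiv_tmul, bcEquiv_tmul, map_sub, map_mul,
      map_mul, ofBCAux_ι, ofBCAux_ι, smul_sub, mul_smul_comm, smul_mul_assoc]
  | add x y hx hy =>
    rw [map_add, map_add, hx, hy, map_add, mul_add, add_mul]
    abel

/-- descent of invertibility. -/
theorem isUnit_of_isUnit_ofBCAux [Module.FaithfullyFlat R A] (x : CliffordAlgebra Q)
    (h : IsUnit (ofBCAux A Q x)) : IsUnit x := by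
  obtain ⟨w, hw⟩ := h
  -- right inverse
  have hr : ∃ y, x * y = 1 := by
    have h1 : (1 : CliffordAlgebra Q) ∈ LinearMap.range (LinearMap.mulLeft R x) := by
      apply mem_of_one_tmul_mem_baseChange A
      have key : ∀ t : A ⊗[R] CliffordAlgebra Q,
          (LinearMap.mulLeft R x).baseChange A t ∈
            (LinearMap.range (LinearMap.mulLeft R x)).baseChange A ∧
          bcEquiv A Q ((LinearMap.mulLeft R x).baseChange A t) =
            ofBCAux A Q x * bcEquiv A Q t := by
        intro t
        induction t using TensorProduct.induction_on with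
        | zero => simp
        | tmul a y =>
          rw [LinearMap.baseChange_tmul]
          refine ⟨Submodule.tmul_mem_baseChange_of_mem a ⟨y, rfl⟩, ?_⟩
          rw [bcEquiv_tmul, bcEquiv_tmul, LinearMap.mulLeft_apply, map_mul, mul_smul_comm]
        | add s s' hs hs' =>
          rw [map_add, map_add, map_add, mul_add, hs.2, hs'.2]
          exact ⟨Submodule.add_mem _ hs.1 hs'.1, rfl⟩
      have h2 := key ((bcEquiv A Q).symm (↑w⁻¹ : CliffordAlgebra (baseChangeForm A Q)))
      rw [AlgEquiv.apply_symm_apply, ← hw, Units.mul_inv] at h2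
      have h3 : (LinearMap.mulLeft R x).baseChange A
          ((bcEquiv A Q).symm (↑w⁻¹ : CliffordAlgebra (baseChangeForm A Q))) = 1 ⊗ₜ 1 := by
        apply (bcEquiv A Q).injective
        rw [h2.2, bcEquiv_one_tmul, map_one]
      rw [← h3]
      exact h2.1
    obtain ⟨y, hy⟩ := h1
    exact ⟨y, hy⟩
  have hl : ∃ y, y * x = 1 := by
    have h1 : (1 : CliffordAlgebra Q) ∈ LinearMap.range (LinearMap.mulRight R x) := by
      apply mem_of_one_tmul_mem_baseChange A
      have key : ∀ t : A ⊗[R] CliffordAlgebra Q,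
          (LinearMap.mulRight R x).baseChange A t ∈
            (LinearMap.range (LinearMap.mulRight R x)).baseChange A ∧
          bcEquiv A Q ((LinearMap.mulRight R x).baseChange A t) =
            bcEquiv A Q t * ofBCAux A Q x := by
        intro t
        induction t using TensorProduct.induction_on with
        | zero => simp
        | tmul a y =>
          rw [LinearMap.baseChange_tmul]
          refine ⟨Submodule.tmul_mem_baseChange_of_mem a ⟨y, rfl⟩, ?_⟩
          rw [bcEquiv_tmul, bcEquiv_tmul, LinearMap.mulRight_apply, map_mul, smul_mul_assoc]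
        | add s s' hs hs' =>
          rw [map_add, map_add, map_add, add_mul, hs.2, hs'.2]
          exact ⟨Submodule.add_mem _ hs.1 hs'.1, rfl⟩
      have h2 := key ((bcEquiv A Q).symm (↑w⁻¹ : CliffordAlgebra (baseChangeForm A Q)))
      rw [AlgEquiv.apply_symm_apply, ← hw, Units.inv_mul] at h2
      have h3 : (LinearMap.mulRight R x).baseChange A
          ((bcEquiv A Q).symm (↑w⁻¹ : CliffordAlgebra (baseChangeForm A Q))) = 1 ⊗ₜ 1 := by
        apply (bcEquiv A Q).injective
        rw [h2.2, bcEquiv_one_tmul, map_one]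
      rw [← h3]
      exact h2.1
    obtain ⟨y, hy⟩ := h1
    exact ⟨y, hy⟩
  obtain ⟨y, hy⟩ := hr
  obtain ⟨y', hy'⟩ := hl
  have : y' = y := by
    calc y' = y' * (x * y) := by rw [hy, mul_one]
      _ = y := by rw [← mul_assoc, hy', one_mul]
  subst this
  exact ⟨⟨x, y', hy, hy'⟩, rfl⟩

end Lift

section Main

open CliffordAlgebra TensorProduct QuadGrp

variable {R : Type u} [CommRing R] {M : Type v} [AddCommGroup M] [Module R M]

theorem mem_GPin'_of_conj {Q : QuadraticForm R M} (u : (CliffordAlgebra Q)ˣ) (g : M ≃ₗ[R] M)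
    (h : ∀ v, (u : CliffordAlgebra Q) * ι Q v * ↑u⁻¹ = ι Q (g v)) : u ∈ GPin' Q := by
  rw [mem_GPin']
  ext x
  rw [Submodule.mem_smul_pointwise_iff_exists]
  constructor
  · rintro ⟨y, ⟨v, rfl⟩, rfl⟩
    rw [ConjAct.units_smul_def]
    change (u : CliffordAlgebra Q) * ι Q v * ↑u⁻¹ ∈ _
    rw [h v]
    exact ⟨g v, rfl⟩
  · rintro ⟨w, rfl⟩
    refine ⟨ι Q (g.symm w), ⟨_, rfl⟩, ?_⟩
    rw [ConjAct.units_smul_def]
    change (u : CliffordAlgebra Q) * ι Q (g.symm w) * ↑u⁻¹ = _
    rw [h, LinearEquiv.apply_symm_apply]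

variable [IsLocalRing R] [Module.Free R M] [Module.Finite R M]

/-- **Every isometry lifts to a unit of the Clifford algebra** (local base, regular, even rank). -/
theorem exists_unit_conj_of_mem_O (m : ℕ) (hm : 1 ≤ m) (hM : Module.finrank R M = 2 * m)
    (Q : QuadraticForm R M) (hQ : IsRegular Q) (g : M ≃ₗ[R] M) (hg : g ∈ O Q) :
    ∃ u : (CliffordAlgebra Q)ˣ, ∀ v, (u : CliffordAlgebra Q) * ι Q v * ↑u⁻¹ = ι Q (g v) := by
  classical
  obtain ⟨k, rfl⟩ : ∃ k, m = k + 1 := ⟨m - 1, by omega⟩
  obtain ⟨R', iR, iL, iA, hff, ⟨f⟩⟩ := exists_local_isometry_hypSum (k + 1) hM Q hQ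
  obtain ⟨D⟩ := nonempty_splitData_hypSum R' (k + 1)
  let D' := D.ofIsometry f.symm
  have hg' := baseChange_mem_O R' hg
  let σ : CliffordAlgebra (baseChangeForm R' Q) ≃ₐ[R'] CliffordAlgebra (baseChangeForm R' Q) :=
    equivOfIsometry (isoEquivOfMem _ hg')
  haveI : NeZero (2 ^ (k + 1)) := ⟨by positivity⟩
  obtain ⟨θ, hθ⟩ := exists_unit_conj_of_algEquiv_matrix D'.e σ
  have hZ : Subalgebra.center R' (CliffordAlgebra (baseChangeForm R' Q)) = ⊥ :=
    center_eq_bot_of_algEquiv_matrix D'.e
  -- θ intertwines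
  have hθι : ∀ w, ι (baseChangeForm R' Q) (g.baseChange R R' M M w) * θ =
      θ * ι (baseChangeForm R' Q) w := by
    intro w
    have h0 := hθ (ι (baseChangeForm R' Q) w)
    have h1 : σ (ι (baseChangeForm R' Q) w) =
        ι (baseChangeForm R' Q) (g.baseChange R R' M M w) := by
      change CliffordAlgebra.map _ (ι (baseChangeForm R' Q) w) = _
      rw [CliffordAlgebra.map_apply_ι]
      rfl
    rw [h1] at h0
    rw [h0, mul_assoc, mul_assoc, Units.inv_mul, mul_one]
  have hmult : ∀ y : CliffordAlgebra (baseChangeForm R' Q),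
      (∀ w, ι (baseChangeForm R' Q) (g.baseChange R R' M M w) * y =
        y * ι (baseChangeForm R' Q) w) → ∃ r : R', y = r • (θ : CliffordAlgebra _) := by
    intro y hy
    have hc : (↑θ⁻¹ : CliffordAlgebra (baseChangeForm R' Q)) * y ∈
        Subalgebra.center R' (CliffordAlgebra (baseChangeForm R' Q)) := by
      apply mem_center_of_commute_ι
      intro w
      have e1 : ι (baseChangeForm R' Q) w * (↑θ⁻¹ : CliffordAlgebra (baseChangeForm R' Q)) =
          ↑θ⁻¹ * ι (baseChangeForm R' Q) (g.baseChange R R' M M w) := by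
        rw [Units.eq_inv_mul_iff_mul_eq, ← mul_assoc, ← hθι, mul_assoc, Units.mul_inv, mul_one]
      rw [← mul_assoc, e1, mul_assoc, hy w, mul_assoc]
    rw [hZ, Algebra.mem_bot] at hc
    obtain ⟨r, hr⟩ := hc
    refine ⟨r, ?_⟩
    rw [Algebra.smul_def, Algebra.commutes, hr, ← mul_assoc, Units.mul_inv, one_mul]
  have hfaith : ∀ r r' : R', r • (θ : CliffordAlgebra (baseChangeForm R' Q)) = r' • (θ : _) →
      r = r' := by
    intro r r' h
    have h1 := congrArg (fun y => y * (↑θ⁻¹ : CliffordAlgebra (baseChangeForm R' Q))) h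
    simp only [smul_mul_assoc, Units.mul_inv] at h1
    rw [← Algebra.algebraMap_eq_smul_one, ← Algebra.algebraMap_eq_smul_one] at h1
    exact algebraMap_injective (baseChangeForm R' Q) h1
  -- the intertwiner over `R`
  let b := Module.finBasis R M
  let φ : Fin (Module.finrank R M) → CliffordAlgebra Q →ₗ[R] CliffordAlgebra Q :=
    fun i => twL Q g.toLinearMap (b i)
  have hI : ∀ x ∈ LinearMap.ker (LinearMap.pi φ), ∀ v, ι Q (g v) * x = x * ι Q v := by
    intro x hx v
    have h1 : (LinearMap.mulRight R x) ∘ₗ (ι Q) ∘ₗ g.toLinearMap =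
        (LinearMap.mulLeft R x) ∘ₗ (ι Q) := by
      apply b.ext
      intro i
      have := congrFun (LinearMap.mem_ker.mp hx) i
      simp only [LinearMap.pi_apply, Pi.zero_apply, φ, twL_apply, sub_eq_zero] at this
      simpa using this
    have := congrArg (fun L => L v) h1
    simpa using this
  have hI' : ∀ x ∈ LinearMap.ker (LinearMap.pi φ), ∀ w,
      ι (baseChangeForm R' Q) (g.baseChange R R' M M w) * ofBCAux R' Q x =
        ofBCAux R' Q x * ι (baseChangeForm R' Q) w := by
    intro x hx w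
    induction w using TensorProduct.induction_on with
    | zero => simp
    | tmul a v =>
      have e1 : (a ⊗ₜ[R] v : R' ⊗[R] M) = a • ((1 : R') ⊗ₜ[R] v) := by
        rw [TensorProduct.smul_tmul', smul_eq_mul, mul_one]
      have e2 : (a ⊗ₜ[R] g v : R' ⊗[R] M) = a • ((1 : R') ⊗ₜ[R] g v) := by
        rw [TensorProduct.smul_tmul', smul_eq_mul, mul_one]
      rw [LinearEquiv.baseChange_tmul, e1, e2, map_smul, map_smul, ← ofBCAux_ι, ← ofBCAux_ι,
        smul_mul_assoc, mul_smul_comm, ← map_mul, ← map_mul, hI x hx v]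
    | add w w' hw hw' =>
      rw [map_add, map_add, map_add, add_mul, mul_add, hw, hw']
  have ht : ∀ i, (φ i).baseChange R' ((bcEquiv R' Q).symm θ) = 0 := by
    intro i
    apply (bcEquiv R' Q).injective
    rw [map_zero, bcEquiv_baseChange_twL, AlgEquiv.apply_symm_apply]
    have := hθι ((1 : R') ⊗ₜ[R] b i)
    rw [LinearEquiv.baseChange_tmul] at this
    rw [LinearEquiv.coe_coe, this, sub_self]
  obtain ⟨s, hs⟩ := mem_baseChange_ker_pi R' φ _ ht
  have hall : ∀ s : R' ⊗[R] ↥(LinearMap.ker (LinearMap.pi φ)), ∃ r : R',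
      bcEquiv R' Q ((LinearMap.ker (LinearMap.pi φ)).subtype.baseChange R' s) =
        r • (θ : CliffordAlgebra (baseChangeForm R' Q)) := by
    intro s
    induction s using TensorProduct.induction_on with
    | zero => exact ⟨0, by simp⟩
    | tmul a x =>
      obtain ⟨r, hr⟩ := hmult _ (hI' x.1 x.2)
      refine ⟨a * r, ?_⟩
      rw [LinearMap.baseChange_tmul, bcEquiv_tmul, Submodule.subtype_apply, hr, smul_smul]
    | add s s' hs hs' =>
      obtain ⟨r, hr⟩ := hs
      obtain ⟨r', hr'⟩ := hs'
      exact ⟨r + r', by rw [map_add, map_add, hr, hr', add_smul]⟩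
  have hmain : ∀ s : R' ⊗[R] ↥(LinearMap.ker (LinearMap.pi φ)), ∀ r : R',
      bcEquiv R' Q ((LinearMap.ker (LinearMap.pi φ)).subtype.baseChange R' s) =
        r • (θ : CliffordAlgebra (baseChangeForm R' Q)) → IsUnit r →
      ∃ x ∈ LinearMap.ker (LinearMap.pi φ), IsUnit (ofBCAux R' Q x) := by
    intro s
    induction s using TensorProduct.induction_on with
    | zero =>
      intro r hr hu
      exfalso
      rw [map_zero, map_zero] at hr
      have : r = 0 := hfaith r 0 (by rw [← hr, zero_smul])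
      rw [this] at hu
      exact not_isUnit_zero hu
    | tmul a x =>
      intro r hr hu
      obtain ⟨rx, hrx⟩ := hmult _ (hI' x.1 x.2)
      rw [LinearMap.baseChange_tmul, bcEquiv_tmul, Submodule.subtype_apply, hrx, smul_smul] at hr
      have h1 : a * rx = r := hfaith _ _ hr
      have h2 : IsUnit rx := isUnit_of_mul_isUnit_right (h1 ▸ hu)
      refine ⟨x.1, x.2, ?_⟩
      rw [hrx, Algebra.smul_def]
      exact (h2.map _).mul θ.isUnit
    | add s s' hs hs' =>
      intro r hr hu
      obtain ⟨r₁, hr₁⟩ := hall s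
      obtain ⟨r₂, hr₂⟩ := hall s'
      rw [map_add, map_add, hr₁, hr₂, ← add_smul] at hr
      have h1 : r₁ + r₂ = r := hfaith _ _ hr
      rcases IsLocalRing.isUnit_or_isUnit_of_isUnit_add (h1 ▸ hu) with h | h
      · exact hs r₁ hr₁ h
      · exact hs' r₂ hr₂ h
  obtain ⟨x, hx, hxu⟩ := hmain s 1 (by rw [hs, AlgEquiv.apply_symm_apply, one_smul]) isUnit_one
  obtain ⟨u, hu⟩ := isUnit_of_isUnit_ofBCAux R' Q x hxu
  refine ⟨u, fun v => ?_⟩
  rw [hu, ← hI x hx v, mul_assoc, ← hu, Units.mul_inv, mul_one]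

end Main

end Groth.Agent.Lib.Helper25.Cliff
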