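import Mathlib
import Groth.Agent.Lib.Helper25CliffU

/-!
# The even part is the centralizer of its centre; even lifts of Dickson-trivial isometries
(helper25)
-/

set_option autoImplicit false
set_option linter.unusedSectionVars false
set_option linter.style.haveILetI false
universe u v u'

namespace Groth.Agent.Lib.Helper25.Cliff

open CliffordAlgebra TensorProduct QuadGrp

section Centralizer

variable {R : Type u} [CommRing R] {M : Type v} [AddCommGroup M] [Module R M]
  [Module.Free R M] [Module.Finite R M]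

/-- An element commuting with the centre of the even part is even (regular, even positive rank). -/
theorem mem_evenOdd_zero_of_commute_center (m : ℕ) (hm : 1 ≤ m)
    (hV : Module.finrank R M = 2 * m) (Q : QuadraticForm R M)
    (hQ : Function.Bijective (QuadraticMap.polarBilin Q)) (x : CliffordAlgebra Q)
    (hx : ∀ p : ↥(CliffordAlgebra.even Q), p ∈ Subalgebra.center R ↥(CliffordAlgebra.even Q) →
      p.1 * x = x * p.1) : x ∈ evenOdd Q 0 := by
  classical
  obtain ⟨k, rfl⟩ : ∃ k, m = k + 1 := ⟨m - 1, by omega⟩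
  obtain ⟨A', iR, iA, hff, hfp, ⟨f⟩⟩ := exists_fppf_isometry_hypSum (k + 1) hV Q hQ
  obtain ⟨D⟩ := nonempty_splitData_hypSum A' (k + 1)
  let D' := D.ofIsometry f.symm
  have hflat : Module.Flat R A' := inferInstance
  obtain ⟨x0, hx0⟩ : ∃ x0, x0 = evenProj Q x := ⟨_, rfl⟩
  obtain ⟨x1, hx1⟩ : ∃ x1, x1 = eoProj Q 1 x := ⟨_, rfl⟩
  have hsum : x0.1 + x1.1 = x := by
    rw [hx0, hx1, evenProj_coe]
    exact eoProj_zero_add_one Q x
  have hcomm : ∀ p ∈ Subalgebra.toSubmodule (Subalgebra.center R ↥(CliffordAlgebra.even Q)),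
      x1.1 * p.1 = p.1 * x1.1 := by
    intro p hp
    have h1 : p.1 * x = x * p.1 := hx p hp
    have h2 : p * x0 = x0 * p := (Subalgebra.mem_center_iff (R := R)).mp hp x0 |>.symm
    have h2' : p.1 * x0.1 = x0.1 * p.1 := congrArg Subtype.val h2
    have hx1' : x1.1 = x - x0.1 := by rw [← hsum]; abel
    rw [hx1', sub_mul, mul_sub, h1, h2']
  have hε' := D'.hε
  have hy := hε'.mem_center_even
  have ht := even_symm_mem_baseChange_center A' Q _ hy
  have hc := commute_bcEven_of_mem_baseChange A' Q _ x1.1 hcomm _ ht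
  rw [AlgEquiv.apply_symm_apply] at hc
  have hodd : ofBCAux A' Q x1.1 ∈ CliffordAlgebra.evenOdd (QuadGrp.baseChangeForm A' Q) 1 :=
    ofBCAux_mem_evenOdd A' Q 1 x1.1 x1.2
  have hz := hε'.eq_zero_of_odd_of_commute _ hodd hc
  have hx1z : x1.1 = 0 := ofBCAux_injective A' Q (by rw [hz, map_zero])
  rw [← hsum, hx1z, add_zero]
  exact mem_even_iff.mp x0.2

end Centralizer

section EvenLift

variable {R : Type u} [CommRing R] [IsLocalRing R] {M : Type v} [AddCommGroup M] [Module R M]
  [Module.Free R M] [Module.Finite R M]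

/-- if conjugation by `u` induces the isometry `g` on `M` then it is `C(g)` on the Clifford
algebra. -/
theorem map_eq_conj {Q : QuadraticForm R M} (u : (CliffordAlgebra Q)ˣ) (g : M ≃ₗ[R] M)
    (hg : g ∈ O Q) (h : ∀ v, (u : CliffordAlgebra Q) * ι Q v * ↑u⁻¹ = ι Q (g v))
    (x : CliffordAlgebra Q) :
    CliffordAlgebra.map (isometryOfMem Q g hg) x = u * x * ↑u⁻¹ := by
  have : CliffordAlgebra.map (isometryOfMem Q g hg) = conjHom Q u := by
    apply CliffordAlgebra.hom_ext
    ext v
    simp only [LinearMap.comp_apply, AlgHom.toLinearMap_apply, CliffordAlgebra.map_apply_ι,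
      conjHom_apply, h v]
    rfl
  rw [this, conjHom_apply]

/-- **Dickson-trivial isometries lift to the even Clifford group** (local base). -/
theorem exists_gSpin_conj_of_mem_SOeven (m : ℕ) (hm : 1 ≤ m) (hM : Module.finrank R M = 2 * m)
    (Q : QuadraticForm R M) (hQ : IsRegular Q) (g : M ≃ₗ[R] M) (hg : g ∈ SOeven Q) :
    ∃ u ∈ GSpin Q, ∀ v : M, (u : CliffordAlgebra Q) * ι Q v * ↑u⁻¹ = ι Q (g v) := by
  obtain ⟨hgO, hD⟩ := hg
  obtain ⟨u, hu⟩ := exists_unit_conj_of_mem_O m hm hM Q hQ g hgO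
  have hG : u ∈ GPin' Q := mem_GPin'_of_conj u g hu
  have heven : (u : CliffordAlgebra Q) ∈ evenOdd Q 0 := by
    apply mem_evenOdd_zero_of_commute_center m hm hM Q hQ
    intro p hp
    have h1 := hD p hp
    rw [map_eq_conj u g hgO hu] at h1
    calc p.1 * u = (u * p.1 * ↑u⁻¹) * u := by rw [h1]
      _ = u * p.1 := by rw [mul_assoc, Units.inv_mul, mul_one]
  have hLH : u ∈ LH Q := by
    rw [mem_LH]
    refine ⟨1, IsIdempotentElem.one, by rwa [one_smul], ?_⟩
    rw [sub_self, zero_smul]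
    exact Submodule.zero_mem _
  exact ⟨u, ⟨⟨hG, hLH⟩, heven⟩, hu⟩

end EvenLift

end Groth.Agent.Lib.Helper25.Cliff
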