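import Mathlib
import Groth.Agent.Lib.Helper25CliffV

/-!
# The top-degree functional on a Clifford algebra and its supertrace property (helper25)
-/

set_option autoImplicit false
set_option linter.unusedSectionVars false
set_option linter.style.haveILetI false
universe u v u'

namespace Groth.Agent.Lib.Helper25.Cliff

open CliffordAlgebra

section Ext

variable {R : Type u} [CommRing R] {M : Type v} [AddCommGroup M] [Module R M]

/-- The strictly lower filtration of the exterior algebra: the span of the wedge products of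
fewer than `i` vectors. -/
def Glt (R : Type u) [CommRing R] (M : Type v) [AddCommGroup M] [Module R M] (i : ℕ) :
    Submodule R (ExteriorAlgebra R M) :=
  Submodule.span R {x | ∃ k, k < i ∧ ∃ v : Fin k → M, x = ExteriorAlgebra.ιMulti R k v}

theorem Glt_mono {i j : ℕ} (h : i ≤ j) : Glt R M i ≤ Glt R M j := by
  apply Submodule.span_mono
  rintro x ⟨k, hk, v, rfl⟩
  exact ⟨k, lt_of_lt_of_le hk h, v, rfl⟩

theorem ιMulti_mem_Glt {k i : ℕ} (h : k < i) (v : Fin k → M) :
    ExteriorAlgebra.ιMulti R k v ∈ Glt R M i :=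
  Submodule.subset_span ⟨k, h, v, rfl⟩

theorem ι_mul_mem_Glt (v : M) {i : ℕ} {x : ExteriorAlgebra R M} (hx : x ∈ Glt R M i) :
    ExteriorAlgebra.ι R v * x ∈ Glt R M (i + 1) := by
  induction hx using Submodule.span_induction with
  | mem x hx =>
    obtain ⟨k, hk, w, rfl⟩ := hx
    have : ExteriorAlgebra.ι R v * ExteriorAlgebra.ιMulti R k w =
        ExteriorAlgebra.ιMulti R (k + 1) (Matrix.vecCons v w) := by
      rw [ExteriorAlgebra.ιMulti_succ_apply]
      simp
    rw [this]
    exact ιMulti_mem_Glt (by omega) _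
  | zero => rw [mul_zero]; exact Submodule.zero_mem _
  | add x y _ _ hx hy => rw [mul_add]; exact Submodule.add_mem _ hx hy
  | smul r x _ hx => rw [mul_smul_comm]; exact Submodule.smul_mem _ r hx

theorem contractLeft_ιMulti_mem (d : Module.Dual R M) (k : ℕ) (w : Fin k → M) :
    contractLeft (Q := (0 : QuadraticForm R M)) d (ExteriorAlgebra.ιMulti R k w) ∈ Glt R M k := by
  induction k with
  | zero =>
    rw [ExteriorAlgebra.ιMulti_zero_apply, contractLeft_one]
    exact Submodule.zero_mem _
  | succ k ih =>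
    rw [ExteriorAlgebra.ιMulti_succ_apply]
    change contractLeft (Q := (0 : QuadraticForm R M)) d
      (ι (0 : QuadraticForm R M) (w 0) * ExteriorAlgebra.ιMulti R k (Matrix.vecTail w)) ∈ _
    rw [contractLeft_ι_mul]
    refine Submodule.sub_mem _ ?_ ?_
    · exact Submodule.smul_mem _ _ (ιMulti_mem_Glt (by omega) _)
    · exact ι_mul_mem_Glt (w 0) (ih _)

theorem contractLeft_mem_Glt (d : Module.Dual R M) {i : ℕ} {x : ExteriorAlgebra R M}
    (hx : x ∈ Glt R M i) :
    contractLeft (Q := (0 : QuadraticForm R M)) d x ∈ Glt R M i := by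
  induction hx using Submodule.span_induction with
  | mem x hx =>
    obtain ⟨k, hk, w, rfl⟩ := hx
    exact Glt_mono hk.le (contractLeft_ιMulti_mem d k w)
  | zero => rw [map_zero]; exact Submodule.zero_mem _
  | add x y _ _ hx hy => rw [map_add]; exact Submodule.add_mem _ hx hy
  | smul r x _ hx => rw [map_smul]; exact Submodule.smul_mem _ r hx

end Ext

section Top

variable {R : Type u} [CommRing R] {M : Type v} [AddCommGroup M] [Module R M] {n : ℕ}
  (b : Module.Basis (Fin n) R M)

/-- The family of alternating maps defining the top coefficient. -/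
noncomputable def topFam (i : ℕ) : M [⋀^Fin i]→ₗ[R] R :=
  if h : n = i then b.det.domDomCongr (finCongr h) else 0

/-- The top coefficient of an element of the exterior algebra, in the basis `b`. -/
noncomputable def topL : ExteriorAlgebra R M →ₗ[R] R := ExteriorAlgebra.liftAlternating (topFam b)

theorem topL_ιMulti_self (v : Fin n → M) : topL b (ExteriorAlgebra.ιMulti R n v) = b.det v := by
  rw [topL, ExteriorAlgebra.liftAlternating_apply_ιMulti, topFam, dif_pos rfl]
  rfl

theorem topL_ιMulti_of_ne {k : ℕ} (h : k ≠ n) (v : Fin k → M) :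
    topL b (ExteriorAlgebra.ιMulti R k v) = 0 := by
  rw [topL, ExteriorAlgebra.liftAlternating_apply_ιMulti, topFam, dif_neg (Ne.symm h)]
  rfl

theorem topL_Glt {x : ExteriorAlgebra R M} (hx : x ∈ Glt R M n) : topL b x = 0 := by
  induction hx using Submodule.span_induction with
  | mem x hx =>
    obtain ⟨k, hk, w, rfl⟩ := hx
    exact topL_ιMulti_of_ne b hk.ne w
  | zero => rw [map_zero]
  | add x y _ _ hx hy => rw [map_add, hx, hy, add_zero]
  | smul r x _ hx => rw [map_smul, hx, smul_zero]

include b in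
theorem ιMulti_eq_zero_of_lt {k : ℕ} (h : n < k) (v : Fin k → M) :
    ExteriorAlgebra.ιMulti R k v = 0 := by
  have : ExteriorAlgebra.ιMulti R k (M := M) = 0 := by
    apply Module.Basis.ext_alternating b
    intro f hf
    exfalso
    have := Fintype.card_le_of_injective f hf
    rw [Fintype.card_fin, Fintype.card_fin] at this
    omega
  rw [this]
  rfl

theorem topL_contractLeft (d : Module.Dual R M) (x : ExteriorAlgebra R M) :
    topL b (contractLeft (Q := (0 : QuadraticForm R M)) d x) = 0 := by
  have hx : x ∈ Submodule.span R (Set.range fun x : Σ n, (Fin n → M) =>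
      ExteriorAlgebra.ιMulti R x.1 x.2) := by
    rw [ExteriorAlgebra.ιMulti_span]; trivial
  induction hx using Submodule.span_induction with
  | mem x hx =>
    obtain ⟨⟨k, w⟩, rfl⟩ := hx
    change topL b (contractLeft (Q := (0 : QuadraticForm R M)) d
      (ExteriorAlgebra.ιMulti R k w)) = 0
    rcases le_or_gt k n with hk | hk
    · exact topL_Glt b (Glt_mono hk (contractLeft_ιMulti_mem d k w))
    · rw [ιMulti_eq_zero_of_lt b hk, map_zero, map_zero]
  | zero => rw [map_zero, map_zero]
  | add x y _ _ hx hy => rw [map_add, map_add, hx, hy, add_zero]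
  | smul r x _ hx => rw [map_smul, map_smul, hx, smul_zero]

end Top

section Tau

variable {R : Type u} [CommRing R] {M : Type v} [AddCommGroup M] [Module R M]
  (Q : QuadraticForm R M)

theorem toExt_aux {B : LinearMap.BilinForm R M} (hB : B.toQuadraticMap = Q) :
    (-B).toQuadraticMap = (0 : QuadraticForm R M) - Q := by
  rw [LinearMap.BilinMap.toQuadraticMap_neg, hB, zero_sub]

/-- The linear map to the exterior algebra attached to a bilinear lift of `Q`. -/
noncomputable def toExt (B : LinearMap.BilinForm R M) (hB : B.toQuadraticMap = Q) :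
    CliffordAlgebra Q →ₗ[R] ExteriorAlgebra R M :=
  changeForm (Q := Q) (Q' := (0 : QuadraticForm R M)) (B := -B) (toExt_aux Q hB)

variable (B : LinearMap.BilinForm R M) (hB : B.toQuadraticMap = Q)

theorem toExt_one : toExt Q B hB 1 = 1 := changeForm_one _

theorem toExt_ι_mul (v : M) (x : CliffordAlgebra Q) :
    toExt Q B hB (ι Q v * x) = ExteriorAlgebra.ι R v * toExt Q B hB x +
      contractLeft (Q := (0 : QuadraticForm R M)) (B v) (toExt Q B hB x) := by
  rw [toExt, changeForm_ι_mul, LinearMap.neg_apply, map_neg, LinearMap.neg_apply, sub_neg_eq_add]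

theorem toExt_contractLeft (d : Module.Dual R M) (x : CliffordAlgebra Q) :
    toExt Q B hB (contractLeft d x) =
      contractLeft (Q := (0 : QuadraticForm R M)) d (toExt Q B hB x) :=
  changeForm_contractLeft _ d x

/-- The product of the vectors of a tuple. -/
noncomputable def cprod : (k : ℕ) → (Fin k → M) → CliffordAlgebra Q
  | 0, _ => 1
  | k + 1, v => ι Q (v 0) * cprod k (Matrix.vecTail v)

theorem cprod_zero (v : Fin 0 → M) : cprod Q 0 v = 1 := rfl

theorem cprod_succ (k : ℕ) (v : Fin (k + 1) → M) :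
    cprod Q (k + 1) v = ι Q (v 0) * cprod Q k (Matrix.vecTail v) := rfl

theorem toExt_cprod (k : ℕ) (v : Fin k → M) :
    toExt Q B hB (cprod Q k v) - ExteriorAlgebra.ιMulti R k v ∈ Glt R M k := by
  induction k with
  | zero =>
    rw [cprod_zero, toExt_one, ExteriorAlgebra.ιMulti_zero_apply, sub_self]
    exact Submodule.zero_mem _
  | succ k ih =>
    have h1 := ih (Matrix.vecTail v)
    obtain ⟨r, hr⟩ : ∃ r, r = toExt Q B hB (cprod Q k (Matrix.vecTail v)) -
        ExteriorAlgebra.ιMulti R k (Matrix.vecTail v) := ⟨_, rfl⟩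
    rw [← hr] at h1
    have h2 : toExt Q B hB (cprod Q k (Matrix.vecTail v)) =
        ExteriorAlgebra.ιMulti R k (Matrix.vecTail v) + r := by rw [hr]; abel
    rw [cprod_succ, toExt_ι_mul, h2, ExteriorAlgebra.ιMulti_succ_apply, mul_add, map_add]
    have e : ExteriorAlgebra.ι R (v 0) * ExteriorAlgebra.ιMulti R k (Matrix.vecTail v) +
        ExteriorAlgebra.ι R (v 0) * r +
        (contractLeft (Q := (0 : QuadraticForm R M)) (B (v 0))
          (ExteriorAlgebra.ιMulti R k (Matrix.vecTail v)) +
          contractLeft (Q := (0 : QuadraticForm R M)) (B (v 0)) r) -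
        ExteriorAlgebra.ι R (v 0) * ExteriorAlgebra.ιMulti R k (Matrix.vecTail v) =
        ExteriorAlgebra.ι R (v 0) * r +
        (contractLeft (Q := (0 : QuadraticForm R M)) (B (v 0))
          (ExteriorAlgebra.ιMulti R k (Matrix.vecTail v)) +
          contractLeft (Q := (0 : QuadraticForm R M)) (B (v 0)) r) := by abel
    rw [e]
    refine Submodule.add_mem _ (ι_mul_mem_Glt _ h1) (Submodule.add_mem _ ?_ ?_)
    · exact Glt_mono (Nat.le_succ k) (contractLeft_ιMulti_mem _ _ _)
    · exact Glt_mono (Nat.le_succ k) (contractLeft_mem_Glt _ h1)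

variable {n : ℕ} (b : Module.Basis (Fin n) R M)

/-- The top-degree functional on the Clifford algebra. -/
noncomputable def tau : CliffordAlgebra Q →ₗ[R] R := topL b ∘ₗ toExt Q B hB

theorem tau_cprod (v : Fin n → M) : tau Q B hB b (cprod Q n v) = b.det v := by
  have h := toExt_cprod Q B hB n v
  have h1 := topL_Glt b h
  rw [map_sub, topL_ιMulti_self, sub_eq_zero] at h1
  exact h1

theorem tau_contractLeft (d : Module.Dual R M) (y : CliffordAlgebra Q) :
    tau Q B hB b (contractLeft d y) = 0 := by
  rw [tau, LinearMap.comp_apply, toExt_contractLeft, topL_contractLeft]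

/-- The graded commutator with a vector is a contraction. -/
theorem ι_mul_sub_involute_mul_ι (v : M) (y : CliffordAlgebra Q) :
    ι Q v * y - involute y * ι Q v = contractLeft (QuadraticMap.polarBilin Q v) y := by
  induction y using CliffordAlgebra.left_induction with
  | algebraMap r =>
    rw [contractLeft_algebraMap, involute.commutes, Algebra.commutes, sub_self]
  | add x y hx hy =>
    rw [map_add, map_add, mul_add, add_mul, ← hx, ← hy]
    abel
  | ι_mul x a hx =>
    rw [contractLeft_ι_mul, ← hx, map_mul, involute_ι]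
    have h := ι_mul_ι_add_swap (Q := Q) v a
    have e : ι Q v * (ι Q a * x) = (ι Q v * ι Q a) * x := by rw [mul_assoc]
    rw [e, eq_sub_of_add_eq h, sub_mul, ← Algebra.smul_def]
    change _ = QuadraticMap.polar Q v a • x - _
    rw [mul_sub]
    simp only [mul_assoc, neg_mul]
    abel

theorem tau_ι_mul (v : M) (y : CliffordAlgebra Q) :
    tau Q B hB b (ι Q v * y) = tau Q B hB b (involute y * ι Q v) := by
  have h := tau_contractLeft Q B hB b (QuadraticMap.polarBilin Q v) y
  rw [← ι_mul_sub_involute_mul_ι, map_sub, sub_eq_zero] at h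
  exact h

theorem tau_mul_comm_of_even (a : CliffordAlgebra Q) (ha : a ∈ evenOdd Q 0) :
    ∀ z : CliffordAlgebra Q, tau Q B hB b (a * z) = tau Q B hB b (z * a) := by
  refine even_induction Q
    (motive := fun a _ => ∀ z : CliffordAlgebra Q, tau Q B hB b (a * z) = tau Q B hB b (z * a))
    ?_ ?_ ?_ a ha
  · intro r z
    rw [Algebra.commutes]
  · intro x y _ _ hx hy z
    rw [add_mul, mul_add, map_add, map_add, hx z, hy z]
  · intro m₁ m₂ x _ hx z
    have e1 : ι Q m₁ * ι Q m₂ * x * z = ι Q m₁ * (ι Q m₂ * (x * z)) := by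
      simp only [mul_assoc]
    have i1 : involute (ι Q m₂ * (x * z)) = -(ι Q m₂ * involute (x * z)) := by
      rw [map_mul, involute_ι, neg_mul]
    have i2 : involute (involute (x * z) * ι Q m₁) = -(x * z * ι Q m₁) := by
      rw [map_mul, involute_involute, involute_ι, mul_neg]
    rw [e1, tau_ι_mul, i1, neg_mul, map_neg]
    have e2 : ι Q m₂ * involute (x * z) * ι Q m₁ = ι Q m₂ * (involute (x * z) * ι Q m₁) := by
      rw [mul_assoc]
    rw [e2, tau_ι_mul, i2, neg_mul, map_neg, neg_neg]
    have e3 : x * z * ι Q m₁ * ι Q m₂ = x * (z * ι Q m₁ * ι Q m₂) := by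
      simp only [mul_assoc]
    rw [e3, hx]
    simp only [mul_assoc]

end Tau

section Det

open QuadGrp

variable {R : Type u} [CommRing R] {M : Type v} [AddCommGroup M] [Module R M]
  (Q : QuadraticForm R M)

theorem conj_cprod (u : (CliffordAlgebra Q)ˣ) (g : M →ₗ[R] M)
    (h : ∀ v, (u : CliffordAlgebra Q) * ι Q v * ↑u⁻¹ = ι Q (g v)) (k : ℕ) (w : Fin k → M) :
    (u : CliffordAlgebra Q) * cprod Q k w * ↑u⁻¹ = cprod Q k (g ∘ w) := by
  induction k with
  | zero => rw [cprod_zero, cprod_zero, mul_one, Units.mul_inv]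
  | succ k ih =>
    rw [cprod_succ, cprod_succ]
    have e : (u : CliffordAlgebra Q) * (ι Q (w 0) * cprod Q k (Matrix.vecTail w)) * ↑u⁻¹ =
        ((u : CliffordAlgebra Q) * ι Q (w 0) * ↑u⁻¹) *
          ((u : CliffordAlgebra Q) * cprod Q k (Matrix.vecTail w) * ↑u⁻¹) := by
      simp only [mul_assoc, Units.inv_mul_cancel_left]
    rw [e, h, ih]
    rfl

theorem map_cprod (f : Q →qᵢ Q) (k : ℕ) (w : Fin k → M) :
    CliffordAlgebra.map f (cprod Q k w) = cprod Q k (f ∘ w) := by
  induction k with
  | zero => rw [cprod_zero, cprod_zero, map_one]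
  | succ k ih =>
    rw [cprod_succ, cprod_succ, map_mul, CliffordAlgebra.map_apply_ι, ih]
    rfl

theorem cprod_mem_evenOdd (k : ℕ) (w : Fin k → M) : cprod Q k w ∈ evenOdd Q (k : ZMod 2) := by
  induction k with
  | zero =>
    rw [cprod_zero, Nat.cast_zero]
    exact SetLike.one_mem_graded _
  | succ k ih =>
    rw [cprod_succ, Nat.cast_succ, add_comm]
    exact SetLike.mul_mem_graded (ι_mem_evenOdd_one Q _) (ih _)

variable {n : ℕ} (b : Module.Basis (Fin n) R M)

include b in
/-- **Conjugation by an even unit normalising `M` has determinant one.** -/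
theorem det_eq_one_of_even_conj (u : (CliffordAlgebra Q)ˣ)
    (hu : (u : CliffordAlgebra Q) ∈ evenOdd Q 0) (g : M →ₗ[R] M)
    (h : ∀ v, (u : CliffordAlgebra Q) * ι Q v * ↑u⁻¹ = ι Q (g v)) : LinearMap.det g = 1 := by
  haveI : Module.Free R M := Module.Free.of_basis b
  obtain ⟨B, hB⟩ := exists_bilin Q
  have h1 := tau_cprod Q B hB b (g ∘ b)
  rw [← conj_cprod Q u g h, mul_assoc, tau_mul_comm_of_even Q B hB b _ hu, mul_assoc,
    Units.inv_mul, mul_one, tau_cprod, Module.Basis.det_comp, Module.Basis.det_self, mul_one] at h1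
  exact h1.symm

include b in
/-- **A reflection has determinant `-1`** (even rank). -/
theorem det_reflEquiv (hn : Even n) {c : R} {v : M} (hc : c * Q v = 1) :
    LinearMap.det (reflEquiv Q hc).toLinearMap = -1 := by
  haveI : Module.Free R M := Module.Free.of_basis b
  obtain ⟨B, hB⟩ := exists_bilin Q
  have hx : cprod Q n b ∈ evenOdd Q 0 := by
    have := cprod_mem_evenOdd Q n b
    rwa [(ZMod.natCast_eq_zero_iff_even).mpr hn] at this
  have h1 := tau_cprod Q B hB b ((reflEquiv Q hc) ∘ b)
  have h2 := map_reflEquiv_mul_ι_of_even Q hc (cprod Q n b) hx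
  have h3 : CliffordAlgebra.map (isometryOfMem Q (reflEquiv Q hc) (reflEquiv_mem_O Q hc))
      (cprod Q n b) = ι Q v * (cprod Q n b * (c • ι Q v)) := by
    have e : ι Q v * (c • ι Q v) = 1 := by
      rw [mul_smul_comm, ι_sq_scalar, Algebra.smul_def, ← map_mul, hc, map_one]
    calc CliffordAlgebra.map (isometryOfMem Q (reflEquiv Q hc) (reflEquiv_mem_O Q hc))
          (cprod Q n b)
        = CliffordAlgebra.map (isometryOfMem Q (reflEquiv Q hc) (reflEquiv_mem_O Q hc))
          (cprod Q n b) * (ι Q v * (c • ι Q v)) := by rw [e, mul_one]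
      _ = ι Q v * (cprod Q n b * (c • ι Q v)) := by rw [← mul_assoc, h2, mul_assoc]
  rw [map_cprod] at h3
  have h4 : (⇑(isometryOfMem Q (reflEquiv Q hc) (reflEquiv_mem_O Q hc)) ∘ ⇑b) =
      (⇑(reflEquiv Q hc) ∘ ⇑b) := rfl
  rw [h4] at h3
  have i1 : involute (cprod Q n b * (c • ι Q v)) * ι Q v = -cprod Q n b := by
    rw [map_mul, involute_eq_of_mem_even hx, map_smul, involute_ι, smul_neg, mul_neg, neg_mul,
      mul_assoc, smul_mul_assoc, ι_sq_scalar, Algebra.smul_def, ← map_mul, hc, map_one, mul_one]
  rw [h3, tau_ι_mul, i1, map_neg, tau_cprod, Module.Basis.det_self] at h1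
  have h5 := Module.Basis.det_comp b (reflEquiv Q hc).toLinearMap b
  rw [Module.Basis.det_self, mul_one] at h5
  rw [← h5]
  exact h1.symm

end Det

end Groth.Agent.Lib.Helper25.Cliff
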