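import Mathlib
import Groth.Agent.Lib.Helper25CliffW

/-!
# Determinants of Dickson-trivial isometries (helper25)
-/

set_option autoImplicit false
set_option linter.unusedSectionVars false
set_option linter.style.haveILetI false
universe u v u'

namespace Groth.Agent.Lib.Helper25.Cliff

open CliffordAlgebra TensorProduct QuadGrp

section Regular

variable {R : Type u} [CommRing R] {M : Type v} [AddCommGroup M] [Module R M]

/-- the polar matrix -/
noncomputable def pmat {ι : Type*} (b : Module.Basis ι R M) (Q : QuadraticForm R M) :
    Matrix ι ι R := Matrix.of fun i j => QuadraticMap.polar Q (b i) (b j)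

theorem pmat_eq_toMatrix {ι : Type*} [Fintype ι] [DecidableEq ι] (b : Module.Basis ι R M)
    (Q : QuadraticForm R M) :
    pmat b Q = LinearMap.toMatrix b b.dualBasis (QuadraticMap.polarBilin Q) := by
  ext i j
  rw [LinearMap.toMatrix_apply, Module.Basis.dualBasis_repr]
  change QuadraticMap.polar Q (b i) (b j) = QuadraticMap.polar Q (b j) (b i)
  rw [QuadraticMap.polar_comm]

theorem isRegular_iff_isUnit_det {ι : Type*} [Fintype ι] [DecidableEq ι]
    (b : Module.Basis ι R M) (Q : QuadraticForm R M) :
    IsRegular Q ↔ IsUnit (pmat b Q).det := by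
  rw [pmat_eq_toMatrix]
  constructor
  · intro hQ
    let L : M ≃ₗ[R] Module.Dual R M := LinearEquiv.ofBijective (QuadraticMap.polarBilin Q) hQ
    exact LinearEquiv.isUnit_det L b b.dualBasis
  · intro h
    have := (LinearEquiv.ofIsUnitDet h).bijective
    exact this

variable [Module.Free R M] (A : Type u') [CommRing A] [Algebra R A]

theorem pmat_baseChange {ι : Type*} [Fintype ι] [DecidableEq ι] (b : Module.Basis ι R M)
    (Q : QuadraticForm R M) :
    pmat (Algebra.TensorProduct.basis A b) (baseChangeForm A Q) =
      (pmat b Q).map (algebraMap R A) := by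
  ext i j
  rw [Matrix.map_apply]
  change QuadraticMap.polar (baseChangeForm A Q) _ _ = algebraMap R A (QuadraticMap.polar Q _ _)
  rw [Algebra.TensorProduct.basis_apply, Algebra.TensorProduct.basis_apply,
    HalfDisc.polar_baseChangeForm]

theorem isRegular_baseChangeForm [Module.Finite R M] {Q : QuadraticForm R M} (hQ : IsRegular Q) :
    IsRegular (baseChangeForm A Q) := by
  classical
  let b := Module.Free.chooseBasis R M
  rw [isRegular_iff_isUnit_det (Algebra.TensorProduct.basis A b), pmat_baseChange,
    ← RingHom.mapMatrix_apply, ← RingHom.map_det]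
  exact ((isRegular_iff_isUnit_det b Q).mp hQ).map _

end Regular

section DicksonBC

variable {R : Type u} [CommRing R] {M : Type v} [AddCommGroup M] [Module R M] [Module.Free R M]
  [Module.Finite R M] (A : Type u') [CommRing A] [Algebra R A] {Q : QuadraticForm R M}

/-- flat base change of the Dickson condition. -/
theorem isDicksonTrivial_baseChange [Module.Flat R A] {g : M ≃ₗ[R] M} {hg : g ∈ O Q}
    (hD : IsDicksonTrivial Q g hg) :
    IsDicksonTrivial (baseChangeForm A Q) (g.baseChange R A M M) (baseChange_mem_O A hg) := by
  intro z hz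
  have ht := even_symm_mem_baseChange_center A Q z hz
  have key : ∀ t ∈ (Subalgebra.toSubmodule
      (Subalgebra.center R ↥(CliffordAlgebra.even Q))).baseChange A,
      bcMap A g hg (bcEven A Q t).1 = (bcEven A Q t).1 := by
    rintro _ ⟨s, rfl⟩
    induction s using TensorProduct.induction_on with
    | zero => simp
    | tmul a p =>
      rw [LinearMap.baseChange_tmul, bcEven_tmul_coe, Submodule.subtype_apply, map_smul,
        ← ofBCAux_map', hD p.1 p.2]
    | add s s' hs hs' =>
      rw [map_add, map_add]
      change bcMap A g hg ((bcEven A Q _).1 + (bcEven A Q _).1) =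
        ((bcEven A Q _).1 + (bcEven A Q _).1)
      rw [map_add, hs, hs']
  have := key _ ht
  rwa [AlgEquiv.apply_symm_apply] at this

end DicksonBC

section DetOne

variable {R : Type u} [CommRing R] {M : Type v} [AddCommGroup M] [Module R M] [Module.Free R M]
  [Module.Finite R M]

/-- local case. -/
theorem det_eq_one_of_mem_SOeven_of_isLocalRing [IsLocalRing R] (m : ℕ) (hm : 1 ≤ m)
    (hM : Module.finrank R M = 2 * m) (Q : QuadraticForm R M) (hQ : IsRegular Q)
    (g : M ≃ₗ[R] M) (hg : g ∈ SOeven Q) : LinearMap.det g.toLinearMap = 1 := by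
  obtain ⟨u, hu, hconj⟩ := exists_gSpin_conj_of_mem_SOeven m hm hM Q hQ g hg
  exact det_eq_one_of_even_conj Q (Module.finBasis R M) u hu.2 g.toLinearMap hconj

/-- **Dickson-trivial isometries have determinant one** (regular, even rank, any base). -/
theorem det_eq_one_of_mem_SOeven (m : ℕ) (hm : 1 ≤ m)
    (hM : Module.finrank R M = 2 * m) (Q : QuadraticForm R M) (hQ : IsRegular Q)
    (g : M ≃ₗ[R] M) (hg : g ∈ SOeven Q) : LinearMap.det g.toLinearMap = 1 := by
  rw [← sub_eq_zero]
  apply eq_zero_of_localization
  intro J hJ
  obtain ⟨hgO, hD⟩ := hg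
  have hD' := isDicksonTrivial_baseChange (Localization.AtPrime J) hD
  haveI : Nontrivial R := (algebraMap R (Localization.AtPrime J)).domain_nontrivial
  have hM' : Module.finrank (Localization.AtPrime J) (Localization.AtPrime J ⊗[R] M) = 2 * m := by
    rw [Module.finrank_baseChange, hM]
  have h1 := det_eq_one_of_mem_SOeven_of_isLocalRing m hm hM' (baseChangeForm _ Q)
    (isRegular_baseChangeForm _ hQ) (g.baseChange R (Localization.AtPrime J) M M) ⟨_, hD'⟩
  have h2 : (g.baseChange R (Localization.AtPrime J) M M).toLinearMap =
      g.toLinearMap.baseChange (Localization.AtPrime J) := rfl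
  rw [h2, LinearMap.det_baseChange] at h1
  rw [map_sub, h1, map_one, sub_self]

end DetOne

end Groth.Agent.Lib.Helper25.Cliff
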