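import Mathlib
import Groth.Agent.Lib.Helper25CliffX

/-!
# Determinant one implies Dickson-trivial when `2` is invertible (helper25)
-/

set_option autoImplicit false
set_option linter.unusedSectionVars false
set_option linter.style.haveILetI false
universe u v u'

namespace Groth.Agent.Lib.Helper25.Cliff

open CliffordAlgebra TensorProduct QuadGrp

section LocalGlobal

variable {R : Type u} [CommRing R] {M : Type v} [AddCommGroup M] [Module R M] [Module.Free R M]
  [Module.Finite R M]

/-- an element of the Clifford algebra vanishing in all localisations at maximal ideals is zero. -/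
theorem eq_zero_of_ofBCAux_localization (Q : QuadraticForm R M) (x : CliffordAlgebra Q)
    (h : ∀ (J : Ideal R) (_ : J.IsMaximal), ofBCAux (Localization.AtPrime J) Q x = 0) : x = 0 := by
  classical
  let c := Module.Free.chooseBasis R (CliffordAlgebra Q)
  apply c.repr.injective
  rw [map_zero]
  ext j
  rw [Finsupp.zero_apply]
  apply eq_zero_of_localization
  intro J hJ
  have h1 : ((1 : Localization.AtPrime J) ⊗ₜ[R] x : Localization.AtPrime J ⊗[R] CliffordAlgebra Q)
      = 0 := by
    apply (bcEquiv (Localization.AtPrime J) Q).injective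
    rw [bcEquiv_one_tmul, map_zero]
    exact h J hJ
  have h2 := congrArg (fun t => (Algebra.TensorProduct.basis (Localization.AtPrime J) c).repr t j)
    h1
  simp only [map_zero, Finsupp.zero_apply] at h2
  rw [Algebra.TensorProduct.basis_repr_tmul, one_smul, Finsupp.mapRange_apply] at h2
  exact h2

/-- local-global principle for the Dickson condition. -/
theorem isDicksonTrivial_of_localization {Q : QuadraticForm R M} (g : M ≃ₗ[R] M) (hg : g ∈ O Q)
    (h : ∀ (J : Ideal R) (_ : J.IsMaximal),
      IsDicksonTrivial (baseChangeForm (Localization.AtPrime J) Q)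
        (g.baseChange R (Localization.AtPrime J) M M)
        (baseChange_mem_O (Localization.AtPrime J) hg)) :
    IsDicksonTrivial Q g hg := by
  intro z hz
  rw [← sub_eq_zero]
  apply eq_zero_of_ofBCAux_localization
  intro J hJ
  have h1 := h J hJ _ (ofBCAux_mem_center_even (Localization.AtPrime J) z hz)
  rw [map_sub, ofBCAux_map', sub_eq_zero]
  exact h1

end LocalGlobal

section TwoInv

variable {R : Type u} [CommRing R] {M : Type v} [AddCommGroup M] [Module R M] [Module.Free R M]
  [Module.Finite R M]

/-- local case: either Dickson-trivial, or the determinant is `-1`. -/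
theorem isDicksonTrivial_or_det_eq_neg_one [IsLocalRing R] (m : ℕ) (hm : 1 ≤ m)
    (hM : Module.finrank R M = 2 * m) (Q : QuadraticForm R M) (hQ : IsRegular Q)
    (g : M ≃ₗ[R] M) (hg : g ∈ O Q) :
    IsDicksonTrivial Q g hg ∨ LinearMap.det g.toLinearMap = -1 := by
  obtain ⟨R', iR, iA, ε, hne, hiff, hdich, hrefl⟩ := exists_dickson_test m hm hM Q hQ
  rcases hdich g hg with h | h
  · left
    exact (hiff g hg).mpr h
  · right
    obtain ⟨v, hv⟩ := exists_isUnit_apply Q (by omega) hQ
    obtain ⟨w, hw⟩ := hv
    have hc : (↑w⁻¹ : R) * Q v = 1 := by rw [← hw, Units.inv_mul]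
    have hr := reflEquiv_mem_O Q hc
    have h1 : bcMap R' (g * reflEquiv Q hc) ((O Q).mul_mem hg hr) ε = ε := by
      rw [bcMap_mul_apply R' _ _ hg hr, hrefl v _ hc, map_sub, map_one, h, sub_sub_cancel]
    have h2 : g * reflEquiv Q hc ∈ SOeven Q :=
      ⟨(O Q).mul_mem hg hr, (hiff _ _).mpr h1⟩
    have h3 := det_eq_one_of_mem_SOeven_of_isLocalRing m hm hM Q hQ _ h2
    have h4 : (g * reflEquiv Q hc).toLinearMap = g.toLinearMap ∘ₗ (reflEquiv Q hc).toLinearMap :=
      rfl
    rw [h4, LinearMap.det_comp, det_reflEquiv Q (Module.finBasis R M) (by rw [hM]; simp) hc,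
      mul_neg, mul_one] at h3
    rw [← h3, neg_neg]

/-- **Determinant one implies the Dickson condition when `2` is a unit.** -/
theorem isDicksonTrivial_of_det_eq_one (h2 : IsUnit (2 : R)) (m : ℕ) (hm : 1 ≤ m)
    (hM : Module.finrank R M = 2 * m) (Q : QuadraticForm R M) (hQ : IsRegular Q)
    (g : M ≃ₗ[R] M) (hg : g ∈ O Q) (hdet : LinearMap.det g.toLinearMap = 1) :
    IsDicksonTrivial Q g hg := by
  apply isDicksonTrivial_of_localization
  intro J hJ
  haveI : Nontrivial R := (algebraMap R (Localization.AtPrime J)).domain_nontrivial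
  have hM' : Module.finrank (Localization.AtPrime J) (Localization.AtPrime J ⊗[R] M) = 2 * m := by
    rw [Module.finrank_baseChange, hM]
  rcases isDicksonTrivial_or_det_eq_neg_one m hm hM' (baseChangeForm _ Q)
    (isRegular_baseChangeForm _ hQ) (g.baseChange R (Localization.AtPrime J) M M)
    (baseChange_mem_O _ hg) with h | h
  · exact h
  · exfalso
    have e : (g.baseChange R (Localization.AtPrime J) M M).toLinearMap =
        g.toLinearMap.baseChange (Localization.AtPrime J) := rfl
    rw [e, LinearMap.det_baseChange, hdet, map_one] at h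
    have h3 : (2 : Localization.AtPrime J) = 0 := by
      have : (1 : Localization.AtPrime J) + 1 = 0 := by
        nth_rewrite 1 [h]
        exact neg_add_cancel 1
      rw [← this]; norm_num
    have h4 : IsUnit (2 : Localization.AtPrime J) := by
      have := h2.map (algebraMap R (Localization.AtPrime J))
      rwa [map_ofNat] at this
    rw [h3] at h4
    exact not_isUnit_zero h4

end TwoInv

end Groth.Agent.Lib.Helper25.Cliff
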