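import Mathlib
import Groth.Agent.Lib.Helper25CliffY

/-!
# Odd rank: conjugation by the naive Clifford group has determinant one (helper25)
-/

set_option autoImplicit false
set_option linter.unusedSectionVars false
set_option linter.style.haveILetI false
universe u v u'

namespace Groth.Agent.Lib.Helper25.Cliff

open CliffordAlgebra TensorProduct QuadGrp

section ConjEquiv

variable {R : Type u} [CommRing R] {M : Type v} [AddCommGroup M] [Module R M] [Module.Free R M]
  (Q : QuadraticForm R M)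

/-- The isometry induced by conjugation by a point of the naive Clifford group. -/
theorem exists_linearEquiv_conj {u : (CliffordAlgebra Q)ˣ} (hu : u ∈ GPin' Q) :
    ∃ g : M ≃ₗ[R] M, g ∈ O Q ∧
      ∀ v, (u : CliffordAlgebra Q) * ι Q v * ↑u⁻¹ = ι Q (g v) := by
  obtain ⟨r, hr⟩ := exists_retraction Q
  let G : (CliffordAlgebra Q)ˣ → M →ₗ[R] M := fun w =>
    r ∘ₗ (conjHom Q w).toLinearMap ∘ₗ ι Q
  have hG : ∀ w ∈ GPin' Q, ∀ v, ι Q (G w v) = (w : CliffordAlgebra Q) * ι Q v * ↑w⁻¹ := by
    intro w hw v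
    obtain ⟨x, hx⟩ := conj_ι_mem_range Q hw v
    change ι Q (r (conjHom Q w (ι Q v))) = _
    rw [conjHom_apply, ← hx, hr]
  have hu' : u⁻¹ ∈ GPin' Q := (GPin' Q).inv_mem hu
  let g : M ≃ₗ[R] M := LinearEquiv.ofLinear (G u) (G u⁻¹)
    (by
      apply LinearMap.ext
      intro v
      apply ι_injective Q
      rw [LinearMap.comp_apply, hG u hu, hG u⁻¹ hu', inv_inv, LinearMap.id_apply]
      simp only [mul_assoc, Units.mul_inv_cancel_left, Units.mul_inv, mul_one])
    (by
      apply LinearMap.ext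
      intro v
      apply ι_injective Q
      rw [LinearMap.comp_apply, hG u⁻¹ hu', hG u hu, inv_inv, LinearMap.id_apply]
      simp only [mul_assoc, Units.inv_mul_cancel_left, Units.inv_mul, mul_one])
  have hg : ∀ v, (u : CliffordAlgebra Q) * ι Q v * ↑u⁻¹ = ι Q (g v) := fun v => (hG u hu v).symm
  refine ⟨g, ?_, hg⟩
  rw [mem_O]
  intro v
  apply algebraMap_injective Q
  rw [← ι_sq_scalar, ← hg, ← ι_sq_scalar]
  simp only [mul_assoc, Units.inv_mul_cancel_left]
  rw [← mul_assoc (ι Q v), ι_sq_scalar, Algebra.commutes, ← mul_assoc, Units.mul_inv, one_mul]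

end ConjEquiv

section BCUnit

variable {R : Type u} [CommRing R] {M : Type v} [AddCommGroup M] [Module R M] [Module.Free R M]
  (A : Type u') [CommRing A] [Algebra R A] (Q : QuadraticForm R M)

/-- base change of a conjugation identity. -/
theorem conj_baseChange (u : (CliffordAlgebra Q)ˣ) (g : M ≃ₗ[R] M)
    (h : ∀ v, (u : CliffordAlgebra Q) * ι Q v * ↑u⁻¹ = ι Q (g v)) (w : A ⊗[R] M) :
    ((Units.map (ofBCAux A Q : CliffordAlgebra Q →* CliffordAlgebra (baseChangeForm A Q)) u :
      (CliffordAlgebra (baseChangeForm A Q))ˣ) : CliffordAlgebra (baseChangeForm A Q)) *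
      ι (baseChangeForm A Q) w *
      ↑(Units.map (ofBCAux A Q : CliffordAlgebra Q →* CliffordAlgebra (baseChangeForm A Q)) u)⁻¹ =
      ι (baseChangeForm A Q) (g.baseChange R A M M w) := by
  induction w using TensorProduct.induction_on with
  | zero => simp
  | tmul a v =>
    have e1 : (a ⊗ₜ[R] v : A ⊗[R] M) = a • ((1 : A) ⊗ₜ[R] v) := by
      rw [TensorProduct.smul_tmul', smul_eq_mul, mul_one]
    have e2 : (a ⊗ₜ[R] g v : A ⊗[R] M) = a • ((1 : A) ⊗ₜ[R] g v) := by
      rw [TensorProduct.smul_tmul', smul_eq_mul, mul_one]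
    rw [LinearEquiv.baseChange_tmul, e1, e2, map_smul, map_smul, ← ofBCAux_ι, ← ofBCAux_ι,
      mul_smul_comm, smul_mul_assoc, ← map_inv, Units.coe_map, Units.coe_map]
    change a • (ofBCAux A Q u * ofBCAux A Q (ι Q v) * ofBCAux A Q ↑u⁻¹) = _
    rw [← map_mul, ← map_mul, h v]
  | add w w' hw hw' =>
    rw [map_add, map_add, mul_add, add_mul, hw, hw', map_add]

end BCUnit

section OddDet

variable {R : Type u} [CommRing R] {M : Type v} [AddCommGroup M] [Module R M] [Module.Free R M]
  [Module.Finite R M]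

/-- local case -/
theorem det_eq_one_of_conj_odd_of_isLocalRing [IsLocalRing R] (m : ℕ)
    (b : Module.Basis (Fin (2 * m + 1)) R M) (Q : QuadraticForm R M)
    (hQ : IsSemiregular b (LinearEquiv.refl R R) Q) (u : (CliffordAlgebra Q)ˣ)
    (g : M ≃ₗ[R] M) (h : ∀ v, (u : CliffordAlgebra Q) * ι Q v * ↑u⁻¹ = ι Q (g v)) :
    LinearMap.det g.toLinearMap = 1 := by
  have hu : u ∈ GPin' Q := mem_GPin'_of_conj u g h
  obtain ⟨z, hz, hzu, a, ha, hua⟩ := exists_center_mul_gSpin m b Q hQ u hu
  obtain ⟨zU, hzU⟩ := hzu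
  have hU : u = zU * a := by
    apply Units.ext
    rw [Units.val_mul, hzU, hua]
  refine det_eq_one_of_even_conj Q b a ha.2 g.toLinearMap (fun v => ?_)
  rw [LinearEquiv.coe_coe, ← h v, hU, mul_inv_rev, Units.val_mul, Units.val_mul]
  have hc : ∀ x : CliffordAlgebra Q, (zU : CliffordAlgebra Q) * x = x * zU := by
    intro x
    rw [hzU]
    exact ((Subalgebra.mem_center_iff (R := R)).mp hz x).symm
  calc (a : CliffordAlgebra Q) * ι Q v * ↑a⁻¹
      = (a : CliffordAlgebra Q) * ι Q v * ↑a⁻¹ * (↑zU * ↑zU⁻¹) := by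
        rw [Units.mul_inv, mul_one]
    _ = ↑zU * ↑a * ι Q v * (↑a⁻¹ * ↑zU⁻¹) := by
        rw [← mul_assoc, ← hc]
        simp only [mul_assoc]

/-- **Odd rank: conjugation by a unit normalising `M` has determinant one.** -/
theorem det_eq_one_of_conj_odd (m : ℕ)
    (b : Module.Basis (Fin (2 * m + 1)) R M) (Q : QuadraticForm R M)
    (hQ : IsSemiregular b (LinearEquiv.refl R R) Q) (u : (CliffordAlgebra Q)ˣ)
    (g : M ≃ₗ[R] M) (h : ∀ v, (u : CliffordAlgebra Q) * ι Q v * ↑u⁻¹ = ι Q (g v)) :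
    LinearMap.det g.toLinearMap = 1 := by
  rw [← sub_eq_zero]
  apply eq_zero_of_localization
  intro J hJ
  have hQ' : IsSemiregular (Algebra.TensorProduct.basis (Localization.AtPrime J) b)
      (LinearEquiv.refl _ _) (baseChangeForm (Localization.AtPrime J) Q) := by
    change IsUnit _
    rw [HalfDisc.halfDisc_baseChange]
    exact hQ.map _
  have h1 := det_eq_one_of_conj_odd_of_isLocalRing m _ _ hQ' _ _
    (conj_baseChange (Localization.AtPrime J) Q u g h)
  have h2 : (g.baseChange R (Localization.AtPrime J) M M).toLinearMap =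
      g.toLinearMap.baseChange (Localization.AtPrime J) := rfl
  rw [h2, LinearMap.det_baseChange] at h1
  rw [map_sub, h1, map_one, sub_self]

end OddDet

end Groth.Agent.Lib.Helper25.Cliff
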