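import Mathlib
import Groth.Agent.Lib.Helper25CliffZ

/-!
# The centre of the even Clifford algebra is a finite module; refined Dickson test (helper25)
-/

set_option autoImplicit false
set_option linter.unusedSectionVars false
set_option linter.style.haveILetI false
universe u v u'

namespace Groth.Agent.Lib.Helper25.Cliff

open CliffordAlgebra TensorProduct QuadGrp

section FiniteCenter

variable {R : Type u} [CommRing R] {M : Type v} [AddCommGroup M] [Module R M] [Module.Free R M]
  [Module.Finite R M]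

/-- The centre of the even part is a finite module (regular, even positive rank). -/
theorem finite_center_even (m : ℕ) (hm : 1 ≤ m) (hV : Module.finrank R M = 2 * m)
    (Q : QuadraticForm R M) (hQ : IsRegular Q) :
    Module.Finite R ↥(Subalgebra.toSubmodule (Subalgebra.center R ↥(CliffordAlgebra.even Q))) := by
  classical
  obtain ⟨k, rfl⟩ : ∃ k, m = k + 1 := ⟨m - 1, by omega⟩
  obtain ⟨A, iR, iA, hff, hfp, ⟨f⟩⟩ := exists_fppf_isometry_hypSum (k + 1) hV Q hQ
  obtain ⟨ε₀, hε₀, hZ₀⟩ := exists_parityIdem_center_hypSum (R := A) k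
  have hε := hε₀.map f.symm
  have hZ := center_desc_of_isometry f hZ₀
  obtain ⟨ε, hεdef⟩ : ∃ ε, ε = CliffordAlgebra.map f.symm.toIsometry ε₀ := ⟨_, rfl⟩
  rw [← hεdef] at hε hZ
  have hε' := isParityIdem_one_sub hε
  obtain ⟨Zs, hZs⟩ : ∃ Zs, Zs = Subalgebra.toSubmodule
    (Subalgebra.center R ↥(CliffordAlgebra.even Q)) := ⟨_, rfl⟩
  rw [← hZs]
  let t₁ := (bcEven A Q).symm ⟨ε, mem_even_iff.mpr hε.even⟩
  let t₂ := (bcEven A Q).symm ⟨1 - ε, mem_even_iff.mpr hε'.even⟩
  have ht₁ : t₁ ∈ Zs.baseChange A := by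
    rw [hZs]; exact even_symm_mem_baseChange_center A Q _ hε.mem_center_even
  have ht₂ : t₂ ∈ Zs.baseChange A := by
    rw [hZs]; exact even_symm_mem_baseChange_center A Q _ hε'.mem_center_even
  have hcen : ∀ t ∈ Zs.baseChange A, bcEven A Q t ∈
      Subalgebra.center A ↥(CliffordAlgebra.even (baseChangeForm A Q)) := by
    rintro _ ⟨s, rfl⟩
    induction s using TensorProduct.induction_on with
    | zero => simp
    | tmul a p =>
      rw [LinearMap.baseChange_tmul, Submodule.subtype_apply]
      have h1 : bcEven A Q (a ⊗ₜ[R] p.1) = a • (⟨ofBCAux A Q p.1.1,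
          mem_even_iff.mpr (ofBCAux_mem_evenOdd A Q 0 p.1.1 (mem_even_iff.mp p.1.2))⟩ :
          ↥(CliffordAlgebra.even (baseChangeForm A Q))) := by
        apply Subtype.ext
        rw [bcEven_tmul_coe]
        rfl
      rw [h1]
      exact Subalgebra.smul_mem _ (ofBCAux_mem_center_even A p.1 (hZs ▸ p.2)) a
    | add s s' hs hs' =>
      rw [map_add, map_add]
      exact Subalgebra.add_mem _ hs hs'
  have hspan : Zs.baseChange A = Submodule.span A {t₁, t₂} := by
    apply le_antisymm
    · intro t ht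
      obtain ⟨a, b, hab⟩ := hZ _ (hcen t ht)
      have : t = a • t₁ + b • t₂ := by
        apply (bcEven A Q).injective
        rw [map_add, map_smul, map_smul, AlgEquiv.apply_symm_apply, AlgEquiv.apply_symm_apply]
        apply Subtype.ext
        exact hab
      rw [this]
      exact Submodule.add_mem _
        (Submodule.smul_mem _ _ (Submodule.subset_span (by simp)))
        (Submodule.smul_mem _ _ (Submodule.subset_span (by simp)))
    · rw [Submodule.span_le]
      rintro x (rfl | rfl)
      · exact ht₁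
      · exact ht₂
  have hfinP : Module.Finite A ↥(Zs.baseChange A) := by
    rw [hspan]
    exact Module.Finite.span_of_finite A (Set.toFinite _)
  have hinj : Function.Injective (Zs.subtype.baseChange A) := by
    rw [LinearMap.baseChange_eq_ltensor]
    exact Module.Flat.lTensor_preserves_injective_linearMap _ Zs.injective_subtype
  let e : (A ⊗[R] ↥Zs) ≃ₗ[A] ↥(Zs.baseChange A) :=
    LinearEquiv.ofInjective (Zs.subtype.baseChange A) hinj
  haveI : Module.Finite A (A ⊗[R] ↥Zs) := Module.Finite.equiv e.symm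
  exact Module.Finite.of_finite_tensorProduct_of_faithfullyFlat A

end FiniteCenter

section Test'

variable {R : Type u} [CommRing R] [IsLocalRing R] {M : Type v} [AddCommGroup M] [Module R M]
  [Module.Free R M] [Module.Finite R M]

/-- The Dickson test, with the description of the centre exported. -/
theorem exists_dickson_test' (m : ℕ) (hm : 1 ≤ m) (hM : Module.finrank R M = 2 * m)
    (Q : QuadraticForm R M) (hQ : IsRegular Q) :
    ∃ (R' : Type u) (_ : CommRing R') (_ : Algebra R R')
      (ε : CliffordAlgebra (baseChangeForm R' Q)),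
      Module.FaithfullyFlat R R' ∧
      (∀ z : ↥(CliffordAlgebra.even (baseChangeForm R' Q)),
        z ∈ Subalgebra.center R' ↥(CliffordAlgebra.even (baseChangeForm R' Q)) →
        ∃ a b : R', z.1 = a • ε + b • (1 - ε)) ∧
      (∀ (g : M ≃ₗ[R] M) (hg : g ∈ O Q), IsDicksonTrivial Q g hg ↔ bcMap R' g hg ε = ε) ∧
      (∀ (g : M ≃ₗ[R] M) (hg : g ∈ O Q), bcMap R' g hg ε = ε ∨ bcMap R' g hg ε = 1 - ε) ∧
      (∀ (v : M) (c : R) (hc : c * Q v = 1),
        bcMap R' (reflEquiv Q hc) (reflEquiv_mem_O Q hc) ε = 1 - ε) := by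
  obtain ⟨k, rfl⟩ : ∃ k, m = k + 1 := ⟨m - 1, by omega⟩
  obtain ⟨R', iR, iL, iA, hff, ⟨f⟩⟩ := exists_local_isometry_hypSum (k + 1) hM Q hQ
  obtain ⟨ε₀, hε₀, hZ₀⟩ := exists_parityIdem_center_hypSum (R := R') k
  have hε := hε₀.map f.symm
  have hZ := center_desc_of_isometry f hZ₀
  obtain ⟨v₀, hv₀⟩ := exists_isUnit_apply Q (by omega) hQ
  have hv' : IsUnit (baseChangeForm R' Q ((1 : R') ⊗ₜ[R] v₀)) := by
    rw [HalfDisc.baseChangeForm_one_tmul]
    exact hv₀.map _
  refine ⟨R', iR, iA, CliffordAlgebra.map f.symm.toIsometry ε₀, hff, hZ,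
    fun g hg => isDicksonTrivial_iff R' hε hZ g hg,
    fun g hg => hε.map_eq_or hZ hv' (isoEquivOfMem _ (baseChange_mem_O R' hg)),
    fun v c hc => ?_⟩
  rcases hε.map_eq_or hZ hv' (isoEquivOfMem _ (baseChange_mem_O R' (reflEquiv_mem_O Q hc)))
    with h | h
  · exfalso
    have hD := (isDicksonTrivial_iff R' hε hZ _ (reflEquiv_mem_O Q hc)).mpr h
    have hcomm : ∀ p ∈ Subalgebra.toSubmodule (Subalgebra.center R ↥(CliffordAlgebra.even Q)),
        ι Q v * p.1 = p.1 * ι Q v := by
      intro p hp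
      have h1 := map_reflEquiv_mul_ι_of_even Q hc p.1 (mem_even_iff.mp p.2)
      rw [hD p hp] at h1
      exact h1.symm
    have ht := even_symm_mem_baseChange_center R' Q _ hε.mem_center_even
    have h2 := commute_bcEven_of_mem_baseChange R' Q _ (ι Q v) hcomm _ ht
    rw [AlgEquiv.apply_symm_apply] at h2
    have hodd : ofBCAux R' Q (ι Q v) ∈ evenOdd (baseChangeForm R' Q) 1 :=
      ofBCAux_mem_evenOdd R' Q 1 _ (ι_mem_evenOdd_one Q v)
    have h3 := hε.eq_zero_of_odd_of_commute _ hodd h2
    rw [ofBCAux_ι] at h3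
    have hvu : IsUnit (baseChangeForm R' Q ((1 : R') ⊗ₜ[R] v)) := by
      rw [HalfDisc.baseChangeForm_one_tmul]
      exact (IsUnit.of_mul_eq_one _ (by rw [mul_comm]; exact hc)).map _
    exact ι_ne_zero_of_isUnit hvu h3
  · exact h

/-- **Local case: a Dickson-nontrivial isometry acts on the centre of the even part as the
conjugation by any anisotropic vector.** -/
theorem map_mul_ι_of_not_isDicksonTrivial (m : ℕ) (hm : 1 ≤ m)
    (hM : Module.finrank R M = 2 * m) (Q : QuadraticForm R M) (hQ : IsRegular Q)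
    (g : M ≃ₗ[R] M) (hg : g ∈ O Q) (hD : ¬ IsDicksonTrivial Q g hg)
    {c : R} {v : M} (hc : c * Q v = 1) (z : ↥(CliffordAlgebra.even Q))
    (hz : z ∈ Subalgebra.center R ↥(CliffordAlgebra.even Q)) :
    CliffordAlgebra.map (isometryOfMem Q g hg) z.1 * ι Q v = ι Q v * z.1 := by
  obtain ⟨R', iR, iA, ε, hff, hZ, hiff, hdich, hrefl⟩ := exists_dickson_test' m hm hM Q hQ
  have h1 : bcMap R' g hg ε = 1 - ε := by
    rcases hdich g hg with h | h
    · exact absurd ((hiff g hg).mpr h) hD
    · exact h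
  have h2 := hrefl v c hc
  obtain ⟨a, b, hab⟩ := hZ _ (ofBCAux_mem_center_even R' z hz)
  change ofBCAux R' Q z.1 = _ at hab
  have h3 : CliffordAlgebra.map (isometryOfMem Q g hg) z.1 =
      CliffordAlgebra.map (isometryOfMem Q (reflEquiv Q hc) (reflEquiv_mem_O Q hc)) z.1 := by
    apply ofBCAux_injective R' Q
    rw [ofBCAux_map', ofBCAux_map', hab]
    simp only [map_add, map_smul, map_sub, map_one, h1, h2]
  rw [h3]
  exact map_reflEquiv_mul_ι_of_even Q hc z.1 (mem_even_iff.mp z.2)

end Test'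

end Groth.Agent.Lib.Helper25.Cliff
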