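import Mathlib
import Groth.Agent.Lib.Helper25AzA
import Groth.Agent.Lib.Helper25CliffAA

/-!
# The even Clifford algebra is Azumaya over its étale centre (helper25)
-/

set_option autoImplicit false
set_option linter.unusedSectionVars false
set_option linter.style.haveILetI false
universe u v w

namespace Groth.Agent.Lib.Helper25.Az

open TensorProduct CliffordAlgebra QuadGrp
open Groth.Agent.Lib.Helper25.Cliff

section CenterBC

variable (R : Type*) [CommRing R] (A : Type*) [CommRing A] [Algebra R A]
  (C : Type*) [Ring C] [Algebra R C]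

theorem map_val_mem_center (t : A ⊗[R] ↥(Subalgebra.center R C)) :
    Algebra.TensorProduct.map (AlgHom.id A A) (Subalgebra.center R C).val t ∈
      Subalgebra.center A (A ⊗[R] C) := by
  induction t using TensorProduct.induction_on with
  | zero => rw [map_zero]; exact Subalgebra.zero_mem _
  | add x y hx hy => rw [map_add]; exact Subalgebra.add_mem _ hx hy
  | tmul a z =>
    rw [Algebra.TensorProduct.map_tmul, Subalgebra.mem_center_iff]
    intro y
    induction y using TensorProduct.induction_on with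
    | zero => simp
    | add x y hx hy => rw [add_mul, mul_add, hx, hy]
    | tmul b c =>
      rw [Algebra.TensorProduct.tmul_mul_tmul, Algebra.TensorProduct.tmul_mul_tmul,
        AlgHom.id_apply, mul_comm, Subalgebra.val_apply, Subalgebra.mem_center_iff.mp z.2 c]

/-- the canonical map `A ⊗ Z(C) → Z(A ⊗ C)`. -/
noncomputable def centerBCHom :
    A ⊗[R] ↥(Subalgebra.center R C) →ₐ[A] ↥(Subalgebra.center A (A ⊗[R] C)) :=
  AlgHom.codRestrict (Algebra.TensorProduct.map (AlgHom.id A A) (Subalgebra.center R C).val) _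
    (map_val_mem_center R A C)

theorem centerBCHom_coe (t : A ⊗[R] ↥(Subalgebra.center R C)) :
    (centerBCHom R A C t : A ⊗[R] C) =
      Algebra.TensorProduct.map (AlgHom.id A A) (Subalgebra.center R C).val t := rfl

theorem centerBCHom_bijective [Module.Finite R C] [Module.Flat R A] :
    Function.Bijective (centerBCHom R A C) := by
  have hfun : ∀ t, Algebra.TensorProduct.map (AlgHom.id A A) (Subalgebra.center R C).val t =
      LinearMap.lTensor A (Subalgebra.center R C).val.toLinearMap t := by
    intro t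
    induction t using TensorProduct.induction_on with
    | zero => simp
    | add x y hx hy => rw [map_add, map_add, hx, hy]
    | tmul a z => rfl
  constructor
  · intro x y hxy
    have h1 := congrArg Subtype.val hxy
    rw [centerBCHom_coe, centerBCHom_coe, hfun, hfun] at h1
    exact Module.Flat.lTensor_preserves_injective_linearMap _ Subtype.val_injective h1
  · rintro ⟨t, ht⟩
    obtain ⟨y, hy⟩ := mem_baseChange_center A C t ht
    refine ⟨y, Subtype.ext ?_⟩
    rw [centerBCHom_coe]
    change _ = t
    rw [← hy]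
    clear hy ht
    induction y using TensorProduct.induction_on with
    | zero => simp
    | add x y hx hy => rw [map_add, map_add, hx, hy]
    | tmul a z => rfl

/-- `A ⊗ Z(C) ≃ Z(A ⊗ C)` for `C` finite and `A` flat. -/
noncomputable def centerBCEquiv [Module.Finite R C] [Module.Flat R A] :
    A ⊗[R] ↥(Subalgebra.center R C) ≃ₐ[A] ↥(Subalgebra.center A (A ⊗[R] C)) :=
  AlgEquiv.ofBijective (centerBCHom R A C) (centerBCHom_bijective R A C)

end CenterBC

section CenterCongr

variable {A : Type*} [CommRing A] {C C' : Type*} [Ring C] [Ring C'] [Algebra A C] [Algebra A C']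

theorem map_mem_center (e : C ≃ₐ[A] C') {z : C} (hz : z ∈ Subalgebra.center A C) :
    e z ∈ Subalgebra.center A C' := by
  rw [Subalgebra.mem_center_iff] at hz ⊢
  intro b
  obtain ⟨c, rfl⟩ := e.surjective b
  rw [← map_mul, ← map_mul, hz c]

/-- an algebra isomorphism induces an isomorphism of centres. -/
noncomputable def centerCongr (e : C ≃ₐ[A] C') :
    ↥(Subalgebra.center A C) ≃ₐ[A] ↥(Subalgebra.center A C') :=
  AlgEquiv.ofAlgHom
    (AlgHom.codRestrict ((e : C →ₐ[A] C').comp (Subalgebra.center A C).val) _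
      (fun z => map_mem_center e z.2))
    (AlgHom.codRestrict ((e.symm : C' →ₐ[A] C).comp (Subalgebra.center A C').val) _
      (fun z => map_mem_center e.symm z.2))
    (by
      apply AlgHom.ext
      intro z
      apply Subtype.ext
      change e (e.symm z.1) = z.1
      rw [AlgEquiv.apply_symm_apply])
    (by
      apply AlgHom.ext
      intro z
      apply Subtype.ext
      change e.symm (e z.1) = z.1
      rw [AlgEquiv.symm_apply_apply])

end CenterCongr

section Idem

variable {R : Type u} [CommRing R] {M : Type v} [AddCommGroup M] [Module R M] [Module.Free R M]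
  {Q : QuadraticForm R M} {ε : CliffordAlgebra Q} (hε : IsParityIdem Q ε)

/-- `(a, b) ↦ a ε + b (1 - ε)` as a linear map. -/
noncomputable def idemLin (ε : CliffordAlgebra Q) : (Fin 2 → R) →ₗ[R] CliffordAlgebra Q :=
  (LinearMap.proj (R := R) (φ := fun _ : Fin 2 => R) 0).smulRight ε +
    (LinearMap.proj (R := R) (φ := fun _ : Fin 2 => R) 1).smulRight (1 - ε)

theorem idemLin_apply (x : Fin 2 → R) : idemLin ε x = x 0 • ε + x 1 • (1 - ε) := rfl

include hε in
theorem idemLin_mul (x y : Fin 2 → R) : idemLin ε (x * y) = idemLin ε x * idemLin ε y := by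
  rw [idemLin_apply, idemLin_apply, idemLin_apply, add_mul, mul_add, mul_add, smul_mul_smul_comm,
    smul_mul_smul_comm, smul_mul_smul_comm, smul_mul_smul_comm, hε.idem, hε.mul_one_sub,
    hε.one_sub_mul, hε.one_sub_idem, smul_zero, smul_zero, add_zero, zero_add, Pi.mul_apply,
    Pi.mul_apply]

/-- `(a, b) ↦ a ε + b (1 - ε)` as an algebra map into the Clifford algebra. -/
noncomputable def idemHom₀ : (Fin 2 → R) →ₐ[R] CliffordAlgebra Q :=
  AlgHom.ofLinearMap (idemLin ε)
    (by rw [idemLin_apply, Pi.one_apply, Pi.one_apply, one_smul, one_smul, add_sub_cancel])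
    (idemLin_mul hε)

theorem idemHom₀_apply (x : Fin 2 → R) : idemHom₀ hε x = x 0 • ε + x 1 • (1 - ε) := rfl

theorem idemHom₀_mem_even (x : Fin 2 → R) : idemHom₀ hε x ∈ CliffordAlgebra.even Q := by
  rw [idemHom₀_apply, mem_even_iff]
  exact Submodule.add_mem _ (Submodule.smul_mem _ _ hε.even)
    (Submodule.smul_mem _ _ (isParityIdem_one_sub hε).even)

/-- into the even part. -/
noncomputable def idemHom₁ : (Fin 2 → R) →ₐ[R] ↥(CliffordAlgebra.even Q) :=
  AlgHom.codRestrict (idemHom₀ hε) _ (idemHom₀_mem_even hε)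

theorem idemHom₁_mem_center (x : Fin 2 → R) :
    idemHom₁ hε x ∈ Subalgebra.center R ↥(CliffordAlgebra.even Q) := by
  rw [Subalgebra.mem_center_iff]
  intro b
  apply Subtype.ext
  change b.1 * (x 0 • ε + x 1 • (1 - ε)) = (x 0 • ε + x 1 • (1 - ε)) * b.1
  have hb := mem_even_iff.mp b.2
  rw [mul_add, add_mul, mul_smul_comm, mul_smul_comm, smul_mul_assoc, smul_mul_assoc,
    hε.even_mul b.1 hb, (isParityIdem_one_sub hε).even_mul b.1 hb]

/-- into the centre of the even part. -/
noncomputable def idemHom : (Fin 2 → R) →ₐ[R] ↥(Subalgebra.center R ↥(CliffordAlgebra.even Q)) :=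
  AlgHom.codRestrict (idemHom₁ hε) _ (idemHom₁_mem_center hε)

theorem idemHom_coe (x : Fin 2 → R) :
    ((idemHom hε x : ↥(CliffordAlgebra.even Q)) : CliffordAlgebra Q) =
      x 0 • ε + x 1 • (1 - ε) := rfl

theorem idemHom_bijective {v : M} (hv : IsUnit (Q v))
    (hZ : ∀ z : ↥(CliffordAlgebra.even Q), z ∈ Subalgebra.center R ↥(CliffordAlgebra.even Q) →
      ∃ a b : R, z.1 = a • ε + b • (1 - ε)) :
    Function.Bijective (idemHom hε) := by
  constructor
  · rw [injective_iff_map_eq_zero]
    intro x hx
    have h1 : x 0 • ε + x 1 • (1 - ε) = 0 := by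
      rw [← idemHom_coe hε, hx]; rfl
    have h2 : x 0 • ε = 0 := by
      have := congrArg (· * ε) h1
      simp only [add_mul, smul_mul_assoc, hε.idem, hε.one_sub_mul, smul_zero, add_zero,
        zero_mul] at this
      exact this
    have h3 : x 1 • (1 - ε) = 0 := by rwa [h2, zero_add] at h1
    funext i
    fin_cases i
    · exact hε.smul_eq_zero hv h2
    · exact (isParityIdem_one_sub hε).smul_eq_zero hv h3
  · rintro ⟨z, hz⟩
    obtain ⟨a, b, hab⟩ := hZ z hz
    refine ⟨![a, b], Subtype.ext (Subtype.ext ?_)⟩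
    rw [idemHom_coe, hab]
    rfl

end Idem

section Main

variable {R : Type u} [CommRing R] {M : Type v} [AddCommGroup M] [Module R M] [Module.Free R M]
  [Module.Finite R M]

/-- fppf-locally the centre of the even Clifford algebra is `A × A`, together with a splitting
isometry. -/
theorem exists_fppf_center_equiv (k : ℕ) (hV : Module.finrank R M = 2 * (k + 1))
    (Q : QuadraticForm R M) (hQ : Function.Bijective (QuadraticMap.polarBilin Q)) :
    ∃ (A : Type u) (_ : CommRing A) (_ : Algebra R A), Module.FaithfullyFlat R A ∧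
      Algebra.FinitePresentation R A ∧
      Nonempty ((baseChangeForm A Q).IsometryEquiv (hypSum A (k + 1))) ∧
      Nonempty (A ⊗[R] ↥(Subalgebra.center R ↥(CliffordAlgebra.even Q)) ≃ₐ[A] (Fin 2 → A)) := by
  classical
  obtain ⟨A, iR, iA, hff, hfp, ⟨f⟩⟩ := exists_fppf_isometry_hypSum (k + 1) hV Q hQ
  refine ⟨A, iR, iA, hff, hfp, ⟨f⟩, ?_⟩
  obtain ⟨ε₀, hε₀, hZ₀⟩ := exists_parityIdem_center_hypSum (R := A) k
  have hε := hε₀.map f.symm
  have hZ := center_desc_of_isometry f hZ₀
  obtain ⟨ε, hεdef⟩ : ∃ ε, ε = CliffordAlgebra.map f.symm.toIsometry ε₀ := ⟨_, rfl⟩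
  rw [← hεdef] at hε hZ
  have hv : IsUnit (baseChangeForm A Q (f.symm (Pi.single 0 (1, 1)))) := by
    rw [f.symm.map_app, hypSum_apply, Finset.sum_eq_single 0]
    · simp
    · intro i _ hi
      simp [Pi.single_apply, hi]
    · simp
  haveI : Module.Flat R A := inferInstance
  exact ⟨(centerBCEquiv R A ↥(CliffordAlgebra.even Q)).trans ((centerCongr (bcEven A Q)).trans
    (AlgEquiv.ofBijective (idemHom hε) (idemHom_bijective hε hv hZ)).symm)⟩

/-- The centre of the even Clifford algebra of a regular form of even positive rank is finite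
étale of rank `2`. -/
theorem center_even_etale (k : ℕ) (hV : Module.finrank R M = 2 * (k + 1))
    (Q : QuadraticForm R M) (hQ : Function.Bijective (QuadraticMap.polarBilin Q)) :
    Algebra.Etale R ↥(Subalgebra.center R ↥(CliffordAlgebra.even Q)) ∧
      Module.Finite R ↥(Subalgebra.center R ↥(CliffordAlgebra.even Q)) ∧
      Module.Projective R ↥(Subalgebra.center R ↥(CliffordAlgebra.even Q)) ∧
      ∀ p : PrimeSpectrum R,
        Module.rankAtStalk ↥(Subalgebra.center R ↥(CliffordAlgebra.even Q)) p = 2 := by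
  obtain ⟨A, iR, iA, hff, hfp, -, ⟨e⟩⟩ := exists_fppf_center_equiv k hV Q hQ
  have hfin : Module.Finite R ↥(Subalgebra.center R ↥(CliffordAlgebra.even Q)) :=
    finite_center_even (k + 1) (by omega) hV Q hQ
  have het : Algebra.Etale R ↥(Subalgebra.center R ↥(CliffordAlgebra.even Q)) := by
    haveI : Algebra.Etale A (A ⊗[R] ↥(Subalgebra.center R ↥(CliffordAlgebra.even Q))) :=
      Algebra.Etale.of_equiv e.symm
    exact Algebra.Etale.of_etale_tensorProduct_of_faithfullyFlat A
  have hproj : Module.Projective R ↥(Subalgebra.center R ↥(CliffordAlgebra.even Q)) := by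
    haveI : Module.FinitePresentation R ↥(Subalgebra.center R ↥(CliffordAlgebra.even Q)) :=
      Module.FinitePresentation.of_finite_of_finitePresentation _ _
    exact Module.Flat.projective_of_finitePresentation
  refine ⟨het, hfin, hproj, fun p => ?_⟩
  obtain ⟨p', hp'⟩ := PrimeSpectrum.comap_surjective_of_faithfullyFlat (A := R) (B := A) p
  haveI : Nontrivial A := ⟨⟨0, 1, fun h => p'.2.ne_top ((Ideal.eq_top_iff_one _).mpr
    (h ▸ p'.asIdeal.zero_mem))⟩⟩
  rw [← hp', ← Module.rankAtStalk_baseChange (S := A), Module.rankAtStalk_eq_of_equiv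
    e.toLinearEquiv, Module.rankAtStalk_eq_finrank_of_free]
  simp

/-- the even Clifford algebra as an algebra over its centre. -/
@[reducible] noncomputable def evenCenterAlgebra (Q : QuadraticForm R M) :
    Algebra ↥(Subalgebra.center R ↥(CliffordAlgebra.even Q)) ↥(CliffordAlgebra.even Q) :=
  (Subalgebra.center R ↥(CliffordAlgebra.even Q)).val.toRingHom.toAlgebra'
    (fun c x => (Subalgebra.mem_center_iff.mp c.2 x).symm)

/-- The even Clifford algebra of a regular form of even positive rank is Azumaya over its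
centre. -/
theorem isAzumaya_even_center (k : ℕ) (hV : Module.finrank R M = 2 * (k + 1))
    (Q : QuadraticForm R M) (hQ : Function.Bijective (QuadraticMap.polarBilin Q)) :
    @IsAzumaya ↥(Subalgebra.center R ↥(CliffordAlgebra.even Q)) ↥(CliffordAlgebra.even Q) _ _
      (evenCenterAlgebra Q) := by
  haveI : Module.Projective R ↥(CliffordAlgebra.even Q) :=
    Module.Projective.of_split (CliffordAlgebra.even Q).val.toLinearMap (evenProj Q)
      (LinearMap.ext fun u => evenProj_apply_mem Q u)
  obtain ⟨het, hfin, hproj, -⟩ := center_even_etale k hV Q hQ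
  obtain ⟨A, iR, iA, hff, hfp, ⟨f⟩, -⟩ := exists_fppf_center_equiv k hV Q hQ
  obtain ⟨D⟩ := nonempty_splitData_hypSum A k
  haveI : Nonempty (Fin (2 ^ k)) := ⟨⟨0, by positivity⟩⟩
  let τ : Matrix (Fin (2 ^ k)) (Fin (2 ^ k)) (A × A) ≃+* A ⊗[R] ↥(CliffordAlgebra.even Q) :=
    (matrixProdEquiv (Fin (2 ^ k)) A A).trans <|
    (RingEquiv.prodCongr D.e.symm.toRingEquiv D.e.symm.toRingEquiv).trans <|
    (evenHypEquiv D.hε).symm.toRingEquiv.trans <|
    (evenEquivOfIsometry (hypSumSucc A k)).toRingEquiv.trans <|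
    (evenEquivOfIsometry f.symm).toRingEquiv.trans
    (bcEven A Q).symm.toRingEquiv
  letI := evenCenterAlgebra Q
  refine @isAzumaya_of_fppf_matrix R _ ↥(Subalgebra.center R ↥(CliffordAlgebra.even Q)) _ _
    ↥(CliffordAlgebra.even Q) _ _ (evenCenterAlgebra Q)
    (IsScalarTower.of_algebraMap_eq (fun r => rfl)) _ _ _ _ ⟨fun x hx => ?_⟩
    Subtype.val_injective A _ _ _ _ _ _ _ _ _ τ
  rw [Algebra.mem_bot]
  refine ⟨⟨x, ?_⟩, rfl⟩
  rw [Subalgebra.mem_center_iff] at hx ⊢
  exact hx

end Main

end Groth.Agent.Lib.Helper25.Az
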