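import Mathlib
import Groth.Prelude.Def_W4bk4grassmannianPl

/-!
# Leading monomials of minors of the shaped generic matrix (helper25)
-/

noncomputable section

open MvPolynomial W4bk4grassmannian

namespace Groth.Agent.Lib.Helper25.Grass

variable {d n : ℕ}

theorem idx_le_iff (φ τ : Idx d n) : φ ≤ τ ↔ ∀ t, φ.1 t ≤ τ.1 t := Iff.rfl

/-- pigeonhole: a matrix with `B r t = 0` for `r > τ t` has vanishing minors on rows `φ ≰ τ`. -/
theorem det_submatrix_eq_zero_of_shape {R : Type*} [CommRing R] (τ φ : Idx d n) (h : ¬ φ ≤ τ)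
    (B : Matrix (Fin n) (Fin d) R) (hB : ∀ r t, ¬ r ≤ τ.1 t → B r t = 0) :
    (B.submatrix φ.1 id).det = 0 := by
  classical
  rw [idx_le_iff] at h
  push Not at h
  obtain ⟨t₁, ht₁⟩ := h
  rw [Matrix.det_apply]
  apply Finset.sum_eq_zero
  intro σ _
  have hex : ∃ t, ¬ φ.1 (σ t) ≤ τ.1 t := by
    by_contra hcon
    push Not at hcon
    have hmap : Set.MapsTo σ (Finset.Iic t₁ : Finset (Fin d)) (Finset.Iio t₁ : Finset (Fin d)) := by
      intro t ht
      rw [Finset.mem_coe, Finset.mem_Iic] at ht
      rw [Finset.mem_coe, Finset.mem_Iio]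
      have h1 : φ.1 (σ t) ≤ τ.1 t := hcon t
      have h2 : τ.1 t ≤ τ.1 t₁ := τ.2.monotone ht
      have h3 : φ.1 (σ t) < φ.1 t₁ := lt_of_le_of_lt (le_trans h1 h2) ht₁
      exact φ.2.lt_iff_lt.mp h3
    have := Finset.card_le_card_of_injOn σ hmap (σ.injective.injOn)
    rw [Fin.card_Iic, Fin.card_Iio] at this
    omega
  obtain ⟨t, ht⟩ := hex
  have : ∏ i, (B.submatrix φ.1 id) (σ i) i = 0 := by
    apply Finset.prod_eq_zero (Finset.mem_univ t)
    rw [Matrix.submatrix_apply]
    exact hB _ _ ht
  rw [this, smul_zero]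

variable (K : Type*) [Field K]

/-- variables `(column, row)` in lexicographic order -/
abbrev Var (d n : ℕ) := Lex (Fin d × Fin n)

/-- the generic matrix of shape `τ`: the entry `(r, t)` is a variable if `r ≤ τ t` and zero otherwise. -/
def shaped (τ : Idx d n) : Matrix (Fin n) (Fin d) (MvPolynomial (Var d n) K) :=
  Matrix.of fun r t => if r ≤ τ.1 t then X (toLex (t, r)) else 0

theorem shaped_apply (τ : Idx d n) (r : Fin n) (t : Fin d) :
    shaped K τ r t = if r ≤ τ.1 t then X (toLex (t, r)) else 0 := rfl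

/-- the evaluation at the minors of the shaped generic matrix -/
def evShape (τ : Idx d n) : PlRing K d n →ₐ[K] MvPolynomial (Var d n) K :=
  MvPolynomial.aeval fun θ : Idx d n => ((shaped K τ).submatrix θ.1 id).det

theorem evShape_X (τ θ : Idx d n) : evShape K τ (X θ) = ((shaped K τ).submatrix θ.1 id).det := by
  unfold evShape; rw [aeval_X]

theorem evShape_X_of_not_le (τ θ : Idx d n) (h : ¬ θ ≤ τ) : evShape K τ (X θ) = 0 := by
  rw [evShape_X]
  apply det_submatrix_eq_zero_of_shape τ θ h
  intro r t hrt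
  rw [shaped_apply, if_neg hrt]

theorem evShape_chainMon {m : ℕ} (τ : Idx d n) (c : Fin m → Idx d n) :
    evShape K τ (chainMon K c) = ∏ k, ((shaped K τ).submatrix (c k).1 id).det := by
  unfold chainMon
  rw [map_prod]
  exact Finset.prod_congr rfl (fun k _ => evShape_X K τ (c k))

theorem evShape_chainMon_of_not_le {m : ℕ} (τ : Idx d n) (c : Fin m → Idx d n) (k : Fin m)
    (h : ¬ c k ≤ τ) : evShape K τ (chainMon K c) = 0 := by
  unfold chainMon
  rw [map_prod]
  exact Finset.prod_eq_zero (Finset.mem_univ k) (evShape_X_of_not_le K τ (c k) h)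

/-- the specialization of the shaped matrix at a point -/
def shapedAt (τ : Idx d n) (x : Var d n → K) : Matrix (Fin n) (Fin d) K :=
  Matrix.of fun r t => if r ≤ τ.1 t then x (toLex (t, r)) else 0

theorem eval_evShape (τ : Idx d n) (x : Var d n → K) (F : PlRing K d n) :
    MvPolynomial.eval x (evShape K τ F) = evalMinors K d n (shapedAt K τ x) F := by
  have h : ((MvPolynomial.aeval x : MvPolynomial (Var d n) K →ₐ[K] K).comp (evShape K τ)) =
      evalMinors K d n (shapedAt K τ x) := by
    apply MvPolynomial.algHom_ext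
    intro θ
    rw [AlgHom.comp_apply, evShape_X]
    unfold evalMinors
    rw [aeval_X, AlgHom.map_det]
    congr 1
    ext s t
    simp only [AlgHom.mapMatrix_apply, Matrix.map_apply, Matrix.submatrix_apply, id]
    rw [shaped_apply]
    unfold shapedAt
    simp only [Matrix.of_apply]
    split_ifs
    · rw [aeval_X]
    · rw [map_zero]
  rw [← h, AlgHom.comp_apply]
  rw [MvPolynomial.aeval_def, Algebra.algebraMap_self]
  rfl

theorem evShape_eq_zero_of_mem [Infinite K] (τ : Idx d n) (F : PlRing K d n)
    (hF : F ∈ schubertVanishing K d n τ) : evShape K τ F = 0 := by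
  apply MvPolynomial.funext
  intro x
  rw [map_zero, eval_evShape]
  unfold schubertVanishing at hF
  rw [Ideal.mem_iInf] at hF
  have h1 := hF (shapedAt K τ x)
  rw [Ideal.mem_iInf] at h1
  have h2 := h1 (fun φ hφ => det_submatrix_eq_zero_of_shape τ φ hφ _ (by
    intro r t hrt
    unfold shapedAt
    simp only [Matrix.of_apply]
    rw [if_neg hrt]))
  exact h2

section Lead

open MonomialOrder

/-- the exponent vector of the monomial `∏_t x_{(t, a t)}` -/
def expo (a : Fin d → Fin n) : Var d n →₀ ℕ := ∑ t, Finsupp.single (toLex (t, a t)) 1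

theorem expo_apply (a : Fin d → Fin n) (t : Fin d) (r : Fin n) :
    expo a (toLex (t, r)) = if a t = r then 1 else 0 := by
  classical
  unfold expo
  rw [Finsupp.finset_sum_apply]
  rw [Finset.sum_eq_single t]
  · rw [Finsupp.single_apply]
    by_cases h : a t = r
    · rw [if_pos h, if_pos (by rw [h])]
    · rw [if_neg h, if_neg]
      intro h'
      apply h
      have := congrArg (fun z => (ofLex z).2) h'
      simpa using this
  · intro t' _ ht'
    rw [Finsupp.single_apply, if_neg]
    intro h'
    apply ht'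
    have := congrArg (fun z => (ofLex z).1) h'
    simpa using this
  · intro h; exact absurd (Finset.mem_univ t) h

theorem var_lt_iff (a b : Var d n) :
    a < b ↔ (ofLex a).1 < (ofLex b).1 ∨ (ofLex a).1 = (ofLex b).1 ∧ (ofLex a).2 < (ofLex b).2 :=
  Prod.Lex.lt_iff ..

/-- for a non-identity permutation, the permuted diagonal monomial is lex-smaller. -/
theorem expo_comp_lt (θ : Idx d n) (σ : Equiv.Perm (Fin d)) (hσ : σ ≠ 1) :
    toLex (expo (fun t => θ.1 (σ t))) < toLex (expo θ.1) := by
  classical
  have hne : (Finset.univ.filter (fun t : Fin d => σ t ≠ t)).Nonempty := by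
    by_contra hcon
    rw [Finset.not_nonempty_iff_eq_empty] at hcon
    apply hσ
    ext t
    by_contra ht
    have : t ∈ Finset.univ.filter (fun t : Fin d => σ t ≠ t) := by
      simp only [Finset.mem_filter, Finset.mem_univ, true_and]
      intro h; apply ht; rw [Equiv.Perm.one_apply]; exact congrArg Fin.val h
    rw [hcon] at this
    exact absurd this (Finset.notMem_empty _)
  set t₀ := (Finset.univ.filter (fun t : Fin d => σ t ≠ t)).min' hne with ht₀
  have h1 : σ t₀ ≠ t₀ := by
    have := Finset.min'_mem _ hne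
    simp only [Finset.mem_filter, Finset.mem_univ, true_and] at this
    exact this
  have h2 : ∀ t, t < t₀ → σ t = t := by
    intro t ht
    by_contra hcon
    have : t ∈ Finset.univ.filter (fun t : Fin d => σ t ≠ t) := by
      simp only [Finset.mem_filter, Finset.mem_univ, true_and]; exact hcon
    exact absurd (Finset.min'_le _ t this) (not_le.mpr ht)
  have h3 : t₀ < σ t₀ := by
    rcases lt_or_gt_of_ne h1 with h | h
    · exfalso
      have := h2 (σ t₀) h
      exact h1 (σ.injective this)
    · exact h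
  rw [Finsupp.Lex.lt_iff]
  refine ⟨toLex (t₀, θ.1 t₀), ?_, ?_⟩
  · intro j hj
    obtain ⟨⟨t, r⟩, rfl⟩ := toLex.surjective j
    rw [var_lt_iff] at hj
    simp only [ofLex_toLex] at hj ⊢
    rw [expo_apply, expo_apply]
    rcases hj with hj | ⟨hj1, hj2⟩
    · rw [h2 t hj]
    · rw [hj1]
      have e1 : θ.1 t₀ ≠ r := (ne_of_lt hj2).symm
      have e2 : θ.1 (σ t₀) ≠ r := (ne_of_lt (lt_trans hj2 (θ.2 h3))).symm
      rw [if_neg e1, if_neg e2]
  · simp only [ofLex_toLex]
    rw [expo_apply, expo_apply, if_pos rfl, if_neg]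
    · exact Nat.zero_lt_one
    · intro h
      exact h1 (θ.2.injective h)

theorem prod_X_eq_monomial (a : Fin d → Fin n) :
    ∏ t, (X (toLex (t, a t)) : MvPolynomial (Var d n) K) = monomial (expo a) 1 := by
  unfold expo
  rw [monomial_sum_one]
  rfl

/-- coefficient attached to a permutation term of the shaped minor -/
def permCoeff (τ θ : Idx d n) (σ : Equiv.Perm (Fin d)) : K :=
  ((Equiv.Perm.sign σ : ℤ) : K) * (if ∀ t, θ.1 (σ t) ≤ τ.1 t then 1 else 0)

theorem shaped_minor_eq (τ θ : Idx d n) :
    ((shaped K τ).submatrix θ.1 id).det =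
      ∑ σ : Equiv.Perm (Fin d), monomial (expo (fun t => θ.1 (σ t))) (permCoeff K τ θ σ) := by
  classical
  rw [Matrix.det_apply']
  apply Finset.sum_congr rfl
  intro σ _
  unfold permCoeff
  have hcast : ((((Equiv.Perm.sign σ : ℤˣ) : ℤ)) : MvPolynomial (Var d n) K) =
      C (((Equiv.Perm.sign σ : ℤ)) : K) := by
    rw [map_intCast]
  rw [hcast]
  by_cases hok : ∀ t, θ.1 (σ t) ≤ τ.1 t
  · rw [if_pos hok, mul_one]
    have : ∏ i, ((shaped K τ).submatrix θ.1 id) (σ i) i =
        ∏ t, (X (toLex (t, θ.1 (σ t))) : MvPolynomial (Var d n) K) := by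
      apply Finset.prod_congr rfl
      intro t _
      rw [Matrix.submatrix_apply, shaped_apply, id, if_pos (hok t)]
    rw [this, prod_X_eq_monomial K (fun t => θ.1 (σ t)), C_mul_monomial, mul_one]
  · rw [if_neg hok, mul_zero, monomial_zero]
    push Not at hok
    obtain ⟨t, ht⟩ := hok
    have : ∏ i, ((shaped K τ).submatrix θ.1 id) (σ i) i = 0 := by
      apply Finset.prod_eq_zero (Finset.mem_univ t)
      rw [Matrix.submatrix_apply, shaped_apply, id, if_neg (not_le.mpr ht)]
    rw [this, mul_zero]

theorem permCoeff_one (τ θ : Idx d n) (h : θ ≤ τ) : permCoeff K τ θ 1 = 1 := by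
  unfold permCoeff
  have h' : ∀ t, θ.1 ((1 : Equiv.Perm (Fin d)) t) ≤ τ.1 t := fun t => h t
  rw [if_pos h']
  simp

theorem shaped_minor_coeff (τ θ : Idx d n) (h : θ ≤ τ) :
    coeff (expo θ.1) ((shaped K τ).submatrix θ.1 id).det = 1 := by
  classical
  rw [shaped_minor_eq, coeff_sum]
  rw [Finset.sum_eq_single (1 : Equiv.Perm (Fin d))]
  · rw [coeff_monomial, if_pos (by rfl), permCoeff_one K τ θ h]
  · intro σ _ hσ
    rw [coeff_monomial, if_neg]
    intro heq
    have := expo_comp_lt θ σ hσ
    rw [heq] at this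
    exact lt_irrefl _ this
  · intro h; exact absurd (Finset.mem_univ _) h

theorem shaped_minor_support (τ θ : Idx d n) (c : Var d n →₀ ℕ)
    (hc : c ∈ (((shaped K τ).submatrix θ.1 id).det).support) :
    toLex c ≤ toLex (expo θ.1) := by
  classical
  rw [shaped_minor_eq] at hc
  have h1 := MvPolynomial.support_sum hc
  rw [Finset.mem_biUnion] at h1
  obtain ⟨σ, _, hσ⟩ := h1
  have h2 := MvPolynomial.support_monomial_subset hσ
  rw [Finset.mem_singleton] at h2
  rw [h2]
  by_cases h : σ = 1
  · subst h; exact le_refl _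
  · exact le_of_lt (expo_comp_lt θ σ h)

theorem shaped_minor_degree (τ θ : Idx d n) (h : θ ≤ τ) :
    (lex : MonomialOrder (Var d n)).degree ((shaped K τ).submatrix θ.1 id).det = expo θ.1 := by
  apply (lex : MonomialOrder (Var d n)).toSyn.injective
  apply le_antisymm
  · rw [degree_le_iff]
    intro c hc
    exact shaped_minor_support K τ θ c hc
  · apply le_degree
    rw [mem_support_iff, shaped_minor_coeff K τ θ h]
    exact one_ne_zero

theorem shaped_minor_monic (τ θ : Idx d n) (h : θ ≤ τ) :
    (lex : MonomialOrder (Var d n)).Monic ((shaped K τ).submatrix θ.1 id).det := by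
  unfold MonomialOrder.Monic MonomialOrder.leadingCoeff
  rw [shaped_minor_degree K τ θ h, shaped_minor_coeff K τ θ h]

/-- the exponent vector of a chain -/
def chainExpo {m : ℕ} (c : Fin m → Idx d n) : Var d n →₀ ℕ := ∑ k, expo (c k).1

theorem evShape_chainMon_monic {m : ℕ} (τ : Idx d n) (c : Fin m → Idx d n) (h : ∀ k, c k ≤ τ) :
    (lex : MonomialOrder (Var d n)).Monic (evShape K τ (chainMon K c)) := by
  rw [evShape_chainMon]
  exact Monic.prod (fun k _ => shaped_minor_monic K τ (c k) (h k))

theorem evShape_chainMon_degree {m : ℕ} (τ : Idx d n) (c : Fin m → Idx d n) (h : ∀ k, c k ≤ τ) :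
    (lex : MonomialOrder (Var d n)).degree (evShape K τ (chainMon K c)) = chainExpo c := by
  rw [evShape_chainMon, degree_prod_of_regular]
  · unfold chainExpo
    exact Finset.sum_congr rfl (fun k _ => shaped_minor_degree K τ (c k) (h k))
  · intro k _
    rw [(shaped_minor_monic K τ (c k) (h k)).leadingCoeff_eq_one]
    exact isRegular_one

end Lead

section Inj

theorem chainExpo_apply {m : ℕ} (c : Fin m → Idx d n) (t : Fin d) (r : Fin n) :
    chainExpo c (toLex (t, r)) = (Finset.univ.filter (fun k => (c k).1 t = r)).card := by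
  unfold chainExpo
  rw [Finsupp.finset_sum_apply, Finset.card_filter]
  exact Finset.sum_congr rfl (fun k _ => expo_apply (c k).1 t r)

theorem lowerSet_mem_iff {m : ℕ} (S : Finset (Fin m)) (hS : ∀ k ∈ S, ∀ k', k' ≤ k → k' ∈ S)
    (k : Fin m) : k ∈ S ↔ k.val < S.card := by
  constructor
  · intro hk
    have h1 : Finset.Iic k ⊆ S := by
      intro k' hk'
      exact hS k hk k' (Finset.mem_Iic.mp hk')
    have h2 := Finset.card_le_card h1
    rw [Fin.card_Iic] at h2
    omega
  · intro hk
    by_contra hcon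
    have h1 : S ⊆ Finset.Iio k := by
      intro k' hk'
      rw [Finset.mem_Iio]
      by_contra h
      exact hcon (hS k' hk' k (not_lt.mp h))
    have h2 := Finset.card_le_card h1
    rw [Fin.card_Iio] at h2
    omega

theorem antitone_ge_iff {m : ℕ} (f : Fin m → Fin n) (hf : Antitone f) (r : Fin n) (k : Fin m) :
    r ≤ f k ↔ k.val < (Finset.univ.filter (fun k' => r ≤ f k')).card := by
  rw [← lowerSet_mem_iff]
  · simp only [Finset.mem_filter, Finset.mem_univ, true_and]
  · intro k hk k' hkk'
    simp only [Finset.mem_filter, Finset.mem_univ, true_and] at hk ⊢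
    exact le_trans hk (hf hkk')

theorem card_ge_eq_sum {m : ℕ} (f : Fin m → Fin n) (r : Fin n) :
    (Finset.univ.filter (fun k => r ≤ f k)).card =
      ∑ r' ∈ Finset.univ.filter (fun r' => r ≤ r'), (Finset.univ.filter (fun k => f k = r')).card := by
  classical
  rw [Finset.card_eq_sum_card_fiberwise (f := f) (s := Finset.univ.filter (fun k => r ≤ f k))
    (t := Finset.univ.filter (fun r' => r ≤ r'))]
  · apply Finset.sum_congr rfl
    intro b hb
    simp only [Finset.mem_filter, Finset.mem_univ, true_and] at hb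
    congr 1
    ext k
    simp only [Finset.mem_filter, Finset.mem_univ, true_and]
    constructor
    · intro h; exact h.2
    · intro h; exact ⟨h ▸ hb, h⟩
  · intro k hk
    simp only [Finset.coe_filter, Finset.mem_univ, true_and, Set.mem_setOf_eq] at hk ⊢
    exact hk

theorem card_eq_sum_fibers {m : ℕ} (f : Fin m → Fin n) :
    m = ∑ r : Fin n, (Finset.univ.filter (fun k => f k = r)).card := by
  classical
  have := Finset.card_eq_sum_card_fiberwise (f := f) (s := (Finset.univ : Finset (Fin m)))
    (t := (Finset.univ : Finset (Fin n))) (fun k _ => Finset.mem_coe.mpr (Finset.mem_univ _))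
  rw [Finset.card_univ, Fintype.card_fin] at this
  exact this

theorem antitone_eq_of_count {m : ℕ} (f g : Fin m → Fin n) (hf : Antitone f) (hg : Antitone g)
    (h : ∀ r, (Finset.univ.filter (fun k => f k = r)).card =
      (Finset.univ.filter (fun k => g k = r)).card) : f = g := by
  have key : ∀ r k, r ≤ f k ↔ r ≤ g k := by
    intro r k
    rw [antitone_ge_iff f hf, antitone_ge_iff g hg, card_ge_eq_sum f, card_ge_eq_sum g]
    simp only [h]
  funext k
  exact le_antisymm ((key (f k) k).mp le_rfl) ((key (g k) k).mpr le_rfl)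

theorem chainExpo_injective (hd : 0 < d) {m m' : ℕ} (c : Fin m → Idx d n) (c' : Fin m' → Idx d n)
    (hc : Antitone c) (hc' : Antitone c') (h : chainExpo c = chainExpo c') :
    (⟨m, c⟩ : Σ m, Fin m → Idx d n) = ⟨m', c'⟩ := by
  have hcount : ∀ t r, (Finset.univ.filter (fun k => (c k).1 t = r)).card =
      (Finset.univ.filter (fun k => (c' k).1 t = r)).card := by
    intro t r
    rw [← chainExpo_apply, ← chainExpo_apply, h]
  have hm : m = m' := by
    rw [card_eq_sum_fibers (fun k => (c k).1 ⟨0, hd⟩), card_eq_sum_fibers (fun k => (c' k).1 ⟨0, hd⟩)]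
    exact Finset.sum_congr rfl (fun r _ => hcount ⟨0, hd⟩ r)
  subst hm
  have : c = c' := by
    funext k
    apply Subtype.ext
    funext t
    have := antitone_eq_of_count (fun k => (c k).1 t) (fun k => (c' k).1 t)
      (fun a b hab => hc hab t) (fun a b hab => hc' hab t) (hcount t)
    exact congrFun this k
  rw [this]

end Inj

section Core

open MonomialOrder

/-- core independence: a combination of standard monomials lying in `J(τ)` has vanishing
coefficients on the chains below `τ`. -/
theorem core_indep [Infinite K] (hd : 0 < d) (τ : Idx d n) {ι : Type*} (m : ι → ℕ)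
    (ch : ∀ i, Fin (m i) → Idx d n) (hanti : ∀ i, Antitone (ch i))
    (hinj : ∀ i i', (⟨m i, ch i⟩ : Σ m, Fin m → Idx d n) = ⟨m i', ch i'⟩ → i = i')
    (s : Finset ι) (a : ι → K)
    (hF : ∑ i ∈ s, a i • chainMon K (ch i) ∈ schubertVanishing K d n τ) :
    ∀ i ∈ s, (∀ k, ch i k ≤ τ) → a i = 0 := by
  classical
  have h0 := evShape_eq_zero_of_mem K τ _ hF
  rw [map_sum] at h0
  simp only [map_smul] at h0
  set s' := s.filter (fun i => ∀ k, ch i k ≤ τ) with hs'
  have h1 : ∑ i ∈ s', a i • evShape K τ (chainMon K (ch i)) = 0 := by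
    have e : ∑ i ∈ s', a i • evShape K τ (chainMon K (ch i)) =
        ∑ i ∈ s, a i • evShape K τ (chainMon K (ch i)) := by
      rw [hs', Finset.sum_filter]
      apply Finset.sum_congr rfl
      intro i _
      split_ifs with hi
      · rfl
      · push Not at hi
        obtain ⟨k, hk⟩ := hi
        rw [evShape_chainMon_of_not_le K τ (ch i) k hk, smul_zero]
    rw [e, h0]
  by_contra hcon
  push Not at hcon
  obtain ⟨i₁, hi₁s, hi₁τ, hi₁a⟩ := hcon
  set s'' := s'.filter (fun i => a i ≠ 0) with hs''
  have hne : s''.Nonempty := ⟨i₁, by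
    rw [hs'', Finset.mem_filter, hs', Finset.mem_filter]; exact ⟨⟨hi₁s, hi₁τ⟩, hi₁a⟩⟩
  obtain ⟨i₀, hi₀, hmax⟩ := Finset.exists_max_image s''
    (fun i => (lex : MonomialOrder (Var d n)).toSyn (chainExpo (ch i))) hne
  rw [hs'', Finset.mem_filter, hs', Finset.mem_filter] at hi₀
  obtain ⟨⟨hi₀s, hi₀τ⟩, hi₀a⟩ := hi₀
  have h2 := congrArg (coeff (chainExpo (ch i₀))) h1
  rw [coeff_sum, coeff_zero] at h2
  rw [Finset.sum_eq_single i₀] at h2
  · rw [coeff_smul, smul_eq_mul] at h2
    have hm := evShape_chainMon_monic K τ (ch i₀) hi₀τ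
    have hdeg := evShape_chainMon_degree K τ (ch i₀) hi₀τ
    have hc1 : coeff (chainExpo (ch i₀)) (evShape K τ (chainMon K (ch i₀))) = 1 := by
      have := hm.coeff_degree
      rw [hdeg] at this
      exact this
    rw [hc1, mul_one] at h2
    exact hi₀a h2
  · intro i hi hne'
    rw [coeff_smul, smul_eq_mul]
    by_cases hai : a i = 0
    · rw [hai, zero_mul]
    · have hiτ : ∀ k, ch i k ≤ τ := by
        rw [hs', Finset.mem_filter] at hi; exact hi.2
      have hle := hmax i (by rw [hs'', Finset.mem_filter]; exact ⟨hi, hai⟩)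
      have hne2 : chainExpo (ch i) ≠ chainExpo (ch i₀) := by
        intro heq
        exact hne' (hinj i i₀ (chainExpo_injective hd (ch i) (ch i₀) (hanti i) (hanti i₀) heq))
      have hlt : (lex : MonomialOrder (Var d n)).toSyn (chainExpo (ch i)) <
          (lex : MonomialOrder (Var d n)).toSyn (chainExpo (ch i₀)) := by
        refine lt_of_le_of_ne hle ?_
        intro heq
        exact hne2 ((lex : MonomialOrder (Var d n)).toSyn.injective heq)
      have hdeg := evShape_chainMon_degree K τ (ch i) hiτ
      rw [← hdeg] at hlt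
      rw [coeff_eq_zero_of_lt hlt, mul_zero]
  · intro h
    exfalso
    apply h
    rw [hs', Finset.mem_filter]
    exact ⟨hi₀s, hi₀τ⟩

end Core

end Groth.Agent.Lib.Helper25.Grass
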