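import Mathlib
import Groth.Prelude.Def_W4bk4grassmannianPl
import Groth.Agent.Lib.Helper25GrassLead

/-!
# Leading monomials of minors of generic matrices of arbitrary shape (helper25)
-/

noncomputable section

open MvPolynomial W4bk4grassmannian

namespace Groth.Agent.Lib.Helper25.Grass

variable {d n : ℕ}

/-- dual pigeonhole: a matrix with `B r t = 0` for `r < v t` has vanishing minors on rows `φ ≱ v`. -/
theorem det_submatrix_eq_zero_of_shape_lower {R : Type*} [CommRing R] (v φ : Idx d n) (h : ¬ v ≤ φ)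
    (B : Matrix (Fin n) (Fin d) R) (hB : ∀ r t, ¬ v.1 t ≤ r → B r t = 0) :
    (B.submatrix φ.1 id).det = 0 := by
  classical
  rw [idx_le_iff] at h
  push Not at h
  obtain ⟨t₁, ht₁⟩ := h
  rw [Matrix.det_apply]
  apply Finset.sum_eq_zero
  intro σ _
  have hex : ∃ t, ¬ v.1 t ≤ φ.1 (σ t) := by
    by_contra hcon
    push Not at hcon
    have hmap : Set.MapsTo σ (Finset.Ici t₁ : Finset (Fin d)) (Finset.Ioi t₁ : Finset (Fin d)) := by
      intro t ht
      rw [Finset.mem_coe, Finset.mem_Ici] at ht
      rw [Finset.mem_coe, Finset.mem_Ioi]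
      have h1 : v.1 t ≤ φ.1 (σ t) := hcon t
      have h2 : v.1 t₁ ≤ v.1 t := v.2.monotone ht
      have h3 : φ.1 t₁ < φ.1 (σ t) := lt_of_lt_of_le ht₁ (le_trans h2 h1)
      exact φ.2.lt_iff_lt.mp h3
    have := Finset.card_le_card_of_injOn σ hmap (σ.injective.injOn)
    rw [Fin.card_Ici, Fin.card_Ioi] at this
    have := t₁.isLt
    omega
  obtain ⟨t, ht⟩ := hex
  have : ∏ i, (B.submatrix φ.1 id) (σ i) i = 0 := by
    apply Finset.prod_eq_zero (Finset.mem_univ t)
    rw [Matrix.submatrix_apply]
    exact hB _ _ ht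
  rw [this, smul_zero]

variable (K : Type*) [Field K]
variable (S : Fin n → Fin d → Prop) [∀ r t, Decidable (S r t)]

/-- the generic matrix of shape `S` -/
def shapedS : Matrix (Fin n) (Fin d) (MvPolynomial (Var d n) K) :=
  Matrix.of fun r t => if S r t then X (toLex (t, r)) else 0

theorem shapedS_apply (r : Fin n) (t : Fin d) :
    shapedS K S r t = if S r t then X (toLex (t, r)) else 0 := rfl

/-- evaluation at the minors of the generic matrix of shape `S` -/
def evS : PlRing K d n →ₐ[K] MvPolynomial (Var d n) K :=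
  MvPolynomial.aeval fun θ : Idx d n => ((shapedS K S).submatrix θ.1 id).det

/-- an index lies in the shape if its diagonal entries do -/
def InShape (θ : Idx d n) : Prop := ∀ t, S (θ.1 t) t

theorem evS_X (θ : Idx d n) : evS K S (X θ) = ((shapedS K S).submatrix θ.1 id).det := by
  unfold evS; rw [aeval_X]

theorem evS_chainMon {m : ℕ} (c : Fin m → Idx d n) :
    evS K S (chainMon K c) = ∏ k, ((shapedS K S).submatrix (c k).1 id).det := by
  unfold chainMon
  rw [map_prod]
  exact Finset.prod_congr rfl (fun k _ => evS_X K S (c k))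

theorem evS_chainMon_of_X_eq_zero {m : ℕ} (c : Fin m → Idx d n) (k : Fin m)
    (h : evS K S (X (c k)) = 0) : evS K S (chainMon K c) = 0 := by
  unfold chainMon
  rw [map_prod]
  exact Finset.prod_eq_zero (Finset.mem_univ k) h

theorem evS_X_of_upper (τ : Idx d n) (hS : ∀ r t, S r t → r ≤ τ.1 t) (θ : Idx d n) (h : ¬ θ ≤ τ) :
    evS K S (X θ) = 0 := by
  rw [evS_X]
  apply det_submatrix_eq_zero_of_shape τ θ h
  intro r t hrt
  rw [shapedS_apply, if_neg (fun hs => hrt (hS r t hs))]

theorem evS_X_of_lower (v : Idx d n) (hS : ∀ r t, S r t → v.1 t ≤ r) (θ : Idx d n) (h : ¬ v ≤ θ) :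
    evS K S (X θ) = 0 := by
  rw [evS_X]
  apply det_submatrix_eq_zero_of_shape_lower v θ h
  intro r t hrt
  rw [shapedS_apply, if_neg (fun hs => hrt (hS r t hs))]

/-- the specialization at a point -/
def shapedAtS (x : Var d n → K) : Matrix (Fin n) (Fin d) K :=
  Matrix.of fun r t => if S r t then x (toLex (t, r)) else 0

theorem eval_evS (x : Var d n → K) (F : PlRing K d n) :
    MvPolynomial.eval x (evS K S F) = evalMinors K d n (shapedAtS K S x) F := by
  have h : ((MvPolynomial.aeval x : MvPolynomial (Var d n) K →ₐ[K] K).comp (evS K S)) =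
      evalMinors K d n (shapedAtS K S x) := by
    apply MvPolynomial.algHom_ext
    intro θ
    rw [AlgHom.comp_apply, evS_X]
    unfold evalMinors
    rw [aeval_X, AlgHom.map_det]
    congr 1
    ext s t
    simp only [AlgHom.mapMatrix_apply, Matrix.map_apply, Matrix.submatrix_apply, id]
    rw [shapedS_apply]
    unfold shapedAtS
    simp only [Matrix.of_apply]
    split_ifs
    · rw [aeval_X]
    · rw [map_zero]
  rw [← h, AlgHom.comp_apply]
  rw [MvPolynomial.aeval_def, Algebra.algebraMap_self]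
  rfl

theorem evS_eq_zero_of_mem_vanishing [Infinite K] (F : PlRing K d n)
    (hF : F ∈ vanishing K d n) : evS K S F = 0 := by
  apply MvPolynomial.funext
  intro x
  rw [map_zero, eval_evS]
  unfold vanishing at hF
  rw [Ideal.mem_iInf] at hF
  exact hF (shapedAtS K S x)

theorem evS_eq_zero_of_mem_schubert [Infinite K] (τ : Idx d n) (hS : ∀ r t, S r t → r ≤ τ.1 t)
    (F : PlRing K d n) (hF : F ∈ schubertVanishing K d n τ) : evS K S F = 0 := by
  apply MvPolynomial.funext
  intro x
  rw [map_zero, eval_evS]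
  unfold schubertVanishing at hF
  rw [Ideal.mem_iInf] at hF
  have h1 := hF (shapedAtS K S x)
  rw [Ideal.mem_iInf] at h1
  have h2 := h1 (fun φ hφ => det_submatrix_eq_zero_of_shape τ φ hφ _ (by
    intro r t hrt
    unfold shapedAtS
    simp only [Matrix.of_apply]
    rw [if_neg (fun hs => hrt (hS r t hs))]))
  exact h2

section Lead

open MonomialOrder

/-- coefficient attached to a permutation term of the shaped minor -/
def permCoeffS (θ : Idx d n) (σ : Equiv.Perm (Fin d)) : K :=
  ((Equiv.Perm.sign σ : ℤ) : K) * (if ∀ t, S (θ.1 (σ t)) t then 1 else 0)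

theorem minorS_eq (θ : Idx d n) :
    ((shapedS K S).submatrix θ.1 id).det =
      ∑ σ : Equiv.Perm (Fin d), monomial (expo (fun t => θ.1 (σ t))) (permCoeffS K S θ σ) := by
  classical
  rw [Matrix.det_apply']
  apply Finset.sum_congr rfl
  intro σ _
  unfold permCoeffS
  have hcast : ((((Equiv.Perm.sign σ : ℤˣ) : ℤ)) : MvPolynomial (Var d n) K) =
      C (((Equiv.Perm.sign σ : ℤ)) : K) := by
    rw [map_intCast]
  rw [hcast]
  by_cases hok : ∀ t, S (θ.1 (σ t)) t
  · rw [if_pos hok, mul_one]
    have : ∏ i, ((shapedS K S).submatrix θ.1 id) (σ i) i =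
        ∏ t, (X (toLex (t, θ.1 (σ t))) : MvPolynomial (Var d n) K) := by
      apply Finset.prod_congr rfl
      intro t _
      rw [Matrix.submatrix_apply, shapedS_apply, id, if_pos (hok t)]
    rw [this, prod_X_eq_monomial K (fun t => θ.1 (σ t)), C_mul_monomial, mul_one]
  · rw [if_neg hok, mul_zero, monomial_zero]
    push Not at hok
    obtain ⟨t, ht⟩ := hok
    have : ∏ i, ((shapedS K S).submatrix θ.1 id) (σ i) i = 0 := by
      apply Finset.prod_eq_zero (Finset.mem_univ t)
      rw [Matrix.submatrix_apply, shapedS_apply, id, if_neg ht]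
    rw [this, mul_zero]

theorem permCoeffS_one (θ : Idx d n) (h : InShape S θ) : permCoeffS K S θ 1 = 1 := by
  unfold permCoeffS
  have h' : ∀ t, S (θ.1 ((1 : Equiv.Perm (Fin d)) t)) t := fun t => h t
  rw [if_pos h']
  simp

theorem minorS_coeff (θ : Idx d n) (h : InShape S θ) :
    coeff (expo θ.1) ((shapedS K S).submatrix θ.1 id).det = 1 := by
  classical
  rw [minorS_eq, coeff_sum]
  rw [Finset.sum_eq_single (1 : Equiv.Perm (Fin d))]
  · rw [coeff_monomial, if_pos (by rfl), permCoeffS_one K S θ h]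
  · intro σ _ hσ
    rw [coeff_monomial, if_neg]
    intro heq
    have := expo_comp_lt θ σ hσ
    rw [heq] at this
    exact lt_irrefl _ this
  · intro h; exact absurd (Finset.mem_univ _) h

theorem minorS_support (θ : Idx d n) (c : Var d n →₀ ℕ)
    (hc : c ∈ (((shapedS K S).submatrix θ.1 id).det).support) :
    toLex c ≤ toLex (expo θ.1) := by
  classical
  rw [minorS_eq] at hc
  have h1 := MvPolynomial.support_sum hc
  rw [Finset.mem_biUnion] at h1
  obtain ⟨σ, _, hσ⟩ := h1
  have h2 := MvPolynomial.support_monomial_subset hσ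
  rw [Finset.mem_singleton] at h2
  rw [h2]
  by_cases h : σ = 1
  · subst h; exact le_refl _
  · exact le_of_lt (expo_comp_lt θ σ h)

theorem minorS_degree (θ : Idx d n) (h : InShape S θ) :
    (lex : MonomialOrder (Var d n)).degree ((shapedS K S).submatrix θ.1 id).det = expo θ.1 := by
  apply (lex : MonomialOrder (Var d n)).toSyn.injective
  apply le_antisymm
  · rw [degree_le_iff]
    intro c hc
    exact minorS_support K S θ c hc
  · apply le_degree
    rw [mem_support_iff, minorS_coeff K S θ h]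
    exact one_ne_zero

theorem minorS_monic (θ : Idx d n) (h : InShape S θ) :
    (lex : MonomialOrder (Var d n)).Monic ((shapedS K S).submatrix θ.1 id).det := by
  unfold MonomialOrder.Monic MonomialOrder.leadingCoeff
  rw [minorS_degree K S θ h, minorS_coeff K S θ h]

theorem evS_chainMon_monic {m : ℕ} (c : Fin m → Idx d n) (h : ∀ k, InShape S (c k)) :
    (lex : MonomialOrder (Var d n)).Monic (evS K S (chainMon K c)) := by
  rw [evS_chainMon]
  exact Monic.prod (fun k _ => minorS_monic K S (c k) (h k))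

theorem evS_chainMon_degree {m : ℕ} (c : Fin m → Idx d n) (h : ∀ k, InShape S (c k)) :
    (lex : MonomialOrder (Var d n)).degree (evS K S (chainMon K c)) = chainExpo c := by
  rw [evS_chainMon, degree_prod_of_regular]
  · unfold chainExpo
    exact Finset.sum_congr rfl (fun k _ => minorS_degree K S (c k) (h k))
  · intro k _
    rw [(minorS_monic K S (c k) (h k)).leadingCoeff_eq_one]
    exact isRegular_one

/-- leading-term extraction: in a combination of standard monomials inside the shape, a maximal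
exponent among the terms with nonzero coefficient survives in the sum. -/
theorem core_lead (hd : 0 < d) {ι : Type*} (m : ι → ℕ)
    (ch : ∀ i, Fin (m i) → Idx d n) (hanti : ∀ i, Antitone (ch i))
    (hinj : ∀ i i', (⟨m i, ch i⟩ : Σ m, Fin m → Idx d n) = ⟨m i', ch i'⟩ → i = i')
    (s : Finset ι) (a : ι → K) (hs : ∀ i ∈ s, ∀ k, InShape S (ch i k))
    (i₀ : ι) (hi₀ : i₀ ∈ s) (ha₀ : a i₀ ≠ 0) :
    ∃ i₁ ∈ s, a i₁ ≠ 0 ∧ toLex (chainExpo (ch i₀)) ≤ toLex (chainExpo (ch i₁)) ∧
      chainExpo (ch i₁) ∈ (∑ i ∈ s, a i • evS K S (chainMon K (ch i))).support := by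
  classical
  set s'' := s.filter (fun i => a i ≠ 0) with hs''
  have hne : s''.Nonempty := ⟨i₀, by rw [hs'', Finset.mem_filter]; exact ⟨hi₀, ha₀⟩⟩
  obtain ⟨i₁, hi₁, hmax⟩ := Finset.exists_max_image s''
    (fun i => (lex : MonomialOrder (Var d n)).toSyn (chainExpo (ch i))) hne
  have hi₁' := hi₁
  rw [hs'', Finset.mem_filter] at hi₁'
  obtain ⟨hi₁s, hi₁a⟩ := hi₁'
  refine ⟨i₁, hi₁s, hi₁a, hmax i₀ (by rw [hs'', Finset.mem_filter]; exact ⟨hi₀, ha₀⟩), ?_⟩
  rw [mem_support_iff, coeff_sum]
  rw [Finset.sum_eq_single i₁]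
  · rw [coeff_smul, smul_eq_mul]
    have hm := evS_chainMon_monic K S (ch i₁) (hs i₁ hi₁s)
    have hdeg := evS_chainMon_degree K S (ch i₁) (hs i₁ hi₁s)
    have hc1 : coeff (chainExpo (ch i₁)) (evS K S (chainMon K (ch i₁))) = 1 := by
      have := hm.coeff_degree
      rw [hdeg] at this
      exact this
    rw [hc1, mul_one]
    exact hi₁a
  · intro i hi hne'
    rw [coeff_smul, smul_eq_mul]
    by_cases hai : a i = 0
    · rw [hai, zero_mul]
    · have hle := hmax i (by rw [hs'', Finset.mem_filter]; exact ⟨hi, hai⟩)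
      have hne2 : chainExpo (ch i) ≠ chainExpo (ch i₁) := by
        intro heq
        exact hne' (hinj i i₁ (chainExpo_injective hd (ch i) (ch i₁) (hanti i) (hanti i₁) heq))
      have hlt : (lex : MonomialOrder (Var d n)).toSyn (chainExpo (ch i)) <
          (lex : MonomialOrder (Var d n)).toSyn (chainExpo (ch i₁)) := by
        refine lt_of_le_of_ne hle ?_
        intro heq
        exact hne2 ((lex : MonomialOrder (Var d n)).toSyn.injective heq)
      have hdeg := evS_chainMon_degree K S (ch i) (hs i hi)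
      rw [← hdeg] at hlt
      rw [coeff_eq_zero_of_lt hlt, mul_zero]
  · intro h
    exact absurd hi₁s h

/-- independence inside a shape -/
theorem core_indepS (hd : 0 < d) {ι : Type*} (m : ι → ℕ)
    (ch : ∀ i, Fin (m i) → Idx d n) (hanti : ∀ i, Antitone (ch i))
    (hinj : ∀ i i', (⟨m i, ch i⟩ : Σ m, Fin m → Idx d n) = ⟨m i', ch i'⟩ → i = i')
    (s : Finset ι) (a : ι → K)
    (hz : ∀ i ∈ s, (¬ ∀ k, InShape S (ch i k)) → evS K S (chainMon K (ch i)) = 0)
    (hF : ∑ i ∈ s, a i • evS K S (chainMon K (ch i)) = 0) :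
    ∀ i ∈ s, (∀ k, InShape S (ch i k)) → a i = 0 := by
  classical
  set s' := s.filter (fun i => ∀ k, InShape S (ch i k)) with hs'
  have h1 : ∑ i ∈ s', a i • evS K S (chainMon K (ch i)) = 0 := by
    have e : ∑ i ∈ s', a i • evS K S (chainMon K (ch i)) =
        ∑ i ∈ s, a i • evS K S (chainMon K (ch i)) := by
      rw [hs', Finset.sum_filter]
      apply Finset.sum_congr rfl
      intro i hi
      split_ifs with hi'
      · rfl
      · rw [hz i hi hi', smul_zero]
    rw [e, hF]
  intro i hi hin
  by_contra hai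
  obtain ⟨i₁, _, _, _, hsupp⟩ := core_lead K S hd m ch hanti hinj s' a
    (fun i hi => (Finset.mem_filter.mp hi).2) i (by rw [hs', Finset.mem_filter]; exact ⟨hi, hin⟩) hai
  rw [h1] at hsupp
  simp at hsupp

end Lead

end Groth.Agent.Lib.Helper25.Grass
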