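import Mathlib
import Groth.Prelude.Def_W4bk4grassmannianPl

/-!
# Multilinear maps vanishing on adjacent equal arguments are alternating (helper25)
-/

noncomputable section

namespace Groth.Agent.Lib.Helper25.Grass

section Alt

variable {R M N : Type*} [CommRing R] [AddCommGroup M] [Module R M] [AddCommGroup N] [Module R N]

theorem adj_swap {m : ℕ} (f : MultilinearMap R (fun _ : Fin (m + 1) => M) N)
    (hadj : ∀ (v : Fin (m + 1) → M) (k : Fin m), v k.castSucc = v k.succ → f v = 0)
    (v : Fin (m + 1) → M) (k : Fin m) :
    f (v ∘ Equiv.swap k.castSucc k.succ) = - f v := by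
  classical
  set i := k.castSucc with hi
  set j := k.succ with hj
  have hij : i ≠ j := by
    rw [hi, hj]; exact (Fin.castSucc_lt_succ).ne
  set a := v i with ha
  set b := v j with hb
  have h0 : f (Function.update (Function.update v i (a + b)) j (a + b)) = 0 := by
    apply hadj _ k
    rw [← hi, ← hj]
    rw [Function.update_self, Function.update_of_ne hij, Function.update_self]
  rw [f.map_update_add] at h0
  rw [Function.update_comm hij, Function.update_comm hij] at h0
  rw [f.map_update_add, f.map_update_add] at h0
  have T1 : f (Function.update (Function.update v j a) i a) = 0 := by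
    apply hadj _ k
    rw [← hi, ← hj, Function.update_self, Function.update_of_ne hij.symm, Function.update_self]
  have T4 : f (Function.update (Function.update v j b) i b) = 0 := by
    apply hadj _ k
    rw [← hi, ← hj, Function.update_self, Function.update_of_ne hij.symm, Function.update_self]
  have T3 : Function.update (Function.update v j b) i a = v := by
    rw [hb, Function.update_eq_self, ha, Function.update_eq_self]
  have T2 : Function.update (Function.update v j a) i b = v ∘ Equiv.swap i j := by
    funext x
    by_cases hxi : x = i
    · subst hxi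
      rw [Function.update_self, Function.comp_apply, Equiv.swap_apply_left]
    · rw [Function.update_of_ne hxi]
      by_cases hxj : x = j
      · subst hxj
        rw [Function.update_self, Function.comp_apply, Equiv.swap_apply_right]
      · rw [Function.update_of_ne hxj, Function.comp_apply, Equiv.swap_apply_of_ne_of_ne hxi hxj]
  rw [T1, T4, T3, T2, zero_add, add_zero] at h0
  exact eq_neg_of_add_eq_zero_left h0

theorem alt_of_adj {m : ℕ} (f : MultilinearMap R (fun _ : Fin (m + 1) => M) N)
    (hadj : ∀ (v : Fin (m + 1) → M) (k : Fin m), v k.castSucc = v k.succ → f v = 0)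
    (v : Fin (m + 1) → M) (i j : Fin (m + 1)) (hv : v i = v j) (hij : i ≠ j) : f v = 0 := by
  have key : ∀ (D : ℕ) (v : Fin (m + 1) → M) (i j : Fin (m + 1)), i.val < j.val →
      j.val - i.val = D + 1 → v i = v j → f v = 0 := by
    intro D
    induction D with
    | zero =>
      intro v i j hlt hD hv
      have hi : i.val < m := by have := j.isLt; omega
      have e1 : i = (⟨i.val, hi⟩ : Fin m).castSucc := by ext; simp
      have e2 : j = (⟨i.val, hi⟩ : Fin m).succ := by ext; simp; omega
      apply hadj v ⟨i.val, hi⟩
      rw [← e1, ← e2]; exact hv
    | succ D ih =>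
      intro v i j hlt hD hv
      have hj : j.val - 1 < m := by have := j.isLt; omega
      set k : Fin m := ⟨j.val - 1, hj⟩ with hk
      have e2 : k.succ = j := by ext; simp [hk]; omega
      have hne1 : i ≠ k.castSucc := by
        intro h; have := congrArg Fin.val h; simp [hk] at this; omega
      have hne2 : i ≠ k.succ := by
        rw [e2]; intro h; have := congrArg Fin.val h; omega
      have h1 : f (v ∘ Equiv.swap k.castSucc k.succ) = 0 := by
        apply ih (v ∘ Equiv.swap k.castSucc k.succ) i k.castSucc
        · simp [hk]; omega
        · simp [hk]; omega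
        · rw [Function.comp_apply, Function.comp_apply, Equiv.swap_apply_of_ne_of_ne hne1 hne2,
            Equiv.swap_apply_left, e2]
          exact hv
      rw [adj_swap f hadj] at h1
      exact neg_eq_zero.mp h1
  rcases lt_or_gt_of_ne (fun h => hij (Fin.ext h)) with h | h
  · exact key (j.val - i.val - 1) v i j h (by omega) hv
  · exact key (i.val - j.val - 1) v j i h (by omega) hv.symm

/-- the alternating map attached to a multilinear map vanishing on adjacent equal arguments. -/
def altOfAdj {m : ℕ} (f : MultilinearMap R (fun _ : Fin (m + 1) => M) N)
    (hadj : ∀ (v : Fin (m + 1) → M) (k : Fin m), v k.castSucc = v k.succ → f v = 0) :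
    M [⋀^Fin (m + 1)]→ₗ[R] N :=
  { f with
    map_eq_zero_of_eq' := fun v i j hv hij => alt_of_adj f hadj v i j hv hij }

theorem eq_zero_of_adj {K : Type*} [Field K] {d : ℕ}
    (f : MultilinearMap K (fun _ : Fin (d + 1) => (Fin d → K)) K)
    (hadj : ∀ (v : Fin (d + 1) → (Fin d → K)) (k : Fin d), v k.castSucc = v k.succ → f v = 0)
    (v : Fin (d + 1) → (Fin d → K)) : f v = 0 := by
  have h := AlternatingMap.map_linearDependent (altOfAdj f hadj) v (by
    intro hli
    have := hli.fintype_card_le_finrank
    rw [Module.finrank_fin_fun, Fintype.card_fin] at this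
    omega)
  exact h

end Alt

end Groth.Agent.Lib.Helper25.Grass
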