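import Mathlib
import Groth.Prelude.Def_W4bk4grassmannianPl
import Groth.Agent.Lib.Helper16Plucker
import Groth.Agent.Lib.Helper24Grass
import Groth.Agent.Lib.Helper25GrassAlt

/-!
# The shuffle relations vanish at the minors of every matrix (helper25)
-/

noncomputable section

open MvPolynomial W4bk4grassmannian

namespace Groth.Agent.Lib.Helper25.Grass

variable {d : ℕ}

theorem card_compl' (r : Fin d) (A : Finset (Fin (d + 1))) (hA : A.card = r.val + 1) :
    Aᶜ.card = d - r.val := by
  rw [Finset.card_compl, hA, Fintype.card_fin]; omega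

/-- rows of the first bracket -/
def shI {V : Type*} (v : Fin (d + 1) → V) (x : Fin d → V) (r : Fin d) (A : Finset (Fin (d + 1)))
    (hA : A.card = r.val + 1) : Fin d → V :=
  fun t => if h : t.val ≤ r.val then v (A.orderEmbOfFin hA ⟨t.val, by omega⟩) else x t

/-- rows of the second bracket -/
def shJ {V : Type*} (v : Fin (d + 1) → V) (y : Fin d → V) (r : Fin d) (A : Finset (Fin (d + 1)))
    (hA : A.card = r.val + 1) : Fin d → V :=
  fun t => if h : t.val < r.val then y t
    else v (Aᶜ.orderEmbOfFin (card_compl' r A hA) ⟨t.val - r.val, by have := t.isLt; omega⟩)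

theorem shuffleI_eq {n : ℕ} (i j : Idx d n) (r : Fin d) (A : Finset (Fin (d + 1)))
    (hA : A.card = r.val + 1) :
    shuffleI i j r A hA = shI (movingRows i j r) i.1 r A hA := rfl

theorem shuffleJ_eq {n : ℕ} (i j : Idx d n) (r : Fin d) (A : Finset (Fin (d + 1)))
    (hA : A.card = r.val + 1) :
    shuffleJ i j r A hA = shJ (movingRows i j r) j.1 r A hA := rfl

theorem comp_shI {V W : Type*} (f : V → W) (v : Fin (d + 1) → V) (x : Fin d → V) (r : Fin d)
    (A : Finset (Fin (d + 1))) (hA : A.card = r.val + 1) :
    (fun t => f (shI v x r A hA t)) = shI (fun k => f (v k)) (fun t => f (x t)) r A hA := by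
  funext t
  unfold shI
  split_ifs <;> rfl

theorem comp_shJ {V W : Type*} (f : V → W) (v : Fin (d + 1) → V) (y : Fin d → V) (r : Fin d)
    (A : Finset (Fin (d + 1))) (hA : A.card = r.val + 1) :
    (fun t => f (shJ v y r A hA t)) = shJ (fun k => f (v k)) (fun t => f (y t)) r A hA := by
  funext t
  unfold shJ
  split_ifs <;> rfl

section Update

variable {V : Type*}

theorem shI_update_of_mem (v : Fin (d + 1) → V) (x : Fin d → V) (r : Fin d)
    (A : Finset (Fin (d + 1))) (hA : A.card = r.val + 1) (p : Fin (r.val + 1)) (z : V) :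
    shI (Function.update v (A.orderEmbOfFin hA p) z) x r A hA =
      Function.update (shI v x r A hA) ⟨p.val, by have := p.isLt; have := r.isLt; omega⟩ z := by
  funext t
  by_cases htp : t = ⟨p.val, by have := p.isLt; have := r.isLt; omega⟩
  · subst htp
    rw [Function.update_self]
    unfold shI
    have hp : p.val ≤ r.val := by have := p.isLt; omega
    rw [dif_pos hp]
    exact Function.update_self ..
  · rw [Function.update_of_ne htp]
    unfold shI
    by_cases h : t.val ≤ r.val
    · rw [dif_pos h, dif_pos h]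
      rw [Function.update_of_ne]
      intro heq
      have h1 := (A.orderEmbOfFin hA).injective heq
      apply htp
      ext
      have := congrArg Fin.val h1
      simpa using this
    · rw [dif_neg h, dif_neg h]

theorem shI_update_of_not_mem (v : Fin (d + 1) → V) (x : Fin d → V) (r : Fin d)
    (A : Finset (Fin (d + 1))) (hA : A.card = r.val + 1) (k : Fin (d + 1)) (hk : k ∉ A) (z : V) :
    shI (Function.update v k z) x r A hA = shI v x r A hA := by
  funext t
  unfold shI
  split_ifs with h
  · rw [Function.update_of_ne]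
    intro heq
    exact hk (heq ▸ A.orderEmbOfFin_mem hA _)
  · rfl

theorem shJ_update_of_not_mem (v : Fin (d + 1) → V) (y : Fin d → V) (r : Fin d)
    (A : Finset (Fin (d + 1))) (hA : A.card = r.val + 1) (q : Fin (d - r.val)) (z : V) :
    shJ (Function.update v (Aᶜ.orderEmbOfFin (card_compl' r A hA) q) z) y r A hA =
      Function.update (shJ v y r A hA) ⟨q.val + r.val, by have := q.isLt; have := r.isLt; omega⟩ z := by
  funext t
  by_cases htp : t = ⟨q.val + r.val, by have := q.isLt; have := r.isLt; omega⟩
  · subst htp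
    rw [Function.update_self]
    unfold shJ
    have hp : ¬ (q.val + r.val < r.val) := by omega
    rw [dif_neg hp]
    have e : (⟨q.val + r.val - r.val, by have := q.isLt; omega⟩ : Fin (d - r.val)) = q := by
      ext; simp
    simp only [e]
    exact Function.update_self ..
  · rw [Function.update_of_ne htp]
    unfold shJ
    by_cases h : t.val < r.val
    · rw [dif_pos h, dif_pos h]
    · rw [dif_neg h, dif_neg h]
      rw [Function.update_of_ne]
      intro heq
      have h1 := (Aᶜ.orderEmbOfFin (card_compl' r A hA)).injective heq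
      apply htp
      ext
      have := congrArg Fin.val h1
      simp at this
      simp
      omega

theorem shJ_update_of_mem (v : Fin (d + 1) → V) (y : Fin d → V) (r : Fin d)
    (A : Finset (Fin (d + 1))) (hA : A.card = r.val + 1) (k : Fin (d + 1)) (hk : k ∈ A) (z : V) :
    shJ (Function.update v k z) y r A hA = shJ v y r A hA := by
  funext t
  unfold shJ
  split_ifs with h
  · rfl
  · rw [Function.update_of_ne]
    intro heq
    have := Aᶜ.orderEmbOfFin_mem (card_compl' r A hA) ⟨t.val - r.val, by have := t.isLt; omega⟩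
    rw [heq, Finset.mem_compl] at this
    exact this hk

end Update

section Phi

variable {K : Type*} [CommRing K]

/-- one term of the evaluated shuffle relation -/
def shTerm (v : Fin (d + 1) → Fin d → K) (x y : Fin d → Fin d → K) (r : Fin d)
    (A : Finset (Fin (d + 1))) : K :=
  if hA : A.card = r.val + 1 then
    (-1 : K) ^ shuffleSign r A * (Matrix.of (shI v x r A hA)).det * (Matrix.of (shJ v y r A hA)).det
  else 0

/-- the evaluated shuffle relation -/
def shPhi (v : Fin (d + 1) → Fin d → K) (x y : Fin d → Fin d → K) (r : Fin d) : K :=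
  ∑ A : Finset (Fin (d + 1)), shTerm v x y r A

theorem of_update (f : Fin d → Fin d → K) (p : Fin d) (z : Fin d → K) :
    Matrix.of (Function.update f p z) = Matrix.updateRow (Matrix.of f) p z := rfl

theorem exists_emb_eq (A : Finset (Fin (d + 1))) {c : ℕ} (hA : A.card = c) (k : Fin (d + 1))
    (hk : k ∈ A) : ∃ p, A.orderEmbOfFin hA p = k := by
  have := Finset.range_orderEmbOfFin A hA
  have hk' : k ∈ Set.range (A.orderEmbOfFin hA) := by rw [this]; exact hk
  exact hk'

theorem shTerm_update_add (v : Fin (d + 1) → Fin d → K) (x y : Fin d → Fin d → K) (r : Fin d)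
    (A : Finset (Fin (d + 1))) (k : Fin (d + 1)) (z z' : Fin d → K) :
    shTerm (Function.update v k (z + z')) x y r A =
      shTerm (Function.update v k z) x y r A + shTerm (Function.update v k z') x y r A := by
  unfold shTerm
  split_ifs with hA
  · by_cases hk : k ∈ A
    · obtain ⟨p, rfl⟩ := exists_emb_eq A hA k hk
      rw [shI_update_of_mem, shI_update_of_mem, shI_update_of_mem,
        shJ_update_of_mem _ _ _ _ _ _ hk, shJ_update_of_mem _ _ _ _ _ _ hk,
        shJ_update_of_mem _ _ _ _ _ _ hk, of_update, of_update, of_update,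
        Matrix.det_updateRow_add]
      ring
    · have hk' : k ∈ Aᶜ := Finset.mem_compl.mpr hk
      obtain ⟨q, rfl⟩ := exists_emb_eq Aᶜ (card_compl' r A hA) k hk'
      rw [shJ_update_of_not_mem, shJ_update_of_not_mem, shJ_update_of_not_mem,
        shI_update_of_not_mem _ _ _ _ _ _ hk, shI_update_of_not_mem _ _ _ _ _ _ hk,
        shI_update_of_not_mem _ _ _ _ _ _ hk, of_update, of_update, of_update,
        Matrix.det_updateRow_add]
      ring
  · simp

theorem shTerm_update_smul (v : Fin (d + 1) → Fin d → K) (x y : Fin d → Fin d → K) (r : Fin d)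
    (A : Finset (Fin (d + 1))) (k : Fin (d + 1)) (c : K) (z : Fin d → K) :
    shTerm (Function.update v k (c • z)) x y r A =
      c * shTerm (Function.update v k z) x y r A := by
  unfold shTerm
  split_ifs with hA
  · by_cases hk : k ∈ A
    · obtain ⟨p, rfl⟩ := exists_emb_eq A hA k hk
      rw [shI_update_of_mem, shI_update_of_mem,
        shJ_update_of_mem _ _ _ _ _ _ hk, shJ_update_of_mem _ _ _ _ _ _ hk,
        of_update, of_update, Matrix.det_updateRow_smul]
      ring
    · have hk' : k ∈ Aᶜ := Finset.mem_compl.mpr hk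
      obtain ⟨q, rfl⟩ := exists_emb_eq Aᶜ (card_compl' r A hA) k hk'
      rw [shJ_update_of_not_mem, shJ_update_of_not_mem,
        shI_update_of_not_mem _ _ _ _ _ _ hk, shI_update_of_not_mem _ _ _ _ _ _ hk,
        of_update, of_update, Matrix.det_updateRow_smul]
      ring
  · simp

/-- the evaluated shuffle relation as a multilinear map in the moving rows -/
def shPhiML (x y : Fin d → Fin d → K) (r : Fin d) :
    MultilinearMap K (fun _ : Fin (d + 1) => (Fin d → K)) K where
  toFun v := shPhi v x y r
  map_update_add' := by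
    intro inst v k z z'
    have : inst = instDecidableEqFin _ := Subsingleton.elim _ _
    subst this
    simp only [shPhi]
    rw [← Finset.sum_add_distrib]
    exact Finset.sum_congr rfl (fun A _ => shTerm_update_add v x y r A k z z')
  map_update_smul' := by
    intro inst v k c z
    have : inst = instDecidableEqFin _ := Subsingleton.elim _ _
    subst this
    simp only [shPhi, smul_eq_mul]
    rw [Finset.mul_sum]
    exact Finset.sum_congr rfl (fun A _ => shTerm_update_smul v x y r A k c z)

end Phi


section Adj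

/-- the adjacent transposition `(k, k+1)` of `Fin (d + 1)` -/
def sw (k : Fin d) : Equiv.Perm (Fin (d + 1)) := Equiv.swap k.castSucc k.succ

theorem sw_apply (k : Fin d) (a : Fin (d + 1)) :
    sw k a = if a = k.castSucc then k.succ else if a = k.succ then k.castSucc else a :=
  Equiv.swap_apply_def ..

theorem sw_sw (k : Fin d) (a : Fin (d + 1)) : sw k (sw k a) = a := Equiv.swap_apply_self ..

theorem sw_symm (k : Fin d) : (sw k).symm = sw k := Equiv.symm_swap ..

/-- a set is mixed if it contains exactly one of `k, k+1` -/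
def Mixed (k : Fin d) (A : Finset (Fin (d + 1))) : Prop :=
  (k.castSucc ∈ A ∧ k.succ ∉ A) ∨ (k.castSucc ∉ A ∧ k.succ ∈ A)

theorem mem_map_sw (k : Fin d) (A : Finset (Fin (d + 1))) (a : Fin (d + 1)) :
    a ∈ A.map (sw k).toEmbedding ↔ sw k a ∈ A := by
  rw [Finset.mem_map_equiv, sw_symm]

theorem map_sw_map_sw (k : Fin d) (A : Finset (Fin (d + 1))) :
    (A.map (sw k).toEmbedding).map (sw k).toEmbedding = A := by
  ext a
  rw [mem_map_sw, mem_map_sw, sw_sw]

theorem compl_map_sw (k : Fin d) (A : Finset (Fin (d + 1))) :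
    (A.map (sw k).toEmbedding)ᶜ = Aᶜ.map (sw k).toEmbedding := by
  ext a
  rw [Finset.mem_compl, mem_map_sw, mem_map_sw, Finset.mem_compl]

theorem map_sw_of_not_mixed (k : Fin d) (A : Finset (Fin (d + 1))) (h : ¬ Mixed k A) :
    A.map (sw k).toEmbedding = A := by
  ext a
  rw [mem_map_sw, sw_apply]
  unfold Mixed at h
  by_cases h1 : a = k.castSucc
  · subst h1
    rw [if_pos rfl]
    tauto
  · rw [if_neg h1]
    by_cases h2 : a = k.succ
    · subst h2
      rw [if_pos rfl]
      tauto
    · rw [if_neg h2]

theorem not_mixed_of_map_sw (k : Fin d) (A : Finset (Fin (d + 1)))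
    (h : A.map (sw k).toEmbedding = A) : ¬ Mixed k A := by
  have h1 : k.castSucc ∈ A ↔ k.succ ∈ A := by
    conv_lhs => rw [← h]
    rw [mem_map_sw, sw_apply, if_pos rfl]
  unfold Mixed
  tauto

theorem mixed_compl (k : Fin d) (A : Finset (Fin (d + 1))) (h : Mixed k A) : Mixed k Aᶜ := by
  unfold Mixed at *
  simp only [Finset.mem_compl]
  tauto

theorem emb_map_sw (k : Fin d) (S : Finset (Fin (d + 1))) {c : ℕ} (h : S.card = c)
    (h' : (S.map (sw k).toEmbedding).card = c)
    (hS : ¬ (k.castSucc ∈ S ∧ k.succ ∈ S)) (t : Fin c) :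
    (S.map (sw k).toEmbedding).orderEmbOfFin h' t = sw k (S.orderEmbOfFin h t) := by
  have := Finset.orderEmbOfFin_unique h' (f := fun t => sw k (S.orderEmbOfFin h t))
    (fun x => by rw [mem_map_sw, sw_sw]; exact S.orderEmbOfFin_mem h x)
    (by
      intro t t' htt'
      have hlt : S.orderEmbOfFin h t < S.orderEmbOfFin h t' := (S.orderEmbOfFin h).strictMono htt'
      have m1 := S.orderEmbOfFin_mem h t
      have m2 := S.orderEmbOfFin_mem h t'
      set a := S.orderEmbOfFin h t
      set a' := S.orderEmbOfFin h t'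
      have hex : ¬ (a = k.castSucc ∧ a' = k.succ) := fun ⟨e1, e2⟩ => hS ⟨e1 ▸ m1, e2 ▸ m2⟩
      show sw k a < sw k a'
      rw [sw_apply, sw_apply]
      rw [Fin.ext_iff, Fin.ext_iff] at hex
      rw [Fin.lt_def] at hlt
      simp only [Fin.val_castSucc, Fin.val_succ] at hex
      split_ifs with c1 c2 c3 c4 c5 c6 <;>
        simp only [Fin.ext_iff, Fin.val_castSucc, Fin.val_succ, Fin.lt_def] at * <;> omega)
  exact (congrFun this t).symm

theorem emb_congr {S S' : Finset (Fin (d + 1))} (e : S = S') {c : ℕ} (h : S.card = c)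
    (h' : S'.card = c) (t : Fin c) : S.orderEmbOfFin h t = S'.orderEmbOfFin h' t := by
  subst e; rfl

theorem comp_sw_eq {V : Type*} (k : Fin d) (v : Fin (d + 1) → V) (hv : v k.castSucc = v k.succ)
    (a : Fin (d + 1)) : v (sw k a) = v a := by
  rw [sw_apply]
  split_ifs with h1 h2
  · rw [h1, hv]
  · rw [h2, hv]
  · rfl

theorem shI_map_sw {V : Type*} (k : Fin d) (v : Fin (d + 1) → V) (hv : v k.castSucc = v k.succ)
    (x : Fin d → V) (r : Fin d) (A : Finset (Fin (d + 1))) (hA : A.card = r.val + 1)
    (hA' : (A.map (sw k).toEmbedding).card = r.val + 1) (hm : Mixed k A) :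
    shI v x r (A.map (sw k).toEmbedding) hA' = shI v x r A hA := by
  funext t
  unfold shI
  split_ifs with h
  · rw [emb_map_sw k A hA hA' (by unfold Mixed at hm; tauto), comp_sw_eq k v hv]
  · rfl

theorem shJ_map_sw {V : Type*} (k : Fin d) (v : Fin (d + 1) → V) (hv : v k.castSucc = v k.succ)
    (y : Fin d → V) (r : Fin d) (A : Finset (Fin (d + 1))) (hA : A.card = r.val + 1)
    (hA' : (A.map (sw k).toEmbedding).card = r.val + 1) (hm : Mixed k A) :
    shJ v y r (A.map (sw k).toEmbedding) hA' = shJ v y r A hA := by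
  funext t
  unfold shJ
  split_ifs with h
  · rfl
  · have hc := mixed_compl k A hm
    have hcard : (Aᶜ.map (sw k).toEmbedding).card = d - r.val := by
      rw [Finset.card_map]; exact card_compl' r A hA
    rw [emb_congr (compl_map_sw k A) (card_compl' r _ hA') hcard,
      emb_map_sw k Aᶜ (card_compl' r A hA) hcard (by unfold Mixed at hc; tauto),
      comp_sw_eq k v hv]

theorem sum_val_ge (r : ℕ) (S : Finset (Fin (d + 1))) (hS : S.card = r + 1) :
    r * (r + 1) / 2 ≤ ∑ a ∈ S, a.val := by
  have h1 : ∑ t : Fin (r + 1), (S.orderEmbOfFin hS t).val = ∑ x ∈ S, x.val := by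
    conv_rhs => rw [← Finset.map_orderEmbOfFin_univ S hS]
    rw [Finset.sum_map]
    rfl
  rw [← h1]
  have h2 : ∑ t : Fin (r + 1), t.val ≤ ∑ t : Fin (r + 1), (S.orderEmbOfFin hS t).val := by
    apply Finset.sum_le_sum
    intro t _
    exact Groth.Agent.Lib.Helper24Grass.val_le_of_strictMono _ (S.orderEmbOfFin hS).strictMono t
  have h3 : ∑ t : Fin (r + 1), t.val = (r + 1) * (r + 1 - 1) / 2 := by
    rw [Fin.sum_univ_eq_sum_range (fun i => i) (r + 1), Finset.sum_range_id]
  rw [h3] at h2
  have h4 : (r + 1) * (r + 1 - 1) = r * (r + 1) := by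
    rw [Nat.add_sub_cancel, Nat.mul_comm]
  rw [h4] at h2
  exact h2

theorem sum_map_sw (k : Fin d) (A : Finset (Fin (d + 1))) :
    ∑ a ∈ A.map (sw k).toEmbedding, a.val = ∑ a ∈ A, (sw k a).val := by
  rw [Finset.sum_map]; rfl

theorem sum_sw_of_mixed (k : Fin d) (A : Finset (Fin (d + 1))) (hm : Mixed k A) :
    (∑ a ∈ A, (sw k a).val = ∑ a ∈ A, a.val + 1) ∨ (∑ a ∈ A, (sw k a).val + 1 = ∑ a ∈ A, a.val) := by
  rcases hm with ⟨h1, h2⟩ | ⟨h1, h2⟩
  · left
    rw [← Finset.add_sum_erase A _ h1, ← Finset.add_sum_erase A (fun a => a.val) h1]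
    have e : ∑ a ∈ A.erase k.castSucc, (sw k a).val = ∑ a ∈ A.erase k.castSucc, a.val := by
      apply Finset.sum_congr rfl
      intro a ha
      have ha1 : a ≠ k.castSucc := Finset.ne_of_mem_erase ha
      have ha2 : a ≠ k.succ := fun h => h2 (h ▸ Finset.mem_of_mem_erase ha)
      rw [sw_apply, if_neg ha1, if_neg ha2]
    rw [e, sw_apply, if_pos rfl]
    simp only [Fin.val_succ, Fin.val_castSucc]
    omega
  · right
    rw [← Finset.add_sum_erase A _ h2, ← Finset.add_sum_erase A (fun a => a.val) h2]
    have e : ∑ a ∈ A.erase k.succ, (sw k a).val = ∑ a ∈ A.erase k.succ, a.val := by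
      apply Finset.sum_congr rfl
      intro a ha
      have ha2 : a ≠ k.succ := Finset.ne_of_mem_erase ha
      have ha1 : a ≠ k.castSucc := fun h => h1 (h ▸ Finset.mem_of_mem_erase ha)
      rw [sw_apply, if_neg ha1, if_neg ha2]
    have hne : k.succ ≠ k.castSucc := (Fin.castSucc_lt_succ).ne'
    rw [e, sw_apply, if_neg hne, if_pos rfl]
    simp only [Fin.val_succ, Fin.val_castSucc]
    omega

theorem sign_map_sw {K : Type*} [CommRing K] (k : Fin d) (r : Fin d) (A : Finset (Fin (d + 1)))
    (hA : A.card = r.val + 1) (hm : Mixed k A) :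
    (-1 : K) ^ shuffleSign r (A.map (sw k).toEmbedding) = - (-1 : K) ^ shuffleSign r A := by
  unfold shuffleSign
  have hA' : (A.map (sw k).toEmbedding).card = r.val + 1 := by rw [Finset.card_map]; exact hA
  have b1 := sum_val_ge r.val A hA
  have b2 := sum_val_ge r.val _ hA'
  rw [sum_map_sw] at b2 ⊢
  rcases sum_sw_of_mixed k A hm with h | h
  · rw [h] at b2 ⊢
    have : ∑ a ∈ A, a.val + 1 - r.val * (r.val + 1) / 2 =
        (∑ a ∈ A, a.val - r.val * (r.val + 1) / 2) + 1 := by omega
    rw [this, pow_succ]; ring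
  · rw [← h] at b1 ⊢
    have : ∑ a ∈ A, (sw k a).val + 1 - r.val * (r.val + 1) / 2 =
        (∑ a ∈ A, (sw k a).val - r.val * (r.val + 1) / 2) + 1 := by omega
    rw [this, pow_succ]; ring

variable {K : Type*} [CommRing K]

theorem shTerm_map_sw_of_mixed (k : Fin d) (v : Fin (d + 1) → Fin d → K)
    (hv : v k.castSucc = v k.succ) (x y : Fin d → Fin d → K) (r : Fin d)
    (A : Finset (Fin (d + 1))) (hm : Mixed k A) :
    shTerm v x y r (A.map (sw k).toEmbedding) = - shTerm v x y r A := by
  unfold shTerm
  by_cases hA : A.card = r.val + 1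
  · have hA' : (A.map (sw k).toEmbedding).card = r.val + 1 := by rw [Finset.card_map]; exact hA
    rw [dif_pos hA, dif_pos hA', shI_map_sw k v hv x r A hA hA' hm, shJ_map_sw k v hv y r A hA hA' hm,
      sign_map_sw k r A hA hm]
    ring
  · have hA' : ¬ (A.map (sw k).toEmbedding).card = r.val + 1 := by rw [Finset.card_map]; exact hA
    rw [dif_neg hA, dif_neg hA', neg_zero]

theorem shTerm_of_not_mixed (k : Fin d) (v : Fin (d + 1) → Fin d → K)
    (hv : v k.castSucc = v k.succ) (x y : Fin d → Fin d → K) (r : Fin d)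
    (A : Finset (Fin (d + 1))) (hm : ¬ Mixed k A) :
    shTerm v x y r A = 0 := by
  unfold shTerm
  split_ifs with hA
  · have hne : k.castSucc ≠ k.succ := (Fin.castSucc_lt_succ).ne
    by_cases h1 : k.castSucc ∈ A
    · have h2 : k.succ ∈ A := by unfold Mixed at hm; tauto
      obtain ⟨p, hp⟩ := exists_emb_eq A hA _ h1
      obtain ⟨p', hp'⟩ := exists_emb_eq A hA _ h2
      have hpp' : p ≠ p' := fun h => hne (by rw [← hp, ← hp', h])
      have hz : (Matrix.of (shI v x r A hA)).det = 0 := by
        apply Matrix.det_zero_of_row_eq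
          (i := (⟨p.val, by have := p.isLt; have := r.isLt; omega⟩ : Fin d))
          (j := (⟨p'.val, by have := p'.isLt; have := r.isLt; omega⟩ : Fin d))
        · intro h; apply hpp'; ext; exact Fin.mk.inj_iff.mp h
        · show shI v x r A hA _ = shI v x r A hA _
          unfold shI
          have e1 : p.val ≤ r.val := by have := p.isLt; omega
          have e2 : p'.val ≤ r.val := by have := p'.isLt; omega
          rw [dif_pos e1, dif_pos e2]
          show v (A.orderEmbOfFin hA p) = v (A.orderEmbOfFin hA p')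
          rw [hp, hp', hv]
      rw [hz]; ring
    · have h2 : k.succ ∉ A := by unfold Mixed at hm; tauto
      have h1' : k.castSucc ∈ Aᶜ := Finset.mem_compl.mpr h1
      have h2' : k.succ ∈ Aᶜ := Finset.mem_compl.mpr h2
      obtain ⟨p, hp⟩ := exists_emb_eq Aᶜ (card_compl' r A hA) _ h1'
      obtain ⟨p', hp'⟩ := exists_emb_eq Aᶜ (card_compl' r A hA) _ h2'
      have hpp' : p ≠ p' := fun h => hne (by rw [← hp, ← hp', h])
      have hz : (Matrix.of (shJ v y r A hA)).det = 0 := by
        apply Matrix.det_zero_of_row_eq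
          (i := (⟨p.val + r.val, by have := p.isLt; have := r.isLt; omega⟩ : Fin d))
          (j := (⟨p'.val + r.val, by have := p'.isLt; have := r.isLt; omega⟩ : Fin d))
        · intro h; apply hpp'; ext; have := congrArg Fin.val h; simp at this; exact this
        · show shJ v y r A hA _ = shJ v y r A hA _
          unfold shJ
          have e1 : ¬ (p.val + r.val < r.val) := by omega
          have e2 : ¬ (p'.val + r.val < r.val) := by omega
          rw [dif_neg e1, dif_neg e2]
          have q1 : (⟨p.val + r.val - r.val, by have := p.isLt; omega⟩ : Fin (d - r.val)) = p := by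
            ext; simp
          have q2 : (⟨p'.val + r.val - r.val, by have := p'.isLt; omega⟩ : Fin (d - r.val)) = p' := by
            ext; simp
          simp only [q1, q2]
          rw [hp, hp', hv]
      rw [hz]; ring
  · rfl

theorem shPhi_adj (v : Fin (d + 1) → Fin d → K) (x y : Fin d → Fin d → K) (r : Fin d)
    (k : Fin d) (hv : v k.castSucc = v k.succ) : shPhi v x y r = 0 := by
  classical
  unfold shPhi
  refine Finset.sum_involution (fun A _ => A.map (sw k).toEmbedding) ?_ ?_ (fun _ _ => Finset.mem_univ _) ?_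
  · intro A _
    by_cases hm : Mixed k A
    · rw [shTerm_map_sw_of_mixed k v hv x y r A hm]; ring
    · rw [map_sw_of_not_mixed k A hm, shTerm_of_not_mixed k v hv x y r A hm]; ring
  · intro A _ hne heq
    exact hne (shTerm_of_not_mixed k v hv x y r A (not_mixed_of_map_sw k A heq))
  · intro A _
    exact map_sw_map_sw k A

end Adj

section Final

variable {K : Type*} [Field K] {n : ℕ}

theorem shPhi_eq_zero (v : Fin (d + 1) → Fin d → K) (x y : Fin d → Fin d → K) (r : Fin d) :
    shPhi v x y r = 0 :=
  eq_zero_of_adj (shPhiML x y r) (fun v k hv => shPhi_adj v x y r k hv) v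

theorem evalMinors_coord (M : Matrix (Fin n) (Fin d) K) (a : Fin d → Fin n) :
    evalMinors K d n M (coord K d n a) = (M.submatrix a id).det := by
  have h := Groth.Agent.Lib.Helper16Plucker.ext_minors M a
  rw [← h]
  unfold Groth.Agent.Lib.Helper16Plucker.ext evalMinors
  rw [MvPolynomial.aeval_def, Algebra.algebraMap_self]
  rfl

theorem evalMinors_shuffleTerm (M : Matrix (Fin n) (Fin d) K) (i j : Idx d n) (r : Fin d)
    (A : Finset (Fin (d + 1))) :
    evalMinors K d n M (shuffleTerm K i j r A) =
      shTerm (fun k => M (movingRows i j r k)) (fun t => M (i.1 t)) (fun t => M (j.1 t)) r A := by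
  unfold shuffleTerm shTerm
  split_ifs with hA
  · rw [map_mul, map_mul, map_pow, map_neg, map_one, evalMinors_coord, evalMinors_coord,
      shuffleI_eq, shuffleJ_eq]
    have e1 : M.submatrix (shI (movingRows i j r) i.1 r A hA) id =
        Matrix.of (shI (fun k => M (movingRows i j r k)) (fun t => M (i.1 t)) r A hA) := by
      rw [← comp_shI (fun a => M a)]
      rfl
    have e2 : M.submatrix (shJ (movingRows i j r) j.1 r A hA) id =
        Matrix.of (shJ (fun k => M (movingRows i j r k)) (fun t => M (j.1 t)) r A hA) := by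
      rw [← comp_shJ (fun a => M a)]
      rfl
    rw [e1, e2]
  · rw [map_zero]

/-- the shuffle relations vanish at the minors of every matrix -/
theorem evalMinors_shuffleRel (M : Matrix (Fin n) (Fin d) K) (i j : Idx d n) (r : Fin d) :
    evalMinors K d n M (shuffleRel K i j r) = 0 := by
  unfold shuffleRel
  rw [map_sum]
  simp only [evalMinors_shuffleTerm]
  exact shPhi_eq_zero _ _ _ r

end Final

end Groth.Agent.Lib.Helper25.Grass
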