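import Mathlib
import Groth.Prelude.Def_W4bk4grassmannianPl
import Groth.Agent.Lib.Helper24Grass
import Groth.Agent.Lib.Helper25GrassShuffle
import Groth.Agent.Lib.Helper25GrassLead

/-!
# Standard monomial theory for Schubert varieties in the Grassmannian (helper25)
-/

noncomputable section

open MvPolynomial W4bk4grassmannian

namespace Groth.Agent.Lib.Helper25.Grass

variable (K : Type*) [Field K] {d n : ℕ}

theorem mem_schubert_iff (τ : Idx d n) (F : PlRing K d n) :
    F ∈ schubertVanishing K d n τ ↔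
      ∀ A : Matrix (Fin n) (Fin d) K, (∀ φ : Idx d n, ¬ φ ≤ τ → (A.submatrix φ.1 id).det = 0) →
        evalMinors K d n A F = 0 := by
  unfold schubertVanishing
  simp only [Ideal.mem_iInf]
  rfl

theorem X_mem_schubert (τ φ : Idx d n) (h : ¬ φ ≤ τ) : (X φ : PlRing K d n) ∈ schubertVanishing K d n τ := by
  rw [mem_schubert_iff]
  intro A hA
  unfold evalMinors
  rw [aeval_X]
  exact hA φ h

theorem shuffleRel_mem_schubert (τ : Idx d n) (i j : Idx d n) (r : Fin d) :
    shuffleRel K i j r ∈ schubertVanishing K d n τ := by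
  rw [mem_schubert_iff]
  intro A _
  exact evalMinors_shuffleRel A i j r

theorem schubert_antitone {w w' : Idx d n} (h : w' ≤ w) :
    schubertVanishing K d n w ≤ schubertVanishing K d n w' := by
  intro F hF
  rw [mem_schubert_iff] at hF ⊢
  intro A hA
  apply hF A
  intro φ hφ
  exact hA φ (fun h' => hφ (le_trans h' h))

theorem plIdealTop_le_plIdeal (τ : Idx d n) : plIdealTop (d := d) (n := n) K ≤ plIdeal K τ := by
  unfold plIdealTop plIdeal
  exact Ideal.span_mono Set.subset_union_left

theorem plIdeal_le_schubert (τ : Idx d n) : plIdeal K τ ≤ schubertVanishing K d n τ := by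
  unfold plIdeal
  rw [Ideal.span_le]
  rintro f (⟨i, j, r, _, rfl⟩ | ⟨φ, hφ, rfl⟩)
  · exact shuffleRel_mem_schubert K τ i j r
  · exact X_mem_schubert K τ φ hφ

theorem plIdealTop_le_schubert (τ : Idx d n) :
    plIdealTop (d := d) (n := n) K ≤ schubertVanishing K d n τ :=
  le_trans (plIdealTop_le_plIdeal K τ) (plIdeal_le_schubert K τ)

theorem schubert_isRadical (τ : Idx d n) : (schubertVanishing K d n τ).IsRadical := by
  intro F hF
  obtain ⟨k, hk⟩ := hF
  rw [mem_schubert_iff] at hk ⊢
  intro A hA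
  have := hk A hA
  rw [map_pow] at this
  exact pow_eq_zero_iff (fun h => by
    subst h; rw [pow_zero] at this; exact one_ne_zero this) |>.mp this

theorem chainMon_mem_of_mem {m : ℕ} (I : Ideal (PlRing K d n)) (c : Fin m → Idx d n) (k : Fin m)
    (h : (X (c k) : PlRing K d n) ∈ I) : chainMon K c ∈ I := by
  unfold chainMon
  exact Ideal.mem_of_dvd I (Finset.dvd_prod_of_mem (fun k => (X (c k) : PlRing K d n)) (Finset.mem_univ k)) h

/-- the type of all standard chains -/
abbrev AllChains (d n : ℕ) : Type := Σ m : ℕ, {c : Fin m → Idx d n // Antitone c}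

/-- straightening modulo an ideal containing the shuffle relations. -/
theorem straighten (I : Ideal (PlRing K d n)) (hI : plIdealTop (d := d) (n := n) K ≤ I)
    (P : AllChains d n → Prop)
    (hP : ∀ c : AllChains d n, ¬ P c → chainMon K c.2.1 ∈ I) (F : PlRing K d n) :
    ∃ (s : Finset (AllChains d n)) (a : AllChains d n → K), (∀ c ∈ s, P c) ∧
      F - ∑ c ∈ s, a c • chainMon K c.2.1 ∈ I := by
  classical
  have h1 : Ideal.Quotient.mk (plIdealTop (d := d) (n := n) K) F ∈
      Groth.Agent.Lib.Helper24Grass.Std K d n := by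
    rw [Groth.Agent.Lib.Helper24Grass.std_eq_top]; trivial
  unfold Groth.Agent.Lib.Helper24Grass.Std at h1
  rw [Finsupp.mem_span_range_iff_exists_finsupp] at h1
  obtain ⟨a, ha⟩ := h1
  have hsm : ∀ (b : K) (p : PlRing K d n),
      b • Ideal.Quotient.mk (plIdealTop (d := d) (n := n) K) p =
        Ideal.Quotient.mk (plIdealTop (d := d) (n := n) K) (b • p) := by
    intro b p
    exact (map_smul (Ideal.Quotient.mkₐ K (plIdealTop (d := d) (n := n) K)) b p).symm
  have h2 : F - ∑ c ∈ a.support, a c • chainMon K c.2.1 ∈ plIdealTop (d := d) (n := n) K := by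
    rw [← Ideal.Quotient.mk_eq_mk_iff_sub_mem, ← ha, Finsupp.sum, map_sum]
    apply Finset.sum_congr rfl
    intro c _
    rw [hsm]
  refine ⟨a.support.filter P, fun c => a c, ?_, ?_⟩
  · intro c hc
    exact (Finset.mem_filter.mp hc).2
  · have h3 : F - ∑ c ∈ a.support.filter P, a c • chainMon K c.2.1 =
        (F - ∑ c ∈ a.support, a c • chainMon K c.2.1) +
          ∑ c ∈ a.support.filter (fun c => ¬ P c), a c • chainMon K c.2.1 := by
      rw [← Finset.sum_filter_add_sum_filter_not a.support P]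
      ring
    rw [h3]
    refine I.add_mem (hI h2) (I.sum_mem ?_)
    intro c hc
    exact Submodule.smul_of_tower_mem _ _ (hP c (Finset.mem_filter.mp hc).2)

theorem allChains_inj (i i' : AllChains d n)
    (h : (⟨i.1, i.2.1⟩ : Σ m, Fin m → Idx d n) = ⟨i'.1, i'.2.1⟩) : i = i' := by
  rcases i with ⟨m, c, hc⟩
  rcases i' with ⟨m', c', hc'⟩
  simp only [Sigma.mk.injEq] at h
  obtain ⟨rfl, h⟩ := h
  rw [heq_eq_eq] at h
  subst h
  rfl

/-- independence over the type of all standard chains -/
theorem core_indep' [Infinite K] (hd : 0 < d) (τ : Idx d n) (s : Finset (AllChains d n))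
    (a : AllChains d n → K)
    (hF : ∑ c ∈ s, a c • chainMon K c.2.1 ∈ schubertVanishing K d n τ) :
    ∀ c ∈ s, (∀ k, c.2.1 k ≤ τ) → a c = 0 :=
  core_indep K hd τ (fun c : AllChains d n => c.1) (fun c => c.2.1) (fun c => c.2.2)
    allChains_inj s a hF

/-- `I(τ) = J(τ)`. -/
theorem plIdeal_eq_schubert [Infinite K] (hd : 0 < d) (τ : Idx d n) :
    plIdeal K τ = schubertVanishing K d n τ := by
  apply le_antisymm (plIdeal_le_schubert K τ)
  intro F hF
  obtain ⟨s, a, hs, hFs⟩ := straighten K (plIdeal K τ) (plIdealTop_le_plIdeal K τ)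
    (fun c => ∀ k, c.2.1 k ≤ τ) (by
      intro c hc
      push Not at hc
      obtain ⟨k, hk⟩ := hc
      apply chainMon_mem_of_mem K _ c.2.1 k
      exact Ideal.subset_span (Or.inr ⟨c.2.1 k, hk, rfl⟩)) F
  have hG : ∑ c ∈ s, a c • chainMon K c.2.1 ∈ schubertVanishing K d n τ := by
    have := (schubertVanishing K d n τ).sub_mem hF (plIdeal_le_schubert K τ hFs)
    rwa [sub_sub_cancel] at this
  have hz := core_indep' K hd τ s a hG
  have hG0 : ∑ c ∈ s, a c • chainMon K c.2.1 = 0 := by
    apply Finset.sum_eq_zero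
    intro c hc
    rw [hz c hc (hs c hc), zero_smul]
  rw [hG0, sub_zero] at hFs
  exact hFs

end Groth.Agent.Lib.Helper25.Grass
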