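import Mathlib
import Groth.Prelude.Def_W4bk4grassmannianPl
import Groth.Agent.Lib.Helper25GrassSMT
import Groth.Agent.Lib.Helper25GrassLead2

/-!
# The least Plücker coordinate is a prime element on every Schubert variety (helper25)
-/

noncomputable section

open MvPolynomial W4bk4grassmannian

namespace Groth.Agent.Lib.Helper25.Grass

variable {d n : ℕ}

theorem strictMono_add_le (f : Fin d → Fin n) (hf : StrictMono f) :
    ∀ (k : ℕ) (t t' : Fin d), t'.val = t.val + k → (f t).val + k ≤ (f t').val := by
  intro k
  induction k with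
  | zero =>
    intro t t' h
    have : t' = t := Fin.ext h
    rw [this]; omega
  | succ k ih =>
    intro t t' h
    have hlt : t.val + k < d := by have := t'.isLt; omega
    have h1 := ih t ⟨t.val + k, hlt⟩ rfl
    have h2 : f ⟨t.val + k, hlt⟩ < f t' := hf (by rw [Fin.lt_def]; simp only; omega)
    rw [Fin.lt_def] at h2
    omega

/-- the least index `(0, 1, …, d - 1)` -/
def iotaIdx (hdn : d < n) : Idx d n := ⟨fun t => ⟨t.val, lt_trans t.isLt hdn⟩, fun _ _ h => h⟩

/-- the unique cover `(0, 1, …, d - 2, d)` of the least index -/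
def iotaCover (hdn : d < n) : Idx d n :=
  ⟨fun t => if t.val + 1 = d then ⟨d, hdn⟩ else ⟨t.val, lt_trans t.isLt hdn⟩, by
    intro a b hab
    have hab' : a.val < b.val := hab
    have hb := b.isLt
    rw [Fin.lt_def]
    dsimp only
    split_ifs with h1 h2 h2
    · omega
    · omega
    · simp only; omega
    · simp only; omega⟩

theorem iota_le (hdn : d < n) (θ : Idx d n) : iotaIdx hdn ≤ θ := by
  intro t
  rw [Fin.le_def]
  exact Groth.Agent.Lib.Helper24Grass.val_le_of_strictMono θ.1 θ.2 t

theorem iotaCover_le_of_ne (hdn : d < n) (θ : Idx d n) (h : θ ≠ iotaIdx hdn) : iotaCover hdn ≤ θ := by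
  have hge : ∀ t, t.val ≤ (θ.1 t).val :=
    Groth.Agent.Lib.Helper24Grass.val_le_of_strictMono θ.1 θ.2
  intro t
  show (iotaCover hdn).1 t ≤ θ.1 t
  unfold iotaCover
  simp only
  split_ifs with ht
  · rw [Fin.le_def]
    simp only
    by_contra hcon
    have hlast : (θ.1 t).val = t.val := by have := hge t; omega
    apply h
    apply Subtype.ext
    funext s
    apply Fin.ext
    show (θ.1 s).val = s.val
    have hs := s.isLt
    have h1 := strictMono_add_le θ.1 θ.2 (t.val - s.val) s t (by omega)
    have h2 := hge s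
    omega
  · rw [Fin.le_def]
    exact hge t

theorem not_iotaCover_le_iota (hd : 0 < d) (hdn : d < n) : ¬ iotaCover hdn ≤ iotaIdx hdn := by
  intro h
  have := h ⟨d - 1, by omega⟩
  unfold iotaCover iotaIdx at this
  simp only at this
  rw [if_pos (by omega), Fin.le_def] at this
  simp only at this
  omega

variable (K : Type*) [Field K]

/-- the two-sided shape between `v` and `w` -/
def Between (v w : Idx d n) : Fin n → Fin d → Prop := fun r t => v.1 t ≤ r ∧ r ≤ w.1 t

instance (v w : Idx d n) (r : Fin n) (t : Fin d) : Decidable (Between v w r t) := by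
  unfold Between; infer_instance

theorem inShape_between (v w θ : Idx d n) : InShape (Between v w) θ ↔ v ≤ θ ∧ θ ≤ w := by
  unfold InShape Between
  constructor
  · intro h; exact ⟨fun t => (h t).1, fun t => (h t).2⟩
  · intro h t; exact ⟨h.1 t, h.2 t⟩

theorem ker_evS_between [Infinite K] (hd : 0 < d) (hdn : d < n) (w : Idx d n) :
    schubertVanishing K d n w ⊔ Ideal.span {(X (iotaIdx hdn) : PlRing K d n)} =
      RingHom.ker (evS K (Between (iotaCover hdn) w)).toRingHom := by
  classical
  set S := Between (iotaCover hdn) w with hS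
  have hup : ∀ r t, S r t → r ≤ w.1 t := fun r t h => h.2
  have hlow : ∀ r t, S r t → (iotaCover hdn).1 t ≤ r := fun r t h => h.1
  have hXι : evS K S (X (iotaIdx hdn)) = 0 :=
    evS_X_of_lower K S (iotaCover hdn) hlow _ (not_iotaCover_le_iota hd hdn)
  have hle1 : schubertVanishing K d n w ⊔ Ideal.span {(X (iotaIdx hdn) : PlRing K d n)} ≤
      RingHom.ker (evS K S).toRingHom := by
    apply sup_le
    · intro F hF
      rw [RingHom.mem_ker]
      exact evS_eq_zero_of_mem_schubert K S w hup F hF
    · rw [Ideal.span_le]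
      intro f hf
      rw [Set.mem_singleton_iff] at hf
      subst hf
      rw [SetLike.mem_coe, RingHom.mem_ker]
      exact hXι
  apply le_antisymm hle1
  intro F hF
  rw [RingHom.mem_ker] at hF
  replace hF : evS K S F = 0 := hF
  set I := plIdeal K w ⊔ Ideal.span {(X (iotaIdx hdn) : PlRing K d n)} with hI
  have hIle : I ≤ schubertVanishing K d n w ⊔ Ideal.span {(X (iotaIdx hdn) : PlRing K d n)} :=
    sup_le_sup_right (plIdeal_le_schubert K w) _
  obtain ⟨s, a, hs, hFs⟩ := straighten K I
    (le_trans (plIdealTop_le_plIdeal K w) le_sup_left)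
    (fun c => ∀ k, InShape S (c.2.1 k)) (by
      intro c hc
      push Not at hc
      obtain ⟨k, hk⟩ := hc
      rw [hS, inShape_between] at hk
      apply chainMon_mem_of_mem K _ c.2.1 k
      by_cases h1 : c.2.1 k ≤ w
      · have h2 : ¬ iotaCover hdn ≤ c.2.1 k := fun h2 => hk ⟨h2, h1⟩
        have h3 : c.2.1 k = iotaIdx hdn := by
          by_contra h3
          exact h2 (iotaCover_le_of_ne hdn _ h3)
        rw [h3]
        exact Ideal.mem_sup_right (Ideal.subset_span rfl)
      · exact Ideal.mem_sup_left (Ideal.subset_span (Or.inr ⟨c.2.1 k, h1, rfl⟩))) F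
  have hker : evS K S (F - ∑ c ∈ s, a c • chainMon K c.2.1) = 0 := by
    have := hle1 (hIle hFs)
    rwa [RingHom.mem_ker] at this
  rw [map_sub, hF, zero_sub, neg_eq_zero, map_sum] at hker
  simp only [map_smul] at hker
  have hz := core_indepS K S hd (fun c : AllChains d n => c.1) (fun c => c.2.1) (fun c => c.2.2)
    allChains_inj s a (fun c hc hnot => absurd (hs c hc) hnot) hker
  have hG0 : ∑ c ∈ s, a c • chainMon K c.2.1 = 0 := by
    apply Finset.sum_eq_zero
    intro c hc
    rw [hz c hc (hs c hc), zero_smul]
  rw [hG0, sub_zero] at hFs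
  exact hIle hFs

theorem X_iota_not_mem (hdn : d < n) (w : Idx d n) :
    (X (iotaIdx hdn) : PlRing K d n) ∉ schubertVanishing K d n w := by
  classical
  intro h
  -- evaluate at the matrix with ones at (t, t)
  rw [mem_schubert_iff] at h
  let A : Matrix (Fin n) (Fin d) K := Matrix.of fun r t => if r.val = t.val then 1 else 0
  have hA : ∀ φ : Idx d n, ¬ φ ≤ w → (A.submatrix φ.1 id).det = 0 := by
    intro φ hφ
    have hne : φ ≠ iotaIdx hdn := by
      rintro rfl
      exact hφ (iota_le hdn w)
    -- the last row of the submatrix vanishes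
    have hd : 0 < d := by
      by_contra h0
      have h0' : d = 0 := by omega
      subst h0'
      apply hne
      apply Subtype.ext
      funext t
      exact t.elim0
    have hcov := iotaCover_le_of_ne hdn φ hne ⟨d - 1, by omega⟩
    unfold iotaCover at hcov
    simp only at hcov
    rw [if_pos (by omega), Fin.le_def] at hcov
    simp only at hcov
    apply Matrix.det_eq_zero_of_row_eq_zero (⟨d - 1, by omega⟩ : Fin d)
    intro t
    simp only [Matrix.submatrix_apply, id, A, Matrix.of_apply]
    rw [if_neg]
    have := t.isLt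
    omega
  have h1 := h A hA
  unfold evalMinors at h1
  rw [aeval_X] at h1
  have h2 : A.submatrix (iotaIdx hdn).1 id = 1 := by
    ext s t
    simp only [Matrix.submatrix_apply, id, A, Matrix.of_apply, iotaIdx, Matrix.one_apply]
    by_cases hst : s = t
    · rw [if_pos (by rw [hst]), if_pos hst]
    · rw [if_neg (fun h => hst (Fin.ext h)), if_neg hst]
  rw [h2, Matrix.det_one] at h1
  exact one_ne_zero h1

/-- the least Plücker coordinate is a prime element of `S/J(w)`. -/
theorem prime_X_iota [Infinite K] (hd : 0 < d) (hdn : d < n) (w : Idx d n) :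
    Prime (Ideal.Quotient.mk (schubertVanishing K d n w) (X (iotaIdx hdn))) := by
  set J := schubertVanishing K d n w with hJ
  have hne : Ideal.Quotient.mk J (X (iotaIdx hdn)) ≠ 0 := by
    rw [Ne, Ideal.Quotient.eq_zero_iff_mem]
    exact X_iota_not_mem K hdn w
  rw [← Ideal.span_singleton_prime hne]
  have hprime : (J ⊔ Ideal.span {(X (iotaIdx hdn) : PlRing K d n)}).IsPrime := by
    rw [hJ, ker_evS_between K hd hdn w]
    exact RingHom.ker_isPrime _
  have hmap : Ideal.map (Ideal.Quotient.mk J) (J ⊔ Ideal.span {(X (iotaIdx hdn) : PlRing K d n)}) =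
      Ideal.span {Ideal.Quotient.mk J (X (iotaIdx hdn))} := by
    rw [Ideal.map_sup, Ideal.map_quotient_self, bot_sup_eq, Ideal.map_span, Set.image_singleton]
  rw [← hmap]
  haveI := hprime
  apply Ideal.map_isPrime_of_surjective Ideal.Quotient.mk_surjective
  rw [Ideal.mk_ker]
  exact le_sup_left

end Groth.Agent.Lib.Helper25.Grass
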