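import Mathlib
import Groth.Prelude.Def_W4bk4grassmannianPl
import Groth.Agent.Lib.Helper25GrassPrime

/-!
# Combinatorics of the dictionary between minors of an `r × d` matrix and `I(d, d + r)` (helper25)

`θ(M) = B^c ∪ (d + rev A)` for the minor `M = [A | B]`.
-/

noncomputable section

open W4bk4grassmannian

namespace Groth.Agent.Lib.Helper25.Bitab

open Groth.Agent.Lib.Helper25.Grass

/-- counting function of a tuple: the number of entries `< k` -/
def cnt {p N : ℕ} (a : Fin p → Fin N) (k : ℕ) : ℕ :=
  (Finset.univ.filter fun t : Fin p => (a t).val < k).card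

theorem cnt_le {p N : ℕ} (a : Fin p → Fin N) (k : ℕ) : cnt a k ≤ p := by
  unfold cnt
  have := Finset.card_le_univ (Finset.univ.filter fun t : Fin p => (a t).val < k)
  rwa [Fintype.card_fin] at this

theorem cnt_of_le {p N : ℕ} (a : Fin p → Fin N) (k : ℕ) (h : N ≤ k) : cnt a k = p := by
  unfold cnt
  rw [Finset.filter_true_of_mem, Finset.card_univ, Fintype.card_fin]
  intro t _
  have := (a t).isLt
  omega

theorem cnt_mono {p N : ℕ} (a : Fin p → Fin N) {k k' : ℕ} (h : k ≤ k') : cnt a k ≤ cnt a k' := by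
  unfold cnt
  apply Finset.card_le_card
  intro t ht
  rw [Finset.mem_filter] at ht ⊢
  exact ⟨ht.1, lt_of_lt_of_le ht.2 h⟩

theorem lt_iff_lt_cnt {p N : ℕ} (a : Fin p → Fin N) (ha : StrictMono a) (j : Fin p) (k : ℕ) :
    (a j).val < k ↔ j.val < cnt a k := by
  unfold cnt
  rw [← lowerSet_mem_iff]
  · simp only [Finset.mem_filter, Finset.mem_univ, true_and]
  · intro t ht t' htt'
    simp only [Finset.mem_filter, Finset.mem_univ, true_and] at ht ⊢
    have : a t' ≤ a t := ha.monotone htt'
    exact lt_of_le_of_lt (Fin.le_def.mp this) ht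

/-- `cnt a k ≤ k` for strictly increasing tuples. -/
theorem cnt_le_self {p N : ℕ} (a : Fin p → Fin N) (ha : StrictMono a) (k : ℕ) : cnt a k ≤ k := by
  by_contra h
  push Not at h
  have hp := cnt_le a k
  have h1 := (lt_iff_lt_cnt a ha ⟨k, by omega⟩ k).mpr h
  have h2 := Groth.Agent.Lib.Helper24Grass.val_le_of_strictMono a ha ⟨k, by omega⟩
  simp only at h2
  omega

/-- the padded entrywise order in terms of counting functions -/
theorem le_iff_cnt {p p' N : ℕ} (a : Fin p → Fin N) (a' : Fin p' → Fin N) (ha : StrictMono a)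
    (ha' : StrictMono a') :
    (p ≤ p' ∧ ∀ (j : Fin p) (j' : Fin p'), j.val = j'.val → a' j' ≤ a j) ↔
      ∀ k, cnt a k ≤ cnt a' k := by
  constructor
  · rintro ⟨hpp, h⟩ k
    by_contra hcon
    push Not at hcon
    have h1 := cnt_le a k
    have hj := (lt_iff_lt_cnt a ha ⟨cnt a' k, by omega⟩ k).mpr hcon
    have hj' := h ⟨cnt a' k, by omega⟩ ⟨cnt a' k, by omega⟩ rfl
    have h2 : (a' ⟨cnt a' k, by omega⟩).val < k := lt_of_le_of_lt (Fin.le_def.mp hj') hj
    have h3 := (lt_iff_lt_cnt a' ha' ⟨cnt a' k, by omega⟩ k).mp h2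
    simp only at h3
    omega
  · intro h
    have hpp : p ≤ p' := by
      have := h N
      rwa [cnt_of_le a N le_rfl, cnt_of_le a' N le_rfl] at this
    refine ⟨hpp, ?_⟩
    intro j j' hjj'
    have h1 := (lt_iff_lt_cnt a ha j ((a j).val + 1)).mp (Nat.lt_succ_self _)
    have h2 := h ((a j).val + 1)
    have h3 := (lt_iff_lt_cnt a' ha' j' ((a j).val + 1)).mpr (by omega)
    rw [Fin.le_def]
    omega

theorem idx_le_iff_cnt {d N : ℕ} (θ θ' : Idx d N) :
    θ ≤ θ' ↔ ∀ k, cnt θ'.1 k ≤ cnt θ.1 k := by
  rw [← le_iff_cnt θ'.1 θ.1 θ'.2 θ.2]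
  constructor
  · intro h
    refine ⟨le_rfl, ?_⟩
    intro j j' hjj'
    have : j = j' := Fin.ext hjj'
    rw [this]
    exact h j'
  · rintro ⟨_, h⟩ t
    exact h t t rfl

theorem minorGE_iff_cnt {r d : ℕ} (M M' : MinorIdx r d) :
    MinorGE M M' ↔ (∀ k, cnt M.2.1.1 k ≤ cnt M'.2.1.1 k) ∧ (∀ k, cnt M.2.2.1 k ≤ cnt M'.2.2.1 k) := by
  rw [← le_iff_cnt M.2.1.1 M'.2.1.1 M.2.1.2 M'.2.1.2, ← le_iff_cnt M.2.2.1 M'.2.2.1 M.2.2.2 M'.2.2.2]
  unfold MinorGE
  constructor
  · rintro ⟨h1, h2⟩
    exact ⟨⟨by omega, fun j j' h => (h2 j j' h).1⟩, ⟨by omega, fun j j' h => (h2 j j' h).2⟩⟩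
  · rintro ⟨⟨h1, h2⟩, ⟨_, h3⟩⟩
    exact ⟨by omega, fun j j' h => ⟨h2 j j' h, h3 j j' h⟩⟩

/-! ### the set `θ(M)` -/

theorem cnt_eq_card_filter_image {p N : ℕ} (a : Fin p → Fin N) (ha : Function.Injective a) (k : ℕ) :
    cnt a k = ((Finset.univ.image a).filter fun x => x.val < k).card := by
  classical
  unfold cnt
  rw [Finset.filter_image, Finset.card_image_of_injective _ ha]

theorem card_filter_val_lt (n k : ℕ) :
    (Finset.univ.filter fun c : Fin n => c.val < k).card = min k n := by
  by_cases h : k < n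
  · have : (Finset.univ.filter fun c : Fin n => c.val < k) = Finset.Iio (⟨k, h⟩ : Fin n) := by
      ext c
      simp only [Finset.mem_filter, Finset.mem_univ, true_and, Finset.mem_Iio, Fin.lt_def]
    rw [this, Fin.card_Iio]
    simp only
    omega
  · rw [Finset.filter_true_of_mem, Finset.card_univ, Fintype.card_fin]
    · omega
    · intro c _
      have := c.isLt
      omega

/-- entries of the complement of a strictly increasing tuple below `k` -/
theorem card_compl_filter {p n : ℕ} (b : Fin p → Fin n) (hb : Function.Injective b) (k : ℕ) :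
    (((Finset.univ.image b)ᶜ).filter fun c => c.val < k).card + cnt b k = min k n := by
  classical
  rw [cnt_eq_card_filter_image b hb, ← card_filter_val_lt n k]
  have h := Finset.card_filter_add_card_filter_not (s := Finset.univ.filter fun c : Fin n => c.val < k)
    (fun c => c ∈ (Finset.univ.image b)ᶜ)
  rw [← h]
  congr 1
  · congr 1
    ext c
    simp only [Finset.mem_filter, Finset.mem_univ, true_and, Finset.mem_compl]
    tauto
  · congr 1
    ext c
    simp only [Finset.mem_filter, Finset.mem_univ, true_and, Finset.mem_compl, not_not]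
    tauto

variable {r d : ℕ}

/-- the left embedding `c ↦ c` of the columns -/
def embL (r : ℕ) {d : ℕ} : Fin d ↪ Fin (d + r) := Fin.castAddEmb r

/-- the right embedding `a ↦ d + (r - 1 - a)` of the (reversed) rows -/
def embR (d : ℕ) {r : ℕ} : Fin r ↪ Fin (d + r) :=
  ⟨fun a => Fin.natAdd d (Fin.rev a), fun a b h => by
    have := Fin.natAdd_injective r d h
    exact Fin.rev_injective this⟩

theorem embL_val (c : Fin d) : (embL r c).val = c.val := rfl

theorem embR_val (a : Fin r) : (embR d a).val = d + (r - 1 - a.val) := by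
  show d + (Fin.rev a).val = _
  rw [Fin.val_rev]
  omega

theorem size_le (M : MinorIdx r d) : M.1 + 1 ≤ d := by
  have := Fintype.card_le_of_injective M.2.2.1 M.2.2.2.injective
  simpa using this

theorem size_le' (M : MinorIdx r d) : M.1 + 1 ≤ r := by
  have := Fintype.card_le_of_injective M.2.1.1 M.2.1.2.injective
  simpa using this

/-- `θ(M) = B^c ∪ (d + rev A)` as a finset -/
def thetaSet (M : MinorIdx r d) : Finset (Fin (d + r)) :=
  ((Finset.univ.image M.2.2.1)ᶜ).map (embL r) ∪ (Finset.univ.image M.2.1.1).map (embR d)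

theorem thetaSet_disjoint (M : MinorIdx r d) :
    Disjoint (((Finset.univ.image M.2.2.1)ᶜ).map (embL r)) ((Finset.univ.image M.2.1.1).map (embR d)) := by
  rw [Finset.disjoint_left]
  intro x hx hx'
  rw [Finset.mem_map] at hx hx'
  obtain ⟨c, _, rfl⟩ := hx
  obtain ⟨a, _, h⟩ := hx'
  have h1 := congrArg Fin.val h
  rw [embR_val, embL_val] at h1
  have := c.isLt
  omega

theorem card_thetaSet (M : MinorIdx r d) : (thetaSet M).card = d := by
  classical
  unfold thetaSet
  rw [Finset.card_union_of_disjoint (thetaSet_disjoint M), Finset.card_map, Finset.card_map,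
    Finset.card_compl, Finset.card_image_of_injective _ M.2.2.2.injective,
    Finset.card_image_of_injective _ M.2.1.2.injective, Finset.card_univ, Fintype.card_fin,
    Fintype.card_fin]
  have := size_le M
  omega

/-- the index `θ(M)` -/
def thetaOf (M : MinorIdx r d) : Idx d (d + r) :=
  ⟨(thetaSet M).orderEmbOfFin (card_thetaSet M), ((thetaSet M).orderEmbOfFin (card_thetaSet M)).strictMono⟩

theorem image_thetaOf (M : MinorIdx r d) : Finset.univ.image (thetaOf M).1 = thetaSet M :=
  Finset.image_orderEmbOfFin_univ _ _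

theorem cnt_thetaOf (M : MinorIdx r d) (k : ℕ) :
    cnt (thetaOf M).1 k =
      (((Finset.univ.image M.2.2.1)ᶜ).filter fun c => c.val < k).card +
        ((Finset.univ.image M.2.1.1).filter fun a => d + (r - 1 - a.val) < k).card := by
  classical
  rw [cnt_eq_card_filter_image _ (thetaOf M).2.injective, image_thetaOf]
  unfold thetaSet
  rw [Finset.filter_union, Finset.card_union_of_disjoint]
  · congr 1
    · rw [Finset.filter_map, Finset.card_map]
      rfl
    · rw [Finset.filter_map, Finset.card_map]
      congr 1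
      apply Finset.filter_congr
      intro a _
      simp only [Function.comp, embR_val]
  · exact Finset.disjoint_filter_filter (thetaSet_disjoint M)

theorem cnt_thetaOf_low (M : MinorIdx r d) (k : ℕ) (hk : k ≤ d) :
    cnt (thetaOf M).1 k + cnt M.2.2.1 k = k := by
  classical
  rw [cnt_thetaOf]
  have h2 : ((Finset.univ.image M.2.1.1).filter fun a => d + (r - 1 - a.val) < k) = ∅ := by
    apply Finset.filter_false_of_mem
    intro a _
    omega
  rw [h2, Finset.card_empty, add_zero, card_compl_filter _ M.2.2.2.injective]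
  omega

theorem cnt_thetaOf_high (M : MinorIdx r d) (l : ℕ) (hl : l ≤ r) :
    cnt (thetaOf M).1 (d + l) + cnt M.2.1.1 (r - l) = d := by
  classical
  rw [cnt_thetaOf]
  have h1 : (((Finset.univ.image M.2.2.1)ᶜ).filter fun c => c.val < d + l) =
      (Finset.univ.image M.2.2.1)ᶜ := by
    apply Finset.filter_true_of_mem
    intro c _
    have := c.isLt
    omega
  rw [h1, Finset.card_compl, Finset.card_image_of_injective _ M.2.2.2.injective, Finset.card_univ,
    Fintype.card_fin, Fintype.card_fin]
  have h3 := Finset.card_filter_add_card_filter_not (s := Finset.univ.image M.2.1.1)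
    (fun a => a.val < r - l)
  rw [Finset.card_image_of_injective _ M.2.1.2.injective, Finset.card_univ, Fintype.card_fin] at h3
  rw [cnt_eq_card_filter_image _ M.2.1.2.injective]
  have h4 : ((Finset.univ.image M.2.1.1).filter fun a => d + (r - 1 - a.val) < d + l) =
      (Finset.univ.image M.2.1.1).filter (fun a => ¬ a.val < r - l) := by
    apply Finset.filter_congr
    intro a _
    have := a.isLt
    omega
  rw [h4]
  have := size_le M
  omega

/-- the dictionary reverses the order of minors -/
theorem thetaOf_le_iff (M M' : MinorIdx r d) : thetaOf M ≤ thetaOf M' ↔ MinorGE M M' := by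
  rw [idx_le_iff_cnt, minorGE_iff_cnt]
  constructor
  · intro h
    constructor
    · intro k
      by_cases hk : k ≤ r
      · have h1 := cnt_thetaOf_high M (r - k) (by omega)
        have h2 := cnt_thetaOf_high M' (r - k) (by omega)
        have h3 := h (d + (r - k))
        have e : r - (r - k) = k := by omega
        rw [e] at h1 h2
        omega
      · have h1 := cnt_thetaOf_high M 0 (by omega)
        have h2 := cnt_thetaOf_high M' 0 (by omega)
        have h3 := h (d + 0)
        rw [Nat.sub_zero] at h1 h2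
        rw [cnt_of_le _ k (by omega), cnt_of_le _ k (by omega)]
        rw [cnt_of_le _ r le_rfl] at h1 h2
        omega
    · intro k
      by_cases hk : k ≤ d
      · have h1 := cnt_thetaOf_low M k hk
        have h2 := cnt_thetaOf_low M' k hk
        have h3 := h k
        omega
      · have h1 := cnt_thetaOf_low M d le_rfl
        have h2 := cnt_thetaOf_low M' d le_rfl
        have h3 := h d
        rw [cnt_of_le _ k (by omega), cnt_of_le _ k (by omega)]
        rw [cnt_of_le _ d le_rfl] at h1 h2
        omega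
  · rintro ⟨hA, hB⟩ k
    by_cases hk : k ≤ d
    · have h1 := cnt_thetaOf_low M k hk
      have h2 := cnt_thetaOf_low M' k hk
      have h3 := hB k
      omega
    · by_cases hk' : k ≤ d + r
      · have h1 := cnt_thetaOf_high M (k - d) (by omega)
        have h2 := cnt_thetaOf_high M' (k - d) (by omega)
        have h3 := hA (r - (k - d))
        have e : d + (k - d) = k := by omega
        rw [e] at h1 h2
        omega
      · rw [cnt_of_le _ k (by omega), cnt_of_le _ k (by omega)]

theorem minorGE_antisymm (M M' : MinorIdx r d) (h : MinorGE M M') (h' : MinorGE M' M) : M = M' := by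
  obtain ⟨s, A, B⟩ := M
  obtain ⟨s', A', B'⟩ := M'
  have hs : s = s' := le_antisymm h.1 h'.1
  subst hs
  have hA : A = A' := by
    apply Subtype.ext
    funext j
    exact le_antisymm (h'.2 j j rfl).1 (h.2 j j rfl).1
  have hB : B = B' := by
    apply Subtype.ext
    funext j
    exact le_antisymm (h'.2 j j rfl).2 (h.2 j j rfl).2
  rw [hA, hB]

theorem minorGE_refl (M : MinorIdx r d) : MinorGE M M := by
  refine ⟨le_rfl, ?_⟩
  intro j j' h
  have : j = j' := Fin.ext h
  rw [this]
  exact ⟨le_rfl, le_rfl⟩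

theorem thetaOf_injective : Function.Injective (thetaOf (r := r) (d := d)) := by
  intro M M' h
  apply minorGE_antisymm
  · rw [← thetaOf_le_iff, h]
  · rw [← thetaOf_le_iff, h]

/-- the number of entries `≥ d` of `θ(M)` is the size of `M` -/
theorem cnt_thetaOf_d (M : MinorIdx r d) : cnt (thetaOf M).1 d + (M.1 + 1) = d := by
  have h1 := cnt_thetaOf_low M d le_rfl
  rw [cnt_of_le _ d le_rfl] at h1
  exact h1

theorem thetaOf_ne_iota (hr : 0 < r) (M : MinorIdx r d) :
    thetaOf M ≠ iotaIdx (Nat.lt_add_of_pos_right hr) := by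
  intro h
  have h1 := cnt_thetaOf_d M
  rw [h] at h1
  have h2 : cnt (iotaIdx (Nat.lt_add_of_pos_right hr : d < d + r)).1 d = d := by
    unfold cnt
    rw [Finset.filter_true_of_mem, Finset.card_univ, Fintype.card_fin]
    intro t _
    exact t.isLt
  omega

theorem exists_embL_or_embR (x : Fin (d + r)) :
    (∃ c : Fin d, embL r c = x) ∨ (∃ a : Fin r, embR d a = x) := by
  by_cases h : x.val < d
  · left
    exact ⟨⟨x.val, h⟩, Fin.ext rfl⟩
  · right
    have hx := x.isLt
    refine ⟨⟨r - 1 - (x.val - d), by omega⟩, ?_⟩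
    apply Fin.ext
    rw [embR_val]
    simp only
    omega

/-- every index with an entry `≥ d` comes from a minor -/
theorem exists_thetaOf_eq (θ : Idx d (d + r)) (h : cnt θ.1 d < d) : ∃ M : MinorIdx r d, thetaOf M = θ := by
  classical
  set Θ := Finset.univ.image θ.1 with hΘ
  set Cset := Finset.univ.filter (fun c : Fin d => embL r c ∈ Θ) with hC
  set Aset := Finset.univ.filter (fun a : Fin r => embR d a ∈ Θ) with hA
  have hdisj : Disjoint (Cset.map (embL r)) (Aset.map (embR d)) := by
    rw [Finset.disjoint_left]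
    intro x hx hx'
    rw [Finset.mem_map] at hx hx'
    obtain ⟨c, _, rfl⟩ := hx
    obtain ⟨a, _, h⟩ := hx'
    have h1 := congrArg Fin.val h
    rw [embR_val, embL_val] at h1
    have := c.isLt
    omega
  have hunion : Cset.map (embL r) ∪ Aset.map (embR d) = Θ := by
    ext x
    rw [Finset.mem_union, Finset.mem_map, Finset.mem_map]
    constructor
    · rintro (⟨c, hc, rfl⟩ | ⟨a, ha, rfl⟩)
      · rw [hC, Finset.mem_filter] at hc
        exact hc.2
      · rw [hA, Finset.mem_filter] at ha
        exact ha.2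
    · intro hx
      rcases exists_embL_or_embR x with ⟨c, rfl⟩ | ⟨a, rfl⟩
      · left
        exact ⟨c, by rw [hC, Finset.mem_filter]; exact ⟨Finset.mem_univ _, hx⟩, rfl⟩
      · right
        exact ⟨a, by rw [hA, Finset.mem_filter]; exact ⟨Finset.mem_univ _, hx⟩, rfl⟩
  have hcardΘ : Θ.card = d := by
    rw [hΘ, Finset.card_image_of_injective _ θ.2.injective, Finset.card_univ, Fintype.card_fin]
  have hsum : Cset.card + Aset.card = d := by
    have h1 := Finset.card_union_of_disjoint hdisj
    rw [hunion, hcardΘ, Finset.card_map, Finset.card_map] at h1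
    exact h1.symm
  have hcntC : cnt θ.1 d = Cset.card := by
    rw [cnt_eq_card_filter_image _ θ.2.injective, ← hΘ, ← hunion, Finset.filter_union,
      Finset.card_union_of_disjoint (Finset.disjoint_filter_filter hdisj)]
    have e1 : ((Cset.map (embL r)).filter fun x => x.val < d) = Cset.map (embL r) := by
      apply Finset.filter_true_of_mem
      intro x hx
      rw [Finset.mem_map] at hx
      obtain ⟨c, _, rfl⟩ := hx
      rw [embL_val]
      exact c.isLt
    have e2 : ((Aset.map (embR d)).filter fun x => x.val < d) = ∅ := by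
      apply Finset.filter_false_of_mem
      intro x hx
      rw [Finset.mem_map] at hx
      obtain ⟨a, _, rfl⟩ := hx
      rw [embR_val]
      omega
    rw [e1, e2, Finset.card_empty, add_zero, Finset.card_map]
  obtain ⟨s, hs⟩ : ∃ s, Aset.card = s + 1 := ⟨Aset.card - 1, by omega⟩
  have hB : (Csetᶜ).card = s + 1 := by
    rw [Finset.card_compl, Fintype.card_fin]
    omega
  let A : Idx (s + 1) r := ⟨Aset.orderEmbOfFin hs, (Aset.orderEmbOfFin hs).strictMono⟩
  let B : Idx (s + 1) d := ⟨(Csetᶜ).orderEmbOfFin hB, ((Csetᶜ).orderEmbOfFin hB).strictMono⟩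
  refine ⟨⟨s, A, B⟩, ?_⟩
  have hset : thetaSet (⟨s, A, B⟩ : MinorIdx r d) = Θ := by
    unfold thetaSet
    have e1 : Finset.univ.image (B.1) = Csetᶜ := Finset.image_orderEmbOfFin_univ _ _
    have e2 : Finset.univ.image (A.1) = Aset := Finset.image_orderEmbOfFin_univ _ _
    show ((Finset.univ.image B.1)ᶜ).map (embL r) ∪ (Finset.univ.image A.1).map (embR d) = Θ
    rw [e1, e2, compl_compl, hunion]
  apply Subtype.ext
  symm
  show θ.1 = _
  apply Finset.orderEmbOfFin_unique
  · intro x
    rw [hset, hΘ]
    exact Finset.mem_image_of_mem _ (Finset.mem_univ x)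
  · exact θ.2

/-- the index `τ_t = (t - 1, …, d - 1, d + r - t + 1, …, d + r - 1)` of the determinantal variety
of matrices of rank `< t` -/
def tauT (d r t : ℕ) (ht : t ≤ r + 1) : Idx d (d + r) :=
  ⟨fun j => if h : j.val + t ≤ d then ⟨j.val + (t - 1), by omega⟩ else ⟨r + j.val, by have := j.isLt; omega⟩, by
    intro j j' hjj'
    have h1 : j.val < j'.val := hjj'
    rw [Fin.lt_def]
    dsimp only
    split_ifs with h2 h3 h3
    · simp only; omega
    · simp only; omega
    · simp only; omega
    · simp only; omega⟩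

theorem le_tauT_iff (t : ℕ) (ht1 : 1 ≤ t) (ht : t ≤ r + 1) (θ : Idx d (d + r)) :
    θ ≤ tauT d r t ht ↔ d ≤ cnt θ.1 d + (t - 1) := by
  constructor
  · intro h
    by_cases htd : t ≤ d
    · have h1 := h ⟨d - t, by omega⟩
      have h2 : (θ.1 ⟨d - t, by omega⟩).val ≤ ((tauT d r t ht).1 ⟨d - t, by omega⟩).val := Fin.le_def.mp h1
      unfold tauT at h2
      simp only at h2
      rw [dif_pos (by omega)] at h2
      simp only at h2
      have h3 := (lt_iff_lt_cnt θ.1 θ.2 ⟨d - t, by omega⟩ d).mp (by omega)
      simp only at h3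
      omega
    · omega
  · intro h j
    show θ.1 j ≤ (tauT d r t ht).1 j
    rw [Fin.le_def]
    unfold tauT
    simp only
    have hj := j.isLt
    split_ifs with h1
    · simp only
      have hc := cnt_le θ.1 d
      have h2 := (lt_iff_lt_cnt θ.1 θ.2 ⟨cnt θ.1 d - 1, by omega⟩ d).mpr (by simp only; omega)
      have h3 := strictMono_add_le θ.1 θ.2 (cnt θ.1 d - 1 - j.val) j ⟨cnt θ.1 d - 1, by omega⟩
        (by simp only; omega)
      omega
    · simp only
      have h3 := strictMono_add_le θ.1 θ.2 (d - 1 - j.val) j ⟨d - 1, by omega⟩ (by simp only; omega)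
      have h4 := (θ.1 ⟨d - 1, by omega⟩).isLt
      omega

theorem thetaOf_le_tauT_iff (t : ℕ) (ht1 : 1 ≤ t) (ht : t ≤ r + 1) (M : MinorIdx r d) :
    thetaOf M ≤ tauT d r t ht ↔ M.1 + 1 ≤ t - 1 := by
  rw [le_tauT_iff t ht1 ht]
  have := cnt_thetaOf_d M
  omega

/-- an index different from the least one has an entry `≥ d` -/
theorem cnt_lt_of_ne_iota (hr : 0 < r) (θ : Idx d (d + r))
    (h : θ ≠ iotaIdx (Nat.lt_add_of_pos_right hr)) : cnt θ.1 d < d := by
  by_contra hcon
  have hc := cnt_le θ.1 d
  have hc' : cnt θ.1 d = d := by omega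
  apply h
  apply Subtype.ext
  funext j
  apply Fin.ext
  show (θ.1 j).val = j.val
  have h1 := Groth.Agent.Lib.Helper24Grass.val_le_of_strictMono θ.1 θ.2 j
  have hj := j.isLt
  have h2 := (lt_iff_lt_cnt θ.1 θ.2 ⟨d - 1, by omega⟩ d).mpr (by simp only; omega)
  have h3 := strictMono_add_le θ.1 θ.2 (d - 1 - j.val) j ⟨d - 1, by omega⟩ (by simp only; omega)
  omega

end Groth.Agent.Lib.Helper25.Bitab
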