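import Mathlib
import Groth.Prelude.Def_W4bk4grassmannianPl
import Groth.Prelude.Def_CAlgX
import Groth.Agent.Lib.Helper14CellMinor
import Groth.Agent.Lib.Helper25BitabComb

/-!
# The cell matrix `[I ; X^rev]` and its minors (helper25)

`zMinor θ(M) = ± [A | B]`.
-/

noncomputable section

open MvPolynomial W4bk4grassmannian

namespace Groth.Agent.Lib.Helper25.Bitab

open Groth.Agent.Lib.Helper25.Grass

variable (K : Type*) [CommRing K] (d r : ℕ)

/-- the `(d + r) × d` matrix `[I_d ; X^rev]`: identity block on top of the generic `r × d` matrix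
with its rows in reverse order -/
def zMat : Matrix (Fin (d + r)) (Fin d) (MvPolynomial (Fin r × Fin d) K) :=
  Matrix.of fun i j => if h : i.val < d then (if i.val = j.val then 1 else 0)
    else X (⟨r - 1 - (i.val - d), by have := i.isLt; omega⟩, j)

variable {d r}

theorem zMat_embL (c : Fin d) (j : Fin d) :
    zMat K d r (embL r c) j = if c = j then 1 else 0 := by
  unfold zMat
  rw [Matrix.of_apply, dif_pos (by rw [embL_val]; exact c.isLt), embL_val]
  simp only [Fin.ext_iff]

theorem zMat_embR (a : Fin r) (j : Fin d) :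
    zMat K d r (embR d a) j = X (a, j) := by
  unfold zMat
  rw [Matrix.of_apply, dif_neg (by rw [embR_val]; omega)]
  congr 2
  apply Fin.ext
  simp only [embR_val]
  have := a.isLt
  omega

theorem zMat_of_lt (i : Fin (d + r)) (j : Fin d) (h : i.val < d) :
    zMat K d r i j = if i.val = j.val then 1 else 0 := by
  unfold zMat
  rw [Matrix.of_apply, dif_pos h]

/-- the minor of `[I ; X^rev]` on the rows `θ` -/
def zMinor (θ : Fin d → Fin (d + r)) : MvPolynomial (Fin r × Fin d) K :=
  ((zMat K d r).submatrix θ id).det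

theorem det_submatrix_equiv_pm {S : Type*} [CommRing S] {p : ℕ} {β : Type*} [Fintype β]
    [DecidableEq β] (Y : Matrix (Fin p) (Fin p) S) (σ σ' : β ≃ Fin p) :
    ∃ ε : ℤˣ, (Y.submatrix σ σ').det = ((ε : ℤ) : S) * Y.det := by
  have h2 : Y.submatrix σ σ' = (Y.submatrix id (σ.symm.trans σ')).submatrix σ σ := by
    ext i j; simp
  refine ⟨Equiv.Perm.sign (σ.symm.trans σ'), ?_⟩
  rw [h2, Matrix.det_submatrix_equiv_self, Matrix.det_permute']

theorem exists_equiv_of_factor {β γ : Type*} {p : ℕ} (f : β → γ) (hf : Function.Injective f)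
    (A : Fin p → γ) (hA : Function.Injective A) (h1 : ∀ b, ∃ i, A i = f b)
    (h2 : ∀ i, ∃ b, f b = A i) : ∃ σ : β ≃ Fin p, ∀ b, A (σ b) = f b := by
  choose σ₀ hσ₀ using h1
  have hinj : Function.Injective σ₀ := by
    intro b b' h
    apply hf
    rw [← hσ₀ b, ← hσ₀ b', h]
  have hsurj : Function.Surjective σ₀ := by
    intro i
    obtain ⟨b, hb⟩ := h2 i
    refine ⟨b, ?_⟩
    apply hA
    rw [hσ₀ b, hb]
  exact ⟨Equiv.ofBijective σ₀ ⟨hinj, hsurj⟩, fun b => hσ₀ b⟩

theorem mem_thetaSet_iff_range (M : MinorIdx r d) (x : Fin (d + r)) :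
    x ∈ thetaSet M ↔ ∃ t, (thetaOf M).1 t = x := by
  rw [← image_thetaOf M]
  simp only [Finset.mem_image, Finset.mem_univ, true_and]

theorem embL_mem_thetaSet (M : MinorIdx r d) (c : Fin d) :
    embL r c ∈ thetaSet M ↔ ∀ j, M.2.2.1 j ≠ c := by
  classical
  unfold thetaSet
  rw [Finset.mem_union, Finset.mem_map, Finset.mem_map]
  constructor
  · rintro (⟨c', hc', h⟩ | ⟨a, _, h⟩)
    · have : c' = c := (embL r).injective h
      subst this
      rw [Finset.mem_compl, Finset.mem_image] at hc'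
      intro j hj
      exact hc' ⟨j, Finset.mem_univ _, hj⟩
    · exfalso
      have h1 := congrArg Fin.val h
      rw [embR_val, embL_val] at h1
      have := c.isLt
      omega
  · intro h
    left
    refine ⟨c, ?_, rfl⟩
    rw [Finset.mem_compl, Finset.mem_image]
    rintro ⟨j, _, hj⟩
    exact h j hj

theorem embR_mem_thetaSet (M : MinorIdx r d) (a : Fin r) :
    embR d a ∈ thetaSet M ↔ ∃ i, M.2.1.1 i = a := by
  classical
  unfold thetaSet
  rw [Finset.mem_union, Finset.mem_map, Finset.mem_map]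
  constructor
  · rintro (⟨c, _, h⟩ | ⟨a', ha', h⟩)
    · exfalso
      have h1 := congrArg Fin.val h
      rw [embR_val, embL_val] at h1
      have := c.isLt
      omega
    · have : a' = a := (embR d).injective h
      subst this
      rw [Finset.mem_image] at ha'
      obtain ⟨i, _, hi⟩ := ha'
      exact ⟨i, hi⟩
  · rintro ⟨i, hi⟩
    right
    exact ⟨a, by rw [Finset.mem_image]; exact ⟨i, Finset.mem_univ _, hi⟩, rfl⟩

/-- the determinant identity: the Plücker coordinate `θ(M)` of `[I ; X^rev]` is `± [A | B]`. -/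
theorem zMinor_thetaOf (M : MinorIdx r d) :
    ∃ ε : ℤˣ, zMinor K (thetaOf M).1 =
      ((ε : ℤ) : MvPolynomial (Fin r × Fin d) K) * minorOf K M := by
  classical
  set θ := (thetaOf M).1 with hθ
  have hθinj : Function.Injective θ := (thetaOf M).2.injective
  set p : Fin d → Prop := fun i => (θ i).val < d with hp
  let π : {i // p i} → Fin d := fun i => ⟨(θ i.1).val, i.2⟩
  have hπ : Function.Injective π := by
    intro a b hab
    have : (θ a.1).val = (θ b.1).val := congrArg (fun x : Fin d => x.val) hab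
    exact Subtype.ext (hθinj (Fin.ext this))
  let e : {i // p i} ≃ {j // j ∈ Set.range π} := Equiv.ofInjective π hπ
  let τ : Equiv.Perm (Fin d) := e.extendSubtype
  have hτ : ∀ a : {i // p i}, τ a.1 = π a := fun a => by
    have := Equiv.extendSubtype_apply_of_mem e a.1 a.2
    simp only [τ, this]
    rfl
  have hτ' : ∀ t, ¬ p t → τ t ∉ Set.range π := fun t ht => Equiv.extendSubtype_not_mem e t ht
  let er : {i // p i} ⊕ {i // ¬ p i} ≃ Fin d := Equiv.sumCompl p
  let ec := er.trans τ
  set N := (zMat K d r).submatrix θ id with hN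
  have hkey : ∀ (a : {i // p i}) (x : {i // p i} ⊕ {i // ¬ p i}),
      N (er (Sum.inl a)) (ec x) = if x = Sum.inl a then 1 else 0 := by
    intro a x
    have h1 : N (er (Sum.inl a)) (ec x) = zMat K d r (θ a.1) (τ (er x)) := rfl
    rw [h1, zMat_of_lt K _ _ a.2]
    have h2 : ((θ a.1).val = (τ (er x)).val) ↔ x = Sum.inl a := by
      have h3 : (θ a.1).val = (τ a.1).val := by rw [hτ a]
      rw [h3, ← Fin.ext_iff, τ.apply_eq_iff_eq]
      have h4 : a.1 = er (Sum.inl a) := rfl
      rw [h4, er.apply_eq_iff_eq, eq_comm]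
    simp only [h2]
  obtain ⟨ε, hε⟩ := Groth.Agent.Lib.Helper14.CellMinor.det_eq_of_unit_rows N er ec hkey
  -- rows and columns of the complementary minor
  let f : {i // ¬ p i} → Fin r := fun b =>
    ⟨r - 1 - ((θ b.1).val - d), by have := (θ b.1).isLt; have := b.2; omega⟩
  let g : {i // ¬ p i} → Fin d := fun b => τ b.1
  have hfθ : ∀ b : {i // ¬ p i}, θ b.1 = embR d (f b) := by
    intro b
    apply Fin.ext
    rw [embR_val]
    have h1 := (θ b.1).isLt
    have h2 : ¬ (θ b.1).val < d := b.2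
    simp only [f]
    omega
  have hcomp : N.submatrix (er ∘ Sum.inr) (ec ∘ Sum.inr) = (genMatrix K r d).submatrix f g := by
    ext b b'
    have h1 : N.submatrix (er ∘ Sum.inr) (ec ∘ Sum.inr) b b' = zMat K d r (θ b.1) (τ b'.1) := rfl
    rw [h1, hfθ b, zMat_embR]
    rfl
  have hfinj : Function.Injective f := by
    intro b b' h
    apply Subtype.ext
    apply hθinj
    rw [hfθ b, hfθ b', h]
  have hginj : Function.Injective g := by
    intro b b' h
    exact Subtype.ext (τ.injective h)
  have hf1 : ∀ b, ∃ i, M.2.1.1 i = f b := by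
    intro b
    rw [← embR_mem_thetaSet, mem_thetaSet_iff_range]
    exact ⟨b.1, hfθ b⟩
  have hf2 : ∀ i, ∃ b, f b = M.2.1.1 i := by
    intro i
    have h1 : embR d (M.2.1.1 i) ∈ thetaSet M := (embR_mem_thetaSet M _).mpr ⟨i, rfl⟩
    rw [mem_thetaSet_iff_range] at h1
    obtain ⟨t, ht⟩ := h1
    replace ht : θ t = embR d (M.2.1.1 i) := ht
    have htp : ¬ p t := by
      simp only [hp]
      rw [ht, embR_val]
      omega
    refine ⟨⟨t, htp⟩, ?_⟩
    apply (embR d).injective
    rw [← hfθ ⟨t, htp⟩]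
    exact ht
  have hrange : ∀ c : Fin d, c ∈ Set.range π ↔ embL r c ∈ thetaSet M := by
    intro c
    rw [mem_thetaSet_iff_range]
    constructor
    · rintro ⟨a, ha⟩
      refine ⟨a.1, ?_⟩
      apply Fin.ext
      rw [embL_val, ← ha]
    · rintro ⟨t, ht⟩
      replace ht : θ t = embL r c := ht
      have htp : p t := by
        simp only [hp]
        rw [ht, embL_val]
        exact c.isLt
      refine ⟨⟨t, htp⟩, ?_⟩
      apply Fin.ext
      show (θ t).val = c.val
      rw [ht, embL_val]
  have hg1 : ∀ b, ∃ j, M.2.2.1 j = g b := by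
    intro b
    by_contra hcon
    push Not at hcon
    have h1 : embL r (g b) ∈ thetaSet M := (embL_mem_thetaSet M _).mpr hcon
    rw [← hrange] at h1
    exact hτ' b.1 b.2 h1
  have hg2 : ∀ j, ∃ b, g b = M.2.2.1 j := by
    intro j
    obtain ⟨t, ht⟩ := τ.surjective (M.2.2.1 j)
    have htp : ¬ p t := by
      intro htp
      have h1 : M.2.2.1 j ∈ Set.range π := ⟨⟨t, htp⟩, by rw [← hτ ⟨t, htp⟩]; exact ht⟩
      rw [hrange, embL_mem_thetaSet] at h1
      exact h1 j rfl
    exact ⟨⟨t, htp⟩, ht⟩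
  obtain ⟨σ, hσ⟩ := exists_equiv_of_factor f hfinj M.2.1.1 M.2.1.2.injective hf1 hf2
  obtain ⟨σ', hσ'⟩ := exists_equiv_of_factor g hginj M.2.2.1 M.2.2.2.injective hg1 hg2
  have hsub : (genMatrix K r d).submatrix f g =
      ((genMatrix K r d).submatrix M.2.1.1 M.2.2.1).submatrix σ σ' := by
    ext b b'
    rw [Matrix.submatrix_apply, Matrix.submatrix_apply, Matrix.submatrix_apply, hσ b, hσ' b']
  obtain ⟨ε', hε'⟩ := det_submatrix_equiv_pm ((genMatrix K r d).submatrix M.2.1.1 M.2.2.1) σ σ'
  refine ⟨ε * ε', ?_⟩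
  unfold zMinor minorOf
  rw [← hN, hε, hcomp, hsub, hε']
  push_cast
  ring

end Groth.Agent.Lib.Helper25.Bitab
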