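import Mathlib
import Groth.Prelude.Def_W4bk4grassmannianPl
import Groth.Agent.Lib.Helper25GrassPrime

/-!
# First fundamental theorem for `SL_d` acting on `n × d` matrices (helper25)

Normal form on the cell `p_ι ≠ 0`, then descent of the power of `p_ι` using
`ker (ev on shape between cover(ι) and top) = J(top) + (X_ι)`.
-/

noncomputable section

open MvPolynomial W4bk4grassmannian

namespace Groth.Agent.Lib.Helper25.Grass

variable {d n : ℕ} (K : Type*) [Field K]

/-- evaluation of matrix polynomials at a matrix -/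
def evMat (A : Matrix (Fin n) (Fin d) K) : MatRing K d n →ₐ[K] K :=
  MvPolynomial.aeval fun p : Fin n × Fin d => A p.1 p.2

theorem evMat_X (A : Matrix (Fin n) (Fin d) K) (p : Fin n × Fin d) :
    evMat K A (X p) = A p.1 p.2 := by
  unfold evMat; rw [aeval_X]

theorem evMat_minor (A : Matrix (Fin n) (Fin d) K) (a : Fin d → Fin n) :
    evMat K A (minor K d n a) = (A.submatrix a id).det := by
  unfold minor
  rw [AlgHom.map_det]
  congr 1
  ext s t
  simp only [AlgHom.mapMatrix_apply, Matrix.map_apply, Matrix.of_apply, evMat_X,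
    Matrix.submatrix_apply, id]

theorem evMat_pluckerMap (A : Matrix (Fin n) (Fin d) K) (F : PlRing K d n) :
    evMat K A (pluckerMap K d n F) = evalMinors K d n A F := by
  have : (evMat K A).comp (pluckerMap K d n) = evalMinors K d n A := by
    apply MvPolynomial.algHom_ext
    intro θ
    rw [AlgHom.comp_apply]
    unfold pluckerMap evalMinors
    rw [aeval_X, aeval_X, evMat_minor]
  exact DFunLike.congr_fun this F

theorem evMat_rightTranslate (A : Matrix (Fin n) (Fin d) K)
    (g : Matrix.SpecialLinearGroup (Fin d) K) (f : MatRing K d n) :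
    evMat K A (rightTranslate K d n g f) = evMat K (A * g.1) f := by
  have : (evMat K A).comp (rightTranslate K d n g) = evMat K (A * g.1) := by
    apply MvPolynomial.algHom_ext
    intro p
    rw [AlgHom.comp_apply]
    unfold rightTranslate
    rw [aeval_X, evMat_X, map_sum, Matrix.mul_apply]
    apply Finset.sum_congr rfl
    intro k _
    rw [map_mul, evMat_X]
    congr 1
    unfold evMat
    rw [aeval_C]
    rfl
  exact DFunLike.congr_fun this f

theorem matRing_ext [Infinite K] (f g : MatRing K d n)
    (h : ∀ A : Matrix (Fin n) (Fin d) K, evMat K A f = evMat K A g) : f = g := by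
  apply MvPolynomial.funext
  intro x
  have h1 : (aeval x : MatRing K d n →ₐ[K] K) f = (aeval x : MatRing K d n →ₐ[K] K) g :=
    h (Matrix.of fun i j => x (i, j))
  exact h1

theorem rightTranslate_minor (g : Matrix.SpecialLinearGroup (Fin d) K) (a : Fin d → Fin n) :
    rightTranslate K d n g (minor K d n a) = minor K d n a := by
  unfold minor
  rw [AlgHom.map_det]
  have : ((rightTranslate K d n g).mapMatrix
      (Matrix.of fun s t : Fin d => (X (a s, t) : MatRing K d n))) =
      (Matrix.of fun s t : Fin d => (X (a s, t) : MatRing K d n)) *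
        (C : K →+* MatRing K d n).mapMatrix g.1 := by
    apply Matrix.ext
    intro s t
    rw [AlgHom.mapMatrix_apply, Matrix.map_apply, Matrix.of_apply, Matrix.mul_apply]
    unfold rightTranslate
    rw [aeval_X]
    apply Finset.sum_congr rfl
    intro k _
    rfl
  rw [this, Matrix.det_mul, ← RingHom.map_det, g.2, map_one, mul_one]

/-- invariance of the subalgebra generated by the minors -/
theorem invariant_of_mem_adjoin (g : Matrix.SpecialLinearGroup (Fin d) K) (f : MatRing K d n)
    (hf : f ∈ Algebra.adjoin K (Set.range fun θ : Idx d n => minor K d n θ.1)) :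
    rightTranslate K d n g f = f := by
  have hle : Algebra.adjoin K (Set.range fun θ : Idx d n => minor K d n θ.1) ≤
      AlgHom.equalizer (rightTranslate K d n g) (AlgHom.id K (MatRing K d n)) := by
    apply Algebra.adjoin_le
    rintro _ ⟨θ, rfl⟩
    rw [SetLike.mem_coe, AlgHom.mem_equalizer]
    exact rightTranslate_minor K g θ.1
  have := hle hf
  rw [AlgHom.mem_equalizer] at this
  exact this

/-! ### the normal form on the cell -/

/-- the normalising matrix: `adj(T) · diag((δ^{d-1})⁻¹, 1, …, 1)` -/
def gMat (hd : 0 < d) (hdn : d < n) (A : Matrix (Fin n) (Fin d) K) : Matrix (Fin d) (Fin d) K :=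
  (A.submatrix (iotaIdx hdn).1 id).adjugate *
    Matrix.diagonal (Function.update (fun _ => (1 : K)) (⟨0, hd⟩ : Fin d)
      ((A.submatrix (iotaIdx hdn).1 id).det ^ (d - 1))⁻¹)

theorem det_gMat (hd : 0 < d) (hdn : d < n) (A : Matrix (Fin n) (Fin d) K)
    (h : (A.submatrix (iotaIdx hdn).1 id).det ≠ 0) : (gMat K hd hdn A).det = 1 := by
  unfold gMat
  rw [Matrix.det_mul, Matrix.det_adjugate, Matrix.det_diagonal, Fintype.card_fin,
    Finset.prod_update_of_mem (Finset.mem_univ _)]
  simp only [Finset.prod_const_one, mul_one]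
  exact mul_inv_cancel₀ (pow_ne_zero _ h)

theorem mul_adjugate_entry (hdn : d < n) (A : Matrix (Fin n) (Fin d) K) (i : Fin n) (j : Fin d) :
    (A * (A.submatrix (iotaIdx hdn).1 id).adjugate) i j =
      (A.submatrix (Function.update (iotaIdx hdn).1 j i) id).det := by
  classical
  set T := A.submatrix (iotaIdx hdn).1 id with hT
  have h1 : (A * T.adjugate) i j = Matrix.cramer T.transpose (A i) j := by
    rw [Matrix.cramer_eq_adjugate_mulVec, ← Matrix.adjugate_transpose, Matrix.mulVec_transpose]
    rfl
  rw [h1, Matrix.cramer_transpose_apply]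
  congr 1
  ext s t
  rw [Matrix.updateRow_apply, Matrix.submatrix_apply]
  by_cases hs : s = j
  · rw [if_pos hs, hs, Function.update_self]; rfl
  · rw [if_neg hs, Function.update_of_ne hs]; rfl

theorem mul_gMat_entry (hd : 0 < d) (hdn : d < n) (A : Matrix (Fin n) (Fin d) K)
    (i : Fin n) (j : Fin d) :
    (A * gMat K hd hdn A) i j =
      evalMinors K d n A (coord K d n (Function.update (iotaIdx hdn).1 j i)) *
        (Function.update (fun _ => (1 : K)) (⟨0, hd⟩ : Fin d)
          ((A.submatrix (iotaIdx hdn).1 id).det ^ (d - 1))⁻¹) j := by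
  unfold gMat
  rw [← Matrix.mul_assoc, Matrix.mul_diagonal, mul_adjugate_entry, evalMinors_coord]

theorem evalMinors_X_iota (hdn : d < n) (A : Matrix (Fin n) (Fin d) K) :
    evalMinors K d n A (X (iotaIdx hdn)) = (A.submatrix (iotaIdx hdn).1 id).det := by
  unfold evalMinors; rw [aeval_X]

theorem normal_form (hd : 0 < d) (hdn : d < n) (f : MatRing K d n) :
    ∃ (N : ℕ) (F : PlRing K d n), ∀ A : Matrix (Fin n) (Fin d) K,
      (A.submatrix (iotaIdx hdn).1 id).det ≠ 0 →
      (A.submatrix (iotaIdx hdn).1 id).det ^ N * evMat K (A * gMat K hd hdn A) f =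
        evalMinors K d n A F := by
  classical
  induction f using MvPolynomial.induction_on with
  | C a =>
    refine ⟨0, C a, fun A _ => ?_⟩
    rw [pow_zero, one_mul]
    unfold evMat evalMinors
    rw [aeval_C, aeval_C]
  | add p q hp hq =>
    obtain ⟨N1, F1, h1⟩ := hp
    obtain ⟨N2, F2, h2⟩ := hq
    refine ⟨N1 + N2, X (iotaIdx hdn) ^ N2 * F1 + X (iotaIdx hdn) ^ N1 * F2, fun A hA => ?_⟩
    rw [map_add, map_add, map_mul, map_mul, map_pow, map_pow, evalMinors_X_iota, ← h1 A hA,
      ← h2 A hA]
    ring
  | mul_X p x hp =>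
    obtain ⟨N, F, h⟩ := hp
    refine ⟨N + (d - 1), F * coord K d n (Function.update (iotaIdx hdn).1 x.2 x.1) *
      (if x.2 = (⟨0, hd⟩ : Fin d) then 1 else X (iotaIdx hdn) ^ (d - 1)), fun A hA => ?_⟩
    rw [map_mul, map_mul, map_mul, evMat_X, ← h A hA, mul_gMat_entry]
    by_cases hx : x.2 = (⟨0, hd⟩ : Fin d)
    · rw [if_pos hx, map_one, hx, Function.update_self]
      have hne : (A.submatrix (iotaIdx hdn).1 id).det ^ (d - 1) ≠ 0 := pow_ne_zero _ hA
      field_simp
      ring
    · rw [if_neg hx, map_pow, evalMinors_X_iota, Function.update_of_ne hx]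
      ring

/-- for an invariant `f`, a power of `p_ι` times `f` is a polynomial in the minors -/
theorem exists_pow_mul_eq [Infinite K] (hd : 0 < d) (hdn : d < n) (f : MatRing K d n)
    (hf : ∀ g : Matrix.SpecialLinearGroup (Fin d) K, rightTranslate K d n g f = f) :
    ∃ (N : ℕ) (F : PlRing K d n),
      minor K d n (iotaIdx hdn).1 ^ N * f = pluckerMap K d n F := by
  obtain ⟨N, F, h⟩ := normal_form K hd hdn f
  refine ⟨N, F, ?_⟩
  have hne : minor K d n (iotaIdx hdn).1 ≠ 0 := by
    intro h0
    have h1 : (X (iotaIdx hdn) : PlRing K d n) ∈ schubertVanishing K d n (iotaIdx hdn) := by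
      rw [mem_schubert_iff]
      intro A _
      rw [← evMat_pluckerMap]
      unfold pluckerMap
      rw [aeval_X, h0, map_zero]
    exact X_iota_not_mem K hdn _ h1
  have key : minor K d n (iotaIdx hdn).1 *
      (minor K d n (iotaIdx hdn).1 ^ N * f - pluckerMap K d n F) = 0 := by
    apply matRing_ext
    intro A
    rw [map_zero, map_mul, map_sub, map_mul, map_pow, evMat_minor, evMat_pluckerMap]
    by_cases hA : (A.submatrix (iotaIdx hdn).1 id).det = 0
    · rw [hA, zero_mul]
    · have h2 := h A hA
      have h3 : evMat K (A * gMat K hd hdn A) f = evMat K A f := by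
        have := evMat_rightTranslate K A ⟨gMat K hd hdn A, det_gMat K hd hdn A hA⟩ f
        rw [hf] at this
        exact this.symm
      rw [h3] at h2
      rw [h2, sub_self, mul_zero]
  rcases mul_eq_zero.mp key with h0 | h0
  · exact absurd h0 hne
  · exact sub_eq_zero.mp h0

/-! ### descent -/

variable (S : Fin n → Fin d → Prop) [∀ r t, Decidable (S r t)]

/-- substitution of the generic matrix of shape `S` -/
def sigmaS : MatRing K d n →ₐ[K] MvPolynomial (Var d n) K :=
  MvPolynomial.aeval fun p : Fin n × Fin d => shapedS K S p.1 p.2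

theorem sigmaS_minor (a : Fin d → Fin n) :
    sigmaS K S (minor K d n a) = ((shapedS K S).submatrix a id).det := by
  unfold minor
  rw [AlgHom.map_det]
  congr 1
  ext s t
  unfold sigmaS
  rw [AlgHom.mapMatrix_apply, Matrix.map_apply, Matrix.of_apply, aeval_X]
  rfl

theorem sigmaS_pluckerMap (F : PlRing K d n) : sigmaS K S (pluckerMap K d n F) = evS K S F := by
  have : (sigmaS K S).comp (pluckerMap K d n) = evS K S := by
    apply MvPolynomial.algHom_ext
    intro θ
    rw [AlgHom.comp_apply]
    unfold pluckerMap evS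
    rw [aeval_X, aeval_X, sigmaS_minor]
  exact DFunLike.congr_fun this F

/-- the greatest index `(n - d, …, n - 1)` -/
def topIdx (hdn : d < n) : Idx d n :=
  ⟨fun t => ⟨n - d + t.val, by have := t.isLt; omega⟩, fun a b h => by
    rw [Fin.lt_def]; simp only; have : a.val < b.val := h; omega⟩

theorem le_topIdx (hdn : d < n) (θ : Idx d n) : θ ≤ topIdx hdn := by
  intro t
  show θ.1 t ≤ (topIdx hdn).1 t
  rw [Fin.le_def]
  unfold topIdx
  simp only
  have ht := t.isLt
  have h1 := strictMono_add_le θ.1 θ.2 (d - 1 - t.val) t ⟨d - 1, by omega⟩ (by simp only; omega)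
  have h2 := (θ.1 ⟨d - 1, by omega⟩).isLt
  omega

theorem pluckerMap_eq_zero_of_mem_top [Infinite K] (hdn : d < n) (G : PlRing K d n)
    (hG : G ∈ schubertVanishing K d n (topIdx hdn)) : pluckerMap K d n G = 0 := by
  apply matRing_ext
  intro A
  rw [map_zero, evMat_pluckerMap]
  rw [mem_schubert_iff] at hG
  exact hG A (fun φ hφ => absurd (le_topIdx hdn φ) hφ)

theorem descent [Infinite K] (hd : 0 < d) (hdn : d < n) (f : MatRing K d n) (N : ℕ)
    (F : PlRing K d n)
    (h : minor K d n (iotaIdx hdn).1 ^ (N + 1) * f = pluckerMap K d n F) :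
    ∃ F' : PlRing K d n, minor K d n (iotaIdx hdn).1 ^ N * f = pluckerMap K d n F' := by
  classical
  have hne : minor K d n (iotaIdx hdn).1 ≠ 0 := by
    intro h0
    have h1 : (X (iotaIdx hdn) : PlRing K d n) ∈ schubertVanishing K d n (iotaIdx hdn) := by
      rw [mem_schubert_iff]
      intro A _
      rw [← evMat_pluckerMap]
      unfold pluckerMap
      rw [aeval_X, h0, map_zero]
    exact X_iota_not_mem K hdn _ h1
  have hlow : ∀ r t, Between (iotaCover hdn) (topIdx hdn) r t → (iotaCover hdn).1 t ≤ r :=
    fun r t h => h.1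
  have hXι : evS K (Between (iotaCover hdn) (topIdx hdn)) (X (iotaIdx hdn)) = 0 :=
    evS_X_of_lower K _ (iotaCover hdn) hlow _ (not_iotaCover_le_iota hd hdn)
  have hminor : sigmaS K (Between (iotaCover hdn) (topIdx hdn)) (minor K d n (iotaIdx hdn).1) = 0 := by
    have := sigmaS_pluckerMap K (Between (iotaCover hdn) (topIdx hdn)) (X (iotaIdx hdn))
    unfold pluckerMap at this
    rw [aeval_X] at this
    rw [this, hXι]
  have hF : F ∈ RingHom.ker (evS K (Between (iotaCover hdn) (topIdx hdn))).toRingHom := by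
    rw [RingHom.mem_ker]
    show evS K (Between (iotaCover hdn) (topIdx hdn)) F = 0
    rw [← sigmaS_pluckerMap, ← h, map_mul, map_pow, hminor, zero_pow (Nat.succ_ne_zero N), zero_mul]
  rw [← ker_evS_between K hd hdn (topIdx hdn)] at hF
  obtain ⟨G, hG, H', hH', hsum⟩ := Submodule.mem_sup.mp hF
  obtain ⟨H, rfl⟩ := Ideal.mem_span_singleton'.mp hH'
  refine ⟨H, ?_⟩
  have h2 : pluckerMap K d n F = pluckerMap K d n H * minor K d n (iotaIdx hdn).1 := by
    rw [← hsum, map_add, pluckerMap_eq_zero_of_mem_top K hdn G hG, zero_add, map_mul]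
    congr 1
    unfold pluckerMap
    rw [aeval_X]
  rw [h2, pow_succ] at h
  have h3 : minor K d n (iotaIdx hdn).1 * (minor K d n (iotaIdx hdn).1 ^ N * f) =
      minor K d n (iotaIdx hdn).1 * pluckerMap K d n H := by
    linear_combination h
  exact mul_left_cancel₀ hne h3

theorem mem_range_of_invariant [Infinite K] (hd : 0 < d) (hdn : d < n) (f : MatRing K d n)
    (hf : ∀ g : Matrix.SpecialLinearGroup (Fin d) K, rightTranslate K d n g f = f) :
    f ∈ (pluckerMap K d n).range := by
  obtain ⟨N, F, h⟩ := exists_pow_mul_eq K hd hdn f hf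
  induction N generalizing F with
  | zero =>
    rw [pow_zero, one_mul] at h
    exact ⟨F, h.symm⟩
  | succ N ih =>
    obtain ⟨F', h'⟩ := descent K hd hdn f N F h
    exact ih F' h'

theorem fft [Infinite K] (hd : 0 < d) (hdn : d < n) (f : MatRing K d n) :
    (∀ g : Matrix.SpecialLinearGroup (Fin d) K, rightTranslate K d n g f = f) ↔
      f ∈ Algebra.adjoin K (Set.range fun θ : Idx d n => minor K d n θ.1) := by
  constructor
  · intro hf
    rw [Algebra.adjoin_range_eq_range_aeval]
    exact mem_range_of_invariant K hd hdn f hf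
  · intro hf g
    exact invariant_of_mem_adjoin K g f hf

end Groth.Agent.Lib.Helper25.Grass
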