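import Mathlib
import Groth.Prelude.Def_W4bk4grassmannianPl
import Groth.Agent.Lib.Helper24Grass

/-!
# Refined straightening: tracking the potential (helper25)

Adaptation of helper24's straightening induction: a monomial of potential `N` is, modulo the shuffle
relations, a combination of standard monomials of the same degree and potential `≥ N` (`> N` if the
monomial is not a chain).
-/

noncomputable section

open MvPolynomial W4bk4grassmannian Groth.Agent.Lib.Helper24Grass

namespace Groth.Agent.Lib.Helper25.Grass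

variable {d n : ℕ} (K : Type*) [CommRing K]

/-- span of the standard monomials of degree `m` and potential at least `N` -/
def StdP (d n m N : ℕ) : Submodule K (PlRing K d n ⧸ plIdealTop (d := d) (n := n) K) :=
  Submodule.span K {q | ∃ e : Fin m → Idx d n, Antitone e ∧ N ≤ pot e ∧
    q = Ideal.Quotient.mk (plIdealTop (d := d) (n := n) K) (chainMon K e)}

theorem StdP_anti {m N N' : ℕ} (h : N ≤ N') : StdP K d n m N' ≤ StdP K d n m N := by
  unfold StdP
  apply Submodule.span_mono
  rintro q ⟨e, he, hN, rfl⟩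
  exact ⟨e, he, le_trans h hN, rfl⟩

/-- pairwise comparability -/
def IsChainFam {m : ℕ} (c : Fin m → Idx d n) : Prop := ∀ k₁ k₂, c k₁ ≤ c k₂ ∨ c k₂ ≤ c k₁

theorem pot_comp_perm {m : ℕ} (c : Fin m → Idx d n) (σ : Equiv.Perm (Fin m)) : pot (c ∘ σ) = pot c := by
  unfold pot
  exact Equiv.sum_comp σ (fun k => 2 ^ wt (c k).1)

theorem refined_of_chain {m : ℕ} (c : Fin m → Idx d n) (hc : IsChainFam c) :
    Ideal.Quotient.mk (plIdealTop (d := d) (n := n) K) (chainMon K c) ∈ StdP K d n m (pot c) := by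
  obtain ⟨σ, hσ⟩ := sortable c hc
  have : chainMon K c = chainMon K (c ∘ σ) := by
    unfold chainMon
    exact (Equiv.prod_comp σ (fun k => (X (c k) : PlRing K d n))).symm
  rw [this]
  exact Submodule.subset_span ⟨c ∘ σ, hσ, by rw [pot_comp_perm], rfl⟩

theorem refined_step {m : ℕ} (c : Fin m → Idx d n) (k₁ k₂ : Fin m) (hk : k₁ ≠ k₂)
    (r : Fin d) (hp : IsPivot (c k₁) (c k₂) r) (hw : wt (c k₂).1 ≤ wt (c k₁).1)
    (ih : ∀ c' : Fin m → Idx d n, pot c < pot c' →
      Ideal.Quotient.mk (plIdealTop (d := d) (n := n) K) (chainMon K c') ∈ StdP K d n m (pot c')) :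
    Ideal.Quotient.mk (plIdealTop (d := d) (n := n) K) (chainMon K c) ∈ StdP K d n m (pot c + 1) := by
  set I := plIdealTop (d := d) (n := n) K with hI
  set rest : PlRing K d n := ∏ k ∈ (Finset.univ.erase k₁).erase k₂, (X (c k) : PlRing K d n) with hrest
  have hrel : shuffleRel K (c k₁) (c k₂) r ∈ I :=
    Ideal.subset_span ⟨c k₁, c k₂, r, hp, rfl⟩
  obtain ⟨k0, h0⟩ := shuffleTerm_A0 K (c k₁) (c k₂) r
  have hsum : shuffleRel K (c k₁) (c k₂) r =
      shuffleTerm K (c k₁) (c k₂) r (A0 r) +
        ∑ A ∈ Finset.univ.erase (A0 r), shuffleTerm K (c k₁) (c k₂) r A := by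
    unfold shuffleRel
    rw [Finset.add_sum_erase _ _ (Finset.mem_univ _)]
  have e1 : chainMon K c = ((-1 : K) ^ k0) • (shuffleRel K (c k₁) (c k₂) r * rest) -
      ((-1 : K) ^ k0) • ∑ A ∈ Finset.univ.erase (A0 r), shuffleTerm K (c k₁) (c k₂) r A * rest := by
    rw [chainMon_split K c k₁ k₂ hk, hsum, h0, add_mul, smul_add, ← Finset.sum_mul,
      add_sub_cancel_right, smul_mul_assoc, neg_one_pow_smul_smul]
  rw [e1, map_sub]
  refine Submodule.sub_mem _ ?_ ?_
  · have : Ideal.Quotient.mk I (((-1 : K) ^ k0) • (shuffleRel K (c k₁) (c k₂) r * rest)) = 0 := by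
      rw [Ideal.Quotient.eq_zero_iff_mem]
      exact Submodule.smul_of_tower_mem _ _ (I.mul_mem_right _ hrel)
    rw [this]; exact Submodule.zero_mem _
  · have hsm : ∀ (a : K) (p : PlRing K d n), Ideal.Quotient.mk I (a • p) = a • Ideal.Quotient.mk I p := by
      intro a p
      exact map_smul (Ideal.Quotient.mkₐ K I) a p
    rw [hsm]
    refine Submodule.smul_mem _ _ ?_
    rw [map_sum]
    refine Submodule.sum_mem _ (fun A hA => ?_)
    have hne : A ≠ A0 r := Finset.ne_of_mem_erase hA
    rcases shuffleTerm_cases K (c k₁) (c k₂) r hp.2 A hne with h | ⟨i', j', k, hwt, h⟩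
    · rw [h, zero_mul, map_zero]; exact Submodule.zero_mem _
    · rw [h, smul_mul_assoc, hsm, ← chainMon_repl K c k₁ k₂ hk i' j']
      have hpot := pot_repl_gt c k₁ k₂ hk i' j' hwt hw
      exact Submodule.smul_mem _ _ (StdP_anti K (Nat.succ_le_of_lt hpot) (ih _ hpot))

theorem refined {m : ℕ} (c : Fin m → Idx d n) :
    Ideal.Quotient.mk (plIdealTop (d := d) (n := n) K) (chainMon K c) ∈ StdP K d n m (pot c) ∧
      (¬ IsChainFam c →
        Ideal.Quotient.mk (plIdealTop (d := d) (n := n) K) (chainMon K c) ∈ StdP K d n m (pot c + 1)) := by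
  induction' hN : m * 2 ^ (d * n) - pot c using Nat.strong_induction_on with N ih generalizing c
  by_cases hc : IsChainFam c
  · exact ⟨refined_of_chain K c hc, fun h => absurd hc h⟩
  · have hc' := hc
    unfold IsChainFam at hc'
    push Not at hc'
    obtain ⟨k₁, k₂, h1, h2⟩ := hc'
    have hk : k₁ ≠ k₂ := by
      rintro rfl; exact h1 (le_refl _)
    have ih' : ∀ c' : Fin m → Idx d n, pot c < pot c' →
        Ideal.Quotient.mk (plIdealTop (d := d) (n := n) K) (chainMon K c') ∈ StdP K d n m (pot c') := by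
      intro c' hc'
      have := pot_le c'
      exact (ih (m * 2 ^ (d * n) - pot c') (by omega) c' rfl).1
    have key : Ideal.Quotient.mk (plIdealTop (d := d) (n := n) K) (chainMon K c) ∈
        StdP K d n m (pot c + 1) := by
      rcases le_total (wt (c k₂).1) (wt (c k₁).1) with hw | hw
      · obtain ⟨r, hr⟩ := exists_pivot (c k₁) (c k₂) h2
        exact refined_step K c k₁ k₂ hk r hr hw ih'
      · obtain ⟨r, hr⟩ := exists_pivot (c k₂) (c k₁) h1
        exact refined_step K c k₂ k₁ hk.symm r hr hw ih'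
    exact ⟨StdP_anti K (Nat.le_succ _) key, fun _ => key⟩

end Groth.Agent.Lib.Helper25.Grass
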