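import Mathlib

/-!
# Rees algebra of a filtration with an adapted basis (helper25)

`A` a commutative `K`-algebra with a `K`-basis `b` and a weight `ν : ι → ℕ` such that the filtration
`Fil j = span {b i | ν i ≤ j}` is multiplicative.  The Rees algebra `R = ⊕ Fil j t^j ⊆ A[t]` is free
over `K[t]`, its fibre at `t = c ≠ 0` is `A`, and its fibre at `t = 0` has the classes of
`b i t^(ν i)` as a `K`-basis.
-/

noncomputable section

open Polynomial

namespace Groth.Agent.Lib.Helper25.Rees

attribute [local instance] Polynomial.algebra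

variable {K : Type*} [Field K] {A : Type*} [CommRing A] [Algebra K A]
variable {ι : Type*} (b : Module.Basis ι K A) (ν : ι → ℕ)

/-- the filtration attached to the weight -/
def Fil (j : ℕ) : Submodule K A := Submodule.span K (b '' {i | ν i ≤ j})

theorem mem_Fil_iff (x : A) (j : ℕ) : x ∈ Fil b ν j ↔ ∀ i, b.repr x i ≠ 0 → ν i ≤ j := by
  unfold Fil
  rw [Module.Basis.mem_span_image]
  constructor
  · intro h i hi
    exact h (Finsupp.mem_support_iff.mpr hi)
  · intro h i hi
    exact h i (Finsupp.mem_support_iff.mp hi)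

theorem Fil_mono {j j' : ℕ} (h : j ≤ j') : Fil b ν j ≤ Fil b ν j' := by
  unfold Fil
  apply Submodule.span_mono
  apply Set.image_mono
  intro i hi
  exact le_trans hi h

theorem basis_mem_Fil (i : ι) : b i ∈ Fil b ν (ν i) :=
  Submodule.subset_span ⟨i, le_refl (ν i), rfl⟩

/-- compatibility of the filtration with the ring structure -/
structure Compat : Prop where
  one_mem : (1 : A) ∈ Fil b ν 0
  mul_mem : ∀ i i', b i * b i' ∈ Fil b ν (ν i + ν i')

variable {b ν}

theorem Fil_mul (h : Compat b ν) {x y : A} {j j' : ℕ} (hx : x ∈ Fil b ν j) (hy : y ∈ Fil b ν j') :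
    x * y ∈ Fil b ν (j + j') := by
  unfold Fil at hx
  induction hx using Submodule.span_induction with
  | mem x hx =>
    obtain ⟨i, hi, rfl⟩ := hx
    unfold Fil at hy
    induction hy using Submodule.span_induction with
    | mem y hy =>
      obtain ⟨i', hi', rfl⟩ := hy
      exact Fil_mono b ν (Nat.add_le_add hi hi') (h.mul_mem i i')
    | zero => rw [mul_zero]; exact Submodule.zero_mem _
    | add y z _ _ hy hz => rw [mul_add]; exact Submodule.add_mem _ hy hz
    | smul a y _ hy => rw [mul_smul_comm]; exact Submodule.smul_mem _ _ hy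
  | zero => rw [zero_mul]; exact Submodule.zero_mem _
  | add x z _ _ hx hz => rw [add_mul]; exact Submodule.add_mem _ hx hz
  | smul a x _ hx => rw [smul_mul_assoc]; exact Submodule.smul_mem _ _ hx

/-- the Rees algebra -/
def rees (h : Compat b ν) : Subalgebra K[X] A[X] where
  carrier := {f | ∀ j, f.coeff j ∈ Fil b ν j}
  mul_mem' := by
    intro f g hf hg j
    rw [coeff_mul]
    refine Submodule.sum_mem _ (fun p hp => ?_)
    rw [Finset.HasAntidiagonal.mem_antidiagonal] at hp
    rw [← hp]
    exact Fil_mul h (hf p.1) (hg p.2)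
  add_mem' := by
    intro f g hf hg j
    rw [coeff_add]
    exact Submodule.add_mem _ (hf j) (hg j)
  algebraMap_mem' := by
    intro p j
    rw [Polynomial.algebraMap_def, coe_mapRingHom, coeff_map, Algebra.algebraMap_eq_smul_one]
    exact Submodule.smul_mem _ _ (Fil_mono b ν (Nat.zero_le j) h.one_mem)

theorem mem_rees (h : Compat b ν) (f : A[X]) : f ∈ rees h ↔ ∀ j, f.coeff j ∈ Fil b ν j := Iff.rfl

theorem monomial_mem_rees (h : Compat b ν) (j : ℕ) (a : A) (ha : a ∈ Fil b ν j) :
    monomial j a ∈ rees h := by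
  intro k
  rw [coeff_monomial]
  split_ifs with hk
  · rw [← hk]; exact ha
  · exact Submodule.zero_mem _

/-- the basis elements `b i t^(ν i)` of the Rees algebra -/
def reesGen (h : Compat b ν) (i : ι) : rees h :=
  ⟨monomial (ν i) (b i), monomial_mem_rees h _ _ (basis_mem_Fil b ν i)⟩

theorem coeff_smul_monomial (p : K[X]) (n : ℕ) (a : A) (j : ℕ) :
    (p • (monomial n a : A[X])).coeff j = if n ≤ j then (p.coeff (j - n)) • a else 0 := by
  rw [Algebra.smul_def, Polynomial.algebraMap_def, coe_mapRingHom, ← C_mul_X_pow_eq_monomial,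
    ← mul_assoc, coeff_mul_X_pow']
  split_ifs with hn
  · rw [coeff_mul_C, coeff_map, Algebra.smul_def]
  · rfl

section Free

variable (h : Compat b ν)

theorem coe_smul_rees (p : K[X]) (f : rees h) : ((p • f : rees h) : A[X]) = p • (f : A[X]) := rfl

theorem coe_sum_rees (s : Finset ι) (g : ι → rees h) :
    ((∑ i ∈ s, g i : rees h) : A[X]) = ∑ i ∈ s, (g i : A[X]) := by
  exact map_sum (rees h).val g s

theorem coe_reesGen (i : ι) : (reesGen h i : A[X]) = monomial (ν i) (b i) := rfl

theorem reesGen_linearIndependent : LinearIndependent K[X] (reesGen h) := by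
  classical
  rw [linearIndependent_iff']
  intro s p hp i hi
  have h1 : ∑ i ∈ s, p i • (monomial (ν i) (b i) : A[X]) = 0 := by
    have := congrArg (fun f : rees h => (f : A[X])) hp
    simp only [coe_sum_rees, coe_smul_rees, coe_reesGen] at this
    exact this
  ext k
  rw [coeff_zero]
  have h2 := congrArg (fun f : A[X] => f.coeff (k + ν i)) h1
  simp only [finsetSum_coeff, coeff_smul_monomial, coeff_zero] at h2
  have h3 : ∑ x ∈ s, (if ν x ≤ k + ν i then (p x).coeff (k + ν i - ν x) else 0) • b x = 0 := by
    rw [← h2]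
    apply Finset.sum_congr rfl
    intro x _
    split_ifs
    · rfl
    · rw [zero_smul]
  have h4 := (linearIndependent_iff'.mp b.linearIndependent) s _ h3 i hi
  rw [if_pos (Nat.le_add_left _ _), Nat.add_sub_cancel] at h4
  exact h4

theorem monomial_mem_span (j : ℕ) (a : A) (ha : a ∈ Fil b ν j) :
    (monomial j a : A[X]) ∈ Submodule.span K[X] (Set.range fun i => (reesGen h i : A[X])) := by
  unfold Fil at ha
  induction ha using Submodule.span_induction with
  | mem x hx =>
    obtain ⟨i, hi, rfl⟩ := hx
    have e : (monomial j (b i) : A[X]) = (X ^ (j - ν i) : K[X]) • (reesGen h i : A[X]) := by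
      have hij : ν i ≤ j := hi
      have hj : ν i + (j - ν i) = j := by omega
      rw [coe_reesGen, Algebra.smul_def, Polynomial.algebraMap_def, coe_mapRingHom, Polynomial.map_pow,
        map_X, X_pow_mul_monomial, hj]
    rw [e]
    exact Submodule.smul_mem _ _ (Submodule.subset_span ⟨i, rfl⟩)
  | zero => rw [map_zero]; exact Submodule.zero_mem _
  | add x y _ _ hx hy => rw [map_add]; exact Submodule.add_mem _ hx hy
  | smul a x _ hx =>
    have e : (monomial j (a • x) : A[X]) = (C a : K[X]) • (monomial j x : A[X]) := by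
      rw [Algebra.smul_def (C a : K[X]) (monomial j x : A[X]), Polynomial.algebraMap_def,
        coe_mapRingHom, map_C, C_mul_monomial, ← Algebra.smul_def]
    rw [e]
    exact Submodule.smul_mem _ _ hx

theorem reesGen_span : Submodule.span K[X] (Set.range (reesGen h)) = ⊤ := by
  rw [eq_top_iff]
  rintro f -
  have h1 : (f : A[X]) ∈ Submodule.span K[X] (Set.range fun i => (reesGen h i : A[X])) := by
    rw [← Polynomial.sum_monomial_eq (f : A[X])]
    unfold Polynomial.sum
    refine Submodule.sum_mem _ (fun j _ => ?_)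
    exact monomial_mem_span h j _ (f.2 j)
  have h2 : Submodule.map (rees h).val.toLinearMap (Submodule.span K[X] (Set.range (reesGen h))) =
      Submodule.span K[X] (Set.range fun i => (reesGen h i : A[X])) := by
    rw [Submodule.map_span, ← Set.range_comp]
    rfl
  rw [← h2] at h1
  obtain ⟨g, hg, hgf⟩ := h1
  have : g = f := Subtype.ext hgf
  rw [← this]
  exact hg

/-- the `K[t]`-basis of the Rees algebra -/
def reesBasis : Module.Basis ι K[X] (rees h) :=
  Module.Basis.mk (reesGen_linearIndependent h) (by rw [reesGen_span])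

theorem rees_free : Module.Free K[X] (rees h) := Module.Free.of_basis (reesBasis h)

end Free

section FibreC

variable (h : Compat b ν)

theorem coe_algebraMap_rees (k : K) : ((algebraMap K (rees h) k : rees h) : A[X]) = C (algebraMap K A k) := rfl

theorem coe_ksmul_rees (k : K) (f : rees h) : ((k • f : rees h) : A[X]) = k • (f : A[X]) := rfl

/-- evaluation at `t = c` -/
def evc (c : K) : rees h →ₐ[K] A where
  toFun f := (f : A[X]).eval (algebraMap K A c)
  map_one' := by simp
  map_mul' := by intro f g; simp [eval_mul]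
  map_zero' := by simp
  map_add' := by intro f g; simp
  commutes' := by intro k; simp [coe_algebraMap_rees]

theorem evc_apply (c : K) (f : rees h) : evc h c f = (f : A[X]).eval (algebraMap K A c) := rfl

theorem evc_surjective (c : K) (hc : c ≠ 0) : Function.Surjective (evc h c) := by
  have hr : LinearMap.range (evc h c).toLinearMap = ⊤ := by
    rw [eq_top_iff, ← b.span_eq, Submodule.span_le]
    rintro x ⟨i, rfl⟩
    refine ⟨(c⁻¹ ^ ν i) • reesGen h i, ?_⟩
    show evc h c ((c⁻¹ ^ ν i) • reesGen h i) = b i
    rw [map_smul, evc_apply, coe_reesGen, eval_monomial, ← map_pow, ← Algebra.commutes,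
      ← Algebra.smul_def, smul_smul, ← mul_pow, inv_mul_cancel₀ hc, one_pow, one_smul]
  intro a
  have : a ∈ LinearMap.range (evc h c).toLinearMap := by rw [hr]; trivial
  exact this

theorem coeff_mem_of_mul (c : K) (hc : c ≠ 0) (f : rees h) (g : A[X])
    (hfg : (f : A[X]) = (X - C (algebraMap K A c)) * g) : g ∈ rees h := by
  intro j
  induction j with
  | zero =>
    have h0 := congrArg (fun p : A[X] => p.coeff 0) hfg
    simp only [mul_coeff_zero, coeff_sub, coeff_X_zero, coeff_C_zero, zero_sub] at h0
    have e : g.coeff 0 = (-c⁻¹) • (f : A[X]).coeff 0 := by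
      have hcc : algebraMap K A c⁻¹ * algebraMap K A c = 1 := by
        rw [← map_mul, inv_mul_cancel₀ hc, map_one]
      rw [h0, Algebra.smul_def, map_neg]
      linear_combination (-(g.coeff 0)) * hcc
    rw [e]
    exact Submodule.smul_mem _ _ (f.2 0)
  | succ j ih =>
    have h1 := congrArg (fun p : A[X] => p.coeff (j + 1)) hfg
    simp only [coeff_X_sub_C_mul] at h1
    have e : g.coeff (j + 1) = c⁻¹ • (g.coeff j - (f : A[X]).coeff (j + 1)) := by
      have hcc : algebraMap K A c⁻¹ * algebraMap K A c = 1 := by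
        rw [← map_mul, inv_mul_cancel₀ hc, map_one]
      rw [h1, sub_sub_cancel, Algebra.smul_def]
      linear_combination (-(g.coeff (j + 1))) * hcc
    rw [e]
    exact Submodule.smul_mem _ _ (Submodule.sub_mem _ (Fil_mono b ν (Nat.le_succ j) ih) (f.2 (j + 1)))

theorem ker_evc (c : K) (hc : c ≠ 0) :
    RingHom.ker (evc h c).toRingHom = Ideal.span {algebraMap K[X] (rees h) (X - C c)} := by
  have hcoe : ((algebraMap K[X] (rees h) (X - C c) : rees h) : A[X]) = X - C (algebraMap K A c) := by
    show algebraMap K[X] A[X] (X - C c) = _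
    rw [Polynomial.algebraMap_def, coe_mapRingHom, Polynomial.map_sub, map_X, map_C]
  apply le_antisymm
  · intro f hf
    rw [RingHom.mem_ker] at hf
    have hroot : IsRoot (f : A[X]) (algebraMap K A c) := hf
    obtain ⟨g, hg⟩ := dvd_iff_isRoot.mpr hroot
    have hgm := coeff_mem_of_mul h c hc f g hg
    rw [Ideal.mem_span_singleton]
    refine ⟨⟨g, hgm⟩, ?_⟩
    apply Subtype.ext
    show (f : A[X]) = ((algebraMap K[X] (rees h) (X - C c) : rees h) : A[X]) * g
    rw [hcoe, hg]
  · rw [Ideal.span_le]
    intro f hf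
    rw [Set.mem_singleton_iff] at hf
    subst hf
    rw [SetLike.mem_coe, RingHom.mem_ker]
    show evc h c _ = 0
    rw [evc_apply, hcoe]
    simp

/-- the fibre of the Rees algebra at `t = c ≠ 0` is `A`. -/
def fibreEquiv (c : K) (hc : c ≠ 0) :
    (rees h ⧸ Ideal.span {algebraMap K[X] (rees h) (X - C c)}) ≃ₐ[K] A :=
  (Ideal.quotientEquivAlgOfEq K (ker_evc h c hc).symm).trans
    (Ideal.quotientKerAlgEquivOfSurjective (evc_surjective h c hc))

end FibreC

section Fibre0

variable (h : Compat b ν)

/-- the ideal `(t)` of the Rees algebra -/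
abbrev I0 : Ideal (rees h) := Ideal.span {algebraMap K[X] (rees h) X}

theorem mk_ksmul (k : K) (f : rees h) :
    Ideal.Quotient.mk (I0 h) (k • f) = k • Ideal.Quotient.mk (I0 h) f :=
  map_smul (Ideal.Quotient.mkₐ K (I0 h)) k f

theorem C_smul_rees (k : K) (f : rees h) : (C k : K[X]) • f = k • f := by
  apply Subtype.ext
  rw [coe_smul_rees, coe_ksmul_rees]
  rw [Algebra.smul_def, Polynomial.algebraMap_def, coe_mapRingHom, map_C, ← Polynomial.smul_eq_C_mul,
    algebraMap_smul]

theorem mk_smul_eq (p : K[X]) (f : rees h) :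
    Ideal.Quotient.mk (I0 h) (p • f) = (p.coeff 0) • Ideal.Quotient.mk (I0 h) f := by
  have hp : p = divX p * X + C (p.coeff 0) := (divX_mul_X_add p).symm
  have h1 : p • f = (divX p * X) • f + (C (p.coeff 0) : K[X]) • f := by
    rw [← add_smul, ← hp]
  have h2 : Ideal.Quotient.mk (I0 h) ((divX p * X) • f) = 0 := by
    rw [Ideal.Quotient.eq_zero_iff_mem, Algebra.smul_def, map_mul, mul_comm (algebraMap K[X] (rees h) (divX p)),
      mul_assoc]
    exact Ideal.mul_mem_right _ _ (Ideal.subset_span rfl)
  rw [h1, map_add, h2, zero_add, C_smul_rees, mk_ksmul]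

theorem repr_sum_smul [DecidableEq ι] (s : Finset ι) (a : ι → K) (i₀ : ι) :
    b.repr (∑ i ∈ s, a i • b i) i₀ = if i₀ ∈ s then a i₀ else 0 := by
  rw [map_sum, Finsupp.finsetSum_apply]
  simp only [map_smul, Module.Basis.repr_self, Finsupp.smul_apply, Finsupp.single_apply, smul_eq_mul,
    mul_ite, mul_one, mul_zero]
  rw [Finset.sum_ite_eq' s i₀ a]

theorem mk_reesGen_linearIndependent :
    LinearIndependent K (fun i => Ideal.Quotient.mk (I0 h) (reesGen h i)) := by
  classical
  rw [linearIndependent_iff']
  intro s a hsum i₀ hi₀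
  have h1 : Ideal.Quotient.mk (I0 h) (∑ i ∈ s, a i • reesGen h i) = 0 := by
    rw [map_sum, ← hsum]
    exact Finset.sum_congr rfl (fun i _ => mk_ksmul h (a i) (reesGen h i))
  rw [Ideal.Quotient.eq_zero_iff_mem, Ideal.mem_span_singleton] at h1
  obtain ⟨g, hg⟩ := h1
  have h2 : ∑ i ∈ s, a i • (monomial (ν i) (b i) : A[X]) = X * (g : A[X]) := by
    have := congrArg (fun f : rees h => (f : A[X])) hg
    simp only [coe_sum_rees, coe_ksmul_rees, coe_reesGen] at this
    rw [this]
    show (algebraMap K[X] A[X] X) * (g : A[X]) = _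
    rw [Polynomial.algebraMap_def, coe_mapRingHom, map_X]
  set j := ν i₀ with hj
  have h3 := congrArg (fun f : A[X] => f.coeff j) h2
  simp only [finsetSum_coeff, coeff_smul, coeff_monomial] at h3
  have h4 : ∑ i ∈ s, a i • (if ν i = j then b i else 0) =
      ∑ i ∈ s.filter (fun i => ν i = j), a i • b i := by
    rw [Finset.sum_filter]
    apply Finset.sum_congr rfl
    intro i _
    split_ifs
    · rfl
    · rw [smul_zero]
  rw [h4] at h3
  have hrepr := repr_sum_smul (b := b) (s.filter (fun i => ν i = j)) a i₀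
  rw [if_pos (by rw [Finset.mem_filter]; exact ⟨hi₀, rfl⟩)] at hrepr
  by_contra hne
  cases hj0 : j with
  | zero =>
    rw [hj0, coeff_X_mul_zero] at h3
    rw [hj0] at hrepr
    rw [h3, map_zero, Finsupp.zero_apply] at hrepr
    exact hne hrepr.symm
  | succ j' =>
    rw [hj0, coeff_X_mul] at h3
    rw [hj0] at hrepr
    have hmem : (g : A[X]).coeff j' ∈ Fil b ν j' := g.2 j'
    rw [← h3, mem_Fil_iff] at hmem
    have := hmem i₀ (by rw [hrepr]; exact hne)
    omega

theorem mk_reesGen_span :
    Submodule.span K (Set.range fun i => Ideal.Quotient.mk (I0 h) (reesGen h i)) = ⊤ := by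
  rw [eq_top_iff]
  rintro q -
  obtain ⟨f, rfl⟩ := Ideal.Quotient.mk_surjective q
  have hf : f ∈ Submodule.span K[X] (Set.range (reesGen h)) := by rw [reesGen_span]; trivial
  induction hf using Submodule.span_induction with
  | mem x hx =>
    obtain ⟨i, rfl⟩ := hx
    exact Submodule.subset_span ⟨i, rfl⟩
  | zero => rw [map_zero]; exact Submodule.zero_mem _
  | add x y _ _ hx hy => rw [map_add]; exact Submodule.add_mem _ hx hy
  | smul p x _ hx => rw [mk_smul_eq]; exact Submodule.smul_mem _ _ hx

/-- recognition of the fibre at `t = 0`. -/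
theorem fibre0_bijective {B₀ : Type*} [CommRing B₀] [Algebra K B₀]
    (Ψ : B₀ →ₐ[K] (rees h ⧸ I0 h)) (y : ι → B₀) (hy : Submodule.span K (Set.range y) = ⊤)
    (hΨ : ∀ i, Ψ (y i) = Ideal.Quotient.mk (I0 h) (reesGen h i)) : Function.Bijective Ψ := by
  constructor
  · rw [injective_iff_map_eq_zero]
    intro x hx
    have hx' : x ∈ Submodule.span K (Set.range y) := by rw [hy]; trivial
    rw [Finsupp.mem_span_range_iff_exists_finsupp] at hx'
    obtain ⟨l, rfl⟩ := hx'
    have h1 : Finsupp.linearCombination K (fun i => Ideal.Quotient.mk (I0 h) (reesGen h i)) l = 0 := by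
      rw [Finsupp.linearCombination_apply, ← hx, Finsupp.sum, Finsupp.sum, map_sum]
      apply Finset.sum_congr rfl
      intro i _
      rw [map_smul, hΨ]
    have h2 := (linearIndependent_iff.mp (mk_reesGen_linearIndependent h)) l h1
    rw [h2]
    simp
  · have hr : LinearMap.range Ψ.toLinearMap = ⊤ := by
      rw [eq_top_iff, ← mk_reesGen_span h, Submodule.span_le]
      rintro x ⟨i, rfl⟩
      exact ⟨y i, hΨ i⟩
    intro q
    have : q ∈ LinearMap.range Ψ.toLinearMap := by rw [hr]; trivial
    exact this

end Fibre0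

section Extra

variable (h : Compat b ν)

theorem mem_I0_of_monomial (f : rees h) (N : ℕ) (x : A) (hf : (f : A[X]) = monomial N x)
    (hx : x ∈ Submodule.span K (b '' {e | ν e < N})) : f ∈ I0 h := by
  cases N with
  | zero =>
    have : {e | ν e < 0} = (∅ : Set ι) := by
      ext e; simp
    rw [this, Set.image_empty, Submodule.span_empty, Submodule.mem_bot] at hx
    have hf0 : f = 0 := by
      apply Subtype.ext
      rw [hf, hx, map_zero]
      rfl
    rw [hf0]
    exact Ideal.zero_mem _
  | succ N' =>
    have hx' : x ∈ Fil b ν N' := by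
      unfold Fil
      refine Submodule.span_mono ?_ hx
      apply Set.image_mono
      intro e he
      exact Nat.lt_succ_iff.mp he
    rw [Ideal.mem_span_singleton]
    refine ⟨⟨monomial N' x, monomial_mem_rees h N' x hx'⟩, ?_⟩
    apply Subtype.ext
    rw [hf]
    show _ = (algebraMap K[X] A[X] X) * monomial N' x
    rw [Polynomial.algebraMap_def, coe_mapRingHom, map_X, ← pow_one (X : A[X]), X_pow_mul_monomial]

theorem prod_monomial {κ : Type*} (s : Finset κ) (nn : κ → ℕ) (a : κ → A) :
    ∏ k ∈ s, (monomial (nn k) (a k) : A[X]) = monomial (∑ k ∈ s, nn k) (∏ k ∈ s, a k) := by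
  classical
  induction s using Finset.induction_on with
  | empty => simp
  | insert k s hk ih =>
    rw [Finset.prod_insert hk, Finset.sum_insert hk, Finset.prod_insert hk, ih, monomial_mul_monomial]

theorem coe_prod_rees {κ : Type*} (s : Finset κ) (g : κ → rees h) :
    ((∏ k ∈ s, g k : rees h) : A[X]) = ∏ k ∈ s, (g k : A[X]) :=
  map_prod (rees h).val g s

end Extra

end Groth.Agent.Lib.Helper25.Rees
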