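import Mathlib
import Groth.Prelude.Def_W4bk4grassmannianPl
import Groth.Agent.Lib.Helper24Grass
import Groth.Agent.Lib.Helper25GrassSMT
import Groth.Agent.Lib.Helper25GrassRefine
import Groth.Agent.Lib.Helper25Rees

/-!
# Degeneration of the cone over a Schubert variety to the Stanley–Reisner ring (helper25)
-/

noncomputable section

open MvPolynomial W4bk4grassmannian Groth.Agent.Lib.Helper24Grass

namespace Groth.Agent.Lib.Helper25.Grass

universe u

variable (K : Type u) [Field K] {d n : ℕ}

/-- standard chains below `w` -/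
abbrev StdBelow (w : Idx d n) : Type := {c : AllChains d n // ∀ k, c.2.1 k ≤ w}

/-- the homogeneous coordinate ring of the Schubert variety -/
abbrev CoordRing (w : Idx d n) : Type u := PlRing K d n ⧸ schubertVanishing K d n w

/-- the standard monomials -/
def stdMon (w : Idx d n) (c : StdBelow w) : CoordRing K w :=
  Ideal.Quotient.mk (schubertVanishing K d n w) (chainMon K c.1.2.1)

theorem mk_smul_coord (w : Idx d n) (a : K) (p : PlRing K d n) :
    Ideal.Quotient.mk (schubertVanishing K d n w) (a • p) =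
      a • Ideal.Quotient.mk (schubertVanishing K d n w) p :=
  map_smul (Ideal.Quotient.mkₐ K (schubertVanishing K d n w)) a p

theorem stdMon_li [Infinite K] (hd : 0 < d) (w : Idx d n) : LinearIndependent K (stdMon K w) := by
  classical
  rw [linearIndependent_iff']
  intro s g hsum c hc
  have hmem : ∑ c ∈ s, g c • chainMon K c.1.2.1 ∈ schubertVanishing K d n w := by
    rw [← Ideal.Quotient.eq_zero_iff_mem, map_sum, ← hsum]
    apply Finset.sum_congr rfl
    intro c _
    rw [mk_smul_coord]
    rfl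
  refine core_indep K hd w (fun c : StdBelow w => c.1.1) (fun c => c.1.2.1) (fun c => c.1.2.2) ?_
    s g hmem c hc c.2
  intro i i' h
  exact Subtype.ext (allChains_inj i.1 i'.1 h)

theorem stdMon_span (w : Idx d n) : ⊤ ≤ Submodule.span K (Set.range (stdMon K w)) := by
  classical
  rintro q -
  obtain ⟨F, rfl⟩ := Ideal.Quotient.mk_surjective q
  obtain ⟨s, a, hs, hFs⟩ := straighten K (schubertVanishing K d n w) (plIdealTop_le_schubert K w)
    (fun c => ∀ k, c.2.1 k ≤ w) (by
      intro c hc
      push Not at hc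
      obtain ⟨k, hk⟩ := hc
      exact chainMon_mem_of_mem K _ c.2.1 k (X_mem_schubert K w _ hk)) F
  rw [← Ideal.Quotient.mk_eq_mk_iff_sub_mem] at hFs
  rw [hFs, map_sum]
  refine Submodule.sum_mem _ (fun c hc => ?_)
  rw [mk_smul_coord]
  exact Submodule.smul_mem _ _ (Submodule.subset_span ⟨⟨c, hs c hc⟩, rfl⟩)

/-- the standard monomial basis of the coordinate ring of a Schubert variety -/
def stdBasis [Infinite K] (hd : 0 < d) (w : Idx d n) : Module.Basis (StdBelow w) K (CoordRing K w) :=
  Module.Basis.mk (stdMon_li K hd w) (stdMon_span K w)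

theorem stdBasis_apply [Infinite K] (hd : 0 < d) (w : Idx d n) (c : StdBelow w) :
    stdBasis K hd w c = Ideal.Quotient.mk (schubertVanishing K d n w) (chainMon K c.1.2.1) := by
  unfold stdBasis
  rw [Module.Basis.mk_apply]
  rfl

/-- the weight of a standard monomial: `m * 2^(d n) - pot` -/
def nuSR (w : Idx d n) (c : StdBelow w) : ℕ := c.1.1 * 2 ^ (d * n) - pot c.1.2.1

/-- images of refined spans -/
theorem mk_mem_of_StdP [Infinite K] (hd : 0 < d) (w : Idx d n) {m N : ℕ} (p : PlRing K d n)
    (hp : Ideal.Quotient.mk (plIdealTop (d := d) (n := n) K) p ∈ StdP K d n m N) :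
    Ideal.Quotient.mk (schubertVanishing K d n w) p ∈
      Submodule.span K (stdBasis K hd w '' {e | e.1.1 = m ∧ N ≤ pot e.1.2.1}) := by
  classical
  set L : (PlRing K d n ⧸ plIdealTop (d := d) (n := n) K) →ₗ[K] CoordRing K w :=
    (Ideal.Quotient.factorₐ K (plIdealTop_le_schubert K w)).toLinearMap with hL
  have hLmk : ∀ q : PlRing K d n, L (Ideal.Quotient.mk _ q) = Ideal.Quotient.mk _ q := by
    intro q
    rfl
  rw [← hLmk p]
  have hmap : Submodule.map L (StdP K d n m N) ≤
      Submodule.span K (stdBasis K hd w '' {e | e.1.1 = m ∧ N ≤ pot e.1.2.1}) := by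
    unfold StdP
    rw [Submodule.map_span, Submodule.span_le]
    rintro _ ⟨q, ⟨e, he, hN, rfl⟩, rfl⟩
    rw [hLmk]
    by_cases hw : ∀ k, e k ≤ w
    · apply Submodule.subset_span
      refine ⟨⟨⟨m, ⟨e, he⟩⟩, hw⟩, ⟨rfl, hN⟩, ?_⟩
      rw [stdBasis_apply]
    · push Not at hw
      obtain ⟨k, hk⟩ := hw
      have : Ideal.Quotient.mk (schubertVanishing K d n w) (chainMon K e) = 0 := by
        rw [Ideal.Quotient.eq_zero_iff_mem]
        exact chainMon_mem_of_mem K _ e k (X_mem_schubert K w _ hk)
      rw [SetLike.mem_coe, this]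
      exact Submodule.zero_mem _
  exact hmap (Submodule.mem_map_of_mem hp)

theorem mk_chainMon_mem_Fil [Infinite K] (hd : 0 < d) (w : Idx d n) {m : ℕ} (c : Fin m → Idx d n) :
    Ideal.Quotient.mk (schubertVanishing K d n w) (chainMon K c) ∈
      Rees.Fil (stdBasis K hd w) (nuSR w) (m * 2 ^ (d * n) - pot c) := by
  have h1 := mk_mem_of_StdP K hd w (chainMon K c) (refined K c).1
  unfold Rees.Fil
  refine Submodule.span_mono ?_ h1
  apply Set.image_mono
  rintro e ⟨he1, he2⟩
  show nuSR w e ≤ _
  unfold nuSR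
  have hm : e.1.1 * 2 ^ (d * n) = m * 2 ^ (d * n) := congrArg (· * 2 ^ (d * n)) he1
  omega

theorem mk_chainMon_mem_strict [Infinite K] (hd : 0 < d) (w : Idx d n) {m : ℕ} (c : Fin m → Idx d n)
    (hc : ¬ IsChainFam c) :
    Ideal.Quotient.mk (schubertVanishing K d n w) (chainMon K c) ∈
      Submodule.span K (stdBasis K hd w '' {e | nuSR w e < m * 2 ^ (d * n) - pot c}) := by
  have h1 := mk_mem_of_StdP K hd w (chainMon K c) ((refined K c).2 hc)
  refine Submodule.span_mono ?_ h1
  apply Set.image_mono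
  rintro e ⟨he1, he2⟩
  show nuSR w e < _
  unfold nuSR
  have hm : e.1.1 * 2 ^ (d * n) = m * 2 ^ (d * n) := congrArg (· * 2 ^ (d * n)) he1
  have := pot_le e.1.2.1
  omega

theorem chainMon_append {m m' : ℕ} (c : Fin m → Idx d n) (c' : Fin m' → Idx d n) :
    chainMon K (Fin.append c c') = chainMon K c * chainMon K c' := by
  unfold chainMon
  rw [Fin.prod_univ_add]
  simp only [Fin.append_left, Fin.append_right]

theorem pot_append {m m' : ℕ} (c : Fin m → Idx d n) (c' : Fin m' → Idx d n) :
    pot (Fin.append c c') = pot c + pot c' := by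
  unfold pot
  rw [Fin.sum_univ_add]
  simp only [Fin.append_left, Fin.append_right]

theorem compat_SR [Infinite K] (hd : 0 < d) (w : Idx d n) :
    Rees.Compat (stdBasis K hd w) (nuSR w) where
  one_mem := by
    have h0 := mk_chainMon_mem_Fil K hd w (Fin.elim0 : Fin 0 → Idx d n)
    have e1 : chainMon K (Fin.elim0 : Fin 0 → Idx d n) = 1 := by
      unfold chainMon; simp
    rw [e1, map_one] at h0
    have e2 : 0 * 2 ^ (d * n) - pot (Fin.elim0 : Fin 0 → Idx d n) = 0 := by simp
    rw [e2] at h0
    exact h0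
  mul_mem := by
    intro c c'
    rw [stdBasis_apply, stdBasis_apply, ← map_mul, ← chainMon_append]
    have h0 := mk_chainMon_mem_Fil K hd w (Fin.append c.1.2.1 c'.1.2.1)
    refine Rees.Fil_mono _ _ ?_ h0
    rw [pot_append]
    unfold nuSR
    have h1 := pot_le c.1.2.1
    have h2 := pot_le c'.1.2.1
    rw [Nat.add_mul]
    omega

section Generic

/-- products of variables span a polynomial ring -/
theorem span_prod_X_eq_top (σ : Type*) :
    Submodule.span K {p : MvPolynomial σ K | ∃ (m : ℕ) (θs : Fin m → σ), p = ∏ k, X (θs k)} = ⊤ := by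
  rw [eq_top_iff]
  rintro p -
  induction p using MvPolynomial.induction_on with
  | C a =>
    have : (C a : MvPolynomial σ K) = a • ∏ k, X ((Fin.elim0 : Fin 0 → σ) k) := by
      simp [Algebra.smul_def]
    rw [this]
    exact Submodule.smul_mem _ _ (Submodule.subset_span ⟨0, _, rfl⟩)
  | add p q hp hq => exact Submodule.add_mem _ hp hq
  | mul_X p θ hp =>
    induction hp using Submodule.span_induction with
    | mem x hx =>
      obtain ⟨m, c, rfl⟩ := hx
      refine Submodule.subset_span ⟨m + 1, Fin.snoc c θ, ?_⟩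
      rw [Fin.prod_univ_castSucc]
      simp
    | zero => rw [zero_mul]; exact Submodule.zero_mem _
    | add x y _ _ hx hy => rw [add_mul]; exact Submodule.add_mem _ hx hy
    | smul a x _ hx => rw [smul_mul_assoc]; exact Submodule.smul_mem _ _ hx

end Generic

section SR

attribute [local instance] Polynomial.algebra

variable [Infinite K] (hd : 0 < d) (w : Idx d n)

/-- the one-element chain -/
def chain1 (θ : Below w) : StdBelow w :=
  ⟨⟨1, ⟨fun _ => θ.1, fun _ _ _ => le_refl _⟩⟩, fun _ => θ.2⟩

/-- the underlying family of indices -/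
def famIdx {m : ℕ} (θs : Fin m → Below w) : Fin m → Idx d n := fun k => (θs k).1

theorem nuSR_chain1 (θ : Below w) : nuSR w (chain1 w θ) = 2 ^ (d * n) - 2 ^ wt θ.1.1 := by
  unfold nuSR chain1 pot
  simp

theorem stdBasis_chain1 (θ : Below w) :
    stdBasis K hd w (chain1 w θ) = Ideal.Quotient.mk (schubertVanishing K d n w) (X θ.1) := by
  rw [stdBasis_apply]
  unfold chain1 chainMon
  simp

theorem coe_prod_reesGen_chain1 {m : ℕ} (θs : Fin m → Below w) :
    ((∏ k, Rees.reesGen (compat_SR K hd w) (chain1 w (θs k)) : Rees.rees (compat_SR K hd w)) :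
        Polynomial (CoordRing K w)) =
      Polynomial.monomial (m * 2 ^ (d * n) - pot (famIdx w θs))
        (Ideal.Quotient.mk (schubertVanishing K d n w) (chainMon K (famIdx w θs))) := by
  rw [Rees.coe_prod_rees]
  simp only [Rees.coe_reesGen]
  rw [Rees.prod_monomial]
  congr 1
  · simp only [nuSR_chain1]
    rw [Finset.sum_tsub_distrib]
    · simp only [Finset.sum_const, Finset.card_univ, Fintype.card_fin, smul_eq_mul]
      rfl
    · intro k _
      exact Nat.pow_le_pow_right (by norm_num) (wt_le _)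
  · simp only [stdBasis_chain1]
    unfold chainMon
    rw [map_prod]
    rfl

/-- the map from the polynomial ring on `H(w)` to the special fibre -/
def psi0 : MvPolynomial (Below w) K →ₐ[K]
    (Rees.rees (compat_SR K hd w) ⧸ Rees.I0 (compat_SR K hd w)) :=
  MvPolynomial.aeval fun θ : Below w =>
    Ideal.Quotient.mk (Rees.I0 (compat_SR K hd w)) (Rees.reesGen (compat_SR K hd w) (chain1 w θ))

theorem psi0_prod {m : ℕ} (θs : Fin m → Below w) :
    psi0 K hd w (∏ k, X (θs k)) = Ideal.Quotient.mk (Rees.I0 (compat_SR K hd w))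
      (∏ k, Rees.reesGen (compat_SR K hd w) (chain1 w (θs k))) := by
  unfold psi0
  rw [map_prod, map_prod]
  apply Finset.prod_congr rfl
  intro k _
  rw [aeval_X]

theorem psi0_srIdeal (a : MvPolynomial (Below w) K) (ha : a ∈ srIdeal K w) : psi0 K hd w a = 0 := by
  have hle : srIdeal K w ≤ RingHom.ker (psi0 K hd w).toRingHom := by
    unfold srIdeal
    rw [Ideal.span_le]
    rintro f ⟨a, b, hab, hba, rfl⟩
    rw [SetLike.mem_coe, RingHom.mem_ker]
    show psi0 K hd w (X a * X b) = 0
    have e : (X a * X b : MvPolynomial (Below w) K) = ∏ k, X ((![a, b] : Fin 2 → Below w) k) := by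
      rw [Fin.prod_univ_two]; rfl
    rw [e, psi0_prod, Ideal.Quotient.eq_zero_iff_mem]
    apply Rees.mem_I0_of_monomial (compat_SR K hd w) _ _ _ (coe_prod_reesGen_chain1 K hd w ![a, b])
    apply mk_chainMon_mem_strict K hd w
    intro hch
    rcases hch 0 1 with h | h
    · exact hab h
    · exact hba h
  exact hle ha

/-- the map from the Stanley–Reisner ring to the special fibre -/
def psiSR : (MvPolynomial (Below w) K ⧸ srIdeal K w) →ₐ[K]
    (Rees.rees (compat_SR K hd w) ⧸ Rees.I0 (compat_SR K hd w)) :=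
  Ideal.Quotient.liftₐ (srIdeal K w) (psi0 K hd w) (psi0_srIdeal K hd w)

/-- chain monomials in the Stanley–Reisner ring -/
def ySR (c : StdBelow w) : MvPolynomial (Below w) K ⧸ srIdeal K w :=
  Ideal.Quotient.mk (srIdeal K w) (∏ k, X (⟨c.1.2.1 k, c.2 k⟩ : Below w))

theorem psiSR_ySR (c : StdBelow w) :
    psiSR K hd w (ySR K w c) = Ideal.Quotient.mk (Rees.I0 (compat_SR K hd w))
      (Rees.reesGen (compat_SR K hd w) c) := by
  unfold psiSR ySR
  rw [Ideal.Quotient.liftₐ_apply, Ideal.Quotient.lift_mk]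
  show psi0 K hd w _ = _
  rw [psi0_prod]
  congr 1
  apply Subtype.ext
  rw [coe_prod_reesGen_chain1, Rees.coe_reesGen, stdBasis_apply]
  rfl

theorem ySR_span : Submodule.span K (Set.range (ySR K w)) = ⊤ := by
  classical
  rw [eq_top_iff]
  rintro q -
  obtain ⟨p, rfl⟩ := Ideal.Quotient.mk_surjective q
  have hp : p ∈ Submodule.span K {p : MvPolynomial (Below w) K |
      ∃ (m : ℕ) (θs : Fin m → Below w), p = ∏ k, X (θs k)} := by
    rw [span_prod_X_eq_top]; trivial
  have hsm : ∀ (a : K) (p : MvPolynomial (Below w) K),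
      Ideal.Quotient.mk (srIdeal K w) (a • p) = a • Ideal.Quotient.mk (srIdeal K w) p := by
    intro a p
    exact map_smul (Ideal.Quotient.mkₐ K (srIdeal K w)) a p
  induction hp using Submodule.span_induction with
  | mem x hx =>
    obtain ⟨m, θs, rfl⟩ := hx
    by_cases hch : IsChainFam (famIdx w θs)
    · obtain ⟨σ, hσ⟩ := sortable (famIdx w θs) hch
      refine Submodule.subset_span ⟨⟨⟨m, ⟨famIdx w θs ∘ σ, hσ⟩⟩, fun k => (θs (σ k)).2⟩, ?_⟩
      unfold ySR
      congr 1
      exact Equiv.prod_comp σ (fun k => (X (θs k) : MvPolynomial (Below w) K))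
    · unfold IsChainFam at hch
      push Not at hch
      obtain ⟨k₁, k₂, h1, h2⟩ := hch
      have hk : k₁ ≠ k₂ := by
        rintro rfl; exact h1 (le_refl _)
      have hmem : (∏ k, X (θs k) : MvPolynomial (Below w) K) ∈ srIdeal K w := by
        rw [prod_split _ k₁ k₂ hk]
        apply Ideal.mul_mem_right
        exact Ideal.subset_span ⟨θs k₁, θs k₂, h1, h2, rfl⟩
      rw [Ideal.Quotient.eq_zero_iff_mem.mpr hmem]
      exact Submodule.zero_mem _
  | zero => rw [map_zero]; exact Submodule.zero_mem _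
  | add x y _ _ hx hy => rw [map_add]; exact Submodule.add_mem _ hx hy
  | smul a x _ hx => rw [hsm]; exact Submodule.smul_mem _ _ hx

theorem psiSR_bijective : Function.Bijective (psiSR K hd w) :=
  Rees.fibre0_bijective (compat_SR K hd w) (psiSR K hd w) (ySR K w) (ySR_span K w)
    (psiSR_ySR K hd w)

include hd in
/-- degeneration to the Stanley–Reisner ring -/
theorem degen_SR :
    ∃ (R : Type u) (_ : CommRing R) (_ : Algebra K R) (_ : Algebra (Polynomial K) R)
      (_ : IsScalarTower K (Polynomial K) R),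
      Module.Free (Polynomial K) R ∧
      Nonempty ((R ⧸ Ideal.span {algebraMap (Polynomial K) R Polynomial.X}) ≃ₐ[K]
        (MvPolynomial (Below w) K ⧸ srIdeal K w)) ∧
      ∀ c : K, c ≠ 0 →
        Nonempty ((R ⧸ Ideal.span {algebraMap (Polynomial K) R (Polynomial.X - Polynomial.C c)}) ≃ₐ[K]
          (PlRing K d n ⧸ schubertVanishing K d n w)) :=
  ⟨Rees.rees (compat_SR K hd w), inferInstance, inferInstance, inferInstance, inferInstance,
    Rees.rees_free _, ⟨(AlgEquiv.ofBijective (psiSR K hd w) (psiSR_bijective K hd w)).symm⟩,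
    fun c hc => ⟨Rees.fibreEquiv _ c hc⟩⟩

end SR

end Groth.Agent.Lib.Helper25.Grass
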