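import Mathlib
import Groth.Prelude.Def_W4bk4grassmannianPl
import Groth.Agent.Lib.Helper16Plucker
import Groth.Agent.Lib.Helper25GrassSMT
import Groth.Agent.Lib.Helper25GrassLead2

/-!
# Shape of the straightening relation of a skew pair (helper25)
-/

noncomputable section

open MvPolynomial W4bk4grassmannian

namespace Groth.Agent.Lib.Helper25.Grass

variable {d n : ℕ}

/-- row weight of a variable -/
def rowW : Var d n → (Fin n → ℕ) := fun v => Pi.single (ofLex v).2 1

/-- indicator weight of a tuple of rows -/
def ind (a : Fin d → Fin n) : Fin n → ℕ := ∑ t, Pi.single (a t) 1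

theorem weight_expo (a : Fin d → Fin n) : Finsupp.weight (rowW (d := d) (n := n)) (expo a) = ind a := by
  unfold expo ind
  rw [map_sum]
  apply Finset.sum_congr rfl
  intro t _
  rw [Finsupp.weight_single, one_smul]
  rfl

theorem ind_comp_perm (a : Fin d → Fin n) (σ : Equiv.Perm (Fin d)) :
    ind (fun t => a (σ t)) = ind a := by
  unfold ind
  exact Equiv.sum_comp σ (fun t => (Pi.single (a t) 1 : Fin n → ℕ))

theorem ind_apply (a : Fin d → Fin n) (r : Fin n) :
    ind a r = (Finset.univ.filter (fun t => a t = r)).card := by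
  unfold ind
  rw [Finset.sum_apply, Finset.card_filter]
  apply Finset.sum_congr rfl
  intro t _
  rw [Pi.single_apply]
  by_cases h : a t = r
  · rw [if_pos h.symm, if_pos h]
  · rw [if_neg (fun h' => h h'.symm), if_neg h]

theorem sum_ind (a : Fin d → Fin n) : ∑ r, ind a r = d := by
  unfold ind
  simp only [Finset.sum_apply]
  rw [Finset.sum_comm]
  simp [Pi.single_apply]

theorem ind_pos_iff (a : Fin d → Fin n) (r : Fin n) : 0 < ind a r ↔ r ∈ Finset.univ.image a := by
  rw [ind_apply, Finset.card_pos, Finset.mem_image]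
  constructor
  · rintro ⟨t, ht⟩
    rw [Finset.mem_filter] at ht
    exact ⟨t, Finset.mem_univ _, ht.2⟩
  · rintro ⟨t, _, ht⟩
    exact ⟨t, by rw [Finset.mem_filter]; exact ⟨Finset.mem_univ _, ht⟩⟩

theorem idx_eq_of_ind_eq (α β : Idx d n) (h : ind α.1 = ind β.1) : α = β := by
  apply Groth.Agent.Lib.Helper16Plucker.idx_ext
  unfold Groth.Agent.Lib.Helper16Plucker.img
  ext r
  rw [← ind_pos_iff, ← ind_pos_iff, h]

theorem ind_sup_inf (τ φ : Idx d n) :
    ind (W4bk4grassmannian.sup τ φ).1 + ind (W4bk4grassmannian.inf τ φ).1 = ind τ.1 + ind φ.1 := by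
  unfold ind W4bk4grassmannian.sup W4bk4grassmannian.inf
  simp only
  rw [← Finset.sum_add_distrib, ← Finset.sum_add_distrib]
  apply Finset.sum_congr rfl
  intro t _
  rcases le_total (τ.1 t) (φ.1 t) with h | h
  · rw [max_eq_right h, min_eq_left h, add_comm]
  · rw [max_eq_left h, min_eq_right h]

theorem expo_sup_inf (τ φ : Idx d n) :
    expo (W4bk4grassmannian.sup τ φ).1 + expo (W4bk4grassmannian.inf τ φ).1 = expo τ.1 + expo φ.1 := by
  unfold expo W4bk4grassmannian.sup W4bk4grassmannian.inf
  simp only
  rw [← Finset.sum_add_distrib, ← Finset.sum_add_distrib]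
  apply Finset.sum_congr rfl
  intro t _
  rcases le_total (τ.1 t) (φ.1 t) with h | h
  · rw [max_eq_right h, min_eq_left h, add_comm]
  · rw [max_eq_left h, min_eq_right h]

variable (K : Type*) [Field K]
variable (S : Fin n → Fin d → Prop) [∀ r t, Decidable (S r t)]

theorem minorS_homog (θ : Idx d n) :
    IsWeightedHomogeneous (rowW (d := d) (n := n)) ((shapedS K S).submatrix θ.1 id).det (ind θ.1) := by
  rw [minorS_eq]
  apply IsWeightedHomogeneous.sum
  intro σ _
  apply isWeightedHomogeneous_monomial
  rw [weight_expo, ind_comp_perm]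

/-- weight of a chain -/
def chainW {m : ℕ} (c : Fin m → Idx d n) : Fin n → ℕ := ∑ k, ind (c k).1

theorem evS_chainMon_homog {m : ℕ} (c : Fin m → Idx d n) :
    IsWeightedHomogeneous (rowW (d := d) (n := n)) (evS K S (chainMon K c)) (chainW c) := by
  rw [evS_chainMon]
  unfold chainW
  apply IsWeightedHomogeneous.prod
  intro k _
  exact minorS_homog K S (c k)

theorem sum_chainW {m : ℕ} (c : Fin m → Idx d n) : ∑ r, chainW c r = m * d := by
  unfold chainW
  simp only [Finset.sum_apply]
  rw [Finset.sum_comm]
  simp [sum_ind]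

section Main

open MonomialOrder

theorem plIdealTop_le_vanishing : plIdealTop (d := d) (n := n) K ≤ vanishing K d n := by
  unfold plIdealTop
  rw [Ideal.span_le]
  rintro f ⟨i, j, r, _, rfl⟩
  unfold vanishing
  rw [SetLike.mem_coe, Ideal.mem_iInf]
  intro A
  exact evalMinors_shuffleRel A i j r

theorem vanishing_le_schubert (w : Idx d n) : vanishing K d n ≤ schubertVanishing K d n w := by
  intro F hF
  rw [mem_schubert_iff]
  intro A _
  unfold vanishing at hF
  rw [Ideal.mem_iInf] at hF
  exact hF A

/-- the full shape -/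
def FullShape : Fin n → Fin d → Prop := fun _ _ => True

instance (r : Fin n) (t : Fin d) : Decidable (FullShape (d := d) (n := n) r t) := by
  unfold FullShape; infer_instance

theorem inShape_full (θ : Idx d n) : InShape (FullShape (d := d) (n := n)) θ := fun _ => trivial

/-- the lower shape above `β` -/
def LowerShape (β : Idx d n) : Fin n → Fin d → Prop := fun r t => β.1 t ≤ r

instance (β : Idx d n) (r : Fin n) (t : Fin d) : Decidable (LowerShape β r t) := by
  unfold LowerShape; infer_instance

theorem inShape_lower (β θ : Idx d n) : InShape (LowerShape β) θ ↔ β ≤ θ := Iff.rfl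

theorem pair_chainMon (α β : Idx d n) : chainMon K ![α, β] = X α * X β := by
  unfold chainMon
  rw [Fin.prod_univ_two]
  rfl

theorem pair_chainExpo (α β : Idx d n) : chainExpo ![α, β] = expo α.1 + expo β.1 := by
  unfold chainExpo
  rw [Fin.sum_univ_two]
  rfl

theorem pair_chainW (α β : Idx d n) : chainW ![α, β] = ind α.1 + ind β.1 := by
  unfold chainW
  rw [Fin.sum_univ_two]
  rfl

theorem chain_two_eq (c : Fin 2 → Idx d n) : c = ![c 0, c 1] := by
  funext k
  fin_cases k <;> rfl

theorem straightening_shape [Infinite K] (hd : 0 < d) (τ φ : Idx d n) (h₁ : ¬ τ ≤ φ) (h₂ : ¬ φ ≤ τ) :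
    ∃ g ∈ Submodule.span K {f : PlRing K d n | ∃ α β : Idx d n,
        β ≤ α ∧ W4bk4grassmannian.sup τ φ < α ∧ β < W4bk4grassmannian.inf τ φ ∧ f = X α * X β},
      X τ * X φ - X (W4bk4grassmannian.sup τ φ) * X (W4bk4grassmannian.inf τ φ) - g ∈
        vanishing K d n := by
  classical
  set sp := W4bk4grassmannian.sup τ φ with hsp
  set nf := W4bk4grassmannian.inf τ φ with hnf
  have hτsp : τ ≤ sp := fun t => le_max_left _ _
  have hφsp : φ ≤ sp := fun t => le_max_right _ _
  have hnfτ : nf ≤ τ := fun t => min_le_left _ _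
  have hnfφ : nf ≤ φ := fun t => min_le_right _ _
  set F' : PlRing K d n := X τ * X φ - X sp * X nf with hF'
  obtain ⟨s, a, _, hFs⟩ := straighten K (plIdealTop (d := d) (n := n) K) le_rfl
    (fun _ => True) (fun c hc => absurd trivial hc) F'
  have hGv : F' - ∑ c ∈ s, a c • chainMon K c.2.1 ∈ vanishing K d n := plIdealTop_le_vanishing K hFs
  -- evaluation on the full generic matrix
  have hev : ∀ (S : Fin n → Fin d → Prop) [∀ r t, Decidable (S r t)],
      ∑ c ∈ s, a c • evS K S (chainMon K c.2.1) = evS K S F' := by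
    intro S _
    have := evS_eq_zero_of_mem_vanishing K S _ hGv
    rw [map_sub, map_sum] at this
    simp only [map_smul] at this
    exact (sub_eq_zero.mp this).symm
  set W₀ : Fin n → ℕ := ind τ.1 + ind φ.1 with hW₀
  have hDhom : IsWeightedHomogeneous (rowW (d := d) (n := n)) (evS K FullShape F') W₀ := by
    rw [hF', map_sub]
    apply IsWeightedHomogeneous.sub
    · have := evS_chainMon_homog K FullShape ![τ, φ]
      rw [pair_chainMon, pair_chainW] at this
      exact this
    · have := evS_chainMon_homog K FullShape ![sp, nf]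
      rw [pair_chainMon, pair_chainW, ind_sup_inf] at this
      exact this
  -- Step 1: weights
  have hwt : ∀ c ∈ s, a c ≠ 0 → chainW c.2.1 = W₀ := by
    intro c₁ hc₁ ha₁
    by_contra hne
    have hcomp := congrArg (weightedHomogeneousComponent (rowW (d := d) (n := n)) W₀) (hev FullShape)
    rw [hDhom.weightedHomogeneousComponent_same, map_sum] at hcomp
    simp only [map_smul] at hcomp
    have hsub : ∑ c ∈ s.filter (fun c => ¬ chainW c.2.1 = W₀),
        a c • evS K FullShape (chainMon K c.2.1) = 0 := by
      have e1 : ∑ c ∈ s, a c • weightedHomogeneousComponent (rowW (d := d) (n := n)) W₀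
          (evS K FullShape (chainMon K c.2.1)) =
          ∑ c ∈ s.filter (fun c => chainW c.2.1 = W₀), a c • evS K FullShape (chainMon K c.2.1) := by
        rw [Finset.sum_filter]
        apply Finset.sum_congr rfl
        intro c _
        by_cases hc : chainW c.2.1 = W₀
        · rw [if_pos hc, ← hc, (evS_chainMon_homog K FullShape c.2.1).weightedHomogeneousComponent_same]
        · rw [if_neg hc, (evS_chainMon_homog K FullShape c.2.1).weightedHomogeneousComponent_ne W₀
            (fun h => hc h.symm), smul_zero]
      rw [e1] at hcomp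
      have e2 := Finset.sum_filter_add_sum_filter_not s (fun c => chainW c.2.1 = W₀)
        (fun c => a c • evS K FullShape (chainMon K c.2.1))
      rw [hcomp, hev FullShape] at e2
      exact add_eq_left.mp e2
    have := core_indepS K FullShape hd (fun c : AllChains d n => c.1) (fun c => c.2.1) (fun c => c.2.2)
      allChains_inj _ a (fun c _ hnot => absurd (fun k => inShape_full (c.2.1 k)) hnot) hsub c₁
      (by rw [Finset.mem_filter]; exact ⟨hc₁, hne⟩) (fun k => inShape_full _)
    exact ha₁ this
  -- the key claim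
  have key : ∀ c ∈ s, a c ≠ 0 → ∃ α β : Idx d n,
      β ≤ α ∧ sp < α ∧ β < nf ∧ chainMon K c.2.1 = X α * X β := by
    intro c₁ hc₁ ha₁
    have hw₁ := hwt c₁ hc₁ ha₁
    -- Step 2: length 2
    have hlen : c₁.1 = 2 := by
      have e1 := sum_chainW c₁.2.1
      rw [hw₁, hW₀] at e1
      simp only [Pi.add_apply, Finset.sum_add_distrib, sum_ind] at e1
      have : c₁.1 * d = 2 * d := by omega
      exact Nat.eq_of_mul_eq_mul_right hd this
    rcases c₁ with ⟨m, c, hanti⟩
    simp only at hlen
    subst hlen
    simp only at hw₁ ha₁ hc₁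
    set α := c 0 with hα
    set β := c 1 with hβ
    have hβα : β ≤ α := hanti (by decide : (0 : Fin 2) ≤ 1)
    have hc_eq : c = ![α, β] := chain_two_eq c
    have hbelow : ∀ k, c k ≤ α := fun k => hanti (Fin.zero_le k)
    have habove : ∀ k, β ≤ c k := fun k => hanti (by
      fin_cases k
      · decide
      · exact le_refl _)
    -- Step 3: upper bounds
    have hupper : ∀ ψ : Idx d n, ψ ≤ sp → (ψ = τ ∨ ψ = φ) → ψ ≤ α := by
      intro ψ hψsp hψ
      by_contra hnot
      have hXψ : (X ψ : PlRing K d n) ∈ schubertVanishing K d n α := X_mem_schubert K α ψ hnot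
      have hXsp : (X sp : PlRing K d n) ∈ schubertVanishing K d n α :=
        X_mem_schubert K α sp (fun h => hnot (le_trans hψsp h))
      have hF'J : F' ∈ schubertVanishing K d n α := by
        rw [hF']
        refine Ideal.sub_mem _ ?_ (Ideal.mul_mem_right _ _ hXsp)
        rcases hψ with rfl | rfl
        · exact Ideal.mul_mem_right _ _ hXψ
        · exact Ideal.mul_mem_left _ _ hXψ
      have hsum : ∑ c ∈ s, a c • chainMon K c.2.1 ∈ schubertVanishing K d n α := by
        have := (schubertVanishing K d n α).sub_mem hF'J (vanishing_le_schubert K α hGv)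
        rwa [sub_sub_cancel] at this
      exact ha₁ (core_indep' K hd α s a hsum _ hc₁ hbelow)
    have hτα : τ ≤ α := hupper τ hτsp (Or.inl rfl)
    have hφα : φ ≤ α := hupper φ hφsp (Or.inr rfl)
    -- Step 4: lower bounds
    have hlower : ∀ ψ : Idx d n, nf ≤ ψ → (ψ = τ ∨ ψ = φ) → β ≤ ψ := by
      intro ψ hnfψ hψ
      by_contra hnot
      have hlow : ∀ r t, LowerShape β r t → β.1 t ≤ r := fun r t h => h
      have hXψ : evS K (LowerShape β) (X ψ) = 0 := evS_X_of_lower K _ β hlow ψ hnot
      have hXnf : evS K (LowerShape β) (X nf) = 0 :=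
        evS_X_of_lower K _ β hlow nf (fun h => hnot (le_trans h hnfψ))
      have hF'0 : evS K (LowerShape β) F' = 0 := by
        rw [hF', map_sub, map_mul, map_mul, hXnf, mul_zero, sub_zero]
        rcases hψ with rfl | rfl
        · rw [hXψ, zero_mul]
        · rw [hXψ, mul_zero]
      have hsum := hev (LowerShape β)
      rw [hF'0] at hsum
      have := core_indepS K (LowerShape β) hd (fun c : AllChains d n => c.1) (fun c => c.2.1)
        (fun c => c.2.2) allChains_inj s a (by
          intro c _ hnot'
          push Not at hnot'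
          obtain ⟨k, hk⟩ := hnot'
          exact evS_chainMon_of_X_eq_zero K _ c.2.1 k (evS_X_of_lower K _ β hlow _ hk)) hsum _ hc₁
        (fun k => (inShape_lower β (c k)).mpr (habove k))
      exact ha₁ this
    have hβτ : β ≤ τ := hlower τ hnfτ (Or.inl rfl)
    have hβφ : β ≤ φ := hlower φ hnfφ (Or.inr rfl)
    have hspα : sp ≤ α := fun t => max_le (hτα t) (hφα t)
    have hβnf : β ≤ nf := fun t => le_min (hβτ t) (hβφ t)
    -- weights
    have hwind : ind α.1 + ind β.1 = ind sp.1 + ind nf.1 := by
      rw [ind_sup_inf, ← hW₀, ← hw₁, hc_eq, pair_chainW]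
    -- Step 6: exclude the main term
    have hne_sp : α ≠ sp := by
      intro hαsp
      have hβnf' : β = nf := by
        apply idx_eq_of_ind_eq
        rw [hαsp] at hwind
        exact add_left_cancel hwind
      obtain ⟨c₂, hc₂, ha₂, hle, hsupp⟩ := core_lead K FullShape hd (fun c : AllChains d n => c.1)
        (fun c => c.2.1) (fun c => c.2.2) allChains_inj s a (fun c _ k => inShape_full _)
        ⟨2, ⟨c, hanti⟩⟩ hc₁ ha₁
      rw [hev FullShape] at hsupp
      simp only at hle
      have hE₀ : chainExpo c = expo τ.1 + expo φ.1 := by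
        rw [hc_eq, pair_chainExpo, hαsp, hβnf', expo_sup_inf]
      rw [hE₀] at hle
      -- both products are monic of degree E₀
      have hm1 := evS_chainMon_monic K FullShape ![τ, φ] (fun k => inShape_full _)
      have hd1 := evS_chainMon_degree K FullShape ![τ, φ] (fun k => inShape_full _)
      have hm2 := evS_chainMon_monic K FullShape ![sp, nf] (fun k => inShape_full _)
      have hd2 := evS_chainMon_degree K FullShape ![sp, nf] (fun k => inShape_full _)
      rw [pair_chainMon] at hm1 hm2
      rw [pair_chainMon, pair_chainExpo] at hd1 hd2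
      rw [expo_sup_inf] at hd2
      set E₀ := expo τ.1 + expo φ.1 with hE₀'
      set e := chainExpo c₂.2.1 with he
      have hcoef : coeff e (evS K FullShape F') ≠ 0 := mem_support_iff.mp hsupp
      rw [hF', map_sub, coeff_sub] at hcoef
      -- e ≤ E₀
      have hle2 : toLex e ≤ toLex E₀ := by
        by_contra hgt
        push Not at hgt
        have z1 : coeff e (evS K FullShape (X τ * X φ)) = 0 := by
          apply coeff_eq_zero_of_lt (m := lex)
          rw [hd1]; exact hgt
        have z2 : coeff e (evS K FullShape (X sp * X nf)) = 0 := by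
          apply coeff_eq_zero_of_lt (m := lex)
          rw [hd2]; exact hgt
        rw [z1, z2, sub_zero] at hcoef
        exact hcoef rfl
      have heq : e = E₀ := toLex.injective (le_antisymm hle2 hle)
      have c1 : coeff E₀ (evS K FullShape (X τ * X φ)) = 1 := by
        have := hm1.coeff_degree
        rwa [hd1] at this
      have c2 : coeff E₀ (evS K FullShape (X sp * X nf)) = 1 := by
        have := hm2.coeff_degree
        rwa [hd2] at this
      rw [heq, c1, c2, sub_self] at hcoef
      exact hcoef rfl
    have hne_nf : β ≠ nf := by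
      intro hβnf'
      apply hne_sp
      apply idx_eq_of_ind_eq
      rw [hβnf'] at hwind
      exact add_right_cancel hwind
    refine ⟨α, β, hβα, lt_of_le_of_ne hspα (Ne.symm hne_sp), lt_of_le_of_ne hβnf hne_nf, ?_⟩
    show chainMon K c = X α * X β
    rw [hc_eq, pair_chainMon]
  refine ⟨∑ c ∈ s, a c • chainMon K c.2.1, ?_, hGv⟩
  refine Submodule.sum_mem _ (fun c hc => ?_)
  by_cases hac : a c = 0
  · rw [hac, zero_smul]; exact Submodule.zero_mem _
  · obtain ⟨α, β, h1, h2, h3, h4⟩ := key c hc hac
    exact Submodule.smul_mem _ _ (Submodule.subset_span ⟨α, β, h1, h2, h3, h4⟩)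

end Main

end Groth.Agent.Lib.Helper25.Grass
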