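import Mathlib
import Groth.Prelude.Def_W4bk4grassmannianPl
import Groth.Agent.Lib.Helper24Grass
import Groth.Agent.Lib.Helper25GrassSMT
import Groth.Agent.Lib.Helper25GrassLead2
import Groth.Agent.Lib.Helper25GrassShape
import Groth.Agent.Lib.Helper25GrassDegen
import Groth.Agent.Lib.Helper25Rees

/-!
# Toric degeneration of the cone over a Schubert variety to the Hibi ring (helper25)
-/

noncomputable section

open MvPolynomial W4bk4grassmannian Groth.Agent.Lib.Helper24Grass

namespace Groth.Agent.Lib.Helper25.Grass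

universe u

variable {d n : ℕ}

/-- the weight `column * row` of a matrix variable -/
def omg : Var d n → ℕ := fun v => (ofLex v).1.val * (ofLex v).2.val

/-- the weight of the diagonal monomial of a tuple of rows -/
def nuH (a : Fin d → Fin n) : ℕ := Finsupp.weight (omg (d := d) (n := n)) (expo a)

theorem nuH_eq (a : Fin d → Fin n) : nuH a = ∑ t : Fin d, t.val * (a t).val := by
  unfold nuH expo
  rw [map_sum]
  apply Finset.sum_congr rfl
  intro t _
  rw [Finsupp.weight_single, one_smul]
  rfl

theorem perm_eq_one_of_monovary (σ : Equiv.Perm (Fin d))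
    (h : ∀ a b : Fin d, a < b → σ.symm a < σ.symm b) : σ = 1 := by
  have hsm : StrictMono σ.symm := fun a b hab => h a b hab
  have hsm' : StrictMono σ := by
    intro a b hab
    by_contra hcon
    push Not at hcon
    have := hsm.monotone hcon
    rw [Equiv.symm_apply_apply, Equiv.symm_apply_apply] at this
    exact absurd hab (not_lt.mpr this)
  ext x
  have h1 : x ≤ σ x := hsm'.le_apply
  have h2 : σ x ≤ σ.symm (σ x) := hsm.le_apply
  rw [Equiv.symm_apply_apply] at h2
  rw [Equiv.Perm.one_apply]
  exact congrArg Fin.val (le_antisymm h2 h1)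

theorem nuH_comp_lt (θ : Idx d n) (σ : Equiv.Perm (Fin d)) (hσ : σ ≠ 1) :
    nuH (fun t => θ.1 (σ t)) < nuH θ.1 := by
  rw [nuH_eq, nuH_eq]
  have hmono : Monovary (fun t : Fin d => t.val) (fun t => (θ.1 t).val) := by
    intro i j hij
    have : θ.1 i < θ.1 j := hij
    exact le_of_lt (θ.2.lt_iff_lt.mp this)
  have := (hmono.sum_mul_comp_perm_lt_sum_mul_iff (σ := σ)).mpr (by
    intro hm
    apply hσ
    apply perm_eq_one_of_monovary
    intro a b hab
    have h1 : (fun t => (θ.1 t).val) (σ (σ.symm a)) < (fun t => (θ.1 t).val) (σ (σ.symm b)) := by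
      simp only [Equiv.apply_symm_apply]
      exact θ.2 hab
    have h2 : (σ.symm a).val ≤ (σ.symm b).val := hm h1
    refine lt_of_le_of_ne h2 ?_
    intro heq
    exact (ne_of_lt hab) (σ.symm.injective heq))
  exact this

variable (K : Type u) [Field K]

/-- a polynomial all of whose monomials have weight `≤ N`, the only one of weight `N` being `E`. -/
def TopW (p : MvPolynomial (Var d n) K) (N : ℕ) (E : Var d n →₀ ℕ) : Prop :=
  ∀ e ∈ p.support, Finsupp.weight (omg (d := d) (n := n)) e ≤ N ∧
    (Finsupp.weight (omg (d := d) (n := n)) e = N → e = E)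

theorem TopW.one : TopW K (1 : MvPolynomial (Var d n) K) 0 0 := by
  intro e he
  have : e = 0 := by
    by_contra hne
    rw [mem_support_iff, coeff_one, if_neg (fun h => hne h.symm)] at he
    exact he rfl
  subst this
  simp

variable {K}

theorem TopW.mul {p q : MvPolynomial (Var d n) K} {N N' : ℕ} {E E' : Var d n →₀ ℕ}
    (hp : TopW K p N E) (hq : TopW K q N' E') : TopW K (p * q) (N + N') (E + E') := by
  classical
  intro e he
  have h1 := MvPolynomial.support_mul p q he
  rw [Finset.mem_add] at h1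
  obtain ⟨e₁, he₁, e₂, he₂, rfl⟩ := h1
  obtain ⟨a1, a2⟩ := hp e₁ he₁
  obtain ⟨b1, b2⟩ := hq e₂ he₂
  rw [map_add]
  refine ⟨Nat.add_le_add a1 b1, fun heq => ?_⟩
  have h3 : Finsupp.weight (omg (d := d) (n := n)) e₁ = N := by omega
  have h4 : Finsupp.weight (omg (d := d) (n := n)) e₂ = N' := by omega
  rw [a2 h3, b2 h4]

theorem TopW.prod {κ : Type*} (s : Finset κ) (p : κ → MvPolynomial (Var d n) K) (N : κ → ℕ)
    (E : κ → Var d n →₀ ℕ) (h : ∀ k ∈ s, TopW K (p k) (N k) (E k)) :
    TopW K (∏ k ∈ s, p k) (∑ k ∈ s, N k) (∑ k ∈ s, E k) := by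
  classical
  induction s using Finset.induction_on with
  | empty => simpa using TopW.one K
  | insert k s hk ih =>
    rw [Finset.prod_insert hk, Finset.sum_insert hk, Finset.sum_insert hk]
    exact (h k (Finset.mem_insert_self k s)).mul (ih (fun j hj => h j (Finset.mem_insert_of_mem hj)))

variable (K)
variable (S : Fin n → Fin d → Prop) [∀ r t, Decidable (S r t)]

theorem topW_minor (θ : Idx d n) :
    TopW K ((shapedS K S).submatrix θ.1 id).det (nuH θ.1) (expo θ.1) := by
  classical
  intro e he
  rw [minorS_eq] at he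
  have h1 := MvPolynomial.support_sum he
  rw [Finset.mem_biUnion] at h1
  obtain ⟨σ, _, hσ⟩ := h1
  have h2 := MvPolynomial.support_monomial_subset hσ
  rw [Finset.mem_singleton] at h2
  rw [h2]
  by_cases h : σ = 1
  · subst h
    exact ⟨le_refl _, fun _ => rfl⟩
  · have hlt := nuH_comp_lt θ σ h
    unfold nuH at hlt
    exact ⟨le_of_lt hlt, fun heq => absurd heq (ne_of_lt hlt)⟩

/-- the Hibi weight of a family -/
def nuHfam {m : ℕ} (c : Fin m → Idx d n) : ℕ := ∑ k, nuH (c k).1

theorem nuHfam_eq_weight {m : ℕ} (c : Fin m → Idx d n) :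
    nuHfam c = Finsupp.weight (omg (d := d) (n := n)) (chainExpo c) := by
  unfold nuHfam chainExpo nuH
  rw [map_sum]

theorem topW_chainMon {m : ℕ} (c : Fin m → Idx d n) :
    TopW K (evS K S (chainMon K c)) (nuHfam c) (chainExpo c) := by
  rw [evS_chainMon]
  unfold nuHfam chainExpo
  exact TopW.prod Finset.univ _ _ _ (fun k _ => topW_minor K S (c k))

section Key

open MonomialOrder

variable (K : Type u) [Field K] [Infinite K] (hd : 0 < d) (w : Idx d n)

/-- the shape of the Schubert variety `X(w)` -/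
def UpperShape (w : Idx d n) : Fin n → Fin d → Prop := fun r t => r ≤ w.1 t

instance (w : Idx d n) (r : Fin n) (t : Fin d) : Decidable (UpperShape w r t) := by
  unfold UpperShape; infer_instance

theorem inShape_upper (w θ : Idx d n) : InShape (UpperShape w) θ ↔ θ ≤ w := Iff.rfl

/-- the Hibi weight of a standard monomial -/
def nuHc (c : StdBelow w) : ℕ := nuHfam c.1.2.1

theorem key_weight (F : PlRing K d n) (c₀ : StdBelow w)
    (hc₀ : (stdBasis K hd w).repr (Ideal.Quotient.mk (schubertVanishing K d n w) F) c₀ ≠ 0) :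
    ∃ e ∈ (evS K (UpperShape w) F).support,
      nuHc w c₀ ≤ Finsupp.weight (omg (d := d) (n := n)) e := by
  classical
  set b := stdBasis K hd w with hb
  set l := b.repr (Ideal.Quotient.mk (schubertVanishing K d n w) F) with hl
  have hsum : Ideal.Quotient.mk (schubertVanishing K d n w) F = ∑ c ∈ l.support, l c • b c := by
    have := b.linearCombination_repr (Ideal.Quotient.mk (schubertVanishing K d n w) F)
    rw [Finsupp.linearCombination_apply] at this
    exact this.symm
  have hmem : F - ∑ c ∈ l.support, l c • chainMon K c.1.2.1 ∈ schubertVanishing K d n w := by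
    rw [← Ideal.Quotient.mk_eq_mk_iff_sub_mem, hsum, map_sum]
    apply Finset.sum_congr rfl
    intro c _
    rw [mk_smul_coord, hb, stdBasis_apply]
  have hev : evS K (UpperShape w) F =
      ∑ c ∈ l.support, l c • evS K (UpperShape w) (chainMon K c.1.2.1) := by
    have := evS_eq_zero_of_mem_schubert K (UpperShape w) w (fun r t h => h) _ hmem
    rw [map_sub, map_sum] at this
    simp only [map_smul] at this
    exact sub_eq_zero.mp this
  have hc₀s : c₀ ∈ l.support := Finsupp.mem_support_iff.mpr hc₀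
  obtain ⟨c₁, hc₁, hmax⟩ := Finset.exists_max_image l.support (nuHc w) ⟨c₀, hc₀s⟩
  refine ⟨chainExpo c₁.1.2.1, ?_, ?_⟩
  · rw [mem_support_iff, hev, coeff_sum, Finset.sum_eq_single c₁]
    · rw [coeff_smul, smul_eq_mul]
      have hin : ∀ k, InShape (UpperShape w) (c₁.1.2.1 k) := fun k => c₁.2 k
      have hm := evS_chainMon_monic K (UpperShape w) c₁.1.2.1 hin
      have hdeg := evS_chainMon_degree K (UpperShape w) c₁.1.2.1 hin
      have hc1 : coeff (chainExpo c₁.1.2.1) (evS K (UpperShape w) (chainMon K c₁.1.2.1)) = 1 := by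
        have := hm.coeff_degree
        rwa [hdeg] at this
      rw [hc1, mul_one]
      exact Finsupp.mem_support_iff.mp hc₁
    · intro c hc hne
      rw [coeff_smul, smul_eq_mul]
      by_contra hcon
      have hsupp : chainExpo c₁.1.2.1 ∈ (evS K (UpperShape w) (chainMon K c.1.2.1)).support := by
        rw [mem_support_iff]
        intro h0
        rw [h0, mul_zero] at hcon
        exact hcon rfl
      obtain ⟨t1, t2⟩ := topW_chainMon K (UpperShape w) c.1.2.1 _ hsupp
      rw [← nuHfam_eq_weight] at t1 t2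
      have hle : nuHc w c ≤ nuHc w c₁ := hmax c hc
      have heq : chainExpo c₁.1.2.1 = chainExpo c.1.2.1 := t2 (le_antisymm t1 hle)
      apply hne
      have := chainExpo_injective hd c.1.2.1 c₁.1.2.1 c.1.2.2 c₁.1.2.2 heq.symm
      exact Subtype.ext (allChains_inj c.1 c₁.1 this)
    · intro h; exact absurd hc₁ h
  · rw [← nuHfam_eq_weight]
    exact hmax c₀ hc₀s

theorem mem_Fil_of_weight_le (F : PlRing K d n) (j : ℕ)
    (h : ∀ e ∈ (evS K (UpperShape w) F).support, Finsupp.weight (omg (d := d) (n := n)) e ≤ j) :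
    Ideal.Quotient.mk (schubertVanishing K d n w) F ∈ Rees.Fil (stdBasis K hd w) (nuHc w) j := by
  rw [Rees.mem_Fil_iff]
  intro c hc
  obtain ⟨e, he, hle⟩ := key_weight K hd w F c hc
  exact le_trans hle (h e he)

theorem mem_span_of_weight_lt (F : PlRing K d n) (j : ℕ)
    (h : ∀ e ∈ (evS K (UpperShape w) F).support, Finsupp.weight (omg (d := d) (n := n)) e < j) :
    Ideal.Quotient.mk (schubertVanishing K d n w) F ∈
      Submodule.span K (stdBasis K hd w '' {c | nuHc w c < j}) := by
  rw [Module.Basis.mem_span_image]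
  intro c hc
  obtain ⟨e, he, hle⟩ := key_weight K hd w F c (Finsupp.mem_support_iff.mp hc)
  exact lt_of_le_of_lt hle (h e he)

end Key

section Hibi

open MonomialOrder

attribute [local instance] Polynomial.algebra

variable (K : Type u) [Field K] [Infinite K] (hd : 0 < d) (w : Idx d n)

theorem weight_le_of_topW {p : MvPolynomial (Var d n) K} {N : ℕ} {E : Var d n →₀ ℕ}
    (hp : TopW K p N E) : ∀ e ∈ p.support, Finsupp.weight (omg (d := d) (n := n)) e ≤ N :=
  fun e he => (hp e he).1

theorem compat_H : Rees.Compat (stdBasis K hd w) (nuHc w) where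
  one_mem := by
    have := mem_Fil_of_weight_le K hd w (1 : PlRing K d n) 0 (by
      rw [map_one]
      exact weight_le_of_topW K (TopW.one K))
    rwa [map_one] at this
  mul_mem := by
    intro c c'
    rw [stdBasis_apply, stdBasis_apply, ← map_mul]
    apply mem_Fil_of_weight_le K hd w
    rw [map_mul]
    exact weight_le_of_topW K ((topW_chainMon K (UpperShape w) c.1.2.1).mul
      (topW_chainMon K (UpperShape w) c'.1.2.1))

theorem nuHfam_pair (α β : Idx d n) : nuHfam ![α, β] = nuH α.1 + nuH β.1 := by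
  unfold nuHfam
  rw [Fin.sum_univ_two]
  rfl

theorem nuH_sup_inf (α β : Idx d n) :
    nuH (W4bk4grassmannian.sup α β).1 + nuH (W4bk4grassmannian.inf α β).1 = nuH α.1 + nuH β.1 := by
  unfold nuH
  rw [← map_add, ← map_add, expo_sup_inf]

/-- the Hibi relation drops strictly in the filtration -/
theorem hibi_rel_mem (a b : Below w) :
    Ideal.Quotient.mk (schubertVanishing K d n w)
      (X a.1 * X b.1 - X (W4bk4grassmannian.sup a.1 b.1) * X (W4bk4grassmannian.inf a.1 b.1)) ∈
      Submodule.span K (stdBasis K hd w '' {c | nuHc w c < nuH a.1.1 + nuH b.1.1}) := by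
  classical
  apply mem_span_of_weight_lt K hd w
  set sp := W4bk4grassmannian.sup a.1 b.1 with hsp
  set nf := W4bk4grassmannian.inf a.1 b.1 with hnf
  have hspw : sp ≤ w := fun t => max_le (a.2 t) (b.2 t)
  have hnfw : nf ≤ w := fun t => le_trans (min_le_left _ _) (a.2 t)
  set E₀ := expo a.1.1 + expo b.1.1 with hE₀
  set N := nuH a.1.1 + nuH b.1.1 with hN
  have hin1 : ∀ k, InShape (UpperShape w) ((![a.1, b.1] : Fin 2 → Idx d n) k) := by
    intro k; fin_cases k
    · exact a.2
    · exact b.2
  have hin2 : ∀ k, InShape (UpperShape w) ((![sp, nf] : Fin 2 → Idx d n) k) := by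
    intro k; fin_cases k
    · exact hspw
    · exact hnfw
  have t1 := topW_chainMon K (UpperShape w) ![a.1, b.1]
  have t2 := topW_chainMon K (UpperShape w) ![sp, nf]
  have hm1 := evS_chainMon_monic K (UpperShape w) ![a.1, b.1] hin1
  have hd1 := evS_chainMon_degree K (UpperShape w) ![a.1, b.1] hin1
  have hm2 := evS_chainMon_monic K (UpperShape w) ![sp, nf] hin2
  have hd2 := evS_chainMon_degree K (UpperShape w) ![sp, nf] hin2
  rw [pair_chainMon] at t1 t2 hm1 hm2 hd1 hd2
  rw [pair_chainExpo] at t1 t2 hd1 hd2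
  rw [nuHfam_pair] at t1 t2
  rw [expo_sup_inf] at t2 hd2
  rw [nuH_sup_inf] at t2
  have c1 : coeff E₀ (evS K (UpperShape w) (X a.1 * X b.1)) = 1 := by
    have := hm1.coeff_degree
    rwa [hd1] at this
  have c2 : coeff E₀ (evS K (UpperShape w) (X sp * X nf)) = 1 := by
    have := hm2.coeff_degree
    rwa [hd2] at this
  intro e he
  rw [map_sub] at he
  have hne : e ≠ E₀ := by
    intro heq
    rw [mem_support_iff, coeff_sub, heq, c1, c2, sub_self] at he
    exact he rfl
  have hmem := MvPolynomial.support_sub _ _ _ he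
  rw [Finset.mem_union] at hmem
  rcases hmem with h | h
  · obtain ⟨u1, u2⟩ := t1 e h
    exact lt_of_le_of_ne u1 (fun heq => hne (u2 heq))
  · obtain ⟨u1, u2⟩ := t2 e h
    exact lt_of_le_of_ne u1 (fun heq => hne (u2 heq))

theorem nuHc_chain1 (θ : Below w) : nuHc w (chain1 w θ) = nuH θ.1.1 := by
  unfold nuHc nuHfam chain1
  simp

theorem stdBasis_chain1' (θ : Below w) :
    stdBasis K hd w (chain1 w θ) = Ideal.Quotient.mk (schubertVanishing K d n w) (X θ.1) := by
  rw [stdBasis_apply]
  unfold chain1 chainMon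
  simp

theorem coe_prod_reesGen_chain1_H {m : ℕ} (θs : Fin m → Below w) :
    ((∏ k, Rees.reesGen (compat_H K hd w) (chain1 w (θs k)) : Rees.rees (compat_H K hd w)) :
        Polynomial (CoordRing K w)) =
      Polynomial.monomial (nuHfam (famIdx w θs))
        (Ideal.Quotient.mk (schubertVanishing K d n w) (chainMon K (famIdx w θs))) := by
  rw [Rees.coe_prod_rees]
  simp only [Rees.coe_reesGen]
  rw [Rees.prod_monomial]
  have e1 : ∑ k, nuHc w (chain1 w (θs k)) = nuHfam (famIdx w θs) := by
    simp only [nuHc_chain1]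
    rfl
  have e2 : ∏ k, stdBasis K hd w (chain1 w (θs k)) =
      Ideal.Quotient.mk (schubertVanishing K d n w) (chainMon K (famIdx w θs)) := by
    simp only [stdBasis_chain1']
    unfold chainMon
    rw [map_prod]
    rfl
  rw [e1, e2]

/-- the map from the polynomial ring on `H(w)` to the special fibre -/
def psi0H : MvPolynomial (Below w) K →ₐ[K]
    (Rees.rees (compat_H K hd w) ⧸ Rees.I0 (compat_H K hd w)) :=
  MvPolynomial.aeval fun θ : Below w =>
    Ideal.Quotient.mk (Rees.I0 (compat_H K hd w)) (Rees.reesGen (compat_H K hd w) (chain1 w θ))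

theorem psi0H_prod {m : ℕ} (θs : Fin m → Below w) :
    psi0H K hd w (∏ k, X (θs k)) = Ideal.Quotient.mk (Rees.I0 (compat_H K hd w))
      (∏ k, Rees.reesGen (compat_H K hd w) (chain1 w (θs k))) := by
  unfold psi0H
  rw [map_prod, map_prod]
  apply Finset.prod_congr rfl
  intro k _
  rw [aeval_X]

theorem psi0H_hibiIdeal (p : MvPolynomial (Below w) K) (hp : p ∈ hibiIdeal K w) :
    psi0H K hd w p = 0 := by
  have hle : hibiIdeal K w ≤ RingHom.ker (psi0H K hd w).toRingHom := by
    unfold hibiIdeal
    rw [Ideal.span_le]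
    rintro f ⟨a, b, rfl⟩
    rw [SetLike.mem_coe, RingHom.mem_ker]
    show psi0H K hd w (X a * X b - X (Below.sup a b) * X (Below.inf a b)) = 0
    have e1 : (X a * X b : MvPolynomial (Below w) K) = ∏ k, X ((![a, b] : Fin 2 → Below w) k) := by
      rw [Fin.prod_univ_two]; rfl
    have e2 : (X (Below.sup a b) * X (Below.inf a b) : MvPolynomial (Below w) K) =
        ∏ k, X ((![Below.sup a b, Below.inf a b] : Fin 2 → Below w) k) := by
      rw [Fin.prod_univ_two]; rfl
    rw [map_sub, e1, e2, psi0H_prod, psi0H_prod, ← map_sub, Ideal.Quotient.eq_zero_iff_mem]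
    apply Rees.mem_I0_of_monomial (compat_H K hd w) _ (nuH a.1.1 + nuH b.1.1)
      (Ideal.Quotient.mk (schubertVanishing K d n w)
        (X a.1 * X b.1 - X (W4bk4grassmannian.sup a.1 b.1) * X (W4bk4grassmannian.inf a.1 b.1)))
    · rw [Subalgebra.coe_sub, coe_prod_reesGen_chain1_H, coe_prod_reesGen_chain1_H]
      have f1 : famIdx w ![a, b] = ![a.1, b.1] := by
        funext k; fin_cases k <;> rfl
      have f2 : famIdx w ![Below.sup a b, Below.inf a b] =
          ![W4bk4grassmannian.sup a.1 b.1, W4bk4grassmannian.inf a.1 b.1] := by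
        funext k; fin_cases k <;> rfl
      rw [f1, f2, nuHfam_pair, nuHfam_pair, nuH_sup_inf, pair_chainMon, pair_chainMon, ← map_sub,
        ← map_sub]
    · exact hibi_rel_mem K hd w a b
  exact hle hp

/-- the map from the Hibi ring to the special fibre -/
def psiH : (MvPolynomial (Below w) K ⧸ hibiIdeal K w) →ₐ[K]
    (Rees.rees (compat_H K hd w) ⧸ Rees.I0 (compat_H K hd w)) :=
  Ideal.Quotient.liftₐ (hibiIdeal K w) (psi0H K hd w) (psi0H_hibiIdeal K hd w)

/-- chain monomials in the Hibi ring -/
def yH (c : StdBelow w) : MvPolynomial (Below w) K ⧸ hibiIdeal K w :=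
  Ideal.Quotient.mk (hibiIdeal K w) (∏ k, X (⟨c.1.2.1 k, c.2 k⟩ : Below w))

theorem psiH_yH (c : StdBelow w) :
    psiH K hd w (yH K w c) = Ideal.Quotient.mk (Rees.I0 (compat_H K hd w))
      (Rees.reesGen (compat_H K hd w) c) := by
  unfold psiH yH
  rw [Ideal.Quotient.liftₐ_apply, Ideal.Quotient.lift_mk]
  show psi0H K hd w _ = _
  rw [psi0H_prod]
  congr 1
  apply Subtype.ext
  rw [coe_prod_reesGen_chain1_H, Rees.coe_reesGen, stdBasis_apply]
  rfl

end Hibi

section HibiSpan

variable (K : Type u) [Field K] (w : Idx d n)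

theorem wt_sup_gt (a b : Idx d n) (h : ¬ b ≤ a) : wt a.1 < wt (W4bk4grassmannian.sup a b).1 := by
  have hle : a ≤ W4bk4grassmannian.sup a b := fun t => le_max_left _ _
  refine lt_of_le_of_ne (wt_mono hle) ?_
  intro heq
  have := eq_of_le_of_wt_eq hle heq
  apply h
  rw [this]
  exact fun t => le_max_right _ _

theorem famIdx_update {m : ℕ} (θs : Fin m → Below w) (k₁ k₂ : Fin m) (S I : Below w) :
    famIdx w (Function.update (Function.update θs k₁ S) k₂ I) = repl (famIdx w θs) k₁ k₂ S.1 I.1 := by
  funext k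
  unfold famIdx repl
  by_cases h2 : k = k₂
  · subst h2
    rw [Function.update_self, Function.update_self]
  · rw [Function.update_of_ne h2, Function.update_of_ne h2]
    by_cases h1 : k = k₁
    · subst h1
      rw [Function.update_self, Function.update_self]
    · rw [Function.update_of_ne h1, Function.update_of_ne h1]

theorem hibi_step {m : ℕ} (θs : Fin m → Below w) (k₁ k₂ : Fin m) (hk : k₁ ≠ k₂) :
    (∏ k, X (θs k) : MvPolynomial (Below w) K) -
      ∏ k, X ((Function.update (Function.update θs k₁ (Below.sup (θs k₁) (θs k₂))) k₂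
        (Below.inf (θs k₁) (θs k₂))) k) ∈ hibiIdeal K w := by
  set θs' := Function.update (Function.update θs k₁ (Below.sup (θs k₁) (θs k₂))) k₂
    (Below.inf (θs k₁) (θs k₂)) with hθs'
  rw [prod_split (fun k => (X (θs k) : MvPolynomial (Below w) K)) k₁ k₂ hk,
    prod_split (fun k => (X (θs' k) : MvPolynomial (Below w) K)) k₁ k₂ hk]
  have e1 : θs' k₁ = Below.sup (θs k₁) (θs k₂) := by
    rw [hθs', Function.update_of_ne hk, Function.update_self]
  have e2 : θs' k₂ = Below.inf (θs k₁) (θs k₂) := by
    rw [hθs', Function.update_self]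
  have e3 : ∏ k ∈ (Finset.univ.erase k₁).erase k₂, (X (θs' k) : MvPolynomial (Below w) K) =
      ∏ k ∈ (Finset.univ.erase k₁).erase k₂, X (θs k) := by
    apply Finset.prod_congr rfl
    intro k hk'
    rw [hθs', Function.update_of_ne (Finset.ne_of_mem_erase hk'),
      Function.update_of_ne (Finset.ne_of_mem_erase (Finset.mem_of_mem_erase hk'))]
  simp only [e1, e2, e3]
  rw [← sub_mul]
  apply Ideal.mul_mem_right
  exact Ideal.subset_span ⟨θs k₁, θs k₂, rfl⟩

theorem mk_prod_mem_span {m : ℕ} (θs : Fin m → Below w) :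
    Ideal.Quotient.mk (hibiIdeal K w) (∏ k, X (θs k)) ∈ Submodule.span K (Set.range (yH K w)) := by
  classical
  induction' hN : m * 2 ^ (d * n) - pot (famIdx w θs) using Nat.strong_induction_on with N ih
    generalizing θs
  by_cases hch : IsChainFam (famIdx w θs)
  · obtain ⟨σ, hσ⟩ := sortable (famIdx w θs) hch
    refine Submodule.subset_span ⟨⟨⟨m, ⟨famIdx w θs ∘ σ, hσ⟩⟩, fun k => (θs (σ k)).2⟩, ?_⟩
    unfold yH
    congr 1
    exact Equiv.prod_comp σ (fun k => (X (θs k) : MvPolynomial (Below w) K))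
  · unfold IsChainFam at hch
    push Not at hch
    obtain ⟨k₁, k₂, h1, h2⟩ := hch
    have hk : k₁ ≠ k₂ := by
      rintro rfl; exact h1 (le_refl _)
    have main : ∀ (k₁ k₂ : Fin m), k₁ ≠ k₂ → ¬ famIdx w θs k₂ ≤ famIdx w θs k₁ →
        wt (famIdx w θs k₂).1 ≤ wt (famIdx w θs k₁).1 →
        Ideal.Quotient.mk (hibiIdeal K w) (∏ k, X (θs k)) ∈ Submodule.span K (Set.range (yH K w)) := by
      intro k₁ k₂ hk hnle hw
      set θs' := Function.update (Function.update θs k₁ (Below.sup (θs k₁) (θs k₂))) k₂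
        (Below.inf (θs k₁) (θs k₂)) with hθs'
      have hstep := hibi_step K w θs k₁ k₂ hk
      rw [← Ideal.Quotient.mk_eq_mk_iff_sub_mem] at hstep
      rw [hstep]
      have hpot : pot (famIdx w θs) < pot (famIdx w θs') := by
        rw [hθs', famIdx_update]
        exact pot_repl_gt (famIdx w θs) k₁ k₂ hk _ _ (wt_sup_gt _ _ hnle) hw
      have hle := pot_le (famIdx w θs')
      exact ih (m * 2 ^ (d * n) - pot (famIdx w θs')) (by omega) θs' rfl
    rcases le_total (wt (famIdx w θs k₂).1) (wt (famIdx w θs k₁).1) with hw | hw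
    · exact main k₁ k₂ hk h2 hw
    · exact main k₂ k₁ hk.symm h1 hw

theorem yH_span : Submodule.span K (Set.range (yH K w)) = ⊤ := by
  rw [eq_top_iff]
  rintro q -
  obtain ⟨p, rfl⟩ := Ideal.Quotient.mk_surjective q
  have hp : p ∈ Submodule.span K {p : MvPolynomial (Below w) K |
      ∃ (m : ℕ) (θs : Fin m → Below w), p = ∏ k, X (θs k)} := by
    rw [span_prod_X_eq_top]; trivial
  have hsm : ∀ (a : K) (p : MvPolynomial (Below w) K),
      Ideal.Quotient.mk (hibiIdeal K w) (a • p) = a • Ideal.Quotient.mk (hibiIdeal K w) p := by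
    intro a p
    exact map_smul (Ideal.Quotient.mkₐ K (hibiIdeal K w)) a p
  induction hp using Submodule.span_induction with
  | mem x hx =>
    obtain ⟨m, θs, rfl⟩ := hx
    exact mk_prod_mem_span K w θs
  | zero => rw [map_zero]; exact Submodule.zero_mem _
  | add x y _ _ hx hy => rw [map_add]; exact Submodule.add_mem _ hx hy
  | smul a x _ hx => rw [hsm]; exact Submodule.smul_mem _ _ hx

end HibiSpan

section Final

attribute [local instance] Polynomial.algebra

variable (K : Type u) [Field K] [Infinite K] (hd : 0 < d) (w : Idx d n)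

theorem psiH_bijective : Function.Bijective (psiH K hd w) :=
  Rees.fibre0_bijective (compat_H K hd w) (psiH K hd w) (yH K w) (yH_span K w) (psiH_yH K hd w)

include hd in
/-- toric degeneration to the Hibi ring -/
theorem degen_Hibi :
    ∃ (R : Type u) (_ : CommRing R) (_ : Algebra K R) (_ : Algebra (Polynomial K) R)
      (_ : IsScalarTower K (Polynomial K) R),
      Module.Free (Polynomial K) R ∧
      Nonempty ((R ⧸ Ideal.span {algebraMap (Polynomial K) R Polynomial.X}) ≃ₐ[K]
        (MvPolynomial (Below w) K ⧸ hibiIdeal K w)) ∧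
      ∀ c : K, c ≠ 0 →
        Nonempty ((R ⧸ Ideal.span {algebraMap (Polynomial K) R (Polynomial.X - Polynomial.C c)}) ≃ₐ[K]
          (PlRing K d n ⧸ schubertVanishing K d n w)) :=
  ⟨Rees.rees (compat_H K hd w), inferInstance, inferInstance, inferInstance, inferInstance,
    Rees.rees_free _, ⟨(AlgEquiv.ofBijective (psiH K hd w) (psiH_bijective K hd w)).symm⟩,
    fun c hc => ⟨Rees.fibreEquiv _ c hc⟩⟩

end Final

end Groth.Agent.Lib.Helper25.Grass
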