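import Mathlib
import Groth.Prelude.Def_W4bk4grassmannianPl
import Groth.Prelude.Def_CAlgX
import Groth.Agent.Lib.Helper25BitabDet
import Groth.Agent.Lib.Helper25GrassHibi
import Groth.Agent.Lib.Helper25GrassFFT

/-!
# Dehomogenisation of Schubert varieties at the least Plücker coordinate (helper25)

The map `zMap : K[X_θ] → K[x_{ij}]`, `X_θ ↦` minor of `[I ; X^rev]` on the rows `θ`, its `K`-points,
and the key independence lemma.
-/

noncomputable section

open MvPolynomial W4bk4grassmannian

namespace Groth.Agent.Lib.Helper25.Bitab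

open Groth.Agent.Lib.Helper25.Grass

variable (K : Type*) [Field K] {d r : ℕ}

/-- dehomogenisation: `X_θ ↦` the minor of `[I ; X^rev]` on the rows `θ` -/
def zMap : PlRing K d (d + r) →ₐ[K] MvPolynomial (Fin r × Fin d) K :=
  MvPolynomial.aeval fun θ : Idx d (d + r) => zMinor K θ.1

theorem zMap_X (θ : Idx d (d + r)) : zMap K (X θ) = zMinor K θ.1 := by
  unfold zMap; rw [aeval_X]

theorem zMap_chainMon {m : ℕ} (c : Fin m → Idx d (d + r)) :
    zMap K (chainMon K c) = ∏ k, zMinor K (c k).1 := by
  unfold chainMon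
  rw [map_prod]
  exact Finset.prod_congr rfl (fun k _ => zMap_X K (c k))

/-- the matrix `[I ; z^rev]` at a `K`-point -/
def zMatAt (z : Fin r × Fin d → K) : Matrix (Fin (d + r)) (Fin d) K :=
  (zMat K d r).map (MvPolynomial.eval z)

theorem zMatAt_embL (z : Fin r × Fin d → K) (c j : Fin d) :
    zMatAt K z (embL r c) j = if c = j then 1 else 0 := by
  unfold zMatAt
  rw [Matrix.map_apply, zMat_embL]
  split_ifs
  · rw [map_one]
  · rw [map_zero]

theorem zMatAt_embR (z : Fin r × Fin d → K) (a : Fin r) (j : Fin d) :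
    zMatAt K z (embR d a) j = z (a, j) := by
  unfold zMatAt
  rw [Matrix.map_apply, zMat_embR, eval_X]

theorem eval_zMinor (z : Fin r × Fin d → K) (θ : Fin d → Fin (d + r)) :
    MvPolynomial.eval z (zMinor K θ) = ((zMatAt K z).submatrix θ id).det := by
  unfold zMinor
  rw [RingHom.map_det]
  rfl

theorem eval_zMap (z : Fin r × Fin d → K) (F : PlRing K d (d + r)) :
    MvPolynomial.eval z (zMap K F) = evalMinors K d (d + r) (zMatAt K z) F := by
  have h : ((MvPolynomial.aeval z : MvPolynomial (Fin r × Fin d) K →ₐ[K] K).comp (zMap K)) =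
      evalMinors K d (d + r) (zMatAt K z) := by
    apply MvPolynomial.algHom_ext
    intro θ
    rw [AlgHom.comp_apply, zMap_X]
    unfold evalMinors
    rw [aeval_X]
    exact eval_zMinor K z θ.1
  rw [← h, AlgHom.comp_apply]
  rfl

theorem iota_eq_embL (hr : 0 < r) (t : Fin d) :
    (iotaIdx (Nat.lt_add_of_pos_right hr : d < d + r)).1 t = embL r t := Fin.ext rfl

theorem zMatAt_top (hr : 0 < r) (z : Fin r × Fin d → K) :
    (zMatAt K z).submatrix (iotaIdx (Nat.lt_add_of_pos_right hr : d < d + r)).1 id = 1 := by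
  ext s t
  rw [Matrix.submatrix_apply, iota_eq_embL hr, zMatAt_embL, Matrix.one_apply]
  rfl

theorem zMinor_iota (hr : 0 < r) :
    zMinor K (iotaIdx (Nat.lt_add_of_pos_right hr : d < d + r)).1 = 1 := by
  unfold zMinor
  have : (zMat K d r).submatrix (iotaIdx (Nat.lt_add_of_pos_right hr : d < d + r)).1 id = 1 := by
    apply Matrix.ext
    intro s t
    rw [Matrix.submatrix_apply, iota_eq_embL hr, zMat_embL, Matrix.one_apply]
    rfl
  rw [this, Matrix.det_one]

/-- the point of the cell attached to a matrix with invertible top block -/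
def zOf (hr : 0 < r) (A : Matrix (Fin (d + r)) (Fin d) K) : Fin r × Fin d → K :=
  fun p => (A * (A.submatrix (iotaIdx (Nat.lt_add_of_pos_right hr : d < d + r)).1 id)⁻¹) (embR d p.1) p.2

theorem zMatAt_zOf (hr : 0 < r) (A : Matrix (Fin (d + r)) (Fin d) K)
    (hA : (A.submatrix (iotaIdx (Nat.lt_add_of_pos_right hr : d < d + r)).1 id).det ≠ 0) :
    zMatAt K (zOf K hr A) * A.submatrix (iotaIdx (Nat.lt_add_of_pos_right hr : d < d + r)).1 id = A := by
  set T := A.submatrix (iotaIdx (Nat.lt_add_of_pos_right hr : d < d + r)).1 id with hT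
  have hunit : IsUnit T.det := isUnit_iff_ne_zero.mpr hA
  have h1 : zMatAt K (zOf K hr A) = A * T⁻¹ := by
    ext i j
    rcases exists_embL_or_embR i with ⟨c, rfl⟩ | ⟨a, rfl⟩
    · rw [zMatAt_embL]
      have h2 : (A * T⁻¹) (embL r c) j = (T * T⁻¹) c j := by
        rw [Matrix.mul_apply, Matrix.mul_apply]
        apply Finset.sum_congr rfl
        intro k _
        rw [hT, Matrix.submatrix_apply, iota_eq_embL hr]
        rfl
      rw [h2, Matrix.mul_nonsing_inv T hunit, Matrix.one_apply]
    · rw [zMatAt_embR]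
      rfl
  rw [h1, Matrix.mul_assoc, Matrix.nonsing_inv_mul T hunit, Matrix.mul_one]

theorem evalMinors_chainMon {n : ℕ} (A : Matrix (Fin n) (Fin d) K) {m : ℕ} (c : Fin m → Idx d n) :
    evalMinors K d n A (chainMon K c) = ∏ k, (A.submatrix (c k).1 id).det := by
  unfold chainMon evalMinors
  rw [map_prod]
  apply Finset.prod_congr rfl
  intro k _
  rw [aeval_X]

theorem det_submatrix_mul {n : ℕ} (Z : Matrix (Fin n) (Fin d) K) (T : Matrix (Fin d) (Fin d) K)
    (θ : Fin d → Fin n) : ((Z * T).submatrix θ id).det = (Z.submatrix θ id).det * T.det := by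
  have : (Z * T).submatrix θ id = Z.submatrix θ id * T := by
    ext i j
    rw [Matrix.submatrix_apply, Matrix.mul_apply, Matrix.mul_apply]
    rfl
  rw [this, Matrix.det_mul]

/-! ### padding chains with the least index -/

/-- pad a chain with copies of `e` up to length `L` -/
def pad {ι : Type*} (e : ι) (L : ℕ) {m : ℕ} (c : Fin m → ι) : Fin L → ι :=
  fun k => if h : k.val < m then c ⟨k.val, h⟩ else e

theorem prod_pad {ι M : Type*} [CommMonoid M] (e : ι) (L : ℕ) {m : ℕ} (c : Fin m → ι) (hm : m ≤ L)
    (g : ι → M) (he : g e = 1) : ∏ k, g (pad e L c k) = ∏ k, g (c k) := by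
  classical
  have h1 : ∏ k : Fin L, g (pad e L c k) =
      ∏ k ∈ Finset.range L, (if h : k < m then g (c ⟨k, h⟩) else 1) := by
    rw [← Fin.prod_univ_eq_prod_range (fun k => if h : k < m then g (c ⟨k, h⟩) else 1) L]
    apply Finset.prod_congr rfl
    intro k _
    unfold pad
    split_ifs with h
    · rfl
    · exact he
  have h2 : ∏ k : Fin m, g (c k) =
      ∏ k ∈ Finset.range m, (if h : k < m then g (c ⟨k, h⟩) else 1) := by
    rw [← Fin.prod_univ_eq_prod_range (fun k => if h : k < m then g (c ⟨k, h⟩) else 1) m]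
    apply Finset.prod_congr rfl
    intro k _
    rw [dif_pos k.isLt]
  rw [h1, h2]
  symm
  apply Finset.prod_subset
  · intro k hk
    rw [Finset.mem_range] at hk ⊢
    omega
  · intro k _ hk
    rw [Finset.mem_range] at hk
    rw [dif_neg hk]

theorem pad_antitone {n : ℕ} (hdn : d < n) (L : ℕ) {m : ℕ} (c : Fin m → Idx d n) (hc : Antitone c) :
    Antitone (pad (iotaIdx hdn) L c) := by
  intro k k' hkk'
  unfold pad
  have h0 : k.val ≤ k'.val := hkk'
  split_ifs with h1 h2 h2
  · exact hc (by rw [Fin.le_def]; exact h0)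
  · omega
  · exact iota_le hdn _
  · exact le_rfl

theorem pad_inj {ι : Type*} (e : ι) {L L' m m' : ℕ} (c : Fin m → ι) (c' : Fin m' → ι) (hm : m ≤ L)
    (hm' : m' ≤ L') (hc : ∀ k, c k ≠ e) (hc' : ∀ k, c' k ≠ e)
    (h : (⟨L, pad e L c⟩ : Σ m, Fin m → ι) = ⟨L', pad e L' c'⟩) :
    (⟨m, c⟩ : Σ m, Fin m → ι) = ⟨m', c'⟩ := by
  rw [Sigma.mk.injEq] at h
  obtain ⟨hL, h⟩ := h
  subst hL
  rw [heq_eq_eq] at h
  have hmm : m = m' := by
    by_contra hne
    rcases Nat.lt_or_gt_of_ne hne with hlt | hlt
    · have h1 := congrFun h ⟨m, by omega⟩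
      unfold pad at h1
      rw [dif_neg (by simp), dif_pos (by simpa using hlt)] at h1
      exact hc' _ h1.symm
    · have h1 := congrFun h ⟨m', by omega⟩
      unfold pad at h1
      rw [dif_pos (by simpa using hlt), dif_neg (by simp)] at h1
      exact hc _ h1
  subst hmm
  congr 1
  funext k
  have h1 := congrFun h ⟨k.val, by have := k.isLt; omega⟩
  unfold pad at h1
  rw [dif_pos (by simp), dif_pos (by simp)] at h1
  exact h1

/-! ### the key independence lemma -/

/-- **Lemma A.** A combination of dehomogenised standard monomials (chains avoiding the least index)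
which vanishes at the cell points of all matrices of the shape of `X(τ)` has vanishing coefficients
on the chains below `τ`. -/
theorem lemmaA [Infinite K] (hd : 0 < d) (hr : 0 < r) (τ : Idx d (d + r)) {ι' : Type*} (m : ι' → ℕ)
    (ch : ∀ i, Fin (m i) → Idx d (d + r)) (hanti : ∀ i, Antitone (ch i))
    (hfree : ∀ i k, ch i k ≠ iotaIdx (Nat.lt_add_of_pos_right hr : d < d + r))
    (hinj : ∀ i i', (⟨m i, ch i⟩ : Σ m, Fin m → Idx d (d + r)) = ⟨m i', ch i'⟩ → i = i')
    (s : Finset ι') (a : ι' → K)
    (H : ∀ (z : Fin r × Fin d → K) (T : Matrix (Fin d) (Fin d) K), T.det ≠ 0 →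
      (∀ i j, ¬ i ≤ τ.1 j → (zMatAt K z * T) i j = 0) →
      MvPolynomial.eval z (∑ i ∈ s, a i • zMap K (chainMon K (ch i))) = 0) :
    ∀ i ∈ s, (∀ k, ch i k ≤ τ) → a i = 0 := by
  classical
  have hdn : d < d + r := Nat.lt_add_of_pos_right hr
  set ι₀ : Idx d (d + r) := iotaIdx hdn with hι₀
  set D := s.sup m with hD
  let L : ι' → ℕ := fun i => max D (m i)
  let ch' : ∀ i, Fin (L i) → Idx d (d + r) := fun i => pad ι₀ (L i) (ch i)
  have hL : ∀ i ∈ s, L i = D := fun i hi => max_eq_left (Finset.le_sup hi)
  have hanti' : ∀ i, Antitone (ch' i) := fun i => pad_antitone hdn (L i) (ch i) (hanti i)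
  have hinj' : ∀ i i', (⟨L i, ch' i⟩ : Σ m, Fin m → Idx d (d + r)) = ⟨L i', ch' i'⟩ → i = i' := by
    intro i i' h
    exact hinj i i' (pad_inj ι₀ (ch i) (ch i') (le_max_right _ _) (le_max_right _ _)
      (hfree i) (hfree i') h)
  have hz : ∀ i ∈ s, (¬ ∀ k, InShape (UpperShape τ) (ch' i k)) →
      evS K (UpperShape τ) (chainMon K (ch' i)) = 0 := by
    intro i _ hnot
    push Not at hnot
    obtain ⟨k, hk⟩ := hnot
    apply evS_chainMon_of_X_eq_zero K (UpperShape τ) (ch' i) k
    exact evS_X_of_upper K (UpperShape τ) τ (fun r t h => h) _ hk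
  have hF : ∑ i ∈ s, a i • evS K (UpperShape τ) (chainMon K (ch' i)) = 0 := by
    have hQ : evS K (UpperShape τ) (X ι₀) ≠ 0 := by
      rw [evS_X]
      intro h0
      have h1 := (minorS_monic K (UpperShape τ) ι₀ (iota_le hdn τ))
      unfold MonomialOrder.Monic at h1
      rw [h0, MonomialOrder.leadingCoeff_zero] at h1
      exact zero_ne_one h1
    have hprod : evS K (UpperShape τ) (X ι₀) *
        ∑ i ∈ s, a i • evS K (UpperShape τ) (chainMon K (ch' i)) = 0 := by
      apply MvPolynomial.funext
      intro x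
      rw [map_zero, map_mul, eval_evS, map_sum]
      simp only [smul_eval, eval_evS]
      rw [evalMinors_X_iota]
      by_cases hA : ((shapedAtS K (UpperShape τ) x).submatrix ι₀.1 id).det = 0
      · rw [hA, zero_mul]
      · have hfac := zMatAt_zOf K hr (shapedAtS K (UpperShape τ) x) hA
        have hH := H (zOf K hr (shapedAtS K (UpperShape τ) x))
          ((shapedAtS K (UpperShape τ) x).submatrix ι₀.1 id) hA (by
            rw [hfac]
            intro i j hij
            unfold shapedAtS
            rw [Matrix.of_apply]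
            exact if_neg hij)
        have hterm : ∀ i ∈ s, evalMinors K d (d + r) (shapedAtS K (UpperShape τ) x)
            (chainMon K (ch' i)) =
            ((shapedAtS K (UpperShape τ) x).submatrix ι₀.1 id).det ^ D *
              MvPolynomial.eval (zOf K hr (shapedAtS K (UpperShape τ) x))
                (zMap K (chainMon K (ch i))) := by
          intro i hi
          rw [evalMinors_chainMon]
          have e1 : ∀ k, ((shapedAtS K (UpperShape τ) x).submatrix (ch' i k).1 id).det =
              ((zMatAt K (zOf K hr (shapedAtS K (UpperShape τ) x))).submatrix (ch' i k).1 id).det *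
                ((shapedAtS K (UpperShape τ) x).submatrix ι₀.1 id).det := by
            intro k
            rw [← det_submatrix_mul, hfac]
          rw [Finset.prod_congr rfl (fun k _ => e1 k), Finset.prod_mul_distrib, Finset.prod_const,
            Finset.card_univ, Fintype.card_fin]
          have e2 : ((shapedAtS K (UpperShape τ) x).submatrix ι₀.1 id).det ^ L i =
              ((shapedAtS K (UpperShape τ) x).submatrix ι₀.1 id).det ^ D := by rw [hL i hi]
          rw [e2, mul_comm]
          congr 1
          rw [zMap_chainMon, map_prod]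
          simp only [eval_zMinor]
          exact prod_pad ι₀ (L i) (ch i) (le_max_right _ _)
            (fun θ => ((zMatAt K (zOf K hr (shapedAtS K (UpperShape τ) x))).submatrix θ.1 id).det)
            (by rw [hι₀, zMatAt_top K hr, Matrix.det_one])
        rw [Finset.sum_congr rfl (fun i hi => by rw [hterm i hi])]
        rw [map_sum] at hH
        simp only [smul_eval] at hH
        have e3 : ∑ i ∈ s, a i * (((shapedAtS K (UpperShape τ) x).submatrix ι₀.1 id).det ^ D *
            MvPolynomial.eval (zOf K hr (shapedAtS K (UpperShape τ) x))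
              (zMap K (chainMon K (ch i)))) =
            ((shapedAtS K (UpperShape τ) x).submatrix ι₀.1 id).det ^ D *
              ∑ i ∈ s, a i * MvPolynomial.eval (zOf K hr (shapedAtS K (UpperShape τ) x))
                (zMap K (chainMon K (ch i))) := by
          rw [Finset.mul_sum]
          apply Finset.sum_congr rfl
          intro i _
          ring
        rw [e3, hH, mul_zero, mul_zero]
    exact (mul_eq_zero.mp hprod).resolve_left hQ
  intro i hi hle
  apply core_indepS K (UpperShape τ) hd L ch' hanti' hinj' s a hz hF i hi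
  intro k
  show ch' i k ≤ τ
  show pad ι₀ (L i) (ch i) k ≤ τ
  unfold pad
  split_ifs
  · exact hle _
  · exact iota_le hdn τ

end Groth.Agent.Lib.Helper25.Bitab
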