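import Mathlib
import Groth.Prelude.Def_W4bk4grassmannianPl
import Groth.Prelude.Def_CAlgX
import Groth.Agent.Lib.Helper25BitabAlg

/-!
# Standard bitableaux form a basis of the determinantal rings (helper25)
-/

noncomputable section

open MvPolynomial W4bk4grassmannian

namespace Groth.Agent.Lib.Helper25.Bitab

open Groth.Agent.Lib.Helper25.Grass

variable (K : Type*) [Field K] {d r : ℕ}

/-- the sign in `zMinor θ(M) = ± [A | B]` as a scalar -/
theorem zMinor_thetaOf' (M : MinorIdx r d) :
    ∃ u : K, u * u = 1 ∧ zMinor K (thetaOf M).1 = u • minorOf K M := by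
  obtain ⟨ε, hε⟩ := zMinor_thetaOf K M
  refine ⟨((ε : ℤ) : K), ?_, ?_⟩
  · rw [← Int.cast_mul, ← Units.val_mul, Int.units_mul_self]
    simp
  · rw [hε, MvPolynomial.smul_eq_C_mul, map_intCast]

theorem zMap_eq_zero_of_mem_vanishing [Infinite K] (F : PlRing K d (d + r))
    (hF : F ∈ vanishing K d (d + r)) : zMap K F = 0 := by
  apply MvPolynomial.funext
  intro z
  rw [map_zero, eval_zMap]
  unfold vanishing at hF
  rw [Ideal.mem_iInf] at hF
  exact hF (zMatAt K z)

theorem zMap_surjective (hr : 0 < r) : Function.Surjective (zMap (d := d) (r := r) K) := by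
  have htop : (zMap (d := d) (r := r) K).range = ⊤ := by
    rw [eq_top_iff, ← MvPolynomial.adjoin_range_X]
    apply Algebra.adjoin_le
    rintro _ ⟨⟨i, j⟩, rfl⟩
    let M₀ : MinorIdx r d := ⟨0, ⟨fun _ => i, fun a b h => by
      exfalso; have := a.isLt; have := b.isLt; rw [Fin.lt_def] at h; omega⟩,
      ⟨fun _ => j, fun a b h => by
      exfalso; have := a.isLt; have := b.isLt; rw [Fin.lt_def] at h; omega⟩⟩
    obtain ⟨u, hu, h⟩ := zMinor_thetaOf' K M₀
    have h1 : minorOf K M₀ = X (i, j) :=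
      Matrix.det_fin_one ((genMatrix K r d).submatrix (fun _ : Fin 1 => i) (fun _ : Fin 1 => j))
    rw [h1] at h
    have h2 : (X (i, j) : MvPolynomial (Fin r × Fin d) K) = u • zMinor K (thetaOf M₀).1 := by
      rw [h, smul_smul, hu, one_smul]
    rw [h2, SetLike.mem_coe]
    apply Subalgebra.smul_mem
    exact ⟨X (thetaOf M₀), zMap_X K _⟩
  intro f
  have : f ∈ (zMap (d := d) (r := r) K).range := by rw [htop]; trivial
  exact this

variable (t : ℕ)

/-- minors of size `≥ t` lie in `I_t` -/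
theorem zMinor_mem_minorIdeal (hr : 0 < r) (ht1 : 1 ≤ t) (ht : t ≤ r + 1) (φ : Idx d (d + r))
    (hφ : ¬ φ ≤ tauT d r t ht) :
    zMinor K φ.1 ∈ CAlgX.minorIdeal (genMatrix K r d) t := by
  rw [le_tauT_iff t ht1 ht] at hφ
  have hc := cnt_le φ.1 d
  obtain ⟨M, rfl⟩ := exists_thetaOf_eq φ (by omega)
  have hsz := cnt_thetaOf_d M
  obtain ⟨u, _, h⟩ := zMinor_thetaOf' K M
  rw [h, MvPolynomial.smul_eq_C_mul]
  apply Ideal.mul_mem_left
  apply Groth.Agent.Lib.Helper14.CellMinor.minorIdeal_antitone (genMatrix K r d)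
    (show t ≤ M.1 + 1 by omega)
  exact Groth.Agent.Lib.Helper14.CellMinor.det_submatrix_mem_minorIdeal _ _ _

theorem zMap_mem_of_mem_plIdeal [Infinite K] (hr : 0 < r) (ht1 : 1 ≤ t) (ht : t ≤ r + 1)
    (F : PlRing K d (d + r)) (hF : F ∈ plIdeal K (tauT d r t ht)) :
    zMap K F ∈ CAlgX.minorIdeal (genMatrix K r d) t := by
  have hle : plIdeal K (tauT d r t ht) ≤
      Ideal.comap (zMap (d := d) (r := r) K).toRingHom (CAlgX.minorIdeal (genMatrix K r d) t) := by
    unfold plIdeal
    rw [Ideal.span_le]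
    rintro f (⟨i, j, p, hp, rfl⟩ | ⟨φ, hφ, rfl⟩)
    · rw [SetLike.mem_coe, Ideal.mem_comap]
      have : zMap K (shuffleRel K i j p) = 0 := by
        apply zMap_eq_zero_of_mem_vanishing
        apply plIdealTop_le_vanishing
        exact Ideal.subset_span ⟨i, j, p, hp, rfl⟩
      show zMap K (shuffleRel K i j p) ∈ _
      rw [this]
      exact Ideal.zero_mem _
    · rw [SetLike.mem_coe, Ideal.mem_comap]
      show zMap K (X φ) ∈ _
      rw [zMap_X]
      exact zMinor_mem_minorIdeal K t hr ht1 ht φ hφ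
  exact hle hF

/-- the `t`-minors lie in the ideal generated by the Plücker coordinates `≰ τ_t` -/
theorem minorIdeal_le_span (ht1 : 1 ≤ t) (ht : t ≤ r + 1) :
    CAlgX.minorIdeal (genMatrix K r d) t ≤
      Ideal.span {f | ∃ φ : Idx d (d + r), ¬ φ ≤ tauT d r t ht ∧ f = zMinor K φ.1} := by
  classical
  unfold CAlgX.minorIdeal
  rw [Ideal.span_le]
  rintro _ ⟨⟨f, g⟩, rfl⟩
  rw [SetLike.mem_coe]
  simp only
  by_cases hf : Function.Injective f
  swap
  · rw [Function.Injective] at hf
    push Not at hf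
    obtain ⟨i, j, hij, hne⟩ := hf
    rw [Matrix.det_zero_of_row_eq hne]
    · exact Ideal.zero_mem _
    · funext k
      rw [Matrix.submatrix_apply, Matrix.submatrix_apply, hij]
  by_cases hg : Function.Injective g
  swap
  · rw [Function.Injective] at hg
    push Not at hg
    obtain ⟨i, j, hij, hne⟩ := hg
    rw [Matrix.det_zero_of_column_eq hne]
    · exact Ideal.zero_mem _
    · intro k
      rw [Matrix.submatrix_apply, Matrix.submatrix_apply, hij]
  obtain ⟨s, rfl⟩ : ∃ s, t = s + 1 := ⟨t - 1, by omega⟩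
  have hA : StrictMono (f ∘ Tuple.sort f) :=
    (Tuple.monotone_sort f).strictMono_of_injective (hf.comp (Tuple.sort f).injective)
  have hB : StrictMono (g ∘ Tuple.sort g) :=
    (Tuple.monotone_sort g).strictMono_of_injective (hg.comp (Tuple.sort g).injective)
  let M : MinorIdx r d := ⟨s, ⟨f ∘ Tuple.sort f, hA⟩, ⟨g ∘ Tuple.sort g, hB⟩⟩
  have hsub : (genMatrix K r d).submatrix f g =
      ((genMatrix K r d).submatrix M.2.1.1 M.2.2.1).submatrix (Tuple.sort f).symm (Tuple.sort g).symm := by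
    ext i j
    simp only [Matrix.submatrix_apply, M, Function.comp, Equiv.apply_symm_apply]
  obtain ⟨ε, hε⟩ := det_submatrix_equiv_pm ((genMatrix K r d).submatrix M.2.1.1 M.2.2.1)
    (Tuple.sort f).symm (Tuple.sort g).symm
  obtain ⟨u, hu, h⟩ := zMinor_thetaOf' K M
  have h2 : minorOf K M = u • zMinor K (thetaOf M).1 := by
    rw [h, smul_smul, hu, one_smul]
  rw [hsub, hε]
  apply Ideal.mul_mem_left
  show minorOf K M ∈ _
  rw [h2, MvPolynomial.smul_eq_C_mul]
  apply Ideal.mul_mem_left
  apply Ideal.subset_span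
  refine ⟨thetaOf M, ?_, rfl⟩
  rw [thetaOf_le_tauT_iff (s + 1) ht1 ht]
  simp only [M]
  omega

/-! ### the family of standard bitableaux -/

/-- index type of the standard bitableaux of minors of size `≤ t - 1` -/
abbrev StdBit (r d t : ℕ) : Type :=
  Σ k : ℕ, {c : Fin k → MinorIdx r d //
    (∀ i, (c i).1 + 1 ≤ t - 1) ∧ ∀ i j, i < j → MinorGE (c i) (c j)}

/-- the bitableau: product of the minors -/
def bitab (c : StdBit r d t) : MvPolynomial (Fin r × Fin d) K :=
  Finset.univ.prod fun i => minorOf K (c.2.1 i)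

variable {t}

/-- the chain in `I(d, d + r)` of a standard bitableau (in reverse order) -/
def chOf (c : StdBit r d t) : Fin c.1 → Idx d (d + r) := fun k => thetaOf (c.2.1 (Fin.rev k))

theorem chOf_antitone (c : StdBit r d t) : Antitone (chOf c) := by
  intro k k' hkk'
  unfold chOf
  rw [thetaOf_le_iff]
  rcases eq_or_lt_of_le hkk' with h | h
  · rw [h]
    exact minorGE_refl _
  · exact c.2.2.2 _ _ (Fin.rev_lt_rev.mpr h)

theorem chOf_le (ht1 : 1 ≤ t) (ht : t ≤ r + 1) (c : StdBit r d t) (k : Fin c.1) :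
    chOf c k ≤ tauT d r t ht := by
  unfold chOf
  rw [thetaOf_le_tauT_iff t ht1 ht]
  exact c.2.2.1 _

theorem chOf_free (hr : 0 < r) (c : StdBit r d t) (k : Fin c.1) :
    chOf c k ≠ iotaIdx (Nat.lt_add_of_pos_right hr : d < d + r) :=
  thetaOf_ne_iota hr _

theorem chOf_inj (c c' : StdBit r d t)
    (h : (⟨c.1, chOf c⟩ : Σ m, Fin m → Idx d (d + r)) = ⟨c'.1, chOf c'⟩) : c = c' := by
  rcases c with ⟨k, c, hc⟩
  rcases c' with ⟨k', c', hc'⟩
  rw [Sigma.mk.injEq] at h
  obtain ⟨hk, h⟩ := h
  simp only at hk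
  subst hk
  rw [heq_eq_eq] at h
  have : c = c' := by
    funext i
    have h1 := congrFun h (Fin.rev i)
    unfold chOf at h1
    simp only [Fin.rev_rev] at h1
    exact thetaOf_injective h1
  subst this
  rfl

theorem zMap_chOf (c : StdBit r d t) :
    ∃ u : K, u * u = 1 ∧ zMap K (chainMon K (chOf c)) = u • bitab K t c := by
  classical
  choose u hu1 hu2 using fun M : MinorIdx r d => zMinor_thetaOf' K M
  refine ⟨∏ i, u (c.2.1 i), ?_, ?_⟩
  · rw [← Finset.prod_mul_distrib]
    exact Finset.prod_eq_one (fun i _ => hu1 _)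
  · rw [zMap_chainMon]
    unfold chOf bitab
    have e : (∏ k, zMinor K (thetaOf (c.2.1 (Fin.rev k))).1) = ∏ i, zMinor K (thetaOf (c.2.1 i)).1 :=
      Equiv.prod_comp Fin.revPerm (fun i => zMinor K (thetaOf (c.2.1 i)).1)
    rw [e, Finset.prod_congr rfl (fun i _ => hu2 (c.2.1 i))]
    simp only [MvPolynomial.smul_eq_C_mul]
    rw [Finset.prod_mul_distrib, map_prod]

/-- the standard bitableaux of minors of size `≤ t - 1` are linearly independent modulo `I_t`. -/
theorem stdBit_indep [Infinite K] (hd : 0 < d) (hr : 0 < r) (ht1 : 1 ≤ t) (ht : t ≤ r + 1) :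
    LinearIndependent K (fun c : StdBit r d t =>
      Ideal.Quotient.mk (CAlgX.minorIdeal (genMatrix K r d) t) (bitab K t c)) := by
  classical
  rw [linearIndependent_iff']
  intro s g hsum c₀ hc₀
  choose u hu1 hu2 using fun c : StdBit r d t => zMap_chOf K c
  have hmem : ∑ c ∈ s, g c • bitab K t c ∈ CAlgX.minorIdeal (genMatrix K r d) t := by
    rw [← Ideal.Quotient.eq_zero_iff_mem, map_sum, ← hsum]
    apply Finset.sum_congr rfl
    intro c _
    rw [MvPolynomial.smul_eq_C_mul, map_mul, ← MvPolynomial.algebraMap_eq,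
      ← Ideal.Quotient.algebraMap_eq, ← IsScalarTower.algebraMap_apply, Algebra.smul_def]
  have hmem' : ∑ c ∈ s, (g c * u c) • zMap K (chainMon K (chOf c)) ∈
      CAlgX.minorIdeal (genMatrix K r d) t := by
    have e : ∑ c ∈ s, (g c * u c) • zMap K (chainMon K (chOf c)) = ∑ c ∈ s, g c • bitab K t c := by
      apply Finset.sum_congr rfl
      intro c _
      rw [hu2 c, smul_smul, mul_assoc, hu1 c, mul_one]
    rw [e]
    exact hmem
  have key := lemmaA K hd hr (tauT d r t ht) (fun c : StdBit r d t => c.1) (fun c => chOf c)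
    chOf_antitone (chOf_free hr) chOf_inj s (fun c => g c * u c) (by
      intro z T hT hshape
      -- evaluation at `z` kills `I_t`
      have hkill : ∀ f ∈ CAlgX.minorIdeal (genMatrix K r d) t, MvPolynomial.eval z f = 0 := by
        intro f hf
        have hf' := minorIdeal_le_span K t ht1 ht hf
        have hle : Ideal.span {f | ∃ φ : Idx d (d + r), ¬ φ ≤ tauT d r t ht ∧ f = zMinor K φ.1} ≤
            RingHom.ker (MvPolynomial.eval z) := by
          rw [Ideal.span_le]
          rintro _ ⟨φ, hφ, rfl⟩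
          rw [SetLike.mem_coe, RingHom.mem_ker, eval_zMinor]
          have h1 := det_submatrix_eq_zero_of_shape (tauT d r t ht) φ hφ (zMatAt K z * T) hshape
          rw [det_submatrix_mul] at h1
          exact (mul_eq_zero.mp h1).resolve_right hT
        exact hle hf'
      exact hkill _ hmem')
  have h1 := key c₀ hc₀ (chOf_le ht1 ht c₀)
  have hu0 : u c₀ ≠ 0 := by
    intro h0
    have := hu1 c₀
    rw [h0, zero_mul] at this
    exact zero_ne_one this
  exact (mul_eq_zero.mp h1).resolve_right hu0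

/-- coefficient extraction: a combination of standard bitableaux vanishing at the cell points of
all matrices of the shape of `X(τ_t)` is trivial. -/
theorem stdBit_coeff_zero [Infinite K] (hd : 0 < d) (hr : 0 < r) (ht1 : 1 ≤ t) (ht : t ≤ r + 1)
    (s : Finset (StdBit r d t)) (g : StdBit r d t → K)
    (H : ∀ (z : Fin r × Fin d → K) (T : Matrix (Fin d) (Fin d) K), T.det ≠ 0 →
      (∀ i j, ¬ i ≤ (tauT d r t ht).1 j → (zMatAt K z * T) i j = 0) →
      MvPolynomial.eval z (∑ c ∈ s, g c • bitab K t c) = 0) :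
    ∀ c ∈ s, g c = 0 := by
  classical
  intro c₀ hc₀
  choose u hu1 hu2 using fun c : StdBit r d t => zMap_chOf K c
  have e : ∑ c ∈ s, (g c * u c) • zMap K (chainMon K (chOf c)) = ∑ c ∈ s, g c • bitab K t c := by
    apply Finset.sum_congr rfl
    intro c _
    rw [hu2 c, smul_smul, mul_assoc, hu1 c, mul_one]
  have key := lemmaA K hd hr (tauT d r t ht) (fun c : StdBit r d t => c.1) (fun c => chOf c)
    chOf_antitone (chOf_free hr) chOf_inj s (fun c => g c * u c) (by
      intro z T hT hshape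
      rw [e]
      exact H z T hT hshape)
  have h1 := key c₀ hc₀ (chOf_le ht1 ht c₀)
  have hu0 : u c₀ ≠ 0 := by
    intro h0
    have := hu1 c₀
    rw [h0, zero_mul] at this
    exact zero_ne_one this
  exact (mul_eq_zero.mp h1).resolve_right hu0

/-- coefficient extraction on a smaller Schubert variety `X(τ')`. -/
theorem stdBit_coeff_zero' [Infinite K] (hd : 0 < d) (hr : 0 < r) (τ' : Idx d (d + r))
    (s : Finset (StdBit r d t)) (g : StdBit r d t → K)
    (H : ∀ (z : Fin r × Fin d → K) (T : Matrix (Fin d) (Fin d) K), T.det ≠ 0 →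
      (∀ i j, ¬ i ≤ τ'.1 j → (zMatAt K z * T) i j = 0) →
      MvPolynomial.eval z (∑ c ∈ s, g c • bitab K t c) = 0) :
    ∀ c ∈ s, (∀ k, chOf c k ≤ τ') → g c = 0 := by
  classical
  intro c₀ hc₀ hle
  choose u hu1 hu2 using fun c : StdBit r d t => zMap_chOf K c
  have e : ∑ c ∈ s, (g c * u c) • zMap K (chainMon K (chOf c)) = ∑ c ∈ s, g c • bitab K t c := by
    apply Finset.sum_congr rfl
    intro c _
    rw [hu2 c, smul_smul, mul_assoc, hu1 c, mul_one]
  have key := lemmaA K hd hr τ' (fun c : StdBit r d t => c.1) (fun c => chOf c)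
    chOf_antitone (chOf_free hr) chOf_inj s (fun c => g c * u c) (by
      intro z T hT hshape
      rw [e]
      exact H z T hT hshape)
  have h1 := key c₀ hc₀ hle
  have hu0 : u c₀ ≠ 0 := by
    intro h0
    have := hu1 c₀
    rw [h0, zero_mul] at this
    exact zero_ne_one this
  exact (mul_eq_zero.mp h1).resolve_right hu0

/-- a chain below `τ_t` avoiding the least index is, up to a scalar, a standard bitableau -/
theorem exists_stdBit_of_free (hr : 0 < r) (ht1 : 1 ≤ t) (ht : t ≤ r + 1) {k : ℕ}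
    (c : Fin k → Idx d (d + r)) (hc : Antitone c) (hle : ∀ i, c i ≤ tauT d r t ht)
    (hfree : ∀ i, c i ≠ iotaIdx (Nat.lt_add_of_pos_right hr : d < d + r)) :
    ∃ (b : StdBit r d t) (u : K), zMap K (chainMon K c) = u • bitab K t b := by
  choose Mf hMf using fun i => exists_thetaOf_eq (c i) (cnt_lt_of_ne_iota hr (c i) (hfree i))
  have h1 : ∀ i : Fin k, (Mf (Fin.rev i)).1 + 1 ≤ t - 1 := by
    intro i
    rw [← thetaOf_le_tauT_iff t ht1 ht, hMf]
    exact hle _
  have h2 : ∀ i j : Fin k, i < j → MinorGE (Mf (Fin.rev i)) (Mf (Fin.rev j)) := by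
    intro i j hij
    rw [← thetaOf_le_iff, hMf, hMf]
    exact hc (le_of_lt (Fin.rev_lt_rev.mpr hij))
  let b : StdBit r d t := ⟨k, ⟨fun j => Mf (Fin.rev j), h1, h2⟩⟩
  have hch : chOf b = c := by
    funext i
    show thetaOf (Mf (Fin.rev (Fin.rev i))) = c i
    rw [Fin.rev_rev, hMf]
  obtain ⟨u, _, h⟩ := zMap_chOf K b
  refine ⟨b, u, ?_⟩
  rw [← h, hch]

theorem zMap_chainMon_mem_span (hr : 0 < r) (ht1 : 1 ≤ t) (ht : t ≤ r + 1) :
    ∀ (k : ℕ) (c : Fin k → Idx d (d + r)), Antitone c → (∀ i, c i ≤ tauT d r t ht) →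
      Ideal.Quotient.mk (CAlgX.minorIdeal (genMatrix K r d) t) (zMap K (chainMon K c)) ∈
        Submodule.span K (Set.range fun b : StdBit r d t =>
          Ideal.Quotient.mk (CAlgX.minorIdeal (genMatrix K r d) t) (bitab K t b)) := by
  have hfreecase : ∀ (k : ℕ) (c : Fin k → Idx d (d + r)), Antitone c → (∀ i, c i ≤ tauT d r t ht) →
      (∀ i, c i ≠ iotaIdx (Nat.lt_add_of_pos_right hr : d < d + r)) →
      Ideal.Quotient.mk (CAlgX.minorIdeal (genMatrix K r d) t) (zMap K (chainMon K c)) ∈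
        Submodule.span K (Set.range fun b : StdBit r d t =>
          Ideal.Quotient.mk (CAlgX.minorIdeal (genMatrix K r d) t) (bitab K t b)) := by
    intro k c hc hle hfree
    obtain ⟨b, u, h⟩ := exists_stdBit_of_free K hr ht1 ht c hc hle hfree
    rw [h, MvPolynomial.smul_eq_C_mul, map_mul, ← MvPolynomial.algebraMap_eq,
      ← Ideal.Quotient.algebraMap_eq, ← IsScalarTower.algebraMap_apply, ← Algebra.smul_def]
    apply Submodule.smul_mem
    exact Submodule.subset_span ⟨b, rfl⟩
  intro k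
  induction k with
  | zero =>
    intro c hc hle
    exact hfreecase 0 c hc hle (fun i => i.elim0)
  | succ k ih =>
    intro c hc hle
    by_cases hlast : c (Fin.last k) = iotaIdx (Nat.lt_add_of_pos_right hr : d < d + r)
    · have e : zMap K (chainMon K c) = zMap K (chainMon K (fun i : Fin k => c (Fin.castSucc i))) := by
        rw [zMap_chainMon, zMap_chainMon, Fin.prod_univ_castSucc, hlast, zMinor_iota K hr, mul_one]
      rw [e]
      apply ih
      · intro i j hij
        exact hc (Fin.castSucc_le_castSucc_iff.mpr hij)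
      · intro i
        exact hle _
    · apply hfreecase (k + 1) c hc hle
      intro i hi
      apply hlast
      apply le_antisymm _ (iota_le _ _)
      rw [← hi]
      exact hc (Fin.le_last i)

/-- the standard bitableaux of minors of size `≤ t - 1` span `K[x] / I_t`. -/
theorem stdBit_span [Infinite K] (hr : 0 < r) (ht1 : 1 ≤ t) (ht : t ≤ r + 1) :
    Submodule.span K (Set.range fun b : StdBit r d t =>
      Ideal.Quotient.mk (CAlgX.minorIdeal (genMatrix K r d) t) (bitab K t b)) = ⊤ := by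
  classical
  rw [eq_top_iff]
  rintro x -
  obtain ⟨f, rfl⟩ := Ideal.Quotient.mk_surjective x
  obtain ⟨F, rfl⟩ := zMap_surjective K hr f
  obtain ⟨s, a, hs, hFs⟩ := straighten K (plIdeal K (tauT d r t ht))
    (plIdealTop_le_plIdeal K (tauT d r t ht))
    (fun c => ∀ k, c.2.1 k ≤ tauT d r t ht) (by
      intro c hc
      push Not at hc
      obtain ⟨k, hk⟩ := hc
      apply chainMon_mem_of_mem K _ c.2.1 k
      exact Ideal.subset_span (Or.inr ⟨c.2.1 k, hk, rfl⟩)) F
  have h1 := zMap_mem_of_mem_plIdeal K t hr ht1 ht _ hFs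
  rw [map_sub, ← Ideal.Quotient.eq_zero_iff_mem, map_sub, sub_eq_zero] at h1
  rw [h1, map_sum, map_sum]
  apply Submodule.sum_mem
  intro c hc
  rw [map_smul, MvPolynomial.smul_eq_C_mul, map_mul, ← MvPolynomial.algebraMap_eq,
    ← Ideal.Quotient.algebraMap_eq, ← IsScalarTower.algebraMap_apply, ← Algebra.smul_def]
  apply Submodule.smul_mem
  exact zMap_chainMon_mem_span K hr ht1 ht c.1 c.2.1 c.2.2 (hs c hc)

end Groth.Agent.Lib.Helper25.Bitab
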