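import Mathlib
import Groth.Prelude.Def_W4bk4grassmannianPl
import Groth.Prelude.Def_CAlgX
import Groth.Agent.Lib.Helper25BitabStd

/-!
# Second fundamental theorem for `GL_n`: `ker (y ↦ u ξ) = I_{n+1}` (helper25)
-/

noncomputable section

open MvPolynomial W4bk4grassmannian

namespace Groth.Agent.Lib.Helper25.Bitab

open Groth.Agent.Lib.Helper25.Grass

variable (K : Type*) [Field K] (n m q : ℕ)

/-- the pair of generic matrices -/
def uMat : Matrix (Fin m) (Fin n) (PairRing K n m q) := Matrix.of fun i k => X (Sum.inl (i, k))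

def xiMat : Matrix (Fin n) (Fin q) (PairRing K n m q) := Matrix.of fun k j => X (Sum.inr (k, j))

theorem pairingMap_X (p : Fin m × Fin q) :
    pairingMap K n m q (X p) = (uMat K n m q * xiMat K n m q) p.1 p.2 := by
  unfold pairingMap
  rw [aeval_X, Matrix.mul_apply]
  rfl

/-- the determinant of a product through a smaller inner dimension vanishes -/
theorem det_mul_eq_zero_of_lt {S : Type*} [CommRing S] {N : ℕ} (hn : n < N)
    (A : Matrix (Fin N) (Fin n) S) (B : Matrix (Fin n) (Fin N) S) : (A * B).det = 0 := by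
  classical
  let A' : Matrix (Fin N) (Fin N) S := Matrix.of fun i k => if h : k.val < n then A i ⟨k.val, h⟩ else 0
  let B' : Matrix (Fin N) (Fin N) S := Matrix.of fun k j => if h : k.val < n then B ⟨k.val, h⟩ j else 0
  have hAB : A * B = A' * B' := by
    ext i j
    rw [Matrix.mul_apply, Matrix.mul_apply]
    have h1 : ∑ k : Fin N, A' i k * B' k j =
        ∑ k ∈ Finset.range N, (if h : k < n then A i ⟨k, h⟩ * B ⟨k, h⟩ j else 0) := by
      rw [← Fin.sum_univ_eq_sum_range (fun k => if h : k < n then A i ⟨k, h⟩ * B ⟨k, h⟩ j else 0) N]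
      apply Finset.sum_congr rfl
      intro k _
      simp only [A', B', Matrix.of_apply]
      split_ifs
      · rfl
      · rw [zero_mul]
    have h2 : ∑ k : Fin n, A i k * B k j =
        ∑ k ∈ Finset.range n, (if h : k < n then A i ⟨k, h⟩ * B ⟨k, h⟩ j else 0) := by
      rw [← Fin.sum_univ_eq_sum_range (fun k => if h : k < n then A i ⟨k, h⟩ * B ⟨k, h⟩ j else 0) n]
      apply Finset.sum_congr rfl
      intro k _
      rw [dif_pos k.isLt]
    rw [h1, h2]
    apply Finset.sum_subset
    · intro k hk
      rw [Finset.mem_range] at hk ⊢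
      omega
    · intro k _ hk
      rw [Finset.mem_range] at hk
      rw [dif_neg hk]
  rw [hAB, Matrix.det_mul]
  have : A'.det = 0 := by
    apply Matrix.det_eq_zero_of_column_eq_zero (⟨n, hn⟩ : Fin N)
    intro i
    simp only [A', Matrix.of_apply]
    rw [dif_neg (by simp)]
  rw [this, zero_mul]

theorem minorIdeal_le_ker :
    CAlgX.minorIdeal (genMatrix K m q) (n + 1) ≤ RingHom.ker (pairingMap K n m q).toRingHom := by
  unfold CAlgX.minorIdeal
  rw [Ideal.span_le]
  rintro _ ⟨⟨f, g⟩, rfl⟩
  rw [SetLike.mem_coe, RingHom.mem_ker]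
  show pairingMap K n m q (((genMatrix K m q).submatrix f g).det) = 0
  rw [AlgHom.map_det]
  have : (pairingMap K n m q).mapMatrix ((genMatrix K m q).submatrix f g) =
      ((uMat K n m q).submatrix f id) * ((xiMat K n m q).submatrix id g) := by
    apply Matrix.ext
    intro i j
    rw [AlgHom.mapMatrix_apply, Matrix.map_apply, Matrix.submatrix_apply]
    unfold genMatrix
    rw [Matrix.of_apply, pairingMap_X, Matrix.mul_apply, Matrix.mul_apply]
    rfl
  rw [this]
  exact det_mul_eq_zero_of_lt n (Nat.lt_succ_self n) _ _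

/-- `I_s = 0` when `s` exceeds the number of rows. -/
theorem minorIdeal_eq_bot_of_rows (s : ℕ) (hs : m < s) :
    CAlgX.minorIdeal (genMatrix K m q) s = ⊥ := by
  classical
  unfold CAlgX.minorIdeal
  rw [eq_bot_iff, Ideal.span_le]
  rintro _ ⟨⟨f, g⟩, rfl⟩
  rw [SetLike.mem_coe, Ideal.mem_bot]
  have hf : ¬ Function.Injective f := by
    intro hf
    have := Fintype.card_le_of_injective f hf
    simp only [Fintype.card_fin] at this
    omega
  rw [Function.Injective] at hf
  push Not at hf
  obtain ⟨i, j, hij, hne⟩ := hf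
  apply Matrix.det_zero_of_row_eq hne
  funext k
  rw [Matrix.submatrix_apply, Matrix.submatrix_apply]
  show genMatrix K m q (f i) (g k) = genMatrix K m q (f j) (g k)
  rw [hij]

theorem minorIdeal_eq_bot_of_cols (s : ℕ) (hs : q < s) :
    CAlgX.minorIdeal (genMatrix K m q) s = ⊥ := by
  classical
  unfold CAlgX.minorIdeal
  rw [eq_bot_iff, Ideal.span_le]
  rintro _ ⟨⟨f, g⟩, rfl⟩
  rw [SetLike.mem_coe, Ideal.mem_bot]
  have hg : ¬ Function.Injective g := by
    intro hg
    have := Fintype.card_le_of_injective g hg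
    simp only [Fintype.card_fin] at this
    omega
  rw [Function.Injective] at hg
  push Not at hg
  obtain ⟨i, j, hij, hne⟩ := hg
  apply Matrix.det_zero_of_column_eq hne
  intro k
  rw [Matrix.submatrix_apply, Matrix.submatrix_apply]
  show genMatrix K m q (f k) (g i) = genMatrix K m q (f k) (g j)
  rw [hij]

/-- evaluation of `pairingMap` at a pair of matrices -/
theorem eval_pairingMap (U : Matrix (Fin m) (Fin n) K) (W : Matrix (Fin n) (Fin q) K)
    (G : MvPolynomial (Fin m × Fin q) K) :
    MvPolynomial.eval (Sum.elim (fun p : Fin m × Fin n => U p.1 p.2) (fun p : Fin n × Fin q => W p.1 p.2))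
      (pairingMap K n m q G) = MvPolynomial.eval (fun p : Fin m × Fin q => (U * W) p.1 p.2) G := by
  have h : ((MvPolynomial.aeval (Sum.elim (fun p : Fin m × Fin n => U p.1 p.2)
      (fun p : Fin n × Fin q => W p.1 p.2)) : PairRing K n m q →ₐ[K] K).comp (pairingMap K n m q)) =
      (MvPolynomial.aeval (fun p : Fin m × Fin q => (U * W) p.1 p.2) :
        MvPolynomial (Fin m × Fin q) K →ₐ[K] K) := by
    apply MvPolynomial.algHom_ext
    intro p
    rw [AlgHom.comp_apply, aeval_X]
    unfold pairingMap
    rw [aeval_X, map_sum, Matrix.mul_apply]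
    apply Finset.sum_congr rfl
    intro k _
    rw [map_mul, aeval_X, aeval_X]
    rfl
  have := DFunLike.congr_fun h G
  rw [AlgHom.comp_apply] at this
  exact this

variable {n m q}

/-- a cell point coming from a matrix of the shape of `X(τ_t)` factors through `K^n` when `t - 1 ≤ n`. -/
theorem exists_factor (t : ℕ) (ht1 : 1 ≤ t) (ht : t ≤ m + 1) (htq : t ≤ q + 1) (htn : t ≤ n + 1)
    (z : Fin m × Fin q → K) (T : Matrix (Fin q) (Fin q) K) (hT : T.det ≠ 0)
    (hshape : ∀ i j, ¬ i ≤ (tauT q m t ht).1 j → (zMatAt K z * T) i j = 0) :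
    ∃ (U : Matrix (Fin m) (Fin n) K) (W : Matrix (Fin n) (Fin q) K),
      ∀ a c, z (a, c) = (U * W) a c := by
  classical
  set zmat : Matrix (Fin m) (Fin q) K := Matrix.of fun a k => z (a, k) with hzmat
  set Lmat := zmat * T with hLmat
  have hunit : IsUnit T.det := isUnit_iff_ne_zero.mpr hT
  have hL : ∀ (a : Fin m) (j : Fin q), j.val + t ≤ q → Lmat a j = 0 := by
    intro a j hj
    have h1 := hshape (embR q a) j (by
      rw [Fin.le_def, embR_val]
      unfold tauT
      simp only
      rw [dif_pos hj]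
      simp only
      omega)
    rw [Matrix.mul_apply] at h1
    rw [hLmat, Matrix.mul_apply, ← h1]
    apply Finset.sum_congr rfl
    intro k _
    rw [zMatAt_embR]
    rfl
  have hz : zmat = Lmat * T⁻¹ := by
    rw [hLmat, Matrix.mul_assoc, Matrix.mul_nonsing_inv T hunit, Matrix.mul_one]
  let U : Matrix (Fin m) (Fin n) K := Matrix.of fun a k =>
    if h : k.val < t - 1 then Lmat a ⟨q - (t - 1) + k.val, by omega⟩ else 0
  let W : Matrix (Fin n) (Fin q) K := Matrix.of fun k c =>
    if h : k.val < t - 1 then T⁻¹ ⟨q - (t - 1) + k.val, by omega⟩ c else 0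
  refine ⟨U, W, ?_⟩
  intro a c
  have h0 : z (a, c) = (Lmat * T⁻¹) a c := by rw [← hz]; rfl
  rw [h0, Matrix.mul_apply, Matrix.mul_apply]
  let ψ : ℕ → K := fun j => if h : j < q then Lmat a ⟨j, h⟩ * T⁻¹ ⟨j, h⟩ c else 0
  have h1 : ∑ j : Fin q, Lmat a j * T⁻¹ j c = ∑ j ∈ Finset.range q, ψ j := by
    rw [← Fin.sum_univ_eq_sum_range ψ q]
    apply Finset.sum_congr rfl
    intro j _
    simp only [ψ]
    rw [dif_pos j.isLt]
  have h2 : ∑ j ∈ Finset.range q, ψ j = ∑ k ∈ Finset.range (t - 1), ψ (q - (t - 1) + k) := by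
    have e : q = (q - (t - 1)) + (t - 1) := by omega
    conv_lhs => rw [e]
    rw [Finset.sum_range_add]
    rw [Finset.sum_eq_zero, zero_add]
    intro j hj
    rw [Finset.mem_range] at hj
    simp only [ψ]
    rw [dif_pos (by omega), hL a ⟨j, by omega⟩ (by simp only; omega), zero_mul]
  have h3 : ∑ k : Fin n, U a k * W k c = ∑ k ∈ Finset.range (t - 1), ψ (q - (t - 1) + k) := by
    have e : ∑ k : Fin n, U a k * W k c =
        ∑ k ∈ Finset.range n, (if k < t - 1 then ψ (q - (t - 1) + k) else 0) := by
      rw [← Fin.sum_univ_eq_sum_range (fun k => if k < t - 1 then ψ (q - (t - 1) + k) else 0) n]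
      apply Finset.sum_congr rfl
      intro k _
      simp only [U, W, Matrix.of_apply, ψ]
      by_cases hk : k.val < t - 1
      · rw [dif_pos hk, dif_pos hk, if_pos hk, dif_pos (by omega)]
      · rw [dif_neg hk, if_neg hk, zero_mul]
    rw [e]
    symm
    have e2 : ∑ k ∈ Finset.range (t - 1), ψ (q - (t - 1) + k) =
        ∑ k ∈ Finset.range (t - 1), (if k < t - 1 then ψ (q - (t - 1) + k) else 0) := by
      apply Finset.sum_congr rfl
      intro k hk
      rw [Finset.mem_range] at hk
      rw [if_pos hk]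
    rw [e2]
    apply Finset.sum_subset
    · intro k hk
      rw [Finset.mem_range] at hk ⊢
      omega
    · intro k _ hk
      rw [Finset.mem_range] at hk
      rw [if_neg hk]
  rw [h1, h2, h3]

variable (n m q)

theorem ker_pairingMap_of_isEmpty [IsEmpty (Fin m × Fin q)] (F : MvPolynomial (Fin m × Fin q) K)
    (hF : F ∈ RingHom.ker (pairingMap K n m q).toRingHom) : F = 0 := by
  rw [RingHom.mem_ker] at hF
  replace hF : pairingMap K n m q F = 0 := hF
  rw [MvPolynomial.eq_C_of_isEmpty F] at hF ⊢
  rw [← MvPolynomial.algebraMap_eq, AlgHom.commutes, MvPolynomial.algebraMap_eq] at hF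
  rw [MvPolynomial.C_eq_zero.mp hF, map_zero]

/-- **Second fundamental theorem**: the kernel of `y ↦ u ξ` is `I_{n+1}`. -/
theorem ker_pairingMap [Infinite K] :
    RingHom.ker (pairingMap K n m q).toRingHom = CAlgX.minorIdeal (genMatrix K m q) (n + 1) := by
  classical
  apply le_antisymm _ (minorIdeal_le_ker K n m q)
  intro F hF
  rcases Nat.eq_zero_or_pos m with hm | hm
  · subst hm
    haveI : IsEmpty (Fin 0 × Fin q) := ⟨fun p => p.1.elim0⟩
    rw [ker_pairingMap_of_isEmpty K n 0 q F hF]
    exact Ideal.zero_mem _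
  rcases Nat.eq_zero_or_pos q with hq | hq
  · subst hq
    haveI : IsEmpty (Fin m × Fin 0) := ⟨fun p => p.2.elim0⟩
    rw [ker_pairingMap_of_isEmpty K n m 0 F hF]
    exact Ideal.zero_mem _
  set t := min (n + 1) (min m q + 1) with ht_def
  have ht1 : 1 ≤ t := by omega
  have ht : t ≤ m + 1 := by omega
  have htq : t ≤ q + 1 := by omega
  have htn : t ≤ n + 1 := by omega
  have hcase : t = n + 1 ∨ CAlgX.minorIdeal (genMatrix K m q) t = ⊥ := by
    by_cases h : n + 1 ≤ min m q + 1
    · left; omega
    · right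
      have ht' : t = min m q + 1 := by omega
      rcases le_total m q with hmq | hmq
      · apply minorIdeal_eq_bot_of_rows
        rw [ht', min_eq_left hmq]; omega
      · apply minorIdeal_eq_bot_of_cols
        rw [ht', min_eq_right hmq]; omega
  have hIt_le_ker : CAlgX.minorIdeal (genMatrix K m q) t ≤ RingHom.ker (pairingMap K n m q).toRingHom := by
    rcases hcase with h | h
    · rw [h]; exact minorIdeal_le_ker K n m q
    · rw [h]; exact bot_le
  have hIt_le : CAlgX.minorIdeal (genMatrix K m q) t ≤ CAlgX.minorIdeal (genMatrix K m q) (n + 1) := by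
    rcases hcase with h | h
    · rw [h]
    · rw [h]; exact bot_le
  apply hIt_le
  have hspan := stdBit_span K (d := q) (r := m) (t := t) hm ht1 ht
  have hmem : Ideal.Quotient.mk (CAlgX.minorIdeal (genMatrix K m q) t) F ∈
      Submodule.span K (Set.range fun b : StdBit m q t =>
        Ideal.Quotient.mk (CAlgX.minorIdeal (genMatrix K m q) t) (bitab K t b)) := by
    rw [hspan]; trivial
  rw [Finsupp.mem_span_range_iff_exists_finsupp] at hmem
  obtain ⟨l, hl⟩ := hmem
  set G := ∑ b ∈ l.support, l b • bitab K t b with hG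
  have hFG : F - G ∈ CAlgX.minorIdeal (genMatrix K m q) t := by
    rw [← Ideal.Quotient.eq_zero_iff_mem, map_sub, sub_eq_zero, ← hl, hG, map_sum]
    unfold Finsupp.sum
    apply Finset.sum_congr rfl
    intro b _
    rw [MvPolynomial.smul_eq_C_mul, map_mul, ← MvPolynomial.algebraMap_eq,
      ← Ideal.Quotient.algebraMap_eq, ← IsScalarTower.algebraMap_apply]
    beta_reduce
    rw [Algebra.smul_def]
  have hGker : pairingMap K n m q G = 0 := by
    have h1 := hIt_le_ker hFG
    rw [RingHom.mem_ker] at h1 hF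
    replace h1 : pairingMap K n m q (F - G) = 0 := h1
    replace hF : pairingMap K n m q F = 0 := hF
    rw [map_sub, hF, zero_sub, neg_eq_zero] at h1
    exact h1
  have hzero := stdBit_coeff_zero K hq hm ht1 ht l.support (fun b => l b) (by
    intro z T hT hshape
    obtain ⟨U, W, hUW⟩ := exists_factor K (n := n) t ht1 ht htq htn z T hT hshape
    have h1 := eval_pairingMap K n m q U W G
    rw [hGker, map_zero] at h1
    have h2 : (fun p : Fin m × Fin q => (U * W) p.1 p.2) = z := by
      funext p
      exact (hUW p.1 p.2).symm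
    rw [h2] at h1
    rw [← hG]
    exact h1.symm)
  have hG0 : G = 0 := by
    rw [hG]
    apply Finset.sum_eq_zero
    intro b hb
    rw [hzero b hb, zero_smul]
  rw [hG0, sub_zero] at hFG
  exact hFG

end Groth.Agent.Lib.Helper25.Bitab
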