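import Mathlib
import Groth.Prelude.Def_W4bk4grassmannianPl
import Groth.Prelude.Def_CAlgX
import Groth.Agent.Lib.Helper25BitabSFT

/-!
# First fundamental theorem for `GL_n` acting on pairs of matrices (helper25)
-/

noncomputable section

open MvPolynomial W4bk4grassmannian

namespace Groth.Agent.Lib.Helper25.Bitab

open Groth.Agent.Lib.Helper25.Grass

variable (K : Type*) [Field K] (n m q : ℕ)

/-- evaluation of pair polynomials at a pair of matrices -/
def evPair (U : Matrix (Fin m) (Fin n) K) (W : Matrix (Fin n) (Fin q) K) : PairRing K n m q →ₐ[K] K :=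
  MvPolynomial.aeval (Sum.elim (fun p : Fin m × Fin n => U p.1 p.2) (fun p : Fin n × Fin q => W p.1 p.2))

variable {n m q}

theorem evPair_inl (U : Matrix (Fin m) (Fin n) K) (W : Matrix (Fin n) (Fin q) K) (p : Fin m × Fin n) :
    evPair K n m q U W (X (Sum.inl p)) = U p.1 p.2 := by
  unfold evPair; rw [aeval_X]; rfl

theorem evPair_inr (U : Matrix (Fin m) (Fin n) K) (W : Matrix (Fin n) (Fin q) K) (p : Fin n × Fin q) :
    evPair K n m q U W (X (Sum.inr p)) = W p.1 p.2 := by
  unfold evPair; rw [aeval_X]; rfl

theorem evPair_C (U : Matrix (Fin m) (Fin n) K) (W : Matrix (Fin n) (Fin q) K) (a : K) :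
    evPair K n m q U W (C a) = a := by
  unfold evPair; rw [aeval_C]; rfl

theorem evPair_glTranslate (A : GL (Fin n) K) (U : Matrix (Fin m) (Fin n) K)
    (W : Matrix (Fin n) (Fin q) K) (f : PairRing K n m q) :
    evPair K n m q U W (glTranslate K n m q A f) =
      evPair K n m q (U * ((A⁻¹ : GL (Fin n) K) : Matrix (Fin n) (Fin n) K))
        ((A : Matrix (Fin n) (Fin n) K) * W) f := by
  have h : (evPair K n m q U W).comp (glTranslate K n m q A) =
      evPair K n m q (U * ((A⁻¹ : GL (Fin n) K) : Matrix (Fin n) (Fin n) K))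
        ((A : Matrix (Fin n) (Fin n) K) * W) := by
    apply MvPolynomial.algHom_ext
    rintro (p | p)
    · rw [AlgHom.comp_apply, evPair_inl]
      unfold glTranslate
      rw [aeval_X]
      simp only [Sum.elim_inl]
      rw [map_sum, Matrix.mul_apply]
      apply Finset.sum_congr rfl
      intro k _
      rw [map_mul, evPair_inl, evPair_C]
    · rw [AlgHom.comp_apply, evPair_inr]
      unfold glTranslate
      rw [aeval_X]
      simp only [Sum.elim_inr]
      rw [map_sum, Matrix.mul_apply]
      apply Finset.sum_congr rfl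
      intro k _
      rw [map_mul, evPair_inr, evPair_C]
  exact DFunLike.congr_fun h f

theorem pairRing_ext [Infinite K] (f g : PairRing K n m q)
    (h : ∀ (U : Matrix (Fin m) (Fin n) K) (W : Matrix (Fin n) (Fin q) K),
      evPair K n m q U W f = evPair K n m q U W g) : f = g := by
  apply MvPolynomial.funext
  intro x
  have h1 := h (Matrix.of fun i k => x (Sum.inl (i, k))) (Matrix.of fun k j => x (Sum.inr (k, j)))
  have e : (Sum.elim (fun p : Fin m × Fin n => (Matrix.of fun i k => x (Sum.inl (i, k))) p.1 p.2)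
      (fun p : Fin n × Fin q => (Matrix.of fun k j => x (Sum.inr (k, j))) p.1 p.2)) = x := by
    funext p
    rcases p with p | p <;> rfl
  unfold evPair at h1
  rw [e] at h1
  exact h1

theorem evPair_pairingMap (U : Matrix (Fin m) (Fin n) K) (W : Matrix (Fin n) (Fin q) K)
    (G : MvPolynomial (Fin m × Fin q) K) :
    evPair K n m q U W (pairingMap K n m q G) =
      MvPolynomial.eval (fun p : Fin m × Fin q => (U * W) p.1 p.2) G :=
  eval_pairingMap K n m q U W G

/-- the image of the pairing map consists of invariants -/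
theorem glTranslate_pairingMap [Infinite K] (A : GL (Fin n) K) (G : MvPolynomial (Fin m × Fin q) K) :
    glTranslate K n m q A (pairingMap K n m q G) = pairingMap K n m q G := by
  apply pairRing_ext
  intro U W
  rw [evPair_glTranslate, evPair_pairingMap, evPair_pairingMap]
  congr 2
  funext p
  have : U * ((A⁻¹ : GL (Fin n) K) : Matrix (Fin n) (Fin n) K) * ((A : Matrix (Fin n) (Fin n) K) * W) =
      U * W := by
    rw [Matrix.mul_assoc, ← Matrix.mul_assoc _ _ W, ← Units.val_mul, inv_mul_cancel, Units.val_one,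
      Matrix.one_mul]
  rw [this]

/-! ### the normal form on `det U₁ det W₁ ≠ 0` -/

section Main

variable {K} (hm : n ≤ m) (hq : n ≤ q)

/-- the top left `n × n` block -/
def top11 {R : Type*} (P : Matrix (Fin m) (Fin q) R) : Matrix (Fin n) (Fin n) R :=
  P.submatrix (Fin.castLE hm) (Fin.castLE hq)

/-- first component of the normal form, as a function of the product matrix -/
def nfU (P : Matrix (Fin m) (Fin q) K) : Matrix (Fin m) (Fin n) K :=
  (top11 hm hq P).det⁻¹ • (P.submatrix id (Fin.castLE hq) * (top11 hm hq P).adjugate)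

/-- second component of the normal form -/
def nfW (P : Matrix (Fin m) (Fin q) K) : Matrix (Fin n) (Fin q) K :=
  P.submatrix (Fin.castLE hm) id

theorem top11_mul (U : Matrix (Fin m) (Fin n) K) (W : Matrix (Fin n) (Fin q) K) :
    top11 hm hq (U * W) = U.submatrix (Fin.castLE hm) id * W.submatrix id (Fin.castLE hq) := by
  ext i j
  unfold top11
  rw [Matrix.submatrix_apply, Matrix.mul_apply, Matrix.mul_apply]
  rfl

theorem nfW_mul (U : Matrix (Fin m) (Fin n) K) (W : Matrix (Fin n) (Fin q) K) :
    nfW hm (U * W) = U.submatrix (Fin.castLE hm) id * W := by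
  ext i j
  unfold nfW
  rw [Matrix.submatrix_apply, Matrix.mul_apply, Matrix.mul_apply]
  rfl

theorem nfU_mul (U : Matrix (Fin m) (Fin n) K) (W : Matrix (Fin n) (Fin q) K)
    (hU : (U.submatrix (Fin.castLE hm) id).det ≠ 0) (hW : (W.submatrix id (Fin.castLE hq)).det ≠ 0) :
    nfU hm hq (U * W) = U * (U.submatrix (Fin.castLE hm) id)⁻¹ := by
  unfold nfU
  rw [top11_mul]
  set U₁ := U.submatrix (Fin.castLE hm) id with hU₁
  set W₁ := W.submatrix id (Fin.castLE hq) with hW₁
  have h1 : (U * W).submatrix id (Fin.castLE hq) = U * W₁ := by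
    ext i j
    rw [Matrix.submatrix_apply, Matrix.mul_apply, Matrix.mul_apply]
    rfl
  rw [h1, Matrix.adjugate_mul_distrib, Matrix.det_mul, Matrix.mul_assoc, ← Matrix.mul_assoc W₁,
    Matrix.mul_adjugate, Matrix.smul_mul, Matrix.one_mul, Matrix.mul_smul, smul_smul,
    Matrix.inv_def, Ring.inverse_eq_inv', Matrix.mul_smul]
  congr 1
  field_simp

variable (K)

/-- `δ_Y`: the top left `n × n` minor of the generic matrix -/
def deltaY : MvPolynomial (Fin m × Fin q) K := (top11 hm hq (genMatrix K m q)).det

/-- the entries of `Y^1 · adj(Y₁₁)` -/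
def Gmat : Matrix (Fin m) (Fin n) (MvPolynomial (Fin m × Fin q) K) :=
  (genMatrix K m q).submatrix id (Fin.castLE hq) * (top11 hm hq (genMatrix K m q)).adjugate

theorem map_genMatrix (P : Matrix (Fin m) (Fin q) K) :
    (genMatrix K m q).map (MvPolynomial.eval fun p : Fin m × Fin q => P p.1 p.2) = P := by
  ext i j
  rw [Matrix.map_apply]
  unfold genMatrix
  rw [Matrix.of_apply, eval_X]

theorem eval_deltaY (P : Matrix (Fin m) (Fin q) K) :
    MvPolynomial.eval (fun p : Fin m × Fin q => P p.1 p.2) (deltaY K hm hq) = (top11 hm hq P).det := by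
  unfold deltaY
  rw [RingHom.map_det]
  congr 1
  conv_rhs => rw [← map_genMatrix K P]
  rfl

theorem eval_Gmat (P : Matrix (Fin m) (Fin q) K) (i : Fin m) (k : Fin n) :
    MvPolynomial.eval (fun p : Fin m × Fin q => P p.1 p.2) (Gmat K hm hq i k) =
      (P.submatrix id (Fin.castLE hq) * (top11 hm hq P).adjugate) i k := by
  have h : (Gmat K hm hq).map (MvPolynomial.eval fun p : Fin m × Fin q => P p.1 p.2) =
      P.submatrix id (Fin.castLE hq) * (top11 hm hq P).adjugate := by
    unfold Gmat
    rw [Matrix.map_mul]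
    have e1 : ((top11 hm hq (genMatrix K m q)).adjugate).map
        (MvPolynomial.eval fun p : Fin m × Fin q => P p.1 p.2) =
        (top11 hm hq P).adjugate := by
      have := RingHom.map_adjugate (MvPolynomial.eval fun p : Fin m × Fin q => P p.1 p.2)
        (top11 hm hq (genMatrix K m q))
      rw [RingHom.mapMatrix_apply, RingHom.mapMatrix_apply] at this
      rw [this]
      congr 1
      conv_rhs => rw [← map_genMatrix K P]
      rfl
    rw [e1]
    congr 1
    conv_rhs => rw [← map_genMatrix K P]
    rfl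
  rw [← h, Matrix.map_apply]

theorem normal_form_gl (f : PairRing K n m q) :
    ∃ (N : ℕ) (F : MvPolynomial (Fin m × Fin q) K), ∀ P : Matrix (Fin m) (Fin q) K,
      (top11 hm hq P).det ≠ 0 →
      (top11 hm hq P).det ^ N * evPair K n m q (nfU hm hq P) (nfW hm P) f =
        MvPolynomial.eval (fun p : Fin m × Fin q => P p.1 p.2) F := by
  classical
  induction f using MvPolynomial.induction_on with
  | C a =>
    refine ⟨0, C a, fun P _ => ?_⟩
    rw [pow_zero, one_mul, evPair_C, eval_C]
  | add p₁ p₂ h₁ h₂ =>
    obtain ⟨N1, F1, h1⟩ := h₁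
    obtain ⟨N2, F2, h2⟩ := h₂
    refine ⟨N1 + N2, deltaY K hm hq ^ N2 * F1 + deltaY K hm hq ^ N1 * F2, fun P hP => ?_⟩
    rw [map_add, map_add, map_mul, map_mul, map_pow, map_pow, eval_deltaY, ← h1 P hP, ← h2 P hP]
    ring
  | mul_X p x hp =>
    obtain ⟨N, F, h⟩ := hp
    rcases x with ⟨i, k⟩ | ⟨k, j⟩
    · refine ⟨N + 1, F * Gmat K hm hq i k, fun P hP => ?_⟩
      rw [map_mul, map_mul, evPair_inl, ← h P hP, eval_Gmat]
      unfold nfU
      rw [Matrix.smul_apply, smul_eq_mul]
      field_simp
      ring
    · refine ⟨N, F * X (Fin.castLE hm k, j), fun P hP => ?_⟩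
      rw [map_mul, map_mul, evPair_inr, ← h P hP, eval_X]
      unfold nfW
      rw [Matrix.submatrix_apply]
      simp only [id]
      ring

theorem evPair_pairingMap_deltaY (U : Matrix (Fin m) (Fin n) K) (W : Matrix (Fin n) (Fin q) K) :
    evPair K n m q U W (pairingMap K n m q (deltaY K hm hq)) =
      (U.submatrix (Fin.castLE hm) id).det * (W.submatrix id (Fin.castLE hq)).det := by
  rw [evPair_pairingMap, eval_deltaY, top11_mul, Matrix.det_mul]

theorem pairingMap_deltaY_ne_zero : pairingMap K n m q (deltaY K hm hq) ≠ 0 := by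
  intro h0
  have h1 := evPair_pairingMap_deltaY K hm hq
    (Matrix.of fun (i : Fin m) (k : Fin n) => if i.val = k.val then (1 : K) else 0)
    (Matrix.of fun (k : Fin n) (j : Fin q) => if k.val = j.val then (1 : K) else 0)
  rw [h0, map_zero] at h1
  have e1 : (Matrix.of fun (i : Fin m) (k : Fin n) => if i.val = k.val then (1 : K) else 0).submatrix
      (Fin.castLE hm) id = 1 := by
    ext i k
    rw [Matrix.submatrix_apply, Matrix.of_apply, Matrix.one_apply]
    simp only [Fin.coe_castLE, id, Fin.ext_iff]
  have e2 : (Matrix.of fun (k : Fin n) (j : Fin q) => if k.val = j.val then (1 : K) else 0).submatrix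
      id (Fin.castLE hq) = 1 := by
    ext i k
    rw [Matrix.submatrix_apply, Matrix.of_apply, Matrix.one_apply]
    simp only [Fin.coe_castLE, id, Fin.ext_iff]
  rw [e1, e2, Matrix.det_one, mul_one] at h1
  exact zero_ne_one h1

/-- for an invariant `f`, a power of `δ` times `f` is a polynomial in the entries of the product -/
theorem exists_pow_mul_eq_gl [Infinite K] (f : PairRing K n m q)
    (hf : ∀ A : GL (Fin n) K, glTranslate K n m q A f = f) :
    ∃ (N : ℕ) (F : MvPolynomial (Fin m × Fin q) K),
      pairingMap K n m q (deltaY K hm hq) ^ N * f = pairingMap K n m q F := by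
  obtain ⟨N, F, h⟩ := normal_form_gl K hm hq f
  refine ⟨N, F, ?_⟩
  have key : pairingMap K n m q (deltaY K hm hq) *
      (pairingMap K n m q (deltaY K hm hq) ^ N * f - pairingMap K n m q F) = 0 := by
    apply pairRing_ext
    intro U W
    rw [map_zero, map_mul, map_sub, map_mul, map_pow, evPair_pairingMap_deltaY, evPair_pairingMap]
    by_cases hU : (U.submatrix (Fin.castLE hm) id).det = 0
    · rw [hU, zero_mul, zero_mul]
    by_cases hW : (W.submatrix id (Fin.castLE hq)).det = 0
    · rw [hW, mul_zero, zero_mul]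
    have hP : (top11 hm hq (U * W)).det ≠ 0 := by
      rw [top11_mul, Matrix.det_mul]
      exact mul_ne_zero hU hW
    have h2 := h (U * W) hP
    have h3 : evPair K n m q (nfU hm hq (U * W)) (nfW hm (U * W)) f = evPair K n m q U W f := by
      rw [nfU_mul hm hq U W hU hW, nfW_mul]
      have h4 := evPair_glTranslate K
        (Matrix.GeneralLinearGroup.mkOfDetNeZero (U.submatrix (Fin.castLE hm) id) hU) U W f
      rw [hf, Matrix.coe_units_inv] at h4
      exact h4.symm
    rw [h3, top11_mul, Matrix.det_mul] at h2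
    rw [h2, sub_self, mul_zero]
  rcases mul_eq_zero.mp key with h0 | h0
  · exact absurd h0 (pairingMap_deltaY_ne_zero K hm hq)
  · exact sub_eq_zero.mp h0

end Main

/-! ### descent -/

theorem exists_stdBit_repr [Infinite K] {r d t : ℕ} (hr : 0 < r) (ht1 : 1 ≤ t) (ht : t ≤ r + 1)
    (F : MvPolynomial (Fin r × Fin d) K) :
    ∃ l : StdBit r d t →₀ K,
      F - ∑ b ∈ l.support, l b • bitab K t b ∈ CAlgX.minorIdeal (genMatrix K r d) t := by
  have hspan := stdBit_span K (d := d) (r := r) (t := t) hr ht1 ht
  have hmem : Ideal.Quotient.mk (CAlgX.minorIdeal (genMatrix K r d) t) F ∈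
      Submodule.span K (Set.range fun b : StdBit r d t =>
        Ideal.Quotient.mk (CAlgX.minorIdeal (genMatrix K r d) t) (bitab K t b)) := by
    rw [hspan]; trivial
  rw [Finsupp.mem_span_range_iff_exists_finsupp] at hmem
  obtain ⟨l, hl⟩ := hmem
  refine ⟨l, ?_⟩
  rw [← Ideal.Quotient.eq_zero_iff_mem, map_sub, sub_eq_zero, ← hl, map_sum]
  unfold Finsupp.sum
  apply Finset.sum_congr rfl
  intro b _
  rw [MvPolynomial.smul_eq_C_mul, map_mul, ← MvPolynomial.algebraMap_eq,
    ← Ideal.Quotient.algebraMap_eq, ← IsScalarTower.algebraMap_apply]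
  beta_reduce
  rw [Algebra.smul_def]

section Descent

variable {n' : ℕ} (hm : n' + 1 ≤ m) (hq : n' + 1 ≤ q)

/-- the least minor of size `n`: the top left one -/
def Mdelta : MinorIdx m q :=
  ⟨n', ⟨Fin.castLE hm, fun a b h => by rw [Fin.lt_def] at h ⊢; simpa using h⟩,
    ⟨Fin.castLE hq, fun a b h => by rw [Fin.lt_def] at h ⊢; simpa using h⟩⟩

theorem minorOf_Mdelta : minorOf K (Mdelta hm hq) = deltaY K hm hq := rfl

theorem minorGE_Mdelta (M : MinorIdx m q) (hM : M.1 ≤ n') : MinorGE M (Mdelta hm hq) := by
  refine ⟨hM, ?_⟩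
  intro j j' hjj'
  constructor
  · rw [Fin.le_def]
    have h1 := Groth.Agent.Lib.Helper24Grass.val_le_of_strictMono M.2.1.1 M.2.1.2 j
    show (Fin.castLE hm j').val ≤ _
    rw [Fin.coe_castLE]
    omega
  · rw [Fin.le_def]
    have h1 := Groth.Agent.Lib.Helper24Grass.val_le_of_strictMono M.2.2.1 M.2.2.2 j
    show (Fin.castLE hq j').val ≤ _
    rw [Fin.coe_castLE]
    omega

theorem eq_Mdelta_of_le (M : MinorIdx m q) (hM : M.1 ≤ n')
    (h : thetaOf (Mdelta hm hq) ≤ thetaOf M) : M = Mdelta hm hq := by
  rw [thetaOf_le_iff] at h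
  exact minorGE_antisymm M _ (minorGE_Mdelta hm hq M hM) h

theorem descent_gl [Infinite K] (f : PairRing K (n' + 1) m q) (N : ℕ)
    (F : MvPolynomial (Fin m × Fin q) K)
    (h : pairingMap K (n' + 1) m q (deltaY K hm hq) ^ (N + 1) * f = pairingMap K (n' + 1) m q F) :
    ∃ F' : MvPolynomial (Fin m × Fin q) K,
      pairingMap K (n' + 1) m q (deltaY K hm hq) ^ N * f = pairingMap K (n' + 1) m q F' := by
  classical
  have hr : 0 < m := by omega
  have hd : 0 < q := by omega
  have ht1 : 1 ≤ n' + 1 + 1 := by omega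
  have ht : n' + 1 + 1 ≤ m + 1 := by omega
  have htq : n' + 1 + 1 ≤ q + 1 := by omega
  obtain ⟨l, hl⟩ := exists_stdBit_repr K (d := q) hr ht1 ht F
  set Sδ := l.support.filter (fun b => ∃ i, b.2.1 i = Mdelta hm hq) with hSδ
  set S0 := l.support.filter (fun b => ¬ ∃ i, b.2.1 i = Mdelta hm hq) with hS0
  let rest : StdBit m q (n' + 1 + 1) → MvPolynomial (Fin m × Fin q) K := fun b =>
    if h : ∃ i, b.2.1 i = Mdelta hm hq then
      ∏ i ∈ Finset.univ.erase (Classical.choose h), minorOf K (b.2.1 i) else 0
  have hrest : ∀ b ∈ Sδ, bitab K (n' + 1 + 1) b = deltaY K hm hq * rest b := by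
    intro b hb
    have hb' := (Finset.mem_filter.mp hb).2
    simp only [rest, dif_pos hb']
    unfold bitab
    rw [← Finset.mul_prod_erase Finset.univ _ (Finset.mem_univ (Classical.choose hb')),
      Classical.choose_spec hb']
    rfl
  set F'' := ∑ b ∈ Sδ, l b • rest b with hF''
  set G := ∑ b ∈ S0, l b • bitab K (n' + 1 + 1) b with hG
  have hsplit : ∑ b ∈ l.support, l b • bitab K (n' + 1 + 1) b = deltaY K hm hq * F'' + G := by
    rw [← Finset.sum_filter_add_sum_filter_not l.support (fun b => ∃ i, b.2.1 i = Mdelta hm hq)]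
    congr 1
    rw [hF'', Finset.mul_sum]
    apply Finset.sum_congr rfl
    intro b hb
    rw [hrest b hb, mul_smul_comm]
  rw [hsplit] at hl
  have hker := minorIdeal_le_ker K (n' + 1) m q hl
  rw [RingHom.mem_ker] at hker
  replace hker : pairingMap K (n' + 1) m q (F - (deltaY K hm hq * F'' + G)) = 0 := hker
  rw [map_sub, map_add, map_mul, sub_eq_zero] at hker
  set δ := pairingMap K (n' + 1) m q (deltaY K hm hq) with hδ
  have hδne : δ ≠ 0 := pairingMap_deltaY_ne_zero K hm hq
  have hGeq : pairingMap K (n' + 1) m q G = δ * (δ ^ N * f - pairingMap K (n' + 1) m q F'') := by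
    rw [pow_succ] at h
    have : pairingMap K (n' + 1) m q G = pairingMap K (n' + 1) m q F - δ * pairingMap K (n' + 1) m q F'' := by
      rw [hker]; ring
    rw [this, ← h]
    ring
  have hzero : ∀ b ∈ S0, l b = 0 := by
    intro b hb
    have hbS : ¬ ∃ i, b.2.1 i = Mdelta hm hq := (Finset.mem_filter.mp hb).2
    have hdn : q < q + m := Nat.lt_add_of_pos_right hr
    -- the Schubert variety of the top of the chain
    obtain ⟨τ', hτ'le, hnot, hle⟩ : ∃ τ' : Idx q (q + m), τ' ≤ tauT q m (n' + 1 + 1) ht ∧
        ¬ thetaOf (Mdelta hm hq) ≤ τ' ∧ ∀ k, chOf b k ≤ τ' := by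
      by_cases hlen : 0 < b.1
      · refine ⟨chOf b ⟨0, hlen⟩, chOf_le ht1 ht b _, ?_, ?_⟩
        · intro hle
          apply hbS
          refine ⟨Fin.rev ⟨0, hlen⟩, eq_Mdelta_of_le hm hq _ ?_ hle⟩
          have := b.2.2.1 (Fin.rev ⟨0, hlen⟩)
          omega
        · intro k
          exact chOf_antitone b (by rw [Fin.le_def]; exact Nat.zero_le _)
      · refine ⟨iotaIdx hdn, iota_le hdn _, ?_, ?_⟩
        · intro hle
          exact thetaOf_ne_iota hr (Mdelta hm hq) (le_antisymm hle (iota_le hdn _))
        · intro k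
          exact absurd k.isLt (by omega)
    apply stdBit_coeff_zero' K hd hr τ' S0 (fun b => l b) _ b hb hle
    intro z T hT hshape
    have hshape' : ∀ i j, ¬ i ≤ (tauT q m (n' + 1 + 1) ht).1 j → (zMatAt K z * T) i j = 0 := by
      intro i j hij
      apply hshape
      intro h'
      exact hij (le_trans h' (hτ'le j))
    obtain ⟨U, W, hUW⟩ := exists_factor K (n := n' + 1) (n' + 1 + 1) ht1 ht htq le_rfl z T hT hshape'
    have hz : (fun p : Fin m × Fin q => (U * W) p.1 p.2) = z := by
      funext p
      exact (hUW p.1 p.2).symm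
    have h1 : MvPolynomial.eval z G = evPair K (n' + 1) m q U W (pairingMap K (n' + 1) m q G) := by
      rw [evPair_pairingMap, hz]
    rw [← hG, h1, hGeq, map_mul]
    have h2 : evPair K (n' + 1) m q U W δ = 0 := by
      rw [hδ, evPair_pairingMap, hz, ← minorOf_Mdelta]
      obtain ⟨u, hu, huz⟩ := zMinor_thetaOf' K (Mdelta hm hq)
      have h3 : minorOf K (Mdelta hm hq) = u • zMinor K (thetaOf (Mdelta hm hq)).1 := by
        rw [huz, smul_smul, hu, one_smul]
      rw [h3, smul_eval, eval_zMinor]
      have h4 := det_submatrix_eq_zero_of_shape τ' (thetaOf (Mdelta hm hq)) hnot (zMatAt K z * T) hshape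
      rw [det_submatrix_mul] at h4
      rw [(mul_eq_zero.mp h4).resolve_right hT, mul_zero]
    rw [h2, zero_mul]
  have hG0 : G = 0 := by
    rw [hG]
    apply Finset.sum_eq_zero
    intro b hb
    rw [hzero b hb, zero_smul]
  refine ⟨F'', ?_⟩
  rw [hG0, map_zero, add_zero] at hker
  rw [pow_succ] at h
  have h5 : δ * (δ ^ N * f) = δ * pairingMap K (n' + 1) m q F'' := by
    rw [← hker, ← h]; ring
  exact mul_left_cancel₀ hδne h5

end Descent

/-- the first fundamental theorem when `m, q ≥ n`. -/
theorem fft_gl_main [Infinite K] (hm : n ≤ m) (hq : n ≤ q) (f : PairRing K n m q)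
    (hf : ∀ A : GL (Fin n) K, glTranslate K n m q A f = f) :
    f ∈ (pairingMap K n m q).range := by
  obtain ⟨N, F, h⟩ := exists_pow_mul_eq_gl K hm hq f hf
  rcases Nat.eq_zero_or_pos n with hn | hn
  · subst hn
    have h1 : deltaY K hm hq = 1 := by
      unfold deltaY
      exact Matrix.det_isEmpty
    rw [h1, map_one, one_pow, one_mul] at h
    exact ⟨F, h.symm⟩
  · obtain ⟨n', rfl⟩ : ∃ n', n = n' + 1 := ⟨n - 1, by omega⟩
    induction N generalizing F with
    | zero =>
      rw [pow_zero, one_mul] at h
      exact ⟨F, h.symm⟩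
    | succ N ih =>
      obtain ⟨F', h'⟩ := descent_gl K hm hq f N F h
      exact ih F' h'

/-! ### reduction to `m, q ≥ n` by adding `n` rows and columns -/

variable (n m q)

/-- inclusion of the small pair ring into the big one -/
def jmap : PairRing K n m q →ₐ[K] PairRing K n (n + m) (n + q) :=
  MvPolynomial.aeval (Sum.elim
    (fun p : Fin m × Fin n => X (Sum.inl (Fin.natAdd n p.1, p.2)))
    (fun p : Fin n × Fin q => X (Sum.inr (p.1, Fin.natAdd n p.2))))

/-- setting the extra variables to zero -/
def pimap : PairRing K n (n + m) (n + q) →ₐ[K] PairRing K n m q :=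
  MvPolynomial.aeval (Sum.elim
    (fun p : Fin (n + m) × Fin n =>
      Fin.addCases (fun _ => (0 : PairRing K n m q)) (fun i => X (Sum.inl (i, p.2))) p.1)
    (fun p : Fin n × Fin (n + q) =>
      Fin.addCases (fun _ => (0 : PairRing K n m q)) (fun j => X (Sum.inr (p.1, j))) p.2))

/-- setting the extra entries of the big generic matrix to zero -/
def piY : MvPolynomial (Fin (n + m) × Fin (n + q)) K →ₐ[K] MvPolynomial (Fin m × Fin q) K :=
  MvPolynomial.aeval fun p : Fin (n + m) × Fin (n + q) =>
    Fin.addCases (fun _ => (0 : MvPolynomial (Fin m × Fin q) K))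
      (fun i => Fin.addCases (fun _ => (0 : MvPolynomial (Fin m × Fin q) K)) (fun j => X (i, j)) p.2) p.1

theorem pimap_jmap (f : PairRing K n m q) : pimap K n m q (jmap K n m q f) = f := by
  have h : (pimap K n m q).comp (jmap K n m q) = AlgHom.id K _ := by
    apply MvPolynomial.algHom_ext
    rintro (p | p)
    · rw [AlgHom.comp_apply]
      unfold jmap pimap
      rw [aeval_X]
      simp only [Sum.elim_inl]
      rw [aeval_X]
      simp only [Sum.elim_inl, Fin.addCases_right]
      rfl
    · rw [AlgHom.comp_apply]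
      unfold jmap pimap
      rw [aeval_X]
      simp only [Sum.elim_inr]
      rw [aeval_X]
      simp only [Sum.elim_inr, Fin.addCases_right]
      rfl
  exact DFunLike.congr_fun h f

theorem glTranslate_jmap (A : GL (Fin n) K) (f : PairRing K n m q) :
    glTranslate K n (n + m) (n + q) A (jmap K n m q f) = jmap K n m q (glTranslate K n m q A f) := by
  have h : (glTranslate K n (n + m) (n + q) A).comp (jmap K n m q) =
      (jmap K n m q).comp (glTranslate K n m q A) := by
    apply MvPolynomial.algHom_ext
    rintro (p | p)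
    · rw [AlgHom.comp_apply, AlgHom.comp_apply]
      unfold jmap glTranslate
      rw [aeval_X, aeval_X]
      simp only [Sum.elim_inl]
      rw [aeval_X]
      simp only [Sum.elim_inl]
      rw [map_sum]
      apply Finset.sum_congr rfl
      intro k _
      rw [map_mul, aeval_X, aeval_C]
      rfl
    · rw [AlgHom.comp_apply, AlgHom.comp_apply]
      unfold jmap glTranslate
      rw [aeval_X, aeval_X]
      simp only [Sum.elim_inr]
      rw [aeval_X]
      simp only [Sum.elim_inr]
      rw [map_sum]
      apply Finset.sum_congr rfl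
      intro k _
      rw [map_mul, aeval_X, aeval_C]
      rfl
  exact DFunLike.congr_fun h f

theorem pimap_pairingMap (G : MvPolynomial (Fin (n + m) × Fin (n + q)) K) :
    pimap K n m q (pairingMap K n (n + m) (n + q) G) = pairingMap K n m q (piY K n m q G) := by
  have h : (pimap K n m q).comp (pairingMap K n (n + m) (n + q)) =
      (pairingMap K n m q).comp (piY K n m q) := by
    apply MvPolynomial.algHom_ext
    rintro ⟨i', j'⟩
    rw [AlgHom.comp_apply, AlgHom.comp_apply]
    unfold pairingMap piY
    rw [aeval_X, aeval_X, map_sum]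
    simp only
    induction i' using Fin.addCases with
    | left a =>
      simp only [Fin.addCases_left, map_zero]
      apply Finset.sum_eq_zero
      intro k _
      rw [map_mul]
      unfold pimap
      rw [aeval_X]
      simp only [Sum.elim_inl, Fin.addCases_left, zero_mul]
    | right i =>
      induction j' using Fin.addCases with
      | left b =>
        simp only [Fin.addCases_left, Fin.addCases_right, map_zero]
        apply Finset.sum_eq_zero
        intro k _
        rw [map_mul]
        unfold pimap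
        rw [aeval_X, aeval_X]
        simp only [Sum.elim_inr, Fin.addCases_left, mul_zero]
      | right j =>
        simp only [Fin.addCases_right]
        rw [aeval_X]
        apply Finset.sum_congr rfl
        intro k _
        rw [map_mul]
        unfold pimap
        rw [aeval_X, aeval_X]
        simp only [Sum.elim_inl, Sum.elim_inr, Fin.addCases_right]
  exact DFunLike.congr_fun h G

variable {n m q}

/-- **First fundamental theorem for `GL_n`** acting on pairs of matrices. -/
theorem fft_gl [Infinite K] (f : PairRing K n m q) :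
    (∀ A : GL (Fin n) K, glTranslate K n m q A f = f) ↔ f ∈ (pairingMap K n m q).range := by
  constructor
  · intro hf
    have hf' : ∀ A : GL (Fin n) K,
        glTranslate K n (n + m) (n + q) A (jmap K n m q f) = jmap K n m q f := by
      intro A
      rw [glTranslate_jmap, hf A]
    obtain ⟨G, hG⟩ := fft_gl_main K (Nat.le_add_right n m) (Nat.le_add_right n q) (jmap K n m q f) hf'
    refine ⟨piY K n m q G, ?_⟩
    have h1 := pimap_pairingMap K n m q G
    show pairingMap K n m q (piY K n m q G) = f
    rw [← h1]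
    have hG' : pairingMap K n (n + m) (n + q) G = jmap K n m q f := hG
    rw [hG', pimap_jmap]
  · rintro ⟨G, rfl⟩ A
    exact glTranslate_pairingMap K A G

end Groth.Agent.Lib.Helper25.Bitab
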