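import Groth.Agent.Lib.Helper25CE3
import Groth.Prelude.Def_CartDual2

/-!
# Helper25CD1: splitting of faithfully flat projective algebras; a Hopf ideal from its invariants

`exists_retraction_of_faithfullyFlat_of_projective`, `counit_T_quot`, `augIdealSpan_coinvSub`.
-/

set_option autoImplicit false
set_option linter.unusedSimpArgs false
set_option linter.unusedSectionVars false
set_option linter.unusedVariables false
set_option linter.style.haveILetI false
universe u v

open TensorProduct WithConv Groth.Agent.Lib.Helper25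

namespace Groth.Agent.Lib.Helper25.CD

section Split

variable {B : Type u} [CommRing B] {A : Type v} [CommRing A] [Algebra B A]

/-- A faithfully flat, finitely generated projective algebra has a module retraction onto the
base. -/
theorem exists_retraction_of_faithfullyFlat_of_projective [Module.FaithfullyFlat B A]
    [Module.Finite B A] [Module.Projective B A] :
    ∃ φ : A →ₗ[B] B, φ 1 = 1 := by
  classical
  -- the trace ideal
  obtain ⟨T, hTdef⟩ : ∃ T : Ideal B, T = Ideal.span {b | ∃ (ψ : A →ₗ[B] B) (a : A), ψ a = b} :=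
    ⟨_, rfl⟩
  have hTA : T • (⊤ : Submodule B A) = ⊤ := by
    rw [eq_top_iff]
    intro a _
    obtain ⟨s, hs⟩ := Module.projective_def'.mp (inferInstance : Module.Projective B A)
    have h1 : a = Finsupp.linearCombination B id (s a) := (LinearMap.congr_fun hs a).symm
    rw [h1, Finsupp.linearCombination_apply]
    apply Submodule.sum_mem
    intro x _
    apply Submodule.smul_mem_smul _ Submodule.mem_top
    rw [hTdef]
    apply Ideal.subset_span
    exact ⟨(Finsupp.lapply x).comp s, a, rfl⟩
  have hT : T = ⊤ := by
    by_contra hne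
    obtain ⟨m, hm, hle⟩ := Ideal.exists_le_maximal T hne
    have h2 := Module.FaithfullyFlat.submodule_ne_top (R := B) (M := A) hm
    have h3 : m • (⊤ : Submodule B A) = ⊤ :=
      eq_top_iff.mpr (le_trans (le_of_eq hTA.symm) (Submodule.smul_mono_left hle))
    exact h2 h3
  have h1 : (1 : B) ∈ T := by rw [hT]; exact Submodule.mem_top
  -- express 1 as a combination
  have key : ∀ b ∈ T, ∃ φ : A →ₗ[B] B, φ 1 = b := by
    intro b hb
    rw [hTdef] at hb
    induction hb using Submodule.span_induction with
    | mem b hb =>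
      obtain ⟨ψ, a, rfl⟩ := hb
      exact ⟨ψ.comp (LinearMap.mulLeft B a), by simp⟩
    | zero => exact ⟨0, rfl⟩
    | add x y _ _ hx hy =>
      obtain ⟨φ₁, h₁⟩ := hx
      obtain ⟨φ₂, h₂⟩ := hy
      exact ⟨φ₁ + φ₂, by simp [h₁, h₂]⟩
    | smul r x _ hx =>
      obtain ⟨φ₁, h₁⟩ := hx
      exact ⟨r • φ₁, by simp [h₁]⟩
  exact key 1 h1

end Split

section AugSpan

variable {R : Type u} [CommRing R] {A : Type u} [CommRing A] [HopfAlgebra R A]
  (I : Ideal A) [I.IsHopfIdeal R] [Module.Finite R (A ⧸ I)] [Module.Projective R (A ⧸ I)]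

open HopfRep KT in
theorem counit_T_quot (τ : (A ⧸ I) →ₗ[R] R) (z : A) :
    letI := KT.quotComod (k := R) I
    CoalgebraStruct.counit (R := R) (T (A := A ⧸ I) τ z) = τ (Ideal.Quotient.mk I z) := by
  letI := KT.quotComod (k := R) I
  rw [T_apply]
  have h1 : Comod.coact (k := R) (A := A ⧸ I) z =
      Algebra.TensorProduct.map (AlgHom.id R A) (Ideal.Quotient.mkₐ R I)
        (CoalgebraStruct.comul (R := R) z) := KT.quotComod_coact I z
  rw [h1]
  have h2 : ∀ w : A ⊗[R] A, CoalgebraStruct.counit (R := R)
      (slice A τ (Algebra.TensorProduct.map (AlgHom.id R A) (Ideal.Quotient.mkₐ R I) w)) =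
      τ (Ideal.Quotient.mk I (TensorProduct.lid R A
        ((CoalgebraStruct.counit (R := R) (A := A)).rTensor A w))) := by
    intro w
    induction w using TensorProduct.induction_on with
    | zero => simp
    | add x y hx hy => simp only [map_add, hx, hy]
    | tmul x y =>
      rw [Algebra.TensorProduct.map_tmul, slice_tmul, LinearMap.rTensor_tmul,
        TensorProduct.lid_tmul]
      have e1 : Ideal.Quotient.mk I (CoalgebraStruct.counit (R := R) x • y) =
          CoalgebraStruct.counit (R := R) x • Ideal.Quotient.mk I y :=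
        map_smul (Ideal.Quotient.mkₐ R I) _ _
      rw [e1, map_smul, map_smul, smul_eq_mul, smul_eq_mul, mul_comm]
      rfl
  rw [h2, Coalgebra.rTensor_counit_comul, TensorProduct.lid_tmul, one_smul]

open HopfRep KT in
/-- The Hopf ideal is recovered from its invariants as the ideal generated by their augmentation
ideal. -/
theorem augIdealSpan_coinvSub : SGA3.augIdealSpan R A (coinvSub R I) = I := by
  classical
  apply le_antisymm
  · unfold SGA3.augIdealSpan
    rw [Ideal.span_le]
    rintro b ⟨hb, hb0⟩
    have h1 := CE.mk_of_mem I hb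
    have h2 : Bialgebra.counitAlgHom R A b = 0 := hb0
    rw [h2, map_zero] at h1
    exact Ideal.Quotient.eq_zero_iff_mem.mp h1
  · intro c hc
    letI := KT.quotComod (k := R) I
    obtain ⟨S, τ, hint, hsum⟩ := exists_dualBasis (R := R) (H := A ⧸ I) (A := A) (hcan_quot I)
    rw [← hsum c]
    apply Ideal.sum_mem
    intro σ hσ
    apply Ideal.mul_mem_left
    apply Ideal.subset_span
    refine ⟨?_, ?_⟩
    · have h1 := T_mem_invariants (R := R) (H := A ⧸ I) (A := A) (τ σ) (hint σ hσ) (σ.2.2 * c)
      have h2 := equalizer_eq_invariants (k := R) I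
      have h3 : T (τ σ) (σ.2.2 * c) ∈ AlgHom.equalizer
          ((Algebra.TensorProduct.map (AlgHom.id R A) (Ideal.Quotient.mkₐ R I)).comp
            (Bialgebra.comulAlgHom R A))
          (Algebra.TensorProduct.includeLeft : A →ₐ[R] A ⊗[R] (A ⧸ I)) := by
        rw [h2]; exact h1
      exact h3
    · rw [counit_T_quot, Ideal.Quotient.eq_zero_iff_mem.mpr (I.mul_mem_left _ hc), map_zero]

end AugSpan

end Groth.Agent.Lib.Helper25.CD
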