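import Groth.Agent.Lib.Helper25CD1
import Groth.Agent.Lib.Helper25FrobSplit2

/-!
# Helper25CD2: exactness of Cartier duality for finite locally free commutative group schemes

`exists_linear_retraction`, `mem_coinvSub_ker_of_comp_trivial`, `map_id_comul_of_mem_coinvSub_ker`,
`faithfullyFlat_of_range_eq`, `isHopfIdeal_ker_transpose`, `transpose_exact`.
-/

set_option autoImplicit false
set_option linter.unusedSimpArgs false
set_option linter.unusedSectionVars false
set_option linter.unusedVariables false
set_option linter.style.haveILetI false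
universe u v

open TensorProduct WithConv Groth.Agent.Lib.Helper25

namespace Groth.Agent.Lib.Helper25.CD

section Retract

variable {R : Type u} [CommRing R] [IsNoetherianRing R]
  {A A'' : Type u} [CommRing A] [Algebra R A] [Module.Finite R A]
  [CommRing A''] [Algebra R A''] [Module.Finite R A'']

/-- A faithfully flat algebra map between module-finite algebras over a Noetherian ring has a
linear retraction. -/
theorem exists_linear_retraction (f : A'' →ₐ[R] A) (hf : f.toRingHom.FaithfullyFlat) :
    ∃ r : A →ₗ[R] A'', ∀ x, r (f x) = x := by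
  letI : Algebra A'' A := f.toRingHom.toAlgebra
  haveI : Module.FaithfullyFlat A'' A := hf
  haveI : IsScalarTower R A'' A := IsScalarTower.of_algebraMap_eq (fun r => (f.commutes r).symm)
  haveI : Module.Finite A'' A := Module.Finite.of_restrictScalars_finite R A'' A
  haveI : IsNoetherianRing A'' := IsNoetherianRing.of_finite R A''
  haveI : Module.FinitePresentation A'' A := Module.finitePresentation_of_finite A'' A
  haveI : Module.Projective A'' A := Module.Flat.projective_of_finitePresentation
  obtain ⟨φ, hφ⟩ := exists_retraction_of_faithfullyFlat_of_projective (B := A'') (A := A)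
  refine ⟨φ.restrictScalars R, fun x => ?_⟩
  have h1 : f x = x • (1 : A) := by
    rw [Algebra.smul_def, mul_one]; rfl
  rw [LinearMap.restrictScalars_apply, h1, map_smul, hφ, smul_eq_mul, mul_one]

end Retract

section Generic

variable {R : Type u} [CommRing R]
  {C' C C'' : Type u} [CommRing C'] [HopfAlgebra R C'] [CommRing C] [HopfAlgebra R C]
  [CommRing C''] [HopfAlgebra R C'']
  (gt : C' →ₐc[R] C) (ft : C →ₐc[R] C'')

/-- **G1**: if `ft ∘ gt` is trivial, the image of `gt` consists of invariants for `ker ft`. -/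
theorem mem_coinvSub_ker_of_comp_trivial
    (h : ∀ z, ft (gt z) = algebraMap R C'' (Bialgebra.counitAlgHom R C' z)) (x' : C') :
    gt x' ∈ coinvSub R (RingHom.ker (ft : C →ₐ[R] C'')) := by
  obtain ⟨K, hK⟩ : ∃ K : Ideal C, K = RingHom.ker (ft : C →ₐ[R] C'') := ⟨_, rfl⟩
  rw [← hK]
  unfold coinvSub rhoR
  rw [AlgHom.mem_equalizer, AlgHom.comp_apply, Bialgebra.comulAlgHom_apply]
  have h1 := CoalgHomClass.map_comp_comul_apply gt x'
  rw [← h1]
  have key : ∀ z : C', Ideal.Quotient.mkₐ R K (gt z) =
      algebraMap R _ (Bialgebra.counitAlgHom R C' z) := by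
    intro z
    have h2 : gt z - algebraMap R C (Bialgebra.counitAlgHom R C' z) ∈ K := by
      rw [hK, RingHom.mem_ker]
      change ft (gt z - _) = 0
      rw [map_sub, h, sub_eq_zero]
      exact (AlgHomClass.commutes ft _).symm
    have h3 := Ideal.Quotient.eq_zero_iff_mem.mpr h2
    rw [map_sub, sub_eq_zero] at h3
    rw [Ideal.Quotient.mkₐ_eq_mk, h3]
    rfl
  have h4 : ∀ w : C' ⊗[R] C',
      (Algebra.TensorProduct.map (AlgHom.id R C) (Ideal.Quotient.mkₐ R K))
        (TensorProduct.map ((gt : C' →ₐc[R] C) : C' →ₗ[R] C) ((gt : C' →ₐc[R] C) : C' →ₗ[R] C) w) =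
      (gt (TensorProduct.rid R _
        ((Coalgebra.counit (R := R) (A := C')).lTensor _ w))) ⊗ₜ[R] 1 := by
    intro w
    induction w using TensorProduct.induction_on with
    | zero => simp
    | add x y hx hy => simp only [map_add, hx, hy, add_tmul]
    | tmul y z =>
      rw [TensorProduct.map_tmul, Algebra.TensorProduct.map_tmul, LinearMap.lTensor_tmul,
        TensorProduct.rid_tmul]
      have h5 : ((gt : C' →ₐc[R] C) : C' →ₗ[R] C) z = gt z := rfl
      rw [h5, key z, map_smul, TensorProduct.smul_tmul, Algebra.algebraMap_eq_smul_one]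
      rfl
  rw [h4, Coalgebra.lTensor_counit_comul, TensorProduct.rid_tmul, one_smul]
  rfl

/-- **G2**: invariants for `ker ft` satisfy `(id ⊗ ft) Δ x = x ⊗ 1`. -/
theorem map_id_comul_of_mem_coinvSub_ker {x : C}
    (hx : x ∈ coinvSub R (RingHom.ker (ft : C →ₐ[R] C''))) :
    Algebra.TensorProduct.map (AlgHom.id R C) (ft : C →ₐ[R] C'')
      (CoalgebraStruct.comul (R := R) x) = x ⊗ₜ[R] 1 := by
  obtain ⟨K, hK⟩ : ∃ K : Ideal C, K = RingHom.ker (ft : C →ₐ[R] C'') := ⟨_, rfl⟩
  rw [← hK] at hx
  unfold coinvSub rhoR at hx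
  rw [AlgHom.mem_equalizer, AlgHom.comp_apply, Bialgebra.comulAlgHom_apply] at hx
  have hle : ∀ a ∈ K, (ft : C →ₐ[R] C'') a = 0 := by
    intro a ha
    rw [hK] at ha
    exact ha
  have h1 : (Algebra.TensorProduct.map (AlgHom.id R C) (Ideal.Quotient.liftₐ K (ft : C →ₐ[R] C'') hle)).comp
      (Algebra.TensorProduct.map (AlgHom.id R C) (Ideal.Quotient.mkₐ R K)) =
      Algebra.TensorProduct.map (AlgHom.id R C) (ft : C →ₐ[R] C'') := by
    apply Algebra.TensorProduct.ext
    · ext c; simp
    · ext c
      simp only [AlgHom.coe_comp, Function.comp_apply, Algebra.TensorProduct.includeRight_apply,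
        Algebra.TensorProduct.map_tmul, map_one]
      rfl
  have h2 := congrArg (Algebra.TensorProduct.map (AlgHom.id R C)
    (Ideal.Quotient.liftₐ K (ft : C →ₐ[R] C'') hle)) hx
  rw [← AlgHom.comp_apply, h1] at h2
  rw [h2]
  simp

/-- An injective algebra map whose range is a subalgebra over which the target is faithfully flat
is faithfully flat. -/
theorem faithfullyFlat_of_range_eq (φ : C' →ₐ[R] C) (hinj : Function.Injective φ)
    (S : Subalgebra R C) (hS : φ.range = S) [Module.FaithfullyFlat ↥S C] :
    φ.toRingHom.FaithfullyFlat := by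
  subst hS
  let e : C' ≃ₐ[R] φ.range := AlgEquiv.ofInjective φ hinj
  have h1 : φ.toRingHom = (algebraMap ↥φ.range C).comp (e : C' →+* ↥φ.range) := by
    ext x
    rfl
  rw [h1]
  apply RingHom.FaithfullyFlat.stableUnderComposition
  · exact RingHom.FaithfullyFlat.of_bijective e.bijective
  · exact RingHom.faithfullyFlat_algebraMap_iff.mpr inferInstance

end Generic

section Dual

variable {R : Type u} [CommRing R]
  {A' A A'' : Type u} [CommRing A'] [HopfAlgebra R A'] [Coalgebra.IsCocomm R A']
  [Module.Finite R A'] [Module.Projective R A']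
  [CommRing A] [HopfAlgebra R A] [Coalgebra.IsCocomm R A] [Module.Finite R A]
  [Module.Projective R A]
  [CommRing A''] [HopfAlgebra R A''] [Coalgebra.IsCocomm R A''] [Module.Finite R A'']
  [Module.Projective R A'']
  (f : A'' →ₐc[R] A) (g : A →ₐc[R] A')

theorem transpose_surjective_of_retraction (r : A →ₗ[R] A'') (hr : ∀ x, r (f x) = x) :
    Function.Surjective (CartDual.transpose R f) := by
  intro y
  refine ⟨toConv (y.ofConv ∘ₗ r), ?_⟩
  apply WithConv.ext
  apply LinearMap.ext
  intro a
  change (CartDual.transpose R f (toConv (y.ofConv ∘ₗ r))) a = y a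
  rw [CartDual.transpose_apply]
  change y.ofConv (r (f a)) = y a
  rw [hr]

theorem transpose_injective_of_surjective (hg : Function.Surjective g) :
    Function.Injective (CartDual.transpose R g) := by
  intro x y hxy
  apply WithConv.ext
  apply LinearMap.ext
  intro a'
  obtain ⟨a, rfl⟩ := hg a'
  have := congrArg (fun z : CartDual.D R A => z a) hxy
  simpa [CartDual.transpose_apply] using this

/-- The kernel of the transpose of `f` is a Hopf ideal (when the transpose is surjective). -/
theorem isHopfIdeal_ker_transpose (hs : Function.Surjective (CartDual.transpose R f)) :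
    (RingHom.ker (CartDual.transpose R f : CartDual.D R A →ₐ[R] CartDual.D R A'')).IsHopfIdeal R := by
  obtain ⟨K, hK⟩ : ∃ K : Ideal (CartDual.D R A),
    K = RingHom.ker (CartDual.transpose R f : CartDual.D R A →ₐ[R] CartDual.D R A'') := ⟨_, rfl⟩
  rw [← hK]
  have hmem : ∀ x, x ∈ K ↔ CartDual.transpose R f x = 0 := by
    intro x; rw [hK]; exact RingHom.mem_ker
  let e : (CartDual.D R A ⧸ K) ≃ₐ[R] CartDual.D R A'' :=
    (Ideal.quotientEquivAlgOfEq R hK).trans
      (Ideal.quotientKerAlgEquivOfSurjective
        (f := (CartDual.transpose R f : CartDual.D R A →ₐ[R] CartDual.D R A'')) hs)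
  have he : ∀ x : CartDual.D R A, e (Ideal.Quotient.mk K x) = CartDual.transpose R f x :=
    fun x => rfl
  have hco : (K.restrictScalars R).IsCoideal := by
    refine ⟨?_, ?_⟩
    · intro x hx
      have h1 : CartDual.transpose R f x = 0 := (hmem x).mp hx
      have h2 := CoalgHomClass.counit_comp_apply (CartDual.transpose R f) x
      rw [← h2, h1, map_zero]
    · intro x hx
      have h1 : CartDual.transpose R f x = 0 := (hmem x).mp hx
      change TensorProduct.map (Ideal.Quotient.mkₐ R K).toLinearMap
        (Ideal.Quotient.mkₐ R K).toLinearMap (Coalgebra.comul (R := R) x) = 0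
      have hinj : Function.Injective (TensorProduct.map e.toLinearMap e.toLinearMap) :=
        (TensorProduct.congr e.toLinearEquiv e.toLinearEquiv).injective
      apply hinj
      rw [map_zero, ← LinearMap.comp_apply, ← TensorProduct.map_comp]
      have h3 : e.toLinearMap ∘ₗ (Ideal.Quotient.mkₐ R K).toLinearMap =
          ((CartDual.transpose R f : CartDual.D R A →ₐc[R] CartDual.D R A'') :
            CartDual.D R A →ₗ[R] CartDual.D R A'') := by
        apply LinearMap.ext
        intro z
        exact he z
      rw [h3]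
      have h4 := CoalgHomClass.map_comp_comul_apply (CartDual.transpose R f) x
      rw [h4, h1, map_zero]
  refine { toIsCoideal := hco, antipode_mem := ?_ }
  intro x hx
  have h1 : CartDual.transpose R f x = 0 := (hmem x).mp hx
  rw [hmem]
  have h2 := LinearMap.congr_fun (FrobSplit.antipode_comp_bialgHom (CartDual.transpose R f)) x
  simp only [LinearMap.comp_apply] at h2
  change CartDual.transpose R f (HopfAlgebra.antipode R x) = 0
  have h3 : (CartDual.transpose R f) (HopfAlgebra.antipode R x) =
      HopfAlgebra.antipode R ((CartDual.transpose R f) x) := h2.symm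
  rw [h3, h1, map_zero]

include g in
/-- `g ∘ f` is trivial when the kernel of `g` is generated by the augmentation ideal of `A''`. -/
theorem comp_eq_of_ker
    (hker : RingHom.ker (g : A →ₐ[R] A') =
      Ideal.map (f : A'' →ₐ[R] A) (RingHom.ker (Bialgebra.counitAlgHom R A''))) (a'' : A'') :
    g (f a'') = algebraMap R A' (Bialgebra.counitAlgHom R A'' a'') := by
  have h1 : f (a'' - algebraMap R A'' (Bialgebra.counitAlgHom R A'' a'')) ∈
      RingHom.ker (g : A →ₐ[R] A') := by
    rw [hker]
    apply Ideal.mem_map_of_mem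
    rw [RingHom.mem_ker, map_sub, AlgHom.commutes, sub_eq_zero]
    rfl
  rw [RingHom.mem_ker] at h1
  have h2 : g (f (a'' - algebraMap R A'' (Bialgebra.counitAlgHom R A'' a''))) = 0 := h1
  rw [map_sub, map_sub, sub_eq_zero] at h2
  rw [h2]
  have h3 : f (algebraMap R A'' (Bialgebra.counitAlgHom R A'' a'')) =
    algebraMap R A (Bialgebra.counitAlgHom R A'' a'') := AlgHomClass.commutes f _
  rw [h3]
  exact AlgHomClass.commutes g _

theorem transpose_transpose_apply
    (hker : RingHom.ker (g : A →ₐ[R] A') =
      Ideal.map (f : A'' →ₐ[R] A) (RingHom.ker (Bialgebra.counitAlgHom R A''))) (z : CartDual.D R A') :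
    CartDual.transpose R f (CartDual.transpose R g z) =
      algebraMap R (CartDual.D R A'') (Bialgebra.counitAlgHom R (CartDual.D R A') z) := by
  apply WithConv.ext
  apply LinearMap.ext
  intro a''
  change (CartDual.transpose R f (CartDual.transpose R g z)) a'' = _
  rw [CartDual.transpose_apply, CartDual.transpose_apply, comp_eq_of_ker f g hker]
  rw [Algebra.algebraMap_eq_smul_one, Algebra.algebraMap_eq_smul_one]
  change z.ofConv (_ • (1 : A')) = (_ • (1 : CartDual.D R A'')).ofConv a''
  rw [map_smul]
  change _ • z.ofConv 1 = ((Bialgebra.counitAlgHom R (CartDual.D R A')) z) •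
    ((1 : CartDual.D R A'').ofConv a'')
  have h1 : (Bialgebra.counitAlgHom R (CartDual.D R A')) z = z.ofConv 1 := rfl
  have h2 : (1 : CartDual.D R A'').ofConv a'' = Bialgebra.counitAlgHom R A'' a'' := by
    change (1 : CartDual.D R A'') a'' = _
    rw [LinearMap.convOne_apply]
    simp
  rw [h1, h2, smul_eq_mul, smul_eq_mul, mul_comm]

theorem transpose_mem_coinvSub
    (hker : RingHom.ker (g : A →ₐ[R] A') =
      Ideal.map (f : A'' →ₐ[R] A) (RingHom.ker (Bialgebra.counitAlgHom R A''))) (x' : CartDual.D R A') :
    CartDual.transpose R g x' ∈ coinvSub R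
      (RingHom.ker (CartDual.transpose R f : CartDual.D R A →ₐ[R] CartDual.D R A'')) :=
  mem_coinvSub_ker_of_comp_trivial (CartDual.transpose R g) (CartDual.transpose R f)
    (transpose_transpose_apply f g hker) x'

/-- evaluation of `D ⊗ D''` on `a ⊗ a''` -/
noncomputable def evPair (a : A) (a'' : A'') : CartDual.D R A ⊗[R] CartDual.D R A'' →ₗ[R] R :=
  LinearMap.mul' R R ∘ₗ TensorProduct.map
    ((Module.Dual.eval R A a) ∘ₗ (CartDual.toDual R A).toLinearMap)
    ((Module.Dual.eval R A'' a'') ∘ₗ (CartDual.toDual R A'').toLinearMap)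

theorem evPair_tmul (a : A) (a'' : A'') (x : CartDual.D R A) (y : CartDual.D R A'') :
    evPair a a'' (x ⊗ₜ[R] y) = x a * y a'' := rfl

theorem evPair_map_transpose (a : A) (a'' : A'') (w : CartDual.D R A ⊗[R] CartDual.D R A) :
    evPair a a'' (Algebra.TensorProduct.map (AlgHom.id R (CartDual.D R A))
      (CartDual.transpose R f : CartDual.D R A →ₐ[R] CartDual.D R A'') w) =
      CartDual.ev₂ R A w (a ⊗ₜ[R] f a'') := by
  induction w using TensorProduct.induction_on with
  | zero => simp
  | add x y hx hy => simp only [map_add, hx, hy, LinearMap.add_apply]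
  | tmul x y =>
    rw [Algebra.TensorProduct.map_tmul, evPair_tmul, CartDual.ev₂_tmul]
    rfl

theorem apply_mul_of_mem_coinvSub {x : CartDual.D R A}
    (hx : x ∈ coinvSub R
      (RingHom.ker (CartDual.transpose R f : CartDual.D R A →ₐ[R] CartDual.D R A'')))
    (a : A) (a'' : A'') : x (a * f a'') = x a * Bialgebra.counitAlgHom R A'' a'' := by
  have h1 := map_id_comul_of_mem_coinvSub_ker (CartDual.transpose R f) hx
  have h2 := congrArg (evPair a a'') h1
  rw [evPair_map_transpose, evPair_tmul] at h2
  have h3 : CartDual.ev₂ R A (CoalgebraStruct.comul (R := R) x) (a ⊗ₜ[R] f a'') =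
      x (a * f a'') := CartDual.ev₂_coalgebra_comul_tmul R A x a (f a'')
  rw [h3] at h2
  rw [h2]
  congr 1

theorem exists_transpose_eq_of_mem_coinvSub (hg : Function.Surjective g)
    (hker : RingHom.ker (g : A →ₐ[R] A') =
      Ideal.map (f : A'' →ₐ[R] A) (RingHom.ker (Bialgebra.counitAlgHom R A'')))
    {x : CartDual.D R A}
    (hx : x ∈ coinvSub R
      (RingHom.ker (CartDual.transpose R f : CartDual.D R A →ₐ[R] CartDual.D R A''))) :
    ∃ x' : CartDual.D R A', CartDual.transpose R g x' = x := by
  -- `x` vanishes on the kernel of `g`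
  have h1 : ∀ y ∈ Ideal.map (f : A'' →ₐ[R] A) (RingHom.ker (Bialgebra.counitAlgHom R A'')),
      ∀ a : A, x (a * y) = 0 := by
    intro y hy
    unfold Ideal.map at hy
    induction hy using Submodule.span_induction with
    | mem y hy =>
      obtain ⟨a'', ha'', rfl⟩ := hy
      intro a
      have h2 := apply_mul_of_mem_coinvSub f hx a a''
      rw [SetLike.mem_coe, RingHom.mem_ker] at ha''
      rw [ha'', mul_zero] at h2
      exact h2
    | zero => intro a; rw [mul_zero]; exact map_zero x.ofConv
    | add y z _ _ hy hz =>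
      intro a
      rw [mul_add]
      exact (map_add x.ofConv _ _).trans (by rw [hy a, hz a, add_zero])
    | smul c y _ hy =>
      intro a
      rw [smul_eq_mul, ← mul_assoc]
      exact hy (a * c)
  have h2 : LinearMap.ker ((g : A →ₐ[R] A').toLinearMap) ≤ LinearMap.ker x.ofConv := by
    intro y hy
    have hy' : y ∈ RingHom.ker (g : A →ₐ[R] A') := hy
    rw [hker] at hy'
    have := h1 y hy' 1
    rw [one_mul] at this
    exact this
  have hg' : Function.Surjective ((g : A →ₐ[R] A').toLinearMap) := hg
  let e := ((g : A →ₐ[R] A').toLinearMap).quotKerEquivOfSurjective hg'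
  refine ⟨toConv ((Submodule.liftQ _ x.ofConv h2) ∘ₗ e.symm.toLinearMap), ?_⟩
  apply WithConv.ext
  apply LinearMap.ext
  intro a
  change (CartDual.transpose R g _) a = x a
  rw [CartDual.transpose_apply]
  change (Submodule.liftQ _ x.ofConv h2) (e.symm (g a)) = x a
  have h3 : e.symm (g a) = Submodule.Quotient.mk a := by
    rw [LinearEquiv.symm_apply_eq]
    rfl
  rw [h3]
  rfl

/-- **Exactness of Cartier duality.** -/
theorem transpose_exact [IsNoetherianRing R]
    (hf : (f : A'' →ₐ[R] A).toRingHom.FaithfullyFlat) (hg : Function.Surjective g)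
    (hker : RingHom.ker (g : A →ₐ[R] A') =
      Ideal.map (f : A'' →ₐ[R] A) (RingHom.ker (Bialgebra.counitAlgHom R A''))) :
    (CartDual.transpose R g : CartDual.D R A' →ₐ[R] CartDual.D R A).toRingHom.FaithfullyFlat ∧
      Function.Surjective (CartDual.transpose R f) ∧
      RingHom.ker (CartDual.transpose R f : CartDual.D R A →ₐ[R] CartDual.D R A'') =
        Ideal.map (CartDual.transpose R g : CartDual.D R A' →ₐ[R] CartDual.D R A)
          (RingHom.ker (Bialgebra.counitAlgHom R (CartDual.D R A'))) := by
  obtain ⟨r, hr⟩ := exists_linear_retraction (f : A'' →ₐ[R] A) hf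
  have hs := transpose_surjective_of_retraction f r hr
  haveI := isHopfIdeal_ker_transpose f hs
  let e : (CartDual.D R A ⧸
      RingHom.ker (CartDual.transpose R f : CartDual.D R A →ₐ[R] CartDual.D R A'')) ≃ₐ[R]
      CartDual.D R A'' :=
    Ideal.quotientKerAlgEquivOfSurjective
      (f := (CartDual.transpose R f : CartDual.D R A →ₐ[R] CartDual.D R A'')) hs
  haveI : Module.Projective R (CartDual.D R A ⧸
      RingHom.ker (CartDual.transpose R f : CartDual.D R A →ₐ[R] CartDual.D R A'')) :=
    Module.Projective.of_equiv e.symm.toLinearEquiv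
  haveI : Module.Finite R (CartDual.D R A ⧸
      RingHom.ker (CartDual.transpose R f : CartDual.D R A →ₐ[R] CartDual.D R A'')) :=
    Module.Finite.equiv e.symm.toLinearEquiv
  obtain ⟨hff, -, -⟩ := CE.coinvSub_facts (R := R)
    (RingHom.ker (CartDual.transpose R f : CartDual.D R A →ₐ[R] CartDual.D R A''))
  haveI := hff
  have hrange : (CartDual.transpose R g : CartDual.D R A' →ₐ[R] CartDual.D R A).range =
      coinvSub R (RingHom.ker (CartDual.transpose R f : CartDual.D R A →ₐ[R] CartDual.D R A'')) := by
    ext x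
    constructor
    · rintro ⟨x', rfl⟩
      exact transpose_mem_coinvSub f g hker x'
    · intro hx
      obtain ⟨x', rfl⟩ := exists_transpose_eq_of_mem_coinvSub f g hg hker hx
      exact ⟨x', rfl⟩
  refine ⟨?_, hs, ?_⟩
  · exact faithfullyFlat_of_range_eq _ (transpose_injective_of_surjective g hg) _ hrange
  · have h1 := augIdealSpan_coinvSub (R := R)
      (RingHom.ker (CartDual.transpose R f : CartDual.D R A →ₐ[R] CartDual.D R A''))
    rw [← h1]
    unfold SGA3.augIdealSpan Ideal.map
    congr 1
    ext b
    constructor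
    · rintro ⟨hb, hb0⟩
      rw [← hrange] at hb
      obtain ⟨z, rfl⟩ := hb
      refine ⟨z, ?_, rfl⟩
      rw [SetLike.mem_coe, RingHom.mem_ker]
      have h2 := CoalgHomClass.counit_comp_apply (CartDual.transpose R g) z
      exact h2.symm.trans hb0
    · rintro ⟨z, hz, rfl⟩
      refine ⟨?_, ?_⟩
      · rw [← hrange]
        exact ⟨z, rfl⟩
      · rw [SetLike.mem_coe, RingHom.mem_ker] at hz
        have h2 := CoalgHomClass.counit_comp_apply (CartDual.transpose R g) z
        exact h2.trans hz

end Dual

end Groth.Agent.Lib.Helper25.CD
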