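import Groth.Agent.Lib.Helper25EtConn2

/-!
# Helper25CE1: the connected component `(1 - e)` of a finite group scheme is a Hopf ideal (helper25)

`rho`, `rinv` (right translation coaction of `A ⧸ I` and its invariants), `convMul_apply_of_mem`,
`mk_of_mem`, `idem_eq_of_lift_eq`, `e_mem_rinv`, `map_mk_mk_comul_e`, `mk_antipode_e`,
`isHopfIdeal_span`, `mul_e_of_mem`.
-/

set_option autoImplicit false
set_option linter.style.haveILetI false
set_option linter.unusedSimpArgs false
set_option linter.unusedSectionVars false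
set_option linter.unusedVariables false
universe u

open TensorProduct WithConv

namespace Groth.Agent.Lib.Helper25.CE

section Basic

variable {R : Type u} [CommRing R] {A : Type u} [CommRing A] [HopfAlgebra R A] (I : Ideal A)

/-- Right translation coaction of `A ⧸ I` on `A`, as an algebra map. -/
noncomputable abbrev rho : A →ₐ[R] A ⊗[R] (A ⧸ I) :=
  (Algebra.TensorProduct.map (AlgHom.id R A) (Ideal.Quotient.mkₐ R I)).comp
    (Bialgebra.comulAlgHom R A)

/-- The subalgebra of right `A ⧸ I`-invariants. -/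
noncomputable abbrev rinv : Subalgebra R A :=
  AlgHom.equalizer (rho (R := R) I) (Algebra.TensorProduct.includeLeft : A →ₐ[R] A ⊗[R] (A ⧸ I))

theorem lift_comul {T : Type*} [CommRing T] [Algebra R T] (f g : A →ₐ[R] T) (a : A) :
    Algebra.TensorProduct.lift f g (fun _ _ => .all ..) (CoalgebraStruct.comul (R := R) a) =
      (toConv f * toConv g).ofConv a :=
  (AlgHom.convMul_apply (toConv f) (toConv g) a).symm

theorem rho_eq_convMul :
    rho (R := R) I = (toConv (Algebra.TensorProduct.includeLeft : A →ₐ[R] A ⊗[R] (A ⧸ I)) *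
      toConv ((Algebra.TensorProduct.includeRight : (A ⧸ I) →ₐ[R] A ⊗[R] (A ⧸ I)).comp
        (Ideal.Quotient.mkₐ R I))).ofConv := by
  apply AlgHom.ext
  intro a
  rw [← lift_comul]
  change (Algebra.TensorProduct.map (AlgHom.id R A) (Ideal.Quotient.mkₐ R I))
    (CoalgebraStruct.comul (R := R) a) = _
  congr 1
  apply Algebra.TensorProduct.ext
  · ext x; simp
  · ext x; simp

/-- **N1**: an invariant function is unchanged by right translation by a point of the subgroup. -/
theorem convMul_apply_of_mem {T : Type*} [CommRing T] [Algebra R T] {b : A}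
    (hb : b ∈ rinv (R := R) I) (g h : A →ₐ[R] T) (hk : ∀ a ∈ I, h a = 0) :
    (toConv g * toConv h).ofConv b = g b := by
  rw [← lift_comul]
  have h1 : Algebra.TensorProduct.lift g h (fun _ _ => .all ..) =
      (Algebra.TensorProduct.lift g (Ideal.Quotient.liftₐ I h hk) (fun _ _ => .all ..)).comp
        (Algebra.TensorProduct.map (AlgHom.id R A) (Ideal.Quotient.mkₐ R I)) := by
    apply Algebra.TensorProduct.ext
    · ext x; simp
    · ext x
      simp only [AlgHom.coe_comp, Function.comp_apply, Algebra.TensorProduct.includeRight_apply,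
        Algebra.TensorProduct.lift_tmul, map_one, one_mul, Algebra.TensorProduct.map_tmul,
        Ideal.Quotient.mkₐ_eq_mk]
      rfl
  rw [h1, AlgHom.comp_apply]
  have h2 : (Algebra.TensorProduct.map (AlgHom.id R A) (Ideal.Quotient.mkₐ R I))
      (CoalgebraStruct.comul (R := R) b) = b ⊗ₜ[R] 1 := (AlgHom.mem_equalizer _ _ _).mp hb
  rw [h2]
  simp

/-- An invariant function restricted to the subgroup is constant. -/
theorem mk_of_mem {b : A} (hb : b ∈ rinv (R := R) I) :
    Ideal.Quotient.mk I b = algebraMap R (A ⧸ I) (Bialgebra.counitAlgHom R A b) := by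
  have h := convMul_apply_of_mem I hb
    ((Algebra.ofId R (A ⧸ I)).comp (Bialgebra.counitAlgHom R A)) (Ideal.Quotient.mkₐ R I)
    (fun a ha => by simpa using Ideal.Quotient.eq_zero_iff_mem.mpr ha)
  have h1 : toConv ((Algebra.ofId R (A ⧸ I)).comp (Bialgebra.counitAlgHom R A)) = 1 := rfl
  rw [h1, one_mul] at h
  exact h

end Basic

section Conn

variable {R : Type u} [CommRing R] {A : Type u} [CommRing A] [HopfAlgebra R A]
  (e : A) (hε : Bialgebra.counitAlgHom R A e = 1)

include hε in
theorem span_le_ker_counit :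
    Ideal.span ({1 - e} : Set A) ≤ RingHom.ker (Bialgebra.counitAlgHom R A) := by
  rw [Ideal.span_le]
  rintro _ rfl
  change (1 - e) ∈ RingHom.ker (Bialgebra.counitAlgHom R A)
  rw [RingHom.mem_ker, map_sub, map_one, hε, sub_self]

/-- The counit induced on `A ⧸ (1 - e)`. -/
noncomputable def rho0 : (A ⧸ Ideal.span ({1 - e} : Set A)) →ₐ[R] R :=
  Ideal.Quotient.liftₐ (Ideal.span ({1 - e} : Set A)) (Bialgebra.counitAlgHom R A)
    (fun a ha => span_le_ker_counit e hε ha)

theorem rho0_mk (a : A) :
    rho0 e hε (Ideal.Quotient.mk (Ideal.span ({1 - e} : Set A)) a) =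
      Bialgebra.counitAlgHom R A a := rfl

theorem mk_e : Ideal.Quotient.mk (Ideal.span ({1 - e} : Set A)) e = 1 := by
  have h : Ideal.Quotient.mk (Ideal.span ({1 - e} : Set A)) (1 - e) = 0 :=
    Ideal.Quotient.eq_zero_iff_mem.mpr (Ideal.subset_span rfl)
  rw [map_sub, map_one, sub_eq_zero] at h
  exact h.symm

variable [Module.Finite R A] [IsLocalRing (A ⧸ Ideal.span ({1 - e} : Set A))]

/-- Two idempotents of `A ⊗ H` (`H = A/(1-e)` local with retraction) agreeing after `id ⊗ ρ₀`
are equal. -/
theorem idem_eq_of_lift_eq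
    (F₁ F₂ : A ⊗[R] (A ⧸ Ideal.span ({1 - e} : Set A)))
    (h1 : IsIdempotentElem F₁) (h2 : IsIdempotentElem F₂)
    (h : Algebra.TensorProduct.lift (AlgHom.id R A) ((Algebra.ofId R A).comp (rho0 e hε))
        (fun _ _ => .all ..) F₁ =
      Algebra.TensorProduct.lift (AlgHom.id R A) ((Algebra.ofId R A).comp (rho0 e hε))
        (fun _ _ => .all ..) F₂) : F₁ = F₂ := by
  have key : ∀ F : A ⊗[R] (A ⧸ Ideal.span ({1 - e} : Set A)), IsIdempotentElem F →
      Algebra.TensorProduct.lift (AlgHom.id R A) ((Algebra.ofId R A).comp (rho0 e hε))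
        (fun _ _ => .all ..) F = 0 → F = 0 := by
    intro F hF h0
    have h3 := EtConn2.idempotent_eq_zero_of_lift_eq_zero (rho0 e hε)
      (Algebra.TensorProduct.comm R A _ F) (hF.map _) (by
        have h4 : (Algebra.TensorProduct.lift ((Algebra.ofId R A).comp (rho0 e hε))
            (AlgHom.id R A) (fun _ _ => .all ..)).comp
            (Algebra.TensorProduct.comm R A (A ⧸ Ideal.span ({1 - e} : Set A))).toAlgHom =
            Algebra.TensorProduct.lift (AlgHom.id R A) ((Algebra.ofId R A).comp (rho0 e hε))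
              (fun _ _ => .all ..) := by
          apply Algebra.TensorProduct.ext
          · ext x; simp
          · ext x; simp
        have h5 := congrArg (fun f : _ →ₐ[R] A => f F) h4
        simp only [AlgHom.comp_apply] at h5
        exact h5.trans h0)
    exact (Algebra.TensorProduct.comm R A _).injective (h3.trans (map_zero _).symm)
  have k1 : F₁ * (1 - F₂) = 0 := by
    apply key _ (h1.mul h2.one_sub)
    have h6 := congrArg (Algebra.TensorProduct.lift (AlgHom.id R A)
      ((Algebra.ofId R A).comp (rho0 e hε)) (fun _ _ => .all ..)) h2.eq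
    rw [map_mul] at h6
    rw [map_mul, map_sub, map_one, h, mul_sub, mul_one, h6, sub_self]
  have k2 : F₂ * (1 - F₁) = 0 := by
    apply key _ (h2.mul h1.one_sub)
    have h6 := congrArg (Algebra.TensorProduct.lift (AlgHom.id R A)
      ((Algebra.ofId R A).comp (rho0 e hε)) (fun _ _ => .all ..)) h1.eq
    rw [map_mul] at h6
    rw [map_mul, map_sub, map_one, ← h, mul_sub, mul_one, h6, sub_self]
  rw [mul_sub, mul_one, sub_eq_zero] at k1 k2
  exact k1.trans ((mul_comm _ _).trans k2.symm)

theorem finite_quot : Module.Finite R (A ⧸ Ideal.span ({1 - e} : Set A)) :=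
  Module.Finite.of_surjective (Ideal.Quotient.mkₐ R (Ideal.span ({1 - e} : Set A))).toLinearMap
    Ideal.Quotient.mk_surjective

include hε in
/-- `e` is invariant under right translation by `Spec A/(1-e)`. -/
theorem e_mem_rinv (he : IsIdempotentElem e) : e ∈ rinv (R := R) (Ideal.span ({1 - e} : Set A)) := by
  rw [AlgHom.mem_equalizer]
  apply idem_eq_of_lift_eq e hε _ _ (he.map _) (he.map _)
  have h1 : (Algebra.TensorProduct.lift (AlgHom.id R A) ((Algebra.ofId R A).comp (rho0 e hε))
      (fun _ _ => .all ..)).comp (rho (R := R) (Ideal.span ({1 - e} : Set A))) = AlgHom.id R A := by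
    rw [rho_eq_convMul, AlgHom.comp_convMul_distrib]
    have h2 : (Algebra.TensorProduct.lift (AlgHom.id R A) ((Algebra.ofId R A).comp (rho0 e hε))
      (fun _ _ => .all ..)).comp (ofConv (toConv (Algebra.TensorProduct.includeLeft :
        A →ₐ[R] A ⊗[R] (A ⧸ Ideal.span ({1 - e} : Set A))))) = AlgHom.id R A := by
      ext x; simp
    have h3 : (Algebra.TensorProduct.lift (AlgHom.id R A) ((Algebra.ofId R A).comp (rho0 e hε))
      (fun _ _ => .all ..)).comp (ofConv (toConv ((Algebra.TensorProduct.includeRight :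
        (A ⧸ Ideal.span ({1 - e} : Set A)) →ₐ[R] A ⊗[R] (A ⧸ Ideal.span ({1 - e} : Set A))).comp
        (Ideal.Quotient.mkₐ R (Ideal.span ({1 - e} : Set A)))))) =
        (Algebra.ofId R A).comp (Bialgebra.counitAlgHom R A) := by
      ext x
      simp [rho0_mk]
    rw [h2, h3]
    have h4 : toConv ((Algebra.ofId R A).comp (Bialgebra.counitAlgHom R A)) =
      (1 : WithConv (A →ₐ[R] A)) := rfl
    rw [h4, mul_one, ofConv_toConv]
  have h5 : (Algebra.TensorProduct.lift (AlgHom.id R A) ((Algebra.ofId R A).comp (rho0 e hε))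
      (fun _ _ => .all ..)) (rho (R := R) (Ideal.span ({1 - e} : Set A)) e) = e :=
    congrArg (fun f : A →ₐ[R] A => f e) h1
  rw [h5]
  simp

include hε in
theorem map_mk_mk_comul_e (he : IsIdempotentElem e) :
    Algebra.TensorProduct.map (Ideal.Quotient.mkₐ R (Ideal.span ({1 - e} : Set A)))
      (Ideal.Quotient.mkₐ R (Ideal.span ({1 - e} : Set A)))
      (CoalgebraStruct.comul (R := R) e) = 1 := by
  haveI := finite_quot (R := R) e
  have hidem : IsIdempotentElem (Algebra.TensorProduct.map
      (Ideal.Quotient.mkₐ R (Ideal.span ({1 - e} : Set A)))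
      (Ideal.Quotient.mkₐ R (Ideal.span ({1 - e} : Set A)))
      (Bialgebra.comulAlgHom R A e)) := (he.map _).map _
  have h0 := EtConn2.idempotent_eq_zero_of_lift_eq_zero (rho0 e hε) _ hidem.one_sub (by
    have h1 : (Algebra.TensorProduct.lift
        ((Algebra.ofId R (A ⧸ Ideal.span ({1 - e} : Set A))).comp (rho0 e hε))
        (AlgHom.id R (A ⧸ Ideal.span ({1 - e} : Set A))) (fun _ _ => .all ..)).comp
        (Algebra.TensorProduct.map (Ideal.Quotient.mkₐ R (Ideal.span ({1 - e} : Set A)))
          (Ideal.Quotient.mkₐ R (Ideal.span ({1 - e} : Set A)))) =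
        Algebra.TensorProduct.lift
          ((Algebra.ofId R (A ⧸ Ideal.span ({1 - e} : Set A))).comp (Bialgebra.counitAlgHom R A))
          (Ideal.Quotient.mkₐ R (Ideal.span ({1 - e} : Set A))) (fun _ _ => .all ..) := by
      apply Algebra.TensorProduct.ext
      · ext x; simp [rho0_mk]
      · ext x; simp
    have h2 := congrArg (fun f : A ⊗[R] A →ₐ[R] _ => f (CoalgebraStruct.comul (R := R) e)) h1
    simp only [AlgHom.comp_apply] at h2
    rw [lift_comul] at h2
    have h3 : toConv ((Algebra.ofId R (A ⧸ Ideal.span ({1 - e} : Set A))).comp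
      (Bialgebra.counitAlgHom R A)) = 1 := rfl
    rw [h3, one_mul, ofConv_toConv] at h2
    rw [map_sub, map_one]
    change 1 - (Algebra.TensorProduct.lift
        ((Algebra.ofId R (A ⧸ Ideal.span ({1 - e} : Set A))).comp (rho0 e hε))
        (AlgHom.id R (A ⧸ Ideal.span ({1 - e} : Set A))) (fun _ _ => .all ..))
        ((Algebra.TensorProduct.map (Ideal.Quotient.mkₐ R (Ideal.span ({1 - e} : Set A)))
          (Ideal.Quotient.mkₐ R (Ideal.span ({1 - e} : Set A))))
          (CoalgebraStruct.comul (R := R) e)) = 0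
    rw [h2]
    change 1 - Ideal.Quotient.mk _ e = 0
    rw [mk_e, sub_self])
  exact (sub_eq_zero.mp h0).symm

include hε in
theorem mk_antipode_e (he : IsIdempotentElem e) [Nontrivial R] :
    Ideal.Quotient.mk (Ideal.span ({1 - e} : Set A)) (HopfAlgebra.antipodeAlgHom R A e) = 1 := by
  have hid : IsIdempotentElem (Ideal.Quotient.mk (Ideal.span ({1 - e} : Set A))
      (HopfAlgebra.antipodeAlgHom R A e)) := (he.map _).map _
  rcases IsLocalRing.isUnit_or_isUnit_one_sub_self (Ideal.Quotient.mk (Ideal.span ({1 - e} : Set A))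
      (HopfAlgebra.antipodeAlgHom R A e)) with h | h
  · exact ((IsUnit.mul_eq_right h).mp hid.eq)
  · exfalso
    have hid' := hid.one_sub
    have h1 := (IsUnit.mul_eq_right h).mp hid'.eq
    have h0 := sub_eq_self.mp h1
    have hc := congrArg (rho0 e hε) h0
    rw [rho0_mk, map_zero] at hc
    have h2 : (Bialgebra.counitAlgHom R A) (HopfAlgebra.antipodeAlgHom R A e) =
        Bialgebra.counitAlgHom R A e :=
      congrArg (fun f : A →ₐ[R] R => f e) (AlgHom.counitAlgHom_comp_antipodeAlgHom (R := R) (A := A))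
    rw [h2, hε] at hc
    exact one_ne_zero hc

include hε in
theorem isHopfIdeal_span (he : IsIdempotentElem e) [Nontrivial R] :
    (Ideal.span ({1 - e} : Set A)).IsHopfIdeal R := by
  have hco : ((Ideal.span ({1 - e} : Set A)).restrictScalars R).IsCoideal := by
    refine ⟨?_, ?_⟩
    · intro x hx
      exact span_le_ker_counit e hε hx
    · intro x hx
      change (Algebra.TensorProduct.map (Ideal.Quotient.mkₐ R (Ideal.span ({1 - e} : Set A)))
        (Ideal.Quotient.mkₐ R (Ideal.span ({1 - e} : Set A))))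
        (Bialgebra.comulAlgHom R A x) = 0
      obtain ⟨r, rfl⟩ := Ideal.mem_span_singleton'.mp hx
      rw [map_mul, map_mul, map_sub, map_sub, map_one, map_one]
      change _ * (1 - (Algebra.TensorProduct.map (Ideal.Quotient.mkₐ R (Ideal.span ({1 - e} : Set A)))
        (Ideal.Quotient.mkₐ R (Ideal.span ({1 - e} : Set A))))
        (CoalgebraStruct.comul (R := R) e)) = 0
      rw [map_mk_mk_comul_e e hε he, sub_self, mul_zero]
  refine { toIsCoideal := hco, antipode_mem := ?_ }
  intro x hx
  obtain ⟨r, rfl⟩ := Ideal.mem_span_singleton'.mp hx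
  change HopfAlgebra.antipodeAlgHom R A (r * (1 - e)) ∈ _
  rw [← Ideal.Quotient.eq_zero_iff_mem, map_mul, map_mul, map_sub, map_sub, map_one, map_one,
    mk_antipode_e e hε he, sub_self, mul_zero]

/-- An invariant function times `e` is its value at the unit section times `e`. -/
theorem mul_e_of_mem {b : A} (hb : b ∈ rinv (R := R) (Ideal.span ({1 - e} : Set A)))
    (he : IsIdempotentElem e) :
    b * e = (Bialgebra.counitAlgHom R A b) • e := by
  have h1 := mk_of_mem _ hb
  have h2 : b - algebraMap R A (Bialgebra.counitAlgHom R A b) ∈ Ideal.span ({1 - e} : Set A) := by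
    rw [← Ideal.Quotient.eq_zero_iff_mem, map_sub, h1, sub_eq_zero]
    rfl
  obtain ⟨r, hr⟩ := Ideal.mem_span_singleton'.mp h2
  have h3 : (b - algebraMap R A (Bialgebra.counitAlgHom R A b)) * e = 0 := by
    rw [← hr, mul_assoc, sub_mul, one_mul, he.eq, sub_self, mul_zero]
  rw [sub_mul, sub_eq_zero] at h3
  rw [h3, Algebra.smul_def]

end Conn

end Groth.Agent.Lib.Helper25.CE
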