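import Groth.Agent.Lib.Helper25Comod
import Groth.Prelude.Def_GLin
import Mathlib

/-!
# Quotients by finite group schemes (helper25)

For a commutative Hopf algebra `A`, finite free over `k`, coacting on a commutative algebra `R`:
the characteristic polynomial `chiPoly` of multiplication by `ρ r` on the free `R`-module `R ⊗ A`
is monic, kills `r` and has invariant coefficients (`coeff_chiPoly_mem_invariants`); hence `R` is
integral over the invariants (`isIntegral_invariants`), and over a field with `R` of finite type
the invariants are of finite type and `R` is finite over them (`finite_quotient`).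
Auxiliary: naturality of `chiPoly` (`chiPoly_map`), translation automorphisms `transl`,
`translEquiv` of `S ⊗ A` by points `A →ₐ S` under convolution.
-/

set_option autoImplicit false
universe u v w w'

namespace Groth.Agent.Lib.Helper25

open TensorProduct WithConv HopfRep


section CharNat

variable (k : Type u) [CommRing k] (A : Type v) [CommRing A] [Algebra k A]
  [Module.Free k A] [Module.Finite k A]

/-- The characteristic polynomial of multiplication by `y` on the free `S`-module `S ⊗ A`. -/
noncomputable def chiPoly (S : Type w) [CommRing S] [Algebra k S] (y : S ⊗[k] A) : Polynomial S :=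
  (Algebra.lmul S (S ⊗[k] A) y).charpoly

variable {k A}

theorem chiPoly_monic (S : Type w) [CommRing S] [Algebra k S] (y : S ⊗[k] A) :
    (chiPoly k A S y).Monic :=
  LinearMap.charpoly_monic _

theorem aeval_chiPoly (S : Type w) [CommRing S] [Algebra k S] (y : S ⊗[k] A) :
    Polynomial.aeval y (chiPoly k A S y) = 0 := by
  have h := LinearMap.aeval_self_charpoly (Algebra.lmul S (S ⊗[k] A) y)
  rw [Polynomial.aeval_algHom_apply] at h
  have h2 := LinearMap.congr_fun h 1
  unfold chiPoly
  simpa using h2

omit [Module.Free k A] [Module.Finite k A] in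
theorem basis_repr_map {S : Type w} [CommRing S] [Algebra k S] {S' : Type w'} [CommRing S']
    [Algebra k S'] (θ : S →ₐ[k] S') {ι : Type*} (b : Module.Basis ι k A) (z : S ⊗[k] A) (i : ι) :
    (Algebra.TensorProduct.basis S' b).repr (Algebra.TensorProduct.map θ (AlgHom.id k A) z) i =
      θ ((Algebra.TensorProduct.basis S b).repr z i) := by
  induction z using TensorProduct.induction_on with
  | zero => simp
  | add x y hx hy => simp only [map_add, Finsupp.add_apply, hx, hy]
  | tmul s a =>
    simp [Algebra.TensorProduct.basis_repr_tmul]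

theorem chiPoly_map {S : Type w} [CommRing S] [Algebra k S] {S' : Type w'} [CommRing S']
    [Algebra k S'] (θ : S →ₐ[k] S') (y : S ⊗[k] A) :
    chiPoly k A S' (Algebra.TensorProduct.map θ (AlgHom.id k A) y) =
      (chiPoly k A S y).map (θ : S →+* S') := by
  classical
  let bA := Module.Free.chooseBasis k A
  unfold chiPoly
  rw [← LinearMap.charpoly_toMatrix _ (Algebra.TensorProduct.basis S bA),
    ← LinearMap.charpoly_toMatrix _ (Algebra.TensorProduct.basis S' bA), ← Matrix.charpoly_map]
  congr 1
  ext i j
  rw [LinearMap.toMatrix_apply, Matrix.map_apply, LinearMap.toMatrix_apply]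
  simp only [Algebra.TensorProduct.basis_apply]
  have h1 : (Algebra.lmul S' (S' ⊗[k] A)) ((Algebra.TensorProduct.map θ (AlgHom.id k A)) y)
      ((1 : S') ⊗ₜ[k] bA j) = Algebra.TensorProduct.map θ (AlgHom.id k A)
        ((Algebra.lmul S (S ⊗[k] A)) y ((1 : S) ⊗ₜ[k] bA j)) := by
    simp
  rw [h1, basis_repr_map]
  rfl

end CharNat


section Conj

variable {k : Type u} [CommRing k] {A : Type v} [CommRing A] [Algebra k A]
  [Module.Free k A] [Module.Finite k A]

theorem lmul_algEquiv_charpoly {S : Type w} [CommRing S] [Algebra k S]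
    (Ψ : (S ⊗[k] A) ≃ₐ[S] (S ⊗[k] A)) (y : S ⊗[k] A) :
    (Algebra.lmul S (S ⊗[k] A) (Ψ y)).charpoly = (Algebra.lmul S (S ⊗[k] A) y).charpoly := by
  rw [← LinearEquiv.charpoly_conj Ψ.toLinearEquiv (Algebra.lmul S (S ⊗[k] A) y)]
  congr 1
  apply LinearMap.ext
  intro t
  simp [LinearEquiv.conj_apply]

end Conj

section Auto

variable {k : Type u} [CommRing k] {A : Type v} [CommRing A] [HopfAlgebra k A]
variable {S : Type w} [CommRing S] [Algebra k S]

/-- For a point `u : A → S` of the group, the `S`-algebra endomorphism "translate by `u`" of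
`S ⊗ A`. -/
noncomputable def transl (u : A →ₐ[k] S) : S ⊗[k] A →ₐ[S] S ⊗[k] A :=
  Algebra.TensorProduct.lift (Algebra.ofId S (S ⊗[k] A))
    ((toConv ((Algebra.TensorProduct.includeLeft : S →ₐ[k] S ⊗[k] A).comp u) *
      toConv (Algebra.TensorProduct.includeRight : A →ₐ[k] S ⊗[k] A) :
        WithConv (A →ₐ[k] S ⊗[k] A)).ofConv)
    (fun _ _ => Commute.all _ _)

theorem transl_one_tmul (u : A →ₐ[k] S) (a : A) :
    transl u ((1 : S) ⊗ₜ[k] a) =
      (toConv ((Algebra.TensorProduct.includeLeft : S →ₐ[k] S ⊗[k] A).comp u) *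
      toConv (Algebra.TensorProduct.includeRight : A →ₐ[k] S ⊗[k] A) :
        WithConv (A →ₐ[k] S ⊗[k] A)).ofConv a := by
  simp [transl, ← Algebra.TensorProduct.one_def]

theorem transl_comp_includeRight (u : A →ₐ[k] S) :
    ((transl u).restrictScalars k).comp (Algebra.TensorProduct.includeRight : A →ₐ[k] S ⊗[k] A) =
      (toConv ((Algebra.TensorProduct.includeLeft : S →ₐ[k] S ⊗[k] A).comp u) *
      toConv (Algebra.TensorProduct.includeRight : A →ₐ[k] S ⊗[k] A) :
        WithConv (A →ₐ[k] S ⊗[k] A)).ofConv := by
  apply AlgHom.ext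
  intro a
  exact transl_one_tmul u a

theorem transl_comp_includeLeft (u : A →ₐ[k] S) :
    ((transl u).restrictScalars k).comp (Algebra.TensorProduct.includeLeft : S →ₐ[k] S ⊗[k] A) =
      (Algebra.TensorProduct.includeLeft : S →ₐ[k] S ⊗[k] A) := by
  apply AlgHom.ext
  intro s
  simp [transl]

theorem transl_comp (u v : A →ₐ[k] S) :
    (transl u).comp (transl v) = transl ((toConv v * toConv u : WithConv (A →ₐ[k] S)).ofConv) := by
  apply Algebra.TensorProduct.ext
  · apply AlgHom.ext
    intro s
    simp [transl]
  · have h1 : ((transl u).restrictScalars k).comp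
        ((toConv ((Algebra.TensorProduct.includeLeft : S →ₐ[k] S ⊗[k] A).comp v) *
          toConv (Algebra.TensorProduct.includeRight : A →ₐ[k] S ⊗[k] A) :
            WithConv (A →ₐ[k] S ⊗[k] A)).ofConv) =
        (toConv ((Algebra.TensorProduct.includeLeft : S →ₐ[k] S ⊗[k] A).comp v) *
          (toConv ((Algebra.TensorProduct.includeLeft : S →ₐ[k] S ⊗[k] A).comp u) *
          toConv (Algebra.TensorProduct.includeRight : A →ₐ[k] S ⊗[k] A)) :
            WithConv (A →ₐ[k] S ⊗[k] A)).ofConv := by
      rw [AlgHom.comp_convMul_distrib]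
      simp only [ofConv_toConv]
      rw [← AlgHom.comp_assoc, transl_comp_includeLeft, transl_comp_includeRight]
    have h2 : (toConv ((Algebra.TensorProduct.includeLeft : S →ₐ[k] S ⊗[k] A).comp
        ((toConv v * toConv u : WithConv (A →ₐ[k] S)).ofConv)) : WithConv (A →ₐ[k] S ⊗[k] A)) =
        toConv ((Algebra.TensorProduct.includeLeft : S →ₐ[k] S ⊗[k] A).comp v) *
          toConv ((Algebra.TensorProduct.includeLeft : S →ₐ[k] S ⊗[k] A).comp u) := by
      apply ofConv_injective
      rw [ofConv_toConv, AlgHom.comp_convMul_distrib]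
    apply AlgHom.ext
    intro a
    change transl u (transl v ((1 : S) ⊗ₜ[k] a)) = transl _ ((1 : S) ⊗ₜ[k] a)
    rw [transl_one_tmul, transl_one_tmul, h2, mul_assoc, ← h1]
    rfl

theorem transl_one : transl ((1 : WithConv (A →ₐ[k] S)).ofConv) = AlgHom.id S (S ⊗[k] A) := by
  apply Algebra.TensorProduct.ext
  · apply AlgHom.ext
    intro s
    simp [transl]
  · apply AlgHom.ext
    intro a
    change transl _ ((1 : S) ⊗ₜ[k] a) = (1 : S) ⊗ₜ[k] a
    rw [transl_one_tmul]
    have h2 : (toConv ((Algebra.TensorProduct.includeLeft : S →ₐ[k] S ⊗[k] A).comp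
        ((1 : WithConv (A →ₐ[k] S)).ofConv)) : WithConv (A →ₐ[k] S ⊗[k] A)) = 1 := by
      apply ofConv_injective
      apply AlgHom.ext
      intro a
      simp [Algebra.TensorProduct.algebraMap_apply]
    rw [h2, one_mul]
    rfl

/-- Translation by an invertible point is an automorphism. -/
noncomputable def translEquiv (u u' : A →ₐ[k] S)
    (h1 : (toConv u * toConv u' : WithConv (A →ₐ[k] S)) = 1)
    (h2 : (toConv u' * toConv u : WithConv (A →ₐ[k] S)) = 1) :
    (S ⊗[k] A) ≃ₐ[S] (S ⊗[k] A) :=
  AlgEquiv.ofAlgHom (transl u) (transl u')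
    (by rw [transl_comp, h2, transl_one]) (by rw [transl_comp, h1, transl_one])

@[simp] theorem translEquiv_apply (u u' : A →ₐ[k] S)
    (h1 : (toConv u * toConv u' : WithConv (A →ₐ[k] S)) = 1)
    (h2 : (toConv u' * toConv u : WithConv (A →ₐ[k] S)) = 1) (x : S ⊗[k] A) :
    translEquiv u u' h1 h2 x = transl u x := rfl

end Auto


section Auto2

variable {k : Type u} [CommRing k] {A : Type v} [CommRing A] [HopfAlgebra k A]
variable {S : Type w} [CommRing S] [Algebra k S]

theorem comp_convOne (u : A →ₐ[k] S) :
    u.comp ((1 : WithConv (A →ₐ[k] A)).ofConv) = (1 : WithConv (A →ₐ[k] S)).ofConv := by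
  apply AlgHom.ext
  intro a
  simp

theorem conv_antipode_cancel_right (u : A →ₐ[k] S) :
    (toConv u * toConv (u.comp (HopfAlgebra.antipodeAlgHom k A)) : WithConv (A →ₐ[k] S)) = 1 := by
  have h : (toConv (AlgHom.id k A) * toConv (HopfAlgebra.antipodeAlgHom k A) :
      WithConv (A →ₐ[k] A)) = 1 := by
    have e : (toConv (HopfAlgebra.antipodeAlgHom k A) : WithConv (A →ₐ[k] A)) =
        (toConv (AlgHom.id k A))⁻¹ := rfl
    rw [e, mul_inv_cancel]
  apply ofConv_injective
  rw [← comp_convOne u, ← h, AlgHom.comp_convMul_distrib]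
  rfl

theorem conv_antipode_cancel_left (u : A →ₐ[k] S) :
    (toConv (u.comp (HopfAlgebra.antipodeAlgHom k A)) * toConv u : WithConv (A →ₐ[k] S)) = 1 := by
  apply ofConv_injective
  rw [← comp_convOne u, ← AlgHom.antipode_id_cancel, AlgHom.comp_convMul_distrib]
  rfl

end Auto2


section Inv

variable {k : Type u} [CommRing k] {A : Type v} [CommRing A] [HopfAlgebra k A]
variable {R : Type w} [CommRing R] [Algebra k R]

theorem lift_incl_eq_assoc_symm (r : R) (x : A ⊗[k] A) :
    (((r ⊗ₜ[k] (1 : A)) ⊗ₜ[k] (1 : A) : (R ⊗[k] A) ⊗[k] A)) *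
      Algebra.TensorProduct.lift
        ((Algebra.TensorProduct.includeLeft : R ⊗[k] A →ₐ[k] (R ⊗[k] A) ⊗[k] A).comp
          (Algebra.TensorProduct.includeRight : A →ₐ[k] R ⊗[k] A))
        (Algebra.TensorProduct.includeRight : A →ₐ[k] (R ⊗[k] A) ⊗[k] A)
        (fun _ _ => Commute.all _ _) x =
      (TensorProduct.assoc k R A A).symm (r ⊗ₜ[k] x) := by
  induction x using TensorProduct.induction_on with
  | zero => simp
  | add x y hx hy => simp only [map_add, mul_add, hx, hy, TensorProduct.tmul_add]
  | tmul a b => simp [Algebra.TensorProduct.tmul_mul_tmul]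

theorem transl_includeRight_map (z : R ⊗[k] A) :
    transl (Algebra.TensorProduct.includeRight : A →ₐ[k] R ⊗[k] A)
      (Algebra.TensorProduct.map (Algebra.TensorProduct.includeLeft : R →ₐ[k] R ⊗[k] A)
        (AlgHom.id k A) z) =
      (TensorProduct.assoc k R A A).symm
        ((CoalgebraStruct.comul (R := k) (A := A)).lTensor R z) := by
  induction z using TensorProduct.induction_on with
  | zero => simp
  | add x y hx hy => simp only [map_add, hx, hy]
  | tmul r a =>
    rw [Algebra.TensorProduct.map_tmul, AlgHom.id_apply, LinearMap.lTensor_tmul,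
      ← lift_incl_eq_assoc_symm, Algebra.TensorProduct.includeLeft_apply]
    have e : ((r ⊗ₜ[k] (1 : A)) ⊗ₜ[k] a : (R ⊗[k] A) ⊗[k] A) =
        (r ⊗ₜ[k] (1 : A)) • ((1 : R ⊗[k] A) ⊗ₜ[k] a) := by
      rw [TensorProduct.smul_tmul', smul_eq_mul, mul_one]
    rw [e, map_smul, transl_one_tmul, AlgHom.convMul_apply]
    rw [Algebra.smul_def, Algebra.TensorProduct.algebraMap_apply]
    rfl

variable [Module.Free k A] [Module.Finite k A] [Comod k A R] [GLin.IsCoactAlg k A R]

theorem coeff_chiPoly_mem_invariants (r : R) (i : ℕ) :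
    (chiPoly k A R (Comod.coact (k := k) (A := A) r)).coeff i ∈ GLin.invariants k A R := by
  rw [GLin.mem_invariants_iff]
  have h1 := chiPoly_map (A := A) (Algebra.TensorProduct.includeLeft : R →ₐ[k] R ⊗[k] A)
    (Comod.coact (k := k) (A := A) r)
  have h2 := chiPoly_map (A := A) (GLin.coactAlgHom k A R) (Comod.coact (k := k) (A := A) r)
  have h3 : Algebra.TensorProduct.map (GLin.coactAlgHom k A R) (AlgHom.id k A)
      (Comod.coact (k := k) (A := A) r) =
      translEquiv (Algebra.TensorProduct.includeRight : A →ₐ[k] R ⊗[k] A) _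
        (conv_antipode_cancel_right _) (conv_antipode_cancel_left _)
        (Algebra.TensorProduct.map (Algebra.TensorProduct.includeLeft : R →ₐ[k] R ⊗[k] A)
          (AlgHom.id k A) (Comod.coact (k := k) (A := A) r)) := by
    rw [translEquiv_apply, transl_includeRight_map, ← coassoc_apply]
    generalize Comod.coact (k := k) (A := A) r = z
    induction z using TensorProduct.induction_on with
    | zero => simp
    | add x y hx hy => simp only [map_add, hx, hy]
    | tmul r a => simp
  rw [h3] at h2
  unfold chiPoly at h1 h2 ⊢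
  rw [lmul_algEquiv_charpoly, h1] at h2
  have h4 := congrArg (fun p => Polynomial.coeff p i) h2
  simp only [Polynomial.coeff_map] at h4
  exact h4.symm

end Inv


section Root

variable {k : Type u} [CommRing k] {A : Type v} [CommRing A] [HopfAlgebra k A]
variable {R : Type w} [CommRing R] [Algebra k R]

/-- The `R`-algebra map `id ⊗ ε : R ⊗ A → R`. -/
noncomputable def counitR (k : Type u) [CommRing k] (A : Type v) [CommRing A] [HopfAlgebra k A]
    (R : Type w) [CommRing R] [Algebra k R] : R ⊗[k] A →ₐ[R] R :=
  Algebra.TensorProduct.lift (AlgHom.id R R)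
    ((Algebra.ofId k R).comp (Bialgebra.counitAlgHom k A)) (fun _ _ => Commute.all _ _)

theorem counitR_eq (z : R ⊗[k] A) :
    counitR k A R z = TensorProduct.rid k R
      ((CoalgebraStruct.counit (R := k) (A := A)).lTensor R z) := by
  induction z using TensorProduct.induction_on with
  | zero => simp
  | add x y hx hy => simp only [map_add, hx, hy]
  | tmul r a => simp [counitR, Algebra.ofId_apply, Algebra.algebraMap_eq_smul_one]

variable [Module.Free k A] [Module.Finite k A] [Comod k A R] [GLin.IsCoactAlg k A R]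

omit [Module.Free k A] [Module.Finite k A] [GLin.IsCoactAlg k A R] in
theorem counitR_coact (r : R) : counitR k A R (Comod.coact (k := k) (A := A) r) = r := by
  rw [counitR_eq, counit_apply]
  simp

theorem aeval_self_chiPoly_coact (r : R) :
    Polynomial.aeval r (chiPoly k A R (Comod.coact (k := k) (A := A) r)) = 0 := by
  have h := aeval_chiPoly (k := k) (A := A) R (Comod.coact (k := k) (A := A) r)
  have h2 := congrArg (counitR k A R) h
  rw [← Polynomial.aeval_algHom_apply, counitR_coact, map_zero] at h2
  exact h2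

/-- Every element of `R` is integral over the invariants. -/
theorem isIntegral_invariants (r : R) : IsIntegral ↥(GLin.invariants k A R) r := by
  by_cases hR : Nontrivial R
  · have hl : chiPoly k A R (Comod.coact (k := k) (A := A) r) ∈
        Polynomial.lifts (algebraMap ↥(GLin.invariants k A R) R) := by
      rw [Polynomial.lifts_iff_coeff_lifts]
      intro n
      exact ⟨⟨_, coeff_chiPoly_mem_invariants r n⟩, rfl⟩
    obtain ⟨q, hq, -, hqm⟩ := Polynomial.lifts_and_degree_eq_and_monic hl (chiPoly_monic R _)
    refine ⟨q, hqm, ?_⟩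
    rw [← Polynomial.eval_map, hq]
    have := aeval_self_chiPoly_coact (k := k) (A := A) r
    rwa [Polynomial.coe_aeval_eq_eval] at this
  · rw [not_nontrivial_iff_subsingleton] at hR
    exact ⟨1, Polynomial.monic_one, Subsingleton.elim _ _⟩

end Root

section Final

variable (k : Type u) [Field k] (A : Type v) [CommRing A] [HopfAlgebra k A] [Module.Finite k A]
variable (R : Type w) [CommRing R] [Algebra k R] [Algebra.FiniteType k R]
  [Comod k A R] [GLin.IsCoactAlg k A R]

/-- Quotient by a finite group scheme: the invariants are of finite type and `R` is finite over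
them. -/
theorem finite_quotient :
    Algebra.FiniteType k ↥(GLin.invariants k A R) ∧
      Module.Finite ↥(GLin.invariants k A R) R := by
  haveI : Algebra.IsIntegral ↥(GLin.invariants k A R) R := ⟨isIntegral_invariants⟩
  haveI : Algebra.FiniteType ↥(GLin.invariants k A R) R :=
    Algebra.FiniteType.of_restrictScalars_finiteType k _ R
  have hfin : Module.Finite ↥(GLin.invariants k A R) R := Algebra.IsIntegral.finite
  exact ⟨⟨fg_of_fg_of_fg k ↥(GLin.invariants k A R) R Algebra.FiniteType.out hfin.fg_top
    Subtype.val_injective⟩, hfin⟩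

end Final

end Groth.Agent.Lib.Helper25
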