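import Groth.Agent.Lib.Helper25NormalInv
import Groth.Agent.Lib.Helper25FinQuot
import Groth.Agent.Lib.Helper25TakeuchiCor

/-!
# Helper25Coinv: the group of points of a commutative Hopf algebra, and coinvariants (helper25)

* `pointGroup`: the (scoped) group structure on `WithConv (A →ₐ[k] R)` for a commutative Hopf
  algebra `A` and a commutative algebra `R`; `Kills I n`: the point `n` lies in the closed subgroup
  cut out by the Hopf ideal `I`; `Kills.mul`, `Kills.inv`, `Kills.conj`.
* `rhoR k I : A → A ⊗ A/I`, `coinvSub k I`: the subalgebra of right coinvariants of `A` under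
  `A/I`; `mem_coinvSub_of_forall`, `convMul_apply_of_mem_coinvSub`: coinvariants are the functions
  invariant under right translation by points of the subgroup.
* `isHopfSubalgebra_coinvSub`: for a normal Hopf ideal the coinvariants form a sub-Hopf-algebra.
-/

set_option autoImplicit false
universe u v w w'

namespace Groth.Agent.Lib.Helper25

open TensorProduct HopfRep WithConv

section Points

variable {k : Type u} [CommRing k] {A : Type v} [CommRing A] [HopfAlgebra k A]
variable {R : Type w} [CommRing R] [Algebra k R]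

/-- The group of points of a commutative Hopf algebra with values in a commutative algebra. -/
@[reducible] noncomputable def pointGroup : Group (WithConv (A →ₐ[k] R)) :=
  { (inferInstance : Monoid (WithConv (A →ₐ[k] R))) with
    inv := fun f => toConv (f.ofConv.comp (HopfAlgebra.antipodeAlgHom k A))
    inv_mul_cancel := fun f => conv_antipode_cancel_left f.ofConv }

scoped[Groth.Agent.Lib.Helper25] attribute [instance] pointGroup

/-- Evaluation of a convolution product of points on an element whose coproduct is a given sum. -/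
theorem convMul_apply_of_comul_eq {ι : Type*} (s : Finset ι) (x : A) (y z : ι → A)
    (h : CoalgebraStruct.comul (R := k) x = ∑ i ∈ s, y i ⊗ₜ[k] z i)
    (f g : WithConv (A →ₐ[k] R)) : (f * g).ofConv x = ∑ i ∈ s, f.ofConv (y i) * g.ofConv (z i) := by
  have := AlgHom.convMul_apply f g x
  change (f * g).ofConv x = _ at this
  rw [this, h, map_sum]
  simp

theorem convInv_apply (f : WithConv (A →ₐ[k] R)) (x : A) :
    (f⁻¹).ofConv x = f.ofConv (HopfAlgebra.antipode k x) := rfl

theorem convOne_apply' (x : A) :
    (1 : WithConv (A →ₐ[k] R)).ofConv x = algebraMap k R (CoalgebraStruct.counit (R := k) x) := rfl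

/-- Post-composition with an algebra map is a group homomorphism on points. -/
theorem comp_convMul {R' : Type w'} [CommRing R'] [Algebra k R'] (ψ : R →ₐ[k] R')
    (f g : WithConv (A →ₐ[k] R)) :
    toConv (ψ.comp (f * g).ofConv) = toConv (ψ.comp f.ofConv) * toConv (ψ.comp g.ofConv) := by
  rw [AlgHom.comp_convMul_distrib]

theorem comp_convInv {R' : Type w'} [CommRing R'] [Algebra k R'] (ψ : R →ₐ[k] R')
    (f : WithConv (A →ₐ[k] R)) :
    toConv (ψ.comp (f⁻¹).ofConv) = (toConv (ψ.comp f.ofConv))⁻¹ := rfl

end Points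

section Kills

variable {k : Type u} [CommRing k] {A : Type v} [CommRing A] [HopfAlgebra k A]
variable (I : Ideal A) [I.IsHopfIdeal k]
variable {R : Type w} [CommRing R] [Algebra k R]

/-- A point of the closed subgroup cut out by `I`. -/
def Kills (n : WithConv (A →ₐ[k] R)) : Prop := ∀ a ∈ I, n.ofConv a = 0

theorem Kills.inv {n : WithConv (A →ₐ[k] R)} (hn : Kills I n) : Kills I n⁻¹ := by
  intro a ha
  rw [convInv_apply]
  exact hn _ (Ideal.IsHopfIdeal.antipode_mem (R := k) ha)

omit [I.IsHopfIdeal k] in
theorem lift_lTensor_subtype_eq_zero (f g : A →ₐ[k] R) (hg : ∀ a ∈ I, g a = 0)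
    (y : A ⊗[k] (I.restrictScalars k)) :
    (Algebra.TensorProduct.lift f g (fun _ _ => .all ..))
      ((I.restrictScalars k).subtype.lTensor A y) = 0 := by
  induction y using TensorProduct.induction_on with
  | zero => simp
  | add x y hx hy => simp only [map_add, hx, hy, add_zero]
  | tmul a b =>
    simp only [LinearMap.lTensor_tmul, Submodule.subtype_apply, Algebra.TensorProduct.lift_tmul]
    rw [hg _ b.2, mul_zero]

omit [I.IsHopfIdeal k] in
theorem lift_rTensor_subtype_eq_zero (f g : A →ₐ[k] R) (hf : ∀ a ∈ I, f a = 0)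
    (z : (I.restrictScalars k) ⊗[k] A) :
    (Algebra.TensorProduct.lift f g (fun _ _ => .all ..))
      ((I.restrictScalars k).subtype.rTensor A z) = 0 := by
  induction z using TensorProduct.induction_on with
  | zero => simp
  | add x y hx hy => simp only [map_add, hx, hy, add_zero]
  | tmul a b =>
    simp only [LinearMap.rTensor_tmul, Submodule.subtype_apply, Algebra.TensorProduct.lift_tmul]
    rw [hf _ a.2, zero_mul]

theorem Kills.mul {n n' : WithConv (A →ₐ[k] R)} (hn : Kills I n) (hn' : Kills I n') :
    Kills I (n * n') := by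
  intro a ha
  have hco : (I.restrictScalars k).IsCoideal := inferInstance
  have h := ((Submodule.isCoideal_iff_comul_mem (I.restrictScalars k)).mp hco).2 a ha
  have e := AlgHom.convMul_apply n n' a
  change (n * n').ofConv a = _ at e
  rw [e]
  obtain ⟨y, hy, z, hz, hyz⟩ := Submodule.mem_sup.mp h
  rw [← hyz, map_add]
  obtain ⟨y', rfl⟩ := hy
  obtain ⟨z', rfl⟩ := hz
  rw [lift_lTensor_subtype_eq_zero I _ _ hn', lift_rTensor_subtype_eq_zero I _ _ hn, add_zero]

theorem Kills.one : Kills I (1 : WithConv (A →ₐ[k] R)) := by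
  intro a ha
  rw [convOne_apply']
  have hco : (I.restrictScalars k).IsCoideal := inferInstance
  rw [hco.counit_eq_zero ha, map_zero]

end Kills

section KillsNormal

variable {k A : Type u} [CommRing k] [CommRing A] [HopfAlgebra k A]
variable (I : Ideal A) [I.IsHopfIdeal k]
variable {R : Type u} [CommRing R] [Algebra k R]

theorem Kills.conj (hI : SGA3.IsNormalHopfIdeal k A I) {n : WithConv (A →ₐ[k] R)}
    (hn : Kills I n) (g : WithConv (A →ₐ[k] R)) : Kills I (g * n * g⁻¹) := by
  intro a ha
  have h1 := hI R g.ofConv n.ofConv hn a ha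
  rw [conv3_eq] at h1
  exact h1

theorem Kills.conj' (hI : SGA3.IsNormalHopfIdeal k A I) {n : WithConv (A →ₐ[k] R)}
    (hn : Kills I n) (g : WithConv (A →ₐ[k] R)) : Kills I (g⁻¹ * n * g) := by
  have := Kills.conj I hI hn g⁻¹
  rwa [inv_inv] at this

end KillsNormal

section Coinv

variable {k : Type u} [CommRing k] {A : Type v} [CommRing A] [HopfAlgebra k A]
variable (I : Ideal A) [I.IsHopfIdeal k]

variable (k) in
/-- The right coaction of `A ⧸ I` on `A`, as an algebra map. -/
noncomputable def rhoR : A →ₐ[k] A ⊗[k] (A ⧸ I) :=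
  (Algebra.TensorProduct.map (AlgHom.id k A) (Ideal.Quotient.mkₐ k I)).comp
    (Bialgebra.comulAlgHom k A)

theorem rhoR_apply (x : A) :
    rhoR k I x = (Ideal.Quotient.mkₐ k I).toLinearMap.lTensor A (CoalgebraStruct.comul (R := k) x) := by
  unfold rhoR
  rw [AlgHom.comp_apply, Bialgebra.comulAlgHom_apply]
  generalize CoalgebraStruct.comul (R := k) x = z
  induction z using TensorProduct.induction_on with
  | zero => simp
  | add x y hx hy => simp only [map_add, hx, hy]
  | tmul a b => simp

variable (k) in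
/-- The subalgebra of right coinvariants of `A` under `A ⧸ I`. -/
noncomputable def coinvSub : Subalgebra k A :=
  AlgHom.equalizer (rhoR k I) Algebra.TensorProduct.includeLeft

theorem mem_coinvSub {x : A} : x ∈ coinvSub k I ↔
    (Ideal.Quotient.mkₐ k I).toLinearMap.lTensor A (CoalgebraStruct.comul (R := k) x) =
      x ⊗ₜ[k] (1 : A ⧸ I) := by
  rw [coinvSub, AlgHom.mem_equalizer, rhoR_apply]
  rfl

/-- The universal pair of points `(g₀, n₀)` with values in `A ⊗ A/I`. -/
theorem univ_convMul_eq_rhoR :
    ((toConv (Algebra.TensorProduct.includeLeft : A →ₐ[k] A ⊗[k] (A ⧸ I)) *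
      toConv ((Algebra.TensorProduct.includeRight : (A ⧸ I) →ₐ[k] A ⊗[k] (A ⧸ I)).comp
        (Ideal.Quotient.mkₐ k I)) : WithConv (A →ₐ[k] A ⊗[k] (A ⧸ I))).ofConv) = rhoR k I := by
  apply AlgHom.ext
  intro x
  have e := AlgHom.convMul_apply
    (toConv (Algebra.TensorProduct.includeLeft : A →ₐ[k] A ⊗[k] (A ⧸ I)))
    (toConv ((Algebra.TensorProduct.includeRight : (A ⧸ I) →ₐ[k] A ⊗[k] (A ⧸ I)).comp
        (Ideal.Quotient.mkₐ k I))) x
  refine e.trans ?_
  rw [rhoR_apply]
  generalize CoalgebraStruct.comul (R := k) x = z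
  induction z using TensorProduct.induction_on with
  | zero => simp
  | add x y hx hy => simp only [map_add, hx, hy]
  | tmul a b => simp [Algebra.TensorProduct.tmul_mul_tmul]

variable {R : Type w} [CommRing R] [Algebra k R]

/-- A coinvariant is invariant under right translation by points of the subgroup. -/
theorem convMul_apply_of_mem_coinvSub {x : A} (hx : x ∈ coinvSub k I)
    (h n : WithConv (A →ₐ[k] R)) (hn : Kills I n) : (h * n).ofConv x = h.ofConv x := by
  have e := AlgHom.convMul_apply h n x
  change (h * n).ofConv x = _ at e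
  rw [e]
  have h1 : (Algebra.TensorProduct.lift h.ofConv n.ofConv (fun _ _ => .all ..)) =
      (Algebra.TensorProduct.lift h.ofConv (Ideal.Quotient.liftₐ I n.ofConv hn)
        (fun _ _ => .all ..)).comp
        (Algebra.TensorProduct.map (AlgHom.id k A) (Ideal.Quotient.mkₐ k I)) := by
    apply Algebra.TensorProduct.ext'
    intro a b
    simp
  rw [h1, AlgHom.comp_apply]
  have h2 : (Algebra.TensorProduct.map (AlgHom.id k A) (Ideal.Quotient.mkₐ k I))
      (CoalgebraStruct.comul (R := k) x) = x ⊗ₜ[k] (1 : A ⧸ I) := by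
    have := rhoR_apply (k := k) I x
    unfold rhoR at this
    rw [AlgHom.comp_apply, Bialgebra.comulAlgHom_apply] at this
    rw [this]
    exact (mem_coinvSub (k := k) I).mp hx
  rw [h2]
  simp

/-- Conversely, invariance under the universal pair of points gives a coinvariant. -/
theorem mem_coinvSub_of_forall {x : A}
    (h : ∀ (g n : WithConv (A →ₐ[k] A ⊗[k] (A ⧸ I))), Kills I n →
      (g * n).ofConv x = g.ofConv x) : x ∈ coinvSub k I := by
  have hn : Kills I (toConv ((Algebra.TensorProduct.includeRight :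
      (A ⧸ I) →ₐ[k] A ⊗[k] (A ⧸ I)).comp (Ideal.Quotient.mkₐ k I))) := by
    intro a ha
    simp only [ofConv_toConv, AlgHom.comp_apply, Ideal.Quotient.mkₐ_eq_mk]
    rw [Ideal.Quotient.eq_zero_iff_mem.mpr ha, map_zero]
  have := h (toConv Algebra.TensorProduct.includeLeft) _ hn
  rw [univ_convMul_eq_rhoR] at this
  rw [coinvSub, AlgHom.mem_equalizer]
  exact this

end Coinv

section CoinvHopf

variable {k A : Type u} [Field k] [CommRing A] [HopfAlgebra k A]
variable (I : Ideal A) [I.IsHopfIdeal k]

theorem lslice_comul_mem_coinvSub {x : A} (hx : x ∈ coinvSub k I) (l : A →ₗ[k] k) :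
    lslice l (CoalgebraStruct.comul (R := k) x) ∈ coinvSub k I := by
  rw [mem_coinvSub]
  have h1 : lslice l (CoalgebraStruct.comul (R := k) x) = coeffMap (A := A) l x := rfl
  have h2 := isComodHom_apply (isComodHom_coeffMap (A := A) l) x
  change CoalgebraStruct.comul (R := k) (coeffMap (A := A) l x) =
    (coeffMap (A := A) l).rTensor A (CoalgebraStruct.comul (R := k) x) at h2
  rw [h1, h2, ← LinearMap.comp_apply, LinearMap.lTensor_comp_rTensor,
    ← LinearMap.rTensor_comp_lTensor, LinearMap.comp_apply, (mem_coinvSub (k := k) I).mp hx,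
    LinearMap.rTensor_tmul]

theorem slice_comul_mem_coinvSub (hI : SGA3.IsNormalHopfIdeal k A I) {x : A}
    (hx : x ∈ coinvSub k I) (φ : A →ₗ[k] k) :
    slice A φ (CoalgebraStruct.comul (R := k) x) ∈ coinvSub k I := by
  rw [mem_coinvSub]
  exact T_mem_invariants_of_normal (V := A) I hI φ x ((mem_coinvSub (k := k) I).mp hx)

theorem comul_mem_of_mem_coinvSub (hI : SGA3.IsNormalHopfIdeal k A I) {x : A}
    (hx : x ∈ coinvSub k I) :
    CoalgebraStruct.comul (R := k) x ∈ LinearMap.range
      (TensorProduct.map (coinvSub k I).val.toLinearMap (coinvSub k I).val.toLinearMap) := by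
  have := (mem_range_map_subtype_iff (Subalgebra.toSubmodule (coinvSub k I))
    (Subalgebra.toSubmodule (coinvSub k I)) (CoalgebraStruct.comul (R := k) x)).mpr
    ⟨fun φ => slice_comul_mem_coinvSub I hI hx φ, fun l => lslice_comul_mem_coinvSub I hx l⟩
  exact this

theorem antipode_mem_coinvSub (hI : SGA3.IsNormalHopfIdeal k A I) {x : A}
    (hx : x ∈ coinvSub k I) : HopfAlgebra.antipode k x ∈ coinvSub k I := by
  apply mem_coinvSub_of_forall
  intro g n hn
  have h1 : (g * n).ofConv (HopfAlgebra.antipode k x) = ((g * n)⁻¹).ofConv x := rfl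
  have hG : ∀ (G : Type u) [Group G] (g n : G), (g * n)⁻¹ = g⁻¹ * (g * n⁻¹ * g⁻¹) := by
    intro G _ g n
    group
  have h2 : (g * n)⁻¹ = g⁻¹ * (g * n⁻¹ * g⁻¹) := hG _ g n
  rw [h1, h2, convMul_apply_of_mem_coinvSub I hx _ _ (Kills.conj I hI (Kills.inv I hn) g)]
  rfl

theorem isHopfSubalgebra_coinvSub (hI : SGA3.IsNormalHopfIdeal k A I) :
    SGA3.IsHopfSubalgebra k A (coinvSub k I) :=
  ⟨fun _ hb => comul_mem_of_mem_coinvSub I hI hb, fun _ hb => antipode_mem_coinvSub I hI hb⟩

end CoinvHopf

end Groth.Agent.Lib.Helper25
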