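import Groth.Agent.Lib.Helper25CE1
import Groth.Agent.Lib.Helper25Coinv

/-!
# Helper25CE2: invariants of a normal Hopf ideal form a sub-Hopf-algebra (over a ring) (helper25)

Over a commutative ring, for a normal Hopf ideal `I` of a commutative Hopf algebra `A` with `A`,
`A ⧸ I` and the invariants flat: `convMul_apply_of_mem_left`, `antipode_mem_coinvSub'`,
`map_id_rhoR_comul`, `map_rhoR_id_comul`, `delta`, `exact_val_delta`,
`comul_mem_of_mem_coinvSub'`, `isHopfSubalgebra_coinvSub'`.
-/

set_option autoImplicit false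
set_option linter.unusedSimpArgs false
set_option linter.unusedSectionVars false
set_option linter.unusedVariables false
set_option linter.style.haveILetI false
universe u

open TensorProduct WithConv Groth.Agent.Lib.Helper25

namespace Groth.Agent.Lib.Helper25.CE

section Normal

variable {R : Type u} [CommRing R] {A : Type u} [CommRing A] [HopfAlgebra R A] (I : Ideal A)
  [I.IsHopfIdeal R] (hN : SGA3.IsNormalHopfIdeal R A I)

include hN in
/-- **N2**: an invariant function is also unchanged by left translation by a point of the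
subgroup. -/
theorem convMul_apply_of_mem_left {T : Type u} [CommRing T] [Algebra R T] {x : A}
    (hx : x ∈ coinvSub R I) (g n : WithConv (A →ₐ[R] T)) (hn : Kills I n) :
    (n * g).ofConv x = g.ofConv x := by
  have h1 : n * g = g * (g⁻¹ * n * g) := by group
  rw [h1]
  exact convMul_apply_of_mem_coinvSub I hx g _ (Kills.conj' I hN hn g)

include hN in
theorem antipode_mem_coinvSub' {x : A} (hx : x ∈ coinvSub R I) :
    HopfAlgebra.antipode R x ∈ coinvSub R I := by
  apply mem_coinvSub_of_forall
  intro g n hn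
  have h1 : (g * n).ofConv (HopfAlgebra.antipode R x) = ((g * n)⁻¹).ofConv x := rfl
  have h2 : (g * n)⁻¹ = n⁻¹ * g⁻¹ := mul_inv_rev g n
  rw [h1, h2, convMul_apply_of_mem_left I hN hx _ _ (Kills.inv I hn)]
  rfl

theorem map_comul_eq_convMul {T₁ T₂ : Type u} [CommRing T₁] [Algebra R T₁] [CommRing T₂]
    [Algebra R T₂] (f : A →ₐ[R] T₁) (f' : A →ₐ[R] T₂) (x : A) :
    Algebra.TensorProduct.map f f' (CoalgebraStruct.comul (R := R) x) =
      (toConv ((Algebra.TensorProduct.includeLeft : T₁ →ₐ[R] T₁ ⊗[R] T₂).comp f) *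
        toConv ((Algebra.TensorProduct.includeRight : T₂ →ₐ[R] T₁ ⊗[R] T₂).comp f')).ofConv x := by
  rw [← lift_comul]
  congr 1
  apply Algebra.TensorProduct.ext
  · ext a; simp
  · ext a; simp

theorem kills_comp_mk {T : Type u} [CommRing T] [Algebra R T] (f : (A ⧸ I) →ₐ[R] T) :
    Kills I (toConv (f.comp (Ideal.Quotient.mkₐ R I))) := by
  intro a ha
  simp only [ofConv_toConv, AlgHom.comp_apply, Ideal.Quotient.mkₐ_eq_mk]
  rw [Ideal.Quotient.eq_zero_iff_mem.mpr ha, map_zero]

theorem kills_comp {T T' : Type u} [CommRing T] [Algebra R T] [CommRing T'] [Algebra R T']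
    (ψ : T →ₐ[R] T') {n : WithConv (A →ₐ[R] T)} (hn : Kills I n) :
    Kills I (toConv (ψ.comp n.ofConv)) := by
  intro a ha
  simp only [ofConv_toConv, AlgHom.comp_apply]
  rw [hn a ha, map_zero]

theorem map_id_convMul_comul {T₁ T₂ : Type u} [CommRing T₁] [Algebra R T₁] [CommRing T₂]
    [Algebra R T₂] (f : A →ₐ[R] T₁) (g₀ n₀ : WithConv (A →ₐ[R] T₂)) (hn : Kills I n₀)
    {x : A} (hx : x ∈ coinvSub R I) :
    Algebra.TensorProduct.map f (g₀ * n₀).ofConv (CoalgebraStruct.comul (R := R) x) =
      Algebra.TensorProduct.map f g₀.ofConv (CoalgebraStruct.comul (R := R) x) := by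
  rw [map_comul_eq_convMul, map_comul_eq_convMul, AlgHom.comp_convMul_distrib, toConv_ofConv,
    ← mul_assoc]
  exact convMul_apply_of_mem_coinvSub I hx _ _ (kills_comp I _ hn)

include hN in
theorem map_convMul_id_comul {T₁ T₂ : Type u} [CommRing T₁] [Algebra R T₁] [CommRing T₂]
    [Algebra R T₂] (f' : A →ₐ[R] T₂) (g₀ n₀ : WithConv (A →ₐ[R] T₁)) (hn : Kills I n₀)
    {x : A} (hx : x ∈ coinvSub R I) :
    Algebra.TensorProduct.map (g₀ * n₀).ofConv f' (CoalgebraStruct.comul (R := R) x) =
      Algebra.TensorProduct.map g₀.ofConv f' (CoalgebraStruct.comul (R := R) x) := by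
  rw [map_comul_eq_convMul, map_comul_eq_convMul, AlgHom.comp_convMul_distrib, toConv_ofConv]
  have hG : ∀ (G : Type u) [Group G] (g n g' : G), g * n * g' = g * g' * (g'⁻¹ * n * g') := by
    intro G _ g n g'
    group
  rw [hG]
  exact convMul_apply_of_mem_coinvSub I hx _ _ (Kills.conj' I hN (kills_comp I _ hn) _)

/-- **N4'**: `Δ x ∈ A ⊗ B` in equational form. -/
theorem map_id_rhoR_comul {x : A} (hx : x ∈ coinvSub R I) :
    Algebra.TensorProduct.map (AlgHom.id R A) (rhoR R I) (CoalgebraStruct.comul (R := R) x) =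
      Algebra.TensorProduct.map (AlgHom.id R A)
        (Algebra.TensorProduct.includeLeft : A →ₐ[R] A ⊗[R] (A ⧸ I))
        (CoalgebraStruct.comul (R := R) x) := by
  rw [← univ_convMul_eq_rhoR]
  exact map_id_convMul_comul I (AlgHom.id R A) _ _ (kills_comp_mk I _) hx

include hN in
/-- **N4**: `Δ x ∈ B ⊗ A` in equational form. -/
theorem map_rhoR_id_comul {x : A} (hx : x ∈ coinvSub R I) :
    Algebra.TensorProduct.map (rhoR R I) (AlgHom.id R A) (CoalgebraStruct.comul (R := R) x) =
      Algebra.TensorProduct.map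
        (Algebra.TensorProduct.includeLeft : A →ₐ[R] A ⊗[R] (A ⧸ I)) (AlgHom.id R A)
        (CoalgebraStruct.comul (R := R) x) := by
  rw [← univ_convMul_eq_rhoR]
  exact map_convMul_id_comul I hN (AlgHom.id R A) _ _ (kills_comp_mk I _) hx

/-- The difference of the coaction and the trivial coaction. -/
noncomputable def delta : A →ₗ[R] A ⊗[R] (A ⧸ I) :=
  (rhoR R I).toLinearMap -
    (Algebra.TensorProduct.includeLeft : A →ₐ[R] A ⊗[R] (A ⧸ I)).toLinearMap

theorem exact_val_delta :
    Function.Exact (coinvSub R I).val.toLinearMap (delta (R := R) I) := by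
  intro a
  constructor
  · intro h
    refine ⟨⟨a, ?_⟩, rfl⟩
    rw [coinvSub, AlgHom.mem_equalizer]
    exact sub_eq_zero.mp h
  · rintro ⟨b, rfl⟩
    have := b.2
    unfold coinvSub at this
    rw [AlgHom.mem_equalizer] at this
    exact sub_eq_zero.mpr this

theorem lTensor_delta_comul {x : A} (hx : x ∈ coinvSub R I) :
    (delta (R := R) I).lTensor A (CoalgebraStruct.comul (R := R) x) = 0 := by
  have h := map_id_rhoR_comul I hx
  have e1 : ∀ z : A ⊗[R] A, (delta (R := R) I).lTensor A z =
      Algebra.TensorProduct.map (AlgHom.id R A) (rhoR R I) z -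
      Algebra.TensorProduct.map (AlgHom.id R A)
        (Algebra.TensorProduct.includeLeft : A →ₐ[R] A ⊗[R] (A ⧸ I)) z := by
    intro z
    induction z using TensorProduct.induction_on with
    | zero => simp
    | add x y hx hy => rw [map_add, map_add, map_add, hx, hy]; abel
    | tmul a b =>
      rw [LinearMap.lTensor_tmul, Algebra.TensorProduct.map_tmul, Algebra.TensorProduct.map_tmul,
        ← tmul_sub]
      rfl
  rw [e1, h, sub_self]

include hN in
theorem rTensor_delta_comul {x : A} (hx : x ∈ coinvSub R I) :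
    (delta (R := R) I).rTensor A (CoalgebraStruct.comul (R := R) x) = 0 := by
  have h := map_rhoR_id_comul I hN hx
  have e1 : ∀ z : A ⊗[R] A, (delta (R := R) I).rTensor A z =
      Algebra.TensorProduct.map (rhoR R I) (AlgHom.id R A) z -
      Algebra.TensorProduct.map
        (Algebra.TensorProduct.includeLeft : A →ₐ[R] A ⊗[R] (A ⧸ I)) (AlgHom.id R A) z := by
    intro z
    induction z using TensorProduct.induction_on with
    | zero => simp
    | add x y hx hy => rw [map_add, map_add, map_add, hx, hy]; abel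
    | tmul a b =>
      rw [LinearMap.rTensor_tmul, Algebra.TensorProduct.map_tmul, Algebra.TensorProduct.map_tmul,
        ← sub_tmul]
      rfl
  rw [e1, h, sub_self]

include hN in
/-- For a normal Hopf ideal, with enough flatness, the comultiplication preserves the
invariants. -/
theorem comul_mem_of_mem_coinvSub' [Module.Flat R A] [Module.Flat R (A ⧸ I)]
    [Module.Flat R ↥(coinvSub R I)] {x : A} (hx : x ∈ coinvSub R I) :
    CoalgebraStruct.comul (R := R) x ∈ LinearMap.range
      (TensorProduct.map (coinvSub R I).val.toLinearMap (coinvSub R I).val.toLinearMap) := by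
  have hex := exact_val_delta (R := R) I
  obtain ⟨y, hy⟩ := (Module.Flat.rTensor_exact A hex _).mp (rTensor_delta_comul I hN hx)
  have h2 : (delta (R := R) I).lTensor ↥(coinvSub R I) y = 0 := by
    have hinj : Function.Injective
        ((coinvSub R I).val.toLinearMap.rTensor (A ⊗[R] (A ⧸ I))) :=
      Module.Flat.rTensor_preserves_injective_linearMap _ Subtype.val_injective
    apply hinj
    rw [map_zero, ← LinearMap.comp_apply, LinearMap.rTensor_comp_lTensor,
      ← LinearMap.lTensor_comp_rTensor, LinearMap.comp_apply, hy]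
    exact lTensor_delta_comul I hx
  obtain ⟨z, hz⟩ := (Module.Flat.lTensor_exact ↥(coinvSub R I) hex _).mp h2
  refine ⟨z, ?_⟩
  rw [← hy, ← hz, ← LinearMap.comp_apply, LinearMap.rTensor_comp_lTensor]

include hN in
theorem isHopfSubalgebra_coinvSub' [Module.Flat R A] [Module.Flat R (A ⧸ I)]
    [Module.Flat R ↥(coinvSub R I)] : SGA3.IsHopfSubalgebra R A (coinvSub R I) :=
  ⟨fun _ hb => comul_mem_of_mem_coinvSub' I hN hb, fun _ hb => antipode_mem_coinvSub' I hN hb⟩

end Normal

end Groth.Agent.Lib.Helper25.CE
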