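import Groth.Agent.Lib.Helper25KTRank
import Mathlib.RingTheory.Flat.FaithfullyFlat.Algebra
import Mathlib.RingTheory.LocalRing.ResidueField.Fiber
import Mathlib.RingTheory.Artinian.Ring

/-!
# Lagrange for finite locally free group schemes over a Noetherian base (helper25)
-/

set_option autoImplicit false
set_option linter.style.haveILetI false
set_option linter.unusedSectionVars false
universe u v w

namespace Groth.Agent.Lib.Helper25.KT

open TensorProduct Module

section Tower

variable {R : Type u} [CommRing R] {B : Type v} [CommRing B] [Algebra R B]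
  [Module.Finite R B] [Module.Flat R B]
  {M : Type w} [AddCommGroup M] [Module R M] [Module B M] [IsScalarTower R B M]
  [Module.Finite B M] [Module.Flat B M]

attribute [local instance] Algebra.TensorProduct.rightAlgebra in
theorem rankAtStalk_tower (q : PrimeSpectrum R) (h : ℕ)
    (hrk : ∀ P : PrimeSpectrum B, P.comap (algebraMap R B) = q →
      rankAtStalk (R := B) M P = h) :
    rankAtStalk (R := R) M q = h * rankAtStalk (R := R) B q := by
  haveI : Module.Finite R M := Module.Finite.trans B M
  haveI : Module.Flat R M := Module.Flat.trans R B M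
  rw [rankAtStalk_eq (M := M), rankAtStalk_eq (M := B)]
  change finrank q.asIdeal.ResidueField (q.asIdeal.ResidueField ⊗[R] M) =
    h * finrank q.asIdeal.ResidueField (q.asIdeal.ResidueField ⊗[R] B)
  have e := Algebra.IsPushout.cancelBaseChange R q.asIdeal.ResidueField B
    (q.asIdeal.ResidueField ⊗[R] B) M
  rw [← e.finrank_eq]
  rcases subsingleton_or_nontrivial (q.asIdeal.ResidueField ⊗[R] B) with hs | hn
  · haveI : Subsingleton ((q.asIdeal.ResidueField ⊗[R] B) ⊗[B] M) :=
      Module.subsingleton (q.asIdeal.ResidueField ⊗[R] B) _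
    rw [Module.finrank_zero_of_subsingleton, Module.finrank_zero_of_subsingleton, mul_zero]
  haveI : IsArtinianRing (q.asIdeal.ResidueField ⊗[R] B) :=
    IsArtinianRing.of_finite q.asIdeal.ResidueField _
  have rk : ∀ P : MaximalSpectrum (q.asIdeal.ResidueField ⊗[R] B),
      finrank ((q.asIdeal.ResidueField ⊗[R] B) ⧸ P.1)
        (((q.asIdeal.ResidueField ⊗[R] B) ⧸ P.1) ⊗[q.asIdeal.ResidueField ⊗[R] B]
          ((q.asIdeal.ResidueField ⊗[R] B) ⊗[B] M)) = h := by
    intro P
    haveI := P.isMaximal
    rw [finrank_quotient_tensor_eq_rankAtStalk, rankAtStalk_baseChange]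
    apply hrk
    apply PrimeSpectrum.ext
    have h1 : P.asIdeal.LiesOver q.asIdeal := inferInstance
    have h2 := h1.over
    refine Eq.trans ?_ h2.symm
    change _ = Ideal.comap (algebraMap R (q.asIdeal.ResidueField ⊗[R] B)) P.asIdeal
    rw [IsScalarTower.algebraMap_eq R B (q.asIdeal.ResidueField ⊗[R] B), ← Ideal.comap_comap]
    rfl
  obtain ⟨b⟩ := Module.nonempty_basis_of_flat_of_finrank_eq (q.asIdeal.ResidueField ⊗[R] B)
    ((q.asIdeal.ResidueField ⊗[R] B) ⊗[B] M) h rk
  haveI : Module.Free (q.asIdeal.ResidueField ⊗[R] B) ((q.asIdeal.ResidueField ⊗[R] B) ⊗[B] M) :=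
    Module.Free.of_basis b
  rw [← Module.finrank_mul_finrank q.asIdeal.ResidueField (q.asIdeal.ResidueField ⊗[R] B)
    ((q.asIdeal.ResidueField ⊗[R] B) ⊗[B] M), mul_comm]
  congr 1
  rw [Module.finrank_eq_card_basis b, Fintype.card_fin]

end Tower

section Descent

variable {R : Type u} [CommRing R] {B : Type v} [CommRing B] [Algebra R B]
  {A : Type w} [CommRing A] [Algebra R A] [Algebra B A] [IsScalarTower R B A]

/-- If `A` is faithfully flat over `B` and flat over `R`, then `B` is flat over `R`. -/
theorem flat_of_faithfullyFlat_of_flat [Module.FaithfullyFlat B A] [Module.Flat R A] :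
    Module.Flat R B := by
  rw [Module.Flat.iff_lTensor_preserves_injective_linearMap]
  intro N P _ _ _ _ f hf
  have h1 : Function.Injective (f.baseChange B) := by
    rw [← Module.FaithfullyFlat.lTensor_injective_iff_injective B A]
    have h2 : Function.Injective (f.lTensor A) :=
      Module.Flat.lTensor_preserves_injective_linearMap f hf
    have h3 : ∀ x : A ⊗[B] (B ⊗[R] N),
        AlgebraTensorModule.cancelBaseChange R B A A P ((f.baseChange B).lTensor A x) =
        f.lTensor A (AlgebraTensorModule.cancelBaseChange R B A A N x) := by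
      intro x
      induction x using TensorProduct.induction_on with
      | zero => simp
      | add x y hx hy => simp only [map_add, hx, hy]
      | tmul a z =>
        induction z using TensorProduct.induction_on with
        | zero => simp
        | add x y hx hy => simp only [tmul_add, map_add, hx, hy]
        | tmul b n => simp
    intro x y hxy
    apply (AlgebraTensorModule.cancelBaseChange R B A A N).injective
    apply h2
    rw [← h3, ← h3, hxy]
  exact h1

end Descent

section Index

variable {R : Type u} [CommRing R] [IsNoetherianRing R] {A : Type v} [CommRing A]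
  [HopfAlgebra R A] [Module.Finite R A] [Module.Projective R A] (I : Ideal A) [I.IsHopfIdeal R]
  [Module.Projective R (A ⧸ I)]

open HopfRep Groth.Agent.Lib.Helper25 in
/-- Lagrange: the order of a finite locally free group scheme is the order of a finite locally
free closed subgroup times the index. -/
theorem rankAtStalk_eq_mul_invariants (q : PrimeSpectrum R) :
    rankAtStalk (R := R) A q = rankAtStalk (R := R) (A ⧸ I) q *
      rankAtStalk (R := R)
        ↥(@GLin.invariants R _ (A ⧸ I) _ _ A _ _ (quotComod (k := R) I)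
          (quotComod_isCoactAlg I)) q := by
  letI := quotComod (k := R) I
  haveI : Module.Finite R (A ⧸ I) :=
    Module.Finite.of_surjective (Ideal.Quotient.mkₐ R I).toLinearMap Ideal.Quotient.mk_surjective
  obtain ⟨hfin, hproj⟩ := finite_projective (R := R) (H := A ⧸ I) (A := A) (hcan_quot I)
  haveI := hfin
  haveI := hproj
  haveI : Algebra.IsIntegral ↥(GLin.invariants R (A ⧸ I) A) A := Algebra.IsIntegral.of_finite _ _
  have hker : ∀ P : Ideal ↥(GLin.invariants R (A ⧸ I) A),
      (⊥ : Ideal A).comap (algebraMap ↥(GLin.invariants R (A ⧸ I) A) A) ≤ P := by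
    intro P b hb
    rw [Ideal.mem_comap, Ideal.mem_bot] at hb
    have : b = 0 := Subtype.ext hb
    rw [this]
    exact Ideal.zero_mem _
  haveI : Module.FaithfullyFlat ↥(GLin.invariants R (A ⧸ I) A) A := by
    apply Module.FaithfullyFlat.of_comap_surjective
    intro P
    obtain ⟨Q, _, hQp, hQ⟩ := Ideal.exists_ideal_over_prime_of_isIntegral P.asIdeal
      (⊥ : Ideal A) (hker _)
    exact ⟨⟨Q, hQp⟩, PrimeSpectrum.ext hQ⟩
  haveI : Module.Flat R ↥(GLin.invariants R (A ⧸ I) A) :=
    flat_of_faithfullyFlat_of_flat (A := A)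
  haveI : Module.Finite R ↥(GLin.invariants R (A ⧸ I) A) :=
    Module.Finite.of_injective (GLin.invariants R (A ⧸ I) A).val.toLinearMap
      Subtype.val_injective
  apply rankAtStalk_tower
  intro P hP
  obtain ⟨Q, _, hQp, hQ⟩ := Ideal.exists_ideal_over_prime_of_isIntegral P.asIdeal
    (⊥ : Ideal A) (hker _)
  have h1 := rankAtStalk_invariants (R := R) (H := A ⧸ I) (A := A) (hcan_quot I) ⟨Q, hQp⟩
  have h2 : (⟨Q, hQp⟩ : PrimeSpectrum A).comap (algebraMap ↥(GLin.invariants R (A ⧸ I) A) A) =
      P := PrimeSpectrum.ext hQ
  have h3 : (⟨Q, hQp⟩ : PrimeSpectrum A).comap (algebraMap R A) = q := by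
    rw [← hP, ← h2]
    rfl
  rw [h2, h3] at h1
  exact h1

end Index

end Groth.Agent.Lib.Helper25.KT
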