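import Groth.Agent.Lib.Helper25Coinv

/-!
# Helper25Shear: the shear map and descent of coinvariants (helper25)

* `shear`, `shearInv : A ⊗ A → A ⊗ A`, mutually inverse (`shear_shearInv`, `shearInv_shear`).
* `toTensorOver B : A ⊗[k] A → A ⊗[B] A`.
* `mem_of_comul_sub_mem`: for a sub-Hopf-algebra `B` of a commutative Hopf algebra over a field,
  the coinvariants of `A` under `A/AB⁺` lie in `B` (faithfully flat descent, using Takeuchi's
  theorem); `comul_sub_mem_of_mem`: the converse.
* `inv_mul_kills_augIdealSpan`: if two points agree on `B` their quotient kills `A·B⁺`.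
-/

set_option autoImplicit false
universe u v w w'

namespace Groth.Agent.Lib.Helper25

open TensorProduct HopfRep WithConv

section FFElement

/-- In a faithfully flat algebra, an element with `s ⊗ 1 = 1 ⊗ s` comes from the base. -/
theorem mem_range_algebraMap_of_tmul_eq (R : Type u) (S : Type v)
    [CommRing R] [CommRing S] [Algebra R S] [Module.FaithfullyFlat R S] (s : S)
    (h : s ⊗ₜ[R] (1 : S) = (1 : S) ⊗ₜ[R] s) : ∃ r : R, algebraMap R S r = s := by
  set N : Submodule R S := LinearMap.range (Algebra.linearMap R S) with hN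
  have h1 : (TensorProduct.mk R S (S ⧸ N) 1) (N.mkQ s) = 0 := by
    have e1 : (TensorProduct.mk R S (S ⧸ N) 1) (N.mkQ s) =
        (N.mkQ.lTensor S) ((1 : S) ⊗ₜ[R] s) := by simp
    rw [e1, ← h, LinearMap.lTensor_tmul]
    have : N.mkQ (1 : S) = 0 := by
      rw [Submodule.mkQ_apply, Submodule.Quotient.mk_eq_zero]
      exact ⟨1, by simp⟩
    rw [this, TensorProduct.tmul_zero]
  have h2 := Module.FaithfullyFlat.tensorProduct_mk_injective (A := R) (B := S) (S ⧸ N)
    (h1.trans (map_zero _).symm)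
  rw [Submodule.mkQ_apply, Submodule.Quotient.mk_eq_zero] at h2
  obtain ⟨r, hr⟩ := h2
  exact ⟨r, hr⟩

end FFElement

section Shear

variable {k : Type u} [CommRing k] {A : Type v} [CommRing A] [HopfAlgebra k A]

/-- The shear map `a ⊗ a' ↦ (a ⊗ 1) Δ(a')`. -/
noncomputable def shear : A ⊗[k] A →ₐ[k] A ⊗[k] A :=
  Algebra.TensorProduct.lift (Algebra.TensorProduct.includeLeft : A →ₐ[k] A ⊗[k] A)
    (Bialgebra.comulAlgHom k A) (fun _ _ => .all ..)

/-- The inverse shear map `a ⊗ a' ↦ (a ⊗ 1) (S ⊗ id)Δ(a')`. -/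
noncomputable def shearInv : A ⊗[k] A →ₐ[k] A ⊗[k] A :=
  Algebra.TensorProduct.lift (Algebra.TensorProduct.includeLeft : A →ₐ[k] A ⊗[k] A)
    ((toConv (Algebra.TensorProduct.includeLeft : A →ₐ[k] A ⊗[k] A))⁻¹ *
      toConv (Algebra.TensorProduct.includeRight : A →ₐ[k] A ⊗[k] A) :
      WithConv (A →ₐ[k] A ⊗[k] A)).ofConv (fun _ _ => .all ..)

theorem comulAlgHom_eq_convMul :
    Bialgebra.comulAlgHom k A =
      (toConv (Algebra.TensorProduct.includeLeft : A →ₐ[k] A ⊗[k] A) *
        toConv (Algebra.TensorProduct.includeRight : A →ₐ[k] A ⊗[k] A) :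
        WithConv (A →ₐ[k] A ⊗[k] A)).ofConv := by
  apply AlgHom.ext
  intro x
  have e := AlgHom.convMul_apply
    (toConv (Algebra.TensorProduct.includeLeft : A →ₐ[k] A ⊗[k] A))
    (toConv (Algebra.TensorProduct.includeRight : A →ₐ[k] A ⊗[k] A)) x
  refine Eq.trans ?_ e.symm
  rw [Bialgebra.comulAlgHom_apply]
  generalize CoalgebraStruct.comul (R := k) x = z
  induction z using TensorProduct.induction_on with
  | zero => simp
  | add x y hx hy => simp only [map_add, ← hx, ← hy]
  | tmul a b => simp [Algebra.TensorProduct.tmul_mul_tmul]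

theorem shear_tmul (a b : A) :
    shear (k := k) (a ⊗ₜ[k] b) = (a ⊗ₜ[k] (1 : A)) * CoalgebraStruct.comul (R := k) b := by
  simp [shear]

theorem shearInv_comp_includeLeft :
    (shearInv (k := k) (A := A)).comp Algebra.TensorProduct.includeLeft =
      Algebra.TensorProduct.includeLeft := by
  apply AlgHom.ext
  intro a
  simp [shearInv]

theorem shearInv_comp_includeRight :
    (shearInv (k := k) (A := A)).comp Algebra.TensorProduct.includeRight =
      ((toConv (Algebra.TensorProduct.includeLeft : A →ₐ[k] A ⊗[k] A))⁻¹ *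
      toConv (Algebra.TensorProduct.includeRight : A →ₐ[k] A ⊗[k] A) :
      WithConv (A →ₐ[k] A ⊗[k] A)).ofConv := by
  apply AlgHom.ext
  intro a
  simp [shearInv]

theorem shearInv_comul (b : A) :
    shearInv (k := k) (CoalgebraStruct.comul (R := k) b) = (1 : A) ⊗ₜ[k] b := by
  have h1 : (shearInv (k := k) (A := A)).comp (Bialgebra.comulAlgHom k A) =
      Algebra.TensorProduct.includeRight := by
    rw [comulAlgHom_eq_convMul, AlgHom.comp_convMul_distrib]
    simp only [ofConv_toConv]
    rw [shearInv_comp_includeLeft, shearInv_comp_includeRight, toConv_ofConv, ← mul_assoc,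
      mul_inv_cancel, one_mul, ofConv_toConv]
  have := congrArg (fun f : A →ₐ[k] A ⊗[k] A => f b) h1
  simpa using this

theorem shearInv_shear (z : A ⊗[k] A) : shearInv (k := k) (shear z) = z := by
  induction z using TensorProduct.induction_on with
  | zero => simp
  | add x y hx hy => simp only [map_add, hx, hy]
  | tmul a b =>
    rw [shear_tmul, map_mul, shearInv_comul]
    have : shearInv (k := k) (a ⊗ₜ[k] (1 : A)) = a ⊗ₜ[k] (1 : A) := by
      have := congrArg (fun f : A →ₐ[k] A ⊗[k] A => f a) (shearInv_comp_includeLeft (k := k) (A := A))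
      simpa using this
    rw [this, Algebra.TensorProduct.tmul_mul_tmul, mul_one, one_mul]

end Shear

section CoinvLemma

variable {k A : Type u} [Field k] [CommRing A] [HopfAlgebra k A] (B : Subalgebra k A)

/-- The canonical surjection `A ⊗[k] A → A ⊗[B] A`. -/
noncomputable def toTensorOver : A ⊗[k] A →ₐ[k] A ⊗[↥B] A :=
  Algebra.TensorProduct.lift (Algebra.TensorProduct.includeLeft : A →ₐ[k] A ⊗[↥B] A)
    ((Algebra.TensorProduct.includeRight : A →ₐ[↥B] A ⊗[↥B] A).restrictScalars k)
    (fun _ _ => .all ..)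

theorem toTensorOver_tmul (a b : A) : toTensorOver B (a ⊗ₜ[k] b) = a ⊗ₜ[↥B] b := by
  simp [toTensorOver, Algebra.TensorProduct.tmul_mul_tmul]

/-- The two canonical points of `A` in `A ⊗[B] A`. -/
noncomputable def jL : WithConv (A →ₐ[k] A ⊗[↥B] A) :=
  toConv (Algebra.TensorProduct.includeLeft : A →ₐ[k] A ⊗[↥B] A)

noncomputable def jR : WithConv (A →ₐ[k] A ⊗[↥B] A) :=
  toConv ((Algebra.TensorProduct.includeRight : A →ₐ[↥B] A ⊗[↥B] A).restrictScalars k)

theorem jR_coe (b : ↥B) : (jR B).ofConv (b : A) = (jL B).ofConv (b : A) := by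
  change (1 : A) ⊗ₜ[↥B] (b : A) = (b : A) ⊗ₜ[↥B] (1 : A)
  have e : (b : A) = b • (1 : A) := by rw [Subalgebra.smul_def, smul_eq_mul, mul_one]
  conv_lhs => rw [e]
  conv_rhs => rw [e]
  rw [TensorProduct.smul_tmul]

theorem jLinv_mul_jR_apply
    (hB : ∀ b ∈ B, CoalgebraStruct.comul (R := k) b ∈
      LinearMap.range (TensorProduct.map B.val.toLinearMap B.val.toLinearMap))
    (b : A) (hb : b ∈ B) :
    ((jL B)⁻¹ * jR B).ofConv b =
      algebraMap k (A ⊗[↥B] A) (CoalgebraStruct.counit (R := k) b) := by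
  have e1 := AlgHom.convMul_apply (jL B)⁻¹ (jR B) b
  change ((jL B)⁻¹ * jR B).ofConv b = _ at e1
  have e2 := AlgHom.convMul_apply (jL B)⁻¹ (jL B) b
  change ((jL B)⁻¹ * jL B).ofConv b = _ at e2
  rw [inv_mul_cancel] at e2
  rw [e1, ← convOne_apply', e2]
  obtain ⟨y, hy⟩ := hB b hb
  rw [← hy]
  clear hy e1 e2
  induction y using TensorProduct.induction_on with
  | zero => simp
  | add x y hx hy => simp only [map_add, hx, hy]
  | tmul b' b'' =>
    simp only [TensorProduct.map_tmul, AlgHom.toLinearMap_apply, Subalgebra.coe_val,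
      Algebra.TensorProduct.lift_tmul]
    rw [jR_coe]

theorem toTensorOver_comp_shearInv_includeRight :
    (toTensorOver B).comp ((shearInv (k := k) (A := A)).comp Algebra.TensorProduct.includeRight) =
      ((jL B)⁻¹ * jR B).ofConv := by
  rw [shearInv_comp_includeRight, AlgHom.comp_convMul_distrib]
  have h1 : (toTensorOver B).comp (Algebra.TensorProduct.includeLeft : A →ₐ[k] A ⊗[k] A) =
      (jL B).ofConv := by
    apply AlgHom.ext
    intro a
    simp [toTensorOver, jL]
  have h2 : (toTensorOver B).comp (Algebra.TensorProduct.includeRight : A →ₐ[k] A ⊗[k] A) =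
      (jR B).ofConv := by
    apply AlgHom.ext
    intro a
    simp [toTensorOver, jR]
  have h3 : toConv ((toTensorOver B).comp
      ((toConv (Algebra.TensorProduct.includeLeft : A →ₐ[k] A ⊗[k] A))⁻¹).ofConv) =
      (jL B)⁻¹ := by
    rw [comp_convInv, ofConv_toConv, h1, toConv_ofConv]
  rw [h3, ofConv_toConv, h2, toConv_ofConv]

end CoinvLemma

section CoinvLemma2

variable {k A : Type u} [Field k] [CommRing A] [HopfAlgebra k A] (B : Subalgebra k A)

/-- `p ∘ Θ⁻¹` kills `A ⊗ J` for `J = A·B⁺`. -/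
theorem toTensorOver_shearInv_eq_zero
    (hB : ∀ b ∈ B, CoalgebraStruct.comul (R := k) b ∈
      LinearMap.range (TensorProduct.map B.val.toLinearMap B.val.toLinearMap))
    (z : A ⊗[k] A)
    (hz : z ∈ LinearMap.range
      (((SGA3.augIdealSpan k A B).restrictScalars k).subtype.lTensor A)) :
    toTensorOver B (shearInv (k := k) z) = 0 := by
  set ψ : A →ₐ[k] A ⊗[↥B] A := (toTensorOver B).comp
    ((shearInv (k := k) (A := A)).comp Algebra.TensorProduct.includeRight) with hψ
  have hψJ : ∀ j ∈ SGA3.augIdealSpan k A B, ψ j = 0 := by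
    have : SGA3.augIdealSpan k A B ≤ RingHom.ker (ψ : A →+* A ⊗[↥B] A) := by
      unfold SGA3.augIdealSpan
      rw [Ideal.span_le]
      rintro b ⟨hb, hε⟩
      rw [SetLike.mem_coe, RingHom.mem_ker]
      change ψ b = 0
      rw [hψ, toTensorOver_comp_shearInv_includeRight, jLinv_mul_jR_apply B hB b hb, hε, map_zero]
    intro j hj
    exact this hj
  obtain ⟨z', rfl⟩ := hz
  induction z' using TensorProduct.induction_on with
  | zero => simp
  | add x y hx hy => simp only [map_add, hx, hy, add_zero]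
  | tmul a j =>
    rw [LinearMap.lTensor_tmul, Submodule.subtype_apply]
    have e : (a ⊗ₜ[k] ((j : A)) : A ⊗[k] A) =
        (a ⊗ₜ[k] (1 : A)) * ((1 : A) ⊗ₜ[k] (j : A)) := by
      rw [Algebra.TensorProduct.tmul_mul_tmul, mul_one, one_mul]
    rw [e, map_mul, map_mul]
    have : toTensorOver B (shearInv (k := k) ((1 : A) ⊗ₜ[k] (j : A))) = ψ (j : A) := rfl
    rw [this, hψJ _ j.2, mul_zero]

/-- Coinvariants of `A` under `A/AB⁺` lie in `B` (faithfully flat descent). -/
theorem mem_of_comul_sub_mem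
    (hB : ∀ b ∈ B, CoalgebraStruct.comul (R := k) b ∈
      LinearMap.range (TensorProduct.map B.val.toLinearMap B.val.toLinearMap))
    (hS : ∀ b ∈ B, HopfAlgebra.antipode k b ∈ B) (x : A)
    (hx : CoalgebraStruct.comul (R := k) x - x ⊗ₜ[k] (1 : A) ∈ LinearMap.range
      (((SGA3.augIdealSpan k A B).restrictScalars k).subtype.lTensor A)) : x ∈ B := by
  haveI : Module.FaithfullyFlat ↥B A := faithfullyFlat_of_isHopfSubalgebra B hB hS
  have h1 := toTensorOver_shearInv_eq_zero B hB _ hx
  have h2 : CoalgebraStruct.comul (R := k) x - x ⊗ₜ[k] (1 : A) =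
      shear (k := k) ((1 : A) ⊗ₜ[k] x - x ⊗ₜ[k] (1 : A)) := by
    rw [map_sub, shear_tmul, shear_tmul, Bialgebra.comul_one, ← Algebra.TensorProduct.one_def,
      one_mul, mul_one]
  rw [h2, shearInv_shear, map_sub, toTensorOver_tmul, toTensorOver_tmul, sub_eq_zero] at h1
  obtain ⟨r, hr⟩ := mem_range_algebraMap_of_tmul_eq ↥B A x h1.symm
  rw [← hr]
  exact r.2

/-- Elements of `B` are coinvariants of `A` under `A/AB⁺`. -/
theorem comul_sub_mem_of_mem
    (hB : ∀ b ∈ B, CoalgebraStruct.comul (R := k) b ∈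
      LinearMap.range (TensorProduct.map B.val.toLinearMap B.val.toLinearMap))
    (b : A) (hb : b ∈ B) :
    CoalgebraStruct.comul (R := k) b - b ⊗ₜ[k] (1 : A) ∈ LinearMap.range
      (((SGA3.augIdealSpan k A B).restrictScalars k).subtype.lTensor A) := by
  set η : A →ₗ[k] A := Algebra.linearMap k A ∘ₗ CoalgebraStruct.counit (R := k) (A := A) with hη
  have h1 : b ⊗ₜ[k] (1 : A) = η.lTensor A (CoalgebraStruct.comul (R := k) b) := by
    rw [hη, LinearMap.lTensor_comp, LinearMap.comp_apply, Coalgebra.lTensor_counit_comul,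
      LinearMap.lTensor_tmul]
    simp
  have h2 : CoalgebraStruct.comul (R := k) b - b ⊗ₜ[k] (1 : A) =
      (LinearMap.id - η).lTensor A (CoalgebraStruct.comul (R := k) b) := by
    rw [LinearMap.lTensor_sub, LinearMap.sub_apply, LinearMap.lTensor_id, LinearMap.id_apply, h1]
  rw [h2]
  obtain ⟨y, hy⟩ := hB b hb
  rw [← hy]
  clear hy h1 h2
  induction y using TensorProduct.induction_on with
  | zero => simp
  | add x y hx hy => rw [map_add, map_add]; exact Submodule.add_mem _ hx hy
  | tmul b' b'' =>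
    have hmem : (b'' : A) - algebraMap k A (CoalgebraStruct.counit (R := k) (b'' : A)) ∈
        SGA3.augIdealSpan k A B := by
      apply Ideal.subset_span
      refine ⟨B.sub_mem b''.2 (B.algebraMap_mem _), ?_⟩
      rw [map_sub, Bialgebra.counit_algebraMap, sub_self]
    refine ⟨(b' : A) ⊗ₜ[k] ⟨_, hmem⟩, ?_⟩
    simp [hη, TensorProduct.tmul_sub]

end CoinvLemma2

section Shear2

variable {k : Type u} [CommRing k] {A : Type v} [CommRing A] [HopfAlgebra k A]

theorem shear_comp_includeLeft :
    (shear (k := k) (A := A)).comp Algebra.TensorProduct.includeLeft =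
      Algebra.TensorProduct.includeLeft := by
  apply AlgHom.ext
  intro a
  simp [shear]

theorem shear_comp_includeRight :
    (shear (k := k) (A := A)).comp Algebra.TensorProduct.includeRight =
      (toConv (Algebra.TensorProduct.includeLeft : A →ₐ[k] A ⊗[k] A) *
        toConv (Algebra.TensorProduct.includeRight : A →ₐ[k] A ⊗[k] A) :
        WithConv (A →ₐ[k] A ⊗[k] A)).ofConv := by
  rw [← comulAlgHom_eq_convMul]
  apply AlgHom.ext
  intro a
  simp [shear]

theorem shear_shearInv (z : A ⊗[k] A) : shear (k := k) (shearInv z) = z := by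
  have h1 : (shear (k := k) (A := A)).comp
      ((shearInv (k := k) (A := A)).comp Algebra.TensorProduct.includeRight) =
      Algebra.TensorProduct.includeRight := by
    rw [shearInv_comp_includeRight, AlgHom.comp_convMul_distrib, comp_convInv]
    simp only [ofConv_toConv]
    rw [shear_comp_includeLeft, shear_comp_includeRight, toConv_ofConv, ← mul_assoc,
      inv_mul_cancel, one_mul, ofConv_toConv]
  induction z using TensorProduct.induction_on with
  | zero => simp
  | add x y hx hy => simp only [map_add, hx, hy]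
  | tmul a b =>
    have e : (a ⊗ₜ[k] b : A ⊗[k] A) = (a ⊗ₜ[k] (1 : A)) * ((1 : A) ⊗ₜ[k] b) := by
      rw [Algebra.TensorProduct.tmul_mul_tmul, mul_one, one_mul]
    rw [e, map_mul, map_mul]
    have h2 : shear (k := k) (shearInv (a ⊗ₜ[k] (1 : A))) = a ⊗ₜ[k] (1 : A) := by
      have h3 := congrArg (fun f : A →ₐ[k] A ⊗[k] A => f a)
        (shearInv_comp_includeLeft (k := k) (A := A))
      simp only [AlgHom.comp_apply, Algebra.TensorProduct.includeLeft_apply] at h3
      rw [h3]
      simp [shear]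
    have h4 := congrArg (fun f : A →ₐ[k] A ⊗[k] A => f b) h1
    simp only [AlgHom.comp_apply, Algebra.TensorProduct.includeRight_apply] at h4
    rw [h2, h4]

/-- `lmul' (Θ⁻¹ (1 ⊗ x)) = ε x`. -/
theorem lmul'_shearInv_one_tmul (x : A) :
    Algebra.TensorProduct.lmul' (S := A) k (shearInv (k := k) ((1 : A) ⊗ₜ[k] x)) =
      algebraMap k A (CoalgebraStruct.counit (R := k) x) := by
  have h1 : (Algebra.TensorProduct.lmul' (S := A) k).comp
      ((shearInv (k := k) (A := A)).comp Algebra.TensorProduct.includeRight) =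
      (1 : WithConv (A →ₐ[k] A)).ofConv := by
    rw [shearInv_comp_includeRight, AlgHom.comp_convMul_distrib, comp_convInv]
    simp only [ofConv_toConv]
    have e1 : (Algebra.TensorProduct.lmul' (S := A) k).comp
        (Algebra.TensorProduct.includeLeft : A →ₐ[k] A ⊗[k] A) = AlgHom.id k A := by
      apply AlgHom.ext; intro a; simp
    have e2 : (Algebra.TensorProduct.lmul' (S := A) k).comp
        (Algebra.TensorProduct.includeRight : A →ₐ[k] A ⊗[k] A) = AlgHom.id k A := by
      apply AlgHom.ext; intro a; simp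
    rw [e1, e2, inv_mul_cancel]
  have h2 := congrArg (fun f : A →ₐ[k] A => f x) h1
  simpa using h2

end Shear2

section Agree

variable {k A : Type u} [Field k] [CommRing A] [HopfAlgebra k A] (B : Subalgebra k A)
variable {R : Type w} [CommRing R] [Algebra k R]

/-- If two points agree on a Hopf subalgebra `B`, their quotient kills `A·B⁺`. -/
theorem inv_mul_apply_of_agree
    (hB : ∀ b ∈ B, CoalgebraStruct.comul (R := k) b ∈
      LinearMap.range (TensorProduct.map B.val.toLinearMap B.val.toLinearMap))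
    (u₁ u₂ : WithConv (A →ₐ[k] R)) (hu : ∀ b ∈ B, u₂.ofConv b = u₁.ofConv b)
    (b : A) (hb : b ∈ B) :
    (u₁⁻¹ * u₂).ofConv b = algebraMap k R (CoalgebraStruct.counit (R := k) b) := by
  have e1 := AlgHom.convMul_apply u₁⁻¹ u₂ b
  change (u₁⁻¹ * u₂).ofConv b = _ at e1
  have e2 := AlgHom.convMul_apply u₁⁻¹ u₁ b
  change (u₁⁻¹ * u₁).ofConv b = _ at e2
  rw [inv_mul_cancel] at e2
  rw [e1, ← convOne_apply', e2]
  obtain ⟨y, hy⟩ := hB b hb
  rw [← hy]
  clear hy e1 e2
  induction y using TensorProduct.induction_on with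
  | zero => simp
  | add x y hx hy => simp only [map_add, hx, hy]
  | tmul b' b'' =>
    simp only [TensorProduct.map_tmul, AlgHom.toLinearMap_apply, Subalgebra.coe_val,
      Algebra.TensorProduct.lift_tmul]
    rw [hu _ b''.2]

theorem inv_mul_kills_augIdealSpan
    (hB : ∀ b ∈ B, CoalgebraStruct.comul (R := k) b ∈
      LinearMap.range (TensorProduct.map B.val.toLinearMap B.val.toLinearMap))
    (u₁ u₂ : WithConv (A →ₐ[k] R)) (hu : ∀ b ∈ B, u₂.ofConv b = u₁.ofConv b) :
    ∀ a ∈ SGA3.augIdealSpan k A B, (u₁⁻¹ * u₂).ofConv a = 0 := by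
  have : SGA3.augIdealSpan k A B ≤ RingHom.ker ((u₁⁻¹ * u₂).ofConv : A →+* R) := by
    unfold SGA3.augIdealSpan
    rw [Ideal.span_le]
    rintro b ⟨hb, hε⟩
    rw [SetLike.mem_coe, RingHom.mem_ker]
    change (u₁⁻¹ * u₂).ofConv b = 0
    rw [inv_mul_apply_of_agree B hB u₁ u₂ hu b hb, hε, map_zero]
  intro a ha
  exact this ha

end Agree

end Groth.Agent.Lib.Helper25
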