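import Groth.Agent.Lib.Helper25CE2
import Groth.Agent.Lib.Helper25Shear
import Groth.Agent.Lib.Helper25KTIndex

/-!
# Helper25CE3: the connected-étale sequence of a finite flat group scheme (helper25)

`formallyUnramified_of_isHopfSubalgebra` (separability idempotent `(S ⊗ id)Δ e`),
`coinvSub_facts` (Kreimer–Takeuchi consequences), `connectedEtale_exact`.
-/

set_option autoImplicit false
set_option linter.unusedSimpArgs false
set_option linter.unusedSectionVars false
set_option linter.unusedVariables false
set_option linter.style.haveILetI false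
universe u

open TensorProduct WithConv Groth.Agent.Lib.Helper25

namespace Groth.Agent.Lib.Helper25.CE

section Sep

variable {R : Type u} [CommRing R] {A : Type u} [CommRing A] [HopfAlgebra R A]
  (B : Subalgebra R A)

theorem map_val_val_injective [Module.Flat R A] [Module.Flat R ↥B] :
    Function.Injective (Algebra.TensorProduct.map B.val B.val) := by
  have h1 : Function.Injective (B.val.toLinearMap.lTensor ↥B) :=
    Module.Flat.lTensor_preserves_injective_linearMap _ Subtype.val_injective
  have h2 : Function.Injective (B.val.toLinearMap.rTensor A) :=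
    Module.Flat.rTensor_preserves_injective_linearMap _ Subtype.val_injective
  have h3 : ∀ z, Algebra.TensorProduct.map B.val B.val z =
      B.val.toLinearMap.rTensor A (B.val.toLinearMap.lTensor ↥B z) := by
    intro z
    rw [← LinearMap.comp_apply, LinearMap.rTensor_comp_lTensor]
    rfl
  intro x y hxy
  rw [h3, h3] at hxy
  exact h1 (h2 hxy)

theorem shearInv_one_tmul (x : A) :
    shearInv (k := R) ((1 : A) ⊗ₜ[R] x) =
      Algebra.TensorProduct.map (HopfAlgebra.antipodeAlgHom R A) (AlgHom.id R A)
        (CoalgebraStruct.comul (R := R) x) := by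
  have h1 := congrArg (fun f : A →ₐ[R] A ⊗[R] A => f x)
    (shearInv_comp_includeRight (k := R) (A := A))
  simp only [AlgHom.comp_apply, Algebra.TensorProduct.includeRight_apply] at h1
  rw [h1, CE.map_comul_eq_convMul]
  rfl

variable (hB : SGA3.IsHopfSubalgebra R A B)

/-- The antipode restricted to a sub-Hopf-algebra. -/
noncomputable def antipodeSub : ↥B →ₗ[R] ↥B :=
  LinearMap.codRestrict (Subalgebra.toSubmodule B)
    ((HopfAlgebra.antipode R (A := A)).comp B.val.toLinearMap) (fun b => hB.2 b b.2)

theorem map_antipode_id_map_val (z : ↥B ⊗[R] ↥B) :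
    Algebra.TensorProduct.map (HopfAlgebra.antipodeAlgHom R A) (AlgHom.id R A)
      (Algebra.TensorProduct.map B.val B.val z) =
    Algebra.TensorProduct.map B.val B.val
      (TensorProduct.map (antipodeSub B hB) LinearMap.id z) := by
  induction z using TensorProduct.induction_on with
  | zero => simp
  | add x y hx hy => simp only [map_add, hx, hy]
  | tmul a b => rfl

include hB in
theorem comul_mem_lTensor {b : A} (hb : b ∈ B) :
    ∃ y : A ⊗[R] ↥B, B.val.toLinearMap.lTensor A y = CoalgebraStruct.comul (R := R) b := by
  obtain ⟨z, hz⟩ := hB.1 b hb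
  refine ⟨B.val.toLinearMap.rTensor ↥B z, ?_⟩
  rw [← LinearMap.comp_apply, LinearMap.lTensor_comp_rTensor]
  exact hz

theorem lTensor_mul_one_tmul (e : A)
    (hmul : ∀ b ∈ B, b * e = (CoalgebraStruct.counit (R := R) b) • e) (y : A ⊗[R] ↥B) :
    B.val.toLinearMap.lTensor A y * ((1 : A) ⊗ₜ[R] e) =
      (TensorProduct.rid R A
        ((CoalgebraStruct.counit (R := R) (A := A)).lTensor A
          (B.val.toLinearMap.lTensor A y))) ⊗ₜ[R] e := by
  induction y using TensorProduct.induction_on with
  | zero => simp
  | add x y hx hy => simp only [map_add, add_mul, hx, hy, add_tmul]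
  | tmul a b =>
    simp only [LinearMap.lTensor_tmul, AlgHom.toLinearMap_apply, Subalgebra.coe_val,
      Algebra.TensorProduct.tmul_mul_tmul, mul_one, TensorProduct.rid_tmul]
    rw [hmul _ b.2, TensorProduct.tmul_smul, TensorProduct.smul_tmul']

include hB in
/-- A finite-type sub-Hopf-algebra whose unit section is cut out by an idempotent is
unramified. -/
theorem formallyUnramified_of_isHopfSubalgebra [Module.Flat R A] [Module.Flat R ↥B]
    [Algebra.EssFiniteType R ↥B] (e : A) (heB : e ∈ B)
    (hε : CoalgebraStruct.counit (R := R) e = 1)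
    (hmul : ∀ b ∈ B, b * e = (CoalgebraStruct.counit (R := R) b) • e) :
    Algebra.FormallyUnramified R ↥B := by
  rw [Algebra.FormallyUnramified.iff_exists_tensorProduct]
  obtain ⟨z, hz⟩ := hB.1 e heB
  have hz' : Algebra.TensorProduct.map B.val B.val z = CoalgebraStruct.comul (R := R) e := hz
  have hinj := map_val_val_injective (R := R) B
  have ht : Algebra.TensorProduct.map B.val B.val
      (TensorProduct.map (antipodeSub B hB) LinearMap.id z) =
      shearInv (k := R) ((1 : A) ⊗ₜ[R] e) := by
    rw [← map_antipode_id_map_val, hz', shearInv_one_tmul]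
  refine ⟨TensorProduct.map (antipodeSub B hB) LinearMap.id z, ?_, ?_⟩
  · intro s
    apply hinj
    rw [map_mul, ht, map_zero, map_sub, Algebra.TensorProduct.map_tmul,
      Algebra.TensorProduct.map_tmul, map_one]
    have h1 : shear (k := R) (((1 : A) ⊗ₜ[R] (B.val s) - (B.val s) ⊗ₜ[R] (1 : A)) *
        shearInv (k := R) ((1 : A) ⊗ₜ[R] e)) = 0 := by
      rw [map_mul, shear_shearInv, map_sub, shear_tmul, shear_tmul, Bialgebra.comul_one,
        mul_one, ← Algebra.TensorProduct.one_def, one_mul, sub_mul]
      obtain ⟨y, hy⟩ := comul_mem_lTensor B hB s.2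
      change B.val.toLinearMap.lTensor A y = CoalgebraStruct.comul (R := R) (B.val s) at hy
      rw [← hy, lTensor_mul_one_tmul B e hmul, hy, Coalgebra.lTensor_counit_comul,
        TensorProduct.rid_tmul, one_smul, Algebra.TensorProduct.tmul_mul_tmul, mul_one, one_mul,
        sub_self]
    have h2 := congrArg (shearInv (k := R)) h1
    rw [shearInv_shear, map_zero] at h2
    exact h2
  · apply Subtype.val_injective
    have h1 : ∀ w : ↥B ⊗[R] ↥B, (B.val (Algebra.TensorProduct.lmul' (S := ↥B) R w) : A) =
        Algebra.TensorProduct.lmul' (S := A) R (Algebra.TensorProduct.map B.val B.val w) := by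
      intro w
      induction w using TensorProduct.induction_on with
      | zero => simp
      | add x y hx hy => simp only [map_add, hx, hy]
      | tmul a b => simp
    change (B.val _ : A) = _
    rw [h1, ht, lmul'_shearInv_one_tmul, hε, map_one]
    rfl

end Sep

section Facts

variable {R : Type u} [CommRing R] [IsNoetherianRing R] {A : Type u} [CommRing A]
  [HopfAlgebra R A] [Module.Finite R A] [Module.Projective R A] (I : Ideal A) [I.IsHopfIdeal R]
  [Module.Projective R (A ⧸ I)]

open HopfRep KT in
/-- Module-theoretic facts on the invariants of a finite locally free subgroup of a finite locally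
free group over a Noetherian base. -/
theorem coinvSub_facts :
    Module.FaithfullyFlat ↥(coinvSub R I) A ∧ Module.Flat R ↥(coinvSub R I) ∧
      Module.Finite R ↥(coinvSub R I) := by
  have key : ∀ S : Subalgebra R A,
      S = @GLin.invariants R _ (A ⧸ I) _ _ A _ _ (KT.quotComod (k := R) I)
        (KT.quotComod_isCoactAlg I) →
      Module.FaithfullyFlat ↥S A ∧ Module.Flat R ↥S ∧ Module.Finite R ↥S := by
    rintro S rfl
    letI := KT.quotComod (k := R) I
    haveI : Module.Finite R (A ⧸ I) :=
      Module.Finite.of_surjective (Ideal.Quotient.mkₐ R I).toLinearMap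
        Ideal.Quotient.mk_surjective
    obtain ⟨hfin, hproj⟩ := finite_projective (R := R) (H := A ⧸ I) (A := A) (hcan_quot I)
    haveI := hfin
    haveI := hproj
    haveI : Algebra.IsIntegral ↥(GLin.invariants R (A ⧸ I) A) A :=
      Algebra.IsIntegral.of_finite _ _
    have hker : ∀ P : Ideal ↥(GLin.invariants R (A ⧸ I) A),
        (⊥ : Ideal A).comap (algebraMap ↥(GLin.invariants R (A ⧸ I) A) A) ≤ P := by
      intro P b hb
      rw [Ideal.mem_comap, Ideal.mem_bot] at hb
      have : b = 0 := Subtype.ext hb
      rw [this]
      exact Ideal.zero_mem _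
    haveI : Module.FaithfullyFlat ↥(GLin.invariants R (A ⧸ I) A) A := by
      apply Module.FaithfullyFlat.of_comap_surjective
      intro P
      obtain ⟨Q, _, hQp, hQ⟩ := Ideal.exists_ideal_over_prime_of_isIntegral P.asIdeal
        (⊥ : Ideal A) (hker _)
      exact ⟨⟨Q, hQp⟩, PrimeSpectrum.ext hQ⟩
    refine ⟨inferInstance, flat_of_faithfullyFlat_of_flat (A := A), ?_⟩
    exact Module.Finite.of_injective (GLin.invariants R (A ⧸ I) A).val.toLinearMap
      Subtype.val_injective
  exact key _ (equalizer_eq_invariants (k := R) I)

end Facts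

section Final

variable (R : Type u) [CommRing R] [IsLocalRing R] [IsNoetherianRing R]
  (A : Type u) [CommRing A] [HopfAlgebra R A] [Module.Finite R A] [Module.Flat R A]
  (e : A) (he : IsIdempotentElem e) (hε : Bialgebra.counitAlgHom R A e = 1)
  [IsLocalRing (A ⧸ Ideal.span ({1 - e} : Set A))]

include he in
theorem projective_quot_span [Module.Projective R A] :
    Module.Projective R (A ⧸ Ideal.span ({1 - e} : Set A)) := by
  let i₀ : (A ⧸ Ideal.span ({1 - e} : Set A)) →ₗ[A] A :=
    Submodule.liftQ (Ideal.span ({1 - e} : Set A)) (LinearMap.mulLeft A e) (by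
      intro x hx
      obtain ⟨r, rfl⟩ := Ideal.mem_span_singleton'.mp hx
      rw [LinearMap.mem_ker, LinearMap.mulLeft_apply]
      rw [mul_comm r, ← mul_assoc, mul_sub, mul_one, he.eq, sub_self, zero_mul])
  apply Module.Projective.of_split (i₀.restrictScalars R)
    (Ideal.Quotient.mkₐ R (Ideal.span ({1 - e} : Set A))).toLinearMap
  apply LinearMap.ext
  intro x
  obtain ⟨a, rfl⟩ := Ideal.Quotient.mk_surjective x
  change Ideal.Quotient.mk _ (e * a) = Ideal.Quotient.mk _ a
  rw [map_mul, mk_e, one_mul]

include he hε in
/-- The connected-étale sequence of a finite flat group scheme over a Noetherian local ring whose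
identity component is cut out by the idempotent `e`. -/
theorem connectedEtale_exact :
    SGA3.IsHopfSubalgebra R A (coinvSub R (Ideal.span ({1 - e} : Set A))) ∧
      Algebra.Etale R ↥(coinvSub R (Ideal.span ({1 - e} : Set A))) ∧
      Module.FaithfullyFlat ↥(coinvSub R (Ideal.span ({1 - e} : Set A))) A ∧
      SGA3.augIdealSpan R A (coinvSub R (Ideal.span ({1 - e} : Set A))) =
        Ideal.span ({1 - e} : Set A) := by
  haveI : Module.FinitePresentation R A := Module.finitePresentation_of_finite R A
  haveI : Module.Projective R A := Module.Flat.projective_of_finitePresentation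
  haveI := isHopfIdeal_span e hε he
  haveI := projective_quot_span R A e he
  obtain ⟨hff, hflat, hfin⟩ := coinvSub_facts (R := R) (Ideal.span ({1 - e} : Set A))
  haveI := hff
  haveI := hflat
  haveI := hfin
  have hN := EtConn2.isNormalHopfIdeal_span_one_sub R A e he hε
  have hHopf := isHopfSubalgebra_coinvSub' (Ideal.span ({1 - e} : Set A)) hN
  have heB : e ∈ coinvSub R (Ideal.span ({1 - e} : Set A)) := e_mem_rinv e hε he
  have hmul : ∀ b ∈ coinvSub R (Ideal.span ({1 - e} : Set A)),
      b * e = (CoalgebraStruct.counit (R := R) b) • e :=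
    fun b hb => mul_e_of_mem e hb he
  refine ⟨hHopf, ?_, hff, ?_⟩
  · haveI : Algebra.FormallyUnramified R ↥(coinvSub R (Ideal.span ({1 - e} : Set A))) :=
      formallyUnramified_of_isHopfSubalgebra _ hHopf e heB hε hmul
    haveI : Algebra.FinitePresentation R ↥(coinvSub R (Ideal.span ({1 - e} : Set A))) :=
      Algebra.FinitePresentation.of_finiteType.mp inferInstance
    exact Algebra.Etale.of_formallyUnramified_of_flat
  · apply le_antisymm
    · unfold SGA3.augIdealSpan
      rw [Ideal.span_le]
      rintro a ⟨haB, ha0⟩
      have h1 := hmul a haB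
      rw [ha0, zero_smul] at h1
      rw [SetLike.mem_coe, Ideal.mem_span_singleton']
      refine ⟨a, ?_⟩
      rw [mul_sub, mul_one, h1, sub_zero]
    · rw [Ideal.span_le, Set.singleton_subset_iff]
      apply Ideal.subset_span
      refine ⟨Subalgebra.sub_mem _ (Subalgebra.one_mem _) heB, ?_⟩
      have : CoalgebraStruct.counit (R := R) (A := A) (1 - e) =
        Bialgebra.counitAlgHom R A (1 - e) := rfl
      rw [this, map_sub, map_one, hε, sub_self]

end Final

end Groth.Agent.Lib.Helper25.CE
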