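import Groth.Agent.Lib.Helper25CFOrbCl
import Mathlib

/-!
# Existence of closed orbits in orbit closures (rational points) (helper25; characteristic-free copy with `[IsReduced A]`)
-/

set_option autoImplicit false
set_option linter.unusedSectionVars false
universe u
open TensorProduct HopfRep Topology

namespace Groth.Agent.Lib.Helper25.CF.OrbCl

open Groth.Agent.Lib.Helper25

section Top

/-- A nonempty constructible subset of the spectrum of a Jacobson ring contains a closed point. -/
theorem exists_isClosed_singleton_of_isConstructible {R : Type u} [CommRing R] [IsJacobsonRing R]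
    {s : Set (PrimeSpectrum R)} (hs : IsConstructible s) (hne : s.Nonempty) :
    ∃ p ∈ s, IsClosed ({p} : Set (PrimeSpectrum R)) := by
  obtain ⟨S, rfl⟩ := PrimeSpectrum.exists_constructibleSetData_iff.mpr hs
  obtain ⟨p, hp⟩ := hne
  simp only [PrimeSpectrum.ConstructibleSetData.toSet, Set.mem_iUnion] at hp
  obtain ⟨C, hC, hpC⟩ := hp
  have hlc : IsLocallyClosed C.toSet := by
    unfold PrimeSpectrum.BasicConstructibleSetData.toSet
    exact (PrimeSpectrum.isClosed_zeroLocus _).isLocallyClosed.inter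
      (PrimeSpectrum.isClosed_zeroLocus _).isOpen_compl.isLocallyClosed
  obtain ⟨q, hqC, hq⟩ := nonempty_inter_closedPoints ⟨p, hpC⟩ hlc
  refine ⟨q, ?_, hq⟩
  simp only [PrimeSpectrum.ConstructibleSetData.toSet, Set.mem_iUnion]
  exact ⟨C, hC, hqC⟩

end Top

section
variable {k : Type u} [Field k] [IsAlgClosed k]
  {A : Type u} [CommRing A] [HopfAlgebra k A] [Algebra.FiniteType k A] [IsReduced A]
  {R : Type u} [CommRing R] [Algebra k R] [Algebra.FiniteType k R]
  [HopfRep.Comod k A R] [GLin.IsCoactAlg k A R]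

theorem ker_le_ker_of_vanishing (y w : R →ₐ[k] k)
    (hw : ∀ f, GLin.orbitHom k A y f = 0 → w f = 0) :
    RingHom.ker (GLin.orbitHom k A y) ≤ RingHom.ker (GLin.orbitHom k A w) := by
  intro f hf
  rw [RingHom.mem_ker] at hf ⊢
  rw [← forall_act_eq_zero_iff]
  intro g
  apply hw
  have h1 : T g.toLinearMap f ∈ LinearMap.ker (GLin.orbitHom k A y).toLinearMap :=
    T_mem_of_isSubcomod (isSubcomod_ker_orbitHom y) g.toLinearMap
      (by rw [LinearMap.mem_ker]; exact hf)
  exact h1

theorem finitePresentation_orbitHom (y : R →ₐ[k] k) :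
    (GLin.orbitHom k A y).toRingHom.FinitePresentation := by
  letI : Algebra R A := (GLin.orbitHom k A y).toRingHom.toAlgebra
  haveI : IsScalarTower k R A := IsScalarTower.of_algebraMap_eq
    (fun c => ((GLin.orbitHom k A y).commutes c).symm)
  haveI : Algebra.FinitePresentation k A :=
    Algebra.FinitePresentation.of_finiteType.mp inferInstance
  exact Algebra.FinitePresentation.of_restrict_scalars_finitePresentation k R A

/-- a closed point in the image of the orbit map comes from a rational point of the group. -/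
theorem exists_actPt_eq_of_mem_range (y xu : R →ₐ[k] k) (u : PrimeSpectrum R)
    (hu : u.asIdeal = RingHom.ker xu)
    (hmem : u ∈ Set.range (PrimeSpectrum.comap (GLin.orbitHom k A y).toRingHom)) :
    ∃ g : A →ₐ[k] k, GLin.actPt k g y = xu := by
  obtain ⟨q, hq⟩ := hmem
  obtain ⟨g, hg⟩ := exists_point_vanishing_on (k := k) q.asIdeal q.isPrime.ne_top
  refine ⟨g, ?_⟩
  apply AlgHom.ext
  intro f
  have h1 : f - algebraMap k R (xu f) ∈ u.asIdeal := by
    rw [hu, RingHom.mem_ker]
    simp
  have h2 : f - algebraMap k R (xu f) ∈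
      (PrimeSpectrum.comap (GLin.orbitHom k A y).toRingHom q).asIdeal := by
    rw [hq]; exact h1
  have h3 : GLin.orbitHom k A y (f - algebraMap k R (xu f)) ∈ q.asIdeal := h2
  have h4 := hg _ h3
  rw [map_sub, map_sub, AlgHom.commutes, AlgHom.commutes, sub_eq_zero] at h4
  change g (GLin.orbitHom k A y f) = xu f
  rw [h4]
  rfl

/-- Every orbit closure contains a (rational point with) closed orbit. -/
theorem exists_closed_orbit_in_closure (x : R →ₐ[k] k) :
    ∃ y : R →ₐ[k] k, (∀ f, GLin.orbitHom k A x f = 0 → y f = 0) ∧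
      ∀ z : R →ₐ[k] k, (∀ f, GLin.orbitHom k A y f = 0 → z f = 0) →
        ∃ g : A →ₐ[k] k, z = GLin.actPt k g y := by
  haveI : IsNoetherianRing R := Algebra.FiniteType.isNoetherianRing k R
  haveI : IsJacobsonRing R := isJacobsonRing_of_finiteType (A := k) (B := R)
  let 𝓕 : Set (Ideal R) := {I | ∃ w : R →ₐ[k] k,
    (∀ f, GLin.orbitHom k A x f = 0 → w f = 0) ∧ I = RingHom.ker (GLin.orbitHom k A w)}
  have hne : 𝓕.Nonempty := ⟨_, x, fun f hf => by
    rw [apply_eq_counit_orbitHom (A := A), hf, map_zero], rfl⟩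
  obtain ⟨I, ⟨y, hyx, rfl⟩, hmax⟩ := wellFounded_gt.has_min 𝓕 hne
  refine ⟨y, hyx, fun z hz => ?_⟩
  have hxy := ker_le_ker_of_vanishing x y hyx
  have hyz := ker_le_ker_of_vanishing y z hz
  have hzF : RingHom.ker (GLin.orbitHom k A z) ∈ 𝓕 :=
    ⟨z, fun f hf => hz f (hxy hf), rfl⟩
  have heq : RingHom.ker (GLin.orbitHom k A z) = RingHom.ker (GLin.orbitHom k A y) :=
    by
      by_contra hne'
      exact hmax _ hzF (lt_of_le_of_ne hyz (fun h' => hne' h'.symm))
  -- a minimal prime over the common kernel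
  have hK : RingHom.ker (GLin.orbitHom k A y) ≠ ⊤ := by
    intro h
    have : (1 : R) ∈ RingHom.ker (GLin.orbitHom k A y) := by rw [h]; exact Submodule.mem_top
    rw [RingHom.mem_ker, map_one] at this
    obtain ⟨g, -⟩ := exists_point_vanishing_on (k := k) (R := A) ⊥ (by
      intro hbt
      have h0 : (1 : A) ∈ (⊥ : Ideal A) := by rw [hbt]; exact Submodule.mem_top
      exact one_ne_zero (α := k) (by
        have := congrArg (Bialgebra.counitAlgHom k A) ((Submodule.mem_bot A).mp h0)
        simpa using this))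
    have := congrArg g this
    rw [map_one, map_zero] at this
    exact one_ne_zero this
  obtain ⟨M, hM, hKM⟩ := Ideal.exists_le_maximal _ hK
  obtain ⟨𝔮, h𝔮, -⟩ := Ideal.exists_minimalPrimes_le hKM
  have h𝔮y : 𝔮 ∈ ((⊥ : Ideal A).comap (GLin.orbitHom k A y).toRingHom).minimalPrimes := h𝔮
  have h𝔮z : 𝔮 ∈ ((⊥ : Ideal A).comap (GLin.orbitHom k A z).toRingHom).minimalPrimes := by
    have : (⊥ : Ideal A).comap (GLin.orbitHom k A z).toRingHom =
        (⊥ : Ideal A).comap (GLin.orbitHom k A y).toRingHom := heq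
    rw [this]; exact h𝔮
  obtain ⟨py, hpy, -, hpy'⟩ := Ideal.exists_comap_eq_of_mem_minimalPrimes _ 𝔮 h𝔮y
  obtain ⟨pz, hpz, -, hpz'⟩ := Ideal.exists_comap_eq_of_mem_minimalPrimes _ 𝔮 h𝔮z
  have h𝔮p : 𝔮.IsPrime := h𝔮.1.1
  let C : Set (PrimeSpectrum R) :=
    Set.range (PrimeSpectrum.comap (GLin.orbitHom k A y).toRingHom) ∩
      Set.range (PrimeSpectrum.comap (GLin.orbitHom k A z).toRingHom)
  have hCc : IsConstructible C :=
    (PrimeSpectrum.isConstructible_range_comap (finitePresentation_orbitHom y)).inter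
      (PrimeSpectrum.isConstructible_range_comap (finitePresentation_orbitHom z))
  have hCne : C.Nonempty := ⟨⟨𝔮, h𝔮p⟩,
    ⟨⟨py, hpy⟩, PrimeSpectrum.ext hpy'⟩, ⟨⟨pz, hpz⟩, PrimeSpectrum.ext hpz'⟩⟩
  obtain ⟨u, ⟨huy, huz⟩, hucl⟩ := exists_isClosed_singleton_of_isConstructible hCc hCne
  have humax : u.asIdeal.IsMaximal := (PrimeSpectrum.isClosed_singleton_iff_isMaximal u).mp hucl
  obtain ⟨xu, hxu⟩ := exists_point_vanishing_on (k := k) u.asIdeal humax.ne_top
  have hu : u.asIdeal = RingHom.ker xu :=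
    humax.eq_of_le (RingHom.ker_ne_top _) (fun f hf => hxu f hf)
  obtain ⟨gy, hgy⟩ := exists_actPt_eq_of_mem_range y xu u hu huy
  obtain ⟨gz, hgz⟩ := exists_actPt_eq_of_mem_range z xu u hu huz
  refine ⟨convPt gy (gz.comp (HopfAlgebra.antipodeAlgHom k A)), ?_⟩
  rw [← actPt_actPt, hgy, ← hgz, actPt_inv_actPt]

end

end Groth.Agent.Lib.Helper25.CF.OrbCl
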