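import Groth.Agent.Lib.Helper25CFClosedOrb
import Groth.Agent.Lib.Helper5IntDim
import Mathlib

/-!
# Closed orbits under finite equivariant maps (helper25; characteristic-free copy with `[IsReduced A]`)
-/

set_option autoImplicit false
set_option linter.unusedSectionVars false
universe u
open TensorProduct HopfRep Topology

namespace Groth.Agent.Lib.Helper25.CF.FinOrb

open Groth.Agent.Lib.Helper25 Groth.Agent.Lib.Helper25.CF.OrbCl

section Dim
variable {R : Type u} [CommRing R]

/-- If `I ≤ J`, `J` proper, `dim R/I` finite and `dim R/I ≤ dim R/J`, then `J` is contained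
in a minimal prime of `I`. -/
theorem exists_minimalPrimes_ge_of_ringKrullDim_le {I J : Ideal R} (hIJ : I ≤ J)
    (d : ℕ) (hI : ringKrullDim (R ⧸ I) = d) (hJ : (d : WithBot ℕ∞) ≤ ringKrullDim (R ⧸ J)) :
    ∃ P ∈ I.minimalPrimes, J ≤ P := by
  rw [ringKrullDim_quotient] at hI hJ
  obtain ⟨l, hl⟩ := Order.le_krullDim_iff.mp hJ
  have hQ₀ : J ≤ l.head.1.asIdeal := by
    have := l.head.2
    rw [PrimeSpectrum.mem_zeroLocus] at this
    exact this
  obtain ⟨P, hPmin, hPle⟩ := Ideal.exists_minimalPrimes_le (hIJ.trans hQ₀)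
  refine ⟨P, hPmin, ?_⟩
  by_contra hJP
  have hne : P ≠ l.head.1.asIdeal := fun h => hJP (h ▸ hQ₀)
  have hlt : P < l.head.1.asIdeal := lt_of_le_of_ne hPle hne
  let ι : PrimeSpectrum.zeroLocus (J : Set R) → PrimeSpectrum.zeroLocus (I : Set R) :=
    fun q => ⟨q.1, PrimeSpectrum.zeroLocus_anti_mono (by exact_mod_cast hIJ) q.2⟩
  have hι : StrictMono ι := fun a b hab => hab
  let l' : LTSeries (PrimeSpectrum.zeroLocus (I : Set R)) := l.map ι hι
  have hP' : (⟨P, hPmin.1.1⟩ : PrimeSpectrum R) ∈ PrimeSpectrum.zeroLocus (I : Set R) := by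
    rw [PrimeSpectrum.mem_zeroLocus]; exact hPmin.1.2
  have hrel : (⟨⟨P, hPmin.1.1⟩, hP'⟩ : PrimeSpectrum.zeroLocus (I : Set R)) < l'.head := by
    change (⟨P, hPmin.1.1⟩ : PrimeSpectrum R) < (l'.head).1
    have : l'.head = ι l.head := LTSeries.head_map l ι hι
    rw [this]
    exact hlt
  let l'' := l'.cons _ hrel
  have hlen : l''.length = d + 1 := by
    simp [l'', l', hl]
  have := Order.LTSeries.length_le_krullDim l''
  rw [hI, hlen] at this
  have h2 : ((d + 1 : ℕ) : WithBot ℕ∞) ≤ (d : WithBot ℕ∞) := this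
  have h3 : (d + 1 : ℕ) ≤ d := by exact_mod_cast h2
  omega

end Dim

section Top

/-- A constructible set meeting a closed set in the spectrum of a Jacobson ring: the
intersection contains a closed point. -/
theorem exists_isClosed_singleton_of_isConstructible_inter {R : Type u} [CommRing R]
    [IsJacobsonRing R] {s t : Set (PrimeSpectrum R)} (hs : IsConstructible s) (ht : IsClosed t)
    (hne : (s ∩ t).Nonempty) :
    ∃ p ∈ s ∩ t, IsClosed ({p} : Set (PrimeSpectrum R)) := by
  obtain ⟨S, rfl⟩ := PrimeSpectrum.exists_constructibleSetData_iff.mpr hs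
  obtain ⟨p, hp, hpt⟩ := hne
  simp only [PrimeSpectrum.ConstructibleSetData.toSet, Set.mem_iUnion] at hp
  obtain ⟨C, hC, hpC⟩ := hp
  have hlc : IsLocallyClosed (C.toSet ∩ t) := by
    unfold PrimeSpectrum.BasicConstructibleSetData.toSet
    exact ((PrimeSpectrum.isClosed_zeroLocus _).isLocallyClosed.inter
      (PrimeSpectrum.isClosed_zeroLocus _).isOpen_compl.isLocallyClosed).inter ht.isLocallyClosed
  obtain ⟨q, hqC, hq⟩ := nonempty_inter_closedPoints (Z := C.toSet ∩ t) ⟨p, hpC, hpt⟩ hlc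
  refine ⟨q, ⟨?_, hqC.2⟩, hq⟩
  simp only [PrimeSpectrum.ConstructibleSetData.toSet, Set.mem_iUnion]
  exact ⟨C, hC, hqC.1⟩

end Top


section FT

theorem exists_nat_ringKrullDim_of_finiteType (k : Type u) [Field k] (B : Type u) [CommRing B]
    [Nontrivial B] [Algebra k B] [Algebra.FiniteType k B] : ∃ d : ℕ, ringKrullDim B = d := by
  obtain ⟨n, f, hf⟩ := Algebra.FiniteType.iff_quotient_mvPolynomial''.mp
    (inferInstance : Algebra.FiniteType k B)
  have hle : ringKrullDim B ≤ (n : WithBot ℕ∞) := by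
    have h1 := ringKrullDim_le_of_surjective f.toRingHom hf
    rw [MvPolynomial.ringKrullDim_of_isNoetherianRing, ringKrullDim_eq_zero_of_field, zero_add] at h1
    simpa using h1
  have h0 : 0 ≤ ringKrullDim B := ringKrullDim_nonneg_of_nontrivial
  obtain ⟨m, hm⟩ : ∃ m : ℕ∞, ringKrullDim B = m := by
    cases h : ringKrullDim B with
    | bot => rw [h] at h0; simp at h0
    | coe m => exact ⟨m, rfl⟩
  rw [hm] at hle
  have hmn : m ≤ n := by exact_mod_cast hle
  lift m to ℕ using (ne_top_of_le_ne_top (ENat.natCast_ne_top n) hmn)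
  exact ⟨m, hm⟩

end FT

section Orbit
variable {k : Type u} [Field k] [IsAlgClosed k]
  {A : Type u} [CommRing A] [HopfAlgebra k A] [Algebra.FiniteType k A] [IsReduced A]
  {S : Type u} [CommRing S] [Algebra k S] [Algebra.FiniteType k S]
  [HopfRep.Comod k A S] [GLin.IsCoactAlg k A S]
  {R : Type u} [CommRing R] [Algebra k R] [Algebra.FiniteType k R]
  [HopfRep.Comod k A R] [GLin.IsCoactAlg k A R]

theorem orbitHom_comp (φ : S →ₐ[k] R)
    (hequiv : ∀ s : S, Comod.coact (k := k) (A := A) (φ s) =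
      Algebra.TensorProduct.map φ (AlgHom.id k A) (Comod.coact (k := k) (A := A) s))
    (x : R →ₐ[k] k) :
    GLin.orbitHom k A (x.comp φ) = (GLin.orbitHom k A x).comp φ := by
  apply AlgHom.ext
  intro s
  unfold GLin.orbitHom GLin.coactAlgHom
  simp only [AlgHom.comp_apply, AlgHom.ofLinearMap_apply]
  rw [hequiv s, ← AlgHom.comp_apply (Algebra.TensorProduct.map x (AlgHom.id k A))
    (Algebra.TensorProduct.map φ (AlgHom.id k A)), ← Algebra.TensorProduct.map_comp]
  rfl

theorem ker_orbitHom_actPt (g : A →ₐ[k] k) (x : R →ₐ[k] k) :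
    RingHom.ker (GLin.orbitHom k A (GLin.actPt k g x)) = RingHom.ker (GLin.orbitHom k A x) := by
  apply le_antisymm
  · refine ker_le_ker_of_vanishing (GLin.actPt k g x) x (fun f hf => ?_)
    have h1 := actPt_inv_actPt g x
    rw [← h1, actPt_apply, hf, map_zero]
  · exact ker_le_ker_of_vanishing x (GLin.actPt k g x)
      (fun f hf => by rw [actPt_apply, hf, map_zero])

theorem one_notMem_ker_orbitHom (x : R →ₐ[k] k) :
    RingHom.ker (GLin.orbitHom k A x) ≠ ⊤ := by
  intro h
  have h1 : (1 : R) ∈ RingHom.ker (GLin.orbitHom k A x) := by rw [h]; exact Submodule.mem_top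
  rw [RingHom.mem_ker, map_one] at h1
  have := congrArg (Bialgebra.counitAlgHom k A) h1
  simp at this

end Orbit


section Main
variable {k : Type u} [Field k] [IsAlgClosed k]
  {A : Type u} [CommRing A] [HopfAlgebra k A] [Algebra.FiniteType k A] [IsReduced A]
  {S : Type u} [CommRing S] [Algebra k S] [Algebra.FiniteType k S]
  [HopfRep.Comod k A S] [GLin.IsCoactAlg k A S]
  {R : Type u} [CommRing R] [Algebra k R] [Algebra.FiniteType k R]
  [HopfRep.Comod k A R] [GLin.IsCoactAlg k A R]

/-- Key step: for an integral equivariant map `S → R` and a point `x` whose image has closed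
orbit, every rational point of the orbit closure of `x` lies in the orbit of `x`. -/
theorem exists_actPt_eq_of_integral (φ : S →ₐ[k] R) (hφ : φ.toRingHom.IsIntegral)
    (hequiv : ∀ s : S, Comod.coact (k := k) (A := A) (φ s) =
      Algebra.TensorProduct.map φ (AlgHom.id k A) (Comod.coact (k := k) (A := A) s))
    (x : R →ₐ[k] k) (hy : GLin.IsClosedOrbit k A (x.comp φ)) (z : R →ₐ[k] k)
    (hz : ∀ f, GLin.orbitHom k A x f = 0 → z f = 0) :
    ∃ g : A →ₐ[k] k, z = GLin.actPt k g x := by
  obtain ⟨w, hwz, hw⟩ := exists_closed_orbit_in_closure (A := A) z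
  have hxz := ker_le_ker_of_vanishing x z hz
  have hzw := ker_le_ker_of_vanishing z w hwz
  have hxw := hxz.trans hzw
  have hoy := orbitHom_comp φ hequiv x
  have how := orbitHom_comp φ hequiv w
  have hIy : RingHom.ker (GLin.orbitHom k A (x.comp φ)) =
      (RingHom.ker (GLin.orbitHom k A x)).comap φ := by
    rw [hoy]; ext s; simp [RingHom.mem_ker]
  have hIw : RingHom.ker (GLin.orbitHom k A (w.comp φ)) =
      (RingHom.ker (GLin.orbitHom k A w)).comap φ := by
    rw [how]; ext s; simp [RingHom.mem_ker]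
  have hwS : GLin.InOrbitClosure k A (x.comp φ) (w.comp φ) := by
    intro s hs
    rw [hIy, Ideal.mem_comap] at hs
    have h1 : φ s ∈ RingHom.ker (GLin.orbitHom k A w) := hxw hs
    rw [RingHom.mem_ker] at h1 ⊢
    change w (φ s) = 0
    rw [apply_eq_counit_orbitHom (A := A) w, h1, map_zero]
  obtain ⟨g, hg⟩ := exists_actPt_eq_of_isClosedOrbit hy hwS
  have hcomap : (RingHom.ker (GLin.orbitHom k A w)).comap φ =
      (RingHom.ker (GLin.orbitHom k A x)).comap φ := by
    rw [← hIw, ← hIy, hg, ker_orbitHom_actPt]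
  have hdim : ∀ I : Ideal R, ringKrullDim (R ⧸ I) = ringKrullDim (S ⧸ I.comap φ) := by
    intro I
    have hf : ((Ideal.Quotient.mk I).comp φ.toRingHom).IsIntegral :=
      RingHom.IsIntegral.trans _ _ hφ
        (RingHom.isIntegral_of_surjective _ Ideal.Quotient.mk_surjective)
    have := Groth.Agent.Lib.Helper5.ringKrullDim_eq_ringKrullDim_quotient_ker_of_isIntegral _ hf
    rw [this, ← RingHom.comap_ker, Ideal.mk_ker]
    rfl
  have hne := one_notMem_ker_orbitHom (A := A) x
  haveI : Nontrivial (R ⧸ RingHom.ker (GLin.orbitHom k A x)) :=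
    Ideal.Quotient.nontrivial_iff.mpr hne
  obtain ⟨d, hd⟩ := exists_nat_ringKrullDim_of_finiteType k
    (R ⧸ RingHom.ker (GLin.orbitHom k A x))
  have hJ : (d : WithBot ℕ∞) ≤ ringKrullDim (R ⧸ RingHom.ker (GLin.orbitHom k A w)) := by
    rw [hdim, hcomap, ← hdim, hd]
  obtain ⟨P, hPmin, hwP⟩ := exists_minimalPrimes_ge_of_ringKrullDim_le hxw d hd hJ
  have hP' : P ∈ ((⊥ : Ideal A).comap (GLin.orbitHom k A x).toRingHom).minimalPrimes := hPmin
  obtain ⟨p, hp, -, hpP⟩ := Ideal.exists_comap_eq_of_mem_minimalPrimes _ P hP'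
  have hPprime : P.IsPrime := hPmin.1.1
  have hCne : (Set.range (PrimeSpectrum.comap (GLin.orbitHom k A x).toRingHom) ∩
      PrimeSpectrum.zeroLocus (RingHom.ker (GLin.orbitHom k A w) : Set R)).Nonempty :=
    ⟨⟨P, hPprime⟩, ⟨⟨p, hp⟩, PrimeSpectrum.ext hpP⟩, by
      rw [PrimeSpectrum.mem_zeroLocus]; exact hwP⟩
  haveI : IsJacobsonRing R := isJacobsonRing_of_finiteType (A := k) (B := R)
  obtain ⟨u, ⟨hux, huw⟩, hucl⟩ := exists_isClosed_singleton_of_isConstructible_inter
    (PrimeSpectrum.isConstructible_range_comap (finitePresentation_orbitHom x))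
    (PrimeSpectrum.isClosed_zeroLocus _) hCne
  have humax : u.asIdeal.IsMaximal := (PrimeSpectrum.isClosed_singleton_iff_isMaximal u).mp hucl
  obtain ⟨xu, hxu⟩ := exists_point_vanishing_on (k := k) u.asIdeal humax.ne_top
  have hu : u.asIdeal = RingHom.ker xu :=
    humax.eq_of_le (RingHom.ker_ne_top _) (fun f hf => hxu f hf)
  obtain ⟨gx, hgx⟩ := exists_actPt_eq_of_mem_range x xu u hu hux
  obtain ⟨gw, hgw⟩ := hw xu (fun f hf => by
    have h1 : f ∈ u.asIdeal := (PrimeSpectrum.mem_zeroLocus _ _).mp huw (by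
      change f ∈ RingHom.ker (GLin.orbitHom k A w)
      exact hf)
    exact hxu f h1)
  have hkw : RingHom.ker (GLin.orbitHom k A w) = RingHom.ker (GLin.orbitHom k A x) := by
    have h1 := ker_orbitHom_actPt gx x
    have h2 := ker_orbitHom_actPt gw w
    rw [hgx] at h1
    rw [← hgw] at h2
    rw [← h1, ← h2]
  obtain ⟨g', hg'⟩ := hw z (fun f hf => hz f (by
    have : f ∈ RingHom.ker (GLin.orbitHom k A w) := hf
    rw [hkw] at this
    exact this))
  have hwx : w = GLin.actPt k (convPt gx (gw.comp (HopfAlgebra.antipodeAlgHom k A))) x := by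
    rw [← actPt_actPt, hgx, hgw, actPt_inv_actPt]
  refine ⟨convPt (convPt gx (gw.comp (HopfAlgebra.antipodeAlgHom k A))) g', ?_⟩
  rw [← actPt_actPt, ← hwx, hg']

/-- the orbit is closed as soon as it contains every rational point of its closure. -/
theorem isClosedOrbit_of_forall (x : R →ₐ[k] k)
    (h : ∀ z : R →ₐ[k] k, (∀ f, GLin.orbitHom k A x f = 0 → z f = 0) →
      ∃ g : A →ₐ[k] k, z = GLin.actPt k g x) : GLin.IsClosedOrbit k A x := by
  haveI : IsJacobsonRing R := isJacobsonRing_of_finiteType (A := k) (B := R)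
  unfold GLin.IsClosedOrbit
  set Z := Set.range (PrimeSpectrum.comap (GLin.orbitHom k A x).toRingHom) with hZ
  have hZc : IsConstructible Z :=
    PrimeSpectrum.isConstructible_range_comap (finitePresentation_orbitHom x)
  by_contra hcl
  have hne : (Zᶜ ∩ closure Z).Nonempty := by
    by_contra hemp
    apply hcl
    rw [Set.not_nonempty_iff_eq_empty] at hemp
    have : closure Z ⊆ Z := by
      intro q hq
      by_contra hqZ
      have : q ∈ Zᶜ ∩ closure Z := ⟨hqZ, hq⟩
      rw [hemp] at this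
      exact this
    exact closure_subset_iff_isClosed.mp this
  obtain ⟨u, ⟨huZ, hucl'⟩, hucl⟩ := exists_isClosed_singleton_of_isConstructible_inter
    hZc.compl isClosed_closure hne
  have humax : u.asIdeal.IsMaximal := (PrimeSpectrum.isClosed_singleton_iff_isMaximal u).mp hucl
  obtain ⟨xu, hxu⟩ := exists_point_vanishing_on (k := k) u.asIdeal humax.ne_top
  have hu : u.asIdeal = RingHom.ker xu :=
    humax.eq_of_le (RingHom.ker_ne_top _) (fun f hf => hxu f hf)
  rw [hZ, PrimeSpectrum.closure_range_comap, PrimeSpectrum.mem_zeroLocus] at hucl'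
  obtain ⟨g, hg⟩ := h xu (fun f hf => hxu f (hucl' (by
    change f ∈ RingHom.ker (GLin.orbitHom k A x).toRingHom
    exact hf)))
  apply huZ
  refine ⟨⟨RingHom.ker (g : A →+* k), RingHom.ker_isPrime _⟩, ?_⟩
  apply PrimeSpectrum.ext
  rw [hu, hg]
  ext f
  simp only [PrimeSpectrum.comap_asIdeal, Ideal.mem_comap, RingHom.mem_ker]
  rfl

end Main

end Groth.Agent.Lib.Helper25.CF.FinOrb
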