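import Groth.Agent.Lib.Helper25PtExtend
import Mathlib

/-!
# Helper25DensePts: rational points of affine group schemes over an algebraically closed field

`exists_point_ne_zero_of_not_isNilpotent`, `exists_algHom_ne_zero_of_not_isNilpotent` (Hopf level),
`instOver`, `instAlgΓ`, `instHopfΓ`, `hom_eq`, `ptOf`, `dense_rationalPoints` (scheme level).
-/

set_option autoImplicit false
set_option linter.style.haveILetI false
universe u v

open CategoryTheory CategoryTheory.Limits MonoidalCategory CartesianMonoidalCategory MonObj GrpObj AlgebraicGeometry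

namespace Groth.Agent.Lib.Helper25.DensePts

open Groth.Agent.Lib.Helper25 Groth.Agent.Lib.Helper25.HopfSub



/-- In a finitely generated algebra over an algebraically closed field, a non-nilpotent element is
non-zero at some rational point. -/
theorem exists_point_ne_zero_of_not_isNilpotent {k : Type u} [Field k] [IsAlgClosed k]
    {R : Type v} [CommRing R] [Algebra k R] [Algebra.FiniteType k R] (c : R)
    (hc : ¬ IsNilpotent c) : ∃ x : R →ₐ[k] k, x c ≠ 0 := by
  let L := Localization.Away c
  haveI : Nontrivial L := by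
    rw [← not_subsingleton_iff_nontrivial,
      IsLocalization.subsingleton_iff (M := Submonoid.powers c) (S := L)]
    rintro ⟨n, hn⟩
    exact hc ⟨n, hn⟩
  haveI : Algebra.FinitePresentation R L := IsLocalization.Away.finitePresentation (S := L) c
  haveI : Algebra.FiniteType R L := Algebra.FiniteType.of_finitePresentation
  haveI : Algebra.FiniteType k L :=
    Algebra.FiniteType.trans (R := k) (S := R) (A := L) inferInstance inferInstance
  obtain ⟨x, -⟩ := exists_point_vanishing_on (k := k) (R := L) ⊥ bot_ne_top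
  refine ⟨x.comp (IsScalarTower.toAlgHom k R L), ?_⟩
  intro h
  have hu : IsUnit (algebraMap R L c) := IsLocalization.Away.algebraMap_isUnit c
  have h2 := hu.map x
  rw [show x (algebraMap R L c) = 0 from h] at h2
  exact not_isUnit_zero h2

/-- Over an algebraically closed field, the rational points of a commutative Hopf algebra (not
necessarily finitely generated) detect non-nilpotent elements. -/
theorem exists_algHom_ne_zero_of_not_isNilpotent {k : Type u} [Field k] [IsAlgClosed k]
    {A : Type v} [CommRing A] [HopfAlgebra k A] (c : A) (hc : ¬ IsNilpotent c) :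
    ∃ g : A →ₐ[k] k, g c ≠ 0 := by
  classical
  obtain ⟨D, hDft, hDc, hDΔ, hDS⟩ := exists_finiteType_hopfSubalgebra_ge (k := k) ({c} : Finset A)
  obtain ⟨DH, hDH⟩ : ∃ DH : HSub k A, DH.S = D := ⟨⟨D, hDΔ, hDS⟩, rfl⟩
  subst hDH
  haveI : Algebra.FiniteType k ↥DH.S := hDft
  have hcD : c ∈ DH.S := hDc (by simp)
  have hc' : ¬ IsNilpotent (⟨c, hcD⟩ : ↥DH.S) := by
    rintro ⟨n, hn⟩
    exact hc ⟨n, by simpa using congrArg Subtype.val hn⟩
  obtain ⟨x, hx⟩ := exists_point_ne_zero_of_not_isNilpotent (k := k) (⟨c, hcD⟩ : ↥DH.S) hc'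
  obtain ⟨g, hg⟩ := exists_algHom_extend DH x
  exact ⟨g, by rw [← hg ⟨c, hcD⟩] at hx; exact hx⟩


section
variable (k : Type u) [Field k] (G : Over (Spec (CommRingCat.of k))) [IsAffine G.left]

/-- the `k`-algebra structure on the global sections of an affine `k`-scheme -/
noncomputable abbrev instOver : G.left.Over (Spec (CommRingCat.of k)) := ⟨G.hom⟩

attribute [local instance] instOver

/-- the `k`-algebra structure on global sections, as an instance on the underlying types -/
noncomputable abbrev instAlgΓ : Algebra k Γ(G.left, ⊤) :=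
  AlgebraicGeometry.instAlgebraCarrierObjOppositeOpensCarrierCarrierCommRingCatPresheafOpOpensTopOfOverSpecOfIsAffine
    (R := CommRingCat.of k) (X := G.left)

attribute [local instance] instAlgΓ

lemma hom_eq :
    G.hom = G.left.isoSpec.hom ≫
      Spec.map (CommRingCat.ofHom (algebraMap k Γ(G.left, ⊤))) := by
  have := (inferInstance : G.left.isoSpec.hom.IsOver (Spec (CommRingCat.of k)))
  exact this.comp_over.symm

/-- the rational point of `G` attached to a `k`-algebra map `Γ(G) → k`. -/
noncomputable def ptOf (g : Γ(G.left, ⊤) →ₐ[k] k) :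
    𝟙_ (Over (Spec (CommRingCat.of k))) ⟶ G :=
  Over.homMk (Spec.map (CommRingCat.ofHom g.toRingHom) ≫ G.left.isoSpec.inv) (by
    rw [Category.assoc, hom_eq k G, Iso.inv_hom_id_assoc, ← Spec.map_comp,
      ← CommRingCat.ofHom_comp]
    have : g.toRingHom.comp (algebraMap k Γ(G.left, ⊤)) = RingHom.id k := by
      ext x; exact g.commutes x
    rw [this]
    simp)

end


section
variable (k : Type u) [Field k] (G : Over (Spec (CommRingCat.of k))) [GrpObj G] [IsAffine G.left]

attribute [local instance] instOver instAlgΓ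

/-- the Hopf algebra structure on the global sections of an affine group scheme -/
noncomputable abbrev instHopfΓ : HopfAlgebra k Γ(G.left, ⊤) :=
  letI : GrpObj (G.left.asOver (Spec (CommRingCat.of k))) := ‹GrpObj G›
  AlgebraicGeometry.instHopfAlgebraCarrierObjOppositeOpensCarrierCarrierCommRingCatPresheafOpOpensTopOfGrpObjOverSchemeSpecAsOverOfIsAffine
    (R := CommRingCat.of k) (G := G.left)


end


section
variable (k : Type u) [Field k] [IsAlgClosed k]
  (G : Over (Spec (CommRingCat.of k))) [GrpObj G] [IsAffine G.left]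

attribute [local instance] instOver instAlgΓ

theorem dense_rationalPoints :
    Dense {x : ↥G.left | ∃ g : 𝟙_ (Over (Spec (CommRingCat.of k))) ⟶ G,
      g.left.base (IsLocalRing.closedPoint k) = x} := by
  letI : HopfAlgebra k Γ(G.left, ⊤) := instHopfΓ k G
  rw [dense_iff_inter_open]
  intro U hU hUne
  obtain ⟨u, hu⟩ := hUne
  -- transport to `Spec Γ(G)`
  let e := G.left.isoSpec
  let V : Set (PrimeSpectrum Γ(G.left, ⊤)) := e.inv ⁻¹' U
  have hV : IsOpen V := hU.preimage e.inv.continuous
  have huV : e.hom u ∈ V := by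
    change e.inv (e.hom u) ∈ U
    rw [← Scheme.Hom.comp_apply, Iso.hom_inv_id]
    exact hu
  obtain ⟨_, ⟨f, rfl⟩, hfu, hfV⟩ :=
    PrimeSpectrum.isTopologicalBasis_basic_opens.exists_subset_of_mem_open huV hV
  have hfnil : ¬ IsNilpotent f := by
    rintro ⟨n, hn⟩
    let q : PrimeSpectrum Γ(G.left, ⊤) := e.hom u
    have hq : f ∉ q.asIdeal := hfu
    exact hq (q.isPrime.mem_of_pow_mem n (by rw [hn]; exact Submodule.zero_mem _))
  obtain ⟨g, hg⟩ := exists_algHom_ne_zero_of_not_isNilpotent (k := k) f hfnil
  let p : PrimeSpectrum Γ(G.left, ⊤) :=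
    Spec.map (CommRingCat.ofHom g.toRingHom) (IsLocalRing.closedPoint k)
  have hp : p ∈ PrimeSpectrum.basicOpen f := by
    change f ∉ p.asIdeal
    change f ∉ Ideal.comap g.toRingHom (IsLocalRing.closedPoint k).asIdeal
    rw [Ideal.mem_comap, IsLocalRing.closedPoint, IsLocalRing.mem_maximalIdeal]
    simpa using hg
  refine ⟨e.inv p, hfV hp, ptOf k G g, ?_⟩
  rfl

end


end Groth.Agent.Lib.Helper25.DensePts
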