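import Groth.Agent.Lib.Helper25FinOrder

/-!
# Helper25PointsNilp: nilpotence / solvability of the group of rational points

`isNilpotent_of_flag`: a group acting faithfully on a module, unipotently with respect to a finite
flag, is nilpotent.  `actHom`: the action of `G(k)` on a comodule as a monoid hom.
`exists_faithful_subcomod`: a finitely generated Hopf algebra has a finite-dimensional subcomodule
of the regular comodule on which `G(k)` acts faithfully.  `isNilpotent_points_of_isUnipotent`.
-/

set_option autoImplicit false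
universe u v w w'

namespace Groth.Agent.Lib.Helper25

open TensorProduct HopfRep WithConv

section FlagNilp

variable {k : Type u} [CommRing k] {V : Type w} [AddCommGroup V] [Module k V]
variable {Γ : Type w'} [Group Γ]

theorem flag_stable (ρ : Γ →* Module.End k V) (F : ℕ → Submodule k V) (hmono : Monotone F)
    (h0 : F 0 = ⊥) (hstep : ∀ g i, ∀ v ∈ F (i + 1), ρ g v - v ∈ F i)
    (g : Γ) (i : ℕ) (v : V) (hv : v ∈ F i) : ρ g v ∈ F i := by
  cases i with
  | zero =>
    rw [h0, Submodule.mem_bot] at hv
    rw [hv, map_zero]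
    exact Submodule.zero_mem _
  | succ j =>
    have h1 := hstep g j v hv
    have h2 : ρ g v = (ρ g v - v) + v := by abel
    rw [h2]
    exact Submodule.add_mem _ (hmono (Nat.le_succ j) h1) hv

/-- The subgroup of elements `g` with `(ρ g - 1) F (i + j + 1) ⊆ F i`. -/
def flagSubgroup (ρ : Γ →* Module.End k V) (F : ℕ → Submodule k V) (hmono : Monotone F)
    (h0 : F 0 = ⊥) (hstep : ∀ g i, ∀ v ∈ F (i + 1), ρ g v - v ∈ F i) (j : ℕ) : Subgroup Γ where
  carrier := {g | ∀ i, ∀ v ∈ F (i + j + 1), ρ g v - v ∈ F i}
  one_mem' := by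
    intro i v _
    rw [map_one, Module.End.one_apply, sub_self]
    exact Submodule.zero_mem _
  mul_mem' := by
    intro a b ha hb i v hv
    have h1 : ρ b v ∈ F (i + j + 1) := flag_stable ρ F hmono h0 hstep b _ v hv
    have h2 : ρ (a * b) v - v = (ρ a (ρ b v) - ρ b v) + (ρ b v - v) := by
      rw [map_mul, Module.End.mul_apply]
      abel
    rw [h2]
    exact Submodule.add_mem _ (ha i _ h1) (hb i v hv)
  inv_mem' := by
    intro a ha i v hv
    have h1 : ρ a⁻¹ v ∈ F (i + j + 1) := flag_stable ρ F hmono h0 hstep a⁻¹ _ v hv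
    have h3 : ρ a (ρ a⁻¹ v) = v := by
      rw [← Module.End.mul_apply, ← map_mul, mul_inv_cancel, map_one, Module.End.one_apply]
    have h2 : ρ a⁻¹ v - v = -(ρ a (ρ a⁻¹ v) - ρ a⁻¹ v) := by
      rw [h3]
      abel
    rw [h2]
    exact Submodule.neg_mem _ (ha i _ h1)

theorem mem_flagSubgroup (ρ : Γ →* Module.End k V) (F : ℕ → Submodule k V) (hmono : Monotone F)
    (h0 : F 0 = ⊥) (hstep : ∀ g i, ∀ v ∈ F (i + 1), ρ g v - v ∈ F i) (j : ℕ) (g : Γ) :
    g ∈ flagSubgroup ρ F hmono h0 hstep j ↔ ∀ i, ∀ v ∈ F (i + j + 1), ρ g v - v ∈ F i :=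
  Iff.rfl

/-- A group acting faithfully and unipotently with respect to a finite flag is nilpotent. -/
theorem isNilpotent_of_flag (ρ : Γ →* Module.End k V) (hρ : Function.Injective ρ)
    (m : ℕ) (F : ℕ → Submodule k V) (hmono : Monotone F) (h0 : F 0 = ⊥) (hm : F m = ⊤)
    (hstep : ∀ g i, ∀ v ∈ F (i + 1), ρ g v - v ∈ F i) : Group.IsNilpotent Γ := by
  rw [nilpotent_iff_finite_descending_central_series]
  refine ⟨m, flagSubgroup ρ F hmono h0 hstep, ⟨?_, ?_⟩, ?_⟩
  · rw [eq_top_iff]
    intro g _
    rw [mem_flagSubgroup]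
    intro i v hv
    exact hstep g i v hv
  · intro x j hx g
    rw [mem_flagSubgroup] at hx ⊢
    intro i v hv
    rw [commutatorElement_def]
    set w := ρ x⁻¹ (ρ g⁻¹ v) with hw
    have hwF : w ∈ F (i + (j + 1) + 1) :=
      flag_stable ρ F hmono h0 hstep _ _ _ (flag_stable ρ F hmono h0 hstep _ _ _ hv)
    have hv' : v = ρ g (ρ x w) := by
      rw [hw, ← Module.End.mul_apply, ← Module.End.mul_apply, ← Module.End.mul_apply,
        ← map_mul, ← map_mul, ← map_mul]
      simp
    have h1 : ρ (x * g * x⁻¹ * g⁻¹) v = ρ x (ρ g w) := by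
      rw [hw, ← Module.End.mul_apply, ← Module.End.mul_apply, ← Module.End.mul_apply,
        ← map_mul, ← map_mul, ← map_mul]
    have h2 : ρ (x * g * x⁻¹ * g⁻¹) v - v =
        (ρ x (ρ g w - w) - (ρ g w - w)) - (ρ g (ρ x w - w) - (ρ x w - w)) := by
      rw [h1]
      conv_lhs => rw [hv']
      simp only [map_sub]
      abel
    rw [h2]
    apply Submodule.sub_mem
    · apply hx i
      have : i + (j + 1) + 1 = (i + j + 1) + 1 := by omega
      rw [this] at hwF
      exact hstep g _ w hwF
    · apply hstep g i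
      have : i + (j + 1) + 1 = (i + 1) + j + 1 := by omega
      rw [this] at hwF
      exact hx (i + 1) w hwF
  · rw [eq_bot_iff]
    intro g hg
    rw [mem_flagSubgroup] at hg
    rw [Subgroup.mem_bot]
    apply hρ
    rw [map_one]
    apply LinearMap.ext
    intro v
    have hv : v ∈ F (0 + m + 1) := by
      have : F m ≤ F (0 + m + 1) := hmono (by omega)
      rw [hm] at this
      exact this Submodule.mem_top
    have := hg 0 v hv
    rw [h0, Submodule.mem_bot, sub_eq_zero] at this
    rw [this, Module.End.one_apply]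

end FlagNilp

section Faithful

variable {k : Type u} [Field k] {A : Type v} [CommRing A] [HopfAlgebra k A]

/-- The action of the group of rational points on a comodule, as a monoid homomorphism. -/
noncomputable def actHom (V : Type w) [AddCommGroup V] [Module k V] [Comod k A V] :
    WithConv (A →ₐ[k] k) →* Module.End k V where
  toFun g := T g.ofConv.toLinearMap
  map_one' := T_convOne
  map_mul' g h := T_convMul g h

theorem actHom_apply (V : Type w) [AddCommGroup V] [Module k V] [Comod k A V]
    (g : WithConv (A →ₐ[k] k)) : actHom V g = T g.ofConv.toLinearMap := rfl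

theorem counit_T_regular (φ : A →ₗ[k] k) (a : A) :
    CoalgebraStruct.counit (R := k) (A := A) (T φ a) = φ a := by
  have key : ∀ x : A ⊗[k] A, CoalgebraStruct.counit (R := k) (A := A) (slice A φ x) =
      φ (TensorProduct.lid k A ((CoalgebraStruct.counit (R := k) (A := A)).rTensor A x)) := by
    intro x
    induction x using TensorProduct.induction_on with
    | zero => simp
    | add x y hx hy => simp only [map_add, hx, hy]
    | tmul a b => simp [mul_comm]
  rw [T_apply, key]
  change φ (TensorProduct.lid k A ((CoalgebraStruct.counit (R := k) (A := A)).rTensor A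
    (CoalgebraStruct.comul (R := k) a))) = φ a
  rw [Coalgebra.rTensor_counit_comul]
  simp

/-- A finitely generated Hopf algebra has a finite-dimensional subcomodule of its regular
comodule on which the rational points act faithfully. -/
theorem exists_faithful_subcomod [Algebra.FiniteType k A] :
    ∃ (U : Submodule k A) (hU : IsSubcomod (k := k) (A := A) U), U.FG ∧
      Function.Injective (letI := subComod U hU; actHom (k := k) (A := A) U) := by
  classical
  obtain ⟨F, hF⟩ := (Algebra.FiniteType.out : (⊤ : Subalgebra k A).FG)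
  obtain ⟨U, hUfg, hUsub, hle⟩ := exists_fg_subcomod_ge (k := k) (A := A) (V := A)
    (Submodule.span k (F : Set A)) (Submodule.fg_span F.finite_toSet)
  refine ⟨U, hUsub, hUfg, ?_⟩
  letI := subComod U hUsub
  have hj := isComodHom_subtype U hUsub
  have hval : ∀ (g : WithConv (A →ₐ[k] k)) (f : A) (hf : f ∈ U),
      g.ofConv f = CoalgebraStruct.counit (R := k) (A := A)
        ((actHom (k := k) (A := A) U g ⟨f, hf⟩ : U) : A) := by
    intro g f hf
    rw [actHom_apply]
    have h1 := map_T_of_isComodHom hj g.ofConv.toLinearMap ⟨f, hf⟩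
    change ((T g.ofConv.toLinearMap (⟨f, hf⟩ : U) : U) : A) = T g.ofConv.toLinearMap f at h1
    rw [h1, counit_T_regular]
    rfl
  intro g h hgh
  apply WithConv.ofConv_injective
  apply AlgHom.ext_of_adjoin_eq_top hF
  intro f hf
  have hfU : f ∈ U := hle (Submodule.subset_span hf)
  rw [hval g f hfU, hval h f hfU, hgh]

end Faithful

section Nilp

variable {k : Type u} [Field k] {A : Type v} [CommRing A] [HopfAlgebra k A]

theorem act_sub_mem_of_trivFlag
    (V : Type v) [AddCommGroup V] [Module k V] [Comod k A V]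
    {m : ℕ} {F : ℕ → Submodule k V} (hF : IsTrivFlag k A V m F) (φ : A →ₗ[k] k) (hφ : φ 1 = 1)
    (i : ℕ) (v : V) (hv : v ∈ F (i + 1)) : T φ v - v ∈ F i := by
  obtain ⟨hmono, h0, hm, hsub, hgr⟩ := hF
  have h1 : T φ v - v =
      slice V φ (Comod.coact (k := k) (A := A) v - v ⊗ₜ[k] (1 : A)) := by
    rw [map_sub, slice_tmul, hφ, one_smul]
    rfl
  rw [h1]
  exact (mem_range_rTensor_iff _ _).mp (hgr i v hv) _

theorem isNilpotent_points_of_isUnipotent [Algebra.FiniteType k A] (hU : IsUnipotent k A) :
    Group.IsNilpotent (WithConv (A →ₐ[k] k)) := by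
  obtain ⟨U, hUsub, hUfg, hinj⟩ := exists_faithful_subcomod (k := k) (A := A)
  letI := subComod U hUsub
  haveI : Module.Finite k U := Module.Finite.iff_fg.mpr hUfg
  obtain ⟨m, F, hF⟩ := exists_trivFlag hU U inferInstance
  refine isNilpotent_of_flag (actHom (k := k) (A := A) U) hinj m F hF.1 hF.2.1 hF.2.2.1 ?_
  intro g i v hv
  rw [actHom_apply]
  exact act_sub_mem_of_trivFlag U hF _ (by simp) i v hv

end Nilp

end Groth.Agent.Lib.Helper25
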