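import Groth.Agent.Lib.Helper25Kolchin
import Groth.Agent.Lib.Helper25Points
import Groth.Agent.Lib.Helper25PointsNilp
import Groth.Agent.Lib.Helper25Unip
import Groth.Agent.Lib.Helper25Coeff

/-!
# Unipotent groups and unipotent points

Over an algebraically closed field, a reduced affine algebraic group is unipotent iff all its
rational points act unipotently on all finite-dimensional representations (Kolchin).
-/

set_option autoImplicit false
universe u v w w'

namespace Groth.Agent.Lib.Helper25

open TensorProduct HopfRep WithConv


section Separate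

variable {k : Type u} [Field k] [IsAlgClosed k]
  {R : Type v} [CommRing R] [Algebra k R] [Algebra.FiniteType k R] [IsReduced R]

/-- The rational points of a reduced finitely generated algebra over an algebraically closed
field separate its elements. -/
theorem eq_zero_of_forall_point_eq_zero (a : R) (h : ∀ x : R →ₐ[k] k, x a = 0) : a = 0 := by
  by_contra ha
  haveI : IsJacobsonRing R := isJacobsonRing_of_finiteType (A := k)
  have hjac : (⊥ : Ideal R).jacobson = ⊥ :=
    IsJacobsonRing.out inferInstance Ideal.isRadical_bot
  have hnot : a ∉ (⊥ : Ideal R).jacobson := by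
    rw [hjac]
    exact ha
  rw [Ideal.jacobson, Ideal.mem_sInf] at hnot
  push Not at hnot
  obtain ⟨M, ⟨-, hM⟩, haM⟩ := hnot
  obtain ⟨x, hx⟩ := exists_point_vanishing_on (k := k) M hM.ne_top
  have hker : RingHom.ker (x : R →+* k) = M := by
    symm
    apply hM.eq_of_le
    · exact RingHom.ker_ne_top _
    · intro f hf
      exact hx f hf
  apply haM
  rw [← hker]
  exact h x

end Separate



section PointsUnip

variable {k : Type u} [Field k] [IsAlgClosed k] {A : Type u} [CommRing A] [HopfAlgebra k A]
  [Algebra.FiniteType k A] [IsReduced A]

/-- A vector fixed by all rational points of a reduced group over an algebraically closed field is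
a fixed vector of the comodule. -/
theorem mem_fixedPts_of_forall_point {V : Type w} [AddCommGroup V] [Module k V] [Comod k A V]
    (v : V) (hv : ∀ x : A →ₐ[k] k, T x.toLinearMap v = v) : v ∈ fixedPts k A V := by
  rw [mem_fixedPts_iff, ← sub_eq_zero]
  apply eq_zero_of_lslice_eq_zero
  intro l
  apply eq_zero_of_forall_point_eq_zero (k := k)
  intro x
  rw [← AlgHom.toLinearMap_apply, apply_lslice, map_sub, slice_tmul, AlgHom.toLinearMap_apply,
    map_one, one_smul, ← T_apply, hv x, sub_self, map_zero]

theorem isUnipotent_of_points_unipotent
    (H : ∀ (g : A →ₐ[k] k) (V : Type u) [AddCommGroup V] [Module k V] [Comod k A V],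
        Module.Finite k V → IsNilpotent (Comod.act k A V g - LinearMap.id)) :
    IsUnipotent k A := by
  intro V _ _ _ hfin hnt
  let ρ : Representation k (WithConv (A →ₐ[k] k)) V := actHom (k := k) (A := A) V
  have hρ : ∀ g, IsNilpotent (ρ g - 1) := fun g => H g.ofConv V hfin
  obtain ⟨v, hv0, hv⟩ := kolchin ρ hρ
  intro hbot
  have hfix : v ∈ fixedPts k A V := by
    apply mem_fixedPts_of_forall_point
    intro x
    exact hv (toConv x)
  rw [hbot, Submodule.mem_bot] at hfix
  exact hv0 hfix

theorem isUnipotent_iff_points_unipotent :
    IsUnipotent k A ↔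
      ∀ (g : A →ₐ[k] k) (V : Type u) [AddCommGroup V] [Module k V] [Comod k A V],
        Module.Finite k V → IsNilpotent (Comod.act k A V g - LinearMap.id) := by
  constructor
  · intro hU g V _ _ _ hfin
    obtain ⟨m, F, hF⟩ := exists_trivFlag hU V hfin
    exact isNilpotent_act_sub_one_of_trivFlag V hF g
  · exact isUnipotent_of_points_unipotent

end PointsUnip

end Groth.Agent.Lib.Helper25
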