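import Groth.Agent.Lib.Helper25FinOrder
import Groth.Agent.Lib.Helper25UnipPts
import Groth.Agent.Lib.Helper25Exact
import Mathlib.LinearAlgebra.Eigenspace.Pi
import Mathlib.LinearAlgebra.Eigenspace.Semisimple
import Mathlib.LinearAlgebra.Eigenspace.Triangularizable
import Mathlib.LinearAlgebra.Eigenspace.Minpoly
import Mathlib.FieldTheory.Separable

/-!
# Diagonalizable groups and semisimple points (helper25)

* `isSemisimple_of_span_eigen`: an endomorphism of a finite-dimensional space spanned by
  eigenvectors is semisimple.
* `isSemisimple_act_of_span_eigen`, `isSubcomod_of_forall_point_mem`,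
  `span_eigen_eq_top_of_forall_isSemisimple`.
-/

set_option autoImplicit false
universe u v w w'

namespace Groth.Agent.Lib.Helper25

open TensorProduct HopfRep


section SSEnd

variable {k : Type u} [Field k] {V : Type w} [AddCommGroup V] [Module k V]

/-- An endomorphism of a finite-dimensional space spanned by eigenvectors is semisimple. -/
theorem isSemisimple_of_span_eigen [FiniteDimensional k V] (f : Module.End k V)
    (h : Submodule.span k {v : V | ∃ μ : k, f v = μ • v} = ⊤) : f.IsSemisimple := by
  classical
  have hfin : Set.Finite {μ : k | f.HasEigenvalue μ} := Module.End.finite_hasEigenvalue f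
  set p : Polynomial k := ∏ μ ∈ hfin.toFinset, (Polynomial.X - Polynomial.C μ) with hp
  have hsq : Squarefree p :=
    (Polynomial.separable_prod_X_sub_C_iff'.mpr (fun x _ y _ hxy => hxy)).squarefree
  apply Module.End.isSemisimple_of_squarefree_aeval_eq_zero hsq
  have hker : (⊤ : Submodule k V) ≤ LinearMap.ker (Polynomial.aeval f p) := by
    rw [← h, Submodule.span_le]
    rintro v ⟨μ, hv⟩
    change Polynomial.aeval f p v = 0
    by_cases hv0 : v = 0
    · rw [hv0, map_zero]
    · have hev : f.HasEigenvector μ v := ⟨Module.End.mem_eigenspace_iff.mpr hv, hv0⟩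
      rw [Module.End.aeval_apply_of_hasEigenvector hev]
      have h0 : Polynomial.eval μ p = 0 := by
        rw [hp, Polynomial.eval_prod]
        apply Finset.prod_eq_zero (i := μ)
        · rw [Set.Finite.mem_toFinset]
          exact Module.End.hasEigenvalue_of_hasEigenvector hev
        · simp
      rw [h0, zero_smul]
  apply LinearMap.ext
  intro v
  exact hker (Submodule.mem_top (x := v))

end SSEnd



section Diag

variable {k : Type u} [Field k] {A : Type v} [CommRing A] [HopfAlgebra k A]
variable {V : Type w} [AddCommGroup V] [Module k V] [Comod k A V]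

theorem act_eq_T (g : A →ₐ[k] k) : Comod.act k A V g = T g.toLinearMap := rfl

/-- In a comodule spanned by eigenvectors every point acts semisimply. -/
theorem isSemisimple_act_of_span_eigen [Module.Finite k V]
    (hV : Submodule.span k {v : V | ∃ a : A, Comod.coact (k := k) (A := A) v = v ⊗ₜ[k] a} = ⊤)
    (g : A →ₐ[k] k) : Module.End.IsSemisimple (Comod.act k A V g) := by
  apply isSemisimple_of_span_eigen
  rw [eq_top_iff, ← hV]
  apply Submodule.span_mono
  rintro v ⟨a, hv⟩
  refine ⟨g a, ?_⟩
  rw [act_eq_T, T_apply, hv, slice_tmul]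
  rfl

/-- Over an algebraically closed field, with `A` reduced of finite type, a subspace stable under
all rational points is a subcomodule. -/
theorem isSubcomod_of_forall_point_mem [IsAlgClosed k] [Algebra.FiniteType k A] [IsReduced A]
    (W : Submodule k V) (h : ∀ g : A →ₐ[k] k, ∀ u ∈ W, T g.toLinearMap u ∈ W) :
    IsSubcomod (k := k) (A := A) W := by
  rw [isSubcomod_iff]
  intro φ u hu
  by_contra hnot
  obtain ⟨l, hl, hWl⟩ := Submodule.exists_le_ker_of_notMem hnot
  apply hl
  rw [T_apply, ← apply_lslice]
  have ha : lslice l (Comod.coact (k := k) (A := A) u) = 0 := by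
    apply eq_zero_of_forall_point_eq_zero (k := k)
    intro g
    have h1 := apply_lslice l g.toLinearMap (Comod.coact (k := k) (A := A) u)
    rw [← T_apply] at h1
    have h3 : l (T g.toLinearMap u) = 0 := hWl (h g u hu)
    rw [h3] at h1
    exact h1
  rw [ha, map_zero]

/-- If all rational points of a commutative reduced group act semisimply, the comodule is spanned
by eigenvectors. -/
theorem span_eigen_eq_top_of_forall_isSemisimple [IsAlgClosed k] [Algebra.FiniteType k A]
    [IsReduced A] [Coalgebra.IsCocomm k A] [Module.Finite k V]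
    (h : ∀ g : A →ₐ[k] k, Module.End.IsSemisimple (Comod.act k A V g)) :
    Submodule.span k {v : V | ∃ a : A, Comod.coact (k := k) (A := A) v = v ⊗ₜ[k] a} = ⊤ := by
  classical
  let f : (A →ₐ[k] k) → Module.End k V := fun g => Comod.act k A V g
  have hcomm : Pairwise fun g g' => Commute (f g) (f g') := by
    intro g g' _
    change f g * f g' = f g' * f g
    have h1 := T_convMul (V := V) (WithConv.toConv g) (WithConv.toConv g')
    have h2 := T_convMul (V := V) (WithConv.toConv g') (WithConv.toConv g)
    rw [mul_comm] at h2
    rw [h1] at h2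
    exact h2
  have h' : ∀ g, ⨆ μ, (f g).maxGenEigenspace μ = ⊤ :=
    fun g => Module.End.iSup_maxGenEigenspace_eq_top (f g)
  have key := Module.End.iSup_iInf_maxGenEigenspace_eq_top_of_iSup_maxGenEigenspace_eq_top_of_commute
    f hcomm h'
  rw [eq_top_iff, ← key]
  apply iSup_le
  intro χ v hv
  by_cases hv0 : v = 0
  · rw [hv0]; exact Submodule.zero_mem _
  have hev : ∀ g, T (V := V) g.toLinearMap v = χ g • v := by
    intro g
    have h1 := (Submodule.mem_iInf _).mp hv g
    rw [(h g).isFinitelySemisimple.maxGenEigenspace_eq_eigenspace] at h1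
    exact Module.End.mem_eigenspace_iff.mp h1
  have hsub : IsSubcomod (k := k) (A := A) (Submodule.span k {v}) := by
    apply isSubcomod_of_forall_point_mem
    intro g u hu
    obtain ⟨c, rfl⟩ := Submodule.mem_span_singleton.mp hu
    rw [map_smul, hev g]
    exact Submodule.smul_mem _ _ (Submodule.smul_mem _ _ (Submodule.mem_span_singleton_self v))
  have h1 : Module.finrank k (Submodule.span k {v}) = 1 := finrank_span_singleton hv0
  obtain ⟨v', hv'L, hv'0, χ', hχ', hρ⟩ := exists_groupLike_of_finrank_eq_one hsub h1
  obtain ⟨c, rfl⟩ := Submodule.mem_span_singleton.mp hv'L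
  have hc : c ≠ 0 := by
    rintro rfl
    exact hv'0 (zero_smul _ _)
  apply Submodule.subset_span
  refine ⟨χ', ?_⟩
  have h2 := congrArg (fun z => c⁻¹ • z) hρ
  simp only [map_smul, ← TensorProduct.smul_tmul', smul_smul, inv_mul_cancel₀ hc, one_smul] at h2
  exact h2

end Diag

end Groth.Agent.Lib.Helper25
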