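import Groth.Agent.Lib.Helper25ActPt
import Groth.Agent.Lib.Helper25Reynolds
import Groth.Agent.Lib.Helper25CartierHopf
import Groth.Agent.Lib.Helper25DensePts
import Groth.Agent.Lib.Helper25DiagSS

/-!
# Ideals of orbit closures and separation of closed invariant sets by invariants (helper25; characteristic-free copy with `[IsReduced A]`)
-/

set_option autoImplicit false
set_option linter.unusedSectionVars false
universe u
open TensorProduct HopfRep

namespace Groth.Agent.Lib.Helper25.CF.OrbCl

open Groth.Agent.Lib.Helper25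

section
variable {k : Type u} [Field k] [IsAlgClosed k]
  {A : Type u} [CommRing A] [HopfAlgebra k A] [Algebra.FiniteType k A] [IsReduced A]
  {R : Type u} [CommRing R] [Algebra k R] [HopfRep.Comod k A R] [GLin.IsCoactAlg k A R]

/-- `x (g · f) = g (orbit map of x at f)`. -/
theorem apply_act (x : R →ₐ[k] k) (g : A →ₐ[k] k) (f : R) :
    x (HopfRep.Comod.act k A R g f) = g (GLin.orbitHom k A x f) := by
  rw [act_eq_T, ← actPt_eq_T, actPt_apply]

/-- The ideal of the orbit closure is the kernel of the orbit map. -/
theorem forall_act_eq_zero_iff (x : R →ₐ[k] k) (f : R) :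
    (∀ g : A →ₐ[k] k, x (HopfRep.Comod.act k A R g f) = 0) ↔ GLin.orbitHom k A x f = 0 := by
  constructor
  · intro h
    by_contra hne
    have hnil : ¬ IsNilpotent (GLin.orbitHom k A x f) := fun hn => hne (hn.eq_zero)
    obtain ⟨g, hg⟩ := DensePts.exists_algHom_ne_zero_of_not_isNilpotent (k := k) _ hnil
    exact hg ((apply_act x g f).symm.trans (h g))
  · intro h g
    rw [apply_act, h, map_zero]

theorem isComodHom_orbitHom (x : R →ₐ[k] k) :
    Hoch.IsComodHom A (GLin.orbitHom k A x).toLinearMap := by
  have : (GLin.orbitHom k A x).toLinearMap = coeffMap (A := A) x.toLinearMap := by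
    apply LinearMap.ext
    intro f
    exact orbitHom_eq_coeffMap x f
  rw [this]
  exact isComodHom_coeffMap _

theorem isSubcomod_ker_orbitHom (x : R →ₐ[k] k) :
    IsSubcomod (k := k) (A := A) (LinearMap.ker (GLin.orbitHom k A x).toLinearMap) :=
  isSubcomod_ker (isComodHom_orbitHom x)

theorem apply_eq_counit_orbitHom (x : R →ₐ[k] k) (f : R) :
    x f = CoalgebraStruct.counit (R := k) (GLin.orbitHom k A x f) := by
  rw [orbitHom_eq_coeffMap, counit_coeffMap]
  rfl

/-- Orbit closures which cannot be separated by invariants meet (linearly reductive group). -/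
theorem exists_common_point (hG : IsLinearlyReductive k A) [Algebra.FiniteType k R]
    (x y : R →ₐ[k] k) (hxy : ∀ f ∈ HopfRep.fixedPts k A R, x f = y f) :
    ∃ z : R →ₐ[k] k, (∀ f, GLin.orbitHom k A x f = 0 → z f = 0) ∧
      (∀ f, GLin.orbitHom k A y f = 0 → z f = 0) := by
  set Q : Ideal R := RingHom.ker (GLin.orbitHom k A x) ⊔ RingHom.ker (GLin.orbitHom k A y) with hQ
  by_cases hQt : Q = ⊤
  · exfalso
    have h1 : (1 : R) ∈ Q := by rw [hQt]; exact Submodule.mem_top
    obtain ⟨a, ha, b, hb, hab⟩ := Submodule.mem_sup.mp h1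
    have hss : IsSemisimpleComod k A R := isSemisimpleComod_of_isLinearlyReductive hG R
    obtain ⟨E, hE, hEE, hEx⟩ := exists_reynolds hss
    have hEfix : ∀ r, E r ∈ fixedPts k A R := fun r => (hEx _).mp (LinearMap.congr_fun hEE r)
    have hEa : GLin.orbitHom k A x (E a) = 0 := by
      have := reynolds_mem_of_isSubcomod hss hE hEE hEx (isSubcomod_ker_orbitHom x)
        (u := a) (by rw [LinearMap.mem_ker]; exact ha)
      exact this
    have hEb : GLin.orbitHom k A y (E b) = 0 := by
      have := reynolds_mem_of_isSubcomod hss hE hEE hEx (isSubcomod_ker_orbitHom y)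
        (u := b) (by rw [LinearMap.mem_ker]; exact hb)
      exact this
    have hxa : x (E a) = 0 := by rw [apply_eq_counit_orbitHom (A := A), hEa, map_zero]
    have hyb : y (E b) = 0 := by rw [apply_eq_counit_orbitHom (A := A), hEb, map_zero]
    have hE1 : E 1 = 1 := (hEx 1).mpr (by
      change (1 : R) ∈ GLin.invariants k A R
      exact (GLin.invariants k A R).one_mem)
    have hsum : E a + E b = 1 := by rw [← map_add, hab, hE1]
    have hya : y (E a) = 1 := by
      have := congrArg y hsum
      rw [map_add, hyb, add_zero, map_one] at this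
      exact this
    have := hxy (E a) (hEfix a)
    rw [hxa, hya] at this
    exact zero_ne_one this
  · obtain ⟨z, hz⟩ := exists_point_vanishing_on (k := k) Q hQt
    refine ⟨z, fun f hf => hz f ?_, fun f hf => hz f ?_⟩
    · exact (le_sup_left : RingHom.ker (GLin.orbitHom k A x) ≤ Q) hf
    · exact (le_sup_right : RingHom.ker (GLin.orbitHom k A y) ≤ Q) hf

/-- An invariant takes the same value at `x` and at every point of the orbit closure of `x`. -/
theorem apply_eq_of_vanishing (x z : R →ₐ[k] k)
    (hz : ∀ f, GLin.orbitHom k A x f = 0 → z f = 0) {f : R} (hf : f ∈ HopfRep.fixedPts k A R) :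
    z f = x f := by
  have h1 : GLin.orbitHom k A x (f - algebraMap k R (x f)) = 0 := by
    rw [map_sub, AlgHom.commutes]
    have : GLin.orbitHom k A x f = algebraMap k A (x f) := by
      rw [orbitHom_eq_coeffMap, coeffMap_apply, (mem_fixedPts_iff f).mp hf]
      simp [lslice, Algebra.algebraMap_eq_smul_one]
    rw [this, sub_self]
  have h2 := hz _ h1
  rw [map_sub, AlgHom.commutes, sub_eq_zero] at h2
  rw [h2]
  rfl

end

end Groth.Agent.Lib.Helper25.CF.OrbCl
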