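import Groth.Agent.Lib.Helper25CFFinOrb
import Groth.Agent.Lib.Helper5FGDim

/-!
# Dimension of orbits and finite stabilizers (helper25; characteristic-free copy with `[IsReduced A]`)
-/

set_option autoImplicit false
set_option linter.unusedSectionVars false
universe u
open TensorProduct HopfRep Topology

namespace Groth.Agent.Lib.Helper25.CF.StabDim

open Groth.Agent.Lib.Helper25 Groth.Agent.Lib.Helper25.CF.OrbCl Groth.Agent.Lib.Helper25.CF.FinOrb

section General

variable {k : Type u} [Field k]

/-- For finite type algebras over a field, an injective algebra map does not lower the dimension. -/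
theorem ringKrullDim_le_of_injective {P S : Type u} [CommRing P] [CommRing S] [Algebra k P]
    [Algebra k S] [Algebra.FiniteType k P] [Algebra.FiniteType k S] (φ : P →ₐ[k] S)
    (hφ : Function.Injective φ) : ringKrullDim P ≤ ringKrullDim S := by
  rcases subsingleton_or_nontrivial P with hP | hP
  · rw [ringKrullDim_eq_bot_of_subsingleton]
    exact bot_le
  obtain ⟨d, g, hinj, hfin⟩ := exists_finite_inj_algHom_of_fg k P
  letI : Algebra (MvPolynomial (Fin d) k) P := g.toRingHom.toAlgebra
  haveI : Algebra.IsIntegral (MvPolynomial (Fin d) k) P := by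
    haveI : Module.Finite (MvPolynomial (Fin d) k) P := hfin
    infer_instance
  have h1 : ringKrullDim P = ringKrullDim (MvPolynomial (Fin d) k) :=
    Groth.Agent.Lib.Helper5.ringKrullDim_eq_of_isIntegral_of_injective _ _ hinj
  rw [h1, MvPolynomial.ringKrullDim_of_isNoetherianRing, ringKrullDim_eq_zero_of_field, zero_add]
  have h2 := Groth.Agent.Lib.Helper5.FGDim.natCast_le_ringKrullDim_of_injective k S d (φ.comp g)
    (hφ.comp hinj)
  simpa using h2

variable [IsAlgClosed k]

/-- Over an algebraically closed field, in a finite type algebra with finitely many rational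
points every prime ideal is maximal. -/
theorem isMaximal_of_finite_points {B : Type u} [CommRing B] [Algebra k B]
    [Algebra.FiniteType k B] [Finite (B →ₐ[k] k)] (p : Ideal B) [hp : p.IsPrime] :
    p.IsMaximal := by
  classical
  haveI : IsJacobsonRing B := isJacobsonRing_of_finiteType (A := k) (B := B)
  have hj : p.jacobson = p := IsJacobsonRing.out (R := B) inferInstance hp.isRadical
  let S : Set (Ideal B) := Set.range (fun g : B →ₐ[k] k => RingHom.ker g)
  have hSfin : S.Finite := Set.finite_range _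
  let T : Finset (Ideal B) := hSfin.toFinset.filter (fun m => p ≤ m)
  have hle : T.inf id ≤ p := by
    conv_rhs => rw [← hj]
    rw [Ideal.jacobson]
    refine le_sInf ?_
    rintro m ⟨hpm, hm⟩
    obtain ⟨g, hg⟩ := exists_point_vanishing_on (k := k) m hm.ne_top
    have hmg : m = RingHom.ker g := hm.eq_of_le (RingHom.ker_ne_top _) (fun f hf => hg f hf)
    have hmT : m ∈ T := by
      rw [Finset.mem_filter, Set.Finite.mem_toFinset]
      exact ⟨⟨g, hmg.symm⟩, hpm⟩
    exact Finset.inf_le (f := id) hmT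
  obtain ⟨m, hmT, hmp⟩ := (Ideal.IsPrime.inf_le' hp).mp hle
  rw [Finset.mem_filter, Set.Finite.mem_toFinset] at hmT
  obtain ⟨⟨g, rfl⟩, hpm⟩ := hmT
  have : p = RingHom.ker g := le_antisymm hpm hmp
  rw [this]
  exact RingHom.ker_isMaximal_of_surjective _ (fun c => ⟨algebraMap k B c, by simp⟩)

/-- Over an algebraically closed field, a finite type algebra with finitely many rational points
is finite-dimensional. -/
theorem finite_of_finite_points {B : Type u} [CommRing B] [Algebra k B]
    [Algebra.FiniteType k B] [Finite (B →ₐ[k] k)] : Module.Finite k B := by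
  rw [Module.finite_iff_krullDimLE_zero, Ring.krullDimLE_zero_iff]
  intro I hI
  exact isMaximal_of_finite_points (k := k) I

end General

section Grp

variable {k : Type u} [Field k] {A : Type u} [CommRing A] [HopfAlgebra k A]
  {R : Type u} [CommRing R] [Algebra k R] [HopfRep.Comod k A R] [GLin.IsCoactAlg k A R]

theorem actPt_mul (a b : WithConv (A →ₐ[k] k)) (x : R →ₐ[k] k) :
    GLin.actPt k (a * b).ofConv x = GLin.actPt k b.ofConv (GLin.actPt k a.ofConv x) :=
  (actPt_actPt a.ofConv b.ofConv x).symm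

theorem actPt_one (x : R →ₐ[k] k) :
    GLin.actPt k (1 : WithConv (A →ₐ[k] k)).ofConv x = x :=
  actPt_counit x

theorem actPt_inv_actPt' (a : WithConv (A →ₐ[k] k)) (x : R →ₐ[k] k) :
    GLin.actPt k (a⁻¹).ofConv (GLin.actPt k a.ofConv x) = x := by
  rw [← actPt_mul, mul_inv_cancel, actPt_one]

/-- If the stabilizer of `w` is finite, so is every fibre of the orbit map on points. -/
theorem finite_setOf_actPt_eq (w y : R →ₐ[k] k)
    (hfin : {g : A →ₐ[k] k | GLin.actPt k g w = w}.Finite) :
    {h : A →ₐ[k] k | GLin.actPt k h w = y}.Finite := by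
  rcases Set.eq_empty_or_nonempty {h : A →ₐ[k] k | GLin.actPt k h w = y} with he | ⟨g, hg⟩
  · rw [he]; exact Set.finite_empty
  · refine (hfin.image (fun s => (WithConv.toConv s * WithConv.toConv g).ofConv)).subset ?_
    intro h hh
    refine ⟨(WithConv.toConv h * (WithConv.toConv g)⁻¹).ofConv, ?_, ?_⟩
    · change GLin.actPt k (WithConv.toConv h * (WithConv.toConv g)⁻¹).ofConv w = w
      rw [actPt_mul]
      have h1 : GLin.actPt k (WithConv.toConv h).ofConv w = y := hh
      have h2 : GLin.actPt k (WithConv.toConv g).ofConv w = y := hg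
      rw [h1, ← h2, actPt_inv_actPt']
    · change (WithConv.toConv (WithConv.toConv h * (WithConv.toConv g)⁻¹).ofConv *
        WithConv.toConv g).ofConv = h
      rw [WithConv.toConv_ofConv, inv_mul_cancel_right]

end Grp

section Dim

variable {k : Type u} [Field k] [IsAlgClosed k]
  {A : Type u} [CommRing A] [HopfAlgebra k A] [Algebra.FiniteType k A] [IsReduced A]
  {R : Type u} [CommRing R] [Algebra k R] [Algebra.FiniteType k R]
  [HopfRep.Comod k A R] [GLin.IsCoactAlg k A R]

theorem eq_of_ker_le {k : Type u} [CommRing k] {B : Type u} [CommRing B] [Algebra k B]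
    (x y : B →ₐ[k] k) (h : RingHom.ker x ≤ RingHom.ker y) :
    x = y := by
  apply AlgHom.ext
  intro f
  have h1 : f - algebraMap k B (x f) ∈ RingHom.ker x := by
    rw [RingHom.mem_ker, map_sub, AlgHom.commutes]
    simp
  have h2 := h h1
  rw [RingHom.mem_ker, map_sub, AlgHom.commutes, sub_eq_zero] at h2
  rw [h2]
  rfl

/-- If `w` has finitely many stabilizing points, then `dim G ≤ dim` of the orbit closure of `w`. -/
theorem ringKrullDim_le_of_finite_stab (w : R →ₐ[k] k)
    (hfin : {g : A →ₐ[k] k | GLin.actPt k g w = w}.Finite) :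
    ringKrullDim A ≤ ringKrullDim (R ⧸ RingHom.ker (GLin.orbitHom k A w)) := by
  set I := RingHom.ker (GLin.orbitHom k A w) with hI
  let φ : R ⧸ I →ₐ[k] A := Ideal.Quotient.liftₐ I (GLin.orbitHom k A w) (fun a ha => ha)
  letI : Algebra (R ⧸ I) A := φ.toRingHom.toAlgebra
  haveI : IsNoetherianRing A := Algebra.FiniteType.isNoetherianRing k A
  haveI : IsNoetherianRing R := Algebra.FiniteType.isNoetherianRing k R
  rw [ringKrullDim_le_iff_isMaximal_height_le]
  intro M hM
  obtain ⟨g, hg⟩ := exists_point_vanishing_on (k := k) M hM.ne_top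
  have hMg : M = RingHom.ker g := hM.eq_of_le (RingHom.ker_ne_top _) (fun f hf => hg f hf)
  let p : Ideal (R ⧸ I) := M.comap (algebraMap (R ⧸ I) A)
  haveI hMp : M.IsPrime := hM.isPrime
  haveI : p.IsPrime := Ideal.comap_isPrime _ _
  haveI : M.LiesOver p := ⟨rfl⟩
  have h1 := Ideal.height_le_height_add_of_liesOver p M
  set J : Ideal A := p.map (algebraMap (R ⧸ I) A) with hJ
  have hJM : J ≤ M := Ideal.map_comap_le
  haveI : Finite ((A ⧸ J) →ₐ[k] k) := by
    have hfin' := finite_setOf_actPt_eq w (GLin.actPt k g w) hfin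
    haveI := hfin'.to_subtype
    refine Finite.of_injective (fun h' : (A ⧸ J) →ₐ[k] k =>
      (⟨h'.comp (Ideal.Quotient.mkₐ k J), ?_⟩ :
        {h : A →ₐ[k] k | GLin.actPt k h w = GLin.actPt k g w})) ?_
    · change GLin.actPt k (h'.comp (Ideal.Quotient.mkₐ k J)) w = GLin.actPt k g w
      refine (eq_of_ker_le _ _ ?_).symm
      intro f hf
      rw [RingHom.mem_ker] at hf ⊢
      have hfM : GLin.orbitHom k A w f ∈ M := by
        rw [hMg, RingHom.mem_ker]
        exact hf
      have hfp : (Ideal.Quotient.mk I f) ∈ p := by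
        change algebraMap (R ⧸ I) A (Ideal.Quotient.mk I f) ∈ M
        exact hfM
      have hfJ : GLin.orbitHom k A w f ∈ J := by
        have := Ideal.mem_map_of_mem (algebraMap (R ⧸ I) A) hfp
        exact this
      change h' (Ideal.Quotient.mk J (GLin.orbitHom k A w f)) = 0
      rw [Ideal.Quotient.eq_zero_iff_mem.mpr hfJ, map_zero]
    · intro h' h'' hh
      have := congrArg Subtype.val hh
      apply AlgHom.ext
      intro a
      obtain ⟨b, rfl⟩ := Ideal.Quotient.mk_surjective a
      exact AlgHom.congr_fun this b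
  haveI : Algebra.FiniteType k (A ⧸ J) :=
    Algebra.FiniteType.of_surjective (Ideal.Quotient.mkₐ k J) (Ideal.Quotient.mkₐ_surjective k J)
  haveI : Module.Finite k (A ⧸ J) := finite_of_finite_points
  haveI : Ring.KrullDimLE 0 (A ⧸ J) :=
    (Module.finite_iff_krullDimLE_zero k (A ⧸ J)).mp inferInstance
  have h2 : (M.map (Ideal.Quotient.mk J)).height = 0 := by
    haveI : (M.map (Ideal.Quotient.mk J)).IsPrime :=
      Ideal.map_isPrime_of_surjective Ideal.Quotient.mk_surjective (by rwa [Ideal.mk_ker])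
    rw [Ideal.height_eq_zero_iff]
    exact Ideal.mem_minimalPrimes_of_krullDimLE_zero _
  rw [h2, add_zero] at h1
  calc (M.height : WithBot ℕ∞) ≤ p.height := by exact_mod_cast h1
    _ ≤ ringKrullDim (R ⧸ I) := Ideal.height_le_ringKrullDim_of_isPrime

/-- The dimension of an orbit closure is at most the dimension of the group. -/
theorem ringKrullDim_quotient_ker_orbitHom_le (x : R →ₐ[k] k) :
    ringKrullDim (R ⧸ RingHom.ker (GLin.orbitHom k A x)) ≤ ringKrullDim A := by
  refine ringKrullDim_le_of_injective (k := k)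
    (Ideal.Quotient.liftₐ _ (GLin.orbitHom k A x) (fun a ha => ha)) ?_
  rw [injective_iff_map_eq_zero]
  intro a ha
  obtain ⟨r, rfl⟩ := Ideal.Quotient.mk_surjective a
  rw [Ideal.Quotient.eq_zero_iff_mem, RingHom.mem_ker]
  exact ha

/-- A point with finite stabilizer lying in the closure of an orbit lies in that orbit. -/
theorem exists_actPt_eq_of_finite_stab (x w : R →ₐ[k] k)
    (hxw : RingHom.ker (GLin.orbitHom k A x) ≤ RingHom.ker (GLin.orbitHom k A w))
    (hfin : {g : A →ₐ[k] k | GLin.actPt k g w = w}.Finite) :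
    ∃ g : A →ₐ[k] k, w = GLin.actPt k g x := by
  have hne := one_notMem_ker_orbitHom (A := A) x
  haveI : Nontrivial (R ⧸ RingHom.ker (GLin.orbitHom k A x)) :=
    Ideal.Quotient.nontrivial_iff.mpr hne
  obtain ⟨d, hd⟩ := exists_nat_ringKrullDim_of_finiteType k
    (R ⧸ RingHom.ker (GLin.orbitHom k A x))
  have hJ : (d : WithBot ℕ∞) ≤ ringKrullDim (R ⧸ RingHom.ker (GLin.orbitHom k A w)) := by
    rw [← hd]
    exact (ringKrullDim_quotient_ker_orbitHom_le x).trans (ringKrullDim_le_of_finite_stab w hfin)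
  obtain ⟨P, hPmin, hwP⟩ := exists_minimalPrimes_ge_of_ringKrullDim_le hxw d hd hJ
  have hPprime : P.IsPrime := hPmin.1.1
  have hPminw : P ∈ (RingHom.ker (GLin.orbitHom k A w)).minimalPrimes := by
    refine ⟨⟨hPprime, hwP⟩, ?_⟩
    rintro Q ⟨hQ, hwQ⟩ hQP
    exact hPmin.2 ⟨hQ, hxw.trans hwQ⟩ hQP
  have hP' : P ∈ ((⊥ : Ideal A).comap (GLin.orbitHom k A x).toRingHom).minimalPrimes := hPmin
  have hP'' : P ∈ ((⊥ : Ideal A).comap (GLin.orbitHom k A w).toRingHom).minimalPrimes := hPminw
  obtain ⟨px, hpx, -, hpxP⟩ := Ideal.exists_comap_eq_of_mem_minimalPrimes _ P hP'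
  obtain ⟨pw, hpw, -, hpwP⟩ := Ideal.exists_comap_eq_of_mem_minimalPrimes _ P hP''
  let C : Set (PrimeSpectrum R) :=
    Set.range (PrimeSpectrum.comap (GLin.orbitHom k A x).toRingHom) ∩
      Set.range (PrimeSpectrum.comap (GLin.orbitHom k A w).toRingHom)
  have hCc : IsConstructible C :=
    (PrimeSpectrum.isConstructible_range_comap (finitePresentation_orbitHom x)).inter
      (PrimeSpectrum.isConstructible_range_comap (finitePresentation_orbitHom w))
  have hCne : C.Nonempty := ⟨⟨P, hPprime⟩,
    ⟨⟨px, hpx⟩, PrimeSpectrum.ext hpxP⟩, ⟨⟨pw, hpw⟩, PrimeSpectrum.ext hpwP⟩⟩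
  haveI : IsJacobsonRing R := isJacobsonRing_of_finiteType (A := k) (B := R)
  obtain ⟨u, ⟨hux, huw⟩, hucl⟩ := exists_isClosed_singleton_of_isConstructible hCc hCne
  have humax : u.asIdeal.IsMaximal := (PrimeSpectrum.isClosed_singleton_iff_isMaximal u).mp hucl
  obtain ⟨xu, hxu⟩ := exists_point_vanishing_on (k := k) u.asIdeal humax.ne_top
  have hu : u.asIdeal = RingHom.ker xu :=
    humax.eq_of_le (RingHom.ker_ne_top _) (fun f hf => hxu f hf)
  obtain ⟨gx, hgx⟩ := exists_actPt_eq_of_mem_range x xu u hu hux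
  obtain ⟨gw, hgw⟩ := exists_actPt_eq_of_mem_range w xu u hu huw
  refine ⟨convPt gx (gw.comp (HopfAlgebra.antipodeAlgHom k A)), ?_⟩
  rw [← actPt_actPt, hgx, ← hgw, actPt_inv_actPt]

end Dim

end Groth.Agent.Lib.Helper25.CF.StabDim
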