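import Groth.Agent.Lib.Helper25CFStablePts
import Groth.Agent.Lib.Helper25KrullGrp

/-!
# The locus of points with finite stabilizer is open (helper25; characteristic-free copy with `[IsReduced A]`)

The stabilizer group scheme `(R ⊗ A)/(ρ f - f ⊗ 1)` over `Spec R`, its unit section, its fibres,
and openness of the quasi-finite locus.
-/

set_option autoImplicit false
set_option linter.unusedSectionVars false
universe u
open TensorProduct HopfRep Topology

namespace Groth.Agent.Lib.Helper25.CF.StabOpen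

open Groth.Agent.Lib.Helper25 Groth.Agent.Lib.Helper25.CF.OrbCl Groth.Agent.Lib.Helper25.CF.FinOrb
  Groth.Agent.Lib.Helper25.CF.StabDim Groth.Agent.Lib.Helper25.CF.StablePts

section Top

/-- openness of a singleton in a subspace which is the range of an embedding -/
theorem isOpen_singleton_subtype_iff {X Y : Type*} [TopologicalSpace X] [TopologicalSpace Y]
    {ι : Y → X} (hι : Topology.IsEmbedding ι) (Φ : Set X) (hΦ : Φ = Set.range ι) (y : Y)
    (hy : ι y ∈ Φ) :
    IsOpen ({⟨ι y, hy⟩} : Set Φ) ↔ IsOpen ({y} : Set Y) := by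
  subst hΦ
  constructor
  · intro h
    obtain ⟨U, hU, hUe⟩ := isOpen_induced_iff.mp h
    rw [hι.isOpen_iff]
    refine ⟨U, hU, ?_⟩
    ext y'
    constructor
    · intro hy'
      have h1 : (⟨ι y', ⟨y', rfl⟩⟩ : Set.range ι) ∈ Subtype.val ⁻¹' U := hy'
      rw [hUe] at h1
      have h2 : ι y' = ι y := congrArg Subtype.val h1
      exact hι.injective h2
    · intro hy'
      rw [Set.mem_singleton_iff] at hy'
      subst hy'
      have h1 : (⟨ι y', hy⟩ : Set.range ι) ∈ Subtype.val ⁻¹' U := by
        rw [hUe]; rfl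
      exact h1
  · intro h
    obtain ⟨U, hU, hUe⟩ := hι.isOpen_iff.mp h
    rw [isOpen_induced_iff]
    refine ⟨U, hU, ?_⟩
    ext ⟨p, y', rfl⟩
    constructor
    · intro hp
      have h1 : y' ∈ ι ⁻¹' U := hp
      rw [hUe, Set.mem_singleton_iff] at h1
      subst h1
      rfl
    · intro hp
      have h1 : ι y' = ι y := congrArg Subtype.val hp
      have h2 : y' = y := hι.injective h1
      subst h2
      have h3 : y' ∈ ι ⁻¹' U := by rw [hUe]; rfl
      exact h3

end Top

section QF

variable {R S : Type u} [CommRing R] [CommRing S] [Algebra R S] [Algebra.FiniteType R S]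

/-- The quasi-finite locus of a finite type algebra is open. -/
theorem isOpen_setOf_quasiFiniteAt :
    IsOpen {q : PrimeSpectrum S | Algebra.QuasiFiniteAt R q.asIdeal} := by
  rw [isOpen_iff_forall_mem_open]
  intro q hq
  haveI : Algebra.QuasiFiniteAt R q.asIdeal := hq
  obtain ⟨r, hr, hint, hx⟩ := Algebra.zariskisMainProperty_iff.mp
    (Algebra.ZariskisMainProperty.of_finiteType (R := R) q.asIdeal)
  refine ⟨PrimeSpectrum.basicOpen r, ?_, (PrimeSpectrum.basicOpen r).isOpen, hr⟩
  intro q' hq'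
  exact Algebra.ZariskisMainProperty.quasiFiniteAt _
    (Algebra.zariskisMainProperty_iff.mpr ⟨r, hq', hint, hx⟩)

end QF

section Family

variable (k : Type u) [Field k] (A : Type u) [CommRing A] [HopfAlgebra k A]
  (R : Type u) [CommRing R] [Algebra k R] [HopfRep.Comod k A R] [GLin.IsCoactAlg k A R]

/-- The ideal of the stabilizer group scheme in `R ⊗ A`. -/
def famIdeal : Ideal (R ⊗[k] A) :=
  Ideal.span (Set.range fun f : R => Comod.coact (k := k) (A := A) f - f ⊗ₜ[k] (1 : A))

/-- The coordinate ring of the stabilizer group scheme over `Spec R`. -/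
abbrev Fam : Type u := (R ⊗[k] A) ⧸ famIdeal k A R

instance [Algebra.FiniteType k A] : Algebra.FiniteType R (Fam k A R) :=
  Algebra.FiniteType.of_surjective (Ideal.Quotient.mkₐ R (famIdeal k A R))
    (Ideal.Quotient.mkₐ_surjective R _)

/-- The unit section on `R ⊗ A`. -/
noncomputable def unitSec₀ : R ⊗[k] A →ₐ[R] R :=
  Algebra.TensorProduct.lift (AlgHom.id R R)
    ((Algebra.ofId k R).comp (Bialgebra.counitAlgHom k A)) (fun _ _ => Commute.all _ _)

theorem unitSec₀_eq (t : R ⊗[k] A) :
    unitSec₀ k A R t = TensorProduct.rid k R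
      (LinearMap.lTensor R (CoalgebraStruct.counit (R := k) (A := A)) t) := by
  induction t using TensorProduct.induction_on with
  | zero => simp
  | add x y hx hy => simp only [map_add, hx, hy]
  | tmul r a =>
    simp [unitSec₀, Algebra.ofId_apply, Algebra.algebraMap_eq_smul_one, mul_comm]

theorem unitSec₀_coact (f : R) : unitSec₀ k A R (Comod.coact (k := k) (A := A) f) = f := by
  rw [unitSec₀_eq]
  have h := LinearMap.congr_fun (Comod.counit_comp (k := k) (A := A) (V := R)) f
  simp only [LinearMap.comp_apply] at h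
  rw [h]
  simp

/-- The unit section of the stabilizer group scheme. -/
noncomputable def unitSec : Fam k A R →ₐ[R] R :=
  Ideal.Quotient.liftₐ (famIdeal k A R) (unitSec₀ k A R) (by
    intro t ht
    refine Submodule.span_induction (p := fun t _ => unitSec₀ k A R t = 0) ?_ ?_ ?_ ?_ ht
    · rintro _ ⟨f, rfl⟩
      rw [map_sub, unitSec₀_coact]
      simp [unitSec₀]
    · simp
    · intro x y _ _ hx hy
      rw [map_add, hx, hy, add_zero]
    · intro a x _ hx
      rw [smul_eq_mul, map_mul, hx, mul_zero])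

variable {k A R}

/-- The fibre map on `R ⊗ A` at a point `z`. -/
noncomputable def fibMap₀ (z : R →ₐ[k] k) : R ⊗[k] A →ₐ[k] A :=
  (Algebra.TensorProduct.lid k A).toAlgHom.comp (Algebra.TensorProduct.map z (AlgHom.id k A))

theorem fibMap₀_tmul (z : R →ₐ[k] k) (r : R) (a : A) : fibMap₀ z (r ⊗ₜ[k] a) = z r • a := by
  simp [fibMap₀]

theorem fibMap₀_coact (z : R →ₐ[k] k) (f : R) :
    fibMap₀ z (Comod.coact (k := k) (A := A) f) = GLin.orbitHom k A z f := rfl

theorem fibMap₀_surjective (z : R →ₐ[k] k) : Function.Surjective (fibMap₀ (A := A) z) := by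
  intro a
  exact ⟨1 ⊗ₜ[k] a, by rw [fibMap₀_tmul, map_one, one_smul]⟩

theorem sub_mem_stabIdeal (z : R →ₐ[k] k) (f : R) :
    GLin.orbitHom k A z f - algebraMap k A (z f) ∈ GLin.stabIdeal k A z := by
  have h1 : f - algebraMap k R (z f) ∈ RingHom.ker z := by
    rw [RingHom.mem_ker, map_sub, AlgHom.commutes]
    simp
  have h2 := Ideal.mem_map_of_mem (GLin.orbitHom k A z) h1
  rw [map_sub, AlgHom.commutes] at h2
  exact h2

theorem fibMap₀_gen (z : R →ₐ[k] k) (f : R) :
    fibMap₀ z (Comod.coact (k := k) (A := A) f - f ⊗ₜ[k] (1 : A)) =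
      GLin.orbitHom k A z f - algebraMap k A (z f) := by
  rw [map_sub, fibMap₀_coact, fibMap₀_tmul, Algebra.algebraMap_eq_smul_one]

theorem map_fibMap₀_famIdeal (z : R →ₐ[k] k) :
    Ideal.map (fibMap₀ z) (famIdeal k A R) = GLin.stabIdeal k A z := by
  apply le_antisymm
  · rw [Ideal.map_le_iff_le_comap]
    unfold famIdeal
    rw [Ideal.span_le]
    rintro _ ⟨f, rfl⟩
    change fibMap₀ z _ ∈ GLin.stabIdeal k A z
    rw [fibMap₀_gen]
    exact sub_mem_stabIdeal z f
  · unfold GLin.stabIdeal
    rw [Ideal.map_le_iff_le_comap]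
    intro f hf
    rw [RingHom.mem_ker] at hf
    rw [Ideal.mem_comap]
    have h1 : GLin.orbitHom k A z f =
        fibMap₀ z (Comod.coact (k := k) (A := A) f - f ⊗ₜ[k] (1 : A)) := by
      rw [fibMap₀_gen, hf, map_zero, sub_zero]
    rw [h1]
    exact Ideal.mem_map_of_mem _ (Ideal.subset_span ⟨f, rfl⟩)

theorem ker_fibMap₀ (z : R →ₐ[k] k) :
    RingHom.ker (fibMap₀ (A := A) z) =
      (RingHom.ker z).map (Algebra.TensorProduct.includeLeft : R →ₐ[k] R ⊗[k] A) := by
  have hz : Function.Surjective z := fun c => ⟨algebraMap k R c, by simp⟩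
  rw [← Algebra.TensorProduct.rTensor_ker (C := A) z hz]
  ext t
  rw [RingHom.mem_ker, RingHom.mem_ker]
  unfold fibMap₀
  rw [AlgHom.comp_apply]
  constructor
  · intro h
    exact (Algebra.TensorProduct.lid k A).injective (by rw [map_zero]; exact h)
  · intro h
    rw [h]
    simp

/-- The fibre map: the stabilizer group scheme restricted to the point `z` is the stabilizer of
`z`. -/
noncomputable def fibMap (z : R →ₐ[k] k) : Fam k A R →ₐ[k] A ⧸ GLin.stabIdeal k A z :=
  Ideal.Quotient.liftₐ (famIdeal k A R)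
    ((Ideal.Quotient.mkₐ k (GLin.stabIdeal k A z)).comp (fibMap₀ z)) (by
    intro t ht
    rw [AlgHom.comp_apply, Ideal.Quotient.mkₐ_eq_mk, Ideal.Quotient.eq_zero_iff_mem,
      ← map_fibMap₀_famIdeal]
    exact Ideal.mem_map_of_mem _ ht)

theorem fibMap_mk (z : R →ₐ[k] k) (t : R ⊗[k] A) :
    fibMap z (Ideal.Quotient.mk (famIdeal k A R) t) =
      Ideal.Quotient.mk (GLin.stabIdeal k A z) (fibMap₀ z t) := rfl

theorem fibMap_surjective (z : R →ₐ[k] k) : Function.Surjective (fibMap (A := A) z) := by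
  intro a
  obtain ⟨b, rfl⟩ := Ideal.Quotient.mk_surjective a
  obtain ⟨t, rfl⟩ := fibMap₀_surjective z b
  exact ⟨Ideal.Quotient.mk _ t, rfl⟩

theorem fibMap_algebraMap (z : R →ₐ[k] k) (r : R) :
    fibMap (A := A) z (algebraMap R (Fam k A R) r) =
      algebraMap k (A ⧸ GLin.stabIdeal k A z) (z r) := by
  change fibMap z (Ideal.Quotient.mk _ (r ⊗ₜ[k] (1 : A))) = _
  rw [fibMap_mk, fibMap₀_tmul, Algebra.smul_def, mul_one]
  rfl

theorem ker_fibMap (z : R →ₐ[k] k) :
    RingHom.ker (fibMap (A := A) z) = (RingHom.ker z).map (algebraMap R (Fam k A R)) := by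
  apply le_antisymm
  · intro s hs
    obtain ⟨t, rfl⟩ := Ideal.Quotient.mk_surjective s
    rw [RingHom.mem_ker, fibMap_mk, Ideal.Quotient.eq_zero_iff_mem, ← map_fibMap₀_famIdeal,
      Ideal.mem_map_iff_of_surjective _ (fibMap₀_surjective z)] at hs
    obtain ⟨j, hj, hjt⟩ := hs
    have h1 : t - j ∈ RingHom.ker (fibMap₀ (A := A) z) := by
      rw [RingHom.mem_ker, map_sub, hjt, sub_self]
    rw [ker_fibMap₀] at h1
    have h2 : Ideal.Quotient.mk (famIdeal k A R) t = Ideal.Quotient.mk (famIdeal k A R) (t - j) := by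
      rw [map_sub, Ideal.Quotient.eq_zero_iff_mem.mpr hj, sub_zero]
    rw [h2]
    have h3 : (RingHom.ker z).map (Algebra.TensorProduct.includeLeft : R →ₐ[k] R ⊗[k] A) ≤
        ((RingHom.ker z).map (algebraMap R (Fam k A R))).comap
          (Ideal.Quotient.mk (famIdeal k A R)) := by
      rw [Ideal.map_le_iff_le_comap]
      intro r hr
      exact Ideal.mem_map_of_mem (algebraMap R (Fam k A R)) hr
    exact h3 h1
  · rw [Ideal.map_le_iff_le_comap]
    intro r hr
    rw [RingHom.mem_ker] at hr
    change fibMap z (algebraMap R (Fam k A R) r) = 0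
    rw [fibMap_algebraMap, hr, map_zero]

end Family

section Fibre

variable {k : Type u} [Field k] [IsAlgClosed k]
  {A : Type u} [CommRing A] [HopfAlgebra k A] [Algebra.FiniteType k A] [IsReduced A]
  {R : Type u} [CommRing R] [Algebra k R] [Algebra.FiniteType k R]
  [HopfRep.Comod k A R] [GLin.IsCoactAlg k A R]

/-- The closed point of a rational point. -/
def ptPrime (z : R →ₐ[k] k) : PrimeSpectrum R := ⟨RingHom.ker z, RingHom.ker_isPrime _⟩

theorem isMaximal_ker (z : R →ₐ[k] k) : (RingHom.ker z).IsMaximal :=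
  RingHom.ker_isMaximal_of_surjective _ (fun c => ⟨algebraMap k R c, by simp⟩)

/-- The set-theoretic fibre of the stabilizer group scheme over `z` is the spectrum of the
coordinate ring of the stabilizer of `z`. -/
theorem fibre_eq_range (z : R →ₐ[k] k) :
    PrimeSpectrum.comap (algebraMap R (Fam k A R)) ⁻¹' {ptPrime z} =
      Set.range (PrimeSpectrum.comap (fibMap (A := A) z).toRingHom) := by
  rw [range_comap_of_surjective _ _ (fibMap_surjective z)]
  ext Q
  rw [Set.mem_preimage, Set.mem_singleton_iff, PrimeSpectrum.mem_zeroLocus]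
  constructor
  · intro hQ
    change (RingHom.ker (fibMap (A := A) z) : Set (Fam k A R)) ⊆ Q.asIdeal
    rw [ker_fibMap, SetLike.coe_subset_coe, Ideal.map_le_iff_le_comap]
    have := congrArg PrimeSpectrum.asIdeal hQ
    rw [PrimeSpectrum.comap_asIdeal] at this
    rw [this]
    rfl
  · intro hQ
    have hQ' : RingHom.ker (fibMap (A := A) z) ≤ Q.asIdeal := hQ
    rw [ker_fibMap, Ideal.map_le_iff_le_comap] at hQ'
    apply PrimeSpectrum.ext
    rw [PrimeSpectrum.comap_asIdeal]
    exact ((isMaximal_ker z).eq_of_le (Ideal.comap_ne_top _ Q.isPrime.ne_top) hQ').symm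

/-- The counit of the stabilizer. -/
noncomputable def stabCounit (z : R →ₐ[k] k) : A ⧸ GLin.stabIdeal k A z →ₐ[k] k :=
  Ideal.Quotient.liftₐ (GLin.stabIdeal k A z) (Bialgebra.counitAlgHom k A) (by
    intro a ha
    have hle : GLin.stabIdeal k A z ≤ RingHom.ker (Bialgebra.counitAlgHom k A) := by
      unfold GLin.stabIdeal
      rw [Ideal.map_le_iff_le_comap]
      intro f hf
      rw [RingHom.mem_ker] at hf
      rw [Ideal.mem_comap, RingHom.mem_ker]
      change CoalgebraStruct.counit (R := k) (GLin.orbitHom k A z f) = 0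
      rw [counit_orbitHom]
      exact hf
    exact hle ha)

/-- The unit point of the stabilizer of `z`. -/
noncomputable def stabUnit (z : R →ₐ[k] k) : PrimeSpectrum (A ⧸ GLin.stabIdeal k A z) :=
  ⟨RingHom.ker (stabCounit (A := A) z), RingHom.ker_isPrime _⟩

/-- The unit point of the stabilizer group scheme over `z`. -/
noncomputable def unitPt (z : R →ₐ[k] k) : PrimeSpectrum (Fam k A R) :=
  PrimeSpectrum.comap (unitSec k A R).toRingHom (ptPrime z)

theorem stabCounit_fibMap (z : R →ₐ[k] k) (s : Fam k A R) :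
    stabCounit z (fibMap (A := A) z s) = z (unitSec k A R s) := by
  obtain ⟨t, rfl⟩ := Ideal.Quotient.mk_surjective s
  rw [fibMap_mk]
  change Bialgebra.counitAlgHom k A (fibMap₀ z t) = z (unitSec₀ k A R t)
  induction t using TensorProduct.induction_on with
  | zero => simp
  | add x y hx hy => simp only [map_add, hx, hy]
  | tmul r a =>
    rw [fibMap₀_tmul]
    simp [unitSec₀, Algebra.ofId_apply]

theorem comap_fibMap_stabUnit (z : R →ₐ[k] k) :
    PrimeSpectrum.comap (fibMap (A := A) z).toRingHom (stabUnit z) = unitPt z := by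
  apply PrimeSpectrum.ext
  ext s
  change stabCounit z (fibMap (A := A) z s) = 0 ↔ z (unitSec k A R s) = 0
  rw [stabCounit_fibMap]

theorem comap_algebraMap_unitPt (z : R →ₐ[k] k) :
    PrimeSpectrum.comap (algebraMap R (Fam k A R)) (unitPt (A := A) z) = ptPrime z := by
  apply PrimeSpectrum.ext
  ext r
  change z (unitSec k A R (algebraMap R (Fam k A R) r)) = 0 ↔ z r = 0
  rw [AlgHom.commutes]
  rfl

/-- The unit point is isolated in its fibre iff the unit of the stabilizer is an isolated point. -/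
theorem quasiFiniteAt_unitPt_iff (z : R →ₐ[k] k) :
    Algebra.QuasiFiniteAt R (unitPt (A := A) z).asIdeal ↔
      IsOpen ({stabUnit (A := A) z} : Set (PrimeSpectrum (A ⧸ GLin.stabIdeal k A z))) := by
  rw [Algebra.quasiFiniteAt_iff_isOpen_singleton_fiber]
  have hemb := PrimeSpectrum.isEmbedding_comap_of_surjective (A ⧸ GLin.stabIdeal k A z)
    (fibMap (A := A) z).toRingHom (fibMap_surjective z)
  have hΦ : PrimeSpectrum.comap (algebraMap R (Fam k A R)) ⁻¹'
      {PrimeSpectrum.comap (algebraMap R (Fam k A R)) (unitPt (A := A) z)} =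
      Set.range (PrimeSpectrum.comap (fibMap (A := A) z).toRingHom) := by
    rw [comap_algebraMap_unitPt, fibre_eq_range]
  have key := isOpen_singleton_subtype_iff hemb _ hΦ (stabUnit z) (by
    rw [comap_fibMap_stabUnit]; rfl)
  rw [← key]
  have : (⟨PrimeSpectrum.comap (fibMap (A := A) z).toRingHom (stabUnit z), by
      rw [comap_fibMap_stabUnit]; rfl⟩ :
      ↑(PrimeSpectrum.comap (algebraMap R (Fam k A R)) ⁻¹'
      {PrimeSpectrum.comap (algebraMap R (Fam k A R)) (unitPt (A := A) z)})) =
      ⟨unitPt z, rfl⟩ := Subtype.ext (comap_fibMap_stabUnit z)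
  rw [this]

/-- A rational point of the stabilizer algebra gives a stabilizing point of the group. -/
theorem actPt_comp_mk (z : R →ₐ[k] k) (h : A ⧸ GLin.stabIdeal k A z →ₐ[k] k) :
    GLin.actPt k (h.comp (Ideal.Quotient.mkₐ k (GLin.stabIdeal k A z))) z = z := by
  apply AlgHom.ext
  intro f
  rw [actPt_apply]
  change h (Ideal.Quotient.mk _ (GLin.orbitHom k A z f)) = z f
  have h1 := sub_mem_stabIdeal (A := A) z f
  rw [← Ideal.Quotient.eq_zero_iff_mem, map_sub, sub_eq_zero] at h1
  rw [h1]
  change h (algebraMap k _ (z f)) = z f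
  rw [AlgHom.commutes]
  rfl

/-- A stabilizing point of the group kills the stabilizer ideal. -/
theorem apply_eq_zero_of_mem_stabIdeal (z : R →ₐ[k] k) (h : A →ₐ[k] k)
    (hh : GLin.actPt k h z = z) : GLin.stabIdeal k A z ≤ RingHom.ker h := by
  unfold GLin.stabIdeal
  rw [Ideal.map_le_iff_le_comap]
  intro f hf
  rw [RingHom.mem_ker] at hf
  rw [Ideal.mem_comap, RingHom.mem_ker]
  change GLin.actPt k h z f = 0
  rw [hh]
  exact hf

theorem finite_points_iff (z : R →ₐ[k] k) :
    Finite (A ⧸ GLin.stabIdeal k A z →ₐ[k] k) ↔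
      {h : A →ₐ[k] k | GLin.actPt k h z = z}.Finite := by
  constructor
  · intro hfin
    refine (Set.finite_range (fun h : A ⧸ GLin.stabIdeal k A z →ₐ[k] k =>
      h.comp (Ideal.Quotient.mkₐ k (GLin.stabIdeal k A z)))).subset ?_
    intro h hh
    refine ⟨Ideal.Quotient.liftₐ _ h (fun a ha => apply_eq_zero_of_mem_stabIdeal z h hh ha), ?_⟩
    apply AlgHom.ext
    intro a
    rfl
  · intro hfin
    haveI := hfin.to_subtype
    refine Finite.of_injective (fun h : A ⧸ GLin.stabIdeal k A z →ₐ[k] k =>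
      (⟨h.comp (Ideal.Quotient.mkₐ k (GLin.stabIdeal k A z)), actPt_comp_mk z h⟩ :
        {h : A →ₐ[k] k | GLin.actPt k h z = z})) ?_
    intro h h' hh
    have := congrArg Subtype.val hh
    apply AlgHom.ext
    intro a
    obtain ⟨b, rfl⟩ := Ideal.Quotient.mk_surjective a
    exact AlgHom.congr_fun this b

instance (z : R →ₐ[k] k) : Algebra.FiniteType k (A ⧸ GLin.stabIdeal k A z) :=
  Algebra.FiniteType.of_surjective (Ideal.Quotient.mkₐ k _) (Ideal.Quotient.mkₐ_surjective k _)

/-- If the stabilizer is finite, its unit is an isolated point. -/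
theorem isOpen_stabUnit_of_finite (z : R →ₐ[k] k)
    (hfin : {h : A →ₐ[k] k | GLin.actPt k h z = z}.Finite) :
    IsOpen ({stabUnit (A := A) z} : Set (PrimeSpectrum (A ⧸ GLin.stabIdeal k A z))) := by
  haveI : Finite (A ⧸ GLin.stabIdeal k A z →ₐ[k] k) := (finite_points_iff z).mpr hfin
  haveI : Module.Finite k (A ⧸ GLin.stabIdeal k A z) := finite_of_finite_points
  haveI : IsArtinianRing (A ⧸ GLin.stabIdeal k A z) :=
    (Module.finite_iff_isArtinianRing k _).mp inferInstance
  exact isOpen_discrete _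

/-- Right translation by a stabilizing point preserves the stabilizer ideal. -/
theorem stabIdeal_le_comap_rtrans (z : R →ₐ[k] k) (h : A →ₐ[k] k)
    (hh : GLin.actPt k h z = z) :
    GLin.stabIdeal k A z ≤ (GLin.stabIdeal k A z).comap (rtrans h) := by
  unfold GLin.stabIdeal
  rw [Ideal.map_le_iff_le_comap]
  intro f hf
  rw [RingHom.mem_ker] at hf
  rw [Ideal.mem_comap, Ideal.mem_comap]
  have h1 : rtrans h (GLin.orbitHom k A z f) = GLin.orbitHom k A z (T h.toLinearMap f) := by
    rw [rtrans_apply]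
    exact (map_T_of_isComodHom (isComodHom_orbitHom z) h.toLinearMap f).symm
  rw [h1]
  apply Ideal.mem_map_of_mem
  rw [RingHom.mem_ker, ← actPt_eq_T, hh]
  exact hf

/-- Right translation on the stabilizer algebra. -/
noncomputable def stabTrans (z : R →ₐ[k] k) (h : A →ₐ[k] k) (hh : GLin.actPt k h z = z) :
    A ⧸ GLin.stabIdeal k A z →ₐ[k] A ⧸ GLin.stabIdeal k A z :=
  Ideal.quotientMapₐ (GLin.stabIdeal k A z) (rtrans h) (stabIdeal_le_comap_rtrans z h hh)

theorem stabTrans_mk (z : R →ₐ[k] k) (h : A →ₐ[k] k) (hh : GLin.actPt k h z = z) (a : A) :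
    stabTrans z h hh (Ideal.Quotient.mk _ a) = Ideal.Quotient.mk _ (rtrans h a) := rfl

theorem stabCounit_stabTrans (z : R →ₐ[k] k) (h : A →ₐ[k] k) (hh : GLin.actPt k h z = z)
    (a : A ⧸ GLin.stabIdeal k A z) :
    stabCounit z (stabTrans z h hh a) =
      Ideal.Quotient.liftₐ _ h (fun a ha => apply_eq_zero_of_mem_stabIdeal z h hh ha) a := by
  obtain ⟨b, rfl⟩ := Ideal.Quotient.mk_surjective a
  rw [stabTrans_mk]
  change ((Algebra.ofId k k).comp (Bialgebra.counitAlgHom k A)) (rtrans h b) = h b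
  rw [apply_rtrans]
  have h1 := one_mul (WithConv.toConv h : WithConv (A →ₐ[k] k))
  have h2 : convPt ((Algebra.ofId k k).comp (Bialgebra.counitAlgHom k A)) h = h :=
    congrArg WithConv.ofConv h1
  rw [h2]

/-- If the unit of the stabilizer is an isolated point, the stabilizer is finite. -/
theorem finite_stab_of_isOpen_stabUnit (z : R →ₐ[k] k)
    (hopen : IsOpen ({stabUnit (A := A) z} : Set (PrimeSpectrum (A ⧸ GLin.stabIdeal k A z)))) :
    {h : A →ₐ[k] k | GLin.actPt k h z = z}.Finite := by
  have hmax : ∀ M : PrimeSpectrum (A ⧸ GLin.stabIdeal k A z), M.asIdeal.IsMaximal →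
      IsOpen ({M} : Set (PrimeSpectrum (A ⧸ GLin.stabIdeal k A z))) := by
    intro M hM
    obtain ⟨hbar, hh⟩ := exists_point_vanishing_on (k := k) M.asIdeal hM.ne_top
    have hMk : M.asIdeal = RingHom.ker hbar :=
      hM.eq_of_le (RingHom.ker_ne_top _) (fun f hf => hh f hf)
    set h : A →ₐ[k] k := hbar.comp (Ideal.Quotient.mkₐ k (GLin.stabIdeal k A z)) with hdef
    have hst : GLin.actPt k h z = z := actPt_comp_mk z hbar
    set h' : A →ₐ[k] k := h.comp (HopfAlgebra.antipodeAlgHom k A) with hdef'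
    have hst' : GLin.actPt k h' z = z := by
      have := actPt_inv_actPt h z
      rw [hst] at this
      exact this
    have hφψ : ∀ a, stabTrans z h hst (stabTrans z h' hst' a) = a := by
      intro a
      obtain ⟨b, rfl⟩ := Ideal.Quotient.mk_surjective a
      rw [stabTrans_mk, stabTrans_mk, rtrans_rtrans, convPt_antipode, rtrans_counit]
    have hψφ : ∀ a, stabTrans z h' hst' (stabTrans z h hst a) = a := by
      intro a
      obtain ⟨b, rfl⟩ := Ideal.Quotient.mk_surjective a
      rw [stabTrans_mk, stabTrans_mk, rtrans_rtrans, convPt_antipode', rtrans_counit]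
    have hM' : PrimeSpectrum.comap (stabTrans z h hst).toRingHom (stabUnit z) = M := by
      apply PrimeSpectrum.ext
      rw [hMk]
      ext a
      change stabCounit z (stabTrans z h hst a) = 0 ↔ hbar a = 0
      rw [stabCounit_stabTrans]
      obtain ⟨b, rfl⟩ := Ideal.Quotient.mk_surjective a
      rfl
    have hset : ({M} : Set (PrimeSpectrum (A ⧸ GLin.stabIdeal k A z))) =
        PrimeSpectrum.comap (stabTrans z h' hst').toRingHom ⁻¹' {stabUnit z} := by
      ext P
      simp only [Set.mem_singleton_iff, Set.mem_preimage]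
      constructor
      · rintro rfl
        rw [← hM', ← PrimeSpectrum.comap_comp_apply]
        apply PrimeSpectrum.ext
        ext a
        change stabTrans z h hst (stabTrans z h' hst' a) ∈ (stabUnit z).asIdeal ↔ _
        rw [hφψ]
      · intro hP
        rw [← hM', ← hP, ← PrimeSpectrum.comap_comp_apply]
        apply PrimeSpectrum.ext
        ext a
        change a ∈ P.asIdeal ↔ stabTrans z h' hst' (stabTrans z h hst a) ∈ P.asIdeal
        rw [hψφ]
    rw [hset]
    exact hopen.preimage (PrimeSpectrum.continuous_comap _)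
  haveI : Ring.KrullDimLE 0 (A ⧸ GLin.stabIdeal k A z) := by
    rw [Ring.krullDimLE_zero_iff]
    intro P hP
    obtain ⟨M, hM, hPM⟩ := Ideal.exists_le_maximal P hP.ne_top
    have hsp : (⟨P, hP⟩ : PrimeSpectrum (A ⧸ GLin.stabIdeal k A z)) ⤳ ⟨M, hM.isPrime⟩ :=
      (PrimeSpectrum.le_iff_specializes _ _).mp hPM
    have := hsp.mem_open (hmax ⟨M, hM.isPrime⟩ hM) rfl
    rw [Set.mem_singleton_iff] at this
    have h2 : P = M := congrArg PrimeSpectrum.asIdeal this
    rw [h2]
    exact hM
  haveI : Module.Finite k (A ⧸ GLin.stabIdeal k A z) :=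
    (Module.finite_iff_krullDimLE_zero k _).mpr inferInstance
  haveI : Finite (A ⧸ GLin.stabIdeal k A z →ₐ[k] k) := Finite.algHom k _ k
  exact (finite_points_iff z).mp inferInstance

/-- The finite-stabilizer locus is open: around a point with finite stabilizer there is a basic
open set all of whose rational points have finite stabilizer. -/
theorem exists_basicOpen_finite_stab (x : R →ₐ[k] k)
    (hfin : {h : A →ₐ[k] k | GLin.actPt k h x = x}.Finite) :
    ∃ f : R, x f ≠ 0 ∧ ∀ z : R →ₐ[k] k, z f ≠ 0 →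
      {h : A →ₐ[k] k | GLin.actPt k h z = z}.Finite := by
  have hqf : Algebra.QuasiFiniteAt R (unitPt (A := A) x).asIdeal :=
    (quasiFiniteAt_unitPt_iff x).mpr (isOpen_stabUnit_of_finite x hfin)
  have hU := isOpen_setOf_quasiFiniteAt (R := R) (S := Fam k A R)
  have hV : IsOpen (PrimeSpectrum.comap (unitSec k A R).toRingHom ⁻¹'
      {q : PrimeSpectrum (Fam k A R) | Algebra.QuasiFiniteAt R q.asIdeal}) :=
    hU.preimage (PrimeSpectrum.continuous_comap _)
  have hxV : ptPrime x ∈ PrimeSpectrum.comap (unitSec k A R).toRingHom ⁻¹'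
      {q : PrimeSpectrum (Fam k A R) | Algebra.QuasiFiniteAt R q.asIdeal} := hqf
  obtain ⟨_, ⟨f, rfl⟩, hxf, hfV⟩ :=
    PrimeSpectrum.isTopologicalBasis_basic_opens.exists_subset_of_mem_open hxV hV
  refine ⟨f, ?_, fun z hz => ?_⟩
  · intro h0
    exact hxf (by
      change f ∈ RingHom.ker x
      rw [RingHom.mem_ker]; exact h0)
  · have hzf : ptPrime z ∈ (PrimeSpectrum.basicOpen f : Set (PrimeSpectrum R)) := by
      intro h0
      apply hz
      have : f ∈ RingHom.ker z := h0
      rw [RingHom.mem_ker] at this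
      exact this
    have hzq : Algebra.QuasiFiniteAt R (unitPt (A := A) z).asIdeal := hfV hzf
    exact finite_stab_of_isOpen_stabUnit z ((quasiFiniteAt_unitPt_iff z).mp hzq)

end Fibre

end Groth.Agent.Lib.Helper25.CF.StabOpen
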