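import Groth.Agent.Lib.Helper25CFStabOpen

/-!
# The stable locus of a linearly reductive group action is cut out by invariants (helper25; characteristic-free copy with `[IsReduced A]`)
-/

set_option autoImplicit false
set_option linter.unusedSectionVars false
universe u
open TensorProduct HopfRep Topology

namespace Groth.Agent.Lib.Helper25.CF.StableLocus

open Groth.Agent.Lib.Helper25 Groth.Agent.Lib.Helper25.CF.OrbCl Groth.Agent.Lib.Helper25.CF.FinOrb
  Groth.Agent.Lib.Helper25.CF.StabDim Groth.Agent.Lib.Helper25.CF.StablePts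
  Groth.Agent.Lib.Helper25.CF.StabOpen

section

variable {k : Type u} [Field k] [IsAlgClosed k]
  {A : Type u} [CommRing A] [HopfAlgebra k A] [Algebra.FiniteType k A] [IsReduced A]
  {R : Type u} [CommRing R] [Algebra k R] [Algebra.FiniteType k R]
  [HopfRep.Comod k A R] [GLin.IsCoactAlg k A R]

/-- Finiteness of the stabilizer is invariant along orbits. -/
theorem finite_stab_of_finite_stab_actPt (z : R →ₐ[k] k) (g : A →ₐ[k] k)
    (hfin : {h : A →ₐ[k] k | GLin.actPt k h (GLin.actPt k g z) = GLin.actPt k g z}.Finite) :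
    {h : A →ₐ[k] k | GLin.actPt k h z = z}.Finite := by
  have := finite_stab_actPt (GLin.actPt k g z) (g.comp (HopfAlgebra.antipodeAlgHom k A)) hfin
  rw [actPt_inv_actPt] at this
  exact this

variable (k A R) in
/-- The ideal of functions vanishing at all points with infinite stabilizer. -/
def infStabIdeal : Ideal R where
  carrier := {a | ∀ z : R →ₐ[k] k, ¬ {h : A →ₐ[k] k | GLin.actPt k h z = z}.Finite → z a = 0}
  add_mem' := by
    intro a b ha hb z hz
    rw [map_add, ha z hz, hb z hz, add_zero]
  zero_mem' := by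
    intro z _
    exact map_zero z
  smul_mem' := by
    intro c a ha z hz
    rw [smul_eq_mul, map_mul, ha z hz, mul_zero]

theorem mem_infStabIdeal (a : R) : a ∈ infStabIdeal k A R ↔
    ∀ z : R →ₐ[k] k, ¬ {h : A →ₐ[k] k | GLin.actPt k h z = z}.Finite → z a = 0 := Iff.rfl

theorem isSubcomod_infStabIdeal :
    IsSubcomod (k := k) (A := A) ((infStabIdeal k A R).restrictScalars k) := by
  refine isSubcomod_of_forall_point_mem _ (fun g u hu => ?_)
  change T g.toLinearMap u ∈ infStabIdeal k A R
  rw [mem_infStabIdeal]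
  intro z hz
  rw [← actPt_eq_T]
  exact hu (GLin.actPt k g z) (fun hfin => hz (finite_stab_of_finite_stab_actPt z g hfin))

/-- A stable point can be separated from the points with infinite stabilizer by an invariant. -/
theorem exists_invariant_of_stable (hG : IsLinearlyReductive k A) (x : R →ₐ[k] k)
    (hx : ClosedPt A x) (hfin : {h : A →ₐ[k] k | GLin.actPt k h x = x}.Finite) :
    ∃ f ∈ fixedPts k A R, f ∈ infStabIdeal k A R ∧ x f ≠ 0 := by
  set Q : Ideal R := RingHom.ker (GLin.orbitHom k A x) ⊔ infStabIdeal k A R with hQ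
  have hQt : Q = ⊤ := by
    by_contra hne
    obtain ⟨c, hc⟩ := exists_point_vanishing_on (k := k) Q hne
    obtain ⟨g, hg⟩ := hx c (fun f hf => hc f
      ((le_sup_left : RingHom.ker (GLin.orbitHom k A x) ≤ Q) hf))
    have hcfin : {h : A →ₐ[k] k | GLin.actPt k h c = c}.Finite := by
      rw [hg]
      exact finite_stab_actPt x g hfin
    obtain ⟨f, hcf, hf⟩ := exists_basicOpen_finite_stab c hcfin
    have hfa : f ∈ infStabIdeal k A R := by
      rw [mem_infStabIdeal]
      intro z hz
      by_contra hzf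
      exact hz (hf z hzf)
    exact hcf (hc f ((le_sup_right : infStabIdeal k A R ≤ Q) hfa))
  have h1 : (1 : R) ∈ Q := by rw [hQt]; exact Submodule.mem_top
  obtain ⟨a, ha, b, hb, hab⟩ := Submodule.mem_sup.mp h1
  have hss : IsSemisimpleComod k A R := isSemisimpleComod_of_isLinearlyReductive hG R
  obtain ⟨E, hE, hEE, hEx⟩ := exists_reynolds hss
  have hEfix : ∀ r, E r ∈ fixedPts k A R := fun r => (hEx _).mp (LinearMap.congr_fun hEE r)
  have hEa : GLin.orbitHom k A x (E a) = 0 := by
    have := reynolds_mem_of_isSubcomod hss hE hEE hEx (isSubcomod_ker_orbitHom x)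
      (u := a) (by rw [LinearMap.mem_ker]; exact ha)
    exact this
  have hEb : E b ∈ infStabIdeal k A R :=
    reynolds_mem_of_isSubcomod hss hE hEE hEx (isSubcomod_infStabIdeal (k := k) (A := A) (R := R))
      (u := b) hb
  have hxa : x (E a) = 0 := by rw [apply_eq_counit_orbitHom (A := A), hEa, map_zero]
  have hE1 : E 1 = 1 := (hEx 1).mpr (by
    change (1 : R) ∈ GLin.invariants k A R
    exact (GLin.invariants k A R).one_mem)
  have hsum : E a + E b = 1 := by rw [← map_add, hab, hE1]
  refine ⟨E b, hEfix b, hEb, ?_⟩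
  have := congrArg x hsum
  rw [map_add, hxa, zero_add, map_one] at this
  rw [this]
  exact one_ne_zero

/-- A point at which an invariant vanishing on the infinite-stabilizer locus does not vanish is
stable. -/
theorem stable_of_invariant (hG : IsLinearlyReductive k A) (x : R →ₐ[k] k) (f : R)
    (hf1 : f ∈ fixedPts k A R) (hf2 : f ∈ infStabIdeal k A R) (hxf : x f ≠ 0) :
    ClosedPt A x ∧ {h : A →ₐ[k] k | GLin.actPt k h x = x}.Finite := by
  have h' : ∀ z : R →ₐ[k] k, (∀ f ∈ HopfRep.fixedPts k A R, z f = x f) →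
      {h : A →ₐ[k] k | GLin.actPt k h z = z}.Finite := by
    intro z hz
    by_contra hnot
    have := (mem_infStabIdeal f).mp hf2 z hnot
    rw [hz f hf1] at this
    exact hxf this
  exact ⟨closedPt_of_forall_finite_stab hG x h', h' x (fun _ _ => rfl)⟩

/-- The stable locus is the non-vanishing locus of a set of invariants. -/
theorem exists_stable_set (hG : IsLinearlyReductive k A) :
    ∃ S : Set R, S ⊆ (fixedPts k A R : Set R) ∧ ∀ x : R →ₐ[k] k,
      (ClosedPt A x ∧ {h : A →ₐ[k] k | GLin.actPt k h x = x}.Finite) ↔ ∃ f ∈ S, x f ≠ 0 := by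
  refine ⟨{f | f ∈ fixedPts k A R ∧ f ∈ infStabIdeal k A R}, fun f hf => hf.1, fun x => ?_⟩
  constructor
  · rintro ⟨hx, hfin⟩
    obtain ⟨f, hf1, hf2, hf3⟩ := exists_invariant_of_stable hG x hx hfin
    exact ⟨f, ⟨hf1, hf2⟩, hf3⟩
  · rintro ⟨f, ⟨hf1, hf2⟩, hxf⟩
    have h' : ∀ z : R →ₐ[k] k, (∀ f ∈ HopfRep.fixedPts k A R, z f = x f) →
        {h : A →ₐ[k] k | GLin.actPt k h z = z}.Finite := by
      intro z hz
      by_contra hnot
      have := (mem_infStabIdeal f).mp hf2 z hnot
      rw [hz f hf1] at this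
      exact hxf this
    exact ⟨closedPt_of_forall_finite_stab hG x h', h' x (fun _ _ => rfl)⟩

end

end Groth.Agent.Lib.Helper25.CF.StableLocus
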