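import Groth.Agent.Lib.Helper25CFStabDim

/-!
# Stable points of linearly reductive group actions: fibres of the quotient map (helper25; characteristic-free copy with `[IsReduced A]`)
-/

set_option autoImplicit false
set_option linter.unusedSectionVars false
universe u
open TensorProduct HopfRep Topology

namespace Groth.Agent.Lib.Helper25.CF.StablePts

open Groth.Agent.Lib.Helper25 Groth.Agent.Lib.Helper25.CF.OrbCl Groth.Agent.Lib.Helper25.CF.FinOrb
  Groth.Agent.Lib.Helper25.CF.StabDim

section

variable {k : Type u} [Field k] [IsAlgClosed k]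
  {A : Type u} [CommRing A] [HopfAlgebra k A] [Algebra.FiniteType k A] [IsReduced A]
  {R : Type u} [CommRing R] [Algebra k R] [Algebra.FiniteType k R]
  [HopfRep.Comod k A R] [GLin.IsCoactAlg k A R]

/-- The orbit of `x` contains every rational point of its closure. -/
def ClosedPt (A : Type u) [CommRing A] [HopfAlgebra k A] [HopfRep.Comod k A R]
    [GLin.IsCoactAlg k A R] (x : R →ₐ[k] k) : Prop :=
  ∀ z : R →ₐ[k] k, (∀ f, GLin.orbitHom k A x f = 0 → z f = 0) →
    ∃ g : A →ₐ[k] k, z = GLin.actPt k g x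

/-- The stabilizer of a translate is finite if the stabilizer of the point is. -/
theorem finite_stab_actPt (x : R →ₐ[k] k) (g : A →ₐ[k] k)
    (hfin : {h : A →ₐ[k] k | GLin.actPt k h x = x}.Finite) :
    {h : A →ₐ[k] k | GLin.actPt k h (GLin.actPt k g x) = GLin.actPt k g x}.Finite := by
  refine (hfin.image (fun s => ((WithConv.toConv g)⁻¹ * WithConv.toConv s *
    WithConv.toConv g).ofConv)).subset ?_
  intro h hh
  refine ⟨(WithConv.toConv g * WithConv.toConv h * (WithConv.toConv g)⁻¹).ofConv, ?_, ?_⟩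
  · change GLin.actPt k (WithConv.toConv g * WithConv.toConv h * (WithConv.toConv g)⁻¹).ofConv x = x
    rw [actPt_mul, actPt_mul]
    have h1 : GLin.actPt k (WithConv.toConv h).ofConv (GLin.actPt k (WithConv.toConv g).ofConv x) =
        GLin.actPt k (WithConv.toConv g).ofConv x := hh
    rw [h1, actPt_inv_actPt']
  · change ((WithConv.toConv g)⁻¹ * WithConv.toConv
      (WithConv.toConv g * WithConv.toConv h * (WithConv.toConv g)⁻¹).ofConv *
        WithConv.toConv g).ofConv = h
    rw [WithConv.toConv_ofConv]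
    have : (WithConv.toConv g)⁻¹ * (WithConv.toConv g * WithConv.toConv h *
        (WithConv.toConv g)⁻¹) * WithConv.toConv g = WithConv.toConv h := by group
    rw [this]

/-- The orbit of a translate. -/
theorem closedPt_actPt (x : R →ₐ[k] k) (g : A →ₐ[k] k) (hx : ClosedPt A x) :
    ClosedPt A (GLin.actPt k g x) := by
  intro z hz
  have hker := ker_orbitHom_actPt g x
  obtain ⟨g', hg'⟩ := hx z (fun f hf => hz f (by
    have : f ∈ RingHom.ker (GLin.orbitHom k A (GLin.actPt k g x)) := by
      rw [hker]; exact hf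
    exact this))
  refine ⟨convPt (g.comp (HopfAlgebra.antipodeAlgHom k A)) g', ?_⟩
  rw [← actPt_actPt, actPt_inv_actPt, hg']

/-- Two closed orbits on which the invariants agree coincide. -/
theorem exists_actPt_eq_of_closedPt (hG : IsLinearlyReductive k A) (x w : R →ₐ[k] k)
    (hx : ClosedPt A x) (hw : ClosedPt A w)
    (hxw : ∀ f ∈ HopfRep.fixedPts k A R, x f = w f) :
    ∃ g : A →ₐ[k] k, w = GLin.actPt k g x := by
  obtain ⟨c, hcx, hcw⟩ := exists_common_point hG x w hxw
  obtain ⟨g, hg⟩ := hx c hcx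
  obtain ⟨g', hg'⟩ := hw c hcw
  refine ⟨convPt g (g'.comp (HopfAlgebra.antipodeAlgHom k A)), ?_⟩
  rw [← actPt_actPt, ← hg, hg', actPt_inv_actPt]

/-- A point in the fibre of the quotient map through a stable point lies in its orbit. -/
theorem exists_actPt_eq_of_stable (hG : IsLinearlyReductive k A) (x z : R →ₐ[k] k)
    (hx : ClosedPt A x) (hfin : {h : A →ₐ[k] k | GLin.actPt k h x = x}.Finite)
    (hzx : ∀ f ∈ HopfRep.fixedPts k A R, z f = x f) :
    ∃ g : A →ₐ[k] k, z = GLin.actPt k g x := by
  obtain ⟨w, hwz, hwcl⟩ := exists_closed_orbit_in_closure (A := A) z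
  have hw : ClosedPt A w := hwcl
  have hinv : ∀ f ∈ HopfRep.fixedPts k A R, x f = w f := by
    intro f hf
    rw [apply_eq_of_vanishing (A := A) z w hwz hf, hzx f hf]
  obtain ⟨g, hg⟩ := exists_actPt_eq_of_closedPt hG x w hx hw hinv
  have hzw := ker_le_ker_of_vanishing z w hwz
  have hkw : RingHom.ker (GLin.orbitHom k A w) = RingHom.ker (GLin.orbitHom k A x) := by
    rw [hg, ker_orbitHom_actPt]
  rw [hkw] at hzw
  obtain ⟨g', hg'⟩ := exists_actPt_eq_of_finite_stab z x hzw hfin
  refine ⟨g'.comp (HopfAlgebra.antipodeAlgHom k A), ?_⟩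
  rw [hg', actPt_inv_actPt]

/-- If every point of the fibre of the quotient map through `x` has finite stabilizer, the orbit
of `x` is closed. -/
theorem closedPt_of_forall_finite_stab (hG : IsLinearlyReductive k A) (x : R →ₐ[k] k)
    (h : ∀ z : R →ₐ[k] k, (∀ f ∈ HopfRep.fixedPts k A R, z f = x f) →
      {h : A →ₐ[k] k | GLin.actPt k h z = z}.Finite) : ClosedPt A x := by
  obtain ⟨w, hwx, hwcl⟩ := exists_closed_orbit_in_closure (A := A) x
  have hw : ClosedPt A w := hwcl
  have hfw := h w (fun f hf => apply_eq_of_vanishing (A := A) x w hwx hf)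
  have hxw := ker_le_ker_of_vanishing x w hwx
  obtain ⟨g, hg⟩ := exists_actPt_eq_of_finite_stab x w hxw hfw
  have hx : x = GLin.actPt k (g.comp (HopfAlgebra.antipodeAlgHom k A)) w := by
    rw [hg, actPt_inv_actPt]
  rw [hx]
  exact closedPt_actPt w _ hw

/-- The stabilizer in the `act` formulation. -/
theorem stabK_eq (p : R →ₐ[k] k) :
    {g : A →ₐ[k] k | ∀ f : R, p (HopfRep.Comod.act k A R g f) = p f} =
      {g : A →ₐ[k] k | GLin.actPt k g p = p} := by
  ext g
  constructor
  · intro h
    apply AlgHom.ext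
    intro f
    rw [actPt_apply, ← apply_act]
    exact h f
  · intro h f
    rw [apply_act, ← actPt_apply]
    exact AlgHom.congr_fun h f

/-- Closedness of the orbit in the `act` formulation. -/
theorem closedK_iff (x : R →ₐ[k] k) :
    (∀ z : R →ₐ[k] k, (∀ f : R, (∀ g : A →ₐ[k] k, x (HopfRep.Comod.act k A R g f) = 0) → z f = 0) →
          ∃ g : A →ₐ[k] k, ∀ f : R, z f = x (HopfRep.Comod.act k A R g f)) ↔ ClosedPt A x := by
  constructor
  · intro h z hz
    obtain ⟨g, hg⟩ := h z (fun f hf => hz f ((forall_act_eq_zero_iff x f).mp hf))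
    refine ⟨g, ?_⟩
    apply AlgHom.ext
    intro f
    rw [hg f, actPt_apply, apply_act]
  · intro h z hz
    obtain ⟨g, hg⟩ := h z (fun f hf => hz f ((forall_act_eq_zero_iff x f).mpr hf))
    refine ⟨g, fun f => ?_⟩
    rw [hg, actPt_apply, apply_act]

end

end Groth.Agent.Lib.Helper25.CF.StablePts
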