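import Groth.Agent.Lib.Helper25CSTLocal6
import Groth.Agent.Lib.Helper19InvPrincipalC

/-!
# Helper25CSTFormalA: Chevalley–Shephard–Todd for a local regular comodule algebra (helper25)

`R` a Noetherian local domain which is a comodule algebra over a finite linearly reductive Hopf
algebra `A` (all of whose Hopf quotients are linearly reductive), with a rational fixed point `x`
at which the group is generated by pseudo-reflections, and `R` finite over the invariants `S`.
Then `R` is free over `S`, and if `R` is regular so is `S`.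
-/

set_option autoImplicit false
set_option linter.style.haveILetI false
set_option linter.unusedSectionVars false
universe u

namespace Groth.Agent.Lib.Helper25.CSTF

open TensorProduct HopfRep Groth.Agent.Lib.Helper25 Module
open Groth.Agent.Lib.Helper25.CST Groth.Agent.Lib.Helper25.CSTL

section Abstract

variable {k : Type u} [Field k] {A : Type u} [CommRing A] [HopfAlgebra k A] [Module.Finite k A]
variable {R : Type u} [CommRing R] [Algebra k R] [cR : Comod k A R] [GLin.IsCoactAlg k A R]

/-- an invariant not vanishing at `x` is a unit of the invariants when `R` is local with maximal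
ideal `ker x`. -/
theorem isUnit_invariant_of_ne_zero [IsLocalRing R] (x : R →ₐ[k] k) (s : InvR k A R)
    (hs : x (s : R) ≠ 0) : IsUnit s := by
  have hu : IsUnit (s : R) := by
    by_contra h
    have hm : (s : R) ∈ IsLocalRing.maximalIdeal R := (IsLocalRing.mem_maximalIdeal _).mpr h
    have hker : IsLocalRing.maximalIdeal R = RingHom.ker (x : R →+* k) := by
      have hmax : (RingHom.ker (x : R →+* k)).IsMaximal :=
        RingHom.ker_isMaximal_of_surjective _ (fun c => ⟨algebraMap k R c, by simp⟩)
      exact (IsLocalRing.eq_maximalIdeal hmax).symm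
    rw [hker] at hm
    exact hs (RingHom.mem_ker.mp hm)
  obtain ⟨u, hu⟩ := hu
  -- the inverse is invariant
  have hinv : (↑u⁻¹ : R) ∈ GLin.invariants k A R := by
    rw [GLin.mem_invariants_iff]
    have h1 : Comod.coact (k := k) (A := A) (↑u : R) = (↑u : R) ⊗ₜ[k] (1 : A) := by
      rw [hu]; exact s.2
    have h2 : Comod.coact (k := k) (A := A) (↑u : R) * Comod.coact (k := k) (A := A) (↑u⁻¹ : R)
        = 1 := by
      rw [← GLin.IsCoactAlg.coact_mul, Units.mul_inv, GLin.IsCoactAlg.coact_one (k := k)]
    have h3 : ((↑u : R) ⊗ₜ[k] (1 : A)) * ((↑u⁻¹ : R) ⊗ₜ[k] (1 : A)) = 1 := by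
      rw [Algebra.TensorProduct.tmul_mul_tmul, Units.mul_inv, one_mul,
        Algebra.TensorProduct.one_def]
    rw [h1] at h2
    calc Comod.coact (k := k) (A := A) (↑u⁻¹ : R)
        = (((↑u⁻¹ : R) ⊗ₜ[k] (1 : A)) * ((↑u : R) ⊗ₜ[k] (1 : A))) *
            Comod.coact (k := k) (A := A) (↑u⁻¹ : R) := by
          rw [mul_comm ((↑u⁻¹ : R) ⊗ₜ[k] (1 : A)), h3, one_mul]
      _ = (↑u⁻¹ : R) ⊗ₜ[k] (1 : A) := by
          rw [mul_assoc, h2, mul_one]
  refine ⟨⟨s, ⟨(↑u⁻¹ : R), hinv⟩, ?_, ?_⟩, rfl⟩
  · apply Subtype.ext
    change (s : R) * (↑u⁻¹ : R) = 1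
    rw [← hu, Units.mul_inv]
  · apply Subtype.ext
    change (↑u⁻¹ : R) * (s : R) = 1
    rw [← hu, Units.inv_mul]

theorem isLocalRing_invariants [IsLocalRing R] (x : R →ₐ[k] k) : IsLocalRing (InvR k A R) := by
  haveI : Nontrivial (InvR k A R) := by
    refine ⟨⟨0, 1, fun h => ?_⟩⟩
    have : ((0 : InvR k A R) : R) = ((1 : InvR k A R) : R) := congrArg Subtype.val h
    exact zero_ne_one this
  apply IsLocalRing.of_nonunits_add
  intro a b ha hb
  have hxa : x (a : R) = 0 := by
    by_contra h
    exact ha (isUnit_invariant_of_ne_zero x a h)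
  have hxb : x (b : R) = 0 := by
    by_contra h
    exact hb (isUnit_invariant_of_ne_zero x b h)
  intro hab
  have h1 : x ((a + b : InvR k A R) : R) = 0 := by
    change x ((a : R) + (b : R)) = 0
    rw [map_add, hxa, hxb, add_zero]
  obtain ⟨u, hu⟩ := hab
  have h2 : ((a + b : InvR k A R) : R) * ((↑u⁻¹ : InvR k A R) : R) = 1 := by
    rw [← hu]
    have := congrArg Subtype.val (Units.mul_inv u)
    exact this
  have h3 := congrArg x h2
  rw [map_mul, h1, zero_mul, map_one] at h3
  exact zero_ne_one h3

theorem maximalIdeal_invariants_eq [IsLocalRing R] (x : R →ₐ[k] k) :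
    haveI := isLocalRing_invariants (A := A) x
    IsLocalRing.maximalIdeal (InvR k A R) = pIdeal A x := by
  haveI := isLocalRing_invariants (A := A) x
  ext s
  rw [IsLocalRing.mem_maximalIdeal, mem_nonunits_iff, RingHom.mem_ker]
  constructor
  · intro h
    by_contra h0
    exact h (isUnit_invariant_of_ne_zero x s h0)
  · intro h hu
    obtain ⟨u, hu⟩ := hu
    have h2 : ((s : InvR k A R) : R) * ((↑u⁻¹ : InvR k A R) : R) = 1 := by
      rw [← hu]
      exact congrArg Subtype.val (Units.mul_inv u)
    have h3 := congrArg x h2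
    have h4 : x (s : R) = 0 := h
    rw [map_mul, h4, zero_mul, map_one] at h3
    exact zero_ne_one h3

/-- **Freeness over the invariants**. -/
theorem free_over_invariants [IsLocalRing R] [IsDomain R] [IsNoetherianRing R]
    (hG : IsLinearlyReductive k A)
    (hsub : ∀ (I : Ideal A) [I.IsHopfIdeal k], HopfRep.IsLinearlyReductive k (A ⧸ I))
    (x : R →ₐ[k] k) (hx : GLin.IsFixedPt k A x)
    (hgen : GLin.IsGenByPseudoReflAt k A R x) [Module.Finite (InvR k A R) R] :
    Module.Free (InvR k A R) R := by
  classical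
  haveI := isLocalRing_invariants (A := A) x
  have hdom : ∀ a b : R, a * b = 0 →
      (∃ w, x w ≠ 0 ∧ w * a = 0) ∨ (∃ w, x w ≠ 0 ∧ w * b = 0) := by
    intro a b hab
    rcases mul_eq_zero.mp hab with h | h
    · exact Or.inl ⟨1, by simp, by rw [h, mul_zero]⟩
    · exact Or.inr ⟨1, by simp, by rw [h, mul_zero]⟩
  haveI : Module.Finite k (R ⧸ hilbIdealAt k A x) := finite_quot_hilbIdealAt x
  set n := finrank k (R ⧸ hilbIdealAt k A x) with hn
  let bas := Module.finBasis k (R ⧸ hilbIdealAt k A x)
  choose e he using fun j => Ideal.Quotient.mk_surjective (bas j)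
  have hind : ∀ l : Fin n → k, (∑ j, algebraMap k R (l j) * e j) ∈ hilbIdealAt k A x →
      ∀ j, l j = 0 := by
    intro l hl
    rw [← Ideal.Quotient.eq_zero_iff_mem, map_sum] at hl
    have h1 : ∑ j, l j • bas j = 0 := by
      rw [← hl]
      apply Finset.sum_congr rfl
      intro j _
      rw [mk_algebraMap_mul, he]
    exact Fintype.linearIndependent_iff.mp bas.linearIndependent l h1
  -- linear independence
  have hli : LinearIndependent (InvR k A R) e := by
    rw [Fintype.linearIndependent_iff]
    intro b hb j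
    obtain ⟨v, hv, hxv, hvb⟩ := indep_at hG hsub x hx hdom hgen n e hind (fun j => (b j : R))
      (fun j => (b j).2) ⟨1, Subalgebra.one_mem _, by simp, by
        rw [one_mul]
        exact hb⟩
    have hv0 : v ≠ 0 := by
      rintro rfl
      exact hxv (map_zero x)
    apply Subtype.ext
    exact (mul_eq_zero.mp (hvb j)).resolve_left hv0
  -- spanning
  have hspan : ∀ s : R, ∃ l : Fin n → InvR k A R, s - ∑ j, l j • e j ∈ hilbIdealAt k A x := by
    intro s
    refine ⟨fun j => algebraMap k (InvR k A R) (bas.repr (Ideal.Quotient.mk _ s) j), ?_⟩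
    rw [← Ideal.Quotient.eq_zero_iff_mem, map_sub, map_sum, sub_eq_zero]
    conv_lhs => rw [← bas.sum_repr (Ideal.Quotient.mk (hilbIdealAt k A x) s)]
    apply Finset.sum_congr rfl
    intro j _
    have : (algebraMap k (InvR k A R) (bas.repr (Ideal.Quotient.mk _ s) j)) • e j =
        algebraMap k R (bas.repr (Ideal.Quotient.mk (hilbIdealAt k A x) s) j) * e j := rfl
    rw [this, mk_algebraMap_mul, he]
  set N : Submodule (InvR k A R) R := Submodule.span (InvR k A R) (Set.range e) with hN
  have hmem : ∀ t ∈ hilbIdealAt k A x,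
      t ∈ (IsLocalRing.maximalIdeal (InvR k A R)) • (⊤ : Submodule (InvR k A R) R) := by
    intro t ht
    unfold hilbIdealAt at ht
    refine Submodule.span_induction (p := fun t _ => t ∈
      (IsLocalRing.maximalIdeal (InvR k A R)) • (⊤ : Submodule (InvR k A R) R)) ?_ ?_ ?_ ?_ ht
    · intro f hf
      have h1 : f = (⟨f, hf.1⟩ : InvR k A R) • (1 : R) := by
        change f = f * 1
        rw [mul_one]
      rw [h1]
      refine Submodule.smul_mem_smul ?_ Submodule.mem_top
      rw [maximalIdeal_invariants_eq (A := A) x, mem_pIdeal_iff]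
      exact hf
    · exact Submodule.zero_mem _
    · intro a b _ _ ha hb
      exact Submodule.add_mem _ ha hb
    · intro c a _ ha
      rw [smul_eq_mul]
      refine Submodule.smul_induction_on ha ?_ ?_
      · intro r hr m _
        have : c * r • m = r • (c * m) := by
          change c * ((r : R) * m) = (r : R) * (c * m)
          ring
        rw [this]
        exact Submodule.smul_mem_smul hr Submodule.mem_top
      · intro a b ha hb
        rw [mul_add]; exact Submodule.add_mem _ ha hb
  have htop : (⊤ : Submodule (InvR k A R) R) ≤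
      N ⊔ (IsLocalRing.maximalIdeal (InvR k A R)) • (⊤ : Submodule (InvR k A R) R) := by
    intro s _
    obtain ⟨l, hl⟩ := hspan s
    have hs : s = ∑ j, l j • e j + (s - ∑ j, l j • e j) := by abel
    rw [hs]
    refine Submodule.add_mem _ (Submodule.mem_sup_left ?_) (Submodule.mem_sup_right (hmem _ hl))
    exact Submodule.sum_mem _ (fun j _ => Submodule.smul_mem _ _ (Submodule.subset_span ⟨j, rfl⟩))
  have hfg : (⊤ : Submodule (InvR k A R) R).FG := Module.Finite.fg_top
  have hNtop : (⊤ : Submodule (InvR k A R) R) ≤ N :=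
    Submodule.le_of_le_smul_of_le_jacobson_bot hfg
      (IsLocalRing.maximalIdeal_le_jacobson ⊥) htop
  exact Module.Free.of_basis (Module.Basis.mk hli hNtop)

/-- **Regularity of the invariants**. -/
theorem isRegularLocalRing_invariants [IsRegularLocalRing R] [IsDomain R]
    (hG : IsLinearlyReductive k A)
    (hsub : ∀ (I : Ideal A) [I.IsHopfIdeal k], HopfRep.IsLinearlyReductive k (A ⧸ I))
    (x : R →ₐ[k] k) (hx : GLin.IsFixedPt k A x)
    (hgen : GLin.IsGenByPseudoReflAt k A R x) [Module.Finite (InvR k A R) R] :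
    Module.Free (InvR k A R) R ∧ IsRegularLocalRing (InvR k A R) := by
  haveI := isLocalRing_invariants (A := A) x
  haveI hfree : Module.Free (InvR k A R) R := free_over_invariants hG hsub x hx hgen
  refine ⟨hfree, ?_⟩
  haveI : IsNoetherianRing (InvR k A R) :=
    Groth.Agent.Lib.Helper19.InvPrincipal.isNoetherianRing_of_finite_injective
      (R := InvR k A R) (S := R) Subtype.val_injective
  haveI : IsLocalHom (algebraMap (InvR k A R) R) := by
    constructor
    intro s hs
    apply isUnit_invariant_of_ne_zero x s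
    intro h0
    have hm : (s : R) ∈ RingHom.ker (x : R →+* k) := RingHom.mem_ker.mpr h0
    have hmax : (RingHom.ker (x : R →+* k)).IsMaximal :=
      RingHom.ker_isMaximal_of_surjective _ (fun c => ⟨algebraMap k R c, by simp⟩)
    rw [IsLocalRing.eq_maximalIdeal hmax, IsLocalRing.mem_maximalIdeal] at hm
    exact hm hs
  exact Groth.Agent.Lib.Helper28.isRegularLocalRing_of_flat_of_isLocalHom (InvR k A R) R

end Abstract

end Groth.Agent.Lib.Helper25.CSTF
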