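import Groth.Statements.S16962

/-!
# Comodule algebras over the functions on a finite group are group actions (helper25)
-/

set_option autoImplicit false
universe u
open TensorProduct

namespace Groth.Agent.Lib.Helper25.ConstActLib

section Slice

variable (R : Type u) [CommRing R] (B : Type u) [CommRing B] [Algebra R B]
  (Γ : Type u) [Group Γ] [Fintype Γ] [DecidableEq Γ]

/-- Evaluate the function part at `γ`. -/
noncomputable def sl (γ : Γ) : B ⊗[R] ConstGrp.F R Γ →ₐ[R] B :=
  Algebra.TensorProduct.lift (AlgHom.id R B) ((Algebra.ofId R B).comp (ConstGrp.ev R γ))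
    (fun _ _ => Commute.all _ _)

theorem sl_tmul (γ : Γ) (b : B) (f : ConstGrp.F R Γ) : sl R B Γ γ (b ⊗ₜ[R] f) = f γ • b := by
  rw [sl, Algebra.TensorProduct.lift_tmul]
  change b * algebraMap R B (f γ) = f γ • b
  rw [Algebra.smul_def, mul_comm]

theorem sl_tmul_e (γ δ : Γ) (b : B) :
    sl R B Γ γ (b ⊗ₜ[R] ConstGrp.e R δ) = if γ = δ then b else 0 := by
  rw [sl_tmul, ConstGrp.e_apply]
  split_ifs <;> simp

/-- Expansion of an element of `B ⊗ F` in the indicator basis. -/
theorem eq_sum_sl (x : B ⊗[R] ConstGrp.F R Γ) :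
    x = ∑ γ : Γ, sl R B Γ γ x ⊗ₜ[R] ConstGrp.e R γ := by
  induction x using TensorProduct.induction_on with
  | zero => simp
  | tmul b f =>
    simp only [sl_tmul]
    conv_lhs => rw [ConstGrp.eq_sum_smul_e f, TensorProduct.tmul_sum]
    apply Finset.sum_congr rfl
    intro γ _
    rw [TensorProduct.smul_tmul]
  | add x y hx hy =>
    conv_lhs => rw [hx, hy]
    rw [← Finset.sum_add_distrib]
    apply Finset.sum_congr rfl
    intro γ _
    rw [map_add, TensorProduct.add_tmul]

/-- Coefficient of `e γ ⊗ e δ`. -/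
noncomputable def sl2 (γ δ : Γ) : B ⊗[R] (ConstGrp.F R Γ ⊗[R] ConstGrp.F R Γ) →ₗ[R] B :=
  (TensorProduct.rid R B).toLinearMap ∘ₗ
    LinearMap.lTensor B ((LinearMap.mul' R R) ∘ₗ
      TensorProduct.map (ConstGrp.ev R γ).toLinearMap (ConstGrp.ev R δ).toLinearMap)

theorem sl2_tmul (γ δ : Γ) (b : B) (f f' : ConstGrp.F R Γ) :
    sl2 R B Γ γ δ (b ⊗ₜ[R] (f ⊗ₜ[R] f')) = (f γ * f' δ) • b := by
  simp [sl2]

theorem sl2_assoc (γ δ : Γ) (y : B ⊗[R] ConstGrp.F R Γ) (f : ConstGrp.F R Γ) :
    sl2 R B Γ γ δ (TensorProduct.assoc R B (ConstGrp.F R Γ) (ConstGrp.F R Γ) (y ⊗ₜ[R] f)) =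
      f δ • sl R B Γ γ y := by
  induction y using TensorProduct.induction_on with
  | zero => simp
  | tmul b f' =>
    rw [TensorProduct.assoc_tmul, sl2_tmul, sl_tmul, smul_smul, mul_comm]
  | add x y hx hy =>
    rw [TensorProduct.add_tmul, map_add, map_add, hx, hy, map_add, smul_add]

theorem ev_ev_comul (γ δ : Γ) (f : ConstGrp.F R Γ) :
    (LinearMap.mul' R R) (TensorProduct.map (ConstGrp.ev R γ).toLinearMap
      (ConstGrp.ev R δ).toLinearMap (Coalgebra.comul (R := R) f)) = f (γ * δ) := by
  rw [ConstGrp.comul_eq_sum]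
  simp only [map_sum, map_smul, TensorProduct.map_tmul, AlgHom.toLinearMap_apply,
    ConstGrp.ev_apply, LinearMap.mul'_apply, smul_eq_mul]
  rw [Finset.sum_eq_single γ]
  · rw [Finset.sum_eq_single δ]
    · rw [ConstGrp.e_apply_self, ConstGrp.e_apply_self, _root_.mul_one, _root_.mul_one]
    · intro b _ hb
      rw [ConstGrp.e_apply_of_ne (Ne.symm hb), mul_zero, mul_zero]
    · intro h
      exact absurd (Finset.mem_univ δ) h
  · intro a _ ha
    apply Finset.sum_eq_zero
    intro b _
    rw [ConstGrp.e_apply_of_ne (Ne.symm ha), zero_mul, mul_zero]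
  · intro h
    exact absurd (Finset.mem_univ γ) h

theorem sl2_lTensor_comul (γ δ : Γ) (x : B ⊗[R] ConstGrp.F R Γ) :
    sl2 R B Γ γ δ (LinearMap.lTensor B (Coalgebra.comul (R := R)) x) = sl R B Γ (γ * δ) x := by
  induction x using TensorProduct.induction_on with
  | zero => simp
  | tmul b f =>
    rw [LinearMap.lTensor_tmul, sl_tmul]
    change (TensorProduct.rid R B) (LinearMap.lTensor B _ (b ⊗ₜ[R] Coalgebra.comul (R := R) f)) = _
    rw [LinearMap.lTensor_tmul, LinearMap.comp_apply, ev_ev_comul, TensorProduct.rid_tmul]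
  | add x y hx hy =>
    rw [map_add, map_add, hx, hy, map_add]

theorem sl_one (x : B ⊗[R] ConstGrp.F R Γ) :
    sl R B Γ 1 x = TensorProduct.rid R B (LinearMap.lTensor B (Coalgebra.counit (R := R)) x) := by
  induction x using TensorProduct.induction_on with
  | zero => simp
  | tmul b f =>
    rw [sl_tmul, LinearMap.lTensor_tmul, TensorProduct.rid_tmul]
    rfl
  | add x y hx hy =>
    rw [map_add, hx, hy, map_add, map_add]

end Slice

theorem mulSemiringAction_ext {M A : Type*} [Monoid M] [Semiring A]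
    (a a' : MulSemiringAction M A) (h : ∀ m x, a.smul m x = a'.smul m x) : a = a' := by
  have h1 : a.toDistribMulAction = a'.toDistribMulAction := by
    apply DistribMulAction.ext
    funext m x
    exact h m x
  cases a
  cases a'
  congr

section Act

variable (R : Type u) [CommRing R] (B : Type u) [CommRing B] [Algebra R B]
  (Γ : Type u) [Group Γ] [Fintype Γ] [DecidableEq Γ]
  [HopfRep.Comod R (ConstGrp.F R Γ) B] [GLin.IsCoactAlg R (ConstGrp.F R Γ) B]

/-- The action of `γ` defined by the coaction. -/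
noncomputable def actHom (γ : Γ) : B →ₐ[R] B :=
  (sl R B Γ γ).comp (GLin.coactAlgHom R (ConstGrp.F R Γ) B)

theorem actHom_apply (γ : Γ) (b : B) :
    actHom R B Γ γ b =
      sl R B Γ γ (HopfRep.Comod.coact (k := R) (A := ConstGrp.F R Γ) (V := B) b) := rfl

theorem actHom_one (b : B) : actHom R B Γ 1 b = b := by
  rw [actHom_apply, sl_one]
  have h := LinearMap.congr_fun
    (HopfRep.Comod.counit_comp (k := R) (A := ConstGrp.F R Γ) (V := B)) b
  rw [LinearMap.comp_apply] at h
  rw [h]
  simp

theorem actHom_mul (γ δ : Γ) (b : B) :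
    actHom R B Γ (γ * δ) b = actHom R B Γ γ (actHom R B Γ δ b) := by
  have h := LinearMap.congr_fun
    (HopfRep.Comod.coassoc (k := R) (A := ConstGrp.F R Γ) (V := B)) b
  simp only [LinearMap.comp_apply, LinearEquiv.coe_coe] at h
  have h2 := congrArg (sl2 R B Γ γ δ) h
  rw [sl2_lTensor_comul] at h2
  rw [actHom_apply, ← h2]
  -- expand the inner coaction
  have h3 : ∀ y : B ⊗[R] ConstGrp.F R Γ,
      sl2 R B Γ γ δ (TensorProduct.assoc R B (ConstGrp.F R Γ) (ConstGrp.F R Γ)
        (LinearMap.rTensor (ConstGrp.F R Γ)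
          (HopfRep.Comod.coact (k := R) (A := ConstGrp.F R Γ) (V := B)) y)) =
      actHom R B Γ γ (sl R B Γ δ y) := by
    intro y
    induction y using TensorProduct.induction_on with
    | zero => simp
    | tmul b' f =>
      rw [LinearMap.rTensor_tmul, sl2_assoc, sl_tmul, map_smul, actHom_apply]
    | add x y hx hy =>
      rw [map_add, map_add, map_add, hx, hy, map_add, map_add]
  rw [h3]
  rfl

/-- The `Γ`-action on `B` defined by a comodule algebra structure over the functions on `Γ`. -/
noncomputable def act : MulSemiringAction Γ B where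
  smul γ b := actHom R B Γ γ b
  one_smul b := actHom_one R B Γ b
  mul_smul γ δ b := actHom_mul R B Γ γ δ b
  smul_zero γ := map_zero _
  smul_add γ b b' := map_add _ b b'
  smul_one γ := map_one _
  smul_mul γ b b' := map_mul _ b b'

theorem act_smul (γ : Γ) (b : B) :
    letI := act R B Γ
    γ • b = actHom R B Γ γ b := rfl

theorem act_smulCommClass :
    letI := act R B Γ
    SMulCommClass Γ R B := by
  letI := act R B Γ
  constructor
  intro γ r b
  change actHom R B Γ γ (r • b) = r • actHom R B Γ γ b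
  rw [map_smul]

theorem coactLin_act :
    letI := act R B Γ
    haveI := act_smulCommClass R B Γ
    ConstAct.coactLin R B Γ = HopfRep.Comod.coact (k := R) (A := ConstGrp.F R Γ) (V := B) := by
  letI := act R B Γ
  haveI := act_smulCommClass R B Γ
  apply LinearMap.ext
  intro b
  rw [ConstAct.coactLin_apply]
  conv_rhs => rw [eq_sum_sl R B Γ (HopfRep.Comod.coact (k := R) (A := ConstGrp.F R Γ) (V := B) b)]
  rfl

theorem invariants_act :
    letI := act R B Γ
    haveI := act_smulCommClass R B Γ
    GLin.invariants R (ConstGrp.F R Γ) B = ConstAct.inv R B Γ := by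
  letI := act R B Γ
  haveI := act_smulCommClass R B Γ
  apply SetLike.ext
  intro b
  rw [ConstAct.mem_inv]
  change HopfRep.Comod.coact (k := R) (A := ConstGrp.F R Γ) (V := B) b = b ⊗ₜ[R] 1 ↔ _
  constructor
  · intro h γ
    change actHom R B Γ γ b = b
    rw [actHom_apply, h, sl_tmul]
    simp
  · intro h
    rw [eq_sum_sl R B Γ (HopfRep.Comod.coact (k := R) (A := ConstGrp.F R Γ) (V := B) b)]
    have h2 : ∀ γ : Γ,
        sl R B Γ γ (HopfRep.Comod.coact (k := R) (A := ConstGrp.F R Γ) (V := B) b) = b := by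
      intro γ
      exact h γ
    simp only [h2]
    rw [← TensorProduct.tmul_sum, ConstGrp.sum_e]

/-- Any action whose associated coaction is the given one is the action defined above. -/
theorem smul_eq_of_coactLin_eq (a' : MulSemiringAction Γ B)
    (hc : @SMulCommClass Γ R B a'.toSMul _)
    (h : @ConstAct.coactLin R _ B _ _ Γ _ _ _ a' hc =
      HopfRep.Comod.coact (k := R) (A := ConstGrp.F R Γ) (V := B)) (γ : Γ) (b : B) :
    a'.smul γ b = actHom R B Γ γ b := by
  letI := a'
  rw [actHom_apply, ← h, ConstAct.coactLin_apply, map_sum]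
  simp only [sl_tmul_e]
  rw [Finset.sum_eq_single γ]
  · rw [if_pos rfl]
    rfl
  · intro δ _ hδ
    rw [if_neg (Ne.symm hδ)]
  · intro h
    exact absurd (Finset.mem_univ γ) h

end Act

end Groth.Agent.Lib.Helper25.ConstActLib
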