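import Groth.Agent.Lib.Helper25IntegralBC
import Groth.Agent.Lib.Helper25ConstAct
import Mathlib.RingTheory.HopfAlgebra.Quotient

/-!
# Helper25CSTFormalB: Hopf ideals of the functions on a finite group (helper25)

A Hopf ideal of `ConstGrp.F k G` is the ideal of functions vanishing on a subgroup, and the
quotient is linearly reductive when the order of `G` is invertible.
-/

set_option autoImplicit false
set_option linter.style.haveILetI false
set_option linter.unusedSectionVars false
universe u

namespace Groth.Agent.Lib.Helper25.CSTF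

open TensorProduct HopfRep Groth.Agent.Lib.Helper25 Module

section ZSet

variable {k : Type u} [Field k] {G : Type u} [Group G] [Fintype G] [DecidableEq G]

/-- the zero set of an ideal of functions on `G`. -/
def zset (I : Ideal (ConstGrp.F k G)) : Set G := {g | ∀ f ∈ I, f g = 0}

theorem e_mem_of_notMem_zset (I : Ideal (ConstGrp.F k G)) {g : G} (hg : g ∉ zset I) :
    ConstGrp.e k g ∈ I := by
  unfold zset at hg
  simp only [Set.mem_setOf_eq, not_forall] at hg
  obtain ⟨f, hf, hfg⟩ := hg
  have h1 : ConstGrp.e k g = ((f g)⁻¹ • ConstGrp.e k g) * f := by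
    apply ConstGrp.ext
    intro h
    rw [ConstGrp.mul_apply, ConstGrp.smul_apply, ConstGrp.e_apply]
    split_ifs with hh
    · rw [hh, mul_one, inv_mul_cancel₀ hfg]
    · rw [mul_zero, zero_mul]
  rw [h1]
  exact I.mul_mem_left _ hf

theorem mem_of_vanish_zset (I : Ideal (ConstGrp.F k G)) (f : ConstGrp.F k G)
    (hf : ∀ g ∈ zset I, f g = 0) : f ∈ I := by
  rw [ConstGrp.eq_sum_smul_e f]
  refine I.sum_mem (fun g _ => ?_)
  by_cases hg : g ∈ zset I
  · rw [hf g hg, zero_smul]; exact I.zero_mem
  · have := e_mem_of_notMem_zset I hg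
    have h2 : f g • ConstGrp.e k g = algebraMap k (ConstGrp.F k G) (f g) * ConstGrp.e k g := by
      rw [Algebra.smul_def]
    rw [h2]
    exact I.mul_mem_left _ this

theorem mem_iff_vanish_zset (I : Ideal (ConstGrp.F k G)) (f : ConstGrp.F k G) :
    f ∈ I ↔ ∀ g ∈ zset I, f g = 0 :=
  ⟨fun hf g hg => hg f hf, mem_of_vanish_zset I f⟩

variable (I : Ideal (ConstGrp.F k G)) [hI : Ideal.IsHopfIdeal k I]

theorem one_mem_zset : (1 : G) ∈ zset I := by
  intro f hf
  have := Submodule.IsCoideal.counit_eq_zero (I := I.restrictScalars k) (x := f) hf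
  exact this

theorem pair_lTensor_eq_zero {b : G} (hb : b ∈ zset I) (a : G)
    (y' : ConstGrp.F k G ⊗[k] ↥(I.restrictScalars k)) :
    ConstGrp.pair k G (LinearMap.lTensor (ConstGrp.F k G)
      (I.restrictScalars k).subtype y') (a, b) = 0 := by
  induction y' using TensorProduct.induction_on with
  | zero => simp
  | tmul u v =>
    rw [LinearMap.lTensor_tmul, ConstGrp.pair_tmul]
    have : ((I.restrictScalars k).subtype v) b = 0 := hb _ v.2
    rw [this, mul_zero]
  | add x y hx hy => rw [map_add, map_add, ConstGrp.add_apply, hx, hy, add_zero]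

theorem pair_rTensor_eq_zero {a : G} (ha : a ∈ zset I) (b : G)
    (z' : ↥(I.restrictScalars k) ⊗[k] ConstGrp.F k G) :
    ConstGrp.pair k G (LinearMap.rTensor (ConstGrp.F k G)
      (I.restrictScalars k).subtype z') (a, b) = 0 := by
  induction z' using TensorProduct.induction_on with
  | zero => simp
  | tmul u v =>
    rw [LinearMap.rTensor_tmul, ConstGrp.pair_tmul]
    have : ((I.restrictScalars k).subtype u) a = 0 := ha _ u.2
    rw [this, zero_mul]
  | add x y hx hy => rw [map_add, map_add, ConstGrp.add_apply, hx, hy, add_zero]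

theorem mul_mem_zset {a b : G} (ha : a ∈ zset I) (hb : b ∈ zset I) : a * b ∈ zset I := by
  intro f hf
  rw [← ConstGrp.pair_comul k G f a b]
  have hco : ∀ x ∈ I.restrictScalars k, Coalgebra.comul (R := k) x ∈
      LinearMap.range (LinearMap.lTensor (ConstGrp.F k G) (I.restrictScalars k).subtype) ⊔
        LinearMap.range (LinearMap.rTensor (ConstGrp.F k G) (I.restrictScalars k).subtype) :=
    ((Submodule.isCoideal_iff_comul_mem (I.restrictScalars k)).mp inferInstance).2
  have h1 := hco f hf
  rw [Submodule.mem_sup] at h1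
  obtain ⟨y, ⟨y', rfl⟩, z, ⟨z', rfl⟩, hyz⟩ := h1
  rw [← hyz, map_add, ConstGrp.add_apply, pair_lTensor_eq_zero I hb, pair_rTensor_eq_zero I ha,
    add_zero]

theorem inv_mem_zset {a : G} (ha : a ∈ zset I) : a⁻¹ ∈ zset I := by
  intro f hf
  have h1 := Ideal.IsHopfIdeal.antipode_mem (R := k) hf
  have h2 := ha _ h1
  rw [ConstGrp.antipode_apply] at h2
  exact h2

/-- the subgroup cut out by a Hopf ideal. -/
def zsub : Subgroup G where
  carrier := zset I
  mul_mem' ha hb := mul_mem_zset I ha hb
  one_mem' := one_mem_zset I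
  inv_mem' ha := inv_mem_zset I ha

theorem mem_zsub_iff (g : G) : g ∈ zsub I ↔ g ∈ zset I := Iff.rfl

end ZSet

section Integral

variable {k : Type u} [Field k] {G : Type u} [Group G] [Fintype G] [DecidableEq G]
variable (I : Ideal (ConstGrp.F k G)) [hI : Ideal.IsHopfIdeal k I]

noncomputable local instance : Fintype ↥(zsub I) := Fintype.ofFinite _

/-- the averaging functional over the subgroup of `I`. -/
noncomputable def avgLin : ConstGrp.F k G →ₗ[k] k :=
  ((Nat.card (zsub I) : ℕ) : k)⁻¹ • ∑ h : zsub I, (ConstGrp.ev k (h : G)).toLinearMap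

theorem avgLin_apply (f : ConstGrp.F k G) :
    avgLin I f = ((Nat.card (zsub I) : ℕ) : k)⁻¹ * ∑ h : zsub I, f (h : G) := by
  simp [avgLin, LinearMap.sum_apply]

theorem avgLin_eq_zero_of_mem {f : ConstGrp.F k G} (hf : f ∈ I) : avgLin I f = 0 := by
  rw [avgLin_apply]
  have : ∀ h : zsub I, f (h : G) = 0 := fun h => h.2 f hf
  simp [this]

theorem card_zsub_ne_zero (hG : ((Nat.card G : ℕ) : k) ≠ 0) :
    ((Nat.card (zsub I) : ℕ) : k) ≠ 0 := by
  intro h
  apply hG
  obtain ⟨m, hm⟩ := Subgroup.card_subgroup_dvd_card (zsub I)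
  rw [hm, Nat.cast_mul, h, zero_mul]

/-- the averaging functional on the quotient. -/
noncomputable def avgQ : (ConstGrp.F k G ⧸ I) →ₗ[k] k :=
  (I.restrictScalars k).liftQ (avgLin I) (fun _ hf => avgLin_eq_zero_of_mem I hf)

theorem avgQ_mk (f : ConstGrp.F k G) : avgQ I (Ideal.Quotient.mk I f) = avgLin I f := rfl

theorem lslice_map_mk (z : ConstGrp.F k G ⊗[k] ConstGrp.F k G) :
    lslice (avgQ I) (TensorProduct.map (Ideal.Quotient.mkₐ k I).toLinearMap
      (Ideal.Quotient.mkₐ k I).toLinearMap z) = Ideal.Quotient.mk I (lslice (avgLin I) z) := by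
  induction z using TensorProduct.induction_on with
  | zero => simp
  | tmul u v =>
    rw [TensorProduct.map_tmul, lslice_tmul, lslice_tmul]
    change avgQ I (Ideal.Quotient.mk I u) • Ideal.Quotient.mk I v = _
    rw [avgQ_mk]
    rfl
  | add x y hx hy => simp only [map_add, hx, hy]

theorem isLinearlyReductive_quotient (hG : ((Nat.card G : ℕ) : k) ≠ 0) :
    HopfRep.IsLinearlyReductive k (ConstGrp.F k G ⧸ I) := by
  classical
  intro V _ _ _ _
  have hc := card_zsub_ne_zero I hG
  have h1 : avgQ I 1 = 1 := by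
    change avgQ I (Ideal.Quotient.mk I 1) = 1
    rw [avgQ_mk, avgLin_apply]
    simp only [ConstGrp.one_apply, Finset.sum_const, Finset.card_univ, nsmul_eq_mul, mul_one]
    rw [← Nat.card_eq_fintype_card]
    exact inv_mul_cancel₀ hc
  have hα : @Hoch.IsComodHom k _ (ConstGrp.F k G ⧸ I) _ _ _ (ConstGrp.F k G ⧸ I) _ _ _ k _ _
      (HopfRep.Comod.trivial k (ConstGrp.F k G ⧸ I) k) (avgQ I) := by
    rw [isComodHom_trivial_iff]
    intro y
    obtain ⟨f, rfl⟩ := Ideal.Quotient.mk_surjective y
    rw [Bialgebra.Quotient.comul_mk, lslice_map_mk, avgQ_mk]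
    have h2 : avgLin I f • (1 : ConstGrp.F k G ⧸ I) =
        Ideal.Quotient.mk I (avgLin I f • (1 : ConstGrp.F k G)) := rfl
    rw [h2, ← sub_eq_zero, ← map_sub, Ideal.Quotient.eq_zero_iff_mem, mem_iff_vanish_zset]
    intro b hb
    rw [ConstGrp.sub_apply, ConstGrp.smul_apply, ConstGrp.one_apply, mul_one, sub_eq_zero,
      ConstGrp.comul_eq_sum]
    simp only [map_sum, map_smul, lslice_tmul, ConstGrp.sum_apply, ConstGrp.smul_apply,
      ConstGrp.e_apply]
    -- Σ_a Σ_c f(a c) * (avg(e a) * [b = c])
    have hav : ∀ a : G, avgLin I (ConstGrp.e k a) =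
        if a ∈ zsub I then ((Nat.card (zsub I) : ℕ) : k)⁻¹ else 0 := by
      intro a
      rw [avgLin_apply]
      split_ifs with ha
      · rw [Finset.sum_eq_single (⟨a, ha⟩ : zsub I)]
        · rw [ConstGrp.e_apply_self, mul_one]
        · intro h _ hh
          apply ConstGrp.e_apply_of_ne
          intro h'
          exact hh (Subtype.ext h')
        · intro h; exact absurd (Finset.mem_univ _) h
      · have : ∀ h : zsub I, ConstGrp.e k a (h : G) = 0 := by
          intro h
          apply ConstGrp.e_apply_of_ne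
          intro h'
          exact ha (h' ▸ h.2)
        simp [this]
    simp only [hav]
    have hin : ∀ x : G, ∑ x_1 : G, f (x * x_1) * ((if x ∈ zsub I then
        ((Nat.card (zsub I) : ℕ) : k)⁻¹ else 0) * if b = x_1 then 1 else 0) =
        f (x * b) * (if x ∈ zsub I then ((Nat.card (zsub I) : ℕ) : k)⁻¹ else 0) := by
      intro x
      rw [Finset.sum_eq_single b]
      · rw [if_pos rfl, mul_one]
      · intro c _ hc'
        rw [if_neg (Ne.symm hc'), mul_zero, mul_zero]
      · intro h; exact absurd (Finset.mem_univ _) h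
    simp only [hin]
    rw [avgLin_apply]
    have hsub : ∑ x : G, f (x * b) * (if x ∈ zsub I then ((Nat.card (zsub I) : ℕ) : k)⁻¹ else 0)
        = ∑ h : zsub I, f ((h : G) * b) * ((Nat.card (zsub I) : ℕ) : k)⁻¹ := by
      have h5 := Finset.sum_subtype (F := (inferInstance : Fintype ↥(zsub I)))
        (Finset.univ.filter (fun x => x ∈ zsub I))
        (p := fun x => x ∈ zsub I) (by simp)
        (fun x => f (x * b) * ((Nat.card (zsub I) : ℕ) : k)⁻¹)
      refine Eq.trans ?_ h5
      rw [Finset.sum_filter]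
      apply Finset.sum_congr rfl
      intro x _
      split_ifs <;> simp
    rw [hsub, ← Finset.sum_mul, mul_comm]
    congr 1
    exact Fintype.sum_equiv (Equiv.mulRight (⟨b, hb⟩ : zsub I)) _ _ (fun a => rfl)
  exact isSemisimpleComod_of_totalIntegral (avgQ I) hα h1

end Integral

end Groth.Agent.Lib.Helper25.CSTF
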