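import Groth.Agent.Lib.Helper25CSTFormalB
import Groth.Prelude.Def_W4c6stackyreslrsPsRefl
import Groth.Prelude.Def_ConstAct2

/-!
# Helper25CSTFormalC: the comodule dictionary for a finite group acting on a local algebra
(helper25)

Invariants, fixed points, the Hopf ideal of a subgroup, and the pseudo-reflection condition
`GLin.IsPseudoReflAt` for the cyclic subgroup generated by an element acting as a
pseudo-reflection on the cotangent space.
-/

set_option autoImplicit false
set_option linter.style.haveILetI false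
set_option linter.unusedSectionVars false
universe u

namespace Groth.Agent.Lib.Helper25.CSTF

open TensorProduct HopfRep Groth.Agent.Lib.Helper25 Module
open Groth.Agent.Lib.Helper25.ConstActLib

section Dict

variable {k : Type u} [Field k] {G : Type u} [Group G] [Fintype G] [DecidableEq G]
variable {R : Type u} [CommRing R] [Algebra k R] [MulSemiringAction G R] [SMulCommClass G k R]

noncomputable local instance instComodC : HopfRep.Comod k (ConstGrp.F k G) R :=
  ConstAct.comod k R G

local instance instCoactAlgC : GLin.IsCoactAlg k (ConstGrp.F k G) R := ConstAct.isCoactAlg k R G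

theorem coact_eq (b : R) : Comod.coact (k := k) (A := ConstGrp.F k G) b =
    ∑ g : G, (g • b) ⊗ₜ[k] ConstGrp.e k g := ConstAct.coactLin_apply k R G b

theorem invariants_eq : GLin.invariants k (ConstGrp.F k G) R = ConstAct.inv k R G := by
  apply SetLike.ext
  intro b
  rw [ConstAct.mem_inv, GLin.mem_invariants_iff, coact_eq]
  constructor
  · intro h γ
    have h1 := congrArg (sl k R G γ) h
    rw [map_sum, sl_tmul] at h1
    simp only [sl_tmul_e] at h1
    rw [Finset.sum_eq_single γ] at h1
    · rw [if_pos rfl] at h1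
      rw [h1]
      simp
    · intro δ _ hδ
      rw [if_neg (Ne.symm hδ)]
    · intro h; exact absurd (Finset.mem_univ γ) h
  · intro h
    simp only [h]
    rw [← TensorProduct.tmul_sum, ConstGrp.sum_e]

theorem isFixedPt_of_invariant (x : R →ₐ[k] k) (hx : ∀ (g : G) (a : R), x (g • a) = x a) :
    GLin.IsFixedPt k (ConstGrp.F k G) x := by
  unfold GLin.IsFixedPt GLin.orbitHom
  apply AlgHom.ext
  intro f
  simp only [AlgHom.coe_comp, Function.comp_apply, GLin.coactAlgHom_apply]
  rw [coact_eq, map_sum]
  simp only [Algebra.TensorProduct.map_tmul, AlgHom.coe_id, id_eq, hx]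
  rw [← TensorProduct.tmul_sum, ConstGrp.sum_e]
  simp [Algebra.ofId_apply, Algebra.algebraMap_eq_smul_one]

end Dict

section VanIdeal

variable {k : Type u} [Field k] {G : Type u} [Group G] [Fintype G] [DecidableEq G]

/-- the ideal of functions vanishing on a subgroup. -/
def vanIdeal (k : Type u) [Field k] (H : Subgroup G) : Ideal (ConstGrp.F k G) where
  carrier := {f | ∀ h ∈ H, f h = 0}
  add_mem' {a b} ha hb := by
    intro h hh
    rw [ConstGrp.add_apply, ha h hh, hb h hh, add_zero]
  zero_mem' := fun h _ => rfl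
  smul_mem' c f hf := by
    intro h hh
    rw [smul_eq_mul, ConstGrp.mul_apply, hf h hh, mul_zero]

theorem mem_vanIdeal_iff (H : Subgroup G) (f : ConstGrp.F k G) :
    f ∈ vanIdeal k H ↔ ∀ h ∈ H, f h = 0 := Iff.rfl

theorem e_mem_vanIdeal (H : Subgroup G) {g : G} (hg : g ∉ H) : ConstGrp.e k g ∈ vanIdeal k H := by
  intro h hh
  apply ConstGrp.e_apply_of_ne
  intro h'
  exact hg (h' ▸ hh)

instance isHopfIdeal_vanIdeal (H : Subgroup G) : (vanIdeal k H).IsHopfIdeal k := by
  classical
  haveI : ((vanIdeal k H).restrictScalars k).IsCoideal := by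
    refine Submodule.IsCoideal.mk ?_ ?_
    · intro f hf
      exact hf 1 H.one_mem
    · intro f hf
      rw [ConstGrp.comul_eq_sum]
      simp only [map_sum, map_smul, TensorProduct.map_tmul]
      apply Finset.sum_eq_zero
      intro a _
      apply Finset.sum_eq_zero
      intro b _
      by_cases ha : a ∈ H
      · by_cases hb : b ∈ H
        · have : f (a * b) = 0 := hf _ (H.mul_mem ha hb)
          rw [this, zero_smul]
        · have : ((vanIdeal k H).restrictScalars k).mkQ (ConstGrp.e k b) = 0 := by
            rw [Submodule.mkQ_apply, Submodule.Quotient.mk_eq_zero]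
            exact e_mem_vanIdeal H hb
          rw [this, TensorProduct.tmul_zero, smul_zero]
      · have : ((vanIdeal k H).restrictScalars k).mkQ (ConstGrp.e k a) = 0 := by
          rw [Submodule.mkQ_apply, Submodule.Quotient.mk_eq_zero]
          exact e_mem_vanIdeal H ha
        rw [this, TensorProduct.zero_tmul, smul_zero]
  refine Ideal.IsHopfIdeal.mk ?_
  intro f hf h hh
  rw [ConstGrp.antipode_apply]
  exact hf _ (H.inv_mem hh)

/-- evaluation at a point of the subgroup, on the quotient. -/
noncomputable def evQ (H : Subgroup G) (h : G) (hh : h ∈ H) :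
    (ConstGrp.F k G ⧸ vanIdeal k H) →ₗ[k] k :=
  ((vanIdeal k H).restrictScalars k).liftQ (ConstGrp.ev k h).toLinearMap
    (fun f hf => hf h hh)

theorem evQ_mk (H : Subgroup G) (h : G) (hh : h ∈ H) (f : ConstGrp.F k G) :
    evQ H h hh (Ideal.Quotient.mk _ f) = f h := rfl

end VanIdeal

section PsRefl

variable {k : Type u} [Field k] {G : Type u} [Group G] [Fintype G] [DecidableEq G]
variable {R : Type u} [CommRing R] [Algebra k R] [MulSemiringAction G R] [SMulCommClass G k R]

noncomputable local instance instComodC' : HopfRep.Comod k (ConstGrp.F k G) R :=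
  ConstAct.comod k R G

local instance instCoactAlgC' : GLin.IsCoactAlg k (ConstGrp.F k G) R :=
  ConstAct.isCoactAlg k R G

variable (x : R →ₐ[k] k)

theorem mem_cotFixedLift_vanIdeal_iff (H : Subgroup G) (f : R) :
    f ∈ GLin.cotFixedLift k (ConstGrp.F k G) R x (vanIdeal k H) ↔
      ∀ h ∈ H, h • f - f ∈ RingHom.ker x ^ 2 := by
  classical
  unfold GLin.cotFixedLift
  rw [LinearMap.mem_eqLocus]
  simp only [LinearMap.comp_apply, LinearMap.flip_apply, TensorProduct.mk_apply]
  rw [coact_eq, map_sum]
  simp only [TensorProduct.map_tmul]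
  constructor
  · intro h0 h hh
    have h1 := congrArg ((TensorProduct.rid k (R ⧸ RingHom.ker x ^ 2)).toLinearMap ∘ₗ
      LinearMap.lTensor (R ⧸ RingHom.ker x ^ 2) (evQ H h hh)) h0
    simp only [LinearMap.comp_apply, map_sum, LinearMap.lTensor_tmul, LinearEquiv.coe_coe,
      TensorProduct.rid_tmul] at h1
    have he : ∀ g : G, (evQ H h hh) ((Ideal.Quotient.mkₐ k (vanIdeal k H)).toLinearMap
        (ConstGrp.e k g)) = if h = g then 1 else 0 := by
      intro g
      change evQ H h hh (Ideal.Quotient.mk _ (ConstGrp.e k g)) = _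
      rw [evQ_mk, ConstGrp.e_apply]
    have h1' : (evQ H h hh) (1 : ConstGrp.F k G ⧸ vanIdeal k H) = 1 := by
      change evQ H h hh (Ideal.Quotient.mk _ (1 : ConstGrp.F k G)) = 1
      rw [evQ_mk, ConstGrp.one_apply]
    simp only [he, h1', one_smul, ite_smul, zero_smul, Finset.sum_ite_eq, Finset.mem_univ,
      if_true] at h1
    rw [← Ideal.Quotient.eq]
    exact h1
  · intro h0
    have hterm : ∀ g : G, (Ideal.Quotient.mkₐ k (RingHom.ker x ^ 2)).toLinearMap (g • f) ⊗ₜ[k]
        (Ideal.Quotient.mkₐ k (vanIdeal k H)).toLinearMap (ConstGrp.e k g) =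
        (Ideal.Quotient.mkₐ k (RingHom.ker x ^ 2)).toLinearMap f ⊗ₜ[k]
        (Ideal.Quotient.mkₐ k (vanIdeal k H)).toLinearMap (ConstGrp.e k g) := by
      intro g
      by_cases hg : g ∈ H
      · have : (Ideal.Quotient.mkₐ k (RingHom.ker x ^ 2)).toLinearMap (g • f) =
            (Ideal.Quotient.mkₐ k (RingHom.ker x ^ 2)).toLinearMap f := by
          change Ideal.Quotient.mk _ (g • f) = Ideal.Quotient.mk _ f
          rw [Ideal.Quotient.eq]
          exact h0 g hg
        rw [this]
      · have : (Ideal.Quotient.mkₐ k (vanIdeal k H)).toLinearMap (ConstGrp.e k g) = 0 := by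
          change Ideal.Quotient.mk _ (ConstGrp.e k g) = 0
          rw [Ideal.Quotient.eq_zero_iff_mem]
          exact e_mem_vanIdeal H hg
        rw [this, TensorProduct.tmul_zero, TensorProduct.tmul_zero]
    simp only [hterm]
    rw [← TensorProduct.tmul_sum, ← map_sum, ConstGrp.sum_e]
    rfl

variable {x}

theorem smul_mem_ker_pow (hx : ∀ (g : G) (a : R), x (g • a) = x a) (g : G) (n : ℕ) {a : R}
    (ha : a ∈ RingHom.ker x ^ n) : g • a ∈ RingHom.ker x ^ n := by
  have h1 : RingHom.ker x ≤ (RingHom.ker x).comap (MulSemiringAction.toRingHom G R g) := by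
    intro b hb
    rw [Ideal.mem_comap, RingHom.mem_ker]
    change x (g • b) = 0
    rw [hx]
    exact RingHom.mem_ker.mp hb
  have h2 : RingHom.ker x ^ n ≤ (RingHom.ker x ^ n).comap (MulSemiringAction.toRingHom G R g) :=
    (Ideal.pow_right_mono h1 n).trans (Ideal.le_comap_pow _ n)
  exact h2 ha

theorem smul_sub_mem_sq_of_mem_zpowers (hx : ∀ (g : G) (a : R), x (g • a) = x a) (g : G) (f : R)
    (hg : g • f - f ∈ RingHom.ker x ^ 2) {h : G} (hh : h ∈ Subgroup.zpowers g) :
    h • f - f ∈ RingHom.ker x ^ 2 := by
  let P : Subgroup G :=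
    { carrier := {h | h • f - f ∈ RingHom.ker x ^ 2}
      mul_mem' := by
        intro a b ha hb
        have : (a * b) • f - f = a • (b • f - f) + (a • f - f) := by
          rw [mul_smul, smul_sub]; ring
        change (a * b) • f - f ∈ RingHom.ker x ^ 2
        rw [this]
        exact Ideal.add_mem _ (smul_mem_ker_pow hx a 2 hb) ha
      one_mem' := by
        change (1 : G) • f - f ∈ RingHom.ker x ^ 2
        rw [one_smul, sub_self]
        exact Ideal.zero_mem _
      inv_mem' := by
        intro a ha
        have : a⁻¹ • f - f = -(a⁻¹ • (a • f - f)) := by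
          rw [smul_sub, inv_smul_smul]; ring
        change a⁻¹ • f - f ∈ RingHom.ker x ^ 2
        rw [this]
        exact Ideal.neg_mem_iff _ |>.mpr (smul_mem_ker_pow hx a⁻¹ 2 ha) }
  have : Subgroup.zpowers g ≤ P := by
    rw [Subgroup.zpowers_le]
    exact hg
  exact this hh

theorem mem_cotFixedLift_zpowers_iff (hx : ∀ (g : G) (a : R), x (g • a) = x a) (g : G) (f : R) :
    f ∈ GLin.cotFixedLift k (ConstGrp.F k G) R x (vanIdeal k (Subgroup.zpowers g)) ↔
      g • f - f ∈ RingHom.ker x ^ 2 := by
  rw [mem_cotFixedLift_vanIdeal_iff]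
  constructor
  · intro h
    exact h g (Subgroup.mem_zpowers g)
  · intro h h' hh'
    exact smul_sub_mem_sq_of_mem_zpowers hx g f h hh'

end PsRefl

end Groth.Agent.Lib.Helper25.CSTF
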