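import Groth.Agent.Lib.Helper25CSTFormalC

/-!
# Helper25CSTFormalD: the rank computation for a pseudo-reflection (helper25)
-/

set_option autoImplicit false
set_option linter.style.haveILetI false
set_option linter.unusedSectionVars false
universe u

namespace Groth.Agent.Lib.Helper25.CSTF

open TensorProduct HopfRep Groth.Agent.Lib.Helper25 Module

section Rank

variable {k : Type u} [Field k] {G : Type u} [Group G] [Fintype G] [DecidableEq G]
variable {R : Type u} [CommRing R] [Algebra k R] [MulSemiringAction G R] [SMulCommClass G k R]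

noncomputable local instance instComodD : HopfRep.Comod k (ConstGrp.F k G) R :=
  ConstAct.comod k R G

local instance instCoactAlgD : GLin.IsCoactAlg k (ConstGrp.F k G) R :=
  ConstAct.isCoactAlg k R G

variable {x : R →ₐ[k] k} (hx : ∀ (g : G) (a : R), x (g • a) = x a) (g : G)

/-- the automorphism of `R / m²` induced by `g`. -/
noncomputable def gbar : (R ⧸ RingHom.ker x ^ 2) →ₐ[k] (R ⧸ RingHom.ker x ^ 2) :=
  Ideal.quotientMapₐ (RingHom.ker x ^ 2) (MulSemiringAction.toAlgHom k R g)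
    (by
      intro f hf
      rw [Ideal.mem_comap]
      exact smul_mem_ker_pow hx g 2 hf)

theorem gbar_mk (f : R) : gbar hx g (Ideal.Quotient.mk _ f) = Ideal.Quotient.mk _ (g • f) := rfl

/-- the operator `g - 1` on `R / m²`. -/
noncomputable def Tg : (R ⧸ RingHom.ker x ^ 2) →ₗ[k] (R ⧸ RingHom.ker x ^ 2) :=
  (gbar hx g).toLinearMap - LinearMap.id

theorem Tg_mk (f : R) : Tg hx g (Ideal.Quotient.mk _ f) = Ideal.Quotient.mk _ (g • f - f) := by
  rw [Tg, LinearMap.sub_apply, AlgHom.toLinearMap_apply, gbar_mk, LinearMap.id_apply, map_sub]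

/-- the functional induced by `x` on `R / m²`. -/
noncomputable def xbar (x : R →ₐ[k] k) : (R ⧸ RingHom.ker x ^ 2) →ₗ[k] k :=
  (Ideal.Quotient.liftₐ (RingHom.ker x ^ 2) x
    (by
      intro f hf
      have h1 : RingHom.ker x ^ 2 ≤ RingHom.ker x := Ideal.pow_le_self two_ne_zero
      exact RingHom.mem_ker.mp (h1 hf))).toLinearMap

theorem xbar_mk (f : R) : xbar x (Ideal.Quotient.mk _ f) = x f := rfl

theorem mem_cotSpace_iff (v : R ⧸ RingHom.ker x ^ 2) :
    v ∈ GLin.cotSpace k R x ↔ xbar x v = 0 := by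
  unfold GLin.cotSpace
  rw [Submodule.mem_map]
  constructor
  · rintro ⟨f, hf, rfl⟩
    change xbar x (Ideal.Quotient.mk _ f) = 0
    rw [xbar_mk]
    exact RingHom.mem_ker.mp hf
  · intro h
    obtain ⟨f, rfl⟩ := Ideal.Quotient.mk_surjective v
    rw [xbar_mk] at h
    exact ⟨f, RingHom.mem_ker.mpr h, rfl⟩

theorem cotSpace_eq_ker : GLin.cotSpace k R x = LinearMap.ker (xbar x) := by
  ext v
  rw [mem_cotSpace_iff, LinearMap.mem_ker]

theorem finrank_quot_sq [Module.Finite k (R ⧸ RingHom.ker x ^ 2)] :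
    finrank k (R ⧸ RingHom.ker x ^ 2) = finrank k (GLin.cotSpace k R x) + 1 := by
  have h1 := LinearMap.finrank_range_add_finrank_ker (xbar x)
  have h2 : LinearMap.range (xbar x) = ⊤ := by
    rw [LinearMap.range_eq_top]
    intro c
    refine ⟨Ideal.Quotient.mk _ (algebraMap k R c), ?_⟩
    rw [xbar_mk]
    simp
  rw [h2, finrank_top, finrank_self, ← cotSpace_eq_ker] at h1
  omega

theorem cotFixed_zpowers_eq :
    GLin.cotFixed k (ConstGrp.F k G) R x (vanIdeal k (Subgroup.zpowers g)) =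
      GLin.cotSpace k R x ⊓ LinearMap.ker (Tg hx g) := by
  ext v
  unfold GLin.cotFixed
  rw [Submodule.mem_map, Submodule.mem_inf]
  constructor
  · rintro ⟨f, ⟨hf1, hf2⟩, rfl⟩
    refine ⟨?_, ?_⟩
    · unfold GLin.cotSpace
      exact Submodule.mem_map_of_mem hf1
    · rw [LinearMap.mem_ker]
      change Tg hx g (Ideal.Quotient.mk _ f) = 0
      rw [Tg_mk, Ideal.Quotient.eq_zero_iff_mem]
      exact (mem_cotFixedLift_zpowers_iff hx g f).mp hf2
  · rintro ⟨h1, h2⟩
    unfold GLin.cotSpace at h1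
    rw [Submodule.mem_map] at h1
    obtain ⟨f, hf, rfl⟩ := h1
    refine ⟨f, ⟨hf, ?_⟩, rfl⟩
    rw [SetLike.mem_coe, mem_cotFixedLift_zpowers_iff hx g f]
    rw [LinearMap.mem_ker] at h2
    change Tg hx g (Ideal.Quotient.mk _ f) = 0 at h2
    rw [Tg_mk, Ideal.Quotient.eq_zero_iff_mem] at h2
    exact h2

/-- the ideal generated by the `g • a - a`. -/
abbrev moveIdeal (g : G) : Ideal R := Ideal.span {y : R | ∃ a, y = g • a - a}

theorem finrank_move_add_le [Module.Finite k (R ⧸ RingHom.ker x ^ 2)] :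
    finrank k (R ⧸ (moveIdeal g ⊔ RingHom.ker x ^ 2)) +
      finrank k ↥((GLin.cotSpace k R x).map (Tg hx g)) ≤ finrank k (R ⧸ RingHom.ker x ^ 2) := by
  let q : (R ⧸ RingHom.ker x ^ 2) →ₐ[k] (R ⧸ (moveIdeal g ⊔ RingHom.ker x ^ 2)) :=
    Ideal.Quotient.factorₐ k (le_sup_right : RingHom.ker x ^ 2 ≤ moveIdeal g ⊔ RingHom.ker x ^ 2)
  have hq : Function.Surjective q :=
    Ideal.Quotient.factor_surjective le_sup_right
  have h1 := LinearMap.finrank_range_add_finrank_ker q.toLinearMap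
  have h2 : LinearMap.range q.toLinearMap = ⊤ := LinearMap.range_eq_top.mpr hq
  have h3 : (GLin.cotSpace k R x).map (Tg hx g) ≤ LinearMap.ker q.toLinearMap := by
    rintro _ ⟨v, _, rfl⟩
    obtain ⟨f, rfl⟩ := Ideal.Quotient.mk_surjective v
    rw [LinearMap.mem_ker, Tg_mk]
    change Ideal.Quotient.mk (moveIdeal g ⊔ RingHom.ker x ^ 2) (g • f - f) = 0
    rw [Ideal.Quotient.eq_zero_iff_mem]
    exact Ideal.mem_sup_left (Ideal.subset_span ⟨f, rfl⟩)
  have h4 := Submodule.finrank_mono h3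
  rw [h2, finrank_top] at h1
  omega

include hx in
theorem isPseudoReflAt_zpowers [Module.Finite k (R ⧸ RingHom.ker x ^ 2)]
    (hrank : finrank k ↥(GLin.cotSpace k R x) ≤
      finrank k (R ⧸ (moveIdeal g ⊔ RingHom.ker x ^ 2)))
    (hnt : ∃ f ∈ RingHom.ker x, g • f - f ∉ RingHom.ker x ^ 2) :
    GLin.IsPseudoReflAt k (ConstGrp.F k G) R x (vanIdeal k (Subgroup.zpowers g)) := by
  refine ⟨inferInstance, ?_⟩
  rw [cotFixed_zpowers_eq hx g]
  have h1 := finrank_move_add_le hx g
  have h2 := finrank_quot_sq (x := x)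
  have hle : finrank k ↥((GLin.cotSpace k R x).map (Tg hx g)) ≤ 1 := by omega
  have hge : 1 ≤ finrank k ↥((GLin.cotSpace k R x).map (Tg hx g)) := by
    obtain ⟨f, hf, hfn⟩ := hnt
    rw [Nat.one_le_iff_ne_zero, Ne, Submodule.finrank_eq_zero]
    intro h0
    have hmem : Tg hx g (Ideal.Quotient.mk _ f) ∈ (GLin.cotSpace k R x).map (Tg hx g) := by
      apply Submodule.mem_map_of_mem
      rw [mem_cotSpace_iff, xbar_mk]
      exact RingHom.mem_ker.mp hf
    rw [h0, Submodule.mem_bot, Tg_mk, Ideal.Quotient.eq_zero_iff_mem] at hmem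
    exact hfn hmem
  -- rank-nullity on `W`
  have h3 := LinearMap.finrank_range_add_finrank_ker ((Tg hx g).domRestrict (GLin.cotSpace k R x))
  have h4 : LinearMap.range ((Tg hx g).domRestrict (GLin.cotSpace k R x)) = (GLin.cotSpace k R x).map (Tg hx g) := by
    rw [LinearMap.domRestrict, LinearMap.range_comp, Submodule.range_subtype]
  have h5 : finrank k ↥(LinearMap.ker ((Tg hx g).domRestrict (GLin.cotSpace k R x))) =
      finrank k ↥(GLin.cotSpace k R x ⊓ LinearMap.ker (Tg hx g)) := by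
    rw [LinearMap.ker_domRestrict]
    have := Submodule.finrank_map_subtype_eq (GLin.cotSpace k R x) (Submodule.comap (GLin.cotSpace k R x).subtype (LinearMap.ker (Tg hx g)))
    rw [← this, Submodule.map_comap_subtype]
  rw [h4, h5] at h3
  omega

end Rank

end Groth.Agent.Lib.Helper25.CSTF
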