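import Groth.Agent.Lib.Helper25CSTFormalD

/-!
# Helper25CSTFormalE: generation by pseudo-reflections for a finite group (helper25)
-/

set_option autoImplicit false
set_option linter.style.haveILetI false
set_option linter.unusedSectionVars false
universe u

namespace Groth.Agent.Lib.Helper25.CSTF

open TensorProduct HopfRep Groth.Agent.Lib.Helper25 Module

section Triv

variable {k : Type u} [Field k] {G : Type u} [Group G] [Fintype G] [DecidableEq G]
variable {R : Type u} [CommRing R] [Algebra k R] [MulSemiringAction G R] [SMulCommClass G k R]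
variable {x : R →ₐ[k] k} (hx : ∀ (g : G) (a : R), x (g • a) = x a) (g : G)

include hx in
theorem smul_sub_mem_pow_succ (htriv : ∀ f ∈ RingHom.ker x, g • f - f ∈ RingHom.ker x ^ 2) :
    ∀ (i : ℕ) (f : R), f ∈ RingHom.ker x ^ i → g • f - f ∈ RingHom.ker x ^ (i + 1) := by
  intro i
  induction i with
  | zero =>
    intro f _
    have h1 : g • f - f = g • (f - algebraMap k R (x f)) - (f - algebraMap k R (x f)) := by
      rw [smul_sub, smul_algebraMap]; ring
    rw [h1, zero_add, pow_one]
    have h2 : f - algebraMap k R (x f) ∈ RingHom.ker x := by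
      rw [RingHom.mem_ker, map_sub, AlgHom.commutes]
      simp
    exact Ideal.pow_le_self two_ne_zero (htriv _ h2)
  | succ i ih =>
    intro f hf
    rw [pow_succ] at hf
    refine Submodule.mul_induction_on hf ?_ ?_
    · intro a ha b hb
      have h1 : g • (a * b) - a * b = (g • a - a) * (g • b) + a * (g • b - b) := by
        rw [smul_mul']; ring
      rw [h1]
      refine Ideal.add_mem _ ?_ ?_
      · have : RingHom.ker x ^ (i + 1 + 1) = RingHom.ker x ^ (i + 1) * RingHom.ker x := pow_succ _ _
        rw [this]
        refine Ideal.mul_mem_mul (ih a ha) ?_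
        have := smul_mem_ker_pow hx g 1 (a := b) (by rwa [pow_one])
        rwa [pow_one] at this
      · have : RingHom.ker x ^ (i + 1 + 1) = RingHom.ker x ^ i * RingHom.ker x ^ 2 := by
          rw [← pow_add]
        rw [this]
        exact Ideal.mul_mem_mul ha (htriv b hb)
    · intro a b ha hb
      have : g • (a + b) - (a + b) = (g • a - a) + (g • b - b) := by
        rw [smul_add]; ring
      rw [this]
      exact Ideal.add_mem _ ha hb

include hx in
theorem pow_smul_sub_mem_pow_succ (htriv : ∀ f ∈ RingHom.ker x, g • f - f ∈ RingHom.ker x ^ 2)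
    (i : ℕ) (b : R) (hb : b ∈ RingHom.ker x ^ i) :
    ∀ j : ℕ, g ^ j • b - b ∈ RingHom.ker x ^ (i + 1) := by
  intro j
  induction j with
  | zero =>
    rw [pow_zero, one_smul, sub_self]
    exact Ideal.zero_mem _
  | succ j ih =>
    have h1 : g ^ (j + 1) • b - b = g • (g ^ j • b - b) + (g • b - b) := by
      rw [pow_succ', mul_smul, smul_sub]; ring
    rw [h1]
    exact Ideal.add_mem _ (smul_mem_ker_pow hx g _ ih) (smul_sub_mem_pow_succ hx g htriv i b hb)

include hx in
/-- an element of order invertible in `k` acting trivially on the cotangent space of a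
Noetherian local `k`-algebra acts trivially. -/
theorem smul_eq_of_trivial_cot [IsNoetherianRing R] [IsLocalRing R]
    (htriv : ∀ f ∈ RingHom.ker x, g • f - f ∈ RingHom.ker x ^ 2)
    (hN : ((orderOf g : ℕ) : k) ≠ 0) (a : R) : g • a = a := by
  classical
  by_contra hne
  set b := g • a - a with hb
  have hb0 : b ≠ 0 := fun h => hne (sub_eq_zero.mp h)
  have hkx : RingHom.ker x ≠ ⊤ := by
    intro h
    have : (1 : R) ∈ RingHom.ker x := by rw [h]; trivial
    rw [RingHom.mem_ker, map_one] at this
    exact one_ne_zero this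
  have hinf := Ideal.iInf_pow_eq_bot_of_isLocalRing (RingHom.ker x) hkx
  have hex : ∃ i : ℕ, b ∉ RingHom.ker x ^ (i + 1) := by
    by_contra hall
    push Not at hall
    apply hb0
    have : b ∈ ⨅ i, RingHom.ker x ^ i := by
      rw [Ideal.mem_iInf]
      intro i
      cases i with
      | zero => rw [pow_zero, Ideal.one_eq_top]; trivial
      | succ i => exact hall i
    rw [hinf] at this
    exact this
  let i := Nat.find hex
  have hi1 : b ∉ RingHom.ker x ^ (i + 1) := Nat.find_spec hex
  have hi0 : b ∈ RingHom.ker x ^ i := by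
    by_cases h0 : i = 0
    · rw [h0, pow_zero, Ideal.one_eq_top]; trivial
    · obtain ⟨i', hi'⟩ := Nat.exists_eq_succ_of_ne_zero h0
      have := Nat.find_min hex (m := i') (by omega)
      push Not at this
      rw [hi']
      exact this
  set N := orderOf g with hNdef
  -- telescoping
  have htel : ∑ j ∈ Finset.range N, g ^ j • b = 0 := by
    have h1 : ∀ j : ℕ, g ^ j • b = g ^ (j + 1) • a - g ^ j • a := by
      intro j
      rw [hb, smul_sub, pow_succ, mul_smul]
    simp only [h1]
    rw [Finset.sum_range_sub (fun j => g ^ j • a), pow_zero, one_smul, hNdef, pow_orderOf_eq_one,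
      one_smul, sub_self]
  have hsum : ∑ j ∈ Finset.range N, g ^ j • b =
      (N : R) * b + ∑ j ∈ Finset.range N, (g ^ j • b - b) := by
    rw [Finset.sum_sub_distrib, Finset.sum_const, Finset.card_range, nsmul_eq_mul]
    ring
  have hmem : (N : R) * b ∈ RingHom.ker x ^ (i + 1) := by
    have h2 : (N : R) * b = - ∑ j ∈ Finset.range N, (g ^ j • b - b) := by
      rw [eq_neg_iff_add_eq_zero, ← hsum, htel]
    rw [h2]
    refine Ideal.neg_mem_iff _ |>.mpr (Ideal.sum_mem _ (fun j _ => ?_))
    exact pow_smul_sub_mem_pow_succ hx g htriv i b hi0 j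
  apply hi1
  have h3 : b = algebraMap k R ((N : k)⁻¹) * ((N : R) * b) := by
    have : (N : R) = algebraMap k R (N : k) := by simp
    rw [this, ← mul_assoc, ← map_mul, inv_mul_cancel₀ hN, map_one, one_mul]
  rw [h3]
  exact Ideal.mul_mem_left _ _ hmem

end Triv

section Gen

variable {k : Type u} [Field k] {G : Type u} [Group G] [Fintype G] [DecidableEq G]
variable {R : Type u} [CommRing R] [Algebra k R] [MulSemiringAction G R] [SMulCommClass G k R]

noncomputable local instance instComodE : HopfRep.Comod k (ConstGrp.F k G) R :=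
  ConstAct.comod k R G

local instance instCoactAlgE : GLin.IsCoactAlg k (ConstGrp.F k G) R :=
  ConstAct.isCoactAlg k R G

variable {x : R →ₐ[k] k} (hx : ∀ (g : G) (a : R), x (g • a) = x a)

include hx in
theorem isGenByPseudoReflAt_of_closure [Module.Finite k (R ⧸ RingHom.ker x ^ 2)]
    [IsNoetherianRing R] [IsLocalRing R] [FaithfulSMul G R]
    (hcard : ((Nat.card G : ℕ) : k) ≠ 0)
    (hgen : Subgroup.closure {g : G | finrank k ↥(GLin.cotSpace k R x) ≤
      finrank k (R ⧸ (moveIdeal g ⊔ RingHom.ker x ^ 2))} = ⊤) :
    GLin.IsGenByPseudoReflAt k (ConstGrp.F k G) R x := by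
  unfold GLin.IsGenByPseudoReflAt GLin.genIdealAt
  rw [sSup_eq_bot]
  rintro J ⟨hJ, hJle⟩
  haveI := hJ
  have hz : zsub J = ⊤ := by
    rw [eq_top_iff, ← hgen, Subgroup.closure_le]
    intro g hg
    change g ∈ zset J
    by_cases htriv : ∀ f ∈ RingHom.ker x, g • f - f ∈ RingHom.ker x ^ 2
    · have hN : ((orderOf g : ℕ) : k) ≠ 0 := by
        intro h0
        apply hcard
        obtain ⟨m, hm⟩ := orderOf_dvd_natCard g
        rw [hm, Nat.cast_mul, h0, zero_mul]
      have h1 : g = 1 := by
        apply FaithfulSMul.eq_of_smul_eq_smul (α := R)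
        intro a
        rw [one_smul]
        exact smul_eq_of_trivial_cot hx g htriv hN a
      rw [h1]
      exact one_mem_zset J
    · push Not at htriv
      have hps := isPseudoReflAt_zpowers hx g hg htriv
      have hle := hJle _ hps
      intro f hf
      exact hle hf g (Subgroup.mem_zpowers g)
  rw [eq_bot_iff]
  intro f hf
  rw [Ideal.mem_bot]
  apply ConstGrp.ext
  intro g
  have : g ∈ zsub J := by rw [hz]; trivial
  exact this f hf

end Gen

end Groth.Agent.Lib.Helper25.CSTF
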