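import Groth.Agent.Lib.Helper25CSTKey

/-!
# Helper25CSTIndep: Chevalley's independence argument (helper25)

Elements of `S` which are linearly independent over `k` modulo the Hilbert ideal are linearly
independent over the invariants.
-/

set_option autoImplicit false
set_option linter.style.haveILetI false
set_option linter.unusedSectionVars false
universe u

namespace Groth.Agent.Lib.Helper25.CST

open TensorProduct HopfRep MvPolynomial Groth.Agent.Lib.Helper25 Module

section Indep

variable {k : Type u} [Field k] {A : Type u} [CommRing A] [HopfAlgebra k A]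
variable {ι : Type u} [Fintype ι] [cS : Comod k A (MvPolynomial ι k)]
  [GLin.IsCoactAlg k A (MvPolynomial ι k)]

local notation "S" => MvPolynomial ι k

theorem sub_C_constantCoeff_mem_mSet {c : S} (hc : c ∈ GLin.invariants k A S) :
    c - C (constantCoeff c) ∈ mSet k A ι := by
  refine ⟨Subalgebra.sub_mem _ hc (C_mem_fixedPts _), ?_⟩
  rw [map_sub, constantCoeff_C, sub_self]

theorem mSet_subset_hilbIdeal {μ : S} (hμ : μ ∈ mSet k A ι) : μ ∈ hilbIdeal k A ι :=
  Ideal.subset_span hμ

theorem indep_of_indep_mod (hG : IsLinearlyReductive k A)
    (hsub : ∀ (I : Ideal A) [I.IsHopfIdeal k], HopfRep.IsLinearlyReductive k (A ⧸ I))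
    (hlin : GLin.IsLinear k A ι) (hgen : GLin.IsGenByPseudoRefl k A ι) :
    ∀ (n : ℕ) (e : Fin n → S),
      (∀ l : Fin n → k, (∑ j, C (l j) * e j) ∈ hilbIdeal k A ι → ∀ j, l j = 0) →
      ∀ b : Fin n → S, (∀ j, b j ∈ GLin.invariants k A S) → ∑ j, b j * e j = 0 →
        ∀ j, b j = 0 := by
  classical
  intro n
  induction n with
  | zero => intro e _ b _ _ j; exact j.elim0
  | succ n ih =>
    intro e hind b hb hrel
    by_cases hmin : ∀ (c : Fin n → S) (μ : S), (∀ i, c i ∈ GLin.invariants k A S) →
        μ ∈ mSet k A ι → b 0 ≠ ∑ i : Fin n, c i * b i.succ + μ * b 0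
    · exfalso
      have h1 := key_lemma hG hsub hlin hgen n b hb hmin ((e 0).totalDegree + 1) e
        (Nat.lt_succ_self _) hrel
      have h2 := hind (Pi.single 0 1) (by
        rw [Finset.sum_eq_single 0]
        · simpa using h1
        · intro j _ hj
          simp [Pi.single_eq_of_ne hj]
        · intro h; exact absurd (Finset.mem_univ _) h) 0
      simp at h2
    · push Not at hmin
      obtain ⟨c, μ, hc, hμ, hb0⟩ := hmin
      have hrel0 : b 0 * e 0 + ∑ j : Fin n, b j.succ * e j.succ = 0 := by
        rw [← hrel, Fin.sum_univ_succ]
      -- new family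
      have hrel' : ∑ j : Fin n, b j.succ * (c j * e 0 + (1 - μ) * e j.succ) = 0 := by
        have e1 : ∑ j : Fin n, b j.succ * (c j * e 0 + (1 - μ) * e j.succ) =
            (∑ j : Fin n, c j * b j.succ) * e 0 + (1 - μ) * ∑ j : Fin n, b j.succ * e j.succ := by
          rw [Finset.sum_mul, Finset.mul_sum, ← Finset.sum_add_distrib]
          apply Finset.sum_congr rfl
          intro j _
          ring
        have e2 : ∑ j : Fin n, c j * b j.succ = b 0 - μ * b 0 := by
          rw [eq_sub_iff_add_eq]
          exact hb0.symm
        have e3 : ∑ j : Fin n, b j.succ * e j.succ = -(b 0 * e 0) := by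
          rw [eq_neg_iff_add_eq_zero, add_comm]
          exact hrel0
        rw [e1, e2, e3]
        ring
      have hind' : ∀ l : Fin n → k,
          (∑ j, C (l j) * (c j * e 0 + (1 - μ) * e j.succ)) ∈ hilbIdeal k A ι →
          ∀ j, l j = 0 := by
        intro l hl
        set l0 : k := ∑ j, l j * constantCoeff (c j) with hl0
        have key : (∑ j : Fin (n + 1), C ((Fin.cons l0 l : Fin (n + 1) → k) j) * e j) ∈
            hilbIdeal k A ι := by
          rw [Fin.sum_univ_succ]
          simp only [Fin.cons_zero, Fin.cons_succ]
          have e1 : C l0 * e 0 + ∑ j : Fin n, C (l j) * e j.succ =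
              (∑ j, C (l j) * (c j * e 0 + (1 - μ) * e j.succ)) +
              (μ * ∑ j : Fin n, C (l j) * e j.succ -
                (∑ j : Fin n, C (l j) * (c j - C (constantCoeff (c j)))) * e 0) := by
            have h3 : (C l0 : S) = ∑ j : Fin n, C (l j) * C (constantCoeff (c j)) := by
              rw [hl0, map_sum]
              apply Finset.sum_congr rfl
              intro j _
              rw [C_mul]
            have h4 : ∑ j, C (l j) * (c j * e 0 + (1 - μ) * e j.succ) =
                (∑ j : Fin n, C (l j) * c j) * e 0 +
                (1 - μ) * ∑ j : Fin n, C (l j) * e j.succ := by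
              rw [Finset.sum_mul, Finset.mul_sum, ← Finset.sum_add_distrib]
              apply Finset.sum_congr rfl
              intro j _
              ring
            have h5 : ∑ j : Fin n, C (l j) * (c j - C (constantCoeff (c j))) =
                ∑ j : Fin n, C (l j) * c j - ∑ j : Fin n, C (l j) * C (constantCoeff (c j)) := by
              rw [← Finset.sum_sub_distrib]
              apply Finset.sum_congr rfl
              intro j _
              ring
            rw [h3, h4, h5]
            ring
          rw [e1]
          refine Submodule.add_mem _ hl (Submodule.sub_mem _ ?_ ?_)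
          · exact Ideal.mul_mem_right _ _ (mSet_subset_hilbIdeal hμ)
          · refine Ideal.mul_mem_right _ _ (Submodule.sum_mem _ (fun j _ => ?_))
            exact Ideal.mul_mem_left _ _
              (mSet_subset_hilbIdeal (sub_C_constantCoeff_mem_mSet (hc j)))
        intro j
        have := hind (Fin.cons l0 l) key j.succ
        simpa using this
      have hbs := ih (fun j => c j * e 0 + (1 - μ) * e j.succ) hind' (fun j => b j.succ)
        (fun j => hb j.succ) hrel'
      have hb00 : b 0 = 0 := by
        have h6 : (1 - μ) * b 0 = 0 := by
          have : ∑ i : Fin n, c i * b i.succ = 0 :=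
            Finset.sum_eq_zero (fun i _ => by rw [hbs i, mul_zero])
          rw [this, zero_add] at hb0
          rw [sub_mul, one_mul, ← hb0, sub_self]
        have h7 : (1 - μ : S) ≠ 0 := by
          intro h
          have := congrArg constantCoeff h
          rw [map_sub, map_one, hμ.2, sub_zero, map_zero] at this
          exact one_ne_zero this
        exact (mul_eq_zero.mp h6).resolve_left h7
      intro j
      refine Fin.cases hb00 (fun i => hbs i) j

end Indep

end Groth.Agent.Lib.Helper25.CST
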