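import Groth.Agent.Lib.Helper25CSTQuot
import Mathlib.Algebra.MvPolynomial.NoZeroDivisors

/-!
# Helper25CSTKey: Chevalley's key lemma for groups generated by pseudo-reflections (helper25)
-/

set_option autoImplicit false
set_option linter.style.haveILetI false
set_option linter.unusedSectionVars false
universe u

namespace Groth.Agent.Lib.Helper25.CST

open TensorProduct HopfRep MvPolynomial Groth.Agent.Lib.Helper25 Module
open Groth.Agent.Lib.Helper25.Fix Groth.Agent.Lib.Helper25.DynL

section Gen

variable {k : Type u} [Field k] {A : Type u} [CommRing A] [HopfAlgebra k A]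
variable {ι : Type u} [Fintype ι] [cS : Comod k A (MvPolynomial ι k)]
  [GLin.IsCoactAlg k A (MvPolynomial ι k)]

local notation "S" => MvPolynomial ι k

/-- If `G` is generated by pseudo-reflections, an element of `S/I` fixed by all pseudo-reflection
subgroups is fixed by `G`; in terms of the Reynolds operator. -/
theorem sub_reynolds_mem_of_forall_refl (hG : IsLinearlyReductive k A)
    (hgen : GLin.IsGenByPseudoRefl k A ι)
    {I : Ideal S} (hI : IsSubcomod (k := k) (A := A) (I.restrictScalars k))
    {E : S →ₗ[k] S} (hE : Hoch.IsComodHom A E) (hEE : E ∘ₗ E = E)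
    (hEx : ∀ x : S, E x = x ↔ x ∈ fixedPts k A S) (s : S)
    (h : ∀ N : Ideal A, GLin.IsPseudoRefl k A ι N →
      ∃ t ∈ GLin.quotInvariants k A S N, s - t ∈ I) :
    s - E s ∈ I := by
  set Ik := I.restrictScalars k with hIk
  letI cW : Comod k A (S ⧸ Ik) := quotComod Ik hI
  have hmk : Hoch.IsComodHom A Ik.mkQ := isComodHom_mkQ _ hI
  set w : S ⧸ Ik := Ik.mkQ s with hw
  -- `w` is fixed by every pseudo-reflection subgroup
  have hfixN : ∀ N : Ideal A, GLin.IsPseudoRefl k A ι N → fixIdeal (k := k) (A := A) w ≤ N := by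
    intro N hN
    rw [← mem_quotInvariants_iff_fixIdeal_le]
    obtain ⟨t, ht, hst⟩ := h N hN
    have hwt : w = Ik.mkQ t := by
      rw [hw, ← sub_eq_zero, ← map_sub]
      exact (Submodule.Quotient.mk_eq_zero _).mpr hst
    rw [GLin.mem_quotInvariants_iff, hwt, isComodHom_apply hmk]
    rw [GLin.mem_quotInvariants_iff] at ht
    rw [← LinearMap.comp_apply, LinearMap.lTensor_comp_rTensor, ← LinearMap.rTensor_comp_lTensor,
      LinearMap.comp_apply, ht, LinearMap.rTensor_tmul]
  have hfix0 : fixIdeal (k := k) (A := A) w ≤ ⊥ := by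
    have hgen' : GLin.genIdeal k A ι = ⊥ := hgen
    rw [← hgen']
    exact le_sSup ⟨inferInstance, hfixN⟩
  have hwfix : w ∈ fixedPts k A (S ⧸ Ik) := by
    have h1 := (kills_fixIdeal_iff (k := k) (A := A) w (AlgHom.id k A)).mp (by
      intro a ha
      have := hfix0 ha
      rw [Ideal.mem_bot] at this
      rw [this, map_zero])
    unfold actL at h1
    rw [LinearMap.comp_apply] at h1
    have h2 : (AlgHom.id k A).toLinearMap.lTensor (S ⧸ Ik) = LinearMap.id := by
      rw [AlgHom.toLinearMap_id, LinearMap.lTensor_id]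
    rw [h2, LinearMap.id_apply] at h1
    exact h1
  -- Reynolds operator on the quotient
  have hssS : IsSemisimpleComod k A S := isSemisimpleComod_of_isLinearlyReductive hG S
  have hssW : IsSemisimpleComod k A (S ⧸ Ik) := isSemisimpleComod_of_isLinearlyReductive hG _
  obtain ⟨E', hE', hEE', hEx'⟩ := exists_reynolds (k := k) (A := A) (V := S ⧸ Ik) hssW
  have hcomm := reynolds_comm hssS hE hEE hEx hE' hEE' hEx' hmk
  have h1 := LinearMap.congr_fun hcomm s
  simp only [LinearMap.comp_apply] at h1
  have h2 : E' w = w := (hEx' w).mpr hwfix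
  rw [← hw, h2] at h1
  have h3 : Ik.mkQ (s - E s) = 0 := by rw [map_sub, ← hw, h1, sub_self]
  exact (Submodule.Quotient.mk_eq_zero _).mp h3

end Gen

section Key

variable {k : Type u} [Field k] {A : Type u} [CommRing A] [HopfAlgebra k A]
variable {ι : Type u} [Fintype ι] [cS : Comod k A (MvPolynomial ι k)]
  [GLin.IsCoactAlg k A (MvPolynomial ι k)]

local notation "S" => MvPolynomial ι k

variable (k A ι) in
/-- The invariants without constant term. -/
def mSet : Set S := {f | f ∈ GLin.invariants k A S ∧ constantCoeff f = 0}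

variable (k A ι) in
/-- The ideal of `S` generated by the invariants without constant term (Hilbert ideal). -/
noncomputable def hilbIdeal : Ideal S := Ideal.span (mSet k A ι)

theorem isSubcomod_hilbIdeal :
    IsSubcomod (k := k) (A := A) ((hilbIdeal k A ι).restrictScalars k) :=
  isSubcomod_span_of_fixedPts (fun _ hf => hf.1)

/-- **Chevalley's key lemma**. -/
theorem key_lemma (hG : IsLinearlyReductive k A)
    (hsub : ∀ (I : Ideal A) [I.IsHopfIdeal k], HopfRep.IsLinearlyReductive k (A ⧸ I))
    (hlin : GLin.IsLinear k A ι) (hgen : GLin.IsGenByPseudoRefl k A ι)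
    (r : ℕ) (f : Fin (r + 1) → S) (hf : ∀ i, f i ∈ GLin.invariants k A S)
    (hmin : ∀ (c : Fin r → S) (μ : S), (∀ i, c i ∈ GLin.invariants k A S) →
      μ ∈ mSet k A ι → f 0 ≠ ∑ i : Fin r, c i * f i.succ + μ * f 0) :
    ∀ (d : ℕ) (g : Fin (r + 1) → S), (g 0).totalDegree < d → ∑ i, f i * g i = 0 →
      g 0 ∈ hilbIdeal k A ι := by
  classical
  have hssS : IsSemisimpleComod k A S := isSemisimpleComod_of_isLinearlyReductive hG S
  obtain ⟨E, hE, hEE, hEx⟩ := exists_reynolds (k := k) (A := A) (V := S) hssS
  have hElin : ∀ a : S, a ∈ GLin.invariants k A S → ∀ s : S, E (a * s) = a * E s :=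
    fun a ha s => reynolds_mul_of_mem_fixedPts hssS hE hEE hEx ha s
  have hEfix : ∀ s : S, E s ∈ GLin.invariants k A S := fun s =>
    (hEx _).mp (LinearMap.congr_fun hEE s)
  -- Claim B
  have hB : ∀ g : Fin (r + 1) → S, ∑ i, f i * g i = 0 → E (g 0) ∈ hilbIdeal k A ι := by
    intro g hrel
    have h1 : ∑ i, f i * E (g i) = 0 := by
      have := congrArg E hrel
      rw [map_sum, map_zero] at this
      rw [← this]
      exact Finset.sum_congr rfl (fun i _ => (hElin _ (hf i) _).symm)
    set c0 : k := constantCoeff (E (g 0)) with hc0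
    set μ : S := E (g 0) - C c0 with hμ
    have hμm : μ ∈ mSet k A ι := by
      refine ⟨Subalgebra.sub_mem _ (hEfix _) (C_mem_fixedPts c0), ?_⟩
      rw [hμ, map_sub, constantCoeff_C, hc0, sub_self]
    by_cases hc : c0 = 0
    · have : E (g 0) = μ := by rw [hμ, hc, map_zero, sub_zero]
      rw [this]
      exact Ideal.subset_span hμm
    · exfalso
      rw [Fin.sum_univ_succ] at h1
      have hEg : E (g 0) = C c0 + μ := by rw [hμ]; ring
      rw [hEg] at h1
      refine hmin (fun i => -(C c0⁻¹) * E (g i.succ)) (-(C c0⁻¹) * μ) ?_ ?_ ?_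
      · intro i
        exact Subalgebra.mul_mem _ (Subalgebra.neg_mem _ (C_mem_fixedPts _)) (hEfix _)
      · refine ⟨Subalgebra.mul_mem _ (Subalgebra.neg_mem _ (C_mem_fixedPts _)) hμm.1, ?_⟩
        rw [map_mul, hμm.2, mul_zero]
      · have hcc : (C c0⁻¹ : S) * C c0 = 1 := by
          rw [← C_mul, inv_mul_cancel₀ hc, C_1]
        have h2 : f 0 * C c0 = -(f 0 * μ + ∑ i : Fin r, f i.succ * E (g i.succ)) := by
          rw [eq_neg_iff_add_eq_zero, ← h1]
          ring
        calc f 0 = C c0⁻¹ * (f 0 * C c0) := by rw [mul_comm (f 0), ← mul_assoc, hcc, one_mul]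
          _ = C c0⁻¹ * -(f 0 * μ + ∑ i : Fin r, f i.succ * E (g i.succ)) := by rw [h2]
          _ = ∑ i : Fin r, -(C c0⁻¹) * E (g i.succ) * f i.succ + -(C c0⁻¹) * μ * f 0 := by
            rw [mul_neg, mul_add, Finset.mul_sum, neg_add, ← Finset.sum_neg_distrib, add_comm]
            congr 1
            · apply Finset.sum_congr rfl
              intro i _
              ring
            · ring
  intro d
  induction d with
  | zero => intro g hg; exact absurd hg (Nat.not_lt_zero _)
  | succ d ih =>
    intro g hg hrel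
    have hA : g 0 - E (g 0) ∈ hilbIdeal k A ι := by
      apply sub_reynolds_mem_of_forall_refl hG hgen isSubcomod_hilbIdeal hE hEE hEx
      intro N hN
      obtain ⟨EN, ℓ, hℓne, hℓ1, hdiv, hENinv, hENfix, hENlin, hENdeg⟩ :=
        exists_refl_data hlin hsub N hN
      refine ⟨EN (g 0), hENinv _, ?_⟩
      choose h hh using fun i => hdiv (g i)
      have hrel' : ∑ i, f i * h i = 0 := by
        have h1 : ℓ * ∑ i, f i * h i = 0 := by
          rw [Finset.mul_sum]
          have h2 : ∀ i, ℓ * (f i * h i) = f i * g i - EN (f i * g i) := by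
            intro i
            haveI : N.IsHopfIdeal k := hN.1
            rw [hENlin _ (invariants_le_quotInvariants N (hf i)), ← mul_sub, hh i]
            ring
          rw [Finset.sum_congr rfl (fun i _ => h2 i), Finset.sum_sub_distrib, hrel, ← map_sum,
            hrel, map_zero, sub_zero]
        exact (mul_eq_zero.mp h1).resolve_left hℓne
      by_cases hz : h 0 = 0
      · rw [hh 0, hz, mul_zero]
        exact Submodule.zero_mem _
      · have hdeg : (g 0 - EN (g 0)).totalDegree ≤ d := by
          have hgd : g 0 ∈ restrictTotalDegree ι k d := by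
            rw [mem_restrictTotalDegree]
            omega
          have := Submodule.sub_mem _ hgd (hENdeg d _ hgd)
          rwa [mem_restrictTotalDegree] at this
        rw [hh 0, totalDegree_mul_of_isDomain hℓne hz] at hdeg
        have hℓdeg : ℓ.totalDegree = 1 :=
          ((mem_homogeneousSubmodule 1 ℓ).mp hℓ1).totalDegree hℓne
        have hlt : (h 0).totalDegree < d := by omega
        rw [hh 0]
        exact Ideal.mul_mem_left _ _ (ih h hlt hrel')
    have := Submodule.add_mem _ hA (hB g hrel)
    rwa [sub_add_cancel] at this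

end Key

end Groth.Agent.Lib.Helper25.CST
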