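import Mathlib
import Groth.Agent.Lib.Helper28RegLoc
import Groth.Agent.Lib.Helper19GRLoc

/-!
# Helper25CSTLoc: local freeness from a basis modulo a maximal ideal; descent of regularity
(helper25)
-/

set_option autoImplicit false
set_option linter.style.haveILetI false
set_option linter.unusedSectionVars false
universe u

namespace Groth.Agent.Lib.Helper25.CST

open IsLocalRing

section Free

variable {R S : Type u} [CommRing R] [CommRing S] [Algebra R S] [Module.Finite R S]

/-- If `e` is `R`-linearly independent in `S` and spans `S` modulo `𝔪 S`, then the localization of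
`S` at `𝔪` is free over `R_𝔪`. -/
theorem free_localization_of_basis_mod (𝔪 : Ideal R) [𝔪.IsPrime] {n : ℕ} (e : Fin n → S)
    (hli : LinearIndependent R e)
    (hspan : ∀ s : S, ∃ l : Fin n → R, s - ∑ j, l j • e j ∈ Ideal.map (algebraMap R S) 𝔪) :
    Module.Free (Localization.AtPrime 𝔪)
      (Localization (Algebra.algebraMapSubmonoid S 𝔪.primeCompl)) := by
  classical
  set Rm := Localization.AtPrime 𝔪 with hRm
  set Sm := Localization (Algebra.algebraMapSubmonoid S 𝔪.primeCompl) with hSm
  have hli' : LinearIndependent Rm (algebraMap S Sm ∘ e) :=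
    LinearIndependent.localization_localization Rm 𝔪.primeCompl Sm hli
  set N : Submodule Rm Sm := Submodule.span Rm (Set.range (algebraMap S Sm ∘ e)) with hN
  have himg : ∀ s : S, algebraMap S Sm s ∈ N ⊔ (maximalIdeal Rm) • (⊤ : Submodule Rm Sm) := by
    intro s
    obtain ⟨l, hl⟩ := hspan s
    have hs : s = ∑ j, l j • e j + (s - ∑ j, l j • e j) := by abel
    rw [hs, map_add]
    refine Submodule.add_mem _ (Submodule.mem_sup_left ?_) (Submodule.mem_sup_right ?_)
    · rw [map_sum]
      refine Submodule.sum_mem _ (fun j _ => ?_)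
      have : algebraMap S Sm (l j • e j) = algebraMap R Rm (l j) • algebraMap S Sm (e j) := by
        rw [Algebra.smul_def, map_mul, Algebra.smul_def, ← IsScalarTower.algebraMap_apply,
          ← IsScalarTower.algebraMap_apply, IsScalarTower.algebraMap_apply R Rm Sm]
      rw [this]
      exact Submodule.smul_mem _ _ (Submodule.subset_span ⟨j, rfl⟩)
    · have hmem : ∀ t ∈ Ideal.map (algebraMap R S) 𝔪,
          algebraMap S Sm t ∈ (maximalIdeal Rm) • (⊤ : Submodule Rm Sm) := by
        intro t ht
        refine Submodule.span_induction (p := fun t _ => algebraMap S Sm t ∈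
          (maximalIdeal Rm) • (⊤ : Submodule Rm Sm)) ?_ ?_ ?_ ?_ ht
        · rintro _ ⟨a, ha, rfl⟩
          have : algebraMap S Sm (algebraMap R S a) = algebraMap R Rm a • (1 : Sm) := by
            rw [Algebra.smul_def, mul_one, ← IsScalarTower.algebraMap_apply,
              IsScalarTower.algebraMap_apply R Rm Sm]
          rw [this]
          refine Submodule.smul_mem_smul ?_ Submodule.mem_top
          rw [← Localization.AtPrime.map_eq_maximalIdeal]
          exact Ideal.mem_map_of_mem _ ha
        · rw [map_zero]; exact Submodule.zero_mem _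
        · intro x y _ _ hx hy
          rw [map_add]; exact Submodule.add_mem _ hx hy
        · intro c x _ hx
          rw [smul_eq_mul, map_mul]
          have : algebraMap S Sm c * algebraMap S Sm x ∈
              (maximalIdeal Rm) • (⊤ : Submodule Rm Sm) := by
            refine Submodule.smul_induction_on hx ?_ ?_
            · intro r hr m _
              rw [mul_smul_comm]
              exact Submodule.smul_mem_smul hr Submodule.mem_top
            · intro x y hx hy
              rw [mul_add]; exact Submodule.add_mem _ hx hy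
          exact this
      exact hmem _ hl
  have htop : (⊤ : Submodule Rm Sm) ≤ N ⊔ (maximalIdeal Rm) • (⊤ : Submodule Rm Sm) := by
    have h1 : Submodule.span Rm (algebraMap S Sm '' (Set.univ : Set S)) = ⊤ :=
      span_eq_top_localization_localization Rm 𝔪.primeCompl Sm (by simp)
    intro x _
    have hx : x ∈ Submodule.span Rm (algebraMap S Sm '' (Set.univ : Set S)) := by
      rw [h1]; trivial
    exact (Submodule.span_le.mpr (by rintro _ ⟨s, _, rfl⟩; exact himg s)) hx
  have hfg : (⊤ : Submodule Rm Sm).FG := Module.Finite.fg_top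
  have hNtop : (⊤ : Submodule Rm Sm) ≤ N :=
    Submodule.le_of_le_smul_of_le_jacobson_bot hfg
      (IsLocalRing.maximalIdeal_le_jacobson ⊥) htop
  exact Module.Free.of_basis (Module.Basis.mk hli' hNtop)

end Free

section Reg

variable {R S : Type u} [CommRing R] [CommRing S] [Algebra R S]

/-- Regularity descends from `S` to `R_𝔪` when `S_𝔪` is flat over `R_𝔪` and some prime of `S` lies
over `𝔪`. -/
theorem isRegularLocalRing_atPrime_of_flat [IsNoetherianRing R] [IsRegularRing S]
    (𝔪 : Ideal R) [𝔪.IsPrime] (𝔫 : Ideal S) [𝔫.IsPrime]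
    (h𝔫 : 𝔫.comap (algebraMap R S) = 𝔪)
    [Module.Flat (Localization.AtPrime 𝔪)
      (Localization (Algebra.algebraMapSubmonoid S 𝔪.primeCompl))] :
    IsRegularLocalRing (Localization.AtPrime 𝔪) := by
  set Rm := Localization.AtPrime 𝔪 with hRm
  set M := Algebra.algebraMapSubmonoid S 𝔪.primeCompl with hM
  set Sm := Localization M with hSm
  haveI : IsRegularRing Sm :=
    Groth.Agent.Lib.Helper19.GR.isRegularRing_of_isLocalization (R := S) (S := Sm) M
  -- the prime of `Sm`
  have hdisj : Disjoint (M : Set S) (𝔫 : Set S) := by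
    rw [Set.disjoint_left]
    rintro _ ⟨a, ha, rfl⟩ hn
    apply ha
    rw [← h𝔫]
    exact hn
  set 𝔫' : Ideal Sm := Ideal.map (algebraMap S Sm) 𝔫 with h𝔫'
  haveI : 𝔫'.IsPrime := IsLocalization.isPrime_of_isPrime_disjoint M Sm 𝔫 inferInstance hdisj
  set T := Localization.AtPrime 𝔫' with hT
  haveI : IsRegularLocalRing T := inferInstance
  haveI : IsScalarTower Rm Sm T := inferInstance
  haveI : Module.Flat Sm T := IsLocalization.flat T 𝔫'.primeCompl
  haveI : Module.Flat Rm T := Module.Flat.trans Rm Sm T
  haveI : IsLocalHom (algebraMap Rm T) := by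
    have h1 : maximalIdeal Rm ≤ (maximalIdeal T).comap (algebraMap Rm T) := by
      rw [← Localization.AtPrime.map_eq_maximalIdeal, Ideal.map_le_iff_le_comap]
      intro a ha
      rw [Ideal.mem_comap, Ideal.mem_comap]
      have h2 : algebraMap Rm T (algebraMap R Rm a) =
          algebraMap Sm T (algebraMap S Sm (algebraMap R S a)) := by
        rw [IsScalarTower.algebraMap_apply Rm Sm T, ← IsScalarTower.algebraMap_apply R Rm Sm,
          IsScalarTower.algebraMap_apply R S Sm]
      rw [h2, ← Localization.AtPrime.map_eq_maximalIdeal]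
      apply Ideal.mem_map_of_mem
      apply Ideal.mem_map_of_mem
      rw [← h𝔫] at ha
      exact ha
    exact ((IsLocalRing.local_hom_TFAE (algebraMap Rm T)).out 0 3).mpr h1
  exact Groth.Agent.Lib.Helper28.isRegularLocalRing_of_flat_of_isLocalHom Rm T

end Reg

end Groth.Agent.Lib.Helper25.CST
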