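import Mathlib
import Groth.Agent.Lib.Helper25CSTLoc

/-!
# Helper25CSTLoc2: local freeness from a local basis modulo a prime (helper25)
-/

set_option autoImplicit false
set_option linter.style.haveILetI false
set_option linter.unusedSectionVars false
universe u

namespace Groth.Agent.Lib.Helper25.CST

open IsLocalRing

section Free

variable {R S : Type u} [CommRing R] [CommRing S] [Algebra R S] [Module.Finite R S]

/-- If `e` is `R_𝔪`-linearly independent in `S_𝔪` and spans `S` modulo `𝔪 S`, then the localization of
`S` at `𝔪` is free over `R_𝔪`. -/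
theorem free_localization_of_basis_mod' (𝔪 : Ideal R) [𝔪.IsPrime] {n : ℕ} (e : Fin n → S)
    (hli' : LinearIndependent (Localization.AtPrime 𝔪)
      (algebraMap S (Localization (Algebra.algebraMapSubmonoid S 𝔪.primeCompl)) ∘ e))
    (hspan : ∀ s : S, ∃ l : Fin n → R, s - ∑ j, l j • e j ∈ Ideal.map (algebraMap R S) 𝔪) :
    Module.Free (Localization.AtPrime 𝔪)
      (Localization (Algebra.algebraMapSubmonoid S 𝔪.primeCompl)) := by
  classical
  set Rm := Localization.AtPrime 𝔪 with hRm
  set Sm := Localization (Algebra.algebraMapSubmonoid S 𝔪.primeCompl) with hSm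
  set N : Submodule Rm Sm := Submodule.span Rm (Set.range (algebraMap S Sm ∘ e)) with hN
  have himg : ∀ s : S, algebraMap S Sm s ∈ N ⊔ (maximalIdeal Rm) • (⊤ : Submodule Rm Sm) := by
    intro s
    obtain ⟨l, hl⟩ := hspan s
    have hs : s = ∑ j, l j • e j + (s - ∑ j, l j • e j) := by abel
    rw [hs, map_add]
    refine Submodule.add_mem _ (Submodule.mem_sup_left ?_) (Submodule.mem_sup_right ?_)
    · rw [map_sum]
      refine Submodule.sum_mem _ (fun j _ => ?_)
      have : algebraMap S Sm (l j • e j) = algebraMap R Rm (l j) • algebraMap S Sm (e j) := by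
        rw [Algebra.smul_def, map_mul, Algebra.smul_def, ← IsScalarTower.algebraMap_apply,
          ← IsScalarTower.algebraMap_apply, IsScalarTower.algebraMap_apply R Rm Sm]
      rw [this]
      exact Submodule.smul_mem _ _ (Submodule.subset_span ⟨j, rfl⟩)
    · have hmem : ∀ t ∈ Ideal.map (algebraMap R S) 𝔪,
          algebraMap S Sm t ∈ (maximalIdeal Rm) • (⊤ : Submodule Rm Sm) := by
        intro t ht
        refine Submodule.span_induction (p := fun t _ => algebraMap S Sm t ∈
          (maximalIdeal Rm) • (⊤ : Submodule Rm Sm)) ?_ ?_ ?_ ?_ ht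
        · rintro _ ⟨a, ha, rfl⟩
          have : algebraMap S Sm (algebraMap R S a) = algebraMap R Rm a • (1 : Sm) := by
            rw [Algebra.smul_def, mul_one, ← IsScalarTower.algebraMap_apply,
              IsScalarTower.algebraMap_apply R Rm Sm]
          rw [this]
          refine Submodule.smul_mem_smul ?_ Submodule.mem_top
          rw [← Localization.AtPrime.map_eq_maximalIdeal]
          exact Ideal.mem_map_of_mem _ ha
        · rw [map_zero]; exact Submodule.zero_mem _
        · intro x y _ _ hx hy
          rw [map_add]; exact Submodule.add_mem _ hx hy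
        · intro c x _ hx
          rw [smul_eq_mul, map_mul]
          have : algebraMap S Sm c * algebraMap S Sm x ∈
              (maximalIdeal Rm) • (⊤ : Submodule Rm Sm) := by
            refine Submodule.smul_induction_on hx ?_ ?_
            · intro r hr m _
              rw [mul_smul_comm]
              exact Submodule.smul_mem_smul hr Submodule.mem_top
            · intro x y hx hy
              rw [mul_add]; exact Submodule.add_mem _ hx hy
          exact this
      exact hmem _ hl
  have htop : (⊤ : Submodule Rm Sm) ≤ N ⊔ (maximalIdeal Rm) • (⊤ : Submodule Rm Sm) := by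
    have h1 : Submodule.span Rm (algebraMap S Sm '' (Set.univ : Set S)) = ⊤ :=
      span_eq_top_localization_localization Rm 𝔪.primeCompl Sm (by simp)
    intro x _
    have hx : x ∈ Submodule.span Rm (algebraMap S Sm '' (Set.univ : Set S)) := by
      rw [h1]; trivial
    exact (Submodule.span_le.mpr (by rintro _ ⟨s, _, rfl⟩; exact himg s)) hx
  have hfg : (⊤ : Submodule Rm Sm).FG := Module.Finite.fg_top
  have hNtop : (⊤ : Submodule Rm Sm) ≤ N :=
    Submodule.le_of_le_smul_of_le_jacobson_bot hfg
      (IsLocalRing.maximalIdeal_le_jacobson ⊥) htop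
  exact Module.Free.of_basis (Module.Basis.mk hli' hNtop)

end Free

section LI

variable {R S : Type u} [CommRing R] [CommRing S] [Algebra R S]

/-- Linear independence over `R_𝔪` in `S_𝔪` from independence "with slack" in `S`. -/
theorem linearIndependent_localization_of_slack (𝔪 : Ideal R) [𝔪.IsPrime] {n : ℕ} (e : Fin n → S)
    (h : ∀ b : Fin n → R,
      (∃ t ∈ 𝔪.primeCompl, algebraMap R S t * ∑ j, algebraMap R S (b j) * e j = 0) →
      ∃ v ∈ 𝔪.primeCompl, ∀ j, v * b j = 0) :
    LinearIndependent (Localization.AtPrime 𝔪)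
      (algebraMap S (Localization (Algebra.algebraMapSubmonoid S 𝔪.primeCompl)) ∘ e) := by
  classical
  set Rm := Localization.AtPrime 𝔪 with hRm
  set M := Algebra.algebraMapSubmonoid S 𝔪.primeCompl with hM
  set Sm := Localization M with hSm
  rw [Fintype.linearIndependent_iff]
  intro g hg
  obtain ⟨s, hs⟩ := IsLocalization.exist_integer_multiples 𝔪.primeCompl
    (Finset.univ : Finset (Fin n)) g
  choose b hb using fun j => hs j (Finset.mem_univ j)
  have h1 : algebraMap S Sm (∑ j, algebraMap R S (b j) * e j) = 0 := by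
    rw [map_sum]
    have h2 : ∀ j, algebraMap S Sm (algebraMap R S (b j) * e j) =
        (s : R) • (g j • algebraMap S Sm (e j)) := by
      intro j
      rw [← smul_assoc, ← hb j, map_mul, Algebra.smul_def]
      congr 1
      rw [← IsScalarTower.algebraMap_apply R Rm Sm, IsScalarTower.algebraMap_apply R S Sm]
    rw [Finset.sum_congr rfl (fun j _ => h2 j), ← Finset.smul_sum]
    have hg' : ∑ j, g j • algebraMap S Sm (e j) = 0 := hg
    rw [hg', smul_zero]
  obtain ⟨m, hm⟩ := (IsLocalization.map_eq_zero_iff M Sm _).mp h1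
  obtain ⟨t₀, ht₀, ht₀m⟩ := m.2
  obtain ⟨v, hv, hvb⟩ := h b ⟨t₀, ht₀, by rw [ht₀m]; exact hm⟩
  intro j
  have hbj : algebraMap R Rm (b j) = 0 :=
    (IsLocalization.map_eq_zero_iff 𝔪.primeCompl Rm _).mpr ⟨⟨v, hv⟩, hvb j⟩
  have h3 := hb j
  rw [hbj, Algebra.smul_def] at h3
  exact ((IsLocalization.map_units Rm s).mul_right_eq_zero).mp h3.symm

end LI

end Groth.Agent.Lib.Helper25.CST
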