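import Groth.Agent.Lib.Helper25NormalInv
import Groth.Agent.Lib.Helper25Dyn
import Groth.Agent.Lib.Helper25Coeff
import Groth.Prelude.Def_W4c6stackyreslrsPsRefl

/-!
# Helper25FixIdeal: the fixator of a vector in a comodule is cut out by a Hopf ideal (helper25)

`fixIdeal v`: the ideal generated by the coefficients of `ρ v - v ⊗ 1`; `kills_fixIdeal_iff`,
`isHopfIdeal_fixIdeal`, `mem_quotInvariants_iff_fixIdeal_le`.
-/

set_option autoImplicit false
universe u v w

namespace Groth.Agent.Lib.Helper25.Fix

open TensorProduct HopfRep WithConv Groth.Agent.Lib.Helper25.DynL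

section FixIdeal

variable {k A : Type u} [Field k] [CommRing A] [HopfAlgebra k A]
variable {V : Type w} [AddCommGroup V] [Module k V] [Comod k A V]

/-- The ideal of the fixator of a vector `v`: generated by the coefficients of `ρ v - v ⊗ 1`. -/
def fixIdeal (v : V) : Ideal A :=
  Ideal.span (Set.range fun l : V →ₗ[k] k =>
    lslice l (Comod.coact (k := k) (A := A) v) - l v • (1 : A))

theorem kills_fixIdeal_iff {R : Type u} [CommRing R] [Algebra k R] (v : V) (g : A →ₐ[k] R) :
    (∀ a ∈ fixIdeal (k := k) (A := A) v, g a = 0) ↔ actL g v = v ⊗ₜ[k] (1 : R) := by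
  constructor
  · intro h
    rw [← sub_eq_zero]
    apply eq_zero_of_lslice_eq_zero
    intro l
    have h1 := h _ (Ideal.subset_span ⟨l, rfl⟩)
    rw [map_sub, map_smul, map_one, sub_eq_zero] at h1
    rw [map_sub, lslice_tmul, sub_eq_zero]
    unfold actL
    rw [LinearMap.comp_apply, lslice_lTensor]
    exact h1
  · intro h
    have hle : fixIdeal (k := k) (A := A) v ≤ RingHom.ker (g : A →+* R) := by
      unfold fixIdeal
      rw [Ideal.span_le]
      rintro _ ⟨l, rfl⟩
      rw [SetLike.mem_coe, RingHom.mem_ker]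
      change g _ = 0
      rw [map_sub, map_smul, map_one, sub_eq_zero]
      have h1 := congrArg (lslice l) h
      unfold actL at h1
      rw [LinearMap.comp_apply, lslice_lTensor, lslice_tmul] at h1
      exact h1
    intro a ha
    exact hle ha

theorem actL_one (v : V) {R : Type u} [CommRing R] [Algebra k R] :
    actL ((1 : WithConv (A →ₐ[k] R)).ofConv) v = v ⊗ₜ[k] (1 : R) := by
  unfold actL
  rw [LinearMap.comp_apply]
  have e : ((1 : WithConv (A →ₐ[k] R)).ofConv).toLinearMap =
      (Algebra.linearMap k R) ∘ₗ CoalgebraStruct.counit (R := k) (A := A) := by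
    apply LinearMap.ext
    intro a
    simp [AlgHom.convOne_apply, Algebra.algebraMap_eq_smul_one]
  rw [e, LinearMap.lTensor_comp, LinearMap.comp_apply]
  have h := LinearMap.congr_fun (Comod.counit_comp (k := k) (A := A) (V := V)) v
  rw [LinearMap.comp_apply] at h
  rw [h]
  simp

instance isHopfIdeal_fixIdeal (v : V) : (fixIdeal (k := k) (A := A) v).IsHopfIdeal k := by
  refine isHopfIdeal_of_represents (fixIdeal (k := k) (A := A) v)
    (fun R _ _ g => actL g v = v ⊗ₜ[k] (1 : R)) (fun R _ _ g => kills_fixIdeal_iff v g)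
    (actL_one v) ?_ ?_ ?_
  · intro R _ _ g g' hg hg'
    rw [actL_convMul, hg', LinearMap.rTensor_tmul, muPt_tmul_one]
    exact hg
  · intro R _ _ g hg
    have h1 : actL ((toConv (invPt g) * toConv g : WithConv (A →ₐ[k] R)).ofConv) v =
        v ⊗ₜ[k] (1 : R) := by
      rw [invPt_mul]
      exact actL_one v
    rw [actL_convMul, hg, LinearMap.rTensor_tmul, muPt_tmul_one] at h1
    exact h1
  · intro R R' _ _ _ _ φ g hg
    have e : actL (φ.comp g) v = φ.toLinearMap.lTensor V (actL g v) := by
      unfold actL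
      rw [LinearMap.comp_apply, LinearMap.comp_apply, AlgHom.comp_toLinearMap,
        LinearMap.lTensor_comp, LinearMap.comp_apply]
    rw [e, hg, LinearMap.lTensor_tmul]
    change v ⊗ₜ[k] φ 1 = _
    rw [map_one]

theorem mem_quotInvariants_iff_fixIdeal_le (v : V) (I : Ideal A) :
    v ∈ GLin.quotInvariants k A V I ↔ fixIdeal (k := k) (A := A) v ≤ I := by
  rw [GLin.mem_quotInvariants_iff]
  have h := kills_fixIdeal_iff (k := k) (A := A) v (Ideal.Quotient.mkₐ k I)
  change _ ↔ LinearMap.lTensor V (Ideal.Quotient.mkₐ k I).toLinearMap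
    (Comod.coact (k := k) (A := A) v) = _ at h
  rw [← h]
  constructor
  · intro h1 a ha
    exact Ideal.Quotient.eq_zero_iff_mem.mp (h1 a ha)
  · intro h1 a ha
    exact Ideal.Quotient.eq_zero_iff_mem.mpr (h1 ha)

end FixIdeal

end Groth.Agent.Lib.Helper25.Fix
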