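import Groth.Agent.Lib.Helper25CSTRefl
import Groth.Agent.Lib.Helper25FixIdeal

/-!
# Helper25CSTQuot: the comodule structure of a closed subgroup and pseudo-reflection data
(helper25)
-/

set_option autoImplicit false
set_option linter.style.haveILetI false
set_option linter.unusedSectionVars false
universe u v w

namespace Groth.Agent.Lib.Helper25.CST

open TensorProduct HopfRep MvPolynomial Groth.Agent.Lib.Helper25 Module

section LTensorMul

variable {k : Type u} [CommRing k] {A : Type v} [CommRing A] [Algebra k A]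
  {B : Type v} [CommRing B] [Algebra k B] {S : Type w} [CommRing S] [Algebra k S]

theorem lTensor_algHom_eq (q : A →ₐ[k] B) :
    q.toLinearMap.lTensor S = (Algebra.TensorProduct.map (AlgHom.id k S) q).toLinearMap := by
  apply TensorProduct.ext'
  intro s a
  simp

theorem lTensor_algHom_mul (q : A →ₐ[k] B) (x y : S ⊗[k] A) :
    q.toLinearMap.lTensor S (x * y) = q.toLinearMap.lTensor S x * q.toLinearMap.lTensor S y := by
  rw [lTensor_algHom_eq]
  exact map_mul (Algebra.TensorProduct.map (AlgHom.id k S) q) x y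

end LTensorMul

section QuotStr

variable {k : Type u} [Field k] {A : Type u} [CommRing A] [HopfAlgebra k A]
variable {S : Type u} [CommRing S] [Algebra k S] [cS : Comod k A S] [GLin.IsCoactAlg k A S]
variable (N : Ideal A) [N.IsHopfIdeal k]

variable (k) in
/-- the comodule structure for the closed subgroup scheme cut out by `N` -/
@[reducible] noncomputable def quotStr : Comod k (A ⧸ N) S :=
  comodAlongCoalg ((Bialgebra.Quotient.mkBialgHom (R := k) N : A →ₐc[k] A ⧸ N) : A →ₗc[k] A ⧸ N) cS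

theorem quotStr_coact (s : S) :
    @Comod.coact k (A ⧸ N) _ _ _ _ S _ _ (quotStr k N) s =
      (Ideal.Quotient.mkₐ k N).toLinearMap.lTensor S (Comod.coact (k := k) (A := A) s) := rfl

theorem isCoactAlg_quotStr : @GLin.IsCoactAlg k _ (A ⧸ N) _ _ S _ _ (quotStr k N) := by
  letI := quotStr k (S := S) N
  constructor
  · show (Ideal.Quotient.mkₐ k N).toLinearMap.lTensor S (Comod.coact (k := k) (A := A) (1 : S)) = 1
    rw [GLin.IsCoactAlg.coact_one (k := k) (A := A) (R := S), Algebra.TensorProduct.one_def,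
      LinearMap.lTensor_tmul]
    simp [Algebra.TensorProduct.one_def]
  · intro f g
    show (Ideal.Quotient.mkₐ k N).toLinearMap.lTensor S (Comod.coact (k := k) (A := A) (f * g)) =
      (Ideal.Quotient.mkₐ k N).toLinearMap.lTensor S (Comod.coact (k := k) (A := A) f) *
      (Ideal.Quotient.mkₐ k N).toLinearMap.lTensor S (Comod.coact (k := k) (A := A) g)
    rw [coact_mul, lTensor_algHom_mul]

theorem fixedPts_quotStr :
    @fixedPts k (A ⧸ N) _ _ _ S _ _ (quotStr k N) = GLin.quotInvariants k A S N := by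
  ext s
  rfl

theorem invariants_le_quotInvariants {s : S} (hs : s ∈ GLin.invariants k A S) :
    s ∈ GLin.quotInvariants k A S N := by
  rw [GLin.mem_quotInvariants_iff]
  have hs' : Comod.coact (k := k) (A := A) s = s ⊗ₜ[k] (1 : A) := hs
  rw [hs', LinearMap.lTensor_tmul]
  simp

end QuotStr

section LinStr

variable {k : Type u} [Field k] {A : Type u} [CommRing A] [HopfAlgebra k A]
variable {ι : Type u} [Fintype ι] [cS : Comod k A (MvPolynomial ι k)]
  [GLin.IsCoactAlg k A (MvPolynomial ι k)]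

local notation "S" => MvPolynomial ι k

theorem isLin_of_isLinear (hlin : GLin.IsLinear k A ι) : IsLin k A ι := by
  intro i
  obtain ⟨m, hm⟩ := hlin i
  rw [hm]
  refine Submodule.sum_mem _ (fun j _ => ?_)
  exact ⟨(⟨X j, (mem_homogeneousSubmodule 1 _).mpr (isHomogeneous_X k j)⟩ :
    homogeneousSubmodule ι k 1) ⊗ₜ[k] m j, by simp⟩

theorem isLin_quotStr (hlin : GLin.IsLinear k A ι) (N : Ideal A) [N.IsHopfIdeal k] :
    @IsLin k _ (A ⧸ N) _ _ ι (quotStr k N) := by
  intro i
  obtain ⟨m, hm⟩ := hlin i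
  rw [quotStr_coact, hm, map_sum]
  refine Submodule.sum_mem _ (fun j _ => ?_)
  exact ⟨(⟨X j, (mem_homogeneousSubmodule 1 _).mpr (isHomogeneous_X k j)⟩ :
    homogeneousSubmodule ι k 1) ⊗ₜ[k] (Ideal.Quotient.mkₐ k N (m j)), by simp⟩

/-- The data attached to a pseudo-reflection ideal. -/
theorem exists_refl_data (hlin : GLin.IsLinear k A ι)
    (hsub : ∀ (I : Ideal A) [I.IsHopfIdeal k], HopfRep.IsLinearlyReductive k (A ⧸ I))
    (N : Ideal A) (hN : GLin.IsPseudoRefl k A ι N) :
    ∃ (E : S →ₗ[k] S) (ℓ : S), ℓ ≠ 0 ∧ ℓ ∈ homogeneousSubmodule ι k 1 ∧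
      (∀ s : S, ℓ ∣ s - E s) ∧
      (∀ s : S, E s ∈ GLin.quotInvariants k A S N) ∧
      (∀ s : S, s ∈ GLin.quotInvariants k A S N → E s = s) ∧
      (∀ f : S, f ∈ GLin.quotInvariants k A S N → ∀ s : S, E (f * s) = f * E s) ∧
      (∀ (d : ℕ) (s : S), s ∈ restrictTotalDegree ι k d → E s ∈ restrictTotalDegree ι k d) := by
  haveI : N.IsHopfIdeal k := hN.1
  letI cN : Comod k (A ⧸ N) S := quotStr k N
  haveI : GLin.IsCoactAlg k (A ⧸ N) S := isCoactAlg_quotStr N
  have hlinN : IsLin k (A ⧸ N) ι := isLin_quotStr hlin N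
  have hss : IsSemisimpleComod k (A ⧸ N) S :=
    isSemisimpleComod_of_isLinearlyReductive (hsub N) S
  have hfix : fixedPts k (A ⧸ N) S = GLin.quotInvariants k A S N := fixedPts_quotStr N
  obtain ⟨E, hE, hEE, hEx⟩ := exists_reynolds (k := k) (A := A ⧸ N) (V := S) hss
  have hcodim : finrank k ↥(homogeneousSubmodule ι k 1 ⊓ fixedPts k (A ⧸ N) S) + 1 =
      finrank k ↥(homogeneousSubmodule ι k 1) := by
    rw [hfix]
    exact hN.2
  obtain ⟨ℓ, hℓ1, hℓne, hdiv⟩ := exists_linForm_dvd_sub_reynolds hlinN hss hcodim hE hEE hEx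
  refine ⟨E, ℓ, hℓne, hℓ1, hdiv, ?_, ?_, ?_, ?_⟩
  · intro s
    rw [← hfix, ← hEx]
    exact LinearMap.congr_fun hEE s
  · intro s hs
    rw [hEx, hfix]
    exact hs
  · intro f hf s
    rw [← hfix] at hf
    exact reynolds_mul_of_mem_fixedPts hss hE hEE hEx hf s
  · intro d s hs
    exact reynolds_mem_of_isSubcomod hss hE hEE hEx (isSubcomod_restrictTotalDegree hlinN d) hs

end LinStr

end Groth.Agent.Lib.Helper25.CST
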