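import Groth.Agent.Lib.Helper25CSTLocal2
import Groth.Agent.Lib.Helper25CSTQuot

/-!
# Helper25CSTLocal3: the data attached to a pseudo-reflection at a fixed rational point (helper25)
-/

set_option autoImplicit false
set_option linter.style.haveILetI false
set_option linter.unusedSectionVars false
universe u v w

namespace Groth.Agent.Lib.Helper25.CSTL

open TensorProduct HopfRep Groth.Agent.Lib.Helper25 Module
open Groth.Agent.Lib.Helper25.CST

section LinAlg

variable {k : Type u} [Field k] {V : Type w} [AddCommGroup V] [Module k V]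

theorem exists_sup_span_eq_of_finrank_succ {F W : Submodule k V} (hle : F ≤ W)
    (h : finrank k ↥F + 1 = finrank k ↥W) :
    ∃ ℓ ∈ W, ℓ ∉ F ∧ W ≤ F ⊔ Submodule.span k {ℓ} := by
  haveI : Module.Finite k ↥W := Module.finite_of_finrank_pos (by omega)
  have hne : F ≠ W := by
    rintro rfl
    omega
  have hlt : F < W := lt_of_le_of_ne hle hne
  obtain ⟨ℓ, hℓW, hℓF⟩ := SetLike.exists_of_lt hlt
  refine ⟨ℓ, hℓW, hℓF, ?_⟩
  have hF'W : F ⊔ Submodule.span k {ℓ} ≤ W :=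
    sup_le hle ((Submodule.span_singleton_le_iff_mem ℓ W).mpr hℓW)
  have hlt' : F < F ⊔ Submodule.span k {ℓ} := by
    refine lt_of_le_of_ne le_sup_left (fun h => hℓF ?_)
    rw [h]
    exact Submodule.mem_sup_right (Submodule.mem_span_singleton_self ℓ)
  haveI : Module.Finite k ↥(F ⊔ Submodule.span k {ℓ}) := Submodule.finiteDimensional_of_le hF'W
  have h1 := Submodule.finrank_lt_finrank_of_lt hlt'
  have h2 : F ⊔ Submodule.span k {ℓ} = W :=
    Submodule.eq_of_le_of_finrank_le hF'W (by omega)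
  exact h2.ge

end LinAlg

section AtPt

variable {k : Type u} [Field k] {A : Type u} [CommRing A] [HopfAlgebra k A] [Module.Finite k A]
variable {R : Type u} [CommRing R] [Algebra k R] [cR : Comod k A R] [GLin.IsCoactAlg k A R]

omit [Module.Finite k A] cR [GLin.IsCoactAlg k A R] in
theorem x_slice (x : R →ₐ[k] k) (φ : A →ₗ[k] k) (y : R ⊗[k] A) :
    x (slice R φ y) =
      φ (Algebra.TensorProduct.lid k A (Algebra.TensorProduct.map x (AlgHom.id k A) y)) := by
  induction y using TensorProduct.induction_on with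
  | zero => simp
  | add a b ha hb => simp only [map_add, ha, hb]
  | tmul r a => simp [mul_comm]

theorem isSubcomod_ker_of_isFixedPt (x : R →ₐ[k] k) (hx : GLin.IsFixedPt k A x) :
    IsSubcomod (k := k) (A := A) ((RingHom.ker x).restrictScalars k) := by
  rw [isSubcomod_iff]
  intro φ u hu
  have hu' : x u = 0 := RingHom.mem_ker.mp hu
  show T φ u ∈ RingHom.ker x
  rw [RingHom.mem_ker, T_apply, x_slice, map_coact_of_isFixedPt x hx, hu', map_zero, map_zero,
    map_zero]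

theorem isSubcomod_ker_quotStr (x : R →ₐ[k] k) (hx : GLin.IsFixedPt k A x) (N : Ideal A)
    [N.IsHopfIdeal k] :
    @IsSubcomod k (A ⧸ N) _ _ _ _ R _ _ (quotStr k N) ((RingHom.ker x).restrictScalars k) :=
  isSubcomod_comodAlongCoalg _ cR _ (isSubcomod_ker_of_isFixedPt x hx)

theorem ker_mkₐ_toLinearMap (I : Ideal R) :
    LinearMap.ker (Ideal.Quotient.mkₐ k I).toLinearMap = I.restrictScalars k := by
  ext z
  simp only [LinearMap.mem_ker, AlgHom.toLinearMap_apply, Ideal.Quotient.mkₐ_eq_mk,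
    Ideal.Quotient.eq_zero_iff_mem, Submodule.restrictScalars_mem]

theorem cotFixedLift_eq_fixMod (x : R →ₐ[k] k) (N : Ideal A) [N.IsHopfIdeal k] :
    GLin.cotFixedLift k A R x N =
      @fixMod k _ (A ⧸ N) _ _ R _ _ (quotStr k N) ((RingHom.ker x ^ 2).restrictScalars k) := by
  letI := quotStr k (S := R) N
  ext f
  rw [mem_fixMod_iff, ← ker_mkₐ_toLinearMap (k := k), ← rTensor_eq_zero_iff, map_sub,
    sub_eq_zero, LinearMap.rTensor_tmul, quotStr_coact, ← LinearMap.comp_apply,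
    LinearMap.rTensor_comp_lTensor]
  rfl

theorem exists_cot_gen (x : R →ₐ[k] k) (N : Ideal A) (hN : GLin.IsPseudoReflAt k A R x N)
    (h2 : (RingHom.ker x ^ 2).restrictScalars k ≤ GLin.cotFixedLift k A R x N) :
    ∃ ℓ₀ ∈ RingHom.ker x, ℓ₀ ∉ GLin.cotFixedLift k A R x N ∧
      ∀ a ∈ RingHom.ker x, ∃ v ∈ RingHom.ker x, v ∈ GLin.cotFixedLift k A R x N ∧
        ∃ c : k, a = v + c • ℓ₀ := by
  set π := (Ideal.Quotient.mkₐ k (RingHom.ker x ^ 2)).toLinearMap with hπ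
  have hle : GLin.cotFixed k A R x N ≤ GLin.cotSpace k R x := Submodule.map_mono inf_le_left
  obtain ⟨ℓ', hW, hF, hsup⟩ := exists_sup_span_eq_of_finrank_succ hle hN.2
  obtain ⟨ℓ₀, hℓ₀m, rfl⟩ := hW
  refine ⟨ℓ₀, hℓ₀m, fun h => hF ⟨ℓ₀, ⟨hℓ₀m, h⟩, rfl⟩, ?_⟩
  intro a ha
  have h1 : π a ∈ GLin.cotFixed k A R x N ⊔ Submodule.span k {π ℓ₀} := hsup ⟨a, ha, rfl⟩
  obtain ⟨f, hf, m, hm, hfm⟩ := Submodule.mem_sup.mp h1
  obtain ⟨v, ⟨hvm, hvF⟩, rfl⟩ := hf
  obtain ⟨c, rfl⟩ := Submodule.mem_span_singleton.mp hm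
  have hd : a - v - c • ℓ₀ ∈ RingHom.ker x ^ 2 := by
    rw [← Ideal.Quotient.eq_zero_iff_mem]
    have : π (a - v - c • ℓ₀) = 0 := by
      rw [map_sub, map_sub, map_smul, ← hfm]; abel
    exact this
  have hcℓ : c • ℓ₀ ∈ RingHom.ker x :=
    Submodule.smul_mem ((RingHom.ker x).restrictScalars k) c hℓ₀m
  refine ⟨a - c • ℓ₀, Submodule.sub_mem _ ha hcℓ, ?_, c, by abel⟩
  have e : a - c • ℓ₀ = v + (a - v - c • ℓ₀) := by abel
  rw [e]
  exact Submodule.add_mem _ hvF (h2 hd)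

/-- The data attached to a pseudo-reflection at a fixed point. -/
theorem exists_refl_data_at [IsNoetherianRing R]
    (hsub : ∀ (I : Ideal A) [I.IsHopfIdeal k], HopfRep.IsLinearlyReductive k (A ⧸ I))
    (x : R →ₐ[k] k) (hx : GLin.IsFixedPt k A x)
    (hdom : ∀ a b : R, a * b = 0 →
      (∃ w, x w ≠ 0 ∧ w * a = 0) ∨ (∃ w, x w ≠ 0 ∧ w * b = 0))
    (N : Ideal A) (hN : GLin.IsPseudoReflAt k A R x N) :
    ∃ (E : R →ₗ[k] R) (ℓ : R), x ℓ = 0 ∧
      (∀ z, ℓ * z = 0 → ∃ w, x w ≠ 0 ∧ w * z = 0) ∧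
      (∀ s, ∃ w h : R, x w ≠ 0 ∧ w * (s - E s) = ℓ * h) ∧
      (∀ s, E s ∈ GLin.quotInvariants k A R N) ∧
      (∀ f, f ∈ GLin.quotInvariants k A R N → ∀ s, E (f * s) = f * E s) := by
  haveI : N.IsHopfIdeal k := hN.1
  letI cN : Comod k (A ⧸ N) R := quotStr k N
  haveI : GLin.IsCoactAlg k (A ⧸ N) R := isCoactAlg_quotStr N
  have hss : IsSemisimpleComod k (A ⧸ N) R :=
    isSemisimpleComod_of_isLinearlyReductive (hsub N) R
  have hfix : fixedPts k (A ⧸ N) R = GLin.quotInvariants k A R N := fixedPts_quotStr N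
  obtain ⟨E, hE, hEE, hEx⟩ := exists_reynolds (k := k) (A := A ⧸ N) (V := R) hss
  have hm : IsSubcomod (k := k) (A := A ⧸ N) ((RingHom.ker x).restrictScalars k) :=
    isSubcomod_ker_quotStr x hx N
  have hm2 : IsSubcomod (k := k) (A := A ⧸ N) ((RingHom.ker x ^ 2).restrictScalars k) :=
    isSubcomod_ideal_pow hm 2
  have hcfl := cotFixedLift_eq_fixMod (k := k) (A := A) x N
  have h2 : (RingHom.ker x ^ 2).restrictScalars k ≤ GLin.cotFixedLift k A R x N := by
    rw [hcfl]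
    exact le_fixMod hm2
  obtain ⟨ℓ₀, hℓ₀m, hℓ₀F, hspan0⟩ := exists_cot_gen x N hN h2
  rw [hcfl] at hℓ₀F hspan0 h2
  set MF : Submodule k R := (RingHom.ker x).restrictScalars k ⊓
    fixMod (H := A ⧸ N) ((RingHom.ker x ^ 2).restrictScalars k) with hMF
  have hMFsub : IsSubcomod (k := k) (A := A ⧸ N) MF := isSubcomod_inf hm (isSubcomod_fixMod _)
  have hspan : (RingHom.ker x).restrictScalars k ≤ MF ⊔ Submodule.span k {ℓ₀} := by
    intro a ha
    obtain ⟨v, hvm, hvF, c, rfl⟩ := hspan0 a ha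
    exact Submodule.add_mem _ (Submodule.mem_sup_left ⟨hvm, hvF⟩)
      (Submodule.mem_sup_right (Submodule.smul_mem _ _ (Submodule.mem_span_singleton_self ℓ₀)))
  obtain ⟨ℓ, χ, hℓU, hℓMF, hχ, hdec⟩ := exists_eigen hss hm hMFsub inf_le_left
    (show ℓ₀ ∈ (RingHom.ker x).restrictScalars k from hℓ₀m) (fun h => hℓ₀F h.2) hspan
  have hℓm : ℓ ∈ RingHom.ker x := hℓU
  have hℓ2 : ℓ ∉ RingHom.ker x ^ 2 := by
    intro h
    exact hℓMF ⟨hℓU, h2 h⟩
  haveI hmax : (RingHom.ker x).IsMaximal := by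
    apply RingHom.ker_isMaximal_of_surjective
    intro c
    exact ⟨algebraMap k R c, by simp⟩
  have hdec' : ∀ a, a ∈ RingHom.ker x → ∃ (v : R) (c : k), a = v + c • ℓ ∧
      v ∈ fixMod (H := A ⧸ N) ((RingHom.ker x ^ 2).restrictScalars k) := by
    intro a ha
    obtain ⟨v, hv, c, hvc⟩ := hdec a ha
    exact ⟨v, c, hvc, hv.2⟩
  refine ⟨E, ℓ, RingHom.mem_ker.mp hℓm, ?_, ?_, ?_, ?_⟩
  · intro z hz
    rcases hdom ℓ z hz with ⟨w, hw, hwℓ⟩ | h
    · exfalso
      apply hℓ2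
      refine mem_of_mul_mem_of_pow_le (𝔪 := RingHom.ker x) (n := 2) le_rfl
        (fun h => hw (RingHom.mem_ker.mp h)) (w := w) ?_
      rw [hwℓ]
      exact Submodule.zero_mem _
    · exact h
  · intro s
    exact exists_mul_sub_reynolds_mem_span x hss hE hEE hEx hm hχ hdec' s
  · intro s
    rw [← hfix, ← hEx]
    exact LinearMap.congr_fun hEE s
  · intro f hf s
    rw [← hfix] at hf
    exact reynolds_mul_of_mem_fixedPts hss hE hEE hEx hf s

end AtPt

end Groth.Agent.Lib.Helper25.CSTL
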