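import Groth.Agent.Lib.Helper25CSTLocal3
import Groth.Agent.Lib.Helper25CSTKey

/-!
# Helper25CSTLocal4: Chevalley's key lemma and independence argument at a fixed point (helper25)
-/

set_option autoImplicit false
set_option linter.style.haveILetI false
set_option linter.unusedSectionVars false
universe u

namespace Groth.Agent.Lib.Helper25.CSTL

open TensorProduct HopfRep Groth.Agent.Lib.Helper25 Module
open Groth.Agent.Lib.Helper25.CST
open Groth.Agent.Lib.Helper25.Fix Groth.Agent.Lib.Helper25.DynL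

section Gen

variable {k : Type u} [Field k] {A : Type u} [CommRing A] [HopfAlgebra k A]
variable {R : Type u} [CommRing R] [Algebra k R] [cR : Comod k A R] [GLin.IsCoactAlg k A R]

/-- If `G` is generated by pseudo-reflections at `x`, an element of `R/I` fixed by all
pseudo-reflection subgroups is fixed by `G`; in terms of the Reynolds operator. -/
theorem sub_reynolds_mem_of_forall_reflAt (hG : IsLinearlyReductive k A) (x : R →ₐ[k] k)
    (hgen : GLin.IsGenByPseudoReflAt k A R x)
    {I : Ideal R} (hI : IsSubcomod (k := k) (A := A) (I.restrictScalars k))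
    {E : R →ₗ[k] R} (hE : Hoch.IsComodHom A E) (hEE : E ∘ₗ E = E)
    (hEx : ∀ z : R, E z = z ↔ z ∈ fixedPts k A R) (s : R)
    (h : ∀ N : Ideal A, GLin.IsPseudoReflAt k A R x N →
      ∃ t ∈ GLin.quotInvariants k A R N, s - t ∈ I) :
    s - E s ∈ I := by
  set Ik := I.restrictScalars k with hIk
  letI cW : Comod k A (R ⧸ Ik) := quotComod Ik hI
  have hmk : Hoch.IsComodHom A Ik.mkQ := isComodHom_mkQ _ hI
  set w : R ⧸ Ik := Ik.mkQ s with hw
  have hfixN : ∀ N : Ideal A, GLin.IsPseudoReflAt k A R x N →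
      fixIdeal (k := k) (A := A) w ≤ N := by
    intro N hN
    rw [← mem_quotInvariants_iff_fixIdeal_le]
    obtain ⟨t, ht, hst⟩ := h N hN
    have hwt : w = Ik.mkQ t := by
      rw [hw, ← sub_eq_zero, ← map_sub]
      exact (Submodule.Quotient.mk_eq_zero _).mpr hst
    rw [GLin.mem_quotInvariants_iff, hwt, isComodHom_apply hmk]
    rw [GLin.mem_quotInvariants_iff] at ht
    rw [← LinearMap.comp_apply, LinearMap.lTensor_comp_rTensor, ← LinearMap.rTensor_comp_lTensor,
      LinearMap.comp_apply, ht, LinearMap.rTensor_tmul]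
  have hfix0 : fixIdeal (k := k) (A := A) w ≤ ⊥ := by
    have hgen' : GLin.genIdealAt k A R x = ⊥ := hgen
    rw [← hgen']
    exact le_sSup ⟨inferInstance, hfixN⟩
  have hwfix : w ∈ fixedPts k A (R ⧸ Ik) := by
    have h1 := (kills_fixIdeal_iff (k := k) (A := A) w (AlgHom.id k A)).mp (by
      intro a ha
      have := hfix0 ha
      rw [Ideal.mem_bot] at this
      rw [this, map_zero])
    unfold actL at h1
    rw [LinearMap.comp_apply] at h1
    have h2 : (AlgHom.id k A).toLinearMap.lTensor (R ⧸ Ik) = LinearMap.id := by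
      rw [AlgHom.toLinearMap_id, LinearMap.lTensor_id]
    rw [h2, LinearMap.id_apply] at h1
    exact h1
  have hssS : IsSemisimpleComod k A R := isSemisimpleComod_of_isLinearlyReductive hG R
  have hssW : IsSemisimpleComod k A (R ⧸ Ik) := isSemisimpleComod_of_isLinearlyReductive hG _
  obtain ⟨E', hE', hEE', hEx'⟩ := exists_reynolds (k := k) (A := A) (V := R ⧸ Ik) hssW
  have hcomm := reynolds_comm hssS hE hEE hEx hE' hEE' hEx' hmk
  have h1 := LinearMap.congr_fun hcomm s
  simp only [LinearMap.comp_apply] at h1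
  have h2 : E' w = w := (hEx' w).mpr hwfix
  rw [← hw, h2] at h1
  have h3 : Ik.mkQ (s - E s) = 0 := by rw [map_sub, ← hw, h1, sub_self]
  exact (Submodule.Quotient.mk_eq_zero _).mp h3

end Gen

section Key

variable {k : Type u} [Field k] {A : Type u} [CommRing A] [HopfAlgebra k A] [Module.Finite k A]
variable {R : Type u} [CommRing R] [Algebra k R] [cR : Comod k A R] [GLin.IsCoactAlg k A R]

variable (k A) in
/-- The invariants vanishing at `x`. -/
def pSet (x : R →ₐ[k] k) : Set R := {f | f ∈ GLin.invariants k A R ∧ x f = 0}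

variable (k A) in
/-- The ideal of `R` generated by the invariants vanishing at `x`. -/
noncomputable def hilbIdealAt (x : R →ₐ[k] k) : Ideal R := Ideal.span (pSet k A x)

theorem isSubcomod_hilbIdealAt (x : R →ₐ[k] k) :
    IsSubcomod (k := k) (A := A) ((hilbIdealAt k A x).restrictScalars k) :=
  isSubcomod_span_of_fixedPts (fun _ hf => hf.1)

theorem hilbIdealAt_le_ker (x : R →ₐ[k] k) : hilbIdealAt k A x ≤ RingHom.ker x := by
  unfold hilbIdealAt
  rw [Ideal.span_le]
  intro f hf
  exact RingHom.mem_ker.mpr hf.2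

theorem sub_algebraMap_mem_pSet (x : R →ₐ[k] k) {c : R} (hc : c ∈ GLin.invariants k A R) :
    c - algebraMap k R (x c) ∈ pSet k A x := by
  refine ⟨Subalgebra.sub_mem _ hc (Subalgebra.algebraMap_mem _ _), ?_⟩
  rw [map_sub, AlgHom.commutes]
  simp

theorem pSet_subset_hilbIdealAt (x : R →ₐ[k] k) {μ : R} (hμ : μ ∈ pSet k A x) :
    μ ∈ hilbIdealAt k A x := Ideal.subset_span hμ

/-- The Hilbert ideal at `x` is saturated with respect to invariants not vanishing at `x`. -/
theorem mem_hilbIdealAt_of_mul (x : R →ₐ[k] k) {t z : R} (ht : t ∈ GLin.invariants k A R)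
    (hxt : x t ≠ 0) (htz : t * z ∈ hilbIdealAt k A x) : z ∈ hilbIdealAt k A x := by
  have h1 : (t - algebraMap k R (x t)) * z ∈ hilbIdealAt k A x :=
    Ideal.mul_mem_right _ _ (pSet_subset_hilbIdealAt x (sub_algebraMap_mem_pSet x ht))
  have h2 : algebraMap k R (x t) * z ∈ hilbIdealAt k A x := by
    have : algebraMap k R (x t) * z = t * z - (t - algebraMap k R (x t)) * z := by ring
    rw [this]
    exact Submodule.sub_mem _ htz h1
  have h3 : z = algebraMap k R (x t)⁻¹ * (algebraMap k R (x t) * z) := by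
    rw [← mul_assoc, ← map_mul, inv_mul_cancel₀ hxt, map_one, one_mul]
  rw [h3]
  exact Ideal.mul_mem_left _ _ h2

/-- **Chevalley's key lemma at a fixed point**, in `𝔪`-adic form with slack. -/
theorem key_lemma_at [IsNoetherianRing R] (hG : IsLinearlyReductive k A)
    (hsub : ∀ (I : Ideal A) [I.IsHopfIdeal k], HopfRep.IsLinearlyReductive k (A ⧸ I))
    (x : R →ₐ[k] k) (hx : GLin.IsFixedPt k A x)
    (hdom : ∀ a b : R, a * b = 0 →
      (∃ w, x w ≠ 0 ∧ w * a = 0) ∨ (∃ w, x w ≠ 0 ∧ w * b = 0))
    (hgen : GLin.IsGenByPseudoReflAt k A R x)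
    (r : ℕ) (f : Fin (r + 1) → R) (hf : ∀ i, f i ∈ GLin.invariants k A R)
    (hmin : ∀ (c : Fin r → R) (μ : R), (∀ i, c i ∈ GLin.invariants k A R) →
      μ ∈ pSet k A x → f 0 ≠ ∑ i : Fin r, c i * f i.succ + μ * f 0) :
    ∀ (d : ℕ) (g : Fin (r + 1) → R),
      (∃ t ∈ GLin.invariants k A R, x t ≠ 0 ∧ t * ∑ i, f i * g i = 0) →
      g 0 ∈ hilbIdealAt k A x ⊔ RingHom.ker x ^ d := by
  classical
  have hssS : IsSemisimpleComod k A R := isSemisimpleComod_of_isLinearlyReductive hG R
  obtain ⟨E, hE, hEE, hEx⟩ := exists_reynolds (k := k) (A := A) (V := R) hssS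
  have hElin : ∀ a : R, a ∈ GLin.invariants k A R → ∀ s : R, E (a * s) = a * E s :=
    fun a ha s => reynolds_mul_of_mem_fixedPts hssS hE hEE hEx ha s
  have hEfix : ∀ s : R, E s ∈ GLin.invariants k A R := fun s =>
    (hEx _).mp (LinearMap.congr_fun hEE s)
  have hmA : IsSubcomod (k := k) (A := A) ((RingHom.ker x).restrictScalars k) :=
    isSubcomod_ker_of_isFixedPt x hx
  haveI hmax : (RingHom.ker x).IsMaximal := by
    apply RingHom.ker_isMaximal_of_surjective
    intro c
    exact ⟨algebraMap k R c, by simp⟩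
  -- Claim B
  have hB : ∀ g : Fin (r + 1) → R,
      (∃ t ∈ GLin.invariants k A R, x t ≠ 0 ∧ t * ∑ i, f i * g i = 0) →
      E (g 0) ∈ hilbIdealAt k A x := by
    rintro g ⟨t, ht, hxt, hrel⟩
    have h1 : t * ∑ i, f i * E (g i) = 0 := by
      have := congrArg E hrel
      rw [map_zero, hElin t ht, map_sum] at this
      rw [← this]
      congr 1
      exact Finset.sum_congr rfl (fun i _ => (hElin _ (hf i) _).symm)
    by_cases hc : x (E (g 0)) = 0
    · exact Ideal.subset_span ⟨hEfix _, hc⟩
    · exfalso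
      set τ := t * E (g 0) with hτ
      have hτinv : τ ∈ GLin.invariants k A R := Subalgebra.mul_mem _ ht (hEfix _)
      set a : k := x τ with ha
      have ha0 : a ≠ 0 := by
        rw [ha, hτ, map_mul]
        exact mul_ne_zero hxt hc
      rw [Fin.sum_univ_succ, mul_add] at h1
      refine hmin (fun i => -(algebraMap k R a⁻¹ * (t * E (g i.succ))))
        (1 - algebraMap k R a⁻¹ * τ) ?_ ?_ ?_
      · intro i
        exact Subalgebra.neg_mem _ (Subalgebra.mul_mem _ (Subalgebra.algebraMap_mem _ _)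
          (Subalgebra.mul_mem _ ht (hEfix _)))
      · refine ⟨Subalgebra.sub_mem _ (Subalgebra.one_mem _)
          (Subalgebra.mul_mem _ (Subalgebra.algebraMap_mem _ _) hτinv), ?_⟩
        rw [map_sub, map_one, map_mul, AlgHom.commutes, ← ha]
        simp [ha0]
      · have h2 : τ * f 0 = -(t * ∑ i : Fin r, f i.succ * E (g i.succ)) := by
          rw [eq_neg_iff_add_eq_zero, ← h1, hτ]
          ring
        have h3 : ∑ i : Fin r, -(algebraMap k R a⁻¹ * (t * E (g i.succ))) * f i.succ =
            -(algebraMap k R a⁻¹ * (t * ∑ i : Fin r, f i.succ * E (g i.succ))) := by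
          rw [Finset.mul_sum, Finset.mul_sum, ← Finset.sum_neg_distrib]
          apply Finset.sum_congr rfl
          intro i _
          ring
        rw [h3, sub_mul, one_mul, mul_assoc, h2]
        ring
  intro d
  induction d with
  | zero =>
    intro g _
    rw [pow_zero, Ideal.one_eq_top, sup_top_eq]
    trivial
  | succ d ih =>
    intro g hrel
    have hA : g 0 - E (g 0) ∈ hilbIdealAt k A x ⊔ RingHom.ker x ^ (d + 1) := by
      apply sub_reynolds_mem_of_forall_reflAt hG x hgen
        (isSubcomod_ideal_sup (isSubcomod_hilbIdealAt x) (isSubcomod_ideal_pow hmA (d + 1)))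
        hE hEE hEx
      intro N hN
      obtain ⟨EN, ℓ, hℓm, hF2, hF1, hENinv, hENlin⟩ := exists_refl_data_at hsub x hx hdom N hN
      refine ⟨EN (g 0), hENinv _, ?_⟩
      obtain ⟨t, ht, hxt, hrel⟩ := hrel
      choose w h hw hwh using fun i => hF1 (g i)
      set W := ∏ i, w i with hW
      have hxW : x W ≠ 0 := by
        rw [hW, map_prod]
        exact Finset.prod_ne_zero_iff.mpr (fun i _ => hw i)
      set h' : Fin (r + 1) → R := fun i => (∏ j ∈ Finset.univ.erase i, w j) * h i with hh'
      have hWh : ∀ i, W * (g i - EN (g i)) = ℓ * h' i := by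
        intro i
        have : W = (∏ j ∈ Finset.univ.erase i, w j) * w i := by
          rw [hW, Finset.prod_erase_mul _ _ (Finset.mem_univ i)]
        rw [this, mul_assoc, hwh i, hh']
        ring
      haveI : N.IsHopfIdeal k := hN.1
      have hfN : ∀ i, f i ∈ GLin.quotInvariants k A R N :=
        fun i => invariants_le_quotInvariants N (hf i)
      have htN : t ∈ GLin.quotInvariants k A R N := invariants_le_quotInvariants N ht
      have h1 : ℓ * (t * ∑ i, f i * h' i) = 0 := by
        have e1 : ℓ * (t * ∑ i, f i * h' i) =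
            W * (t * ∑ i, f i * g i - EN (t * ∑ i, f i * g i)) := by
          have e2 : EN (t * ∑ i, f i * g i) = t * ∑ i, f i * EN (g i) := by
            rw [hENlin t htN, map_sum]
            congr 1
            exact Finset.sum_congr rfl (fun i _ => hENlin _ (hfN i) _)
          rw [e2, ← mul_sub, ← Finset.sum_sub_distrib, Finset.mul_sum, Finset.mul_sum,
            Finset.mul_sum, Finset.mul_sum]
          apply Finset.sum_congr rfl
          intro i _
          calc ℓ * (t * (f i * h' i)) = t * f i * (ℓ * h' i) := by ring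
            _ = t * f i * (W * (g i - EN (g i))) := by rw [hWh]
            _ = W * (t * (f i * g i - f i * EN (g i))) := by ring
        rw [e1, hrel, map_zero, sub_zero, mul_zero]
      obtain ⟨w', hw', hw'z⟩ := hF2 _ h1
      obtain ⟨w'', hinv, hxne⟩ := exists_invariant_multiple x hx w' hw'
      have hh0 : h' 0 ∈ hilbIdealAt k A x ⊔ RingHom.ker x ^ d := by
        apply ih h'
        refine ⟨w' * w'' * t, Subalgebra.mul_mem _ hinv ht, ?_, ?_⟩
        · rw [map_mul]
          exact mul_ne_zero hxne hxt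
        · calc w' * w'' * t * ∑ i, f i * h' i = w'' * (w' * (t * ∑ i, f i * h' i)) := by ring
            _ = 0 := by rw [hw'z, mul_zero]
      have h2 : W * (g 0 - EN (g 0)) ∈ hilbIdealAt k A x ⊔ RingHom.ker x ^ (d + 1) := by
        rw [hWh 0]
        obtain ⟨i, hi, m, hm, him⟩ := Submodule.mem_sup.mp hh0
        rw [← him, mul_add]
        refine Submodule.add_mem _ (Submodule.mem_sup_left (Ideal.mul_mem_left _ _ hi))
          (Submodule.mem_sup_right ?_)
        have e3 : ℓ * m = m * ℓ := mul_comm _ _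
        rw [e3, pow_succ]
        exact Ideal.mul_mem_mul hm (RingHom.mem_ker.mpr hℓm)
      exact mem_of_mul_mem_of_pow_le (𝔪 := RingHom.ker x) (n := d + 1) le_sup_right
        (fun h => hxW (RingHom.mem_ker.mp h)) h2
    have := Submodule.add_mem _ hA (Submodule.mem_sup_left (hB g hrel))
    rwa [sub_add_cancel] at this

/-- The key lemma, after Krull's intersection theorem. -/
theorem key_lemma_at' [IsNoetherianRing R] (hG : IsLinearlyReductive k A)
    (hsub : ∀ (I : Ideal A) [I.IsHopfIdeal k], HopfRep.IsLinearlyReductive k (A ⧸ I))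
    (x : R →ₐ[k] k) (hx : GLin.IsFixedPt k A x)
    (hdom : ∀ a b : R, a * b = 0 →
      (∃ w, x w ≠ 0 ∧ w * a = 0) ∨ (∃ w, x w ≠ 0 ∧ w * b = 0))
    (hgen : GLin.IsGenByPseudoReflAt k A R x)
    (r : ℕ) (f : Fin (r + 1) → R) (hf : ∀ i, f i ∈ GLin.invariants k A R)
    (hmin : ∀ (c : Fin r → R) (μ : R), (∀ i, c i ∈ GLin.invariants k A R) →
      μ ∈ pSet k A x → f 0 ≠ ∑ i : Fin r, c i * f i.succ + μ * f 0)
    (g : Fin (r + 1) → R)
    (hrel : ∃ t ∈ GLin.invariants k A R, x t ≠ 0 ∧ t * ∑ i, f i * g i = 0) :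
    g 0 ∈ hilbIdealAt k A x := by
  haveI : (RingHom.ker x).IsPrime := RingHom.ker_isPrime x
  obtain ⟨w, hw, hwm⟩ := exists_notMem_mul_mem_of_forall_mem_sup_pow (RingHom.ker x)
    (hilbIdealAt k A x) (g 0)
    (fun d => key_lemma_at hG hsub x hx hdom hgen r f hf hmin d g hrel)
  have hw' : x w ≠ 0 := fun h => hw (RingHom.mem_ker.mpr h)
  obtain ⟨w'', hinv, hxne⟩ := exists_invariant_multiple x hx w hw'
  apply mem_hilbIdealAt_of_mul x hinv hxne
  have : w * w'' * g 0 = w'' * (w * g 0) := by ring
  rw [this]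
  exact Ideal.mul_mem_left _ _ hwm

end Key

end Groth.Agent.Lib.Helper25.CSTL
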