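import Groth.Agent.Lib.Helper25CSTLocal4

/-!
# Helper25CSTLocal5: Chevalley's independence argument at a fixed point (helper25)
-/

set_option autoImplicit false
set_option linter.style.haveILetI false
set_option linter.unusedSectionVars false
universe u

namespace Groth.Agent.Lib.Helper25.CSTL

open TensorProduct HopfRep Groth.Agent.Lib.Helper25 Module
open Groth.Agent.Lib.Helper25.CST

section Indep

variable {k : Type u} [Field k] {A : Type u} [CommRing A] [HopfAlgebra k A] [Module.Finite k A]
variable {R : Type u} [CommRing R] [Algebra k R] [cR : Comod k A R] [GLin.IsCoactAlg k A R]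

theorem indep_at [IsNoetherianRing R] (hG : IsLinearlyReductive k A)
    (hsub : ∀ (I : Ideal A) [I.IsHopfIdeal k], HopfRep.IsLinearlyReductive k (A ⧸ I))
    (x : R →ₐ[k] k) (hx : GLin.IsFixedPt k A x)
    (hdom : ∀ a b : R, a * b = 0 →
      (∃ w, x w ≠ 0 ∧ w * a = 0) ∨ (∃ w, x w ≠ 0 ∧ w * b = 0))
    (hgen : GLin.IsGenByPseudoReflAt k A R x) :
    ∀ (n : ℕ) (e : Fin n → R),
      (∀ l : Fin n → k, (∑ j, algebraMap k R (l j) * e j) ∈ hilbIdealAt k A x → ∀ j, l j = 0) →
      ∀ b : Fin n → R, (∀ j, b j ∈ GLin.invariants k A R) →
        (∃ t ∈ GLin.invariants k A R, x t ≠ 0 ∧ t * ∑ j, b j * e j = 0) →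
        ∃ v ∈ GLin.invariants k A R, x v ≠ 0 ∧ ∀ j, v * b j = 0 := by
  classical
  intro n
  induction n with
  | zero =>
    intro e _ b _ _
    exact ⟨1, Subalgebra.one_mem _, by simp, fun j => j.elim0⟩
  | succ n ih =>
    intro e hind b hb hrel
    by_cases hmin : ∀ (c : Fin n → R) (μ : R), (∀ i, c i ∈ GLin.invariants k A R) →
        μ ∈ pSet k A x → b 0 ≠ ∑ i : Fin n, c i * b i.succ + μ * b 0
    · exfalso
      have h1 := key_lemma_at' hG hsub x hx hdom hgen n b hb hmin e hrel
      have h2 := hind (Pi.single 0 1) (by
        rw [Finset.sum_eq_single 0]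
        · simpa using h1
        · intro j _ hj
          simp [Pi.single_eq_of_ne hj]
        · intro h; exact absurd (Finset.mem_univ _) h) 0
      simp at h2
    · push Not at hmin
      obtain ⟨c, μ, hc, hμ, hb0⟩ := hmin
      obtain ⟨t, ht, hxt, hrel⟩ := hrel
      have hrel0 : b 0 * e 0 + ∑ j : Fin n, b j.succ * e j.succ = ∑ j, b j * e j := by
        rw [Fin.sum_univ_succ]
      have e2 : ∑ j : Fin n, c j * b j.succ = b 0 - μ * b 0 := by
        rw [eq_sub_iff_add_eq]
        exact hb0.symm
      have hrel' : t * ∑ j : Fin n, b j.succ * (c j * e 0 + (1 - μ) * e j.succ) = 0 := by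
        have e1 : ∑ j : Fin n, b j.succ * (c j * e 0 + (1 - μ) * e j.succ) =
            (∑ j : Fin n, c j * b j.succ) * e 0 + (1 - μ) * ∑ j : Fin n, b j.succ * e j.succ := by
          rw [Finset.sum_mul, Finset.mul_sum, ← Finset.sum_add_distrib]
          apply Finset.sum_congr rfl
          intro j _
          ring
        have e3 : t * ((b 0 - μ * b 0) * e 0 + (1 - μ) * ∑ j : Fin n, b j.succ * e j.succ) =
            (1 - μ) * (t * (b 0 * e 0 + ∑ j : Fin n, b j.succ * e j.succ)) := by ring
        rw [e1, e2, e3, hrel0, hrel, mul_zero]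
      have hind' : ∀ l : Fin n → k,
          (∑ j, algebraMap k R (l j) * (c j * e 0 + (1 - μ) * e j.succ)) ∈ hilbIdealAt k A x →
          ∀ j, l j = 0 := by
        intro l hl
        set l0 : k := ∑ j, l j * x (c j) with hl0
        have key : (∑ j : Fin (n + 1),
            algebraMap k R ((Fin.cons l0 l : Fin (n + 1) → k) j) * e j) ∈ hilbIdealAt k A x := by
          rw [Fin.sum_univ_succ]
          simp only [Fin.cons_zero, Fin.cons_succ]
          have e1 : algebraMap k R l0 * e 0 + ∑ j : Fin n, algebraMap k R (l j) * e j.succ =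
              (∑ j, algebraMap k R (l j) * (c j * e 0 + (1 - μ) * e j.succ)) +
              (μ * ∑ j : Fin n, algebraMap k R (l j) * e j.succ -
                (∑ j : Fin n, algebraMap k R (l j) * (c j - algebraMap k R (x (c j)))) * e 0) := by
            have h3 : (algebraMap k R l0 : R) =
                ∑ j : Fin n, algebraMap k R (l j) * algebraMap k R (x (c j)) := by
              rw [hl0, map_sum]
              apply Finset.sum_congr rfl
              intro j _
              rw [map_mul]
            have h4 : ∑ j, algebraMap k R (l j) * (c j * e 0 + (1 - μ) * e j.succ) =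
                (∑ j : Fin n, algebraMap k R (l j) * c j) * e 0 +
                (1 - μ) * ∑ j : Fin n, algebraMap k R (l j) * e j.succ := by
              rw [Finset.sum_mul, Finset.mul_sum, ← Finset.sum_add_distrib]
              apply Finset.sum_congr rfl
              intro j _
              ring
            have h5 : ∑ j : Fin n, algebraMap k R (l j) * (c j - algebraMap k R (x (c j))) =
                ∑ j : Fin n, algebraMap k R (l j) * c j -
                ∑ j : Fin n, algebraMap k R (l j) * algebraMap k R (x (c j)) := by
              rw [← Finset.sum_sub_distrib]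
              apply Finset.sum_congr rfl
              intro j _
              ring
            rw [h3, h4, h5]
            ring
          rw [e1]
          refine Submodule.add_mem _ hl (Submodule.sub_mem _ ?_ ?_)
          · exact Ideal.mul_mem_right _ _ (pSet_subset_hilbIdealAt x hμ)
          · refine Ideal.mul_mem_right _ _ (Submodule.sum_mem _ (fun j _ => ?_))
            exact Ideal.mul_mem_left _ _
              (pSet_subset_hilbIdealAt x (sub_algebraMap_mem_pSet x (hc j)))
        intro j
        have := hind (Fin.cons l0 l) key j.succ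
        simpa using this
      obtain ⟨v', hv', hxv', hbs⟩ := ih (fun j => c j * e 0 + (1 - μ) * e j.succ) hind'
        (fun j => b j.succ) (fun j => hb j.succ) ⟨t, ht, hxt, hrel'⟩
      refine ⟨v' * (1 - μ), Subalgebra.mul_mem _ hv'
        (Subalgebra.sub_mem _ (Subalgebra.one_mem _) hμ.1), ?_, ?_⟩
      · rw [map_mul, map_sub, map_one, hμ.2, sub_zero, mul_one]
        exact hxv'
      · have hb00 : v' * (1 - μ) * b 0 = 0 := by
          have h6 : (1 - μ) * b 0 = ∑ i : Fin n, c i * b i.succ := by
            rw [e2]; ring
          rw [mul_assoc, h6, Finset.mul_sum]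
          apply Finset.sum_eq_zero
          intro i _
          have : v' * (c i * b i.succ) = c i * (v' * b i.succ) := by ring
          rw [this, hbs i, mul_zero]
        intro j
        refine Fin.cases hb00 (fun i => ?_) j
        have : v' * (1 - μ) * b i.succ = (1 - μ) * (v' * b i.succ) := by ring
        rw [this, hbs i, mul_zero]

end Indep

end Groth.Agent.Lib.Helper25.CSTL
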