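import Groth.Agent.Lib.Helper25CSTLocal5
import Groth.Agent.Lib.Helper25CSTLoc2
import Groth.Agent.Lib.Helper25FinQuot
import Groth.Agent.Lib.Helper5RLR
import Groth.Agent.Lib.Helper6SmReg

/-!
# Helper25CSTLocal6: regularity of the invariants at the image of a fixed point (helper25)
-/

set_option autoImplicit false
set_option linter.style.haveILetI false
set_option linter.unusedSectionVars false
universe u

namespace Groth.Agent.Lib.Helper25.CSTL

open TensorProduct HopfRep Groth.Agent.Lib.Helper25 Module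
open Groth.Agent.Lib.Helper25.CST

section Final

variable {k : Type u} [Field k] {A : Type u} [CommRing A] [HopfAlgebra k A] [Module.Finite k A]
variable {R : Type u} [CommRing R] [Algebra k R] [cR : Comod k A R] [GLin.IsCoactAlg k A R]

variable (k A R) in
/-- the ring of invariants as a type -/
abbrev InvR : Type u := ↥(GLin.invariants k A R)

variable (A) in
/-- the prime of the invariants below `x` -/
abbrev pIdeal (x : R →ₐ[k] k) : Ideal (InvR k A R) :=
  RingHom.ker (x.comp (GLin.invariants k A R).val)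

theorem mem_pIdeal_iff (x : R →ₐ[k] k) (a : InvR k A R) :
    a ∈ pIdeal A x ↔ (a : R) ∈ pSet k A x := by
  rw [RingHom.mem_ker]
  constructor
  · intro h; exact ⟨a.2, h⟩
  · intro h; exact h.2

theorem hilbIdealAt_eq_map (x : R →ₐ[k] k) :
    hilbIdealAt k A x = Ideal.map (algebraMap (InvR k A R) R) (pIdeal A x) := by
  apply le_antisymm
  · unfold hilbIdealAt
    rw [Ideal.span_le]
    intro f hf
    have : f = algebraMap (InvR k A R) R ⟨f, hf.1⟩ := rfl
    rw [this]
    exact Ideal.mem_map_of_mem _ ((mem_pIdeal_iff x _).mpr hf)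
  · rw [Ideal.map_le_iff_le_comap]
    intro a ha
    exact Ideal.subset_span ((mem_pIdeal_iff x a).mp ha)

theorem mk_algebraMap_mul (I : Ideal R) (c : k) (z : R) :
    Ideal.Quotient.mk I (algebraMap k R c * z) = c • Ideal.Quotient.mk I z := by
  rw [← Algebra.smul_def]
  rfl

theorem mk_smul_eq_at (x : R →ₐ[k] k) (r : InvR k A R) (z : R) :
    Ideal.Quotient.mk (hilbIdealAt k A x) (r • z) =
      x (r : R) • Ideal.Quotient.mk (hilbIdealAt k A x) z := by
  have h1 : r • z = (r : R) * z := rfl
  have h2 : (r : R) = algebraMap k R (x (r : R)) + ((r : R) - algebraMap k R (x (r : R))) := by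
    ring
  rw [h1]
  conv_lhs => rw [h2]
  rw [add_mul, map_add]
  have h3 : Ideal.Quotient.mk (hilbIdealAt k A x)
      (((r : R) - algebraMap k R (x (r : R))) * z) = 0 := by
    rw [Ideal.Quotient.eq_zero_iff_mem]
    exact Ideal.mul_mem_right _ _ (pSet_subset_hilbIdealAt x (sub_algebraMap_mem_pSet x r.2))
  rw [h3, add_zero, mk_algebraMap_mul]

theorem finite_quot_hilbIdealAt (x : R →ₐ[k] k) [Module.Finite (InvR k A R) R] :
    Module.Finite k (R ⧸ hilbIdealAt k A x) := by
  classical
  obtain ⟨G, hG⟩ := Module.finite_def.mp (inferInstance : Module.Finite (InvR k A R) R)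
  refine Module.finite_def.mpr ⟨G.image (Ideal.Quotient.mk (hilbIdealAt k A x)), ?_⟩
  rw [eq_top_iff]
  intro y _
  obtain ⟨s, rfl⟩ := Ideal.Quotient.mk_surjective y
  have hs : s ∈ Submodule.span (InvR k A R) (G : Set R) := by rw [hG]; trivial
  refine Submodule.span_induction (p := fun s _ => Ideal.Quotient.mk (hilbIdealAt k A x) s ∈
    Submodule.span k ((G.image (Ideal.Quotient.mk (hilbIdealAt k A x)) : Finset _) : Set _))
    ?_ ?_ ?_ ?_ hs
  · intro z hz
    apply Submodule.subset_span
    rw [Finset.coe_image]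
    exact ⟨z, hz, rfl⟩
  · rw [map_zero]; exact Submodule.zero_mem _
  · intro z y _ _ hz hy
    rw [map_add]; exact Submodule.add_mem _ hz hy
  · intro r z _ hz
    rw [mk_smul_eq_at]
    exact Submodule.smul_mem _ _ hz

theorem linearIndependent_localization_at [IsNoetherianRing R] (hG : IsLinearlyReductive k A)
    (hsub : ∀ (I : Ideal A) [I.IsHopfIdeal k], HopfRep.IsLinearlyReductive k (A ⧸ I))
    (x : R →ₐ[k] k) (hx : GLin.IsFixedPt k A x)
    (hdom : ∀ a b : R, a * b = 0 →
      (∃ w, x w ≠ 0 ∧ w * a = 0) ∨ (∃ w, x w ≠ 0 ∧ w * b = 0))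
    (hgen : GLin.IsGenByPseudoReflAt k A R x) [(pIdeal A x).IsPrime] {n : ℕ} (e : Fin n → R)
    (hind : ∀ l : Fin n → k, (∑ j, algebraMap k R (l j) * e j) ∈ hilbIdealAt k A x →
      ∀ j, l j = 0) :
    LinearIndependent (Localization.AtPrime (pIdeal A x))
      (algebraMap R (Localization (Algebra.algebraMapSubmonoid R (pIdeal A x).primeCompl)) ∘ e) := by
  apply linearIndependent_localization_of_slack (pIdeal A x) e
  rintro b ⟨t₀, ht₀, hrel⟩
  have hxt₀ : x (t₀ : R) ≠ 0 := fun h => ht₀ (RingHom.mem_ker.mpr h)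
  obtain ⟨v, hv, hxv, hvb⟩ := indep_at hG hsub x hx hdom hgen n e hind (fun j => (b j : R))
    (fun j => (b j).2) ⟨(t₀ : R), t₀.2, hxt₀, hrel⟩
  have hvp : (⟨v, hv⟩ : InvR k A R) ∈ (pIdeal A x).primeCompl :=
    fun h => hxv (RingHom.mem_ker.mp h)
  exact ⟨⟨v, hv⟩, hvp, fun j => Subtype.ext (hvb j)⟩

/-- **Regularity of the invariants at the image of a fixed point.** -/
theorem isRegularLocalRing_invariants_at [Algebra.FiniteType k R] [Algebra.Smooth k R]
    (hG : IsLinearlyReductive k A)
    (hsub : ∀ (I : Ideal A) [I.IsHopfIdeal k], HopfRep.IsLinearlyReductive k (A ⧸ I))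
    (x : R →ₐ[k] k) (hx : GLin.IsFixedPt k A x)
    (hgen : GLin.IsGenByPseudoReflAt k A R x) [(pIdeal A x).IsPrime] :
    IsRegularLocalRing (Localization.AtPrime (pIdeal A x)) := by
  classical
  obtain ⟨hft, hfin⟩ := finite_quotient k A R
  haveI := hft
  haveI := hfin
  haveI : IsNoetherianRing (InvR k A R) := Algebra.FiniteType.isNoetherianRing k _
  haveI : IsNoetherianRing R := Algebra.FiniteType.isNoetherianRing k R
  haveI : IsRegularRing R := by
    rw [isRegularRing_iff]
    intro q hq
    have : Algebra.IsSmoothAt k q := inferInstance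
    exact Groth.Agent.Lib.Helper6.SmReg.isRegularLocalRing_of_isSmoothAt (R := k) q
  haveI hker : (RingHom.ker x).IsPrime := RingHom.ker_isPrime x
  haveI : IsDomain (Localization.AtPrime (RingHom.ker x)) :=
    Groth.Agent.Lib.Helper5.isDomain_of_isRegularLocalRing _
  have hdom : ∀ a b : R, a * b = 0 →
      (∃ w, x w ≠ 0 ∧ w * a = 0) ∨ (∃ w, x w ≠ 0 ∧ w * b = 0) := by
    intro a b hab
    have h1 : algebraMap R (Localization.AtPrime (RingHom.ker x)) a *
        algebraMap R (Localization.AtPrime (RingHom.ker x)) b = 0 := by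
      rw [← map_mul, hab, map_zero]
    rcases mul_eq_zero.mp h1 with h | h
    · left
      obtain ⟨m, hm⟩ := (IsLocalization.map_eq_zero_iff (RingHom.ker x).primeCompl _ _).mp h
      exact ⟨m, fun h0 => m.2 (RingHom.mem_ker.mpr h0), hm⟩
    · right
      obtain ⟨m, hm⟩ := (IsLocalization.map_eq_zero_iff (RingHom.ker x).primeCompl _ _).mp h
      exact ⟨m, fun h0 => m.2 (RingHom.mem_ker.mpr h0), hm⟩
  haveI : Module.Finite k (R ⧸ hilbIdealAt k A x) := finite_quot_hilbIdealAt x
  set n := finrank k (R ⧸ hilbIdealAt k A x) with hn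
  let bas := Module.finBasis k (R ⧸ hilbIdealAt k A x)
  choose e he using fun j => Ideal.Quotient.mk_surjective (bas j)
  have hind : ∀ l : Fin n → k, (∑ j, algebraMap k R (l j) * e j) ∈ hilbIdealAt k A x →
      ∀ j, l j = 0 := by
    intro l hl
    rw [← Ideal.Quotient.eq_zero_iff_mem, map_sum] at hl
    have h1 : ∑ j, l j • bas j = 0 := by
      rw [← hl]
      apply Finset.sum_congr rfl
      intro j _
      rw [mk_algebraMap_mul, he]
    exact Fintype.linearIndependent_iff.mp bas.linearIndependent l h1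
  have hli := linearIndependent_localization_at hG hsub x hx hdom hgen e hind
  have hspan : ∀ s : R, ∃ l : Fin n → InvR k A R, s - ∑ j, l j • e j ∈
      Ideal.map (algebraMap (InvR k A R) R) (pIdeal A x) := by
    intro s
    refine ⟨fun j => algebraMap k (InvR k A R) (bas.repr (Ideal.Quotient.mk _ s) j), ?_⟩
    rw [← hilbIdealAt_eq_map, ← Ideal.Quotient.eq_zero_iff_mem, map_sub, map_sum, sub_eq_zero]
    conv_lhs => rw [← bas.sum_repr (Ideal.Quotient.mk (hilbIdealAt k A x) s)]
    apply Finset.sum_congr rfl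
    intro j _
    have : (algebraMap k (InvR k A R) (bas.repr (Ideal.Quotient.mk _ s) j)) • e j =
        algebraMap k R (bas.repr (Ideal.Quotient.mk (hilbIdealAt k A x) s) j) * e j := rfl
    rw [this, mk_algebraMap_mul, he]
  haveI : Module.Free (Localization.AtPrime (pIdeal A x))
      (Localization (Algebra.algebraMapSubmonoid R (pIdeal A x).primeCompl)) :=
    free_localization_of_basis_mod' (pIdeal A x) e hli hspan
  exact isRegularLocalRing_atPrime_of_flat (pIdeal A x) (RingHom.ker x) rfl

end Final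

end Groth.Agent.Lib.Helper25.CSTL
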