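import Mathlib

/-!
# Helper25CSTPoly: a graded subalgebra of a polynomial ring which is regular at the origin is a
polynomial ring (helper25)
-/

set_option autoImplicit false
set_option linter.style.haveILetI false
set_option linter.unusedSectionVars false
universe u

namespace Groth.Agent.Lib.Helper25.CST

open MvPolynomial IsLocalRing Module

attribute [local instance] MvPolynomial.gradedAlgebra

theorem hc_mul_le {σ k : Type*} [CommRing k] {a c : MvPolynomial σ k} {e : ℕ}
    (ha : a.IsHomogeneous e) {d : ℕ} (h : e ≤ d) :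
    homogeneousComponent d (a * c) = a * homogeneousComponent (d - e) c := by
  have := DirectSum.coe_decompose_mul_of_left_mem_of_le (𝒜 := homogeneousSubmodule σ k) (b := c)
    ((mem_homogeneousSubmodule e a).mpr ha) h
  rw [← decomposition.decompose'_apply, ← decomposition.decompose'_apply]
  exact this

theorem hc_mul_not_le {σ k : Type*} [CommRing k] {a c : MvPolynomial σ k} {e : ℕ}
    (ha : a.IsHomogeneous e) {d : ℕ} (h : ¬ e ≤ d) :
    homogeneousComponent d (a * c) = 0 := by
  have := DirectSum.coe_decompose_mul_of_left_mem_of_not_le (𝒜 := homogeneousSubmodule σ k) (b := c)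
    ((mem_homogeneousSubmodule e a).mpr ha) h
  rw [← decomposition.decompose'_apply]
  exact this

/-- A surjection from a polynomial ring in `n` variables onto a ring of dimension `≥ n` is
injective. -/
theorem injective_of_surjective_of_card_le {k : Type u} [Field k] {σ : Type u} [Fintype σ]
    {R : Type u} [CommRing R] [Algebra k R] (ψ : MvPolynomial σ k →ₐ[k] R)
    (hsurj : Function.Surjective ψ) (hdim : (Fintype.card σ : WithBot ℕ∞) ≤ ringKrullDim R) :
    Function.Injective ψ := by
  classical
  have hdimS : ringKrullDim (MvPolynomial σ k) = (Fintype.card σ : ℕ) := by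
    rw [MvPolynomial.ringKrullDim_of_isNoetherianRing, ringKrullDim_eq_zero_of_field, zero_add,
      Nat.card_eq_fintype_card]
  rw [injective_iff_map_eq_zero]
  intro f hf
  by_contra hne
  have hfnzd : f ∈ nonZeroDivisors (MvPolynomial σ k) := mem_nonZeroDivisors_of_ne_zero hne
  have h1 := ringKrullDim_quotient_succ_le_of_nonZeroDivisor hfnzd
  have hle : ∀ a ∈ Ideal.span {f}, ψ.toRingHom a = 0 := by
    intro a ha
    obtain ⟨c, rfl⟩ := Ideal.mem_span_singleton'.mp ha
    show ψ (c * f) = 0
    rw [map_mul, hf, mul_zero]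
  let ψ' : (MvPolynomial σ k ⧸ Ideal.span {f}) →+* R :=
    Ideal.Quotient.lift (Ideal.span {f}) ψ.toRingHom hle
  have hψ' : Function.Surjective ψ' := by
    intro b
    obtain ⟨a, rfl⟩ := hsurj b
    exact ⟨Ideal.Quotient.mk _ a, rfl⟩
  have h2 : ringKrullDim R ≤ ringKrullDim (MvPolynomial σ k ⧸ Ideal.span {f}) :=
    ringKrullDim_le_of_surjective ψ' hψ'
  rw [hdimS] at h1
  have h3 : ((Fintype.card σ : ℕ) : WithBot ℕ∞) + 1 ≤ (Fintype.card σ : ℕ) :=
    (add_le_add_left (hdim.trans h2) 1).trans h1
  have h4 : ((Fintype.card σ + 1 : ℕ) : WithBot ℕ∞) ≤ ((Fintype.card σ : ℕ) : WithBot ℕ∞) := by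
    exact_mod_cast h3
  have h5 : Fintype.card σ + 1 ≤ Fintype.card σ := by exact_mod_cast h4
  omega

/-- the map to the cotangent space, as a plain function -/
noncomputable def cotMap (B : Type u) [CommRing B] [IsLocalRing B] :
    IsLocalRing.maximalIdeal B → IsLocalRing.CotangentSpace B :=
  fun x => (IsLocalRing.maximalIdeal B).toCotangent x

theorem span_cotMap_image_eq_top_iff (B : Type u) [CommRing B] [IsLocalRing B] [IsNoetherianRing B]
    {s : Set (IsLocalRing.maximalIdeal B)} :
    Submodule.span (ResidueField B) (cotMap B '' s) = ⊤ ↔ Submodule.span B s = ⊤ :=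
  CotangentSpace.span_image_eq_top_iff

section Graded

variable {k : Type u} [Field k] {ι : Type u} [Fintype ι]

local notation "S" => MvPolynomial ι k

/-- The ideal of the origin in a subalgebra of the polynomial ring. -/
noncomputable def originIdeal (R₀ : Subalgebra k S) : Ideal R₀ :=
  (RingHom.ker (constantCoeff : S →+* k)).comap (algebraMap R₀ S)

instance (R₀ : Subalgebra k S) : (originIdeal R₀).IsPrime := by
  unfold originIdeal
  haveI : (RingHom.ker (constantCoeff : S →+* k)).IsPrime := RingHom.ker_isPrime _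
  exact Ideal.comap_isPrime _ _

theorem mem_originIdeal_iff (R₀ : Subalgebra k S) (a : R₀) :
    a ∈ originIdeal R₀ ↔ constantCoeff (a : S) = 0 := by
  unfold originIdeal
  rw [Ideal.mem_comap, RingHom.mem_ker]
  rfl

/-- **Graded subalgebras regular at the origin are polynomial rings.** -/
theorem exists_algEquiv_mvPolynomial_of_isRegularLocalRing (R₀ : Subalgebra k S)
    (hcomp : ∀ a ∈ R₀, ∀ d, homogeneousComponent d a ∈ R₀) [IsNoetherianRing R₀]
    (hreg : IsRegularLocalRing (Localization.AtPrime (originIdeal R₀))) :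
    ∃ m : ℕ, Nonempty (R₀ ≃ₐ[k] MvPolynomial (Fin m) k) := by
  classical
  set 𝔪 := originIdeal R₀ with h𝔪
  set B := Localization.AtPrime 𝔪 with hB
  haveI : IsNoetherianRing B := IsLocalization.isNoetherianRing 𝔪.primeCompl B inferInstance
  -- homogeneous elements of positive degree
  let H : Set R₀ := {a | ∃ d, 0 < d ∧ (a : S).IsHomogeneous d}
  have hH𝔪 : ∀ a ∈ H, a ∈ 𝔪 := by
    rintro a ⟨d, hd, ha⟩
    rw [mem_originIdeal_iff]
    rw [constantCoeff_eq]
    apply ha.coeff_eq_zero
    simp only [map_zero]
    omega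
  have hspanH : Ideal.span H = 𝔪 := by
    apply le_antisymm
    · rw [Ideal.span_le]; exact hH𝔪
    · intro a ha
      have hsum : a = ∑ d ∈ Finset.range ((a : S).totalDegree + 1),
          (⟨homogeneousComponent d (a : S), hcomp _ a.2 d⟩ : R₀) := by
        apply Subtype.ext
        rw [AddSubmonoidClass.coe_finsetSum]
        exact (sum_homogeneousComponent (a : S)).symm
      rw [hsum]
      refine Ideal.sum_mem _ (fun d _ => ?_)
      rcases Nat.eq_zero_or_pos d with hd | hd
      · subst hd
        have : (⟨homogeneousComponent 0 (a : S), hcomp _ a.2 0⟩ : R₀) = 0 := by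
          apply Subtype.ext
          show homogeneousComponent 0 (a : S) = 0
          rw [homogeneousComponent_zero, ← constantCoeff_eq, (mem_originIdeal_iff R₀ a).mp ha,
            map_zero]
        rw [this]
        exact Ideal.zero_mem _
      · exact Ideal.subset_span ⟨d, hd, homogeneousComponent_isHomogeneous d _⟩
  have hmax : ∀ (T : Set R₀), Ideal.span T = 𝔪 →
      Ideal.span (algebraMap R₀ B '' T) = maximalIdeal B := by
    intro T hT
    rw [← Ideal.map_span, hT]
    exact Localization.AtPrime.map_eq_maximalIdeal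
  -- generators of the cotangent space
  let Gset : Set (maximalIdeal B) := {x | (x : B) ∈ algebraMap R₀ B '' H}
  have himG : (maximalIdeal B).subtype '' Gset = algebraMap R₀ B '' H := by
    ext y
    constructor
    · rintro ⟨x, hx, rfl⟩
      exact hx
    · rintro ⟨a, ha, rfl⟩
      have hm : algebraMap R₀ B a ∈ maximalIdeal B := by
        rw [← hmax H hspanH]
        exact Ideal.subset_span ⟨a, ha, rfl⟩
      exact ⟨⟨_, hm⟩, ⟨a, ha, rfl⟩, rfl⟩
  have hG : Submodule.span B Gset = ⊤ := by
    apply Submodule.map_injective_of_injective (maximalIdeal B).subtype_injective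
    rw [Submodule.map_span, Submodule.map_subtype_top, himG]
    exact hmax H hspanH
  have hcot' : Submodule.span (ResidueField B) (cotMap B '' Gset) = ⊤ :=
    (span_cotMap_image_eq_top_iff B).mpr hG
  obtain ⟨b, hbsub, hbspan, hbli⟩ :=
    exists_linearIndependent (ResidueField B) (cotMap B '' Gset)
  rw [hcot'] at hbspan
  haveI : Fintype b := hbli.setFinite.fintype
  have hcard : (Fintype.card b : WithBot ℕ∞) = ringKrullDim B := by
    rw [← (IsRegularLocalRing.iff_finrank_cotangentSpace B).mp hreg]
    have h1 := finrank_span_set_eq_card (R := ResidueField B) (s := b) hbli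
    rw [hbspan, finrank_top, Set.toFinset_card] at h1
    rw [h1]
  -- choose lifts
  have hex : ∀ i : b, ∃ a : R₀, a ∈ H ∧ ∃ hx : algebraMap R₀ B a ∈ maximalIdeal B,
      cotMap B ⟨algebraMap R₀ B a, hx⟩ = (i : CotangentSpace B) := by
    intro i
    obtain ⟨x, ⟨a, ha, hax⟩, hxi⟩ := hbsub i.2
    refine ⟨a, ha, hax ▸ x.2, ?_⟩
    rw [← hxi]
    congr 1
    exact Subtype.ext hax
  choose t htH htm htc using hex
  -- the lifts generate the maximal ideal
  have hgen : Ideal.map (algebraMap R₀ B) (Ideal.span (Set.range t)) = maximalIdeal B := by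
    let G' : Set (maximalIdeal B) := Set.range fun i : b => ⟨algebraMap R₀ B (t i), htm i⟩
    have h1 : cotMap B '' G' = b := by
      ext y
      constructor
      · rintro ⟨_, ⟨i, rfl⟩, rfl⟩
        rw [htc i]
        exact i.2
      · intro hy
        exact ⟨_, ⟨⟨y, hy⟩, rfl⟩, htc ⟨y, hy⟩⟩
    have h2 : Submodule.span B G' = ⊤ :=
      (span_cotMap_image_eq_top_iff B).mp (by rw [h1]; exact hbspan)
    have h3 := congrArg (Submodule.map (maximalIdeal B).subtype) h2
    rw [Submodule.map_span, Submodule.map_subtype_top] at h3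
    rw [Ideal.map_span, ← h3]
    congr 1
    ext y
    constructor
    · rintro ⟨_, ⟨i, rfl⟩, rfl⟩
      exact ⟨_, ⟨i, rfl⟩, rfl⟩
    · rintro ⟨_, ⟨i, rfl⟩, rfl⟩
      exact ⟨_, ⟨i, rfl⟩, rfl⟩
  -- the lifts generate the algebra
  set Rt : Subalgebra k S := Algebra.adjoin k (Set.range fun i : b => (t i : S)) with hRt
  have htRt : ∀ i, (t i : S) ∈ Rt := fun i => Algebra.subset_adjoin ⟨i, rfl⟩
  have hinj : Function.Injective (algebraMap R₀ B) :=
    IsLocalization.injective B (Ideal.primeCompl_le_nonZeroDivisors 𝔪)
  have hhom : ∀ d : ℕ, ∀ a : S, a ∈ R₀ → a.IsHomogeneous d → a ∈ Rt := by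
    intro d
    induction d using Nat.strong_induction_on with
    | _ d ih =>
      intro a ha hahom
      rcases Nat.eq_zero_or_pos d with hd | hd
      · subst hd
        have h0 : a.totalDegree = 0 := (MvPolynomial.totalDegree_zero_iff_isHomogeneous (p := a)).mpr hahom
        have h1 := (MvPolynomial.totalDegree_eq_zero_iff_eq_C (p := a)).mp h0
        rw [h1]
        exact Subalgebra.algebraMap_mem _ _
      · have haH : (⟨a, ha⟩ : R₀) ∈ H := ⟨d, hd, hahom⟩
        have h1 : algebraMap R₀ B ⟨a, ha⟩ ∈ Ideal.map (algebraMap R₀ B) (Ideal.span (Set.range t)) := by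
          rw [hgen, ← hmax H hspanH]
          exact Ideal.subset_span ⟨_, haH, rfl⟩
        obtain ⟨⟨j, s⟩, hjs⟩ := (IsLocalization.mem_map_algebraMap_iff 𝔪.primeCompl B).mp h1
        have h2 : (⟨a, ha⟩ : R₀) * (s : R₀) = (j : R₀) := by
          apply hinj
          rw [map_mul]
          exact hjs
        obtain ⟨c, hc⟩ := (Ideal.mem_span_range_iff_exists_fun (R := R₀)).mp j.2
        have h3 : a * ((s : R₀) : S) = ∑ i : b, (t i : S) * (c i : S) := by
          have := congrArg (Subtype.val : R₀ → S) h2
          rw [← hc] at this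
          simp only [MulMemClass.coe_mul, AddSubmonoidClass.coe_finsetSum] at this
          rw [this]
          apply Finset.sum_congr rfl
          intro i _
          rw [mul_comm]
        have h4 := congrArg (homogeneousComponent d) h3
        rw [hc_mul_le hahom le_rfl, Nat.sub_self, homogeneousComponent_zero, map_sum] at h4
        have hs0 : coeff 0 (((s : R₀) : S)) ≠ 0 := by
          intro h0
          apply s.2
          show (s : R₀) ∈ originIdeal R₀
          rw [mem_originIdeal_iff, constantCoeff_eq]
          exact h0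
        have h5 : ∑ i : b, homogeneousComponent d ((t i : S) * (c i : S)) ∈ Rt := by
          refine Subalgebra.sum_mem _ (fun i _ => ?_)
          obtain ⟨e, he, hte⟩ := htH i
          by_cases hle : e ≤ d
          · rw [hc_mul_le hte hle]
            refine Subalgebra.mul_mem _ (htRt i) ?_
            exact ih (d - e) (by omega) _ (hcomp _ (c i).2 _) (homogeneousComponent_isHomogeneous _ _)
          · rw [hc_mul_not_le hte hle]
            exact Subalgebra.zero_mem _
        rw [← h4] at h5
        have h6 : a = C (coeff 0 (((s : R₀) : S)))⁻¹ * (a * C (coeff 0 (((s : R₀) : S)))) := by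
          rw [mul_comm a, ← mul_assoc, ← C_mul, inv_mul_cancel₀ hs0, C_1, one_mul]
        rw [h6]
        exact Subalgebra.mul_mem _ (Subalgebra.algebraMap_mem _ _) h5
  have hall : ∀ a : S, a ∈ R₀ → a ∈ Rt := by
    intro a ha
    rw [← sum_homogeneousComponent a]
    exact Subalgebra.sum_mem _ (fun d _ =>
      hhom d _ (hcomp a ha d) (homogeneousComponent_isHomogeneous d a))
  -- the surjection
  let ψ : MvPolynomial b k →ₐ[k] R₀ := aeval t
  have hsurj : Function.Surjective ψ := by
    rw [← AlgHom.range_eq_top, eq_top_iff]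
    intro a _
    have h1 : ψ.range = Algebra.adjoin k (Set.range t) :=
      (Algebra.adjoin_range_eq_range_aeval k t).symm
    rw [h1]
    have h2 : (a : S) ∈ (Algebra.adjoin k (Set.range t)).map R₀.val := by
      rw [AlgHom.map_adjoin, ← Set.range_comp]
      exact hall a a.2
    obtain ⟨a', ha', haa'⟩ := h2
    have : a' = a := Subtype.ext haa'
    rwa [this] at ha'
  have hdim : (Fintype.card b : WithBot ℕ∞) ≤ ringKrullDim R₀ := by
    rw [hcard, IsLocalization.AtPrime.ringKrullDim_eq_height 𝔪 B]
    exact Ideal.height_le_ringKrullDim_of_isPrime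
  have hinjψ := injective_of_surjective_of_card_le ψ hsurj hdim
  let e1 : MvPolynomial b k ≃ₐ[k] R₀ := AlgEquiv.ofBijective ψ ⟨hinjψ, hsurj⟩
  let e2 : MvPolynomial b k ≃ₐ[k] MvPolynomial (Fin (Fintype.card b)) k :=
    renameEquiv k (Fintype.equivFin b)
  exact ⟨Fintype.card b, ⟨e1.symm.trans e2⟩⟩

end Graded

end Groth.Agent.Lib.Helper25.CST
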