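import Groth.Agent.Lib.Helper25CSTIndep
import Groth.Agent.Lib.Helper25CSTLoc
import Groth.Agent.Lib.Helper25FinQuot

/-!
# Helper25CSTReg: the invariant ring of a pseudo-reflection group is regular at the origin
(helper25)
-/

set_option autoImplicit false
set_option linter.style.haveILetI false
set_option linter.unusedSectionVars false
universe u

namespace Groth.Agent.Lib.Helper25.CST

open TensorProduct HopfRep MvPolynomial Groth.Agent.Lib.Helper25 Module

section Reg

variable {k : Type u} [Field k] {A : Type u} [CommRing A] [HopfAlgebra k A]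
variable {ι : Type u} [Fintype ι] [cS : Comod k A (MvPolynomial ι k)]
  [GLin.IsCoactAlg k A (MvPolynomial ι k)]

local notation "S" => MvPolynomial ι k
variable (k A ι) in
/-- the ring of invariants as a type -/
abbrev Inv : Type u := ↥(GLin.invariants k A (MvPolynomial ι k))

local notation "R" => Inv k A ι

variable (k ι) in
/-- the ideal of the origin -/
noncomputable def nIdeal : Ideal S := RingHom.ker (constantCoeff : S →+* k)

instance : (nIdeal k ι).IsPrime := RingHom.ker_isPrime _

variable (k A ι) in
/-- the ideal of the image of the origin in the quotient -/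
noncomputable def mIdeal : Ideal R := (nIdeal k ι).comap (algebraMap R S)

instance : (mIdeal k A ι).IsPrime := Ideal.comap_isPrime _ _

theorem mem_mIdeal_iff (a : R) : a ∈ mIdeal k A ι ↔ (a : S) ∈ mSet k A ι := by
  unfold mIdeal nIdeal mSet
  rw [Ideal.mem_comap, RingHom.mem_ker]
  constructor
  · intro h; exact ⟨a.2, h⟩
  · intro h; exact h.2

theorem hilbIdeal_eq_map : hilbIdeal k A ι = Ideal.map (algebraMap R S) (mIdeal k A ι) := by
  apply le_antisymm
  · unfold hilbIdeal
    rw [Ideal.span_le]
    intro f hf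
    have : f = algebraMap R S ⟨f, hf.1⟩ := rfl
    rw [this]
    exact Ideal.mem_map_of_mem _ ((mem_mIdeal_iff _).mpr hf)
  · rw [Ideal.map_le_iff_le_comap]
    intro a ha
    exact Ideal.subset_span ((mem_mIdeal_iff a).mp ha)

theorem mk_smul_eq (r : R) (x : S) :
    Ideal.Quotient.mk (hilbIdeal k A ι) (r • x) =
      constantCoeff (r : S) • Ideal.Quotient.mk (hilbIdeal k A ι) x := by
  have h1 : r • x = (r : S) * x := rfl
  have h2 : (r : S) = C (constantCoeff (r : S)) + ((r : S) - C (constantCoeff (r : S))) := by ring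
  rw [h1]
  conv_lhs => rw [h2]
  rw [add_mul, map_add]
  have h3 : Ideal.Quotient.mk (hilbIdeal k A ι) (((r : S) - C (constantCoeff (r : S))) * x) = 0 := by
    rw [Ideal.Quotient.eq_zero_iff_mem]
    exact Ideal.mul_mem_right _ _ (mSet_subset_hilbIdeal (sub_C_constantCoeff_mem_mSet r.2))
  rw [h3, add_zero, ← MvPolynomial.smul_eq_C_mul]
  rfl

theorem finite_quot_hilbIdeal [Module.Finite R S] :
    Module.Finite k (S ⧸ hilbIdeal k A ι) := by
  classical
  obtain ⟨G, hG⟩ := Module.finite_def.mp (inferInstance : Module.Finite R S)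
  refine Module.finite_def.mpr ⟨G.image (Ideal.Quotient.mk (hilbIdeal k A ι)), ?_⟩
  rw [eq_top_iff]
  intro y _
  obtain ⟨s, rfl⟩ := Ideal.Quotient.mk_surjective y
  have hs : s ∈ Submodule.span R (G : Set S) := by rw [hG]; trivial
  refine Submodule.span_induction (p := fun s _ => Ideal.Quotient.mk (hilbIdeal k A ι) s ∈
    Submodule.span k ((G.image (Ideal.Quotient.mk (hilbIdeal k A ι)) : Finset _) : Set _))
    ?_ ?_ ?_ ?_ hs
  · intro x hx
    apply Submodule.subset_span
    rw [Finset.coe_image]
    exact ⟨x, hx, rfl⟩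
  · rw [map_zero]; exact Submodule.zero_mem _
  · intro x y _ _ hx hy
    rw [map_add]; exact Submodule.add_mem _ hx hy
  · intro r x _ hx
    rw [mk_smul_eq]
    exact Submodule.smul_mem _ _ hx

/-- **Regularity of the invariants at the origin.** -/
theorem isRegularLocalRing_invariants [Module.Finite k A] (hG : IsLinearlyReductive k A)
    (hsub : ∀ (I : Ideal A) [I.IsHopfIdeal k], HopfRep.IsLinearlyReductive k (A ⧸ I))
    (hlin : GLin.IsLinear k A ι) (hgen : GLin.IsGenByPseudoRefl k A ι) :
    IsRegularLocalRing (Localization.AtPrime (mIdeal k A ι)) := by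
  classical
  obtain ⟨hft, hfin⟩ := finite_quotient k A S
  haveI := hft
  haveI := hfin
  haveI : IsNoetherianRing R := Algebra.FiniteType.isNoetherianRing k R
  haveI : Module.Finite k (S ⧸ hilbIdeal k A ι) := finite_quot_hilbIdeal
  -- a basis of `S / I`
  set n := finrank k (S ⧸ hilbIdeal k A ι) with hn
  let bas := Module.finBasis k (S ⧸ hilbIdeal k A ι)
  choose e he using fun j => Ideal.Quotient.mk_surjective (bas j)
  have hmkC : ∀ (c : k) (x : S), Ideal.Quotient.mk (hilbIdeal k A ι) (C c * x) =
      c • Ideal.Quotient.mk (hilbIdeal k A ι) x := by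
    intro c x
    rw [← MvPolynomial.smul_eq_C_mul]
    rfl
  have hind : ∀ l : Fin n → k, (∑ j, C (l j) * e j) ∈ hilbIdeal k A ι → ∀ j, l j = 0 := by
    intro l hl
    rw [← Ideal.Quotient.eq_zero_iff_mem, map_sum] at hl
    have h1 : ∑ j, l j • bas j = 0 := by
      rw [← hl]
      apply Finset.sum_congr rfl
      intro j _
      rw [hmkC, he]
    exact Fintype.linearIndependent_iff.mp bas.linearIndependent l h1
  have hli : LinearIndependent R e := by
    rw [Fintype.linearIndependent_iff]
    intro g hg j
    have h1 := indep_of_indep_mod hG hsub hlin hgen n e hind (fun j => (g j : S))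
      (fun j => (g j).2) hg j
    exact Subtype.ext h1
  have hspan : ∀ s : S, ∃ l : Fin n → R, s - ∑ j, l j • e j ∈
      Ideal.map (algebraMap R S) (mIdeal k A ι) := by
    intro s
    refine ⟨fun j => ⟨C (bas.repr (Ideal.Quotient.mk _ s) j), C_mem_fixedPts _⟩, ?_⟩
    rw [← hilbIdeal_eq_map, ← Ideal.Quotient.eq_zero_iff_mem, map_sub, map_sum, sub_eq_zero]
    conv_lhs => rw [← bas.sum_repr (Ideal.Quotient.mk (hilbIdeal k A ι) s)]
    apply Finset.sum_congr rfl
    intro j _
    have : (⟨C (bas.repr (Ideal.Quotient.mk _ s) j), C_mem_fixedPts _⟩ : R) • e j =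
        C (bas.repr (Ideal.Quotient.mk (hilbIdeal k A ι) s) j) * e j := rfl
    rw [this, hmkC, he]
  haveI : Module.Free (Localization.AtPrime (mIdeal k A ι))
      (Localization (Algebra.algebraMapSubmonoid S (mIdeal k A ι).primeCompl)) :=
    free_localization_of_basis_mod (mIdeal k A ι) e hli hspan
  exact isRegularLocalRing_atPrime_of_flat (mIdeal k A ι) (nIdeal k ι) rfl

end Reg

end Groth.Agent.Lib.Helper25.CST
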