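import Groth.Agent.Lib.Helper25SubcoalgDecomp
import Groth.Prelude.Def_SGA3
import Mathlib.RingTheory.HopfAlgebra.Convolution
import Mathlib.RingTheory.HopfAlgebra.Quotient
import Mathlib.RingTheory.HopfAlgebra.TensorProduct

/-! # Points acting on comodules; invariants of a normal subgroup (helper25) -/

set_option autoImplicit false
universe u v w w'

namespace Groth.Agent.Lib.Helper25

open TensorProduct HopfRep WithConv

section PtAct

variable {k : Type u} [CommRing k] {A : Type v} [CommRing A] [HopfAlgebra k A]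
variable {V : Type w} [AddCommGroup V] [Module k V] [Comod k A V]
variable {R : Type w'} [CommRing R] [Algebra k R]

/-- The action of an `R`-point `f` on `V`: `v ↦ Σ v₀ ⊗ f v₁`. -/
noncomputable def actL (f : A →ₐ[k] R) : V →ₗ[k] V ⊗[k] R :=
  f.toLinearMap.lTensor V ∘ₗ Comod.coact (k := k) (A := A)

/-- `(v ⊗ a) ⊗ r ↦ v ⊗ f a * r`. -/
noncomputable def muPt (V : Type w) [AddCommGroup V] [Module k V] (f : A →ₐ[k] R) :
    (V ⊗[k] A) ⊗[k] R →ₗ[k] V ⊗[k] R :=
  (LinearMap.mul' k R ∘ₗ f.toLinearMap.rTensor R).lTensor V ∘ₗ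
    (TensorProduct.assoc k V A R).toLinearMap

omit [Comod k A V] in
@[simp] theorem muPt_tmul (f : A →ₐ[k] R) (v : V) (a : A) (r : R) :
    muPt V f ((v ⊗ₜ[k] a) ⊗ₜ[k] r) = v ⊗ₜ[k] (f a * r) := by
  simp [muPt]

omit [Comod k A V] in
theorem muPt_tmul_one (f : A →ₐ[k] R) (y : V ⊗[k] A) :
    muPt V f (y ⊗ₜ[k] (1 : R)) = f.toLinearMap.lTensor V y := by
  induction y using TensorProduct.induction_on with
  | zero => simp
  | add x y hx hy => simp only [TensorProduct.add_tmul, map_add, hx, hy]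
  | tmul v a => simp

omit [Comod k A V] in
theorem lTensor_convMul_assoc (f f' : A →ₐ[k] R) (y : (V ⊗[k] A) ⊗[k] A) :
    (LinearMap.mul' k R ∘ₗ TensorProduct.map f.toLinearMap f'.toLinearMap).lTensor V
        (TensorProduct.assoc k V A A y) =
      muPt V f (f'.toLinearMap.lTensor (V ⊗[k] A) y) := by
  induction y using TensorProduct.induction_on with
  | zero => simp
  | add x y hx hy => simp only [map_add, hx, hy]
  | tmul z a' =>
    induction z using TensorProduct.induction_on with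
    | zero => simp
    | add x y hx hy => simp only [TensorProduct.add_tmul, map_add, hx, hy]
    | tmul v a => simp

theorem convMul_toLinearMap (f f' : A →ₐ[k] R) :
    ((toConv f * toConv f' : WithConv (A →ₐ[k] R)).ofConv).toLinearMap =
      LinearMap.mul' k R ∘ₗ TensorProduct.map f.toLinearMap f'.toLinearMap ∘ₗ
        CoalgebraStruct.comul (R := k) (A := A) := by
  apply LinearMap.ext
  intro a
  rw [AlgHom.toLinearMap_apply, AlgHom.convMul_apply]
  simp only [LinearMap.comp_apply]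
  generalize CoalgebraStruct.comul (R := k) a = z
  induction z using TensorProduct.induction_on with
  | zero => simp
  | add x y hx hy => simp only [map_add, hx, hy]
  | tmul b c => simp

theorem actL_convMul (f f' : A →ₐ[k] R) (v : V) :
    actL ((toConv f * toConv f' : WithConv (A →ₐ[k] R)).ofConv) v =
      muPt V f ((Comod.coact (k := k) (A := A)).rTensor R (actL f' v)) := by
  unfold actL
  rw [LinearMap.comp_apply, convMul_toLinearMap, ← LinearMap.comp_assoc, LinearMap.lTensor_comp,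
    LinearMap.comp_apply, ← LinearEquiv.apply_symm_apply (TensorProduct.assoc k V A A)
      ((CoalgebraStruct.comul (R := k) (A := A)).lTensor V _), ← coassoc_apply,
    lTensor_convMul_assoc, LinearMap.comp_apply, ← LinearMap.comp_apply (LinearMap.lTensor _ _),
    ← LinearMap.comp_apply (LinearMap.rTensor _ _), LinearMap.rTensor_comp_lTensor,
    LinearMap.lTensor_comp_rTensor]

end PtAct

section Normal

variable {k A : Type u} [CommRing k] [CommRing A] [HopfAlgebra k A]
variable (I : Ideal A) [I.IsHopfIdeal k]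
variable {V : Type w} [AddCommGroup V] [Module k V] [Comod k A V]

theorem conv3_eq {R : Type u} [CommRing R] [Algebra k R] (f₁ f₂ f₃ : A →ₐ[k] R) :
    Dyn.conv3 k A f₁ f₂ f₃ =
      (toConv f₁ * toConv f₂ * toConv f₃ : WithConv (A →ₐ[k] R)).ofConv := by
  unfold Dyn.conv3
  rw [AlgHom.convMul_def, AlgHom.convMul_def]
  simp only [ofConv_toConv]
  congr 1
  rw [← AlgHom.comp_assoc, ← Algebra.TensorProduct.map_comp]
  rfl

/-- A point killing `I` acts trivially on the `N`-invariants. -/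
theorem actL_of_kills {R : Type w'} [CommRing R] [Algebra k R] (f : A →ₐ[k] R)
    (hf : ∀ a ∈ I, f a = 0) (v : V)
    (hv : LinearMap.lTensor V (Ideal.Quotient.mkₐ k I).toLinearMap
      (Comod.coact (k := k) (A := A) v) = v ⊗ₜ[k] (1 : A ⧸ I)) :
    actL f v = v ⊗ₜ[k] (1 : R) := by
  have h1 : f = (Ideal.Quotient.liftₐ I f hf).comp (Ideal.Quotient.mkₐ k I) := by
    ext a
    simp
  unfold actL
  rw [LinearMap.comp_apply]
  conv_lhs => rw [h1]
  rw [AlgHom.comp_toLinearMap, LinearMap.lTensor_comp, LinearMap.comp_apply, hv,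
    LinearMap.lTensor_tmul]
  simp

theorem mul'_map_include (z : A ⊗[k] A) :
    LinearMap.mul' k ((A ⧸ I) ⊗[k] A)
      (TensorProduct.map
        ((Algebra.TensorProduct.includeLeft : (A ⧸ I) →ₐ[k] (A ⧸ I) ⊗[k] A).comp
          (Ideal.Quotient.mkₐ k I)).toLinearMap
        (Algebra.TensorProduct.includeRight : A →ₐ[k] (A ⧸ I) ⊗[k] A).toLinearMap z) =
      (Ideal.Quotient.mkₐ k I).toLinearMap.rTensor A z := by
  induction z using TensorProduct.induction_on with
  | zero => simp
  | add x y hx hy => simp only [map_add, hx, hy]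
  | tmul a b => simp [Algebra.TensorProduct.tmul_mul_tmul]

/-- Key identity from normality: on `N`-invariants, `(id ⊗ π ⊗ id) ρ₂ v = Σ v₀ ⊗ 1 ⊗ v₁`. -/
theorem key_of_normal (hI : SGA3.IsNormalHopfIdeal k A I) (v : V)
    (hv : LinearMap.lTensor V (Ideal.Quotient.mkₐ k I).toLinearMap
      (Comod.coact (k := k) (A := A) v) = v ⊗ₜ[k] (1 : A ⧸ I)) :
    ((Ideal.Quotient.mkₐ k I).toLinearMap.rTensor A ∘ₗ
        CoalgebraStruct.comul (R := k) (A := A)).lTensor V (Comod.coact (k := k) (A := A) v) =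
      (Algebra.TensorProduct.includeRight : A →ₐ[k] (A ⧸ I) ⊗[k] A).toLinearMap.lTensor V
        (Comod.coact (k := k) (A := A) v) := by
  let g : WithConv (A →ₐ[k] (A ⧸ I) ⊗[k] A) := toConv Algebra.TensorProduct.includeRight
  let n : WithConv (A →ₐ[k] (A ⧸ I) ⊗[k] A) :=
    toConv ((Algebra.TensorProduct.includeLeft : (A ⧸ I) →ₐ[k] (A ⧸ I) ⊗[k] A).comp
      (Ideal.Quotient.mkₐ k I))
  have hn : ∀ a ∈ I, n.ofConv a = 0 := by
    intro a ha
    change ((Ideal.Quotient.mk I a : A ⧸ I) ⊗ₜ[k] (1 : A)) = 0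
    rw [Ideal.Quotient.eq_zero_iff_mem.mpr ha, TensorProduct.zero_tmul]
  have h1 := hI ((A ⧸ I) ⊗[k] A) (g⁻¹).ofConv n.ofConv hn
  rw [conv3_eq] at h1
  have e1 : (toConv ((g⁻¹).ofConv.comp (HopfAlgebra.antipodeAlgHom k A)) :
      WithConv (A →ₐ[k] (A ⧸ I) ⊗[k] A)) = (g⁻¹)⁻¹ := rfl
  have e2 : g * (g⁻¹ * n * (g⁻¹)⁻¹) = n * g := by
    have hG : ∀ (G : Type u) [Group G] (g n : G), g * (g⁻¹ * n * (g⁻¹)⁻¹) = n * g := by
      intro G _ g n
      rw [inv_inv, ← mul_assoc, ← mul_assoc, mul_inv_cancel, one_mul]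
    exact hG _ g n
  simp only [toConv_ofConv] at h1
  rw [e1] at h1
  have h2 := actL_of_kills I (g⁻¹ * n * (g⁻¹)⁻¹).ofConv h1 v hv
  have h3 := actL_convMul (V := V) g.ofConv (g⁻¹ * n * (g⁻¹)⁻¹).ofConv v
  simp only [toConv_ofConv] at h3
  rw [e2, h2, LinearMap.rTensor_tmul, muPt_tmul_one] at h3
  rw [← h3]
  unfold actL
  rw [LinearMap.comp_apply, convMul_toLinearMap]
  congr 2
  apply LinearMap.ext
  intro a
  simp only [LinearMap.comp_apply]
  exact (mul'_map_include I _).symm

omit [Comod k A V] in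
theorem lTensor_linearMap_eq (Q : Type*) [CommRing Q] [Algebra k Q] (y : V ⊗[k] k) :
    (Algebra.linearMap k Q).lTensor V y = (TensorProduct.rid k V y) ⊗ₜ[k] (1 : Q) := by
  induction y using TensorProduct.induction_on with
  | zero => simp
  | add x y hx hy => simp only [map_add, hx, hy, TensorProduct.add_tmul]
  | tmul v c =>
    simp only [LinearMap.lTensor_tmul, Algebra.linearMap_apply, TensorProduct.rid_tmul]
    rw [Algebra.algebraMap_eq_smul_one, TensorProduct.tmul_smul, TensorProduct.smul_tmul']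

/-- The invariants of a normal subgroup are stable under `T φ`. -/
theorem T_mem_invariants_of_normal (hI : SGA3.IsNormalHopfIdeal k A I) (φ : A →ₗ[k] k) (v : V)
    (hv : LinearMap.lTensor V (Ideal.Quotient.mkₐ k I).toLinearMap
      (Comod.coact (k := k) (A := A) v) = v ⊗ₜ[k] (1 : A ⧸ I)) :
    LinearMap.lTensor V (Ideal.Quotient.mkₐ k I).toLinearMap
      (Comod.coact (k := k) (A := A) (T φ v)) = T φ v ⊗ₜ[k] (1 : A ⧸ I) := by
  have h1 : (Ideal.Quotient.mkₐ k I).toLinearMap ∘ₗ rTrans φ =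
      slice (A ⧸ I) φ ∘ₗ (Ideal.Quotient.mkₐ k I).toLinearMap.rTensor A ∘ₗ
        CoalgebraStruct.comul (R := k) (A := A) := by
    apply LinearMap.ext
    intro a
    simp only [rTrans, LinearMap.comp_apply]
    rw [slice_rTensor]
  have h2 : slice (A ⧸ I) φ ∘ₗ
      (Algebra.TensorProduct.includeRight : A →ₐ[k] (A ⧸ I) ⊗[k] A).toLinearMap =
      Algebra.linearMap k (A ⧸ I) ∘ₗ φ := by
    apply LinearMap.ext
    intro a
    simp [Algebra.algebraMap_eq_smul_one]
  rw [coact_T, ← LinearMap.comp_apply, ← LinearMap.lTensor_comp, h1, LinearMap.lTensor_comp,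
    LinearMap.comp_apply, key_of_normal I hI v hv, ← LinearMap.comp_apply,
    ← LinearMap.lTensor_comp, h2, LinearMap.lTensor_comp, LinearMap.comp_apply,
    lTensor_linearMap_eq]
  rfl

end Normal

end Groth.Agent.Lib.Helper25
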