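import Groth.Agent.Lib.Helper25Unip
import Groth.Agent.Lib.Helper25NormalInv
import Mathlib

/-!
# Points of finite order in unipotent groups (helper25)

`T_convMul`, `T_convOne`, `T_convPow`: the operators `T g` of rational points are multiplicative.
`end_eq_one_of_pow_eq_one_of_isNilpotent`: a unipotent endomorphism of order prime to the
characteristic is the identity.  `eq_one_of_finOrder_of_unipotent`.
-/

set_option autoImplicit false
universe u v w w'

namespace Groth.Agent.Lib.Helper25

open TensorProduct HopfRep WithConv Polynomial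


section ActPow

variable {k : Type u} [Field k] {A : Type v} [CommRing A] [HopfAlgebra k A]
variable {V : Type w} [AddCommGroup V] [Module k V] [Comod k A V]

theorem T_convMul (g h : WithConv (A →ₐ[k] k)) :
    (T ((g * h).ofConv.toLinearMap) : V →ₗ[k] V) =
      T (g.ofConv.toLinearMap) ∘ₗ T (h.ofConv.toLinearMap) := by
  apply LinearMap.ext
  intro v
  rw [LinearMap.comp_apply, T_T]
  have : (g * h).ofConv.toLinearMap = conv g.ofConv.toLinearMap h.ofConv.toLinearMap :=
    convMul_toLinearMap g.ofConv h.ofConv
  rw [this]

theorem T_convOne :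
    (T ((1 : WithConv (A →ₐ[k] k)).ofConv.toLinearMap) : V →ₗ[k] V) = LinearMap.id := by
  apply LinearMap.ext
  intro v
  have : ((1 : WithConv (A →ₐ[k] k)).ofConv.toLinearMap) =
      CoalgebraStruct.counit (R := k) (A := A) := by
    apply LinearMap.ext
    intro a
    simp
  rw [this, T_counit]
  rfl

theorem T_convPow (g : WithConv (A →ₐ[k] k)) (n : ℕ) :
    (T ((g ^ n).ofConv.toLinearMap) : Module.End k V) =
      (T (g.ofConv.toLinearMap) : Module.End k V) ^ n := by
  induction n with
  | zero => rw [pow_zero, pow_zero]; exact T_convOne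
  | succ n ih => rw [pow_succ, pow_succ, T_convMul, ih]; rfl

end ActPow


section FinOrder

theorem end_eq_one_of_pow_eq_one_of_isNilpotent {K : Type u} [Field K] {M : Type w}
    [AddCommGroup M] [Module K M] (f : Module.End K M) (m : ℕ) (hm : (m : K) ≠ 0)
    (hpow : f ^ m = 1) (hnil : IsNilpotent (f - 1)) : f = 1 := by
  have hsep : (X ^ m - C (1 : K)).Separable := separable_X_pow_sub_C (1 : K) hm one_ne_zero
  have hss : f.IsSemisimple := by
    apply Module.End.isSemisimple_of_squarefree_aeval_eq_zero hsep.squarefree
    simp [hpow]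
  have hss' : (f - algebraMap K (Module.End K M) 1).IsSemisimple :=
    Module.End.isSemisimple_sub_algebraMap_iff.mpr hss
  rw [map_one] at hss'
  have := Module.End.eq_zero_of_isNilpotent_isSemisimple hnil hss'
  exact sub_eq_zero.mp this

theorem eq_one_of_finOrder_of_unipotent (K : Type u) [Field K] (A : Type v) [CommRing A]
    [HopfAlgebra K A] (hU : HopfRep.IsUnipotent K A)
    (g : WithConv (A →ₐ[K] K)) (hg : IsOfFinOrder g) (hcop : ((orderOf g : ℕ) : K) ≠ 0) :
    g = 1 := by
  have hgm : g ^ orderOf g = 1 := pow_orderOf_eq_one g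
  apply WithConv.ofConv_injective
  apply AlgHom.ext
  intro a
  obtain ⟨U, hUfg, hUsub, haU⟩ := exists_fg_subcomod_mem (k := K) (A := A) (V := A) a
  letI := subComod U hUsub
  haveI hfin : Module.Finite K U := Module.Finite.iff_fg.mpr hUfg
  obtain ⟨n, F, hF⟩ := exists_trivFlag hU U hfin
  have hnil := isNilpotent_act_sub_one_of_trivFlag U hF g.ofConv
  have hact : Comod.act K A U g.ofConv = T g.ofConv.toLinearMap := rfl
  rw [hact] at hnil
  have hpow : (T g.ofConv.toLinearMap : Module.End K U) ^ orderOf g = 1 := by
    rw [← T_convPow, hgm]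
    exact T_convOne
  have h1 := end_eq_one_of_pow_eq_one_of_isNilpotent _ _ hcop hpow hnil
  have h2 : T g.ofConv.toLinearMap a = a := by
    have h3 := map_T_of_isComodHom (isComodHom_subtype U hUsub) g.ofConv.toLinearMap ⟨a, haU⟩
    rw [h1] at h3
    exact h3.symm
  have h4 := congrArg (CoalgebraStruct.counit (R := K) (A := A)) h2
  rw [T_apply] at h4
  have h5 : ∀ z : A ⊗[K] A, CoalgebraStruct.counit (R := K) (A := A)
      (slice A g.ofConv.toLinearMap z) =
      g.ofConv (TensorProduct.lid K A ((CoalgebraStruct.counit (R := K) (A := A)).rTensor A z)) := by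
    intro z
    induction z using TensorProduct.induction_on with
    | zero => simp
    | add x y hx hy => simp only [map_add, hx, hy]
    | tmul b c => simp [mul_comm]
  change CoalgebraStruct.counit (R := K) (A := A)
    (slice A g.ofConv.toLinearMap (CoalgebraStruct.comul (R := K) a)) = _ at h4
  rw [h5, Coalgebra.rTensor_counit_comul] at h4
  simp only [TensorProduct.lid_tmul, one_smul] at h4
  rw [h4]
  simp

end FinOrder

end Groth.Agent.Lib.Helper25
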