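import Groth.Agent.Lib.Helper25MultRigidB
import Groth.Prelude.Def_HopfRep

/-!
# Base change of coalgebra structures along a morphism of base algebras (helper25)

For `R`-algebras `S`, `T`, an `R`-algebra map `u : S → T` and an `R`-bialgebra `A`, the map
`θ = u ⊗ id : S ⊗ A → T ⊗ A` is compatible with the comultiplications and counits of the base
changed coalgebras (`comul_thetaMap`, `counit_thetaMap`); in particular it maps group-like elements
to group-like elements.
-/

set_option autoImplicit false
universe u v w w'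

namespace Groth.Agent.Lib.Helper25.TowerBC

open TensorProduct Coalgebra Groth.Agent.Lib.Helper25

section Tower

variable {R : Type u} [CommRing R] {S : Type v} [CommRing S] [Algebra R S]
  {T : Type w} [CommRing T] [Algebra R T] (u : S →ₐ[R] T)
  (A : Type w') [CommRing A] [Bialgebra R A]

/-- `θ = u ⊗ id : S ⊗ A → T ⊗ A`. -/
noncomputable def thetaMap : S ⊗[R] A →ₐ[R] T ⊗[R] A :=
  Algebra.TensorProduct.map u (AlgHom.id R A)

@[simp] theorem thetaMap_tmul (s : S) (a : A) : thetaMap u A (s ⊗ₜ[R] a) = u s ⊗ₜ[R] a := by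
  simp [thetaMap]

theorem thetaMap_smul (s : S) (x : S ⊗[R] A) : thetaMap u A (s • x) = u s • thetaMap u A x := by
  induction x using TensorProduct.induction_on with
  | zero => simp
  | add x y hx hy => rw [smul_add, map_add, hx, hy, map_add, smul_add]
  | tmul s' a =>
    rw [TensorProduct.smul_tmul', thetaMap_tmul, thetaMap_tmul, TensorProduct.smul_tmul',
      smul_eq_mul, smul_eq_mul, map_mul]

/-- The additive map `(S ⊗ A) ⊗[S] (S ⊗ A) → (T ⊗ A) ⊗[T] (T ⊗ A)`, `x ⊗ y ↦ θ x ⊗ θ y`. -/
noncomputable def thetaMap2 : (S ⊗[R] A) ⊗[S] (S ⊗[R] A) →+ (T ⊗[R] A) ⊗[T] (T ⊗[R] A) :=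
  TensorProduct.liftAddHom
    (AddMonoidHom.mk' (fun x : S ⊗[R] A =>
      AddMonoidHom.mk' (fun y : S ⊗[R] A => thetaMap u A x ⊗ₜ[T] thetaMap u A y)
        (fun y y' => by rw [map_add, TensorProduct.tmul_add]))
      (fun x x' => by
        ext y
        simp only [AddMonoidHom.mk'_apply, AddMonoidHom.add_apply, map_add,
          TensorProduct.add_tmul]))
    (fun s x y => by
      simp only [AddMonoidHom.mk'_apply]
      rw [thetaMap_smul, thetaMap_smul, TensorProduct.smul_tmul])

@[simp] theorem thetaMap2_tmul (x y : S ⊗[R] A) :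
    thetaMap2 u A (x ⊗ₜ[S] y) = thetaMap u A x ⊗ₜ[T] thetaMap u A y := by
  simp [thetaMap2, TensorProduct.liftAddHom_tmul]

theorem thetaMap2_smul_bcMap2 (s : S) (z : A ⊗[R] A) :
    thetaMap2 u A (s • MRB.bcMap2 S A z) = u s • MRB.bcMap2 T A z := by
  induction z using TensorProduct.induction_on with
  | zero => simp
  | add x y hx hy => rw [map_add, smul_add, map_add, hx, hy, map_add, smul_add]
  | tmul a b =>
    rw [MRB.bcMap2_tmul, MRB.bcMap2_tmul, TensorProduct.smul_tmul', thetaMap2_tmul,
      TensorProduct.smul_tmul', thetaMap_tmul, thetaMap_tmul, smul_eq_mul, mul_one, map_one,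
      TensorProduct.smul_tmul', TensorProduct.smul_tmul', smul_eq_mul, mul_one]

theorem comul_thetaMap (x : S ⊗[R] A) :
    CoalgebraStruct.comul (R := T) (thetaMap u A x) =
      thetaMap2 u A (CoalgebraStruct.comul (R := S) x) := by
  induction x using TensorProduct.induction_on with
  | zero => simp
  | add x y hx hy => rw [map_add, map_add, hx, hy, map_add, map_add]
  | tmul s a =>
    have e1 : s ⊗ₜ[R] a = s • ((1 : S) ⊗ₜ[R] a) := by
      rw [TensorProduct.smul_tmul', smul_eq_mul, mul_one]
    have e2 : u s ⊗ₜ[R] a = u s • ((1 : T) ⊗ₜ[R] a) := by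
      rw [TensorProduct.smul_tmul', smul_eq_mul, mul_one]
    rw [thetaMap_tmul, e2, map_smul, MRB.comul_one_tmul, e1, map_smul, MRB.comul_one_tmul,
      thetaMap2_smul_bcMap2]

theorem counit_thetaMap (x : S ⊗[R] A) :
    CoalgebraStruct.counit (R := T) (thetaMap u A x) = u (CoalgebraStruct.counit (R := S) x) := by
  induction x using TensorProduct.induction_on with
  | zero => simp
  | add x y hx hy => rw [map_add, map_add, hx, hy, map_add, map_add]
  | tmul s a =>
    rw [thetaMap_tmul, TensorProduct.counit_tmul, TensorProduct.counit_tmul]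
    simp only [CommSemiring.counit_apply, Algebra.smul_def, map_mul, AlgHom.commutes]

/-- `θ` maps group-like elements to group-like elements. -/
theorem isGroupLikeElem_thetaMap {g : S ⊗[R] A} (hg : IsGroupLikeElem S g) :
    IsGroupLikeElem T (thetaMap u A g) where
  counit_eq_one := by rw [counit_thetaMap, hg.counit_eq_one, map_one]
  comul_eq_tmul_self := by rw [comul_thetaMap, hg.comul_eq_tmul_self, thetaMap2_tmul]

end Tower

section Tower2

variable {R : Type u} [CommRing R] {S : Type v} [CommRing S] [Algebra R S]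
  {T : Type w} [CommRing T] [Algebra R T] (u : S →ₐ[R] T)
  {A : Type w'} [CommRing A] [Bialgebra R A] {B : Type w'} [CommRing B] [Bialgebra R B]

theorem thetaMap2_map (φ : S ⊗[R] B →ₗ[S] S ⊗[R] A) (Ψ : T ⊗[R] B →ₗ[T] T ⊗[R] A)
    (h : ∀ x, Ψ (thetaMap u B x) = thetaMap u A (φ x)) (z : (S ⊗[R] B) ⊗[S] (S ⊗[R] B)) :
    thetaMap2 u A (TensorProduct.map φ φ z) = TensorProduct.map Ψ Ψ (thetaMap2 u B z) := by
  induction z using TensorProduct.induction_on with
  | zero => simp
  | add x y hx hy => rw [map_add, map_add, hx, hy, map_add, map_add]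
  | tmul x y =>
    rw [TensorProduct.map_tmul, thetaMap2_tmul, thetaMap2_tmul, TensorProduct.map_tmul, h, h]

theorem one_tmul_eq_thetaMap (b : B) : (1 : T) ⊗ₜ[R] b = thetaMap u B ((1 : S) ⊗ₜ[R] b) := by
  rw [thetaMap_tmul, map_one]

/-- The base change of a comultiplicative map is comultiplicative. -/
theorem comul_of_thetaMap_comm (φ : S ⊗[R] B →ₗ[S] S ⊗[R] A) (Ψ : T ⊗[R] B →ₗ[T] T ⊗[R] A)
    (hφ : ∀ x, CoalgebraStruct.comul (R := S) (φ x) =
      TensorProduct.map φ φ (CoalgebraStruct.comul (R := S) x))
    (h : ∀ x, Ψ (thetaMap u B x) = thetaMap u A (φ x)) (y : T ⊗[R] B) :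
    CoalgebraStruct.comul (R := T) (Ψ y) =
      TensorProduct.map Ψ Ψ (CoalgebraStruct.comul (R := T) y) := by
  induction y using TensorProduct.induction_on with
  | zero => simp
  | add x y hx hy => rw [map_add, map_add, hx, hy, map_add, map_add]
  | tmul t b =>
    have e1 : t ⊗ₜ[R] b = t • ((1 : T) ⊗ₜ[R] b) := by
      rw [TensorProduct.smul_tmul', smul_eq_mul, mul_one]
    rw [e1, map_smul, map_smul, map_smul, map_smul]
    congr 1
    rw [one_tmul_eq_thetaMap u b, h, comul_thetaMap, hφ, thetaMap2_map u φ Ψ h, comul_thetaMap]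

/-- The base change of a counit-preserving map preserves the counit. -/
theorem counit_of_thetaMap_comm (φ : S ⊗[R] B →ₗ[S] S ⊗[R] A) (Ψ : T ⊗[R] B →ₗ[T] T ⊗[R] A)
    (hφ : ∀ x, CoalgebraStruct.counit (R := S) (φ x) = CoalgebraStruct.counit (R := S) x)
    (h : ∀ x, Ψ (thetaMap u B x) = thetaMap u A (φ x)) (y : T ⊗[R] B) :
    CoalgebraStruct.counit (R := T) (Ψ y) = CoalgebraStruct.counit (R := T) y := by
  induction y using TensorProduct.induction_on with
  | zero => simp
  | add x y hx hy => rw [map_add, map_add, hx, hy, map_add]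
  | tmul t b =>
    have e1 : t ⊗ₜ[R] b = t • ((1 : T) ⊗ₜ[R] b) := by
      rw [TensorProduct.smul_tmul', smul_eq_mul, mul_one]
    rw [e1, map_smul, map_smul, map_smul]
    congr 1
    rw [one_tmul_eq_thetaMap u b, h, counit_thetaMap, hφ, counit_thetaMap]

/-- The base change of a coalgebra map sends group-like elements to group-like elements. -/
theorem isGroupLikeElem_of_thetaMap_comm (φ : S ⊗[R] B →ₗ[S] S ⊗[R] A)
    (Ψ : T ⊗[R] B →ₗ[T] T ⊗[R] A)
    (hφΔ : ∀ x, CoalgebraStruct.comul (R := S) (φ x) =
      TensorProduct.map φ φ (CoalgebraStruct.comul (R := S) x))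
    (hφε : ∀ x, CoalgebraStruct.counit (R := S) (φ x) = CoalgebraStruct.counit (R := S) x)
    (h : ∀ x, Ψ (thetaMap u B x) = thetaMap u A (φ x)) {g : T ⊗[R] B}
    (hg : IsGroupLikeElem T g) : IsGroupLikeElem T (Ψ g) where
  counit_eq_one := by rw [counit_of_thetaMap_comm u φ Ψ hφε h, hg.counit_eq_one]
  comul_eq_tmul_self := by
    rw [comul_of_thetaMap_comm u φ Ψ hφΔ h, hg.comul_eq_tmul_self, TensorProduct.map_tmul]

end Tower2

section Comp

variable {R : Type u} [CommRing R] {S : Type v} [CommRing S] [Algebra R S]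
  {T : Type w} [CommRing T] [Algebra R T] {T' : Type*} [CommRing T'] [Algebra R T']
  (u : S →ₐ[R] T) (v : T →ₐ[R] T')
  (A : Type w') [CommRing A] [Bialgebra R A]

theorem thetaMap_comp (x : S ⊗[R] A) :
    thetaMap v A (thetaMap u A x) = thetaMap (v.comp u) A x := by
  induction x using TensorProduct.induction_on with
  | zero => simp
  | add x y hx hy => rw [map_add, map_add, hx, hy, map_add]
  | tmul s a => simp

theorem thetaMap_id (x : S ⊗[R] A) : thetaMap (AlgHom.id R S) A x = x := by
  induction x using TensorProduct.induction_on with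
  | zero => simp
  | add x y hx hy => rw [map_add, hx, hy]
  | tmul s a => simp

end Comp

section Connected

variable {T : Type u} [CommRing T] [Nontrivial T]
  {H : Type v} [AddCommGroup H] [Module T H] [Coalgebra T H]

/-- Over a ring with only trivial idempotents, the group-like elements of a coalgebra having a
basis of group-like elements are the basis elements. -/
theorem exists_eq_basis_of_isGroupLikeElem
    (hT : ∀ e : T, IsIdempotentElem e → e = 0 ∨ e = 1) {ι : Type w} (e : Module.Basis ι T H)
    (he : ∀ i, IsGroupLikeElem T (e i)) {g : H} (hg : IsGroupLikeElem T g) : ∃ i, g = e i := by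
  classical
  set c := e.repr g with hc
  have hsum : g = ∑ l ∈ c.support, c l • e l := by
    conv_lhs => rw [← e.linearCombination_repr g]
    rw [Finsupp.linearCombination_apply, Finsupp.sum]
  -- the functionals coord i ⊗ coord j
  let F : ι → ι → H ⊗[T] H →ₗ[T] T := fun i j =>
    LinearMap.mul' T T ∘ₗ TensorProduct.map (e.coord i) (e.coord j)
  have hF1 : ∀ i j, F i j (g ⊗ₜ[T] g) = c i * c j := by
    intro i j
    simp [F, hc]
  have hF2 : ∀ i j, F i j (CoalgebraStruct.comul (R := T) g) = if i = j then c i else 0 := by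
    intro i j
    conv_lhs => rw [hsum]
    rw [map_sum, map_sum]
    have : ∀ l ∈ c.support, F i j (CoalgebraStruct.comul (R := T) (c l • e l)) =
        if l = i then (if i = j then c i else 0) else 0 := by
      intro l _
      rw [map_smul, (he l).comul_eq_tmul_self, map_smul]
      simp only [F, LinearMap.comp_apply, TensorProduct.map_tmul, LinearMap.mul'_apply,
        Module.Basis.coord_apply, Module.Basis.repr_self, smul_eq_mul]
      by_cases hli : l = i
      · subst hli
        by_cases hlj : l = j
        · subst hlj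
          simp
        · simp [hlj]
      · simp [hli, Finsupp.single_apply]
    rw [Finset.sum_congr rfl this, Finset.sum_ite_eq']
    by_cases hi : i ∈ c.support
    · simp [hi]
    · have : c i = 0 := Finsupp.notMem_support_iff.mp hi
      simp [hi, this]
  have hmul : ∀ i j, c i * c j = if i = j then c i else 0 := by
    intro i j
    rw [← hF1, ← hF2, hg.comul_eq_tmul_self]
  have hone : ∑ l ∈ c.support, c l = 1 := by
    have h1 := hg.counit_eq_one
    rw [hsum, map_sum] at h1
    rw [← h1]
    refine Finset.sum_congr rfl (fun l _ => ?_)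
    rw [map_smul, (he l).counit_eq_one, smul_eq_mul, mul_one]
  have hidem : ∀ i, c i = 0 ∨ c i = 1 := fun i => hT _ (by
    have := hmul i i
    simpa [IsIdempotentElem] using this)
  obtain ⟨i, hi⟩ : ∃ i, c i = 1 := by
    by_contra hcon
    push Not at hcon
    have : ∀ l ∈ c.support, c l = 0 := fun l _ => (hidem l).resolve_right (hcon l)
    rw [Finset.sum_congr rfl this, Finset.sum_const_zero] at hone
    exact zero_ne_one hone
  have hj : ∀ j, j ≠ i → c j = 0 := by
    intro j hji
    have := hmul j i
    rw [hi, mul_one, if_neg hji] at this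
    exact this
  refine ⟨i, ?_⟩
  apply e.repr.injective
  ext j
  rw [Module.Basis.repr_self, Finsupp.single_apply]
  by_cases hji : i = j
  · subst hji
    simpa using hi
  · rw [if_neg hji]
    exact hj j (Ne.symm hji)

end Connected

section DiagBasis

variable {k : Type u} [Field k] {K : Type v} [Field K] [Algebra k K]
  {T : Type w} [CommRing T] [Algebra k T] [Algebra K T] [IsScalarTower k K T]
  {A : Type w'} [CommRing A] [Bialgebra k A]

/-- If `K ⊗ A` is spanned by group-like elements, then for every `K`-algebra `T` the base change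
`T ⊗ A` has a `T`-basis consisting of the images of the group-like elements of `K ⊗ A`. -/
theorem exists_basis_thetaMap_groupLike (hA : HopfRep.IsDiagonalizable K (K ⊗[k] A)) :
    ∃ e : Module.Basis {a : K ⊗[k] A // IsGroupLikeElem K a} T (T ⊗[k] A),
      ∀ i, e i = thetaMap (IsScalarTower.toAlgHom k K T) A i.1 := by
  have hli : LinearIndependent K (fun i : {a : K ⊗[k] A // IsGroupLikeElem K a} => (i : K ⊗[k] A)) :=
    linearIndepOn_isGroupLikeElem (R := K) (A := K ⊗[k] A)
  have hsp : ⊤ ≤ Submodule.span K
      (Set.range (fun i : {a : K ⊗[k] A // IsGroupLikeElem K a} => (i : K ⊗[k] A))) := by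
    rw [Subtype.range_coe_subtype]
    exact hA.ge
  let bK := Module.Basis.mk hli hsp
  let bT := (Algebra.TensorProduct.basis T bK).map
    (TensorProduct.AlgebraTensorModule.cancelBaseChange k K T T A)
  refine ⟨bT, fun i => ?_⟩
  have h1 : bT i = TensorProduct.AlgebraTensorModule.cancelBaseChange k K T T A
      ((1 : T) ⊗ₜ[K] (i : K ⊗[k] A)) := by
    simp [bT, bK, Algebra.TensorProduct.basis_apply]
  rw [h1]
  generalize (i : K ⊗[k] A) = x
  induction x using TensorProduct.induction_on with
  | zero => simp
  | add x y hx hy => rw [TensorProduct.tmul_add, map_add, hx, hy, map_add]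
  | tmul c a =>
    rw [TensorProduct.AlgebraTensorModule.cancelBaseChange_tmul, thetaMap_tmul,
      IsScalarTower.coe_toAlgHom', Algebra.smul_def, mul_one]

end DiagBasis

end Groth.Agent.Lib.Helper25.TowerBC
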