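import Groth.Agent.Lib.Helper25DescLift
import Groth.Agent.Lib.Helper25BCComod
import Mathlib.RingTheory.Nakayama

/-!
# Lifting group-like elements of finite cocommutative Hopf algebras (helper25)

Let `B` be a cocommutative bialgebra over `R`, finite projective as a module (given by a finite dual
basis), `I ≤ rad R` an ideal such that idempotents lift along `I` in the (finite, commutative) dual
algebra `E = Hom_R(B, R)` (convolution product).  If `B/IB ≃ (R/I)[L]`, then every group element
`l : L` lifts to a group-like element of `B` (Cartier duality on points + idempotent lifting).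
-/

set_option autoImplicit false
set_option linter.unusedSectionVars false
set_option linter.style.haveILetI false
universe u

namespace Groth.Agent.Lib.Helper25.CartLift

open TensorProduct WithConv Coalgebra Groth.Agent.Lib.Helper25

section Ev

variable {R : Type u} [CommRing R] {B : Type u} [CommRing B] [Bialgebra R B]
  (S : Type u) [CommRing S] [Algebra R S]

/-- The `S`-linear form on `S ⊗ B` induced by a linear form on `B`. -/
noncomputable def ev (φ : B →ₗ[R] R) : S ⊗[R] B →ₗ[S] S :=
  (TensorProduct.AlgebraTensorModule.rid R S S).toLinearMap ∘ₗ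
    TensorProduct.AlgebraTensorModule.map (LinearMap.id : S →ₗ[S] S) φ

variable {S}

theorem ev_tmul (φ : B →ₗ[R] R) (s : S) (a : B) : ev S φ (s ⊗ₜ[R] a) = φ a • s := by
  simp [ev]

theorem ext_one_tmul {N : Type*} [AddCommGroup N] [Module S N] {f f' : S ⊗[R] B →ₗ[S] N}
    (h : ∀ a : B, f ((1 : S) ⊗ₜ[R] a) = f' ((1 : S) ⊗ₜ[R] a)) : f = f' := by
  apply LinearMap.ext
  intro g
  induction g using TensorProduct.induction_on with
  | zero => simp
  | tmul r a =>
    have h1 : r ⊗ₜ[R] a = r • ((1 : S) ⊗ₜ[R] a) := by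
      rw [TensorProduct.smul_tmul', smul_eq_mul, _root_.mul_one]
    rw [h1, map_smul, map_smul, h]
  | add g g' hg hg' => rw [map_add, map_add, hg, hg']

theorem ev_add_apply (φ ψ : B →ₗ[R] R) (z : S ⊗[R] B) :
    ev S (φ + ψ) z = ev S φ z + ev S ψ z := by
  induction z using TensorProduct.induction_on with
  | zero => simp
  | tmul r a => rw [ev_tmul, ev_tmul, ev_tmul, LinearMap.add_apply, add_smul]
  | add g g' hg hg' => rw [map_add, map_add, map_add, hg, hg']; abel

theorem ev_smul_apply (c : R) (φ : B →ₗ[R] R) (z : S ⊗[R] B) :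
    ev S (c • φ) z = c • ev S φ z := by
  induction z using TensorProduct.induction_on with
  | zero => simp
  | tmul r a => rw [ev_tmul, ev_tmul, LinearMap.smul_apply, smul_eq_mul, mul_smul]
  | add g g' hg hg' => rw [map_add, map_add, hg, hg', smul_add]

theorem ev_zero_apply (z : S ⊗[R] B) : ev S (0 : B →ₗ[R] R) z = 0 := by
  induction z using TensorProduct.induction_on with
  | zero => simp
  | tmul r a => rw [ev_tmul, LinearMap.zero_apply, zero_smul]
  | add g g' hg hg' => rw [map_add, hg, hg', add_zero]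

theorem ev_sum_apply {κ : Type*} (s : Finset κ) (f : κ → (B →ₗ[R] R)) (z : S ⊗[R] B) :
    ev S (∑ k ∈ s, f k) z = ∑ k ∈ s, ev S (f k) z := by
  classical
  induction s using Finset.induction_on with
  | empty => simp [ev_zero_apply]
  | insert a s ha ih => rw [Finset.sum_insert ha, Finset.sum_insert ha, ev_add_apply, ih]

theorem ev_one_apply (z : S ⊗[R] B) :
    ev S (1 : WithConv (B →ₗ[R] R)).ofConv z = counit (R := S) z := by
  have h : ev S (1 : WithConv (B →ₗ[R] R)).ofConv = counit (R := S) (A := S ⊗[R] B) := by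
    apply ext_one_tmul
    intro a
    rw [ev_tmul, TensorProduct.counit_tmul]
    rfl
  rw [h]

theorem mul_map_ev_bcMapG (x y : B →ₗ[R] R) (z : B ⊗[R] B) :
    LinearMap.mul' S S (TensorProduct.map (ev S x) (ev S y) (bcMapG R S B B z)) =
      algebraMap R S (LinearMap.mul' R R (TensorProduct.map x y z)) := by
  induction z using TensorProduct.induction_on with
  | zero => simp
  | tmul a b =>
    rw [bcMapG_tmul, TensorProduct.map_tmul, LinearMap.mul'_apply,
      ev_tmul, ev_tmul, TensorProduct.map_tmul, LinearMap.mul'_apply, map_mul,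
      Algebra.algebraMap_eq_smul_one, Algebra.algebraMap_eq_smul_one]
  | add z z' hz hz' => rw [map_add, map_add, map_add, hz, hz', map_add, map_add, map_add]

theorem ev_mul_apply (x y : WithConv (B →ₗ[R] R)) (z : S ⊗[R] B) :
    ev S (x * y).ofConv z =
      LinearMap.mul' S S (TensorProduct.map (ev S x.ofConv) (ev S y.ofConv)
        (comul (R := S) z)) := by
  have h : ev S (x * y).ofConv =
      (LinearMap.mul' S S) ∘ₗ (TensorProduct.map (ev S x.ofConv) (ev S y.ofConv)) ∘ₗ
        (comul (R := S) (A := S ⊗[R] B)) := by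
    apply ext_one_tmul
    intro a
    rw [LinearMap.comp_apply, LinearMap.comp_apply, comul_one_tmul', mul_map_ev_bcMapG, ev_tmul,
      Algebra.algebraMap_eq_smul_one]
    rfl
  rw [h]
  rfl

/-- Evaluation at a group-like element of `S ⊗ B` is an algebra map on the dual of `B`. -/
noncomputable def pt (G : S ⊗[R] B) (hG : IsGroupLikeElem S G) :
    WithConv (B →ₗ[R] R) →ₐ[R] S where
  toFun x := ev S x.ofConv G
  map_one' := by rw [ev_one_apply, hG.counit_eq_one]
  map_mul' x y := by
    rw [ev_mul_apply, hG.comul_eq_tmul_self, TensorProduct.map_tmul, LinearMap.mul'_apply]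
  map_zero' := ev_zero_apply G
  map_add' x y := ev_add_apply x.ofConv y.ofConv G
  commutes' r := by
    rw [Algebra.algebraMap_eq_smul_one, WithConv.ofConv_smul, ev_smul_apply, ev_one_apply,
      hG.counit_eq_one, Algebra.algebraMap_eq_smul_one]

theorem pt_apply (G : S ⊗[R] B) (hG : IsGroupLikeElem S G) (x : WithConv (B →ₗ[R] R)) :
    pt G hG x = ev S x.ofConv G := rfl

end Ev

section Main

variable {R : Type u} [CommRing R] {B : Type u} [CommRing B] [Bialgebra R B]
  [Coalgebra.IsCocomm R B] (I : Ideal R)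
  {ι : Type} [Fintype ι] (b : ι → B) (β : ι → B →ₗ[R] R)
  {L : Type u} [CommGroup L] (e : (R ⧸ I) ⊗[R] B ≃ₐc[R ⧸ I] MonoidAlgebra (R ⧸ I) L)

/-- The dual algebra. -/
abbrev E (R : Type u) [CommRing R] (B : Type u) [CommRing B] [Bialgebra R B] : Type u :=
  WithConv (B →ₗ[R] R)

include b β in
theorem eq_sum_dual (hb : ∀ x : B, x = ∑ k, β k x • b k) (x : E R B) :
    x = ∑ k, x.ofConv (b k) • toConv (β k) := by
  apply WithConv.ofConv_injective
  apply LinearMap.ext
  intro y
  rw [WithConv.ofConv_sum, LinearMap.sum_apply]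
  conv_lhs => rw [hb y, map_sum]
  apply Finset.sum_congr rfl
  intro k _
  rw [map_smul, WithConv.ofConv_smul, LinearMap.smul_apply, WithConv.ofConv_toConv, smul_eq_mul,
    smul_eq_mul, mul_comm]

include b β in
theorem finite_E (hb : ∀ x : B, x = ∑ k, β k x • b k) : Module.Finite R (E R B) := by
  classical
  refine ⟨⟨Finset.univ.image (fun k => toConv (β k)), ?_⟩⟩
  rw [eq_top_iff]
  intro x _
  rw [eq_sum_dual b β hb x]
  refine Submodule.sum_mem _ (fun k _ => Submodule.smul_mem _ _ (Submodule.subset_span ?_))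
  simp

/-- The group-like elements of `B/IB` given by the trivialisation. -/
noncomputable def G (l : L) : (R ⧸ I) ⊗[R] B := e.symm (MonoidAlgebra.single l 1)

theorem isGroupLikeElem_G (l : L) : IsGroupLikeElem (R ⧸ I) (G I e l) :=
  (MonoidAlgebra.isGroupLikeElem_single_one (R := R ⧸ I) (A := R ⧸ I) l).map e.symm

/-- The points of the dual algebra modulo `I`. -/
noncomputable def t (l : L) : E R B →ₐ[R] R ⧸ I := pt (G I e l) (isGroupLikeElem_G I e l)

theorem t_apply (l : L) (x : E R B) : t I e l x = ev (R ⧸ I) x.ofConv (G I e l) := rfl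

theorem ev_eq_zero_of_forall_t (x : E R B) (h : ∀ l, t I e l x = 0) (z : (R ⧸ I) ⊗[R] B) :
    ev (R ⧸ I) x.ofConv z = 0 := by
  obtain ⟨y, rfl⟩ : ∃ y, e.symm y = z := ⟨e z, e.symm_apply_apply z⟩
  induction y using MonoidAlgebra.induction_linear with
  | zero => rw [map_zero, map_zero]
  | add y y' hy hy' => rw [map_add, map_add, hy, hy', add_zero]
  | single l r =>
    have h1 : (MonoidAlgebra.single l r : MonoidAlgebra (R ⧸ I) L) =
        r • MonoidAlgebra.single l (1 : R ⧸ I) := by
      rw [MonoidAlgebra.smul_single, smul_eq_mul, mul_one]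
    rw [h1, map_smul, map_smul]
    have := h l
    rw [t_apply, G] at this
    rw [this, smul_zero]

theorem apply_mem_of_forall_t (x : E R B) (h : ∀ l, t I e l x = 0) (y : B) :
    x.ofConv y ∈ I := by
  have h1 := ev_eq_zero_of_forall_t I e x h ((1 : R ⧸ I) ⊗ₜ[R] y)
  rw [ev_tmul] at h1
  rw [← Ideal.Quotient.eq_zero_iff_mem]
  have h2 : x.ofConv y • (1 : R ⧸ I) = Ideal.Quotient.mk I (x.ofConv y) := by
    rw [Algebra.smul_def, mul_one]
    rfl
  rw [← h2, h1]

include b β in
theorem mem_map_of_forall_t (hb : ∀ x : B, x = ∑ k, β k x • b k) (x : E R B)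
    (h : ∀ l, t I e l x = 0) : x ∈ I.map (algebraMap R (E R B)) := by
  rw [eq_sum_dual b β hb x]
  refine Ideal.sum_mem _ (fun k _ => ?_)
  rw [Algebra.smul_def]
  exact Ideal.mul_mem_right _ _ (Ideal.mem_map_of_mem _ (apply_mem_of_forall_t I e x h (b k)))

theorem t_eq_zero_of_mem_map (x : E R B) (hx : x ∈ I.map (algebraMap R (E R B))) (l : L) :
    t I e l x = 0 := by
  have hle : I.map (algebraMap R (E R B)) ≤ RingHom.ker (t I e l : E R B →+* R ⧸ I) := by
    rw [Ideal.map_le_iff_le_comap]
    intro r hr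
    rw [Ideal.mem_comap, RingHom.mem_ker]
    change t I e l (algebraMap R (E R B) r) = 0
    rw [AlgHom.commutes]
    exact Ideal.Quotient.eq_zero_iff_mem.mpr hr
  exact hle hx

theorem exists_one_tmul_eq (z : (R ⧸ I) ⊗[R] B) : ∃ y : B, (1 : R ⧸ I) ⊗ₜ[R] y = z := by
  induction z using TensorProduct.induction_on with
  | zero => exact ⟨0, by simp⟩
  | tmul r a =>
    obtain ⟨r, rfl⟩ := Ideal.Quotient.mk_surjective r
    refine ⟨r • a, ?_⟩
    rw [TensorProduct.tmul_smul, TensorProduct.smul_tmul', Algebra.smul_def, mul_one]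
    rfl
  | add z z' hz hz' =>
    obtain ⟨y, rfl⟩ := hz
    obtain ⟨y', rfl⟩ := hz'
    exact ⟨y + y', TensorProduct.tmul_add _ _ _⟩

theorem one_tmul_smul (c : R) (y : B) :
    (1 : R ⧸ I) ⊗ₜ[R] (c • y) = (Ideal.Quotient.mk I c) • ((1 : R ⧸ I) ⊗ₜ[R] y) := by
  rw [TensorProduct.smul_tmul', smul_eq_mul, mul_one, ← TensorProduct.smul_tmul,
    Algebra.smul_def, mul_one]
  rfl

include b β in
/-- A functional lifting the coefficient at `l` of the trivialisation. -/
theorem exists_t_eq_delta [DecidableEq L] (hb : ∀ x : B, x = ∑ k, β k x • b k) (l : L) :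
    ∃ φ : E R B, ∀ l', t I e l' φ = if l = l' then 1 else 0 := by
  choose r hr using fun k => Ideal.Quotient.mk_surjective
    ((e ((1 : R ⧸ I) ⊗ₜ[R] b k)).coeff l)
  refine ⟨toConv (∑ k, r k • β k), ?_⟩
  -- the induced functional is the coefficient functional
  have key : ∀ z : (R ⧸ I) ⊗[R] B, ev (R ⧸ I) (∑ k, r k • β k) z = (e z).coeff l := by
    let cl : (R ⧸ I) ⊗[R] B →ₗ[R ⧸ I] R ⧸ I :=
      { toFun := fun z => (e z).coeff l
        map_add' := fun z z' => by rw [map_add, MonoidAlgebra.coeff_add, Finsupp.add_apply]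
        map_smul' := fun c z => by
          rw [map_smul, MonoidAlgebra.coeff_smul, Finsupp.smul_apply, RingHom.id_apply] }
    have h : ev (R ⧸ I) (∑ k, r k • β k) = cl := by
      apply ext_one_tmul
      intro a
      change _ = (e ((1 : R ⧸ I) ⊗ₜ[R] a)).coeff l
      rw [ev_tmul]
      conv_rhs => rw [hb a, TensorProduct.tmul_sum, map_sum, MonoidAlgebra.coeff_sum,
        Finsupp.finsetSum_apply]
      rw [LinearMap.sum_apply, Finset.sum_smul]
      apply Finset.sum_congr rfl
      intro k _
      rw [LinearMap.smul_apply, one_tmul_smul, map_smul, MonoidAlgebra.coeff_smul,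
        Finsupp.smul_apply, ← hr k, smul_eq_mul, smul_eq_mul, Algebra.smul_def, mul_one,
        map_mul, mul_comm]
      rfl
    intro z
    rw [h]
    rfl
  intro l'
  rw [t_apply, WithConv.ofConv_toConv, key, G, BialgEquiv.apply_symm_apply,
    MonoidAlgebra.coeff_single, Finsupp.single_apply]
  by_cases hl : l' = l
  · subst hl
    simp
  · rw [if_neg hl, if_neg (Ne.symm hl)]

include b β in
theorem tensor_eq_sum (hb : ∀ x : B, x = ∑ k, β k x • b k) (z : B ⊗[R] B) :
    z = ∑ k, ∑ k', LinearMap.mul' R R (TensorProduct.map (β k) (β k') z) • (b k ⊗ₜ[R] b k') := by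
  induction z using TensorProduct.induction_on with
  | zero => simp
  | tmul a a' =>
    conv_lhs => rw [hb a, hb a', TensorProduct.sum_tmul]
    apply Finset.sum_congr rfl
    intro k _
    rw [TensorProduct.tmul_sum]
    apply Finset.sum_congr rfl
    intro k' _
    rw [TensorProduct.map_tmul, LinearMap.mul'_apply, TensorProduct.smul_tmul_smul]
  | add z z' hz hz' =>
    conv_lhs => rw [hz, hz']
    rw [← Finset.sum_add_distrib]
    apply Finset.sum_congr rfl
    intro k _
    rw [← Finset.sum_add_distrib]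
    apply Finset.sum_congr rfl
    intro k' _
    rw [map_add, map_add, add_smul]

include b β in
theorem bc_eq_sum (hb : ∀ x : B, x = ∑ k, β k x • b k) (z : (R ⧸ I) ⊗[R] B) :
    z = ∑ k, ev (R ⧸ I) (β k) z • ((1 : R ⧸ I) ⊗ₜ[R] b k) := by
  induction z using TensorProduct.induction_on with
  | zero => simp
  | tmul s a =>
    conv_lhs => rw [hb a, TensorProduct.tmul_sum]
    apply Finset.sum_congr rfl
    intro k _
    rw [ev_tmul, TensorProduct.tmul_smul, TensorProduct.smul_tmul', TensorProduct.smul_tmul',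
      smul_eq_mul, mul_one]
  | add z z' hz hz' =>
    conv_lhs => rw [hz, hz']
    rw [← Finset.sum_add_distrib]
    apply Finset.sum_congr rfl
    intro k _
    rw [map_add, add_smul]

include b β in
/-- **Cartier lifting.** Group elements of the reduction lift to group-like elements. -/
theorem exists_groupLike_lift (hI : I ≤ Ideal.jacobson ⊥)
    (hb : ∀ x : B, x = ∑ k, β k x • b k)
    (hIL : DescLift.IdemLift (I.map (algebraMap R (E R B)))) (l : L) :
    ∃ g : B, IsGroupLikeElem R g ∧ e ((1 : R ⧸ I) ⊗ₜ[R] g) = MonoidAlgebra.single l 1 := by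
  classical
  obtain ⟨φ, hφ⟩ := exists_t_eq_delta I b β e hb l
  have hφJ : φ * φ - φ ∈ I.map (algebraMap R (E R B)) := by
    apply mem_map_of_forall_t I b β e hb
    intro l'
    rw [map_sub, map_mul, hφ l']
    split_ifs <;> simp
  obtain ⟨d, hd, hdφ⟩ := hIL.1 φ hφJ
  have htd : ∀ l', t I e l' d = if l = l' then 1 else 0 := by
    intro l'
    have := t_eq_zero_of_mem_map I e _ hdφ l'
    rw [map_sub, sub_eq_zero] at this
    rw [this, hφ l']
  have hmk : ∀ r : R, algebraMap R (R ⧸ I) r = Ideal.Quotient.mk I r := fun r => rfl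
  -- Nakayama: `d * E = R d`
  have hspan : ∀ x : E R B, ∃ r : R, d * x = r • d := by
    let N : Submodule R (E R B) := LinearMap.range (LinearMap.mulLeft R d)
    have hNfg : N.FG := by
      haveI := finite_E b β hb
      change (LinearMap.range (LinearMap.mulLeft R d)).FG
      rw [LinearMap.range_eq_map]
      exact Submodule.FG.map _ Module.Finite.fg_top
    have hle : N ≤ Submodule.span R {d} ⊔ I • N := by
      rintro _ ⟨x, rfl⟩
      change d * x ∈ _
      obtain ⟨r, hr⟩ := Ideal.Quotient.mk_surjective (t I e l x)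
      have h1 : d * x - r • d ∈ I.map (algebraMap R (E R B)) := by
        apply mem_map_of_forall_t I b β e hb
        intro l'
        rw [map_sub, map_mul, map_smul, htd l']
        split_ifs with h
        · subst h
          rw [one_mul, Algebra.smul_def, mul_one, hmk, hr, sub_self]
        · simp
      have h2 : d * (d * x - r • d) = d * x - r • d := by
        rw [mul_sub, ← mul_assoc, hd.eq, mul_smul_comm, hd.eq]
      have h3 : d * x - r • d ∈ I • N := by
        have h4 : d * x - r • d ∈ I • (⊤ : Submodule R (E R B)) := by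
          rw [Ideal.smul_top_eq_map]
          exact h1
        have h5 := Submodule.mem_map_of_mem (f := LinearMap.mulLeft R d) h4
        rw [Submodule.map_smul'', Submodule.map_top] at h5
        rw [← h2]
        exact h5
      have h6 : d * x = r • d + (d * x - r • d) := by abel
      rw [h6]
      exact Submodule.add_mem_sup
        (Submodule.smul_mem _ _ (Submodule.mem_span_singleton_self d)) h3
    have hN := Submodule.le_of_le_smul_of_le_jacobson_bot hNfg hI hle
    intro x
    have hx : d * x ∈ N := ⟨x, rfl⟩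
    obtain ⟨r, hr⟩ := Submodule.mem_span_singleton.mp (hN hx)
    exact ⟨r, hr.symm⟩
  -- a lift `g₀` of `G l`, and the unit `d g₀`
  obtain ⟨g₀, hg₀⟩ := exists_one_tmul_eq I (G I e l)
  have hv1 : Ideal.Quotient.mk I (d.ofConv g₀) = 1 := by
    have := htd l
    rw [if_pos rfl, t_apply, ← hg₀, ev_tmul, Algebra.smul_def, mul_one, hmk] at this
    exact this
  have hv : IsUnit (d.ofConv g₀) := by
    apply Ideal.isUnit_of_sub_one_mem_jacobson_bot
    apply hI
    rw [← Ideal.Quotient.eq_zero_iff_mem, map_sub, hv1, map_one, sub_self]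
  obtain ⟨v, hvv⟩ := hv
  let evg : E R B →ₗ[R] R :=
    { toFun := fun x => x.ofConv g₀
      map_add' := fun x y => rfl
      map_smul' := fun c x => rfl }
  let χ : E R B →ₗ[R] R := ((↑v⁻¹ : R) • evg) ∘ₗ LinearMap.mulLeft R d
  have hχdef : ∀ x, χ x = ↑v⁻¹ * (d * x).ofConv g₀ := fun x => rfl
  have hinj : ∀ r : R, r • d = 0 → r = 0 := by
    intro r hr
    have h1 : (r • d).ofConv g₀ = 0 := by rw [hr]; rfl
    rw [WithConv.ofConv_smul, LinearMap.smul_apply, ← hvv, smul_eq_mul] at h1
    exact (Units.mul_left_eq_zero v).mp h1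
  have hχ : ∀ x, d * x = χ x • d := by
    intro x
    obtain ⟨r, hr⟩ := hspan x
    have : χ x = r := by
      rw [hχdef, hr, WithConv.ofConv_smul, LinearMap.smul_apply, ← hvv, smul_eq_mul, mul_comm r,
        ← mul_assoc, Units.inv_mul, one_mul]
    rw [this, hr]
  have hχone : χ 1 = 1 := by
    have h1 := hχ 1
    rw [mul_one] at h1
    have h2 : (χ 1 - 1) • d = 0 := by rw [sub_smul, one_smul, ← h1, sub_self]
    exact sub_eq_zero.mp (hinj _ h2)
  have hχmul : ∀ x y, χ (x * y) = χ x * χ y := by
    intro x y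
    have h1 : d * (x * y) = (χ x * χ y) • d := by
      rw [← mul_assoc, hχ x, smul_mul_assoc, hχ y, smul_smul]
    have h2 : (χ (x * y) - χ x * χ y) • d = 0 := by
      rw [sub_smul, ← hχ, h1, sub_self]
    exact sub_eq_zero.mp (hinj _ h2)
  have hχt : ∀ x, Ideal.Quotient.mk I (χ x) = t I e l x := by
    intro x
    have h1 := congrArg (t I e l) (hχ x)
    rw [map_mul, map_smul, htd l, if_pos rfl, one_mul, Algebra.smul_def, mul_one, hmk] at h1
    exact h1.symm
  -- the lift
  let g : B := ∑ k, χ (toConv (β k)) • b k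
  have hg : ∀ ψ : E R B, ψ.ofConv g = χ ψ := by
    intro ψ
    conv_rhs => rw [eq_sum_dual b β hb ψ, map_sum]
    change ψ.ofConv (∑ k, χ (toConv (β k)) • b k) = _
    rw [map_sum]
    apply Finset.sum_congr rfl
    intro k _
    rw [map_smul, map_smul, smul_eq_mul, smul_eq_mul, mul_comm]
  refine ⟨g, ⟨?_, ?_⟩, ?_⟩
  · -- counit
    have h1 := hg 1
    rw [hχone] at h1
    exact h1
  · -- comultiplication
    rw [← sub_eq_zero, tensor_eq_sum b β hb (comul (R := R) g - g ⊗ₜ[R] g)]
    apply Finset.sum_eq_zero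
    intro k _
    apply Finset.sum_eq_zero
    intro k' _
    have h1 : LinearMap.mul' R R (TensorProduct.map (β k) (β k') (comul (R := R) g)) =
        (toConv (β k) * toConv (β k') : E R B).ofConv g := rfl
    rw [map_sub, map_sub, h1, hg, hχmul, TensorProduct.map_tmul, LinearMap.mul'_apply,
      ← hg (toConv (β k)), ← hg (toConv (β k')), WithConv.ofConv_toConv, WithConv.ofConv_toConv,
      sub_self, zero_smul]
  · -- reduction
    have h1 : (1 : R ⧸ I) ⊗ₜ[R] g = G I e l := by
      rw [bc_eq_sum I b β hb ((1 : R ⧸ I) ⊗ₜ[R] g), bc_eq_sum I b β hb (G I e l)]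
      apply Finset.sum_congr rfl
      intro k _
      congr 1
      rw [ev_tmul, Algebra.smul_def, mul_one, hmk]
      have h2 := hg (toConv (β k))
      rw [WithConv.ofConv_toConv] at h2
      rw [h2, hχt, t_apply, WithConv.ofConv_toConv]
    rw [h1, G, BialgEquiv.apply_symm_apply]

end Main

end Groth.Agent.Lib.Helper25.CartLift
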