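import Mathlib

/-!
# Epimorphisms of schemes and gluing for categorical quotients (helper25)
-/

set_option autoImplicit false
universe u

open CategoryTheory AlgebraicGeometry Opposite TopologicalSpace

namespace Groth.Agent.Lib.Helper25.CatQuot

section Epi

/-- A morphism of sheafed spaces which is surjective on points and injective on sections over
every open is an epimorphism. -/
lemma sheafedSpace_epi_of_base_surjective_of_app_mono {X Y : SheafedSpace CommRingCat.{u}}
    (f : X ⟶ Y) (h₁ : Function.Surjective f.hom.base)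
    (h₂ : ∀ U, Mono (f.hom.c.app U)) : Epi f := by
  constructor
  intro Z ⟨g, gc⟩ ⟨h, hc⟩ e
  apply_fun InducedCategory.Hom.hom at e
  obtain rfl : g = h := ConcreteCategory.hom_ext _ _ fun y ↦ by
    rw [← (h₁ y).choose_spec]
    simpa using congr(($e).base.hom (h₁ y).choose)
  congr
  ext U : 2
  have := congr(($e).c.app (op U))
  have this' : gc.app (op U) ≫ f.hom.c.app (op ((Opens.map g).obj U)) =
      hc.app (op U) ≫ f.hom.c.app (op ((Opens.map g).obj U)) := this
  exact congrArg CommRingCat.Hom.hom ((cancel_mono _).mp this')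

/-- A morphism of schemes which is surjective on points and injective on sections over every
open is an epimorphism. -/
lemma epi_of_surjective_of_app_injective {X Y : Scheme.{u}} (p : X ⟶ Y)
    (h₁ : Function.Surjective p.base) (h₂ : ∀ U : Y.Opens, Function.Injective (p.app U)) :
    Epi p := by
  apply CategoryTheory.Functor.epi_of_epi_map (Scheme.forgetToLocallyRingedSpace)
  apply CategoryTheory.Functor.epi_of_epi_map (LocallyRingedSpace.forgetToSheafedSpace)
  apply sheafedSpace_epi_of_base_surjective_of_app_mono _ h₁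
  intro U
  apply ConcreteCategory.mono_of_injective
  exact h₂ (unop U)

/-- A surjective, quasi-compact, scheme-theoretically dominant morphism is an epimorphism. -/
lemma epi_of_surjective_of_dominant {X Y : Scheme.{u}} (p : X ⟶ Y) [Surjective p]
    [IsSchemeTheoreticallyDominant p] [QuasiCompact p] : Epi p :=
  epi_of_surjective_of_app_injective p p.surjective (fun U => p.app_injective U)

end Epi

section Glue

open Limits Scheme

set_option backward.defeqAttrib.useBackward true in
set_option backward.isDefEq.respectTransparency false in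
/-- Local descent along a surjective scheme-theoretically dominant quasi-compact morphism glues. -/
lemma exists_desc_of_openCover {X Y Z : Scheme.{u}} (π : X ⟶ Y) [Surjective π]
    [IsSchemeTheoreticallyDominant π] [QuasiCompact π] (ψ : X ⟶ Z)
    (𝒰 : OpenCover.{u} Y)
    (h : ∀ i : 𝒰.I₀, ∃ (u : 𝒰.X i ⟶ Z), pullback.fst π (𝒰.f i) ≫ ψ = pullback.snd _ _ ≫ u) :
    ∃ χ : Y ⟶ Z, π ≫ χ = ψ := by
  choose u hfac using h
  refine ⟨𝒰.glueMorphisms u ?_, ?_⟩
  · intro i j
    have : Epi (pullback.snd π (pullback.fst (𝒰.f i) (𝒰.f j) ≫ 𝒰.f i)) :=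
      epi_of_surjective_of_dominant _
    rw [← cancel_epi (pullback.snd π (pullback.fst (𝒰.f i) (𝒰.f j) ≫ 𝒰.f i)),
      ← cancel_epi (pullback.congrHom rfl pullback.condition.symm).hom]
    conv_rhs =>
      simp only [pullback.congrHom_hom, limit.lift_π_assoc, PullbackCone.mk_pt, cospan_right,
      PullbackCone.mk_π_app, Category.comp_id]
    rw [← pullbackLeftPullbackSndIso_inv_snd_snd, Category.assoc,
      ← pullbackLeftPullbackSndIso_inv_snd_snd, Category.assoc, ← pullback.condition_assoc,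
      ← hfac i, ← pullback.condition_assoc, ← hfac j]
    simp
  · apply Cover.hom_ext (𝒰.pullback₁ π)
    intro i
    simp [pullback.condition_assoc, hfac]

end Glue

section SpecMap

lemma dominant_SpecMap {C B : CommRingCat.{u}} (φ : C ⟶ B) (h : Function.Injective φ.hom) :
    IsSchemeTheoreticallyDominant (Spec.map φ) := by
  constructor
  apply Scheme.IdealSheafData.ext_of_isAffine
  rw [Scheme.Hom.ker_apply]
  simp only [Scheme.IdealSheafData.ideal_bot, Pi.bot_apply]
  rw [← RingHom.injective_iff_ker_eq_bot]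
  have h1 := Scheme.ΓSpecIso_naturality φ
  have h2 : (Spec.map φ).appTop = (Scheme.ΓSpecIso C).hom ≫ φ ≫ (Scheme.ΓSpecIso B).inv := by
    rw [← Category.assoc, ← h1, Category.assoc, Iso.hom_inv_id, Category.comp_id]
  change Function.Injective ((Spec.map φ).appTop).hom
  rw [h2]
  simp only [CommRingCat.hom_comp, RingHom.coe_comp]
  refine Function.Injective.comp (Function.Injective.comp ?_ h) ?_
  · exact (ConcreteCategory.bijective_of_isIso (Scheme.ΓSpecIso B).inv).1
  · exact (ConcreteCategory.bijective_of_isIso (Scheme.ΓSpecIso C).hom).1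

end SpecMap

section Glue2

open Limits

lemma exists_desc_of_openCover' {X Y Z : Scheme.{u}} (π : X ⟶ Y) [Surjective π]
    [IsSchemeTheoreticallyDominant π] [QuasiCompact π] (ψ : X ⟶ Z)
    (𝒰 : Scheme.OpenCover.{u} Y)
    (h : ∀ i : 𝒰.I₀, ∃ (P : Scheme.{u}) (a : P ⟶ X) (b : P ⟶ 𝒰.X i)
      (_ : IsPullback a b π (𝒰.f i)) (u : 𝒰.X i ⟶ Z), a ≫ ψ = b ≫ u) :
    ∃ χ : Y ⟶ Z, π ≫ χ = ψ := by
  apply exists_desc_of_openCover π ψ 𝒰
  intro i
  obtain ⟨P, a, b, hP, u, hu⟩ := h i
  refine ⟨u, ?_⟩
  rw [← hP.isoPullback_inv_fst, ← hP.isoPullback_inv_snd, Category.assoc, Category.assoc, hu]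

end Glue2

section LocalAlgebra

variable {C B R₂ : Type*} [CommRing C] [CommRing B] [CommRing R₂]
  (ι : C →+* B) (ρ η : B →+* R₂)

/-- Equalizers commute with localization at an element of the equalizer. -/
lemma mem_range_of_eq_of_isLocalization
    (heq : ∀ b, ρ b = η b → b ∈ ι.range) (hι : ∀ c, ρ (ι c) = η (ι c)) (f : C)
    {C' B' R₂' : Type*} [CommRing C'] [CommRing B'] [CommRing R₂'] [Algebra C C'] [Algebra B B']
    [Algebra R₂ R₂']
    [IsLocalization.Away f C'] [IsLocalization.Away (ι f) B'] [IsLocalization.Away (ρ (ι f)) R₂']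
    (ι' : C' →+* B') (ρ' η' : B' →+* R₂')
    (hι' : ι'.comp (algebraMap C C') = (algebraMap B B').comp ι)
    (hρ' : ρ'.comp (algebraMap B B') = (algebraMap R₂ R₂').comp ρ)
    (hη' : η'.comp (algebraMap B B') = (algebraMap R₂ R₂').comp η)
    (x : B') (hx : ρ' x = η' x) : x ∈ ι'.range := by
  have eι : ∀ c, ι' (algebraMap C C' c) = algebraMap B B' (ι c) := fun c => congr($hι' c)
  have eρ : ∀ b, ρ' (algebraMap B B' b) = algebraMap R₂ R₂' (ρ b) := fun c => congr($hρ' c)
  have eη : ∀ b, η' (algebraMap B B' b) = algebraMap R₂ R₂' (η b) := fun c => congr($hη' c)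
  obtain ⟨n, b, hb⟩ := IsLocalization.Away.surj (ι f) x
  have h1 : algebraMap R₂ R₂' (ρ b) = algebraMap R₂ R₂' (η b) := by
    rw [← eρ, ← eη, ← hb, map_mul, map_mul, map_pow, map_pow, hx, eρ, eη, hι]
  obtain ⟨m, hm⟩ := IsLocalization.Away.exists_of_eq (ρ (ι f)) h1
  have h2 : ρ ((ι f) ^ m * b) = η ((ι f) ^ m * b) := by
    rw [map_mul, map_mul, map_pow, map_pow, ← hι f, hm]
  obtain ⟨c₀, hc₀⟩ := heq _ h2
  have hu : IsUnit (algebraMap B B' (ι f) ^ (m + n)) :=
    IsLocalization.Away.algebraMap_pow_isUnit (ι f) (m + n)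
  refine ⟨IsLocalization.mk' C' c₀ (⟨f ^ (m + n), m + n, rfl⟩ : Submonoid.powers f), ?_⟩
  apply hu.mul_left_injective
  dsimp only
  have h3 : ι' (IsLocalization.mk' C' c₀ (⟨f ^ (m + n), m + n, rfl⟩ : Submonoid.powers f)) *
      algebraMap B B' (ι f) ^ (m + n) = algebraMap B B' (ι c₀) := by
    rw [← eι, ← eι, ← map_pow, ← map_mul, ← map_pow]
    congr 1
    exact IsLocalization.mk'_spec C' c₀ (⟨f ^ (m + n), m + n, rfl⟩ : Submonoid.powers f)
  rw [h3, hc₀, map_mul, map_pow, pow_add, ← hb]
  ring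

end LocalAlgebra

section Local
variable {C B R₂ : Type u} [CommRing C] [CommRing B] [CommRing R₂]
    (ι : C →+* B) (ρ η : B →+* R₂)

lemma exists_local_desc (hinj : Function.Injective ι)
    (heq : ∀ b, ρ b = η b → b ∈ ι.range) (hι : ∀ c, ρ (ι c) = η (ι c))
    (Z : Scheme.{u}) (ψ : Spec (.of B) ⟶ Z)
    (hψ : Spec.map (CommRingCat.ofHom ρ) ≫ ψ = Spec.map (CommRingCat.ofHom η) ≫ ψ)
    (f : C) (V : Z.Opens) (hV : IsAffineOpen V)
    (hfV : ∀ x : PrimeSpectrum B, ι f ∉ x.asIdeal → ψ.base x ∈ V) :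
    ∃ u : Spec (.of (Localization.Away f)) ⟶ Z,
      Spec.map (CommRingCat.ofHom (algebraMap B (Localization.Away (ι f)))) ≫ ψ =
      Spec.map (CommRingCat.ofHom (Localization.awayMap ι f)) ≫ u := by
  set a := Spec.map (CommRingCat.ofHom (algebraMap B (Localization.Away (ι f)))) with ha
  have hrange : Set.range (a ≫ ψ) ⊆ Set.range hV.fromSpec := by
    rw [hV.range_fromSpec]
    rintro _ ⟨x', rfl⟩
    obtain ⟨y', hy'⟩ : ∃ y' : PrimeSpectrum (Localization.Away (ι f)), y' = x' := ⟨x', rfl⟩
    have h1 : (a ≫ ψ) x' =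
        ψ.base (PrimeSpectrum.comap (algebraMap B (Localization.Away (ι f))) y') := by
      rw [hy']; simp; rfl
    rw [h1]
    apply hfV
    rw [PrimeSpectrum.comap_asIdeal, Ideal.mem_comap]
    intro hmem
    exact y'.2.ne_top (Ideal.eq_top_of_isUnit_mem _ hmem
      (IsLocalization.Away.algebraMap_isUnit (ι f)))
  set g := IsOpenImmersion.lift hV.fromSpec (a ≫ ψ) hrange with hg
  have hgfac : g ≫ hV.fromSpec = a ≫ ψ := IsOpenImmersion.lift_fac _ _ _
  set φ := Spec.preimage g with hφ
  have hφg : Spec.map φ = g := Spec.map_preimage g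
  -- the localized parallel pair
  have huρ : IsUnit (((algebraMap R₂ (Localization.Away (ρ (ι f)))).comp ρ) (ι f)) :=
    IsLocalization.Away.algebraMap_isUnit (ρ (ι f))
  have huη : IsUnit (((algebraMap R₂ (Localization.Away (ρ (ι f)))).comp η) (ι f)) := by
    rw [RingHom.comp_apply, ← hι f]
    exact IsLocalization.Away.algebraMap_isUnit (ρ (ι f))
  set ρ' : Localization.Away (ι f) →+* Localization.Away (ρ (ι f)) :=
    IsLocalization.Away.lift (ι f) huρ with hρ'
  set η' : Localization.Away (ι f) →+* Localization.Away (ρ (ι f)) :=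
    IsLocalization.Away.lift (ι f) huη with hη'
  have eρ' : ρ'.comp (algebraMap B (Localization.Away (ι f))) =
      (algebraMap R₂ (Localization.Away (ρ (ι f)))).comp ρ := IsLocalization.Away.lift_comp _ huρ
  have eη' : η'.comp (algebraMap B (Localization.Away (ι f))) =
      (algebraMap R₂ (Localization.Away (ρ (ι f)))).comp η := IsLocalization.Away.lift_comp _ huη
  have e1 : Spec.map (CommRingCat.ofHom ρ') ≫ a =
      Spec.map (CommRingCat.ofHom (algebraMap R₂ (Localization.Away (ρ (ι f))))) ≫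
        Spec.map (CommRingCat.ofHom ρ) := by
    rw [ha, ← Spec.map_comp, ← Spec.map_comp]
    congr 1
    ext x
    exact congr($eρ' x)
  have e2 : Spec.map (CommRingCat.ofHom η') ≫ a =
      Spec.map (CommRingCat.ofHom (algebraMap R₂ (Localization.Away (ρ (ι f))))) ≫
        Spec.map (CommRingCat.ofHom η) := by
    rw [ha, ← Spec.map_comp, ← Spec.map_comp]
    congr 1
    ext x
    exact congr($eη' x)
  have hcomp : Spec.map (CommRingCat.ofHom ρ') ≫ g = Spec.map (CommRingCat.ofHom η') ≫ g := by
    rw [← cancel_mono hV.fromSpec, Category.assoc, Category.assoc, hgfac,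
      ← Category.assoc, ← Category.assoc, e1, e2, Category.assoc, Category.assoc, hψ]
  have hφeq : ∀ z, ρ' (φ.hom z) = η' (φ.hom z) := by
    intro z
    rw [← hφg, ← Spec.map_comp, ← Spec.map_comp] at hcomp
    have := Spec.map_injective hcomp
    exact congr($(this).hom z)
  have hι' : (Localization.awayMap ι f).comp (algebraMap C (Localization.Away f)) =
      (algebraMap B (Localization.Away (ι f))).comp ι := by
    ext c
    simp [Localization.awayMap, IsLocalization.Away.map]
  have hφrange : ∀ z, φ.hom z ∈ (Localization.awayMap ι f).range := fun z =>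
    mem_range_of_eq_of_isLocalization ι ρ η heq hι f (Localization.awayMap ι f) ρ' η'
      hι' eρ' eη' _ (hφeq z)
  have hinj' : Function.Injective (Localization.awayMap ι f) :=
    IsLocalization.map_injective_of_injective _ _ _ hinj
  let e : Localization.Away f ≃+* (Localization.awayMap ι f).range :=
    RingEquiv.ofBijective (Localization.awayMap ι f).rangeRestrict
      ⟨fun x y h => hinj' (congrArg Subtype.val h),
        (Localization.awayMap ι f).rangeRestrict_surjective⟩
  let φ' : Γ(Z, V) →+* Localization.Away f :=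
    e.symm.toRingHom.comp (φ.hom.codRestrict _ hφrange)
  have hφ' : ∀ z, (Localization.awayMap ι f) (φ' z) = φ.hom z := by
    intro z
    have h1 : e (φ' z) = φ.hom.codRestrict _ hφrange z := by
      simp [φ']
    exact congrArg Subtype.val h1
  refine ⟨Spec.map (CommRingCat.ofHom φ') ≫ hV.fromSpec, ?_⟩
  rw [← hgfac, ← hφg, ← Category.assoc, ← Spec.map_comp]
  congr 2
  ext z
  exact (hφ' z).symm

theorem exists_desc_of_equalizer (hinj : Function.Injective ι)
    (heq : ∀ b, ρ b = η b → b ∈ ι.range) (hι : ∀ c, ρ (ι c) = η (ι c))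
    (hsurj : Function.Surjective (PrimeSpectrum.comap ι))
    (Z : Scheme.{u}) (ψ : Spec (.of B) ⟶ Z)
    (hψ : Spec.map (CommRingCat.ofHom ρ) ≫ ψ = Spec.map (CommRingCat.ofHom η) ≫ ψ)
    (hloc : ∀ y : PrimeSpectrum C, ∃ f : C, f ∉ y.asIdeal ∧ ∃ V : Z.Opens, IsAffineOpen V ∧
      ∀ x : PrimeSpectrum B, ι f ∉ x.asIdeal → ψ.base x ∈ V) :
    ∃ χ : Spec (.of C) ⟶ Z, Spec.map (CommRingCat.ofHom ι) ≫ χ = ψ := by
  let S : Set C := {f | ∃ V : Z.Opens, IsAffineOpen V ∧
      ∀ x : PrimeSpectrum B, ι f ∉ x.asIdeal → ψ.base x ∈ V}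
  let s : S → (CommRingCat.of C) := fun f => f.1
  have hs : Ideal.span (Set.range s) = ⊤ := by
    by_contra hne
    obtain ⟨m, hm, hle⟩ := Ideal.exists_le_maximal _ hne
    obtain ⟨f, hf, V, hV, hfV⟩ := hloc ⟨m, hm.isPrime⟩
    exact hf (hle (Ideal.subset_span ⟨⟨f, V, hV, hfV⟩, rfl⟩))
  have : Surjective (Spec.map (CommRingCat.ofHom ι)) := ⟨hsurj⟩
  have : IsSchemeTheoreticallyDominant (Spec.map (CommRingCat.ofHom ι)) :=
    dominant_SpecMap _ hinj
  apply exists_desc_of_openCover' (Spec.map (CommRingCat.ofHom ι)) ψ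
    (Scheme.affineOpenCoverOfSpanRangeEqTop s hs).openCover
  rintro ⟨f, V, hV, hfV⟩
  obtain ⟨u, hu⟩ := exists_local_desc ι ρ η hinj heq hι Z ψ hψ f V hV hfV
  refine ⟨Spec (.of (Localization.Away (ι f))),
    Spec.map (CommRingCat.ofHom (algebraMap B (Localization.Away (ι f)))),
    Spec.map (CommRingCat.ofHom (Localization.awayMap ι f)), ?_, u, hu⟩
  apply isPullback_SpecMap_of_isPushout
  have : IsLocalization ((Submonoid.powers f).map ι) (Localization.Away (ι f)) := by
    rw [Submonoid.map_powers]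
    infer_instance
  refine CommRingCat.isPushout_of_isLocalization ι (Localization.awayMap ι f) ?_
    (Submonoid.powers f)
  ext c
  simp [Localization.awayMap, IsLocalization.Away.map]


end Local

end Groth.Agent.Lib.Helper25.CatQuot
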