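import Groth.Agent.Lib.Helper25Comod

/-!
# Induced (free) comodules `P ⊗ A` (helper25)
-/

set_option autoImplicit false
universe u v w w'

namespace Groth.Agent.Lib.Helper25

open TensorProduct HopfRep

section Ind

variable {k : Type u} [CommRing k] {A : Type v} [AddCommGroup A] [Module k A] [Coalgebra k A]
variable {M : Type w} [AddCommGroup M] [Module k M] [Comod k A M]
variable {N : Type w'} [AddCommGroup N] [Module k N]

omit [Coalgebra k A] in
theorem assoc_symm_rTensor (h : M →ₗ[k] N) (y : M ⊗[k] (A ⊗[k] A)) :
    (TensorProduct.assoc k N A A).symm (h.rTensor (A ⊗[k] A) y) =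
      (h.rTensor A).rTensor A ((TensorProduct.assoc k M A A).symm y) := by
  induction y using TensorProduct.induction_on with
  | zero => simp
  | add x y hx hy => simp only [map_add, hx, hy]
  | tmul m z =>
    induction z using TensorProduct.induction_on with
    | zero => simp
    | add x y hx hy => simp only [TensorProduct.tmul_add, map_add, hx, hy]
    | tmul a b => simp

/-- The comodule map `M → N ⊗ A` attached to a linear map `h : M → N`. -/
noncomputable def indLift (h : M →ₗ[k] N) : M →ₗ[k] Hoch.Ind k A N :=
  (Hoch.Ind.equiv k A N).toLinearMap ∘ₗ h.rTensor A ∘ₗ Comod.coact (k := k) (A := A)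

theorem isComodHom_indLift (h : M →ₗ[k] N) : Hoch.IsComodHom A (indLift (A := A) h) := by
  apply LinearMap.ext
  intro m
  change (TensorProduct.assoc k N A A).symm
      ((CoalgebraStruct.comul (R := k) (A := A)).lTensor N
        (h.rTensor A (Comod.coact (k := k) (A := A) m))) =
    (h.rTensor A ∘ₗ Comod.coact (k := k) (A := A)).rTensor A (Comod.coact (k := k) (A := A) m)
  rw [lTensor_rTensor_comm', assoc_symm_rTensor, LinearMap.rTensor_comp, LinearMap.comp_apply,
    coassoc_apply]

omit [Coalgebra k A] [Comod k A M] in
theorem slice_rTensor_assoc_symm (ε' : A →ₗ[k] k) (x : N ⊗[k] (A ⊗[k] A)) :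
    ((TensorProduct.rid k N).toLinearMap ∘ₗ ε'.lTensor N).rTensor A
        ((TensorProduct.assoc k N A A).symm x) =
      ((TensorProduct.lid k A).toLinearMap ∘ₗ ε'.rTensor A).lTensor N x := by
  induction x using TensorProduct.induction_on with
  | zero => simp
  | add x y hx hy => simp only [map_add, hx, hy]
  | tmul n z =>
    induction z using TensorProduct.induction_on with
    | zero => simp
    | add x y hx hy => simp only [TensorProduct.tmul_add, map_add, hx, hy]
    | tmul a b => simp [TensorProduct.smul_tmul]

theorem indLift_counit_comp (f : M →ₗ[k] Hoch.Ind k A N) (hf : Hoch.IsComodHom A f) :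
    indLift (A := A) (Hoch.Ind.counit k A N ∘ₗ f) = f := by
  apply LinearMap.ext
  intro m
  have h1 := LinearMap.congr_fun hf m
  change (TensorProduct.assoc k N A A).symm
      ((CoalgebraStruct.comul (R := k) (A := A)).lTensor N (f m : N ⊗[k] A)) =
    f.rTensor A (Comod.coact (k := k) (A := A) m) at h1
  change (Hoch.Ind.counit k A N ∘ₗ f).rTensor A (Comod.coact (k := k) (A := A) m) = f m
  rw [LinearMap.rTensor_comp, LinearMap.comp_apply, ← h1]
  change ((TensorProduct.rid k N).toLinearMap ∘ₗ
      (CoalgebraStruct.counit (R := k) (A := A)).lTensor N).rTensor A _ = _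
  rw [slice_rTensor_assoc_symm, ← LinearMap.comp_apply, ← LinearMap.lTensor_comp,
    LinearMap.comp_assoc, Coalgebra.rTensor_counit_comp_comul]
  have : (TensorProduct.lid k A).toLinearMap ∘ₗ (TensorProduct.mk k k A) 1 = LinearMap.id := by
    ext a
    simp
  rw [this, LinearMap.lTensor_id]
  rfl

theorem counit_comp_indLift (h : M →ₗ[k] N) :
    Hoch.Ind.counit k A N ∘ₗ indLift (A := A) h = h := by
  apply LinearMap.ext
  intro m
  change (TensorProduct.rid k N) ((CoalgebraStruct.counit (R := k) (A := A)).lTensor N
    (h.rTensor A (Comod.coact (k := k) (A := A) m))) = h m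
  rw [lTensor_rTensor_comm', counit_apply]
  simp

end Ind

end Groth.Agent.Lib.Helper25
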