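import Groth.Agent.Lib.Helper25Tame
import Groth.Agent.Lib.Helper25ComodInd

/-!
# Invariant open subsets and invariant functions for a coaction with total integral (helper25)
-/

set_option autoImplicit false
universe u v w w'

namespace Groth.Agent.Lib.Helper25.CatQuotHopf

open TensorProduct HopfRep Groth.Agent.Lib.Helper25

section Ker

variable {k : Type u} [CommRing k] {A : Type v} [AddCommGroup A] [Module k A] [Coalgebra k A]
  [Module.Flat k A]
variable {V : Type w} [AddCommGroup V] [Module k V] [Comod k A V]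
variable {Q : Type w'} [AddCommGroup Q] [Module k Q]

/-- The kernel of `V → V ⊗ A → Q ⊗ A` is a subcomodule (for flat `A`): it is the largest
subcomodule contained in `ker q`. -/
theorem isSubcomod_ker_rTensor_comp_coact (q : V →ₗ[k] Q) :
    IsSubcomod (k := k) (A := A)
      (LinearMap.ker (q.rTensor A ∘ₗ Comod.coact (k := k) (A := A))) := by
  intro w hw
  have hw' : q.rTensor A (Comod.coact (k := k) (A := A) w) = 0 := hw
  have hex := Module.Flat.rTensor_exact A
    (LinearMap.exact_subtype_ker_map (q.rTensor A ∘ₗ Comod.coact (k := k) (A := A)))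
  apply (hex _).mp
  rw [LinearMap.rTensor_comp, LinearMap.comp_apply, coassoc_apply, ← assoc_symm_rTensor,
    ← lTensor_rTensor_comm', hw']
  simp

omit [Module.Flat k A] in
/-- The kernel of `V → V ⊗ A → Q ⊗ A` is contained in `ker q`. -/
theorem ker_rTensor_comp_coact_le (q : V →ₗ[k] Q) :
    LinearMap.ker (q.rTensor A ∘ₗ Comod.coact (k := k) (A := A)) ≤ LinearMap.ker q := by
  intro w hw
  have hw' : q.rTensor A (Comod.coact (k := k) (A := A) w) = 0 := hw
  have h1 : (CoalgebraStruct.counit (R := k) (A := A)).lTensor Q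
      (q.rTensor A (Comod.coact (k := k) (A := A) w)) = q w ⊗ₜ[k] (1 : k) := by
    rw [lTensor_rTensor_comm', counit_apply, LinearMap.rTensor_tmul]
  rw [hw', map_zero] at h1
  have h2 := congrArg (TensorProduct.rid k Q) h1
  rw [map_zero, TensorProduct.rid_tmul, one_smul] at h2
  exact h2.symm

end Ker

section Alg

variable {k : Type u} [CommRing k] {A : Type v} [CommRing A] [HopfAlgebra k A]
variable {B : Type w} [CommRing B] [Algebra k B] [Comod k A B] [GLin.IsCoactAlg k A B]

variable (k A) in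
/-- The ring map `B → B ⊗ A → (B/I) ⊗ A`. -/
noncomputable def quotCoact (I : Ideal B) : B →+* (B ⧸ I) ⊗[k] A :=
  (Algebra.TensorProduct.map (Ideal.Quotient.mkₐ k I) (AlgHom.id k A)).toRingHom.comp
    (GLin.coactAlgHom k A B).toRingHom

omit [Comod k A B] [GLin.IsCoactAlg k A B] in
theorem map_mk_id_eq_rTensor (I : Ideal B) (z : B ⊗[k] A) :
    Algebra.TensorProduct.map (Ideal.Quotient.mkₐ k I) (AlgHom.id k A) z =
      (Ideal.Quotient.mkₐ k I).toLinearMap.rTensor A z := by
  induction z using TensorProduct.induction_on with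
  | zero => simp
  | add x y hx hy => simp only [map_add, hx, hy]
  | tmul b a => simp

theorem quotCoact_apply (I : Ideal B) (b : B) :
    quotCoact k A I b =
      (Ideal.Quotient.mkₐ k I).toLinearMap.rTensor A (Comod.coact (k := k) (A := A) b) := by
  unfold quotCoact
  rw [RingHom.comp_apply]
  exact map_mk_id_eq_rTensor I _

variable (k A) in
/-- The largest ideal contained in `I` which is a subcomodule. -/
noncomputable def coreIdeal (I : Ideal B) : Ideal B := RingHom.ker (quotCoact k A I)

theorem coreIdeal_restrictScalars (I : Ideal B) :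
    (coreIdeal k A I).restrictScalars k =
      LinearMap.ker ((Ideal.Quotient.mkₐ k I).toLinearMap.rTensor A ∘ₗ
        Comod.coact (k := k) (A := A)) := by
  ext b
  rw [Submodule.restrictScalars_mem, coreIdeal, RingHom.mem_ker, quotCoact_apply,
    LinearMap.mem_ker, LinearMap.comp_apply]

theorem isSubcomod_coreIdeal [Module.Flat k A] (I : Ideal B) :
    IsSubcomod (k := k) (A := A) ((coreIdeal k A I).restrictScalars k) := by
  rw [coreIdeal_restrictScalars]
  exact isSubcomod_ker_rTensor_comp_coact _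

theorem coreIdeal_le (I : Ideal B) : coreIdeal k A I ≤ I := by
  intro b hb
  have h1 : b ∈ (coreIdeal k A I).restrictScalars k := hb
  rw [coreIdeal_restrictScalars] at h1
  have h2 := ker_rTensor_comp_coact_le _ h1
  rw [LinearMap.mem_ker] at h2
  exact Ideal.Quotient.eq_zero_iff_mem.mp h2

variable (k A) in
/-- A subset of `Spec B` is invariant when its preimages under the action and the projection
`Spec (B ⊗ A) → Spec B` agree. -/
def IsInvariantSet (U : Set (PrimeSpectrum B)) : Prop :=
  ∀ P : PrimeSpectrum (B ⊗[k] A),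
    PrimeSpectrum.comap (GLin.coactAlgHom k A B).toRingHom P ∈ U ↔
      PrimeSpectrum.comap
        (Algebra.TensorProduct.includeLeftRingHom : B →+* B ⊗[k] A) P ∈ U

theorem zeroLocus_coreIdeal_vanishingIdeal_compl {U : Set (PrimeSpectrum B)} (hU : IsOpen U)
    (hinv : IsInvariantSet k A U) :
    PrimeSpectrum.zeroLocus (coreIdeal k A (PrimeSpectrum.vanishingIdeal Uᶜ) : Set B) = Uᶜ := by
  have hcl : IsClosed Uᶜ := isClosed_compl_iff.mpr hU
  obtain ⟨I, hI⟩ : ∃ I, I = PrimeSpectrum.vanishingIdeal Uᶜ := ⟨_, rfl⟩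
  rw [← hI]
  have hzI : PrimeSpectrum.zeroLocus (I : Set B) = Uᶜ := by
    rw [hI, PrimeSpectrum.zeroLocus_vanishingIdeal_eq_closure, hcl.closure_eq]
  apply Set.eq_of_subset_of_subset
  · rw [coreIdeal, ← PrimeSpectrum.closure_range_comap]
    apply hcl.closure_subset_iff.mpr
    rintro _ ⟨Q', rfl⟩
    set P : PrimeSpectrum (B ⊗[k] A) := PrimeSpectrum.comap
      (Algebra.TensorProduct.map (Ideal.Quotient.mkₐ k I) (AlgHom.id k A)).toRingHom Q' with hP
    have h1 : PrimeSpectrum.comap (quotCoact k A I) Q' =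
        PrimeSpectrum.comap (GLin.coactAlgHom k A B).toRingHom P := by
      rw [hP, ← PrimeSpectrum.comap_comp_apply]
      rfl
    rw [h1, Set.mem_compl_iff, hinv P, ← Set.mem_compl_iff, ← hzI, PrimeSpectrum.mem_zeroLocus]
    intro b hb
    change (Algebra.TensorProduct.map (Ideal.Quotient.mkₐ k I) (AlgHom.id k A))
      (b ⊗ₜ[k] (1 : A)) ∈ Q'.asIdeal
    rw [Algebra.TensorProduct.map_tmul]
    have : (Ideal.Quotient.mkₐ k I) b = 0 := Ideal.Quotient.eq_zero_iff_mem.mpr hb
    rw [this, TensorProduct.zero_tmul]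
    exact Ideal.zero_mem _
  · rw [← hzI]
    exact PrimeSpectrum.zeroLocus_anti_mono (coreIdeal_le _)

/-- For a cover of `Spec B` by invariant open subsets, every point of `Spec B^A` has a basic open
neighbourhood `D(f)`, `f ∈ B^A`, whose preimage in `Spec B` lies in one member of the cover. -/
theorem exists_invariant_basicOpen_subset [Module.Flat k A]
    (htame : ∃ α : A →ₗ[k] B, Hoch.IsComodHom A α ∧ α 1 = 1)
    {ι : Type*} (U : ι → Set (PrimeSpectrum B)) (hopen : ∀ i, IsOpen (U i))
    (hinv : ∀ i, IsInvariantSet k A (U i)) (hcov : ⋃ i, U i = Set.univ)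
    (y : PrimeSpectrum (GLin.invariants k A B)) :
    ∃ i, ∃ f : GLin.invariants k A B, f ∉ y.asIdeal ∧
      ∀ x : PrimeSpectrum B, (f : B) ∉ x.asIdeal → x ∈ U i := by
  obtain ⟨α, hα, hα1⟩ := htame
  obtain ⟨J, hJ⟩ : ∃ J : ι → Ideal B,
    J = fun i => coreIdeal k A (PrimeSpectrum.vanishingIdeal (U i)ᶜ) := ⟨_, rfl⟩
  have hJz : ∀ i, PrimeSpectrum.zeroLocus (J i : Set B) = (U i)ᶜ := fun i => by
    rw [hJ]
    exact zeroLocus_coreIdeal_vanishingIdeal_compl (hopen i) (hinv i)
  have hJsub : ∀ i, IsSubcomod (k := k) (A := A) ((J i).restrictScalars k) := fun i => by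
    rw [hJ]
    exact isSubcomod_coreIdeal _
  have hJtop : ⨆ i, J i = ⊤ := by
    rw [← PrimeSpectrum.zeroLocus_empty_iff_eq_top, PrimeSpectrum.zeroLocus_iSup]
    simp_rw [hJz]
    rw [← Set.compl_iUnion, hcov, Set.compl_univ]
  obtain ⟨K, hK⟩ : ∃ K : Ideal (GLin.invariants k A B),
    K = ⨆ i, (J i).comap (algebraMap (GLin.invariants k A B) B) := ⟨_, rfl⟩
  have hR0 : reynoldsInv α hα (0 : B) = 0 := by
    apply Subtype.ext
    simp [reynoldsInv]
  have hR : ∀ b ∈ ⨆ i, J i, reynoldsInv α hα b ∈ K := by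
    intro b hb
    refine Submodule.iSup_induction (p := J) (motive := fun b => reynoldsInv α hα b ∈ K) hb
      ?_ ?_ ?_
    · intro i b hb
      rw [hK]
      apply Ideal.mem_iSup_of_mem i
      rw [Ideal.mem_comap]
      exact reynolds_mem_of_isSubcomod α (J i) (hJsub i) hb
    · rw [hR0]
      exact Ideal.zero_mem _
    · intro b b' h h'
      rw [reynoldsInv_add]
      exact Ideal.add_mem _ h h'
  have hKtop : K = ⊤ := by
    rw [Ideal.eq_top_iff_one]
    have h1 := hR 1 (by rw [hJtop]; trivial)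
    have h2 : reynoldsInv α hα (1 : B) = 1 := by
      have := reynoldsInv_algebraMap α hα hα1 (1 : GLin.invariants k A B)
      rwa [map_one] at this
    rwa [h2] at h1
  have hKy : ¬ K ≤ y.asIdeal := by
    rw [hKtop]
    intro h
    exact y.2.ne_top (top_le_iff.mp h)
  by_contra hcon
  push Not at hcon
  apply hKy
  rw [hK]
  apply iSup_le
  intro i f hf
  by_contra hfy
  obtain ⟨x, hx, hxU⟩ := hcon i f hfy
  have hxz : x ∈ PrimeSpectrum.zeroLocus (J i : Set B) := by
    rw [hJz]
    exact hxU
  rw [PrimeSpectrum.mem_zeroLocus] at hxz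
  exact hx (hxz hf)

end Alg

end Groth.Agent.Lib.Helper25.CatQuotHopf
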