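import Mathlib.RingTheory.SimpleModule.Basic
import Mathlib.RepresentationTheory.AlgebraRepresentation.Basic
import Mathlib.LinearAlgebra.Trace
import Mathlib.RepresentationTheory.Basic
import Mathlib.FieldTheory.IsAlgClosed.AlgebraicClosure
import Groth.Agent.Lib.Helper25Comod

/-! # Burnside and Kolchin: unipotent groups of matrices have a common fixed vector (helper25) -/

set_option autoImplicit false
universe u v w

namespace Groth.Agent.Lib.Helper25

open Module

section Burnside

variable {K : Type u} [Field K] [IsAlgClosed K] {A : Type v} [Ring A] [Algebra K A]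
variable {M : Type w} [AddCommGroup M] [Module K M] [Module A M] [IsScalarTower K A M]
  [IsSimpleModule A M] [FiniteDimensional K M]

/-- Burnside: over an algebraically closed field, a simple finite-dimensional module realises
every linear endomorphism. -/
theorem burnside (φ : M →ₗ[K] M) : ∃ a : A, ∀ m, a • m = φ m := by
  have schur := IsSimpleModule.algebraMap_end_bijective_of_isAlgClosed (A := A) (V := M) K
  haveI : Module.Finite (Module.End A M) M := Module.Finite.of_restrictScalars_finite K _ M
  let f : Module.End (Module.End A M) M :=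
    { toFun := φ
      map_add' := fun x y => map_add φ x y
      map_smul' := fun e m => by
        obtain ⟨c, rfl⟩ := schur.2 e
        simp }
  obtain ⟨a, ha⟩ := Module.Finite.toModuleEnd_moduleEnd_surjective (R := A) (M := M) f
  refine ⟨a, fun m => ?_⟩
  have := congrArg (fun g : Module.End (Module.End A M) M => g m) ha
  have h2 : f m = φ m := rfl
  rw [← h2]
  simpa using this

end Burnside

section TraceForm

variable {K : Type u} [Field K] {M : Type w} [AddCommGroup M] [Module K M] [FiniteDimensional K M]

open TensorProduct in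
/-- Nondegeneracy of the trace form on `End M`. -/
theorem eq_zero_of_trace_comp_eq_zero (N : M →ₗ[K] M)
    (h : ∀ φ : M →ₗ[K] M, LinearMap.trace K M (N ∘ₗ φ) = 0) : N = 0 := by
  by_contra hN
  obtain ⟨m, hm⟩ : ∃ m, N m ≠ 0 := by
    by_contra hcon
    push Not at hcon
    exact hN (LinearMap.ext hcon)
  obtain ⟨l, hl⟩ : ∃ l : Module.Dual K M, l (N m) ≠ 0 := by
    by_contra hcon
    push Not at hcon
    exact hm ((Module.forall_dual_apply_eq_zero_iff K (N m)).mp hcon)
  have h1 := h (dualTensorHom K M M (l ⊗ₜ[K] m))
  have h2 : N ∘ₗ dualTensorHom K M M (l ⊗ₜ[K] m) = dualTensorHom K M M (l ⊗ₜ[K] N m) := by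
    ext x
    simp
  rw [h2, LinearMap.trace_eq_contract_apply, contractLeft_apply] at h1
  exact hl h1

theorem trace_of_isNilpotent_sub_one (f : M →ₗ[K] M) (hf : IsNilpotent (f - 1)) :
    LinearMap.trace K M f = (Module.finrank K M : K) := by
  have h1 : IsNilpotent (LinearMap.trace K M (f - 1)) :=
    LinearMap.isNilpotent_trace_of_isNilpotent hf
  have h2 : LinearMap.trace K M (f - 1) = 0 := h1.eq_zero
  rw [map_sub, LinearMap.trace_one, sub_eq_zero] at h2
  exact h2

end TraceForm

section UnipTrivial

variable {K : Type u} [Field K] [IsAlgClosed K] {A : Type v} [Ring A] [Algebra K A]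
variable {M : Type w} [AddCommGroup M] [Module K M] [Module A M] [IsScalarTower K A M]
  [IsSimpleModule A M] [FiniteDimensional K M]
variable {Γ : Type*} [Monoid Γ]

theorem smul_eq_self_of_isNilpotent (σ : Γ →* A) (hspan : Submodule.span K (Set.range σ) = ⊤)
    (hnil : ∀ g, IsNilpotent (Algebra.lsmul K K M (σ g) - 1)) (g : Γ) (m : M) :
    σ g • m = m := by
  set N : M →ₗ[K] M := Algebra.lsmul K K M (σ g) - 1 with hN
  let T : A →ₗ[K] K := LinearMap.trace K M ∘ₗ LinearMap.mulLeft K N ∘ₗ
    (Algebra.lsmul K K M : A →ₐ[K] Module.End K M).toLinearMap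
  have hT : ∀ a, T a = LinearMap.trace K M (N * Algebra.lsmul K K M a) := fun a => rfl
  have hT0 : ∀ a, T a = 0 := by
    intro a
    have ha : a ∈ Submodule.span K (Set.range σ) := by rw [hspan]; trivial
    induction ha using Submodule.span_induction with
    | mem x hx =>
      obtain ⟨h, rfl⟩ := hx
      rw [hT, hN, sub_mul, one_mul, ← map_mul, ← map_mul, map_sub,
        trace_of_isNilpotent_sub_one _ (hnil (g * h)), trace_of_isNilpotent_sub_one _ (hnil h),
        sub_self]
    | zero => simp
    | add x y _ _ hx hy => rw [map_add, hx, hy, add_zero]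
    | smul c x _ hx => rw [map_smul, hx, smul_zero]
  have hN0 : N = 0 := by
    apply eq_zero_of_trace_comp_eq_zero
    intro φ
    obtain ⟨a, ha⟩ := burnside (A := A) φ
    have : φ = Algebra.lsmul K K M a := by
      ext x
      exact (ha x).symm
    rw [this]
    exact hT0 a
  have := LinearMap.congr_fun hN0 m
  rw [hN] at this
  simpa [sub_eq_zero] using this

end UnipTrivial

section KolchinClosed

open scoped MonoidAlgebra

variable {K : Type u} [Field K] [IsAlgClosed K] {Γ : Type v} [Monoid Γ]
variable {V : Type w} [AddCommGroup V] [Module K V] [FiniteDimensional K V] [Nontrivial V]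

theorem span_range_of_eq_top : Submodule.span K (Set.range (MonoidAlgebra.of K Γ)) = ⊤ := by
  rw [eq_top_iff]
  intro f _
  exact Submodule.span_mono (Set.image_subset_range _ _) (MonoidAlgebra.mem_span_support_coeff f)

theorem kolchin_algClosed (ρ : Representation K Γ V) (hρ : ∀ g : Γ, IsNilpotent (ρ g - 1)) :
    ∃ v : V, v ≠ 0 ∧ ∀ g : Γ, ρ g v = v := by
  haveI : IsArtinian K[Γ] ρ.asModule := isArtinian_of_tower K (inferInstance : IsArtinian K ρ.asModule)
  haveI : Nontrivial ρ.asModule := ρ.asModuleEquiv.toEquiv.nontrivial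
  obtain ⟨W, hW⟩ := IsAtomic.exists_atom (Submodule K[Γ] ρ.asModule)
  haveI : IsSimpleModule K[Γ] W := isSimpleModule_iff_isAtom.mpr hW
  haveI : FiniteDimensional K W :=
    Module.Finite.of_injective (W.subtype.restrictScalars K) W.subtype_injective
  -- the action of `of g - 1` on `W` is nilpotent
  have hnil : ∀ g, IsNilpotent (Algebra.lsmul K K W (MonoidAlgebra.of K Γ g) - 1) := by
    intro g
    obtain ⟨n, hn⟩ := hρ g
    refine ⟨n, ?_⟩
    have key : ∀ (j : ℕ) (w : W),
        ρ.asModuleEquiv (((Algebra.lsmul K K W (MonoidAlgebra.of K Γ g) - 1) ^ j) w : ρ.asModule) =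
          ((ρ g - 1) ^ j) (ρ.asModuleEquiv (w : ρ.asModule)) := by
      intro j
      induction j with
      | zero => intro w; simp
      | succ j ih =>
        intro w
        rw [pow_succ, Module.End.mul_apply, ih, pow_succ, Module.End.mul_apply]
        congr 1
        simp only [LinearMap.sub_apply, Algebra.lsmul_coe, Module.End.one_apply,
          Submodule.coe_sub, Submodule.coe_smul, map_sub]
        rw [Representation.asModuleEquiv_map_smul, Representation.asAlgebraHom_of]
    ext w
    apply ρ.asModuleEquiv.injective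
    rw [key, hn]
    simp
  obtain ⟨w, hwW, hw0⟩ := Submodule.exists_mem_ne_zero_of_ne_bot hW.1
  refine ⟨ρ.asModuleEquiv w, ?_, fun g => ?_⟩
  · simpa using hw0
  · have h1 := smul_eq_self_of_isNilpotent (K := K) (A := K[Γ]) (M := W)
      (MonoidAlgebra.of K Γ) span_range_of_eq_top hnil g ⟨w, hwW⟩
    have h2 : MonoidAlgebra.of K Γ g • w = w := congrArg Subtype.val h1
    have h3 := Representation.asModuleEquiv_map_smul ρ (MonoidAlgebra.of K Γ g) w
    rw [h2, Representation.asAlgebraHom_of] at h3
    exact h3.symm

end KolchinClosed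

section Kolchin

open TensorProduct

variable {k : Type u} [Field k] {Γ : Type v} [Monoid Γ]
variable {V : Type w} [AddCommGroup V] [Module k V] [FiniteDimensional k V] [Nontrivial V]

/-- `a ⊗ v ↦ φ a • v`. -/
noncomputable def coordL (K : Type*) [Field K] [Algebra k K] (V : Type w) [AddCommGroup V]
    [Module k V] (φ : K →ₗ[k] k) : K ⊗[k] V →ₗ[k] V :=
  (TensorProduct.lid k V).toLinearMap ∘ₗ φ.rTensor V

omit [FiniteDimensional k V] [Nontrivial V] in
theorem coordL_baseChange {K : Type*} [Field K] [Algebra k K] (φ : K →ₗ[k] k) (f : V →ₗ[k] V)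
    (x : K ⊗[k] V) : coordL K V φ (f.baseChange K x) = f (coordL K V φ x) := by
  induction x using TensorProduct.induction_on with
  | zero => simp
  | add x y hx hy => simp only [map_add, hx, hy]
  | tmul a v => simp [coordL]

omit [FiniteDimensional k V] [Nontrivial V] in
theorem eq_zero_of_coordL_eq_zero {K : Type*} [Field K] [Algebra k K] (x : K ⊗[k] V)
    (h : ∀ φ : K →ₗ[k] k, coordL K V φ x = 0) : x = 0 := by
  have h1 : TensorProduct.comm k K V x = 0 := by
    apply eq_zero_of_slice_eq_zero
    intro φ
    have h2 : ∀ y : K ⊗[k] V, slice V φ (TensorProduct.comm k K V y) = coordL K V φ y := by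
      intro y
      induction y using TensorProduct.induction_on with
      | zero => simp
      | add x y hx hy => simp only [map_add, hx, hy]
      | tmul a v => simp [coordL]
    rw [h2, h]
  exact (TensorProduct.comm k K V).injective (by rw [h1, map_zero])

theorem kolchin (ρ : Representation k Γ V) (hρ : ∀ g : Γ, IsNilpotent (ρ g - 1)) :
    ∃ v : V, v ≠ 0 ∧ ∀ g : Γ, ρ g v = v := by
  let K := AlgebraicClosure k
  let ρ' : Representation K Γ (K ⊗[k] V) :=
    ((Module.End.baseChangeHom k K V : Module.End k V →ₐ[k] Module.End K (K ⊗[k] V)) :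
      Module.End k V →* Module.End K (K ⊗[k] V)).comp ρ
  have hρ'g : ∀ g, ρ' g = (ρ g).baseChange K := fun g => rfl
  have hρ' : ∀ g, IsNilpotent (ρ' g - 1) := by
    intro g
    have := (hρ g).map (Module.End.baseChangeHom k K V)
    rwa [map_sub, map_one] at this
  haveI : Nontrivial (K ⊗[k] V) := by
    apply Module.nontrivial_of_finrank_pos (R := K)
    rw [Module.finrank_baseChange]
    exact Module.finrank_pos
  obtain ⟨v', hv'0, hv'⟩ := kolchin_algClosed ρ' hρ'
  obtain ⟨φ, hφ⟩ : ∃ φ : K →ₗ[k] k, coordL K V φ v' ≠ 0 := by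
    by_contra hcon
    push Not at hcon
    exact hv'0 (eq_zero_of_coordL_eq_zero v' hcon)
  refine ⟨coordL K V φ v', hφ, fun g => ?_⟩
  rw [← coordL_baseChange, ← hρ'g, hv']

end Kolchin

end Groth.Agent.Lib.Helper25
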