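import Groth.Agent.Lib.Helper25Cosemisimple
import Groth.Agent.Lib.Helper25ComodMat
import Groth.Agent.Lib.Helper25Kolchin

/-!
# Characters of comodules and cocommutative elements of cosemisimple coalgebras (helper25)

Over an algebraically closed field, the cocommutative elements of a cosemisimple coalgebra are the
linear combinations of characters of (simple) comodules.
-/

set_option autoImplicit false
set_option linter.style.haveILetI false
universe u v w

namespace Groth.Agent.Lib.Helper25.Characters

open TensorProduct HopfRep Groth.Agent.Lib.Helper25 Module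

section Burnside

variable {k : Type u} [Field k] [IsAlgClosed k]
variable {A : Type v} [AddCommGroup A] [Module k A] [Coalgebra k A]
variable {E : Type w} [AddCommGroup E] [Module k E] [Comod k A E] [FiniteDimensional k E]
variable {ι : Type*} [Fintype ι] [DecidableEq ι]

/-- The action of a functional on a basis vector in terms of the comatrix. -/
theorem T_basis (b : Basis ι k E) (φ : A →ₗ[k] k) (j : ι) :
    T φ (b j) = ∑ i, φ (comatrix (A := A) b i j) • b i := by
  rw [T_apply, coact_basis, map_sum]
  simp only [slice_tmul]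

/-- Burnside: for a simple comodule over an algebraically closed field the matrix coefficients
admit dual functionals. -/
theorem exists_dual_comatrix (hE : IsSimpleComod k A E) (b : Basis ι k E) (p q : ι) :
    ∃ φ : A →ₗ[k] k, ∀ i j, φ (comatrix (A := A) b i j) = if i = p ∧ j = q then 1 else 0 := by
  letI := dualModule k A E
  haveI : IsScalarTower k (DualAlg k A) E := dual_isScalarTower k A E
  haveI : IsSimpleModule (DualAlg k A) E := isSimpleComod_iff.mp hE
  obtain ⟨a, ha⟩ := burnside (K := k) (A := DualAlg k A) (M := E)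
    (b.constr k (fun j => if j = q then b p else 0))
  refine ⟨a.ofConv, fun i j => ?_⟩
  have h1 := ha (b j)
  rw [dual_smul_def, T_basis, Basis.constr_basis] at h1
  have h2 := congrArg (fun x => b.repr x i) h1
  simp only [map_sum, map_smul, Basis.repr_self, Finsupp.coe_finset_sum, Finsupp.coe_smul,
    Finset.sum_apply, Pi.smul_apply, Finsupp.single_apply, smul_eq_mul, mul_ite, mul_one,
    mul_zero, Finset.sum_ite_eq', Finset.mem_univ, if_true] at h2
  rw [h2]
  by_cases hj : j = q
  · subst hj
    by_cases hi : i = p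
    · subst hi
      simp
    · simp [hi, Ne.symm hi]
  · simp [hj]

end Burnside

section Cocomm

variable {k : Type u} [Field k]
variable {A : Type v} [AddCommGroup A] [Module k A] [Coalgebra k A]
variable {ι : Type*} [Fintype ι] [DecidableEq ι]

/-- Evaluation of a tensor by a pair of functionals. -/
noncomputable def ev2 (φ ψ : A →ₗ[k] k) : A ⊗[k] A →ₗ[k] k :=
  (TensorProduct.lid k k).toLinearMap ∘ₗ TensorProduct.map φ ψ

@[simp] theorem ev2_tmul (φ ψ : A →ₗ[k] k) (a b : A) : ev2 φ ψ (a ⊗ₜ[k] b) = φ a * ψ b := by
  simp [ev2]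

theorem ev2_comm (φ ψ : A →ₗ[k] k) (z : A ⊗[k] A) :
    ev2 φ ψ (TensorProduct.comm k A A z) = ev2 ψ φ z := by
  induction z using TensorProduct.induction_on with
  | zero => simp
  | add x y hx hy => simp only [map_add, hx, hy]
  | tmul a b => simp [mul_comm]

theorem ev2_comul_sum (a : Matrix ι ι A) (ha : IsComatrix (k := k) a) (x : ι → ι → k)
    (φ ψ : A →ₗ[k] k) :
    ev2 φ ψ (CoalgebraStruct.comul (R := k) (∑ i, ∑ j, x i j • a i j)) =
      ∑ i, ∑ j, x i j * ((Matrix.of fun i j => φ (a i j)) * (Matrix.of fun i j => ψ (a i j))) i j := by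
  simp only [map_sum, map_smul, ha.comul, ev2_tmul, smul_eq_mul, Matrix.mul_apply, Matrix.of_apply]

theorem ev2_comul_sum_single (a : Matrix ι ι A) (ha : IsComatrix (k := k) a) (x : ι → ι → k)
    (φ ψ : A →ₗ[k] k) (p q r s : ι)
    (hφ : ∀ i j, φ (a i j) = if i = p ∧ j = q then 1 else 0)
    (hψ : ∀ i j, ψ (a i j) = if i = r ∧ j = s then 1 else 0) :
    ev2 φ ψ (CoalgebraStruct.comul (R := k) (∑ i, ∑ j, x i j • a i j)) =
      if q = r then x p s else 0 := by
  rw [ev2_comul_sum a ha]
  have h1 : (Matrix.of fun i j => φ (a i j)) = Matrix.single p q (1 : k) := by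
    ext i j
    rw [Matrix.of_apply, hφ, Matrix.single_apply]
    simp only [eq_comm]
  have h2 : (Matrix.of fun i j => ψ (a i j)) = Matrix.single r s (1 : k) := by
    ext i j
    rw [Matrix.of_apply, hψ, Matrix.single_apply]
    simp only [eq_comm]
  rw [h1, h2]
  by_cases hqr : q = r
  · subst hqr
    rw [Matrix.single_mul_single_same, if_pos rfl]
    simp only [Matrix.single_apply, mul_one, mul_ite, mul_zero]
    rw [Finset.sum_eq_single p]
    · rw [Finset.sum_eq_single s]
      · simp
      · intro j _ hj
        simp [Ne.symm hj]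
      · intro h
        exact absurd (Finset.mem_univ s) h
    · intro i _ hi
      apply Finset.sum_eq_zero
      intro j _
      simp [Ne.symm hi]
    · intro h
      exact absurd (Finset.mem_univ p) h
  · rw [Matrix.single_mul_single_of_ne _ _ _ _ hqr, if_neg hqr]
    simp

/-- A cocommutative linear combination of the entries of a comatrix with dual functionals is a
multiple of its trace. -/
theorem cocomm_eq_smul_trace (a : Matrix ι ι A) (ha : IsComatrix (k := k) a)
    (hdual : ∀ p q, ∃ φ : A →ₗ[k] k, ∀ i j, φ (a i j) = if i = p ∧ j = q then 1 else 0)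
    (x : ι → ι → k)
    (hx : TensorProduct.comm k A A (CoalgebraStruct.comul (R := k) (∑ i, ∑ j, x i j • a i j)) =
      CoalgebraStruct.comul (R := k) (∑ i, ∑ j, x i j • a i j)) :
    ∃ c : k, ∑ i, ∑ j, x i j • a i j = c • ∑ i, a i i := by
  choose φ hφ using hdual
  have key : ∀ p q r s : ι, (if q = r then x p s else 0) = (if s = p then x r q else 0) := by
    intro p q r s
    rw [← ev2_comul_sum_single a ha x (φ p q) (φ r s) p q r s (hφ p q) (hφ r s),
      ← ev2_comul_sum_single a ha x (φ r s) (φ p q) r s p q (hφ r s) (hφ p q),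
      ← ev2_comm, hx]
  have hoff : ∀ p s : ι, p ≠ s → x p s = 0 := by
    intro p s hps
    have := key p p p s
    rw [if_pos rfl, if_neg (Ne.symm hps)] at this
    exact this
  have hdiag : ∀ p q : ι, x p p = x q q := by
    intro p q
    have := key p q q p
    rw [if_pos rfl, if_pos rfl] at this
    exact this
  rcases isEmpty_or_nonempty ι with hι | ⟨⟨i₀⟩⟩
  · exact ⟨0, by simp⟩
  · refine ⟨x i₀ i₀, ?_⟩
    rw [Finset.smul_sum]
    apply Finset.sum_congr rfl
    intro i _
    rw [Finset.sum_eq_single i]
    · rw [hdiag i i₀]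
    · intro j _ hj
      rw [hoff i j (Ne.symm hj), zero_smul]
    · intro h
      exact absurd (Finset.mem_univ i) h

end Cocomm

section Span

variable {k : Type u} [CommRing k]
variable {A : Type v} [AddCommGroup A] [Module k A] [Coalgebra k A]
variable {E : Type w} [AddCommGroup E] [Module k E] [Comod k A E]
variable {ι : Type*} [Fintype ι] [DecidableEq ι]

theorem coeffSpace_le_span_comatrix (b : Basis ι k E) :
    coeffSpace k A E ≤
      Submodule.span k (Set.range fun p : ι × ι => comatrix (A := A) b p.1 p.2) := by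
  apply iSup_le
  rintro l _ ⟨v, rfl⟩
  rw [coeffMap_apply, coact_eq_sum b v, map_sum]
  refine Submodule.sum_mem _ (fun i _ => ?_)
  rw [lslice_tmul]
  refine Submodule.smul_mem _ _ (Submodule.sum_mem _ (fun j _ => ?_))
  exact Submodule.smul_mem _ _ (Submodule.subset_span ⟨(i, j), rfl⟩)

theorem exists_coeff_of_mem_span_comatrix (a : Matrix ι ι A) {f : A}
    (hf : f ∈ Submodule.span k (Set.range fun p : ι × ι => a p.1 p.2)) :
    ∃ x : ι → ι → k, f = ∑ i, ∑ j, x i j • a i j := by
  obtain ⟨c, hc⟩ := (Submodule.mem_span_range_iff_exists_fun k).mp hf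
  refine ⟨fun i j => c (i, j), ?_⟩
  rw [← hc, Fintype.sum_prod_type]

end Span

section Proj

variable {k : Type u} [Field k]
variable {A : Type v} [AddCommGroup A] [Module k A] [Coalgebra k A]
variable {ι : Type*} (D : ι → Submodule k A)

omit [Coalgebra k A] in
theorem map_comm_comm (π : A →ₗ[k] A) (z : A ⊗[k] A) :
    TensorProduct.map π π (TensorProduct.comm k A A z) =
      TensorProduct.comm k A A (TensorProduct.map π π z) := by
  induction z using TensorProduct.induction_on with
  | zero => simp
  | add x y hx hy => simp only [map_add, hx, hy]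
  | tmul a b => simp

omit [Coalgebra k A] in
/-- Projections attached to an independent family with top supremum. -/
theorem exists_proj (hind : iSupIndep D) (htop : iSup D = ⊤) (i : ι) :
    ∃ π : A →ₗ[k] A, (∀ u ∈ D i, π u = u) ∧ ∀ j, j ≠ i → ∀ u ∈ D j, π u = 0 := by
  classical
  have hc : IsCompl (D i) (⨆ (j) (_ : j ≠ i), D j) := by
    refine ⟨hind i, ?_⟩
    rw [codisjoint_iff, eq_top_iff, ← htop]
    apply iSup_le
    intro j
    by_cases hj : j = i
    · subst hj
      exact le_sup_left
    · exact le_trans (le_iSup₂ (f := fun j (_ : j ≠ i) => D j) j hj) le_sup_right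
  refine ⟨(D i).projection _ hc, ?_, ?_⟩
  · intro u hu
    exact Submodule.projection_apply_of_mem_left hc hu
  · intro j hj u hu
    have hu' : u ∈ ⨆ (j) (_ : j ≠ i), D j :=
      (le_iSup₂ (f := fun j (_ : j ≠ i) => D j) j hj) hu
    exact Submodule.projection_apply_of_mem_right hc hu'

theorem map_proj_comul_of_mem {π : A →ₗ[k] A} {j : ι} (hD : IsSubcoalg (D j))
    {u : A} (hu : u ∈ D j) :
    ((∀ v ∈ D j, π v = v) → TensorProduct.map π π (CoalgebraStruct.comul (R := k) u) =
      CoalgebraStruct.comul (R := k) u) ∧
    ((∀ v ∈ D j, π v = 0) → TensorProduct.map π π (CoalgebraStruct.comul (R := k) u) = 0) := by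
  obtain ⟨y, hy⟩ := hD u hu
  constructor
  · intro h
    rw [← hy, ← LinearMap.comp_apply, ← TensorProduct.map_comp]
    have : π ∘ₗ (D j).subtype = (D j).subtype := by
      ext v
      exact h v v.2
    rw [this]
  · intro h
    rw [← hy, ← LinearMap.comp_apply, ← TensorProduct.map_comp]
    have : π ∘ₗ (D j).subtype = 0 := by
      ext v
      exact h v v.2
    rw [this, TensorProduct.map_zero_left, LinearMap.zero_apply]

/-- A cocommutative element of a direct sum of subcoalgebras has cocommutative components. -/
theorem exists_cocomm_decomp (hind : iSupIndep D) (htop : iSup D = ⊤)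
    (hD : ∀ i, IsSubcoalg (D i)) {f : A}
    (hf : TensorProduct.comm k A A (CoalgebraStruct.comul (R := k) f) =
      CoalgebraStruct.comul (R := k) f) :
    ∃ g : ι →₀ A, (∀ i, g i ∈ D i) ∧ (g.sum fun _ x => x) = f ∧
      ∀ i, TensorProduct.comm k A A (CoalgebraStruct.comul (R := k) (g i)) =
        CoalgebraStruct.comul (R := k) (g i) := by
  classical
  have hmem : f ∈ iSup D := by
    rw [htop]
    exact Submodule.mem_top
  obtain ⟨g, hg, hsum⟩ := (Submodule.mem_iSup_iff_exists_finsupp D f).mp hmem
  refine ⟨g, hg, hsum, fun i => ?_⟩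
  obtain ⟨π, hπ1, hπ2⟩ := exists_proj D hind htop i
  have key : TensorProduct.map π π (CoalgebraStruct.comul (R := k) f) =
      CoalgebraStruct.comul (R := k) (g i) := by
    rw [← hsum, Finsupp.sum, map_sum, map_sum]
    rw [Finset.sum_eq_single i]
    · exact (map_proj_comul_of_mem D (hD i) (hg i)).1 hπ1
    · intro j _ hj
      exact (map_proj_comul_of_mem D (hD j) (hg j)).2 (hπ2 j hj)
    · intro hi
      have : g i = 0 := Finsupp.notMem_support_iff.mp hi
      rw [this, map_zero, map_zero]
  rw [← key, ← map_comm_comm, hf]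

end Proj

section Char

variable {k : Type u} [CommRing k]
variable {A : Type v} [AddCommGroup A] [Module k A] [Coalgebra k A]

/-- The character of a comodule structure on a coordinate space. -/
noncomputable def charOf (p : Σ d : ℕ, Comod k A (Fin d → k)) : A :=
  ∑ i : Fin p.1, TensorProduct.lid k A (LinearMap.rTensor A (LinearMap.proj i)
    (@Comod.coact k A _ _ _ _ (Fin p.1 → k) _ _ p.2 (Pi.single i 1)))

theorem coord_basisFun (d : ℕ) (i : Fin d) :
    (Pi.basisFun k (Fin d)).coord i = LinearMap.proj i := by
  ext x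
  simp

theorem charOf_eq_sum_comatrix (d : ℕ) (c : Comod k A (Fin d → k)) :
    charOf ⟨d, c⟩ = ∑ i, @comatrix k _ A _ _ _ (Fin d → k) _ _ (Fin d) c
      (Pi.basisFun k (Fin d)) i i := by
  unfold charOf
  apply Finset.sum_congr rfl
  intro i _
  letI := c
  rw [comatrix_apply, coeffMap_apply, coord_basisFun, Pi.basisFun_apply]
  rfl

variable {E : Type w} [AddCommGroup E] [Module k E] [Comod k A E]

/-- The comodule structure on a coordinate space with a prescribed comatrix has that comatrix. -/
theorem comatrix_comodOfComatrix {d : ℕ} (a : Matrix (Fin d) (Fin d) A)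
    (ha : IsComatrix (k := k) a) (i j : Fin d) :
    @comatrix k _ A _ _ _ (Fin d → k) _ _ (Fin d)
      (comodOfComatrix (Pi.basisFun k (Fin d)) a ha) (Pi.basisFun k (Fin d)) i j = a i j := by
  letI := comodOfComatrix (Pi.basisFun k (Fin d)) a ha
  rw [comatrix_apply, coeffMap_apply]
  change lslice _ (matCoact (Pi.basisFun k (Fin d)) a (Pi.basisFun k (Fin d) j)) = _
  rw [matCoact_basis, map_sum]
  simp only [lslice_tmul, Basis.coord_apply, Basis.repr_self, Finsupp.single_apply]
  rw [Finset.sum_eq_single i]
  · simp
  · intro l _ hl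
    simp [hl]
  · intro h
    exact absurd (Finset.mem_univ i) h

/-- The trace of the comatrix of a comodule with a finite basis is a character. -/
theorem sum_comatrix_eq_charOf {d : ℕ} (b : Basis (Fin d) k E) :
    ∑ i, comatrix (A := A) b i i =
      charOf ⟨d, comodOfComatrix (Pi.basisFun k (Fin d)) (comatrix (A := A) b)
        (isComatrix_comatrix b)⟩ := by
  rw [charOf_eq_sum_comatrix]
  apply Finset.sum_congr rfl
  intro i _
  rw [comatrix_comodOfComatrix]

end Char

section Main

variable {k : Type u} [Field k] [IsAlgClosed k]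
variable {A : Type v} [AddCommGroup A] [Module k A] [Coalgebra k A]

/-- Over an algebraically closed field, a cocommutative element of a cosemisimple coalgebra is a
linear combination of characters. -/
theorem mem_span_charOf_of_cocomm (hss : IsSemisimpleComod k A A) {f : A}
    (hf : TensorProduct.comm k A A (CoalgebraStruct.comul (R := k) f) =
      CoalgebraStruct.comul (R := k) f) :
    f ∈ Submodule.span k (Set.range (charOf (k := k) (A := A))) := by
  classical
  obtain ⟨ι, D, hind, htop, hD⟩ := exists_cosemisimple_decomp hss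
  obtain ⟨g, hg, hsum, hgc⟩ := exists_cocomm_decomp D hind htop (fun i => (hD i).2.1) hf
  rw [← hsum, Finsupp.sum]
  refine Submodule.sum_mem _ (fun i _ => ?_)
  obtain ⟨E, -, hE0, -, hfg, hmin, hE, hcf⟩ :=
    exists_simple_subcomod_of_simple_subcoalg (D i) (hD i).1 (hD i).2.1 (hD i).2.2
  letI := subComod E hE
  have hsimple : IsSimpleComod k A E := isSimpleComod_subComod hE hE0 hmin
  haveI : Module.Finite k E := Module.Finite.iff_fg.mpr hfg
  let b := Module.finBasis k E
  have hmem : g i ∈ Submodule.span k
      (Set.range fun p : Fin (Module.finrank k E) × Fin (Module.finrank k E) =>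
        comatrix (A := A) b p.1 p.2) := by
    apply coeffSpace_le_span_comatrix b
    rw [hcf]
    exact hg i
  obtain ⟨x, hx⟩ := exists_coeff_of_mem_span_comatrix (comatrix (A := A) b) hmem
  have hgc' := hgc i
  rw [hx] at hgc'
  obtain ⟨c, hc⟩ := cocomm_eq_smul_trace (comatrix (A := A) b) (isComatrix_comatrix b)
    (fun p q => exists_dual_comatrix hsimple b p q) x hgc'
  rw [hx, hc, sum_comatrix_eq_charOf]
  exact Submodule.smul_mem _ _ (Submodule.subset_span ⟨_, rfl⟩)

end Main

section Indep

variable {k : Type u} [Field k] [CharZero k]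
variable {A : Type v} [AddCommGroup A] [Module k A] [Coalgebra k A]

theorem counit_charOf (p : Σ d : ℕ, Comod k A (Fin d → k)) :
    CoalgebraStruct.counit (R := k) (charOf p) = (p.1 : k) := by
  obtain ⟨d, c⟩ := p
  rw [charOf_eq_sum_comatrix, map_sum]
  letI := c
  simp only [(isComatrix_comatrix (A := A) (Pi.basisFun k (Fin d))).counit, if_true]
  simp

/-- The characters of pairwise non-isomorphic simple comodule structures on coordinate spaces are
linearly independent (characteristic zero). -/
theorem linearIndependent_charOf {n : ℕ} (d : Fin n → ℕ)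
    (c : (i : Fin n) → Comod k A (Fin (d i) → k))
    (hs : ∀ i, @IsSimpleComod k A _ _ _ _ (Fin (d i) → k) _ _ (c i))
    (hne : ∀ i j, i ≠ j → ∀ P : (Fin (d i) → k) ≃ₗ[k] (Fin (d j) → k),
      LinearMap.rTensor A P.toLinearMap ∘ₗ @Comod.coact k A _ _ _ _ (Fin (d i) → k) _ _ (c i) ≠
        (@Comod.coact k A _ _ _ _ (Fin (d j) → k) _ _ (c j)) ∘ₗ P.toLinearMap) :
    LinearIndependent k (fun i : Fin n => charOf ⟨d i, c i⟩) := by
  letI : ∀ i, Comod k A (Fin (d i) → k) := c
  have hind := iSupIndep_isotypicComponent_comod (k := k) (A := A) (V := A)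
    (fun i : Fin n => (Fin (d i) → k)) hs (by
      intro i j hij e he
      exact hne i j hij e he.symm)
  refine hind.linearIndependent _ (fun i => ?_) (fun i => ?_)
  · rw [charOf_eq_sum_comatrix]
    refine Submodule.sum_mem _ (fun t _ => ?_)
    rw [comatrix_apply]
    exact Submodule.mem_iSup_of_mem
      ⟨coeffMap (A := A) ((Pi.basisFun k (Fin (d i))).coord t), isComodHom_coeffMap _⟩ ⟨_, rfl⟩
  · intro h0
    have h1 := counit_charOf (k := k) (A := A) ⟨d i, c i⟩
    rw [h0, map_zero] at h1
    have hd : d i = 0 := by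
      have : ((d i : ℕ) : k) = 0 := h1.symm
      exact_mod_cast this
    have hnt : Nontrivial (Fin (d i) → k) := (hs i).1
    obtain ⟨x, y, hxy⟩ := hnt
    apply hxy
    funext t
    rw [hd] at t
    exact t.elim0

end Indep

end Groth.Agent.Lib.Helper25.Characters
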