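import Mathlib

/-!
# Chevalley's theorem over a discrete valuation ring (helper25), part A: adapted bases over a PID
-/

set_option autoImplicit false
set_option linter.unusedSectionVars false
set_option linter.style.haveILetI false

open Module

namespace Groth.Agent.Lib.Helper25.ChevDvr

theorem exists_adapted_basis_pid {V : Type*} [CommRing V] [IsDomain V] [IsPrincipalIdealRing V]
    {W : Type*} [AddCommGroup W] [Module V W] [Module.Finite V W] [Module.IsTorsionFree V W]
    (W' : Submodule V W) [Module.IsTorsionFree V (W ⧸ W')] :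
    ∃ (d n : ℕ) (b : Basis (Fin d ⊕ Fin n) V W), (∀ m, b (Sum.inl m) ∈ W') ∧
      ∀ x ∈ W', ∀ j, b.repr x (Sum.inr j) = 0 := by
  haveI : IsNoetherianRing V := inferInstance
  haveI : IsNoetherian V W := inferInstance
  haveI : Module.Finite V W' := Module.Finite.iff_fg.mpr (IsNoetherian.noetherian W')
  haveI : Module.Free V W' := Module.free_of_finite_type_torsion_free'
  haveI : Module.Free V (W ⧸ W') := Module.free_of_finite_type_torsion_free'
  obtain ⟨s, hs⟩ := Module.projective_lifting_property W'.mkQ LinearMap.id
    (Submodule.mkQ_surjective W')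
  have hs' : ∀ q, W'.mkQ (s q) = q := fun q => by
    have := congrArg (fun f => f q) hs
    simpa using this
  let bW := Module.finBasis V W'
  let bQ := Module.finBasis V (W ⧸ W')
  have hmem : ∀ x : W, x - s (W'.mkQ x) ∈ W' := by
    intro x
    rw [← Submodule.Quotient.mk_eq_zero, ← Submodule.mkQ_apply, map_sub, hs', sub_self]
  let e : W ≃ₗ[V] (W' × (W ⧸ W')) :=
    { toFun := fun x => (⟨x - s (W'.mkQ x), hmem x⟩, W'.mkQ x)
      map_add' := fun x y => by
        ext
        · simp only [map_add, Prod.mk_add_mk, Submodule.coe_add]; abel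
        · simp
      map_smul' := fun c x => by
        ext
        · simp [smul_sub]
        · simp
      invFun := fun y => (y.1 : W) + s y.2
      left_inv := fun x => by simp
      right_inv := fun y => by
        have h1 : W'.mkQ ((y.1 : W) + s y.2) = y.2 := by
          rw [map_add, hs', Submodule.mkQ_apply, (Submodule.Quotient.mk_eq_zero W').mpr y.1.2,
            zero_add]
        ext
        · simp only [h1]; simp
        · exact h1 }
  refine ⟨_, _, (bW.prod bQ).map e.symm, ?_, ?_⟩
  · intro m
    rw [Basis.map_apply]
    change ((bW.prod bQ (Sum.inl m)).1 : W) + s (bW.prod bQ (Sum.inl m)).2 ∈ W'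
    rw [Basis.prod_apply_inl_fst, Basis.prod_apply_inl_snd, map_zero, add_zero]
    exact (bW m).2
  · intro x hx j
    rw [Basis.map_repr, LinearEquiv.trans_apply, LinearEquiv.symm_symm, Basis.prod_repr_inr]
    change bQ.repr (W'.mkQ x) j = 0
    rw [Submodule.mkQ_apply, (Submodule.Quotient.mk_eq_zero W').mpr hx, map_zero]
    rfl

end Groth.Agent.Lib.Helper25.ChevDvr
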