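import Groth.Agent.Lib.Helper25Serre
import Groth.Agent.Lib.Helper25ComodMat
import Groth.Agent.Lib.Helper25ComodEnd
import Mathlib.LinearAlgebra.Matrix.Determinant.Basic

/-!
# Thomason's embedding: the equivariant resolution property gives a closed embedding into `GL_d`
(helper25)
-/

set_option autoImplicit false
set_option linter.style.haveILetI false
universe u v w w'
open TensorProduct HopfRep

namespace Groth.Agent.Lib.Helper25.Thomason

open Groth.Agent.Lib.Helper25

section Det
variable {k : Type u} [CommRing k] {A : Type v} [CommRing A] [HopfAlgebra k A] {n : ℕ}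

theorem comatrix_mul_antipode {a : Matrix (Fin n) (Fin n) A} (ha : IsComatrix (k := k) a) :
    a * a.map (HopfAlgebra.antipode k) = 1 := by
  ext i j
  rw [Matrix.mul_apply, Matrix.one_apply]
  simp only [Matrix.map_apply]
  exact ha.mul_antipode i j

theorem det_antipode_mul_det {a : Matrix (Fin n) (Fin n) A} (ha : IsComatrix (k := k) a) :
    (a.map (HopfAlgebra.antipode k)).det * a.det = 1 := by
  rw [mul_comm, ← Matrix.det_mul, comatrix_mul_antipode ha, Matrix.det_one]

end Det

section Coeff
variable {k : Type u} [CommRing k] {A : Type v} [CommRing A] [Bialgebra k A]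
variable {V : Type w} [AddCommGroup V] [Module k V] [Comod k A V]
variable {ι : Type*} [Fintype ι] [DecidableEq ι]

/-- The image of a comodule map from a free comodule to the regular comodule lies in the span of
the matrix coefficients. -/
theorem apply_mem_span_comatrix (b : Module.Basis ι k V) {g : V →ₗ[k] A}
    (hg : Hoch.IsComodHom A g) (y : V) :
    g y ∈ Submodule.span k (Set.range (fun p : ι × ι => comatrix (A := A) b p.1 p.2)) := by
  have h1 := isComodHom_apply hg y
  have h2 : (TensorProduct.lid k A) ((CoalgebraStruct.counit (R := k) (A := A)).rTensor A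
      (Comod.coact (k := k) (A := A) (V := A) (g y))) = g y := by
    change (TensorProduct.lid k A) ((CoalgebraStruct.counit (R := k) (A := A)).rTensor A
      (CoalgebraStruct.comul (R := k) (g y))) = g y
    rw [Coalgebra.rTensor_counit_comul]
    simp
  rw [← h2, h1, coact_eq_sum b y]
  simp only [map_sum, LinearMap.rTensor_tmul, TensorProduct.lid_tmul]
  refine Submodule.sum_mem _ (fun i _ => ?_)
  refine Submodule.smul_mem _ _ ?_
  refine Submodule.sum_mem _ (fun j _ => ?_)
  refine Submodule.smul_mem _ _ ?_
  exact Submodule.subset_span ⟨(i, j), rfl⟩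

end Coeff

section Main
variable {R : Type u} [CommRing R] [IsNoetherianRing R]
variable {A : Type u} [CommRing A] [HopfAlgebra R A] [Module.Flat R A] [Algebra.FiniteType R A]

theorem exists_embedding
    (hRE : ∀ (F : Type u) [AddCommGroup F] [Module R F] [HopfRep.Comod R A F] [Module.Finite R F],
      ∃ (E : Type u) (_ : AddCommGroup E) (_ : Module R E) (_ : HopfRep.Comod R A E) (π : E →ₗ[R] F),
        Module.Finite R E ∧ Module.Projective R E ∧ Function.Surjective π ∧
        HopfRep.Comod.coact (k := R) (A := A) ∘ₗ π =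
          π.rTensor A ∘ₗ HopfRep.Comod.coact (k := R) (A := A) (V := E)) :
    ∃ (d : ℕ) (a : Matrix (Fin d) (Fin d) A),
      (∀ i j, CoalgebraStruct.comul (R := R) (a i j) = ∑ l, a i l ⊗ₜ[R] a l j) ∧
      (∀ i j, CoalgebraStruct.counit (R := R) (a i j) = if i = j then 1 else 0) ∧
      ∃ u : A, u * a.det = 1 ∧
        Algebra.adjoin R (Set.range (fun p : Fin d × Fin d => a p.1 p.2) ∪ {u}) = ⊤ := by
  classical
  obtain ⟨t, ht⟩ := (Algebra.FiniteType.out : (⊤ : Subalgebra R A).FG)
  obtain ⟨W, hW, htW, hWfg⟩ := exists_fg_subcomod_ge_noeth (k := R) (A := A) (V := A)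
    (Submodule.span R (t : Set A)) (Submodule.fg_span t.finite_toSet)
  letI cW : Comod R A W := subComod W hW
  haveI : Module.Finite R W := Module.Finite.iff_fg.mpr hWfg
  obtain ⟨E, iE1, iE2, cE, π, hEfin, hEproj, hπsurj, hπ⟩ := hRE W
  obtain ⟨d, p, hp⟩ := Module.Finite.exists_fin' R E
  obtain ⟨s, hs⟩ := Module.projective_lifting_property p LinearMap.id hp
  -- the complement
  let Q : Submodule R (Fin d → R) := LinearMap.ker p
  let e : (E × Q) ≃ₗ[R] (Fin d → R) :=
    { toFun := fun x => s x.1 + (x.2 : Fin d → R)
      map_add' := fun x y => by simp only [Prod.fst_add, Prod.snd_add, map_add, Submodule.coe_add]; abel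
      map_smul' := fun c x => by simp
      invFun := fun y => (p y, ⟨y - s (p y), by
        have := LinearMap.congr_fun hs (p y)
        simp only [LinearMap.comp_apply, LinearMap.id_apply] at this
        simp [Q, LinearMap.mem_ker, map_sub, this]⟩)
      left_inv := fun x => by
        have h1 := LinearMap.congr_fun hs x.1
        simp only [LinearMap.comp_apply, LinearMap.id_apply] at h1
        have h2 : p (x.2 : Fin d → R) = 0 := x.2.2
        ext
        · simp [map_add, h1, h2]
        · simp [map_add, h1, h2]
      right_inv := fun y => by simp }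
  letI cQ : Comod R A Q := Comod.trivial R A Q
  letI cEQ : Comod R A (E × Q) := ComodTens.Comod.prod cE cQ
  letI cF : Comod R A (Fin d → R) := ComodTens.Comod.ofEquiv e cEQ
  let b : Module.Basis (Fin d) R (Fin d → R) := Pi.basisFun R (Fin d)
  set a : Matrix (Fin d) (Fin d) A := comatrix (A := A) b with hadef
  have ha : IsComatrix (k := R) a := isComatrix_comatrix b
  refine ⟨d, a, ha.comul, ha.counit, (a.map (HopfAlgebra.antipode R)).det,
    det_antipode_mul_det ha, ?_⟩
  -- the comodule map to the regular comodule
  have he : Hoch.IsComodHom A (e : (E × Q) →ₗ[R] (Fin d → R)) := by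
    unfold Hoch.IsComodHom
    apply LinearMap.ext
    intro x
    simp only [LinearMap.comp_apply]
    exact ComodTens.ofEquiv_coact_apply e cEQ x
  have hesymm : Hoch.IsComodHom A (e.symm : (Fin d → R) →ₗ[R] (E × Q)) := isComodHom_symm e he
  have hfst : Hoch.IsComodHom A (LinearMap.fst R E Q) := isComodHom_fst
  have hπ' : Hoch.IsComodHom A π := hπ
  have hsub : Hoch.IsComodHom A W.subtype := isComodHom_subtype W hW
  set g : (Fin d → R) →ₗ[R] A :=
    W.subtype ∘ₗ π ∘ₗ LinearMap.fst R E Q ∘ₗ (e.symm : (Fin d → R) →ₗ[R] (E × Q)) with hgdef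
  have hg : Hoch.IsComodHom A g :=
    isComodHom_comp (isComodHom_comp (isComodHom_comp hesymm hfst) hπ') hsub
  rw [eq_top_iff, ← ht]
  apply Algebra.adjoin_le
  intro x hx
  have hxW : x ∈ W := htW (Submodule.subset_span hx)
  obtain ⟨e₀, he₀⟩ := hπsurj ⟨x, hxW⟩
  have hgx : g (e (e₀, 0)) = x := by
    simp only [hgdef, LinearMap.comp_apply, LinearEquiv.coe_coe, LinearEquiv.symm_apply_apply,
      LinearMap.fst_apply, he₀, Submodule.subtype_apply]
  have hmem := apply_mem_span_comatrix b hg (e (e₀, 0))
  rw [hgx] at hmem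
  have hle : Submodule.span R (Set.range (fun p : Fin d × Fin d => comatrix (A := A) b p.1 p.2)) ≤
      Subalgebra.toSubmodule (Algebra.adjoin R (Set.range (fun p : Fin d × Fin d => a p.1 p.2) ∪
        {(a.map (HopfAlgebra.antipode R)).det})) := by
    apply Submodule.span_le.mpr
    rintro _ ⟨q, rfl⟩
    exact Algebra.subset_adjoin (Or.inl ⟨q, rfl⟩)
  exact hle hmem

end Main

end Groth.Agent.Lib.Helper25.Thomason
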