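import Groth.Agent.Lib.Helper25Chevalley
import Groth.Agent.Lib.Helper25Serre
import Groth.Agent.Lib.Helper25Thomason
import Groth.Agent.Lib.Helper25ChevDvrA

/-!
# Chevalley's theorem over a discrete valuation ring (helper25), part B:
the ideal of a flat closed subgroup is generated by a block of a comatrix
-/

set_option autoImplicit false
set_option linter.unusedSectionVars false
set_option linter.style.haveILetI false
universe u

open TensorProduct HopfRep Module Matrix

namespace Groth.Agent.Lib.Helper25.ChevDvr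

open Groth.Agent.Lib.Helper25

section Ideal

variable {V : Type u} [CommRing V] {A : Type u} [CommRing A] [HopfAlgebra V A] [Module.Flat V A]
  {B : Type u} [CommRing B] [HopfAlgebra V B] [Module.Flat V B]
  (π : A →ₐc[V] B)
  (W : Submodule V A) (hW : IsSubcomod (k := V) (A := A) W)
  {m n : ℕ} (b : Basis (Fin m ⊕ Fin n) V W)

theorem counit_eq_zero_of_mem_ker' (x : A)
    (hx : x ∈ RingHom.ker (π : A →+* B)) : CoalgebraStruct.counit (R := V) (A := A) x = 0 := by
  have h : π x = 0 := hx
  rw [← CoalgHomClass.counit_comp_apply π x, h, map_zero]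

theorem ker_le_span_comatrix
    (hgen : RingHom.ker (π : A →+* B) ≤
      Ideal.span {y | y ∈ W ∧ y ∈ RingHom.ker (π : A →+* B)})
    (hb1 : ∀ j, ((b (Sum.inl j) : W) : A) ∈ RingHom.ker (π : A →+* B))
    (hb2 : ∀ x : W, (x : A) ∈ RingHom.ker (π : A →+* B) → ∀ i, b.repr x (Sum.inr i) = 0) :
    letI := subComod W hW
    RingHom.ker (π : A →+* B) ≤
      Ideal.span {y | ∃ i j, y = comatrix (A := A) b (Sum.inr i) (Sum.inl j)} := by
  letI := subComod W hW
  have hj := isComodHom_subtype W hW
  refine hgen.trans (Ideal.span_le.mpr ?_)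
  rintro y ⟨hyW, hyI⟩
  have h1 : W.subtype ⟨y, hyW⟩ = ∑ i, CoalgebraStruct.counit (R := V) (A := A) (W.subtype (b i)) •
      vecCoeff (A := A) b ⟨y, hyW⟩ i := by
    conv_lhs => rw [eq_coeffMap_of_isComodHom hj]
    rw [coeffMap_apply, coact_eq_sum b ⟨y, hyW⟩, map_sum]
    refine Finset.sum_congr rfl (fun i _ => ?_)
    rw [lslice_tmul]
    rfl
  have h1' : y = ∑ i, CoalgebraStruct.counit (R := V) (A := A) (W.subtype (b i)) •
      vecCoeff (A := A) b ⟨y, hyW⟩ i := h1
  change y ∈ Ideal.span {y | ∃ i j, y = comatrix (A := A) b (Sum.inr i) (Sum.inl j)}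
  rw [h1']
  refine Ideal.sum_mem _ (fun i _ => ?_)
  rcases i with j | i
  · rw [Submodule.subtype_apply, counit_eq_zero_of_mem_ker' π _ (hb1 j), zero_smul]
    exact Ideal.zero_mem _
  · rw [Algebra.smul_def]
    refine Ideal.mul_mem_left _ _ ?_
    unfold vecCoeff
    refine Ideal.sum_mem _ (fun l _ => ?_)
    rcases l with j' | i'
    · rw [Algebra.smul_def]
      exact Ideal.mul_mem_left _ _ (Ideal.subset_span ⟨i, j', rfl⟩)
    · rw [hb2 ⟨y, hyW⟩ hyI i', zero_smul]
      exact Ideal.zero_mem _

theorem comatrix_mem_ker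
    (hb1 : ∀ j, ((b (Sum.inl j) : W) : A) ∈ RingHom.ker (π : A →+* B))
    (hb2 : ∀ x : W, (x : A) ∈ RingHom.ker (π : A →+* B) → ∀ i, b.repr x (Sum.inr i) = 0)
    (i : Fin n) (j : Fin m) :
    letI := subComod W hW
    comatrix (A := A) b (Sum.inr i) (Sum.inl j) ∈ RingHom.ker (π : A →+* B) := by
  letI := subComod W hW
  have hj := isComodHom_subtype W hW
  -- the comultiplication of `b (inl j)`
  have h1 : CoalgebraStruct.comul (R := V) (A := A) ((b (Sum.inl j) : W) : A) =
      ∑ l, ((b l : W) : A) ⊗ₜ[V] comatrix (A := A) b l (Sum.inl j) := by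
    have h2 := isComodHom_apply hj (b (Sum.inl j))
    rw [coact_basis b (Sum.inl j), map_sum] at h2
    exact h2
  -- apply `π ⊗ π`
  have h3 : ∑ l, π ((b l : W) : A) ⊗ₜ[V] π (comatrix (A := A) b l (Sum.inl j)) = 0 := by
    have h4 := CoalgHomClass.map_comp_comul_apply π ((b (Sum.inl j) : W) : A)
    have h5 : π ((b (Sum.inl j) : W) : A) = 0 := hb1 j
    rw [h5, map_zero, h1, map_sum] at h4
    simpa using h4
  rw [Fintype.sum_sum_type] at h3
  have h6 : ∑ j', π ((b (Sum.inl j') : W) : A) ⊗ₜ[V]
      π (comatrix (A := A) b (Sum.inl j') (Sum.inl j)) = 0 := by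
    refine Finset.sum_eq_zero fun j' _ => ?_
    have h5 : π ((b (Sum.inl j') : W) : A) = 0 := hb1 j'
    rw [h5, TensorProduct.zero_tmul]
  rw [h6, zero_add] at h3
  -- the injective map `V^n → B`
  let L : (Fin n → V) →ₗ[V] B := Fintype.linearCombination V (fun i => π ((b (Sum.inr i) : W) : A))
  have hL : Function.Injective L := by
    rw [injective_iff_map_eq_zero]
    intro v hv
    have hv' : π (((∑ i, v i • b (Sum.inr i) : W)) : A) = 0 := by
      rw [Submodule.coe_sum, map_sum]
      simp only [Submodule.coe_smul, map_smul]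
      rw [← hv]
      simp [L, Fintype.linearCombination_apply]
    have h7 := hb2 (∑ i, v i • b (Sum.inr i)) hv'
    funext i
    have h8 := h7 i
    rw [map_sum] at h8
    simp only [map_smul, Basis.repr_self, Finsupp.smul_single, smul_eq_mul, mul_one,
      Finsupp.coe_finset_sum, Finset.sum_apply, Finsupp.single_apply] at h8
    rw [Finset.sum_eq_single i] at h8
    · simpa using h8
    · intro i' _ hi'
      rw [if_neg]
      intro h
      exact hi' (Sum.inr_injective h)
    · intro h; exact absurd (Finset.mem_univ i) h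
  have hLB : Function.Injective (L.rTensor B) :=
    Module.Flat.rTensor_preserves_injective_linearMap L hL
  have h9 : L.rTensor B (∑ i', (Pi.basisFun V (Fin n)) i' ⊗ₜ[V]
      π (comatrix (A := A) b (Sum.inr i') (Sum.inl j))) = 0 := by
    rw [map_sum, ← h3]
    refine Finset.sum_congr rfl fun i' _ => ?_
    rw [LinearMap.rTensor_tmul]
    congr 1
    simp [L, Fintype.linearCombination_apply, Pi.basisFun_apply, Pi.single_apply]
  have h10 := hLB (h9.trans (map_zero _).symm)
  have h11 := lslice_coord_sum (Pi.basisFun V (Fin n))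
    (fun i' => π (comatrix (A := A) b (Sum.inr i') (Sum.inl j))) i
  rw [h10, map_zero] at h11
  exact h11.symm

end Ideal

end Groth.Agent.Lib.Helper25.ChevDvr
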