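import Groth.Agent.Lib.Helper25ChevDvrB

/-!
# Chevalley's theorem over a discrete valuation ring (helper25), part C:
the line in the tensor power, in a basis containing the antisymmetrised tensor
-/

set_option autoImplicit false
set_option linter.unusedSectionVars false
set_option linter.style.haveILetI false
universe u w

open TensorProduct HopfRep Module Matrix

namespace Groth.Agent.Lib.Helper25.ChevDvr

open Groth.Agent.Lib.Helper25

section NewBasis

variable {V : Type u} [CommRing V] {κ : Type w} [Fintype κ] [DecidableEq κ]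

/-- the automorphism `x ↦ x + x_c • (ω - e_c)` of `V^κ` -/
noncomputable def shear (c : κ) (ω : κ → V) (hω : ω c = 1) : (κ → V) ≃ₗ[V] (κ → V) where
  toFun x := x + x c • (ω - Pi.single c 1)
  map_add' x y := by
    ext i
    simp only [Pi.add_apply, Pi.smul_apply, Pi.sub_apply, smul_eq_mul]
    ring
  map_smul' r x := by
    ext i
    simp only [Pi.add_apply, Pi.smul_apply, Pi.sub_apply, smul_eq_mul, RingHom.id_apply]
    ring
  invFun x := x - x c • (ω - Pi.single c 1)
  left_inv x := by
    ext i
    simp only [Pi.add_apply, Pi.smul_apply, Pi.sub_apply, smul_eq_mul, hω, Pi.single_eq_same,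
      sub_self, mul_zero, add_zero]
    ring
  right_inv x := by
    ext i
    simp only [Pi.add_apply, Pi.smul_apply, Pi.sub_apply, smul_eq_mul, hω, Pi.single_eq_same,
      sub_self, mul_zero, sub_zero]
    ring

/-- the standard basis with `e_c` replaced by `ω` -/
noncomputable def newBasis (c : κ) (ω : κ → V) (hω : ω c = 1) : Basis κ V (κ → V) :=
  (Pi.basisFun V κ).map (shear c ω hω)

theorem newBasis_self (c : κ) (ω : κ → V) (hω : ω c = 1) : newBasis c ω hω c = ω := by
  rw [newBasis, Basis.map_apply, Pi.basisFun_apply]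
  change Pi.single c 1 + (Pi.single c (1 : V) : κ → V) c • (ω - Pi.single c 1) = ω
  rw [Pi.single_eq_same, one_smul]
  abel

end NewBasis

section Col

variable {V : Type u} [CommRing V] {A : Type u} [CommRing A] [HopfAlgebra V A]
variable {ι : Type w} [Fintype ι] [DecidableEq ι]

/-- the comatrix of the tensor power in the new basis -/
noncomputable def tpowMat' {a : Matrix ι ι A} (ha : IsComatrix (k := V) a) {d : ℕ}
    (c : Fin d → ι) (hc : Function.Injective c) : Matrix (Fin d → ι) (Fin d → ι) A :=
  letI := comodOfComatrix (Pi.basisFun V (Fin d → ι)) (tpowMat a d) (isComatrix_tpowMat ha d)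
  comatrix (A := A) (newBasis c (altVec V c) (altVec_self c hc))

theorem isComatrix_tpowMat' {a : Matrix ι ι A} (ha : IsComatrix (k := V) a) {d : ℕ}
    (c : Fin d → ι) (hc : Function.Injective c) : IsComatrix (k := V) (tpowMat' ha c hc) := by
  letI := comodOfComatrix (Pi.basisFun V (Fin d → ι)) (tpowMat a d) (isComatrix_tpowMat ha d)
  exact isComatrix_comatrix (A := A) (newBasis c (altVec V c) (altVec_self c hc))

theorem col_vanish_iff {a : Matrix ι ι A} (ha : IsComatrix (k := V) a) {d : ℕ}
    (c : Fin d → ι) (hc : Function.Injective c) (R : Type u) [CommRing R] [Algebra V R]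
    (g : A →ₐ[V] R) :
    (∀ I, I ≠ c → g (tpowMat' ha c hc I c) = 0) ↔
      ∀ i, i ∉ Set.range c → ∀ m, g (a i (c m)) = 0 := by
  letI := comodOfComatrix (Pi.basisFun V (Fin d → ι)) (tpowMat a d) (isComatrix_tpowMat ha d)
  rw [← stabilizesLine_altVec_iff ha c hc R g]
  set b' := newBasis c (altVec V c) (altVec_self c hc) with hb'
  rw [stabilizesLine_iff_of_basis b' (altVec V c) R g]
  have hω : altVec V c = b' c := (newBasis_self c (altVec V c) (altVec_self c hc)).symm
  have hvc : ∀ I, vecCoeff (A := A) b' (altVec V c) I = tpowMat' ha c hc I c := by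
    intro I
    unfold vecCoeff
    rw [hω, Basis.repr_self]
    rw [Finset.sum_eq_single c]
    · rw [Finsupp.single_eq_same, one_smul]
      rfl
    · intro J _ hJ
      rw [Finsupp.single_eq_of_ne hJ, zero_smul]
    · intro h
      exact absurd (Finset.mem_univ c) h
  have hrepr : ∀ I, b'.repr (altVec V c) I = if I = c then 1 else 0 := by
    intro I
    rw [hω, Basis.repr_self, Finsupp.single_apply]
    by_cases h : I = c
    · rw [if_pos h, if_pos h.symm]
    · rw [if_neg h, if_neg (Ne.symm h)]
  constructor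
  · intro h
    refine ⟨g (tpowMat' ha c hc c c), fun I => ?_⟩
    rw [hvc, hrepr]
    by_cases hI : I = c
    · rw [if_pos hI, one_smul, hI]
    · rw [if_neg hI, zero_smul]
      exact h I hI
  · rintro ⟨c₀, h⟩ I hI
    have := h I
    rw [hvc, hrepr, if_neg hI, zero_smul] at this
    exact this

theorem span_col_eq {a : Matrix ι ι A} (ha : IsComatrix (k := V) a) {d : ℕ}
    (c : Fin d → ι) (hc : Function.Injective c) :
    Ideal.span {y | ∃ I, I ≠ c ∧ y = tpowMat' ha c hc I c} =
      Ideal.span {y | ∃ i, i ∉ Set.range c ∧ ∃ m, y = a i (c m)} := by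
  apply le_antisymm
  · set K := Ideal.span {y | ∃ i, i ∉ Set.range c ∧ ∃ m, y = a i (c m)} with hK
    have h1 := (col_vanish_iff ha c hc (A ⧸ K) (Ideal.Quotient.mkₐ V K)).mpr (by
      intro i hi m
      rw [Ideal.Quotient.mkₐ_eq_mk, Ideal.Quotient.eq_zero_iff_mem]
      exact Ideal.subset_span ⟨i, hi, m, rfl⟩)
    rw [Ideal.span_le]
    rintro _ ⟨I, hI, rfl⟩
    have := h1 I hI
    rw [Ideal.Quotient.mkₐ_eq_mk, Ideal.Quotient.eq_zero_iff_mem] at this
    exact this
  · set K := Ideal.span {y | ∃ I, I ≠ c ∧ y = tpowMat' ha c hc I c} with hK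
    have h1 := (col_vanish_iff ha c hc (A ⧸ K) (Ideal.Quotient.mkₐ V K)).mp (by
      intro I hI
      rw [Ideal.Quotient.mkₐ_eq_mk, Ideal.Quotient.eq_zero_iff_mem]
      exact Ideal.subset_span ⟨I, hI, rfl⟩)
    rw [Ideal.span_le]
    rintro _ ⟨i, hi, m, rfl⟩
    have := h1 i hi m
    rw [Ideal.Quotient.mkₐ_eq_mk, Ideal.Quotient.eq_zero_iff_mem] at this
    exact this

end Col

section Blocks

variable {V : Type u} [CommRing V] {A : Type u} [CommRing A] [Bialgebra V A]
variable {κ ι : Type w} [Fintype κ] [DecidableEq κ] [Fintype ι] [DecidableEq ι]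

theorem isComatrix_fromBlocks {a' : Matrix κ κ A} {a : Matrix ι ι A}
    (ha' : IsComatrix (k := V) a') (ha : IsComatrix (k := V) a) :
    IsComatrix (k := V) (Matrix.fromBlocks a' 0 0 a) where
  comul i j := by
    rw [Fintype.sum_sum_type]
    rcases i with i | i <;> rcases j with j | j <;>
      simp [Matrix.fromBlocks, ha'.comul, ha.comul]
  counit i j := by
    rcases i with i | i <;> rcases j with j | j <;>
      simp [Matrix.fromBlocks, ha'.counit, ha.counit]

theorem isComatrix_submatrix {κ' : Type*} [Fintype κ'] [DecidableEq κ'] {M : Matrix κ κ A}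
    (hM : IsComatrix (k := V) M) (e : κ' ≃ κ) : IsComatrix (k := V) (M.submatrix e e) where
  comul i j := by
    simp only [Matrix.submatrix_apply, hM.comul]
    exact (Equiv.sum_comp e (fun l => M (e i) l ⊗ₜ[V] M l (e j))).symm
  counit i j := by
    simp only [Matrix.submatrix_apply, hM.counit, e.apply_eq_iff_eq]

end Blocks

end Groth.Agent.Lib.Helper25.ChevDvr
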