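import Groth.Agent.Lib.Helper25ChevDvrC

/-!
# Chevalley's theorem over a principal ideal domain (helper25), part D: the main theorem

A flat closed subgroup `Q` of a flat affine group scheme `G` of finite type over a PID is the
stabilizer of the first basis vector of a faithful representation on a free module.
-/

set_option autoImplicit false
set_option linter.unusedSectionVars false
set_option linter.style.haveILetI false
universe u

open TensorProduct HopfRep Module Matrix

namespace Groth.Agent.Lib.Helper25.ChevDvr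

open Groth.Agent.Lib.Helper25

theorem chevalley_pid {V : Type u} [CommRing V] [IsDomain V] [IsPrincipalIdealRing V]
    {A : Type u} [CommRing A] [HopfAlgebra V A] [Module.Flat V A] [Algebra.FiniteType V A]
    {B : Type u} [CommRing B] [HopfAlgebra V B] [Module.Flat V B]
    (π : A →ₐc[V] B) :
    ∃ (d : ℕ) (hd : 0 < d) (a : Matrix (Fin d) (Fin d) A),
      (∀ i j, CoalgebraStruct.comul (R := V) (a i j) = ∑ l, a i l ⊗ₜ[V] a l j) ∧
      (∀ i j, CoalgebraStruct.counit (R := V) (a i j) = if i = j then 1 else 0) ∧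
      (∃ u : A, u * a.det = 1 ∧
        Algebra.adjoin V (Set.range (fun p : Fin d × Fin d => a p.1 p.2) ∪ {u}) = ⊤) ∧
      RingHom.ker (π : A →+* B) =
        Ideal.span (Set.range (fun i : {i : Fin d // i ≠ ⟨0, hd⟩} => a i.1 ⟨0, hd⟩)) := by
  classical
  haveI : IsNoetherianRing V := inferInstance
  haveI : IsNoetherianRing A := Algebra.FiniteType.isNoetherianRing V A
  set I : Ideal A := RingHom.ker (π : A →+* B) with hI
  obtain ⟨t, ht⟩ := (Algebra.FiniteType.out : (⊤ : Subalgebra V A).FG)
  obtain ⟨F, hF⟩ : I.FG := IsNoetherian.noetherian I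
  obtain ⟨W, hW, htW, hWfg⟩ := exists_fg_subcomod_ge_noeth (k := V) (A := A) (V := A)
    (Submodule.span V ((t ∪ F : Finset A) : Set A)) (Submodule.fg_span (Finset.finite_toSet _))
  letI cW : Comod V A W := subComod W hW
  haveI : Module.Finite V W := Module.Finite.iff_fg.mpr hWfg
  haveI : Module.IsTorsionFree V A := Module.Flat.isTorsionFree
  haveI : Module.IsTorsionFree V B := Module.Flat.isTorsionFree
  haveI : Module.IsTorsionFree V W :=
    Function.Injective.moduleIsTorsionFree W.subtype W.subtype_injective (fun _ _ => rfl)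
  set W' : Submodule V W := Submodule.comap W.subtype (I.restrictScalars V) with hW'
  have hle : W' ≤ LinearMap.ker ((π : A →ₐ[V] B).toLinearMap ∘ₗ W.subtype) := by
    intro x hx
    exact hx
  have hge : LinearMap.ker ((π : A →ₐ[V] B).toLinearMap ∘ₗ W.subtype) ≤ W' := by
    intro x hx
    exact hx
  let f : W ⧸ W' →ₗ[V] B := W'.liftQ ((π : A →ₐ[V] B).toLinearMap ∘ₗ W.subtype) hle
  have hf : Function.Injective f := by
    rw [← LinearMap.ker_eq_bot]
    exact Submodule.ker_liftQ_eq_bot _ _ hle hge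
  haveI : Module.IsTorsionFree V (W ⧸ W') :=
    Function.Injective.moduleIsTorsionFree f hf (fun r x => map_smul f r x)
  obtain ⟨m, n, b, hb1, hb2⟩ := exists_adapted_basis_pid W'
  set a := comatrix (A := A) b with ha_def
  have ha : IsComatrix (k := V) a := isComatrix_comatrix b
  have hb1' : ∀ j, ((b (Sum.inl j) : W) : A) ∈ I := fun j => hb1 j
  have hb2' : ∀ x : W, (x : A) ∈ I → ∀ i, b.repr x (Sum.inr i) = 0 := fun x hx i => hb2 x hx i
  have hFI : ∀ x ∈ F, x ∈ I := fun x hx => hF ▸ Ideal.subset_span hx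
  have hgen : I ≤ Ideal.span {y | y ∈ W ∧ y ∈ I} := by
    conv_lhs => rw [← hF]
    apply Ideal.span_mono
    intro x hx
    refine ⟨htW (Submodule.subset_span ?_), hFI x hx⟩
    simp only [Finset.coe_union, Set.mem_union, Finset.mem_coe]
    exact Or.inr hx
  have hIeq : I = Ideal.span {y | ∃ i j, y = a (Sum.inr i) (Sum.inl j)} :=
    le_antisymm (ker_le_span_comatrix π W hW b hgen hb1' hb2')
      (Ideal.span_le.mpr (by
        rintro _ ⟨i, j, rfl⟩
        exact comatrix_mem_ker π W hW b hb1' hb2' i j))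
  -- the tensor power
  have hc : Function.Injective (Sum.inl : Fin m → Fin m ⊕ Fin n) := Sum.inl_injective
  set a' := tpowMat' ha (Sum.inl : Fin m → Fin m ⊕ Fin n) hc with ha'_def
  have ha' : IsComatrix (k := V) a' := isComatrix_tpowMat' ha _ hc
  have hcol := span_col_eq ha (Sum.inl : Fin m → Fin m ⊕ Fin n) hc
  have hset : Ideal.span {y | ∃ i, i ∉ Set.range (Sum.inl : Fin m → Fin m ⊕ Fin n) ∧
      ∃ j, y = a i (Sum.inl j)} = Ideal.span {y | ∃ i j, y = a (Sum.inr i) (Sum.inl j)} := by
    congr 1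
    ext y
    constructor
    · rintro ⟨i, hi, j, rfl⟩
      rcases i with i | i
      · exact absurd ⟨i, rfl⟩ hi
      · exact ⟨i, j, rfl⟩
    · rintro ⟨i, j, rfl⟩
      refine ⟨Sum.inr i, ?_, j, rfl⟩
      rintro ⟨x, hx⟩
      cases hx
  -- the big matrix
  have hM := isComatrix_fromBlocks ha' ha
  set M := Matrix.fromBlocks a' 0 0 a with hM_def
  set d := Fintype.card ((Fin m → Fin m ⊕ Fin n) ⊕ (Fin m ⊕ Fin n)) with hd_def
  have hd : 0 < d := Fintype.card_pos_iff.mpr ⟨Sum.inl Sum.inl⟩
  let e₀ : ((Fin m → Fin m ⊕ Fin n) ⊕ (Fin m ⊕ Fin n)) ≃ Fin d := Fintype.equivFin _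
  let e : Fin d ≃ ((Fin m → Fin m ⊕ Fin n) ⊕ (Fin m ⊕ Fin n)) :=
    (Equiv.swap ⟨0, hd⟩ (e₀ (Sum.inl Sum.inl))).trans e₀.symm
  have he0 : e ⟨0, hd⟩ = Sum.inl Sum.inl := by
    simp [e]
  have hFm := isComatrix_submatrix hM e
  refine ⟨d, hd, M.submatrix e e, hFm.comul, hFm.counit,
    ⟨((M.submatrix e e).map (HopfAlgebra.antipode V)).det,
      Thomason.det_antipode_mul_det hFm, ?_⟩, ?_⟩
  · rw [eq_top_iff, ← ht]
    apply Algebra.adjoin_le
    intro x hx
    have hxW : x ∈ W := by
      apply htW
      apply Submodule.subset_span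
      simp only [Finset.coe_union, Set.mem_union, Finset.mem_coe]
      exact Or.inl hx
    have hmem := Thomason.apply_mem_span_comatrix b (isComodHom_subtype W hW) ⟨x, hxW⟩
    have hle2 : Submodule.span V (Set.range
        (fun p : (Fin m ⊕ Fin n) × (Fin m ⊕ Fin n) => comatrix (A := A) b p.1 p.2)) ≤
        Subalgebra.toSubmodule (Algebra.adjoin V (Set.range
          (fun p : Fin d × Fin d => (M.submatrix e e) p.1 p.2) ∪
          {((M.submatrix e e).map (HopfAlgebra.antipode V)).det})) := by
      apply Submodule.span_le.mpr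
      rintro _ ⟨q, rfl⟩
      apply Algebra.subset_adjoin
      left
      refine ⟨(e.symm (Sum.inr q.1), e.symm (Sum.inr q.2)), ?_⟩
      simp [M, a]
    exact hle2 hmem
  · rw [hIeq, ← hset, ← hcol]
    apply le_antisymm
    · rw [Ideal.span_le]
      rintro _ ⟨I₁, hI₁, rfl⟩
      apply Ideal.subset_span
      refine ⟨⟨e.symm (Sum.inl I₁), ?_⟩, ?_⟩
      · intro h
        apply hI₁
        have h2 := congrArg e h
        rw [Equiv.apply_symm_apply, he0] at h2
        exact Sum.inl_injective h2
      · simp [M, he0, a']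
    · rw [Ideal.span_le]
      rintro _ ⟨⟨i, hi⟩, rfl⟩
      simp only [Matrix.submatrix_apply, he0]
      rcases h : e i with I₁ | l
      · apply Ideal.subset_span
        refine ⟨I₁, ?_, ?_⟩
        · intro hI₁
          apply hi
          apply e.injective
          rw [h, he0, hI₁]
        · simp [M, a']
      · simp [M]

end Groth.Agent.Lib.Helper25.ChevDvr
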