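import Groth.Agent.Lib.Helper25ComodMat
import Groth.Prelude.Def_SGA3
import Mathlib

/-!
# Chevalley's theorem: a closed subgroup is the stabilizer of a line (helper25)

* `tpowMat a d`, `isComatrix_tpowMat`: the comatrix of the `d`-th tensor power of a comodule given
  by a comatrix `a`.
* `vecCoeff`, `stabilizesLine_iff_of_basis`, `isUnit_of_stabilizes`: stabilizing a line in
  coordinates; the multiplier is a unit.
* `altVec`, `stabilizesLine_altVec_iff`: the antisymmetrised tensor of `d` basis vectors in the
  tensor power; an `R`-point stabilizes its line iff it stabilizes the span of these basis vectors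
  (minors, Cramer's rule).
* `exists_adapted_basis`, `ideal_eq_span_comatrix`: a Hopf ideal is generated by the lower-left
  block of the comatrix of a finite-dimensional subcomodule of `A` containing generators.
* `chevalley_line`, `T_mem_of_isCoideal`: Chevalley's theorem.
-/

set_option autoImplicit false
universe u v w w'

namespace Groth.Agent.Lib.Helper25

open TensorProduct HopfRep Module Matrix


section TPow

variable {k : Type u} [CommRing k] {A : Type v} [CommRing A] [Bialgebra k A]
variable {ι : Type w} [Fintype ι] [DecidableEq ι]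

theorem prod_tmul_prod {κ : Type*} (s : Finset κ) (x y : κ → A) :
    ∏ l ∈ s, (x l ⊗ₜ[k] y l) = (∏ l ∈ s, x l) ⊗ₜ[k] (∏ l ∈ s, y l) := by
  classical
  induction s using Finset.induction_on with
  | empty => simp [Algebra.TensorProduct.one_def]
  | insert a s ha ih =>
    rw [Finset.prod_insert ha, Finset.prod_insert ha, Finset.prod_insert ha, ih,
      Algebra.TensorProduct.tmul_mul_tmul]

/-- The comatrix of the `d`-th tensor power. -/
def tpowMat (a : Matrix ι ι A) (d : ℕ) : Matrix (Fin d → ι) (Fin d → ι) A :=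
  Matrix.of fun I J => ∏ l, a (I l) (J l)

theorem tpowMat_apply (a : Matrix ι ι A) (d : ℕ) (I J : Fin d → ι) :
    tpowMat a d I J = ∏ l, a (I l) (J l) := rfl

theorem isComatrix_tpowMat {a : Matrix ι ι A} (ha : IsComatrix (k := k) a) (d : ℕ) :
    IsComatrix (k := k) (tpowMat a d) where
  comul I J := by
    rw [tpowMat_apply]
    have h1 : CoalgebraStruct.comul (R := k) (∏ l, a (I l) (J l)) =
        ∏ l, CoalgebraStruct.comul (R := k) (a (I l) (J l)) :=
      map_prod (Bialgebra.comulAlgHom k A) _ _
    rw [h1]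
    simp only [ha.comul]
    rw [Finset.prod_univ_sum, Fintype.piFinset_univ]
    refine Finset.sum_congr rfl (fun K _ => ?_)
    rw [prod_tmul_prod]
    rfl
  counit I J := by
    rw [tpowMat_apply]
    have h1 : CoalgebraStruct.counit (R := k) (∏ l, a (I l) (J l)) =
        ∏ l, CoalgebraStruct.counit (R := k) (a (I l) (J l)) :=
      map_prod (Bialgebra.counitAlgHom k A) _ _
    rw [h1]
    simp only [ha.counit]
    rw [Finset.prod_ite_zero]
    simp only [Finset.prod_const_one, Finset.mem_univ, forall_const]
    by_cases h : I = J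
    · subst h
      simp
    · rw [if_neg h, if_neg]
      intro h'
      exact h (funext h')

end TPow


section StabBasis

variable {k : Type u} [CommRing k] {A : Type u} [CommRing A] [HopfAlgebra k A]
variable {V : Type v} [AddCommGroup V] [Module k V] [Comod k A V]
variable {κ : Type w} [Fintype κ] [DecidableEq κ]

/-- The coefficient functions of a vector: `ρ v = Σ_I b_I ⊗ D_I`. -/
noncomputable def vecCoeff (b : Basis κ k V) (v : V) (I : κ) : A :=
  ∑ J, b.repr v J • comatrix (A := A) b I J

theorem stabilizesLine_iff_of_basis (b : Basis κ k V) (v : V) (R : Type u) [CommRing R]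
    [Algebra k R] (g : A →ₐ[k] R) :
    SGA3.StabilizesLine k A v R g ↔
      ∃ c : R, ∀ I, g (vecCoeff (A := A) b v I) = b.repr v I • c := by
  have h1 : LinearMap.lTensor V g.toLinearMap (Comod.coact (k := k) (A := A) v) =
      ∑ I, b I ⊗ₜ[k] g (vecCoeff (A := A) b v I) := by
    rw [coact_eq_sum b v, map_sum]
    rfl
  have h2 : ∀ c : R, v ⊗ₜ[k] c = ∑ I, b I ⊗ₜ[k] (b.repr v I • c) := by
    intro c
    conv_lhs => rw [← b.sum_repr v, TensorProduct.sum_tmul]
    refine Finset.sum_congr rfl (fun i _ => ?_)
    rw [TensorProduct.smul_tmul]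
  unfold SGA3.StabilizesLine
  rw [h1]
  constructor
  · rintro ⟨c, hc⟩
    refine ⟨c, fun I => ?_⟩
    rw [h2] at hc
    exact congrFun (sum_tmul_injective b hc) I
  · rintro ⟨c, hc⟩
    refine ⟨c, ?_⟩
    rw [h2]
    exact Finset.sum_congr rfl (fun I _ => by rw [hc I])

theorem comul_vecCoeff (b : Basis κ k V) (v : V) (K : κ) :
    CoalgebraStruct.comul (R := k) (vecCoeff (A := A) b v K) =
      ∑ I, comatrix (A := A) b K I ⊗ₜ[k] vecCoeff (A := A) b v I := by
  unfold vecCoeff
  simp only [map_sum, map_smul, (isComatrix_comatrix (A := A) b).comul, Finset.smul_sum,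
    TensorProduct.tmul_sum, TensorProduct.tmul_smul]
  rw [Finset.sum_comm]

theorem counit_vecCoeff (b : Basis κ k V) (v : V) (K : κ) :
    CoalgebraStruct.counit (R := k) (vecCoeff (A := A) b v K) = b.repr v K := by
  unfold vecCoeff
  simp only [map_sum, map_smul, (isComatrix_comatrix (A := A) b).counit]
  rw [Finset.sum_eq_single K]
  · simp
  · intro j _ hj
    simp [Ne.symm hj]
  · intro h
    exact absurd (Finset.mem_univ K) h

/-- The multiplier of a stabilized line is a unit. -/
theorem isUnit_of_stabilizes (b : Basis κ k V) (v : V) (R : Type u) [CommRing R]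
    [Algebra k R] (g : A →ₐ[k] R) (c : R)
    (hc : ∀ I, g (vecCoeff (A := A) b v I) = b.repr v I • c) (K : κ) (hK : b.repr v K = 1) :
    IsUnit c := by
  have h := HopfAlgebra.mul_antipode_rTensor_comul_apply (R := k) (vecCoeff (A := A) b v K)
  rw [comul_vecCoeff, map_sum, map_sum, counit_vecCoeff, hK, map_one] at h
  simp only [LinearMap.rTensor_tmul, LinearMap.mul'_apply] at h
  have h2 := congrArg g h
  rw [map_sum, map_one] at h2
  simp only [map_mul, hc] at h2
  refine IsUnit.of_mul_eq_one (∑ I, g (HopfAlgebra.antipode k (comatrix (A := A) b K I)) *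
    algebraMap k R (b.repr v I)) ?_
  rw [← h2, Finset.mul_sum]
  refine Finset.sum_congr rfl (fun I _ => ?_)
  rw [Algebra.smul_def]
  ring

end StabBasis


section ComatrixOf

variable {k : Type u} [CommRing k] {A : Type v} [AddCommGroup A] [Module k A] [Coalgebra k A]
variable {V : Type w} [AddCommGroup V] [Module k V]
variable {ι : Type*} [Fintype ι] [DecidableEq ι]

theorem comatrix_comodOfComatrix (b : Basis ι k V) (a : Matrix ι ι A)
    (ha : IsComatrix (k := k) a) :
    letI := comodOfComatrix b a ha
    comatrix (A := A) b = a := by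
  letI := comodOfComatrix b a ha
  ext i j
  rw [comatrix_apply, coeffMap_apply]
  change lslice (b.coord i) (matCoact b a (b j)) = a i j
  rw [matCoact_basis, lslice_coord_sum]

end ComatrixOf

section DetPerm

variable {R : Type*} [CommRing R] {d : ℕ}

theorem det_eq_sum_perm_row (M : Matrix (Fin d) (Fin d) R) :
    M.det = ∑ σ : Equiv.Perm (Fin d), Equiv.Perm.sign σ • ∏ l, M l (σ l) := by
  rw [← Matrix.det_transpose, Matrix.det_apply]
  rfl

end DetPerm

section Line

variable {k : Type u} [CommRing k] {A : Type u} [CommRing A] [HopfAlgebra k A]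
variable {ι : Type w} [DecidableEq ι]

/-- Coordinates of the antisymmetrised tensor `Σ_σ sgn σ e_{c σ 1} ⊗ ⋯ ⊗ e_{c σ d}`. -/
noncomputable def altVec (k : Type u) [CommRing k] {d : ℕ} (c : Fin d → ι) : (Fin d → ι) → k :=
  fun J => (Matrix.of fun l m => if J l = c m then (1 : k) else 0).det

theorem altVec_eq_sum {d : ℕ} (c : Fin d → ι) (J : Fin d → ι) :
    altVec k c J = ∑ σ : Equiv.Perm (Fin d), Equiv.Perm.sign σ •
      (if J = c ∘ σ then (1 : k) else 0) := by
  unfold altVec
  rw [det_eq_sum_perm_row]
  refine Finset.sum_congr rfl (fun σ _ => ?_)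
  congr 1
  simp only [Matrix.of_apply]
  rw [Finset.prod_ite_zero]
  simp only [Finset.prod_const_one, Finset.mem_univ, forall_const]
  by_cases h : J = c ∘ σ
  · rw [if_pos h, if_pos]
    intro l
    rw [h]
    rfl
  · rw [if_neg h, if_neg]
    intro h'
    exact h (funext h')

theorem altVec_self {d : ℕ} (c : Fin d → ι) (hc : Function.Injective c) : altVec k c c = 1 := by
  unfold altVec
  have : (Matrix.of fun l m => if c l = c m then (1 : k) else 0) = 1 := by
    ext l m
    simp [Matrix.one_apply, hc.eq_iff]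
  rw [this, Matrix.det_one]

theorem altVec_update {d : ℕ} (c : Fin d → ι) (l : Fin d) (i : ι) (hi : i ∉ Set.range c) :
    altVec k c (Function.update c l i) = 0 := by
  unfold altVec
  apply Matrix.det_eq_zero_of_row_eq_zero l
  intro m
  simp only [Matrix.of_apply, Function.update_self]
  rw [if_neg]
  intro h
  exact hi ⟨m, h.symm⟩

/-- `Σ_J v_J M_IJ` is the minor of `a` with rows `I` and columns `c`. -/
theorem sum_altVec_tpowMat [Fintype ι] (a : Matrix ι ι A) {d : ℕ} (c : Fin d → ι) (I : Fin d → ι) :
    ∑ J, altVec k c J • tpowMat a d I J = (Matrix.of fun l m => a (I l) (c m)).det := by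
  rw [det_eq_sum_perm_row]
  simp only [altVec_eq_sum, Finset.sum_smul]
  rw [Finset.sum_comm]
  refine Finset.sum_congr rfl (fun σ _ => ?_)
  rw [Finset.sum_eq_single (c ∘ σ)]
  · rw [if_pos rfl, tpowMat_apply]
    simp only [Matrix.of_apply, Function.comp_apply]
    rw [smul_assoc, one_smul]
  · intro J _ hJ
    rw [if_neg hJ, smul_zero, zero_smul]
  · intro h
    exact absurd (Finset.mem_univ _) h

end Line


section Main

variable {k : Type u} [CommRing k] {A : Type u} [CommRing A] [HopfAlgebra k A]
variable {ι : Type w} [Fintype ι] [DecidableEq ι]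

theorem stabilizesLine_altVec_iff {a : Matrix ι ι A} (ha : IsComatrix (k := k) a) {d : ℕ}
    (c : Fin d → ι) (hc : Function.Injective c) (R : Type u) [CommRing R] [Algebra k R]
    (g : A →ₐ[k] R) :
    letI := comodOfComatrix (Pi.basisFun k (Fin d → ι)) (tpowMat a d) (isComatrix_tpowMat ha d)
    SGA3.StabilizesLine k A (altVec k c) R g ↔
      ∀ i, i ∉ Set.range c → ∀ m, g (a i (c m)) = 0 := by
  letI := comodOfComatrix (Pi.basisFun k (Fin d → ι)) (tpowMat a d) (isComatrix_tpowMat ha d)
  have hcm : comatrix (A := A) (Pi.basisFun k (Fin d → ι)) = tpowMat a d :=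
    comatrix_comodOfComatrix _ _ _
  have hD : ∀ I, vecCoeff (A := A) (Pi.basisFun k (Fin d → ι)) (altVec k c) I =
      (Matrix.of fun l m => a (I l) (c m)).det := by
    intro I
    unfold vecCoeff
    rw [hcm]
    simp only [Pi.basisFun_repr]
    exact sum_altVec_tpowMat a c I
  have hgD : ∀ I, g (vecCoeff (A := A) (Pi.basisFun k (Fin d → ι)) (altVec k c) I) =
      (Matrix.of fun l m => g (a (I l) (c m))).det := by
    intro I
    rw [hD, AlgHom.map_det]
    rfl
  rw [stabilizesLine_iff_of_basis (Pi.basisFun k (Fin d → ι))]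
  constructor
  · rintro ⟨c₀, h0⟩ i hi m
    have hu : IsUnit c₀ := isUnit_of_stabilizes (Pi.basisFun k (Fin d → ι)) (altVec k c) R g c₀
      h0 c (by rw [Pi.basisFun_repr, altVec_self c hc])
    simp only [Pi.basisFun_repr, hgD] at h0
    have hdet : (Matrix.of fun l m => g (a (c l) (c m))).det = c₀ := by
      have := h0 c
      rw [altVec_self c hc, one_smul] at this
      exact this
    have hcr : (Matrix.of fun l m => g (a (c l) (c m)))ᵀ.cramer (fun m => g (a i (c m))) = 0 := by
      funext l
      rw [Matrix.cramer_transpose_apply]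
      have := h0 (Function.update c l i)
      rw [altVec_update c l i hi, zero_smul] at this
      rw [Pi.zero_apply, ← this]
      congr 1
      ext l' m
      simp only [Matrix.updateRow_apply, Matrix.of_apply, Function.update_apply]
      split_ifs <;> rfl
    have h3 := Matrix.mulVec_cramer (Matrix.of fun l m => g (a (c l) (c m)))ᵀ
      (fun m => g (a i (c m)))
    rw [hcr, Matrix.mulVec_zero, Matrix.det_transpose, hdet] at h3
    have h4 := congrFun h3 m
    simp only [Pi.zero_apply, Pi.smul_apply, smul_eq_mul] at h4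
    exact (hu.mul_right_eq_zero).mp h4.symm
  · intro h
    refine ⟨(Matrix.of fun l m => g (a (c l) (c m))).det, fun I => ?_⟩
    rw [Pi.basisFun_repr, hgD]
    have hmul : (Matrix.of fun l m => g (a (I l) (c m))) =
        (Matrix.of fun l m => if I l = c m then (1 : k) else 0).map (algebraMap k R) *
          (Matrix.of fun l m => g (a (c l) (c m))) := by
      ext l m
      simp only [Matrix.of_apply, Matrix.mul_apply, Matrix.map_apply]
      by_cases hr : I l ∈ Set.range c
      · obtain ⟨l₀, hl₀⟩ := hr
        rw [Finset.sum_eq_single l₀]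
        · rw [if_pos hl₀.symm, map_one, one_mul, hl₀]
        · intro l' _ hl'
          rw [if_neg, map_zero, zero_mul]
          intro h'
          exact hl' (hc (h'.symm.trans hl₀.symm))
        · intro h'
          exact absurd (Finset.mem_univ _) h'
      · rw [h _ hr m]
        symm
        apply Finset.sum_eq_zero
        intro l' _
        rw [if_neg, map_zero, zero_mul]
        intro h'
        exact hr ⟨l', h'.symm⟩
    have hdm : ((Matrix.of fun l m => if I l = c m then (1 : k) else 0).map
        (algebraMap k R)).det = algebraMap k R (altVec k c I) :=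
      (RingHom.map_det (algebraMap k R) _).symm
    rw [hmul, Matrix.det_mul, hdm, Algebra.smul_def]

end Main


section Adapted

variable {k : Type u} [Field k] {V : Type v} [AddCommGroup V] [Module k V] [Module.Finite k V]

theorem exists_adapted_basis (W' : Submodule k V) :
    ∃ (d n : ℕ) (b : Basis (Fin d ⊕ Fin n) k V), (∀ m, b (Sum.inl m) ∈ W') ∧
      ∀ x ∈ W', ∀ j, b.repr x (Sum.inr j) = 0 := by
  obtain ⟨W'', hc⟩ := W'.exists_isCompl
  let bW := Module.finBasis k W'
  let bW'' := Module.finBasis k W''
  let e := Submodule.prodEquivOfIsCompl W' W'' hc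
  refine ⟨_, _, (bW.prod bW'').map e, ?_, ?_⟩
  · intro m
    rw [Basis.map_apply, Submodule.coe_prodEquivOfIsCompl', Basis.prod_apply_inl_fst,
      Basis.prod_apply_inl_snd]
    simp
  · intro x hx j
    rw [Basis.map_repr, LinearEquiv.trans_apply, Basis.prod_repr_inr,
      (Submodule.prodEquivOfIsCompl_symm_apply_snd_eq_zero W' W'' hc).mpr hx]
    simp

end Adapted

section Ideal

variable {k : Type u} [Field k] {A : Type u} [CommRing A] [HopfAlgebra k A]
variable {V : Type v} [AddCommGroup V] [Module k V] [Comod k A V]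
variable {ι : Type w} [Fintype ι] [DecidableEq ι]

/-- The key description of an ideal `I` (vanishing under the counit and stable under the `T φ`
for `φ ⊥ I`) generated by elements of a finite-dimensional subcomodule `j : V → A`: in a basis of
`V` adapted to `j⁻¹ I`, `I` is generated by the lower-left block of the comatrix. -/
theorem ideal_eq_span_comatrix (I : Ideal A)
    (hε : ∀ x ∈ I, CoalgebraStruct.counit (R := k) (A := A) x = 0)
    (hT : ∀ φ : A →ₗ[k] k, (∀ x ∈ I, φ x = 0) → ∀ x ∈ I, T φ x ∈ I)
    (j : V →ₗ[k] A) (hj : Hoch.IsComodHom A j)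
    (hgen : I ≤ Ideal.span (j '' {x | j x ∈ I}))
    (b : Basis ι k V) (S : Set ι) (hb1 : ∀ i ∈ S, j (b i) ∈ I)
    (hb2 : ∀ x, j x ∈ I → ∀ i ∉ S, b.repr x i = 0) :
    I = Ideal.span {y | ∃ i ∉ S, ∃ m ∈ S, y = comatrix (A := A) b i m} := by
  apply le_antisymm
  · refine hgen.trans (Ideal.span_le.mpr ?_)
    rintro _ ⟨x, hx, rfl⟩
    have hx' : j x ∈ I := hx
    have h1 : j x = ∑ i, CoalgebraStruct.counit (R := k) (A := A) (j (b i)) •
        vecCoeff (A := A) b x i := by
      conv_lhs => rw [eq_coeffMap_of_isComodHom hj]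
      rw [coeffMap_apply, coact_eq_sum b x, map_sum]
      refine Finset.sum_congr rfl (fun i _ => ?_)
      rw [lslice_tmul]
      rfl
    rw [h1]
    refine Ideal.sum_mem _ (fun i _ => ?_)
    by_cases hi : i ∈ S
    · rw [hε _ (hb1 i hi), zero_smul]
      exact Ideal.zero_mem _
    · rw [Algebra.smul_def]
      refine Ideal.mul_mem_left _ _ ?_
      unfold vecCoeff
      refine Ideal.sum_mem _ (fun m _ => ?_)
      by_cases hm : m ∈ S
      · rw [Algebra.smul_def]
        exact Ideal.mul_mem_left _ _ (Ideal.subset_span ⟨i, hi, m, hm, rfl⟩)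
      · rw [hb2 x hx' m hm, zero_smul]
        exact Ideal.zero_mem _
  · rw [Ideal.span_le]
    rintro _ ⟨i, hi, m, hm, rfl⟩
    by_contra hnot
    obtain ⟨φ, hφ1, hφ2⟩ := Submodule.exists_le_ker_of_notMem
      (p := I.restrictScalars k) (v := comatrix (A := A) b i m) hnot
    apply hφ1
    rw [comatrix_apply, coeffMap_apply, apply_lslice]
    change b.repr (T φ (b m)) i = 0
    apply hb2 _ _ i hi
    rw [map_T_of_isComodHom hj]
    exact hT φ (fun x hx => hφ2 hx) _ (hb1 m hm)

end Ideal


section Chevalley

variable {k : Type u} [Field k] {A : Type u} [CommRing A] [HopfAlgebra k A]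

/-- Chevalley's theorem, in a form with explicit hypotheses on the ideal. -/
theorem chevalley_line (I : Ideal A) (hfg : I.FG)
    (hε : ∀ x ∈ I, CoalgebraStruct.counit (R := k) (A := A) x = 0)
    (hT : ∀ φ : A →ₗ[k] k, (∀ x ∈ I, φ x = 0) → ∀ x ∈ I, T φ x ∈ I) :
    ∃ (V : Type u) (_ : AddCommGroup V) (_ : Module k V) (_ : HopfRep.Comod k A V)
      (_ : Module.Finite k V) (v : V),
      v ≠ 0 ∧ Dyn.Represents k A I (fun R _ _ g => SGA3.StabilizesLine k A v R g) := by
  classical
  obtain ⟨F, hF⟩ := hfg
  obtain ⟨U, hUfg, hUsub, hle⟩ := exists_fg_subcomod_ge (k := k) (A := A) (V := A)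
    (Submodule.span k (F : Set A)) (Submodule.fg_span F.finite_toSet)
  letI := subComod U hUsub
  haveI : Module.Finite k U := Module.Finite.iff_fg.mpr hUfg
  have hj := isComodHom_subtype U hUsub
  obtain ⟨d, n, b, hb1, hb2⟩ :=
    exists_adapted_basis (Submodule.comap U.subtype (I.restrictScalars k))
  have hI := ideal_eq_span_comatrix I hε hT U.subtype hj (by
      have hFI : ∀ f ∈ F, f ∈ I := fun f hf => hF ▸ Ideal.subset_span hf
      conv_lhs => rw [← hF]
      apply Ideal.span_mono
      intro f hf
      exact ⟨⟨f, hle (Submodule.subset_span hf)⟩, hFI f hf, rfl⟩) b (Set.range Sum.inl)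
    (by
      rintro _ ⟨m, rfl⟩
      exact hb1 m)
    (by
      intro x hx i hi
      cases i with
      | inl m => exact absurd ⟨m, rfl⟩ hi
      | inr j => exact hb2 x hx j)
  have ha := isComatrix_comatrix (A := A) b
  refine ⟨(Fin d → (Fin d ⊕ Fin n)) → k, inferInstance, inferInstance,
    comodOfComatrix (Pi.basisFun k _) (tpowMat (comatrix (A := A) b) d) (isComatrix_tpowMat ha d),
    inferInstance, altVec k Sum.inl, ?_, ?_⟩
  · intro h
    have := altVec_self (k := k) (Sum.inl : Fin d → Fin d ⊕ Fin n) Sum.inl_injective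
    rw [h] at this
    simp at this
  · intro R _ _ g
    beta_reduce
    rw [stabilizesLine_altVec_iff ha Sum.inl Sum.inl_injective R g]
    constructor
    · intro h i hi m
      apply h
      rw [hI]
      exact Ideal.subset_span ⟨i, hi, Sum.inl m, ⟨m, rfl⟩, rfl⟩
    · intro h x hx
      rw [hI] at hx
      have hle : Ideal.span {y | ∃ i ∉ Set.range (Sum.inl : Fin d → Fin d ⊕ Fin n),
          ∃ m ∈ Set.range (Sum.inl : Fin d → Fin d ⊕ Fin n), y = comatrix (A := A) b i m} ≤
          RingHom.ker (g : A →+* R) := by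
        rw [Ideal.span_le]
        rintro _ ⟨i, hi, _, ⟨m, rfl⟩, rfl⟩
        exact h i hi m
      exact hle hx

/-- The `T φ`-stability hypothesis for a coideal. -/
theorem T_mem_of_isCoideal (I : Ideal A) [hI : (I.restrictScalars k).IsCoideal]
    (φ : A →ₗ[k] k) (hφ : ∀ x ∈ I, φ x = 0) (x : A) (hx : x ∈ I) : T φ x ∈ I := by
  have h := ((Submodule.isCoideal_iff_comul_mem (I.restrictScalars k)).mp hI).2 x hx
  rw [T_apply]
  change slice A φ (CoalgebraStruct.comul (R := k) x) ∈ I
  obtain ⟨y, hy, z, hz, hyz⟩ := Submodule.mem_sup.mp h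
  rw [← hyz, map_add]
  refine Ideal.add_mem _ ?_ ?_
  · obtain ⟨y', rfl⟩ := hy
    rw [slice_lTensor]
    have : φ ∘ₗ (I.restrictScalars k).subtype = 0 := by
      ext t
      exact hφ _ t.2
    rw [this]
    simp [slice]
  · obtain ⟨z', rfl⟩ := hz
    rw [slice_rTensor]
    exact (slice _ φ z').2

end Chevalley

end Groth.Agent.Lib.Helper25
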