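import Groth.Prelude.Def_CoactBr

/-!
# Class functions on an affine group scheme, in points form (helper25)

For a commutative Hopf algebra `A` over `R` and `f : A`, the condition `f(x g x⁻¹) = f(g)` for all
`T`-valued points is implied by the identity `Φ f = 1 ⊗ f` in `A ⊗ A` for the conjugation
comorphism `Φ`, and implies the cocommutativity `τ Δ f = Δ f`.
-/

set_option autoImplicit false
universe u

open CategoryTheory MonoidalCategory CartesianMonoidalCategory MonObj AlgebraicGeometry Opposite
open scoped TensorProduct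

namespace Groth.Agent.Lib.Helper25.ClassFn

attribute [local instance] CoactBr.braidedAlgSpecOf

variable {R : Type u} [CommRing R] {A : Type u} [CommRing A] [HopfAlgebra R A]

/-- The conjugation comorphism `a ↦ Σ a₁ S(a₃) ⊗ a₂`, as an algebra map `A → A ⊗ A`. -/
noncomputable def conjHom : A →ₐ[R] A ⊗[R] A :=
  (Algebra.TensorProduct.lift
    ((Algebra.TensorProduct.lift (Algebra.TensorProduct.includeLeft : A →ₐ[R] A ⊗[R] A)
      (Algebra.TensorProduct.includeRight : A →ₐ[R] A ⊗[R] A) fun _ _ => .all _ _).comp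
        (Bialgebra.comulAlgHom R A))
    ((Algebra.TensorProduct.includeLeft : A →ₐ[R] A ⊗[R] A).comp (HopfAlgebra.antipodeAlgHom R A))
    fun _ _ => .all _ _).comp (Bialgebra.comulAlgHom R A)

theorem pt_conj :
    CoactBr.pt (Algebra.TensorProduct.includeLeft : A →ₐ[R] A ⊗[R] A) *
        CoactBr.pt (Algebra.TensorProduct.includeRight : A →ₐ[R] A ⊗[R] A) *
        (CoactBr.pt (Algebra.TensorProduct.includeLeft : A →ₐ[R] A ⊗[R] A))⁻¹ =
      CoactBr.pt (conjHom (R := R) (A := A)) := by
  rw [CoactBr.pt_inv, CoactBr.pt_mul_pt, CoactBr.pt_mul_pt]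
  rfl

/-- The universal pair of points `Spec (A ⊗ A) ⟶ Spec A × Spec A`. -/
noncomputable def univ : CoactBr.sp R (A ⊗[R] A) ⟶ CoactBr.sp R A ⊗ CoactBr.sp R A :=
  lift (CoactBr.pt (Algebra.TensorProduct.includeLeft : A →ₐ[R] A ⊗[R] A))
    (CoactBr.pt (Algebra.TensorProduct.includeRight : A →ₐ[R] A ⊗[R] A))

theorem univ_comp_μ :
    univ (R := R) (A := A) ≫
      Functor.LaxMonoidal.μ (algSpec (CommRingCat.of R)) (op (.of R A)) (op (.of R A)) =
        𝟙 _ := by
  unfold univ
  rw [CoactBr.lift_pt_pt]
  have : (Algebra.TensorProduct.lift (Algebra.TensorProduct.includeLeft : A →ₐ[R] A ⊗[R] A)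
      (Algebra.TensorProduct.includeRight : A →ₐ[R] A ⊗[R] A) fun _ _ => .all _ _) =
      AlgHom.id R (A ⊗[R] A) := by
    ext <;> simp
  rw [this, CoactBr.pt_id]

instance : IsIso (univ (R := R) (A := A)) := by
  have h := univ_comp_μ (R := R) (A := A)
  have h2 : IsIso (Functor.LaxMonoidal.μ (algSpec (CommRingCat.of R)) (op (.of R A))
    (op (.of R A))) := inferInstance
  have h3 : IsIso (univ (R := R) (A := A) ≫
      Functor.LaxMonoidal.μ (algSpec (CommRingCat.of R)) (op (.of R A)) (op (.of R A))) := by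
    rw [h]
    exact IsIso.id _
  exact @IsIso.of_isIso_comp_right _ _ _ _ _ _ _ h2 h3

section Points

variable {B K : Type u} [CommRing B] [CommRing K] [Algebra R B] [Algebra R K]

theorem pt_appTop (φ : B →ₐ[R] K) (b : B) :
    (CoactBr.pt φ).left.appTop ((Scheme.ΓSpecIso (CommRingCat.of B)).inv b) =
      (Scheme.ΓSpecIso (CommRingCat.of K)).inv (φ b) := by
  rw [CoactBr.pt_left]
  have h := Scheme.ΓSpecIso_inv_naturality (CommRingCat.ofHom φ.toRingHom)
  have h2 := congrArg (fun m => m.hom b) h
  simp only [CommRingCat.hom_comp, RingHom.coe_comp, Function.comp_apply] at h2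
  exact h2.symm

end Points

theorem univ_fst : univ (R := R) (A := A) ≫ fst _ _ =
    CoactBr.pt (Algebra.TensorProduct.includeLeft : A →ₐ[R] A ⊗[R] A) := by
  unfold univ
  exact lift_fst _ _

theorem univ_snd : univ (R := R) (A := A) ≫ snd _ _ =
    CoactBr.pt (Algebra.TensorProduct.includeRight : A →ₐ[R] A ⊗[R] A) := by
  unfold univ
  exact lift_snd _ _

/-- The conjugation morphism `(x, g) ↦ x g x⁻¹` on `G × G`. -/
noncomputable def conjMor : CoactBr.sp R A ⊗ CoactBr.sp R A ⟶ CoactBr.sp R A :=
  fst _ _ * snd _ _ * (fst _ _)⁻¹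

theorem univ_conjMor : univ (R := R) (A := A) ≫ conjMor = CoactBr.pt (conjHom (R := R) (A := A)) := by
  unfold conjMor
  rw [MonObj.comp_mul, MonObj.comp_mul, GrpObj.comp_inv, univ_fst, univ_snd, pt_conj]

theorem lift_conjMor {T : Over (Spec (CommRingCat.of R))} (x g : T ⟶ CoactBr.sp R A) :
    lift x g ≫ conjMor = x * g * x⁻¹ := by
  unfold conjMor
  rw [MonObj.comp_mul, MonObj.comp_mul, GrpObj.comp_inv, lift_fst, lift_snd]

/-- If `Φ f = 1 ⊗ f` for the conjugation comorphism `Φ`, then `f` is a class function. -/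
theorem classFn_of_conjHom {f : A} (hf : conjHom (R := R) f = (1 : A) ⊗ₜ[R] f)
    (T : Over (Spec (CommRingCat.of R))) (x g : T ⟶ CoactBr.sp R A) :
    (x * g * x⁻¹).left.appTop ((Scheme.ΓSpecIso (CommRingCat.of A)).inv f) =
      g.left.appTop ((Scheme.ΓSpecIso (CommRingCat.of A)).inv f) := by
  have key : (conjMor (R := R) (A := A)).left.appTop ((Scheme.ΓSpecIso (CommRingCat.of A)).inv f) =
      (snd (CoactBr.sp R A) (CoactBr.sp R A)).left.appTop
        ((Scheme.ΓSpecIso (CommRingCat.of A)).inv f) := by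
    have hinj : Function.Injective (univ (R := R) (A := A)).left.appTop.hom := by
      haveI : IsIso (univ (R := R) (A := A)).left :=
        inferInstanceAs (IsIso ((Over.forget _).map (univ (R := R) (A := A))))
      haveI : IsIso ((univ (R := R) (A := A)).left.app ⊤) := inferInstance
      exact (ConcreteCategory.bijective_of_isIso ((univ (R := R) (A := A)).left.app ⊤)).1
    apply hinj
    have h1 : (univ (R := R) (A := A)).left.appTop.hom ((conjMor (R := R) (A := A)).left.appTop
        ((Scheme.ΓSpecIso (CommRingCat.of A)).inv f)) =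
        (univ (R := R) (A := A) ≫ conjMor).left.appTop
          ((Scheme.ΓSpecIso (CommRingCat.of A)).inv f) := rfl
    have h2 : (univ (R := R) (A := A)).left.appTop.hom
        ((snd (CoactBr.sp R A) (CoactBr.sp R A)).left.appTop
        ((Scheme.ΓSpecIso (CommRingCat.of A)).inv f)) =
        (univ (R := R) (A := A) ≫ snd _ _).left.appTop
          ((Scheme.ΓSpecIso (CommRingCat.of A)).inv f) := rfl
    rw [h1, h2, univ_conjMor, univ_snd, pt_appTop, pt_appTop, hf]
    rfl
  rw [← lift_conjMor]
  have h3 : (lift x g ≫ conjMor).left.appTop ((Scheme.ΓSpecIso (CommRingCat.of A)).inv f) =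
      (lift x g).left.appTop ((conjMor (R := R) (A := A)).left.appTop
        ((Scheme.ΓSpecIso (CommRingCat.of A)).inv f)) := rfl
  rw [h3, key]
  have h4 : (lift x g).left.appTop ((snd (CoactBr.sp R A) (CoactBr.sp R A)).left.appTop
        ((Scheme.ΓSpecIso (CommRingCat.of A)).inv f)) =
      (lift x g ≫ snd _ _).left.appTop ((Scheme.ΓSpecIso (CommRingCat.of A)).inv f) := rfl
  rw [h4, lift_snd]

theorem lift_includeRight_includeLeft_apply (z : A ⊗[R] A) :
    (Algebra.TensorProduct.lift (Algebra.TensorProduct.includeRight : A →ₐ[R] A ⊗[R] A)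
      (Algebra.TensorProduct.includeLeft : A →ₐ[R] A ⊗[R] A) fun _ _ => .all _ _) z =
      TensorProduct.comm R A A z := by
  induction z using TensorProduct.induction_on with
  | zero => simp
  | add x y hx hy => simp only [map_add, hx, hy]
  | tmul a b =>
    simp only [Algebra.TensorProduct.lift_tmul, Algebra.TensorProduct.includeRight_apply,
      Algebra.TensorProduct.includeLeft_apply, Algebra.TensorProduct.tmul_mul_tmul,
      TensorProduct.comm_tmul]
    rw [_root_.one_mul, _root_.mul_one]

theorem lift_includeLeft_includeRight_apply (z : A ⊗[R] A) :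
    (Algebra.TensorProduct.lift (Algebra.TensorProduct.includeLeft : A →ₐ[R] A ⊗[R] A)
      (Algebra.TensorProduct.includeRight : A →ₐ[R] A ⊗[R] A) fun _ _ => .all _ _) z = z := by
  induction z using TensorProduct.induction_on with
  | zero => simp
  | add x y hx hy => simp only [map_add, hx, hy]
  | tmul a b =>
    simp only [Algebra.TensorProduct.lift_tmul, Algebra.TensorProduct.includeRight_apply,
      Algebra.TensorProduct.includeLeft_apply, Algebra.TensorProduct.tmul_mul_tmul]
    rw [_root_.one_mul, _root_.mul_one]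

/-- A class function is a cocommutative element. -/
theorem comm_comul_of_classFn {f : A}
    (h : ∀ (T : Over (Spec (CommRingCat.of R))) (x g : T ⟶ CoactBr.sp R A),
      (x * g * x⁻¹).left.appTop ((Scheme.ΓSpecIso (CommRingCat.of A)).inv f) =
        g.left.appTop ((Scheme.ΓSpecIso (CommRingCat.of A)).inv f)) :
    TensorProduct.comm R A A (CoalgebraStruct.comul (R := R) f) =
      CoalgebraStruct.comul (R := R) f := by
  have h1 := h (CoactBr.sp R (A ⊗[R] A))
    (CoactBr.pt (Algebra.TensorProduct.includeLeft : A →ₐ[R] A ⊗[R] A))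
    (CoactBr.pt (Algebra.TensorProduct.includeRight : A →ₐ[R] A ⊗[R] A) *
      CoactBr.pt (Algebra.TensorProduct.includeLeft : A →ₐ[R] A ⊗[R] A))
  rw [← _root_.mul_assoc, mul_inv_cancel_right, CoactBr.pt_mul_pt, CoactBr.pt_mul_pt, pt_appTop,
    pt_appTop] at h1
  have hinj : Function.Injective (Scheme.ΓSpecIso (CommRingCat.of (A ⊗[R] A))).inv.hom :=
    (ConcreteCategory.bijective_of_isIso (Scheme.ΓSpecIso (CommRingCat.of (A ⊗[R] A))).inv).1
  have h2 := hinj h1
  rw [AlgHom.comp_apply, AlgHom.comp_apply, lift_includeLeft_includeRight_apply,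
    lift_includeRight_includeLeft_apply] at h2
  exact h2.symm

end Groth.Agent.Lib.Helper25.ClassFn
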