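import Groth.Agent.Lib.Helper25ClassFn
import Groth.Agent.Lib.Helper25Characters

/-!
# Characters are class functions (helper25)
-/

set_option autoImplicit false
universe u

open scoped TensorProduct

namespace Groth.Agent.Lib.Helper25.ClassFn

open Groth.Agent.Lib.Helper25 Groth.Agent.Lib.Helper25.Characters

variable {R : Type u} [CommRing R] {A : Type u} [CommRing A] [HopfAlgebra R A]
variable {ι : Type*} [Fintype ι] [DecidableEq ι]

theorem conjHom_entry (a : Matrix ι ι A) (ha : IsComatrix (k := R) a) (i i' : ι) :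
    conjHom (R := R) (a i i') =
      ∑ l, ∑ j, (a i j * HopfAlgebra.antipode R (a l i')) ⊗ₜ[R] a j l := by
  unfold conjHom
  rw [AlgHom.comp_apply, Bialgebra.comulAlgHom_apply, ha.comul, map_sum]
  apply Finset.sum_congr rfl
  intro l _
  rw [Algebra.TensorProduct.lift_tmul, AlgHom.comp_apply, Bialgebra.comulAlgHom_apply,
    lift_includeLeft_includeRight_apply, ha.comul, AlgHom.comp_apply,
    Algebra.TensorProduct.includeLeft_apply, Finset.sum_mul]
  apply Finset.sum_congr rfl
  intro j _
  rw [Algebra.TensorProduct.tmul_mul_tmul, mul_one]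
  rfl

/-- The trace of a comatrix is invariant under the conjugation comorphism. -/
theorem conjHom_trace (a : Matrix ι ι A) (ha : IsComatrix (k := R) a) :
    conjHom (R := R) (∑ i, a i i) = (1 : A) ⊗ₜ[R] ∑ i, a i i := by
  rw [map_sum]
  simp only [conjHom_entry a ha]
  rw [Finset.sum_comm]
  -- now `∑ l, ∑ i, ∑ j, ...`
  have h1 : ∀ l : ι, ∑ i, ∑ j, (a i j * HopfAlgebra.antipode R (a l i)) ⊗ₜ[R] a j l =
      ∑ j, (if l = j then (1 : A) else 0) ⊗ₜ[R] a j l := by
    intro l
    rw [Finset.sum_comm]
    apply Finset.sum_congr rfl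
    intro j _
    rw [← TensorProduct.sum_tmul, ← ha.antipode_mul l j]
    congr 1
    apply Finset.sum_congr rfl
    intro i _
    rw [mul_comm]
  simp only [h1]
  rw [Finset.sum_comm, TensorProduct.tmul_sum]
  apply Finset.sum_congr rfl
  intro j _
  rw [Finset.sum_eq_single j]
  · rw [if_pos rfl]
  · intro l _ hl
    rw [if_neg hl, TensorProduct.zero_tmul]
  · intro h
    exact absurd (Finset.mem_univ j) h

/-- Characters are fixed by the conjugation comorphism. -/
theorem conjHom_charOf (p : Σ d : ℕ, HopfRep.Comod R A (Fin d → R)) :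
    conjHom (R := R) (charOf p) = (1 : A) ⊗ₜ[R] charOf p := by
  obtain ⟨d, c⟩ := p
  rw [charOf_eq_sum_comatrix]
  letI := c
  exact conjHom_trace _ (isComatrix_comatrix (Pi.basisFun R (Fin d)))

/-- Linear combinations of characters are fixed by the conjugation comorphism. -/
theorem conjHom_of_mem_span {f : A}
    (hf : f ∈ Submodule.span R (Set.range (charOf (k := R) (A := A)))) :
    conjHom (R := R) f = (1 : A) ⊗ₜ[R] f := by
  refine Submodule.span_induction ?_ ?_ ?_ ?_ hf
  · rintro _ ⟨p, rfl⟩
    exact conjHom_charOf p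
  · simp
  · intro x y _ _ hx hy
    rw [map_add, hx, hy, TensorProduct.tmul_add]
  · intro c x _ hx
    rw [map_smul, hx, TensorProduct.tmul_smul]

end Groth.Agent.Lib.Helper25.ClassFn
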