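import Mathlib.LinearAlgebra.CliffordAlgebra.Contraction
import Mathlib.LinearAlgebra.CliffordAlgebra.Grading
import Mathlib.LinearAlgebra.ExteriorAlgebra.Basis
import Mathlib.LinearAlgebra.QuadraticForm.Basis
import Mathlib.LinearAlgebra.Dimension.Free
import Mathlib.LinearAlgebra.FreeModule.Finite.Basic

/-!
# Clifford algebras of quadratic forms on free modules, characteristic free (helper25)

For a quadratic form `Q` on a free module the Clifford algebra is linearly isomorphic to the
exterior algebra (through a bilinear lift of `Q`); hence it is free, of rank `2 ^ n` when the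
module has rank `n`, and `ι` is injective onto a direct summand.
-/

set_option autoImplicit false
set_option linter.unusedSectionVars false
set_option linter.style.haveILetI false
universe u v

namespace Groth.Agent.Lib.Helper25.Cliff

open CliffordAlgebra

variable {R : Type u} [CommRing R] {M : Type v} [AddCommGroup M] [Module R M]
  (Q : QuadraticForm R M)

theorem extEquiv_aux {B : LinearMap.BilinForm R M} (hB : B.toQuadraticMap = Q) :
    B.toQuadraticMap = Q - 0 := by rw [hB, sub_zero]

/-- The linear isomorphism from the exterior algebra attached to a bilinear lift of `Q`. -/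
noncomputable def extEquiv (B : LinearMap.BilinForm R M) (hB : B.toQuadraticMap = Q) :
    ExteriorAlgebra R M ≃ₗ[R] CliffordAlgebra Q :=
  CliffordAlgebra.changeFormEquiv (Q := (0 : QuadraticForm R M)) (Q' := Q) (B := B)
    (extEquiv_aux Q hB)

theorem extEquiv_one (B : LinearMap.BilinForm R M) (hB : B.toQuadraticMap = Q) :
    extEquiv Q B hB 1 = 1 :=
  CliffordAlgebra.changeForm_one (extEquiv_aux Q hB)

theorem extEquiv_ι (B : LinearMap.BilinForm R M) (hB : B.toQuadraticMap = Q) (m : M) :
    extEquiv Q B hB (ExteriorAlgebra.ι R m) = ι Q m :=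
  CliffordAlgebra.changeForm_ι (extEquiv_aux Q hB) m

theorem exists_bilin [Module.Free R M] : ∃ B : LinearMap.BilinForm R M, B.toQuadraticMap = Q :=
  LinearMap.BilinMap.toQuadraticMap_surjective Q

instance instFree [Module.Free R M] : Module.Free R (CliffordAlgebra Q) := by
  obtain ⟨B, hB⟩ := exists_bilin Q
  haveI : Module.Free R (ExteriorAlgebra R M) := by
    let b := Module.Free.chooseBasis R M
    classical
    letI : LinearOrder (Module.Free.ChooseBasisIndex R M) := linearOrderOfSTO (WellOrderingRel)
    exact Module.Free.of_basis b.ExteriorAlgebra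
  exact Module.Free.of_equiv (extEquiv Q B hB)

instance instFinite [Module.Free R M] [Module.Finite R M] :
    Module.Finite R (CliffordAlgebra Q) := by
  obtain ⟨B, hB⟩ := exists_bilin Q
  haveI : Module.Finite R (ExteriorAlgebra R M) := by
    let b := Module.Free.chooseBasis R M
    classical
    letI : LinearOrder (Module.Free.ChooseBasisIndex R M) := linearOrderOfSTO (WellOrderingRel)
    exact Module.Finite.of_basis b.ExteriorAlgebra
  exact Module.Finite.equiv (extEquiv Q B hB)

theorem finrank_clifford [Nontrivial R] [Module.Free R M] [Module.Finite R M] :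
    Module.finrank R (CliffordAlgebra Q) = 2 ^ Module.finrank R M := by
  obtain ⟨B, hB⟩ := exists_bilin Q
  rw [← (extEquiv Q B hB).finrank_eq]
  let b := Module.finBasis R M
  rw [Module.finrank_eq_card_basis b.ExteriorAlgebra, Fintype.card_finset, Fintype.card_fin]

theorem ι_injective [Module.Free R M] : Function.Injective (ι Q) := by
  obtain ⟨B, hB⟩ := exists_bilin Q
  intro x y hxy
  rw [← extEquiv_ι Q B hB, ← extEquiv_ι Q B hB] at hxy
  exact (ExteriorAlgebra.ι_inj R x y).mp ((extEquiv Q B hB).injective hxy)

/-- A linear retraction of `ι Q`. -/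
theorem exists_retraction [Module.Free R M] :
    ∃ r : CliffordAlgebra Q →ₗ[R] M, ∀ m, r (ι Q m) = m := by
  obtain ⟨B, hB⟩ := exists_bilin Q
  refine ⟨ExteriorAlgebra.ιInv ∘ₗ (extEquiv Q B hB).symm.toLinearMap, fun m => ?_⟩
  rw [LinearMap.comp_apply, LinearEquiv.coe_coe, ← extEquiv_ι Q B hB, LinearEquiv.symm_apply_apply]
  exact ExteriorAlgebra.ι_leftInverse m

theorem exists_isCompl_range_ι [Module.Free R M] :
    ∃ W : Submodule R (CliffordAlgebra Q), IsCompl (LinearMap.range (ι Q)) W := by
  obtain ⟨r, hr⟩ := exists_retraction Q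
  refine ⟨LinearMap.ker r, ?_⟩
  constructor
  · rw [Submodule.disjoint_def]
    rintro x ⟨m, rfl⟩ hx
    rw [LinearMap.mem_ker, hr] at hx
    rw [hx, map_zero]
  · rw [codisjoint_iff, eq_top_iff]
    intro x _
    have h1 : x = ι Q (r x) + (x - ι Q (r x)) := by abel
    rw [h1]
    refine Submodule.add_mem_sup ⟨r x, rfl⟩ ?_
    rw [LinearMap.mem_ker, map_sub, hr, sub_self]

end Groth.Agent.Lib.Helper25.Cliff
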