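import Mathlib
import Groth.Agent.Lib.Helper25CliffAA

/-!
# The Dickson-trivial locus is open and closed; determinant `-1` over a connected base (helper25)
-/

set_option autoImplicit false
set_option linter.unusedSectionVars false
set_option linter.style.haveILetI false
universe u v u'

namespace Groth.Agent.Lib.Helper25.Cliff

open CliffordAlgebra TensorProduct QuadGrp

section Loc

variable {R : Type u} [CommRing R] {M : Type v} [AddCommGroup M] [Module R M] [Module.Free R M]
  [Module.Finite R M] (Q : QuadraticForm R M)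

theorem ofBCAux_smul (A : Type u') [CommRing A] [Algebra R A] (s : R) (x : CliffordAlgebra Q) :
    ofBCAux A Q (s • x) = algebraMap R A s • ofBCAux A Q x := by
  rw [map_smul, algebraMap_smul]

/-- vanishing in the localisation at a prime is witnessed by an element outside the prime. -/
theorem exists_smul_eq_zero_of_ofBCAux_eq_zero (p : Ideal R) [p.IsPrime] (x : CliffordAlgebra Q)
    (h : ofBCAux (Localization.AtPrime p) Q x = 0) : ∃ s : R, s ∉ p ∧ s • x = 0 := by
  classical
  let c := Module.Free.chooseBasis R (CliffordAlgebra Q)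
  have h1 : ((1 : Localization.AtPrime p) ⊗ₜ[R] x : Localization.AtPrime p ⊗[R] CliffordAlgebra Q)
      = 0 := by
    apply (bcEquiv (Localization.AtPrime p) Q).injective
    rw [bcEquiv_one_tmul, map_zero]
    exact h
  have h2 : ∀ j, ∃ s : R, s ∉ p ∧ s * c.repr x j = 0 := by
    intro j
    have h3 := congrArg
      (fun t => (Algebra.TensorProduct.basis (Localization.AtPrime p) c).repr t j) h1
    simp only [map_zero, Finsupp.zero_apply] at h3
    rw [Algebra.TensorProduct.basis_repr_tmul, one_smul, Finsupp.mapRange_apply] at h3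
    obtain ⟨s, hs⟩ := (IsLocalization.map_eq_zero_iff p.primeCompl (Localization.AtPrime p) _).mp h3
    exact ⟨s.1, s.2, hs⟩
  choose s hs hs0 using h2
  refine ⟨∏ j, s j, ?_, ?_⟩
  · intro hmem
    obtain ⟨j, _, hj⟩ := (Ideal.IsPrime.prod_mem_iff (hp := ‹p.IsPrime›)).mp hmem
    exact hs j hj
  · apply c.repr.injective
    rw [map_zero, map_smul]
    ext j
    rw [Finsupp.smul_apply, Finsupp.zero_apply, smul_eq_mul,
      ← Finset.mul_prod_erase Finset.univ s (Finset.mem_univ j), mul_right_comm, hs0 j, zero_mul]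

/-- the uniform version for a linear map from a finite module. -/
theorem exists_smul_eq_zero_of_forall_ofBCAux_eq_zero (p : Ideal R) [p.IsPrime]
    {N : Type*} [AddCommGroup N] [Module R N] [Module.Finite R N]
    (L : N →ₗ[R] CliffordAlgebra Q)
    (h : ∀ n, ofBCAux (Localization.AtPrime p) Q (L n) = 0) :
    ∃ s : R, s ∉ p ∧ ∀ n, s • L n = 0 := by
  classical
  obtain ⟨k, gen, hgen⟩ := Module.Finite.exists_fin (R := R) (M := N)
  have h2 : ∀ i, ∃ s : R, s ∉ p ∧ s • L (gen i) = 0 := fun i =>
    exists_smul_eq_zero_of_ofBCAux_eq_zero Q p _ (h _)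
  choose s hs hs0 using h2
  refine ⟨∏ i, s i, ?_, ?_⟩
  · intro hmem
    obtain ⟨j, _, hj⟩ := (Ideal.IsPrime.prod_mem_iff (hp := ‹p.IsPrime›)).mp hmem
    exact hs j hj
  · intro n
    have hn : n ∈ Submodule.span R (Set.range gen) := hgen ▸ Submodule.mem_top
    induction hn using Submodule.span_induction with
    | mem y hy =>
      obtain ⟨i, rfl⟩ := hy
      rw [← Finset.mul_prod_erase Finset.univ s (Finset.mem_univ i), mul_comm, mul_smul, hs0 i,
        smul_zero]
    | zero => rw [map_zero, smul_zero]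
    | add y z _ _ hy hz => rw [map_add, smul_add, hy, hz, add_zero]
    | smul r y _ hy => rw [map_smul, smul_comm, hy, smul_zero]

theorem ofBCAux_eq_zero_of_smul_eq_zero (p : Ideal R) [p.IsPrime] {s : R} (hs : s ∉ p)
    {x : CliffordAlgebra Q} (h : s • x = 0) : ofBCAux (Localization.AtPrime p) Q x = 0 := by
  have h1 := congrArg (ofBCAux (Localization.AtPrime p) Q) h
  rw [ofBCAux_smul, map_zero] at h1
  have hu : IsUnit (algebraMap R (Localization.AtPrime p) s) :=
    IsLocalization.map_units (Localization.AtPrime p) (⟨s, hs⟩ : p.primeCompl)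
  obtain ⟨w, hw⟩ := hu
  have h2 := congrArg (fun y => (↑w⁻¹ : Localization.AtPrime p) • y) h1
  simp only [smul_zero] at h2
  rwa [← hw, smul_smul, Units.inv_mul, one_smul] at h2

/-- a regular form of positive rank takes a value outside any given prime. -/
theorem exists_apply_notMem (hpos : 0 < Module.finrank R M) (hQ : IsRegular Q) (p : Ideal R)
    [p.IsPrime] : ∃ v, Q v ∉ p := by
  by_contra h
  push Not at h
  haveI : Nontrivial R := ⟨⟨0, 1, fun h01 =>
    (Ideal.ne_top_iff_one p).mp (Ideal.IsPrime.ne_top ‹_›) (h01 ▸ p.zero_mem)⟩⟩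
  let b := Module.finBasis R M
  obtain ⟨x, hx⟩ := hQ.2 (b.coord ⟨0, hpos⟩)
  have h1 : QuadraticMap.polar Q x (b ⟨0, hpos⟩) = 1 := by
    have := congrArg (fun f => f (b ⟨0, hpos⟩)) hx
    simpa using this
  have h2 : QuadraticMap.polar Q x (b ⟨0, hpos⟩) ∈ p := by
    unfold QuadraticMap.polar
    exact Ideal.sub_mem _ (Ideal.sub_mem _ (h _) (h _)) (h _)
  rw [h1] at h2
  exact (Ideal.ne_top_iff_one _).mp (Ideal.IsPrime.ne_top ‹_›) h2

end Loc

section Crit

variable {R : Type u} [CommRing R] {M : Type v} [AddCommGroup M] [Module R M] [Module.Free R M]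
  [Module.Finite R M] (A : Type u') [CommRing A] [Algebra R A] {Q : QuadraticForm R M}

/-- criterion for the Dickson condition after a flat base change. -/
theorem isDicksonTrivial_baseChange_of_forall [Module.Flat R A] {g : M ≃ₗ[R] M} {hg : g ∈ O Q}
    (hD : ∀ z : ↥(CliffordAlgebra.even Q), z ∈ Subalgebra.center R ↥(CliffordAlgebra.even Q) →
      ofBCAux A Q (CliffordAlgebra.map (isometryOfMem Q g hg) z.1) = ofBCAux A Q z.1) :
    IsDicksonTrivial (baseChangeForm A Q) (g.baseChange R A M M) (baseChange_mem_O A hg) := by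
  intro z hz
  have ht := even_symm_mem_baseChange_center A Q z hz
  have key : ∀ t ∈ (Subalgebra.toSubmodule
      (Subalgebra.center R ↥(CliffordAlgebra.even Q))).baseChange A,
      bcMap A g hg (bcEven A Q t).1 = (bcEven A Q t).1 := by
    rintro _ ⟨s, rfl⟩
    induction s using TensorProduct.induction_on with
    | zero => simp
    | tmul a p =>
      rw [LinearMap.baseChange_tmul, bcEven_tmul_coe, Submodule.subtype_apply, map_smul,
        ← ofBCAux_map', hD p.1 p.2]
    | add s s' hs hs' =>
      rw [map_add, map_add]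
      change bcMap A g hg ((bcEven A Q _).1 + (bcEven A Q _).1) =
        ((bcEven A Q _).1 + (bcEven A Q _).1)
      rw [map_add, hs, hs']
  have := key _ ht
  rwa [AlgEquiv.apply_symm_apply] at this

/-- criterion for the failure of the Dickson condition after a flat base change. -/
theorem not_isDicksonTrivial_baseChange_of_forall [Module.Flat R A] [Nontrivial A] (m : ℕ)
    (hm : 1 ≤ m) (hM : Module.finrank A (A ⊗[R] M) = 2 * m) (hQ : IsRegular (baseChangeForm A Q))
    {g : M ≃ₗ[R] M} {hg : g ∈ O Q} {v : M} (hv : IsUnit (algebraMap R A (Q v)))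
    (hD : ∀ z : ↥(CliffordAlgebra.even Q), z ∈ Subalgebra.center R ↥(CliffordAlgebra.even Q) →
      ofBCAux A Q (CliffordAlgebra.map (isometryOfMem Q g hg) z.1 * ι Q v) =
        ofBCAux A Q (ι Q v * z.1)) :
    ¬ IsDicksonTrivial (baseChangeForm A Q) (g.baseChange R A M M) (baseChange_mem_O A hg) := by
  intro hT
  have key : ∀ t ∈ (Subalgebra.toSubmodule
      (Subalgebra.center R ↥(CliffordAlgebra.even Q))).baseChange A,
      (bcEven A Q t).1 * ι (baseChangeForm A Q) ((1 : A) ⊗ₜ[R] v) =
        ι (baseChangeForm A Q) ((1 : A) ⊗ₜ[R] v) * (bcEven A Q t).1 := by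
    rintro _ ⟨s, rfl⟩
    induction s using TensorProduct.induction_on with
    | zero => simp
    | tmul a p =>
      have h1 := hD p.1 p.2
      rw [map_mul, map_mul, ofBCAux_ι, ofBCAux_map'] at h1
      have h2 := hT _ (ofBCAux_mem_center_even A p.1 p.2)
      change bcMap A g hg (ofBCAux A Q p.1.1) = ofBCAux A Q p.1.1 at h2
      rw [h2] at h1
      rw [LinearMap.baseChange_tmul, bcEven_tmul_coe, Submodule.subtype_apply, smul_mul_assoc,
        mul_smul_comm, h1]
    | add s s' hs hs' =>
      rw [map_add, map_add]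
      change ((bcEven A Q _).1 + (bcEven A Q _).1) * _ = _ * ((bcEven A Q _).1 + (bcEven A Q _).1)
      rw [add_mul, mul_add, hs, hs']
  have heven : ι (baseChangeForm A Q) ((1 : A) ⊗ₜ[R] v) ∈ evenOdd (baseChangeForm A Q) 0 := by
    apply mem_evenOdd_zero_of_commute_center m hm hM (baseChangeForm A Q) hQ
    intro p hp
    have ht := even_symm_mem_baseChange_center A Q p hp
    have := key _ ht
    rwa [AlgEquiv.apply_symm_apply] at this
  have h0 := eq_zero_of_mem_even_of_mem_odd' heven (ι_mem_evenOdd_one _ _)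
  have hvu : IsUnit (baseChangeForm A Q ((1 : A) ⊗ₜ[R] v)) := by
    rw [HalfDisc.baseChangeForm_one_tmul]
    exact hv
  exact ι_ne_zero_of_isUnit hvu h0

end Crit

section Main

variable {R : Type u} [CommRing R] {M : Type v} [AddCommGroup M] [Module R M] [Module.Free R M]
  [Module.Finite R M]

/-- The locus of primes at which an isometry satisfies the Dickson condition. -/
def dLocus (Q : QuadraticForm R M) (g : M ≃ₗ[R] M) (hg : g ∈ O Q) : Set (PrimeSpectrum R) :=
  {p | IsDicksonTrivial (baseChangeForm (Localization.AtPrime p.asIdeal) Q)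
    (g.baseChange R (Localization.AtPrime p.asIdeal) M M)
    (baseChange_mem_O (Localization.AtPrime p.asIdeal) hg)}

theorem isOpen_dLocus (m : ℕ) (hm : 1 ≤ m) (hM : Module.finrank R M = 2 * m)
    (Q : QuadraticForm R M) (hQ : IsRegular Q) (g : M ≃ₗ[R] M) (hg : g ∈ O Q) :
    IsOpen (dLocus Q g hg) := by
  rw [isOpen_iff_forall_mem_open]
  intro p hp
  haveI := finite_center_even m hm hM Q hQ
  let L : ↥(Subalgebra.toSubmodule (Subalgebra.center R ↥(CliffordAlgebra.even Q))) →ₗ[R]
      CliffordAlgebra Q :=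
    ((CliffordAlgebra.map (isometryOfMem Q g hg)).toLinearMap - LinearMap.id) ∘ₗ
      (CliffordAlgebra.even Q).val.toLinearMap ∘ₗ
      (Subalgebra.toSubmodule (Subalgebra.center R ↥(CliffordAlgebra.even Q))).subtype
  have hL : ∀ z, L z = CliffordAlgebra.map (isometryOfMem Q g hg) z.1.1 - z.1.1 := fun z => rfl
  have h0 : ∀ z, ofBCAux (Localization.AtPrime p.asIdeal) Q (L z) = 0 := by
    intro z
    rw [hL, map_sub, ofBCAux_map', sub_eq_zero]
    exact hp _ (ofBCAux_mem_center_even (Localization.AtPrime p.asIdeal) z.1 z.2)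
  obtain ⟨s, hs, hs0⟩ := exists_smul_eq_zero_of_forall_ofBCAux_eq_zero Q p.asIdeal L h0
  refine ⟨PrimeSpectrum.basicOpen s, ?_, (PrimeSpectrum.basicOpen s).isOpen, hs⟩
  intro q hq
  have hq' : s ∉ q.asIdeal := hq
  apply isDicksonTrivial_baseChange_of_forall
  intro z hz
  have := ofBCAux_eq_zero_of_smul_eq_zero Q q.asIdeal hq' (hs0 ⟨z, hz⟩)
  rw [hL, map_sub, sub_eq_zero] at this
  exact this

theorem isOpen_compl_dLocus (m : ℕ) (hm : 1 ≤ m) (hM : Module.finrank R M = 2 * m)
    (Q : QuadraticForm R M) (hQ : IsRegular Q) (g : M ≃ₗ[R] M) (hg : g ∈ O Q) :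
    IsOpen (dLocus Q g hg)ᶜ := by
  rw [isOpen_iff_forall_mem_open]
  intro p hp
  haveI := finite_center_even m hm hM Q hQ
  haveI : Nontrivial R := ⟨⟨0, 1, fun h01 =>
    (Ideal.ne_top_iff_one p.asIdeal).mp p.isPrime.ne_top (h01 ▸ p.asIdeal.zero_mem)⟩⟩
  obtain ⟨v, hv⟩ := exists_apply_notMem Q (by omega) hQ p.asIdeal
  have hM' : ∀ q : PrimeSpectrum R, Module.finrank (Localization.AtPrime q.asIdeal)
      (Localization.AtPrime q.asIdeal ⊗[R] M) = 2 * m := fun q => by
    rw [Module.finrank_baseChange, hM]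
  have hvu : ∀ q : PrimeSpectrum R, Q v ∉ q.asIdeal →
      IsUnit (algebraMap R (Localization.AtPrime q.asIdeal) (Q v)) := fun q hq =>
    IsLocalization.map_units (Localization.AtPrime q.asIdeal) (⟨Q v, hq⟩ : q.asIdeal.primeCompl)
  let L : ↥(Subalgebra.toSubmodule (Subalgebra.center R ↥(CliffordAlgebra.even Q))) →ₗ[R]
      CliffordAlgebra Q :=
    (LinearMap.mulRight R (ι Q v) ∘ₗ (CliffordAlgebra.map (isometryOfMem Q g hg)).toLinearMap -
      LinearMap.mulLeft R (ι Q v)) ∘ₗ
      (CliffordAlgebra.even Q).val.toLinearMap ∘ₗ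
      (Subalgebra.toSubmodule (Subalgebra.center R ↥(CliffordAlgebra.even Q))).subtype
  have hL : ∀ z, L z = CliffordAlgebra.map (isometryOfMem Q g hg) z.1.1 * ι Q v -
      ι Q v * z.1.1 := fun z => rfl
  have h0 : ∀ z, ofBCAux (Localization.AtPrime p.asIdeal) Q (L z) = 0 := by
    intro z
    obtain ⟨w, hw⟩ := hvu p hv
    have hc : (↑w⁻¹ : Localization.AtPrime p.asIdeal) *
        baseChangeForm (Localization.AtPrime p.asIdeal) Q ((1 : Localization.AtPrime p.asIdeal) ⊗ₜ[R] v)
        = 1 := by
      rw [HalfDisc.baseChangeForm_one_tmul, ← hw, Units.inv_mul]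
    have h1 := map_mul_ι_of_not_isDicksonTrivial m hm (hM' p) _ (isRegular_baseChangeForm _ hQ)
      _ _ hp hc _ (ofBCAux_mem_center_even (Localization.AtPrime p.asIdeal) z.1 z.2)
    rw [hL, map_sub, map_mul, map_mul, ofBCAux_ι, ofBCAux_map', sub_eq_zero]
    exact h1
  obtain ⟨s, hs, hs0⟩ := exists_smul_eq_zero_of_forall_ofBCAux_eq_zero Q p.asIdeal L h0
  refine ⟨PrimeSpectrum.basicOpen (s * Q v), ?_, (PrimeSpectrum.basicOpen (s * Q v)).isOpen, ?_⟩
  · intro q hq
    have hq' : s * Q v ∉ q.asIdeal := hq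
    have hq1 : s ∉ q.asIdeal := fun h => hq' (Ideal.mul_mem_right _ _ h)
    have hq2 : Q v ∉ q.asIdeal := fun h => hq' (Ideal.mul_mem_left _ _ h)
    refine not_isDicksonTrivial_baseChange_of_forall (Localization.AtPrime q.asIdeal) m hm (hM' q)
      (isRegular_baseChangeForm _ hQ) (g := g) (hg := hg) (hvu q hq2) ?_
    intro z hz
    have := ofBCAux_eq_zero_of_smul_eq_zero Q q.asIdeal hq1 (hs0 ⟨z, hz⟩)
    rw [hL, map_sub, sub_eq_zero] at this
    exact this
  · change s * Q v ∉ p.asIdeal
    intro h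
    rcases p.isPrime.mem_or_mem h with h | h
    · exact hs h
    · exact hv h

/-- **Over a connected base, a Dickson-nontrivial isometry has determinant `-1`.** -/
theorem det_eq_neg_one_of_not_isDicksonTrivial (hc : ConnectedSpace (PrimeSpectrum R)) (m : ℕ)
    (hm : 1 ≤ m) (hM : Module.finrank R M = 2 * m) (Q : QuadraticForm R M) (hQ : IsRegular Q)
    (g : M ≃ₗ[R] M) (hg : g ∈ O Q) (hD : ¬ IsDicksonTrivial Q g hg) :
    LinearMap.det g.toLinearMap = -1 := by
  have hclopen : IsClopen (dLocus Q g hg) :=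
    ⟨⟨isOpen_compl_dLocus m hm hM Q hQ g hg⟩, isOpen_dLocus m hm hM Q hQ g hg⟩
  rcases isClopen_iff.mp hclopen with h | h
  · rw [← add_eq_zero_iff_eq_neg]
    apply eq_zero_of_localization
    intro J hJ
    haveI : Nontrivial R := (algebraMap R (Localization.AtPrime J)).domain_nontrivial
    have hM' : Module.finrank (Localization.AtPrime J) (Localization.AtPrime J ⊗[R] M) = 2 * m := by
      rw [Module.finrank_baseChange, hM]
    have hJ' : (⟨J, hJ.isPrime⟩ : PrimeSpectrum R) ∉ dLocus Q g hg := by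
      rw [h]; exact Set.notMem_empty _
    rcases isDicksonTrivial_or_det_eq_neg_one m hm hM' (baseChangeForm _ Q)
      (isRegular_baseChangeForm _ hQ) (g.baseChange R (Localization.AtPrime J) M M)
      (baseChange_mem_O _ hg) with h1 | h1
    · exact absurd h1 hJ'
    · have e : (g.baseChange R (Localization.AtPrime J) M M).toLinearMap =
          g.toLinearMap.baseChange (Localization.AtPrime J) := rfl
      rw [e, LinearMap.det_baseChange] at h1
      rw [map_add, h1, map_one, neg_add_cancel]
  · exfalso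
    apply hD
    apply isDicksonTrivial_of_localization
    intro J hJ
    have hJ' : (⟨J, hJ.isPrime⟩ : PrimeSpectrum R) ∈ dLocus Q g hg := by
      rw [h]; exact Set.mem_univ _
    exact hJ'

end Main

end Groth.Agent.Lib.Helper25.Cliff
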