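import Mathlib
import Groth.Agent.Lib.Helper25CliffAB

/-!
# Abstract Skolem–Noether descent; local splitting in odd rank (helper25)
-/

set_option autoImplicit false
set_option linter.unusedSectionVars false
set_option linter.style.haveILetI false
universe u v u'

namespace Groth.Agent.Lib.Helper25.Cliff

open TensorProduct

section UnitDescent

variable {R : Type*} [CommRing R] (A : Type*) [CommRing A] [Algebra R A]
  {C : Type*} [Ring C] [Algebra R C]

theorem baseChange_mulLeft (x : C) (t : A ⊗[R] C) :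
    (LinearMap.mulLeft R x).baseChange A t = ((1 : A) ⊗ₜ[R] x) * t := by
  induction t using TensorProduct.induction_on with
  | zero => simp
  | tmul a y =>
    rw [LinearMap.baseChange_tmul, LinearMap.mulLeft_apply, Algebra.TensorProduct.tmul_mul_tmul,
      one_mul]
  | add s s' hs hs' => rw [map_add, hs, hs', mul_add]

theorem baseChange_mulRight (x : C) (t : A ⊗[R] C) :
    (LinearMap.mulRight R x).baseChange A t = t * ((1 : A) ⊗ₜ[R] x) := by
  induction t using TensorProduct.induction_on with
  | zero => simp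
  | tmul a y =>
    rw [LinearMap.baseChange_tmul, LinearMap.mulRight_apply, Algebra.TensorProduct.tmul_mul_tmul,
      mul_one]
  | add s s' hs hs' => rw [map_add, hs, hs', add_mul]

theorem baseChange_mem_range {N P : Type*} [AddCommGroup N] [Module R N] [AddCommGroup P]
    [Module R P] (f : N →ₗ[R] P) (t : A ⊗[R] N) :
    f.baseChange A t ∈ (LinearMap.range f).baseChange A := by
  induction t using TensorProduct.induction_on with
  | zero => simp
  | tmul a y =>
    rw [LinearMap.baseChange_tmul]
    exact Submodule.tmul_mem_baseChange_of_mem a ⟨y, rfl⟩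
  | add s s' hs hs' =>
    rw [map_add]
    exact Submodule.add_mem _ hs hs'

/-- faithfully flat descent of invertibility, abstract form. -/
theorem isUnit_of_isUnit_one_tmul [Module.FaithfullyFlat R A] (x : C)
    (h : IsUnit ((1 : A) ⊗ₜ[R] x : A ⊗[R] C)) : IsUnit x := by
  obtain ⟨w, hw⟩ := h
  have hr : ∃ y, x * y = 1 := by
    have h1 : (1 : C) ∈ LinearMap.range (LinearMap.mulLeft R x) := by
      apply mem_of_one_tmul_mem_baseChange A
      have h2 := baseChange_mem_range A (LinearMap.mulLeft R x) (↑w⁻¹ : A ⊗[R] C)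
      rwa [baseChange_mulLeft, ← hw, Units.mul_inv] at h2
    exact h1
  have hl : ∃ y, y * x = 1 := by
    have h1 : (1 : C) ∈ LinearMap.range (LinearMap.mulRight R x) := by
      apply mem_of_one_tmul_mem_baseChange A
      have h2 := baseChange_mem_range A (LinearMap.mulRight R x) (↑w⁻¹ : A ⊗[R] C)
      rwa [baseChange_mulRight, ← hw, Units.inv_mul] at h2
    exact h1
  obtain ⟨y, hy⟩ := hr
  obtain ⟨y', hy'⟩ := hl
  have : y' = y := by
    calc y' = y' * (x * y) := by rw [hy, mul_one]
      _ = y := by rw [← mul_assoc, hy', one_mul]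
  subst this
  exact ⟨⟨x, y', hy, hy'⟩, rfl⟩

end UnitDescent

section Abstract

variable {R : Type*} [CommRing R] (A : Type*) [CommRing A] [IsLocalRing A] [Algebra R A]
  [Module.FaithfullyFlat R A] {C : Type*} [Ring C] [Algebra R C] [Module.Finite R C]

/-- **Abstract Skolem–Noether descent**: if the base change of an algebra endomorphism `σ` to a
faithfully flat local extension is inner, and the base-changed algebra has trivial centre, then
`σ` is inner. -/
theorem exists_unit_intertwiner (σ : C →ₐ[R] C) (θ : (A ⊗[R] C)ˣ)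
    (hθ : ∀ t : A ⊗[R] C, Algebra.TensorProduct.map (AlgHom.id A A) σ t * θ = θ * t)
    (hZ : Subalgebra.center A (A ⊗[R] C) = ⊥)
    (hinj : Function.Injective (algebraMap A (A ⊗[R] C))) :
    ∃ x : Cˣ, ∀ a : C, σ a * x = x * a := by
  classical
  haveI : Module.Flat R A := inferInstance
  obtain ⟨n, s, hs⟩ := Module.Finite.exists_fin (R := R) (M := C)
  let φ : Fin n → C →ₗ[R] C := fun i =>
    LinearMap.mulLeft R (σ (s i)) - LinearMap.mulRight R (s i)
  have hφ : ∀ i x, φ i x = σ (s i) * x - x * s i := fun i x => rfl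
  have hI : ∀ x ∈ LinearMap.ker (LinearMap.pi φ), ∀ a : C, σ a * x = x * a := by
    intro x hx a
    have h1 : ∀ i, σ (s i) * x = x * s i := fun i => by
      have := congrFun (LinearMap.mem_ker.mp hx) i
      simp only [LinearMap.pi_apply, Pi.zero_apply, hφ, sub_eq_zero] at this
      exact this
    have ha : a ∈ Submodule.span R (Set.range s) := hs ▸ Submodule.mem_top
    induction ha using Submodule.span_induction with
    | mem y hy =>
      obtain ⟨i, rfl⟩ := hy
      exact h1 i
    | zero => simp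
    | add y z _ _ hy hz => rw [map_add, add_mul, mul_add, hy, hz]
    | smul r y _ hy => rw [map_smul, smul_mul_assoc, mul_smul_comm, hy]
  have hI' : ∀ x ∈ LinearMap.ker (LinearMap.pi φ), ∀ t : A ⊗[R] C,
      Algebra.TensorProduct.map (AlgHom.id A A) σ t * ((1 : A) ⊗ₜ[R] x) =
        ((1 : A) ⊗ₜ[R] x) * t := by
    intro x hx t
    induction t using TensorProduct.induction_on with
    | zero => simp
    | tmul a y =>
      rw [Algebra.TensorProduct.map_tmul, Algebra.TensorProduct.tmul_mul_tmul,
        Algebra.TensorProduct.tmul_mul_tmul, hI x hx y, AlgHom.id_apply, mul_one, one_mul]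
    | add t t' ht ht' => rw [map_add, add_mul, mul_add, ht, ht']
  have hmult : ∀ y : A ⊗[R] C,
      (∀ t : A ⊗[R] C, Algebra.TensorProduct.map (AlgHom.id A A) σ t * y = y * t) →
      ∃ r : A, y = r • (θ : A ⊗[R] C) := by
    intro y hy
    have hc : (↑θ⁻¹ : A ⊗[R] C) * y ∈ Subalgebra.center A (A ⊗[R] C) := by
      rw [Subalgebra.mem_center_iff]
      intro t
      have e1 : t * (↑θ⁻¹ : A ⊗[R] C) =
          ↑θ⁻¹ * Algebra.TensorProduct.map (AlgHom.id A A) σ t := by
        rw [Units.eq_inv_mul_iff_mul_eq, ← mul_assoc, ← hθ, mul_assoc, Units.mul_inv, mul_one]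
      rw [← mul_assoc, e1, mul_assoc, hy t, mul_assoc]
    rw [hZ, Algebra.mem_bot] at hc
    obtain ⟨r, hr⟩ := hc
    refine ⟨r, ?_⟩
    rw [Algebra.smul_def, Algebra.commutes, hr, ← mul_assoc, Units.mul_inv, one_mul]
  have hfaith : ∀ r r' : A, r • (θ : A ⊗[R] C) = r' • (θ : A ⊗[R] C) → r = r' := by
    intro r r' h
    have h1 := congrArg (fun y => y * (↑θ⁻¹ : A ⊗[R] C)) h
    simp only [smul_mul_assoc, Units.mul_inv] at h1
    rw [← Algebra.algebraMap_eq_smul_one, ← Algebra.algebraMap_eq_smul_one] at h1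
    exact hinj h1
  have ht : ∀ i, (φ i).baseChange A (θ : A ⊗[R] C) = 0 := by
    intro i
    change (LinearMap.mulLeft R (σ (s i)) - LinearMap.mulRight R (s i)).baseChange A _ = 0
    rw [LinearMap.baseChange_sub, LinearMap.sub_apply, baseChange_mulLeft, baseChange_mulRight,
      sub_eq_zero]
    have := hθ ((1 : A) ⊗ₜ[R] s i)
    rwa [Algebra.TensorProduct.map_tmul, AlgHom.id_apply] at this
  obtain ⟨s', hs'⟩ := mem_baseChange_ker_pi A φ _ ht
  have hall : ∀ s' : A ⊗[R] ↥(LinearMap.ker (LinearMap.pi φ)), ∃ r : A,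
      (LinearMap.ker (LinearMap.pi φ)).subtype.baseChange A s' = r • (θ : A ⊗[R] C) := by
    intro s'
    induction s' using TensorProduct.induction_on with
    | zero => exact ⟨0, by simp⟩
    | tmul a x =>
      obtain ⟨r, hr⟩ := hmult _ (hI' x.1 x.2)
      refine ⟨a * r, ?_⟩
      rw [LinearMap.baseChange_tmul, Submodule.subtype_apply, mul_smul, ← hr,
        TensorProduct.smul_tmul', smul_eq_mul, mul_one]
    | add t t' ht ht' =>
      obtain ⟨r, hr⟩ := ht
      obtain ⟨r', hr'⟩ := ht'
      exact ⟨r + r', by rw [map_add, hr, hr', add_smul]⟩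
  have hmain : ∀ s' : A ⊗[R] ↥(LinearMap.ker (LinearMap.pi φ)), ∀ r : A,
      (LinearMap.ker (LinearMap.pi φ)).subtype.baseChange A s' = r • (θ : A ⊗[R] C) → IsUnit r →
      ∃ x ∈ LinearMap.ker (LinearMap.pi φ), IsUnit ((1 : A) ⊗ₜ[R] x : A ⊗[R] C) := by
    intro s'
    induction s' using TensorProduct.induction_on with
    | zero =>
      intro r hr hu
      exfalso
      rw [map_zero] at hr
      have : r = 0 := hfaith r 0 (by rw [← hr, zero_smul])
      rw [this] at hu
      exact not_isUnit_zero hu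
    | tmul a x =>
      intro r hr hu
      obtain ⟨rx, hrx⟩ := hmult _ (hI' x.1 x.2)
      have e : (a ⊗ₜ[R] x.1 : A ⊗[R] C) = a • ((1 : A) ⊗ₜ[R] x.1) := by
        rw [TensorProduct.smul_tmul', smul_eq_mul, mul_one]
      rw [LinearMap.baseChange_tmul, Submodule.subtype_apply, e, hrx, smul_smul] at hr
      have h1 : a * rx = r := hfaith _ _ hr
      have h2 : IsUnit rx := isUnit_of_mul_isUnit_right (h1 ▸ hu)
      refine ⟨x.1, x.2, ?_⟩
      rw [hrx, Algebra.smul_def]
      exact (h2.map _).mul θ.isUnit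
    | add t t' ht ht' =>
      intro r hr hu
      obtain ⟨r₁, hr₁⟩ := hall t
      obtain ⟨r₂, hr₂⟩ := hall t'
      rw [map_add, hr₁, hr₂, ← add_smul] at hr
      have h1 : r₁ + r₂ = r := hfaith _ _ hr
      rcases IsLocalRing.isUnit_or_isUnit_of_isUnit_add (h1 ▸ hu) with h | h
      · exact ht r₁ hr₁ h
      · exact ht' r₂ hr₂ h
  obtain ⟨x, hx, hxu⟩ := hmain s' 1 (by rw [hs', one_smul]) isUnit_one
  obtain ⟨u, hu⟩ := isUnit_of_isUnit_one_tmul A x hxu
  exact ⟨u, fun a => by rw [hu]; exact hI x hx a⟩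

end Abstract

end Groth.Agent.Lib.Helper25.Cliff
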