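import Mathlib
import Groth.Agent.Lib.Helper25CliffAC

/-!
# Odd rank: isometries of determinant one lift to the even Clifford group (helper25)
-/

set_option autoImplicit false
set_option linter.unusedSectionVars false
set_option linter.style.haveILetI false
universe u v u'

namespace Groth.Agent.Lib.Helper25.Cliff

open CliffordAlgebra TensorProduct QuadGrp Matrix
open Groth.Agent.Lib.Helper19QSplit

section LocalSplitOdd

variable {R : Type u} [CommRing R] [IsLocalRing R] {M : Type v} [AddCommGroup M] [Module R M]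
  [Module.Free R M] [Module.Finite R M]

/-- Over a local ring a semiregular form of odd rank splits over a local faithfully flat
extension. -/
theorem exists_local_isometry_addOne_hypSum (m : ℕ) (b : Module.Basis (Fin (2 * m + 1)) R M)
    (Q : QuadraticForm R M) (hQ : IsSemiregular b (LinearEquiv.refl R R) Q) :
    ∃ (R' : Type u) (_ : CommRing R') (_ : IsLocalRing R') (_ : Algebra R R'),
      Module.FaithfullyFlat R R' ∧
      Nonempty ((baseChangeForm R' Q).IsometryEquiv (addOne (hypSum R' m))) := by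
  classical
  have hU : IsUnit (halfDisc (Pi.basisFun R (Fin (2 * m + 1))) (LinearEquiv.refl R R)
      (qfForm (bmat b Q))) := by
    rw [halfDisc_qfForm_bmat]; exact hQ
  obtain ⟨A, _, _, hff, hfp, D, hD⟩ := exists_fppf_oddSplit (bmat b Q)
    (fun K _ φ => nondegenerate_of_isUnit_halfDisc (bmat b Q) hU φ) m (by simp)
  obtain ⟨q, hq, hqp⟩ := Ideal.exists_isPrime_liesOver_of_faithfullyFlat (B := A)
    (IsLocalRing.maximalIdeal R)
  let R' := Localization.AtPrime q
  have hflatR' : Module.Flat A R' := IsLocalization.flat R' q.primeCompl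
  haveI : Module.Flat R R' := Module.Flat.trans R A R'
  haveI : IsLocalHom (algebraMap R R') := by
    refine ((IsLocalRing.local_hom_TFAE (algebraMap R R')).out 0 4).mpr ?_
    rw [IsScalarTower.algebraMap_eq R A R', ← Ideal.comap_comap]
    have : Ideal.comap (algebraMap A R') (IsLocalRing.maximalIdeal R') = q :=
      IsLocalization.AtPrime.comap_maximalIdeal R' q
    rw [this]
    exact hqp.over.symm
  have hffR' : Module.FaithfullyFlat R R' := Module.FaithfullyFlat.of_flat_of_isLocalHom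
  refine ⟨R', inferInstance, inferInstance, inferInstance, hffR', ?_⟩
  have e : ((bmat b Q).map (algebraMap R A)).map (algebraMap A R') =
      (bmat b Q).map (algebraMap R R') := by
    rw [Matrix.map_map, IsScalarTower.algebraMap_eq R A R']
    rfl
  let D' : OddSplit ((bmat b Q).map (algebraMap R R')) m := e ▸ D.map (algebraMap A R')
  have hD' : qf ((bmat b Q).map (algebraMap R R')) D'.v₀ = 1 := by
    have h1 : qf (((bmat b Q).map (algebraMap R A)).map (algebraMap A R'))
        (D.map (algebraMap A R')).v₀ = 1 := by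
      change qf _ (algebraMap A R' ∘ D.v₀) = 1
      rw [← map_qf, hD, map_one]
    have key : ∀ (U' : Matrix (Fin (2 * m + 1)) (Fin (2 * m + 1)) R')
        (hU' : ((bmat b Q).map (algebraMap R A)).map (algebraMap A R') = U'),
        qf U' (hU' ▸ D.map (algebraMap A R')).v₀ = 1 := by
      intro U' hU'
      subst hU'
      exact h1
    exact key _ e
  obtain ⟨g, hg, hgx⟩ := D'.exists_matrix (sigma m)
  refine nonempty_isometryEquiv_of_matrix b Q R' (addOne (hypSum R' m)) g hg
    (oddCoordEquiv R' m) (fun x => ?_)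
  rw [hgx, hD', mul_one, addOne_apply, hypSum_apply, oddCoordEquiv_apply]
  rw [sq, add_comm]

end LocalSplitOdd

section OddLift

variable {R : Type u} [CommRing R] [IsLocalRing R] {M : Type v} [AddCommGroup M] [Module R M]
  [Module.Free R M] [Module.Finite R M]

/-- Skolem–Noether on the even part in odd rank: an even unit inducing `C(g)` on the even
part. -/
theorem exists_even_unit_conj_even (m : ℕ) (b : Module.Basis (Fin (2 * m + 1)) R M)
    (Q : QuadraticForm R M) (hQ : IsSemiregular b (LinearEquiv.refl R R) Q)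
    (g : M ≃ₗ[R] M) (hg : g ∈ O Q) :
    ∃ u : (CliffordAlgebra Q)ˣ, (u : CliffordAlgebra Q) ∈ evenOdd Q 0 ∧
      ∀ a ∈ evenOdd Q 0,
        CliffordAlgebra.map (isometryOfMem Q g hg) a = u * a * ↑u⁻¹ := by
  classical
  obtain ⟨R', iR, iL, iA, hff, ⟨f⟩⟩ := exists_local_isometry_addOne_hypSum m b Q hQ
  obtain ⟨E⟩ := nonempty_even_addOne_hypSum_equiv R' m
  let E' : (R' ⊗[R] ↥(CliffordAlgebra.even Q)) ≃ₐ[R'] Matrix (Fin (2 ^ m)) (Fin (2 ^ m)) R' :=
    (bcEven R' Q).trans ((evenEquivOfIsometry f).trans E)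
  let σ₀ : ↥(CliffordAlgebra.even Q) ≃ₐ[R] ↥(CliffordAlgebra.even Q) :=
    evenEquivOfIsometry (isoEquivOfMem g hg)
  let σA : (R' ⊗[R] ↥(CliffordAlgebra.even Q)) ≃ₐ[R'] (R' ⊗[R] ↥(CliffordAlgebra.even Q)) :=
    Algebra.TensorProduct.congr AlgEquiv.refl σ₀
  haveI : NeZero (2 ^ m) := ⟨by positivity⟩
  obtain ⟨θ, hθ⟩ := exists_unit_conj_of_algEquiv_matrix E' σA
  have hθ' : ∀ t : R' ⊗[R] ↥(CliffordAlgebra.even Q),
      Algebra.TensorProduct.map (AlgHom.id R' R') σ₀.toAlgHom t * θ = θ * t := by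
    intro t
    have h1 : Algebra.TensorProduct.map (AlgHom.id R' R') σ₀.toAlgHom t = σA t := rfl
    rw [h1, hθ t, mul_assoc, mul_assoc, Units.inv_mul, mul_one]
  have hZ := center_eq_bot_of_algEquiv_matrix E'
  have hinj : Function.Injective
      (algebraMap R' (R' ⊗[R] ↥(CliffordAlgebra.even Q))) := by
    intro a a' h
    have h1 := congrArg E' h
    rw [AlgEquiv.commutes, AlgEquiv.commutes] at h1
    have h2 := congrFun (congrFun h1 ⟨0, Nat.pos_of_ne_zero (NeZero.ne _)⟩)
      ⟨0, Nat.pos_of_ne_zero (NeZero.ne _)⟩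
    simpa [Matrix.algebraMap_matrix_apply] using h2
  obtain ⟨x, hx⟩ := exists_unit_intertwiner R' σ₀.toAlgHom θ hθ' hZ hinj
  refine ⟨Units.map (CliffordAlgebra.even Q).val.toMonoidHom x, ?_, ?_⟩
  · exact mem_even_iff.mp (x : ↥(CliffordAlgebra.even Q)).2
  · intro a ha
    have h1 := hx ⟨a, mem_even_iff.mpr ha⟩
    have h2 := congrArg Subtype.val h1
    change CliffordAlgebra.map (isometryOfMem Q g hg) a * (x : ↥(CliffordAlgebra.even Q)).1 =
      (x : ↥(CliffordAlgebra.even Q)).1 * a at h2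
    change _ = (x : ↥(CliffordAlgebra.even Q)).1 * a *
      ↑(Units.map (CliffordAlgebra.even Q).val.toMonoidHom x)⁻¹
    rw [← h2, mul_assoc]
    have h3 : (x : ↥(CliffordAlgebra.even Q)).1 *
        ↑(Units.map (CliffordAlgebra.even Q).val.toMonoidHom x)⁻¹ = 1 :=
      (Units.map (CliffordAlgebra.even Q).val.toMonoidHom x).mul_inv
    rw [h3, mul_one]

/-- **Odd rank, local base: isometries of determinant one lift to the even Clifford group.** -/
theorem exists_gSpin_conj_of_mem_SO'_odd (m : ℕ) (b : Module.Basis (Fin (2 * m + 1)) R M)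
    (Q : QuadraticForm R M) (hQ : IsSemiregular b (LinearEquiv.refl R R) Q)
    (g : M ≃ₗ[R] M) (hg : g ∈ SO' Q) :
    ∃ u ∈ GSpin Q, ∀ v : M, (u : CliffordAlgebra Q) * ι Q v * ↑u⁻¹ = ι Q (g v) := by
  obtain ⟨hgO, hker⟩ := hg
  have hdet : LinearMap.det g.toLinearMap = 1 := by
    have h1 : LinearEquiv.det g = 1 := MonoidHom.mem_ker.mp hker
    rw [← LinearEquiv.coe_det, h1, Units.val_one]
  obtain ⟨u, hu0, hconj⟩ := exists_even_unit_conj_even m b Q hQ g hgO
  obtain ⟨z, hz, hzu, hzgen⟩ := exists_odd_central_unit m b Q hQ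
  obtain ⟨zU, hzU⟩ := hzu
  rw [mem_oddCenter] at hz
  obtain ⟨hzc, hz1⟩ := hz
  -- `z⁻¹` is odd and central
  have hzinv1 : (↑zU⁻¹ : CliffordAlgebra Q) ∈ evenOdd Q 1 := by
    have := (isLocHomog_inv_aux Q zU 0 (by rw [zero_smul]; exact Submodule.zero_mem _)
      (by rw [sub_zero, one_smul, hzU]; exact hz1)).2
    rwa [sub_zero, one_smul] at this
  have hzinvc : (↑zU⁻¹ : CliffordAlgebra Q) ∈ Subalgebra.center R (CliffordAlgebra Q) :=
    inv_mem_center zU (hzU ▸ hzc)
  -- `C(g) z = lam • z`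
  have hCz : CliffordAlgebra.map (isometryOfMem Q g hgO) z ∈ oddCenter Q := by
    rw [mem_oddCenter]
    refine ⟨?_, map_mem_evenOdd _ 1 z hz1⟩
    rw [Subalgebra.mem_center_iff]
    intro y
    obtain ⟨y', rfl⟩ := (equivOfIsometry (isoEquivOfMem g hgO)).surjective y
    change CliffordAlgebra.map (isometryOfMem Q g hgO) y' * _ =
      _ * CliffordAlgebra.map (isometryOfMem Q g hgO) y'
    rw [← map_mul, ← map_mul, (Subalgebra.mem_center_iff (R := R)).mp hzc y']
  obtain ⟨lam, hlam⟩ := hzgen _ hCz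
  -- `lam ^ 2 = 1`
  have hzz : z * z ∈ (⊥ : Subalgebra R (CliffordAlgebra Q)) := by
    apply even_center_mem_bot m b Q hQ
    · exact Subalgebra.mul_mem _ hzc hzc
    · have := SetLike.mul_mem_graded hz1 hz1
      rwa [show (1 : ZMod 2) + 1 = 0 from rfl] at this
  obtain ⟨d, hd⟩ := Algebra.mem_bot.mp hzz
  have hlam2 : lam * lam = 1 := by
    have h1 : CliffordAlgebra.map (isometryOfMem Q g hgO) (z * z) = z * z := by
      rw [← hd, AlgHom.commutes]
    rw [map_mul, hlam, smul_mul_smul_comm] at h1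
    have h2 : ((lam * lam - 1) • (1 : CliffordAlgebra Q)) * (z * z) = 0 := by
      rw [smul_mul_assoc, one_mul, sub_smul, h1, one_smul, sub_self]
    have h3 : IsUnit (z * z) := by rw [← hzU]; exact (zU * zU).isUnit
    have h4 := h3.mul_left_eq_zero.mp h2
    rw [← Algebra.algebraMap_eq_smul_one] at h4
    have h5 := algebraMap_injective Q (by rw [h4, map_zero] : algebraMap R _ (lam * lam - 1) =
      algebraMap R _ 0)
    exact sub_eq_zero.mp h5
  -- the action on vectors
  have hvec : ∀ v, ι Q (g v) = lam • ((u : CliffordAlgebra Q) * ι Q v * ↑u⁻¹) := by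
    intro v
    have ha : ι Q v * (↑zU⁻¹ : CliffordAlgebra Q) ∈ evenOdd Q 0 := by
      have := SetLike.mul_mem_graded (ι_mem_evenOdd_one Q v) hzinv1
      rwa [show (1 : ZMod 2) + 1 = 0 from rfl] at this
    have h1 : ι Q v = ι Q v * (↑zU⁻¹ : CliffordAlgebra Q) * z := by
      rw [mul_assoc, ← hzU, Units.inv_mul, mul_one]
    have h2 : CliffordAlgebra.map (isometryOfMem Q g hgO) (ι Q v) = ι Q (g v) := by
      rw [CliffordAlgebra.map_apply_ι]; rfl
    rw [← h2]
    conv_lhs => rw [h1]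
    rw [map_mul, hconj _ ha, hlam, mul_smul_comm]
    congr 1
    have h3 : (↑zU⁻¹ : CliffordAlgebra Q) * ↑u⁻¹ = ↑u⁻¹ * ↑zU⁻¹ :=
      ((Subalgebra.mem_center_iff (R := R)).mp hzinvc _).symm
    calc (u : CliffordAlgebra Q) * (ι Q v * ↑zU⁻¹) * ↑u⁻¹ * z
        = (u : CliffordAlgebra Q) * ι Q v * (↑zU⁻¹ * ↑u⁻¹) * z := by simp only [mul_assoc]
      _ = (u : CliffordAlgebra Q) * ι Q v * ↑u⁻¹ * (↑zU⁻¹ * z) := by
          rw [h3]; simp only [mul_assoc]
      _ = (u : CliffordAlgebra Q) * ι Q v * ↑u⁻¹ := by rw [← hzU, Units.inv_mul, mul_one]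
  have hvec' : ∀ v, (u : CliffordAlgebra Q) * ι Q v * ↑u⁻¹ =
      ι Q ((lam • g.toLinearMap) v) := by
    intro v
    rw [LinearMap.smul_apply, map_smul, LinearEquiv.coe_coe, hvec v, smul_smul, hlam2, one_smul]
  have hdet2 := det_eq_one_of_even_conj Q b u hu0 (lam • g.toLinearMap) hvec'
  rw [LinearMap.det_smul, hdet, mul_one, Module.finrank_eq_card_basis b, Fintype.card_fin,
    pow_succ, pow_mul, sq, hlam2, one_pow, one_mul] at hdet2
  have hfin : ∀ v, (u : CliffordAlgebra Q) * ι Q v * ↑u⁻¹ = ι Q (g v) := by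
    intro v
    rw [hvec' v, hdet2, one_smul]
    rfl
  have hLH : u ∈ LH Q := by
    rw [mem_LH]
    refine ⟨1, IsIdempotentElem.one, by rwa [one_smul], ?_⟩
    rw [sub_self, zero_smul]
    exact Submodule.zero_mem _
  exact ⟨u, ⟨⟨mem_GPin'_of_conj u g hfin, hLH⟩, hu0⟩, hfin⟩

end OddLift

end Groth.Agent.Lib.Helper25.Cliff
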