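import Groth.Agent.Lib.Helper25CliffA
import Mathlib.LinearAlgebra.QuadraticForm.Prod
import Mathlib.Data.Matrix.Basis
import Mathlib.LinearAlgebra.Matrix.Notation
import Mathlib.LinearAlgebra.FreeModule.Finite.Matrix
import Mathlib.RingTheory.OrzechProperty
import Mathlib.RingTheory.Finiteness.Prod

/-!
# Adding a hyperbolic plane: `C(Q ⊥ H) ≃ M₂(C(Q))` (helper25)
-/

set_option autoImplicit false
set_option linter.unusedSectionVars false
set_option linter.style.haveILetI false
universe u v

namespace Groth.Agent.Lib.Helper25.Cliff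

open CliffordAlgebra Matrix

variable {R : Type u} [CommRing R] {M : Type v} [AddCommGroup M] [Module R M]
  (Q : QuadraticForm R M)

/-- The hyperbolic plane `(a, b) ↦ a * b`. -/
noncomputable def hyp (R : Type u) [CommRing R] : QuadraticForm R (R × R) :=
  QuadraticMap.linMulLin (LinearMap.fst R R R) (LinearMap.snd R R R)

@[simp] theorem hyp_apply (p : R × R) : hyp R p = p.1 * p.2 := rfl

/-- The generators of `M₂(C(Q))`. -/
noncomputable def hypGen : M × (R × R) →ₗ[R] Matrix (Fin 2) (Fin 2) (CliffordAlgebra Q) where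
  toFun p := !![ι Q p.1, algebraMap R _ p.2.1; algebraMap R _ p.2.2, -ι Q p.1]
  map_add' p q := by
    ext i j
    fin_cases i <;> fin_cases j <;> simp [add_comm]
  map_smul' c p := by
    ext i j
    fin_cases i <;> fin_cases j <;> simp [Algebra.smul_def]

theorem hypGen_apply (p : M × (R × R)) :
    hypGen Q p = !![ι Q p.1, algebraMap R _ p.2.1; algebraMap R _ p.2.2, -ι Q p.1] := rfl

theorem hypGen_sq (p : M × (R × R)) :
    hypGen Q p * hypGen Q p = algebraMap R _ ((Q.prod (hyp R)) p) := by
  rw [hypGen_apply, Matrix.mul_fin_two, Matrix.algebraMap_eq_diagonal]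
  ext i j
  fin_cases i <;> fin_cases j
  · simp [QuadraticMap.prod_apply, ι_sq_scalar, ← map_mul]
  · simp
    rw [Algebra.commutes, add_neg_cancel]
  · simp
    rw [Algebra.commutes, add_neg_cancel]
  · simp [QuadraticMap.prod_apply, ι_sq_scalar, ← map_mul, mul_comm, add_comm]

/-- The algebra map `C(Q ⊥ H) → M₂(C(Q))`. -/
noncomputable def hypHom :
    CliffordAlgebra (Q.prod (hyp R)) →ₐ[R] Matrix (Fin 2) (Fin 2) (CliffordAlgebra Q) :=
  CliffordAlgebra.lift _ ⟨hypGen Q, hypGen_sq Q⟩

theorem hypHom_ι (p : M × (R × R)) : hypHom Q (ι _ p) = hypGen Q p :=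
  CliffordAlgebra.lift_ι_apply _ _ p

theorem hypHom_surjective : Function.Surjective (hypHom Q) := by
  classical
  have hE12 : Matrix.single 0 1 (1 : CliffordAlgebra Q) ∈ (hypHom Q).range := by
    refine ⟨ι _ (0, (1, 0)), ?_⟩
    change hypHom Q (ι _ (0, (1, 0))) = _
    rw [hypHom_ι, hypGen_apply]
    ext i j
    fin_cases i <;> fin_cases j <;> simp [Matrix.single]
  have hE21 : Matrix.single 1 0 (1 : CliffordAlgebra Q) ∈ (hypHom Q).range := by
    refine ⟨ι _ (0, (0, 1)), ?_⟩
    change hypHom Q (ι _ (0, (0, 1))) = _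
    rw [hypHom_ι, hypGen_apply]
    ext i j
    fin_cases i <;> fin_cases j <;> simp [Matrix.single]
  have hE11 : Matrix.single 0 0 (1 : CliffordAlgebra Q) ∈ (hypHom Q).range := by
    have := (hypHom Q).range.mul_mem hE12 hE21
    rwa [Matrix.single_mul_single_same, mul_one] at this
  have hE22 : Matrix.single 1 1 (1 : CliffordAlgebra Q) ∈ (hypHom Q).range := by
    have := (hypHom Q).range.mul_mem hE21 hE12
    rwa [Matrix.single_mul_single_same, mul_one] at this
  have hT : ∀ c : CliffordAlgebra Q, Matrix.single 0 0 c ∈ (hypHom Q).range := by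
    intro c
    induction c using CliffordAlgebra.induction with
    | algebraMap r =>
      have : Matrix.single (0 : Fin 2) (0 : Fin 2) (algebraMap R (CliffordAlgebra Q) r) =
          r • Matrix.single 0 0 (1 : CliffordAlgebra Q) := by
        rw [Matrix.smul_single, Algebra.algebraMap_eq_smul_one]
      rw [this]
      exact (hypHom Q).range.smul_mem hE11 r
    | ι v =>
      have h1 : hypGen Q (v, (0, 0)) ∈ (hypHom Q).range := ⟨ι _ (v, (0, 0)), hypHom_ι Q _⟩
      have h2 := (hypHom Q).range.mul_mem hE11 h1
      have : Matrix.single (0 : Fin 2) (0 : Fin 2) (1 : CliffordAlgebra Q) * hypGen Q (v, (0, 0)) =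
          Matrix.single 0 0 (ι Q v) := by
        rw [hypGen_apply]
        ext i j
        fin_cases i <;> fin_cases j <;> simp [Matrix.single, Matrix.mul_apply]
      rwa [this] at h2
    | mul a b ha hb =>
      have := (hypHom Q).range.mul_mem ha hb
      rwa [Matrix.single_mul_single_same] at this
    | add a b ha hb =>
      rw [Matrix.single_add]
      exact (hypHom Q).range.add_mem ha hb
  have hL : ∀ i : Fin 2, Matrix.single i 0 (1 : CliffordAlgebra Q) ∈ (hypHom Q).range := by
    intro i
    fin_cases i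
    · exact hE11
    · exact hE21
  have hR : ∀ j : Fin 2, Matrix.single 0 j (1 : CliffordAlgebra Q) ∈ (hypHom Q).range := by
    intro j
    fin_cases j
    · exact hE11
    · exact hE12
  have hS : ∀ (i j : Fin 2) (c : CliffordAlgebra Q), Matrix.single i j c ∈ (hypHom Q).range := by
    intro i j c
    have := (hypHom Q).range.mul_mem ((hypHom Q).range.mul_mem (hL i) (hT c)) (hR j)
    rwa [Matrix.single_mul_single_same, Matrix.single_mul_single_same, one_mul, mul_one] at this
  intro A
  rw [← AlgHom.mem_range, Matrix.matrix_eq_sum_single A]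
  refine Subalgebra.sum_mem _ fun i _ => Subalgebra.sum_mem _ fun j _ => hS i j _

theorem hypHom_bijective [Module.Free R M] [Module.Finite R M] :
    Function.Bijective (hypHom Q) := by
  refine ⟨?_, hypHom_surjective Q⟩
  cases subsingleton_or_nontrivial R
  · haveI : Subsingleton (CliffordAlgebra (Q.prod (hyp R))) := Module.subsingleton R _
    exact Function.injective_of_subsingleton _
  have h1 : Module.finrank R (CliffordAlgebra (Q.prod (hyp R))) =
      2 ^ (Module.finrank R M + 2) := by
    rw [finrank_clifford, Module.finrank_prod, Module.finrank_prod, Module.finrank_self]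
  have h2 : Module.finrank R (Matrix (Fin 2) (Fin 2) (CliffordAlgebra Q)) =
      2 ^ (Module.finrank R M + 2) := by
    rw [Module.finrank_matrix, finrank_clifford, Fintype.card_fin, pow_add]
    ring
  let e : CliffordAlgebra (Q.prod (hyp R)) ≃ₗ[R] Matrix (Fin 2) (Fin 2) (CliffordAlgebra Q) :=
    LinearEquiv.ofFinrankEq _ _ (h1.trans h2.symm)
  exact OrzechProperty.injective_of_surjective_of_injective e.toLinearMap
    (hypHom Q).toLinearMap e.injective (hypHom_surjective Q)

/-- `C(Q ⊥ H) ≃ M₂(C(Q))`. -/
noncomputable def hypEquiv [Module.Free R M] [Module.Finite R M] :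
    CliffordAlgebra (Q.prod (hyp R)) ≃ₐ[R] Matrix (Fin 2) (Fin 2) (CliffordAlgebra Q) :=
  AlgEquiv.ofBijective (hypHom Q) (hypHom_bijective Q)

end Groth.Agent.Lib.Helper25.Cliff
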