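import Groth.Agent.Lib.Helper25CliffB
import Mathlib.LinearAlgebra.CliffordAlgebra.Even

/-!
# Adding a hyperbolic plane, graded version (helper25)

Given `ε ∈ C(Q)` even, idempotent, with `v ε = (1 - ε) v` for all vectors `v` (a "parity idempotent"),
the isomorphism `C(Q ⊥ H) ≃ M₂(C(Q))` can be conjugated so that vectors go to antidiagonal
matrices.  Consequences: the even part of `C(Q ⊥ H)` is `C(Q) × C(Q)`, and `Q ⊥ H` has again a
parity idempotent.
-/

set_option autoImplicit false
set_option linter.unusedSectionVars false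
set_option linter.style.haveILetI false
universe u v

namespace Groth.Agent.Lib.Helper25.Cliff

open CliffordAlgebra Matrix

variable {R : Type u} [CommRing R] {M : Type v} [AddCommGroup M] [Module R M]
  (Q : QuadraticForm R M)

/-- An algebra map from a Clifford algebra into a `ℤ/2`-graded algebra which sends vectors to odd
elements respects the gradings. -/
theorem map_mem_of_mem_evenOdd {B : Type*} [Ring B] [Algebra R B] (G : ZMod 2 → Submodule R B)
    (h1 : (1 : B) ∈ G 0) (hmul : ∀ i j x y, x ∈ G i → y ∈ G j → x * y ∈ G (i + j))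
    (F : CliffordAlgebra Q →ₐ[R] B) (hF : ∀ v, F (ι Q v) ∈ G 1) (i : ZMod 2)
    (x : CliffordAlgebra Q) (hx : x ∈ evenOdd Q i) : F x ∈ G i := by
  refine evenOdd_induction Q i (motive := fun x _ => F x ∈ G i) ?_ ?_ ?_ x hx
  · intro v hv
    fin_cases i
    · change v ∈ LinearMap.range (ι Q) ^ 0 at hv
      rw [pow_zero, Submodule.mem_one] at hv
      obtain ⟨r, rfl⟩ := hv
      rw [AlgHom.commutes, Algebra.algebraMap_eq_smul_one]
      exact Submodule.smul_mem _ _ h1
    · change v ∈ LinearMap.range (ι Q) ^ 1 at hv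
      rw [pow_one] at hv
      obtain ⟨m, rfl⟩ := hv
      exact hF m
  · intro x y hx hy ihx ihy
    rw [map_add]
    exact Submodule.add_mem _ ihx ihy
  · intro m₁ m₂ x hx ih
    rw [map_mul, map_mul]
    have h2 := hmul 1 1 _ _ (hF m₁) (hF m₂)
    have h3 := hmul (1 + 1) i _ _ h2 ih
    have : (1 : ZMod 2) + 1 + i = i := by
      have : (1 : ZMod 2) + 1 = 0 := rfl
      rw [this, zero_add]
    rwa [this] at h3

/-- A parity idempotent of `C(Q)`. -/
structure IsParityIdem (ε : CliffordAlgebra Q) : Prop where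
  even : ε ∈ evenOdd Q 0
  idem : ε * ε = ε
  comm : ∀ v, ι Q v * ε = (1 - ε) * ι Q v

end Groth.Agent.Lib.Helper25.Cliff

namespace Groth.Agent.Lib.Helper25.Cliff

open CliffordAlgebra Matrix

variable {R : Type u} [CommRing R] {M : Type v} [AddCommGroup M] [Module R M]
  {Q : QuadraticForm R M}

section Swap

variable {ε : CliffordAlgebra Q} (hε : IsParityIdem Q ε)

include hε

theorem IsParityIdem.mul_one_sub : ε * (1 - ε) = 0 := by
  rw [mul_sub, mul_one, hε.idem, sub_self]

theorem IsParityIdem.one_sub_mul : (1 - ε) * ε = 0 := by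
  rw [sub_mul, one_mul, hε.idem, sub_self]

theorem IsParityIdem.comm' (v : M) : ι Q v * (1 - ε) = ε * ι Q v := by
  rw [mul_sub, mul_one, hε.comm, sub_mul, one_mul, sub_sub_cancel]

theorem IsParityIdem.one_sub_idem : (1 - ε) * (1 - ε) = 1 - ε := by
  rw [mul_sub, mul_one, hε.one_sub_mul, sub_zero]

end Swap

/-- The swap matrix attached to a parity idempotent. -/
noncomputable def swapMat (ε : CliffordAlgebra Q) : Matrix (Fin 2) (Fin 2) (CliffordAlgebra Q) :=
  !![ε, 1 - ε; 1 - ε, ε]

theorem swapMat_mul_self {ε : CliffordAlgebra Q} (hε : IsParityIdem Q ε) :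
    swapMat ε * swapMat ε = 1 := by
  rw [swapMat, Matrix.mul_fin_two, Matrix.one_fin_two]
  rw [hε.idem, hε.one_sub_idem, hε.mul_one_sub, hε.one_sub_mul]
  simp

/-- Conjugation by the swap matrix. -/
noncomputable def swapConj {ε : CliffordAlgebra Q} (hε : IsParityIdem Q ε) :
    Matrix (Fin 2) (Fin 2) (CliffordAlgebra Q) ≃ₐ[R] Matrix (Fin 2) (Fin 2) (CliffordAlgebra Q) :=
  AlgEquiv.ofAlgHom
    { toFun := fun A => swapMat ε * A * swapMat ε
      map_one' := by rw [mul_one, swapMat_mul_self hε]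
      map_mul' := fun A B => by
        calc swapMat ε * (A * B) * swapMat ε
            = swapMat ε * A * (1 : Matrix (Fin 2) (Fin 2) (CliffordAlgebra Q)) * B * swapMat ε := by
              rw [mul_one]; simp only [mul_assoc]
          _ = swapMat ε * A * swapMat ε * (swapMat ε * B * swapMat ε) := by
              rw [← swapMat_mul_self hε]; simp only [mul_assoc]
      map_zero' := by rw [mul_zero, zero_mul]
      map_add' := fun A B => by rw [mul_add, add_mul]
      commutes' := fun r => by
        rw [Algebra.algebraMap_eq_smul_one, mul_smul_comm, mul_one, smul_mul_assoc,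
          swapMat_mul_self hε] }
    { toFun := fun A => swapMat ε * A * swapMat ε
      map_one' := by rw [mul_one, swapMat_mul_self hε]
      map_mul' := fun A B => by
        calc swapMat ε * (A * B) * swapMat ε
            = swapMat ε * A * (1 : Matrix (Fin 2) (Fin 2) (CliffordAlgebra Q)) * B * swapMat ε := by
              rw [mul_one]; simp only [mul_assoc]
          _ = swapMat ε * A * swapMat ε * (swapMat ε * B * swapMat ε) := by
              rw [← swapMat_mul_self hε]; simp only [mul_assoc]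
      map_zero' := by rw [mul_zero, zero_mul]
      map_add' := fun A B => by rw [mul_add, add_mul]
      commutes' := fun r => by
        rw [Algebra.algebraMap_eq_smul_one, mul_smul_comm, mul_one, smul_mul_assoc,
          swapMat_mul_self hε] }
    (by
      ext A : 1
      change swapMat ε * (swapMat ε * A * swapMat ε) * swapMat ε = A
      calc swapMat ε * (swapMat ε * A * swapMat ε) * swapMat ε
          = (swapMat ε * swapMat ε) * A * (swapMat ε * swapMat ε) := by simp only [mul_assoc]
        _ = A := by rw [swapMat_mul_self hε, one_mul, mul_one])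
    (by
      ext A : 1
      change swapMat ε * (swapMat ε * A * swapMat ε) * swapMat ε = A
      calc swapMat ε * (swapMat ε * A * swapMat ε) * swapMat ε
          = (swapMat ε * swapMat ε) * A * (swapMat ε * swapMat ε) := by simp only [mul_assoc]
        _ = A := by rw [swapMat_mul_self hε, one_mul, mul_one])

theorem swapConj_apply {ε : CliffordAlgebra Q} (hε : IsParityIdem Q ε)
    (A : Matrix (Fin 2) (Fin 2) (CliffordAlgebra Q)) :
    swapConj hε A = swapMat ε * A * swapMat ε := rfl

end Groth.Agent.Lib.Helper25.Cliff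

namespace Groth.Agent.Lib.Helper25.Cliff

open CliffordAlgebra Matrix

variable {R : Type u} [CommRing R] {M : Type v} [AddCommGroup M] [Module R M]
  {Q : QuadraticForm R M}

section DGrade

variable (R) (C : Type*) [Ring C] [Algebra R C]

/-- Diagonal matrices (degree `0`) and antidiagonal matrices (degree `1`). -/
def dgrade (i : ZMod 2) : Submodule R (Matrix (Fin 2) (Fin 2) C) :=
  if i = 0 then
    { carrier := {A | A 0 1 = 0 ∧ A 1 0 = 0}
      add_mem' := fun {A B} hA hB => ⟨by rw [Matrix.add_apply, hA.1, hB.1, add_zero],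
        by rw [Matrix.add_apply, hA.2, hB.2, add_zero]⟩
      zero_mem' := ⟨rfl, rfl⟩
      smul_mem' := fun c A hA => ⟨by rw [Matrix.smul_apply, hA.1, smul_zero],
        by rw [Matrix.smul_apply, hA.2, smul_zero]⟩ }
  else
    { carrier := {A | A 0 0 = 0 ∧ A 1 1 = 0}
      add_mem' := fun {A B} hA hB => ⟨by rw [Matrix.add_apply, hA.1, hB.1, add_zero],
        by rw [Matrix.add_apply, hA.2, hB.2, add_zero]⟩
      zero_mem' := ⟨rfl, rfl⟩
      smul_mem' := fun c A hA => ⟨by rw [Matrix.smul_apply, hA.1, smul_zero],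
        by rw [Matrix.smul_apply, hA.2, smul_zero]⟩ }

variable {R C}

theorem mem_dgrade_zero {A : Matrix (Fin 2) (Fin 2) C} :
    A ∈ dgrade R C 0 ↔ A 0 1 = 0 ∧ A 1 0 = 0 := by
  rw [dgrade, if_pos rfl]; rfl

theorem mem_dgrade_one {A : Matrix (Fin 2) (Fin 2) C} :
    A ∈ dgrade R C 1 ↔ A 0 0 = 0 ∧ A 1 1 = 0 := by
  rw [dgrade, if_neg (by decide)]; rfl

theorem one_mem_dgrade : (1 : Matrix (Fin 2) (Fin 2) C) ∈ dgrade R C 0 := by
  rw [mem_dgrade_zero]
  constructor <;> simp

theorem mul_mem_dgrade (i j : ZMod 2) (A B : Matrix (Fin 2) (Fin 2) C) (hA : A ∈ dgrade R C i)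
    (hB : B ∈ dgrade R C j) : A * B ∈ dgrade R C (i + j) := by
  fin_cases i <;> fin_cases j
  · change A ∈ dgrade R C 0 at hA
    change B ∈ dgrade R C 0 at hB
    change A * B ∈ dgrade R C 0
    rw [mem_dgrade_zero] at hA hB ⊢
    simp [Matrix.mul_apply, Fin.sum_univ_two, hA.1, hA.2, hB.1, hB.2]
  · change A ∈ dgrade R C 0 at hA
    change B ∈ dgrade R C 1 at hB
    change A * B ∈ dgrade R C 1
    rw [mem_dgrade_zero] at hA
    rw [mem_dgrade_one] at hB ⊢
    simp [Matrix.mul_apply, Fin.sum_univ_two, hA.1, hA.2, hB.1, hB.2]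
  · change A ∈ dgrade R C 1 at hA
    change B ∈ dgrade R C 0 at hB
    change A * B ∈ dgrade R C 1
    rw [mem_dgrade_zero] at hB
    rw [mem_dgrade_one] at hA ⊢
    simp [Matrix.mul_apply, Fin.sum_univ_two, hA.1, hA.2, hB.1, hB.2]
  · change A ∈ dgrade R C 1 at hA
    change B ∈ dgrade R C 1 at hB
    change A * B ∈ dgrade R C 0
    rw [mem_dgrade_one] at hA hB
    rw [mem_dgrade_zero]
    simp [Matrix.mul_apply, Fin.sum_univ_two, hA.1, hA.2, hB.1, hB.2]

theorem eq_zero_of_mem_dgrade {A : Matrix (Fin 2) (Fin 2) C} (h0 : A ∈ dgrade R C 0)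
    (h1 : A ∈ dgrade R C 1) : A = 0 := by
  rw [mem_dgrade_zero] at h0
  rw [mem_dgrade_one] at h1
  ext i j
  fin_cases i <;> fin_cases j
  · exact h1.1
  · exact h0.1
  · exact h0.2
  · exact h1.2

end DGrade

section Step

variable {ε : CliffordAlgebra Q} (hε : IsParityIdem Q ε)

theorem swapConj_hypGen_mem (p : M × (R × R)) :
    swapConj hε (hypGen Q p) ∈ dgrade R (CliffordAlgebra Q) 1 := by
  rw [mem_dgrade_one, swapConj_apply, swapMat, hypGen_apply]
  have e1 := hε.mul_one_sub
  have e2 := hε.one_sub_mul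
  have e3 := hε.comm p.1
  have e4 := hε.comm' p.1
  have c1 : ∀ r : R, algebraMap R (CliffordAlgebra Q) r * ε = ε * algebraMap R _ r :=
    fun r => Algebra.commutes r ε
  have c2 : ∀ r : R, algebraMap R (CliffordAlgebra Q) r * (1 - ε) = (1 - ε) * algebraMap R _ r :=
    fun r => Algebra.commutes r (1 - ε)
  constructor
  · simp only [Matrix.mul_apply, Fin.sum_univ_two, Matrix.of_apply, Matrix.cons_val', Matrix.cons_val_zero,
      Matrix.cons_val_one, Matrix.cons_val_fin_one]
    rw [add_mul, add_mul, mul_assoc, mul_assoc, mul_assoc, mul_assoc, e3, c1, c2, neg_mul, e4,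
      ← mul_assoc, ← mul_assoc, ← mul_assoc, e1, e2, mul_neg, ← mul_assoc, e2]
    simp
  · simp only [Matrix.mul_apply, Fin.sum_univ_two, Matrix.of_apply, Matrix.cons_val', Matrix.cons_val_zero,
      Matrix.cons_val_one, Matrix.cons_val_fin_one]
    rw [add_mul, add_mul, mul_assoc, mul_assoc, mul_assoc, mul_assoc, e4, c2, c1, neg_mul, e3,
      ← mul_assoc, ← mul_assoc, ← mul_assoc, e2, e1, mul_neg, ← mul_assoc, e1]
    simp

variable [Module.Free R M] [Module.Finite R M]

/-- `C(Q ⊥ H) ≃ M₂(C(Q))`, vectors going to antidiagonal matrices. -/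
noncomputable def hypEquiv' : CliffordAlgebra (Q.prod (hyp R)) ≃ₐ[R]
    Matrix (Fin 2) (Fin 2) (CliffordAlgebra Q) :=
  (hypEquiv Q).trans (swapConj hε)

theorem hypEquiv'_ι (p : M × (R × R)) :
    hypEquiv' hε (ι _ p) = swapConj hε (hypGen Q p) := by
  change swapConj hε (hypHom Q (ι _ p)) = _
  rw [hypHom_ι]

theorem hypEquiv'_mem (i : ZMod 2) (x : CliffordAlgebra (Q.prod (hyp R)))
    (hx : x ∈ evenOdd (Q.prod (hyp R)) i) :
    hypEquiv' hε x ∈ dgrade R (CliffordAlgebra Q) i := by
  refine map_mem_of_mem_evenOdd (Q.prod (hyp R)) (dgrade R (CliffordAlgebra Q)) one_mem_dgrade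
    mul_mem_dgrade (hypEquiv' hε : _ →ₐ[R] _) (fun p => ?_) i x hx
  change hypEquiv' hε (ι _ p) ∈ _
  rw [hypEquiv'_ι]
  exact swapConj_hypGen_mem hε p

theorem mem_evenOdd_of_hypEquiv'_mem (i : ZMod 2) (x : CliffordAlgebra (Q.prod (hyp R)))
    (hx : hypEquiv' hε x ∈ dgrade R (CliffordAlgebra Q) i) :
    x ∈ evenOdd (Q.prod (hyp R)) i := by
  have hc := evenOdd_isCompl (Q.prod (hyp R))
  have hx' : x ∈ evenOdd (Q.prod (hyp R)) 0 ⊔ evenOdd (Q.prod (hyp R)) 1 := by
    rw [hc.sup_eq_top]; trivial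
  obtain ⟨x₀, h₀, x₁, h₁, rfl⟩ := Submodule.mem_sup.mp hx'
  have m₀ := hypEquiv'_mem hε 0 x₀ h₀
  have m₁ := hypEquiv'_mem hε 1 x₁ h₁
  rw [map_add] at hx
  fin_cases i
  · change hypEquiv' hε x₀ + hypEquiv' hε x₁ ∈ dgrade R (CliffordAlgebra Q) 0 at hx
    have h2 : hypEquiv' hε x₁ ∈ dgrade R (CliffordAlgebra Q) 0 := by
      have := Submodule.sub_mem _ hx m₀
      rwa [add_sub_cancel_left] at this
    have h3 : hypEquiv' hε x₁ = 0 := eq_zero_of_mem_dgrade h2 m₁
    have h4 : x₁ = 0 := by
      rw [← map_zero (hypEquiv' hε)] at h3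
      exact (hypEquiv' hε).injective h3
    rw [h4, add_zero]
    exact h₀
  · change hypEquiv' hε x₀ + hypEquiv' hε x₁ ∈ dgrade R (CliffordAlgebra Q) 1 at hx
    have h2 : hypEquiv' hε x₀ ∈ dgrade R (CliffordAlgebra Q) 1 := by
      have := Submodule.sub_mem _ hx m₁
      rwa [add_sub_cancel_right] at this
    have h3 : hypEquiv' hε x₀ = 0 := eq_zero_of_mem_dgrade m₀ h2
    have h4 : x₀ = 0 := by
      rw [← map_zero (hypEquiv' hε)] at h3
      exact (hypEquiv' hε).injective h3
    rw [h4, zero_add]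
    exact h₁

/-- The new parity idempotent of `Q ⊥ H`. -/
noncomputable def nextIdem : CliffordAlgebra (Q.prod (hyp R)) :=
  (hypEquiv' hε).symm (Matrix.single 0 0 1)

theorem hypEquiv'_nextIdem : hypEquiv' hε (nextIdem hε) = Matrix.single 0 0 1 :=
  (hypEquiv' hε).apply_symm_apply _

theorem isParityIdem_nextIdem : IsParityIdem (Q.prod (hyp R)) (nextIdem hε) where
  even := by
    apply mem_evenOdd_of_hypEquiv'_mem hε
    rw [hypEquiv'_nextIdem, mem_dgrade_zero]
    constructor <;> simp [Matrix.single]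
  idem := by
    apply (hypEquiv' hε).injective
    rw [map_mul, hypEquiv'_nextIdem, Matrix.single_mul_single_same, mul_one]
  comm := fun p => by
    apply (hypEquiv' hε).injective
    rw [map_mul, map_mul, map_sub, map_one, hypEquiv'_nextIdem]
    have hm := hypEquiv'_mem hε 1 (ι _ p) (ι_mem_evenOdd_one _ p)
    rw [mem_dgrade_one] at hm
    ext i j
    fin_cases i <;> fin_cases j <;>
      simp [Matrix.mul_apply, Fin.sum_univ_two, Matrix.single, hm.1, hm.2, Matrix.sub_apply,
        Matrix.one_apply]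

/-- The even part of `C(Q ⊥ H)` is `C(Q) × C(Q)`. -/
noncomputable def evenHypHom :
    ↥(CliffordAlgebra.even (Q.prod (hyp R))) →ₐ[R] CliffordAlgebra Q × CliffordAlgebra Q where
  toFun u := (hypEquiv' hε u.1 0 0, hypEquiv' hε u.1 1 1)
  map_one' := by
    simp
  map_mul' u v := by
    have hu := hypEquiv'_mem hε 0 u.1
      (by rw [← CliffordAlgebra.even_toSubmodule]; exact u.2)
    have hv := hypEquiv'_mem hε 0 v.1
      (by rw [← CliffordAlgebra.even_toSubmodule]; exact v.2)
    rw [mem_dgrade_zero] at hu hv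
    ext
    · simp [Matrix.mul_apply, Fin.sum_univ_two, hu.1, hu.2, hv.1, hv.2]
    · simp [Matrix.mul_apply, Fin.sum_univ_two, hu.1, hu.2, hv.1, hv.2]
  map_zero' := by simp
  map_add' u v := by simp
  commutes' r := by
    ext <;> simp [Matrix.algebraMap_matrix_apply]

theorem evenHypHom_bijective : Function.Bijective (evenHypHom hε) := by
  constructor
  · rw [injective_iff_map_eq_zero]
    intro u hu
    have hu0 := hypEquiv'_mem hε 0 u.1
      (by rw [← CliffordAlgebra.even_toSubmodule]; exact u.2)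
    rw [mem_dgrade_zero] at hu0
    have h1 : hypEquiv' hε u.1 0 0 = 0 := congrArg Prod.fst hu
    have h2 : hypEquiv' hε u.1 1 1 = 0 := congrArg Prod.snd hu
    have h3 : hypEquiv' hε u.1 = 0 := by
      ext i j
      fin_cases i <;> fin_cases j
      · exact h1
      · exact hu0.1
      · exact hu0.2
      · exact h2
    have h4 : u.1 = 0 := by
      rw [← map_zero (hypEquiv' hε)] at h3
      exact (hypEquiv' hε).injective h3
    exact Subtype.ext h4
  · rintro ⟨x, y⟩
    let A : Matrix (Fin 2) (Fin 2) (CliffordAlgebra Q) := !![x, 0; 0, y]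
    have hA : A ∈ dgrade R (CliffordAlgebra Q) 0 := by
      rw [mem_dgrade_zero]
      constructor <;> simp [A]
    have hu : (hypEquiv' hε).symm A ∈ evenOdd (Q.prod (hyp R)) 0 := by
      apply mem_evenOdd_of_hypEquiv'_mem hε
      rw [AlgEquiv.apply_symm_apply]
      exact hA
    refine ⟨⟨(hypEquiv' hε).symm A, by rw [← SetLike.mem_coe, ← Subalgebra.coe_toSubmodule,
      CliffordAlgebra.even_toSubmodule]; exact hu⟩, ?_⟩
    change (hypEquiv' hε ((hypEquiv' hε).symm A) 0 0, hypEquiv' hε ((hypEquiv' hε).symm A) 1 1) = _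
    rw [AlgEquiv.apply_symm_apply]
    simp [A]

/-- The even part of `C(Q ⊥ H)` is `C(Q) × C(Q)`. -/
noncomputable def evenHypEquiv :
    ↥(CliffordAlgebra.even (Q.prod (hyp R))) ≃ₐ[R] CliffordAlgebra Q × CliffordAlgebra Q :=
  AlgEquiv.ofBijective (evenHypHom hε) (evenHypHom_bijective hε)

end Step

end Groth.Agent.Lib.Helper25.Cliff
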