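import Mathlib
import Groth.Agent.Lib.Helper25Shear

/-!
# Helper25CoactBrA: the "regular representation" of `C ⊗ A` for a finite projective `A` (helper25)

For an `R`-algebra `A` which is a retract `p ∘ i = id` of a finite free module `ι → R`, and any
commutative `R`-algebra `C`, the multiplicative map `Fm : C ⊗ A → End_C (C ⊗ (ι → R))`
(`z ↦ i ∘ (z * ·) ∘ p + (1 - i ∘ p)`), its characteristic polynomial, naturality in `C`,
invariance under `C`-algebra automorphisms of `C ⊗ A`, and Cayley–Hamilton.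
-/

set_option autoImplicit false
universe u v w

namespace Groth.Agent.Lib.Helper25.CoactBr

open TensorProduct

section Semilinear

theorem toMatrix_eq_map_of_semilinear {C C' M M' ι : Type*} [CommRing C] [CommRing C']
    [AddCommGroup M] [Module C M] [AddCommGroup M'] [Module C' M'] [Fintype ι] [DecidableEq ι]
    (φ : C →+* C') (b : Module.Basis ι C M) (b' : Module.Basis ι C' M') (Φ : M →+ M')
    (hΦ : ∀ c m, Φ (c • m) = φ c • Φ m) (hb : ∀ i, Φ (b i) = b' i)
    (f : Module.End C M) (f' : Module.End C' M') (h : ∀ m, Φ (f m) = f' (Φ m)) :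
    LinearMap.toMatrix b' b' f' = (LinearMap.toMatrix b b f).map φ := by
  have hrepr : ∀ m j, b'.repr (Φ m) j = φ (b.repr m j) := by
    intro m j
    have hm : m = ∑ l, b.repr m l • b l := (b.sum_repr m).symm
    conv_lhs => rw [hm]
    rw [map_sum]
    simp only [hΦ, hb, map_sum, map_smul, Finsupp.coe_finset_sum, Finset.sum_apply,
      Finsupp.smul_apply, Module.Basis.repr_self, Finsupp.single_apply, smul_eq_mul, mul_ite,
      mul_one, mul_zero, Finset.sum_ite_eq', Finset.mem_univ, if_true]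
  ext j k
  rw [Matrix.map_apply, LinearMap.toMatrix_apply, LinearMap.toMatrix_apply, ← hb k, ← h, hrepr]

theorem charpoly_eq_map_of_semilinear {C C' M M' ι : Type*} [CommRing C] [CommRing C']
    [AddCommGroup M] [Module C M] [AddCommGroup M'] [Module C' M'] [Fintype ι] [DecidableEq ι]
    [Module.Free C M] [Module.Finite C M] [Module.Free C' M'] [Module.Finite C' M']
    (φ : C →+* C') (b : Module.Basis ι C M) (b' : Module.Basis ι C' M') (Φ : M →+ M')
    (hΦ : ∀ c m, Φ (c • m) = φ c • Φ m) (hb : ∀ i, Φ (b i) = b' i)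
    (f : Module.End C M) (f' : Module.End C' M') (h : ∀ m, Φ (f m) = f' (Φ m)) :
    f'.charpoly = f.charpoly.map φ := by
  rw [← LinearMap.charpoly_toMatrix f b, ← LinearMap.charpoly_toMatrix f' b',
    ← Matrix.charpoly_map, toMatrix_eq_map_of_semilinear φ b b' Φ hΦ hb f f' h]

theorem det_eq_map_of_semilinear {C C' M M' ι : Type*} [CommRing C] [CommRing C']
    [AddCommGroup M] [Module C M] [AddCommGroup M'] [Module C' M'] [Fintype ι] [DecidableEq ι]
    (φ : C →+* C') (b : Module.Basis ι C M) (b' : Module.Basis ι C' M') (Φ : M →+ M')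
    (hΦ : ∀ c m, Φ (c • m) = φ c • Φ m) (hb : ∀ i, Φ (b i) = b' i)
    (f : Module.End C M) (f' : Module.End C' M') (h : ∀ m, Φ (f m) = f' (Φ m)) :
    LinearMap.det f' = φ (LinearMap.det f) := by
  rw [← LinearMap.det_toMatrix b, ← LinearMap.det_toMatrix b',
    toMatrix_eq_map_of_semilinear φ b b' Φ hΦ hb f f' h, RingHom.map_det]
  rfl

end Semilinear

section Rep

variable {R : Type u} [CommRing R] {A : Type v} [CommRing A] [Algebra R A]
  {ι : Type w} [Fintype ι] [DecidableEq ι]
  (i : A →ₗ[R] (ι → R)) (p : (ι → R) →ₗ[R] A)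

variable (C : Type*) [CommRing C] [Algebra R C]

/-- `End_C (C ⊗ A) → End_C (C ⊗ (ι → R))`, `θ ↦ i θ p + (1 - i p)`: multiplicative and unital
when `p i = 1`. -/
noncomputable def Um (θ : Module.End C (C ⊗[R] A)) : Module.End C (C ⊗[R] (ι → R)) :=
  (i.baseChange C) ∘ₗ θ ∘ₗ (p.baseChange C) +
    (LinearMap.id - (i.baseChange C) ∘ₗ (p.baseChange C))

variable {C}

theorem Um_apply (θ : Module.End C (C ⊗[R] A)) (v : C ⊗[R] (ι → R)) :
    Um i p C θ v = i.baseChange C (θ (p.baseChange C v)) +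
      (v - i.baseChange C (p.baseChange C v)) := rfl

variable (hpi : p ∘ₗ i = LinearMap.id)
include hpi

theorem pC_iC (y : C ⊗[R] A) : p.baseChange C (i.baseChange C y) = y := by
  have h : (p.baseChange C) ∘ₗ (i.baseChange C) = LinearMap.id := by
    rw [← LinearMap.baseChange_comp, hpi, LinearMap.baseChange_id]
  exact LinearMap.congr_fun h y

theorem Um_mul (θ θ' : Module.End C (C ⊗[R] A)) :
    Um i p C (θ * θ') = Um i p C θ * Um i p C θ' := by
  apply LinearMap.ext
  intro v
  simp only [Um_apply, Module.End.mul_apply, map_add, map_sub, pC_iC i p hpi]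
  abel_nf

theorem Um_one : Um i p C (1 : Module.End C (C ⊗[R] A)) = 1 := by
  apply LinearMap.ext
  intro v
  simp only [Um_apply, Module.End.one_apply]
  abel

/-- `p ∘ Um θ ∘ i = θ`. -/
theorem pC_Um_iC (θ : Module.End C (C ⊗[R] A)) (y : C ⊗[R] A) :
    p.baseChange C (Um i p C θ (i.baseChange C y)) = θ y := by
  simp only [Um_apply, map_add, map_sub, pC_iC i p hpi]
  abel

theorem Um_pow (θ : Module.End C (C ⊗[R] A)) (k : ℕ) : Um i p C (θ ^ k) = Um i p C θ ^ k := by
  induction k with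
  | zero => rw [pow_zero, pow_zero, Um_one i p hpi]
  | succ k ih => rw [pow_succ, pow_succ, Um_mul i p hpi, ih]

omit hpi

variable (C)

/-- The representation `z ↦ i (z * ·) p + (1 - i p)`. -/
noncomputable def Fm (z : C ⊗[R] A) : Module.End C (C ⊗[R] (ι → R)) :=
  Um i p C (Algebra.lmul C (C ⊗[R] A) z)

variable {C}

theorem Fm_apply (z : C ⊗[R] A) (v : C ⊗[R] (ι → R)) :
    Fm i p C z v = i.baseChange C (z * p.baseChange C v) +
      (v - i.baseChange C (p.baseChange C v)) := rfl

include hpi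

theorem Fm_mul (z z' : C ⊗[R] A) : Fm i p C (z * z') = Fm i p C z * Fm i p C z' := by
  rw [Fm, map_mul, Um_mul i p hpi]
  rfl

theorem Fm_one : Fm i p C (1 : C ⊗[R] A) = 1 := by
  rw [Fm, map_one, Um_one i p hpi]

omit hpi

section Nat

variable {C' : Type*} [CommRing C'] [Algebra R C'] (φ : C →ₐ[R] C')

/-- `φ ⊗ id` on `C ⊗ (ι → R)`. -/
noncomputable def ΦP : C ⊗[R] (ι → R) →ₗ[R] C' ⊗[R] (ι → R) :=
  TensorProduct.map φ.toLinearMap LinearMap.id

theorem ΦP_tmul (c : C) (v : ι → R) : ΦP (ι := ι) φ (c ⊗ₜ[R] v) = φ c ⊗ₜ[R] v := rfl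

theorem ΦP_smul (c : C) (v : C ⊗[R] (ι → R)) : ΦP φ (c • v) = φ c • ΦP φ v := by
  induction v using TensorProduct.induction_on with
  | zero => simp
  | add x y hx hy => simp only [smul_add, map_add, hx, hy]
  | tmul a b => simp only [TensorProduct.smul_tmul', ΦP_tmul, smul_eq_mul, map_mul]

theorem ΦP_iC (y : C ⊗[R] A) :
    ΦP φ (i.baseChange C y) =
      i.baseChange C' (Algebra.TensorProduct.map φ (AlgHom.id R A) y) := by
  induction y using TensorProduct.induction_on with
  | zero => simp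
  | add x y hx hy => simp only [map_add, hx, hy]
  | tmul a b => simp [ΦP_tmul]

theorem map_pC (v : C ⊗[R] (ι → R)) :
    Algebra.TensorProduct.map φ (AlgHom.id R A) (p.baseChange C v) =
      p.baseChange C' (ΦP φ v) := by
  induction v using TensorProduct.induction_on with
  | zero => simp
  | add x y hx hy => simp only [map_add, hx, hy]
  | tmul a b => simp [ΦP_tmul]

theorem ΦP_Fm (z : C ⊗[R] A) (v : C ⊗[R] (ι → R)) :
    ΦP φ (Fm i p C z v) =
      Fm i p C' (Algebra.TensorProduct.map φ (AlgHom.id R A) z) (ΦP φ v) := by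
  simp only [Fm_apply, map_add, map_sub, ΦP_iC, map_mul, map_pC]

theorem charpoly_Fm_map (z : C ⊗[R] A) :
    (Fm i p C' (Algebra.TensorProduct.map φ (AlgHom.id R A) z)).charpoly =
      (Fm i p C z).charpoly.map (φ : C →+* C') := by
  refine charpoly_eq_map_of_semilinear (φ : C →+* C')
    (Algebra.TensorProduct.basis C (Pi.basisFun R ι))
    (Algebra.TensorProduct.basis C' (Pi.basisFun R ι)) (ΦP φ).toAddMonoidHom ?_ ?_ _ _ ?_
  · intro c m
    exact ΦP_smul φ c m
  · intro j
    simp only [Algebra.TensorProduct.basis_apply]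
    rw [LinearMap.toAddMonoidHom_coe, ΦP_tmul, map_one]
  · intro m
    exact ΦP_Fm i p φ z m

theorem det_Fm_map (z : C ⊗[R] A) :
    LinearMap.det (Fm i p C' (Algebra.TensorProduct.map φ (AlgHom.id R A) z)) =
      φ (LinearMap.det (Fm i p C z)) := by
  refine det_eq_map_of_semilinear (φ : C →+* C')
    (Algebra.TensorProduct.basis C (Pi.basisFun R ι))
    (Algebra.TensorProduct.basis C' (Pi.basisFun R ι)) (ΦP φ).toAddMonoidHom ?_ ?_ _ _ ?_
  · intro c m
    exact ΦP_smul φ c m
  · intro j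
    simp only [Algebra.TensorProduct.basis_apply]
    rw [LinearMap.toAddMonoidHom_coe, ΦP_tmul, map_one]
  · intro m
    exact ΦP_Fm i p φ z m

end Nat

section Conj

include hpi

theorem charpoly_Fm_algEquiv (Θ : C ⊗[R] A ≃ₐ[C] C ⊗[R] A) (w : C ⊗[R] A) :
    (Fm i p C (Θ w)).charpoly = (Fm i p C w).charpoly := by
  have h1 : Algebra.lmul C (C ⊗[R] A) (Θ w) =
      (Θ.toLinearMap : Module.End C (C ⊗[R] A)) * Algebra.lmul C (C ⊗[R] A) w *
        (Θ.symm.toLinearMap : Module.End C (C ⊗[R] A)) := by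
    apply LinearMap.ext
    intro y
    simp only [Algebra.coe_lmul_eq_mul, LinearMap.mul_apply', Module.End.mul_apply,
      AlgEquiv.toLinearMap_apply, map_mul, AlgEquiv.apply_symm_apply]
  have h2 : (Θ.toLinearMap : Module.End C (C ⊗[R] A)) *
      (Θ.symm.toLinearMap : Module.End C (C ⊗[R] A)) = 1 := by
    apply LinearMap.ext
    intro y
    simp
  have h3 : (Θ.symm.toLinearMap : Module.End C (C ⊗[R] A)) *
      (Θ.toLinearMap : Module.End C (C ⊗[R] A)) = 1 := by
    apply LinearMap.ext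
    intro y
    simp
  set U := Um i p C (Θ.toLinearMap : Module.End C (C ⊗[R] A)) with hU
  set U' := Um i p C (Θ.symm.toLinearMap : Module.End C (C ⊗[R] A)) with hU'
  have hUU' : U * U' = 1 := by rw [hU, hU', ← Um_mul i p hpi, h2, Um_one i p hpi]
  have hU'U : U' * U = 1 := by rw [hU, hU', ← Um_mul i p hpi, h3, Um_one i p hpi]
  let e : (C ⊗[R] (ι → R)) ≃ₗ[C] (C ⊗[R] (ι → R)) := LinearEquiv.ofLinearMap U U' hUU' hU'U
  have h4 : Fm i p C (Θ w) = e.conj (Fm i p C w) := by
    rw [Fm, h1, Um_mul i p hpi, Um_mul i p hpi]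
    rfl
  rw [h4, LinearEquiv.charpoly_conj]

theorem det_Fm_algEquiv (Θ : C ⊗[R] A ≃ₐ[C] C ⊗[R] A) (w : C ⊗[R] A) :
    LinearMap.det (Fm i p C (Θ w)) = LinearMap.det (Fm i p C w) := by
  rw [LinearMap.det_eq_sign_charpoly_coeff, LinearMap.det_eq_sign_charpoly_coeff,
    charpoly_Fm_algEquiv i p hpi]

theorem pC_aeval_Um_iC (θ : Module.End C (C ⊗[R] A)) (q : Polynomial C) (y : C ⊗[R] A) :
    p.baseChange C (Polynomial.aeval (Um i p C θ) q (i.baseChange C y)) =
      Polynomial.aeval θ q y := by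
  rw [Polynomial.aeval_eq_sum_range, Polynomial.aeval_eq_sum_range]
  simp only [LinearMap.sum_apply, LinearMap.smul_apply, map_sum, map_smul, ← Um_pow i p hpi,
    pC_Um_iC i p hpi]

/-- Cayley–Hamilton for `Fm`. -/
theorem aeval_charpoly_Fm (z : C ⊗[R] A) :
    Polynomial.aeval z (Fm i p C z).charpoly = 0 := by
  have h1 := LinearMap.aeval_self_charpoly (Fm i p C z)
  have h2 := pC_aeval_Um_iC i p hpi (Algebra.lmul C (C ⊗[R] A) z) (Fm i p C z).charpoly 1
  rw [show Um i p C (Algebra.lmul C (C ⊗[R] A) z) = Fm i p C z from rfl, h1] at h2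
  rw [Polynomial.aeval_algHom_apply] at h2
  simpa using h2.symm

end Conj

end Rep

end Groth.Agent.Lib.Helper25.CoactBr
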