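import Groth.Agent.Lib.Helper25CoactBrA

/-!
# Helper25CoactBrB: invariance of the characteristic polynomial of `ρ c` (helper25)

For a commutative Hopf algebra `A` over `R` which is a retract of a finite free module, and a
commutative `R`-algebra `C` with an algebra coaction `ρ : C → C ⊗ A` (raw data: `IsCoaction`),
the coefficients of the characteristic polynomial of `Fm (ρ c)` (and its determinant) are
invariants; `c` is a root of that monic polynomial.
-/

set_option autoImplicit false
universe u v w

namespace Groth.Agent.Lib.Helper25.CoactBr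

open TensorProduct

section Core

variable {R : Type u} [CommRing R] {A : Type v} [CommRing A] [HopfAlgebra R A]

variable (R A) in
/-- `id ⊗ ε : C ⊗ A → C` as a `C`-algebra map. -/
noncomputable def epsC (C : Type*) [CommRing C] [Algebra R C] : C ⊗[R] A →ₐ[C] C :=
  Algebra.TensorProduct.lift (AlgHom.id C C)
    ((Algebra.ofId R C).comp (Bialgebra.counitAlgHom R A)) (fun _ _ => .all _ _)

theorem epsC_tmul {C : Type*} [CommRing C] [Algebra R C] (c : C) (a : A) :
    epsC R A C (c ⊗ₜ[R] a) = c * algebraMap R C (CoalgebraStruct.counit (R := R) a) := by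
  simp [epsC, Algebra.ofId_apply]

variable {C : Type*} [CommRing C] [Algebra R C]

/-- Raw coaction data: an algebra map `ρ : C → C ⊗ A` which is coassociative and counital. -/
structure IsCoaction (ρ : C →ₐ[R] C ⊗[R] A) : Prop where
  coassoc : ∀ c, Algebra.TensorProduct.map ρ (AlgHom.id R A) (ρ c) =
    (Algebra.TensorProduct.assoc R R R C A A).symm
      (Algebra.TensorProduct.map (AlgHom.id R C) (Bialgebra.comulAlgHom R A) (ρ c))
  counit : ∀ c, epsC R A C (ρ c) = c

/-- Translation by the universal point: the `C ⊗ A`-algebra endomorphism of `(C ⊗ A) ⊗ A`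
with `1 ⊗ a ↦ (1 ⊗ a₁) ⊗ a₂`. -/
noncomputable def Theta : (C ⊗[R] A) ⊗[R] A →ₐ[C ⊗[R] A] (C ⊗[R] A) ⊗[R] A :=
  Algebra.TensorProduct.lift (Algebra.ofId (C ⊗[R] A) ((C ⊗[R] A) ⊗[R] A))
    ((Algebra.TensorProduct.map (Algebra.TensorProduct.includeRight : A →ₐ[R] C ⊗[R] A)
      (AlgHom.id R A)).comp (Bialgebra.comulAlgHom R A)) (fun _ _ => .all _ _)

theorem Theta_tmul (d : C ⊗[R] A) (a : A) :
    Theta (R := R) (A := A) (C := C) (d ⊗ₜ[R] a) =
      (d ⊗ₜ[R] (1 : A)) * Algebra.TensorProduct.map
        (Algebra.TensorProduct.includeRight : A →ₐ[R] C ⊗[R] A)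
        (AlgHom.id R A) (CoalgebraStruct.comul (R := R) a) := by
  simp [Theta, Algebra.ofId_apply, Algebra.TensorProduct.algebraMap_apply]

/-- The shear map as an algebra equivalence. -/
noncomputable def shearEquiv : A ⊗[R] A ≃ₐ[R] A ⊗[R] A :=
  AlgEquiv.ofAlgHom (shear (k := R) (A := A)) (shearInv (k := R) (A := A))
    (AlgHom.ext fun z => shear_shearInv z) (AlgHom.ext fun z => shearInv_shear z)

theorem Theta_eq (y : (C ⊗[R] A) ⊗[R] A) :
    Theta (R := R) (A := A) (C := C) y =
      (Algebra.TensorProduct.assoc R R R C A A).symm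
        (Algebra.TensorProduct.map (AlgHom.id R C) (shear (k := R) (A := A))
          (Algebra.TensorProduct.assoc R R R C A A y)) := by
  induction y using TensorProduct.induction_on with
  | zero => simp
  | add x y hx hy => simp only [map_add, hx, hy]
  | tmul d a' =>
    induction d using TensorProduct.induction_on with
    | zero => simp
    | add x y hx hy => simp only [TensorProduct.add_tmul, map_add, hx, hy]
    | tmul c a =>
      rw [Theta_tmul, Algebra.TensorProduct.assoc_tmul, Algebra.TensorProduct.map_tmul,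
        shear_tmul]
      generalize CoalgebraStruct.comul (R := R) a' = t
      induction t using TensorProduct.induction_on with
      | zero => simp
      | add x y hx hy =>
        simp only [map_add, mul_add, TensorProduct.tmul_add, hx, hy]
      | tmul a₁ a₂ =>
        simp [Algebra.TensorProduct.tmul_mul_tmul]

theorem Theta_bijective : Function.Bijective (Theta (R := R) (A := A) (C := C)) := by
  let e : (C ⊗[R] A) ⊗[R] A ≃ₐ[R] (C ⊗[R] A) ⊗[R] A :=
    ((Algebra.TensorProduct.assoc R R R C A A).trans
      (Algebra.TensorProduct.congr AlgEquiv.refl (shearEquiv (R := R) (A := A)))).trans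
      (Algebra.TensorProduct.assoc R R R C A A).symm
  have h : ⇑(Theta (R := R) (A := A) (C := C)) = ⇑e := by
    funext y
    rw [Theta_eq]
    rfl
  rw [h]
  exact e.bijective

/-- `Theta` as an algebra automorphism. -/
noncomputable def ThetaE : (C ⊗[R] A) ⊗[R] A ≃ₐ[C ⊗[R] A] (C ⊗[R] A) ⊗[R] A :=
  AlgEquiv.ofBijective Theta Theta_bijective

theorem Theta_map_includeLeft (z : C ⊗[R] A) :
    Theta (R := R) (A := A) (C := C)
      (Algebra.TensorProduct.map (Algebra.TensorProduct.includeLeft : C →ₐ[R] C ⊗[R] A)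
        (AlgHom.id R A) z) =
      (Algebra.TensorProduct.assoc R R R C A A).symm
        (Algebra.TensorProduct.map (AlgHom.id R C) (Bialgebra.comulAlgHom R A) z) := by
  induction z using TensorProduct.induction_on with
  | zero => simp
  | add x y hx hy => simp only [map_add, hx, hy]
  | tmul c a =>
    rw [Algebra.TensorProduct.map_tmul, Theta_tmul, Algebra.TensorProduct.map_tmul]
    simp only [Algebra.TensorProduct.includeLeft_apply, AlgHom.coe_id, id_eq,
      Bialgebra.comulAlgHom_apply]
    generalize CoalgebraStruct.comul (R := R) a = t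
    induction t using TensorProduct.induction_on with
    | zero => simp
    | add x y hx hy => simp only [map_add, mul_add, TensorProduct.tmul_add, hx, hy]
    | tmul a₁ a₂ => simp [Algebra.TensorProduct.tmul_mul_tmul]

section Main

variable {ι : Type w} [Fintype ι] [DecidableEq ι]
  (i : A →ₗ[R] (ι → R)) (p : (ι → R) →ₗ[R] A) (hpi : p ∘ₗ i = LinearMap.id)
  {ρ : C →ₐ[R] C ⊗[R] A} (hρ : IsCoaction ρ)

include hρ in
theorem map_rho_eq_Theta (c : C) :
    Algebra.TensorProduct.map ρ (AlgHom.id R A) (ρ c) =
      ThetaE (R := R) (A := A) (C := C)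
        (Algebra.TensorProduct.map (Algebra.TensorProduct.includeLeft : C →ₐ[R] C ⊗[R] A)
          (AlgHom.id R A) (ρ c)) := by
  rw [hρ.coassoc]
  exact (Theta_map_includeLeft (ρ c)).symm

include hpi hρ

/-- The characteristic polynomial of `Fm (ρ c)` has invariant coefficients. -/
theorem charpoly_map_rho (c : C) :
    (Fm i p C (ρ c)).charpoly.map (ρ : C →+* C ⊗[R] A) =
      (Fm i p C (ρ c)).charpoly.map
        ((Algebra.TensorProduct.includeLeft : C →ₐ[R] C ⊗[R] A) : C →+* C ⊗[R] A) := by
  rw [← charpoly_Fm_map i p ρ, ← charpoly_Fm_map i p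
    (Algebra.TensorProduct.includeLeft : C →ₐ[R] C ⊗[R] A), map_rho_eq_Theta hρ,
    charpoly_Fm_algEquiv i p hpi]

theorem rho_coeff_charpoly (c : C) (k : ℕ) :
    ρ ((Fm i p C (ρ c)).charpoly.coeff k) = (Fm i p C (ρ c)).charpoly.coeff k ⊗ₜ[R] (1 : A) := by
  have h := congrArg (fun q => Polynomial.coeff q k) (charpoly_map_rho i p hpi hρ c)
  simpa [Polynomial.coeff_map] using h

/-- The norm `det (Fm (ρ c))` is invariant. -/
theorem rho_det (c : C) :
    ρ (LinearMap.det (Fm i p C (ρ c))) = LinearMap.det (Fm i p C (ρ c)) ⊗ₜ[R] (1 : A) := by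
  have h1 := det_Fm_map i p ρ (ρ c)
  have h2 := det_Fm_map i p (Algebra.TensorProduct.includeLeft : C →ₐ[R] C ⊗[R] A) (ρ c)
  rw [map_rho_eq_Theta hρ, det_Fm_algEquiv i p hpi] at h1
  rw [← h1, h2]
  rfl

/-- `c` is a root of the characteristic polynomial of `Fm (ρ c)`. -/
theorem aeval_self_charpoly_rho (c : C) :
    Polynomial.aeval c (Fm i p C (ρ c)).charpoly = 0 := by
  have h := aeval_charpoly_Fm i p hpi (ρ c)
  have h2 := congrArg (epsC R A C) h
  rw [← Polynomial.aeval_algHom_apply, hρ.counit, map_zero] at h2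
  exact h2

end Main

end Core

end Groth.Agent.Lib.Helper25.CoactBr
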