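import Groth.Agent.Lib.Helper25CoactBrB
import Groth.Prelude.Def_CoactBr

/-!
# Helper25CoactBrC: coactions from the comodule class, base change by a flat algebra, field facts
(helper25)
-/

set_option autoImplicit false
universe u v w

namespace Groth.Agent.Lib.Helper25.CoactBr

open TensorProduct

section FromClass

variable (R : Type u) [CommRing R] (A : Type v) [CommRing A] [HopfAlgebra R A]
  (B : Type w) [CommRing B] [Algebra R B] [HopfRep.Comod R A B] [GLin.IsCoactAlg R A B]

theorem map_coact_eq_rTensor (z : B ⊗[R] A) :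
    Algebra.TensorProduct.map (GLin.coactAlgHom R A B) (AlgHom.id R A) z =
      (HopfRep.Comod.coact (k := R) (A := A) (V := B)).rTensor A z := by
  induction z using TensorProduct.induction_on with
  | zero => simp
  | add x y hx hy => simp only [map_add, hx, hy]
  | tmul b a => simp

theorem map_comul_eq_lTensor (z : B ⊗[R] A) :
    Algebra.TensorProduct.map (AlgHom.id R B) (Bialgebra.comulAlgHom R A) z =
      (CoalgebraStruct.comul (R := R) (A := A)).lTensor B z := by
  induction z using TensorProduct.induction_on with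
  | zero => simp
  | add x y hx hy => simp only [map_add, hx, hy]
  | tmul b a => simp

theorem algAssoc_eq (y : (B ⊗[R] A) ⊗[R] A) :
    Algebra.TensorProduct.assoc R R R B A A y = TensorProduct.assoc R B A A y := by
  induction y using TensorProduct.induction_on with
  | zero => simp
  | add x y hx hy => simp only [map_add, hx, hy]
  | tmul d a =>
    induction d using TensorProduct.induction_on with
    | zero => simp
    | add x y hx hy => simp only [TensorProduct.add_tmul, map_add, hx, hy]
    | tmul b a' => rfl

theorem epsC_eq (z : B ⊗[R] A) :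
    epsC R A B z = TensorProduct.rid R B ((CoalgebraStruct.counit (R := R) (A := A)).lTensor B z) := by
  induction z using TensorProduct.induction_on with
  | zero => simp
  | add x y hx hy => simp only [map_add, hx, hy]
  | tmul b a =>
    rw [epsC_tmul, LinearMap.lTensor_tmul, TensorProduct.rid_tmul, Algebra.smul_def, mul_comm]

/-- The coaction of the comodule-algebra class is a coaction in the raw sense. -/
theorem isCoaction_coactAlgHom : IsCoaction (GLin.coactAlgHom R A B) where
  coassoc c := by
    rw [AlgEquiv.eq_symm_apply, algAssoc_eq, map_coact_eq_rTensor, map_comul_eq_lTensor]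
    exact LinearMap.congr_fun (HopfRep.Comod.coassoc (k := R) (A := A) (V := B)) c
  counit c := by
    rw [epsC_eq]
    have h := LinearMap.congr_fun (HopfRep.Comod.counit_comp (k := R) (A := A) (V := B)) c
    simp only [LinearMap.coe_comp, Function.comp_apply] at h
    rw [GLin.coactAlgHom_apply, h]
    simp

end FromClass

section BaseChange

variable {R : Type u} [CommRing R] {A : Type v} [CommRing A] [HopfAlgebra R A]
  {B : Type w} [CommRing B] [Algebra R B]
  (R' : Type*) [CommRing R'] [Algebra R R'] (ρ : B →ₐ[R] B ⊗[R] A)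

/-- The coaction on `R' ⊗ B` (trivial on `R'`). -/
noncomputable def rhoBC : R' ⊗[R] B →ₐ[R] (R' ⊗[R] B) ⊗[R] A :=
  (Algebra.TensorProduct.assoc R R R R' B A).symm.toAlgHom.comp
    (Algebra.TensorProduct.map (AlgHom.id R R') ρ)

theorem rhoBC_tmul (r : R') (b : B) :
    rhoBC R' ρ (r ⊗ₜ[R] b) = (Algebra.TensorProduct.assoc R R R R' B A).symm (r ⊗ₜ[R] ρ b) := by
  simp [rhoBC]

theorem assoc_symm_tmul_eq (r : R') (z : B ⊗[R] A) :
    (Algebra.TensorProduct.assoc R R R R' B A).symm (r ⊗ₜ[R] z) =
      ((r ⊗ₜ[R] (1 : B)) ⊗ₜ[R] (1 : A)) *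
      Algebra.TensorProduct.map (Algebra.TensorProduct.includeRight : B →ₐ[R] R' ⊗[R] B)
        (AlgHom.id R A) z := by
  induction z using TensorProduct.induction_on with
  | zero => simp
  | add x y hx hy => simp only [map_add, TensorProduct.tmul_add, mul_add, hx, hy]
  | tmul b a => simp [Algebra.TensorProduct.tmul_mul_tmul]

theorem rhoBC_one_tmul (b : B) :
    rhoBC R' ρ ((1 : R') ⊗ₜ[R] b) =
      Algebra.TensorProduct.map (Algebra.TensorProduct.includeRight : B →ₐ[R] R' ⊗[R] B)
        (AlgHom.id R A) (ρ b) := by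
  rw [rhoBC_tmul, assoc_symm_tmul_eq]
  simp [← Algebra.TensorProduct.one_def]

theorem rhoBC_tmul_one (r : R') :
    rhoBC R' ρ (r ⊗ₜ[R] (1 : B)) = (r ⊗ₜ[R] (1 : B)) ⊗ₜ[R] (1 : A) := by
  rw [rhoBC_tmul, map_one, assoc_symm_tmul_eq, map_one, mul_one]

variable {ρ}

theorem isCoaction_rhoBC (hρ : IsCoaction ρ) : IsCoaction (rhoBC R' ρ) := by
  set j : B →ₐ[R] R' ⊗[R] B := Algebra.TensorProduct.includeRight with hj
  have h1 : ∀ z : B ⊗[R] A,
      Algebra.TensorProduct.map (rhoBC R' ρ) (AlgHom.id R A)
        (Algebra.TensorProduct.map j (AlgHom.id R A) z) =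
      Algebra.TensorProduct.map (Algebra.TensorProduct.map j (AlgHom.id R A)) (AlgHom.id R A)
        (Algebra.TensorProduct.map ρ (AlgHom.id R A) z) := by
    intro z
    induction z using TensorProduct.induction_on with
    | zero => simp
    | add x y hx hy => simp only [map_add, hx, hy]
    | tmul b a =>
      simp only [Algebra.TensorProduct.map_tmul, AlgHom.coe_id, id_eq, hj,
        Algebra.TensorProduct.includeRight_apply, rhoBC_one_tmul]
  have h2 : ∀ z : B ⊗[R] A,
      (Algebra.TensorProduct.assoc R R R (R' ⊗[R] B) A A).symm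
        (Algebra.TensorProduct.map (AlgHom.id R (R' ⊗[R] B)) (Bialgebra.comulAlgHom R A)
          (Algebra.TensorProduct.map j (AlgHom.id R A) z)) =
      Algebra.TensorProduct.map (Algebra.TensorProduct.map j (AlgHom.id R A)) (AlgHom.id R A)
        ((Algebra.TensorProduct.assoc R R R B A A).symm
          (Algebra.TensorProduct.map (AlgHom.id R B) (Bialgebra.comulAlgHom R A) z)) := by
    intro z
    induction z using TensorProduct.induction_on with
    | zero => simp
    | add x y hx hy => simp only [map_add, hx, hy]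
    | tmul b a =>
      simp only [Algebra.TensorProduct.map_tmul, AlgHom.coe_id, id_eq,
        Bialgebra.comulAlgHom_apply]
      generalize CoalgebraStruct.comul (R := R) a = t
      induction t using TensorProduct.induction_on with
      | zero => simp
      | add x y hx hy => simp only [map_add, TensorProduct.tmul_add, hx, hy]
      | tmul a₁ a₂ => simp
  have h3 : ∀ z : B ⊗[R] A,
      epsC R A (R' ⊗[R] B) (Algebra.TensorProduct.map j (AlgHom.id R A) z) =
        j (epsC R A B z) := by
    intro z
    induction z using TensorProduct.induction_on with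
    | zero => simp
    | add x y hx hy => simp only [map_add, hx, hy]
    | tmul b a =>
      simp only [Algebra.TensorProduct.map_tmul, AlgHom.coe_id, id_eq, epsC_tmul, map_mul,
        AlgHom.commutes]
  have hco : (Algebra.TensorProduct.map (rhoBC R' ρ) (AlgHom.id R A)).comp (rhoBC R' ρ) =
      ((Algebra.TensorProduct.assoc R R R (R' ⊗[R] B) A A).symm.toAlgHom.comp
        (Algebra.TensorProduct.map (AlgHom.id R (R' ⊗[R] B)) (Bialgebra.comulAlgHom R A))).comp
        (rhoBC R' ρ) := by
    apply Algebra.TensorProduct.ext'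
    intro r b
    have e : r ⊗ₜ[R] b = (r ⊗ₜ[R] (1 : B)) * ((1 : R') ⊗ₜ[R] b) := by
      rw [Algebra.TensorProduct.tmul_mul_tmul, mul_one, one_mul]
    rw [e, map_mul, map_mul]
    congr 1
    · simp only [AlgHom.comp_apply, rhoBC_tmul_one, Algebra.TensorProduct.map_tmul,
        AlgHom.coe_id, id_eq, map_one, Bialgebra.comulAlgHom_apply, Bialgebra.comul_one]
      rfl
    · simp only [AlgHom.comp_apply, rhoBC_one_tmul]
      rw [h1, hρ.coassoc]
      exact (h2 (ρ b)).symm
  have hcu : ((epsC R A (R' ⊗[R] B)).restrictScalars R).comp (rhoBC R' ρ) = AlgHom.id R _ := by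
    apply Algebra.TensorProduct.ext'
    intro r b
    have e : r ⊗ₜ[R] b = (r ⊗ₜ[R] (1 : B)) * ((1 : R') ⊗ₜ[R] b) := by
      rw [Algebra.TensorProduct.tmul_mul_tmul, mul_one, one_mul]
    rw [e, map_mul, map_mul]
    congr 1
    · simp only [AlgHom.comp_apply, rhoBC_tmul_one, AlgHom.restrictScalars_apply, epsC_tmul,
        Bialgebra.counit_one, map_one, mul_one, AlgHom.coe_id, id_eq]
    · simp only [AlgHom.comp_apply, rhoBC_one_tmul, AlgHom.restrictScalars_apply,
        AlgHom.coe_id, id_eq]
      rw [h3, hρ.counit]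
      rfl
  exact ⟨fun c => AlgHom.congr_fun hco c, fun c => AlgHom.congr_fun hcu c⟩

variable (ρ) in
/-- Invariants commute with flat base change (element form). -/
theorem exists_tmul_one_eq_of_rhoBC_eq [Module.Flat R R']
    (hinv : ∀ b : B, ρ b = b ⊗ₜ[R] (1 : A) → b ∈ Set.range (algebraMap R B))
    (c : R' ⊗[R] B) (hc : rhoBC R' ρ c = c ⊗ₜ[R] (1 : A)) :
    ∃ r : R', r ⊗ₜ[R] (1 : B) = c := by
  set f : B →ₗ[R] B ⊗[R] A := ρ.toLinearMap - (TensorProduct.mk R B A).flip 1 with hf
  have hfa : ∀ b, f b = ρ b - b ⊗ₜ[R] (1 : A) := fun b => rfl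
  have hex : Function.Exact (Algebra.linearMap R B) f := by
    intro b
    rw [hfa, sub_eq_zero]
    constructor
    · intro h
      exact hinv b h
    · rintro ⟨r, rfl⟩
      rw [Algebra.linearMap_apply, AlgHom.commutes, Algebra.TensorProduct.algebraMap_apply]
  have hex' := Module.Flat.lTensor_exact R' hex
  have h1 : ∀ c : R' ⊗[R] B, (Algebra.TensorProduct.assoc R R R R' B A).symm (f.lTensor R' c) =
      rhoBC R' ρ c - c ⊗ₜ[R] (1 : A) := by
    intro c
    induction c using TensorProduct.induction_on with
    | zero => simp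
    | add x y hx hy =>
      simp only [map_add, hx, hy, TensorProduct.add_tmul]
      abel
    | tmul r b =>
      rw [LinearMap.lTensor_tmul, hfa, TensorProduct.tmul_sub, map_sub, rhoBC_tmul]
      rfl
  have h2 : f.lTensor R' c = 0 := by
    have := h1 c
    rw [hc, sub_self] at this
    exact (Algebra.TensorProduct.assoc R R R R' B A).symm.injective (this.trans (map_zero _).symm)
  obtain ⟨w, hw⟩ := (hex' c).mp h2
  refine ⟨TensorProduct.rid R R' w, ?_⟩
  rw [← hw]
  clear hw
  induction w using TensorProduct.induction_on with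
  | zero => simp
  | add x y hx hy => simp only [map_add, TensorProduct.add_tmul, hx, hy]
  | tmul r s =>
    rw [TensorProduct.rid_tmul, LinearMap.lTensor_tmul, Algebra.linearMap_apply,
      Algebra.algebraMap_eq_smul_one, TensorProduct.tmul_smul, TensorProduct.smul_tmul']

end BaseChange

end Groth.Agent.Lib.Helper25.CoactBr
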