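import Groth.Agent.Lib.Helper25CoactBrC

/-!
# Helper25CoactBrD: field-level facts for the norm, and points of finite algebras over an
algebraically closed field (helper25)
-/

set_option autoImplicit false
universe u v w

namespace Groth.Agent.Lib.Helper25.CoactBr

open TensorProduct

section FieldFacts

/-- Over an algebraically closed field, every maximal ideal of a finite commutative algebra is
the kernel of a point. -/
theorem exists_algHom_ker_eq {K E : Type*} [Field K] [IsAlgClosed K] [CommRing E] [Algebra K E]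
    [Module.Finite K E] (𝔫 : Ideal E) [h𝔫 : 𝔫.IsMaximal] :
    ∃ g : E →ₐ[K] K, RingHom.ker (g : E →+* K) = 𝔫 := by
  letI : Field (E ⧸ 𝔫) := Ideal.Quotient.field 𝔫
  haveI : Algebra.IsIntegral K (E ⧸ 𝔫) := Algebra.IsIntegral.of_finite K (E ⧸ 𝔫)
  have hb : Function.Bijective (algebraMap K (E ⧸ 𝔫)) :=
    IsAlgClosed.algebraMap_bijective_of_isIntegral
  let e : K ≃ₐ[K] (E ⧸ 𝔫) := AlgEquiv.ofBijective (Algebra.ofId K (E ⧸ 𝔫)) hb
  refine ⟨(e.symm : (E ⧸ 𝔫) →ₐ[K] K).comp (Ideal.Quotient.mkₐ K 𝔫), ?_⟩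
  ext x
  simp only [RingHom.mem_ker, AlgHom.coe_toRingHom, AlgHom.comp_apply, AlgEquiv.coe_algHom,
    Ideal.Quotient.mkₐ_eq_mk]
  rw [EmbeddingLike.map_eq_zero_iff, Ideal.Quotient.eq_zero_iff_mem]

variable {R : Type u} [CommRing R] {A : Type v} [CommRing A] [Algebra R A] [Module.Finite R A]
  {ι : Type w} [Fintype ι] [DecidableEq ι]
  (i : A →ₗ[R] (ι → R)) (p : (ι → R) →ₗ[R] A) (hpi : p ∘ₗ i = LinearMap.id)
  {K : Type*} [Field K] [Algebra R K]

include hpi

theorem det_Fm_ne_zero_of_isUnit {z : K ⊗[R] A} (hz : IsUnit z) :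
    LinearMap.det (Fm i p K z) ≠ 0 := by
  obtain ⟨u, rfl⟩ := hz
  intro h
  have h1 : LinearMap.det (Fm i p K (u : K ⊗[R] A)) *
      LinearMap.det (Fm i p K ((u⁻¹ : (K ⊗[R] A)ˣ) : K ⊗[R] A)) = 1 := by
    rw [← map_mul, ← Fm_mul i p hpi, Units.mul_inv, Fm_one i p hpi, map_one]
  rw [h, zero_mul] at h1
  exact zero_ne_one h1

theorem det_Fm_eq_zero_of_not_isUnit {z : K ⊗[R] A} (hz : ¬ IsUnit z) :
    LinearMap.det (Fm i p K z) = 0 := by
  rw [LinearMap.det_eq_zero_iff_ker_ne_bot]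
  have hns : ¬ Function.Surjective (Algebra.lmul K (K ⊗[R] A) z) := by
    intro hs
    obtain ⟨w, hw⟩ := hs 1
    exact hz (IsUnit.of_mul_eq_one w (by simpa using hw))
  have hni : ¬ Function.Injective (Algebra.lmul K (K ⊗[R] A) z) := by
    intro hi
    exact hns (LinearMap.injective_iff_surjective.mp hi)
  rw [← LinearMap.ker_eq_bot] at hni
  obtain ⟨w, hw, hw0⟩ := (Submodule.ne_bot_iff _).mp hni
  rw [LinearMap.mem_ker] at hw
  have hzw : z * w = 0 := by simpa using hw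
  rw [Submodule.ne_bot_iff]
  refine ⟨i.baseChange K w, ?_, ?_⟩
  · rw [LinearMap.mem_ker, Fm_apply, pC_iC i p hpi, hzw, map_zero, sub_self, add_zero]
  · intro h0
    apply hw0
    rw [← pC_iC i p hpi w, h0, map_zero]

end FieldFacts

end Groth.Agent.Lib.Helper25.CoactBr
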