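import Groth.Agent.Lib.Helper25CoactBrD

/-!
# Helper25CoactBrE: transitivity of `G(K)` on the `K`-points of `Spec B` over a point of the
quotient, `K` algebraically closed (helper25)
-/

set_option autoImplicit false
universe u v w

namespace Groth.Agent.Lib.Helper25.CoactBr

open TensorProduct

section Trans

variable (R : Type u) [CommRing R] (A : Type v) [CommRing A] [HopfAlgebra R A]
  [Module.Finite R A] [Module.Projective R A]
  (B : Type w) [CommRing B] [Algebra R B] [HopfRep.Comod R A B] [GLin.IsCoactAlg R A B]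

/-- The right action of a point `g` of the group on a point `x`. -/
noncomputable def ractPt {K : Type*} [CommRing K] [Algebra R K] (x : B →ₐ[R] K) (g : A →ₐ[R] K) :
    B →ₐ[R] K :=
  (Algebra.TensorProduct.lift x g (fun _ _ => .all _ _)).comp (GLin.coactAlgHom R A B)

variable {R A B}

theorem epsC_map {C K : Type*} [CommRing C] [Algebra R C] [CommRing K] [Algebra R K]
    (x : C →ₐ[R] K) (z : C ⊗[R] A) :
    epsC R A K (Algebra.TensorProduct.map x (AlgHom.id R A) z) = x (epsC R A C z) := by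
  induction z using TensorProduct.induction_on with
  | zero => simp
  | add x y hx hy => simp only [map_add, hx, hy]
  | tmul b a =>
    simp only [Algebra.TensorProduct.map_tmul, AlgHom.coe_id, id_eq, epsC_tmul, map_mul,
      AlgHom.commutes]

theorem exists_ractPt_eq_aux
    (hinv : ∀ b : B, GLin.coactAlgHom R A B b = b ⊗ₜ[R] (1 : A) → b ∈ Set.range (algebraMap R B))
    {K : Type*} [Field K] [IsAlgClosed K] [Algebra R K] (x₁ x₂ : B →ₐ[R] K)
    (R' : Type*) [CommRing R'] [Algebra R R'] [Module.Flat R R'] (e : R' →ₐ[R] K)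
    (he : Function.Surjective e) :
    ∃ g : A →ₐ[R] K, ractPt R A B x₂ g = x₁ := by
  classical
  obtain ⟨n, p, i, -, -, hpi⟩ := Module.Finite.exists_comp_eq_id_of_projective R A
  set ρ := GLin.coactAlgHom R A B with hρdef
  have hρ : IsCoaction ρ := isCoaction_coactAlgHom R A B
  have hρ' : IsCoaction (rhoBC R' ρ) := isCoaction_rhoBC R' hρ
  set x'₁ : R' ⊗[R] B →ₐ[R] K := Algebra.TensorProduct.lift e x₁ (fun _ _ => .all _ _) with hx'₁
  set x'₂ : R' ⊗[R] B →ₐ[R] K := Algebra.TensorProduct.lift e x₂ (fun _ _ => .all _ _) with hx'₂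
  have hx1 : ∀ r b, x'₁ (r ⊗ₜ[R] b) = e r * x₁ b := fun r b =>
    Algebra.TensorProduct.lift_tmul _ _ _ r b
  have hx2 : ∀ r b, x'₂ (r ⊗ₜ[R] b) = e r * x₂ b := fun r b =>
    Algebra.TensorProduct.lift_tmul _ _ _ r b
  set orb₁ : R' ⊗[R] B →ₐ[R] K ⊗[R] A :=
    (Algebra.TensorProduct.map x'₁ (AlgHom.id R A)).comp (rhoBC R' ρ) with horb₁
  set orb₂ : R' ⊗[R] B →ₐ[R] K ⊗[R] A :=
    (Algebra.TensorProduct.map x'₂ (AlgHom.id R A)).comp (rhoBC R' ρ) with horb₂
  haveI : IsArtinianRing (K ⊗[R] A) := IsArtinianRing.of_finite K (K ⊗[R] A)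
  -- key dichotomy
  have key : ∃ 𝔫 : MaximalSpectrum (K ⊗[R] A),
      RingHom.ker (x'₁ : R' ⊗[R] B →+* K) ≤
        Ideal.comap (orb₂ : R' ⊗[R] B →+* K ⊗[R] A) 𝔫.asIdeal := by
    by_contra hcon
    push Not at hcon
    haveI : Fintype (MaximalSpectrum (K ⊗[R] A)) := Fintype.ofFinite _
    have hnot : ¬ ((RingHom.ker (x'₁ : R' ⊗[R] B →+* K) : Set (R' ⊗[R] B)) ⊆
        ⋃ 𝔫 ∈ (↑(Finset.univ : Finset (MaximalSpectrum (K ⊗[R] A))) :
            Set (MaximalSpectrum (K ⊗[R] A))),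
          (Ideal.comap (orb₂ : R' ⊗[R] B →+* K ⊗[R] A)
            (MaximalSpectrum.asIdeal 𝔫) : Set (R' ⊗[R] B))) := by
      intro hsub
      by_cases hne : Nonempty (MaximalSpectrum (K ⊗[R] A))
      · obtain ⟨𝔫₀⟩ := hne
        obtain ⟨𝔫, -, h𝔫⟩ := (Ideal.subset_union_prime
          (f := fun 𝔫 : MaximalSpectrum (K ⊗[R] A) =>
            Ideal.comap (orb₂ : R' ⊗[R] B →+* K ⊗[R] A) 𝔫.asIdeal) 𝔫₀ 𝔫₀
          (fun 𝔫 _ _ _ => Ideal.comap_isPrime _ _)).mp hsub
        exact hcon 𝔫 h𝔫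
      · have h0 : (0 : R' ⊗[R] B) ∈ (RingHom.ker (x'₁ : R' ⊗[R] B →+* K) : Set (R' ⊗[R] B)) :=
          Ideal.zero_mem _
        have := hsub h0
        simp only [Set.mem_iUnion] at this
        obtain ⟨𝔫, -⟩ := this
        exact hne ⟨𝔫⟩
    rw [Set.not_subset] at hnot
    obtain ⟨c, hc1, hc2⟩ := hnot
    simp only [Finset.coe_univ, Set.mem_univ, Set.iUnion_true, Set.mem_iUnion, SetLike.mem_coe,
      Ideal.mem_comap, not_exists] at hc2
    have hc1' : x'₁ c = 0 := hc1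
    -- `orb₂ c` is a unit
    have hu2 : IsUnit (orb₂ c) := by
      by_contra hnu
      obtain ⟨I, hI, hcI⟩ := exists_max_ideal_of_mem_nonunits (mem_nonunits_iff.mpr hnu)
      exact hc2 ⟨I, hI⟩ hcI
    -- `orb₁ c` is not a unit
    have hu1 : ¬ IsUnit (orb₁ c) := by
      intro hu
      have h1 : epsC R A K (orb₁ c) = x'₁ c := by
        rw [horb₁, AlgHom.comp_apply, epsC_map, hρ'.counit]
      have h3 := hu.map (epsC R A K)
      rw [h1, hc1'] at h3
      exact not_isUnit_zero h3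
    -- the norm
    set ν : R' ⊗[R] B := LinearMap.det (Fm i p (R' ⊗[R] B) (rhoBC R' ρ c)) with hν
    have hνinv : rhoBC R' ρ ν = ν ⊗ₜ[R] (1 : A) := rho_det i p hpi hρ' c
    obtain ⟨r, hr⟩ := exists_tmul_one_eq_of_rhoBC_eq R' ρ hinv ν hνinv
    have e1 : x'₁ ν = LinearMap.det (Fm i p K (orb₁ c)) := (det_Fm_map i p x'₁ _).symm
    have e2 : x'₂ ν = LinearMap.det (Fm i p K (orb₂ c)) := (det_Fm_map i p x'₂ _).symm
    have e3 : x'₁ ν = x'₂ ν := by
      rw [← hr, hx1, hx2, map_one, map_one]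
    rw [e1, e2, det_Fm_eq_zero_of_not_isUnit i p hpi hu1] at e3
    exact det_Fm_ne_zero_of_isUnit i p hpi hu2 e3.symm
  obtain ⟨𝔫, h𝔫⟩ := key
  have := 𝔫.isMaximal
  obtain ⟨g, hg⟩ := exists_algHom_ker_eq (K := K) 𝔫.asIdeal
  refine ⟨(g.restrictScalars R).comp Algebra.TensorProduct.includeRight, ?_⟩
  apply AlgHom.ext
  intro b
  obtain ⟨rk, hrk⟩ := he (x₁ b)
  have hmem : rk ⊗ₜ[R] (1 : B) - (1 : R') ⊗ₜ[R] b ∈ RingHom.ker (x'₁ : R' ⊗[R] B →+* K) := by
    rw [RingHom.mem_ker]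
    change x'₁ _ = 0
    rw [map_sub, hx1, hx1, map_one, map_one, mul_one, one_mul, hrk, sub_self]
  have h1 := h𝔫 hmem
  rw [Ideal.mem_comap, ← hg, RingHom.mem_ker] at h1
  change g (orb₂ _) = 0 at h1
  rw [map_sub, map_sub, sub_eq_zero] at h1
  have h2 : g (orb₂ (rk ⊗ₜ[R] (1 : B))) = x₁ b := by
    rw [horb₂, AlgHom.comp_apply, rhoBC_tmul_one, Algebra.TensorProduct.map_tmul, hx2, map_one,
      mul_one, hrk, AlgHom.coe_id, id_eq]
    rw [show (x₁ b ⊗ₜ[R] (1 : A) : K ⊗[R] A) = algebraMap K (K ⊗[R] A) (x₁ b) from rfl,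
      AlgHom.commutes]
    rfl
  have h3 : g (orb₂ ((1 : R') ⊗ₜ[R] b)) =
      ractPt R A B x₂ ((g.restrictScalars R).comp Algebra.TensorProduct.includeRight) b := by
    rw [horb₂, AlgHom.comp_apply, rhoBC_one_tmul, ractPt, AlgHom.comp_apply, ← hρdef]
    generalize ρ b = z
    induction z using TensorProduct.induction_on with
    | zero => simp
    | add x y hx hy => simp only [map_add, hx, hy]
    | tmul b' a =>
      simp only [Algebra.TensorProduct.map_tmul, AlgHom.coe_id, id_eq,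
        Algebra.TensorProduct.includeRight_apply, hx2, Algebra.TensorProduct.lift_tmul, map_one,
        one_mul, AlgHom.comp_apply, AlgHom.restrictScalars_apply]
      have : (x₂ b' ⊗ₜ[R] a : K ⊗[R] A) = x₂ b' • ((1 : K) ⊗ₜ[R] a) := by
        rw [TensorProduct.smul_tmul', smul_eq_mul, mul_one]
      rw [this, map_smul, smul_eq_mul]
  rw [← h3, ← h1, h2]

theorem exists_ractPt_eq
    (hinv : ∀ b : B, GLin.coactAlgHom R A B b = b ⊗ₜ[R] (1 : A) → b ∈ Set.range (algebraMap R B))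
    {K : Type*} [Field K] [IsAlgClosed K] [Algebra R K] (x₁ x₂ : B →ₐ[R] K) :
    ∃ g : A →ₐ[R] K, ractPt R A B x₂ g = x₁ := by
  refine exists_ractPt_eq_aux hinv x₁ x₂ (MvPolynomial K R) (MvPolynomial.aeval id) ?_
  intro k
  exact ⟨MvPolynomial.X k, by simp⟩

end Trans

end Groth.Agent.Lib.Helper25.CoactBr
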