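import Groth.Agent.Lib.Helper25CoactBrE
import Groth.Agent.Lib.Helper10PtsBij

/-!
# Helper25CoactBrF: points of affine schemes over `Spec R` with values in an arbitrary scheme,
through global sections (helper25)

For `T` over `Spec R`: the `R`-algebra `ΓT T = Γ(T, ⊤)`, the morphism `toSp T : T ⟶ sp R (ΓT T)`,
`exists_eq_toSp_comp_pt` (every morphism to an affine scheme factors), `toSp_comp_pt_injective`.
-/

set_option autoImplicit false
universe u

namespace Groth.Agent.Lib.Helper25CoactBrS

open CategoryTheory AlgebraicGeometry CoactBr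
open Groth.Agent.Lib.Helper25.CoactBr
open Groth.Agent.Lib.Helper24FlatTF Groth.Agent.Lib.Helper10.PtsBij

section Gamma

variable {R : Type u} [CommRing R]

/-- Global sections of a scheme over `Spec R`. -/
abbrev ΓT (T : Over (Spec (CommRingCat.of R))) : Type u := Γ(T.left, ⊤)

noncomputable instance algΓT (T : Over (Spec (CommRingCat.of R))) : Algebra R (ΓT T) :=
  (Phi T.hom).toAlgebra

theorem algebraMap_ΓT (T : Over (Spec (CommRingCat.of R))) :
    algebraMap R (ΓT T) = Phi T.hom := rfl

/-- The canonical morphism `T ⟶ Spec Γ(T, ⊤)` over `Spec R`. -/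
noncomputable def toSp (T : Over (Spec (CommRingCat.of R))) : T ⟶ sp R (ΓT T) :=
  Over.homMk T.left.toSpecΓ (by
    apply Phi_injective
    exact Phi_toSpecΓ_comp T.left (Phi T.hom))

theorem toSp_left (T : Over (Spec (CommRingCat.of R))) : (toSp T).left = T.left.toSpecΓ := rfl

variable {B : Type u} [CommRing B] [Algebra R B]

set_option backward.isDefEq.respectTransparency false in
theorem exists_eq_toSp_comp_pt {T : Over (Spec (CommRingCat.of R))} (f : T ⟶ sp R B) :
    ∃ φ : B →ₐ[R] ΓT T, f = toSp T ≫ pt φ := by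
  have hstr : (sp R B).hom = Spec.map (CommRingCat.ofHom (algebraMap R B)) := rfl
  have hw : (Phi f.left).comp (algebraMap R B) = algebraMap R (ΓT T) := by
    rw [← Phi_comp, ← hstr, Over.w f]
    rfl
  let φ : B →ₐ[R] ΓT T := { Phi f.left with commutes' := fun r => RingHom.congr_fun hw r }
  refine ⟨φ, ?_⟩
  apply Over.OverMorphism.ext
  rw [Over.comp_left, toSp_left, pt_left]
  apply Phi_injective
  rw [Phi_toSpecΓ_comp]

set_option backward.isDefEq.respectTransparency false in
theorem toSp_comp_pt_injective {T : Over (Spec (CommRingCat.of R))} {φ ψ : B →ₐ[R] ΓT T}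
    (h : toSp T ≫ pt φ = toSp T ≫ pt ψ) : φ = ψ := by
  have h1 : T.left.toSpecΓ ≫ Spec.map (CommRingCat.ofHom φ.toRingHom) =
      T.left.toSpecΓ ≫ Spec.map (CommRingCat.ofHom ψ.toRingHom) := congrArg CommaMorphism.left h
  have h2 := congrArg Phi h1
  rw [Phi_toSpecΓ_comp, Phi_toSpecΓ_comp] at h2
  exact AlgHom.coe_ringHom_injective h2

end Gamma

end Groth.Agent.Lib.Helper25CoactBrS
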