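import Groth.Agent.Lib.Helper25CoactBrF

/-!
# Helper25CoactBrG: ring-level form of "the stabiliser of a point is trivial" (helper25)

* `onePt`, `ractPt_comp`, `FixR z` (ring level), `FixS ζ` (scheme level);
  `fixS_toSp_comp_pt_iff`, `fixS_pt_iff`.
-/

set_option autoImplicit false
universe u

namespace Groth.Agent.Lib.Helper25CoactBrS

open CategoryTheory MonoidalCategory CartesianMonoidalCategory MonObj AlgebraicGeometry CoactBr
open Groth.Agent.Lib.Helper25.CoactBr
open scoped TensorProduct

section Ring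

variable (R A B : Type u) [CommRing R] [CommRing A] [HopfAlgebra R A]
  [CommRing B] [Algebra R B] [HopfRep.Comod R A B] [GLin.IsCoactAlg R A B]

/-- The unit point of the group with values in `C`. -/
noncomputable def onePt (C : Type u) [CommRing C] [Algebra R C] : A →ₐ[R] C :=
  (Algebra.ofId R C).comp (Bialgebra.counitAlgHom R A)

variable {R A B}

theorem comp_onePt {C C' : Type u} [CommRing C] [Algebra R C] [CommRing C'] [Algebra R C']
    (φ : C →ₐ[R] C') : φ.comp (onePt R A C) = onePt R A C' := by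
  apply AlgHom.ext
  intro a
  simp [onePt, Algebra.ofId_apply]

theorem ractPt_comp {C C' : Type u} [CommRing C] [Algebra R C] [CommRing C'] [Algebra R C']
    (φ : C →ₐ[R] C') (z : B →ₐ[R] C) (g : A →ₐ[R] C) :
    ractPt R A B (φ.comp z) (φ.comp g) = φ.comp (ractPt R A B z g) := by
  have h : Algebra.TensorProduct.lift (φ.comp z) (φ.comp g) (fun _ _ => .all _ _) =
      φ.comp (Algebra.TensorProduct.lift z g (fun _ _ => .all _ _)) := by
    apply Algebra.TensorProduct.ext'
    intro b a
    simp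
  rw [ractPt, h]
  rfl

variable (R A B) in
/-- Ring-level: the stabiliser of the `C`-point `z` is trivial on `C`-points. -/
def FixR {C : Type u} [CommRing C] [Algebra R C] (z : B →ₐ[R] C) : Prop :=
  ∀ g : A →ₐ[R] C, ractPt R A B z g = z → g = onePt R A C

variable (R A B) in
/-- Scheme-level: the stabiliser of the `T`-point `ζ` is trivial on `T`-points. -/
def FixS {T : Over (Spec (CommRingCat.of R))} (ζ : T ⟶ sp R B) : Prop :=
  ∀ g : T ⟶ sp R A, lift g ζ ≫ (action R A B).act = ζ → g = 1

theorem fixS_toSp_comp_pt_iff {T : Over (Spec (CommRingCat.of R))} (z : B →ₐ[R] ΓT T) :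
    FixS R A B (toSp T ≫ pt z) ↔ FixR R A B z := by
  constructor
  · intro h g hg
    have h1 := h (toSp T ≫ (pt g)⁻¹) (by
      rw [lift_action_act, GrpObj.comp_inv, inv_inv, ← comp_lift, Category.assoc, lift_pt_ract]
      exact congrArg (fun w => toSp T ≫ pt w) hg)
    rw [GrpObj.comp_inv, inv_eq_one] at h1
    have h2 : toSp T ≫ pt g = toSp T ≫ pt (onePt R A (ΓT T)) := by
      rw [h1, onePt, ← one_eq_pt, MonObj.comp_one]
    exact toSp_comp_pt_injective h2
  · intro h g hg
    obtain ⟨g', hg'⟩ := exists_eq_toSp_comp_pt g⁻¹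
    rw [lift_action_act, hg', ← comp_lift, Category.assoc, lift_pt_ract] at hg
    have h1 := h g' (toSp_comp_pt_injective hg)
    rw [h1, onePt, ← one_eq_pt, MonObj.comp_one, inv_eq_one] at hg'
    exact hg'

theorem fixS_pt_of_fixR {C : Type u} [CommRing C] [Algebra R C] (z : B →ₐ[R] C)
    (T : Over (Spec (CommRingCat.of R))) (h : T ⟶ sp R C)
    (hz : ∀ (C' : Type u) [CommRing C'] [Algebra R C'] (φ : C →ₐ[R] C'),
      FixR R A B (φ.comp z)) : FixS R A B (h ≫ pt z) := by
  obtain ⟨φ, hφ⟩ := exists_eq_toSp_comp_pt h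
  rw [hφ, Category.assoc, ← pt_comp]
  exact (fixS_toSp_comp_pt_iff _).mpr (hz _ φ)

theorem fixR_of_fixS_pt {C : Type u} [CommRing C] [Algebra R C] (z : B →ₐ[R] C)
    (h : FixS R A B (pt z)) : FixR R A B z := by
  intro g hg
  have h1 := h (pt g)⁻¹ (by
    rw [lift_action_act, inv_inv, lift_pt_ract]
    exact congrArg pt hg)
  rw [inv_eq_one, one_eq_pt] at h1
  exact pt_injective h1

variable (R A B) in
/-- Ring-level triviality of the inertia at the point `x`. -/
def InertiaTrivR {K : Type u} [CommRing K] [Algebra R K] (x : B →ₐ[R] K) : Prop :=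
  ∀ (C : Type u) [CommRing C] [Algebra R C] (φ : K →ₐ[R] C), FixR R A B (φ.comp x)

variable (R A B) in
/-- Scheme-level triviality of the inertia at the point `x` (the form used in the statements). -/
def InertiaTrivS {K : Type u} [CommRing K] [Algebra R K] (x : B →ₐ[R] K) : Prop :=
  ∀ (T : Over (Spec (CommRingCat.of R))) (h : T ⟶ sp R K) (g : T ⟶ sp R A),
    lift g (h ≫ pt x) ≫ (action R A B).act = h ≫ pt x → g = 1

theorem inertiaTrivS_iff {K : Type u} [CommRing K] [Algebra R K] (x : B →ₐ[R] K) :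
    InertiaTrivS R A B x ↔ InertiaTrivR R A B x := by
  constructor
  · intro h C _ _ φ
    apply fixR_of_fixS_pt
    rw [pt_comp]
    exact h _ (pt φ)
  · intro h T t
    exact fixS_pt_of_fixR x T t (fun C' _ _ φ => h C' φ)

theorem inertiaTrivS_comp {K L : Type u} [CommRing K] [Algebra R K] [CommRing L] [Algebra R L]
    (j : K →ₐ[R] L) (x : B →ₐ[R] K) (h : InertiaTrivS R A B x) :
    InertiaTrivS R A B (j.comp x) := by
  intro T t g hg
  rw [pt_comp, ← Category.assoc] at hg
  exact h T (t ≫ pt j) g hg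

/-- Descent of triviality of the inertia along a field extension. -/
theorem inertiaTrivR_of_comp {K Ω : Type u} [Field K] [Field Ω] [Algebra R K] [Algebra R Ω]
    (j : K →ₐ[R] Ω) (x : B →ₐ[R] K) (h : InertiaTrivR R A B (j.comp x)) :
    InertiaTrivR R A B x := by
  intro C _ _ φ g hg
  letI : Algebra K C := φ.toRingHom.toAlgebra
  letI : Algebra K Ω := j.toRingHom.toAlgebra
  letI : Algebra R (Ω ⊗[K] C) :=
    ((algebraMap Ω (Ω ⊗[K] C)).comp (algebraMap R Ω)).toAlgebra
  have hcompat : ∀ k : K, (j k ⊗ₜ[K] (1 : C) : Ω ⊗[K] C) = (1 : Ω) ⊗ₜ[K] φ k := by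
    intro k
    have e1 : j k = k • (1 : Ω) := by
      rw [Algebra.smul_def, _root_.mul_one]; rfl
    have e2 : φ k = k • (1 : C) := by
      rw [Algebra.smul_def, _root_.mul_one]; rfl
    rw [e1, e2, TensorProduct.smul_tmul]
  let h'' : Ω →ₐ[R] Ω ⊗[K] C :=
    { toRingHom := algebraMap Ω (Ω ⊗[K] C), commutes' := fun r => rfl }
  let inc : C →ₐ[R] Ω ⊗[K] C :=
    { toRingHom := (Algebra.TensorProduct.includeRight : C →ₐ[K] Ω ⊗[K] C).toRingHom
      commutes' := fun r => by
        change (1 : Ω) ⊗ₜ[K] algebraMap R C r = algebraMap R Ω r ⊗ₜ[K] (1 : C)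
        rw [← φ.commutes r, ← hcompat, j.commutes] }
  have hinc : Function.Injective inc :=
    Algebra.TensorProduct.includeRight_injective (R := K) (A := Ω) (B := C)
      (algebraMap K Ω).injective
  have hcomm : h''.comp j = inc.comp φ := by
    apply AlgHom.ext
    intro k
    exact hcompat k
  have h1 := h (Ω ⊗[K] C) h'' (inc.comp g) (by
    rw [← AlgHom.comp_assoc, hcomm, AlgHom.comp_assoc, ractPt_comp, hg])
  rw [← comp_onePt inc] at h1
  apply AlgHom.ext
  intro a
  exact hinc (AlgHom.congr_fun h1 a)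

end Ring

end Groth.Agent.Lib.Helper25CoactBrS
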