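import Groth.Agent.Lib.Helper25CoactBrG

/-!
# Helper25CoactBrH: common algebraically closed extension, conjugacy of inertia, and transfer of
triviality of inertia between points over the same prime (helper25)
-/

set_option autoImplicit false
universe u

namespace Groth.Agent.Lib.Helper25CoactBrS

open CategoryTheory MonoidalCategory CartesianMonoidalCategory MonObj AlgebraicGeometry CoactBr
open Groth.Agent.Lib.Helper25.CoactBr
open scoped TensorProduct

section CommonExt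

/-- Two fields over `R` with the same kernel embed into a common algebraically closed field. -/
theorem exists_common_algClosed (R K₁ K₂ : Type u) [CommRing R] [Field K₁] [Field K₂]
    [Algebra R K₁] [Algebra R K₂]
    (hq : RingHom.ker (algebraMap R K₁) = RingHom.ker (algebraMap R K₂)) :
    ∃ (Ω : Type u) (_ : Field Ω) (_ : IsAlgClosed Ω) (_ : Algebra R Ω)
      (_ : K₁ →ₐ[R] Ω) (_ : K₂ →ₐ[R] Ω), True := by
  set q := RingHom.ker (algebraMap R K₁) with hqdef
  let f₁ : R ⧸ q →+* K₁ := Ideal.Quotient.lift q (algebraMap R K₁) (fun a ha => ha)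
  let f₂ : R ⧸ q →+* K₂ := Ideal.Quotient.lift q (algebraMap R K₂) (fun a ha => by
    rw [hq] at ha; exact ha)
  have hf₁ : Function.Injective f₁ := by
    rw [injective_iff_map_eq_zero]
    intro a ha
    obtain ⟨r, rfl⟩ := Ideal.Quotient.mk_surjective a
    rw [Ideal.Quotient.eq_zero_iff_mem]
    exact ha
  have hf₂ : Function.Injective f₂ := by
    rw [injective_iff_map_eq_zero]
    intro a ha
    obtain ⟨r, rfl⟩ := Ideal.Quotient.mk_surjective a
    rw [Ideal.Quotient.eq_zero_iff_mem, hq]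
    exact ha
  letI : Algebra (R ⧸ q) K₁ := f₁.toAlgebra
  letI : Algebra (R ⧸ q) K₂ := f₂.toAlgebra
  haveI : Nontrivial (K₁ ⊗[R ⧸ q] K₂) :=
    Algebra.TensorProduct.nontrivial_of_algebraMap_injective_of_isDomain (R ⧸ q) K₁ K₂ hf₁ hf₂
  obtain ⟨M, hM⟩ := Ideal.exists_maximal (K₁ ⊗[R ⧸ q] K₂)
  letI : Field ((K₁ ⊗[R ⧸ q] K₂) ⧸ M) := Ideal.Quotient.field M
  let F := (K₁ ⊗[R ⧸ q] K₂) ⧸ M
  let ι₁ : K₁ →+* AlgebraicClosure F :=
    (algebraMap F (AlgebraicClosure F)).comp ((Ideal.Quotient.mk M).comp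
      (Algebra.TensorProduct.includeLeft : K₁ →ₐ[R ⧸ q] K₁ ⊗[R ⧸ q] K₂).toRingHom)
  let ι₂ : K₂ →+* AlgebraicClosure F :=
    (algebraMap F (AlgebraicClosure F)).comp ((Ideal.Quotient.mk M).comp
      (Algebra.TensorProduct.includeRight : K₂ →ₐ[R ⧸ q] K₁ ⊗[R ⧸ q] K₂).toRingHom)
  letI algΩ : Algebra R (AlgebraicClosure F) := (ι₁.comp (algebraMap R K₁)).toAlgebra
  have hcompat : ∀ r : R, ι₂ (algebraMap R K₂ r) = ι₁ (algebraMap R K₁ r) := by
    intro r
    have e : ((1 : K₁) ⊗ₜ[R ⧸ q] algebraMap R K₂ r : K₁ ⊗[R ⧸ q] K₂) =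
        algebraMap R K₁ r ⊗ₜ[R ⧸ q] (1 : K₂) := by
      have e1 : algebraMap R K₂ r = (Ideal.Quotient.mk q r) • (1 : K₂) := by
        rw [Algebra.smul_def, _root_.mul_one]; rfl
      have e2 : algebraMap R K₁ r = (Ideal.Quotient.mk q r) • (1 : K₁) := by
        rw [Algebra.smul_def, _root_.mul_one]; rfl
      rw [e1, e2, TensorProduct.smul_tmul]
    change algebraMap F (AlgebraicClosure F) (Ideal.Quotient.mk M
      ((1 : K₁) ⊗ₜ[R ⧸ q] algebraMap R K₂ r)) = algebraMap F (AlgebraicClosure F)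
      (Ideal.Quotient.mk M (algebraMap R K₁ r ⊗ₜ[R ⧸ q] (1 : K₂)))
    rw [e]
  exact ⟨AlgebraicClosure F, inferInstance, inferInstance, algΩ,
    { toRingHom := ι₁, commutes' := fun r => rfl },
    { toRingHom := ι₂, commutes' := fun r => hcompat r }, trivial⟩

end CommonExt

section Conj

variable {R A B : Type u} [CommRing R] [CommRing A] [HopfAlgebra R A]
  [Module.Finite R A] [Module.Projective R A]
  [CommRing B] [Algebra R B] [HopfRep.Comod R A B] [GLin.IsCoactAlg R A B]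

theorem hinv_of_bijective
    (hC : Function.Bijective (algebraMap R (GLin.invariants R A B))) :
    ∀ b : B, GLin.coactAlgHom R A B b = b ⊗ₜ[R] (1 : A) → b ∈ Set.range (algebraMap R B) := by
  intro b hb
  obtain ⟨r, hr⟩ := hC.2 ⟨b, hb⟩
  exact ⟨r, congrArg Subtype.val hr⟩

/-- Conjugacy of the inertia groups at two geometric points over the same point of the
quotient. -/
theorem exists_pt_inertia_conj
    (hinv : ∀ b : B, GLin.coactAlgHom R A B b = b ⊗ₜ[R] (1 : A) → b ∈ Set.range (algebraMap R B))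
    {K : Type u} [Field K] [IsAlgClosed K] [Algebra R K] (x₁ x₂ : B →ₐ[R] K) :
    ∃ g : sp R K ⟶ sp R A,
      ∀ (T : Over (Spec (CommRingCat.of R))) (h : T ⟶ sp R K) (k : T ⟶ sp R A),
        lift k (h ≫ pt x₁) ≫ (action R A B).act = h ≫ pt x₁ ↔
          lift ((h ≫ g)⁻¹ * k * (h ≫ g)) (h ≫ pt x₂) ≫ (action R A B).act = h ≫ pt x₂ := by
  obtain ⟨g₀, hg₀⟩ := exists_ractPt_eq hinv x₁ x₂
  have hpt : lift (pt x₂) (pt g₀) ≫ ract R A B = pt x₁ := by
    rw [lift_pt_ract]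
    exact congrArg pt hg₀
  refine ⟨(pt g₀)⁻¹, ?_⟩
  intro T h k
  set ξ₁ := h ≫ pt x₁ with hξ₁
  set ξ₂ := h ≫ pt x₂ with hξ₂
  set δ := h ≫ pt g₀ with hδ
  have hξ : lift ξ₂ δ ≫ ract R A B = ξ₁ := by
    rw [hξ₁, ← hpt, ← Category.assoc, comp_lift]
  have hγ : h ≫ (pt g₀)⁻¹ = δ⁻¹ := GrpObj.comp_inv _ _
  rw [hγ, lift_action_act, lift_action_act]
  have hconj : (δ⁻¹⁻¹ * k * δ⁻¹)⁻¹ = δ * k⁻¹ * δ⁻¹ := by group
  rw [hconj]
  constructor
  · intro hk
    rw [← hξ, lift_ract_ract] at hk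
    have h2 := congrArg (fun ζ => lift ζ δ⁻¹ ≫ ract R A B) hk
    simp only [lift_ract_ract] at h2
    rw [mul_inv_cancel, lift_one_ract] at h2
    exact h2
  · intro hk
    have h2 := congrArg (fun ζ => lift ζ δ ≫ ract R A B) hk
    simp only [lift_ract_ract] at h2
    rw [inv_mul_cancel_right, hξ, ← lift_ract_ract, hξ] at h2
    exact h2

/-- Triviality of the inertia transfers between points over the same prime of the quotient. -/
theorem inertiaTrivS_of_ker_eq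
    (hinv : ∀ b : B, GLin.coactAlgHom R A B b = b ⊗ₜ[R] (1 : A) → b ∈ Set.range (algebraMap R B))
    {K₁ K₂ : Type u} [Field K₁] [Algebra R K₁] [Field K₂] [Algebra R K₂]
    (hq : RingHom.ker (algebraMap R K₁) = RingHom.ker (algebraMap R K₂))
    (x₁ : B →ₐ[R] K₁) (x₂ : B →ₐ[R] K₂) (h₁ : InertiaTrivS R A B x₁) :
    InertiaTrivS R A B x₂ := by
  obtain ⟨Ω, _, _, _, j₁, j₂, -⟩ := exists_common_algClosed R K₁ K₂ hq
  have h2 : InertiaTrivS R A B (j₁.comp x₁) := inertiaTrivS_comp j₁ x₁ h₁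
  obtain ⟨g, hg⟩ := exists_pt_inertia_conj hinv (j₁.comp x₁) (j₂.comp x₂)
  have h3 : InertiaTrivS R A B (j₂.comp x₂) := by
    intro T t k hk
    have e : (t ≫ g)⁻¹ * ((t ≫ g) * k * (t ≫ g)⁻¹) * (t ≫ g) = k := by group
    have h4 := (hg T t ((t ≫ g) * k * (t ≫ g)⁻¹)).mpr (by rw [e]; exact hk)
    have h5 := h2 T t _ h4
    have : k = (t ≫ g)⁻¹ * ((t ≫ g) * k * (t ≫ g)⁻¹) * (t ≫ g) := e.symm
    rw [this, h5]
    group
  rw [inertiaTrivS_iff] at h3 ⊢
  exact inertiaTrivR_of_comp j₂ x₂ h3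

end Conj

end Groth.Agent.Lib.Helper25CoactBrS
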