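import Groth.Agent.Lib.Helper25CoactBrH

/-!
# Helper25CoactBrI: integrality over the invariants, and freeness from triviality of the inertia
at the closed points (helper25)
-/

set_option autoImplicit false
universe u

namespace Groth.Agent.Lib.Helper25CoactBrS

open CategoryTheory MonoidalCategory CartesianMonoidalCategory MonObj AlgebraicGeometry CoactBr
open Groth.Agent.Lib.Helper25.CoactBr
open scoped TensorProduct

section Integral

variable {R A B : Type u} [CommRing R] [CommRing A] [HopfAlgebra R A]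
  [Module.Finite R A] [Module.Projective R A]
  [CommRing B] [Algebra R B] [HopfRep.Comod R A B] [GLin.IsCoactAlg R A B]

/-- `B` is integral over `R` when the invariants are `R`. -/
theorem isIntegral_of_hinv
    (hinv : ∀ b : B, GLin.coactAlgHom R A B b = b ⊗ₜ[R] (1 : A) → b ∈ Set.range (algebraMap R B)) :
    Algebra.IsIntegral R B := by
  classical
  constructor
  intro b
  rcases subsingleton_or_nontrivial B with hB | hB
  · exact ⟨Polynomial.X, Polynomial.monic_X, Subsingleton.elim _ _⟩
  obtain ⟨n, p, i, -, -, hpi⟩ := Module.Finite.exists_comp_eq_id_of_projective R A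
  have hρ : IsCoaction (GLin.coactAlgHom R A B) := isCoaction_coactAlgHom R A B
  set χ := (Fm i p B (GLin.coactAlgHom R A B b)).charpoly with hχ
  have hmonic : χ.Monic := LinearMap.charpoly_monic _
  have hlift : χ ∈ Polynomial.lifts (algebraMap R B) := by
    rw [Polynomial.lifts_iff_coeff_lifts]
    intro k
    exact hinv _ (rho_coeff_charpoly i p hpi hρ b k)
  obtain ⟨q, hq, -, hqm⟩ := Polynomial.lifts_and_degree_eq_and_monic hlift hmonic
  refine ⟨q, hqm, ?_⟩
  rw [← Polynomial.eval_map, hq]
  have := aeval_self_charpoly_rho i p hpi hρ b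
  rwa [Polynomial.aeval_def, Algebra.algebraMap_self, Polynomial.eval₂_id] at this

end Integral

section Nakayama

/-- A submodule of a finite module which is everything modulo each maximal ideal is
everything. -/
theorem eq_top_of_forall_maximal {S M : Type*} [CommRing S] [AddCommGroup M] [Module S M]
    [Module.Finite S M] (N : Submodule S M)
    (h : ∀ P : Ideal S, P.IsMaximal → (⊤ : Submodule S M) ≤ N ⊔ P • (⊤ : Submodule S M)) :
    N = ⊤ := by
  by_contra hN
  have hcol : N.colon (⊤ : Submodule S M) ≠ ⊤ := by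
    intro htop
    apply hN
    rw [eq_top_iff]
    intro m _
    have h1 : (1 : S) ∈ N.colon (⊤ : Submodule S M) := by rw [htop]; trivial
    rw [Submodule.mem_colon] at h1
    simpa using h1 m trivial
  obtain ⟨P, hP, hle⟩ := Ideal.exists_le_maximal _ hcol
  obtain ⟨r, hr1, hr2⟩ := Submodule.exists_sub_one_mem_and_smul_le_of_fg_of_le_sup
    (I := P) (N := N) (N' := ⊤) (P := ⊤) Module.Finite.fg_top le_rfl (h P hP)
  have hrcol : r ∈ N.colon (⊤ : Submodule S M) := by
    rw [Submodule.mem_colon_iff_le]
    exact hr2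
  have hrP : r ∈ P := hle hrcol
  have h1 : (1 : S) ∈ P := by
    have := P.sub_mem hrP hr1
    simpa using this
  exact hP.ne_top ((Ideal.eq_top_iff_one P).mpr h1)

end Nakayama

section Free

variable (R A B : Type u) [CommRing R] [CommRing A] [HopfAlgebra R A]
  [CommRing B] [Algebra R B] [HopfRep.Comod R A B] [GLin.IsCoactAlg R A B]

/-- The ideal of the stabiliser scheme `{(x, g) | x · g = x}` in `B ⊗ A`. -/
noncomputable def stabIdeal : Ideal (B ⊗[R] A) :=
  Ideal.span (Set.range fun b : B => GLin.coactAlgHom R A B b - b ⊗ₜ[R] (1 : A))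

/-- `1 ⊗ (a - ε a)`: these generate the ideal of the unit section. -/
noncomputable def augElt (a : A) : B ⊗[R] A :=
  (1 : B) ⊗ₜ[R] (a - algebraMap R A (CoalgebraStruct.counit (R := R) a))

variable {R A B}

theorem stabIdeal_le_ker_epsC : stabIdeal R A B ≤ RingHom.ker (epsC R A B : B ⊗[R] A →+* B) := by
  rw [stabIdeal, Ideal.span_le]
  rintro _ ⟨b, rfl⟩
  rw [SetLike.mem_coe, RingHom.mem_ker]
  change epsC R A B _ = 0
  rw [map_sub, (isCoaction_coactAlgHom R A B).counit, epsC_tmul, Bialgebra.counit_one, map_one,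
    _root_.mul_one, sub_self]

theorem epsC_augElt (a : A) : epsC R A B (augElt R A B a) = 0 := by
  rw [augElt, epsC_tmul, map_sub, Bialgebra.counit_algebraMap]
  simp

theorem fixR_of_augElt_mem (h : ∀ a : A, augElt R A B a ∈ stabIdeal R A B)
    {C : Type u} [CommRing C] [Algebra R C] (z : B →ₐ[R] C) : FixR R A B z := by
  intro g hg
  set L : B ⊗[R] A →ₐ[R] C := Algebra.TensorProduct.lift z g (fun _ _ => .all _ _) with hL
  have hle : stabIdeal R A B ≤ RingHom.ker (L : B ⊗[R] A →+* C) := by
    rw [stabIdeal, Ideal.span_le]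
    rintro _ ⟨b, rfl⟩
    rw [SetLike.mem_coe, RingHom.mem_ker]
    change L _ = 0
    rw [map_sub, hL, Algebra.TensorProduct.lift_tmul, map_one, _root_.mul_one, sub_eq_zero]
    exact AlgHom.congr_fun hg b
  apply AlgHom.ext
  intro a
  have h1 := hle (h a)
  rw [RingHom.mem_ker] at h1
  change L _ = 0 at h1
  rw [augElt, hL, Algebra.TensorProduct.lift_tmul, map_one, _root_.one_mul, map_sub, sub_eq_zero,
    AlgHom.commutes] at h1
  rw [h1]
  simp [onePt, Algebra.ofId_apply]

theorem smul_eq_tmul_one_mul' (b : B) (y : B ⊗[R] A) : b • y = (b ⊗ₜ[R] (1 : A)) * y := by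
  rw [Algebra.smul_def]
  rfl

/-- Nakayama: it suffices to check `augElt a ∈ stabIdeal` modulo every maximal ideal of `B`. -/
theorem augElt_mem_of_forall_maximal [Module.Finite R A]
    (h : ∀ P : Ideal B, P.IsMaximal → ∀ a : A, ∃ j ∈ stabIdeal R A B,
      augElt R A B a - j ∈ Ideal.map (Algebra.TensorProduct.includeLeft : B →ₐ[R] B ⊗[R] A) P)
    (a : A) : augElt R A B a ∈ stabIdeal R A B := by
  set N : Submodule B (B ⊗[R] A) :=
    Submodule.span B {(1 : B ⊗[R] A)} ⊔ (stabIdeal R A B).restrictScalars B with hN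
  have hsmul : ∀ (Q : Ideal (B ⊗[R] A)) (b : B) (y : B ⊗[R] A), y ∈ Q → b • y ∈ Q := by
    intro Q b y hy
    rw [smul_eq_tmul_one_mul']
    exact Q.mul_mem_left _ hy
  have hNtop : N = ⊤ := by
    apply eq_top_of_forall_maximal
    intro P hP y hy
    clear hy
    have hmapP : ∀ k ∈ Ideal.map (Algebra.TensorProduct.includeLeft : B →ₐ[R] B ⊗[R] A) P,
        k ∈ P • (⊤ : Submodule B (B ⊗[R] A)) := by
      intro k hk
      rw [Ideal.map] at hk
      refine Submodule.span_induction ?_ ?_ ?_ ?_ hk
      · rintro _ ⟨c, hc, rfl⟩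
        have : (Algebra.TensorProduct.includeLeft : B →ₐ[R] B ⊗[R] A) c = c • (1 : B ⊗[R] A) := by
          rw [smul_eq_tmul_one_mul', _root_.mul_one]; rfl
        rw [this]
        exact Submodule.smul_mem_smul hc trivial
      · exact Submodule.zero_mem _
      · intro x y _ _ hx hy
        exact Submodule.add_mem _ hx hy
      · intro c x _ hx
        rw [smul_eq_mul]
        refine Submodule.smul_induction_on hx ?_ ?_
        · intro r hr n _
          have : c * r • n = r • (c * n) := by
            rw [smul_eq_tmul_one_mul', smul_eq_tmul_one_mul']; ring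
          rw [this]
          exact Submodule.smul_mem_smul hr trivial
        · intro x y hx hy
          rw [mul_add]
          exact Submodule.add_mem _ hx hy
    induction y using TensorProduct.induction_on with
    | zero => exact Submodule.zero_mem _
    | add x y hx hy => exact Submodule.add_mem _ hx hy
    | tmul b a' =>
      obtain ⟨j, hj, hk⟩ := h P hP a'
      have e : b ⊗ₜ[R] a' = b • ((1 : B) ⊗ₜ[R]
          algebraMap R A (CoalgebraStruct.counit (R := R) a') + j + (augElt R A B a' - j)) := by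
        rw [augElt, TensorProduct.tmul_sub, smul_eq_tmul_one_mul']
        have : (1 : B) ⊗ₜ[R] algebraMap R A (CoalgebraStruct.counit (R := R) a') + j +
            ((1 : B) ⊗ₜ[R] a' - (1 : B) ⊗ₜ[R] algebraMap R A (CoalgebraStruct.counit (R := R) a')
              - j) = (1 : B) ⊗ₜ[R] a' := by abel
        rw [this, Algebra.TensorProduct.tmul_mul_tmul, _root_.mul_one, _root_.one_mul]
      rw [e]
      apply Submodule.smul_mem
      apply Submodule.add_mem
      · apply Submodule.mem_sup_left
        rw [hN]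
        apply Submodule.add_mem
        · apply Submodule.mem_sup_left
          have : (1 : B) ⊗ₜ[R] algebraMap R A (CoalgebraStruct.counit (R := R) a') =
              (algebraMap R B (CoalgebraStruct.counit (R := R) a')) • (1 : B ⊗[R] A) := by
            rw [smul_eq_tmul_one_mul', _root_.mul_one, Algebra.algebraMap_eq_smul_one,
              Algebra.algebraMap_eq_smul_one, TensorProduct.tmul_smul, TensorProduct.smul_tmul']
          rw [this]
          exact Submodule.smul_mem _ _ (Submodule.subset_span rfl)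
        · apply Submodule.mem_sup_right
          exact hj
      · apply Submodule.mem_sup_right
        exact hmapP _ hk
  have h1 : augElt R A B a ∈ N := by rw [hNtop]; trivial
  rw [hN, Submodule.mem_sup] at h1
  obtain ⟨y₁, hy₁, j, hj, hsum⟩ := h1
  rw [Submodule.mem_span_singleton] at hy₁
  obtain ⟨b, rfl⟩ := hy₁
  have hj' : j ∈ stabIdeal R A B := hj
  have h2 := congrArg (epsC R A B) hsum
  rw [map_add, epsC_augElt, map_smul, map_one, smul_eq_mul, _root_.mul_one] at h2
  have h3 : epsC R A B j = 0 := stabIdeal_le_ker_epsC hj'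
  rw [h3, add_zero] at h2
  rw [← hsum, h2, zero_smul, zero_add]
  exact hj'

theorem map_augElt_eq_zero_of_inertiaTrivR {K : Type u} [CommRing K] [Algebra R K]
    (x : B →ₐ[R] K) (hI : InertiaTrivR R A B x)
    {C : Type u} [CommRing C] [Algebra R C] (q : K ⊗[R] A →ₐ[R] C)
    (hq : ∀ b : B, q (Algebra.TensorProduct.map x (AlgHom.id R A)
      (GLin.coactAlgHom R A B b - b ⊗ₜ[R] (1 : A))) = 0) (a : A) :
    q (Algebra.TensorProduct.map x (AlgHom.id R A) (augElt R A B a)) = 0 := by
  set π : B ⊗[R] A →ₐ[R] K ⊗[R] A := Algebra.TensorProduct.map x (AlgHom.id R A) with hπ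
  set φ : K →ₐ[R] C := q.comp (Algebra.TensorProduct.includeLeft : K →ₐ[R] K ⊗[R] A) with hφ
  set g : A →ₐ[R] C := q.comp (Algebra.TensorProduct.includeRight : A →ₐ[R] K ⊗[R] A) with hg
  have hlift : Algebra.TensorProduct.lift (φ.comp x) g (fun _ _ => .all _ _) = q.comp π := by
    apply Algebra.TensorProduct.ext'
    intro b a'
    rw [Algebra.TensorProduct.lift_tmul, hφ, hg, hπ]
    simp only [AlgHom.comp_apply, Algebra.TensorProduct.includeLeft_apply,
      Algebra.TensorProduct.includeRight_apply, Algebra.TensorProduct.map_tmul, AlgHom.coe_id,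
      id_eq, ← map_mul, Algebra.TensorProduct.tmul_mul_tmul, _root_.mul_one, _root_.one_mul]
  have hfix : ractPt R A B (φ.comp x) g = φ.comp x := by
    apply AlgHom.ext
    intro b
    rw [ractPt, hlift]
    have e : (φ.comp x) b = q (π (b ⊗ₜ[R] (1 : A))) := by
      rw [hφ, hπ]
      simp only [AlgHom.comp_apply, Algebra.TensorProduct.includeLeft_apply,
        Algebra.TensorProduct.map_tmul, map_one]
    rw [e, AlgHom.comp_apply, AlgHom.comp_apply, ← sub_eq_zero, ← map_sub, ← map_sub]
    exact hq b
  have h1 := hI _ φ g hfix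
  have h2 := AlgHom.congr_fun h1 a
  rw [augElt, hπ, Algebra.TensorProduct.map_tmul, map_one, AlgHom.coe_id, id_eq,
    TensorProduct.tmul_sub, map_sub, sub_eq_zero]
  have e1 : q ((1 : K) ⊗ₜ[R] a) = g a := rfl
  have e2 : q ((1 : K) ⊗ₜ[R] algebraMap R A (CoalgebraStruct.counit (R := R) a)) =
      onePt R A C a := by
    rw [onePt, AlgHom.comp_apply, Algebra.ofId_apply, Bialgebra.counitAlgHom_apply,
      Algebra.algebraMap_eq_smul_one (A := A), TensorProduct.tmul_smul,
      ← Algebra.TensorProduct.one_def, Algebra.algebraMap_eq_smul_one, map_smul, map_one]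
  rw [e1, e2, h2]

/-- Triviality of the inertia at the point `B → B ⧸ P` gives `augElt a ∈ stabIdeal` modulo `P`. -/
theorem exists_mem_stabIdeal_of_inertiaTrivR (P : Ideal B)
    (hI : InertiaTrivR R A B (Ideal.Quotient.mkₐ R P)) (a : A) :
    ∃ j ∈ stabIdeal R A B,
      augElt R A B a - j ∈ Ideal.map (Algebra.TensorProduct.includeLeft : B →ₐ[R] B ⊗[R] A) P := by
  set xP : B →ₐ[R] B ⧸ P := Ideal.Quotient.mkₐ R P with hxP
  set π : B ⊗[R] A →ₐ[R] (B ⧸ P) ⊗[R] A := Algebra.TensorProduct.map xP (AlgHom.id R A) with hπ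
  have hπs : Function.Surjective π :=
    Algebra.TensorProduct.map_surjective xP (AlgHom.id R A) (Ideal.Quotient.mkₐ_surjective R P)
      (fun y => ⟨y, rfl⟩)
  set JP : Ideal ((B ⧸ P) ⊗[R] A) := Ideal.map π (stabIdeal R A B) with hJP
  have h0 := map_augElt_eq_zero_of_inertiaTrivR xP hI (C := ((B ⧸ P) ⊗[R] A) ⧸ JP)
    (Ideal.Quotient.mkₐ R JP) (by
    intro b
    rw [Ideal.Quotient.mkₐ_eq_mk, Ideal.Quotient.eq_zero_iff_mem]
    exact Ideal.mem_map_of_mem _ (Ideal.subset_span ⟨b, rfl⟩)) a
  have h3 : π (augElt R A B a) ∈ JP := by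
    rw [← Ideal.Quotient.eq_zero_iff_mem]
    exact h0
  rw [hJP, Ideal.mem_map_iff_of_surjective _ hπs] at h3
  obtain ⟨j, hj, hjπ⟩ := h3
  refine ⟨j, hj, ?_⟩
  have h4 : augElt R A B a - j ∈ RingHom.ker (π : B ⊗[R] A →+* (B ⧸ P) ⊗[R] A) := by
    rw [RingHom.mem_ker]
    change π _ = 0
    rw [map_sub, hjπ, sub_self]
  have hker := Algebra.TensorProduct.rTensor_ker (R := R) (C := A) xP
    (Ideal.Quotient.mkₐ_surjective R P)
  have hkP : RingHom.ker (Ideal.Quotient.mkₐ R P) = P := by
    ext y
    rw [RingHom.mem_ker, Ideal.Quotient.mkₐ_eq_mk, Ideal.Quotient.eq_zero_iff_mem]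
  rw [hkP] at hker
  rw [← hker]
  exact h4

end Free

end Groth.Agent.Lib.Helper25CoactBrS
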