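import Groth.Agent.Lib.Helper25CoactBrJ

/-!
# Helper25CoactBrK: conjugacy/transfer of inertia and integrality for a general invariant ring
(helper25)
-/

set_option autoImplicit false
universe u

namespace Groth.Agent.Lib.Helper25CoactBrS

open CategoryTheory MonoidalCategory CartesianMonoidalCategory MonObj AlgebraicGeometry CoactBr
open Groth.Agent.Lib.Helper25.CoactBr
open scoped TensorProduct

/-- Two fields receiving maps from a ring with the same kernel embed compatibly into a common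
algebraically closed field. -/
theorem exists_common_algClosed' (C₀ K₁ K₂ : Type u) [CommRing C₀] [Field K₁] [Field K₂]
    (f₁ : C₀ →+* K₁) (f₂ : C₀ →+* K₂) (hq : RingHom.ker f₁ = RingHom.ker f₂) :
    ∃ (Ω : Type u) (_ : Field Ω) (_ : IsAlgClosed Ω) (j₁ : K₁ →+* Ω) (j₂ : K₂ →+* Ω),
      j₁.comp f₁ = j₂.comp f₂ := by
  letI := f₁.toAlgebra
  letI := f₂.toAlgebra
  obtain ⟨Ω, hΩ, hΩ', hΩ'', j₁, j₂, -⟩ := exists_common_algClosed C₀ K₁ K₂ hq
  refine ⟨Ω, hΩ, hΩ', j₁, j₂, ?_⟩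
  ext c
  exact (j₁.commutes c).trans (j₂.commutes c).symm

section Conj

variable {R A B : Type u} [CommRing R] [CommRing A] [HopfAlgebra R A]
  [Module.Finite R A] [Module.Projective R A]
  [CommRing B] [Algebra R B] [HopfRep.Comod R A B] [GLin.IsCoactAlg R A B]

theorem exists_pt_inertia_conj'
    {K : Type u} [Field K] [IsAlgClosed K] [Algebra R K] (x₁ x₂ : B →ₐ[R] K)
    (hx : ∀ b ∈ GLin.invariants R A B, x₁ b = x₂ b) :
    ∃ g : sp R K ⟶ sp R A,
      ∀ (T : Over (Spec (CommRingCat.of R))) (h : T ⟶ sp R K) (k : T ⟶ sp R A),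
        lift k (h ≫ pt x₁) ≫ (action R A B).act = h ≫ pt x₁ ↔
          lift ((h ≫ g)⁻¹ * k * (h ≫ g)) (h ≫ pt x₂) ≫ (action R A B).act = h ≫ pt x₂ := by
  obtain ⟨g₀, hg₀⟩ := exists_ractPt_eq' x₁ x₂ hx
  have hpt : lift (pt x₂) (pt g₀) ≫ ract R A B = pt x₁ := by
    rw [lift_pt_ract]
    exact congrArg pt hg₀
  refine ⟨(pt g₀)⁻¹, ?_⟩
  intro T h k
  set ξ₁ := h ≫ pt x₁ with hξ₁
  set ξ₂ := h ≫ pt x₂ with hξ₂
  set δ := h ≫ pt g₀ with hδ
  have hξ : lift ξ₂ δ ≫ ract R A B = ξ₁ := by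
    rw [hξ₁, ← hpt, ← Category.assoc, comp_lift]
  have hγ : h ≫ (pt g₀)⁻¹ = δ⁻¹ := GrpObj.comp_inv _ _
  rw [hγ, lift_action_act, lift_action_act]
  have hconj : (δ⁻¹⁻¹ * k * δ⁻¹)⁻¹ = δ * k⁻¹ * δ⁻¹ := by group
  rw [hconj]
  constructor
  · intro hk
    rw [← hξ, lift_ract_ract] at hk
    have h2 := congrArg (fun ζ => lift ζ δ⁻¹ ≫ ract R A B) hk
    simp only [lift_ract_ract] at h2
    rw [mul_inv_cancel, lift_one_ract] at h2
    exact h2
  · intro hk
    have h2 := congrArg (fun ζ => lift ζ δ ≫ ract R A B) hk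
    simp only [lift_ract_ract] at h2
    rw [inv_mul_cancel_right, hξ, ← lift_ract_ract, hξ] at h2
    exact h2

/-- Triviality of the inertia transfers between points over the same prime of the invariant
ring. -/
theorem inertiaTrivS_of_ker_eq'
    {K₁ K₂ : Type u} [Field K₁] [Algebra R K₁] [Field K₂] [Algebra R K₂]
    (x₁ : B →ₐ[R] K₁) (x₂ : B →ₐ[R] K₂)
    (hq : RingHom.ker ((x₁ : B →+* K₁).comp (GLin.invariants R A B).val.toRingHom) =
      RingHom.ker ((x₂ : B →+* K₂).comp (GLin.invariants R A B).val.toRingHom))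
    (h₁ : InertiaTrivS R A B x₁) : InertiaTrivS R A B x₂ := by
  obtain ⟨Ω, _, _, j₁, j₂, hj⟩ := exists_common_algClosed' _ K₁ K₂ _ _ hq
  letI : Algebra R Ω := (j₁.comp (algebraMap R K₁)).toAlgebra
  have hjc : ∀ c : GLin.invariants R A B, j₁ (x₁ c) = j₂ (x₂ c) := fun c =>
    RingHom.congr_fun hj c
  let J₁ : K₁ →ₐ[R] Ω := { toRingHom := j₁, commutes' := fun r => rfl }
  let J₂ : K₂ →ₐ[R] Ω :=
    { toRingHom := j₂
      commutes' := fun r => by
        have h := hjc ⟨algebraMap R B r, Subalgebra.algebraMap_mem _ r⟩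
        simp only [AlgHom.commutes] at h
        exact h.symm }
  have h2 : InertiaTrivS R A B (J₁.comp x₁) := inertiaTrivS_comp J₁ x₁ h₁
  obtain ⟨g, hg⟩ := exists_pt_inertia_conj' (J₁.comp x₁) (J₂.comp x₂)
    (fun b hb => hjc ⟨b, hb⟩)
  have h3 : InertiaTrivS R A B (J₂.comp x₂) := by
    intro T t k hk
    have e : (t ≫ g)⁻¹ * ((t ≫ g) * k * (t ≫ g)⁻¹) * (t ≫ g) = k := by group
    have h4 := (hg T t ((t ≫ g) * k * (t ≫ g)⁻¹)).mpr (by rw [e]; exact hk)
    have h5 := h2 T t _ h4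
    have : k = (t ≫ g)⁻¹ * ((t ≫ g) * k * (t ≫ g)⁻¹) * (t ≫ g) := e.symm
    rw [this, h5]
    group
  rw [inertiaTrivS_iff] at h3 ⊢
  exact inertiaTrivR_of_comp J₂ x₂ h3

/-- `B` is integral over the invariants. -/
theorem isIntegral_invariants : Algebra.IsIntegral (GLin.invariants R A B) B := by
  classical
  constructor
  intro b
  rcases subsingleton_or_nontrivial B with hB | hB
  · exact ⟨Polynomial.X, Polynomial.monic_X, Subsingleton.elim _ _⟩
  obtain ⟨n, p, i, -, -, hpi⟩ := Module.Finite.exists_comp_eq_id_of_projective R A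
  have hρ : IsCoaction (GLin.coactAlgHom R A B) := isCoaction_coactAlgHom R A B
  set χ := (Fm i p B (GLin.coactAlgHom R A B b)).charpoly with hχ
  have hmonic : χ.Monic := LinearMap.charpoly_monic _
  have hlift : χ ∈ Polynomial.lifts (algebraMap (GLin.invariants R A B) B) := by
    rw [Polynomial.lifts_iff_coeff_lifts]
    intro k
    exact ⟨⟨_, rho_coeff_charpoly i p hpi hρ b k⟩, rfl⟩
  obtain ⟨q, hq, -, hqm⟩ := Polynomial.lifts_and_degree_eq_and_monic hlift hmonic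
  refine ⟨q, hqm, ?_⟩
  rw [← Polynomial.eval_map, hq]
  have := aeval_self_charpoly_rho i p hpi hρ b
  rwa [Polynomial.aeval_def, Algebra.algebraMap_self, Polynomial.eval₂_id] at this

end Conj

end Groth.Agent.Lib.Helper25CoactBrS
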