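import Groth.Agent.Lib.Helper25CoactBrK

/-!
# Helper25CoactBrL: from triviality of the inertia at a point to freeness over a basic open
neighbourhood of its image in the quotient (helper25)
-/

set_option autoImplicit false
universe u

namespace Groth.Agent.Lib.Helper25CoactBrS

open CategoryTheory AlgebraicGeometry CoactBr
open Groth.Agent.Lib.Helper25.CoactBr
open scoped TensorProduct

section Nbhd

variable (R A B : Type u) [CommRing R] [CommRing A] [HopfAlgebra R A]
  [CommRing B] [Algebra R B] [HopfRep.Comod R A B] [GLin.IsCoactAlg R A B]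

/-- The `B`-submodule `B·1 + J` of `B ⊗ A`, `J` the ideal of the stabiliser scheme. -/
noncomputable def stabSub : Submodule B (B ⊗[R] A) :=
  Submodule.span B {(1 : B ⊗[R] A)} ⊔ (stabIdeal R A B).restrictScalars B

variable {R A B}

theorem mem_stabSub_of_mem_stabIdeal {j : B ⊗[R] A} (hj : j ∈ stabIdeal R A B) :
    j ∈ stabSub R A B :=
  Submodule.mem_sup_right hj

theorem one_tmul_algebraMap_mem_stabSub (r : R) :
    (1 : B) ⊗ₜ[R] algebraMap R A r ∈ stabSub R A B := by
  apply Submodule.mem_sup_left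
  have : (1 : B) ⊗ₜ[R] algebraMap R A r = (algebraMap R B r) • (1 : B ⊗[R] A) := by
    rw [smul_eq_tmul_one_mul', mul_one, Algebra.algebraMap_eq_smul_one,
      Algebra.algebraMap_eq_smul_one, TensorProduct.tmul_smul, TensorProduct.smul_tmul']
  rw [this]
  exact Submodule.smul_mem _ _ (Submodule.subset_span rfl)

/-- Elements of the annihilator of `(B ⊗ A) / (B·1 + J)` push `augElt a` into `J`. -/
theorem smul_augElt_mem_of_mem_annihilator {b : B}
    (hb : b ∈ Module.annihilator B ((B ⊗[R] A) ⧸ stabSub R A B)) (a : A) :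
    (b ⊗ₜ[R] (1 : A)) * augElt R A B a ∈ stabIdeal R A B := by
  have h0 : b • (stabSub R A B).mkQ (augElt R A B a) = 0 := Module.mem_annihilator.mp hb _
  rw [← map_smul, Submodule.mkQ_apply, Submodule.Quotient.mk_eq_zero, stabSub,
    Submodule.mem_sup] at h0
  obtain ⟨y₁, hy₁, j, hj, hsum⟩ := h0
  rw [Submodule.mem_span_singleton] at hy₁
  obtain ⟨b', rfl⟩ := hy₁
  have hj' : j ∈ stabIdeal R A B := hj
  have h2 := congrArg (epsC R A B) hsum
  rw [map_add, map_smul, map_smul, epsC_augElt, map_one, smul_eq_mul, smul_eq_mul, mul_one,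
    mul_zero] at h2
  have h3 : epsC R A B j = 0 := stabIdeal_le_ker_epsC hj'
  rw [h3, add_zero] at h2
  rw [← smul_eq_tmul_one_mul', ← hsum, h2, zero_smul, zero_add]
  exact hj'

/-- If `f` pushes all `augElt a` into `J`, points at which `f` is invertible have trivial
stabiliser. -/
theorem fixR_of_smul_augElt_mem {f : B}
    (h : ∀ a : A, (f ⊗ₜ[R] (1 : A)) * augElt R A B a ∈ stabIdeal R A B)
    {C : Type u} [CommRing C] [Algebra R C] (z : B →ₐ[R] C) (hz : IsUnit (z f)) :
    FixR R A B z := by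
  intro g hg
  set L : B ⊗[R] A →ₐ[R] C := Algebra.TensorProduct.lift z g (fun _ _ => .all _ _) with hL
  have hle : stabIdeal R A B ≤ RingHom.ker (L : B ⊗[R] A →+* C) := by
    rw [stabIdeal, Ideal.span_le]
    rintro _ ⟨b, rfl⟩
    rw [SetLike.mem_coe, RingHom.mem_ker]
    change L _ = 0
    rw [map_sub, hL, Algebra.TensorProduct.lift_tmul, map_one, mul_one, sub_eq_zero]
    exact AlgHom.congr_fun hg b
  apply AlgHom.ext
  intro a
  have h1 := hle (h a)
  rw [RingHom.mem_ker] at h1
  change L _ = 0 at h1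
  rw [map_mul, augElt, hL, Algebra.TensorProduct.lift_tmul, Algebra.TensorProduct.lift_tmul,
    map_one, map_one, one_mul, mul_one, map_sub, AlgHom.commutes] at h1
  have h2 := hz.mul_right_eq_zero.mp h1
  rw [sub_eq_zero] at h2
  rw [h2]
  simp [onePt, Algebra.ofId_apply]

section Fibre

variable [Module.Finite R A] (P : Ideal B) [P.IsPrime]

/-- The point `B → κ(P)`. -/
noncomputable def resPt : B →ₐ[R] P.ResidueField := IsScalarTower.toAlgHom R B P.ResidueField

/-- `κ(P) ⊗_R A → κ(P) ⊗_B ((B ⊗ A)/(B·1 + J))`. -/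
noncomputable def fibMap :
    P.ResidueField ⊗[R] A →ₗ[P.ResidueField] P.ResidueField ⊗[B] ((B ⊗[R] A) ⧸ stabSub R A B) :=
  LinearMap.liftBaseChange P.ResidueField
    ((TensorProduct.mk B P.ResidueField ((B ⊗[R] A) ⧸ stabSub R A B) 1).restrictScalars R ∘ₗ
      ((stabSub R A B).mkQ.restrictScalars R) ∘ₗ
      (TensorProduct.mk R B A 1))

theorem fibMap_tmul (k : P.ResidueField) (a : A) :
    fibMap P (k ⊗ₜ[R] a) = k ⊗ₜ[B] (stabSub R A B).mkQ ((1 : B) ⊗ₜ[R] a) := by
  rw [fibMap, LinearMap.liftBaseChange_tmul]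
  simp only [LinearMap.coe_comp, LinearMap.coe_restrictScalars, Function.comp_apply,
    TensorProduct.mk_apply, TensorProduct.smul_tmul', smul_eq_mul, mul_one]

theorem fibMap_map (e : B ⊗[R] A) :
    fibMap P (Algebra.TensorProduct.map (resPt (R := R) P) (AlgHom.id R A) e) =
      (1 : P.ResidueField) ⊗ₜ[B] (stabSub R A B).mkQ e := by
  induction e using TensorProduct.induction_on with
  | zero => simp
  | add x y hx hy => simp only [map_add, hx, hy, TensorProduct.tmul_add]
  | tmul b a =>
    rw [Algebra.TensorProduct.map_tmul, fibMap_tmul, AlgHom.coe_id, id_eq]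
    have e1 : resPt (R := R) P b = b • (1 : P.ResidueField) := by
      rw [Algebra.smul_def, mul_one]; rfl
    have e2 : b ⊗ₜ[R] a = b • ((1 : B) ⊗ₜ[R] a) := by
      rw [TensorProduct.smul_tmul', smul_eq_mul, mul_one]
    rw [e1, e2, map_smul, TensorProduct.smul_tmul]

theorem fibMap_mul_map_of_mem (y : P.ResidueField ⊗[R] A) {j : B ⊗[R] A}
    (hj : j ∈ stabIdeal R A B) :
    fibMap P (y * Algebra.TensorProduct.map (resPt (R := R) P) (AlgHom.id R A) j) = 0 := by
  induction y using TensorProduct.induction_on with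
  | zero => simp
  | add x y hx hy => simp only [add_mul, map_add, hx, hy, add_zero]
  | tmul k a =>
    have e1 : (k ⊗ₜ[R] a : P.ResidueField ⊗[R] A) *
        Algebra.TensorProduct.map (resPt (R := R) P) (AlgHom.id R A) j =
        k • Algebra.TensorProduct.map (resPt (R := R) P) (AlgHom.id R A) (((1 : B) ⊗ₜ[R] a) * j) := by
      rw [map_mul, Algebra.TensorProduct.map_tmul, map_one, AlgHom.coe_id, id_eq,
        ← Algebra.smul_mul_assoc, TensorProduct.smul_tmul', smul_eq_mul, mul_one]
    rw [e1, map_smul, fibMap_map]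
    have h0 : (stabSub R A B).mkQ (((1 : B) ⊗ₜ[R] a) * j) = 0 := by
      rw [Submodule.mkQ_apply, Submodule.Quotient.mk_eq_zero]
      exact mem_stabSub_of_mem_stabIdeal ((stabIdeal R A B).mul_mem_left _ hj)
    rw [h0, TensorProduct.tmul_zero, smul_zero]

/-- The ideal of elements all of whose multiples are killed by `fibMap`. -/
noncomputable def fibIdeal : Ideal (P.ResidueField ⊗[R] A) where
  carrier := {z | ∀ y, fibMap (R := R) (A := A) P (y * z) = 0}
  zero_mem' := by intro y; simp
  add_mem' := by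
    intro z z' hz hz' y
    rw [mul_add, map_add, hz y, hz' y, add_zero]
  smul_mem' := by
    intro c z hz y
    rw [smul_eq_mul, ← mul_assoc]
    exact hz (y * c)

theorem subsingleton_fibre (hI : InertiaTrivR R A B (resPt (R := R) P)) :
    Subsingleton (P.ResidueField ⊗[B] ((B ⊗[R] A) ⧸ stabSub R A B)) := by
  have haug : ∀ a : A, (1 : P.ResidueField) ⊗ₜ[B] (stabSub R A B).mkQ (augElt R A B a) = 0 := by
    intro a
    have h0 := map_augElt_eq_zero_of_inertiaTrivR (resPt (R := R) P) hI
      (C := (P.ResidueField ⊗[R] A) ⧸ fibIdeal (R := R) (A := A) P)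
      (Ideal.Quotient.mkₐ R (fibIdeal P)) (by
        intro b
        rw [Ideal.Quotient.mkₐ_eq_mk, Ideal.Quotient.eq_zero_iff_mem]
        intro y
        exact fibMap_mul_map_of_mem P y (Ideal.subset_span ⟨b, rfl⟩)) a
    rw [Ideal.Quotient.mkₐ_eq_mk, Ideal.Quotient.eq_zero_iff_mem] at h0
    have h1 := h0 1
    rw [one_mul, fibMap_map] at h1
    exact h1
  have hone : ∀ a : A, (1 : P.ResidueField) ⊗ₜ[B] (stabSub R A B).mkQ ((1 : B) ⊗ₜ[R] a) = 0 := by
    intro a
    have e : (1 : B) ⊗ₜ[R] a = augElt R A B a +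
        (1 : B) ⊗ₜ[R] algebraMap R A (CoalgebraStruct.counit (R := R) a) := by
      rw [augElt, TensorProduct.tmul_sub, sub_add_cancel]
    have h2 : (stabSub R A B).mkQ
        ((1 : B) ⊗ₜ[R] algebraMap R A (CoalgebraStruct.counit (R := R) a)) = 0 := by
      rw [Submodule.mkQ_apply, Submodule.Quotient.mk_eq_zero]
      exact one_tmul_algebraMap_mem_stabSub _
    rw [e, map_add, h2, add_zero, haug]
  refine ⟨fun v w => ?_⟩
  suffices h : ∀ v : P.ResidueField ⊗[B] ((B ⊗[R] A) ⧸ stabSub R A B), v = 0 by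
    rw [h v, h w]
  intro v
  induction v using TensorProduct.induction_on with
  | zero => rfl
  | add x y hx hy => rw [hx, hy, add_zero]
  | tmul k m =>
    obtain ⟨e, rfl⟩ := (stabSub R A B).mkQ_surjective m
    induction e using TensorProduct.induction_on with
    | zero => simp
    | add x y hx hy => rw [map_add, TensorProduct.tmul_add, hx, hy, add_zero]
    | tmul b a =>
      have e2 : b ⊗ₜ[R] a = b • ((1 : B) ⊗ₜ[R] a) := by
        rw [TensorProduct.smul_tmul', smul_eq_mul, mul_one]
      have e3 : k ⊗ₜ[B] (stabSub R A B).mkQ (b • ((1 : B) ⊗ₜ[R] a)) =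
          (b • k) • ((1 : P.ResidueField) ⊗ₜ[B] (stabSub R A B).mkQ ((1 : B) ⊗ₜ[R] a)) := by
        rw [map_smul, ← TensorProduct.smul_tmul, TensorProduct.smul_tmul', smul_eq_mul, mul_one]
      rw [e2, e3, hone, smul_zero]

end Fibre

/-- Triviality of the inertia at `x` gives an invariant function `f`, non-zero at `x`, over whose
non-vanishing locus the action is free. -/
theorem exists_invariant_nbhd [Module.Finite R A] [Module.Projective R A]
    {K : Type u} [Field K] [Algebra R K] (x : B →ₐ[R] K) (hI : InertiaTrivS R A B x) :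
    ∃ f ∈ GLin.invariants R A B, x f ≠ 0 ∧
      ∀ a : A, (f ⊗ₜ[R] (1 : A)) * augElt R A B a ∈ stabIdeal R A B := by
  set Cinv := GLin.invariants R A B with hCinv
  set 𝔟 := Module.annihilator B ((B ⊗[R] A) ⧸ stabSub R A B) with h𝔟
  set q : Ideal Cinv := RingHom.ker ((x : B →+* K).comp Cinv.val.toRingHom) with hq
  haveI : q.IsPrime := RingHom.ker_isPrime _
  have claim : ¬ (Ideal.comap (algebraMap Cinv B) 𝔟 ≤ q) := by
    intro hle
    haveI : Algebra.IsIntegral Cinv B := isIntegral_invariants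
    obtain ⟨P, hP𝔟, hPprime, hPq⟩ := Ideal.exists_ideal_over_prime_of_isIntegral q 𝔟 hle
    have hq' : RingHom.ker ((x : B →+* K).comp Cinv.val.toRingHom) =
        RingHom.ker (((resPt (R := R) P) : B →+* P.ResidueField).comp Cinv.val.toRingHom) := by
      rw [← hq, ← hPq]
      ext c
      rw [Ideal.mem_comap, RingHom.mem_ker, RingHom.comp_apply]
      change _ ↔ algebraMap B P.ResidueField _ = 0
      rw [Ideal.algebraMap_residueField_eq_zero]
      rfl
    have hIP : InertiaTrivS R A B (resPt (R := R) P) := inertiaTrivS_of_ker_eq' x _ hq' hI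
    have hsub := subsingleton_fibre P ((inertiaTrivS_iff _).mp hIP)
    have hsupp : (⟨P, hPprime⟩ : PrimeSpectrum B) ∈
        Module.support B ((B ⊗[R] A) ⧸ stabSub R A B) :=
      Module.mem_support_iff_of_finite.mpr hP𝔟
    rw [Module.mem_support_iff_nontrivial_residueField_tensorProduct] at hsupp
    exact not_subsingleton _ hsub
  rw [SetLike.not_le_iff_exists] at claim
  obtain ⟨c, hc𝔟, hcq⟩ := claim
  refine ⟨c.1, c.2, ?_, ?_⟩
  · intro h0
    exact hcq h0
  · intro a
    exact smul_augElt_mem_of_mem_annihilator hc𝔟 a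

end Nbhd

end Groth.Agent.Lib.Helper25CoactBrS
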