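import Groth.Agent.Lib.Helper25CoactBrL

/-!
# Helper25CoactBrM: scheme-level assembly: trivial inertia at a point iff the action is free over
a flat neighbourhood of the image point in the quotient (helper25)
-/

set_option autoImplicit false
universe u

namespace Groth.Agent.Lib.Helper25CoactBrS

open CategoryTheory MonoidalCategory CartesianMonoidalCategory MonObj AlgebraicGeometry CoactBr
open Groth.Agent.Lib.Helper25.CoactBr
open Groth.Agent.Lib.Helper24FlatTF Groth.Agent.Lib.Helper10.PtsBij
open scoped TensorProduct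

section Assembly

variable {R A B K : Type u} [CommRing R] [CommRing A] [HopfAlgebra R A]
  [Module.Finite R A] [Module.Projective R A]
  [CommRing B] [Algebra R B] [HopfRep.Comod R A B] [GLin.IsCoactAlg R A B]
  [Field K] [Algebra R K] (x : B →ₐ[R] K)

set_option backward.isDefEq.respectTransparency false in
theorem phi_left_toSp_comp_pt {T : Over (Spec (CommRingCat.of R))} (z : B →ₐ[R] ΓT T) :
    Phi (toSp T ≫ pt z).left = (z : B →+* ΓT T) := by
  have h1 : (toSp T ≫ pt z).left = T.left.toSpecΓ ≫ Spec.map (CommRingCat.ofHom z.toRingHom) := rfl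
  rw [h1, Phi_toSpecΓ_comp]
  rfl

set_option backward.isDefEq.respectTransparency false in
theorem exists_flat_nbhd_of_inertiaTrivS (hI : InertiaTrivS R A B x) :
    ∃ (Y' : Scheme.{u}) (c : Y' ⟶ Spec (CommRingCat.of (GLin.invariants R A B))),
      Flat c ∧ LocallyOfFinitePresentation c ∧
      (∃ y' : Y', c.base y' =
        (Spec.map (CommRingCat.ofHom (x.toRingHom.comp
          (GLin.invariants R A B).val.toRingHom))).base (IsLocalRing.closedPoint K)) ∧
      ∀ (T : Over (Spec (CommRingCat.of R))) (ζ : T ⟶ sp R B),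
        (∃ t : T.left ⟶ Y', t ≫ c = ζ.left ≫
          Spec.map (CommRingCat.ofHom (GLin.invariants R A B).val.toRingHom)) →
        ∀ g : T ⟶ sp R A, lift g ζ ≫ (action R A B).act = ζ → g = 1 := by
  obtain ⟨f, hfC, hxf, hf⟩ := exists_invariant_nbhd x hI
  set f' : GLin.invariants R A B := ⟨f, hfC⟩ with hf'
  refine ⟨Spec (CommRingCat.of (Localization.Away f')),
    Spec.map (CommRingCat.ofHom (algebraMap (GLin.invariants R A B) (Localization.Away f'))),
    inferInstance, inferInstance, ?_, ?_⟩
  · set y : PrimeSpectrum (GLin.invariants R A B) :=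
      (Spec.map (CommRingCat.ofHom (x.toRingHom.comp
          (GLin.invariants R A B).val.toRingHom))).base (IsLocalRing.closedPoint K) with hy
    have hmem : y ∈ PrimeSpectrum.basicOpen f' := by
      rw [PrimeSpectrum.mem_basicOpen]
      intro hin
      have h1 : f' ∈ (PrimeSpectrum.comap (x.toRingHom.comp
          (GLin.invariants R A B).val.toRingHom) (IsLocalRing.closedPoint K)).asIdeal := hin
      rw [PrimeSpectrum.comap_asIdeal, Ideal.mem_comap, IsLocalRing.closedPoint] at h1
      have h2 : x f = 0 := by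
        have h3 : x.toRingHom.comp (GLin.invariants R A B).val.toRingHom f' ∈
            IsLocalRing.maximalIdeal K := h1
        rw [IsLocalRing.maximalIdeal_eq_bot, Ideal.mem_bot] at h3
        exact h3
      exact hxf h2
    rw [← SetLike.mem_coe, ← PrimeSpectrum.localization_away_comap_range (Localization.Away f') f'] at hmem
    obtain ⟨y', hy'⟩ := hmem
    exact ⟨y', hy'⟩
  · rintro T ζ ⟨t, ht⟩ g hg
    obtain ⟨z, hz⟩ := exists_eq_toSp_comp_pt ζ
    have hunit : IsUnit (z f) := by
      have h1 := congrArg Phi ht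
      rw [Phi_comp, Phi_comp, hz, phi_left_toSp_comp_pt] at h1
      have h2 := RingHom.congr_fun h1 f'
      simp only [RingHom.comp_apply] at h2
      have h3 : (z : B →+* ΓT T) ((GLin.invariants R A B).val.toRingHom f') = z f := rfl
      rw [h3] at h2
      rw [← h2]
      exact (IsLocalization.Away.algebraMap_isUnit f').map _
    have hfix := (fixS_toSp_comp_pt_iff z).mpr (fixR_of_smul_augElt_mem hf z hunit)
    rw [← hz] at hfix
    exact hfix g hg

/-- The point of `Spec C` which is the image of the closed point of the spectrum of a field `F`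
under `Spec` of `χ : C → F` has ideal `ker χ`. -/
theorem asIdeal_SpecMap_closedPoint {C₀ F : Type u} [CommRing C₀] [Field F] (χ : C₀ →+* F) :
    ((Spec.map (CommRingCat.ofHom χ)).base (IsLocalRing.closedPoint F) :
      PrimeSpectrum C₀).asIdeal = RingHom.ker χ := by
  change (PrimeSpectrum.comap χ (IsLocalRing.closedPoint F)).asIdeal = _
  rw [PrimeSpectrum.comap_asIdeal, IsLocalRing.closedPoint]
  change Ideal.comap χ (IsLocalRing.maximalIdeal F) = _
  rw [IsLocalRing.maximalIdeal_eq_bot]
  rfl

set_option backward.isDefEq.respectTransparency false in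
theorem inertiaTrivS_of_exists_nbhd
    (Y' : Scheme.{u}) (c : Y' ⟶ Spec (CommRingCat.of (GLin.invariants R A B)))
    (hy : ∃ y' : Y', c.base y' =
        (Spec.map (CommRingCat.ofHom (x.toRingHom.comp
          (GLin.invariants R A B).val.toRingHom))).base (IsLocalRing.closedPoint K))
    (hfree : ∀ (T : Over (Spec (CommRingCat.of R))) (ζ : T ⟶ sp R B),
        (∃ t : T.left ⟶ Y', t ≫ c = ζ.left ≫
          Spec.map (CommRingCat.ofHom (GLin.invariants R A B).val.toRingHom)) →
        ∀ g : T ⟶ sp R A, lift g ζ ≫ (action R A B).act = ζ → g = 1) :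
    InertiaTrivS R A B x := by
  obtain ⟨y', hy'⟩ := hy
  set φ : GLin.invariants R A B →+* K :=
    x.toRingHom.comp (GLin.invariants R A B).val.toRingHom with hφ
  set ιy := Y'.fromSpecResidueField y' with hιy
  set ψ₀ : CommRingCat.of (GLin.invariants R A B) ⟶ Y'.residueField y' :=
    Spec.preimage (ιy ≫ c) with hψ₀
  have hψ₀' : Spec.map ψ₀ = ιy ≫ c := Spec.map_preimage _
  set ψ : GLin.invariants R A B →+* Y'.residueField y' := ψ₀.hom with hψ
  have hker : RingHom.ker φ = RingHom.ker ψ := by
    rw [← asIdeal_SpecMap_closedPoint φ, ← asIdeal_SpecMap_closedPoint ψ, ← hy']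
    congr 1
    have h1 : (Spec.map (CommRingCat.ofHom ψ)).base (IsLocalRing.closedPoint (Y'.residueField y'))
        = c.base (ιy.base (IsLocalRing.closedPoint (Y'.residueField y'))) := by
      have : Spec.map (CommRingCat.ofHom ψ) = ιy ≫ c := hψ₀'
      rw [this]
      rfl
    rw [h1]
    congr 1
    exact (Scheme.fromSpecResidueField_apply y' _).symm
  obtain ⟨Ω, _, _, j₁, j₂, hj⟩ := exists_common_algClosed' _ K (Y'.residueField y') φ ψ hker
  letI : Algebra R Ω := (j₁.comp (algebraMap R K)).toAlgebra
  let J₁ : K →ₐ[R] Ω := { toRingHom := j₁, commutes' := fun r => rfl }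
  have hΩ : InertiaTrivR R A B (J₁.comp x) := by
    intro C₁ _ _ φ₁
    apply fixR_of_fixS_pt
    intro g hg
    refine hfree (sp R C₁) (pt ((φ₁.comp J₁).comp x)) ⟨Spec.map (CommRingCat.ofHom
      ((φ₁ : Ω →+* C₁).comp j₂)) ≫ ιy, ?_⟩ g hg
    rw [Category.assoc, ← hψ₀', pt_left, ← Spec.map_comp, ← Spec.map_comp]
    congr 1
    apply CommRingCat.hom_ext
    apply RingHom.ext
    intro c₀
    have h := RingHom.congr_fun hj c₀
    simp only [RingHom.comp_apply] at h
    change φ₁ (j₂ (ψ c₀)) = φ₁ (J₁ (x c₀))
    rw [← h]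
    rfl
  rw [inertiaTrivS_iff]
  exact inertiaTrivR_of_comp J₁ x hΩ

end Assembly

end Groth.Agent.Lib.Helper25CoactBrS
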