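import Groth.Agent.Lib.Helper25CoeffMin

set_option autoImplicit false
universe u v v' w w' x

namespace Groth.Agent.Lib.Helper25

open TensorProduct HopfRep

section CoeffFG

variable {k : Type u} [Field k] {A : Type v} [AddCommGroup A] [Module k A] [Coalgebra k A]
variable {V : Type w} [AddCommGroup V] [Module k V] [Comod k A V]

theorem coeffMap_add (l l' : V →ₗ[k] k) :
    coeffMap (A := A) (l + l') = coeffMap l + coeffMap l' := by
  unfold coeffMap lslice
  rw [LinearMap.rTensor_add, LinearMap.comp_add, LinearMap.add_comp]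

theorem coeffMap_smul (c : k) (l : V →ₗ[k] k) :
    coeffMap (A := A) (c • l) = c • coeffMap l := by
  unfold coeffMap lslice
  rw [LinearMap.rTensor_smul, LinearMap.comp_smul, LinearMap.smul_comp]

/-- The bilinear matrix-coefficient pairing. -/
noncomputable def coeffMapL : (V →ₗ[k] k) →ₗ[k] V →ₗ[k] A where
  toFun l := coeffMap l
  map_add' := coeffMap_add
  map_smul' := coeffMap_smul

theorem coeffSpace_eq_range_lift :
    coeffSpace k A V = LinearMap.range (TensorProduct.lift (coeffMapL (A := A) (V := V))) := by
  apply le_antisymm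
  · apply iSup_le
    rintro l _ ⟨v, rfl⟩
    exact ⟨l ⊗ₜ[k] v, by simp [coeffMapL]⟩
  · rintro _ ⟨x, rfl⟩
    induction x using TensorProduct.induction_on with
    | zero => simp
    | add x y hx hy => rw [map_add]; exact Submodule.add_mem _ hx hy
    | tmul l v => simpa [coeffMapL] using coeffMap_mem_coeffSpace (A := A) l v

theorem coeffSpace_fg [Module.Finite k V] : (coeffSpace k A V).FG := by
  rw [coeffSpace_eq_range_lift]
  exact Module.Finite.iff_fg.mp (Module.Finite.range _)

/-- A nonzero coalgebra has a simple finite-dimensional subcomodule `E` of its regular comodule;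
if the coalgebra is simple its coefficient space is everything. -/
theorem exists_simple_subcomod_coeffSpace_eq_top [Nontrivial A]
    (hs : ∀ B : Submodule k A, IsSubcoalg B → B = ⊥ ∨ B = ⊤) :
    ∃ (E : Submodule k A) (hE : IsSubcomod (k := k) (A := A) E), E.FG ∧
      (@IsSimpleComod k A _ _ _ _ E _ _ (subComod E hE)) ∧
      (letI := subComod E hE; coeffSpace k A E) = ⊤ := by
  obtain ⟨E, -, hE0, hE, hfg, hmin⟩ :=
    exists_minimal_subcomod_le (⊤ : Submodule k A) (isSubcomod_top (k := k) (A := A) (V := A))
      top_ne_bot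
  refine ⟨E, hE, hfg, isSimpleComod_subComod hE hE0 hmin, ?_⟩
  letI := subComod E hE
  rcases hs _ (isSubcoalg_coeffSpace (V := E)) with h | h
  · exfalso
    apply hE0
    have := le_coeffSpace_subComod E hE
    rw [h] at this
    exact le_bot_iff.mp this
  · exact h

/-- A simple coalgebra over a field is finite-dimensional. -/
theorem finite_of_simple_coalg [Nontrivial A]
    (hs : ∀ B : Submodule k A, IsSubcoalg B → B = ⊥ ∨ B = ⊤) : Module.Finite k A := by
  obtain ⟨E, hE, hfg, -, hcf⟩ := exists_simple_subcomod_coeffSpace_eq_top hs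
  letI := subComod E hE
  haveI : Module.Finite k E := Module.Finite.iff_fg.mpr hfg
  have := coeffSpace_fg (k := k) (A := A) (V := E)
  rw [hcf] at this
  exact Module.finite_def.mpr this

end CoeffFG

section RMod2

variable {R : Type*} [Ring R] {M : Type*} [AddCommGroup M] [Module R M]
variable {E : Type*} [AddCommGroup E] [Module R E] [IsSimpleModule R E]

theorem exists_indep_family_of_iSup_range_eq_top {ι : Sort*} (f : ι → E →ₗ[R] M)
    (h : (⨆ i, LinearMap.range (f i)) = ⊤) :
    ∃ (s : Set (Submodule R M)) (g : s → E →ₗ[R] M),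
      (∀ m, Function.Injective (g m) ∧ LinearMap.range (g m) = m.1) ∧ sSupIndep s ∧ sSup s = ⊤ := by
  haveI h1 := isSemisimpleModule_iSup_range f
  rw [h] at h1
  haveI : IsSemisimpleModule R M := IsSemisimpleModule.congr (Submodule.topEquiv (R := R) (M := M)).symm
  obtain ⟨s, hind, hsup, hsimple⟩ := IsSemisimpleModule.exists_sSupIndep_sSup_simples_eq_top R M
  have hiso : ∀ m : s, Nonempty (m.1 ≃ₗ[R] E) := fun m => by
    haveI := hsimple m.1 m.2
    exact nonempty_linearEquiv_of_simple_le_iSup_range f m.1 (by rw [h]; exact le_top)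
  refine ⟨s, fun m => m.1.subtype ∘ₗ (hiso m).some.symm.toLinearMap, ?_, hind, hsup⟩
  intro m
  refine ⟨m.1.subtype_injective.comp (hiso m).some.symm.injective, ?_⟩
  rw [LinearMap.range_comp, LinearEquiv.range, Submodule.map_top, Submodule.range_subtype]

end RMod2

section SimpleCoalg

variable {k : Type u} [Field k] {A : Type v} [AddCommGroup A] [Module k A] [Coalgebra k A]
variable {E : Type w} [AddCommGroup E] [Module k E] [Comod k A E]

/-- If the coefficient space of a simple comodule `E` is everything, then the regular comodule is a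
direct sum of copies of `E`. -/
theorem exists_indep_family_of_coeffSpace_eq_top (hE : IsSimpleComod k A E)
    (h : coeffSpace k A E = ⊤) :
    ∃ (ι : Type v) (f : ι → (E →ₗ[k] A)),
        (∀ i, Hoch.IsComodHom A (f i) ∧ Function.Injective (f i)) ∧
        iSupIndep (fun i => LinearMap.range (f i)) ∧ (⨆ i, LinearMap.range (f i)) = ⊤ := by
  letI := dualModule k A A
  letI := dualModule k A E
  haveI : IsSimpleModule (DualAlg k A) E := isSimpleComod_iff.mp hE
  rw [coeffSpace_eq_ofDualSub, ← ofDualSub_top (k := k) (A := A) (V := A)] at h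
  have h' := ofDualSub_injective h
  obtain ⟨s, g, hg, hind, hsup⟩ := exists_indep_family_of_iSup_range_eq_top _ h'
  have hr : ∀ m : s, LinearMap.range (ofDualLinear (A := A) (g m)) = ofDualSub m.1 := by
    intro m
    rw [← (hg m).2]
    rfl
  refine ⟨s, fun m => ofDualLinear (g m), fun m => ⟨isComodHom_ofDualLinear (g m), (hg m).1⟩, ?_, ?_⟩
  · simp only [hr]
    exact iSupIndep_ofDualSub (k := k) (A := A) _ ((sSupIndep_iff _).mp hind)
  · simp only [hr]
    rw [← ofDualSub_iSup, ← sSup_eq_iSup', hsup]
    rfl

/-- If the regular comodule is a sum of images of comodule maps from a simple comodule `E`, then the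
coalgebra is simple. -/
theorem simple_coalg_of_iSup_range_eq_top (hE : IsSimpleComod k A E) {ι : Sort*}
    (f : ι → (E →ₗ[k] A)) (hf : ∀ i, Hoch.IsComodHom A (f i))
    (htop : (⨆ i, LinearMap.range (f i)) = ⊤) (B : Submodule k A) (hB : IsSubcoalg B) :
    B = ⊥ ∨ B = ⊤ := by
  have h1 : coeffSpace k A E = ⊤ := by
    rw [eq_top_iff, ← htop]
    exact iSup_le (fun i => range_le_coeffSpace_of_isComodHom (hf i))
  have := (coeffSpace_isSimple_of_isSimpleComod hE).2.2 B (by rw [h1]; exact le_top) hB
  rwa [h1] at this

end SimpleCoalg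

end Groth.Agent.Lib.Helper25
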