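import Groth.Agent.Lib.Helper25Coeff
import Mathlib.RingTheory.SimpleModule.Isotypic

set_option autoImplicit false
universe u v v' w w' x

namespace Groth.Agent.Lib.Helper25

open TensorProduct HopfRep

section RMod

variable {R : Type*} [Ring R] {M : Type*} [AddCommGroup M] [Module R M]
variable {E : Type*} [AddCommGroup E] [Module R E] [IsSimpleModule R E]

/-- the set of nonzero images of a simple module -/
theorem iSup_range_eq_sSup_simple {ι : Sort*} (f : ι → E →ₗ[R] M) :
    ∃ s : Set (Submodule R M), (⨆ i, LinearMap.range (f i)) = sSup s ∧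
      (∀ m ∈ s, Nonempty (m ≃ₗ[R] E)) ∧ (∀ m ∈ s, ∃ i, m = LinearMap.range (f i)) := by
  classical
  refine ⟨{N | ∃ i, f i ≠ 0 ∧ N = LinearMap.range (f i)}, ?_, ?_, ?_⟩
  · apply le_antisymm
    · apply iSup_le
      intro i
      by_cases hg : f i = 0
      · simp [hg]
      · exact le_sSup ⟨i, hg, rfl⟩
    · apply sSup_le
      rintro N ⟨i, -, rfl⟩
      exact le_iSup (fun i => LinearMap.range (f i)) i
  · rintro N ⟨i, hg, rfl⟩
    have hinj : Function.Injective (f i) := (LinearMap.injective_or_eq_zero (f i)).resolve_right hg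
    exact ⟨(LinearEquiv.ofInjective (f i) hinj).symm⟩
  · rintro N ⟨i, -, rfl⟩
    exact ⟨i, rfl⟩

theorem isSemisimpleModule_iSup_range {ι : Sort*} (f : ι → E →ₗ[R] M) :
    IsSemisimpleModule R (⨆ i, LinearMap.range (f i) : Submodule R M) := by
  obtain ⟨s, hs, hiso, -⟩ := iSup_range_eq_sSup_simple f
  rw [hs, sSup_eq_iSup]
  exact isSemisimpleModule_biSup_of_isSemisimpleModule_submodule fun m hm => by
    obtain ⟨e⟩ := hiso m hm
    haveI : IsSimpleModule R m := IsSimpleModule.congr e
    infer_instance

theorem nonempty_linearEquiv_of_simple_le_iSup_range {ι : Sort*} (f : ι → E →ₗ[R] M)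
    (N : Submodule R M) [IsSimpleModule R N] (hN : N ≤ ⨆ i, LinearMap.range (f i)) :
    Nonempty (N ≃ₗ[R] E) := by
  obtain ⟨s, hs, hiso, -⟩ := iSup_range_eq_sSup_simple f
  rw [hs] at hN
  haveI : ∀ m : s, IsSimpleModule R m := fun m => by
    obtain ⟨e⟩ := hiso m.1 m.2
    exact IsSimpleModule.congr e
  obtain ⟨S1, hS1, ⟨e1⟩⟩ := N.linearEquiv_of_le_sSup s hN
  obtain ⟨e2⟩ := hiso S1 hS1
  exact ⟨e1.trans e2⟩

theorem exists_injective_of_le_iSup_range {ι : Sort*} (f : ι → E →ₗ[R] M)
    (B : Submodule R M) (hB : B ≤ ⨆ i, LinearMap.range (f i)) (hne : B ≠ ⊥) :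
    ∃ g : E →ₗ[R] M, Function.Injective g ∧ LinearMap.range g ≤ B := by
  haveI := isSemisimpleModule_iSup_range f
  haveI : IsSemisimpleModule R B :=
    IsSemisimpleModule.of_injective _ (Submodule.inclusion_injective hB)
  obtain ⟨N, hNB, hN⟩ := (IsSemisimpleModule.eq_bot_or_exists_simple_le B).resolve_left hne
  obtain ⟨e⟩ := nonempty_linearEquiv_of_simple_le_iSup_range f N (hNB.trans hB)
  refine ⟨N.subtype ∘ₗ e.symm.toLinearMap, ?_, ?_⟩
  · exact N.subtype_injective.comp e.symm.injective
  · rw [LinearMap.range_comp, LinearEquiv.range, Submodule.map_top, Submodule.range_subtype]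
    exact hNB

end RMod

section SimpleCoeff

variable {k : Type u} [Field k] {A : Type v} [AddCommGroup A] [Module k A] [Coalgebra k A]
variable {E : Type w} [AddCommGroup E] [Module k E] [Comod k A E]
variable {E' : Type w'} [AddCommGroup E'] [Module k E'] [Comod k A E']

theorem coeffSpace_eq_ofDualSub :
    coeffSpace k A E = ofDualSub (k := k) (A := A) (V := A)
      (letI := dualModule k A A; letI := dualModule k A E;
        ⨆ l : E →ₗ[k] k, LinearMap.range (toDualLinear (A := A) (coeffMap (A := A) l)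
          (isComodHom_coeffMap l))) := by
  letI := dualModule k A A
  letI := dualModule k A E
  rw [ofDualSub_iSup]
  rfl

/-- A nonzero subcomodule of the regular comodule inside the coefficient space of a simple comodule
`E` contains an isomorphic copy of `E`. -/
theorem exists_injective_comodHom_of_le_coeffSpace (hE : IsSimpleComod k A E)
    {B : Submodule k A} (hB : IsSubcomod (k := k) (A := A) B) (hle : B ≤ coeffSpace k A E)
    (hne : B ≠ ⊥) :
    ∃ g : E →ₗ[k] A, Hoch.IsComodHom A g ∧ Function.Injective g ∧ LinearMap.range g ≤ B := by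
  letI := dualModule k A A
  letI := dualModule k A E
  haveI : IsSimpleModule (DualAlg k A) E := isSimpleComod_iff.mp hE
  rw [coeffSpace_eq_ofDualSub] at hle
  have hle' : toDualSub B hB ≤ ⨆ l : E →ₗ[k] k, LinearMap.range (toDualLinear (A := A)
      (coeffMap (A := A) l) (isComodHom_coeffMap l)) := hle
  have hne' : toDualSub B hB ≠ ⊥ := by
    intro h
    apply hne
    rw [← ofDualSub_toDualSub B hB, h]
    rfl
  obtain ⟨g, hg, hr⟩ := exists_injective_of_le_iSup_range _ _ hle' hne'
  refine ⟨ofDualLinear g, isComodHom_ofDualLinear g, hg, ?_⟩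
  rintro _ ⟨e, rfl⟩
  exact hr ⟨e, rfl⟩

/-- Simple comodules with the same coefficient space are isomorphic. -/
theorem exists_comodIso_of_coeffSpace_eq (hE : IsSimpleComod k A E) (hE' : IsSimpleComod k A E')
    (h : coeffSpace k A E = coeffSpace k A E') :
    ∃ e : E ≃ₗ[k] E', Hoch.IsComodHom A e.toLinearMap := by
  letI := dualModule k A A
  letI := dualModule k A E
  letI := dualModule k A E'
  haveI : IsSimpleModule (DualAlg k A) E := isSimpleComod_iff.mp hE
  haveI : IsSimpleModule (DualAlg k A) E' := isSimpleComod_iff.mp hE'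
  haveI : Nontrivial E' := hE'.1
  -- a nonzero coefficient map of E'
  have hne : ∃ l' : E' →ₗ[k] k, coeffMap (A := A) l' ≠ 0 := by
    by_contra hcon
    push Not at hcon
    apply coeffSpace_ne_bot (k := k) (A := A) (V := E')
    unfold coeffSpace
    simp [hcon]
  obtain ⟨l', hl'⟩ := hne
  let F' := toDualLinear (A := A) (coeffMap (A := A) l') (isComodHom_coeffMap l')
  have hF' : F' ≠ 0 := by
    intro h0
    apply hl'
    ext v
    exact LinearMap.congr_fun h0 v
  have hinj : Function.Injective F' := (LinearMap.injective_or_eq_zero F').resolve_right hF'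
  let N := LinearMap.range F'
  haveI : IsSimpleModule (DualAlg k A) N :=
    IsSimpleModule.congr (LinearEquiv.ofInjective F' hinj).symm
  have hN : N ≤ ⨆ l : E →ₗ[k] k, LinearMap.range (toDualLinear (A := A)
      (coeffMap (A := A) l) (isComodHom_coeffMap l)) := by
    have h1 : ofDualSub N ≤ coeffSpace k A E' := by
      rintro _ ⟨v, rfl⟩
      exact coeffMap_mem_coeffSpace l' v
    rw [← h, coeffSpace_eq_ofDualSub] at h1
    exact h1
  obtain ⟨e1⟩ := nonempty_linearEquiv_of_simple_le_iSup_range _ N hN
  let e : E ≃ₗ[DualAlg k A] E' := e1.symm.trans (LinearEquiv.ofInjective F' hinj).symm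
  refine ⟨{ ofDualLinear (A := A) e.toLinearMap with
        invFun := e.symm
        left_inv := e.left_inv
        right_inv := e.right_inv }, ?_⟩
  exact isComodHom_ofDualLinear (A := A) e.toLinearMap

/-- The coefficient space of a simple comodule is a simple subcoalgebra. -/
theorem coeffSpace_isSimple_of_isSimpleComod (hE : IsSimpleComod k A E) :
    coeffSpace k A E ≠ ⊥ ∧ IsSubcoalg (coeffSpace k A E) ∧
      ∀ B : Submodule k A, B ≤ coeffSpace k A E → IsSubcoalg B → B = ⊥ ∨ B = coeffSpace k A E := by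
  haveI : Nontrivial E := hE.1
  refine ⟨coeffSpace_ne_bot, isSubcoalg_coeffSpace, ?_⟩
  intro B hle hB
  by_cases hne : B = ⊥
  · exact Or.inl hne
  · right
    obtain ⟨g, hg, hinj, hr⟩ := exists_injective_comodHom_of_le_coeffSpace hE hB.isSubcomod hle hne
    exact le_antisymm hle (coeffSpace_le_of_range_le hg hinj hB hr)

theorem eq_coeffSpace_of_isLeast {D : Submodule k A}
    (hD : IsLeast {D' : Submodule k A | ∀ e : E, Comod.coact (k := k) (A := A) e ∈
      LinearMap.range (LinearMap.lTensor E D'.subtype)} D) : D = coeffSpace k A E :=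
  hD.unique isLeast_coeffSpace

end SimpleCoeff

end Groth.Agent.Lib.Helper25
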