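import Mathlib

/-!
# Helper25Coflasque: H¹ of subgroups versus extensions by permutation modules (helper25)
-/

set_option autoImplicit false

namespace Groth.Agent.Lib.Helper25.Coflasque

open CategoryTheory groupCohomology

section H1

variable {k : Type} [CommRing k] {G : Type} [Group G] (A : Rep.{0} k G)

theorem isZero_H1_iff :
    Limits.IsZero (groupCohomology A 1) ↔ ∀ c ∈ cocycles₁ A, c ∈ coboundaries₁ A := by
  constructor
  · intro h c hc
    have h0 : H1π A = 0 := h.eq_of_tgt _ _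
    have h1 : H1π A (⟨c, hc⟩ : cocycles₁ A) = 0 := by
      rw [h0]
      rfl
    exact (H1π_eq_zero_iff (⟨c, hc⟩ : cocycles₁ A)).mp h1
  · intro h
    haveI : Subsingleton (groupCohomology A 1) := by
      refine ⟨fun x y => ?_⟩
      have hx : ∀ z : groupCohomology A 1, z = 0 := by
        intro z
        induction z using H1_induction_on with
        | h c => exact (H1π_eq_zero_iff c).mpr (h c c.2)
      rw [hx x, hx y]
    exact ModuleCat.isZero_of_subsingleton _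

end H1

section PartA

variable {k : Type} [CommRing k] {Γ : Type} [Group Γ] (Λ : Rep.{0} k Γ)

/-- exactness of a short exact sequence of representations, on elements -/
theorem exact_apply (E : ShortComplex (Rep.{0} k Γ)) (hE : E.ShortExact) (y : E.X₂)
    (hy : E.g.hom y = 0) : ∃ x : E.X₁, E.f.hom x = y := by
  have h1 := hE.exact.map (forget₂ (Rep.{0} k Γ) (ModuleCat.{0} k))
  have h2 := (ShortComplex.moduleCat_exact_iff _).mp h1 y hy
  exact h2

theorem g_f_apply (E : ShortComplex (Rep.{0} k Γ)) (x : E.X₁) : E.g.hom (E.f.hom x) = 0 := by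
  have := E.zero
  have h2 := congrArg (fun φ : E.X₁ ⟶ E.X₃ => φ.hom x) this
  exact h2

/-- a stabilizer-invariant lift of a basis vector -/
theorem exists_invariant_lift
    (hH : ∀ Γ' : Subgroup Γ, Limits.IsZero (groupCohomology (Rep.res Γ'.subtype Λ) 1))
    (X : Type) [MulAction Γ X] (E : ShortComplex (Rep.{0} k Γ)) (hE : E.ShortExact)
    (iΛ : E.X₁ ≅ Λ) (iP : E.X₃ ≅ Rep.ofMulAction k Γ X) (x : X) :
    ∃ e : E.X₂, iP.hom.hom (E.g.hom e) = MonoidAlgebra.single x (1 : k) ∧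
      ∀ h ∈ MulAction.stabilizer Γ x, E.X₂.ρ h e = e := by
  haveI := hE.mono_f
  haveI := hE.epi_g
  have hinj : Function.Injective E.f.hom := (Rep.mono_iff_injective E.f).mp inferInstance
  have hsurj : Function.Surjective E.g.hom := (Rep.epi_iff_surjective E.g).mp inferInstance
  obtain ⟨y, hy⟩ := hsurj (iP.inv.hom (MonoidAlgebra.single x (1 : k)))
  have hy' : iP.hom.hom (E.g.hom y) = MonoidAlgebra.single x (1 : k) := by
    rw [hy]
    exact Rep.hom_inv_apply _ _ iP _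
  set S : Subgroup Γ := MulAction.stabilizer Γ x with hS
  -- the cocycle
  have hker : ∀ h : S, E.g.hom (E.X₂.ρ h y - y) = 0 := by
    intro h
    have h1 : iP.hom.hom (E.g.hom (E.X₂.ρ h y - y)) = 0 := by
      rw [map_sub, map_sub, Rep.hom_comm_apply, Rep.hom_comm_apply, hy']
      change Representation.ofMulAction k Γ X h (MonoidAlgebra.single x (1 : k)) - _ = 0
      rw [Representation.ofMulAction_single]
      have : (h : Γ) • x = x := h.2
      rw [this, sub_self]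
    have h2 := congrArg iP.inv.hom h1
    rw [Rep.inv_hom_apply _ _ iP, map_zero] at h2
    exact h2
  choose lam hlam using fun h : S => exact_apply E hE _ (hker h)
  let c : S → (Rep.res S.subtype Λ) := fun h => iΛ.hom.hom (lam h)
  have hc : c ∈ cocycles₁ (Rep.res S.subtype Λ) := by
    rw [mem_cocycles₁_iff]
    intro g h
    change iΛ.hom.hom (lam (g * h)) = Λ.ρ (g : Γ) (iΛ.hom.hom (lam h)) + iΛ.hom.hom (lam g)
    rw [← Rep.hom_comm_apply, ← map_add]
    congr 1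
    apply hinj
    rw [map_add, Rep.hom_comm_apply, hlam, hlam, hlam]
    change E.X₂.ρ ((g : Γ) * (h : Γ)) y - y = _
    have hmul : E.X₂.ρ ((g : Γ) * (h : Γ)) y = E.X₂.ρ (g : Γ) (E.X₂.ρ (h : Γ) y) := by
      rw [map_mul]
      rfl
    rw [hmul, map_sub]
    abel
  have hcb := (isZero_H1_iff (Rep.res S.subtype Λ)).mp (hH S) c hc
  obtain ⟨μ, hμ⟩ := hcb
  have hμ' : ∀ h : S, c h = Λ.ρ (h : Γ) μ - μ := by
    intro h
    have := congrFun hμ h
    exact this.symm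
  refine ⟨y - E.f.hom (iΛ.inv.hom μ), ?_, ?_⟩
  · rw [map_sub, g_f_apply, sub_zero, hy']
  · intro h hh
    have h1 := hlam ⟨h, hh⟩
    have h2 := hμ' ⟨h, hh⟩
    change iΛ.hom.hom (lam ⟨h, hh⟩) = Λ.ρ h μ - μ at h2
    have h3 : lam ⟨h, hh⟩ = E.X₁.ρ h (iΛ.inv.hom μ) - iΛ.inv.hom μ := by
      have := congrArg iΛ.inv.hom h2
      rw [Rep.inv_hom_apply _ _ iΛ, map_sub, Rep.hom_comm_apply] at this
      exact this
    rw [map_sub, ← Rep.hom_comm_apply]
    have h4 : E.f.hom (E.X₁.ρ h (iΛ.inv.hom μ)) =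
        E.f.hom (iΛ.inv.hom μ) + (E.X₂.ρ h y - y) := by
      change _ = _ + (E.X₂.ρ ((⟨h, hh⟩ : S) : Γ) y - y)
      rw [← h1, h3, map_sub]
      abel
    rw [h4]
    abel

end PartA

section PartA2
variable {k : Type} [CommRing k] {Γ : Type} [Group Γ] (Λ : Rep.{0} k Γ)

/-- the morphism `k[X] ⟶ V` induced by an equivariant map -/
noncomputable def liftHom {X : Type} [MulAction Γ X] (V : Rep.{0} k Γ) (σ : X → V)
    (hσ : ∀ g x, σ (g • x) = V.ρ g (σ x)) : Rep.ofMulAction k Γ X ⟶ V :=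
  Rep.ofHom ⟨Finsupp.lift V k X σ ∘ₗ (MonoidAlgebra.coeffLinearEquiv _).toLinearMap, fun g => by
    ext x; simp [hσ]⟩

theorem liftHom_single {X : Type} [MulAction Γ X] (V : Rep.{0} k Γ) (σ : X → V)
    (hσ : ∀ g x, σ (g • x) = V.ρ g (σ x)) (x : X) (r : k) :
    (liftHom V σ hσ).hom (MonoidAlgebra.single x r) = r • σ x := by
  simp [liftHom]

theorem splits_of_H1
    (hH : ∀ Γ' : Subgroup Γ, Limits.IsZero (groupCohomology (Rep.res Γ'.subtype Λ) 1))
    (X : Type) [MulAction Γ X] (E : ShortComplex (Rep.{0} k Γ)) (hE : E.ShortExact)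
    (iΛ : E.X₁ ≅ Λ) (iP : E.X₃ ≅ Rep.ofMulAction k Γ X) : Nonempty E.Splitting := by
  choose e he1 he2 using exists_invariant_lift Λ hH X E hE iΛ iP
  let rep : X → X := fun x => Quotient.out (Quotient.mk'' x : MulAction.orbitRel.Quotient Γ X)
  have hrep : ∀ x, ∃ t : Γ, t • rep x = x := by
    intro x
    have h1 : (Quotient.mk'' (rep x) : MulAction.orbitRel.Quotient Γ X) = Quotient.mk'' x :=
      Quotient.out_eq' _
    have h2 := Quotient.exact' h1
    rw [MulAction.orbitRel_apply] at h2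
    obtain ⟨t, ht⟩ := h2
    refine ⟨t⁻¹, ?_⟩
    rw [← ht, inv_smul_smul]
  have hrep_smul : ∀ (g : Γ) x, rep (g • x) = rep x := by
    intro g x
    change Quotient.out _ = Quotient.out _
    congr 1
    exact MulAction.orbitRel.Quotient.quotient_smul_eq
  choose t ht using hrep
  let σ : X → E.X₂ := fun x => E.X₂.ρ (t x) (e (rep x))
  have hσ : ∀ g x, σ (g • x) = E.X₂.ρ g (σ x) := by
    intro g x
    change E.X₂.ρ (t (g • x)) (e (rep (g • x))) = E.X₂.ρ g (E.X₂.ρ (t x) (e (rep x)))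
    rw [hrep_smul]
    have hmem : (g * t x)⁻¹ * t (g • x) ∈ MulAction.stabilizer Γ (rep x) := by
      rw [MulAction.mem_stabilizer_iff, mul_smul]
      have h1 := ht (g • x)
      rw [hrep_smul] at h1
      rw [h1, inv_smul_eq_iff, mul_smul, ht]
    have h2 := he2 (rep x) _ hmem
    have h3 : E.X₂.ρ (t (g • x)) (e (rep x)) =
        E.X₂.ρ (g * t x) (E.X₂.ρ ((g * t x)⁻¹ * t (g • x)) (e (rep x))) := by
      rw [← Module.End.mul_apply, ← map_mul, mul_inv_cancel_left]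
    rw [h3, h2, map_mul]
    rfl
  let s : Rep.ofMulAction k Γ X ⟶ E.X₂ := liftHom E.X₂ σ hσ
  have hs : (iP.hom ≫ s) ≫ E.g = 𝟙 _ := by
    rw [Category.assoc, ← Iso.eq_inv_comp, Category.comp_id]
    rw [← cancel_mono iP.hom, Category.assoc, Iso.inv_hom_id]
    apply Rep.hom_ext
    apply Representation.IntertwiningMap.ext
    apply MonoidAlgebra.lhom_ext'
    intro x
    apply LinearMap.ext_ring
    change iP.hom.hom (E.g.hom (s.hom (MonoidAlgebra.single x 1))) = MonoidAlgebra.single x 1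
    rw [liftHom_single, one_smul]
    change iP.hom.hom (E.g.hom (E.X₂.ρ (t x) (e (rep x)))) = _
    rw [Rep.hom_comm_apply, Rep.hom_comm_apply, he1]
    change Representation.ofMulAction k Γ X (t x) (MonoidAlgebra.single (rep x) 1) = _
    rw [Representation.ofMulAction_single, ht]
  exact ⟨ShortComplex.Splitting.ofExactOfSection E hE.exact _ hs hE.mono_f⟩

end PartA2

section PartB
variable {k : Type} [CommRing k] {Γ : Type} [Group Γ] (Λ : Rep.{0} k Γ) (S : Subgroup Γ)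

/-- coset representative -/
noncomputable def rr (γ : Γ) : Γ := Quotient.out (γ : Γ ⧸ S)

theorem rr_mem (γ : Γ) : (rr S γ)⁻¹ * γ ∈ S :=
  QuotientGroup.eq.mp (QuotientGroup.out_eq' (γ : Γ ⧸ S))

theorem rr_mul (γ : Γ) (h : Γ) (hh : h ∈ S) : rr S (γ * h) = rr S γ := by
  unfold rr
  congr 1
  rw [QuotientGroup.eq]
  simp only [mul_inv_rev, inv_mul_cancel_right]
  exact S.inv_mem hh

variable (c : S → Λ)

/-- the extension of a cocycle on `S` to a function on `Γ` -/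
noncomputable def ctil (γ : Γ) : Λ := Λ.ρ (rr S γ) (c ⟨(rr S γ)⁻¹ * γ, rr_mem S γ⟩)

variable (hc : ∀ g h : S, c (g * h) = Λ.ρ (g : Γ) (c h) + c g)

include hc in
theorem ctil_mul (γ : Γ) (h : S) : ctil Λ S c (γ * h) = ctil Λ S c γ + Λ.ρ γ (c h) := by
  unfold ctil
  have h1 : (⟨(rr S (γ * h))⁻¹ * (γ * h), rr_mem S (γ * h)⟩ : S) =
      ⟨(rr S γ)⁻¹ * γ, rr_mem S γ⟩ * h := by
    apply Subtype.ext
    simp only [rr_mul S γ h h.2, Subgroup.coe_mul, mul_assoc]
  rw [h1, hc, map_add, rr_mul S γ h h.2]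
  have h2 : Λ.ρ (rr S γ) (Λ.ρ ((rr S γ)⁻¹ * γ) (c h)) = Λ.ρ γ (c h) := by
    rw [← Module.End.mul_apply, ← map_mul, mul_inv_cancel_left]
  change Λ.ρ (rr S γ) (Λ.ρ ((rr S γ)⁻¹ * γ) (c h)) + _ = _
  rw [h2, add_comm]

/-- the twisting cocycle -/
noncomputable def DD (g : Γ) (x : Γ ⧸ S) : Λ :=
  ctil Λ S c (g * Quotient.out x) - Λ.ρ g (ctil Λ S c (Quotient.out x))

include hc in
theorem DD_mk (g γ : Γ) : DD Λ S c g (γ : Γ ⧸ S) = ctil Λ S c (g * γ) - Λ.ρ g (ctil Λ S c γ) := by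
  unfold DD
  have hm : (Quotient.out (γ : Γ ⧸ S))⁻¹ * γ ∈ S := rr_mem S γ
  set u : Γ := Quotient.out (γ : Γ ⧸ S) with hu
  have h1 : γ = u * ((⟨u⁻¹ * γ, hm⟩ : S) : Γ) := by simp
  have h2 : g * γ = (g * u) * ((⟨u⁻¹ * γ, hm⟩ : S) : Γ) := by simp [mul_assoc]
  have e1 : ctil Λ S c (g * γ) = ctil Λ S c (g * u) + Λ.ρ (g * u) (c ⟨u⁻¹ * γ, hm⟩) := by
    conv_lhs => rw [h2]
    exact ctil_mul Λ S c hc _ _
  have e2 : ctil Λ S c γ = ctil Λ S c u + Λ.ρ u (c ⟨u⁻¹ * γ, hm⟩) := by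
    conv_lhs => rw [h1]
    exact ctil_mul Λ S c hc _ _
  have h3 : Λ.ρ (g * u) (c ⟨u⁻¹ * γ, hm⟩) = Λ.ρ g (Λ.ρ u (c ⟨u⁻¹ * γ, hm⟩)) := by
    rw [map_mul]; rfl
  rw [e1, e2, map_add, h3]
  abel

theorem DD_one (x : Γ ⧸ S) : DD Λ S c 1 x = 0 := by
  unfold DD
  rw [one_mul, map_one]
  exact sub_self _

include hc in
theorem DD_mul (g g' : Γ) (x : Γ ⧸ S) :
    DD Λ S c (g * g') x = Λ.ρ g (DD Λ S c g' x) + DD Λ S c g (g' • x) := by
  obtain ⟨γ, rfl⟩ := QuotientGroup.mk_surjective x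
  have h1 : g' • (γ : Γ ⧸ S) = ((g' * γ : Γ) : Γ ⧸ S) := rfl
  rw [h1, DD_mk Λ S c hc, DD_mk Λ S c hc, DD_mk Λ S c hc, map_sub, mul_assoc]
  have h3 : Λ.ρ (g * g') (ctil Λ S c γ) = Λ.ρ g (Λ.ρ g' (ctil Λ S c γ)) := by
    rw [map_mul]; rfl
  rw [h3]
  abel

/-- the linear map `k[Γ/S] → Λ` given by the twisting cocycle -/
noncomputable def Tmap (g : Γ) : MonoidAlgebra k (Γ ⧸ S) →ₗ[k] Λ :=
  Finsupp.lift Λ k (Γ ⧸ S) (DD Λ S c g) ∘ₗ (MonoidAlgebra.coeffLinearEquiv k).toLinearMap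

theorem Tmap_single (g : Γ) (x : Γ ⧸ S) (r : k) :
    Tmap Λ S c g (MonoidAlgebra.single x r) = r • DD Λ S c g x := by
  simp [Tmap]

/-- the action on the twisted extension -/
noncomputable def extFun (g : Γ) :
    (Λ × MonoidAlgebra k (Γ ⧸ S)) →ₗ[k] (Λ × MonoidAlgebra k (Γ ⧸ S)) :=
  ((Λ.ρ g).comp (LinearMap.fst k Λ (MonoidAlgebra k (Γ ⧸ S))) +
    (Tmap Λ S c g).comp (LinearMap.snd k Λ (MonoidAlgebra k (Γ ⧸ S)))).prod
    ((Representation.ofMulAction k Γ (Γ ⧸ S) g).comp (LinearMap.snd k Λ (MonoidAlgebra k (Γ ⧸ S))))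

theorem extFun_apply (g : Γ) (p : Λ × MonoidAlgebra k (Γ ⧸ S)) :
    extFun Λ S c g p = (Λ.ρ g p.1 + Tmap Λ S c g p.2,
      Representation.ofMulAction k Γ (Γ ⧸ S) g p.2) := rfl

include hc in
theorem Tmap_mul (g g' : Γ) (ξ : MonoidAlgebra k (Γ ⧸ S)) :
    Tmap Λ S c (g * g') ξ = Λ.ρ g (Tmap Λ S c g' ξ) +
      Tmap Λ S c g (Representation.ofMulAction k Γ (Γ ⧸ S) g' ξ) := by
  induction ξ using MonoidAlgebra.induction_linear with
  | zero => simp
  | add x y hx hy =>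
    simp only [map_add, hx, hy]
    abel
  | single x r =>
    rw [Representation.ofMulAction_single, Tmap_single, Tmap_single, Tmap_single,
      DD_mul Λ S c hc, smul_add, map_smul]

theorem Tmap_one (ξ : MonoidAlgebra k (Γ ⧸ S)) : Tmap Λ S c 1 ξ = 0 := by
  induction ξ using MonoidAlgebra.induction_linear with
  | zero => simp
  | add x y hx hy => simp only [map_add, hx, hy, add_zero]
  | single x r => rw [Tmap_single, DD_one, smul_zero]

/-- the twisted extension as a representation -/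
noncomputable def extRho : Representation k Γ (Λ × MonoidAlgebra k (Γ ⧸ S)) where
  toFun := extFun Λ S c
  map_one' := by
    apply LinearMap.ext
    intro p
    rw [extFun_apply, Tmap_one, map_one, map_one]
    simp
  map_mul' g g' := by
    apply LinearMap.ext
    intro p
    rw [Module.End.mul_apply, extFun_apply, extFun_apply, extFun_apply]
    simp only
    rw [Tmap_mul Λ S c hc, map_mul, map_mul, map_add]
    refine Prod.ext ?_ rfl
    simp only [Module.End.mul_apply]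
    abel

/-- the twisted extension -/
noncomputable def extSC : ShortComplex (Rep.{0} k Γ) where
  X₁ := Λ
  X₂ := Rep.of (extRho Λ S c hc)
  X₃ := Rep.ofMulAction k Γ (Γ ⧸ S)
  f := Rep.ofHom ⟨LinearMap.inl k Λ (MonoidAlgebra k (Γ ⧸ S)), fun g => by
    apply LinearMap.ext
    intro l
    change ((Λ.ρ g l, 0) : Λ × MonoidAlgebra k (Γ ⧸ S)) = extFun Λ S c g (l, 0)
    rw [extFun_apply]
    simp⟩
  g := Rep.ofHom ⟨LinearMap.snd k Λ (MonoidAlgebra k (Γ ⧸ S)), fun g => rfl⟩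
  zero := by
    apply Rep.hom_ext
    apply Representation.IntertwiningMap.ext
    apply LinearMap.ext
    intro l
    rfl

theorem extSC_shortExact : (extSC Λ S c hc).ShortExact where
  exact := by
    rw [← ShortComplex.exact_map_iff_of_faithful _ (forget₂ (Rep.{0} k Γ) (ModuleCat.{0} k)),
      ShortComplex.moduleCat_exact_iff]
    rintro ⟨l, ξ⟩ h
    have h0 : ξ = 0 := h
    subst h0
    exact ⟨l, rfl⟩
  mono_f := by
    rw [Rep.mono_iff_injective]
    intro a b hab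
    exact (Prod.ext_iff.mp hab).1
  epi_g := by
    rw [Rep.epi_iff_surjective]
    intro ξ
    exact ⟨(0, ξ), rfl⟩

include hc in
theorem coboundary_of_splits
    (hsplit : ∀ (E : ShortComplex (Rep.{0} k Γ)), E.ShortExact → Nonempty (E.X₁ ≅ Λ) →
      Nonempty (E.X₃ ≅ Rep.ofMulAction k Γ (Γ ⧸ S)) → Nonempty E.Splitting) :
    ∃ μ : Λ, ∀ h : S, c h = Λ.ρ (h : Γ) μ - μ := by
  obtain ⟨sp⟩ := hsplit (extSC Λ S c hc) (extSC_shortExact Λ S c hc) ⟨Iso.refl _⟩ ⟨Iso.refl _⟩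
  set x₀ : Γ ⧸ S := ((1 : Γ) : Γ ⧸ S) with hx₀
  let v : Λ × MonoidAlgebra k (Γ ⧸ S) := sp.s.hom (MonoidAlgebra.single x₀ (1 : k))
  have hv2 : v.2 = MonoidAlgebra.single x₀ (1 : k) := by
    have h1 := congrArg (fun φ : (extSC Λ S c hc).X₃ ⟶ (extSC Λ S c hc).X₃ =>
      φ.hom (MonoidAlgebra.single x₀ (1 : k))) sp.s_g
    exact h1
  refine ⟨ctil Λ S c 1 - v.1, ?_⟩
  intro h
  have hfix : (h : Γ) • x₀ = x₀ := by
    rw [hx₀]
    change (((h : Γ) * 1 : Γ) : Γ ⧸ S) = _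
    rw [QuotientGroup.eq]
    simp
  have h2 : extFun Λ S c (h : Γ) v = v := by
    have h3 := Rep.hom_comm_apply sp.s (h : Γ) (MonoidAlgebra.single x₀ (1 : k))
    have h4 : (Rep.ofMulAction k Γ (Γ ⧸ S)).ρ (h : Γ) (MonoidAlgebra.single x₀ (1 : k)) =
        MonoidAlgebra.single x₀ (1 : k) := by
      change Representation.ofMulAction k Γ (Γ ⧸ S) (h : Γ) _ = _
      rw [Representation.ofMulAction_single, hfix]
    change sp.s.hom ((Rep.ofMulAction k Γ (Γ ⧸ S)).ρ (h : Γ) (MonoidAlgebra.single x₀ (1 : k))) =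
      extFun Λ S c (h : Γ) v at h3
    rw [h4] at h3
    exact h3.symm
  rw [extFun_apply] at h2
  have h5 := (Prod.ext_iff.mp h2).1
  simp only at h5
  rw [hv2, Tmap_single, one_smul, hx₀, DD_mk Λ S c hc, mul_one] at h5
  have h6 : ctil Λ S c (h : Γ) = ctil Λ S c 1 + c h := by
    have := ctil_mul Λ S c hc 1 h
    rw [one_mul, map_one] at this
    exact this
  rw [h6] at h5
  rw [map_sub]
  -- h5 : ρ h v.1 + (ctil 1 + c h - ρ h (ctil 1)) = v.1
  have h7 : c h = v.1 - Λ.ρ (h : Γ) v.1 - ctil Λ S c 1 + Λ.ρ (h : Γ) (ctil Λ S c 1) := by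
    calc c h = (Λ.ρ (h : Γ) v.1 + (ctil Λ S c 1 + c h - Λ.ρ (h : Γ) (ctil Λ S c 1)))
          - Λ.ρ (h : Γ) v.1 - ctil Λ S c 1 + Λ.ρ (h : Γ) (ctil Λ S c 1) := by abel
      _ = _ := by rw [h5]
  rw [h7]
  abel

theorem isZero_H1_of_splits [Finite Γ]
    (hsplit : ∀ (X : Type) [MulAction Γ X] [Finite X] (E : ShortComplex (Rep.{0} k Γ)),
      E.ShortExact → Nonempty (E.X₁ ≅ Λ) →
      Nonempty (E.X₃ ≅ Rep.ofMulAction k Γ X) → Nonempty E.Splitting) :
    Limits.IsZero (groupCohomology (Rep.res S.subtype Λ) 1) := by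
  rw [isZero_H1_iff]
  intro c hc
  rw [mem_cocycles₁_iff] at hc
  obtain ⟨μ, hμ⟩ := coboundary_of_splits Λ S c hc (fun E hE h1 h3 => hsplit (Γ ⧸ S) E hE h1 h3)
  refine ⟨μ, ?_⟩
  funext h
  exact (hμ h).symm

end PartB

end Groth.Agent.Lib.Helper25.Coflasque
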