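import Groth.Agent.Lib.Helper25Takeuchi

/-!
# Helper25CoidealFlat: a commutative Hopf algebra over a field is faithfully flat over a right
coideal subalgebra without nontrivial costable ideals (helper25)

Generalisation of `Helper25Takeuchi` (same proof): `B ⊆ A` a subalgebra with `Δ(B) ⊆ B ⊗ A` such
that the only ideals `I` of `B` with `Δ(I) ⊆ I ⊗ A` are `0` and `B`.  Then `A` is faithfully flat
over `B` (`faithfullyFlat_of_isCoidealSubalgebra`).
-/

set_option autoImplicit false
universe u v w w'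

namespace Groth.Agent.Lib.Helper25.CoidealFlat

open Groth.Agent.Lib.Helper25
open TensorProduct HopfRep Matrix

section Costable2

variable {k : Type u} [Field k] {A : Type v} [CommRing A] [HopfAlgebra k A] (B : Subalgebra k A)
variable {n : ℕ} (m : Fin n → A) (a : Matrix (Fin n) (Fin n) A)

/-- The twisted row `e(c)ᵢ = Σⱼ Δ(cⱼ)(1 ⊗ aᵢⱼ)`. -/
noncomputable def twistRow (c : Fin n → ↥B) : Fin n → A ⊗[k] A :=
  fun i => ∑ j, CoalgebraStruct.comul (R := k) ((c j : ↥B) : A) * ((1 : A) ⊗ₜ[k] a i j)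

theorem twistRow_mem_subalgBA
    (hB : ∀ b ∈ B, CoalgebraStruct.comul (R := k) b ∈ subalgBA B)
    (c : Fin n → ↥B) (i : Fin n) : twistRow B a c i ∈ subalgBA B :=
  Subalgebra.sum_mem _ (fun j _ => Subalgebra.mul_mem _ (hB _ (c j).2)
    (one_tmul_mem_subalgBA B _))

theorem sum_tmul_one_mul_twistRow
    (hm : ∀ j, CoalgebraStruct.comul (R := k) (m j) = ∑ i, m i ⊗ₜ[k] a i j) (c : Fin n → ↥B) :
    ∑ i, (m i ⊗ₜ[k] (1 : A)) * twistRow B a c i =
      CoalgebraStruct.comul (R := k) (∑ j, ((c j : ↥B) : A) * m j) := by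
  unfold twistRow
  simp only [Finset.mul_sum]
  rw [Finset.sum_comm, map_sum]
  refine Finset.sum_congr rfl (fun j _ => ?_)
  rw [Bialgebra.comul_mul, hm j, Finset.mul_sum]
  refine Finset.sum_congr rfl (fun i _ => ?_)
  rw [mul_left_comm, Algebra.TensorProduct.tmul_mul_tmul, mul_one, one_mul]

/-- Rows of the form `κ ⊗ α` with `κ ∈ K`. -/
def pureRows (K : Submodule ↥B (Fin n → ↥B)) : Set (Fin n → A ⊗[k] A) :=
  {g | ∃ (κ : Fin n → ↥B) (α : A), κ ∈ K ∧ g = fun i => ((κ i : ↥B) : A) ⊗ₜ[k] α}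

theorem twistRow_mem_span
    (hB : ∀ b ∈ B, CoalgebraStruct.comul (R := k) b ∈ subalgBA B)
    (hm : ∀ j, CoalgebraStruct.comul (R := k) (m j) = ∑ i, m i ⊗ₜ[k] a i j)
    (N : Submodule ↥B A)
    (hN : ∀ x ∈ N, CoalgebraStruct.comul (R := k) x ∈
      LinearMap.range ((N.restrictScalars k).subtype.rTensor A))
    (c : Fin n → ↥B) (hc : c ∈ relK B m N) :
    twistRow B a c ∈ Submodule.span k (pureRows B (relK B m N)) := by
  classical
  set β := Module.Free.chooseBasis k A with hβ
  obtain ⟨s, hs⟩ := exists_finset_eq_sum_slice (V := A) β (twistRow B a c)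
  have hmemB : ∀ u i, slice A (β.coord u) (twistRow B a c i) ∈ B := fun u i =>
    slice_mem_of_mem_subalgBA B _ (twistRow_mem_subalgBA B a hB c i)
  have hK : ∀ u, (fun i => (⟨slice A (β.coord u) (twistRow B a c i), hmemB u i⟩ : ↥B)) ∈
      relK B m N := by
    intro u
    rw [mem_relK]
    have h1 : ∑ i, slice A (β.coord u) (twistRow B a c i) * m i =
        slice A (β.coord u) (CoalgebraStruct.comul (R := k) (∑ j, ((c j : ↥B) : A) * m j)) := by
      rw [← sum_tmul_one_mul_twistRow B m a hm c, map_sum]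
      refine Finset.sum_congr rfl (fun i _ => ?_)
      rw [slice_tmul_one_mul, mul_comm]
    change ∑ i, slice A (β.coord u) (twistRow B a c i) * m i ∈ N
    rw [h1]
    obtain ⟨y, hy⟩ := hN _ ((mem_relK B).mp hc)
    rw [← hy, slice_rTensor]
    exact (slice _ (β.coord u) y).2
  have hrow : twistRow B a c =
      ∑ u ∈ s, (fun i => slice A (β.coord u) (twistRow B a c i) ⊗ₜ[k] β u) := by
    funext i
    rw [Finset.sum_apply]
    exact hs i
  rw [hrow]
  refine Submodule.sum_mem _ (fun u _ => Submodule.subset_span ?_)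
  exact ⟨fun i => ⟨_, hmemB u i⟩, β u, hK u, rfl⟩

theorem coe_rowMinor {p : ℕ} (κ : Fin p → (Fin n → ↥B)) (τ : Fin p → Fin n) :
    ((rowMinor κ τ : ↥B) : A) = (Matrix.of (fun s t => ((κ s (τ t) : ↥B) : A))).det := by
  unfold rowMinor
  exact RingHom.map_det (B.val : ↥B →ₐ[k] A).toRingHom (Matrix.of fun s t => κ s (τ t))

theorem minorMulti_mem_of_pureRows (K : Submodule ↥B (Fin n → ↥B)) {p : ℕ} (τ : Fin p → Fin n)
    (g : Fin p → (Fin n → A ⊗[k] A)) (hg : ∀ s, g s ∈ pureRows B K) :
    minorMulti k τ g ∈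
      LinearMap.range ((idealImage B (minorIdeal K p)).subtype.rTensor A) := by
  choose κ α hκ hgs using hg
  rw [minorMulti_apply]
  have h1 : (Matrix.of (fun s t => g s (τ t))) =
      Matrix.of (fun s t => (Matrix.of (fun s t => ((κ s (τ t) : ↥B) : A))) s t ⊗ₜ[k] α s) := by
    ext s t
    simp only [Matrix.of_apply]
    rw [hgs s]
  rw [h1, det_tmul_row, ← coe_rowMinor]
  have hmem : rowMinor κ τ ∈ minorIdeal K p := by
    apply Ideal.subset_span
    exact ⟨κ, τ, hκ, rfl⟩
  exact tmul_mem_range_rTensor_idealImage B _ hmem _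

end Costable2

section Costable3

variable {k : Type u} [Field k] {A : Type v} [CommRing A] [HopfAlgebra k A] (B : Subalgebra k A)
variable {n : ℕ} (m : Fin n → A) (a : Matrix (Fin n) (Fin n) A)

theorem comul_rowMinor_mem
    (hB : ∀ b ∈ B, CoalgebraStruct.comul (R := k) b ∈ subalgBA B)
    (ha : IsComatrix (k := k) a)
    (hm : ∀ j, CoalgebraStruct.comul (R := k) (m j) = ∑ i, m i ⊗ₜ[k] a i j)
    (N : Submodule ↥B A)
    (hN : ∀ x ∈ N, CoalgebraStruct.comul (R := k) x ∈
      LinearMap.range ((N.restrictScalars k).subtype.rTensor A))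
    {p : ℕ} (c : Fin p → (Fin n → ↥B)) (hc : ∀ s, c s ∈ relK B m N) (σ : Fin p → Fin n) :
    CoalgebraStruct.comul (R := k) ((rowMinor c σ : ↥B) : A) ∈
      LinearMap.range ((idealImage B (minorIdeal (relK B m N) p)).subtype.rTensor A) := by
  classical
  have e2 : CoalgebraStruct.comul (R := k)
      ((Matrix.of (fun s t => ((c s (σ t) : ↥B) : A))).det) =
      (Matrix.of (fun s t => CoalgebraStruct.comul (R := k) ((c s (σ t) : ↥B) : A))).det :=
    AlgHom.map_det (Bialgebra.comulAlgHom k A) (Matrix.of (fun s t => ((c s (σ t) : ↥B) : A)))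
  set Cmat : Matrix (Fin p) (Fin n) (A ⊗[k] A) :=
    Matrix.of (fun s l => CoalgebraStruct.comul (R := k) ((c s l : ↥B) : A)) with hC
  set E : Matrix (Fin p) (Fin n) (A ⊗[k] A) := Matrix.of (fun s i => twistRow B a (c s) i) with hE
  set Z : Matrix (Fin n) (Fin n) (A ⊗[k] A) :=
    Matrix.of (fun i l => (1 : A) ⊗ₜ[k] HopfAlgebra.antipode k (a l i)) with hZ
  have hEZ : E * Z = Cmat := by
    ext s l
    simp only [Matrix.mul_apply, hE, hZ, hC, Matrix.of_apply, twistRow, Finset.sum_mul]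
    rw [Finset.sum_comm]
    have : ∀ j, ∑ i, CoalgebraStruct.comul (R := k) ((c s j : ↥B) : A) * ((1 : A) ⊗ₜ[k] a i j) *
        ((1 : A) ⊗ₜ[k] HopfAlgebra.antipode k (a l i)) =
        CoalgebraStruct.comul (R := k) ((c s j : ↥B) : A) *
          ((1 : A) ⊗ₜ[k] (if l = j then (1 : A) else 0)) := by
      intro j
      rw [← ha.antipode_mul l j, TensorProduct.tmul_sum, Finset.mul_sum]
      refine Finset.sum_congr rfl (fun i _ => ?_)
      rw [mul_assoc, Algebra.TensorProduct.tmul_mul_tmul, one_mul, mul_comm (a i j)]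
    rw [Finset.sum_congr rfl (fun j _ => this j), Finset.sum_eq_single l]
    · rw [if_pos rfl]
      change _ * (1 : A ⊗[k] A) = _
      rw [mul_one]
    · intro j _ hj
      rw [if_neg (Ne.symm hj), TensorProduct.tmul_zero, mul_zero]
    · intro h
      exact absurd (Finset.mem_univ l) h
  have e3 : (Matrix.of (fun s t => CoalgebraStruct.comul (R := k) ((c s (σ t) : ↥B) : A))).det =
      ((E * Z).submatrix id σ).det := by
    rw [hEZ]
    rfl
  rw [coe_rowMinor, e2, e3, det_submatrix_mul_eq_sum]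
  refine Submodule.sum_mem _ (fun τ _ => mul_mem_range_rTensor_idealImage B _ ?_ ?_)
  · exact Subalgebra.prod_mem _ (fun t _ => one_tmul_mem_subalgBA B _)
  · change minorMulti k τ (fun s => twistRow B a (c s)) ∈ _
    exact MultilinearMap.map_mem_of_span (minorMulti k τ) _ (pureRows B (relK B m N))
      (fun g hg => minorMulti_mem_of_pureRows B _ τ g hg) _
      (fun s => twistRow_mem_span B m a hB hm N hN (c s) (hc s))

/-- The minor ideals of the relation module are costable. -/
theorem comul_mem_of_mem_minorIdeal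
    (hB : ∀ b ∈ B, CoalgebraStruct.comul (R := k) b ∈ subalgBA B)
    (ha : IsComatrix (k := k) a)
    (hm : ∀ j, CoalgebraStruct.comul (R := k) (m j) = ∑ i, m i ⊗ₜ[k] a i j)
    (N : Submodule ↥B A)
    (hN : ∀ x ∈ N, CoalgebraStruct.comul (R := k) x ∈
      LinearMap.range ((N.restrictScalars k).subtype.rTensor A))
    (p : ℕ) (x : ↥B) (hx : x ∈ minorIdeal (relK B m N) p) :
    CoalgebraStruct.comul (R := k) (x : A) ∈
      LinearMap.range ((idealImage B (minorIdeal (relK B m N) p)).subtype.rTensor A) := by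
  unfold minorIdeal at hx
  induction hx using Submodule.span_induction with
  | mem x hx =>
    obtain ⟨c, σ, hc, rfl⟩ := hx
    exact comul_rowMinor_mem B m a hB ha hm N hN c hc σ
  | zero =>
    rw [ZeroMemClass.coe_zero, map_zero]
    exact Submodule.zero_mem _
  | add x y _ _ hx hy =>
    rw [AddMemClass.coe_add, map_add]
    exact Submodule.add_mem _ hx hy
  | smul b x _ hx =>
    rw [smul_eq_mul, MulMemClass.coe_mul, Bialgebra.comul_mul]
    exact mul_mem_range_rTensor_idealImage B _ (hB _ b.2) hx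

end Costable3

section Assembly

variable {k : Type u} [Field k] {A : Type v} [CommRing A] [HopfAlgebra k A] (B : Subalgebra k A)

/-- The relation module of a finite comatrix family modulo a costable `B`-submodule is a direct
summand. -/
theorem exists_retraction_relK
    (hB : ∀ b ∈ B, CoalgebraStruct.comul (R := k) b ∈ subalgBA B)
    (hS : ∀ I : Ideal ↥B, (∀ x ∈ I, CoalgebraStruct.comul (R := k) (x : A) ∈
      LinearMap.range ((idealImage B I).subtype.rTensor A)) → I = ⊥ ∨ I = ⊤)
    {n : ℕ} (m : Fin n → A) (a : Matrix (Fin n) (Fin n) A)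
    (ha : IsComatrix (k := k) a)
    (hm : ∀ j, CoalgebraStruct.comul (R := k) (m j) = ∑ i, m i ⊗ₜ[k] a i j)
    (N : Submodule ↥B A)
    (hN : ∀ x ∈ N, CoalgebraStruct.comul (R := k) x ∈
      LinearMap.range ((N.restrictScalars k).subtype.rTensor A)) :
    ∃ r : (Fin n → ↥B) →ₗ[↥B] (Fin n → ↥B), (∀ v, r v ∈ relK B m N) ∧
      ∀ c ∈ relK B m N, r c = c :=
  exists_retraction_of_minorIdeal_trivial _ (fun p =>
    hS _
      (comul_mem_of_mem_minorIdeal B m a hB ha hm N hN p))

/-- A finitely generated subcomodule of the regular comodule has a basis with a comatrix. -/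
theorem exists_comatrix_of_fg_subcomod (V : Submodule k A)
    (hV : IsSubcomod (k := k) (A := A) V) (hfg : V.FG) :
    ∃ (n : ℕ) (m : Fin n → A) (a : Matrix (Fin n) (Fin n) A), IsComatrix (k := k) a ∧
      (∀ j, CoalgebraStruct.comul (R := k) (m j) = ∑ i, m i ⊗ₜ[k] a i j) ∧
      ∀ v ∈ V, ∃ g : Fin n → k, v = ∑ j, g j • m j := by
  classical
  haveI : Module.Finite k V := Module.Finite.iff_fg.mpr hfg
  letI : Comod k A V := subComod V hV
  set b := Module.finBasis k V with hb
  refine ⟨_, fun j => (b j : A), comatrix (A := A) b, isComatrix_comatrix b, ?_, ?_⟩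
  · intro j
    have h1 := rTensor_subtype_subCoact V hV (b j)
    have h2 := coact_basis (A := A) b j
    change subCoact V hV (b j) = _ at h2
    rw [h2, map_sum] at h1
    simp only [LinearMap.rTensor_tmul, Submodule.subtype_apply] at h1
    exact h1.symm
  · intro v hv
    refine ⟨fun j => b.repr ⟨v, hv⟩ j, ?_⟩
    have := congrArg Subtype.val (b.sum_repr ⟨v, hv⟩)
    rw [AddSubmonoidClass.coe_finset_sum] at this
    simpa using this.symm

theorem flat_of_isCoidealSubalgebra
    (hB : ∀ b ∈ B, CoalgebraStruct.comul (R := k) b ∈ subalgBA B)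
    (hS : ∀ I : Ideal ↥B, (∀ x ∈ I, CoalgebraStruct.comul (R := k) (x : A) ∈
      LinearMap.range ((idealImage B I).subtype.rTensor A)) → I = ⊥ ∨ I = ⊤) : Module.Flat ↥B A := by
  classical
  apply Module.Flat.of_forall_isTrivialRelation
  intro l f x hfx
  obtain ⟨V, hVfg, hV, hle⟩ := exists_fg_subcomod_ge (k := k) (A := A) (V := A)
    (Submodule.span k (Set.range x)) (Submodule.fg_span (Set.finite_range x))
  obtain ⟨n, m, a, ha, hm, hspan⟩ := exists_comatrix_of_fg_subcomod V hV hVfg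
  have hx : ∀ i, ∃ g : Fin n → k, x i = ∑ j, g j • m j := fun i =>
    hspan _ (hle (Submodule.subset_span ⟨i, rfl⟩))
  choose g hg using hx
  obtain ⟨r, hr1, hr2⟩ := exists_retraction_relK B hB hS m a ha hm ⊥ (by
    intro x hx
    rw [(Submodule.mem_bot _).mp hx, map_zero]
    exact Submodule.zero_mem _)
  set G : Fin l → (Fin n → ↥B) := fun i j => algebraMap k ↥B (g i j) with hG
  have hπG : ∀ i, ∑ j, ((G i j : ↥B) : A) * m j = x i := by
    intro i
    rw [hg i]
    refine Finset.sum_congr rfl (fun j _ => ?_)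
    rw [hG, Algebra.smul_def]
    rfl
  refine ⟨n, fun i j => G i j - r (G i) j, m, ?_, ?_⟩
  · intro i
    have h0 : ∑ j, ((r (G i) j : ↥B) : A) * m j = 0 := by
      have := hr1 (G i)
      rwa [mem_relK, Submodule.mem_bot] at this
    simp only [sub_smul, Finset.sum_sub_distrib, Subalgebra.smul_def, smul_eq_mul]
    rw [h0, sub_zero, hπG]
  · intro j
    set c : Fin n → ↥B := ∑ i, f i • G i with hc
    have hcK : c ∈ relK B m ⊥ := by
      rw [mem_relK, Submodule.mem_bot, ← hfx]
      simp only [hc, Finset.sum_apply, Pi.smul_apply, smul_eq_mul, AddSubmonoidClass.coe_finset_sum,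
        MulMemClass.coe_mul, Finset.sum_mul]
      rw [Finset.sum_comm]
      refine Finset.sum_congr rfl (fun i _ => ?_)
      rw [← hπG i, Subalgebra.smul_def, smul_eq_mul, Finset.mul_sum]
      refine Finset.sum_congr rfl (fun j _ => ?_)
      rw [mul_assoc]
    have hrc := hr2 c hcK
    have h1 : ∑ i, f i * (G i j - r (G i) j) = c j - r c j := by
      rw [hc, map_sum]
      simp only [map_smul, Finset.sum_apply, Pi.smul_apply, smul_eq_mul, mul_sub,
        Finset.sum_sub_distrib]
    rw [h1, hrc, sub_self]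

theorem smul_top_ne_top_of_isCoidealSubalgebra
    (hB : ∀ b ∈ B, CoalgebraStruct.comul (R := k) b ∈ subalgBA B)
    (hS : ∀ I : Ideal ↥B, (∀ x ∈ I, CoalgebraStruct.comul (R := k) (x : A) ∈
      LinearMap.range ((idealImage B I).subtype.rTensor A)) → I = ⊥ ∨ I = ⊤) (𝔪 : Ideal ↥B) (h𝔪 : 𝔪 ≠ ⊤) :
    𝔪 • (⊤ : Submodule ↥B A) ≠ ⊤ := by
  classical
  intro htop
  have h1 : (1 : A) ∈ 𝔪 • (⊤ : Submodule ↥B A) := by rw [htop]; trivial
  have htop' : (⊤ : Submodule ↥B A) = Submodule.span ↥B (Set.range (id : A → A)) := by simp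
  rw [htop', Submodule.mem_ideal_smul_span_iff_exists_sum] at h1
  obtain ⟨c, hc, hsum⟩ := h1
  rw [Finsupp.sum] at hsum
  obtain ⟨V, hVfg, hV, hle⟩ := exists_fg_subcomod_ge (k := k) (A := A) (V := A)
    (Submodule.span k (c.support : Set A)) (Submodule.fg_span (Finset.finite_toSet _))
  obtain ⟨n, m, a, ha, hm, hspan⟩ := exists_comatrix_of_fg_subcomod V hV hVfg
  have hi : ∀ i ∈ c.support, ∃ g : Fin n → k, i = ∑ j, g j • m j := fun i hi =>
    hspan i (hle (Submodule.subset_span hi))
  choose! g hg using hi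
  set N : Submodule ↥B A := Submodule.span ↥B {(1 : A)} with hNdef
  have hNmem : ∀ b : ↥B, (b : A) ∈ N := by
    intro b
    rw [hNdef, Submodule.mem_span_singleton]
    exact ⟨b, by rw [Subalgebra.smul_def, smul_eq_mul, mul_one]⟩
  have hN : ∀ x ∈ N, CoalgebraStruct.comul (R := k) x ∈
      LinearMap.range ((N.restrictScalars k).subtype.rTensor A) := by
    intro x hx
    obtain ⟨b, rfl⟩ := Submodule.mem_span_singleton.mp hx
    rw [Subalgebra.smul_def, smul_eq_mul, mul_one]
    obtain ⟨y, hy⟩ := hB b b.2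
    rw [← hy]
    clear hy
    induction y using TensorProduct.induction_on with
    | zero => rw [map_zero]; exact Submodule.zero_mem _
    | add x y hx hy => rw [map_add]; exact Submodule.add_mem _ hx hy
    | tmul b1 b2 =>
      exact ⟨(⟨(b1 : A), hNmem b1⟩ : N.restrictScalars k) ⊗ₜ[k] (b2 : A), by simp⟩
  obtain ⟨r, hr1, hr2⟩ := exists_retraction_relK B hB hS m a ha hm N hN
  set π : (Fin n → ↥B) →ₗ[↥B] A := Fintype.linearCombination ↥B m with hπ
  set G : A → (Fin n → ↥B) := fun i j => algebraMap k ↥B (g i j) with hG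
  have hπG : ∀ i ∈ c.support, π (G i) = i := by
    intro i hi
    conv_rhs => rw [hg i hi]
    rw [hπ, Fintype.linearCombination_apply]
    refine Finset.sum_congr rfl (fun j _ => ?_)
    rw [hG, algebraMap_smul]
  set c' : Fin n → ↥B := ∑ i ∈ c.support, c i • G i with hc'
  have hπc' : π c' = 1 := by
    rw [hc', map_sum, ← hsum]
    refine Finset.sum_congr rfl (fun i hi => ?_)
    rw [map_smul, hπG i hi, id]
  have hc'K : c' ∈ relK B m N := by
    change π c' ∈ N
    rw [hπc']
    simpa using hNmem 1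
  have hc'm : c' ∈ 𝔪 • (⊤ : Submodule ↥B (Fin n → ↥B)) :=
    Submodule.sum_mem _ (fun i _ => Submodule.smul_mem_smul (hc i) trivial)
  have hrange : Submodule.map (π ∘ₗ r) ⊤ ≤ N := by
    rintro _ ⟨v, -, rfl⟩
    exact hr1 v
  have key : (π ∘ₗ r) c' ∈ 𝔪 • N := by
    have h2 : (π ∘ₗ r) c' ∈ Submodule.map (π ∘ₗ r) (𝔪 • (⊤ : Submodule ↥B (Fin n → ↥B))) :=
      Submodule.mem_map_of_mem hc'm
    rw [Submodule.map_smul''] at h2
    exact Submodule.smul_mono le_rfl hrange h2
  rw [LinearMap.comp_apply, hr2 c' hc'K, hπc', hNdef] at key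
  obtain ⟨y, hy, hy1⟩ := Submodule.mem_smul_span_singleton.mp key
  rw [Subalgebra.smul_def, smul_eq_mul, mul_one] at hy1
  have : y = 1 := Subtype.val_injective hy1
  rw [this] at hy
  exact h𝔪 ((Ideal.eq_top_iff_one _).mpr hy)

theorem faithfullyFlat_of_isCoidealSubalgebra
    (hB : ∀ b ∈ B, CoalgebraStruct.comul (R := k) b ∈ subalgBA B)
    (hS : ∀ I : Ideal ↥B, (∀ x ∈ I, CoalgebraStruct.comul (R := k) (x : A) ∈
      LinearMap.range ((idealImage B I).subtype.rTensor A)) → I = ⊥ ∨ I = ⊤) : Module.FaithfullyFlat ↥B A :=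
  haveI := flat_of_isCoidealSubalgebra B hB hS
  ⟨fun 𝔪 h𝔪 => smul_top_ne_top_of_isCoidealSubalgebra B hB hS 𝔪 h𝔪.ne_top⟩

end Assembly

end Groth.Agent.Lib.Helper25.CoidealFlat
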