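import Groth.Agent.Lib.Helper25ComodMat
import Mathlib.LinearAlgebra.Contraction

/-!
# The comodule `Hom(V, W)` for finite free comodules over a commutative Hopf algebra (helper25)
-/

set_option autoImplicit false
universe u v w w' w''

namespace Groth.Agent.Lib.Helper25

open TensorProduct HopfRep Module

theorem stdBasis_repr' {R : Type*} [CommRing R] {m n : Type*} [Fintype m] [Fintype n]
    (M : Matrix m n R) (i : m) (j : n) : (Matrix.stdBasis R m n).repr M (i, j) = M i j := by
  simp [Matrix.stdBasis]

theorem stdBasis_repr'' {R : Type*} [CommRing R] {m n : Type*} [Fintype m] [Fintype n]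
    (M : Matrix m n R) (x : m × n) : (Matrix.stdBasis R m n).repr M x = M x.1 x.2 :=
  stdBasis_repr' M x.1 x.2

section Coords

variable {k : Type u} [CommRing k] {A : Type v} [AddCommGroup A] [Module k A] [Coalgebra k A]
variable {V : Type w} [AddCommGroup V] [Module k V]
variable {ι : Type*} [Fintype ι] [DecidableEq ι]

theorem comatrix_comodOfComatrix (b : Basis ι k V) (a : Matrix ι ι A)
    (ha : IsComatrix (k := k) a) :
    (letI := comodOfComatrix b a ha; comatrix (A := A) b) = a := by
  letI := comodOfComatrix b a ha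
  ext i j
  rw [comatrix_apply, coeffMap_apply]
  change lslice (b.coord i) (matCoact b a (b j)) = a i j
  rw [matCoact_basis, lslice_coord_sum]

end Coords

section FixedCoords

variable {k : Type u} [CommRing k] {A : Type v} [Ring A] [Bialgebra k A]
variable {V : Type w} [AddCommGroup V] [Module k V] [Comod k A V]
variable {ι : Type*} [Fintype ι] [DecidableEq ι]

/-- Fixed vectors in coordinates. -/
theorem mem_fixedPts_iff_matrix (b : Basis ι k V) (x : V) :
    x ∈ fixedPts k A V ↔
      ∀ i, ∑ j, b.repr x j • comatrix (A := A) b i j = b.repr x i • (1 : A) := by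
  rw [mem_fixedPts_iff, coact_eq_sum b x]
  have h1 : x ⊗ₜ[k] (1 : A) = ∑ i, b i ⊗ₜ[k] (b.repr x i • (1 : A)) := by
    conv_lhs => rw [← b.sum_repr x, TensorProduct.sum_tmul]
    refine Finset.sum_congr rfl (fun i _ => ?_)
    rw [TensorProduct.smul_tmul]
  rw [h1]
  constructor
  · intro h i
    exact congrFun (sum_tmul_injective b h) i
  · intro h
    exact Finset.sum_congr rfl (fun i _ => by rw [h i])

end FixedCoords

section HomComod

variable {k : Type u} [CommRing k] {A : Type v} [CommRing A] [HopfAlgebra k A]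
variable {V : Type w} [AddCommGroup V] [Module k V] [Comod k A V]
variable {W : Type w'} [AddCommGroup W] [Module k W] [Comod k A W]
variable {ι : Type*} [Fintype ι] [DecidableEq ι] {κ : Type*} [Fintype κ] [DecidableEq κ]

/-- The comatrix of `Hom(V, W)`. -/
noncomputable def homComatrix (b : Basis ι k V) (c : Basis κ k W) : Matrix (κ × ι) (κ × ι) A :=
  Matrix.of fun (x y : κ × ι) =>
    comatrix (A := A) c x.1 y.1 * HopfAlgebra.antipode k (comatrix (A := A) b y.2 x.2)

theorem isComatrix_homComatrix (b : Basis ι k V) (c : Basis κ k W) :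
    IsComatrix (k := k) (homComatrix (A := A) b c) :=
  (isComatrix_comatrix b).hom (isComatrix_comatrix c)

/-- The comodule structure on `Hom(V, W)` (depending on bases). -/
@[reducible] noncomputable def homComod (b : Basis ι k V) (c : Basis κ k W) :
    Comod k A (V →ₗ[k] W) :=
  comodOfComatrix (b.linearMap c) (homComatrix (A := A) b c) (isComatrix_homComatrix b c)

omit [Comod k A V] [Comod k A W] in
theorem fixed_iff_matrix_aux (a : Matrix ι ι A) (a' : Matrix κ κ A) (M : Matrix κ ι k) :
    (∀ x : κ × ι, ∑ y : κ × ι, M y.1 y.2 • (a' x.1 y.1 * HopfAlgebra.antipode k (a y.2 x.2)) =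
      M x.1 x.2 • (1 : A)) ↔
    a' * M.map (algebraMap k A) * a.map (HopfAlgebra.antipode k) = M.map (algebraMap k A) := by
  rw [← Matrix.ext_iff]
  have key : ∀ p j, (a' * M.map (algebraMap k A) * a.map (HopfAlgebra.antipode k)) p j =
      ∑ y : κ × ι, M y.1 y.2 • (a' p y.1 * HopfAlgebra.antipode k (a y.2 j)) := by
    intro p j
    rw [Fintype.sum_prod_type, Matrix.mul_apply]
    simp only [Matrix.mul_apply, Finset.sum_mul]
    rw [Finset.sum_comm]
    refine Finset.sum_congr rfl (fun q _ => Finset.sum_congr rfl (fun i _ => ?_))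
    simp only [Matrix.map_apply, Algebra.smul_def]
    ring
  constructor
  · intro h p j
    rw [key, h (p, j), Matrix.map_apply, Algebra.smul_def, mul_one]
  · intro h x
    rw [← key, h, Matrix.map_apply, Algebra.smul_def, mul_one]

omit [Comod k A V] [Comod k A W] in
theorem comodHom_iff_matrix_aux (a : Matrix ι ι A) (a' : Matrix κ κ A) (M : Matrix κ ι k) :
    (∀ (q : κ) (j : ι), ∑ p, M p j • a' q p = ∑ i, M q i • a i j) ↔
    a' * M.map (algebraMap k A) = M.map (algebraMap k A) * a := by
  rw [← Matrix.ext_iff]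
  have key1 : ∀ q j, (a' * M.map (algebraMap k A)) q j = ∑ p, M p j • a' q p := by
    intro q j
    rw [Matrix.mul_apply]
    refine Finset.sum_congr rfl (fun p _ => ?_)
    simp only [Matrix.map_apply, Algebra.smul_def]
    ring
  have key2 : ∀ q j, (M.map (algebraMap k A) * a) q j = ∑ i, M q i • a i j := by
    intro q j
    rw [Matrix.mul_apply]
    refine Finset.sum_congr rfl (fun p _ => ?_)
    simp only [Matrix.map_apply, Algebra.smul_def]
  constructor
  · intro h q j
    rw [key1, key2, h]
  · intro h q j
    rw [← key1, ← key2, h]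

/-- A linear map is fixed in `Hom(V, W)` iff it is a comodule map. -/
theorem mem_fixedPts_homComod_iff (b : Basis ι k V) (c : Basis κ k W) (F : V →ₗ[k] W) :
    F ∈ @fixedPts k A _ _ _ (V →ₗ[k] W) _ _ (homComod b c) ↔ Hoch.IsComodHom A F := by
  letI := homComod (A := A) b c
  rw [mem_fixedPts_iff_matrix (b.linearMap c), comatrix_comodOfComatrix,
    isComodHom_iff_matrix b c]
  have h1 : comatrix (A := A) b * (comatrix (A := A) b).map (HopfAlgebra.antipode k) = 1 := by
    ext i j
    rw [Matrix.mul_apply, Matrix.one_apply]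
    exact (isComatrix_comatrix b).mul_antipode i j
  have h2 : (comatrix (A := A) b).map (HopfAlgebra.antipode k) * comatrix (A := A) b = 1 := by
    ext i j
    rw [Matrix.mul_apply, Matrix.one_apply]
    exact (isComatrix_comatrix b).antipode_mul i j
  have e1 := fixed_iff_matrix_aux (k := k) (comatrix (A := A) b) (comatrix (A := A) c)
    (LinearMap.toMatrix b c F)
  have e2 := comodHom_iff_matrix_aux (k := k) (comatrix (A := A) b) (comatrix (A := A) c)
    (LinearMap.toMatrix b c F)
  have e1' : (∀ x : κ × ι, ∑ y : κ × ι, (b.linearMap c).repr F y • homComatrix (A := A) b c x y =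
      (b.linearMap c).repr F x • (1 : A)) ↔
      comatrix (A := A) c * (LinearMap.toMatrix b c F).map (algebraMap k A) *
        (comatrix (A := A) b).map (HopfAlgebra.antipode k) =
        (LinearMap.toMatrix b c F).map (algebraMap k A) := by
    rw [← e1]
    simp only [Basis.linearMap_repr_apply, stdBasis_repr'', homComatrix, Matrix.of_apply]
  rw [e1', e2]
  constructor
  · intro h
    calc comatrix (A := A) c * (LinearMap.toMatrix b c F).map (algebraMap k A)
        = comatrix (A := A) c * (LinearMap.toMatrix b c F).map (algebraMap k A) *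
            ((comatrix (A := A) b).map (HopfAlgebra.antipode k) * comatrix (A := A) b) := by
          rw [h2, Matrix.mul_one]
      _ = (comatrix (A := A) c * (LinearMap.toMatrix b c F).map (algebraMap k A) *
            (comatrix (A := A) b).map (HopfAlgebra.antipode k)) * comatrix (A := A) b := by
          rw [Matrix.mul_assoc (comatrix (A := A) c * _)]
      _ = (LinearMap.toMatrix b c F).map (algebraMap k A) * comatrix (A := A) b := by rw [h]
  · intro h
    rw [h, Matrix.mul_assoc, h1, Matrix.mul_one]

/-- `Θ F = (id ⊗ mul) ∘ (ρ_W ∘ F ⊗ S) ∘ ρ_V : V → W ⊗ A`, `v ↦ Σ F(v₀)₀ ⊗ F(v₀)₁ S(v₁)`. -/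
noncomputable def homTheta (F : V →ₗ[k] W) : V →ₗ[k] W ⊗[k] A :=
  (LinearMap.mul' k A).lTensor W ∘ₗ (TensorProduct.assoc k W A A).toLinearMap ∘ₗ
    TensorProduct.map (Comod.coact (k := k) (A := A) ∘ₗ F) (HopfAlgebra.antipode k) ∘ₗ
      Comod.coact (k := k) (A := A)

/-- `Θ` as a linear map. -/
noncomputable def homThetaL : (V →ₗ[k] W) →ₗ[k] (V →ₗ[k] W ⊗[k] A) where
  toFun F := homTheta (A := A) F
  map_add' F G := by
    unfold homTheta
    rw [LinearMap.comp_add, TensorProduct.map_add_left, LinearMap.add_comp, LinearMap.comp_add,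
      LinearMap.comp_add]
  map_smul' r F := by
    unfold homTheta
    rw [LinearMap.comp_smul, TensorProduct.map_smul_left, LinearMap.smul_comp,
      LinearMap.comp_smul, LinearMap.comp_smul]
    rfl

theorem homTheta_comp {X : Type w''} [AddCommGroup X] [Module k X] [Comod k A X]
    {g : X →ₗ[k] V} (hg : Hoch.IsComodHom A g) (F : V →ₗ[k] W) :
    homTheta (A := A) (F ∘ₗ g) = homTheta (A := A) F ∘ₗ g := by
  unfold homTheta
  have : TensorProduct.map (Comod.coact (k := k) (A := A) ∘ₗ F ∘ₗ g) (HopfAlgebra.antipode k) =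
      TensorProduct.map (Comod.coact (k := k) (A := A) ∘ₗ F) (HopfAlgebra.antipode k) ∘ₗ
        g.rTensor A := by
    rw [LinearMap.rTensor, ← TensorProduct.map_comp, LinearMap.comp_id, LinearMap.comp_assoc]
  rw [this]
  simp only [LinearMap.comp_assoc]
  rw [← hg]

/-- `(V → W) ⊗ A → (V → W ⊗ A)`. -/
noncomputable def homPsi (k : Type u) [CommRing k] (A : Type v) [CommRing A] [Algebra k A]
    (V : Type w) [AddCommGroup V] [Module k V] (W : Type w') [AddCommGroup W] [Module k W] :
    (V →ₗ[k] W) ⊗[k] A →ₗ[k] (V →ₗ[k] W ⊗[k] A) :=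
  TensorProduct.rTensorHomToHomRTensor (.id k) V W A

omit [HopfAlgebra k A] [Comod k A V] [Comod k A W] in
@[simp] theorem homPsi_tmul [Algebra k A] (F : V →ₗ[k] W) (a : A) (v : V) :
    homPsi k A V W (F ⊗ₜ[k] a) v = F v ⊗ₜ[k] a := rfl

omit [HopfAlgebra k A] [Comod k A V] [Comod k A W] [DecidableEq ι] in
theorem homPsi_injective [Algebra k A] (b : Basis ι k V) :
    Function.Injective (homPsi k A V W) := by
  haveI := Module.Free.of_basis b
  haveI := Module.Finite.of_basis b
  intro x y h
  apply (rTensorHomEquivHomRTensor k V W A).injective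
  rw [rTensorHomEquivHomRTensor_apply, rTensorHomEquivHomRTensor_apply]
  exact h

omit [HopfAlgebra k A] [Comod k A V] [Comod k A W] in
theorem homPsi_rTensor_lcomp [Algebra k A] {X : Type w''} [AddCommGroup X] [Module k X]
    (g : X →ₗ[k] V) (y : (V →ₗ[k] W) ⊗[k] A) :
    homPsi k A X W ((LinearMap.lcomp k W g).rTensor A y) = homPsi k A V W y ∘ₗ g := by
  induction y using TensorProduct.induction_on with
  | zero => simp
  | add x y hx hy => rw [map_add, map_add, hx, hy, map_add, LinearMap.add_comp]
  | tmul F a =>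
    ext v
    simp

/-- The coaction of `Hom(V, W)`, read as a map `V → W ⊗ A`, is `Θ`. -/
theorem homPsi_coact (b : Basis ι k V) (c : Basis κ k W) (F : V →ₗ[k] W) :
    homPsi k A V W (@Comod.coact k A _ _ _ _ (V →ₗ[k] W) _ _ (homComod b c) F) =
      homTheta (A := A) F := by
  letI := homComod (A := A) b c
  suffices h : homPsi k A V W ∘ₗ Comod.coact (k := k) (A := A) (V := V →ₗ[k] W) =
      homThetaL (A := A) from LinearMap.congr_fun h F
  apply (b.linearMap c).ext
  rintro ⟨q, i⟩
  apply b.ext
  intro j
  change homPsi k A V W (matCoact (b.linearMap c) (homComatrix (A := A) b c)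
    ((b.linearMap c) (q, i))) (b j) = homTheta (A := A) ((b.linearMap c) (q, i)) (b j)
  rw [matCoact_basis, map_sum, LinearMap.sum_apply, Fintype.sum_prod_type]
  simp only [homPsi_tmul, Basis.linearMap_apply_apply, homComatrix, Matrix.of_apply]
  unfold homTheta
  simp only [LinearMap.coe_comp, LinearEquiv.coe_coe, Function.comp_apply]
  rw [coact_basis b j, map_sum]
  simp only [TensorProduct.map_tmul, LinearMap.coe_comp, Function.comp_apply,
    Basis.linearMap_apply_apply]
  rw [Finset.sum_eq_single i]
  · simp only [if_true]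
    rw [coact_basis c q, TensorProduct.sum_tmul, map_sum, map_sum]
    refine Finset.sum_congr rfl (fun p _ => ?_)
    rw [Finset.sum_eq_single j]
    · simp
    · intro j' _ hj'
      simp [hj']
    · intro h
      exact absurd (Finset.mem_univ j) h
  · intro l _ hl
    have : ¬ i = l := fun h => hl h.symm
    simp [this]
  · intro h
    exact absurd (Finset.mem_univ i) h

/-- Precomposition with a comodule map is a comodule map `Hom(V, W) → Hom(X, W)`. -/
theorem isComodHom_lcomp {X : Type w''} [AddCommGroup X] [Module k X] [Comod k A X]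
    {μ : Type*} [Fintype μ] [DecidableEq μ] (d : Basis μ k X)
    (b : Basis ι k V) (c : Basis κ k W) {g : X →ₗ[k] V} (hg : Hoch.IsComodHom A g) :
    @Hoch.IsComodHom k _ A _ _ _ (V →ₗ[k] W) _ _ (homComod b c) (X →ₗ[k] W) _ _ (homComod d c)
      (LinearMap.lcomp k W g) := by
  letI i1 := homComod (A := A) b c
  letI i2 := homComod (A := A) d c
  apply LinearMap.ext
  intro F
  apply homPsi_injective (A := A) (W := W) d
  change homPsi k A X W (@Comod.coact k A _ _ _ _ (X →ₗ[k] W) _ _ (homComod d c) (F ∘ₗ g)) =
    homPsi k A X W ((LinearMap.lcomp k W g).rTensor A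
      (@Comod.coact k A _ _ _ _ (V →ₗ[k] W) _ _ (homComod b c) F))
  rw [homPsi_coact d c, homPsi_rTensor_lcomp, homPsi_coact b c, homTheta_comp hg]

end HomComod

end Groth.Agent.Lib.Helper25
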