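import Groth.Agent.Lib.Helper25ComodSS
import Mathlib.RingTheory.SimpleModule.Isotypic

set_option autoImplicit false
universe u v v' w w' x

namespace Groth.Agent.Lib.Helper25

open TensorProduct HopfRep

theorem iSupIndep_isotypic_of_simple {R : Type*} [Ring R] {M : Type*} [AddCommGroup M] [Module R M]
    {ι : Type*} (S : ι → Type*) [∀ j, AddCommGroup (S j)] [∀ j, Module R (S j)]
    [∀ j, IsSimpleModule R (S j)] (hne : ∀ j j', j ≠ j' → IsEmpty (S j ≃ₗ[R] S j')) :
    iSupIndep (fun j => ⨆ g : S j →ₗ[R] M, LinearMap.range g) := by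
  classical
  intro j
  rw [disjoint_iff]
  by_contra ne
  -- sets of simple submodules
  let s : ι → Set (Submodule R M) := fun j => {N | ∃ g : S j →ₗ[R] M, g ≠ 0 ∧ N = LinearMap.range g}
  have hs : ∀ j, (⨆ g : S j →ₗ[R] M, LinearMap.range g) = sSup (s j) := by
    intro j
    apply le_antisymm
    · apply iSup_le
      intro g
      by_cases hg : g = 0
      · simp [hg]
      · exact le_sSup ⟨g, hg, rfl⟩
    · apply sSup_le
      rintro N ⟨g, -, rfl⟩
      exact le_iSup (fun g : S j →ₗ[R] M => LinearMap.range g) g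
  have hsimple : ∀ j, ∀ m : s j, IsSimpleModule R m := by
    rintro j ⟨N, g, hg, rfl⟩
    have hinj : Function.Injective g := (LinearMap.injective_or_eq_zero g).resolve_right hg
    exact IsSimpleModule.congr (LinearEquiv.ofInjective g hinj).symm
  have hiso : ∀ j, ∀ m ∈ s j, Nonempty (m ≃ₗ[R] S j) := by
    rintro j N ⟨g, hg, rfl⟩
    have hinj : Function.Injective g := (LinearMap.injective_or_eq_zero g).resolve_right hg
    exact ⟨(LinearEquiv.ofInjective g hinj).symm⟩
  let t : Set (Submodule R M) := ⋃ j' ∈ {j' | j' ≠ j}, s j'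
  have ht : (⨆ j', ⨆ (_ : j' ≠ j), ⨆ g : S j' →ₗ[R] M, LinearMap.range g) = sSup t := by
    simp only [hs, t, sSup_iUnion]
    rfl
  have htsimple : ∀ m : t, IsSimpleModule R m := by
    rintro ⟨N, hN⟩
    simp only [t, Set.mem_iUnion] at hN
    obtain ⟨j', -, hN⟩ := hN
    exact hsimple j' ⟨N, hN⟩
  haveI : ∀ m : s j, IsSimpleModule R m := hsimple j
  haveI : ∀ m : t, IsSimpleModule R m := htsimple
  have hss : IsSemisimpleModule R (sSup (s j) : Submodule R M) := by
    rw [sSup_eq_iSup]
    exact isSemisimpleModule_biSup_of_isSemisimpleModule_submodule fun m hm => by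
      haveI := hsimple j ⟨m, hm⟩
      infer_instance
  change ¬ ((⨆ g : S j →ₗ[R] M, LinearMap.range g) ⊓
    (⨆ j', ⨆ (_ : j' ≠ j), ⨆ g : S j' →ₗ[R] M, LinearMap.range g) = ⊥) at ne
  rw [hs j, ht] at ne
  haveI := hss
  have := IsSemisimpleModule.of_injective _
    (Submodule.inclusion_injective (inf_le_left : sSup (s j) ⊓ sSup t ≤ sSup (s j)))
  obtain ⟨N, le, hN⟩ := (IsSemisimpleModule.eq_bot_or_exists_simple_le _).resolve_left ne
  obtain ⟨S1, hS1, ⟨e1⟩⟩ := N.linearEquiv_of_le_sSup (s j) (le.trans inf_le_left)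
  obtain ⟨S2, hS2, ⟨e2⟩⟩ := N.linearEquiv_of_le_sSup t (le.trans inf_le_right)
  simp only [t, Set.mem_iUnion] at hS2
  obtain ⟨j', hj', hS2⟩ := hS2
  obtain ⟨f1⟩ := hiso j S1 hS1
  obtain ⟨f2⟩ := hiso j' S2 hS2
  exact (hne j' j hj').false (f2.symm.trans (e2.symm.trans (e1.trans f1)))

section
variable {k : Type u} [CommRing k] {A : Type v} [AddCommGroup A] [Module k A] [Coalgebra k A]
variable {V : Type w} [AddCommGroup V] [Module k V] [Comod k A V]
variable {W : Type w'} [AddCommGroup W] [Module k W] [Comod k A W]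

/-- The isotypic sum `⨆ f, range f` over comodule maps `W → V` is the `k`-submodule underlying the
sum of ranges of maps linear over the dual algebra. -/
theorem iSup_range_comodHom_eq [Module.Free k A] :
    (⨆ f : {f : W →ₗ[k] V // Hoch.IsComodHom A f}, LinearMap.range f.1) =
      ofDualSub (k := k) (A := A) (letI := dualModule k A V; letI := dualModule k A W;
        ⨆ g : W →ₗ[DualAlg k A] V, LinearMap.range g) := by
  letI := dualModule k A V
  letI := dualModule k A W
  rw [ofDualSub_iSup]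
  apply le_antisymm
  · apply iSup_le
    rintro ⟨f, hf⟩
    refine le_trans ?_ (le_iSup _ (toDualLinear (A := A) f hf))
    rintro _ ⟨w, rfl⟩
    exact ⟨w, rfl⟩
  · apply iSup_le
    intro g
    refine le_trans ?_ (le_iSup _ ⟨ofDualLinear g, isComodHom_ofDualLinear g⟩)
    rintro _ ⟨w, rfl⟩
    exact ⟨w, rfl⟩

/-- Isotypic components of pairwise non-isomorphic simple comodules are independent. -/
theorem iSupIndep_isotypicComponent_comod [Module.Free k A]
    {ι : Type*} (S : ι → Type w') [∀ j, AddCommGroup (S j)] [∀ j, Module k (S j)]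
    [∀ j, Comod k A (S j)] (hS : ∀ j, IsSimpleComod k A (S j))
    (hne : ∀ j j', j ≠ j' → ∀ e : S j ≃ₗ[k] S j', ¬ Hoch.IsComodHom A (e : S j →ₗ[k] S j')) :
    iSupIndep (fun j => ⨆ f : {f : S j →ₗ[k] V // Hoch.IsComodHom A f}, LinearMap.range f.1) := by
  letI := dualModule k A V
  letI : ∀ j, Module (DualAlg k A) (S j) := fun j => dualModule k A (S j)
  haveI : ∀ j, IsSimpleModule (DualAlg k A) (S j) := fun j => isSimpleComod_iff.mp (hS j)
  have key := iSupIndep_isotypic_of_simple (R := DualAlg k A) (M := V) S (by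
    intro j j' hjj'
    refine ⟨fun e => ?_⟩
    let e' : S j ≃ₗ[k] S j' :=
      { ofDualLinear (A := A) e.toLinearMap with
        invFun := e.symm
        left_inv := e.left_inv
        right_inv := e.right_inv }
    exact hne j j' hjj' e' (isComodHom_ofDualLinear (A := A) e.toLinearMap))
  have := iSupIndep_ofDualSub (k := k) (A := A) _ key
  simp only [← iSup_range_comodHom_eq] at this
  exact this

end


section TwoCoactions

variable {k : Type u} [CommRing k] {C : Type v} [AddCommGroup C] [Module k C]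
  {D : Type v'} [AddCommGroup D] [Module k D]
variable {V : Type w} [AddCommGroup V] [Module k V]

/-- contraction of `V ⊗ (C ⊗ D)` with `φ ⊗ ψ`. -/
noncomputable def slice2 (V : Type w) [AddCommGroup V] [Module k V]
    (φ : C →ₗ[k] k) (ψ : D →ₗ[k] k) : V ⊗[k] (C ⊗[k] D) →ₗ[k] V :=
  slice V (LinearMap.mul' k k ∘ₗ TensorProduct.map φ ψ)

theorem slice_slice_eq_slice2 (φ : C →ₗ[k] k) (ψ : D →ₗ[k] k) :
    slice V φ ∘ₗ slice (V ⊗[k] C) ψ =
      slice2 V φ ψ ∘ₗ (TensorProduct.assoc k V C D).toLinearMap := by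
  apply TensorProduct.ext_threefold
  intro v c d
  simp [slice2, smul_smul, mul_comm]

theorem slice_slice_eq_slice2' (φ : C →ₗ[k] k) (ψ : D →ₗ[k] k) :
    slice V ψ ∘ₗ slice (V ⊗[k] D) φ =
      slice2 V φ ψ ∘ₗ (TensorProduct.comm k D C).toLinearMap.lTensor V ∘ₗ
        (TensorProduct.assoc k V D C).toLinearMap := by
  apply TensorProduct.ext_threefold
  intro v d c
  simp [slice2, smul_smul, mul_comm]

/-- Two commuting coactions: the operators `T φ` for the first are comodule maps for the second. -/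
theorem isComodHom_T_of_commute [Coalgebra k C] [Coalgebra k D] [Module.Free k D]
    [cC : Comod k C V] [cD : Comod k D V]
    (hcomm : (TensorProduct.assoc k V C D).toLinearMap ∘ₗ
        (Comod.coact (k := k) (A := C) (V := V)).rTensor D ∘ₗ Comod.coact (k := k) (A := D) =
      (TensorProduct.comm k D C).toLinearMap.lTensor V ∘ₗ (TensorProduct.assoc k V D C).toLinearMap ∘ₗ
        (Comod.coact (k := k) (A := D) (V := V)).rTensor C ∘ₗ Comod.coact (k := k) (A := C))
    (φ : C →ₗ[k] k) : Hoch.IsComodHom D (T (A := C) (V := V) φ) := by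
  rw [isComodHom_iff]
  intro ψ v
  have h1 : T (A := C) φ (T (A := D) ψ v) = slice2 V φ ψ ((TensorProduct.assoc k V C D)
      ((Comod.coact (k := k) (A := C) (V := V)).rTensor D (Comod.coact (k := k) (A := D) v))) := by
    rw [T_apply, T_apply, ← slice_rTensor]
    exact LinearMap.congr_fun (slice_slice_eq_slice2 (V := V) φ ψ) _
  have h2 : T (A := D) ψ (T (A := C) φ v) = slice2 V φ ψ
      ((TensorProduct.comm k D C).toLinearMap.lTensor V ((TensorProduct.assoc k V D C)
      ((Comod.coact (k := k) (A := D) (V := V)).rTensor C (Comod.coact (k := k) (A := C) v)))) := by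
    rw [T_apply, T_apply, ← slice_rTensor]
    exact LinearMap.congr_fun (slice_slice_eq_slice2' (V := V) φ ψ) _
  rw [h1, h2]
  congr 1
  exact LinearMap.congr_fun hcomm v

end TwoCoactions

section IsoStable
variable {k : Type u} [CommRing k] {A : Type v} [AddCommGroup A] [Module k A] [Coalgebra k A]
variable {V : Type w} [AddCommGroup V] [Module k V] [Comod k A V]
variable {W : Type w'} [AddCommGroup W] [Module k W] [Comod k A W]

/-- The sum of images of all comodule maps `W → V` is stable under comodule endomorphisms of `V`. -/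
theorem map_iSup_range_comodHom_le {g : V →ₗ[k] V} (hg : Hoch.IsComodHom A g) :
    (⨆ f : {f : W →ₗ[k] V // Hoch.IsComodHom A f}, LinearMap.range f.1).map g ≤
      ⨆ f : {f : W →ₗ[k] V // Hoch.IsComodHom A f}, LinearMap.range f.1 := by
  rw [Submodule.map_iSup]
  apply iSup_le
  rintro ⟨f, hf⟩
  refine le_trans ?_ (le_iSup _ ⟨g ∘ₗ f, isComodHom_comp hf hg⟩)
  rw [LinearMap.range_comp]

end IsoStable



section RangeLTensor

variable {k : Type u} [Field k] {C : Type v} [AddCommGroup C] [Module k C]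
  {D : Type v'} [AddCommGroup D] [Module k D]
variable {W : Type w} [AddCommGroup W] [Module k W]

/-- Over a field, `x ∈ W ⊗ D` lies in `W ⊗ i(C)` iff it is killed by slicing with every functional
vanishing on `i(C)`. -/
theorem mem_range_lTensor_iff (i : C →ₗ[k] D) (hi : Function.Injective i) (x : W ⊗[k] D) :
    x ∈ LinearMap.range (i.lTensor W) ↔
      ∀ ψ : D →ₗ[k] k, ψ ∘ₗ i = 0 → slice W ψ x = 0 := by
  constructor
  · rintro ⟨y, rfl⟩ ψ hψ
    rw [slice_lTensor, hψ]
    simp [slice]
  · intro h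
    obtain ⟨r, hr⟩ := LinearMap.exists_leftInverse_of_injective i (LinearMap.ker_eq_bot.mpr hi)
    refine ⟨r.lTensor W x, ?_⟩
    apply eq_of_slice_eq
    intro ψ
    rw [slice_lTensor, slice_lTensor]
    have h0 := h (ψ - ψ ∘ₗ i ∘ₗ r) (by
      rw [LinearMap.sub_comp, LinearMap.comp_assoc, LinearMap.comp_assoc, hr]
      simp)
    rw [← sliceL_apply, map_sub, sliceL_apply, sliceL_apply] at h0
    exact (sub_eq_zero.mp h0).symm

end RangeLTensor

section Admissible

variable {k : Type u} [Field k] {C : Type v} [AddCommGroup C] [Module k C] [Coalgebra k C]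
  {D : Type v'} [AddCommGroup D] [Module k D] [Coalgebra k D]
variable {V : Type w} [AddCommGroup V] [Module k V] [Comod k D V]

omit [Coalgebra k C] in
/-- The quotient `V/K` of a `D`-comodule has its coaction in `(V/K) ⊗ C` iff `K` contains every
`T ψ v` with `ψ` vanishing on `C`. -/
theorem admissible_iff (i : C →ₗ[k] D) (hi : Function.Injective i) (K : Submodule k V) :
    (∀ v : V, K.mkQ.rTensor D (Comod.coact (k := k) (A := D) v) ∈
        LinearMap.range (i.lTensor (V ⧸ K))) ↔
      ∀ ψ : D →ₗ[k] k, ψ ∘ₗ i = 0 → ∀ v : V, T ψ v ∈ K := by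
  constructor
  · intro h ψ hψ v
    have := (mem_range_lTensor_iff i hi _).mp (h v) ψ hψ
    rw [slice_rTensor] at this
    exact (Submodule.Quotient.mk_eq_zero K).mp this
  · intro h v
    rw [mem_range_lTensor_iff i hi]
    intro ψ hψ
    rw [slice_rTensor]
    exact (Submodule.Quotient.mk_eq_zero K).mpr (h ψ hψ v)

omit [Coalgebra k C] in
theorem exists_least_admissible (i : C →ₗ[k] D) (hi : Function.Injective i) :
    ∃ K : Submodule k V, IsSubcomod (k := k) (A := D) K ∧
      (∀ v : V, K.mkQ.rTensor D (Comod.coact (k := k) (A := D) v) ∈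
        LinearMap.range (i.lTensor (V ⧸ K))) ∧
      ∀ K' : Submodule k V, IsSubcomod (k := k) (A := D) K' →
        (∀ v : V, K'.mkQ.rTensor D (Comod.coact (k := k) (A := D) v) ∈
          LinearMap.range (i.lTensor (V ⧸ K'))) → K ≤ K' := by
  let 𝒦 : Set (Submodule k V) := {K' | IsSubcomod (k := k) (A := D) K' ∧
    ∀ ψ : D →ₗ[k] k, ψ ∘ₗ i = 0 → ∀ v : V, T ψ v ∈ K'}
  refine ⟨sInf 𝒦, isSubcomod_sInf (fun U hU => hU.1), ?_, ?_⟩
  · rw [admissible_iff i hi]
    intro ψ hψ v
    rw [Submodule.mem_sInf]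
    intro K' hK'
    exact hK'.2 ψ hψ v
  · intro K' hK' hadm
    exact sInf_le ⟨hK', (admissible_iff i hi K').mp hadm⟩

end Admissible


end Groth.Agent.Lib.Helper25
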