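import Groth.Agent.Lib.Helper25Comod
import Mathlib.RingTheory.Coalgebra.Convolution
import Mathlib.RingTheory.SimpleModule.Basic

/-!
# Comodules as modules over the dual (convolution) algebra; simple and semisimple comodules (helper25)
-/

set_option autoImplicit false
universe u v w w'

namespace Groth.Agent.Lib.Helper25

open TensorProduct HopfRep

section Dual

variable (k : Type u) [CommRing k] (A : Type v) [AddCommGroup A] [Module k A] [Coalgebra k A]

/-- The dual algebra of a coalgebra, with convolution product. -/
abbrev DualAlg : Type (max u v) := WithConv (A →ₗ[k] k)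

variable (V : Type w) [AddCommGroup V] [Module k V] [Comod k A V]

/-- The action of the dual algebra on a comodule, as an algebra map to endomorphisms. -/
noncomputable def dualAlgHom : DualAlg k A →ₐ[k] Module.End k V where
  toFun φ := T φ.ofConv
  map_one' := by
    ext v
    have : (1 : DualAlg k A).ofConv = CoalgebraStruct.counit (R := k) (A := A) := by
      rw [LinearMap.convOne_def]
      ext a
      simp
    rw [this, T_counit]
    rfl
  map_mul' φ ψ := by
    ext v
    rw [Module.End.mul_apply, T_T]
    rfl
  map_zero' := by
    ext v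
    simp [T_apply, slice]
  map_add' φ ψ := by
    ext v
    exact T_add φ.ofConv ψ.ofConv v
  commutes' c := by
    ext v
    have : (algebraMap k (DualAlg k A) c).ofConv = c • CoalgebraStruct.counit (R := k) (A := A) := by
      ext a
      simp [Algebra.algebraMap_eq_smul_one]
    rw [this, T_smul, T_counit]
    rfl

/-- The module structure of a comodule over the dual algebra. -/
@[reducible] noncomputable def dualModule : Module (DualAlg k A) V :=
  Module.compHom V (dualAlgHom k A V).toRingHom

theorem dual_smul_def (φ : DualAlg k A) (v : V) :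
    letI := dualModule k A V
    φ • v = T φ.ofConv v := rfl

theorem dual_isScalarTower :
    letI := dualModule k A V
    IsScalarTower k (DualAlg k A) V := by
  letI := dualModule k A V
  refine ⟨fun c φ v => ?_⟩
  change T (c • φ).ofConv v = c • T φ.ofConv v
  exact T_smul c φ.ofConv v

end Dual

section Bridge

variable {k : Type u} [CommRing k] {A : Type v} [AddCommGroup A] [Module k A] [Coalgebra k A]
variable {V : Type w} [AddCommGroup V] [Module k V] [Comod k A V]
variable {W : Type w'} [AddCommGroup W] [Module k W] [Comod k A W]

theorem algebraMap_dual_smul (c : k) (v : V) :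
    letI := dualModule k A V
    (algebraMap k (DualAlg k A) c) • v = c • v := by
  letI := dualModule k A V
  change T (algebraMap k (DualAlg k A) c).ofConv v = c • v
  have : (algebraMap k (DualAlg k A) c).ofConv = c • CoalgebraStruct.counit (R := k) (A := A) := by
    ext a
    simp [Algebra.algebraMap_eq_smul_one]
  rw [this, T_smul, T_counit]

/-- A subcomodule, as a submodule over the dual algebra. -/
noncomputable def toDualSub [Module.Free k A] (U : Submodule k V)
    (hU : IsSubcomod (k := k) (A := A) U) :
    letI := dualModule k A V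
    Submodule (DualAlg k A) V :=
  letI := dualModule k A V
  { carrier := U
    add_mem' := U.add_mem
    zero_mem' := U.zero_mem
    smul_mem' := fun φ _ hx => T_mem_of_isSubcomod hU φ.ofConv hx }

/-- A submodule over the dual algebra, as a `k`-submodule. -/
noncomputable def ofDualSub
    (P : letI := dualModule k A V; Submodule (DualAlg k A) V) : Submodule k V :=
  letI := dualModule k A V
  { carrier := P
    add_mem' := P.add_mem
    zero_mem' := P.zero_mem
    smul_mem' := fun c x hx => by
      rw [← algebraMap_dual_smul (A := A) c x]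
      exact P.smul_mem _ hx }

theorem mem_ofDualSub (P : letI := dualModule k A V; Submodule (DualAlg k A) V) (x : V) :
    x ∈ ofDualSub P ↔ x ∈ P := Iff.rfl

theorem mem_toDualSub [Module.Free k A] (U : Submodule k V)
    (hU : IsSubcomod (k := k) (A := A) U) (x : V) : x ∈ toDualSub U hU ↔ x ∈ U := Iff.rfl

theorem isSubcomod_ofDualSub [Module.Free k A]
    (P : letI := dualModule k A V; Submodule (DualAlg k A) V) :
    IsSubcomod (k := k) (A := A) (ofDualSub P) := by
  letI := dualModule k A V
  rw [isSubcomod_iff]
  intro φ u hu
  exact P.smul_mem (WithConv.toConv φ) hu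

theorem ofDualSub_toDualSub [Module.Free k A] (U : Submodule k V)
    (hU : IsSubcomod (k := k) (A := A) U) : ofDualSub (toDualSub U hU) = U := rfl

theorem toDualSub_ofDualSub [Module.Free k A]
    (P : letI := dualModule k A V; Submodule (DualAlg k A) V) :
    toDualSub (ofDualSub P) (isSubcomod_ofDualSub P) = P := rfl

theorem ofDualSub_le_iff (P Q : letI := dualModule k A V; Submodule (DualAlg k A) V) :
    ofDualSub P ≤ ofDualSub Q ↔ P ≤ Q := Iff.rfl

theorem ofDualSub_injective :
    Function.Injective (ofDualSub (k := k) (A := A) (V := V)) := by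
  letI := dualModule k A V
  intro P Q h
  ext x
  rw [← mem_ofDualSub, h, mem_ofDualSub]

theorem ofDualSub_bot :
    ofDualSub (k := k) (A := A) (V := V) (letI := dualModule k A V; ⊥) = ⊥ := rfl

theorem ofDualSub_top :
    ofDualSub (k := k) (A := A) (V := V) (letI := dualModule k A V; ⊤) = ⊤ := rfl

theorem ofDualSub_inf (P Q : letI := dualModule k A V; Submodule (DualAlg k A) V) :
    ofDualSub (letI := dualModule k A V; P ⊓ Q) = ofDualSub P ⊓ ofDualSub Q := rfl

theorem ofDualSub_sup (P Q : letI := dualModule k A V; Submodule (DualAlg k A) V) :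
    ofDualSub (letI := dualModule k A V; P ⊔ Q) = ofDualSub P ⊔ ofDualSub Q := by
  letI := dualModule k A V
  ext x
  rw [mem_ofDualSub, Submodule.mem_sup, Submodule.mem_sup]
  rfl

theorem isCompl_ofDualSub_iff (P Q : letI := dualModule k A V; Submodule (DualAlg k A) V) :
    IsCompl (ofDualSub P) (ofDualSub Q) ↔ IsCompl P Q := by
  letI := dualModule k A V
  rw [isCompl_iff, isCompl_iff, disjoint_iff, disjoint_iff, codisjoint_iff, codisjoint_iff,
    ← ofDualSub_inf, ← ofDualSub_sup, ← ofDualSub_bot (k := k) (A := A) (V := V),
    ← ofDualSub_top (k := k) (A := A) (V := V), ofDualSub_injective.eq_iff,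
    ofDualSub_injective.eq_iff]

/-- Simple comodules are the simple modules over the dual algebra. -/
theorem isSimpleComod_iff [Module.Free k A] :
    IsSimpleComod k A V ↔ (letI := dualModule k A V; IsSimpleModule (DualAlg k A) V) := by
  letI := dualModule k A V
  constructor
  · rintro ⟨hnt, h⟩
    rw [isSimpleModule_iff]
    refine { exists_pair_ne := ?_, eq_bot_or_eq_top := ?_ }
    · exact (Submodule.nontrivial_iff (DualAlg k A)).mpr hnt |>.exists_pair_ne
    · intro P
      rcases h (ofDualSub P) (isSubcomod_ofDualSub P) with h1 | h1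
      · left
        exact ofDualSub_injective (h1.trans ofDualSub_bot.symm)
      · right
        exact ofDualSub_injective (h1.trans ofDualSub_top.symm)
  · intro hs
    rw [isSimpleModule_iff] at hs
    refine ⟨(Submodule.nontrivial_iff (DualAlg k A)).mp hs.toNontrivial, ?_⟩
    intro U hU
    rcases hs.eq_bot_or_eq_top (toDualSub U hU) with h1 | h1
    · left
      rw [← ofDualSub_toDualSub U hU, h1]
      rfl
    · right
      rw [← ofDualSub_toDualSub U hU, h1]
      rfl

/-- Semisimple comodules are the semisimple modules over the dual algebra. -/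
theorem isSemisimpleComod_iff [Module.Free k A] :
    IsSemisimpleComod k A V ↔ (letI := dualModule k A V; IsSemisimpleModule (DualAlg k A) V) := by
  letI := dualModule k A V
  constructor
  · intro h
    rw [isSemisimpleModule_iff]
    refine ⟨fun P => ?_⟩
    obtain ⟨U', hU', hc⟩ := h (ofDualSub P) (isSubcomod_ofDualSub P)
    refine ⟨toDualSub U' hU', ?_⟩
    rw [← isCompl_ofDualSub_iff]
    exact hc
  · intro hs U hU
    rw [isSemisimpleModule_iff] at hs
    obtain ⟨Q, hQ⟩ := hs.exists_isCompl (toDualSub U hU)
    refine ⟨ofDualSub Q, isSubcomod_ofDualSub Q, ?_⟩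
    rw [← isCompl_ofDualSub_iff] at hQ
    exact hQ

/-- A comodule map, as a linear map over the dual algebra. -/
noncomputable def toDualLinear (f : V →ₗ[k] W) (hf : Hoch.IsComodHom A f) :
    letI := dualModule k A V
    letI := dualModule k A W
    V →ₗ[DualAlg k A] W :=
  letI := dualModule k A V
  letI := dualModule k A W
  { toFun := f
    map_add' := f.map_add
    map_smul' := fun φ v => map_T_of_isComodHom hf φ.ofConv v }

theorem toDualLinear_apply (f : V →ₗ[k] W) (hf : Hoch.IsComodHom A f) (v : V) :
    toDualLinear f hf v = f v := rfl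

/-- A linear map over the dual algebra, as a `k`-linear map. -/
noncomputable def ofDualLinear
    (g : letI := dualModule k A V; letI := dualModule k A W; V →ₗ[DualAlg k A] W) : V →ₗ[k] W :=
  letI := dualModule k A V
  letI := dualModule k A W
  { toFun := g
    map_add' := g.map_add
    map_smul' := fun c v => by
      rw [← algebraMap_dual_smul (A := A) c v, g.map_smul, algebraMap_dual_smul (A := A) c (g v)]
      rfl }

theorem ofDualLinear_apply
    (g : letI := dualModule k A V; letI := dualModule k A W; V →ₗ[DualAlg k A] W) (v : V) :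
    ofDualLinear g v = g v := rfl

theorem isComodHom_ofDualLinear [Module.Free k A]
    (g : letI := dualModule k A V; letI := dualModule k A W; V →ₗ[DualAlg k A] W) :
    Hoch.IsComodHom A (ofDualLinear g) := by
  letI := dualModule k A V
  letI := dualModule k A W
  rw [isComodHom_iff]
  intro φ v
  exact g.map_smul (WithConv.toConv φ) v

theorem isSemisimpleComod_of_injective [Module.Free k A] {f : W →ₗ[k] V}
    (hf : Hoch.IsComodHom A f) (hinj : Function.Injective f) (hV : IsSemisimpleComod k A V) :
    IsSemisimpleComod k A W := by
  letI := dualModule k A V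
  letI := dualModule k A W
  rw [isSemisimpleComod_iff] at hV ⊢
  haveI := hV
  exact IsSemisimpleModule.of_injective (toDualLinear (A := A) f hf) hinj

theorem isSemisimpleComod_of_surjective [Module.Free k A] {f : V →ₗ[k] W}
    (hf : Hoch.IsComodHom A f) (hsurj : Function.Surjective f) (hV : IsSemisimpleComod k A V) :
    IsSemisimpleComod k A W := by
  letI := dualModule k A V
  letI := dualModule k A W
  rw [isSemisimpleComod_iff] at hV ⊢
  haveI := hV
  exact IsSemisimpleModule.of_surjective (toDualLinear (A := A) f hf) hsurj

/-- Schur's lemma for comodules. -/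
theorem bijective_or_eq_zero_of_isSimpleComod [Module.Free k A] {f : V →ₗ[k] W}
    (hf : Hoch.IsComodHom A f) (hV : IsSimpleComod k A V) (hW : IsSimpleComod k A W) :
    Function.Bijective f ∨ f = 0 := by
  letI := dualModule k A V
  letI := dualModule k A W
  haveI := isSimpleComod_iff.mp hV
  haveI := isSimpleComod_iff.mp hW
  rcases LinearMap.bijective_or_eq_zero (toDualLinear (A := A) f hf) with h | h
  · exact Or.inl h
  · right
    ext v
    have := LinearMap.congr_fun h v
    exact this

/-- Atoms of the lattice of submodules over the dual algebra, in comodule terms. -/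
theorem isAtom_dual_iff [Module.Free k A]
    (P : letI := dualModule k A V; Submodule (DualAlg k A) V) :
    IsAtom P ↔ ofDualSub P ≠ ⊥ ∧ ∀ W' : Submodule k V, IsSubcomod (k := k) (A := A) W' →
      W' ≤ ofDualSub P → W' = ⊥ ∨ W' = ofDualSub P := by
  letI := dualModule k A V
  constructor
  · rintro ⟨hne, hlt⟩
    refine ⟨fun h => hne (ofDualSub_injective (h.trans ofDualSub_bot.symm)), ?_⟩
    intro W' hW' hle
    rcases eq_or_lt_of_le (show toDualSub W' hW' ≤ P from hle) with h | h
    · right
      rw [← h]
      rfl
    · left
      have := hlt _ h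
      rw [← ofDualSub_toDualSub W' hW', this]
      rfl
  · rintro ⟨hne, h⟩
    refine ⟨fun h0 => hne (by rw [h0]; rfl), ?_⟩
    intro Q hQ
    rcases h (ofDualSub Q) (isSubcomod_ofDualSub Q) hQ.le with h1 | h1
    · exact ofDualSub_injective (h1.trans ofDualSub_bot.symm)
    · exact absurd (ofDualSub_injective h1) hQ.ne

theorem ofDualSub_mono {P Q : letI := dualModule k A V; Submodule (DualAlg k A) V}
    (h : P ≤ Q) : ofDualSub P ≤ ofDualSub Q := h

theorem ofDualSub_iSup [Module.Free k A] {ι : Sort*}
    (P : ι → (letI := dualModule k A V; Submodule (DualAlg k A) V)) :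
    ofDualSub (letI := dualModule k A V; ⨆ i, P i) = ⨆ i, ofDualSub (P i) := by
  letI := dualModule k A V
  apply le_antisymm
  · have hX : IsSubcomod (k := k) (A := A) (⨆ i, ofDualSub (P i)) :=
      isSubcomod_iSup (fun i => isSubcomod_ofDualSub (P i))
    have : (⨆ i, P i) ≤ toDualSub _ hX := by
      apply iSup_le
      intro i x hx
      exact Submodule.mem_iSup_of_mem i hx
    exact this
  · apply iSup_le
    intro i
    exact ofDualSub_mono (le_iSup P i)

theorem disjoint_ofDualSub_iff (P Q : letI := dualModule k A V; Submodule (DualAlg k A) V) :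
    Disjoint (ofDualSub P) (ofDualSub Q) ↔ Disjoint P Q := by
  letI := dualModule k A V
  rw [disjoint_iff, disjoint_iff, ← ofDualSub_inf, ← ofDualSub_bot (k := k) (A := A) (V := V),
    ofDualSub_injective.eq_iff]

theorem iSupIndep_ofDualSub [Module.Free k A] {ι : Type*}
    (t : ι → (letI := dualModule k A V; Submodule (DualAlg k A) V))
    (ht : letI := dualModule k A V; iSupIndep t) :
    iSupIndep (fun i => ofDualSub (t i)) := by
  letI := dualModule k A V
  intro i
  have h := ht i
  rw [← disjoint_ofDualSub_iff, ofDualSub_iSup] at h
  have e : (⨆ j, ⨆ (_ : j ≠ i), ofDualSub (t j)) = ⨆ j, ofDualSub (⨆ (_ : j ≠ i), t j) := by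
    refine iSup_congr (fun j => ?_)
    rw [ofDualSub_iSup]
  show Disjoint (ofDualSub (t i)) (⨆ j, ⨆ (_ : j ≠ i), ofDualSub (t j))
  rw [e]
  exact h

end Bridge

end Groth.Agent.Lib.Helper25
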