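import Groth.Agent.Lib.Helper25Comod
import Mathlib.Algebra.DirectSum.Module

/-! # Decomposition of comodules along a direct sum of subcoalgebras (helper25) -/

set_option autoImplicit false
universe u v w w'

namespace Groth.Agent.Lib.Helper25

open TensorProduct HopfRep

section Translate

variable {k : Type u} [CommRing k] {A : Type v} [AddCommGroup A] [Module k A] [Coalgebra k A]
variable {V : Type w} [AddCommGroup V] [Module k V]

/-- Right translation `R_φ = (id ⊗ φ) ∘ Δ`. -/
noncomputable def rTrans (φ : A →ₗ[k] k) : A →ₗ[k] A :=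
  slice A φ ∘ₗ CoalgebraStruct.comul (R := k)

/-- Left translation `L_φ = (φ ⊗ id) ∘ Δ`. -/
noncomputable def lTrans (φ : A →ₗ[k] k) : A →ₗ[k] A :=
  (TensorProduct.lid k A).toLinearMap ∘ₗ φ.rTensor A ∘ₗ CoalgebraStruct.comul (R := k)

omit [Coalgebra k A] in
theorem slice_assoc_symm (φ : A →ₗ[k] k) (w : V ⊗[k] (A ⊗[k] A)) :
    slice (V ⊗[k] A) φ ((TensorProduct.assoc k V A A).symm w) = (slice A φ).lTensor V w := by
  induction w using TensorProduct.induction_on with
  | zero => simp
  | add x y hx hy => simp only [map_add, hx, hy]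
  | tmul v z =>
    induction z using TensorProduct.induction_on with
    | zero => simp
    | add x y hx hy => simp only [TensorProduct.tmul_add, map_add, hx, hy]
    | tmul a a' => simp [TensorProduct.smul_tmul']

omit [Coalgebra k A] in
theorem slice_rTensor_assoc_symm (φ : A →ₗ[k] k) (w : V ⊗[k] (A ⊗[k] A)) :
    (slice V φ).rTensor A ((TensorProduct.assoc k V A A).symm w) =
      ((TensorProduct.lid k A).toLinearMap ∘ₗ φ.rTensor A).lTensor V w := by
  induction w using TensorProduct.induction_on with
  | zero => simp
  | add x y hx hy => simp only [map_add, hx, hy]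
  | tmul v z =>
    induction z using TensorProduct.induction_on with
    | zero => simp
    | add x y hx hy => simp only [TensorProduct.tmul_add, map_add, hx, hy]
    | tmul a a' => simp [TensorProduct.smul_tmul]

variable [Comod k A V]

theorem coact_T (φ : A →ₗ[k] k) (v : V) :
    Comod.coact (k := k) (A := A) (T φ v) =
      (rTrans φ).lTensor V (Comod.coact (k := k) (A := A) v) := by
  rw [T_apply, ← slice_rTensor, coassoc_apply, slice_assoc_symm, ← LinearMap.comp_apply,
    ← LinearMap.lTensor_comp]
  rfl

theorem rTensor_T_coact (φ : A →ₗ[k] k) (v : V) :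
    (T φ).rTensor A (Comod.coact (k := k) (A := A) v) =
      (lTrans φ).lTensor V (Comod.coact (k := k) (A := A) v) := by
  unfold T
  rw [LinearMap.rTensor_comp, LinearMap.comp_apply, coassoc_apply, slice_rTensor_assoc_symm,
    ← LinearMap.comp_apply, ← LinearMap.lTensor_comp]
  rfl

end Translate

section Decomp

variable {R : Type u} {C : Type v} [CommRing R] [AddCommGroup C] [Module R C]
variable {ι : Type w} [DecidableEq ι] (D : ι → Submodule R C)

/-- The component maps of an internal direct sum. -/
noncomputable def dsComp (hint : DirectSum.IsInternal D) (i : ι) : C →ₗ[R] D i :=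
  DirectSum.component R ι (fun i => D i) i ∘ₗ
    (LinearEquiv.ofBijective (DirectSum.coeLinearMap D) hint).symm.toLinearMap

/-- The projections of an internal direct sum. -/
noncomputable def dsProj (hint : DirectSum.IsInternal D) (i : ι) : C →ₗ[R] C :=
  (D i).subtype ∘ₗ dsComp D hint i

theorem dsComp_of_mem (hint : DirectSum.IsInternal D) (i : ι) (d : C) (hd : d ∈ D i) :
    dsComp D hint i d = ⟨d, hd⟩ := by
  classical
  have h1 : (LinearEquiv.ofBijective (DirectSum.coeLinearMap D) hint).symm d =
      DirectSum.lof R ι (fun i => D i) i ⟨d, hd⟩ := by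
    rw [LinearEquiv.symm_apply_eq]
    simp
  unfold dsComp
  rw [LinearMap.comp_apply, LinearEquiv.coe_coe, h1, DirectSum.component.lof_self]

theorem dsComp_of_mem_ne (hint : DirectSum.IsInternal D) {i j : ι} (hij : j ≠ i) (d : C)
    (hd : d ∈ D j) : dsComp D hint i d = 0 := by
  classical
  have h1 : (LinearEquiv.ofBijective (DirectSum.coeLinearMap D) hint).symm d =
      DirectSum.lof R ι (fun i => D i) j ⟨d, hd⟩ := by
    rw [LinearEquiv.symm_apply_eq]
    simp
  unfold dsComp
  rw [LinearMap.comp_apply, LinearEquiv.coe_coe, h1, DirectSum.component.of]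
  simp [hij]

theorem dsProj_of_mem (hint : DirectSum.IsInternal D) (i : ι) (d : C) (hd : d ∈ D i) :
    dsProj D hint i d = d := by
  unfold dsProj
  rw [LinearMap.comp_apply, dsComp_of_mem D hint i d hd]
  rfl

theorem dsProj_of_mem_ne (hint : DirectSum.IsInternal D) {i j : ι} (hij : j ≠ i) (d : C)
    (hd : d ∈ D j) : dsProj D hint i d = 0 := by
  unfold dsProj
  rw [LinearMap.comp_apply, dsComp_of_mem_ne D hint hij d hd, map_zero]

theorem exists_finset_sum_dsProj (hint : DirectSum.IsInternal D) (c : C) :
    ∃ F₀ : Finset ι, ∀ F : Finset ι, F₀ ⊆ F → ∑ i ∈ F, dsProj D hint i c = c := by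
  classical
  set x := (LinearEquiv.ofBijective (DirectSum.coeLinearMap D) hint).symm c with hx
  refine ⟨DFinsupp.support x, fun F hF => ?_⟩
  have h1 : ∑ i ∈ F, DirectSum.of (fun i => D i) i (x i) = x := by
    rw [← Finset.sum_subset hF]
    · exact DirectSum.sum_support_of x
    · intro i _ hi
      rw [DFinsupp.notMem_support_iff] at hi
      rw [hi, map_zero]
  have h2 : c = DirectSum.coeLinearMap D x := by
    rw [hx]
    exact ((LinearEquiv.ofBijective (DirectSum.coeLinearMap D) hint).apply_symm_apply c).symm
  conv_rhs => rw [h2, ← h1]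
  rw [map_sum]
  refine Finset.sum_congr rfl fun i _ => ?_
  rw [DirectSum.coeLinearMap_of]
  rfl

end Decomp

section SubcoalgDecomp

variable {R : Type u} {C : Type v} [CommRing R] [AddCommGroup C] [Module R C] [Coalgebra R C]
variable {ι : Type w} [DecidableEq ι] (D : ι → Submodule R C)

/-- `φ_i = ε ∘ p_i`. -/
noncomputable def dsFun (hint : DirectSum.IsInternal D) (i : ι) : C →ₗ[R] R :=
  CoalgebraStruct.counit (R := R) (A := C) ∘ₗ dsProj D hint i

theorem slice_dsFun_map (hint : DirectSum.IsInternal D) (i l : ι) (z : D l ⊗[R] D l) :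
    slice C (dsFun D hint i) (TensorProduct.map (D l).subtype (D l).subtype z) =
      (if l = i then (1 : R) else 0) •
        slice C (CoalgebraStruct.counit (R := R) (A := C))
          (TensorProduct.map (D l).subtype (D l).subtype z) := by
  induction z using TensorProduct.induction_on with
  | zero => simp
  | add x y hx hy => simp only [map_add, hx, hy, smul_add]
  | tmul d d' =>
    simp only [TensorProduct.map_tmul, slice_tmul, dsFun, LinearMap.comp_apply,
      Submodule.subtype_apply]
    by_cases h : l = i
    · subst h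
      rw [dsProj_of_mem D hint l _ d'.2]
      simp
    · rw [dsProj_of_mem_ne D hint h _ d'.2]
      simp [h]

theorem lid_rTensor_dsFun_map (hint : DirectSum.IsInternal D) (i l : ι) (z : D l ⊗[R] D l) :
    (TensorProduct.lid R C) ((dsFun D hint i).rTensor C
        (TensorProduct.map (D l).subtype (D l).subtype z)) =
      (if l = i then (1 : R) else 0) •
        (TensorProduct.lid R C) ((CoalgebraStruct.counit (R := R) (A := C)).rTensor C
          (TensorProduct.map (D l).subtype (D l).subtype z)) := by
  induction z using TensorProduct.induction_on with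
  | zero => simp
  | add x y hx hy => simp only [map_add, hx, hy, smul_add]
  | tmul d d' =>
    simp only [TensorProduct.map_tmul, LinearMap.rTensor_tmul, TensorProduct.lid_tmul, dsFun,
      LinearMap.comp_apply, Submodule.subtype_apply]
    by_cases h : l = i
    · subst h
      rw [dsProj_of_mem D hint l _ d.2]
      simp
    · rw [dsProj_of_mem_ne D hint h _ d.2]
      simp [h]

variable (hD : ∀ i, ∀ d ∈ D i, CoalgebraStruct.comul (R := R) d ∈
      LinearMap.range (TensorProduct.map (D i).subtype (D i).subtype))

include hD in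
theorem rTrans_dsFun (hint : DirectSum.IsInternal D) (i : ι) :
    rTrans (dsFun D hint i) = dsProj D hint i := by
  apply LinearMap.ext
  intro c
  have hc : c ∈ ⨆ l, D l := by rw [hint.submodule_iSup_eq_top]; trivial
  induction hc using Submodule.iSup_induction' with
  | mem l d hd =>
    obtain ⟨z, hz⟩ := hD l d hd
    have h1 : slice C (CoalgebraStruct.counit (R := R) (A := C))
        (CoalgebraStruct.comul (R := R) d) = d := by
      unfold slice
      rw [LinearMap.comp_apply, Coalgebra.lTensor_counit_comul]
      simp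
    unfold rTrans
    rw [LinearMap.comp_apply, ← hz, slice_dsFun_map, hz, h1]
    by_cases h : l = i
    · subst h
      rw [dsProj_of_mem D hint l d hd]
      simp
    · rw [dsProj_of_mem_ne D hint h d hd]
      simp [h]
  | zero => simp
  | add x y _ _ hx hy => simp only [map_add, hx, hy]

include hD in
theorem lTrans_dsFun (hint : DirectSum.IsInternal D) (i : ι) :
    lTrans (dsFun D hint i) = dsProj D hint i := by
  apply LinearMap.ext
  intro c
  have hc : c ∈ ⨆ l, D l := by rw [hint.submodule_iSup_eq_top]; trivial
  induction hc using Submodule.iSup_induction' with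
  | mem l d hd =>
    obtain ⟨z, hz⟩ := hD l d hd
    have h1 : (TensorProduct.lid R C) ((CoalgebraStruct.counit (R := R) (A := C)).rTensor C
        (CoalgebraStruct.comul (R := R) d)) = d := by
      rw [Coalgebra.rTensor_counit_comul]
      simp
    unfold lTrans
    rw [LinearMap.comp_apply, LinearMap.comp_apply, LinearEquiv.coe_coe, ← hz,
      lid_rTensor_dsFun_map, hz, h1]
    by_cases h : l = i
    · subst h
      rw [dsProj_of_mem D hint l d hd]
      simp
    · rw [dsProj_of_mem_ne D hint h d hd]
      simp [h]
  | zero => simp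
  | add x y _ _ hx hy => simp only [map_add, hx, hy]

section ComodDecomp

variable {V : Type w'} [AddCommGroup V] [Module R V] [Comod R C V]

/-- The isotypic part `V_i = ρ⁻¹(V ⊗ D_i)`. -/
noncomputable def isoPart (V : Type w') [AddCommGroup V] [Module R V] [Comod R C V] (i : ι) :
    Submodule R V :=
  (LinearMap.range (LinearMap.lTensor V (D i).subtype)).comap
    (Comod.coact (k := R) (A := C) (V := V))

include hD in
theorem coact_T_dsFun (hint : DirectSum.IsInternal D) (i : ι) (v : V) :
    Comod.coact (k := R) (A := C) (T (dsFun D hint i) v) =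
      (dsProj D hint i).lTensor V (Comod.coact (k := R) (A := C) v) := by
  rw [coact_T, rTrans_dsFun D hD]

include hD in
theorem rTensor_T_dsFun_coact (hint : DirectSum.IsInternal D) (i : ι) (v : V) :
    (T (dsFun D hint i)).rTensor C (Comod.coact (k := R) (A := C) v) =
      (dsProj D hint i).lTensor V (Comod.coact (k := R) (A := C) v) := by
  rw [rTensor_T_coact, lTrans_dsFun D hD]

include hD in
theorem T_dsFun_mem (hint : DirectSum.IsInternal D) (i : ι) (v : V) :
    T (dsFun D hint i) v ∈ isoPart D V i := by
  change Comod.coact (k := R) (A := C) _ ∈ LinearMap.range _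
  rw [coact_T_dsFun D hD]
  unfold dsProj
  rw [LinearMap.lTensor_comp, LinearMap.comp_apply]
  exact ⟨_, rfl⟩

omit [DecidableEq ι] in
theorem slice_counit_of_coact_eq (l : ι) (v : V) (y : V ⊗[R] D l)
    (hy : (D l).subtype.lTensor V y = Comod.coact (k := R) (A := C) v) :
    slice V (CoalgebraStruct.counit (R := R) (A := C) ∘ₗ (D l).subtype) y = v := by
  rw [← slice_lTensor, hy, ← T_apply, T_counit]

theorem T_dsFun_of_mem (hint : DirectSum.IsInternal D) (i : ι) (v : V) (hv : v ∈ isoPart D V i) :
    T (dsFun D hint i) v = v := by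
  obtain ⟨y, hy⟩ := hv
  rw [T_apply, ← hy, slice_lTensor]
  have h1 : dsFun D hint i ∘ₗ (D i).subtype =
      CoalgebraStruct.counit (R := R) (A := C) ∘ₗ (D i).subtype := by
    ext d
    simp only [dsFun, LinearMap.comp_apply, Submodule.subtype_apply]
    rw [dsProj_of_mem D hint i _ d.2]
  rw [h1]
  exact slice_counit_of_coact_eq D i v y hy

theorem T_dsFun_of_mem_ne (hint : DirectSum.IsInternal D) {i j : ι} (hij : j ≠ i) (v : V)
    (hv : v ∈ isoPart D V j) : T (dsFun D hint i) v = 0 := by
  obtain ⟨y, hy⟩ := hv
  rw [T_apply, ← hy, slice_lTensor]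
  have h1 : dsFun D hint i ∘ₗ (D j).subtype = 0 := by
    ext d
    simp only [dsFun, LinearMap.comp_apply, Submodule.subtype_apply]
    rw [dsProj_of_mem_ne D hint hij _ d.2]
    simp
  rw [h1]
  simp [slice]

include hD in
theorem isSubcomod_isoPart (hint : DirectSum.IsInternal D) (i : ι) :
    IsSubcomod (k := R) (A := C) (isoPart D V i) := by
  intro v hv
  have h1 : Comod.coact (k := R) (A := C) v =
      (T (dsFun D hint i)).rTensor C (Comod.coact (k := R) (A := C) v) := by
    rw [rTensor_T_dsFun_coact D hD, ← coact_T_dsFun D hD, T_dsFun_of_mem D hint i v hv]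
  have h2 : T (dsFun D hint i) = (isoPart D V i).subtype ∘ₗ
      LinearMap.codRestrict (isoPart D V i) (T (dsFun D hint i))
        (fun v => T_dsFun_mem D hD hint i v) := by
    ext v
    simp
  rw [h1, h2, LinearMap.rTensor_comp, LinearMap.comp_apply]
  exact ⟨_, rfl⟩

include hD in
theorem coact_mem_of_mem_isoPart (hint : DirectSum.IsInternal D) (i : ι) (v : V)
    (hv : v ∈ isoPart D V i) :
    Comod.coact (k := R) (A := C) v ∈
      LinearMap.range (TensorProduct.map (isoPart D V i).subtype (D i).subtype) := by
  have h1 : Comod.coact (k := R) (A := C) v =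
      (T (dsFun D hint i)).rTensor C (Comod.coact (k := R) (A := C) v) := by
    rw [rTensor_T_dsFun_coact D hD, ← coact_T_dsFun D hD, T_dsFun_of_mem D hint i v hv]
  have h1' : Comod.coact (k := R) (A := C) v =
      (dsProj D hint i).lTensor V (Comod.coact (k := R) (A := C) v) := by
    rw [← coact_T_dsFun D hD, T_dsFun_of_mem D hint i v hv]
  have h2 : T (dsFun D hint i) = (isoPart D V i).subtype ∘ₗ
      LinearMap.codRestrict (isoPart D V i) (T (dsFun D hint i))
        (fun v => T_dsFun_mem D hD hint i v) := by
    ext v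
    simp
  have h3 : Comod.coact (k := R) (A := C) v =
      TensorProduct.map (T (dsFun D hint i)) (dsProj D hint i)
        (Comod.coact (k := R) (A := C) v) := by
    conv_lhs => rw [h1]
    conv_lhs => rw [h1']
    rw [← LinearMap.comp_apply, LinearMap.rTensor_comp_lTensor]
  have h4 : TensorProduct.map (T (dsFun D hint i)) (dsProj D hint i) =
      TensorProduct.map (isoPart D V i).subtype (D i).subtype ∘ₗ
        TensorProduct.map (LinearMap.codRestrict (isoPart D V i) (T (dsFun D hint i))
          (fun v => T_dsFun_mem D hD hint i v)) (dsComp D hint i) := by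
    rw [← TensorProduct.map_comp, ← h2]
    rfl
  rw [h3, h4, LinearMap.comp_apply]
  exact ⟨_, rfl⟩

theorem iSupIndep_isoPart (hint : DirectSum.IsInternal D) :
    iSupIndep (fun i => isoPart D V i) := by
  intro i
  rw [Submodule.disjoint_def]
  intro v hv1 hv2
  have h1 : (⨆ j, ⨆ (_ : j ≠ i), isoPart D V j) ≤ LinearMap.ker (T (dsFun D hint i)) := by
    refine iSup_le fun j => iSup_le fun hj => ?_
    intro w hw
    exact T_dsFun_of_mem_ne D hint hj w hw
  have h2 := h1 hv2
  rw [LinearMap.mem_ker, T_dsFun_of_mem D hint i v hv1] at h2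
  exact h2

theorem exists_finset_sum_lTensor_dsProj (hint : DirectSum.IsInternal D) (x : V ⊗[R] C) :
    ∃ F₀ : Finset ι, ∀ F : Finset ι, F₀ ⊆ F →
      ∑ i ∈ F, (dsProj D hint i).lTensor V x = x := by
  classical
  induction x using TensorProduct.induction_on with
  | zero => exact ⟨∅, fun F _ => by simp⟩
  | add x y hx hy =>
    obtain ⟨F1, h1⟩ := hx
    obtain ⟨F2, h2⟩ := hy
    refine ⟨F1 ∪ F2, fun F hF => ?_⟩
    simp only [map_add, Finset.sum_add_distrib]
    rw [h1 F (Finset.union_subset_left hF), h2 F (Finset.union_subset_right hF)]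
  | tmul v c =>
    obtain ⟨F0, h0⟩ := exists_finset_sum_dsProj D hint c
    refine ⟨F0, fun F hF => ?_⟩
    simp only [LinearMap.lTensor_tmul]
    rw [← TensorProduct.tmul_sum, h0 F hF]

include hD in
theorem iSup_isoPart (hint : DirectSum.IsInternal D) :
    (⨆ i, isoPart D V i) = ⊤ := by
  rw [eq_top_iff]
  intro v _
  obtain ⟨F0, h0⟩ := exists_finset_sum_lTensor_dsProj D hint (Comod.coact (k := R) (A := C) v)
  have h1 : v = ∑ i ∈ F0, T (dsFun D hint i) v := by
    apply coact_injective (k := R) (A := C)
    rw [map_sum]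
    conv_lhs => rw [← h0 F0 (Finset.Subset.refl _)]
    refine Finset.sum_congr rfl fun i _ => ?_
    rw [coact_T_dsFun D hD]
  rw [h1]
  exact Submodule.sum_mem _ fun i _ =>
    Submodule.mem_iSup_of_mem i (T_dsFun_mem D hD hint i v)

end ComodDecomp

end SubcoalgDecomp

end Groth.Agent.Lib.Helper25
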