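import Groth.Prelude.Def_W4c3ghconstell
import Groth.Agent.Lib.Helper25SubcoalgDecomp
import Groth.Agent.Lib.Helper25CoeffSimple
import Groth.Agent.Lib.Helper25CoeffMin

/-!
# Helper25Constell: isotypic parts, `genIn` and weights of equivariant modules (helper25)
-/

set_option autoImplicit false
universe u v w x

namespace Groth.Agent.Lib.Helper25.Constell

open TensorProduct HopfRep W4c3ghconstell Groth.Agent.Lib.Helper25

section Series

variable {ι : Type*}

theorem summable_of_bounds {a b : ι → ℝ} {S : Set ι} (hS : S.Finite) (hb : Summable b)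
    (h0 : ∀ i, i ∉ S → 0 ≤ a i) (hab : ∀ i, i ∉ S → a i ≤ b i) : Summable a := by
  classical
  rw [← hS.toFinset.summable_compl_iff]
  have hb' : Summable (fun i : {x // x ∉ hS.toFinset} => b i) :=
    (hS.toFinset.summable_compl_iff).mpr hb
  refine Summable.of_nonneg_of_le (fun i => ?_) (fun i => ?_) hb'
  · exact h0 i (by simpa using i.2)
  · exact hab i (by simpa using i.2)

end Series

section IsoComp

variable {k : Type u} [Field k] {A : Type v} [AddCommGroup A] [Module k A] [Coalgebra k A]
variable {M : Type x} [AddCommGroup M] [Module k M] [HopfRep.Comod k A M]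

theorem mem_isoComp {D : Submodule k A} {m : M} :
    m ∈ isoComp M D ↔ HopfRep.Comod.coact (k := k) (A := A) m ∈
      LinearMap.range (LinearMap.lTensor M D.subtype) := Iff.rfl

/-- The isotypic part of a subcoalgebra is a subcomodule. -/
theorem isSubcomod_isoComp {D : Submodule k A} (hD : W4c3ghconstell.IsSubcoalg k A D) :
    IsSubcomod (k := k) (A := A) (isoComp M D) := by
  rw [isSubcomod_iff]
  intro φ m hm
  rw [mem_isoComp] at hm ⊢
  obtain ⟨y, hy⟩ := hm
  rw [coact_T, ← hy]
  have hD' : Groth.Agent.Lib.Helper25.IsSubcoalg D := hD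
  have hstab : ∀ d : D, rTrans φ (d : A) ∈ D := fun d =>
    ((isSubcoalg_iff D).mp hD').1 d d.2 φ
  let r : D →ₗ[k] D := (rTrans φ ∘ₗ D.subtype).codRestrict D hstab
  refine ⟨r.lTensor M y, ?_⟩
  rw [← LinearMap.comp_apply, ← LinearMap.comp_apply, ← LinearMap.lTensor_comp,
    ← LinearMap.lTensor_comp]
  rfl

/-- A nonzero subcomodule meets some isotypic part of a simple subcoalgebra. -/
theorem exists_inf_isoComp_ne_bot {N : Submodule k M} (hN : IsSubcomod (k := k) (A := A) N)
    (hne : N ≠ ⊥) : ∃ D : SimpSub k A, N ⊓ isoComp M D.1 ≠ ⊥ := by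
  obtain ⟨E, hEN, hE0, hE, -, hmin⟩ := exists_minimal_subcomod_le (k := k) (A := A) N hN hne
  have hsimple := isSimpleComod_subComod hE hE0 hmin
  letI := subComod E hE
  have hD := coeffSpace_isSimple_of_isSimpleComod (k := k) (A := A) (E := E) hsimple
  refine ⟨⟨coeffSpace k A E, hD⟩, ?_⟩
  intro hbot
  apply hE0
  rw [eq_bot_iff]
  intro e he
  have h1 : e ∈ N ⊓ isoComp M (coeffSpace k A E) := by
    refine ⟨hEN he, ?_⟩
    change e ∈ isoComp M (coeffSpace k A E)
    rw [mem_isoComp]
    have h2 := (coeffSpace_le_iff (k := k) (A := A) (V := E) (coeffSpace k A E)).mp le_rfl ⟨e, he⟩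
    obtain ⟨y, hy⟩ := h2
    have h3 := isComodHom_apply (isComodHom_subtype E hE) (⟨e, he⟩ : E)
    rw [Submodule.subtype_apply] at h3
    change HopfRep.Comod.coact (k := k) (A := A) e ∈ _
    rw [h3, ← hy]
    refine ⟨E.subtype.rTensor _ y, ?_⟩
    rw [← LinearMap.comp_apply, ← LinearMap.comp_apply, LinearMap.lTensor_comp_rTensor,
      LinearMap.rTensor_comp_lTensor]
  rw [hbot] at h1
  exact h1

end IsoComp

section Span

variable {k : Type u} [Field k] {A : Type v} [CommRing A] [Bialgebra k A]
variable {R : Type w} [CommRing R] [Algebra k R] [HopfRep.Comod k A R]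
variable {M : Type x} [AddCommGroup M] [Module k M] [Module R M] [IsScalarTower k R M]
  [HopfRep.Comod k A M] [TameAct.IsHopfMod k A R M]

omit [HopfRep.Comod k A R] [HopfRep.Comod k A M] [TameAct.IsHopfMod k A R M] in
theorem slice_hmSMul_tmul (φ : A →ₗ[k] k) (r : R) (a : A) (z : M ⊗[k] A) :
    slice M φ (TameAct.hmSMul k A R M (r ⊗ₜ[k] a) z) =
      r • slice M (φ ∘ₗ LinearMap.mulLeft k a) z := by
  induction z using TensorProduct.induction_on with
  | zero => simp
  | add x y hx hy => simp only [map_add, hx, hy, smul_add]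
  | tmul m a' =>
    rw [TameAct.hmSMul_tmul, slice_tmul, slice_tmul, smul_comm]
    rfl

/-- The `R`-span of a `k`-subcomodule is a subcomodule. -/
theorem isSubcomod_span {W : Submodule k M} (hW : IsSubcomod (k := k) (A := A) W) :
    IsSubcomod (k := k) (A := A) ((Submodule.span R (W : Set M)).restrictScalars k) := by
  rw [isSubcomod_iff]
  have key : ∀ u ∈ Submodule.span R (W : Set M), ∀ φ : A →ₗ[k] k,
      T φ u ∈ Submodule.span R (W : Set M) := by
    intro u hu
    induction hu using Submodule.span_induction with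
    | mem u hu =>
      intro φ
      exact Submodule.subset_span (T_mem_of_isSubcomod hW φ hu)
    | zero =>
      intro φ
      rw [map_zero]
      exact Submodule.zero_mem _
    | add x y _ _ hx hy =>
      intro φ
      rw [map_add]
      exact Submodule.add_mem _ (hx φ) (hy φ)
    | smul r u _ hu =>
      intro φ
      rw [T_apply, TameAct.IsHopfMod.coact_smul]
      generalize HopfRep.Comod.coact (k := k) (A := A) r = zr
      induction zr using TensorProduct.induction_on with
      | zero =>
        rw [map_zero, LinearMap.zero_apply, map_zero]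
        exact Submodule.zero_mem _
      | add x y hx hy =>
        rw [map_add, LinearMap.add_apply, map_add]
        exact Submodule.add_mem _ hx hy
      | tmul r' a =>
        rw [slice_hmSMul_tmul, ← T_apply]
        exact Submodule.smul_mem _ _ (hu _)
  intro φ u hu
  exact key u hu φ

end Span

section GenIn

variable {k : Type u} [Field k] {A : Type v} [CommRing A] [Bialgebra k A]
variable {R : Type w} [CommRing R] [Algebra k R] [HopfRep.Comod k A R]
variable {M : Type x} [AddCommGroup M] [Module k M] [Module R M] [IsScalarTower k R M]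
  [HopfRep.Comod k A M] [TameAct.IsHopfMod k A R M]

omit [HopfRep.Comod k A R] [TameAct.IsHopfMod k A R M] in
theorem genIn_le (S : Set (SimpSub k A)) (N : Submodule R M) : genIn k A R M S N ≤ N := by
  rw [genIn, Submodule.span_le]
  intro m hm
  simp only [Set.mem_iUnion] at hm
  obtain ⟨D, _, hm⟩ := hm
  exact hm.1

omit [HopfRep.Comod k A R] [TameAct.IsHopfMod k A R M] in
theorem mem_genIn {S : Set (SimpSub k A)} {N : Submodule R M} {D : SimpSub k A} (hD : D ∈ S)
    {m : M} (hmN : m ∈ N) (hmD : m ∈ isoComp M D.1) : m ∈ genIn k A R M S N := by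
  apply Submodule.subset_span
  simp only [Set.mem_iUnion]
  exact ⟨D, hD, hmN, hmD⟩

omit [HopfRep.Comod k A R] [TameAct.IsHopfMod k A R M] in
theorem genIn_inf_isoComp {S : Set (SimpSub k A)} (N : Submodule R M) {D : SimpSub k A}
    (hD : D ∈ S) :
    (genIn k A R M S N).restrictScalars k ⊓ isoComp M D.1 = N.restrictScalars k ⊓ isoComp M D.1 := by
  apply le_antisymm
  · exact inf_le_inf_right _ (fun m hm => genIn_le S N hm)
  · intro m hm
    exact ⟨mem_genIn hD hm.1 hm.2, hm.2⟩

omit [HopfRep.Comod k A R] [TameAct.IsHopfMod k A R M] in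
theorem genIn_genIn (S : Set (SimpSub k A)) (N : Submodule R M) :
    genIn k A R M S (genIn k A R M S N) = genIn k A R M S N := by
  apply le_antisymm (genIn_le S _)
  rw [genIn, Submodule.span_le]
  intro m hm
  simp only [Set.mem_iUnion] at hm
  obtain ⟨D, hD, hm⟩ := hm
  exact mem_genIn hD (mem_genIn hD hm.1 hm.2) hm.2

theorem isSubcomod_genIn (S : Set (SimpSub k A)) {N : Submodule R M}
    (hN : IsSubcomod (k := k) (A := A) (N.restrictScalars k)) :
    IsSubcomod (k := k) (A := A) ((genIn k A R M S N).restrictScalars k) := by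
  set W : Submodule k M := ⨆ D : SimpSub k A, ⨆ _ : D ∈ S, (N.restrictScalars k ⊓ isoComp M D.1)
    with hWdef
  have hW : IsSubcomod (k := k) (A := A) W := by
    apply isSubcomod_iSup
    intro D
    apply isSubcomod_iSup
    intro _
    exact isSubcomod_inf hN (isSubcomod_isoComp D.2.2.1)
  have heq : genIn k A R M S N = Submodule.span R (W : Set M) := by
    apply le_antisymm
    · rw [genIn, Submodule.span_le]
      intro m hm
      simp only [Set.mem_iUnion] at hm
      obtain ⟨D, hD, hm⟩ := hm
      apply Submodule.subset_span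
      exact (le_iSup_of_le D (le_iSup_of_le hD le_rfl) :
        (N.restrictScalars k ⊓ isoComp M D.1) ≤ W) hm
    · rw [Submodule.span_le]
      have : W ≤ (genIn k A R M S N).restrictScalars k := by
        apply iSup_le
        intro D
        apply iSup_le
        intro hD m hm
        exact mem_genIn hD hm.1 hm.2
      exact this
  rw [heq]
  exact isSubcomod_span hW

end GenIn

section Theta

variable {k : Type u} [Field k] {A : Type v} [CommRing A] [Bialgebra k A]
variable {R : Type w} [CommRing R] [Algebra k R] [HopfRep.Comod k A R]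
variable {M : Type x} [AddCommGroup M] [Module k M] [Module R M] [IsScalarTower k R M]
  [HopfRep.Comod k A M] [TameAct.IsHopfMod k A R M]
variable {h : SimpSub k A → ℕ} {θ : SimpSub k A → ℚ}
  (hfin : {D | θ D < 0}.Finite) (hsum : HasSum (fun D => (θ D : ℝ) * (h D : ℝ)) 0)
  (hM : IsConstellation k A R M h)

include hM in
omit [HopfRep.Comod k A R] [TameAct.IsHopfMod k A R M] in
theorem hilbAt_le (N : Submodule k M) (D : SimpSub k A) : hilbAt M N D ≤ h D := by
  haveI := (hM.2.2 D).1
  rw [← (hM.2.2 D).2]
  exact Submodule.finrank_mono inf_le_right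

include hM in
omit [HopfRep.Comod k A R] [TameAct.IsHopfMod k A R M] in
theorem hilbAt_mono {N' N : Submodule k M} (hle : N' ≤ N) (D : SimpSub k A) :
    hilbAt M N' D ≤ hilbAt M N D := by
  haveI := (hM.2.2 D).1
  haveI : Module.Finite k ↥(N ⊓ isoComp M D.1) :=
    Module.Finite.of_injective (Submodule.inclusion (inf_le_right : N ⊓ isoComp M D.1 ≤ _))
      (Submodule.inclusion_injective _)
  exact Submodule.finrank_mono (inf_le_inf_right _ hle)

include hM in
omit [HopfRep.Comod k A R] [TameAct.IsHopfMod k A R M] in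
theorem hilbAt_eq_of_le {N : Submodule k M} {D : SimpSub k A} (hle : isoComp M D.1 ≤ N) :
    hilbAt M N D = h D := by
  rw [← (hM.2.2 D).2, hilbAt, inf_eq_right.mpr hle]

include hM in
omit [HopfRep.Comod k A R] [TameAct.IsHopfMod k A R M] in
theorem hilbAt_top (D : SimpSub k A) : hilbAt M (⊤ : Submodule k M) D = h D :=
  hilbAt_eq_of_le hM le_top

omit [HopfRep.Comod k A R] [TameAct.IsHopfMod k A R M] [Module R M] [IsScalarTower k R M] in
theorem hilbAt_bot (D : SimpSub k A) : hilbAt M (⊥ : Submodule k M) D = 0 := by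
  rw [hilbAt, bot_inf_eq, finrank_bot]

include hM in
omit [HopfRep.Comod k A R] [TameAct.IsHopfMod k A R M] in
theorem le_of_hilbAt_eq {N : Submodule k M} {D : SimpSub k A} (heq : hilbAt M N D = h D) :
    isoComp M D.1 ≤ N := by
  haveI := (hM.2.2 D).1
  have h1 : N ⊓ isoComp M D.1 = isoComp M D.1 :=
    Submodule.eq_of_le_of_finrank_eq inf_le_right (heq.trans (hM.2.2 D).2.symm)
  exact inf_eq_right.mp h1

include hM in
omit [HopfRep.Comod k A R] [TameAct.IsHopfMod k A R M] in
theorem hilbAt_ne_zero {N : Submodule k M} {D : SimpSub k A} (hne : N ⊓ isoComp M D.1 ≠ ⊥) :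
    hilbAt M N D ≠ 0 := by
  haveI := (hM.2.2 D).1
  haveI : Module.Finite k ↥(N ⊓ isoComp M D.1) :=
    Module.Finite.of_injective (Submodule.inclusion (inf_le_right : N ⊓ isoComp M D.1 ≤ _))
      (Submodule.inclusion_injective _)
  intro h0
  apply hne
  rw [← Submodule.finrank_eq_zero (R := k)]
  exact h0

include hfin hsum hM in
omit [HopfRep.Comod k A R] [TameAct.IsHopfMod k A R M] in
theorem summable_terms (N : Submodule k M) :
    Summable (fun D => (θ D : ℝ) * (hilbAt M N D : ℝ)) := by
  refine summable_of_bounds hfin hsum.summable (fun D hD => ?_) (fun D hD => ?_)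
  · have : (0 : ℝ) ≤ θ D := by
      have : ¬ θ D < 0 := hD
      exact_mod_cast not_lt.mp this
    positivity
  · have h1 : (0 : ℝ) ≤ θ D := by
      have : ¬ θ D < 0 := hD
      exact_mod_cast not_lt.mp this
    have h2 : (hilbAt M N D : ℝ) ≤ h D := by exact_mod_cast hilbAt_le hM N D
    exact mul_le_mul_of_nonneg_left h2 h1

include hsum hM in
omit [HopfRep.Comod k A R] [TameAct.IsHopfMod k A R M] in
theorem theta_top : theta M θ (⊤ : Submodule k M) = 0 := by
  rw [theta]
  have : (fun D => (θ D : ℝ) * (hilbAt M (⊤ : Submodule k M) D : ℝ)) =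
      fun D => (θ D : ℝ) * (h D : ℝ) := by
    funext D
    rw [hilbAt_top hM]
  rw [this]
  exact hsum.tsum_eq

omit [HopfRep.Comod k A R] [TameAct.IsHopfMod k A R M] [Module R M] [IsScalarTower k R M] in
theorem theta_bot : theta M θ (⊥ : Submodule k M) = 0 := by
  rw [theta]
  simp [hilbAt_bot]

include hfin hsum hM in
omit [HopfRep.Comod k A R] [TameAct.IsHopfMod k A R M] in
/-- Comparison of weights. -/
theorem theta_le_theta {N' N : Submodule k M} (hle : N' ≤ N)
    (hS : ∀ D, θ D < 0 → hilbAt M N' D = hilbAt M N D) : theta M θ N' ≤ theta M θ N := by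
  rw [theta, theta]
  refine Summable.tsum_le_tsum (fun D => ?_) (summable_terms hfin hsum hM N')
    (summable_terms hfin hsum hM N)
  by_cases hD : θ D < 0
  · rw [hS D hD]
  · have h1 : (0 : ℝ) ≤ θ D := by exact_mod_cast not_lt.mp hD
    have h2 : (hilbAt M N' D : ℝ) ≤ hilbAt M N D := by exact_mod_cast hilbAt_mono hM hle D
    exact mul_le_mul_of_nonneg_left h2 h1

include hfin hsum hM in
omit [HopfRep.Comod k A R] [TameAct.IsHopfMod k A R M] in
theorem theta_lt_theta {N' N : Submodule k M} (hle : N' ≤ N)
    (hS : ∀ D, θ D < 0 → hilbAt M N' D = hilbAt M N D) (D₁ : SimpSub k A) (hD₁ : 0 < θ D₁)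
    (hlt : hilbAt M N' D₁ < hilbAt M N D₁) : theta M θ N' < theta M θ N := by
  rw [theta, theta]
  refine Summable.tsum_lt_tsum (i := D₁) (fun D => ?_) ?_ (summable_terms hfin hsum hM N')
    (summable_terms hfin hsum hM N)
  · by_cases hD : θ D < 0
    · change (θ D : ℝ) * (hilbAt M N' D : ℝ) ≤ (θ D : ℝ) * (hilbAt M N D : ℝ)
      rw [hS D hD]
    · have h1 : (0 : ℝ) ≤ θ D := by exact_mod_cast not_lt.mp hD
      have h2 : (hilbAt M N' D : ℝ) ≤ hilbAt M N D := by exact_mod_cast hilbAt_mono hM hle D
      exact mul_le_mul_of_nonneg_left h2 h1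
  · have h1 : (0 : ℝ) < θ D₁ := by exact_mod_cast hD₁
    have h2 : (hilbAt M N' D₁ : ℝ) < hilbAt M N D₁ := by exact_mod_cast hlt
    exact mul_lt_mul_of_pos_left h2 h1

include hfin hsum hM in
omit [HopfRep.Comod k A R] [TameAct.IsHopfMod k A R M] in
theorem theta_pos {N : Submodule k M} (hS : ∀ D, θ D < 0 → hilbAt M N D = 0)
    (D₁ : SimpSub k A) (hD₁ : 0 < θ D₁) (hne : hilbAt M N D₁ ≠ 0) : 0 < theta M θ N := by
  rw [theta]
  refine Summable.tsum_pos (summable_terms hfin hsum hM N) (fun D => ?_) D₁ ?_
  · by_cases hD : θ D < 0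
    · rw [hS D hD]
      simp
    · have h1 : (0 : ℝ) ≤ θ D := by exact_mod_cast not_lt.mp hD
      positivity
  · have h1 : (0 : ℝ) < θ D₁ := by exact_mod_cast hD₁
    have h2 : (0 : ℝ) < hilbAt M N D₁ := by exact_mod_cast Nat.pos_of_ne_zero hne
    positivity

include hfin hsum hM in
/-- A `θ`-stable constellation is generated by its parts of negative weight. -/
theorem genIn_top_of_isThetaStable (hne : ∃ D, θ D ≠ 0 ∧ h D ≠ 0)
    (hst : IsThetaStable k A R M θ) : genIn k A R M {D | θ D < 0} ⊤ = ⊤ := by
  set N : Submodule R M := genIn k A R M {D | θ D < 0} ⊤ with hN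
  have hsub : IsSubcomod (k := k) (A := A) (N.restrictScalars k) :=
    isSubcomod_genIn _ (N := (⊤ : Submodule R M)) (by
      rw [Submodule.restrictScalars_top]
      exact isSubcomod_top)
  have hS : ∀ D, θ D < 0 → hilbAt M (N.restrictScalars k) D = hilbAt M (⊤ : Submodule k M) D := by
    intro D hD
    rw [hilbAt_top hM]
    apply hilbAt_eq_of_le hM
    intro m hm
    exact mem_genIn (S := {D | θ D < 0}) (N := (⊤ : Submodule R M)) hD trivial hm
  have hle : theta M θ (N.restrictScalars k) ≤ 0 := by
    rw [← theta_top hsum hM]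
    exact theta_le_theta hfin hsum hM le_top hS
  by_contra htop
  by_cases hbot : N = ⊥
  · obtain ⟨D₁, hθ1, hh1⟩ := hne
    have hpos : 0 < θ D₁ := by
      rcases lt_or_gt_of_ne hθ1 with hlt | hgt
      · exfalso
        have h1 := hS D₁ hlt
        rw [hbot, Submodule.restrictScalars_bot, hilbAt_bot, hilbAt_top hM] at h1
        exact hh1 h1.symm
      · exact hgt
    have h2 : 0 < theta M θ (⊤ : Submodule k M) := by
      refine theta_pos hfin hsum hM (fun D hD => ?_) D₁ hpos ?_
      · rw [← hS D hD, hbot, Submodule.restrictScalars_bot, hilbAt_bot]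
      · rw [hilbAt_top hM]
        exact hh1
    rw [theta_top hsum hM] at h2
    exact lt_irrefl _ h2
  · have := hst.2 N hsub hbot htop
    exact absurd hle (not_le.mpr this)

include hfin hsum hM in
/-- A `θ`-semistable constellation with nowhere vanishing `θ` is generated by its parts of negative
weight. -/
theorem genIn_top_of_isThetaSemistable (hθ : ∀ D, θ D ≠ 0)
    (hss : IsThetaSemistable k A R M θ) : genIn k A R M {D | θ D < 0} ⊤ = ⊤ := by
  set N : Submodule R M := genIn k A R M {D | θ D < 0} ⊤ with hN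
  have hsub : IsSubcomod (k := k) (A := A) (N.restrictScalars k) :=
    isSubcomod_genIn _ (N := (⊤ : Submodule R M)) (by
      rw [Submodule.restrictScalars_top]
      exact isSubcomod_top)
  have hS : ∀ D, θ D < 0 → hilbAt M (N.restrictScalars k) D = hilbAt M (⊤ : Submodule k M) D := by
    intro D hD
    rw [hilbAt_top hM]
    apply hilbAt_eq_of_le hM
    intro m hm
    exact mem_genIn (S := {D | θ D < 0}) (N := (⊤ : Submodule R M)) hD trivial hm
  have hge := hss.2 N hsub
  by_contra htop
  -- some isotypic part is not contained in N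
  have hex : ∃ D : SimpSub k A, ¬ isoComp M D.1 ≤ N.restrictScalars k := by
    by_contra hcon
    push_neg at hcon
    apply htop
    rw [eq_top_iff]
    have h1 : (⊤ : Submodule k M) ≤ N.restrictScalars k := by
      rw [← hM.2.1]
      exact iSup_le hcon
    intro m _
    exact h1 trivial
  obtain ⟨D₁, hD₁⟩ := hex
  have hθ1 : 0 < θ D₁ := by
    rcases lt_or_gt_of_ne (hθ D₁) with hlt | hgt
    · exfalso
      apply hD₁
      intro m hm
      exact mem_genIn (S := {D | θ D < 0}) (N := (⊤ : Submodule R M)) hlt trivial hm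
    · exact hgt
  have hlt : hilbAt M (N.restrictScalars k) D₁ < hilbAt M (⊤ : Submodule k M) D₁ := by
    apply lt_of_le_of_ne (hilbAt_mono hM le_top D₁)
    intro heq
    rw [hilbAt_top hM] at heq
    exact hD₁ (le_of_hilbAt_eq hM heq)
  have := theta_lt_theta hfin hsum hM le_top hS D₁ hθ1 hlt
  rw [theta_top hsum hM] at this
  exact absurd hge (not_le.mpr this)

include hfin hsum hM in
/-- Semistability can be tested on submodules generated by their parts of negative weight. -/
theorem isThetaSemistable_of_genIn (h0 : theta M θ ⊤ = 0)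
    (hss : ∀ N : Submodule R M, IsSubcomod (k := k) (A := A) (N.restrictScalars k) → N ≠ ⊥ →
      N ≠ ⊤ → genIn k A R M {D | θ D < 0} N = N → 0 ≤ theta M θ (N.restrictScalars k)) :
    IsThetaSemistable k A R M θ := by
  refine ⟨h0, ?_⟩
  intro N hN
  set N' : Submodule R M := genIn k A R M {D | θ D < 0} N with hN'
  have hle : N' ≤ N := genIn_le _ N
  have hS : ∀ D, θ D < 0 → hilbAt M (N'.restrictScalars k) D = hilbAt M (N.restrictScalars k) D := by
    intro D hD
    rw [hilbAt, hilbAt, genIn_inf_isoComp N (S := {D | θ D < 0}) hD]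
  have h1 : theta M θ (N'.restrictScalars k) ≤ theta M θ (N.restrictScalars k) :=
    theta_le_theta hfin hsum hM (fun m hm => hle hm) hS
  refine le_trans ?_ h1
  by_cases hbot : N' = ⊥
  · rw [hbot, Submodule.restrictScalars_bot, theta_bot]
  · by_cases htop : N' = ⊤
    · rw [htop, Submodule.restrictScalars_top, theta_top hsum hM]
    · exact hss N' (isSubcomod_genIn _ hN) hbot htop (genIn_genIn _ N)

include hfin hsum hM in
/-- Positivity of the weight of a nonzero equivariant submodule without parts of negative weight. -/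
theorem theta_pos_of_ne_bot (hθ : ∀ D, h D ≠ 0 → θ D ≠ 0) {N : Submodule k M}
    (hN : IsSubcomod (k := k) (A := A) N) (hne : N ≠ ⊥)
    (hS : ∀ D, θ D < 0 → hilbAt M N D = 0) : 0 < theta M θ N := by
  obtain ⟨D₁, hD₁⟩ := exists_inf_isoComp_ne_bot hN hne
  have h1 : hilbAt M N D₁ ≠ 0 := hilbAt_ne_zero hM hD₁
  have h2 : h D₁ ≠ 0 := by
    intro h0
    have := hilbAt_le hM N D₁
    omega
  have h3 : 0 < θ D₁ := by
    rcases lt_or_gt_of_ne (hθ D₁ h2) with hlt | hgt
    · exact absurd (hS D₁ hlt) h1
    · exact hgt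
  exact theta_pos hfin hsum hM hS D₁ h3 h1

include hfin hsum hM in
/-- Stability can be tested on submodules generated by their parts of negative weight. -/
theorem isThetaStable_of_genIn (hθ : ∀ D, h D ≠ 0 → θ D ≠ 0) (h0 : theta M θ ⊤ = 0)
    (hs : ∀ N : Submodule R M, IsSubcomod (k := k) (A := A) (N.restrictScalars k) → N ≠ ⊥ →
      N ≠ ⊤ → genIn k A R M {D | θ D < 0} N = N → 0 < theta M θ (N.restrictScalars k)) :
    IsThetaStable k A R M θ := by
  refine ⟨h0, ?_⟩
  intro N hN hNbot hNtop
  set N' : Submodule R M := genIn k A R M {D | θ D < 0} N with hN'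
  have hle : N' ≤ N := genIn_le _ N
  have hS : ∀ D, θ D < 0 → hilbAt M (N'.restrictScalars k) D = hilbAt M (N.restrictScalars k) D := by
    intro D hD
    rw [hilbAt, hilbAt, genIn_inf_isoComp N (S := {D | θ D < 0}) hD]
  have h1 : theta M θ (N'.restrictScalars k) ≤ theta M θ (N.restrictScalars k) :=
    theta_le_theta hfin hsum hM (fun m hm => hle hm) hS
  by_cases hbot : N' = ⊥
  · apply theta_pos_of_ne_bot hfin hsum hM hθ hN
    · intro hb
      apply hNbot
      rw [eq_bot_iff]
      intro m hm
      have : m ∈ N.restrictScalars k := hm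
      rw [hb] at this
      exact this
    · intro D hD
      rw [← hS D hD, hbot, Submodule.restrictScalars_bot, hilbAt_bot]
  · by_cases htop : N' = ⊤
    · exfalso
      apply hNtop
      rw [eq_top_iff, ← htop]
      exact hle
    · exact lt_of_lt_of_le (hs N' (isSubcomod_genIn _ hN) hbot htop (genIn_genIn _ N)) h1

include hfin hsum hM in
/-- A constellation generated by its one-dimensional invariant part is stable. -/
theorem isThetaStable_of_cyclic (D₀ : SimpSub k A) (h1 : h D₀ = 1) (hneg : ∀ D, θ D < 0 ↔ D = D₀)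
    (hθ : ∀ D, h D ≠ 0 → θ D ≠ 0) (hgen : genIn k A R M {D₀} ⊤ = ⊤) :
    IsThetaStable k A R M θ := by
  refine ⟨theta_top hsum hM, ?_⟩
  intro N hN hNbot hNtop
  apply theta_pos_of_ne_bot hfin hsum hM hθ hN
  · intro hb
    apply hNbot
    rw [eq_bot_iff]
    intro m hm
    have : m ∈ N.restrictScalars k := hm
    rw [hb] at this
    exact this
  · intro D hD
    have hDD : D = D₀ := (hneg D).mp hD
    subst hDD
    by_contra hne0
    -- then the whole one-dimensional part lies in N
    have h2 : hilbAt M (N.restrictScalars k) D = h D := by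
      have := hilbAt_le hM (N.restrictScalars k) D
      omega
    have h3 := le_of_hilbAt_eq hM h2
    apply hNtop
    rw [eq_top_iff, ← hgen, genIn, Submodule.span_le]
    intro m hm
    simp only [Set.mem_iUnion] at hm
    obtain ⟨D', hD', hm⟩ := hm
    have : D' = D := hD'
    subst this
    exact h3 hm.2

end Theta

end Groth.Agent.Lib.Helper25.Constell
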