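import Groth.Agent.Lib.Helper25CoeffFin
import Groth.Agent.Lib.Helper25ComodInd

set_option autoImplicit false
universe u v v' w w' x

namespace Groth.Agent.Lib.Helper25

open TensorProduct HopfRep

section IndSS

variable {k : Type u} [CommRing k] {A : Type v} [AddCommGroup A] [Module k A] [Coalgebra k A]
variable {V : Type w} [AddCommGroup V] [Module k V]

/-- `a ↦ v ⊗ a` as a map from the regular comodule to the induced comodule `V ⊗ A`. -/
noncomputable def tmulHom (v : V) : A →ₗ[k] Hoch.Ind k A V :=
  (Hoch.Ind.equiv k A V).toLinearMap ∘ₗ TensorProduct.mk k V A v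

theorem isComodHom_tmulHom (v : V) : Hoch.IsComodHom A (tmulHom (k := k) (A := A) v) := by
  apply LinearMap.ext
  intro a
  change (TensorProduct.assoc k V A A).symm (v ⊗ₜ[k] CoalgebraStruct.comul (R := k) a) =
    (TensorProduct.mk k V A v).rTensor A (CoalgebraStruct.comul (R := k) a)
  generalize CoalgebraStruct.comul (R := k) a = z
  induction z using TensorProduct.induction_on with
  | zero => simp
  | add x y hx hy => simp only [TensorProduct.tmul_add, map_add, hx, hy]
  | tmul a b => simp

omit [Coalgebra k A] in
theorem iSup_range_tmulHom : (⨆ v : V, LinearMap.range (tmulHom (k := k) (A := A) v)) = ⊤ := by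
  rw [eq_top_iff]
  intro x _
  clear ‹x ∈ ⊤›
  induction x using TensorProduct.induction_on with
  | zero => exact Submodule.zero_mem _
  | add x y hx hy => exact Submodule.add_mem _ hx hy
  | tmul v a => exact Submodule.mem_iSup_of_mem v ⟨a, rfl⟩

end IndSS

section SSReg

variable {k : Type u} [Field k] {A : Type v} [AddCommGroup A] [Module k A] [Coalgebra k A]
variable {V : Type w} [AddCommGroup V] [Module k V] [Comod k A V]

/-- If the regular comodule is semisimple, every comodule is. -/
theorem isSemisimpleComod_of_regular (h : IsSemisimpleComod k A A) :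
    IsSemisimpleComod k A V := by
  letI := dualModule k A A
  letI := dualModule k A (Hoch.Ind k A V)
  haveI : IsSemisimpleModule (DualAlg k A) A := isSemisimpleComod_iff.mp h
  have hInd : IsSemisimpleComod k A (Hoch.Ind k A V) := by
    rw [isSemisimpleComod_iff]
    refine isSemisimpleModule_of_isSemisimpleModule_submodule'
      (p := fun v : V => LinearMap.range (toDualLinear (A := A) (tmulHom (k := k) (A := A) v)
        (isComodHom_tmulHom v))) (fun v => IsSemisimpleModule.range _) ?_
    apply ofDualSub_injective (k := k) (A := A)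
    rw [ofDualSub_iSup, ofDualSub_top]
    exact iSup_range_tmulHom (k := k) (A := A) (V := V)
  refine isSemisimpleComod_of_injective (isComodHom_indLift (A := A) (LinearMap.id : V →ₗ[k] V))
    ?_ hInd
  intro x y hxy
  apply coact_injective (k := k) (A := A)
  simpa [indLift] using hxy

end SSReg

section Cosemisimple

variable {k : Type u} [Field k] {A : Type v} [AddCommGroup A] [Module k A] [Coalgebra k A]

/-- A simple subcoalgebra. -/
def IsSimpleSubcoalg (D : Submodule k A) : Prop :=
  D ≠ ⊥ ∧ IsSubcoalg D ∧ ∀ B : Submodule k A, B ≤ D → IsSubcoalg B → B = ⊥ ∨ B = D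

theorem isSemisimpleComod_regular_of_iSup_simple_subcoalg {ι : Type*} (D : ι → Submodule k A)
    (htop : iSup D = ⊤) (hD : ∀ i, IsSimpleSubcoalg (D i)) : IsSemisimpleComod k A A := by
  letI := dualModule k A A
  rw [isSemisimpleComod_iff]
  refine isSemisimpleModule_of_isSemisimpleModule_submodule'
    (p := fun i : ι => toDualSub (D i) (hD i).2.1.isSubcomod) (fun i => ?_) ?_
  · obtain ⟨E, -, -, -, -, hmin, hE, hcf⟩ :=
      exists_simple_subcomod_of_simple_subcoalg (D i) (hD i).1 (hD i).2.1 (hD i).2.2
    letI := subComod E hE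
    letI := dualModule k A E
    have hE0 : E ≠ ⊥ := by
      intro h0
      apply (hD i).1
      rw [← hcf]
      haveI : Subsingleton E := by rw [h0]; infer_instance
      unfold coeffSpace
      rw [eq_bot_iff]
      apply iSup_le
      rintro l _ ⟨e, rfl⟩
      rw [Subsingleton.elim e 0, map_zero]
      exact Submodule.zero_mem _
    have hsimple := isSimpleComod_subComod hE hE0 hmin
    haveI : IsSimpleModule (DualAlg k A) E := isSimpleComod_iff.mp hsimple
    have : toDualSub (D i) (hD i).2.1.isSubcomod = ⨆ l : E →ₗ[k] k,
        LinearMap.range (toDualLinear (A := A) (coeffMap (A := A) l) (isComodHom_coeffMap l)) := by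
      apply ofDualSub_injective (k := k) (A := A)
      rw [← coeffSpace_eq_ofDualSub, hcf]
      rfl
    rw [this]
    exact isSemisimpleModule_iSup_range _
  · apply ofDualSub_injective (k := k) (A := A)
    rw [ofDualSub_iSup, ofDualSub_top]
    exact htop

theorem coeffSpace_eq_of_equiv {E : Type w} [AddCommGroup E] [Module k E] [Comod k A E]
    {E' : Type w'} [AddCommGroup E'] [Module k E'] [Comod k A E']
    (e : E ≃ₗ[k] E') (he : Hoch.IsComodHom A (e : E →ₗ[k] E')) :
    coeffSpace k A E = coeffSpace k A E' :=
  le_antisymm (coeffSpace_le_of_injective he e.injective)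
    (coeffSpace_le_of_injective (isComodHom_symm e he) e.symm.injective)

theorem exists_cosemisimple_decomp (h : IsSemisimpleComod k A A) :
    ∃ (ι : Type v) (D : ι → Submodule k A), iSupIndep D ∧ iSup D = ⊤ ∧
      ∀ i, IsSimpleSubcoalg (D i) := by
  letI := dualModule k A A
  haveI : IsSemisimpleModule (DualAlg k A) A := isSemisimpleComod_iff.mp h
  refine ⟨{D : Submodule k A // IsSimpleSubcoalg D}, fun D => D.1, ?_, ?_, fun D => D.2⟩
  · -- independence through isotypic components
    have key : ∀ D : {D : Submodule k A // IsSimpleSubcoalg D}, ∃ (E : Submodule k A)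
        (hE : IsSubcomod (k := k) (A := A) E),
        (@IsSimpleComod k A _ _ _ _ E _ _ (subComod E hE)) ∧
        (letI := subComod E hE; coeffSpace k A E) = D.1 := by
      intro D
      obtain ⟨E, -, hE0, -, -, hmin, hE, hcf⟩ :=
        exists_simple_subcomod_of_simple_subcoalg D.1 D.2.1 D.2.2.1 D.2.2.2
      exact ⟨E, hE, isSimpleComod_subComod hE hE0 hmin, hcf⟩
    choose E hE hsimple hcf using key
    letI : ∀ D : {D : Submodule k A // IsSimpleSubcoalg D}, Comod k A (E D) :=
      fun D => subComod (E D) (hE D)
    have hind := iSupIndep_isotypicComponent_comod (k := k) (A := A) (V := A)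
      (fun D : {D : Submodule k A // IsSimpleSubcoalg D} => (E D)) hsimple (by
        intro D D' hDD' e he
        apply hDD'
        apply Subtype.ext
        rw [← hcf D, ← hcf D']
        exact coeffSpace_eq_of_equiv e he)
    refine hind.mono (fun D => ?_)
    rw [← hcf D]
    apply iSup_le
    intro l
    exact le_iSup_of_le ⟨coeffMap (A := A) l, isComodHom_coeffMap l⟩ le_rfl
  · rw [eq_top_iff, ← ofDualSub_top (k := k) (A := A) (V := A),
      ← IsSemisimpleModule.sSup_simples_eq_top (DualAlg k A) A, sSup_eq_iSup', ofDualSub_iSup]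
    apply iSup_le
    rintro ⟨m, hm⟩
    have hm' : IsSimpleModule (DualAlg k A) m := hm
    have hatom := (isAtom_dual_iff m).mp (isSimpleModule_iff_isAtom.mp hm')
    have hE : IsSubcomod (k := k) (A := A) (ofDualSub m) := isSubcomod_ofDualSub m
    have hsimple := isSimpleComod_subComod hE hatom.1 (fun E' hle hE' => hatom.2 E' hE' hle)
    letI := subComod (ofDualSub m) hE
    have hD : IsSimpleSubcoalg (coeffSpace k A (ofDualSub m)) :=
      coeffSpace_isSimple_of_isSimpleComod hsimple
    exact le_trans (le_coeffSpace_subComod _ hE)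
      (le_iSup (fun D : {D : Submodule k A // IsSimpleSubcoalg D} => D.1) ⟨_, hD⟩)

end Cosemisimple

end Groth.Agent.Lib.Helper25
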