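import Mathlib
import Groth.Prelude.Def_CAlg
import Groth.Agent.Lib.Helper28Depth

/-!
# Depth of `R/(I ∩ J)` and of `R/I` versus `R/(I + x)` (helper25)
-/

set_option autoImplicit false
universe u

namespace Groth.Agent.Lib.Helper25.DepthUnion

open Groth.Agent.Lib.Helper28

variable {R : Type u} [CommRing R]

section SES

variable (I J : Ideal R)

/-- `R/(I ∩ J) → R/I × R/J` -/
def fInf : (R ⧸ (I ⊓ J)) →ₗ[R] (R ⧸ I) × (R ⧸ J) :=
  LinearMap.prod (Submodule.mapQ (I ⊓ J) I LinearMap.id (fun _ hx => hx.1))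
    (Submodule.mapQ (I ⊓ J) J LinearMap.id (fun _ hx => hx.2))

/-- `R/I × R/J → R/(I + J)`, `(a, b) ↦ a - b` -/
def gSup : (R ⧸ I) × (R ⧸ J) →ₗ[R] R ⧸ (I ⊔ J) :=
  (Submodule.mapQ I (I ⊔ J) LinearMap.id (fun _ hx => Ideal.mem_sup_left hx)).coprod
    (-(Submodule.mapQ J (I ⊔ J) LinearMap.id (fun _ hx => Ideal.mem_sup_right hx)))

theorem fInf_mk (x : R) :
    fInf I J (Submodule.Quotient.mk x) = (Submodule.Quotient.mk x, Submodule.Quotient.mk x) := rfl

theorem gSup_mk (x y : R) :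
    gSup I J (Submodule.Quotient.mk x, Submodule.Quotient.mk y) = Submodule.Quotient.mk (x - y) := by
  unfold gSup
  rw [LinearMap.coprod_apply, LinearMap.neg_apply, Submodule.mapQ_apply, Submodule.mapQ_apply,
    LinearMap.id_apply, LinearMap.id_apply, Submodule.Quotient.mk_sub, sub_eq_add_neg]

theorem fInf_injective : Function.Injective (fInf I J) := by
  rw [injective_iff_map_eq_zero]
  intro a ha
  obtain ⟨x, rfl⟩ := Submodule.Quotient.mk_surjective _ a
  rw [fInf_mk, Prod.mk_eq_zero, Submodule.Quotient.mk_eq_zero, Submodule.Quotient.mk_eq_zero] at ha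
  rw [Submodule.Quotient.mk_eq_zero]
  exact ⟨ha.1, ha.2⟩

theorem gSup_surjective : Function.Surjective (gSup I J) := by
  intro z
  obtain ⟨z, rfl⟩ := Submodule.Quotient.mk_surjective _ z
  refine ⟨(Submodule.Quotient.mk z, Submodule.Quotient.mk 0), ?_⟩
  rw [gSup_mk, sub_zero]

theorem exact_fInf_gSup : Function.Exact (fInf I J) (gSup I J) := by
  intro y
  obtain ⟨a, b⟩ := y
  obtain ⟨a, rfl⟩ := Submodule.Quotient.mk_surjective _ a
  obtain ⟨b, rfl⟩ := Submodule.Quotient.mk_surjective _ b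
  rw [gSup_mk, Submodule.Quotient.mk_eq_zero]
  constructor
  · intro h
    obtain ⟨i, hi, j, hj, hij⟩ := Submodule.mem_sup.mp h
    refine ⟨Submodule.Quotient.mk (a - i), ?_⟩
    rw [fInf_mk, Prod.mk.injEq]
    constructor
    · rw [Submodule.Quotient.eq]
      have : a - i - a = -i := by ring
      rw [this]
      exact I.neg_mem hi
    · rw [Submodule.Quotient.eq]
      have : a - i - b = j := by
        have h0 : a - i - b = (a - b) - i := by ring
        rw [h0, ← hij]
        ring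
      rw [this]
      exact hj
  · rintro ⟨x, hx⟩
    obtain ⟨x, rfl⟩ := Submodule.Quotient.mk_surjective _ x
    rw [fInf_mk, Prod.mk.injEq, Submodule.Quotient.eq, Submodule.Quotient.eq] at hx
    have : a - b = -(x - a) + (x - b) := by ring
    rw [this]
    exact Ideal.add_mem _ (Ideal.mem_sup_left (I.neg_mem hx.1)) (Ideal.mem_sup_right hx.2)

end SES

variable [IsNoetherianRing R]

/-- depth of a product -/
theorem min_le_idealDepth_prod (m : Ideal R) (A B : Type u) [AddCommGroup A] [Module R A]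
    [AddCommGroup B] [Module R B] [Module.Finite R A] [Module.Finite R B] :
    min (LocCoh.idealDepth m A) (LocCoh.idealDepth m B) ≤ LocCoh.idealDepth m (A × B) :=
  min_idealDepth_le_mid m (LinearMap.inl R A B) (LinearMap.snd R A B) LinearMap.inl_injective
    LinearMap.snd_surjective .inl_snd

/-- the union lemma: depths of `R/I`, `R/J ≥ e` and of `R/(I+J) ≥ e - 1` give depth of
`R/(I ∩ J) ≥ e`. -/
theorem le_idealDepth_inf (m I J : Ideal R) (e : ℕ)
    (hI : (e : ℕ∞) ≤ LocCoh.idealDepth m (R ⧸ I)) (hJ : (e : ℕ∞) ≤ LocCoh.idealDepth m (R ⧸ J))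
    (hIJ : ((e - 1 : ℕ) : ℕ∞) ≤ LocCoh.idealDepth m (R ⧸ (I ⊔ J))) :
    (e : ℕ∞) ≤ LocCoh.idealDepth m (R ⧸ (I ⊓ J)) := by
  have h1 := min_idealDepth_le_left m (fInf I J) (gSup I J) (fInf_injective I J)
    (gSup_surjective I J) (exact_fInf_gSup I J)
  refine le_trans ?_ h1
  rw [le_min_iff]
  constructor
  · exact le_trans (le_min hI hJ) (min_le_idealDepth_prod m _ _)
  · have h2 : (e : ℕ∞) ≤ ((e - 1 : ℕ) : ℕ∞) + 1 := by
      have : e ≤ (e - 1) + 1 := by omega
      exact_mod_cast this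
    exact le_trans h2 (add_le_add_left hIJ 1)

section Regular

open Pointwise

/-- `(R/I)/x(R/I) ≃ R/(I + (x))` -/
noncomputable def quotSMulTopEquiv (I : Ideal R) (x : R) :
    QuotSMulTop x (R ⧸ I) ≃ₗ[R] R ⧸ (I ⊔ Ideal.span {x}) := by
  have h : (x • (⊤ : Submodule R (R ⧸ I))) =
      Submodule.map (Submodule.mkQ I) (Ideal.span {x} : Submodule R R) := by
    ext y
    rw [Submodule.mem_smul_pointwise_iff_exists, Submodule.mem_map]
    constructor
    · rintro ⟨z, -, rfl⟩
      obtain ⟨z, rfl⟩ := Submodule.Quotient.mk_surjective _ z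
      refine ⟨z * x, Ideal.mul_mem_left _ _ (Ideal.subset_span rfl), ?_⟩
      rw [Submodule.mkQ_apply, mul_comm]
      rfl
    · rintro ⟨r, hr, rfl⟩
      obtain ⟨a, rfl⟩ := Ideal.mem_span_singleton'.mp hr
      refine ⟨Submodule.Quotient.mk a, trivial, ?_⟩
      rw [Submodule.mkQ_apply, mul_comm]
      rfl
  exact (Submodule.quotEquivOfEq _ _ h).trans
    (Submodule.quotientQuotientEquivQuotientSup I (Ideal.span {x}))

/-- the regular element lemma -/
theorem le_idealDepth_of_regular (m I : Ideal R) (x : R) (hx : x ∈ m)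
    (hreg : IsSMulRegular (R ⧸ I) x) (e : ℕ)
    (h : (e : ℕ∞) ≤ LocCoh.idealDepth m (R ⧸ (I ⊔ Ideal.span {x}))) :
    ((e + 1 : ℕ) : ℕ∞) ≤ LocCoh.idealDepth m (R ⧸ I) := by
  by_cases hIM : m • (⊤ : Submodule R (R ⧸ I)) = ⊤
  · rw [idealDepth_eq_top_of_smul_top_eq_top m _ hIM]
    exact le_top
  · rw [← idealDepth_quotSMulTop_add_one m (R ⧸ I) hIM x hx hreg,
      idealDepth_congr (quotSMulTopEquiv I x) m]
    push_cast
    exact add_le_add_left h 1

end Regular

end Groth.Agent.Lib.Helper25.DepthUnion
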