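import Groth.Agent.Lib.Helper25DescGLTb
import Groth.Agent.Lib.Helper25EtNilC

/-!
# Charts for the lifting theorem (helper25)
-/

set_option autoImplicit false
set_option linter.unusedSectionVars false
set_option linter.style.haveILetI false
universe u

namespace Groth.Agent.Lib.Helper25.Desc

open TensorProduct SGA3b Groth.Agent.Lib.Helper25 Groth.Agent.Lib.Helper25.BCB

section QIso

variable {R : Type u} [CommRing R] (I : Ideal R) {P : Type u} [CommRing P] [Algebra R P]
  {Q : Type u} [CommRing Q] [Algebra (R ⧸ I) Q] [Algebra R Q] [IsScalarTower R (R ⧸ I) Q]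
  (θ : P →ₐ[R] Q)

/-- The map `(R/I) ⊗ P → Q` induced by `θ : P → Q`. -/
noncomputable def redLift : (R ⧸ I) ⊗[R] P →ₐ[R ⧸ I] Q :=
  Algebra.TensorProduct.lift (Algebra.ofId (R ⧸ I) Q) θ (fun _ _ => Commute.all _ _)

theorem redLift_one_tmul (p : P) : redLift I θ ((1 : R ⧸ I) ⊗ₜ[R] p) = θ p := by
  rw [redLift, Algebra.TensorProduct.lift_tmul, map_one, one_mul]

theorem redLift_bijective (hsurj : Function.Surjective θ)
    (hker : RingHom.ker θ.toRingHom ≤ I.map (algebraMap R P)) :
    Function.Bijective (redLift I θ) := by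
  constructor
  · rw [injective_iff_map_eq_zero]
    intro z hz
    obtain ⟨p, rfl⟩ := MTGlue.exists_one_tmul_eq I z
    rw [redLift_one_tmul] at hz
    have h1 : p ∈ RingHom.ker (redMap I P).toRingHom := by
      rw [ker_redMap]
      exact hker hz
    exact h1
  · intro q
    obtain ⟨p, rfl⟩ := hsurj q
    exact ⟨(1 : R ⧸ I) ⊗ₜ[R] p, redLift_one_tmul I θ p⟩

/-- The isomorphism `Q ≃ (R/I) ⊗ P`. -/
noncomputable def redEquiv (hsurj : Function.Surjective θ)
    (hker : RingHom.ker θ.toRingHom ≤ I.map (algebraMap R P)) :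
    Q ≃ₐ[R ⧸ I] (R ⧸ I) ⊗[R] P :=
  (AlgEquiv.ofBijective (redLift I θ) (redLift_bijective I θ hsurj hker)).symm

end QIso

section Transport

theorem isDiag_of_algHom (K : Type u) [CommRing K] (A₀ : Type u) [CommRing A₀] [HopfAlgebra K A₀]
    (Q T' : Type u) [CommRing Q] [CommRing T'] [Algebra K Q] [Algebra K T'] (j : Q →ₐ[K] T')
    (h : IsDiag Q (Q ⊗[K] A₀)) : IsDiag T' (T' ⊗[K] A₀) := by
  letI : Algebra Q T' := j.toRingHom.toAlgebra
  haveI : IsScalarTower K Q T' := IsScalarTower.of_algebraMap_eq (fun r => (j.commutes r).symm)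
  exact isDiag_baseChange_of_tower K A₀ Q T' h

end Transport

section ChartNil

open Groth.Agent.Lib.Helper25.EtaleLift Groth.Agent.Lib.Helper25.EtNil

variable {R : Type u} [CommRing R] (I : Ideal R) (hI : ∀ x ∈ I, IsNilpotent x)
  (A₀ : Type u) [CommRing A₀] [HopfAlgebra (R ⧸ I) A₀]

include hI in
/-- A chart of a quasi-isotrivial group over `R/I` (`I` nil) lifts to an étale chart over `R`. -/
theorem chart_nil (f : R)
    (hc : IsQuasiIsotrivialConst (Localization.Away (Ideal.Quotient.mk I f))
      (Localization.Away (Ideal.Quotient.mk I f) ⊗[R ⧸ I] A₀)) :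
    ∃ (P : Type u) (_ : CommRing P) (_ : Algebra R P) (_ : Algebra (Localization.Away f) P),
      IsScalarTower R (Localization.Away f) P ∧ Algebra.Etale (Localization.Away f) P ∧
      Module.FaithfullyFlat (Localization.Away f) P ∧
      IsDiag ((R ⧸ I) ⊗[R] P) (((R ⧸ I) ⊗[R] P) ⊗[R ⧸ I] A₀) := by
  obtain ⟨Rb', _, _, het, hff, hD⟩ := hc
  letI : Algebra (Localization.Away f) (Localization.Away (Ideal.Quotient.mk I f)) :=
    (awayQuot I f).toAlgebra
  haveI : IsScalarTower R (Localization.Away f) (Localization.Away (Ideal.Quotient.mk I f)) := by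
    apply IsScalarTower.of_algebraMap_eq
    intro r
    change _ = awayQuot I f (algebraMap R (Localization.Away f) r)
    rw [awayQuot_algebraMap,
      IsScalarTower.algebraMap_apply R (R ⧸ I) (Localization.Away (Ideal.Quotient.mk I f))]
    rfl
  letI : Algebra R Rb' :=
    ((algebraMap (Localization.Away (Ideal.Quotient.mk I f)) Rb').comp
      (algebraMap R (Localization.Away (Ideal.Quotient.mk I f)))).toAlgebra
  haveI : IsScalarTower R (Localization.Away (Ideal.Quotient.mk I f)) Rb' :=
    IsScalarTower.of_algebraMap_eq (fun _ => rfl)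
  letI : Algebra (R ⧸ I) Rb' :=
    ((algebraMap (Localization.Away (Ideal.Quotient.mk I f)) Rb').comp
      (algebraMap (R ⧸ I) (Localization.Away (Ideal.Quotient.mk I f)))).toAlgebra
  haveI : IsScalarTower (R ⧸ I) (Localization.Away (Ideal.Quotient.mk I f)) Rb' :=
    IsScalarTower.of_algebraMap_eq (fun _ => rfl)
  haveI : IsScalarTower R (R ⧸ I) Rb' := by
    apply IsScalarTower.of_algebraMap_eq
    intro r
    change algebraMap (Localization.Away (Ideal.Quotient.mk I f)) Rb'
        (algebraMap R (Localization.Away (Ideal.Quotient.mk I f)) r) =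
      algebraMap (Localization.Away (Ideal.Quotient.mk I f)) Rb'
        (algebraMap (R ⧸ I) (Localization.Away (Ideal.Quotient.mk I f)) (algebraMap R (R ⧸ I) r))
    rw [← IsScalarTower.algebraMap_apply R (R ⧸ I) (Localization.Away (Ideal.Quotient.mk I f))]
  have hD1 : IsDiag Rb' (Rb' ⊗[R ⧸ I] A₀) :=
    isDiag_of_equiv
      (cancelBC (R ⧸ I) (Localization.Away (Ideal.Quotient.mk I f)) Rb' A₀).symm hD
  haveI := het
  letI : Algebra (Localization.Away f) Rb' :=
    ((algebraMap (Localization.Away (Ideal.Quotient.mk I f)) Rb').comp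
      (algebraMap (Localization.Away f) (Localization.Away (Ideal.Quotient.mk I f)))).toAlgebra
  haveI : IsScalarTower (Localization.Away f) (Localization.Away (Ideal.Quotient.mk I f)) Rb' :=
    IsScalarTower.of_algebraMap_eq (fun _ => rfl)
  haveI : IsScalarTower R (Localization.Away f) Rb' := by
    apply IsScalarTower.of_algebraMap_eq
    intro r
    change algebraMap (Localization.Away (Ideal.Quotient.mk I f)) Rb'
        (algebraMap R (Localization.Away (Ideal.Quotient.mk I f)) r) =
      algebraMap (Localization.Away (Ideal.Quotient.mk I f)) Rb'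
        (algebraMap (Localization.Away f) (Localization.Away (Ideal.Quotient.mk I f))
          (algebraMap R (Localization.Away f) r))
    rw [← IsScalarTower.algebraMap_apply R (Localization.Away f)
      (Localization.Away (Ideal.Quotient.mk I f))]
  obtain ⟨B', _, _, θ, het', hsurj, hker⟩ :=
    exists_etale_lift (B := Localization.Away f)
      (Bb := Localization.Away (Ideal.Quotient.mk I f)) (awayQuot_surjective I f) Rb'
  letI : Algebra R B' :=
    ((algebraMap (Localization.Away f) B').comp (algebraMap R (Localization.Away f))).toAlgebra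
  haveI : IsScalarTower R (Localization.Away f) B' := IsScalarTower.of_algebraMap_eq (fun _ => rfl)
  haveI := het'
  have hff' : Module.FaithfullyFlat (Localization.Away f) B' :=
    faithfullyFlat_of_surjective_nil (B := Localization.Away f)
      (Bb := Localization.Away (Ideal.Quotient.mk I f)) (awayQuot_surjective I f)
      (nil_ker_awayQuot I hI f) B' Rb' θ.toRingHom (fun b => by
        change θ (algebraMap (Localization.Away f) B' b) = _
        rw [AlgHom.commutes, IsScalarTower.algebraMap_apply (Localization.Away f)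
          (Localization.Away (Ideal.Quotient.mk I f)) Rb'])
  have hker' : RingHom.ker (θ.restrictScalars R).toRingHom ≤ I.map (algebraMap R B') := by
    intro x hx
    have h1 := hker hx
    have h2 : Ideal.map (algebraMap (Localization.Away f) B')
        (RingHom.ker (algebraMap (Localization.Away f)
          (Localization.Away (Ideal.Quotient.mk I f)))) ≤ I.map (algebraMap R B') := by
      rw [IsScalarTower.algebraMap_eq R (Localization.Away f) B', ← Ideal.map_map]
      exact Ideal.map_mono (ker_awayQuot_le I f)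
    exact h2 h1
  refine ⟨B', inferInstance, inferInstance, inferInstance, inferInstance, het', hff', ?_⟩
  exact isDiag_of_algHom (R ⧸ I) A₀ Rb' ((R ⧸ I) ⊗[R] B')
    (redEquiv I (θ.restrictScalars R) hsurj hker').toAlgHom hD1

end ChartNil

end Groth.Agent.Lib.Helper25.Desc
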