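import Groth.Agent.Lib.Helper25DescGL
import Mathlib.RingTheory.TensorProduct.MonoidAlgebra
import Mathlib.LinearAlgebra.TensorProduct.Pi

/-!
# Descent data for twisted forms of group algebras (helper25)

`Datum R`: a finite family of flat `R`-algebras `P i`, jointly faithfully flat, commutative groups
`M i`, and a descent datum between the group algebras `P i [M i]` in "functor of points" form:
for every `R`-algebra `T` and points `a : P i → T`, `b : P j → T` a bialgebra map
`Ψ i j T a b : T[M j] → T[M i]`, natural in `T`, with `Ψ i i T a a = id` and the cocycle condition.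

`Datum.A`: the descended algebra (the equalizer inside `∏ i, P i [M i]`);
`Datum.c k : A → P k [M k]`, `Datum.β k : P k ⊗ A → P k [M k]`.
-/

set_option autoImplicit false
set_option linter.unusedSectionVars false
set_option linter.style.haveILetI false
universe u

namespace Groth.Agent.Lib.Helper25.Desc

open TensorProduct Groth.Agent.Lib.Helper25 DescGL

/-- A descent datum for a twisted form of group algebras. -/
structure Datum (R : Type u) [CommRing R] where
  ι : Type u
  [fin : Fintype ι]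
  [dec : DecidableEq ι]
  P : ι → Type u
  [cr : ∀ i, CommRing (P i)]
  [alg : ∀ i, Algebra R (P i)]
  M : ι → Type u
  [grp : ∀ i, CommGroup (M i)]
  flat : ∀ i, Module.Flat R (P i)
  ff : Module.FaithfullyFlat R (∀ i, P i)
  Ψ : ∀ (i j : ι) (T : Type u) [CommRing T] [Algebra R T] (_ : P i →ₐ[R] T) (_ : P j →ₐ[R] T),
    MonoidAlgebra T (M j) →ₐc[T] MonoidAlgebra T (M i)
  nat : ∀ (i j : ι) (T T' : Type u) [CommRing T] [Algebra R T] [CommRing T'] [Algebra R T']
    (f : T →ₐ[R] T') (a : P i →ₐ[R] T) (b : P j →ₐ[R] T),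
    bcHom f.toRingHom (Ψ i j T a b) = Ψ i j T' (f.comp a) (f.comp b)
  id : ∀ (i : ι) (T : Type u) [CommRing T] [Algebra R T] (a : P i →ₐ[R] T),
    Ψ i i T a a = BialgHom.id T (MonoidAlgebra T (M i))
  cocycle : ∀ (i j k : ι) (T : Type u) [CommRing T] [Algebra R T] (a : P i →ₐ[R] T)
    (b : P j →ₐ[R] T) (c : P k →ₐ[R] T),
    (Ψ i j T a b).comp (Ψ j k T b c) = Ψ i k T a c

attribute [instance] Datum.fin Datum.dec Datum.cr Datum.alg Datum.grp

namespace Datum

variable {R : Type u} [CommRing R] (D : Datum R)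

/-- The local models `P i [M i]`. -/
abbrev N (i : D.ι) : Type u := MonoidAlgebra (D.P i) (D.M i)

/-- Naturality on elements. -/
theorem nat_apply (i j : D.ι) (T T' : Type u) [CommRing T] [Algebra R T] [CommRing T']
    [Algebra R T'] (f : T →ₐ[R] T') (a : D.P i →ₐ[R] T) (b : D.P j →ₐ[R] T)
    (x : MonoidAlgebra T (D.M j)) :
    MonoidAlgebra.mapRingHom (D.M i) f.toRingHom (D.Ψ i j T a b x) =
      D.Ψ i j T' (f.comp a) (f.comp b) (MonoidAlgebra.mapRingHom (D.M j) f.toRingHom x) := by
  rw [← D.nat, bcHom_mapRingHom]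

theorem Ψ_comp_apply (i j k : D.ι) (T : Type u) [CommRing T] [Algebra R T] (a : D.P i →ₐ[R] T)
    (b : D.P j →ₐ[R] T) (c : D.P k →ₐ[R] T) (x : MonoidAlgebra T (D.M k)) :
    D.Ψ i j T a b (D.Ψ j k T b c x) = D.Ψ i k T a c x := by
  rw [← D.cocycle i j k T a b c]
  rfl

theorem Ψ_id_apply (i : D.ι) (T : Type u) [CommRing T] [Algebra R T] (a : D.P i →ₐ[R] T)
    (x : MonoidAlgebra T (D.M i)) : D.Ψ i i T a a x = x := by
  rw [D.id]
  rfl

/-- The two restriction maps to the double overlaps. -/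
noncomputable def resL (i j : D.ι) : D.N i →ₐ[R] MonoidAlgebra (D.P i ⊗[R] D.P j) (D.M i) :=
  MonoidAlgebra.mapAlgHom (D.M i)
    (Algebra.TensorProduct.includeLeft : D.P i →ₐ[R] D.P i ⊗[R] D.P j)

noncomputable def resR (i j : D.ι) : D.N j →ₐ[R] MonoidAlgebra (D.P i ⊗[R] D.P j) (D.M i) :=
  ((D.Ψ i j (D.P i ⊗[R] D.P j) Algebra.TensorProduct.includeLeft
      Algebra.TensorProduct.includeRight).toAlgHom.restrictScalars R).comp
    (MonoidAlgebra.mapAlgHom (D.M j)
      (Algebra.TensorProduct.includeRight : D.P j →ₐ[R] D.P i ⊗[R] D.P j))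

theorem resL_apply (i j : D.ι) (x : D.N i) :
    D.resL i j x = MonoidAlgebra.mapRingHom (D.M i)
      (Algebra.TensorProduct.includeLeft : D.P i →ₐ[R] D.P i ⊗[R] D.P j).toRingHom x := rfl

theorem resR_apply (i j : D.ι) (x : D.N j) :
    D.resR i j x = D.Ψ i j (D.P i ⊗[R] D.P j) Algebra.TensorProduct.includeLeft
      Algebra.TensorProduct.includeRight (MonoidAlgebra.mapRingHom (D.M j)
        (Algebra.TensorProduct.includeRight : D.P j →ₐ[R] D.P i ⊗[R] D.P j).toRingHom x) := rfl

/-- The descended algebra. -/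
noncomputable def A : Subalgebra R (∀ i, D.N i) where
  carrier := {n | ∀ i j, D.resR i j (n j) = D.resL i j (n i)}
  mul_mem' := by
    intro x y hx hy i j
    rw [Pi.mul_apply, Pi.mul_apply, map_mul, map_mul, hx i j, hy i j]
  one_mem' := by
    intro i j
    rw [Pi.one_apply, Pi.one_apply, map_one, map_one]
  add_mem' := by
    intro x y hx hy i j
    rw [Pi.add_apply, Pi.add_apply, map_add, map_add, hx i j, hy i j]
  zero_mem' := by
    intro i j
    rw [Pi.zero_apply, Pi.zero_apply, map_zero, map_zero]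
  algebraMap_mem' := by
    intro r i j
    rw [Pi.algebraMap_apply, Pi.algebraMap_apply, AlgHom.commutes, AlgHom.commutes]

theorem mem_A_iff (n : ∀ i, D.N i) : n ∈ D.A ↔ ∀ i j, D.resR i j (n j) = D.resL i j (n i) :=
  Iff.rfl

/-- The projections `A → P k [M k]`. -/
noncomputable def c (k : D.ι) : D.A →ₐ[R] D.N k :=
  (Pi.evalAlgHom R (fun i => D.N i) k).comp D.A.val

theorem c_apply (k : D.ι) (a : D.A) : D.c k a = (a : ∀ i, D.N i) k := rfl

/-- The comparison map `P k ⊗ A → P k [M k]`. -/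
noncomputable def β (k : D.ι) : D.P k ⊗[R] D.A →ₐ[D.P k] D.N k :=
  Algebra.TensorProduct.lift (Algebra.ofId (D.P k) (D.N k)) (D.c k) (fun _ _ => Commute.all _ _)

theorem β_tmul (k : D.ι) (p : D.P k) (a : D.A) : D.β k (p ⊗ₜ[R] a) = p • D.c k a := by
  rw [β, Algebra.TensorProduct.lift_tmul, Algebra.ofId_apply, Algebra.smul_def]

end Datum

end Groth.Agent.Lib.Helper25.Desc
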