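import Groth.Agent.Lib.Helper25DescDatumA
import Mathlib.RingTheory.Flat.Basic

set_option autoImplicit false
set_option linter.unusedSectionVars false
set_option linter.style.haveILetI false
universe u

namespace Groth.Agent.Lib.Helper25.Desc

open TensorProduct Groth.Agent.Lib.Helper25 DescGL

section Theta

variable {R : Type u} [CommRing R] (S : Type u) [CommRing S] [Algebra R S]
  {κ : Type u} [Fintype κ] [DecidableEq κ] (Q : κ → Type u) [∀ a, CommRing (Q a)]
  [∀ a, Algebra R (Q a)] (G : κ → Type u) [∀ a, CommGroup (G a)]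

/-- Base change of a finite product of group algebras. -/
noncomputable def theta :
    S ⊗[R] (∀ a, MonoidAlgebra (Q a) (G a)) ≃ₗ[S] ∀ a, MonoidAlgebra (S ⊗[R] Q a) (G a) :=
  (TensorProduct.piRight R S S (fun a => MonoidAlgebra (Q a) (G a))).trans
    (LinearEquiv.piCongrRight fun a =>
      (MonoidAlgebra.rTensorEquivAlgEquiv R S S (Q a) (M := G a)).toLinearEquiv)

theorem theta_tmul (s : S) (n : ∀ a, MonoidAlgebra (Q a) (G a)) (a : κ) :
    theta S Q G (s ⊗ₜ[R] n) a =
      s • MonoidAlgebra.mapRingHom (G a)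
        (Algebra.TensorProduct.includeRight : Q a →ₐ[R] S ⊗[R] Q a).toRingHom (n a) := by
  change MonoidAlgebra.rTensorEquivAlgEquiv R S S (Q a) (s ⊗ₜ[R] n a) = _
  rw [MonoidAlgebra.rTensorEquiv_tmulAlgEquiv]
  rfl

end Theta

section Semi

variable {T T' : Type u} [CommRing T] [CommRing T'] {M : Type u} [CommGroup M]

theorem mapRingHom_smul (φ : T →+* T') (t : T) (x : MonoidAlgebra T M) :
    MonoidAlgebra.mapRingHom M φ (t • x) = φ t • MonoidAlgebra.mapRingHom M φ x := by
  apply MonoidAlgebra.coeff_injective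
  ext m
  simp only [MonoidAlgebra.coeff_mapRingHom, MonoidAlgebra.coeff_smul, Finsupp.smul_apply,
    smul_eq_mul, map_mul]

theorem mapRingHom_comp (φ : T →+* T') {T'' : Type u} [CommRing T''] (ψ : T' →+* T'')
    (x : MonoidAlgebra T M) :
    MonoidAlgebra.mapRingHom M ψ (MonoidAlgebra.mapRingHom M φ x) =
      MonoidAlgebra.mapRingHom M (ψ.comp φ) x := by
  apply MonoidAlgebra.coeff_injective
  ext m
  simp only [MonoidAlgebra.coeff_mapRingHom, RingHom.comp_apply]

theorem mapRingHom_id' (x : MonoidAlgebra T M) :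
    MonoidAlgebra.mapRingHom M (RingHom.id T) x = x := by
  apply MonoidAlgebra.coeff_injective
  ext m
  simp only [MonoidAlgebra.coeff_mapRingHom, RingHom.id_apply]

end Semi

namespace Datum

variable {R : Type u} [CommRing R] (D : Datum R) (k : D.ι)

theorem Ψ_congr (i j : D.ι) (T : Type u) [CommRing T] [Algebra R T] {a a' : D.P i →ₐ[R] T}
    {b b' : D.P j →ₐ[R] T} (ha : a = a') (hb : b = b') : D.Ψ i j T a b = D.Ψ i j T a' b' := by
  rw [ha, hb]

/-- The section `P k [M k] → ∏ i, (P k ⊗ P i)[M i]`. -/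
noncomputable def sect (n : D.N k) : ∀ i, MonoidAlgebra (D.P k ⊗[R] D.P i) (D.M i) := fun i =>
  D.Ψ i k (D.P k ⊗[R] D.P i) Algebra.TensorProduct.includeRight Algebra.TensorProduct.includeLeft
    (MonoidAlgebra.mapRingHom (D.M k)
      (Algebra.TensorProduct.includeLeft : D.P k →ₐ[R] D.P k ⊗[R] D.P i).toRingHom n)

/-- The retraction `∏ i, (P k ⊗ P i)[M i] → P k [M k]`. -/
noncomputable def retr (y : ∀ i, MonoidAlgebra (D.P k ⊗[R] D.P i) (D.M i)) : D.N k :=
  MonoidAlgebra.mapRingHom (D.M k)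
    (Algebra.TensorProduct.lmul' R : D.P k ⊗[R] D.P k →ₐ[R] D.P k).toRingHom (y k)

theorem retr_sect (n : D.N k) : D.retr k (D.sect k n) = n := by
  rw [retr, sect, D.nat_apply, mapRingHom_comp]
  have h1 : (Algebra.TensorProduct.lmul' R : D.P k ⊗[R] D.P k →ₐ[R] D.P k).comp
      (Algebra.TensorProduct.includeRight : D.P k →ₐ[R] D.P k ⊗[R] D.P k) = AlgHom.id R (D.P k) :=
    Algebra.TensorProduct.lmul'_comp_includeRight
  have h2 : (Algebra.TensorProduct.lmul' R : D.P k ⊗[R] D.P k →ₐ[R] D.P k).comp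
      (Algebra.TensorProduct.includeLeft : D.P k →ₐ[R] D.P k ⊗[R] D.P k) = AlgHom.id R (D.P k) :=
    Algebra.TensorProduct.lmul'_comp_includeLeft
  have h3 : ((Algebra.TensorProduct.lmul' R : D.P k ⊗[R] D.P k →ₐ[R] D.P k).toRingHom).comp
      ((Algebra.TensorProduct.includeLeft : D.P k →ₐ[R] D.P k ⊗[R] D.P k).toRingHom) =
      RingHom.id (D.P k) := by
    ext p
    exact congrArg (fun F => F p) h2
  rw [D.Ψ_congr k k (D.P k) h1 h2, h3, D.Ψ_id_apply, mapRingHom_id']

/-- The base-changed difference map. -/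
noncomputable def dS (y : ∀ i, MonoidAlgebra (D.P k ⊗[R] D.P i) (D.M i)) :
    ∀ p : D.ι × D.ι, MonoidAlgebra (D.P k ⊗[R] (D.P p.1 ⊗[R] D.P p.2)) (D.M p.1) := fun p =>
  D.Ψ p.1 p.2 (D.P k ⊗[R] (D.P p.1 ⊗[R] D.P p.2))
      ((Algebra.TensorProduct.includeRight : D.P p.1 ⊗[R] D.P p.2 →ₐ[R] _).comp
        Algebra.TensorProduct.includeLeft)
      ((Algebra.TensorProduct.includeRight : D.P p.1 ⊗[R] D.P p.2 →ₐ[R] _).comp
        Algebra.TensorProduct.includeRight)
      (MonoidAlgebra.mapRingHom (D.M p.2)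
        (Algebra.TensorProduct.map (AlgHom.id R (D.P k))
          (Algebra.TensorProduct.includeRight : D.P p.2 →ₐ[R] D.P p.1 ⊗[R] D.P p.2)).toRingHom
        (y p.2)) -
    MonoidAlgebra.mapRingHom (D.M p.1)
      (Algebra.TensorProduct.map (AlgHom.id R (D.P k))
        (Algebra.TensorProduct.includeLeft : D.P p.1 →ₐ[R] D.P p.1 ⊗[R] D.P p.2)).toRingHom
      (y p.1)

theorem dS_sect (n : D.N k) : D.dS k (D.sect k n) = 0 := by
  funext p
  obtain ⟨i, j⟩ := p
  simp only [dS, sect, Pi.zero_apply]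
  rw [D.nat_apply, D.nat_apply, mapRingHom_comp, mapRingHom_comp]
  have ha : (Algebra.TensorProduct.map (AlgHom.id R (D.P k))
      (Algebra.TensorProduct.includeRight : D.P j →ₐ[R] D.P i ⊗[R] D.P j)).comp
      (Algebra.TensorProduct.includeRight : D.P j →ₐ[R] D.P k ⊗[R] D.P j) =
      (Algebra.TensorProduct.includeRight : D.P i ⊗[R] D.P j →ₐ[R] D.P k ⊗[R] (D.P i ⊗[R] D.P j)).comp
        Algebra.TensorProduct.includeRight := by
    apply AlgHom.ext
    intro p
    simp
  have hb : (Algebra.TensorProduct.map (AlgHom.id R (D.P k))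
      (Algebra.TensorProduct.includeLeft : D.P i →ₐ[R] D.P i ⊗[R] D.P j)).comp
      (Algebra.TensorProduct.includeRight : D.P i →ₐ[R] D.P k ⊗[R] D.P i) =
      (Algebra.TensorProduct.includeRight : D.P i ⊗[R] D.P j →ₐ[R] D.P k ⊗[R] (D.P i ⊗[R] D.P j)).comp
        Algebra.TensorProduct.includeLeft := by
    apply AlgHom.ext
    intro p
    simp
  have hc : (Algebra.TensorProduct.map (AlgHom.id R (D.P k))
      (Algebra.TensorProduct.includeRight : D.P j →ₐ[R] D.P i ⊗[R] D.P j)).comp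
      (Algebra.TensorProduct.includeLeft : D.P k →ₐ[R] D.P k ⊗[R] D.P j) =
      (Algebra.TensorProduct.map (AlgHom.id R (D.P k))
      (Algebra.TensorProduct.includeLeft : D.P i →ₐ[R] D.P i ⊗[R] D.P j)).comp
      (Algebra.TensorProduct.includeLeft : D.P k →ₐ[R] D.P k ⊗[R] D.P i) := by
    apply AlgHom.ext
    intro p
    simp
  have hc' : (Algebra.TensorProduct.map (AlgHom.id R (D.P k))
      (Algebra.TensorProduct.includeRight : D.P j →ₐ[R] D.P i ⊗[R] D.P j)).toRingHom.comp
      (Algebra.TensorProduct.includeLeft : D.P k →ₐ[R] D.P k ⊗[R] D.P j).toRingHom =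
      (Algebra.TensorProduct.map (AlgHom.id R (D.P k))
      (Algebra.TensorProduct.includeLeft : D.P i →ₐ[R] D.P i ⊗[R] D.P j)).toRingHom.comp
      (Algebra.TensorProduct.includeLeft : D.P k →ₐ[R] D.P k ⊗[R] D.P i).toRingHom := by
    ext p
    exact congrArg (fun F => F p) hc
  rw [D.Ψ_congr j k _ ha hc, D.Ψ_comp_apply, D.Ψ_congr i k _ hb rfl, hc', sub_self]

/-- The contraction `P k ⊗ (P i ⊗ P k) → P k ⊗ P i`, multiplying the two `P k` factors. -/
noncomputable def contr (i : D.ι) : D.P k ⊗[R] (D.P i ⊗[R] D.P k) →ₐ[R] D.P k ⊗[R] D.P i :=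
  Algebra.TensorProduct.lift
    (Algebra.TensorProduct.includeLeft : D.P k →ₐ[R] D.P k ⊗[R] D.P i)
    (Algebra.TensorProduct.lift
      (Algebra.TensorProduct.includeRight : D.P i →ₐ[R] D.P k ⊗[R] D.P i)
      (Algebra.TensorProduct.includeLeft : D.P k →ₐ[R] D.P k ⊗[R] D.P i)
      (fun _ _ => Commute.all _ _))
    (fun _ _ => Commute.all _ _)

theorem contr_tmul (i : D.ι) (s : D.P k) (p : D.P i) (s' : D.P k) :
    D.contr k i (s ⊗ₜ[R] (p ⊗ₜ[R] s')) = (s * s') ⊗ₜ[R] p := by
  simp [contr, Algebra.TensorProduct.tmul_mul_tmul]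

theorem sect_retr (y : ∀ i, MonoidAlgebra (D.P k ⊗[R] D.P i) (D.M i)) (hy : D.dS k y = 0) :
    D.sect k (D.retr k y) = y := by
  funext i
  have h1 := congrFun hy (i, k)
  simp only [dS, Pi.zero_apply, sub_eq_zero] at h1
  have h2 := congrArg (MonoidAlgebra.mapRingHom (D.M i) (D.contr k i).toRingHom) h1
  rw [D.nat_apply, mapRingHom_comp, mapRingHom_comp] at h2
  have ha : (D.contr k i).comp
      ((Algebra.TensorProduct.includeRight :
        D.P i ⊗[R] D.P k →ₐ[R] D.P k ⊗[R] (D.P i ⊗[R] D.P k)).comp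
        Algebra.TensorProduct.includeLeft) =
      (Algebra.TensorProduct.includeRight : D.P i →ₐ[R] D.P k ⊗[R] D.P i) := by
    apply AlgHom.ext
    intro p
    change D.contr k i ((1 : D.P k) ⊗ₜ[R] (p ⊗ₜ[R] (1 : D.P k))) = _
    rw [contr_tmul, mul_one]
    rfl
  have hb : (D.contr k i).comp
      ((Algebra.TensorProduct.includeRight :
        D.P i ⊗[R] D.P k →ₐ[R] D.P k ⊗[R] (D.P i ⊗[R] D.P k)).comp
        Algebra.TensorProduct.includeRight) =
      (Algebra.TensorProduct.includeLeft : D.P k →ₐ[R] D.P k ⊗[R] D.P i) := by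
    apply AlgHom.ext
    intro s
    change D.contr k i ((1 : D.P k) ⊗ₜ[R] ((1 : D.P i) ⊗ₜ[R] s)) = _
    rw [contr_tmul, one_mul]
    rfl
  have hc : (D.contr k i).toRingHom.comp
      (Algebra.TensorProduct.map (AlgHom.id R (D.P k))
        (Algebra.TensorProduct.includeRight : D.P k →ₐ[R] D.P i ⊗[R] D.P k)).toRingHom =
      (Algebra.TensorProduct.includeLeft : D.P k →ₐ[R] D.P k ⊗[R] D.P i).toRingHom.comp
        (Algebra.TensorProduct.lmul' R : D.P k ⊗[R] D.P k →ₐ[R] D.P k).toRingHom := by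
    have : (D.contr k i).comp
        (Algebra.TensorProduct.map (AlgHom.id R (D.P k))
          (Algebra.TensorProduct.includeRight : D.P k →ₐ[R] D.P i ⊗[R] D.P k)) =
        (Algebra.TensorProduct.includeLeft : D.P k →ₐ[R] D.P k ⊗[R] D.P i).comp
          (Algebra.TensorProduct.lmul' R : D.P k ⊗[R] D.P k →ₐ[R] D.P k) := by
      apply Algebra.TensorProduct.ext'
      intro s s'
      change D.contr k i (Algebra.TensorProduct.map (AlgHom.id R (D.P k))
        (Algebra.TensorProduct.includeRight : D.P k →ₐ[R] D.P i ⊗[R] D.P k) (s ⊗ₜ[R] s')) =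
        (Algebra.TensorProduct.lmul' R (s ⊗ₜ[R] s')) ⊗ₜ[R] (1 : D.P i)
      rw [Algebra.TensorProduct.map_tmul, Algebra.TensorProduct.lmul'_apply_tmul]
      change D.contr k i (s ⊗ₜ[R] ((1 : D.P i) ⊗ₜ[R] s')) = _
      rw [contr_tmul]
    exact RingHom.ext fun x => congrArg (fun F => F x) this
  have hd : (D.contr k i).toRingHom.comp
      (Algebra.TensorProduct.map (AlgHom.id R (D.P k))
        (Algebra.TensorProduct.includeLeft : D.P i →ₐ[R] D.P i ⊗[R] D.P k)).toRingHom =
      RingHom.id (D.P k ⊗[R] D.P i) := by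
    have : (D.contr k i).comp
        (Algebra.TensorProduct.map (AlgHom.id R (D.P k))
          (Algebra.TensorProduct.includeLeft : D.P i →ₐ[R] D.P i ⊗[R] D.P k)) =
        AlgHom.id R (D.P k ⊗[R] D.P i) := by
      apply Algebra.TensorProduct.ext'
      intro s p
      change D.contr k i (Algebra.TensorProduct.map (AlgHom.id R (D.P k))
        (Algebra.TensorProduct.includeLeft : D.P i →ₐ[R] D.P i ⊗[R] D.P k) (s ⊗ₜ[R] p)) =
        s ⊗ₜ[R] p
      rw [Algebra.TensorProduct.map_tmul]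
      change D.contr k i (s ⊗ₜ[R] (p ⊗ₜ[R] (1 : D.P k))) = _
      rw [contr_tmul, mul_one]
    exact RingHom.ext fun x => congrArg (fun F => F x) this
  rw [D.Ψ_congr i k _ ha hb, hc, hd, mapRingHom_id', ← mapRingHom_comp] at h2
  exact h2

end Datum

end Groth.Agent.Lib.Helper25.Desc
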