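import Groth.Agent.Lib.Helper25DescDatumB

set_option autoImplicit false
set_option linter.unusedSectionVars false
set_option linter.style.haveILetI false
universe u

namespace Groth.Agent.Lib.Helper25.Desc

open TensorProduct Groth.Agent.Lib.Helper25 DescGL

section Semi2

variable {S T T' : Type u} [CommRing S] [CommRing T] [CommRing T'] [Algebra S T] [Algebra S T']
  {M : Type u} [CommGroup M]

theorem mapRingHom_smul_algHom (φ : T →ₐ[S] T') (s : S) (x : MonoidAlgebra T M) :
    MonoidAlgebra.mapRingHom M φ.toRingHom (s • x) =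
      s • MonoidAlgebra.mapRingHom M φ.toRingHom x := by
  apply MonoidAlgebra.coeff_injective
  ext m
  simp only [MonoidAlgebra.coeff_mapRingHom, MonoidAlgebra.coeff_smul, Finsupp.smul_apply]
  exact map_smul φ s _

theorem mapRingHom_smul_of_map (φ : T →+* T')
    (hφ : ∀ s : S, φ (algebraMap S T s) = algebraMap S T' s) (s : S) (x : MonoidAlgebra T M) :
    MonoidAlgebra.mapRingHom M φ (s • x) = s • MonoidAlgebra.mapRingHom M φ x := by
  apply MonoidAlgebra.coeff_injective
  ext m
  simp only [MonoidAlgebra.coeff_mapRingHom, MonoidAlgebra.coeff_smul, Finsupp.smul_apply]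
  rw [Algebra.smul_def, map_mul, hφ, ← Algebra.smul_def]

theorem bialgHom_smul_of_algebra {N : Type u} [CommGroup N]
    (Ψ : MonoidAlgebra T N →ₐc[T] MonoidAlgebra T M) (s : S) (x : MonoidAlgebra T N) :
    Ψ (s • x) = s • Ψ x := by
  rw [← algebraMap_smul T s x, map_smul, algebraMap_smul]

end Semi2

namespace Datum

variable {R : Type u} [CommRing R] (D : Datum R) (k : D.ι)

/-- The difference map whose kernel is `A`. -/
noncomputable def d : (∀ i, D.N i) →ₗ[R]
    ∀ p : D.ι × D.ι, MonoidAlgebra (D.P p.1 ⊗[R] D.P p.2) (D.M p.1) :=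
  LinearMap.pi fun p =>
    (D.resR p.1 p.2).toLinearMap ∘ₗ LinearMap.proj p.2 -
      (D.resL p.1 p.2).toLinearMap ∘ₗ LinearMap.proj p.1

theorem d_apply (n : ∀ i, D.N i) (p : D.ι × D.ι) :
    D.d n p = D.resR p.1 p.2 (n p.2) - D.resL p.1 p.2 (n p.1) := rfl

theorem d_eq_zero_iff (n : ∀ i, D.N i) : D.d n = 0 ↔ n ∈ D.A := by
  rw [mem_A_iff]
  constructor
  · intro h i j
    have := congrFun h (i, j)
    rw [d_apply, Pi.zero_apply, sub_eq_zero] at this
    exact this
  · intro h
    funext p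
    rw [d_apply, Pi.zero_apply, sub_eq_zero]
    exact h p.1 p.2

theorem exact_d : Function.Exact D.A.val.toLinearMap D.d := by
  intro n
  rw [d_eq_zero_iff]
  constructor
  · intro h
    exact ⟨⟨n, h⟩, rfl⟩
  · rintro ⟨a, rfl⟩
    exact a.2

/-- `P k ⊗ ∏ N i ≃ ∏ (P k ⊗ P i)[M i]`. -/
noncomputable abbrev thetaB :
    D.P k ⊗[R] (∀ i, D.N i) ≃ₗ[D.P k] ∀ i, MonoidAlgebra (D.P k ⊗[R] D.P i) (D.M i) :=
  theta (D.P k) (fun i => D.P i) (fun i => D.M i)

/-- `P k ⊗ ∏ (P i ⊗ P j)[M i] ≃ ∏ (P k ⊗ (P i ⊗ P j))[M i]`. -/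
noncomputable abbrev thetaC :
    D.P k ⊗[R] (∀ p : D.ι × D.ι, MonoidAlgebra (D.P p.1 ⊗[R] D.P p.2) (D.M p.1)) ≃ₗ[D.P k]
      ∀ p : D.ι × D.ι, MonoidAlgebra (D.P k ⊗[R] (D.P p.1 ⊗[R] D.P p.2)) (D.M p.1) :=
  theta (D.P k) (fun p : D.ι × D.ι => D.P p.1 ⊗[R] D.P p.2) (fun p => D.M p.1)

theorem dS_add (y y' : ∀ i, MonoidAlgebra (D.P k ⊗[R] D.P i) (D.M i)) :
    D.dS k (y + y') = D.dS k y + D.dS k y' := by
  funext p
  simp only [dS, Pi.add_apply, map_add]
  abel

theorem thetaC_d (z : D.P k ⊗[R] (∀ i, D.N i)) :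
    D.thetaC k (D.d.lTensor (D.P k) z) = D.dS k (D.thetaB k z) := by
  induction z using TensorProduct.induction_on with
  | zero =>
    rw [map_zero, map_zero, map_zero]
    funext p
    simp only [dS, Pi.zero_apply, map_zero, sub_zero]
  | add x y hx hy => rw [map_add, map_add, map_add, hx, hy, dS_add]
  | tmul s n =>
    funext p
    obtain ⟨i, j⟩ := p
    rw [LinearMap.lTensor_tmul, thetaC, theta_tmul, d_apply]
    simp only [dS]
    rw [thetaB, theta_tmul, theta_tmul, map_sub, smul_sub, resR_apply, resL_apply]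
    have e1 : ∀ (Q Q' : Type u) [CommRing Q] [CommRing Q'] [Algebra R Q] [Algebra R Q']
        (f : Q →ₐ[R] Q') (G : Type u) [CommGroup G] (x : MonoidAlgebra (D.P k ⊗[R] Q) G),
        MonoidAlgebra.mapRingHom G
          (Algebra.TensorProduct.map (AlgHom.id R (D.P k)) f).toRingHom (s • x) =
        s • MonoidAlgebra.mapRingHom G
          (Algebra.TensorProduct.map (AlgHom.id R (D.P k)) f).toRingHom x := by
      intro Q Q' _ _ _ _ f G _ x
      apply mapRingHom_smul_of_map
      intro s'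
      change Algebra.TensorProduct.map (AlgHom.id R (D.P k)) f (s' ⊗ₜ[R] (1 : Q)) = s' ⊗ₜ[R] (1 : Q')
      rw [Algebra.TensorProduct.map_tmul, map_one]
      rfl
    rw [e1, e1, bialgHom_smul_of_algebra, D.nat_apply, mapRingHom_comp, mapRingHom_comp,
      mapRingHom_comp, mapRingHom_comp]
    rfl

theorem retr_add (y y' : ∀ i, MonoidAlgebra (D.P k ⊗[R] D.P i) (D.M i)) :
    D.retr k (y + y') = D.retr k y + D.retr k y' := by
  simp only [retr, Pi.add_apply, map_add]

theorem retr_zero : D.retr k 0 = 0 := by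
  simp only [retr, Pi.zero_apply, map_zero]

theorem sect_zero : D.sect k 0 = 0 := by
  funext i
  simp only [sect, map_zero, Pi.zero_apply]

theorem β_eq (z : D.P k ⊗[R] D.A) :
    D.β k z = D.retr k (D.thetaB k (D.A.val.toLinearMap.lTensor (D.P k) z)) := by
  induction z using TensorProduct.induction_on with
  | zero => rw [map_zero, map_zero, map_zero, retr_zero]
  | add x y hx hy => rw [map_add, map_add, map_add, retr_add, hx, hy]
  | tmul s a =>
    rw [β_tmul, LinearMap.lTensor_tmul, retr, thetaB, theta_tmul]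
    rw [mapRingHom_smul_of_map (S := D.P k), mapRingHom_comp]
    · have h3 : ((Algebra.TensorProduct.lmul' R : D.P k ⊗[R] D.P k →ₐ[R] D.P k).toRingHom).comp
          ((Algebra.TensorProduct.includeRight : D.P k →ₐ[R] D.P k ⊗[R] D.P k).toRingHom) =
          RingHom.id (D.P k) := by
        apply RingHom.ext
        intro p
        exact congrArg (fun F => F p)
          (Algebra.TensorProduct.lmul'_comp_includeRight (R := R) (S := D.P k))
      rw [h3, mapRingHom_id']
      rfl
    · intro s'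
      change Algebra.TensorProduct.lmul' R (s' ⊗ₜ[R] (1 : D.P k)) = s'
      rw [Algebra.TensorProduct.lmul'_apply_tmul, mul_one]

theorem β_injective : Function.Injective (D.β k) := by
  rw [injective_iff_map_eq_zero]
  intro z hz
  have hflat := D.flat k
  have hinj : Function.Injective (D.A.val.toLinearMap.lTensor (D.P k)) :=
    Module.Flat.lTensor_preserves_injective_linearMap _ Subtype.val_injective
  apply hinj
  rw [map_zero]
  apply (D.thetaB k).injective
  rw [map_zero]
  set y := D.thetaB k (D.A.val.toLinearMap.lTensor (D.P k) z) with hy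
  have hd : D.dS k y = 0 := by
    rw [hy, ← thetaC_d, ← LinearMap.comp_apply, ← LinearMap.lTensor_comp]
    have : D.d ∘ₗ D.A.val.toLinearMap = 0 := D.exact_d.linearMap_comp_eq_zero
    rw [this, LinearMap.lTensor_zero, LinearMap.zero_apply, map_zero]
  rw [← D.sect_retr k y hd, ← β_eq, hz, sect_zero]

theorem β_surjective : Function.Surjective (D.β k) := by
  intro n
  have hflat := D.flat k
  set y := D.sect k n with hy
  set x := (D.thetaB k).symm y with hx
  have h1 : D.d.lTensor (D.P k) x = 0 := by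
    apply (D.thetaC k).injective
    rw [thetaC_d, hx, LinearEquiv.apply_symm_apply, hy, dS_sect, map_zero]
  obtain ⟨z, hz⟩ := (Module.Flat.lTensor_exact (D.P k) D.exact_d x).mp h1
  refine ⟨z, ?_⟩
  rw [β_eq, hz, hx, LinearEquiv.apply_symm_apply, hy, retr_sect]

theorem β_bijective : Function.Bijective (D.β k) := ⟨D.β_injective k, D.β_surjective k⟩

/-- `P k ⊗ A ≃ P k [M k]`. -/
noncomputable def βEquiv : D.P k ⊗[R] D.A ≃ₐ[D.P k] D.N k :=
  AlgEquiv.ofBijective (D.β k) (D.β_bijective k)

theorem βEquiv_apply (z : D.P k ⊗[R] D.A) : D.βEquiv k z = D.β k z := rfl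

end Datum

end Groth.Agent.Lib.Helper25.Desc
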