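import Groth.Agent.Lib.Helper25MTGlueA

/-!
# Base change of bialgebra maps between group algebras along ring maps (helper25)

For a ring map `f : T → T'` and a bialgebra map `Ψ : T[N] → T[M]`, `bcHom f Ψ : T'[N] → T'[M]`
is the bialgebra map sending `n` to the image of the group-like element `Ψ n` under `f`
(coefficientwise).
-/

set_option autoImplicit false
set_option linter.unusedSectionVars false
set_option linter.style.haveILetI false
universe u

namespace Groth.Agent.Lib.Helper25.DescGL

open TensorProduct Groth.Agent.Lib.Helper25 BCB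

section

variable {T T' T'' : Type u} [CommRing T] [CommRing T'] [CommRing T'']
  {N M L : Type u} [CommGroup N] [CommGroup M] [CommGroup L]

theorem isGroupLikeElem_mapRingHom (f : T →+* T') {g : MonoidAlgebra T M}
    (hg : IsGroupLikeElem T g) : IsGroupLikeElem T' (MonoidAlgebra.mapRingHom M f g) := by
  letI : Algebra T T' := f.toAlgebra
  have h1 := MTGlue.steBialg_one_tmul T T' (M := M) g
  have h2 : IsGroupLikeElem T' ((1 : T') ⊗ₜ[T] g) := LocRigid.isGroupLikeElem_one_tmul' hg
  have h3 := h2.map (steBialg T T' M)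
  rw [h1] at h3
  exact h3

theorem isGroupLikeElem_single (n : N) : IsGroupLikeElem T (MonoidAlgebra.single n (1 : T)) :=
  MonoidAlgebra.isGroupLikeElem_single_one n

/-- Two algebra maps out of a group algebra agreeing on group elements are equal. -/
theorem algHom_ext_single {X : Type u} [CommRing X] [Algebra T X]
    {φ ψ : MonoidAlgebra T N →ₐ[T] X}
    (h : ∀ n : N, φ (MonoidAlgebra.single n 1) = ψ (MonoidAlgebra.single n 1)) : φ = ψ := by
  apply AlgHom.ext
  intro x
  induction x using MonoidAlgebra.induction_linear with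
  | zero => rw [map_zero, map_zero]
  | add x y hx hy => rw [map_add, map_add, hx, hy]
  | single n t =>
    have : MonoidAlgebra.single n t = t • MonoidAlgebra.single n (1 : T) := by
      rw [MonoidAlgebra.smul_single, smul_eq_mul, mul_one]
    rw [this, map_smul, map_smul, h]

theorem bialgHom_ext_single {X : Type u} [CommRing X] [Bialgebra T X]
    {φ ψ : MonoidAlgebra T N →ₐc[T] X}
    (h : ∀ n : N, φ (MonoidAlgebra.single n 1) = ψ (MonoidAlgebra.single n 1)) : φ = ψ := by
  apply BialgHom.ext
  intro x
  have := algHom_ext_single (φ := (φ : MonoidAlgebra T N →ₐ[T] X))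
    (ψ := (ψ : MonoidAlgebra T N →ₐ[T] X)) h
  exact congrArg (fun F => F x) this

/-- The group-likes defining the base change. -/
noncomputable def glHom (f : T →+* T')
    (Ψ : MonoidAlgebra T N →ₐc[T] MonoidAlgebra T M) :
    N →* GroupLike T' (MonoidAlgebra T' M) where
  toFun n := ⟨MonoidAlgebra.mapRingHom M f (Ψ (MonoidAlgebra.single n 1)),
    isGroupLikeElem_mapRingHom f ((isGroupLikeElem_single n).map Ψ)⟩
  map_one' := by
    apply GroupLike.val_injective
    change MonoidAlgebra.mapRingHom M f (Ψ (MonoidAlgebra.single 1 1)) = 1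
    rw [← MonoidAlgebra.one_def, map_one, map_one]
  map_mul' n n' := by
    apply GroupLike.val_injective
    change MonoidAlgebra.mapRingHom M f (Ψ (MonoidAlgebra.single (n * n') 1)) =
      MonoidAlgebra.mapRingHom M f (Ψ (MonoidAlgebra.single n 1)) *
        MonoidAlgebra.mapRingHom M f (Ψ (MonoidAlgebra.single n' 1))
    rw [← map_mul, ← map_mul, MonoidAlgebra.single_mul_single, mul_one]

/-- Base change of a bialgebra map between group algebras along a ring map. -/
noncomputable def bcHom (f : T →+* T')
    (Ψ : MonoidAlgebra T N →ₐc[T] MonoidAlgebra T M) :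
    MonoidAlgebra T' N →ₐc[T'] MonoidAlgebra T' M :=
  (MonoidAlgebra.liftGroupLikeBialgHom (R := T') (A := MonoidAlgebra T' M)).comp
    (MonoidAlgebra.mapDomainBialgHom T' (glHom f Ψ))

theorem bcHom_single (f : T →+* T') (Ψ : MonoidAlgebra T N →ₐc[T] MonoidAlgebra T M)
    (n : N) (t : T') :
    bcHom f Ψ (MonoidAlgebra.single n t) =
      t • MonoidAlgebra.mapRingHom M f (Ψ (MonoidAlgebra.single n 1)) := by
  rw [bcHom, BialgHom.comp_apply, MonoidAlgebra.mapDomainBialgHom_single,
    MonoidAlgebra.liftGroupLikeBialgHom_apply, MonoidAlgebra.lift_single]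
  rfl

theorem bcHom_mapRingHom (f : T →+* T') (Ψ : MonoidAlgebra T N →ₐc[T] MonoidAlgebra T M)
    (x : MonoidAlgebra T N) :
    bcHom f Ψ (MonoidAlgebra.mapRingHom N f x) = MonoidAlgebra.mapRingHom M f (Ψ x) := by
  induction x using MonoidAlgebra.induction_linear with
  | zero => simp
  | add x y hx hy => rw [map_add, map_add, hx, hy, map_add, map_add]
  | single n t =>
    rw [MonoidAlgebra.mapRingHom_single, bcHom_single]
    have : MonoidAlgebra.single n t = t • MonoidAlgebra.single n (1 : T) := by
      rw [MonoidAlgebra.smul_single, smul_eq_mul, mul_one]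
    rw [this, map_smul]
    apply MonoidAlgebra.coeff_injective
    ext m
    simp only [MonoidAlgebra.coeff_mapRingHom, MonoidAlgebra.coeff_smul, Finsupp.smul_apply,
      smul_eq_mul, map_mul]

theorem bcHom_comp_ringHom (f : T →+* T') (g : T' →+* T'')
    (Ψ : MonoidAlgebra T N →ₐc[T] MonoidAlgebra T M) :
    bcHom g (bcHom f Ψ) = bcHom (g.comp f) Ψ := by
  apply bialgHom_ext_single
  intro n
  rw [bcHom_single, bcHom_single, one_smul, one_smul, bcHom_single, one_smul]
  apply MonoidAlgebra.coeff_injective
  ext m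
  simp only [MonoidAlgebra.coeff_mapRingHom, RingHom.comp_apply]

theorem bcHom_comp (f : T →+* T') (Ψ : MonoidAlgebra T N →ₐc[T] MonoidAlgebra T M)
    (Φ : MonoidAlgebra T M →ₐc[T] MonoidAlgebra T L) :
    bcHom f (Φ.comp Ψ) = (bcHom f Φ).comp (bcHom f Ψ) := by
  apply bialgHom_ext_single
  intro n
  rw [bcHom_single, one_smul, BialgHom.comp_apply, BialgHom.comp_apply, bcHom_single, one_smul,
    bcHom_mapRingHom]

theorem bcHom_id (f : T →+* T') :
    bcHom f (BialgHom.id T (MonoidAlgebra T M)) = BialgHom.id T' (MonoidAlgebra T' M) := by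
  apply bialgHom_ext_single
  intro n
  rw [bcHom_single, one_smul]
  change MonoidAlgebra.mapRingHom M f (MonoidAlgebra.single n 1) = MonoidAlgebra.single n 1
  rw [MonoidAlgebra.mapRingHom_single, map_one]

theorem bcHom_id_ringHom (Ψ : MonoidAlgebra T N →ₐc[T] MonoidAlgebra T M) :
    bcHom (RingHom.id T) Ψ = Ψ := by
  apply bialgHom_ext_single
  intro n
  rw [bcHom_single, one_smul]
  apply MonoidAlgebra.coeff_injective
  ext m
  simp only [MonoidAlgebra.coeff_mapRingHom]
  rfl

theorem bcHom_congr {f g : T →+* T'} (h : f = g)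
    (Ψ : MonoidAlgebra T N →ₐc[T] MonoidAlgebra T M) : bcHom f Ψ = bcHom g Ψ := by rw [h]

end

end Groth.Agent.Lib.Helper25.DescGL
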