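import Groth.Agent.Lib.Helper25NilGL

set_option autoImplicit false
universe u v w

namespace Groth.Agent.Lib.Helper25.NilGL

open TensorProduct Groth.Agent.Lib.Helper25

set_option linter.unusedSectionVars false

section Diag

variable {S : Type u} [CommRing S] {N : Type v} [CommGroup N]

theorem eq_sum_single (a : MonoidAlgebra S N) :
    a = ∑ n ∈ a.coeff.support, MonoidAlgebra.single n (a.coeff n) := by
  conv_lhs => rw [← MonoidAlgebra.sum_coeff_single a]
  rfl

theorem counit_eq_sum (a : MonoidAlgebra S N) :
    CoalgebraStruct.counit (R := S) a = ∑ n ∈ a.coeff.support, a.coeff n := by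
  conv_lhs => rw [eq_sum_single a]
  rw [map_sum]
  refine Finset.sum_congr rfl (fun n _ => ?_)
  rw [MonoidAlgebra.counit_single]
  rfl

theorem mem_smul_top_of_coeff_mem (J : Ideal S) (x : MonoidAlgebra S N)
    (h : ∀ n, x.coeff n ∈ J) : x ∈ J • (⊤ : Submodule S (MonoidAlgebra S N)) := by
  rw [eq_sum_single x]
  refine Submodule.sum_mem _ (fun n _ => ?_)
  have : MonoidAlgebra.single n (x.coeff n) = x.coeff n • MonoidAlgebra.single n (1 : S) := by
    rw [MonoidAlgebra.smul_single, smul_eq_mul, mul_one]
  rw [this]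
  exact Submodule.smul_mem_smul (h n) Submodule.mem_top

theorem coeff_mem_of_mem_smul_top (J : Ideal S) {x : MonoidAlgebra S N}
    (h : x ∈ J • (⊤ : Submodule S (MonoidAlgebra S N))) (n : N) : x.coeff n ∈ J :=
  MRB.functional_mem_of_mem_smul_top (coeffFun S n) J h

/-- Existence of group-like lifts modulo a nil ideal in a group algebra. -/
theorem exists_groupLike_lift_monoidAlgebra (J : Ideal S) (hJ : ∀ x ∈ J, IsNilpotent x)
    (a : MonoidAlgebra S N) (ha : IsGLMod J a) :
    ∃ g : MonoidAlgebra S N, IsGroupLikeElem S g ∧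
      g - a ∈ J • (⊤ : Submodule S (MonoidAlgebra S N)) := by
  classical
  obtain ⟨h1, h2⟩ := ha
  have hmul : ∀ n n' : N, (if n = n' then a.coeff n else 0) - a.coeff n * a.coeff n' ∈ J := by
    intro n n'
    have := MRB.functional_mem_of_mem_smul_top (coeffPair S n n') J h1
    rw [map_sub, coeffPair_comul] at this
    simpa [coeffPair] using this
  set F := a.coeff.support with hF
  let ebar : F → S ⧸ J := fun n => Ideal.Quotient.mk J (a.coeff n)
  have hcoi : CompleteOrthogonalIdempotents ebar := by
    refine ⟨⟨?_, ?_⟩, ?_⟩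
    · intro n
      have := hmul n n
      rw [if_pos rfl] at this
      change Ideal.Quotient.mk J (a.coeff n) * Ideal.Quotient.mk J (a.coeff n) =
        Ideal.Quotient.mk J (a.coeff n)
      rw [← map_mul]
      exact ((Ideal.Quotient.mk_eq_mk_iff_sub_mem _ _).mpr this).symm
    · intro n n' hne
      have := hmul n n'
      rw [if_neg (fun h => hne (Subtype.ext h)), zero_sub] at this
      change Ideal.Quotient.mk J (a.coeff n) * Ideal.Quotient.mk J (a.coeff n') = 0
      rw [← map_mul, Ideal.Quotient.eq_zero_iff_mem]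
      simpa using J.neg_mem this
    · change ∑ n : F, Ideal.Quotient.mk J (a.coeff n) = 1
      rw [← map_sum, ← map_one (Ideal.Quotient.mk J), Ideal.Quotient.mk_eq_mk_iff_sub_mem]
      rw [Finset.sum_coe_sort F (fun n => a.coeff n), ← counit_eq_sum]
      exact h2
  obtain ⟨e', he', hcomp⟩ := CompleteOrthogonalIdempotents.lift_of_isNilpotent_ker
    (Ideal.Quotient.mk J) (by
      intro x hx
      rw [Ideal.mk_ker] at hx
      exact hJ x hx) hcoi (fun n => ⟨a.coeff n, rfl⟩)
  have hcong : ∀ n : F, e' n - a.coeff n ∈ J := by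
    intro n
    rw [← Ideal.Quotient.mk_eq_mk_iff_sub_mem]
    exact congrFun hcomp n
  refine ⟨∑ n : F, MonoidAlgebra.single (n : N) (e' n), ⟨?_, ?_⟩, ?_⟩
  · rw [map_sum]
    have : ∀ n : F, CoalgebraStruct.counit (R := S) (MonoidAlgebra.single (n : N) (e' n)) = e' n := by
      intro n
      rw [MonoidAlgebra.counit_single]
      rfl
    simp only [this]
    exact he'.complete
  · rw [map_sum, TensorProduct.sum_tmul]
    refine Finset.sum_congr rfl (fun n _ => ?_)
    rw [TensorProduct.tmul_sum, MonoidAlgebra.comul_single]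
    rw [Finset.sum_eq_single n]
    · simp only [CommSemiring.comul_apply, TensorProduct.map_tmul, MonoidAlgebra.lsingle_apply]
      have e1 : MonoidAlgebra.single (n : N) (e' n) = e' n • MonoidAlgebra.single (n : N) (1 : S) := by
        rw [MonoidAlgebra.smul_single, smul_eq_mul, mul_one]
      rw [e1, TensorProduct.smul_tmul_smul, (he'.idem n).eq, TensorProduct.tmul_smul]
    · intro n' _ hne
      have e1 : ∀ m : F, MonoidAlgebra.single (m : N) (e' m) =
          e' m • MonoidAlgebra.single (m : N) (1 : S) := by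
        intro m
        rw [MonoidAlgebra.smul_single, smul_eq_mul, mul_one]
      rw [e1 n, e1 n', TensorProduct.smul_tmul_smul, he'.ortho (Ne.symm hne), zero_smul]
    · intro h
      exact absurd (Finset.mem_univ n) h
  · apply mem_smul_top_of_coeff_mem
    intro m
    rw [MonoidAlgebra.coeff_sub, Finsupp.sub_apply, MonoidAlgebra.coeff_sum, Finsupp.finsetSum_apply]
    simp only [MonoidAlgebra.coeff_single, Finsupp.single_apply]
    by_cases hm : m ∈ F
    · rw [Finset.sum_eq_single (⟨m, hm⟩ : F)]
      · rw [if_pos rfl]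
        exact hcong ⟨m, hm⟩
      · intro n' _ hne
        rw [if_neg]
        intro h
        exact hne (Subtype.ext h)
      · intro h
        exact absurd (Finset.mem_univ _) h
    · rw [Finset.sum_eq_zero]
      · have : a.coeff m = 0 := by
          rw [hF, Finsupp.mem_support_iff, not_not] at hm
          exact hm
        rw [this, sub_zero]
        exact J.zero_mem
      · intro n' _
        rw [if_neg]
        intro h
        exact hm (h ▸ n'.2)

end Diag

section Equiv

variable {R : Type u} [CommRing R] {A : Type v} [CommRing A] [Bialgebra R A]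
  {N : Type w} [CommGroup N]

theorem exists_groupLike_lift_of_equiv (e : A ≃ₐc[R] MonoidAlgebra R N) (J : Ideal R)
    (hJ : ∀ x ∈ J, IsNilpotent x) (a : A) (ha : IsGLMod J a) :
    ∃ g : A, IsGroupLikeElem R g ∧ g - a ∈ J • (⊤ : Submodule R A) := by
  obtain ⟨g, hg, hga⟩ := exists_groupLike_lift_monoidAlgebra J hJ (e a)
    (ha.map (e : A →ₐc[R] MonoidAlgebra R N))
  refine ⟨e.symm g, hg.map e.symm, ?_⟩
  have := MRB.map_mem_smul_top ((e.symm : MonoidAlgebra R N →ₐc[R] A) : MonoidAlgebra R N →ₗ[R] A)
    J hga
  rw [map_sub] at this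
  change e.symm g - e.symm (e a) ∈ _ at this
  rwa [e.symm_apply_apply] at this

end Equiv

end Groth.Agent.Lib.Helper25.NilGL
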