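import Groth.Agent.Lib.Helper25DescGL
import Groth.Agent.Lib.Helper25SubDiag
import Groth.Agent.Lib.Helper25NilGLDiag

/-!
# Lifting bialgebra maps between group algebras along idempotent-lifting surjections (helper25)
-/

set_option autoImplicit false
set_option linter.unusedSectionVars false
set_option linter.style.haveILetI false
universe u

namespace Groth.Agent.Lib.Helper25.DescLift

open TensorProduct Groth.Agent.Lib.Helper25 DescGL

/-- An ideal along which idempotents lift uniquely. -/
def IdemLift {B : Type u} [CommRing B] (J : Ideal B) : Prop :=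
  (∀ b : B, b * b - b ∈ J → ∃ e : B, IsIdempotentElem e ∧ e - b ∈ J) ∧
  (∀ e e' : B, IsIdempotentElem e → IsIdempotentElem e' → e - e' ∈ J → e = e')

theorem idemLift_of_nil {B : Type u} [CommRing B] (J : Ideal B) (hJ : ∀ x ∈ J, IsNilpotent x) :
    IdemLift J := by
  constructor
  · intro b hb
    have hker : ∀ x ∈ RingHom.ker (Ideal.Quotient.mk J), IsNilpotent x := by
      intro x hx
      rw [Ideal.mk_ker] at hx
      exact hJ x hx
    have hid : IsIdempotentElem (Ideal.Quotient.mk J b) := by
      change Ideal.Quotient.mk J b * Ideal.Quotient.mk J b = Ideal.Quotient.mk J b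
      rw [← map_mul, Ideal.Quotient.mk_eq_mk_iff_sub_mem]
      exact hb
    obtain ⟨e, he, hmk⟩ := exists_isIdempotentElem_eq_of_ker_isNilpotent (Ideal.Quotient.mk J)
      hker (Ideal.Quotient.mk J b) ⟨b, rfl⟩ hid
    exact ⟨e, he, (Ideal.Quotient.mk_eq_mk_iff_sub_mem _ _).mp hmk⟩
  · intro e e' he he' h
    exact eq_of_isNilpotent_sub_of_isIdempotentElem he he' (hJ _ h)

theorem idemLift_of_bijOn {B : Type u} [CommRing B] (J : Ideal B)
    (h : Set.BijOn (Ideal.Quotient.mk J) {e : B | IsIdempotentElem e}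
      {e : B ⧸ J | IsIdempotentElem e}) : IdemLift J := by
  constructor
  · intro b hb
    have hid : IsIdempotentElem (Ideal.Quotient.mk J b) := by
      change Ideal.Quotient.mk J b * Ideal.Quotient.mk J b = Ideal.Quotient.mk J b
      rw [← map_mul, Ideal.Quotient.mk_eq_mk_iff_sub_mem]
      exact hb
    obtain ⟨e, he, hmk⟩ := h.surjOn hid
    exact ⟨e, he, (Ideal.Quotient.mk_eq_mk_iff_sub_mem _ _).mp hmk⟩
  · intro e e' he he' hsub
    exact h.injOn he he' ((Ideal.Quotient.mk_eq_mk_iff_sub_mem _ _).mpr hsub)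

section GLike

variable {S : Type u} [CommRing S] {N : Type u} [CommGroup N]

/-- A finite complete system of orthogonal idempotents defines a group-like element. -/
theorem isGroupLikeElem_sum_single (F : Finset N) (e : N → S)
    (hidem : ∀ n ∈ F, e n * e n = e n)
    (horth : ∀ n ∈ F, ∀ n' ∈ F, n ≠ n' → e n * e n' = 0) (hsum : ∑ n ∈ F, e n = 1) :
    IsGroupLikeElem S (∑ n ∈ F, MonoidAlgebra.single n (e n)) := by
  classical
  have e1 : ∀ m : N, MonoidAlgebra.single m (e m) = e m • MonoidAlgebra.single m (1 : S) := by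
    intro m
    rw [MonoidAlgebra.smul_single, smul_eq_mul, mul_one]
  refine ⟨?_, ?_⟩
  · rw [map_sum]
    have : ∀ n ∈ F, CoalgebraStruct.counit (R := S) (MonoidAlgebra.single n (e n)) = e n := by
      intro n _
      rw [MonoidAlgebra.counit_single]
      rfl
    rw [Finset.sum_congr rfl this]
    exact hsum
  · rw [map_sum, TensorProduct.sum_tmul]
    refine Finset.sum_congr rfl (fun n hn => ?_)
    rw [TensorProduct.tmul_sum, MonoidAlgebra.comul_single]
    rw [Finset.sum_eq_single n]
    · simp only [CommSemiring.comul_apply, TensorProduct.map_tmul, MonoidAlgebra.lsingle_apply]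
      rw [e1 n, TensorProduct.smul_tmul_smul, hidem n hn, TensorProduct.tmul_smul]
    · intro n' hn' hne
      rw [e1 n, e1 n', TensorProduct.smul_tmul_smul, horth n hn n' hn' (Ne.symm hne), zero_smul]
    · intro h
      exact absurd hn h

end GLike

section Main

variable {B B₀ : Type u} [CommRing B] [CommRing B₀] (π : B →+* B₀)
  {M N : Type u} [CommGroup M] [CommGroup N]

theorem groupLike_lift_unique (hIL : IdemLift (RingHom.ker π)) {g g' : MonoidAlgebra B M}
    (hg : IsGroupLikeElem B g) (hg' : IsGroupLikeElem B g')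
    (h : MonoidAlgebra.mapRingHom M π g = MonoidAlgebra.mapRingHom M π g') : g = g' := by
  apply MonoidAlgebra.coeff_injective
  ext m
  apply hIL.2 _ _ (SubDiag.isIdempotentElem_coeff hg m) (SubDiag.isIdempotentElem_coeff hg' m)
  rw [RingHom.mem_ker, map_sub, sub_eq_zero]
  have := congrArg (fun x => x.coeff m) h
  simpa only [MonoidAlgebra.coeff_mapRingHom] using this

theorem exists_groupLike_lift (hπ : Function.Surjective π) (hIL : IdemLift (RingHom.ker π))
    {g₀ : MonoidAlgebra B₀ M} (hg₀ : IsGroupLikeElem B₀ g₀) :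
    ∃ g : MonoidAlgebra B M, IsGroupLikeElem B g ∧ MonoidAlgebra.mapRingHom M π g = g₀ := by
  classical
  set F := g₀.coeff.support with hF
  -- lift the coefficients
  have hex : ∀ m : M, ∃ e : B, IsIdempotentElem e ∧ π e = g₀.coeff m := by
    intro m
    obtain ⟨b, hb⟩ := hπ (g₀.coeff m)
    have hbb : b * b - b ∈ RingHom.ker π := by
      rw [RingHom.mem_ker, map_sub, map_mul, hb, (SubDiag.isIdempotentElem_coeff hg₀ m).eq,
        sub_self]
    obtain ⟨e, he, heb⟩ := hIL.1 b hbb
    refine ⟨e, he, ?_⟩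
    rw [RingHom.mem_ker, map_sub, sub_eq_zero] at heb
    rw [heb, hb]
  choose e he hπe using hex
  have horth : ∀ n ∈ F, ∀ n' ∈ F, n ≠ n' → e n * e n' = 0 := by
    intro n _ n' _ hne
    apply hIL.2 _ _ ((he n).mul (he n')) IsIdempotentElem.zero
    rw [RingHom.mem_ker, sub_zero, map_mul, hπe, hπe, SubDiag.coeff_mul_coeff hg₀, if_neg hne]
  have hsumidem : IsIdempotentElem (∑ n ∈ F, e n) := by
    change (∑ n ∈ F, e n) * (∑ n ∈ F, e n) = ∑ n ∈ F, e n
    rw [Finset.sum_mul]
    refine Finset.sum_congr rfl (fun n hn => ?_)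
    rw [Finset.mul_sum, Finset.sum_eq_single n]
    · exact (he n).eq
    · intro n' hn' hne
      exact horth n hn n' hn' (Ne.symm hne)
    · intro h
      exact absurd hn h
  have hsum : ∑ n ∈ F, e n = 1 := by
    apply hIL.2 _ _ hsumidem IsIdempotentElem.one
    rw [RingHom.mem_ker, map_sub, map_sum, map_one, sub_eq_zero]
    simp only [hπe]
    rw [← NilGL.counit_eq_sum]
    exact hg₀.counit_eq_one
  refine ⟨∑ n ∈ F, MonoidAlgebra.single n (e n),
    isGroupLikeElem_sum_single F e (fun n _ => (he n).eq) horth hsum, ?_⟩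
  rw [map_sum]
  simp only [MonoidAlgebra.mapRingHom_single, hπe]
  exact (NilGL.eq_sum_single g₀).symm

theorem bialgHom_lift_unique (hIL : IdemLift (RingHom.ker π))
    (Φ Φ' : MonoidAlgebra B N →ₐc[B] MonoidAlgebra B M) (h : bcHom π Φ = bcHom π Φ') :
    Φ = Φ' := by
  apply bialgHom_ext_single
  intro n
  apply groupLike_lift_unique π hIL ((isGroupLikeElem_single n).map Φ)
    ((isGroupLikeElem_single n).map Φ')
  have h1 := bcHom_single π Φ n 1
  have h2 := bcHom_single π Φ' n 1
  rw [one_smul] at h1 h2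
  rw [← h1, ← h2, h]

theorem exists_bialgHom_lift (hπ : Function.Surjective π) (hIL : IdemLift (RingHom.ker π))
    (Φ₀ : MonoidAlgebra B₀ N →ₐc[B₀] MonoidAlgebra B₀ M) :
    ∃ Φ : MonoidAlgebra B N →ₐc[B] MonoidAlgebra B M, bcHom π Φ = Φ₀ := by
  have hex : ∀ n : N, ∃ g : MonoidAlgebra B M, IsGroupLikeElem B g ∧
      MonoidAlgebra.mapRingHom M π g = Φ₀ (MonoidAlgebra.single n 1) := fun n =>
    exists_groupLike_lift π hπ hIL ((isGroupLikeElem_single n).map Φ₀)
  choose g hg hπg using hex
  let G : N →* GroupLike B (MonoidAlgebra B M) :=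
    { toFun := fun n => ⟨g n, hg n⟩
      map_one' := by
        apply GroupLike.val_injective
        change g 1 = 1
        apply groupLike_lift_unique π hIL (hg 1) IsGroupLikeElem.one
        rw [hπg, ← MonoidAlgebra.one_def, map_one, map_one]
      map_mul' := by
        intro n n'
        apply GroupLike.val_injective
        change g (n * n') = g n * g n'
        apply groupLike_lift_unique π hIL (hg _) ((hg n).mul (hg n'))
        rw [hπg, map_mul, hπg, hπg, ← map_mul, MonoidAlgebra.single_mul_single, mul_one] }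
  refine ⟨(MonoidAlgebra.liftGroupLikeBialgHom (R := B) (A := MonoidAlgebra B M)).comp
    (MonoidAlgebra.mapDomainBialgHom B G), ?_⟩
  apply bialgHom_ext_single
  intro n
  rw [bcHom_single, one_smul, BialgHom.comp_apply, MonoidAlgebra.mapDomainBialgHom_single,
    MonoidAlgebra.liftGroupLikeBialgHom_apply, MonoidAlgebra.lift_single, one_smul]
  exact hπg n

end Main

end Groth.Agent.Lib.Helper25.DescLift
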