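import Groth.Agent.Lib.Helper25DescDatumA

/-!
# Descent data from universal transition maps (helper25)
-/

set_option autoImplicit false
set_option linter.unusedSectionVars false
set_option linter.style.haveILetI false
universe u

namespace Groth.Agent.Lib.Helper25.Desc

open TensorProduct Groth.Agent.Lib.Helper25 DescGL

section Pair

variable {R : Type u} [CommRing R] {X Y T T' : Type u} [CommRing X] [CommRing Y] [CommRing T]
  [CommRing T'] [Algebra R X] [Algebra R Y] [Algebra R T] [Algebra R T']

/-- The map `X ⊗ Y → T` defined by two points. -/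
noncomputable abbrev pair (a : X →ₐ[R] T) (b : Y →ₐ[R] T) : X ⊗[R] Y →ₐ[R] T :=
  Algebra.TensorProduct.lift a b (fun _ _ => Commute.all _ _)

theorem pair_tmul (a : X →ₐ[R] T) (b : Y →ₐ[R] T) (x : X) (y : Y) :
    pair a b (x ⊗ₜ[R] y) = a x * b y := Algebra.TensorProduct.lift_tmul _ _ _ _ _

theorem comp_pair (f : T →ₐ[R] T') (a : X →ₐ[R] T) (b : Y →ₐ[R] T) :
    f.comp (pair a b) = pair (f.comp a) (f.comp b) := by
  apply Algebra.TensorProduct.ext'
  intro x y
  rw [AlgHom.comp_apply, pair_tmul, pair_tmul, map_mul]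
  rfl

theorem toRingHom_comp_pair (f : T →ₐ[R] T') (a : X →ₐ[R] T) (b : Y →ₐ[R] T) :
    f.toRingHom.comp (pair a b).toRingHom = (pair (f.comp a) (f.comp b)).toRingHom :=
  RingHom.ext fun z => congrArg (fun F => F z) (comp_pair f a b)

theorem pair_comp_includeLeft (a : X →ₐ[R] T) (b : Y →ₐ[R] T) :
    (pair a b).comp Algebra.TensorProduct.includeLeft = a :=
  Algebra.TensorProduct.lift_comp_includeLeft _ _ (fun _ _ => Commute.all _ _)

theorem pair_comp_includeRight (a : X →ₐ[R] T) (b : Y →ₐ[R] T) :
    (pair a b).comp Algebra.TensorProduct.includeRight = b :=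
  Algebra.TensorProduct.lift_comp_includeRight _ _ (fun _ _ => Commute.all _ _)

theorem pair_self (a : X →ₐ[R] T) : pair a a = a.comp (Algebra.TensorProduct.lmul' R) := by
  apply Algebra.TensorProduct.ext'
  intro x y
  rw [pair_tmul, AlgHom.comp_apply, Algebra.TensorProduct.lmul'_apply_tmul, map_mul]

end Pair

/-- Universal form of a descent datum: transition maps over the double tensor products. -/
structure UDatum (R : Type u) [CommRing R] where
  ι : Type u
  [fin : Fintype ι]
  [dec : DecidableEq ι]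
  P : ι → Type u
  [cr : ∀ i, CommRing (P i)]
  [alg : ∀ i, Algebra R (P i)]
  M : ι → Type u
  [grp : ∀ i, CommGroup (M i)]
  flat : ∀ i, Module.Flat R (P i)
  ff : Module.FaithfullyFlat R (∀ i, P i)
  U : ∀ i j : ι, MonoidAlgebra (P i ⊗[R] P j) (M j) →ₐc[P i ⊗[R] P j]
    MonoidAlgebra (P i ⊗[R] P j) (M i)
  id : ∀ i : ι, bcHom (Algebra.TensorProduct.lmul' R : P i ⊗[R] P i →ₐ[R] P i).toRingHom (U i i) =
    BialgHom.id (P i) (MonoidAlgebra (P i) (M i))
  cocycle : ∀ i j k : ι,
    (bcHom (pair (Algebra.TensorProduct.includeLeft : P i →ₐ[R] P i ⊗[R] (P j ⊗[R] P k))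
        ((Algebra.TensorProduct.includeRight : P j ⊗[R] P k →ₐ[R] P i ⊗[R] (P j ⊗[R] P k)).comp
          Algebra.TensorProduct.includeLeft)).toRingHom (U i j)).comp
      (bcHom (Algebra.TensorProduct.includeRight :
        P j ⊗[R] P k →ₐ[R] P i ⊗[R] (P j ⊗[R] P k)).toRingHom (U j k)) =
    bcHom (pair (Algebra.TensorProduct.includeLeft : P i →ₐ[R] P i ⊗[R] (P j ⊗[R] P k))
        ((Algebra.TensorProduct.includeRight : P j ⊗[R] P k →ₐ[R] P i ⊗[R] (P j ⊗[R] P k)).comp
          Algebra.TensorProduct.includeRight)).toRingHom (U i k)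

attribute [instance] UDatum.fin UDatum.dec UDatum.cr UDatum.alg UDatum.grp

namespace UDatum

variable {R : Type u} [CommRing R] (E : UDatum R)

/-- The descent datum defined by universal transition maps. -/
@[reducible] noncomputable def toDatum : Datum R where
  ι := E.ι
  P := E.P
  M := E.M
  flat := E.flat
  ff := E.ff
  Ψ i j T _ _ a b := bcHom (pair a b).toRingHom (E.U i j)
  nat i j T T' _ _ _ _ f a b := by
    rw [bcHom_comp_ringHom, toRingHom_comp_pair]
  id i T _ _ a := by
    have h : (pair a a).toRingHom =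
        a.toRingHom.comp (Algebra.TensorProduct.lmul' R : E.P i ⊗[R] E.P i →ₐ[R] E.P i).toRingHom :=
      RingHom.ext fun z => congrArg (fun F => F z) (pair_self a)
    rw [h, ← bcHom_comp_ringHom, E.id, bcHom_id]
  cocycle i j k T _ _ a b c := by
    have h := congrArg (bcHom (pair a (pair b c)).toRingHom) (E.cocycle i j k)
    have e1 : (pair a (pair b c)).toRingHom.comp
        (pair (Algebra.TensorProduct.includeLeft : E.P i →ₐ[R] E.P i ⊗[R] (E.P j ⊗[R] E.P k))
          ((Algebra.TensorProduct.includeRight :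
            E.P j ⊗[R] E.P k →ₐ[R] E.P i ⊗[R] (E.P j ⊗[R] E.P k)).comp
              Algebra.TensorProduct.includeLeft)).toRingHom = (pair a b).toRingHom := by
      rw [toRingHom_comp_pair, pair_comp_includeLeft, ← AlgHom.comp_assoc, pair_comp_includeRight,
        pair_comp_includeLeft]
    have e2 : (pair a (pair b c)).toRingHom.comp
        (Algebra.TensorProduct.includeRight :
          E.P j ⊗[R] E.P k →ₐ[R] E.P i ⊗[R] (E.P j ⊗[R] E.P k)).toRingHom =
        (pair b c).toRingHom :=
      RingHom.ext fun z => congrArg (fun F => F z) (pair_comp_includeRight a (pair b c))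
    have e3 : (pair a (pair b c)).toRingHom.comp
        (pair (Algebra.TensorProduct.includeLeft : E.P i →ₐ[R] E.P i ⊗[R] (E.P j ⊗[R] E.P k))
          ((Algebra.TensorProduct.includeRight :
            E.P j ⊗[R] E.P k →ₐ[R] E.P i ⊗[R] (E.P j ⊗[R] E.P k)).comp
              Algebra.TensorProduct.includeRight)).toRingHom = (pair a c).toRingHom := by
      rw [toRingHom_comp_pair, pair_comp_includeLeft, ← AlgHom.comp_assoc, pair_comp_includeRight,
        pair_comp_includeRight]
    rw [bcHom_comp, bcHom_comp_ringHom, bcHom_comp_ringHom, bcHom_comp_ringHom, e1, e2, e3] at h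
    exact h

theorem toDatum_Ψ (i j : E.ι) (T : Type u) [CommRing T] [Algebra R T] (a : E.P i →ₐ[R] T)
    (b : E.P j →ₐ[R] T) : E.toDatum.Ψ i j T a b = bcHom (pair a b).toRingHom (E.U i j) := rfl

end UDatum

end Groth.Agent.Lib.Helper25.Desc
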