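import Groth.Agent.Lib.Helper25DescUniq
import Groth.Agent.Lib.Helper25DescOfUniv
import Groth.Agent.Lib.Helper25DescLift
import Mathlib.RingTheory.TensorProduct.Quotient

/-!
# Lifting trivialised Hopf algebras along idempotent-lifting ideals (helper25)
-/

set_option autoImplicit false
set_option linter.unusedSectionVars false
set_option linter.style.haveILetI false
universe u

namespace Groth.Agent.Lib.Helper25.Desc

open TensorProduct Groth.Agent.Lib.Helper25 DescGL DescY DescLift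

section Red

variable {R : Type u} [CommRing R] (I : Ideal R) (X : Type u) [CommRing X] [Algebra R X]

/-- The reduction map `X → (R/I) ⊗ X`. -/
noncomputable abbrev redMap : X →ₐ[R] (R ⧸ I) ⊗[R] X := Algebra.TensorProduct.includeRight

theorem redMap_apply (x : X) : redMap I X x = (1 : R ⧸ I) ⊗ₜ[R] x := rfl

theorem redMap_surjective : Function.Surjective (redMap I X) := by
  intro z
  obtain ⟨q, rfl⟩ := (Algebra.TensorProduct.quotIdealMapEquivQuotTensor X I).surjective z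
  obtain ⟨x, rfl⟩ := Ideal.Quotient.mk_surjective q
  exact ⟨x, rfl⟩

theorem ker_redMap : RingHom.ker (redMap I X).toRingHom = I.map (algebraMap R X) := by
  ext x
  rw [RingHom.mem_ker]
  change (1 : R ⧸ I) ⊗ₜ[R] x = 0 ↔ _
  rw [← Algebra.TensorProduct.quotIdealMapEquivQuotTensor_mk X I x,
    EmbeddingLike.map_eq_zero_iff, Ideal.Quotient.eq_zero_iff_mem]

variable {X} {Y Z : Type u} [CommRing Y] [Algebra R Y] [CommRing Z] [Algebra R Z]

/-- Functoriality of the reduction. -/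
noncomputable abbrev redHom (f : X →ₐ[R] Y) : (R ⧸ I) ⊗[R] X →ₐ[R ⧸ I] (R ⧸ I) ⊗[R] Y :=
  Algebra.TensorProduct.map (AlgHom.id (R ⧸ I) (R ⧸ I)) f

theorem redHom_one_tmul (f : X →ₐ[R] Y) (x : X) :
    redHom I f ((1 : R ⧸ I) ⊗ₜ[R] x) = (1 : R ⧸ I) ⊗ₜ[R] f x := by
  rw [Algebra.TensorProduct.map_tmul]
  rfl

theorem redHom_comp_redMap (f : X →ₐ[R] Y) :
    (redHom I f).toRingHom.comp (redMap I X).toRingHom =
      (redMap I Y).toRingHom.comp f.toRingHom := by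
  apply RingHom.ext
  intro x
  exact redHom_one_tmul I f x

/-- `R/I`-algebra maps out of a reduction are determined on the image of `X`. -/
theorem redAlgHom_ext {T₀ : Type u} [CommRing T₀] [Algebra (R ⧸ I) T₀]
    {φ ψ : (R ⧸ I) ⊗[R] X →ₐ[R ⧸ I] T₀}
    (h : ∀ x : X, φ ((1 : R ⧸ I) ⊗ₜ[R] x) = ψ ((1 : R ⧸ I) ⊗ₜ[R] x)) : φ = ψ := by
  apply AlgHom.ext
  intro z
  obtain ⟨x, rfl⟩ := redMap_surjective I X z
  exact h x

theorem redHom_comp (f : X →ₐ[R] Y) (g : Y →ₐ[R] Z) :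
    (redHom I g).comp (redHom I f) = redHom I (g.comp f) := by
  apply redAlgHom_ext
  intro x
  rw [AlgHom.comp_apply, redHom_one_tmul, redHom_one_tmul, redHom_one_tmul]
  rfl

theorem redHom_id : redHom I (AlgHom.id R X) = AlgHom.id (R ⧸ I) ((R ⧸ I) ⊗[R] X) := by
  apply redAlgHom_ext
  intro x
  rw [redHom_one_tmul]
  rfl

end Red

/-- Data for lifting a trivialised Hopf algebra over `R/I` to `R`. -/
structure LiftData (R : Type u) [CommRing R] (I : Ideal R) (A₀ : Type u) [CommRing A₀]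
    [HopfAlgebra (R ⧸ I) A₀] where
  ι : Type u
  [fin : Fintype ι]
  [dec : DecidableEq ι]
  P : ι → Type u
  [cr : ∀ i, CommRing (P i)]
  [alg : ∀ i, Algebra R (P i)]
  M : ι → Type u
  [grp : ∀ i, CommGroup (M i)]
  flat : ∀ i, Module.Flat R (P i)
  ff : Module.FaithfullyFlat R (∀ i, P i)
  ε : ∀ i, ((R ⧸ I) ⊗[R] P i) ⊗[R ⧸ I] A₀ ≃ₐc[(R ⧸ I) ⊗[R] P i]
    MonoidAlgebra ((R ⧸ I) ⊗[R] P i) (M i)
  il1 : ∀ i, IdemLift (I.map (algebraMap R (P i)))
  il2 : ∀ i j, IdemLift (I.map (algebraMap R (P i ⊗[R] P j)))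
  il3 : ∀ i j k, IdemLift (I.map (algebraMap R (P i ⊗[R] (P j ⊗[R] P k))))

attribute [instance] LiftData.fin LiftData.dec LiftData.cr LiftData.alg LiftData.grp

namespace LiftData

variable {R : Type u} [CommRing R] {I : Ideal R} {A₀ : Type u} [CommRing A₀]
  [HopfAlgebra (R ⧸ I) A₀] (L : LiftData R I A₀)

theorem ff_red : Module.FaithfullyFlat (R ⧸ I) (∀ i, (R ⧸ I) ⊗[R] L.P i) := by
  haveI := L.ff
  exact Module.FaithfullyFlat.of_linearEquiv (R := R ⧸ I) (M := (R ⧸ I) ⊗[R] (∀ i, L.P i))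
    (TensorProduct.piRight R (R ⧸ I) (R ⧸ I) (fun i => L.P i)).symm

/-- The trivialised Hopf algebra `A₀` over `R/I`. -/
@[reducible] noncomputable def triv : Triv (R ⧸ I) A₀ where
  ι := L.ι
  Q i := (R ⧸ I) ⊗[R] L.P i
  M := L.M
  flat i := by
    haveI := L.flat i
    infer_instance
  ff := L.ff_red
  ε := L.ε

/-- The reduced points. -/
noncomputable abbrev rpt {i : L.ι} {X : Type u} [CommRing X] [Algebra R X] (a : L.P i →ₐ[R] X) :
    (R ⧸ I) ⊗[R] L.P i →ₐ[R ⧸ I] (R ⧸ I) ⊗[R] X := redHom I a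

/-- The transition maps modulo `I` over the double tensor products. -/
noncomputable def Ψ₀ (i j : L.ι) :
    MonoidAlgebra ((R ⧸ I) ⊗[R] (L.P i ⊗[R] L.P j)) (L.M j) →ₐc[(R ⧸ I) ⊗[R] (L.P i ⊗[R] L.P j)]
      MonoidAlgebra ((R ⧸ I) ⊗[R] (L.P i ⊗[R] L.P j)) (L.M i) :=
  L.triv.trans i j ((R ⧸ I) ⊗[R] (L.P i ⊗[R] L.P j))
    (L.rpt (Algebra.TensorProduct.includeLeft : L.P i →ₐ[R] L.P i ⊗[R] L.P j))
    (L.rpt (Algebra.TensorProduct.includeRight : L.P j →ₐ[R] L.P i ⊗[R] L.P j))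

theorem idemLift_ker (X : Type u) [CommRing X] [Algebra R X]
    (h : IdemLift (I.map (algebraMap R X))) : IdemLift (RingHom.ker (redMap I X).toRingHom) := by
  rw [ker_redMap]
  exact h

theorem exists_U (i j : L.ι) :
    ∃ U : MonoidAlgebra (L.P i ⊗[R] L.P j) (L.M j) →ₐc[L.P i ⊗[R] L.P j]
      MonoidAlgebra (L.P i ⊗[R] L.P j) (L.M i),
      bcHom (redMap I (L.P i ⊗[R] L.P j)).toRingHom U = L.Ψ₀ i j :=
  exists_bialgHom_lift (redMap I (L.P i ⊗[R] L.P j)).toRingHom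
    (redMap_surjective I (L.P i ⊗[R] L.P j)) (idemLift_ker _ (L.il2 i j)) (L.Ψ₀ i j)

/-- The lifted universal transition maps. -/
noncomputable def U (i j : L.ι) : MonoidAlgebra (L.P i ⊗[R] L.P j) (L.M j) →ₐc[L.P i ⊗[R] L.P j]
    MonoidAlgebra (L.P i ⊗[R] L.P j) (L.M i) := Classical.choose (L.exists_U i j)

theorem bcHom_U (i j : L.ι) :
    bcHom (redMap I (L.P i ⊗[R] L.P j)).toRingHom (L.U i j) = L.Ψ₀ i j :=
  Classical.choose_spec (L.exists_U i j)

/-- Comparison of the lifted transition maps with the transition maps of `A₀`, universal form. -/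
theorem bcHom_redMap_pair (i j : L.ι) (X : Type u) [CommRing X] [Algebra R X]
    (a : L.P i →ₐ[R] X) (b : L.P j →ₐ[R] X) :
    bcHom (redMap I X).toRingHom (bcHom (pair a b).toRingHom (L.U i j)) =
      L.triv.trans i j ((R ⧸ I) ⊗[R] X) (L.rpt a) (L.rpt b) := by
  rw [bcHom_comp_ringHom, ← redHom_comp_redMap, ← bcHom_comp_ringHom, bcHom_U, Ψ₀]
  have h := L.triv.datum.nat i j _ _ (redHom I (pair a b))
    (L.rpt (Algebra.TensorProduct.includeLeft : L.P i →ₐ[R] L.P i ⊗[R] L.P j))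
    (L.rpt (Algebra.TensorProduct.includeRight : L.P j →ₐ[R] L.P i ⊗[R] L.P j))
  rw [Triv.datum_Ψ, Triv.datum_Ψ] at h
  rw [h, redHom_comp, redHom_comp, pair_comp_includeLeft, pair_comp_includeRight]

theorem U_id (i : L.ι) :
    bcHom (Algebra.TensorProduct.lmul' R : L.P i ⊗[R] L.P i →ₐ[R] L.P i).toRingHom (L.U i i) =
      BialgHom.id (L.P i) (MonoidAlgebra (L.P i) (L.M i)) := by
  apply bialgHom_lift_unique (redMap I (L.P i)).toRingHom (idemLift_ker _ (L.il1 i))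
  have h1 : (Algebra.TensorProduct.lmul' R : L.P i ⊗[R] L.P i →ₐ[R] L.P i) =
      pair (AlgHom.id R (L.P i)) (AlgHom.id R (L.P i)) := by
    rw [pair_self]
    rfl
  rw [h1, bcHom_redMap_pair, bcHom_id]
  exact L.triv.datum.id i _ (L.rpt (AlgHom.id R (L.P i)))

theorem includeRight_eq_pair (j k : L.ι) (X : Type u) [CommRing X] [Algebra R X] :
    (Algebra.TensorProduct.includeRight : L.P j ⊗[R] L.P k →ₐ[R] X ⊗[R] (L.P j ⊗[R] L.P k)) =
      pair ((Algebra.TensorProduct.includeRight :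
        L.P j ⊗[R] L.P k →ₐ[R] X ⊗[R] (L.P j ⊗[R] L.P k)).comp
          Algebra.TensorProduct.includeLeft)
        ((Algebra.TensorProduct.includeRight :
        L.P j ⊗[R] L.P k →ₐ[R] X ⊗[R] (L.P j ⊗[R] L.P k)).comp
          Algebra.TensorProduct.includeRight) := by
  rw [← comp_pair]
  have : pair (Algebra.TensorProduct.includeLeft : L.P j →ₐ[R] L.P j ⊗[R] L.P k)
      (Algebra.TensorProduct.includeRight : L.P k →ₐ[R] L.P j ⊗[R] L.P k) =
      AlgHom.id R (L.P j ⊗[R] L.P k) := by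
    apply Algebra.TensorProduct.ext'
    intro x y
    rw [pair_tmul]
    change (x ⊗ₜ[R] (1 : L.P k)) * ((1 : L.P j) ⊗ₜ[R] y) = x ⊗ₜ[R] y
    rw [Algebra.TensorProduct.tmul_mul_tmul, mul_one, one_mul]
  rw [this, AlgHom.comp_id]

theorem U_cocycle (i j k : L.ι) :
    (bcHom (pair (Algebra.TensorProduct.includeLeft :
          L.P i →ₐ[R] L.P i ⊗[R] (L.P j ⊗[R] L.P k))
        ((Algebra.TensorProduct.includeRight :
          L.P j ⊗[R] L.P k →ₐ[R] L.P i ⊗[R] (L.P j ⊗[R] L.P k)).comp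
          Algebra.TensorProduct.includeLeft)).toRingHom (L.U i j)).comp
      (bcHom (Algebra.TensorProduct.includeRight :
        L.P j ⊗[R] L.P k →ₐ[R] L.P i ⊗[R] (L.P j ⊗[R] L.P k)).toRingHom (L.U j k)) =
    bcHom (pair (Algebra.TensorProduct.includeLeft :
          L.P i →ₐ[R] L.P i ⊗[R] (L.P j ⊗[R] L.P k))
        ((Algebra.TensorProduct.includeRight :
          L.P j ⊗[R] L.P k →ₐ[R] L.P i ⊗[R] (L.P j ⊗[R] L.P k)).comp
          Algebra.TensorProduct.includeRight)).toRingHom (L.U i k) := by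
  apply bialgHom_lift_unique (redMap I (L.P i ⊗[R] (L.P j ⊗[R] L.P k))).toRingHom
    (idemLift_ker _ (L.il3 i j k))
  have hm := L.bcHom_redMap_pair j k (L.P i ⊗[R] (L.P j ⊗[R] L.P k))
    ((Algebra.TensorProduct.includeRight :
          L.P j ⊗[R] L.P k →ₐ[R] L.P i ⊗[R] (L.P j ⊗[R] L.P k)).comp
          Algebra.TensorProduct.includeLeft)
    ((Algebra.TensorProduct.includeRight :
          L.P j ⊗[R] L.P k →ₐ[R] L.P i ⊗[R] (L.P j ⊗[R] L.P k)).comp
          Algebra.TensorProduct.includeRight)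
  rw [← L.includeRight_eq_pair j k (L.P i)] at hm
  rw [bcHom_comp, bcHom_redMap_pair, hm, bcHom_redMap_pair]
  exact L.triv.datum.cocycle i j k _ _ _ _

/-- The lifted descent datum, universal form. -/
@[reducible] noncomputable def udatum : UDatum R where
  ι := L.ι
  P := L.P
  M := L.M
  flat := L.flat
  ff := L.ff
  U := L.U
  id := L.U_id
  cocycle := L.U_cocycle

/-- The lifted descent datum. -/
@[reducible] noncomputable def datum : Datum R := L.udatum.toDatum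

theorem datum_Ψ (i j : L.ι) (T : Type u) [CommRing T] [Algebra R T] (a : L.P i →ₐ[R] T)
    (b : L.P j →ₐ[R] T) : L.datum.Ψ i j T a b = bcHom (pair a b).toRingHom (L.U i j) := rfl

section CP

variable (T₀ : Type u) [CommRing T₀] [Algebra (R ⧸ I) T₀] [Algebra R T₀]
  [IsScalarTower R (R ⧸ I) T₀]

/-- Restriction of a point of the reduction to a point over `R`. -/
noncomputable abbrev rres {i : L.ι} (a₀ : (R ⧸ I) ⊗[R] L.P i →ₐ[R ⧸ I] T₀) : L.P i →ₐ[R] T₀ :=
  (a₀.restrictScalars R).comp (redMap I (L.P i))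

/-- The multiplication map `(R/I) ⊗ T₀ → T₀`. -/
noncomputable abbrev gmul : (R ⧸ I) ⊗[R] T₀ →ₐ[R ⧸ I] T₀ :=
  Algebra.TensorProduct.lift (Algebra.ofId (R ⧸ I) T₀) (AlgHom.id R T₀)
    (fun _ _ => Commute.all _ _)

theorem gmul_comp_redMap :
    (gmul (I := I) T₀).toRingHom.comp (redMap I T₀).toRingHom = RingHom.id T₀ := by
  apply RingHom.ext
  intro t
  change gmul (I := I) T₀ ((1 : R ⧸ I) ⊗ₜ[R] t) = t
  rw [Algebra.TensorProduct.lift_tmul, map_one, one_mul]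
  rfl

theorem gmul_comp_rpt {i : L.ι} (a₀ : (R ⧸ I) ⊗[R] L.P i →ₐ[R ⧸ I] T₀) :
    (gmul (I := I) T₀).comp (L.rpt (L.rres T₀ a₀)) = a₀ := by
  apply redAlgHom_ext
  intro p
  rw [AlgHom.comp_apply, redHom_one_tmul, Algebra.TensorProduct.lift_tmul, map_one, one_mul]
  rfl

/-- Comparison of the lifted datum with the datum of `A₀` over `R/I`-algebras. -/
theorem datum_Ψ_eq_trans (i j : L.ι) (a₀ : (R ⧸ I) ⊗[R] L.P i →ₐ[R ⧸ I] T₀)
    (b₀ : (R ⧸ I) ⊗[R] L.P j →ₐ[R ⧸ I] T₀) :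
    L.datum.Ψ i j T₀ (L.rres T₀ a₀) (L.rres T₀ b₀) = L.triv.trans i j T₀ a₀ b₀ := by
  rw [datum_Ψ, ← bcHom_id_ringHom (bcHom (pair (L.rres T₀ a₀) (L.rres T₀ b₀)).toRingHom (L.U i j)),
    ← gmul_comp_redMap (I := I) T₀, ← bcHom_comp_ringHom, bcHom_redMap_pair]
  have h := L.triv.datum.nat i j _ _ (gmul (I := I) T₀) (L.rpt (L.rres T₀ a₀))
    (L.rpt (L.rres T₀ b₀))
  rw [Triv.datum_Ψ, Triv.datum_Ψ, gmul_comp_rpt, gmul_comp_rpt] at h
  exact h

end CP

end LiftData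

end Groth.Agent.Lib.Helper25.Desc
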