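import Groth.Agent.Lib.Helper25FamDesc
import Groth.Agent.Lib.Helper25NilGLDiag
import Groth.Agent.Lib.Helper25SubDiag

/-!
# Lifting group-like elements of groups of multiplicative type modulo nil ideals (helper25)

* `DiagFam R A`: a finite jointly faithfully flat family of `R`-algebras diagonalising `A`.
* `nonempty_diagFam`: existence for `HasDiagCover` (in particular for multiplicative type).
* `isGroupLikeElem_of_forall`, `mem_smul_top_of_forall`: reflection along the family.
* `exists_groupLike_lift`: group-like elements modulo a nil ideal lift to group-like elements.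
-/

set_option autoImplicit false
set_option linter.unusedSectionVars false
set_option linter.style.haveILetI false
universe u v w w'

namespace Groth.Agent.Lib.Helper25.NilLift

open TensorProduct Groth.Agent.Lib.Helper25 Groth.Agent.Lib.Helper25.TowerBC
  Groth.Agent.Lib.Helper25.NilGL

section Ring

variable {R : Type u} [CommRing R] (S : Type v) [CommRing S] [Algebra R S]
  (A : Type w) [CommRing A] [Bialgebra R A]

theorem distribBaseChange_one_tmul_eq (z : A ⊗[R] A) :
    AlgebraTensorModule.distribBaseChange R S A A ((1 : S) ⊗ₜ[R] z) = MRB.bcMap2 S A z := by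
  induction z using TensorProduct.induction_on with
  | zero => simp
  | add x y hx hy => rw [TensorProduct.tmul_add, map_add, map_add, hx, hy]
  | tmul a b => rw [MRB.bcMap2_tmul, AlgebraTensorModule.distribBaseChange_tmul]

theorem one_tmul_eq_zero_of_bcMap2_eq_zero (z : A ⊗[R] A) (h : MRB.bcMap2 S A z = 0) :
    (1 : S) ⊗ₜ[R] z = 0 := by
  rw [← distribBaseChange_one_tmul_eq] at h
  exact (AlgebraTensorModule.distribBaseChange R S A A).map_eq_zero_iff.mp h

/-- Base change of a group-like element modulo `K`. -/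
theorem isGLMod_one_tmul {K : Ideal R} {a : A} (ha : IsGLMod K a) :
    IsGLMod (K.map (algebraMap R S)) ((1 : S) ⊗ₜ[R] a) := by
  constructor
  · have h1 := MRB.bcMap2_mem_smul_top S A K ha.1
    rw [map_sub, MRB.bcMap2_tmul, ← MRB.comul_one_tmul] at h1
    exact h1
  · rw [TensorProduct.counit_tmul]
    have h2 : CoalgebraStruct.counit (R := R) a • CoalgebraStruct.counit (R := S) (1 : S) - 1 =
        algebraMap R S (CoalgebraStruct.counit (R := R) a - 1) := by
      rw [CommSemiring.counit_apply, Algebra.smul_def, mul_one, map_sub, map_one]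
    rw [h2]
    exact Ideal.mem_map_of_mem _ ha.2

end Ring

section Mod

variable {R : Type u} [CommRing R] (S : Type v) [CommRing S] [Algebra R S]
  (N : Type w) [AddCommGroup N] [Module R N]

/-- `s ⊗ n ∈ (K S) (S ⊗ N)` for `n ∈ K N`. -/
theorem tmul_mem_map_smul_top (K : Ideal R) (s : S) {n : N}
    (hn : n ∈ K • (⊤ : Submodule R N)) :
    s ⊗ₜ[R] n ∈ (K.map (algebraMap R S)) • (⊤ : Submodule S (S ⊗[R] N)) := by
  refine Submodule.smul_induction_on hn ?_ ?_
  · intro r hr n' _
    have : s ⊗ₜ[R] (r • n') = algebraMap R S r • (s ⊗ₜ[R] n') := by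
      rw [TensorProduct.tmul_smul, algebraMap_smul]
    rw [this]
    exact Submodule.smul_mem_smul (Ideal.mem_map_of_mem _ hr) Submodule.mem_top
  · intro x y hx hy
    rw [TensorProduct.tmul_add]
    exact Submodule.add_mem _ hx hy

/-- Elements of `K S` kill `S ⊗ Q` when `K` kills `Q`. -/
theorem smul_eq_zero_of_mem_map {Q : Type w'} [AddCommGroup Q] [Module R Q] (K : Ideal R)
    (hQ : ∀ r ∈ K, ∀ q : Q, r • q = 0) (j : S) (hj : j ∈ K.map (algebraMap R S))
    (y : S ⊗[R] Q) : j • y = 0 := by
  have hgen : ∀ k ∈ K, ∀ y : S ⊗[R] Q, (algebraMap R S k) • y = 0 := by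
    intro k hk y
    rw [algebraMap_smul]
    induction y using TensorProduct.induction_on with
    | zero => simp
    | add x y hx hy => rw [smul_add, hx, hy, add_zero]
    | tmul t q => rw [← TensorProduct.tmul_smul, hQ k hk q, TensorProduct.tmul_zero]
  unfold Ideal.map at hj
  induction hj using Submodule.span_induction generalizing y with
  | mem r hr =>
    obtain ⟨k, hk, rfl⟩ := hr
    exact hgen k hk y
  | zero => simp
  | add a b _ _ ha hb => rw [add_smul, ha, hb, add_zero]
  | smul c a _ ha => rw [smul_eq_mul, mul_smul, ha, smul_zero]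

/-- A base-changed linear map into a module killed by `K` kills `(K S)(S ⊗ N)`. -/
theorem lTensor_eq_zero_of_mem_smul_top {Q : Type w'} [AddCommGroup Q] [Module R Q] (K : Ideal R)
    (hQ : ∀ r ∈ K, ∀ q : Q, r • q = 0) (θ : N →ₗ[R] Q) {b : S ⊗[R] N}
    (hb : b ∈ (K.map (algebraMap R S)) • (⊤ : Submodule S (S ⊗[R] N))) :
    θ.baseChange S b = 0 := by
  refine Submodule.smul_induction_on hb ?_ ?_
  · intro j hj n _
    rw [map_smul]
    exact smul_eq_zero_of_mem_map S K hQ j hj _
  · intro x y hx hy
    rw [map_add, hx, hy, add_zero]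

theorem smul_quot_eq_zero (K : Ideal R) :
    ∀ r ∈ K, ∀ q : N ⧸ (K • (⊤ : Submodule R N)), r • q = 0 := by
  intro r hr q
  obtain ⟨n, rfl⟩ := Submodule.Quotient.mk_surjective _ q
  rw [← Submodule.Quotient.mk_smul, Submodule.Quotient.mk_eq_zero]
  exact Submodule.smul_mem_smul hr Submodule.mem_top

/-- The kernel of `S ⊗ N → S ⊗ (N / K N)` is `(K S)(S ⊗ N)`. -/
theorem mem_smul_top_of_baseChange_mkQ_eq_zero (K : Ideal R) (b : S ⊗[R] N)
    (hb : (K • (⊤ : Submodule R N)).mkQ.baseChange S b = 0) :
    b ∈ (K.map (algebraMap R S)) • (⊤ : Submodule S (S ⊗[R] N)) := by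
  have hex : Function.Exact ((K • (⊤ : Submodule R N)).subtype.lTensor S)
      ((K • (⊤ : Submodule R N)).mkQ.lTensor S) :=
    lTensor_exact S (LinearMap.exact_subtype_mkQ _) (Submodule.mkQ_surjective _)
  have hb' : (K • (⊤ : Submodule R N)).mkQ.lTensor S b = 0 := hb
  have key : ∀ c : S ⊗[R] ↥(K • (⊤ : Submodule R N)),
      (K • (⊤ : Submodule R N)).subtype.lTensor S c ∈
        (K.map (algebraMap R S)) • (⊤ : Submodule S (S ⊗[R] N)) := by
    intro c
    induction c using TensorProduct.induction_on with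
    | zero => rw [map_zero]; exact Submodule.zero_mem _
    | add x y hx hy =>
      rw [map_add]
      exact Submodule.add_mem _ hx hy
    | tmul s n =>
      rw [LinearMap.lTensor_tmul]
      exact tmul_mem_map_smul_top S N K s n.2
  obtain ⟨c, rfl⟩ := (hex b).mp hb'
  exact key c

end Mod

section Fam

variable (R : Type u) [CommRing R] (A : Type u) [CommRing A] [HopfAlgebra R A]

/-- A finite jointly faithfully flat family of `R`-algebras over which `A` is diagonalisable. -/
structure DiagFam where
  ι : Type u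
  [fin : Fintype ι]
  [dec : DecidableEq ι]
  S : ι → Type u
  [cr : ∀ i, CommRing (S i)]
  [alg : ∀ i, Algebra R (S i)]
  ff : Module.FaithfullyFlat R (∀ i, S i)
  diag : ∀ i, SGA3b.IsDiag (S i) (S i ⊗[R] A)

attribute [instance] DiagFam.fin DiagFam.dec DiagFam.cr DiagFam.alg

variable {R A}

theorem nonempty_diagFam (h : SubDiag.HasDiagCover R A) : Nonempty (DiagFam R A) := by
  classical
  obtain ⟨s, hs, hcov⟩ := h
  obtain ⟨s₀, hs₀sub, hs₀⟩ := (Ideal.span_eq_top_iff_finite s).mp hs
  choose S cr alg algf tower ff diag using fun (i : s₀) => hcov i.1 (hs₀sub i.2)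
  letI := cr
  letI := alg
  letI := algf
  have hflat : ∀ i, Module.Flat R (S i) := fun i => by
    haveI := tower i
    haveI := ff i
    exact Module.Flat.trans R (Localization.Away i.1) (S i)
  have hff : Module.FaithfullyFlat R (∀ i, S i) := by
    haveI := hflat
    apply FamDesc.faithfullyFlat_pi S
    intro m hm
    obtain ⟨i, hi⟩ : ∃ i : s₀, i.1 ∉ m := by
      by_contra hcon
      push Not at hcon
      have : Ideal.span (s₀ : Set R) ≤ m := Ideal.span_le.mpr (fun f hf => hcon ⟨f, hf⟩)
      rw [hs₀] at this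
      exact hm.ne_top (top_le_iff.mp this)
    refine ⟨i, fun htop => ?_⟩
    haveI := tower i
    haveI := ff i
    have hdisj : Disjoint (Submonoid.powers i.1 : Set R) (m : Set R) := by
      rw [Set.disjoint_left]
      rintro x ⟨n, rfl⟩ hx
      exact hi (hm.isPrime.mem_of_pow_mem n hx)
    have hprime := IsLocalization.isPrime_of_isPrime_disjoint (Submonoid.powers i.1)
      (Localization.Away i.1) m hm.isPrime hdisj
    have hne := ((Module.FaithfullyFlat.iff_flat_and_proper_ideal (Localization.Away i.1)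
      (S i)).mp (ff i)).2 _ hprime.ne_top
    apply hne
    rw [eq_top_iff]
    intro x _
    have hx : x ∈ m • (⊤ : Submodule R (S i)) := by rw [htop]; trivial
    refine Submodule.smul_induction_on hx ?_ ?_
    · intro r hr n _
      rw [← algebraMap_smul (Localization.Away i.1) r n]
      exact Submodule.smul_mem_smul (Ideal.mem_map_of_mem _ hr) Submodule.mem_top
    · intro a b ha hb
      exact Submodule.add_mem _ ha hb
  exact ⟨{ ι := s₀, S := S, ff := hff, diag := diag }⟩

end Fam

section Theta

variable {R : Type u} [CommRing R] {S : Type v} [CommRing S] [Algebra R S]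
  {T : Type w} [CommRing T] [Algebra R T] (u : S →ₐ[R] T)
  (A : Type w') [CommRing A] [Bialgebra R A]

theorem thetaMap_eq_rTensor (x : S ⊗[R] A) :
    thetaMap u A x = LinearMap.rTensor A u.toLinearMap x := by
  induction x using TensorProduct.induction_on with
  | zero => simp
  | add x y hx hy => rw [map_add, map_add, hx, hy]
  | tmul s a => rw [thetaMap_tmul, LinearMap.rTensor_tmul]; rfl

theorem thetaMap_mem_smul_top (K : Ideal R) {y : S ⊗[R] A}
    (hy : y ∈ (K.map (algebraMap R S)) • (⊤ : Submodule S (S ⊗[R] A))) :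
    thetaMap u A y ∈ (K.map (algebraMap R T)) • (⊤ : Submodule T (T ⊗[R] A)) := by
  have hmap : K.map (algebraMap R T) = (K.map (algebraMap R S)).map (u : S →+* T) := by
    rw [Ideal.map_map, AlgHom.comp_algebraMap]
  refine Submodule.smul_induction_on hy ?_ ?_
  · intro j hj n _
    rw [thetaMap_smul, hmap]
    exact Submodule.smul_mem_smul (Ideal.mem_map_of_mem _ hj) Submodule.mem_top
  · intro a b ha hb
    rw [map_add]
    exact Submodule.add_mem _ ha hb

end Theta

section Reflect

variable {R : Type u} [CommRing R] {A : Type u} [CommRing A] [HopfAlgebra R A] (D : DiagFam R A)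

theorem isGroupLikeElem_of_forall (g : A)
    (h : ∀ i, IsGroupLikeElem (D.S i) ((1 : D.S i) ⊗ₜ[R] g)) : IsGroupLikeElem R g := by
  haveI := D.ff
  constructor
  · have h0 : CoalgebraStruct.counit (R := R) g - 1 = 0 := by
      apply FamDesc.eq_zero_of_forall_one_tmul (R := R) D.S R
      intro i
      have h1 := (h i).counit_eq_one
      rw [TensorProduct.counit_tmul, CommSemiring.counit_apply, Algebra.smul_def, mul_one] at h1
      have h2 : (1 : D.S i) ⊗ₜ[R] (CoalgebraStruct.counit (R := R) g - 1) =
          (algebraMap R (D.S i) (CoalgebraStruct.counit (R := R) g - 1)) ⊗ₜ[R] (1 : R) := by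
        rw [Algebra.algebraMap_eq_smul_one, TensorProduct.smul_tmul, smul_eq_mul, mul_one]
      rw [h2, map_sub, h1, map_one, sub_self, TensorProduct.zero_tmul]
    exact sub_eq_zero.mp h0
  · have h0 : CoalgebraStruct.comul (R := R) g - g ⊗ₜ[R] g = 0 := by
      apply FamDesc.eq_zero_of_forall_one_tmul (R := R) D.S (A ⊗[R] A)
      intro i
      apply one_tmul_eq_zero_of_bcMap2_eq_zero
      rw [map_sub, MRB.bcMap2_tmul, ← MRB.comul_one_tmul, (h i).comul_eq_tmul_self, sub_self]
    exact sub_eq_zero.mp h0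

theorem mem_smul_top_of_forall (K : Ideal R) (y : A)
    (h : ∀ i, (1 : D.S i) ⊗ₜ[R] y ∈
      (K.map (algebraMap R (D.S i))) • (⊤ : Submodule (D.S i) (D.S i ⊗[R] A))) :
    y ∈ K • (⊤ : Submodule R A) := by
  haveI := D.ff
  rw [← Submodule.Quotient.mk_eq_zero]
  apply FamDesc.eq_zero_of_forall_one_tmul (R := R) D.S (A ⧸ K • (⊤ : Submodule R A))
  intro i
  have := lTensor_eq_zero_of_mem_smul_top (D.S i) A K (smul_quot_eq_zero A K)
    (K • (⊤ : Submodule R A)).mkQ (h i)
  rwa [LinearMap.baseChange_tmul] at this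

theorem isNilpotent_of_mem_map {S : Type v} [CommRing S] [Algebra R S] (I : Ideal R)
    (hI : ∀ x ∈ I, IsNilpotent x) : ∀ x ∈ I.map (algebraMap R S), IsNilpotent x := by
  intro x hx
  have hle : I.map (algebraMap R S) ≤ nilradical S :=
    Ideal.map_le_iff_le_comap.mpr (fun r hr => by
      rw [Ideal.mem_comap]
      exact mem_nilradical.mpr ((hI r hr).map _))
  exact mem_nilradical.mp (hle hx)

/-- Group-like elements modulo a nil ideal lift to group-like elements, for groups of
multiplicative type. -/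
theorem exists_groupLike_lift (D : DiagFam R A) (I : Ideal R) (hI : ∀ x ∈ I, IsNilpotent x)
    (a : A) (ha : IsGLMod I a) :
    ∃ g : A, IsGroupLikeElem R g ∧ g - a ∈ I • (⊤ : Submodule R A) := by
  classical
  haveI := D.ff
  have hloc : ∀ i, ∃ x : D.S i ⊗[R] A, IsGroupLikeElem (D.S i) x ∧
      x - (1 : D.S i) ⊗ₜ[R] a ∈
        (I.map (algebraMap R (D.S i))) • (⊤ : Submodule (D.S i) (D.S i ⊗[R] A)) := by
    intro i
    obtain ⟨M, _, ⟨e⟩⟩ := D.diag i
    exact exists_groupLike_lift_of_equiv e _ (isNilpotent_of_mem_map I hI) _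
      (isGLMod_one_tmul (D.S i) A ha)
  choose x hx hxa using hloc
  have hcompat : ∀ i j,
      thetaMap (Algebra.TensorProduct.includeLeft : D.S i →ₐ[R] D.S i ⊗[R] D.S j) A (x i) =
      thetaMap (Algebra.TensorProduct.includeRight : D.S j →ₐ[R] D.S i ⊗[R] D.S j) A (x j) := by
    intro i j
    have hdiag : SGA3b.IsDiag (D.S i ⊗[R] D.S j) ((D.S i ⊗[R] D.S j) ⊗[R] A) :=
      BCB.isDiag_baseChange_of_tower R A (D.S i) (D.S i ⊗[R] D.S j) (D.diag i)
    have hNP := MRB.noPrimMod_of_isDiag (D.S i ⊗[R] D.S j) ((D.S i ⊗[R] D.S j) ⊗[R] A) hdiag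
    apply groupLike_eq_of_sub_mem hNP (I.map (algebraMap R (D.S i ⊗[R] D.S j)))
      (isNilpotent_of_mem_map I hI) (isGroupLikeElem_thetaMap _ A (hx j))
      (isGroupLikeElem_thetaMap _ A (hx i))
    have h1 := thetaMap_mem_smul_top
      (Algebra.TensorProduct.includeLeft : D.S i →ₐ[R] D.S i ⊗[R] D.S j) A I (hxa i)
    have h2 := thetaMap_mem_smul_top
      (Algebra.TensorProduct.includeRight : D.S j →ₐ[R] D.S i ⊗[R] D.S j) A I (hxa j)
    rw [map_sub, thetaMap_tmul, map_one] at h1 h2
    have h3 := Submodule.sub_mem _ h1 h2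
    rwa [sub_sub_sub_cancel_right] at h3
  obtain ⟨g, hg⟩ := FamDesc.exists_forall_eq_one_tmul D.S A x (fun i j => by
    rw [← thetaMap_eq_rTensor, ← thetaMap_eq_rTensor]
    exact hcompat i j)
  refine ⟨g, isGroupLikeElem_of_forall D g (fun i => by rw [← hg i]; exact hx i), ?_⟩
  apply mem_smul_top_of_forall D I
  intro i
  rw [TensorProduct.tmul_sub, ← hg i]
  exact hxa i

end Reflect

end Groth.Agent.Lib.Helper25.NilLift
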