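import Groth.Agent.Lib.Helper25MTGlueA
import Groth.Agent.Lib.Helper25NilLift

/-!
# Gluing of diagonalisable types, part B (helper25)

Let `E` be a complete family of orthogonal idempotents of `P` and `Y` a Hopf algebra over `P`
which over each piece `P ⧸ (1 - E i)` is isomorphic to the group algebra of one group `Q`.
Then `Y ≃ₐc[P] P[Q]` (`nonempty_bialgEquiv_of_pieces`).
-/

set_option autoImplicit false
set_option linter.style.haveILetI false
set_option linter.unusedSectionVars false
universe u v w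

namespace Groth.Agent.Lib.Helper25.MTGlue

open TensorProduct Groth.Agent.Lib.Helper25

section Idem

variable {P : Type u} [CommRing P] {ι : Type v} [Fintype ι] [DecidableEq ι]

/-- The ideal of the `i`-th piece. -/
def KI (E : ι → P) (i : ι) : Ideal P := Ideal.span {1 - E i}

variable {E : ι → P} (hE : CompleteOrthogonalIdempotents E)

include hE

theorem mem_KI_smul_top_iff {Z : Type*} [AddCommGroup Z] [Module P Z] (i : ι) (z : Z) :
    z ∈ KI E i • (⊤ : Submodule P Z) ↔ E i • z = 0 := by
  constructor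
  · intro h
    refine Submodule.smul_induction_on h ?_ ?_
    · intro r hr n _
      obtain ⟨a, rfl⟩ := Ideal.mem_span_singleton'.mp hr
      rw [← mul_smul]
      have h1 : E i * E i = E i := (hE.idem i).eq
      have : E i * (a * (1 - E i)) = 0 := by
        calc E i * (a * (1 - E i)) = a * (E i - E i * E i) := by ring
          _ = 0 := by rw [h1, sub_self, mul_zero]
      rw [this, zero_smul]
    · intro x y hx hy
      rw [smul_add, hx, hy, add_zero]
  · intro h
    have : z = (1 - E i) • z := by rw [sub_smul, one_smul, h, sub_zero]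
    rw [this]
    exact Submodule.smul_mem_smul (Ideal.mem_span_singleton_self _) Submodule.mem_top

theorem mem_KI_iff (i : ι) (x : P) : x ∈ KI E i ↔ E i * x = 0 := by
  have := mem_KI_smul_top_iff hE (Z := P) i x
  rw [smul_eq_mul, smul_eq_mul, Ideal.mul_top] at this
  exact this

theorem eq_zero_of_forall_smul_eq_zero {Z : Type*} [AddCommGroup Z] [Module P Z] (z : Z)
    (h : ∀ i, E i • z = 0) : z = 0 := by
  have : z = (∑ i, E i) • z := by rw [hE.complete, one_smul]
  rw [this, Finset.sum_smul]
  exact Finset.sum_eq_zero (fun i _ => h i)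

theorem mk_E_self (i : ι) : Ideal.Quotient.mk (KI E i) (E i) = 1 := by
  rw [← map_one (Ideal.Quotient.mk (KI E i)), eq_comm, Ideal.Quotient.eq]
  exact Ideal.mem_span_singleton_self _

theorem mk_E_ne {i j : ι} (h : j ≠ i) : Ideal.Quotient.mk (KI E i) (E j) = 0 := by
  rw [Ideal.Quotient.eq_zero_iff_mem, mem_KI_iff hE]
  exact hE.ortho (Ne.symm h)

/-- Joint faithfulness of the pieces. -/
theorem eq_of_forall_one_tmul_eq {Z : Type*} [AddCommGroup Z] [Module P Z] (a b : Z)
    (h : ∀ j, (1 : P ⧸ KI E j) ⊗ₜ[P] a = (1 : P ⧸ KI E j) ⊗ₜ[P] b) : a = b := by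
  rw [← sub_eq_zero]
  apply eq_zero_of_forall_smul_eq_zero hE
  intro j
  rw [← mem_KI_smul_top_iff hE, ← NilGL.one_tmul_eq_one_tmul_iff]
  exact h j

end Idem

section Lift

variable {P : Type u} [CommRing P] {Z : Type v} [AddCommGroup Z] [Module P Z] (K : Ideal P)

theorem exists_one_tmul_eq (z : (P ⧸ K) ⊗[P] Z) : ∃ y : Z, (1 : P ⧸ K) ⊗ₜ[P] y = z := by
  induction z using TensorProduct.induction_on with
  | zero => exact ⟨0, TensorProduct.tmul_zero _ _⟩
  | tmul s y =>
    obtain ⟨p, rfl⟩ := Ideal.Quotient.mk_surjective s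
    refine ⟨p • y, ?_⟩
    rw [TensorProduct.tmul_smul, TensorProduct.smul_tmul', Algebra.smul_def, mul_one]
    rfl
  | add a b ha hb =>
    obtain ⟨y, rfl⟩ := ha
    obtain ⟨y', rfl⟩ := hb
    exact ⟨y + y', TensorProduct.tmul_add _ _ _⟩

theorem one_tmul_smul (p : P) (y : Z) :
    (1 : P ⧸ K) ⊗ₜ[P] (p • y) = Ideal.Quotient.mk K p • ((1 : P ⧸ K) ⊗ₜ[P] y) := by
  rw [TensorProduct.tmul_smul, TensorProduct.smul_tmul', TensorProduct.smul_tmul',
    Algebra.smul_def, mul_one, smul_eq_mul, mul_one]
  rfl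

end Lift

end Groth.Agent.Lib.Helper25.MTGlue
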