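import Groth.Agent.Lib.Helper25DescGLTa
import Groth.Agent.Lib.Helper25MTGlueB

set_option autoImplicit false
set_option linter.unusedSectionVars false
set_option linter.style.haveILetI false
universe u

namespace Groth.Agent.Lib.Helper25.Desc

open TensorProduct Groth.Agent.Lib.Helper25 DescGL DescY DescLift

attribute [local instance] Algebra.TensorProduct.rightAlgebra

theorem mapRingHom_comp' {T T' T'' : Type u} [Semiring T] [Semiring T'] [Semiring T'']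
    {M : Type u} [Monoid M] (φ : T →+* T') (ψ : T' →+* T'') (x : MonoidAlgebra T M) :
    MonoidAlgebra.mapRingHom M ψ (MonoidAlgebra.mapRingHom M φ x) =
      MonoidAlgebra.mapRingHom M (ψ.comp φ) x := by
  apply MonoidAlgebra.coeff_injective
  ext m
  simp only [MonoidAlgebra.coeff_mapRingHom, RingHom.comp_apply]

namespace LiftData

variable {R : Type u} [CommRing R] {I : Ideal R} {A₀ : Type u} [CommRing A₀]
  [HopfAlgebra (R ⧸ I) A₀] (L : LiftData R I A₀)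

noncomputable instance instHopfDatumA : HopfAlgebra R L.datum.A := Datum.hopfAlgebra L.datum

/-- The trivialisations of the reduction of the lifted Hopf algebra. -/
noncomputable def ε' (i : L.ι) :
    ((R ⧸ I) ⊗[R] L.P i) ⊗[R ⧸ I] ((R ⧸ I) ⊗[R] L.datum.A) ≃ₐc[(R ⧸ I) ⊗[R] L.P i]
      MonoidAlgebra ((R ⧸ I) ⊗[R] L.P i) (L.M i) :=
  (BCB.cancelBC R (R ⧸ I) ((R ⧸ I) ⊗[R] L.P i) L.datum.A).trans
    (MTGlue.bcDiag R (L.P i) ((R ⧸ I) ⊗[R] L.P i) (L.datum.βBialgEquiv i))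

theorem ε'_one_tmul (i : L.ι) (α : L.datum.A) :
    L.ε' i ((1 : (R ⧸ I) ⊗[R] L.P i) ⊗ₜ[R ⧸ I] ((1 : R ⧸ I) ⊗ₜ[R] α)) =
      MonoidAlgebra.mapRingHom (L.M i) (redMap I (L.P i)).toRingHom (L.datum.c i α) := by
  have h1 : BCB.cancelBC R (R ⧸ I) ((R ⧸ I) ⊗[R] L.P i) L.datum.A
      ((1 : (R ⧸ I) ⊗[R] L.P i) ⊗ₜ[R ⧸ I] ((1 : R ⧸ I) ⊗ₜ[R] α)) =
      (1 : (R ⧸ I) ⊗[R] L.P i) ⊗ₜ[R] α := by
    rw [BCB.cancelBC_tmul, one_smul]
  have h2 : L.ε' i ((1 : (R ⧸ I) ⊗[R] L.P i) ⊗ₜ[R ⧸ I] ((1 : R ⧸ I) ⊗ₜ[R] α)) =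
      MTGlue.bcDiag R (L.P i) ((R ⧸ I) ⊗[R] L.P i) (L.datum.βBialgEquiv i)
        (BCB.cancelBC R (R ⧸ I) ((R ⧸ I) ⊗[R] L.P i) L.datum.A
          ((1 : (R ⧸ I) ⊗[R] L.P i) ⊗ₜ[R ⧸ I] ((1 : R ⧸ I) ⊗ₜ[R] α))) := rfl
  rw [h2, h1, MTGlue.bcDiag_one_tmul]
  have := L.datum.βBialgEquiv_one_tmul i α
  rw [this]
  rfl

section Mem

variable (i j : L.ι)

theorem ε'_mem_aux (α : L.datum.A) :
    L.triv.trans i j (((R ⧸ I) ⊗[R] L.P i) ⊗[R ⧸ I] ((R ⧸ I) ⊗[R] L.P j))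
      Algebra.TensorProduct.includeLeft Algebra.TensorProduct.includeRight
      (MonoidAlgebra.mapRingHom (L.M j)
        (Algebra.TensorProduct.includeRight : (R ⧸ I) ⊗[R] L.P j →ₐ[R ⧸ I]
          ((R ⧸ I) ⊗[R] L.P i) ⊗[R ⧸ I] ((R ⧸ I) ⊗[R] L.P j)).toRingHom
        (MonoidAlgebra.mapRingHom (L.M j) (redMap I (L.P j)).toRingHom (L.datum.c j α))) =
    MonoidAlgebra.mapRingHom (L.M i)
        (Algebra.TensorProduct.includeLeft : (R ⧸ I) ⊗[R] L.P i →ₐ[R ⧸ I]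
          ((R ⧸ I) ⊗[R] L.P i) ⊗[R ⧸ I] ((R ⧸ I) ⊗[R] L.P j)).toRingHom
        (MonoidAlgebra.mapRingHom (L.M i) (redMap I (L.P i)).toRingHom (L.datum.c i α)) := by
  rw [← L.datum_Ψ_eq_trans]
  have e1 := mapRingHom_comp' (M := L.M j) (redMap I (L.P j)).toRingHom
    (Algebra.TensorProduct.includeRight : (R ⧸ I) ⊗[R] L.P j →ₐ[R ⧸ I]
          ((R ⧸ I) ⊗[R] L.P i) ⊗[R ⧸ I] ((R ⧸ I) ⊗[R] L.P j)).toRingHom (L.datum.c j α)
  have e2 := mapRingHom_comp' (M := L.M i) (redMap I (L.P i)).toRingHom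
    (Algebra.TensorProduct.includeLeft : (R ⧸ I) ⊗[R] L.P i →ₐ[R ⧸ I]
          ((R ⧸ I) ⊗[R] L.P i) ⊗[R ⧸ I] ((R ⧸ I) ⊗[R] L.P j)).toRingHom (L.datum.c i α)
  rw [e1, e2]
  exact L.datum.A_nat α i j _ _ _

end Mem

theorem ε'_mem (y : (R ⧸ I) ⊗[R] L.datum.A) :
    L.triv.datum.toPi L.ε' y ∈ L.triv.datum.A := by
  obtain ⟨α, rfl⟩ := MTGlue.exists_one_tmul_eq I y
  rw [Datum.mem_A_iff]
  intro i j
  rw [Datum.resR_apply, Datum.resL_apply, Datum.toPi_apply, Datum.toPi_apply]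
  have hi := L.ε'_one_tmul i α
  have hj := L.ε'_one_tmul j α
  refine Eq.trans ?_ ((L.ε'_mem_aux i j α).trans ?_)
  · rw [← hj]
  · rw [← hi]

theorem ε_mem (x : A₀) : L.triv.datum.toPi L.ε x ∈ L.triv.datum.A := by
  rw [Datum.mem_A_iff]
  intro i j
  rw [Datum.resR_apply, Datum.resL_apply, Datum.toPi_apply, Datum.toPi_apply]
  exact L.triv.trans_apply i j _ _ _ x

noncomputable instance instHopfTrivA : HopfAlgebra (R ⧸ I) L.triv.datum.A :=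
  Datum.hopfAlgebra L.triv.datum

/-- **Lifting theorem**: a Hopf algebra over `R/I` trivialised over the reductions of a jointly
faithfully flat family, along which idempotents lift uniquely, lifts to `R`. -/
theorem exists_lift :
    ∃ (A : Type u) (_ : CommRing A) (_ : HopfAlgebra R A),
      (∀ i, Nonempty (L.P i ⊗[R] A ≃ₐc[L.P i] MonoidAlgebra (L.P i) (L.M i))) ∧
      Nonempty ((R ⧸ I) ⊗[R] A ≃ₐc[R ⧸ I] A₀) := by
  refine ⟨L.datum.A, inferInstance, inferInstance, fun i => ⟨L.datum.βBialgEquiv i⟩, ?_⟩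
  obtain ⟨e1⟩ := L.triv.datum.nonempty_equiv_of_triv (B := A₀) L.ε L.ε_mem
  obtain ⟨e2⟩ := L.triv.datum.nonempty_equiv_of_triv (B := (R ⧸ I) ⊗[R] L.datum.A) L.ε' L.ε'_mem
  exact ⟨e2.trans e1.symm⟩

end LiftData

end Groth.Agent.Lib.Helper25.Desc
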