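import Groth.Agent.Lib.Helper25DescDatumC

set_option autoImplicit false
set_option linter.unusedSectionVars false
set_option linter.style.haveILetI false
universe u

namespace Groth.Agent.Lib.Helper25.Desc

open TensorProduct Groth.Agent.Lib.Helper25 DescGL

section LiftLemmas

variable {P Q T' : Type u} [CommRing P] [CommRing Q] [CommRing T'] [Algebra P Q]
  {M : Type u} [CommGroup M]

/-- Base change of `MonoidAlgebra.lift`. -/
theorem lift_bc (a : P →+* T') (v : Q →+* T') (hv : ∀ p, v (algebraMap P Q p) = a p)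
    (χ : M →* Q) (y : MonoidAlgebra P M) :
    v (MonoidAlgebra.lift P Q M χ y) =
      MonoidAlgebra.lift T' T' M ((v : Q →* T').comp χ) (MonoidAlgebra.mapRingHom M a y) := by
  induction y using MonoidAlgebra.induction_linear with
  | zero => simp only [map_zero]
  | add x y hx hy => simp only [map_add, hx, hy]
  | single m p =>
    rw [MonoidAlgebra.lift_single, MonoidAlgebra.mapRingHom_single, MonoidAlgebra.lift_single,
      Algebra.smul_def, map_mul, hv, smul_eq_mul]
    rfl

/-- On group-like elements, `lift` is multiplicative in the character. -/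
theorem lift_mul_groupLike (χ χ' : M →* T') {g : MonoidAlgebra T' M}
    (hg : IsGroupLikeElem T' g) :
    MonoidAlgebra.lift T' T' M (χ * χ') g =
      MonoidAlgebra.lift T' T' M χ g * MonoidAlgebra.lift T' T' M χ' g := by
  have h : MonoidAlgebra.lift T' T' M (χ * χ') =
      (Algebra.TensorProduct.lift (MonoidAlgebra.lift T' T' M χ) (MonoidAlgebra.lift T' T' M χ')
        (fun _ _ => Commute.all _ _)).comp (Bialgebra.comulAlgHom T' (MonoidAlgebra T' M)) := by
    apply MonoidAlgebra.algHom_ext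
    · intro m
      rw [AlgHom.comp_apply, Bialgebra.comulAlgHom_apply, MonoidAlgebra.comul_single]
      simp
    · apply AlgHom.ext
      intro t
      simp
  rw [h, AlgHom.comp_apply, Bialgebra.comulAlgHom_apply, hg.comul_eq_tmul_self,
    Algebra.TensorProduct.lift_tmul]

theorem lift_one_groupLike {g : MonoidAlgebra T' M} (hg : IsGroupLikeElem T' g) :
    MonoidAlgebra.lift T' T' M (1 : M →* T') g = 1 := by
  have h : MonoidAlgebra.lift T' T' M (1 : M →* T') =
      Bialgebra.counitAlgHom T' (MonoidAlgebra T' M) := by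
    apply MonoidAlgebra.algHom_ext
    · intro m
      simp
    · apply AlgHom.ext
      intro t
      simp
  rw [h, Bialgebra.counitAlgHom_apply, hg.counit_eq_one]

end LiftLemmas

namespace Datum

variable {R : Type u} [CommRing R] (D : Datum R)

/-- The equalizer condition after an arbitrary base change. -/
theorem A_nat (α : D.A) (i j : D.ι) (T' : Type u) [CommRing T'] [Algebra R T']
    (a : D.P i →ₐ[R] T') (b : D.P j →ₐ[R] T') :
    D.Ψ i j T' a b (MonoidAlgebra.mapRingHom (D.M j) b.toRingHom (D.c j α)) =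
      MonoidAlgebra.mapRingHom (D.M i) a.toRingHom (D.c i α) := by
  have h := α.2 i j
  rw [resR_apply, resL_apply] at h
  have h2 := congrArg (MonoidAlgebra.mapRingHom (D.M i)
    (Algebra.TensorProduct.lift a b (fun _ _ => Commute.all _ _)).toRingHom) h
  rw [D.nat_apply, mapRingHom_comp, mapRingHom_comp] at h2
  have ha : (Algebra.TensorProduct.lift a b (fun _ _ => Commute.all _ _)).comp
      (Algebra.TensorProduct.includeLeft : D.P i →ₐ[R] D.P i ⊗[R] D.P j) = a :=
    Algebra.TensorProduct.lift_comp_includeLeft _ _ (fun _ _ => Commute.all _ _)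
  have hb : (Algebra.TensorProduct.lift a b (fun _ _ => Commute.all _ _)).comp
      (Algebra.TensorProduct.includeRight : D.P j →ₐ[R] D.P i ⊗[R] D.P j) = b :=
    Algebra.TensorProduct.lift_comp_includeRight _ _ (fun _ _ => Commute.all _ _)
  have ha' : (Algebra.TensorProduct.lift a b (fun _ _ => Commute.all _ _)).toRingHom.comp
      (Algebra.TensorProduct.includeLeft : D.P i →ₐ[R] D.P i ⊗[R] D.P j).toRingHom =
      a.toRingHom := RingHom.ext fun x => congrArg (fun F => F x) ha
  have hb' : (Algebra.TensorProduct.lift a b (fun _ _ => Commute.all _ _)).toRingHom.comp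
      (Algebra.TensorProduct.includeRight : D.P j →ₐ[R] D.P i ⊗[R] D.P j).toRingHom =
      b.toRingHom := RingHom.ext fun x => congrArg (fun F => F x) hb
  rw [D.Ψ_congr i j T' ha hb, ha', hb'] at h2
  exact h2

/-- Two ring maps out of `P i [M i]` agreeing on `P i` and on the image of `A` are equal. -/
theorem ringHom_ext_N (i : D.ι) {X : Type u} [CommRing X] (f g : D.N i →+* X)
    (hP : ∀ p : D.P i, f (algebraMap (D.P i) (D.N i) p) = g (algebraMap (D.P i) (D.N i) p))
    (hA : ∀ α : D.A, f (D.c i α) = g (D.c i α)) (x : D.N i) : f x = g x := by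
  obtain ⟨z, rfl⟩ := D.β_surjective i x
  induction z using TensorProduct.induction_on with
  | zero => rw [map_zero, map_zero, map_zero]
  | add x y hx hy => rw [map_add, map_add, map_add, hx, hy]
  | tmul p α => rw [β_tmul, Algebra.smul_def, map_mul, map_mul, hP, hA]

variable (T : Type u) [CommRing T] [Algebra R T]

/-- The `P i`-algebra map `P i [M i] → P i ⊗ T` attached to a point `φ : A → T`. -/
noncomputable def toHom (φ : D.A →ₐ[R] T) (i : D.ι) : D.N i →ₐ[D.P i] D.P i ⊗[R] T :=
  (Algebra.TensorProduct.map (AlgHom.id (D.P i) (D.P i)) φ).comp (D.βEquiv i).symm.toAlgHom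

theorem toHom_c (φ : D.A →ₐ[R] T) (i : D.ι) (α : D.A) :
    D.toHom T φ i (D.c i α) = (1 : D.P i) ⊗ₜ[R] φ α := by
  have h : D.c i α = D.βEquiv i ((1 : D.P i) ⊗ₜ[R] α) := by
    rw [βEquiv_apply, β_tmul, one_smul]
  rw [toHom, AlgHom.comp_apply, h]
  change Algebra.TensorProduct.map (AlgHom.id (D.P i) (D.P i)) φ
    ((D.βEquiv i).symm (D.βEquiv i ((1 : D.P i) ⊗ₜ[R] α))) = _
  rw [AlgEquiv.symm_apply_apply, Algebra.TensorProduct.map_tmul]
  rfl

/-- The family of characters attached to a point. -/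
noncomputable def toFam (φ : D.A →ₐ[R] T) (i : D.ι) : D.M i →* D.P i ⊗[R] T :=
  (MonoidAlgebra.lift (D.P i) (D.P i ⊗[R] T) (D.M i)).symm (D.toHom T φ i)

theorem lift_toFam (φ : D.A →ₐ[R] T) (i : D.ι) :
    MonoidAlgebra.lift (D.P i) (D.P i ⊗[R] T) (D.M i) (D.toFam T φ i) = D.toHom T φ i :=
  Equiv.apply_symm_apply _ _

theorem lift_toFam_c (φ : D.A →ₐ[R] T) (i : D.ι) (α : D.A) :
    MonoidAlgebra.lift (D.P i) (D.P i ⊗[R] T) (D.M i) (D.toFam T φ i) (D.c i α) =
      (1 : D.P i) ⊗ₜ[R] φ α := by
  rw [lift_toFam, toHom_c]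

/-- Pushforward `P i ⊗ T → T'` along a point `a` of `P i` and `f : T → T'`. -/
noncomputable abbrev pf {i : D.ι} {T' : Type u} [CommRing T'] [Algebra R T']
    (a : D.P i →ₐ[R] T') (f : T →ₐ[R] T') : D.P i ⊗[R] T →ₐ[R] T' :=
  Algebra.TensorProduct.lift a f (fun _ _ => Commute.all _ _)

theorem pf_tmul {i : D.ι} {T' : Type u} [CommRing T'] [Algebra R T']
    (a : D.P i →ₐ[R] T') (f : T →ₐ[R] T') (p : D.P i) (t : T) :
    D.pf T a f (p ⊗ₜ[R] t) = a p * f t :=
  Algebra.TensorProduct.lift_tmul _ _ _ _ _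

/-- Compatibility of a family of characters with the descent datum. -/
def Compat (χ : ∀ i, D.M i →* D.P i ⊗[R] T) : Prop :=
  ∀ (i j : D.ι) (T' : Type u) [CommRing T'] [Algebra R T'] (a : D.P i →ₐ[R] T')
    (b : D.P j →ₐ[R] T') (f : T →ₐ[R] T') (m : D.M j),
    MonoidAlgebra.lift T' T' (D.M i) ((D.pf T a f : D.P i ⊗[R] T →* T').comp (χ i))
      (D.Ψ i j T' a b (MonoidAlgebra.single m 1)) = D.pf T b f (χ j m)

theorem mapRingHom_algebraMap {T₁ T₂ : Type u} [CommRing T₁] [CommRing T₂] {G : Type u}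
    [CommGroup G] (φ : T₁ →+* T₂) (t : T₁) :
    MonoidAlgebra.mapRingHom G φ (algebraMap T₁ (MonoidAlgebra T₁ G) t) =
      algebraMap T₂ (MonoidAlgebra T₂ G) (φ t) := by
  exact congrArg (fun F => F t) (MonoidAlgebra.mapRingHom_comp_algebraMap (M := G) φ)

theorem compat_toFam (φ : D.A →ₐ[R] T) : D.Compat T (D.toFam T φ) := by
  intro i j T' _ _ a b f m
  have key : ∀ x : D.N j,
      MonoidAlgebra.lift T' T' (D.M i) ((D.pf T a f : D.P i ⊗[R] T →* T').comp (D.toFam T φ i))
        (D.Ψ i j T' a b (MonoidAlgebra.mapRingHom (D.M j) b.toRingHom x)) =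
      D.pf T b f (D.toHom T φ j x) := by
    intro x
    refine D.ringHom_ext_N j
      (((MonoidAlgebra.lift T' T' (D.M i)
        ((D.pf T a f : D.P i ⊗[R] T →* T').comp (D.toFam T φ i))).toRingHom.comp
          (D.Ψ i j T' a b).toAlgHom.toRingHom).comp
            (MonoidAlgebra.mapRingHom (D.M j) b.toRingHom))
      ((D.pf T b f).toRingHom.comp (D.toHom T φ j).toRingHom) ?_ ?_ x
    · intro p
      change MonoidAlgebra.lift T' T' (D.M i) _ (D.Ψ i j T' a b
        (MonoidAlgebra.mapRingHom (D.M j) b.toRingHom (algebraMap (D.P j) (D.N j) p))) =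
        D.pf T b f (D.toHom T φ j (algebraMap (D.P j) (D.N j) p))
      rw [mapRingHom_algebraMap, AlgHom.commutes]
      have : D.Ψ i j T' a b (algebraMap T' (MonoidAlgebra T' (D.M j)) (b.toRingHom p)) =
          algebraMap T' (MonoidAlgebra T' (D.M i)) (b.toRingHom p) :=
        (D.Ψ i j T' a b).toAlgHom.commutes _
      rw [this, AlgHom.commutes, Algebra.TensorProduct.algebraMap_apply, pf_tmul, map_one,
        mul_one]
      rfl
    · intro α
      change MonoidAlgebra.lift T' T' (D.M i) _ (D.Ψ i j T' a b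
        (MonoidAlgebra.mapRingHom (D.M j) b.toRingHom (D.c j α))) =
        D.pf T b f (D.toHom T φ j (D.c j α))
      rw [D.A_nat, toHom_c, pf_tmul, map_one, one_mul]
      have hbc := lift_bc (P := D.P i) (Q := D.P i ⊗[R] T) a.toRingHom (D.pf T a f).toRingHom ?_
        (D.toFam T φ i) (D.c i α)
      · refine Eq.trans hbc.symm ?_
        rw [lift_toFam_c]
        change D.pf T a f ((1 : D.P i) ⊗ₜ[R] φ α) = _
        rw [pf_tmul, map_one, one_mul]
      · intro p
        change D.pf T a f (algebraMap (D.P i) (D.P i ⊗[R] T) p) = a p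
        rw [Algebra.TensorProduct.algebraMap_apply, pf_tmul, map_one, mul_one]
        rfl
  have h := key (MonoidAlgebra.single m 1)
  rw [MonoidAlgebra.mapRingHom_single, map_one] at h
  rw [h, ← lift_toFam, MonoidAlgebra.lift_single, one_smul]

end Datum

end Groth.Agent.Lib.Helper25.Desc
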