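import Groth.Agent.Lib.Helper25DescRepA
import Groth.Agent.Lib.Helper25FamDesc

set_option autoImplicit false
set_option linter.unusedSectionVars false
set_option linter.style.haveILetI false
universe u

namespace Groth.Agent.Lib.Helper25.Desc

open TensorProduct Groth.Agent.Lib.Helper25 DescGL

namespace Datum

variable {R : Type u} [CommRing R] (D : Datum R) (T : Type u) [CommRing T] [Algebra R T]

theorem pf_algebraMap {i : D.ι} {T' : Type u} [CommRing T'] [Algebra R T']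
    (a : D.P i →ₐ[R] T') (f : T →ₐ[R] T') (p : D.P i) :
    D.pf T a f (algebraMap (D.P i) (D.P i ⊗[R] T) p) = a p := by
  rw [Algebra.TensorProduct.algebraMap_apply, pf_tmul, map_one, mul_one]
  rfl

theorem pf_lift {i : D.ι} {T' : Type u} [CommRing T'] [Algebra R T']
    (a : D.P i →ₐ[R] T') (f : T →ₐ[R] T') (χ : D.M i →* D.P i ⊗[R] T) (y : D.N i) :
    D.pf T a f (MonoidAlgebra.lift (D.P i) (D.P i ⊗[R] T) (D.M i) χ y) =
      MonoidAlgebra.lift T' T' (D.M i) ((D.pf T a f : D.P i ⊗[R] T →* T').comp χ)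
        (MonoidAlgebra.mapRingHom (D.M i) a.toRingHom y) :=
  lift_bc (P := D.P i) (Q := D.P i ⊗[R] T) a.toRingHom (D.pf T a f).toRingHom
    (fun p => D.pf_algebraMap T a f p) χ y

variable {T}

theorem Compat.lift_comp {χ : ∀ i, D.M i →* D.P i ⊗[R] T} (hχ : D.Compat T χ) (i j : D.ι)
    (T' : Type u) [CommRing T'] [Algebra R T'] (a : D.P i →ₐ[R] T') (b : D.P j →ₐ[R] T')
    (f : T →ₐ[R] T') (x : MonoidAlgebra T' (D.M j)) :
    MonoidAlgebra.lift T' T' (D.M i) ((D.pf T a f : D.P i ⊗[R] T →* T').comp (χ i))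
      (D.Ψ i j T' a b x) =
    MonoidAlgebra.lift T' T' (D.M j) ((D.pf T b f : D.P j ⊗[R] T →* T').comp (χ j)) x := by
  have h : (MonoidAlgebra.lift T' T' (D.M i)
      ((D.pf T a f : D.P i ⊗[R] T →* T').comp (χ i))).comp (D.Ψ i j T' a b).toAlgHom =
      MonoidAlgebra.lift T' T' (D.M j) ((D.pf T b f : D.P j ⊗[R] T →* T').comp (χ j)) := by
    apply MonoidAlgebra.algHom_ext
    · intro m
      rw [MonoidAlgebra.lift_single, one_smul]
      exact hχ i j T' a b f m
    · exact Subsingleton.elim _ _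
  exact congrArg (fun F => F x) h

/-- The values of a compatible family on `A` are independent of the chart. -/
theorem Compat.eval_eq {χ : ∀ i, D.M i →* D.P i ⊗[R] T} (hχ : D.Compat T χ) (i j : D.ι)
    (T' : Type u) [CommRing T'] [Algebra R T'] (a : D.P i →ₐ[R] T') (b : D.P j →ₐ[R] T')
    (f : T →ₐ[R] T') (α : D.A) :
    D.pf T a f (MonoidAlgebra.lift (D.P i) (D.P i ⊗[R] T) (D.M i) (χ i) (D.c i α)) =
      D.pf T b f (MonoidAlgebra.lift (D.P j) (D.P j ⊗[R] T) (D.M j) (χ j) (D.c j α)) := by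
  rw [pf_lift, pf_lift, ← hχ.lift_comp D i j T' a b f, D.A_nat]

theorem pf_inclL (i j : D.ι) (z : D.P i ⊗[R] T) :
    D.pf T ((Algebra.TensorProduct.includeLeft : D.P i ⊗[R] D.P j →ₐ[R] (D.P i ⊗[R] D.P j) ⊗[R] T).comp
        (Algebra.TensorProduct.includeLeft : D.P i →ₐ[R] D.P i ⊗[R] D.P j))
      (Algebra.TensorProduct.includeRight : T →ₐ[R] (D.P i ⊗[R] D.P j) ⊗[R] T) z =
    LinearMap.rTensor T
      (Algebra.TensorProduct.includeLeft : D.P i →ₐ[R] D.P i ⊗[R] D.P j).toLinearMap z := by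
  induction z using TensorProduct.induction_on with
  | zero => rw [map_zero, map_zero]
  | add x y hx hy => rw [map_add, map_add, hx, hy]
  | tmul p t =>
    rw [pf_tmul, LinearMap.rTensor_tmul]
    change ((p ⊗ₜ[R] (1 : D.P j)) ⊗ₜ[R] (1 : T)) * ((1 : D.P i ⊗[R] D.P j) ⊗ₜ[R] t) = _
    rw [Algebra.TensorProduct.tmul_mul_tmul, mul_one, one_mul]
    rfl

theorem pf_inclR (i j : D.ι) (z : D.P j ⊗[R] T) :
    D.pf T ((Algebra.TensorProduct.includeLeft : D.P i ⊗[R] D.P j →ₐ[R] (D.P i ⊗[R] D.P j) ⊗[R] T).comp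
        (Algebra.TensorProduct.includeRight : D.P j →ₐ[R] D.P i ⊗[R] D.P j))
      (Algebra.TensorProduct.includeRight : T →ₐ[R] (D.P i ⊗[R] D.P j) ⊗[R] T) z =
    LinearMap.rTensor T
      (Algebra.TensorProduct.includeRight : D.P j →ₐ[R] D.P i ⊗[R] D.P j).toLinearMap z := by
  induction z using TensorProduct.induction_on with
  | zero => rw [map_zero, map_zero]
  | add x y hx hy => rw [map_add, map_add, hx, hy]
  | tmul p t =>
    rw [pf_tmul, LinearMap.rTensor_tmul]
    change (((1 : D.P i) ⊗ₜ[R] p) ⊗ₜ[R] (1 : T)) * ((1 : D.P i ⊗[R] D.P j) ⊗ₜ[R] t) = _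
    rw [Algebra.TensorProduct.tmul_mul_tmul, mul_one, one_mul]
    rfl

theorem one_tmul_injective {t t' : T} (h : ∀ i : D.ι, (1 : D.P i) ⊗ₜ[R] t = (1 : D.P i) ⊗ₜ[R] t') :
    t = t' := by
  haveI := D.ff
  rw [← sub_eq_zero]
  exact FamDesc.eq_zero_of_forall_one_tmul (R := R) (fun i => D.P i) T (t - t')
    (fun i => by rw [TensorProduct.tmul_sub, h i, sub_self])

/-- A compatible family of characters defines a point of `A`. -/
theorem exists_point_of_compat {χ : ∀ i, D.M i →* D.P i ⊗[R] T} (hχ : D.Compat T χ) :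
    ∃ φ : D.A →ₐ[R] T, ∀ i α,
      MonoidAlgebra.lift (D.P i) (D.P i ⊗[R] T) (D.M i) (χ i) (D.c i α) = (1 : D.P i) ⊗ₜ[R] φ α := by
  haveI := D.ff
  have hex : ∀ α : D.A, ∃ t : T, ∀ i,
      MonoidAlgebra.lift (D.P i) (D.P i ⊗[R] T) (D.M i) (χ i) (D.c i α) = (1 : D.P i) ⊗ₜ[R] t := by
    intro α
    apply FamDesc.exists_forall_eq_one_tmul (fun i => D.P i) T
    intro i j
    rw [← pf_inclL, ← pf_inclR]
    exact hχ.eval_eq D i j _ _ _ _ α
  choose φ0 hφ0 using hex
  refine ⟨{ toFun := φ0, map_one' := ?_, map_mul' := ?_, map_zero' := ?_, map_add' := ?_,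
            commutes' := ?_ }, fun i α => hφ0 α i⟩
  · apply D.one_tmul_injective
    intro i
    rw [← hφ0, map_one, map_one]
    rfl
  · intro α α'
    apply D.one_tmul_injective
    intro i
    rw [← hφ0, map_mul, map_mul, hφ0, hφ0, Algebra.TensorProduct.tmul_mul_tmul, one_mul]
  · apply D.one_tmul_injective
    intro i
    rw [← hφ0, map_zero, map_zero, TensorProduct.tmul_zero]
  · intro α α'
    apply D.one_tmul_injective
    intro i
    rw [← hφ0, map_add, map_add, hφ0, hφ0, TensorProduct.tmul_add]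
  · intro r
    apply D.one_tmul_injective
    intro i
    rw [← hφ0, AlgHom.commutes, IsScalarTower.algebraMap_apply R (D.P i) (D.N i), AlgHom.commutes,
      Algebra.TensorProduct.algebraMap_apply, Algebra.algebraMap_eq_smul_one,
      Algebra.algebraMap_eq_smul_one (A := T), TensorProduct.tmul_smul, TensorProduct.smul_tmul',
      algebraMap_smul]

theorem toFam_eq_of_forall {χ : ∀ i, D.M i →* D.P i ⊗[R] T} (φ : D.A →ₐ[R] T)
    (h : ∀ i α, MonoidAlgebra.lift (D.P i) (D.P i ⊗[R] T) (D.M i) (χ i) (D.c i α) =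
      (1 : D.P i) ⊗ₜ[R] φ α) : D.toFam T φ = χ := by
  funext i
  apply (MonoidAlgebra.lift (D.P i) (D.P i ⊗[R] T) (D.M i)).injective
  apply AlgHom.ext
  intro x
  refine D.ringHom_ext_N i
    (MonoidAlgebra.lift (D.P i) (D.P i ⊗[R] T) (D.M i) (D.toFam T φ i)).toRingHom
    (MonoidAlgebra.lift (D.P i) (D.P i ⊗[R] T) (D.M i) (χ i)).toRingHom ?_ ?_ x
  · intro p
    exact (AlgHom.commutes _ p).trans (AlgHom.commutes _ p).symm
  · intro α
    exact (D.lift_toFam_c T φ i α).trans (h i α).symm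

theorem exists_toFam_eq {χ : ∀ i, D.M i →* D.P i ⊗[R] T} (hχ : D.Compat T χ) :
    ∃ φ : D.A →ₐ[R] T, D.toFam T φ = χ := by
  obtain ⟨φ, hφ⟩ := D.exists_point_of_compat hχ
  exact ⟨φ, D.toFam_eq_of_forall φ hφ⟩

theorem toFam_injective : Function.Injective (D.toFam T) := by
  intro φ ψ h
  apply AlgHom.ext
  intro α
  apply D.one_tmul_injective
  intro i
  rw [← lift_toFam_c, ← lift_toFam_c, h]

end Datum

end Groth.Agent.Lib.Helper25.Desc
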