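import Mathlib.RingTheory.HopfAlgebra.Basic
import Mathlib.RingTheory.HopfAlgebra.TensorProduct
import Mathlib.RingTheory.Bialgebra.Convolution
import Mathlib.RingTheory.HopfAlgebra.Convolution

/-!
# Hopf algebra structures from group structures on the functor of points (helper25)

`PointGroup R A`: a group structure on `A →ₐ[R] T` for every commutative `R`-algebra `T`,
natural in `T`.  `PointGroup.hopfAlgebra`: the corresponding Hopf algebra structure on `A`
(Yoneda), with comultiplication `p₁ * p₂`, counit `1` and antipode `id⁻¹`.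
-/

set_option autoImplicit false
set_option linter.unusedSectionVars false
set_option linter.style.haveILetI false
universe u

namespace Groth.Agent.Lib.Helper25.DescY

open TensorProduct

variable (R : Type u) [CommRing R] (A : Type u) [CommRing A] [Algebra R A]

/-- A natural group structure on the functor of points of `A`. -/
structure PointGroup where
  mul : ∀ (T : Type u) [CommRing T] [Algebra R T], (A →ₐ[R] T) → (A →ₐ[R] T) → (A →ₐ[R] T)
  one : ∀ (T : Type u) [CommRing T] [Algebra R T], A →ₐ[R] T
  inv : ∀ (T : Type u) [CommRing T] [Algebra R T], (A →ₐ[R] T) → (A →ₐ[R] T)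
  mul_assoc : ∀ (T : Type u) [CommRing T] [Algebra R T] (φ ψ χ : A →ₐ[R] T),
    mul T (mul T φ ψ) χ = mul T φ (mul T ψ χ)
  one_mul : ∀ (T : Type u) [CommRing T] [Algebra R T] (φ : A →ₐ[R] T), mul T (one T) φ = φ
  mul_one : ∀ (T : Type u) [CommRing T] [Algebra R T] (φ : A →ₐ[R] T), mul T φ (one T) = φ
  inv_mul : ∀ (T : Type u) [CommRing T] [Algebra R T] (φ : A →ₐ[R] T),
    mul T (inv T φ) φ = one T
  mul_inv : ∀ (T : Type u) [CommRing T] [Algebra R T] (φ : A →ₐ[R] T),
    mul T φ (inv T φ) = one T
  comp_mul : ∀ (T T' : Type u) [CommRing T] [Algebra R T] [CommRing T'] [Algebra R T']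
    (f : T →ₐ[R] T') (φ ψ : A →ₐ[R] T), f.comp (mul T φ ψ) = mul T' (f.comp φ) (f.comp ψ)

namespace PointGroup

variable {R A} (G : PointGroup R A)

theorem eq_one_of_mul_self (T : Type u) [CommRing T] [Algebra R T] (e : A →ₐ[R] T)
    (h : G.mul T e e = e) : e = G.one T := by
  have h1 : G.mul T (G.inv T e) (G.mul T e e) = G.mul T (G.inv T e) e := by rw [h]
  rw [← G.mul_assoc, G.inv_mul, G.one_mul] at h1
  exact h1

theorem comp_one (T T' : Type u) [CommRing T] [Algebra R T] [CommRing T'] [Algebra R T']
    (f : T →ₐ[R] T') : f.comp (G.one T) = G.one T' := by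
  apply G.eq_one_of_mul_self
  rw [← G.comp_mul, G.one_mul]

/-- The comultiplication. -/
noncomputable def comul : A →ₐ[R] A ⊗[R] A :=
  G.mul (A ⊗[R] A) Algebra.TensorProduct.includeLeft Algebra.TensorProduct.includeRight

/-- The counit. -/
noncomputable def counit : A →ₐ[R] R := G.one R

/-- The antipode. -/
noncomputable def antipode : A →ₐ[R] A := G.inv A (AlgHom.id R A)

theorem comp_comul (T : Type u) [CommRing T] [Algebra R T] (f : A ⊗[R] A →ₐ[R] T) :
    f.comp G.comul = G.mul T (f.comp Algebra.TensorProduct.includeLeft)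
      (f.comp Algebra.TensorProduct.includeRight) := by
  rw [comul, G.comp_mul]

theorem coassoc :
    (Algebra.TensorProduct.assoc R R R A A A).toAlgHom.comp
      ((Algebra.TensorProduct.map G.comul (.id R A)).comp G.comul) =
    (Algebra.TensorProduct.map (.id R A) G.comul).comp G.comul := by
  rw [← AlgHom.comp_assoc, G.comp_comul, G.comp_comul]
  -- left side, first factor
  have h1 : ((Algebra.TensorProduct.assoc R R R A A A).toAlgHom.comp
      (Algebra.TensorProduct.map G.comul (.id R A))).comp
        (Algebra.TensorProduct.includeLeft : A →ₐ[R] A ⊗[R] A) =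
      ((Algebra.TensorProduct.assoc R R R A A A).toAlgHom.comp
        (Algebra.TensorProduct.includeLeft : A ⊗[R] A →ₐ[R] (A ⊗[R] A) ⊗[R] A)).comp G.comul := by
    apply AlgHom.ext
    intro a
    change (Algebra.TensorProduct.assoc R R R A A A)
        (Algebra.TensorProduct.map G.comul (AlgHom.id R A) (a ⊗ₜ[R] (1 : A))) =
      (Algebra.TensorProduct.assoc R R R A A A) (G.comul a ⊗ₜ[R] (1 : A))
    rw [Algebra.TensorProduct.map_tmul, map_one]
  have h2 : ((Algebra.TensorProduct.assoc R R R A A A).toAlgHom.comp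
      (Algebra.TensorProduct.map G.comul (.id R A))).comp
        (Algebra.TensorProduct.includeRight : A →ₐ[R] A ⊗[R] A) =
      (Algebra.TensorProduct.includeRight : A ⊗[R] A →ₐ[R] A ⊗[R] (A ⊗[R] A)).comp
        (Algebra.TensorProduct.includeRight : A →ₐ[R] A ⊗[R] A) := by
    apply AlgHom.ext
    intro a
    change (Algebra.TensorProduct.assoc R R R A A A)
        (Algebra.TensorProduct.map G.comul (AlgHom.id R A) ((1 : A) ⊗ₜ[R] a)) =
      (1 : A) ⊗ₜ[R] ((1 : A) ⊗ₜ[R] a)
    rw [Algebra.TensorProduct.map_tmul, map_one, AlgHom.id_apply, Algebra.TensorProduct.one_def,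
      Algebra.TensorProduct.assoc_tmul]
  have h3 : (Algebra.TensorProduct.map (.id R A) G.comul).comp
      (Algebra.TensorProduct.includeLeft : A →ₐ[R] A ⊗[R] A) =
      (Algebra.TensorProduct.includeLeft : A →ₐ[R] A ⊗[R] (A ⊗[R] A)) := by
    apply AlgHom.ext
    intro a
    change Algebra.TensorProduct.map (AlgHom.id R A) G.comul (a ⊗ₜ[R] (1 : A)) =
      a ⊗ₜ[R] (1 : A ⊗[R] A)
    rw [Algebra.TensorProduct.map_tmul, map_one, AlgHom.id_apply]
  have h4 : (Algebra.TensorProduct.map (.id R A) G.comul).comp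
      (Algebra.TensorProduct.includeRight : A →ₐ[R] A ⊗[R] A) =
      (Algebra.TensorProduct.includeRight : A ⊗[R] A →ₐ[R] A ⊗[R] (A ⊗[R] A)).comp G.comul := by
    apply AlgHom.ext
    intro a
    change Algebra.TensorProduct.map (AlgHom.id R A) G.comul ((1 : A) ⊗ₜ[R] a) =
      (1 : A) ⊗ₜ[R] G.comul a
    rw [Algebra.TensorProduct.map_tmul, map_one]
  rw [h1, h2, h3, h4, G.comp_comul, G.comp_comul, G.mul_assoc]
  have e1 : (((Algebra.TensorProduct.assoc R R R A A A).toAlgHom.comp
      (Algebra.TensorProduct.includeLeft : A ⊗[R] A →ₐ[R] (A ⊗[R] A) ⊗[R] A)).comp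
        (Algebra.TensorProduct.includeLeft : A →ₐ[R] A ⊗[R] A)) =
      (Algebra.TensorProduct.includeLeft : A →ₐ[R] A ⊗[R] (A ⊗[R] A)) := by
    apply AlgHom.ext
    intro a
    change (Algebra.TensorProduct.assoc R R R A A A) ((a ⊗ₜ[R] (1 : A)) ⊗ₜ[R] (1 : A)) =
      a ⊗ₜ[R] (1 : A ⊗[R] A)
    rw [Algebra.TensorProduct.assoc_tmul, Algebra.TensorProduct.one_def]
  have e2 : (((Algebra.TensorProduct.assoc R R R A A A).toAlgHom.comp
      (Algebra.TensorProduct.includeLeft : A ⊗[R] A →ₐ[R] (A ⊗[R] A) ⊗[R] A)).comp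
        (Algebra.TensorProduct.includeRight : A →ₐ[R] A ⊗[R] A)) =
      (Algebra.TensorProduct.includeRight : A ⊗[R] A →ₐ[R] A ⊗[R] (A ⊗[R] A)).comp
        (Algebra.TensorProduct.includeLeft : A →ₐ[R] A ⊗[R] A) := by
    apply AlgHom.ext
    intro a
    change (Algebra.TensorProduct.assoc R R R A A A) (((1 : A) ⊗ₜ[R] a) ⊗ₜ[R] (1 : A)) =
      (1 : A) ⊗ₜ[R] (a ⊗ₜ[R] (1 : A))
    rw [Algebra.TensorProduct.assoc_tmul]
  rw [e1, e2]

theorem rTensor_counit :
    (Algebra.TensorProduct.map G.counit (.id R A)).comp G.comul =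
      (Algebra.TensorProduct.lid R A).symm := by
  rw [G.comp_comul]
  have h1 : (Algebra.TensorProduct.map G.counit (.id R A)).comp
      (Algebra.TensorProduct.includeLeft : A →ₐ[R] A ⊗[R] A) =
      (Algebra.TensorProduct.includeLeft : R →ₐ[R] R ⊗[R] A).comp G.counit := by
    apply AlgHom.ext
    intro a
    change Algebra.TensorProduct.map G.counit (AlgHom.id R A) (a ⊗ₜ[R] (1 : A)) =
      G.counit a ⊗ₜ[R] (1 : A)
    rw [Algebra.TensorProduct.map_tmul, map_one]
  have h2 : (Algebra.TensorProduct.map G.counit (.id R A)).comp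
      (Algebra.TensorProduct.includeRight : A →ₐ[R] A ⊗[R] A) =
      ((Algebra.TensorProduct.lid R A).symm : A →ₐ[R] R ⊗[R] A) := by
    apply AlgHom.ext
    intro a
    change Algebra.TensorProduct.map G.counit (AlgHom.id R A) ((1 : A) ⊗ₜ[R] a) =
      (Algebra.TensorProduct.lid R A).symm a
    rw [Algebra.TensorProduct.map_tmul, map_one, AlgHom.id_apply,
      Algebra.TensorProduct.lid_symm_apply]
  rw [h1, h2, counit, G.comp_one, G.one_mul]

theorem lTensor_counit :
    (Algebra.TensorProduct.map (.id R A) G.counit).comp G.comul =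
      (Algebra.TensorProduct.rid R R A).symm := by
  rw [G.comp_comul]
  have h1 : (Algebra.TensorProduct.map (.id R A) G.counit).comp
      (Algebra.TensorProduct.includeRight : A →ₐ[R] A ⊗[R] A) =
      (Algebra.TensorProduct.includeRight : R →ₐ[R] A ⊗[R] R).comp G.counit := by
    apply AlgHom.ext
    intro a
    change Algebra.TensorProduct.map (AlgHom.id R A) G.counit ((1 : A) ⊗ₜ[R] a) =
      (1 : A) ⊗ₜ[R] G.counit a
    rw [Algebra.TensorProduct.map_tmul, map_one]
  have h2 : (Algebra.TensorProduct.map (.id R A) G.counit).comp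
      (Algebra.TensorProduct.includeLeft : A →ₐ[R] A ⊗[R] A) =
      ((Algebra.TensorProduct.rid R R A).symm : A →ₐ[R] A ⊗[R] R) := by
    apply AlgHom.ext
    intro a
    change Algebra.TensorProduct.map (AlgHom.id R A) G.counit (a ⊗ₜ[R] (1 : A)) =
      (Algebra.TensorProduct.rid R R A).symm a
    rw [Algebra.TensorProduct.map_tmul, map_one, AlgHom.id_apply,
      Algebra.TensorProduct.rid_symm_apply]
  rw [h1, h2, counit, G.comp_one, G.mul_one]

/-- The bialgebra structure. -/
noncomputable abbrev bialgebra : Bialgebra R A :=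
  Bialgebra.ofAlgHom G.comul G.counit G.coassoc G.rTensor_counit G.lTensor_counit

theorem comulAlgHom_eq :
    letI := G.bialgebra
    Bialgebra.comulAlgHom R A = G.comul := by
  letI := G.bialgebra
  apply AlgHom.ext
  intro a
  rfl

theorem counitAlgHom_eq :
    letI := G.bialgebra
    Bialgebra.counitAlgHom R A = G.counit := by
  letI := G.bialgebra
  apply AlgHom.ext
  intro a
  rfl

theorem antipode_left :
    letI := G.bialgebra
    (Algebra.TensorProduct.lift G.antipode (.id R A) fun _ ↦ Commute.all _).comp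
      (Bialgebra.comulAlgHom R A) = (Algebra.ofId R A).comp (Bialgebra.counitAlgHom R A) := by
  letI := G.bialgebra
  rw [G.comulAlgHom_eq, G.counitAlgHom_eq, G.comp_comul, counit, G.comp_one]
  have h1 : (Algebra.TensorProduct.lift G.antipode (.id R A) fun _ ↦ Commute.all _).comp
      (Algebra.TensorProduct.includeLeft : A →ₐ[R] A ⊗[R] A) = G.antipode :=
    Algebra.TensorProduct.lift_comp_includeLeft _ _ _
  have h2 : (Algebra.TensorProduct.lift G.antipode (.id R A) fun _ ↦ Commute.all _).comp
      (Algebra.TensorProduct.includeRight : A →ₐ[R] A ⊗[R] A) = AlgHom.id R A :=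
    Algebra.TensorProduct.lift_comp_includeRight _ _ (fun _ _ ↦ Commute.all _ _)
  rw [h1, h2, antipode, G.inv_mul]

theorem antipode_right :
    letI := G.bialgebra
    (Algebra.TensorProduct.lift (.id R A) G.antipode fun _ _ ↦ Commute.all _ _).comp
      (Bialgebra.comulAlgHom R A) = (Algebra.ofId R A).comp (Bialgebra.counitAlgHom R A) := by
  letI := G.bialgebra
  rw [G.comulAlgHom_eq, G.counitAlgHom_eq, G.comp_comul, counit, G.comp_one]
  have h1 : (Algebra.TensorProduct.lift (.id R A) G.antipode fun _ _ ↦ Commute.all _ _).comp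
      (Algebra.TensorProduct.includeLeft : A →ₐ[R] A ⊗[R] A) = AlgHom.id R A :=
    Algebra.TensorProduct.lift_comp_includeLeft _ _ _
  have h2 : (Algebra.TensorProduct.lift (.id R A) G.antipode fun _ _ ↦ Commute.all _ _).comp
      (Algebra.TensorProduct.includeRight : A →ₐ[R] A ⊗[R] A) = G.antipode :=
    Algebra.TensorProduct.lift_comp_includeRight _ _ (fun _ _ ↦ Commute.all _ _)
  rw [h1, h2, antipode, G.mul_inv]

/-- The Hopf algebra structure. -/
noncomputable abbrev hopfAlgebra : HopfAlgebra R A :=
  letI := G.bialgebra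
  HopfAlgebra.ofAlgHom G.antipode G.antipode_left G.antipode_right

/-- For the Hopf algebra structure of `G`, convolution of points is the multiplication of `G`. -/
theorem convMul_eq (T : Type u) [CommRing T] [Algebra R T] (φ ψ : A →ₐ[R] T) :
    letI := G.hopfAlgebra
    WithConv.toConv φ * WithConv.toConv ψ = WithConv.toConv (G.mul T φ ψ) := by
  letI := G.hopfAlgebra
  rw [AlgHom.convMul_def]
  congr 1
  rw [WithConv.ofConv_toConv, WithConv.ofConv_toConv, G.comulAlgHom_eq, ← AlgHom.comp_assoc,
    G.comp_comul]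
  congr 1
  · apply AlgHom.ext
    intro a
    change Algebra.TensorProduct.lmul' R (Algebra.TensorProduct.map φ ψ (a ⊗ₜ[R] (1 : A))) = φ a
    rw [Algebra.TensorProduct.map_tmul, map_one, Algebra.TensorProduct.lmul'_apply_tmul, _root_.mul_one]
  · apply AlgHom.ext
    intro a
    change Algebra.TensorProduct.lmul' R (Algebra.TensorProduct.map φ ψ ((1 : A) ⊗ₜ[R] a)) = ψ a
    rw [Algebra.TensorProduct.map_tmul, map_one, Algebra.TensorProduct.lmul'_apply_tmul, _root_.one_mul]

end PointGroup

section Hom

open WithConv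

variable {R : Type u} [CommRing R] {A B : Type u} [CommRing A] [HopfAlgebra R A]
  [CommRing B] [HopfAlgebra R B]

/-- An algebra map between commutative Hopf algebras which is multiplicative on points is a
bialgebra map. -/
theorem exists_bialgHom_of_conv (f : A →ₐ[R] B)
    (h : ∀ (T : Type u) [CommRing T] [Algebra R T] (φ ψ : B →ₐ[R] T),
      (ofConv (toConv φ * toConv ψ)).comp f =
        ofConv (toConv (φ.comp f) * toConv (ψ.comp f))) :
    ∃ F : A →ₐc[R] B, ∀ a, F a = f a := by
  have hcomul : (Algebra.TensorProduct.map f f).comp (Bialgebra.comulAlgHom R A) =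
      (Bialgebra.comulAlgHom R B).comp f := by
    have h1 := h (B ⊗[R] B) Algebra.TensorProduct.includeLeft Algebra.TensorProduct.includeRight
    rw [AlgHom.convMul_def, AlgHom.convMul_def] at h1
    have e1 : (Algebra.TensorProduct.lmul' R).comp
        (Algebra.TensorProduct.map (Algebra.TensorProduct.includeLeft : B →ₐ[R] B ⊗[R] B)
          (Algebra.TensorProduct.includeRight : B →ₐ[R] B ⊗[R] B)) = AlgHom.id R (B ⊗[R] B) := by
      apply Algebra.TensorProduct.ext
      · apply AlgHom.ext
        intro b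
        change Algebra.TensorProduct.lmul' R (Algebra.TensorProduct.map
          (Algebra.TensorProduct.includeLeft : B →ₐ[R] B ⊗[R] B)
          (Algebra.TensorProduct.includeRight : B →ₐ[R] B ⊗[R] B) (b ⊗ₜ[R] (1 : B))) = b ⊗ₜ[R] 1
        rw [Algebra.TensorProduct.map_tmul, map_one, Algebra.TensorProduct.lmul'_apply_tmul,
          mul_one]
        rfl
      · apply AlgHom.ext
        intro b
        change Algebra.TensorProduct.lmul' R (Algebra.TensorProduct.map
          (Algebra.TensorProduct.includeLeft : B →ₐ[R] B ⊗[R] B)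
          (Algebra.TensorProduct.includeRight : B →ₐ[R] B ⊗[R] B) ((1 : B) ⊗ₜ[R] b)) = 1 ⊗ₜ[R] b
        rw [Algebra.TensorProduct.map_tmul, map_one, Algebra.TensorProduct.lmul'_apply_tmul,
          one_mul]
        rfl
    have e2 : (Algebra.TensorProduct.lmul' R).comp
        (Algebra.TensorProduct.map
          ((Algebra.TensorProduct.includeLeft : B →ₐ[R] B ⊗[R] B).comp f)
          ((Algebra.TensorProduct.includeRight : B →ₐ[R] B ⊗[R] B).comp f)) =
        Algebra.TensorProduct.map f f := by
      apply Algebra.TensorProduct.ext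
      · apply AlgHom.ext
        intro a
        change Algebra.TensorProduct.lmul' R (Algebra.TensorProduct.map
          ((Algebra.TensorProduct.includeLeft : B →ₐ[R] B ⊗[R] B).comp f)
          ((Algebra.TensorProduct.includeRight : B →ₐ[R] B ⊗[R] B).comp f) (a ⊗ₜ[R] (1 : A))) =
          Algebra.TensorProduct.map f f (a ⊗ₜ[R] (1 : A))
        rw [Algebra.TensorProduct.map_tmul, Algebra.TensorProduct.map_tmul, map_one, map_one,
          Algebra.TensorProduct.lmul'_apply_tmul, mul_one]
        rfl
      · apply AlgHom.ext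
        intro a
        change Algebra.TensorProduct.lmul' R (Algebra.TensorProduct.map
          ((Algebra.TensorProduct.includeLeft : B →ₐ[R] B ⊗[R] B).comp f)
          ((Algebra.TensorProduct.includeRight : B →ₐ[R] B ⊗[R] B).comp f) ((1 : A) ⊗ₜ[R] a)) =
          Algebra.TensorProduct.map f f ((1 : A) ⊗ₜ[R] a)
        rw [Algebra.TensorProduct.map_tmul, Algebra.TensorProduct.map_tmul, map_one, map_one,
          Algebra.TensorProduct.lmul'_apply_tmul, one_mul]
        rfl
    rw [← AlgHom.comp_assoc, e1, AlgHom.id_comp, ← AlgHom.comp_assoc, e2] at h1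
    exact h1.symm
  have hcounit : (Bialgebra.counitAlgHom R B).comp f = Bialgebra.counitAlgHom R A := by
    have hB : toConv (Bialgebra.counitAlgHom R B) = (1 : WithConv (B →ₐ[R] R)) := by
      rw [AlgHom.convOne_def]
      congr 1
    have hA : toConv (Bialgebra.counitAlgHom R A) = (1 : WithConv (A →ₐ[R] R)) := by
      rw [AlgHom.convOne_def]
      congr 1
    have h1 := h R (Bialgebra.counitAlgHom R B) (Bialgebra.counitAlgHom R B)
    rw [hB, mul_one, ← hB, ofConv_toConv] at h1
    have h2 : toConv ((Bialgebra.counitAlgHom R B).comp f) =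
        toConv ((Bialgebra.counitAlgHom R B).comp f) *
          toConv ((Bialgebra.counitAlgHom R B).comp f) := by
      conv_lhs => rw [h1]
    have h3 : toConv ((Bialgebra.counitAlgHom R B).comp f) = 1 := by
      have := congrArg (fun y => (toConv ((Bialgebra.counitAlgHom R B).comp f))⁻¹ * y) h2
      simp only [inv_mul_cancel, ← mul_assoc, one_mul] at this
      exact this.symm
    rw [← hA] at h3
    exact toConv_injective h3
  exact ⟨BialgHom.ofAlgHom f hcounit hcomul, fun a => rfl⟩

end Hom

end Groth.Agent.Lib.Helper25.DescY
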