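import Groth.Agent.Lib.Helper25DescRepB
import Groth.Agent.Lib.Helper25DescY

set_option autoImplicit false
set_option linter.unusedSectionVars false
set_option linter.style.haveILetI false
universe u

namespace Groth.Agent.Lib.Helper25.Desc

open TensorProduct Groth.Agent.Lib.Helper25 DescGL DescY

namespace Datum

variable {R : Type u} [CommRing R] (D : Datum R) {T : Type u} [CommRing T] [Algebra R T]

theorem isGroupLikeElem_Ψ_single (i j : D.ι) (T' : Type u) [CommRing T'] [Algebra R T']
    (a : D.P i →ₐ[R] T') (b : D.P j →ₐ[R] T') (m : D.M j) :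
    IsGroupLikeElem T' (D.Ψ i j T' a b (MonoidAlgebra.single m 1)) :=
  (isGroupLikeElem_single (T := T') m).map (D.Ψ i j T' a b)

theorem Compat.mul {χ χ' : ∀ i, D.M i →* D.P i ⊗[R] T} (hχ : D.Compat T χ)
    (hχ' : D.Compat T χ') : D.Compat T (fun i => χ i * χ' i) := by
  intro i j T' _ _ a b f m
  change MonoidAlgebra.lift T' T' (D.M i)
    ((D.pf T a f : D.P i ⊗[R] T →* T').comp (χ i * χ' i)) _ = D.pf T b f ((χ j * χ' j) m)
  rw [MonoidHom.comp_mul, lift_mul_groupLike _ _ (D.isGroupLikeElem_Ψ_single i j T' a b m),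
    hχ i j T' a b f m, hχ' i j T' a b f m, MonoidHom.mul_apply, map_mul]

theorem Compat.one : D.Compat T (fun i => (1 : D.M i →* D.P i ⊗[R] T)) := by
  intro i j T' _ _ a b f m
  change MonoidAlgebra.lift T' T' (D.M i)
    ((D.pf T a f : D.P i ⊗[R] T →* T').comp (1 : D.M i →* D.P i ⊗[R] T)) _ =
      D.pf T b f ((1 : D.M j →* D.P j ⊗[R] T) m)
  rw [MonoidHom.comp_one, lift_one_groupLike (D.isGroupLikeElem_Ψ_single i j T' a b m),
    MonoidHom.one_apply, map_one]

/-- The inverse character. -/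
noncomputable def invChar {G X : Type u} [CommGroup G] [CommRing X] (χ : G →* X) : G →* X :=
  χ.comp (invMonoidHom : G →* G)

theorem invChar_mul {G X : Type u} [CommGroup G] [CommRing X] (χ : G →* X) :
    invChar χ * χ = 1 := by
  ext g
  rw [MonoidHom.mul_apply, invChar, MonoidHom.comp_apply, invMonoidHom_apply, ← map_mul,
    inv_mul_cancel, map_one, MonoidHom.one_apply]

theorem comp_invChar {G X Y : Type u} [CommGroup G] [CommRing X] [CommRing Y] (v : X →* Y)
    (χ : G →* X) : v.comp (invChar χ) = invChar (v.comp χ) := rfl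

theorem Compat.inv {χ : ∀ i, D.M i →* D.P i ⊗[R] T} (hχ : D.Compat T χ) :
    D.Compat T (fun i => invChar (χ i)) := by
  intro i j T' _ _ a b f m
  change MonoidAlgebra.lift T' T' (D.M i)
    ((D.pf T a f : D.P i ⊗[R] T →* T').comp (invChar (χ i))) _ = D.pf T b f (invChar (χ j) m)
  have hg := D.isGroupLikeElem_Ψ_single i j T' a b m
  set c := D.pf T b f (χ j m) with hc
  have h1 : MonoidAlgebra.lift T' T' (D.M i)
      ((D.pf T a f : D.P i ⊗[R] T →* T').comp (invChar (χ i)))
        (D.Ψ i j T' a b (MonoidAlgebra.single m 1)) * c = 1 := by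
    rw [hc, ← hχ i j T' a b f m, ← lift_mul_groupLike _ _ hg, comp_invChar, invChar_mul,
      lift_one_groupLike hg]
  have h2 : D.pf T b f (invChar (χ j) m) * c = 1 := by
    rw [hc, ← map_mul, ← MonoidHom.mul_apply, invChar_mul, MonoidHom.one_apply, map_one]
  generalize MonoidAlgebra.lift T' T' (D.M i)
      ((D.pf T a f : D.P i ⊗[R] T →* T').comp (invChar (χ i)))
        (D.Ψ i j T' a b (MonoidAlgebra.single m 1)) = X at h1 ⊢
  generalize D.pf T b f (invChar (χ j) m) = Y at h2 ⊢
  calc X = X * (Y * c) := by rw [h2, mul_one]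
    _ = Y * (X * c) := by ring
    _ = Y := by rw [h1, mul_one]

/-- Base change of a family of characters. -/
noncomputable def bcFam {T₁ : Type u} [CommRing T₁] [Algebra R T₁] (f : T →ₐ[R] T₁)
    (χ : ∀ i, D.M i →* D.P i ⊗[R] T) (i : D.ι) : D.M i →* D.P i ⊗[R] T₁ :=
  ((Algebra.TensorProduct.map (AlgHom.id (D.P i) (D.P i)) f :
    D.P i ⊗[R] T →ₐ[D.P i] D.P i ⊗[R] T₁) : D.P i ⊗[R] T →* D.P i ⊗[R] T₁).comp (χ i)

theorem bcFam_mul {T₁ : Type u} [CommRing T₁] [Algebra R T₁] (f : T →ₐ[R] T₁)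
    (χ χ' : ∀ i, D.M i →* D.P i ⊗[R] T) :
    D.bcFam f (fun i => χ i * χ' i) = fun i => D.bcFam f χ i * D.bcFam f χ' i := by
  funext i
  exact MonoidHom.comp_mul _ _ _

theorem toFam_comp {T₁ : Type u} [CommRing T₁] [Algebra R T₁] (f : T →ₐ[R] T₁)
    (φ : D.A →ₐ[R] T) : D.toFam T₁ (f.comp φ) = D.bcFam f (D.toFam T φ) := by
  apply D.toFam_eq_of_forall
  intro i α
  have h : MonoidAlgebra.lift (D.P i) (D.P i ⊗[R] T₁) (D.M i) (D.bcFam f (D.toFam T φ) i) =
      (Algebra.TensorProduct.map (AlgHom.id (D.P i) (D.P i)) f :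
        D.P i ⊗[R] T →ₐ[D.P i] D.P i ⊗[R] T₁).comp
        (MonoidAlgebra.lift (D.P i) (D.P i ⊗[R] T) (D.M i) (D.toFam T φ i)) := by
    apply MonoidAlgebra.algHom_ext
    · intro m
      rw [AlgHom.comp_apply, MonoidAlgebra.lift_single, MonoidAlgebra.lift_single, one_smul,
        one_smul]
      rfl
    · exact Subsingleton.elim _ _
  rw [h, AlgHom.comp_apply, lift_toFam_c, Algebra.TensorProduct.map_tmul]
  rfl

variable (T)

/-- Multiplication of points. -/
noncomputable def pmul (φ ψ : D.A →ₐ[R] T) : D.A →ₐ[R] T :=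
  Classical.choose (D.exists_toFam_eq ((D.compat_toFam T φ).mul D (D.compat_toFam T ψ)))

theorem toFam_pmul (φ ψ : D.A →ₐ[R] T) :
    D.toFam T (D.pmul T φ ψ) = fun i => D.toFam T φ i * D.toFam T ψ i :=
  Classical.choose_spec (D.exists_toFam_eq ((D.compat_toFam T φ).mul D (D.compat_toFam T ψ)))

/-- The unit point. -/
noncomputable def pone : D.A →ₐ[R] T :=
  Classical.choose (D.exists_toFam_eq (Compat.one D (T := T)))

theorem toFam_pone : D.toFam T (D.pone T) = fun i => (1 : D.M i →* D.P i ⊗[R] T) :=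
  Classical.choose_spec (D.exists_toFam_eq (Compat.one D (T := T)))

/-- Inverse of a point. -/
noncomputable def pinv (φ : D.A →ₐ[R] T) : D.A →ₐ[R] T :=
  Classical.choose (D.exists_toFam_eq ((D.compat_toFam T φ).inv D))

theorem toFam_pinv (φ : D.A →ₐ[R] T) :
    D.toFam T (D.pinv T φ) = fun i => invChar (D.toFam T φ i) :=
  Classical.choose_spec (D.exists_toFam_eq ((D.compat_toFam T φ).inv D))

/-- The group structure on the functor of points of `A`. -/
noncomputable def pointGroup : PointGroup R D.A where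
  mul T _ _ φ ψ := D.pmul T φ ψ
  one T _ _ := D.pone T
  inv T _ _ φ := D.pinv T φ
  mul_assoc T _ _ φ ψ χ := by
    apply D.toFam_injective
    rw [toFam_pmul, toFam_pmul, toFam_pmul, toFam_pmul]
    funext i
    exact mul_assoc _ _ _
  one_mul T _ _ φ := by
    apply D.toFam_injective
    rw [toFam_pmul, toFam_pone]
    funext i
    exact one_mul _
  mul_one T _ _ φ := by
    apply D.toFam_injective
    rw [toFam_pmul, toFam_pone]
    funext i
    exact mul_one _
  inv_mul T _ _ φ := by
    apply D.toFam_injective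
    rw [toFam_pmul, toFam_pone, toFam_pinv]
    funext i
    exact invChar_mul _
  mul_inv T _ _ φ := by
    apply D.toFam_injective
    rw [toFam_pmul, toFam_pone, toFam_pinv]
    funext i
    rw [mul_comm]
    exact invChar_mul _
  comp_mul T T' _ _ _ _ f φ ψ := by
    apply D.toFam_injective
    rw [toFam_comp, toFam_pmul, toFam_pmul, bcFam_mul, toFam_comp, toFam_comp]

/-- The Hopf algebra structure on the descended algebra. -/
noncomputable instance hopfAlgebra : HopfAlgebra R D.A := D.pointGroup.hopfAlgebra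

theorem toFam_convMul (φ ψ : D.A →ₐ[R] T) :
    D.toFam T (WithConv.ofConv (WithConv.toConv φ * WithConv.toConv ψ)) =
      fun i => D.toFam T φ i * D.toFam T ψ i := by
  have h := D.pointGroup.convMul_eq T φ ψ
  change WithConv.toConv φ * WithConv.toConv ψ = WithConv.toConv (D.pmul T φ ψ) at h
  rw [h, WithConv.ofConv_toConv, toFam_pmul]

end Datum

end Groth.Agent.Lib.Helper25.Desc
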