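import Groth.Agent.Lib.Helper25DescRepC
import Groth.Agent.Lib.Helper25MultRigidB

set_option autoImplicit false
set_option linter.unusedSectionVars false
set_option linter.style.haveILetI false
universe u

namespace Groth.Agent.Lib.Helper25.Desc

open TensorProduct Groth.Agent.Lib.Helper25 DescGL DescY

section ConvBC

variable {R : Type u} [CommRing R] (S : Type u) [CommRing S] [Algebra R S]
  (A : Type u) [CommRing A] [Bialgebra R A] {T : Type u} [CommRing T] [Algebra S T] [Algebra R T]
  [IsScalarTower R S T]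

/-- Restriction of an `S`-point of `S ⊗ A` to an `R`-point of `A`. -/
noncomputable def restrPt (F : S ⊗[R] A →ₐ[S] T) : A →ₐ[R] T :=
  (F.restrictScalars R).comp Algebra.TensorProduct.includeRight

theorem restrPt_apply (F : S ⊗[R] A →ₐ[S] T) (a : A) : restrPt S A F a = F ((1 : S) ⊗ₜ[R] a) := rfl

theorem lift_bcMap2 (F G : S ⊗[R] A →ₐ[S] T) (z : A ⊗[R] A) :
    Algebra.TensorProduct.lift F G (fun _ _ => Commute.all _ _) (MRB.bcMap2 S A z) =
      Algebra.TensorProduct.lift (restrPt S A F) (restrPt S A G) (fun _ _ => Commute.all _ _) z := by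
  induction z using TensorProduct.induction_on with
  | zero => rw [map_zero, map_zero, map_zero]
  | add x y hx hy => rw [map_add, map_add, map_add, hx, hy]
  | tmul a b =>
    rw [MRB.bcMap2_tmul, Algebra.TensorProduct.lift_tmul, Algebra.TensorProduct.lift_tmul]
    rfl

/-- Convolution of points of a base change, restricted to the original algebra. -/
theorem restrPt_convMul (F G : S ⊗[R] A →ₐ[S] T) :
    restrPt S A (WithConv.ofConv (WithConv.toConv F * WithConv.toConv G)) =
      WithConv.ofConv (WithConv.toConv (restrPt S A F) * WithConv.toConv (restrPt S A G)) := by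
  apply AlgHom.ext
  intro a
  rw [restrPt_apply]
  have h1 := AlgHom.convMul_apply (WithConv.toConv F) (WithConv.toConv G) ((1 : S) ⊗ₜ[R] a)
  have h2 := AlgHom.convMul_apply (WithConv.toConv (restrPt S A F))
    (WithConv.toConv (restrPt S A G)) a
  refine h1.trans (Eq.trans ?_ h2.symm)
  rw [MRB.comul_one_tmul]
  exact lift_bcMap2 S A F G _

end ConvBC

namespace Datum

variable {R : Type u} [CommRing R] (D : Datum R) (k : D.ι)
  (T : Type u) [CommRing T] [Algebra (D.P k) T] [Algebra R T] [IsScalarTower R (D.P k) T]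

/-- The point of `A` attached to a `P k`-point of `P k [M k]`. -/
noncomputable def restr (φ : D.N k →ₐ[D.P k] T) : D.A →ₐ[R] T :=
  (φ.restrictScalars R).comp (D.c k)

theorem restr_apply (φ : D.N k →ₐ[D.P k] T) (α : D.A) : D.restr k T φ α = φ (D.c k α) := rfl

/-- The structure map of `T` as a point of `P k`. -/
noncomputable abbrev strPt : D.P k →ₐ[R] T := IsScalarTower.toAlgHom R (D.P k) T

theorem pf_strPt_lift (φ : D.N k →ₐ[D.P k] T) (y : D.N k) :
    D.pf T (D.strPt k T) (AlgHom.id R T)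
      (MonoidAlgebra.lift (D.P k) (D.P k ⊗[R] T) (D.M k) (D.toFam T (D.restr k T φ) k) y) = φ y := by
  refine D.ringHom_ext_N k
    ((D.pf T (D.strPt k T) (AlgHom.id R T)).toRingHom.comp
      (MonoidAlgebra.lift (D.P k) (D.P k ⊗[R] T) (D.M k)
        (D.toFam T (D.restr k T φ) k)).toRingHom) φ.toRingHom ?_ ?_ y
  · intro p
    change D.pf T (D.strPt k T) (AlgHom.id R T)
      (MonoidAlgebra.lift (D.P k) (D.P k ⊗[R] T) (D.M k) (D.toFam T (D.restr k T φ) k)
        (algebraMap (D.P k) (D.N k) p)) = φ (algebraMap (D.P k) (D.N k) p)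
    rw [AlgHom.commutes, AlgHom.commutes, pf_algebraMap]
    rfl
  · intro α
    change D.pf T (D.strPt k T) (AlgHom.id R T)
      (MonoidAlgebra.lift (D.P k) (D.P k ⊗[R] T) (D.M k) (D.toFam T (D.restr k T φ) k)
        (D.c k α)) = φ (D.c k α)
    rw [lift_toFam_c, pf_tmul, map_one, one_mul]
    rfl

/-- The character of `M k` in `T` attached to `φ`. -/
noncomputable def charOf (φ : D.N k →ₐ[D.P k] T) : D.M k →* T :=
  (MonoidAlgebra.lift (D.P k) T (D.M k)).symm φ

theorem charOf_apply (φ : D.N k →ₐ[D.P k] T) (m : D.M k) :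
    D.charOf k T φ m = φ (MonoidAlgebra.single m 1) := rfl

theorem pf_strPt_toFam (φ : D.N k →ₐ[D.P k] T) (m : D.M k) :
    D.pf T (D.strPt k T) (AlgHom.id R T) (D.toFam T (D.restr k T φ) k m) = D.charOf k T φ m := by
  have h := D.pf_strPt_lift k T φ (MonoidAlgebra.single m 1)
  rw [MonoidAlgebra.lift_single, one_smul] at h
  exact h

/-- The family of characters of `restr φ` in terms of the character of `φ`. -/
theorem toFam_restr (φ : D.N k →ₐ[D.P k] T) (i : D.ι) (m : D.M i) :
    D.toFam T (D.restr k T φ) i m =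
      MonoidAlgebra.lift (D.P i ⊗[R] T) (D.P i ⊗[R] T) (D.M k)
        (((Algebra.TensorProduct.includeRight : T →ₐ[R] D.P i ⊗[R] T) : T →* D.P i ⊗[R] T).comp
          (D.charOf k T φ))
        (D.Ψ k i (D.P i ⊗[R] T)
          ((Algebra.TensorProduct.includeRight : T →ₐ[R] D.P i ⊗[R] T).comp (D.strPt k T))
          (Algebra.TensorProduct.includeLeft : D.P i →ₐ[R] D.P i ⊗[R] T)
          (MonoidAlgebra.single m 1)) := by
  have h := D.compat_toFam T (D.restr k T φ) k i (D.P i ⊗[R] T)
    ((Algebra.TensorProduct.includeRight : T →ₐ[R] D.P i ⊗[R] T).comp (D.strPt k T))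
    (Algebra.TensorProduct.includeLeft : D.P i →ₐ[R] D.P i ⊗[R] T)
    (Algebra.TensorProduct.includeRight : T →ₐ[R] D.P i ⊗[R] T) m
  have h1 : D.pf T (Algebra.TensorProduct.includeLeft : D.P i →ₐ[R] D.P i ⊗[R] T)
      (Algebra.TensorProduct.includeRight : T →ₐ[R] D.P i ⊗[R] T) =
      AlgHom.id R (D.P i ⊗[R] T) := by
    apply Algebra.TensorProduct.ext'
    intro p t
    rw [pf_tmul]
    change (p ⊗ₜ[R] (1 : T)) * ((1 : D.P i) ⊗ₜ[R] t) = p ⊗ₜ[R] t
    rw [Algebra.TensorProduct.tmul_mul_tmul, mul_one, one_mul]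
  have h2 : (D.pf T ((Algebra.TensorProduct.includeRight : T →ₐ[R] D.P i ⊗[R] T).comp
      (D.strPt k T)) (Algebra.TensorProduct.includeRight : T →ₐ[R] D.P i ⊗[R] T) :
        D.P k ⊗[R] T →* D.P i ⊗[R] T).comp (D.toFam T (D.restr k T φ) k) =
      ((Algebra.TensorProduct.includeRight : T →ₐ[R] D.P i ⊗[R] T) : T →* D.P i ⊗[R] T).comp
          (D.charOf k T φ) := by
    have h3 : D.pf T ((Algebra.TensorProduct.includeRight : T →ₐ[R] D.P i ⊗[R] T).comp
        (D.strPt k T)) (Algebra.TensorProduct.includeRight : T →ₐ[R] D.P i ⊗[R] T) =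
        (Algebra.TensorProduct.includeRight : T →ₐ[R] D.P i ⊗[R] T).comp
          (D.pf T (D.strPt k T) (AlgHom.id R T)) := by
      apply Algebra.TensorProduct.ext'
      intro p t
      rw [pf_tmul]
      change _ = (Algebra.TensorProduct.includeRight : T →ₐ[R] D.P i ⊗[R] T)
        (D.pf T (D.strPt k T) (AlgHom.id R T) (p ⊗ₜ[R] t))
      rw [pf_tmul, map_mul]
      rfl
    ext m'
    rw [MonoidHom.comp_apply, MonoidHom.comp_apply, ← pf_strPt_toFam, h3]
    rfl
  rw [h1, h2] at h
  exact h.symm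

theorem charOf_convMul (φ ψ : D.N k →ₐ[D.P k] T) :
    D.charOf k T (WithConv.ofConv (WithConv.toConv φ * WithConv.toConv ψ)) =
      D.charOf k T φ * D.charOf k T ψ := by
  ext m
  rw [charOf_apply, MonoidHom.mul_apply, charOf_apply, charOf_apply]
  have h1 := AlgHom.convMul_apply (WithConv.toConv φ) (WithConv.toConv ψ)
    (MonoidAlgebra.single m (1 : D.P k))
  refine h1.trans ?_
  rw [MonoidAlgebra.comul_single]
  simp

theorem restr_convMul (φ ψ : D.N k →ₐ[D.P k] T) :
    D.restr k T (WithConv.ofConv (WithConv.toConv φ * WithConv.toConv ψ)) =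
      WithConv.ofConv (WithConv.toConv (D.restr k T φ) * WithConv.toConv (D.restr k T ψ)) := by
  apply D.toFam_injective
  rw [toFam_convMul]
  funext i
  ext m
  rw [toFam_restr, MonoidHom.mul_apply, toFam_restr, toFam_restr, charOf_convMul,
    MonoidHom.comp_mul, lift_mul_groupLike _ _ (D.isGroupLikeElem_Ψ_single k i _ _ _ m)]

theorem restrPt_comp_β (φ : D.N k →ₐ[D.P k] T) :
    restrPt (D.P k) D.A (φ.comp (D.β k)) = D.restr k T φ := by
  apply AlgHom.ext
  intro α
  rw [restrPt_apply, restr_apply, AlgHom.comp_apply, β_tmul, one_smul]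

theorem conv_β (φ ψ : D.N k →ₐ[D.P k] T) :
    (WithConv.ofConv (WithConv.toConv φ * WithConv.toConv ψ)).comp (D.β k) =
      WithConv.ofConv (WithConv.toConv (φ.comp (D.β k)) * WithConv.toConv (ψ.comp (D.β k))) := by
  apply Algebra.TensorProduct.ext
  · exact Subsingleton.elim _ _
  · have h1 := restrPt_convMul (D.P k) D.A (φ.comp (D.β k)) (ψ.comp (D.β k))
    rw [restrPt_comp_β, restrPt_comp_β, ← restr_convMul, ← restrPt_comp_β] at h1
    exact h1.symm

end Datum

namespace Datum

variable {R : Type u} [CommRing R] (D : Datum R) (k : D.ι)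

theorem exists_βBialgHom :
    ∃ F : D.P k ⊗[R] D.A →ₐc[D.P k] D.N k, ∀ z, F z = D.β k z := by
  apply exists_bialgHom_of_conv (R := D.P k) (D.β k)
  intro T _ _ φ ψ
  letI : Algebra R T := Algebra.compHom T (algebraMap R (D.P k))
  haveI : IsScalarTower R (D.P k) T := IsScalarTower.of_algebraMap_eq (fun _ => rfl)
  exact D.conv_β k T φ ψ

/-- The bialgebra isomorphism `P k ⊗ A ≃ P k [M k]`. -/
noncomputable def βBialgEquiv : D.P k ⊗[R] D.A ≃ₐc[D.P k] D.N k :=
  BialgEquiv.ofBijective (Classical.choose (D.exists_βBialgHom k)) (by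
    have h := Classical.choose_spec (D.exists_βBialgHom k)
    have : ⇑(Classical.choose (D.exists_βBialgHom k)) = ⇑(D.β k) := funext h
    rw [this]
    exact D.β_bijective k)

theorem βBialgEquiv_apply (z : D.P k ⊗[R] D.A) : D.βBialgEquiv k z = D.β k z :=
  Classical.choose_spec (D.exists_βBialgHom k) z

theorem βBialgEquiv_one_tmul (α : D.A) : D.βBialgEquiv k ((1 : D.P k) ⊗ₜ[R] α) = D.c k α := by
  rw [βBialgEquiv_apply, β_tmul, one_smul]

end Datum

end Groth.Agent.Lib.Helper25.Desc
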