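import Mathlib

/-!
# A saturated subring of an integrally closed domain is integrally closed (helper25)
-/

noncomputable section

namespace Groth.Agent.Lib.Helper25.NormalSub

open Polynomial

/-- if `A ↪ P` with `P` integrally closed and `A` saturated in `P` (`b x = a` with `a, b ∈ A`,
`b ≠ 0`, `x ∈ P` forces `x ∈ A`), then `A` is integrally closed. -/
theorem isIntegrallyClosed_of_saturated {A P : Type*} [CommRing A] [IsDomain A] [CommRing P]
    [IsDomain P] [IsIntegrallyClosed P] (φ : A →+* P) (hφ : Function.Injective φ)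
    (hsat : ∀ a b : A, b ≠ 0 → ∀ x : P, φ b * x = φ a → ∃ y : A, φ y = x) :
    IsIntegrallyClosed A := by
  classical
  rw [isIntegrallyClosed_iff (FractionRing A)]
  intro α hα
  obtain ⟨f, hf⟩ : ∃ f : A →+* FractionRing A, f = algebraMap A (FractionRing A) := ⟨_, rfl⟩
  have hfinj : Function.Injective f := by
    rw [hf]; exact IsFractionRing.injective A (FractionRing A)
  have hginj : Function.Injective ((algebraMap P (FractionRing P)).comp φ) :=
    (IsFractionRing.injective P (FractionRing P)).comp hφ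
  obtain ⟨ψ, hψ⟩ : ∃ ψ : FractionRing A →+* FractionRing P, ψ = IsFractionRing.lift hginj := ⟨_, rfl⟩
  have hψf : ∀ a : A, ψ (f a) = algebraMap P (FractionRing P) (φ a) := fun a => by
    rw [hψ, hf]; exact IsFractionRing.lift_algebraMap hginj a
  have hψinj : Function.Injective ψ := ψ.injective
  obtain ⟨Q, hQm, hQα⟩ := hα
  rw [← hf] at hQα
  have hint : IsIntegral P (ψ α) := by
    refine ⟨Q.map φ, hQm.map φ, ?_⟩
    rw [Polynomial.eval₂_map]
    have h1 : ((algebraMap P (FractionRing P)).comp φ) = ψ.comp f := by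
      ext a
      rw [RingHom.comp_apply, RingHom.comp_apply, hψf]
    rw [h1, ← Polynomial.hom_eval₂, hQα, map_zero]
  obtain ⟨x, hx⟩ := IsIntegrallyClosed.isIntegral_iff.mp hint
  -- write `α = a / b`
  obtain ⟨a, b, hb, hab⟩ : ∃ a b : A, b ≠ 0 ∧ f b * α = f a := by
    obtain ⟨a, b, hb, hα'⟩ := IsFractionRing.div_surjective (A := A) α
    refine ⟨a, b, nonZeroDivisors.ne_zero hb, ?_⟩
    rw [← hα', hf]
    have hb' : algebraMap A (FractionRing A) b ≠ 0 := by
      rw [Ne, map_eq_zero_iff _ (IsFractionRing.injective A (FractionRing A))]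
      exact nonZeroDivisors.ne_zero hb
    field_simp
  have h2 : φ b * x = φ a := by
    apply IsFractionRing.injective P (FractionRing P)
    rw [map_mul, hx, ← hψf, ← hψf, ← map_mul, hab]
  obtain ⟨y, hy⟩ := hsat a b hb x h2
  refine ⟨y, ?_⟩
  rw [← hf]
  have hfb : f b ≠ 0 := fun h => hb (hfinj (by rw [h, map_zero]))
  apply mul_left_cancel₀ hfb
  rw [hab, ← map_mul]
  congr 1
  apply hφ
  rw [map_mul, hy, h2]

end Groth.Agent.Lib.Helper25.NormalSub
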