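import Mathlib
import Groth.Prelude.Def_W4bk4grassmannianPl
import Groth.Prelude.Def_CAlgX
import Groth.Agent.Lib.Helper25BitabSFT
import Groth.Agent.Lib.Helper25BitabFFT
import Groth.Agent.Lib.Helper25NormalSub

/-!
# Determinantal rings: domain, normality, and dehomogenization of the Schubert cone (helper25)
-/

noncomputable section

open MvPolynomial W4bk4grassmannian

namespace Groth.Agent.Lib.Helper25.DetRing

open Groth.Agent.Lib.Helper25.Grass Groth.Agent.Lib.Helper25.Bitab

/-- a quotient by the kernel of a map to a domain is a domain -/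
theorem isDomain_quot_of_ker_eq {R P : Type*} [CommRing R] [CommRing P] [IsDomain P]
    (f : R →+* P) (I : Ideal R) (hI : RingHom.ker f = I) : IsDomain (R ⧸ I) := by
  subst hI
  have : (RingHom.ker f).IsPrime := RingHom.ker_isPrime f
  exact Ideal.Quotient.isDomain _

/-- if the image of `f : R → P` is the ring of invariants of a family of endomorphisms of an
integrally closed domain `P`, then `R / ker f` is integrally closed. -/
theorem isIntegrallyClosed_quot_of_invariants {R P : Type*} [CommRing R] [CommRing P] [IsDomain P]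
    [IsIntegrallyClosed P] (f : R →+* P) (I : Ideal R) (hI : RingHom.ker f = I) {G : Type*}
    (σ : G → P →+* P) (hinv : ∀ x : P, (∀ g, σ g x = x) ↔ x ∈ f.range) :
    IsIntegrallyClosed (R ⧸ I) := by
  subst hI
  have : (RingHom.ker f).IsPrime := RingHom.ker_isPrime f
  have : IsDomain (R ⧸ RingHom.ker f) := Ideal.Quotient.isDomain _
  apply Groth.Agent.Lib.Helper25.NormalSub.isIntegrallyClosed_of_saturated (RingHom.kerLift f)
    (RingHom.kerLift_injective f)
  intro a b hb x hx
  have hfix : ∀ (c : R ⧸ RingHom.ker f) (g : G), σ g (RingHom.kerLift f c) = RingHom.kerLift f c := by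
    intro c g
    obtain ⟨c, rfl⟩ := Ideal.Quotient.mk_surjective c
    rw [RingHom.kerLift_mk]
    exact (hinv (f c)).mpr ⟨c, rfl⟩ g
  have hb' : RingHom.kerLift f b ≠ 0 := by
    intro h
    apply hb
    apply RingHom.kerLift_injective f
    rw [h, map_zero]
  have hxinv : ∀ g, σ g x = x := by
    intro g
    apply mul_left_cancel₀ hb'
    rw [hx, ← hfix b g, ← map_mul, hx, hfix]
  obtain ⟨y, hy⟩ := (hinv x).mp hxinv
  exact ⟨Ideal.Quotient.mk _ y, by rw [RingHom.kerLift_mk, hy]⟩

variable (K : Type*) [Field K]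

theorem ker_pairingMap' [Infinite K] (m n t : ℕ) (ht : 1 ≤ t) :
    RingHom.ker (pairingMap K (t - 1) m n).toRingHom = CAlgX.minorIdeal (genMatrix K m n) t := by
  have := ker_pairingMap K (t - 1) m n
  rwa [Nat.sub_add_cancel ht] at this

/-- determinantal rings are domains -/
theorem isDomain_detRing [Infinite K] (m n t : ℕ) (ht : 1 ≤ t) :
    IsDomain (MvPolynomial (Fin m × Fin n) K ⧸ CAlgX.minorIdeal (genMatrix K m n) t) :=
  isDomain_quot_of_ker_eq (pairingMap K (t - 1) m n).toRingHom _ (ker_pairingMap' K m n t ht)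

/-- determinantal rings are integrally closed -/
theorem isIntegrallyClosed_detRing [IsAlgClosed K] (m n t : ℕ) (ht : 1 ≤ t) :
    IsIntegrallyClosed (MvPolynomial (Fin m × Fin n) K ⧸ CAlgX.minorIdeal (genMatrix K m n) t) := by
  apply isIntegrallyClosed_quot_of_invariants (pairingMap K (t - 1) m n).toRingHom _
    (ker_pairingMap' K m n t ht) (fun A : GL (Fin (t - 1)) K => (glTranslate K (t - 1) m n A).toRingHom)
  intro x
  exact fft_gl K x


/-! ### dehomogenization of the Schubert cone `X(τ_t)` -/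

variable {d r : ℕ}

/-- the least index -/
abbrev io (hr : 0 < r) : Idx d (d + r) := iotaIdx (Nat.lt_add_of_pos_right hr : d < d + r)

/-- `I(τ_t) + (X_ι - 1)` -/
def Qid (hr : 0 < r) (t : ℕ) (ht : t ≤ r + 1) : Ideal (PlRing K d (d + r)) :=
  plIdeal K (tauT d r t ht) ⊔ Ideal.span {(X (io hr) : PlRing K d (d + r)) - 1}

/-- the comorphism of the cell inclusion, modulo `I_t` -/
def psi (t : ℕ) : PlRing K d (d + r) →ₐ[K]
    (MvPolynomial (Fin r × Fin d) K ⧸ CAlgX.minorIdeal (genMatrix K r d) t) :=
  (Ideal.Quotient.mkₐ K _).comp (zMap K)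

theorem psi_apply (t : ℕ) (F : PlRing K d (d + r)) :
    psi K t F = Ideal.Quotient.mk _ (zMap K F) := rfl

theorem psi_surjective (hr : 0 < r) (t : ℕ) : Function.Surjective (psi (d := d) (r := r) K t) := by
  intro y
  obtain ⟨f, rfl⟩ := Ideal.Quotient.mk_surjective y
  obtain ⟨F, rfl⟩ := zMap_surjective K hr f
  exact ⟨F, rfl⟩

theorem Qid_le_ker [Infinite K] (hr : 0 < r) (t : ℕ) (ht1 : 1 ≤ t) (ht : t ≤ r + 1) :
    Qid (d := d) K hr t ht ≤ RingHom.ker (psi (d := d) (r := r) K t) := by
  unfold Qid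
  rw [sup_le_iff]
  constructor
  · intro F hF
    rw [RingHom.mem_ker, psi_apply, Ideal.Quotient.eq_zero_iff_mem]
    exact zMap_mem_of_mem_plIdeal K t hr ht1 ht F hF
  · rw [Ideal.span_le, Set.singleton_subset_iff, SetLike.mem_coe, RingHom.mem_ker, psi_apply,
      map_sub, zMap_X, map_one, zMinor_iota K hr, sub_self, map_zero]

theorem mk_X_io (hr : 0 < r) (t : ℕ) (ht : t ≤ r + 1) :
    Ideal.Quotient.mk (Qid (d := d) K hr t ht) (X (io hr)) = 1 := by
  rw [← map_one (Ideal.Quotient.mk (Qid (d := d) K hr t ht)), Ideal.Quotient.eq]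
  exact Ideal.mem_sup_right (Ideal.subset_span rfl)

variable {t : ℕ}

/-- a chain below `τ_t` avoiding the least index is the chain of a standard bitableau -/
theorem exists_stdBit_of_free' (hr : 0 < r) (ht1 : 1 ≤ t) (ht : t ≤ r + 1) {k : ℕ}
    (c : Fin k → Idx d (d + r)) (hc : Antitone c) (hle : ∀ i, c i ≤ tauT d r t ht)
    (hfree : ∀ i, c i ≠ io hr) :
    ∃ (b : StdBit r d t), chainMon K (chOf b) = chainMon K c := by
  choose Mf hMf using fun i => exists_thetaOf_eq (c i) (cnt_lt_of_ne_iota hr (c i) (hfree i))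
  have h1 : ∀ i : Fin k, (Mf (Fin.rev i)).1 + 1 ≤ t - 1 := by
    intro i
    rw [← thetaOf_le_tauT_iff t ht1 ht, hMf]
    exact hle _
  have h2 : ∀ i j : Fin k, i < j → MinorGE (Mf (Fin.rev i)) (Mf (Fin.rev j)) := by
    intro i j hij
    rw [← thetaOf_le_iff, hMf, hMf]
    exact hc (le_of_lt (Fin.rev_lt_rev.mpr hij))
  let b : StdBit r d t := ⟨k, ⟨fun j => Mf (Fin.rev j), h1, h2⟩⟩
  have hch : chOf b = c := by
    funext i
    show thetaOf (Mf (Fin.rev (Fin.rev i))) = c i
    rw [Fin.rev_rev, hMf]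
  exact ⟨b, by rw [hch]⟩

theorem mk_chainMon_mem_span (hr : 0 < r) (ht1 : 1 ≤ t) (ht : t ≤ r + 1) :
    ∀ (k : ℕ) (c : Fin k → Idx d (d + r)), Antitone c → (∀ i, c i ≤ tauT d r t ht) →
      Ideal.Quotient.mk (Qid (d := d) K hr t ht) (chainMon K c) ∈
        Submodule.span K (Set.range fun b : StdBit r d t =>
          Ideal.Quotient.mk (Qid (d := d) K hr t ht) (chainMon K (chOf b))) := by
  have hfreecase : ∀ (k : ℕ) (c : Fin k → Idx d (d + r)), Antitone c → (∀ i, c i ≤ tauT d r t ht) →
      (∀ i, c i ≠ io hr) →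
      Ideal.Quotient.mk (Qid (d := d) K hr t ht) (chainMon K c) ∈
        Submodule.span K (Set.range fun b : StdBit r d t =>
          Ideal.Quotient.mk (Qid (d := d) K hr t ht) (chainMon K (chOf b))) := by
    intro k c hc hle hfree
    obtain ⟨b, h⟩ := exists_stdBit_of_free' K hr ht1 ht c hc hle hfree
    rw [← h]
    exact Submodule.subset_span ⟨b, rfl⟩
  intro k
  induction k with
  | zero =>
    intro c hc hle
    exact hfreecase 0 c hc hle (fun i => i.elim0)
  | succ k ih =>
    intro c hc hle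
    by_cases hlast : c (Fin.last k) = io hr
    · have e : Ideal.Quotient.mk (Qid (d := d) K hr t ht) (chainMon K c) =
          Ideal.Quotient.mk (Qid (d := d) K hr t ht)
            (chainMon K (fun i : Fin k => c (Fin.castSucc i))) := by
        unfold chainMon
        rw [Fin.prod_univ_castSucc, map_mul, hlast, mk_X_io, mul_one]
      rw [e]
      apply ih
      · intro i j hij
        exact hc (Fin.castSucc_le_castSucc_iff.mpr hij)
      · intro i
        exact hle _
    · apply hfreecase (k + 1) c hc hle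
      intro i hi
      apply hlast
      apply le_antisymm _ (iota_le _ _)
      have h3 : c (Fin.last k) ≤ c i := hc (Fin.le_last i)
      rw [hi] at h3
      exact h3

/-- the classes of the standard-bitableau monomials span `S / Q` -/
theorem mk_mem_span (hr : 0 < r) (ht1 : 1 ≤ t) (ht : t ≤ r + 1) (F : PlRing K d (d + r)) :
    Ideal.Quotient.mk (Qid (d := d) K hr t ht) F ∈
      Submodule.span K (Set.range fun b : StdBit r d t =>
        Ideal.Quotient.mk (Qid (d := d) K hr t ht) (chainMon K (chOf b))) := by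
  classical
  obtain ⟨s, a, hs, hFs⟩ := straighten K (plIdeal K (tauT d r t ht))
    (plIdealTop_le_plIdeal K (tauT d r t ht))
    (fun c => ∀ k, c.2.1 k ≤ tauT d r t ht) (by
      intro c hc
      push Not at hc
      obtain ⟨k, hk⟩ := hc
      apply chainMon_mem_of_mem K _ c.2.1 k
      exact Ideal.subset_span (Or.inr ⟨c.2.1 k, hk, rfl⟩)) F
  have h1 : F - ∑ c ∈ s, a c • chainMon K c.2.1 ∈ Qid (d := d) K hr t ht :=
    Ideal.mem_sup_left hFs
  rw [← Ideal.Quotient.eq_zero_iff_mem, map_sub, sub_eq_zero] at h1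
  rw [h1, map_sum]
  apply Submodule.sum_mem
  intro c hc
  have e : Ideal.Quotient.mk (Qid (d := d) K hr t ht) (a c • chainMon K c.2.1) =
      a c • Ideal.Quotient.mk (Qid (d := d) K hr t ht) (chainMon K c.2.1) :=
    map_smul (Ideal.Quotient.mkₐ K (Qid (d := d) K hr t ht)) (a c) (chainMon K c.2.1)
  rw [e]
  apply Submodule.smul_mem
  exact mk_chainMon_mem_span K hr ht1 ht c.1 c.2.1 c.2.2 (hs c hc)

/-- `ker ψ = I(τ_t) + (X_ι - 1)` -/
theorem ker_psi [Infinite K] (hd : 0 < d) (hr : 0 < r) (ht1 : 1 ≤ t) (ht : t ≤ r + 1) :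
    RingHom.ker (psi (d := d) (r := r) K t) = Qid (d := d) K hr t ht := by
  classical
  apply le_antisymm _ (Qid_le_ker K hr t ht1 ht)
  intro F hF
  rw [RingHom.mem_ker] at hF
  have hmem := mk_mem_span K hr ht1 ht F
  rw [Finsupp.mem_span_range_iff_exists_finsupp] at hmem
  obtain ⟨l, hl⟩ := hmem
  set G := ∑ b ∈ l.support, l b • chainMon K (chOf b) with hG
  have hFG : F - G ∈ Qid (d := d) K hr t ht := by
    rw [← Ideal.Quotient.eq_zero_iff_mem, map_sub, sub_eq_zero, ← hl, hG, map_sum]
    unfold Finsupp.sum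
    apply Finset.sum_congr rfl
    intro b _
    exact (map_smul (Ideal.Quotient.mkₐ K (Qid (d := d) K hr t ht)) (l b) (chainMon K (chOf b))).symm
  have hGker : psi (d := d) (r := r) K t G = 0 := by
    have h1 := Qid_le_ker K hr t ht1 ht hFG
    rw [RingHom.mem_ker, map_sub, hF, zero_sub, neg_eq_zero] at h1
    exact h1
  choose u hu1 hu2 using fun c : StdBit r d t => zMap_chOf K c
  have hsum : ∑ b ∈ l.support, (l b * u b) •
      Ideal.Quotient.mk (CAlgX.minorIdeal (genMatrix K r d) t) (bitab K t b) = 0 := by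
    rw [← hGker, hG, map_sum]
    apply Finset.sum_congr rfl
    intro b _
    rw [map_smul, psi_apply, hu2 b, mul_smul]
    exact congrArg (fun z => l b • z)
      (map_smul (Ideal.Quotient.mkₐ K (CAlgX.minorIdeal (genMatrix K r d) t)) (u b)
        (bitab K t b)).symm
  have hind := stdBit_indep K hd hr ht1 ht
  rw [linearIndependent_iff'] at hind
  have hzero := hind l.support (fun b => l b * u b) hsum
  have hG0 : G = 0 := by
    rw [hG]
    apply Finset.sum_eq_zero
    intro b hb
    have h1 := hzero b hb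
    have hu0 : u b ≠ 0 := by
      intro h0
      have := hu1 b
      rw [h0, zero_mul] at this
      exact zero_ne_one this
    rw [(mul_eq_zero.mp h1).resolve_right hu0, zero_smul]
  rw [hG0, sub_zero] at hFG
  exact hFG

end Groth.Agent.Lib.Helper25.DetRing
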