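import Mathlib
import Groth.Prelude.Def_W4bk4grassmannianPl
import Groth.Agent.Lib.Helper24Grass

/-!
# Combinatorics of Schubert divisors (helper25)
-/

open W4bk4grassmannian

namespace Groth.Agent.Lib.Helper25.Grass

open Groth.Agent.Lib.Helper24Grass

variable {d n : ℕ}

theorem eq_of_le_of_codeg_eq {φ ψ : Idx d n} (h : φ ≤ ψ) (hc : codeg φ = codeg ψ) : φ = ψ := by
  unfold codeg at hc
  have hle : ∀ t ∈ Finset.univ, (φ.1 t).val - t.val ≤ (ψ.1 t).val - t.val := by
    intro t _
    have h1 : φ.1 t ≤ ψ.1 t := h t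
    have h2 := Fin.le_def.mp h1
    omega
  have h3 := (Finset.sum_eq_sum_iff_of_le hle).mp hc
  apply Subtype.ext
  funext t
  have h1 := h3 t (Finset.mem_univ t)
  have h2 := val_le_of_strictMono φ.1 φ.2 t
  have h4 := val_le_of_strictMono ψ.1 ψ.2 t
  apply Fin.ext
  omega

/-- the entry at position `t` can be decreased by one -/
def DecOK (τ : Idx d n) (t : Fin d) : Prop :=
  0 < (τ.1 t).val ∧ ∀ t' : Fin d, t'.val + 1 = t.val → (τ.1 t').val + 1 < (τ.1 t).val

/-- decrease the entry at position `t` by one -/
def decFun (τ : Idx d n) (t : Fin d) : Fin d → Fin n :=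
  fun s => if s = t then ⟨(τ.1 t).val - 1, by have := (τ.1 t).isLt; omega⟩ else τ.1 s

theorem decFun_self (τ : Idx d n) (t : Fin d) : (decFun τ t t).val = (τ.1 t).val - 1 := by
  unfold decFun
  rw [if_pos rfl]

theorem decFun_ne (τ : Idx d n) (t s : Fin d) (h : s ≠ t) : decFun τ t s = τ.1 s := by
  unfold decFun
  rw [if_neg h]

theorem decFun_strictMono (τ : Idx d n) (t : Fin d) (h : DecOK τ t) : StrictMono (decFun τ t) := by
  intro s s' hss
  by_cases hs' : s' = t
  · have hs : s ≠ t := by
      rintro rfl
      rw [hs'] at hss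
      exact lt_irrefl _ hss
    rw [Fin.lt_def, decFun_ne τ t s hs, hs', decFun_self]
    subst hs'
    have hlt : s.val < s'.val := hss
    have h1 := h.2 ⟨s'.val - 1, by have := s'.isLt; omega⟩ (by simp only; omega)
    have h2 : τ.1 s ≤ τ.1 ⟨s'.val - 1, by have := s'.isLt; omega⟩ := by
      apply τ.2.monotone
      rw [Fin.le_def]
      simp only
      omega
    have h3 := Fin.le_def.mp h2
    omega
  · by_cases hs : s = t
    · rw [Fin.lt_def, decFun_ne τ t s' hs', hs, decFun_self]
      have := Fin.lt_def.mp (τ.2 (hs ▸ hss))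
      omega
    · rw [decFun_ne τ t s hs, decFun_ne τ t s' hs']
      exact τ.2 hss

/-- the divisor obtained by decreasing the entry at `t` -/
def decAt (τ : Idx d n) (t : Fin d) (h : DecOK τ t) : Idx d n := ⟨decFun τ t, decFun_strictMono τ t h⟩

theorem decAt_mem_divisors (τ : Idx d n) (t : Fin d) (h : DecOK τ t) : decAt τ t h ∈ divisors τ := by
  constructor
  · rw [lt_iff_le_and_ne]
    constructor
    · intro s
      show decFun τ t s ≤ τ.1 s
      by_cases hs : s = t
      · rw [hs, Fin.le_def, decFun_self]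
        omega
      · rw [decFun_ne τ t s hs]
    · intro heq
      have h1 : (decFun τ t t).val = (τ.1 t).val := by
        have := congrArg (fun φ : Idx d n => (φ.1 t).val) heq
        exact this
      rw [decFun_self] at h1
      have := h.1
      omega
  · unfold codeg
    rw [← Finset.add_sum_erase _ _ (Finset.mem_univ t), ← Finset.add_sum_erase _ _ (Finset.mem_univ t)]
    have h1 : ∀ s ∈ Finset.univ.erase t, ((decAt τ t h).1 s).val - s.val = (τ.1 s).val - s.val := by
      intro s hs
      have hs' : s ≠ t := (Finset.mem_erase.mp hs).1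
      show (decFun τ t s).val - s.val = _
      rw [decFun_ne τ t s hs']
    rw [Finset.sum_congr rfl h1]
    have h2 : ((decAt τ t h).1 t).val = (τ.1 t).val - 1 := decFun_self τ t
    have h3 := val_le_of_strictMono (decAt τ t h).1 (decAt τ t h).2 t
    have h4 := h.1
    rw [h2] at h3 ⊢
    omega

theorem decAt_injective (τ : Idx d n) (t t' : Fin d) (h : DecOK τ t) (h' : DecOK τ t')
    (heq : decAt τ t h = decAt τ t' h') : t = t' := by
  by_contra hne
  have h1 : (decFun τ t t).val = (decFun τ t' t).val := by
    have := congrArg (fun φ : Idx d n => (φ.1 t).val) heq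
    exact this
  rw [decFun_self, decFun_ne τ t' t hne] at h1
  have := h.1
  omega

/-- every divisor differs from `τ` at exactly one position, by one -/
theorem exists_dec_of_divisor (τ φ : Idx d n) (hφ : φ ∈ divisors τ) :
    ∃ t₀ : Fin d, (φ.1 t₀).val + 1 = (τ.1 t₀).val ∧ ∀ t, t ≠ t₀ → φ.1 t = τ.1 t := by
  classical
  obtain ⟨hlt, hc⟩ := hφ
  have hle : ∀ t, φ.1 t ≤ τ.1 t := hlt.le
  unfold codeg at hc
  have hsum : (Finset.univ.sum fun t : Fin d => (φ.1 t).val - t.val) +
      (Finset.univ.sum fun t : Fin d => (τ.1 t).val - (φ.1 t).val) =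
      Finset.univ.sum fun t : Fin d => (τ.1 t).val - t.val := by
    rw [← Finset.sum_add_distrib]
    apply Finset.sum_congr rfl
    intro t _
    have h1 := Fin.le_def.mp (hle t)
    have h2 := val_le_of_strictMono φ.1 φ.2 t
    omega
  have hone : (Finset.univ.sum fun t : Fin d => (τ.1 t).val - (φ.1 t).val) = 1 := by omega
  have hex : ∃ t₀ ∈ (Finset.univ : Finset (Fin d)), (τ.1 t₀).val - (φ.1 t₀).val ≠ 0 := by
    apply Finset.exists_ne_zero_of_sum_ne_zero
    rw [hone]
    exact one_ne_zero
  obtain ⟨t₀, -, ht₀⟩ := hex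
  rw [← Finset.add_sum_erase _ _ (Finset.mem_univ t₀)] at hone
  have hrest : (Finset.univ.erase t₀).sum (fun t : Fin d => (τ.1 t).val - (φ.1 t).val) = 0 := by
    omega
  rw [Finset.sum_eq_zero_iff] at hrest
  refine ⟨t₀, ?_, ?_⟩
  · have h1 := Fin.le_def.mp (hle t₀)
    omega
  · intro t ht
    have h1 := hrest t (Finset.mem_erase.mpr ⟨ht, Finset.mem_univ t⟩)
    have h2 := Fin.le_def.mp (hle t)
    apply Fin.ext
    omega

/-- the shape condition of the UFD criterion -/
def OneRun (τ : Idx d n) (s : ℕ) : Prop :=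
  (∀ t : Fin d, t.val < s → (τ.1 t).val = t.val) ∧
    ∀ t t' : Fin d, s ≤ t.val → t.val + 1 = t'.val → (τ.1 t).val + 1 = (τ.1 t').val

theorem oneRun_of_not_decOK (τ : Idx d n) (s : ℕ) (hnot : ∀ t : Fin d, t.val ≠ s → ¬ DecOK τ t) :
    OneRun τ s := by
  constructor
  · have key : ∀ (m : ℕ) (hm : m < d), m < s → (τ.1 ⟨m, hm⟩).val = m := by
      intro m
      induction m with
      | zero =>
        intro hm hs
        have h1 := hnot ⟨0, hm⟩ (by simp only; omega)
        unfold DecOK at h1
        by_contra hne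
        apply h1
        constructor
        · omega
        · intro t' ht'
          simp only at ht'
          omega
      | succ m ih =>
        intro hm hs
        have h0 := ih (by omega) (by omega)
        have h1 := hnot ⟨m + 1, hm⟩ (by simp only; omega)
        have h2 := val_le_of_strictMono τ.1 τ.2 ⟨m + 1, hm⟩
        simp only at h2
        by_contra hne
        apply h1
        constructor
        · omega
        · intro t' ht'
          simp only at ht'
          have : t' = ⟨m, by omega⟩ := Fin.ext (by simp only; omega)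
          rw [this, h0]
          omega
    intro t ht
    exact key t.val t.isLt ht
  · intro t t' hst htt'
    have h1 := hnot t' (by omega)
    have h2 : τ.1 t < τ.1 t' := τ.2 (by rw [Fin.lt_def]; omega)
    have h3 := Fin.lt_def.mp h2
    by_contra hne
    apply h1
    constructor
    · omega
    · intro t'' ht''
      have : t'' = t := Fin.ext (by omega)
      rw [this]
      omega

theorem subsingleton_divisors_iff (τ : Idx d n) :
    (divisors τ).Subsingleton ↔ ∃ s : ℕ, OneRun τ s := by
  classical
  constructor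
  · intro hsub
    by_cases hex : ∃ t, DecOK τ t
    · obtain ⟨t₀, ht₀⟩ := hex
      refine ⟨t₀.val, oneRun_of_not_decOK τ t₀.val ?_⟩
      intro t ht hdec
      apply ht
      have := hsub (decAt_mem_divisors τ t hdec) (decAt_mem_divisors τ t₀ ht₀)
      rw [decAt_injective τ t t₀ hdec ht₀ this]
    · push Not at hex
      exact ⟨d, oneRun_of_not_decOK τ d (fun t _ => hex t)⟩
  · rintro ⟨s, hs1, hs2⟩ φ₁ h₁ φ₂ h₂
    have key : ∀ φ ∈ divisors τ, ∀ t₀ : Fin d, (φ.1 t₀).val + 1 = (τ.1 t₀).val →
        (∀ t, t ≠ t₀ → φ.1 t = τ.1 t) → t₀.val = s := by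
      intro φ hφ t₀ h1 h2
      rcases lt_trichotomy t₀.val s with hlt | heq | hgt
      · exfalso
        have h3 := hs1 t₀ hlt
        have h4 := val_le_of_strictMono φ.1 φ.2 t₀
        omega
      · exact heq
      · exfalso
        have h3 := hs2 ⟨t₀.val - 1, by have := t₀.isLt; omega⟩ t₀ (by simp only; omega)
          (by simp only; omega)
        have hne : (⟨t₀.val - 1, by have := t₀.isLt; omega⟩ : Fin d) ≠ t₀ := by
          intro h
          have := congrArg Fin.val h
          simp only at this
          omega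
        have h4 := h2 _ hne
        have h5 : φ.1 ⟨t₀.val - 1, by have := t₀.isLt; omega⟩ < φ.1 t₀ := by
          apply φ.2
          rw [Fin.lt_def]
          simp only
          omega
        rw [h4] at h5
        have h6 := Fin.lt_def.mp h5
        omega
    obtain ⟨t₁, h11, h12⟩ := exists_dec_of_divisor τ φ₁ h₁
    obtain ⟨t₂, h21, h22⟩ := exists_dec_of_divisor τ φ₂ h₂
    have e1 := key φ₁ h₁ t₁ h11 h12
    have e2 := key φ₂ h₂ t₂ h21 h22
    have e : t₁ = t₂ := Fin.ext (by omega)
    subst e
    apply Subtype.ext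
    funext t
    by_cases ht : t = t₁
    · subst ht
      apply Fin.ext
      omega
    · rw [h12 t ht, h22 t ht]

end Groth.Agent.Lib.Helper25.Grass
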