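import Mathlib
import Groth.Prelude.Def_W4bk4grassmannianPl
import Groth.Agent.Lib.Helper25GrassHibi
import Groth.Agent.Lib.Helper25GrassFFT

/-!
# The big cell of a Schubert variety (helper25)

`φ : K[X_θ] → K[z, p]`, `X_θ ↦ p · (minor on rows θ of the normal form matrix Z_τ)`, has kernel `J(τ)`, and
every element of `K[z, p]` is `φ(F) / p^k`.
-/

noncomputable section

open MvPolynomial W4bk4grassmannian

namespace Groth.Agent.Lib.Helper25.Grass

variable {d n : ℕ}

/-- the free positions of the normal form: rows `r < τ_t` not occurring in `τ` -/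
abbrev Free (τ : Idx d n) : Type := {p : Fin n × Fin d // p.1 < τ.1 p.2 ∧ ∀ s, τ.1 s ≠ p.1}

/-- the normal form matrix with given free entries: identity on the rows `τ`, free entries above -/
def cellZv {A : Type*} [CommRing A] (τ : Idx d n) (v : Free τ → A) : Matrix (Fin n) (Fin d) A :=
  Matrix.of fun r t =>
    if h : ∃ s, τ.1 s = r then (if τ.1 t = r then 1 else 0)
    else if h2 : r < τ.1 t then v ⟨(r, t), h2, fun s hs => h ⟨s, hs⟩⟩ else 0

theorem cellZv_tau {A : Type*} [CommRing A] (τ : Idx d n) (v : Free τ → A) (s t : Fin d) :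
    cellZv τ v (τ.1 s) t = if s = t then 1 else 0 := by
  unfold cellZv
  rw [Matrix.of_apply, dif_pos ⟨s, rfl⟩]
  by_cases hst : s = t
  · rw [if_pos hst, if_pos (by rw [hst])]
  · rw [if_neg hst, if_neg (fun h => hst (τ.2.injective h).symm)]

theorem cellZv_free {A : Type*} [CommRing A] (τ : Idx d n) (v : Free τ → A) (f : Free τ) :
    cellZv τ v f.1.1 f.1.2 = v f := by
  unfold cellZv
  rw [Matrix.of_apply, dif_neg (fun ⟨s, hs⟩ => f.2.2 s hs), dif_pos f.2.1]

theorem cellZv_of_gt {A : Type*} [CommRing A] (τ : Idx d n) (v : Free τ → A) (r : Fin n) (t : Fin d)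
    (h : ¬ r ≤ τ.1 t) : cellZv τ v r t = 0 := by
  unfold cellZv
  rw [Matrix.of_apply]
  split_ifs with h1 h2 h3
  · exact absurd (le_of_eq h2.symm) h
  · rfl
  · exact absurd (le_of_lt h3) h
  · rfl

theorem cellZv_submatrix_tau {A : Type*} [CommRing A] (τ : Idx d n) (v : Free τ → A) :
    (cellZv τ v).submatrix τ.1 id = 1 := by
  ext s t
  rw [Matrix.submatrix_apply, cellZv_tau, Matrix.one_apply]
  rfl

theorem cellZv_map {A B : Type*} [CommRing A] [CommRing B] (f : A →+* B) (τ : Idx d n) (v : Free τ → A) :
    (cellZv τ v).map f = cellZv τ (fun x => f (v x)) := by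
  ext r t
  rw [Matrix.map_apply]
  unfold cellZv
  rw [Matrix.of_apply, Matrix.of_apply]
  split_ifs
  · rw [map_one]
  · rw [map_zero]
  · rfl
  · rw [map_zero]

variable (K : Type*) [Field K]

/-- the coordinate ring of the cone over the big cell -/
abbrev CellAlg (τ : Idx d n) : Type _ := MvPolynomial (Option (Free τ)) K

/-- the generic normal form matrix -/
def cellZ (τ : Idx d n) : Matrix (Fin n) (Fin d) (CellAlg K τ) := cellZv τ (fun f => X (some f))

/-- the comorphism of the cone over the big cell -/
def cellPhi (τ : Idx d n) : PlRing K d n →ₐ[K] CellAlg K τ :=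
  MvPolynomial.aeval fun θ : Idx d n => X none * ((cellZ K τ).submatrix θ.1 id).det

/-- the matrix at a `K`-point: the normal form with its first column scaled -/
def cellAt (hd : 0 < d) (τ : Idx d n) (x : Option (Free τ) → K) : Matrix (Fin n) (Fin d) K :=
  Matrix.of fun r t => (if t = (⟨0, hd⟩ : Fin d) then x none else 1) * cellZv τ (fun f => x (some f)) r t

theorem det_cellAt (hd : 0 < d) (τ : Idx d n) (x : Option (Free τ) → K) (a : Fin d → Fin n) :
    ((cellAt K hd τ x).submatrix a id).det =
      x none * ((cellZv τ (fun f => x (some f))).submatrix a id).det := by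
  classical
  have h1 : (cellAt K hd τ x).submatrix a id = Matrix.of fun i j =>
      (if j = (⟨0, hd⟩ : Fin d) then x none else 1) *
        ((cellZv τ (fun f => x (some f))).submatrix a id) i j := by
    ext i j
    rfl
  rw [h1, Matrix.det_mul_row]
  congr 1
  rw [Finset.prod_ite_eq' Finset.univ (⟨0, hd⟩ : Fin d) (fun _ => x none)]
  simp

theorem eval_cellPhi (hd : 0 < d) (τ : Idx d n) (x : Option (Free τ) → K) (F : PlRing K d n) :
    MvPolynomial.eval x (cellPhi K τ F) = evalMinors K d n (cellAt K hd τ x) F := by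
  have h : ((MvPolynomial.aeval x : CellAlg K τ →ₐ[K] K).comp (cellPhi K τ)) =
      evalMinors K d n (cellAt K hd τ x) := by
    apply MvPolynomial.algHom_ext
    intro θ
    rw [AlgHom.comp_apply]
    unfold cellPhi evalMinors
    rw [aeval_X, aeval_X, det_cellAt, map_mul, aeval_X]
    congr 1
    rw [AlgHom.map_det]
    congr 1
    unfold cellZ
    have := cellZv_map (MvPolynomial.aeval x : CellAlg K τ →ₐ[K] K).toRingHom τ (fun f => X (some f))
    ext i j
    rw [AlgHom.mapMatrix_apply, Matrix.map_apply, Matrix.submatrix_apply, Matrix.submatrix_apply]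
    have h2 := congrFun (congrFun this (θ.1 i)) (id j)
    rw [Matrix.map_apply] at h2
    simp only [AlgHom.toRingHom_eq_coe, RingHom.coe_coe, aeval_X] at h2
    exact h2
  rw [← h, AlgHom.comp_apply]
  rfl

theorem cellAt_shape (hd : 0 < d) (τ : Idx d n) (x : Option (Free τ) → K) (r : Fin n) (t : Fin d)
    (h : ¬ r ≤ τ.1 t) : cellAt K hd τ x r t = 0 := by
  unfold cellAt
  rw [Matrix.of_apply, cellZv_of_gt τ _ r t h, mul_zero]

/-- `φ` kills `J(τ)`. -/
theorem cellPhi_eq_zero_of_mem [Infinite K] (hd : 0 < d) (τ : Idx d n) (F : PlRing K d n)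
    (hF : F ∈ schubertVanishing K d n τ) : cellPhi K τ F = 0 := by
  apply MvPolynomial.funext
  intro x
  rw [map_zero, eval_cellPhi K hd]
  rw [mem_schubert_iff] at hF
  apply hF
  intro φ hφ
  exact det_submatrix_eq_zero_of_shape τ φ hφ _ (cellAt_shape K hd τ x)

theorem cellPhi_X_tau (τ : Idx d n) : cellPhi K τ (X τ) = X none := by
  unfold cellPhi cellZ
  rw [aeval_X, cellZv_submatrix_tau, Matrix.det_one, mul_one]

/-- the kernel of the evaluation on the generic matrix of the shape of `X(τ)` is `J(τ)`. -/
theorem mem_schubert_of_evS_eq_zero [Infinite K] (hd : 0 < d) (τ : Idx d n) (F : PlRing K d n)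
    (hF : evS K (UpperShape τ) F = 0) : F ∈ schubertVanishing K d n τ := by
  classical
  obtain ⟨s, a, hs, hFs⟩ := straighten K (plIdeal K τ) (plIdealTop_le_plIdeal K τ)
    (fun c => ∀ k, c.2.1 k ≤ τ) (by
      intro c hc
      push Not at hc
      obtain ⟨k, hk⟩ := hc
      apply chainMon_mem_of_mem K _ c.2.1 k
      exact Ideal.subset_span (Or.inr ⟨c.2.1 k, hk, rfl⟩)) F
  have hJ := plIdeal_le_schubert K τ hFs
  have h0 := evS_eq_zero_of_mem_schubert K (UpperShape τ) τ (fun r t h => h) _ hJ
  rw [map_sub, hF, zero_sub, neg_eq_zero, map_sum] at h0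
  simp only [map_smul] at h0
  have hz := core_indepS K (UpperShape τ) hd (fun c : AllChains d n => c.1) (fun c => c.2.1)
    (fun c => c.2.2) allChains_inj s a (fun c hc hnot => absurd (hs c hc) hnot) h0
  have hG0 : ∑ c ∈ s, a c • chainMon K c.2.1 = 0 := by
    apply Finset.sum_eq_zero
    intro c hc
    rw [hz c hc (hs c hc), zero_smul]
  rw [hG0, sub_zero] at hJ
  exact hJ

theorem schubert_eq_ker_evS [Infinite K] (hd : 0 < d) (τ : Idx d n) :
    schubertVanishing K d n τ = RingHom.ker (evS K (UpperShape τ)).toRingHom := by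
  apply le_antisymm
  · intro F hF
    rw [RingHom.mem_ker]
    exact evS_eq_zero_of_mem_schubert K (UpperShape τ) τ (fun r t h => h) F hF
  · intro F hF
    rw [RingHom.mem_ker] at hF
    exact mem_schubert_of_evS_eq_zero K hd τ F hF

theorem det_submatrix_mul' {m : ℕ} (Z : Matrix (Fin m) (Fin d) K) (T : Matrix (Fin d) (Fin d) K)
    (θ : Fin d → Fin m) : ((Z * T).submatrix θ id).det = (Z.submatrix θ id).det * T.det := by
  have : (Z * T).submatrix θ id = Z.submatrix θ id * T := by
    ext i j
    rw [Matrix.submatrix_apply, Matrix.mul_apply, Matrix.mul_apply]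
    rfl
  rw [this, Matrix.det_mul]

/-- normal form of a matrix of the shape of `X(τ)` with `p_τ ≠ 0`. -/
theorem exists_cellAt_of_shape (hd : 0 < d) (τ : Idx d n) (A : Matrix (Fin n) (Fin d) K)
    (hA : ∀ r t, ¬ r ≤ τ.1 t → A r t = 0) (hδ : (A.submatrix τ.1 id).det ≠ 0) :
    ∃ x : Option (Free τ) → K, ∀ θ : Fin d → Fin n,
      (A.submatrix θ id).det = ((cellAt K hd τ x).submatrix θ id).det := by
  classical
  set T := A.submatrix τ.1 id with hT
  haveI : Invertible T.det := invertibleOfNonzero hδ
  haveI : Invertible T := Matrix.invertibleOfDetInvertible T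
  have hunit : IsUnit T.det := isUnit_iff_ne_zero.mpr hδ
  have htri : Matrix.BlockTriangular T id := by
    intro i j hji
    rw [hT, Matrix.submatrix_apply]
    apply hA
    intro hle
    have : τ.1 i ≤ τ.1 j := hle
    have h2 := τ.2.le_iff_le.mp this
    exact absurd hji (not_lt.mpr h2)
  have htri' := Matrix.blockTriangular_inv_of_blockTriangular htri
  set N' := A * T⁻¹ with hN'
  let x : Option (Free τ) → K := fun o => match o with
    | none => T.det
    | some f => N' f.1.1 f.1.2
  have hZ : cellZv τ (fun f => x (some f)) = N' := by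
    ext r t
    by_cases h1 : ∃ s, τ.1 s = r
    · obtain ⟨s, rfl⟩ := h1
      rw [cellZv_tau]
      have h2 : N' (τ.1 s) t = (T * T⁻¹) s t := by
        rw [hN', Matrix.mul_apply, Matrix.mul_apply]
        rfl
      rw [h2, Matrix.mul_nonsing_inv T hunit, Matrix.one_apply]
    · by_cases h2 : r < τ.1 t
      · exact cellZv_free τ (fun f => x (some f)) ⟨(r, t), h2, fun s hs => h1 ⟨s, hs⟩⟩
      · have h3 : ¬ r ≤ τ.1 t := by
          intro hle
          rcases eq_or_lt_of_le hle with h | h
          · exact h1 ⟨t, h.symm⟩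
          · exact h2 h
        rw [cellZv_of_gt τ _ r t h3, hN', Matrix.mul_apply]
        symm
        apply Finset.sum_eq_zero
        intro s _
        by_cases hst : t < s
        · rw [htri' hst, mul_zero]
        · have hle : s ≤ t := not_lt.mp hst
          have h4 : ¬ r ≤ τ.1 s := fun h => h3 (le_trans h (τ.2.monotone hle))
          rw [hA r s h4, zero_mul]
  have hfac : A = N' * T := by
    rw [hN', Matrix.mul_assoc, Matrix.nonsing_inv_mul T hunit, Matrix.mul_one]
  refine ⟨x, fun θ => ?_⟩
  rw [det_cellAt, hZ]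
  conv_lhs => rw [hfac]
  rw [det_submatrix_mul', mul_comm]

/-- `ker φ = J(τ)`. -/
theorem ker_cellPhi [Infinite K] (hd : 0 < d) (τ : Idx d n) :
    RingHom.ker (cellPhi K τ).toRingHom = schubertVanishing K d n τ := by
  classical
  apply le_antisymm
  · intro F hF
    rw [RingHom.mem_ker] at hF
    replace hF : cellPhi K τ F = 0 := hF
    apply mem_schubert_of_evS_eq_zero K hd τ F
    have hQ : evS K (UpperShape τ) (X τ) ≠ 0 := by
      rw [evS_X]
      intro h0
      have h1 := minorS_monic K (UpperShape τ) τ (fun t => le_refl _)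
      unfold MonomialOrder.Monic at h1
      rw [h0, MonomialOrder.leadingCoeff_zero] at h1
      exact zero_ne_one h1
    have hprod : evS K (UpperShape τ) (X τ) * evS K (UpperShape τ) F = 0 := by
      apply MvPolynomial.funext
      intro y
      rw [map_zero, map_mul, eval_evS, eval_evS]
      have hX : evalMinors K d n (shapedAtS K (UpperShape τ) y) (X τ) =
          ((shapedAtS K (UpperShape τ) y).submatrix τ.1 id).det := by
        unfold evalMinors; rw [aeval_X]
      rw [hX]
      by_cases hδ : ((shapedAtS K (UpperShape τ) y).submatrix τ.1 id).det = 0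
      · rw [hδ, zero_mul]
      · obtain ⟨x, hx⟩ := exists_cellAt_of_shape K hd τ (shapedAtS K (UpperShape τ) y) (by
          intro r t hrt
          unfold shapedAtS
          rw [Matrix.of_apply]
          exact if_neg hrt) hδ
        have heq : evalMinors K d n (shapedAtS K (UpperShape τ) y) =
            evalMinors K d n (cellAt K hd τ x) := by
          unfold evalMinors
          congr 1
          funext θ
          exact hx θ.1
        rw [heq, ← eval_cellPhi K hd, hF, map_zero, mul_zero]
    exact (mul_eq_zero.mp hprod).resolve_left hQ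
  · intro F hF
    rw [RingHom.mem_ker]
    exact cellPhi_eq_zero_of_mem K hd τ F hF

theorem det_updateRow_one {A : Type*} [CommRing A] (t : Fin d) (v : Fin d → A) :
    ((1 : Matrix (Fin d) (Fin d) A).updateRow t v).det = v t := by
  rw [← Matrix.cramer_transpose_apply, Matrix.transpose_one, Matrix.cramer_one]
  rfl

/-- the free coordinates come from Plücker coordinates -/
theorem cellPhi_coord [Infinite K] (hd : 0 < d) (τ : Idx d n) (f : Free τ) :
    cellPhi K τ (coord K d n (Function.update τ.1 f.1.2 f.1.1)) = X none * X (some f) := by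
  classical
  apply MvPolynomial.funext
  intro x
  rw [eval_cellPhi K hd, evalMinors_coord, det_cellAt, map_mul, eval_X, eval_X]
  congr 1
  have h1 : (cellZv τ (fun f => x (some f))).submatrix (Function.update τ.1 f.1.2 f.1.1) id =
      (1 : Matrix (Fin d) (Fin d) K).updateRow f.1.2 (fun j => cellZv τ (fun f => x (some f)) f.1.1 j) := by
    ext s t
    rw [Matrix.submatrix_apply, Matrix.updateRow_apply]
    by_cases hs : s = f.1.2
    · rw [if_pos hs, hs, Function.update_self]
      rfl
    · rw [if_neg hs, Function.update_of_ne hs, cellZv_tau, Matrix.one_apply]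
      rfl
  rw [h1, det_updateRow_one, cellZv_free]

/-- every element of `K[z, p]` is `φ(F) / p^k`. -/
theorem exists_cellPhi_eq [Infinite K] (hd : 0 < d) (τ : Idx d n) (g : CellAlg K τ) :
    ∃ (F : PlRing K d n) (k : ℕ), X none ^ k * g = cellPhi K τ F := by
  induction g using MvPolynomial.induction_on with
  | C a =>
    refine ⟨C a, 0, ?_⟩
    rw [pow_zero, one_mul]
    unfold cellPhi
    rw [aeval_C]
    rfl
  | add g₁ g₂ h₁ h₂ =>
    obtain ⟨F1, k1, h1⟩ := h₁
    obtain ⟨F2, k2, h2⟩ := h₂
    refine ⟨X τ ^ k2 * F1 + X τ ^ k1 * F2, k1 + k2, ?_⟩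
    rw [map_add, map_mul, map_mul, map_pow, map_pow, cellPhi_X_tau, ← h1, ← h2]
    ring
  | mul_X g o hg =>
    obtain ⟨F, k, h⟩ := hg
    rcases o with _ | f
    · refine ⟨F * X τ, k, ?_⟩
      rw [map_mul, cellPhi_X_tau, ← h]
      ring
    · refine ⟨F * coord K d n (Function.update τ.1 f.1.2 f.1.1), k + 1, ?_⟩
      rw [map_mul, cellPhi_coord K hd, ← h]
      ring

end Groth.Agent.Lib.Helper25.Grass
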