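import Mathlib

/-!
# A normality criterion (helper25)

`R` a domain embedded in an integrally closed domain `C` such that every element of `C` is
`φ(a) / φ(x)^k`, and `R / xR` reduced: then `R` is integrally closed.
-/

noncomputable section

namespace Groth.Agent.Lib.Helper25.NormalCrit

open Polynomial

theorem dvd_pow_of_root {R : Type*} [CommRing R] (P : R[X]) (hP : P.Monic) (s a : R)
    (h : (scaleRoots P s).eval a = 0) (hN : 0 < P.natDegree) : s ∣ a ^ P.natDegree := by
  rw [Polynomial.eval_eq_sum_range, natDegree_scaleRoots, Finset.sum_range_succ,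
    coeff_scaleRoots_natDegree, hP.leadingCoeff, one_mul] at h
  have h1 : a ^ P.natDegree = - ∑ i ∈ Finset.range P.natDegree, (scaleRoots P s).coeff i * a ^ i := by
    rw [eq_neg_iff_add_eq_zero, add_comm]
    exact h
  rw [h1, dvd_neg]
  apply Finset.dvd_sum
  intro i hi
  rw [Finset.mem_range] at hi
  rw [coeff_scaleRoots]
  apply Dvd.dvd.mul_right
  apply Dvd.dvd.mul_left
  exact dvd_pow_self s (by omega)

theorem isIntegrallyClosed_of_embedding {R C : Type*} [CommRing R] [IsDomain R] [CommRing C]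
    [IsDomain C] [IsIntegrallyClosed C] (φ : R →+* C) (hφ : Function.Injective φ) (x : R)
    (hx : x ≠ 0) (hsurj : ∀ g : C, ∃ (a : R) (k : ℕ), φ x ^ k * g = φ a)
    (hred : ∀ (a : R) (N : ℕ), 0 < N → x ∣ a ^ N → x ∣ a) : IsIntegrallyClosed R := by
  classical
  rw [isIntegrallyClosed_iff (FractionRing R)]
  intro α hα
  obtain ⟨f, hf⟩ : ∃ f : R →+* FractionRing R, f = algebraMap R (FractionRing R) := ⟨_, rfl⟩
  have hfinj : Function.Injective f := by
    rw [hf]; exact IsFractionRing.injective R (FractionRing R)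
  have hginj : Function.Injective ((algebraMap C (FractionRing C)).comp φ) :=
    (IsFractionRing.injective C (FractionRing C)).comp hφ
  obtain ⟨ψ, hψ⟩ : ∃ ψ : FractionRing R →+* FractionRing C, ψ = IsFractionRing.lift hginj := ⟨_, rfl⟩
  have hψf : ∀ a : R, ψ (f a) = algebraMap C (FractionRing C) (φ a) := fun a => by
    rw [hψ, hf]; exact IsFractionRing.lift_algebraMap hginj a
  have hψinj : Function.Injective ψ := ψ.injective
  obtain ⟨P, hPm, hPα⟩ := hα
  rw [← hf] at hPα
  -- `ψ α` is integral over `C`, hence lies in `C`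
  have hint : IsIntegral C (ψ α) := by
    refine ⟨P.map φ, hPm.map φ, ?_⟩
    rw [Polynomial.eval₂_map]
    have h1 : ((algebraMap C (FractionRing C)).comp φ) = ψ.comp f := by
      ext a
      rw [RingHom.comp_apply, RingHom.comp_apply, hψf]
    rw [h1, ← Polynomial.hom_eval₂, hPα, map_zero]
  obtain ⟨g, hg⟩ := IsIntegrallyClosed.isIntegral_iff.mp hint
  -- so `α x^k ∈ R` for some `k`
  have hex : ∃ k : ℕ, ∃ a : R, α * f x ^ k = f a := by
    obtain ⟨a, k, hak⟩ := hsurj g
    refine ⟨k, a, ?_⟩
    apply hψinj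
    rw [map_mul, map_pow, hψf, hψf, ← hg, ← hak, map_mul, map_pow]
    ring
  have hfx : f x ≠ 0 := fun h => hx (hfinj (by rw [h, map_zero]))
  set k₀ := Nat.find hex with hk₀
  obtain ⟨a, ha⟩ := Nat.find_spec hex
  rcases Nat.eq_zero_or_pos k₀ with h0 | hpos
  · refine ⟨a, ?_⟩
    rw [← hk₀, h0, pow_zero, mul_one] at ha
    rw [← hf]
    exact ha.symm
  · exfalso
    obtain ⟨j, hj⟩ : ∃ j, k₀ = j + 1 := ⟨k₀ - 1, by omega⟩
    rw [← hk₀, hj] at ha
    -- `a` is a root of the scaled polynomial
    have hroot : (scaleRoots P (x ^ (j + 1))).eval a = 0 := by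
      apply hfinj
      rw [map_zero, ← Polynomial.eval₂_at_apply]
      have h2 := scaleRoots_eval₂_eq_zero f (s := x ^ (j + 1)) hPα
      rw [map_pow, mul_comm, ha] at h2
      exact h2
    have hN : 0 < P.natDegree := by
      by_contra hN
      have hN0 : P.natDegree = 0 := by omega
      have hP1 : P = 1 := Polynomial.eq_one_of_monic_natDegree_zero hPm hN0
      rw [hP1, Polynomial.eval₂_one] at hPα
      exact one_ne_zero hPα
    have hdvd : x ∣ a ^ P.natDegree :=
      dvd_trans (dvd_pow_self x (by omega)) (dvd_pow_of_root P hPm _ a hroot hN)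
    obtain ⟨a', ha'⟩ := hred a _ hN hdvd
    have hmin := Nat.find_min hex (m := j) (by rw [← hk₀, hj]; omega)
    apply hmin
    refine ⟨a', ?_⟩
    have h3 : α * f x ^ j * f x = f a' * f x := by
      rw [mul_assoc, ← pow_succ, ha, ha', map_mul]
      ring
    exact mul_right_cancel₀ hfx h3

end Groth.Agent.Lib.Helper25.NormalCrit
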