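import Mathlib
import Groth.Prelude.Def_W4bk4grassmannianPl
import Groth.Agent.Lib.Helper25GrassCell
import Groth.Agent.Lib.Helper25NormalCrit
import Groth.Agent.S11254

/-!
# Schubert varieties are normal (helper25)
-/

noncomputable section

open MvPolynomial W4bk4grassmannian

namespace Groth.Agent.Lib.Helper25.Grass

variable {d n : ℕ} (K : Type*) [Field K]

/-- the map `S / J(τ) → K[z, p]` -/
def cellPhiBar [Infinite K] (hd : 0 < d) (τ : Idx d n) :
    (PlRing K d n ⧸ schubertVanishing K d n τ) →+* CellAlg K τ :=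
  Ideal.Quotient.lift (schubertVanishing K d n τ) (cellPhi K τ).toRingHom
    (fun F hF => cellPhi_eq_zero_of_mem K hd τ F hF)

theorem cellPhiBar_mk [Infinite K] (hd : 0 < d) (τ : Idx d n) (F : PlRing K d n) :
    cellPhiBar K hd τ (Ideal.Quotient.mk _ F) = cellPhi K τ F := rfl

theorem cellPhiBar_injective [Infinite K] (hd : 0 < d) (τ : Idx d n) :
    Function.Injective (cellPhiBar K hd τ) := by
  unfold cellPhiBar
  apply RingHom.lift_injective_of_ker_le_ideal
  rw [ker_cellPhi K hd τ]

theorem schubert_isPrime [Infinite K] (hd : 0 < d) (τ : Idx d n) :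
    (schubertVanishing K d n τ).IsPrime := by
  rw [← ker_cellPhi K hd τ]
  exact RingHom.ker_isPrime _

theorem X_tau_not_mem [Infinite K] (hd : 0 < d) (τ : Idx d n) :
    (X τ : PlRing K d n) ∉ schubertVanishing K d n τ := by
  intro h
  have h1 := cellPhi_eq_zero_of_mem K hd τ _ h
  rw [cellPhi_X_tau] at h1
  exact MvPolynomial.X_ne_zero _ h1

/-- divisibility by the class of `X_τ` in `S / J(τ)` -/
theorem dvd_mk_iff (τ : Idx d n) (a : PlRing K d n) :
    Ideal.Quotient.mk (schubertVanishing K d n τ) (X τ) ∣ Ideal.Quotient.mk _ a ↔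
      a ∈ schubertVanishing K d n τ ⊔ Ideal.span {(X τ : PlRing K d n)} := by
  constructor
  · rintro ⟨b, hb⟩
    obtain ⟨b, rfl⟩ := Ideal.Quotient.mk_surjective b
    rw [← map_mul, Ideal.Quotient.eq] at hb
    have h1 : a = (a - X τ * b) + X τ * b := by ring
    rw [h1]
    apply Ideal.add_mem
    · exact Ideal.mem_sup_left hb
    · apply Ideal.mem_sup_right
      exact Ideal.mul_mem_right _ _ (Ideal.subset_span rfl)
  · intro h
    obtain ⟨j, hj, c, hc, rfl⟩ := Submodule.mem_sup.mp h
    obtain ⟨c', rfl⟩ := Ideal.mem_span_singleton'.mp hc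
    refine ⟨Ideal.Quotient.mk _ c', ?_⟩
    rw [map_add, map_mul, Ideal.Quotient.eq_zero_iff_mem.mpr hj, zero_add, mul_comm]

theorem free_isEmpty_of_minimal (hdn : d < n) (τ : Idx d n) (h : ¬ ∃ φ : Idx d n, φ < τ) :
    IsEmpty (Free τ) := by
  have hτ : τ = iotaIdx hdn := by
    by_contra hne
    exact h ⟨iotaIdx hdn, lt_of_le_of_ne (iota_le hdn τ) (Ne.symm hne)⟩
  constructor
  rintro ⟨⟨r, t⟩, h1, h2⟩
  subst hτ
  simp only at h1 h2
  have h3 : r.val < t.val := h1
  exact h2 ⟨r.val, by have := t.isLt; omega⟩ (Fin.ext rfl)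

/-- Schubert varieties are normal: `S / J(τ)` is an integrally closed domain. -/
theorem schubert_normal [IsAlgClosed K] (hd : 0 < d) (hdn : d < n) (τ : Idx d n) :
    IsDomain (PlRing K d n ⧸ schubertVanishing K d n τ) ∧
      IsIntegrallyClosed (PlRing K d n ⧸ schubertVanishing K d n τ) := by
  classical
  haveI hprime := schubert_isPrime K hd τ
  haveI hdom : IsDomain (PlRing K d n ⧸ schubertVanishing K d n τ) := Ideal.Quotient.isDomain _
  refine ⟨hdom, ?_⟩
  by_cases hτ : ∃ φ : Idx d n, φ < τ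
  · apply Groth.Agent.Lib.Helper25.NormalCrit.isIntegrallyClosed_of_embedding (cellPhiBar K hd τ)
      (cellPhiBar_injective K hd τ) (Ideal.Quotient.mk _ (X τ))
    · rw [Ne, Ideal.Quotient.eq_zero_iff_mem]
      exact X_tau_not_mem K hd τ
    · intro g
      obtain ⟨F, k, hF⟩ := exists_cellPhi_eq K hd τ g
      refine ⟨Ideal.Quotient.mk _ F, k, ?_⟩
      rw [cellPhiBar_mk, cellPhiBar_mk, cellPhi_X_tau]
      exact hF
    · intro a N hN hdvd
      obtain ⟨a, rfl⟩ := Ideal.Quotient.mk_surjective a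
      rw [← map_pow, dvd_mk_iff] at hdvd
      rw [dvd_mk_iff]
      have hrad : (schubertVanishing K d n τ ⊔ Ideal.span {(X τ : PlRing K d n)}).IsRadical := by
        rw [Groth.Agent.S11254.result K d n hd hdn τ hτ]
        apply Ideal.isRadical_iInf
        intro φ
        apply Ideal.isRadical_iInf
        intro _
        exact schubert_isRadical K φ
      exact hrad ⟨N, hdvd⟩
  · haveI := free_isEmpty_of_minimal hdn τ hτ
    have hsurj : Function.Surjective (cellPhiBar K hd τ) := by
      intro g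
      induction g using MvPolynomial.induction_on with
      | C a =>
        refine ⟨Ideal.Quotient.mk _ (C a), ?_⟩
        rw [cellPhiBar_mk]
        unfold cellPhi
        rw [aeval_C]
        rfl
      | add g₁ g₂ h₁ h₂ =>
        obtain ⟨a1, h1⟩ := h₁
        obtain ⟨a2, h2⟩ := h₂
        exact ⟨a1 + a2, by rw [map_add, h1, h2]⟩
      | mul_X g o hg =>
        obtain ⟨a, ha⟩ := hg
        rcases o with _ | f
        · refine ⟨a * Ideal.Quotient.mk _ (X τ), ?_⟩
          rw [map_mul, ha, cellPhiBar_mk, cellPhi_X_tau]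
        · exact (IsEmpty.false f).elim
    let e : (PlRing K d n ⧸ schubertVanishing K d n τ) ≃+* CellAlg K τ :=
      RingEquiv.ofBijective (cellPhiBar K hd τ) ⟨cellPhiBar_injective K hd τ, hsurj⟩
    exact IsIntegrallyClosed.of_equiv e.symm

end Groth.Agent.Lib.Helper25.Grass
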