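import Mathlib
import Groth.Prelude.Def_W4bk4grassmannianPl
import Groth.Prelude.Def_CAlg
import Groth.Agent.Lib.Helper25GrassNormal
import Groth.Agent.Lib.Helper25GrassDivisors
import Groth.Agent.Lib.Helper25DepthUnion
import Groth.Agent.S11254
import Groth.Agent.S11268

/-!
# Depth of unions of Schubert varieties at the vertex (helper25)
-/

noncomputable section

open MvPolynomial W4bk4grassmannian

namespace Groth.Agent.Lib.Helper25.Grass

open Groth.Agent.Lib.Helper24Grass Groth.Agent.Lib.Helper25.DepthUnion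

variable {d n : ℕ}

/-- a tuple that differs from `φ` at exactly one position, by one, is a divisor -/
theorem mem_divisors_of_dec (φ ψ : Idx d n) (t₀ : Fin d) (h1 : (ψ.1 t₀).val + 1 = (φ.1 t₀).val)
    (h2 : ∀ t, t ≠ t₀ → ψ.1 t = φ.1 t) : ψ ∈ divisors φ := by
  constructor
  · rw [lt_iff_le_and_ne]
    constructor
    · intro t
      show ψ.1 t ≤ φ.1 t
      by_cases ht : t = t₀
      · rw [ht, Fin.le_def]
        omega
      · rw [h2 t ht]
    · intro heq
      rw [heq] at h1
      omega
  · unfold codeg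
    rw [← Finset.add_sum_erase _ _ (Finset.mem_univ t₀), ← Finset.add_sum_erase _ _ (Finset.mem_univ t₀)]
    have h3 : ∀ s ∈ Finset.univ.erase t₀, (ψ.1 s).val - s.val = (φ.1 s).val - s.val := by
      intro s hs
      rw [h2 s (Finset.mem_erase.mp hs).1]
    rw [Finset.sum_congr rfl h3]
    have h4 := val_le_of_strictMono ψ.1 ψ.2 t₀
    omega

/-- the meet of two distinct divisors of `τ` is a divisor of each -/
theorem inf_mem_divisors (τ φ ψ : Idx d n) (hφ : φ ∈ divisors τ) (hψ : ψ ∈ divisors τ)
    (hne : φ ≠ ψ) : W4bk4grassmannian.inf φ ψ ∈ divisors ψ := by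
  obtain ⟨a, ha1, ha2⟩ := exists_dec_of_divisor τ φ hφ
  obtain ⟨b, hb1, hb2⟩ := exists_dec_of_divisor τ ψ hψ
  have hab : a ≠ b := by
    rintro rfl
    apply hne
    apply Subtype.ext
    funext t
    by_cases ht : t = a
    · subst ht
      apply Fin.ext
      omega
    · rw [ha2 t ht, hb2 t ht]
  apply mem_divisors_of_dec ψ _ a
  · show (min (φ.1 a) (ψ.1 a)).val + 1 = (ψ.1 a).val
    rw [hb2 a hab]
    have : φ.1 a ≤ τ.1 a := by rw [Fin.le_def]; omega
    rw [min_eq_left this]
    exact ha1
  · intro t ht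
    show min (φ.1 t) (ψ.1 t) = ψ.1 t
    rw [ha2 t ht]
    apply min_eq_right
    by_cases htb : t = b
    · subst htb
      rw [Fin.le_def]
      omega
    · rw [hb2 t htb]

theorem codeg_iota (hdn : d < n) : codeg (iotaIdx hdn) = 0 := by
  unfold codeg
  apply Finset.sum_eq_zero
  intro t _
  show ((iotaIdx hdn).1 t).val - t.val = 0
  have : ((iotaIdx hdn).1 t).val = t.val := rfl
  omega

variable (K : Type*) [Field K]

/-- the ideal of a finite union of Schubert varieties -/
def JD (D : Finset (Idx d n)) : Ideal (PlRing K d n) := ⨅ φ ∈ D, schubertVanishing K d n φ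

theorem JD_le (D : Finset (Idx d n)) (φ : Idx d n) (hφ : φ ∈ D) :
    JD K D ≤ schubertVanishing K d n φ := iInf₂_le φ hφ

theorem JD_singleton (φ : Idx d n) : JD K {φ} = schubertVanishing K d n φ := by
  unfold JD
  simp

theorem JD_insert [DecidableEq (Idx d n)] (φ : Idx d n) (D : Finset (Idx d n)) :
    JD K (insert φ D) = schubertVanishing K d n φ ⊓ JD K D := by
  unfold JD
  rw [Finset.iInf_insert]

theorem le_inf_idx {φ w c : Idx d n} (h1 : c ≤ φ) (h2 : c ≤ w) : c ≤ W4bk4grassmannian.inf φ w := by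
  intro t
  exact le_min (h1 t) (h2 t)

theorem inf_idx_le_left (φ w : Idx d n) : W4bk4grassmannian.inf φ w ≤ φ := fun t => min_le_left _ _

theorem inf_idx_le_right (φ w : Idx d n) : W4bk4grassmannian.inf φ w ≤ w := fun t => min_le_right _ _

/-- `(⋂ J(φ_i)) + J(w) = ⋂ J(φ_i ∧ w)` -/
theorem JD_sup_schubert [Infinite K] [DecidableEq (Idx d n)] (hd : 0 < d) (D : Finset (Idx d n))
    (w : Idx d n) :
    JD K D ⊔ schubertVanishing K d n w =
      JD K (D.image fun φ => W4bk4grassmannian.inf φ w) := by
  classical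
  apply le_antisymm
  · apply sup_le
    · apply le_iInf₂
      intro ψ hψ
      obtain ⟨φ, hφ, rfl⟩ := Finset.mem_image.mp hψ
      exact (JD_le K D φ hφ).trans (schubert_antitone K (inf_idx_le_left φ w))
    · apply le_iInf₂
      intro ψ hψ
      obtain ⟨φ, hφ, rfl⟩ := Finset.mem_image.mp hψ
      exact schubert_antitone K (inf_idx_le_right φ w)
  · intro F hF
    obtain ⟨s, a, hs, hFs⟩ := straighten K (JD K D ⊔ schubertVanishing K d n w)
      ((plIdealTop_le_schubert K w).trans le_sup_right)
      (fun c => (∀ k, c.2.1 k ≤ w) ∧ ∃ φ ∈ D, ∀ k, c.2.1 k ≤ φ) (by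
        intro c hc
        rw [not_and_or] at hc
        rcases hc with hc | hc
        · push Not at hc
          obtain ⟨k, hk⟩ := hc
          apply Ideal.mem_sup_right
          exact chainMon_mem_of_mem K _ c.2.1 k (X_mem_schubert K w _ hk)
        · push Not at hc
          apply Ideal.mem_sup_left
          unfold JD
          rw [Ideal.mem_iInf]
          intro φ
          rw [Ideal.mem_iInf]
          intro hφ
          obtain ⟨k, hk⟩ := hc φ hφ
          exact chainMon_mem_of_mem K _ c.2.1 k (X_mem_schubert K φ _ hk)) F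
    have hle : JD K D ⊔ schubertVanishing K d n w ≤
        JD K (D.image fun φ => W4bk4grassmannian.inf φ w) := by
      apply sup_le
      · apply le_iInf₂
        intro ψ hψ
        obtain ⟨φ, hφ, rfl⟩ := Finset.mem_image.mp hψ
        exact (JD_le K D φ hφ).trans (schubert_antitone K (inf_idx_le_left φ w))
      · apply le_iInf₂
        intro ψ hψ
        obtain ⟨φ, hφ, rfl⟩ := Finset.mem_image.mp hψ
        exact schubert_antitone K (inf_idx_le_right φ w)
    have hG : ∑ c ∈ s, a c • chainMon K c.2.1 ∈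
        JD K (D.image fun φ => W4bk4grassmannian.inf φ w) := by
      have := Ideal.sub_mem _ hF (hle hFs)
      rwa [sub_sub_cancel] at this
    have hz : ∀ c ∈ s, a c = 0 := by
      intro c hc
      obtain ⟨hcw, φ, hφ, hcφ⟩ := hs c hc
      have h1 : ∑ c ∈ s, a c • chainMon K c.2.1 ∈
          schubertVanishing K d n (W4bk4grassmannian.inf φ w) :=
        JD_le K (D.image fun φ => W4bk4grassmannian.inf φ w) (W4bk4grassmannian.inf φ w)
          (Finset.mem_image_of_mem (fun φ => W4bk4grassmannian.inf φ w) hφ) hG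
      exact core_indep' K hd _ s a h1 c hc (fun k => le_inf_idx (hcφ k) (hcw k))
    have hG0 : ∑ c ∈ s, a c • chainMon K c.2.1 = 0 := by
      apply Finset.sum_eq_zero
      intro c hc
      rw [hz c hc, zero_smul]
    rw [hG0, sub_zero] at hFs
    exact hFs

theorem isSMulRegular_X_tau [Infinite K] (hd : 0 < d) (τ : Idx d n) :
    IsSMulRegular (PlRing K d n ⧸ schubertVanishing K d n τ) (X τ : PlRing K d n) := by
  have := schubert_isPrime K hd τ
  have : IsDomain (PlRing K d n ⧸ schubertVanishing K d n τ) := Ideal.Quotient.isDomain _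
  have hxne : (Ideal.Quotient.mk (schubertVanishing K d n τ) (X τ)) ≠ 0 := by
    rw [Ne, Ideal.Quotient.eq_zero_iff_mem]
    exact X_tau_not_mem K hd τ
  intro a b hab
  have h1 : ∀ c : PlRing K d n ⧸ schubertVanishing K d n τ,
      (X τ : PlRing K d n) • c = Ideal.Quotient.mk (schubertVanishing K d n τ) (X τ) * c := by
    intro c
    obtain ⟨c, rfl⟩ := Ideal.Quotient.mk_surjective c
    rfl
  simp only [h1] at hab
  exact mul_left_cancel₀ hxne hab

/-- depth bounds at the vertex for Schubert varieties and unions of Schubert divisors -/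
theorem depth_main [IsAlgClosed K] (hd : 0 < d) (hdn : d < n) (m : Ideal (PlRing K d n))
    (hm : ∀ θ : Idx d n, (X θ : PlRing K d n) ∈ m) :
    ∀ (e : ℕ) (τ : Idx d n), codeg τ = e →
      (∀ D : Finset (Idx d n), D.Nonempty → (∀ φ ∈ D, φ ∈ divisors τ) →
        (e : ℕ∞) ≤ LocCoh.idealDepth m (PlRing K d n ⧸ JD K D)) ∧
      ((e + 1 : ℕ) : ℕ∞) ≤ LocCoh.idealDepth m (PlRing K d n ⧸ schubertVanishing K d n τ) := by
  classical
  intro e
  induction e using Nat.strong_induction_on with
  | _ e ih =>
  intro τ hτe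
  have hA : ∀ D : Finset (Idx d n), D.Nonempty → (∀ φ ∈ D, φ ∈ divisors τ) →
        (e : ℕ∞) ≤ LocCoh.idealDepth m (PlRing K d n ⧸ JD K D) := by
    intro D hD
    induction hD using Finset.Nonempty.cons_induction with
    | singleton φ =>
      intro hφ
      have hφd := hφ φ (Finset.mem_singleton_self φ)
      have hc : codeg φ + 1 = e := by rw [← hτe]; exact hφd.2
      have h1 := (ih (codeg φ) (by omega) φ rfl).2
      rw [JD_singleton]
      rw [hc] at h1
      exact h1
    | cons φ D' hφD' hD' ihD =>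
      intro hall
      rw [Finset.cons_eq_insert, JD_insert]
      have hφd := hall φ (Finset.mem_cons_self φ D')
      have hc : codeg φ + 1 = e := by rw [← hτe]; exact hφd.2
      have hD'all : ∀ ψ ∈ D', ψ ∈ divisors τ := fun ψ hψ => hall ψ (Finset.mem_cons.mpr (Or.inr hψ))
      rw [inf_comm]
      apply le_idealDepth_inf m (JD K D') (schubertVanishing K d n φ) e (ihD hD'all)
      · have h1 := (ih (codeg φ) (by omega) φ rfl).2
        rw [hc] at h1
        exact h1
      · rw [JD_sup_schubert K hd D' φ]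
        have h1 := (ih (codeg φ) (by omega) φ rfl).1
          (D'.image fun ψ => W4bk4grassmannian.inf ψ φ) (hD'.image _) (by
            intro ψ' hψ'
            obtain ⟨ψ, hψ, rfl⟩ := Finset.mem_image.mp hψ'
            exact inf_mem_divisors τ ψ φ (hD'all ψ hψ) hφd (by rintro rfl; exact hφD' hψ))
        have h2 : e - 1 = codeg φ := by omega
        rw [h2]
        exact h1
  refine ⟨hA, ?_⟩
  have hreg := isSMulRegular_X_tau K hd τ
  by_cases hτ : ∃ φ : Idx d n, φ < τ
  · obtain ⟨φ₀, hφ₀⟩ := hτ
    obtain ⟨δ, hδ, -⟩ := Groth.Agent.S11268.result d n φ₀ τ hφ₀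
    have hne : ((divisors τ).toFinset).Nonempty := ⟨δ, Set.mem_toFinset.mpr hδ⟩
    have h1 := hA (divisors τ).toFinset hne (fun φ hφ => Set.mem_toFinset.mp hφ)
    have h2 : JD K (divisors τ).toFinset =
        schubertVanishing K d n τ ⊔ Ideal.span {(X τ : PlRing K d n)} := by
      rw [Groth.Agent.S11254.result K d n hd hdn τ ⟨φ₀, hφ₀⟩]
      unfold JD
      simp only [Set.mem_toFinset]
    rw [h2] at h1
    exact le_idealDepth_of_regular m _ (X τ) (hm τ) hreg e h1
  · have hτι : τ = iotaIdx hdn := by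
      by_contra hne
      exact hτ ⟨iotaIdx hdn, lt_of_le_of_ne (iota_le hdn τ) (Ne.symm hne)⟩
    have he : e = 0 := by rw [← hτe, hτι, codeg_iota]
    subst he
    exact le_idealDepth_of_regular m _ (X τ) (hm τ) hreg 0 (by simp)

end Groth.Agent.Lib.Helper25.Grass
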