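import Mathlib
import Groth.Prelude.Def_W4bk4grassmannianPl
import Groth.Agent.Lib.Helper25GrassNormal
import Groth.Agent.Lib.Helper25BitabComb
import Groth.Agent.Lib.Helper14FTDim

/-!
# Dimension of Schubert varieties (helper25)
-/

noncomputable section

open MvPolynomial W4bk4grassmannian

namespace Groth.Agent.Lib.Helper25.Grass

open Groth.Agent.Lib.Helper25.Bitab

variable {d n : ℕ}

theorem cnt_self (w : Idx d n) (t : Fin d) : cnt w.1 (w.1 t).val = t.val := by
  unfold cnt
  have h : (Finset.univ.filter fun j : Fin d => (w.1 j).val < (w.1 t).val) = Finset.Iio t := by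
    ext j
    simp only [Finset.mem_filter, Finset.mem_univ, true_and, Finset.mem_Iio]
    rw [← Fin.lt_def, w.2.lt_iff_lt]
  rw [h, Fin.card_Iio]

theorem card_free_col (w : Idx d n) (t : Fin d) :
    (Finset.univ.filter fun r : Fin n => r < w.1 t ∧ ∀ s, w.1 s ≠ r).card =
      (w.1 t).val - t.val := by
  classical
  have h := card_compl_filter w.1 w.2.injective (w.1 t).val
  rw [cnt_self, min_eq_left (w.1 t).isLt.le] at h
  have h2 : (Finset.univ.filter fun r : Fin n => r < w.1 t ∧ ∀ s, w.1 s ≠ r) =
      (((Finset.univ.image w.1)ᶜ).filter fun c => c.val < (w.1 t).val) := by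
    ext r
    simp only [Finset.mem_filter, Finset.mem_univ, true_and, Finset.mem_compl, Finset.mem_image,
      not_exists, Fin.lt_def]
    tauto
  rw [h2]
  omega

theorem card_free (w : Idx d n) : Fintype.card (Free w) = codeg w := by
  classical
  unfold codeg
  rw [Fintype.card_subtype, Finset.card_filter, Fintype.sum_prod_type_right]
  apply Finset.sum_congr rfl
  intro t _
  rw [← card_free_col w t, Finset.card_filter]

universe u

variable (K : Type u) [Field K]

theorem trdeg_schubert [Infinite K] (hd : 0 < d) (w : Idx d n)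
    [IsDomain (PlRing K d n ⧸ schubertVanishing K d n w)] :
    Algebra.trdeg K (FractionRing (PlRing K d n ⧸ schubertVanishing K d n w)) =
      ((codeg w + 1 : ℕ) : Cardinal.{u}) := by
  classical
  letI algRC : Algebra (PlRing K d n ⧸ schubertVanishing K d n w) (CellAlg K w) :=
    (cellPhiBar K hd w).toAlgebra
  have halg : ∀ a, algebraMap (PlRing K d n ⧸ schubertVanishing K d n w) (CellAlg K w) a =
      cellPhiBar K hd w a := fun a => rfl
  have : IsScalarTower K (PlRing K d n ⧸ schubertVanishing K d n w) (CellAlg K w) := by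
    have key : ∀ x : K, algebraMap K (CellAlg K w) x =
        algebraMap (PlRing K d n ⧸ schubertVanishing K d n w) (CellAlg K w)
          (algebraMap K (PlRing K d n ⧸ schubertVanishing K d n w) x) := by
      intro x
      have h0 : algebraMap K (PlRing K d n ⧸ schubertVanishing K d n w) x =
          Ideal.Quotient.mk _ (algebraMap K (PlRing K d n) x) := rfl
      rw [halg, h0, cellPhiBar_mk, AlgHom.commutes (cellPhi K w) x]
    exact IsScalarTower.of_algebraMap_eq (R := K)
      (S := PlRing K d n ⧸ schubertVanishing K d n w) (A := CellAlg K w) key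
  have : FaithfulSMul (PlRing K d n ⧸ schubertVanishing K d n w) (CellAlg K w) :=
    (faithfulSMul_iff_algebraMap_injective _ _).mpr (cellPhiBar_injective K hd w)
  have hxne : (Ideal.Quotient.mk (schubertVanishing K d n w) (X w)) ≠ 0 := by
    rw [Ne, Ideal.Quotient.eq_zero_iff_mem]
    exact X_tau_not_mem K hd w
  have : Algebra.IsAlgebraic (PlRing K d n ⧸ schubertVanishing K d n w) (CellAlg K w) := by
    constructor
    intro g
    obtain ⟨F, k, hF⟩ := exists_cellPhi_eq K hd w g
    refine ⟨Polynomial.C ((Ideal.Quotient.mk (schubertVanishing K d n w) (X w)) ^ k) * Polynomial.X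
      - Polynomial.C (Ideal.Quotient.mk _ F), ?_, ?_⟩
    · intro h0
      have h1 := congrArg (fun p => Polynomial.coeff p 1) h0
      simp only [Polynomial.coeff_sub, Polynomial.coeff_C_mul, Polynomial.coeff_X_one, mul_one,
        Polynomial.coeff_C, one_ne_zero, if_false, sub_zero, Polynomial.coeff_zero] at h1
      exact pow_ne_zero k hxne h1
    · rw [map_sub, map_mul, Polynomial.aeval_C, Polynomial.aeval_C, Polynomial.aeval_X, halg,
        halg, map_pow, cellPhiBar_mk, cellPhiBar_mk, cellPhi_X_tau, hF, sub_self]
  have : FaithfulSMul K (PlRing K d n ⧸ schubertVanishing K d n w) := inferInstance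
  have h1 := trdeg_add_eq K (PlRing K d n ⧸ schubertVanishing K d n w) (A := CellAlg K w)
  rw [trdeg_eq_zero (R := PlRing K d n ⧸ schubertVanishing K d n w) (A := CellAlg K w),
    add_zero, MvPolynomial.trdeg_of_isDomain] at h1
  have : Algebra.IsAlgebraic (PlRing K d n ⧸ schubertVanishing K d n w)
      (FractionRing (PlRing K d n ⧸ schubertVanishing K d n w)) :=
    IsLocalization.isAlgebraic _ (nonZeroDivisors _)
  have h2 := trdeg_add_eq K (PlRing K d n ⧸ schubertVanishing K d n w)
    (A := FractionRing (PlRing K d n ⧸ schubertVanishing K d n w))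
  rw [trdeg_eq_zero (R := PlRing K d n ⧸ schubertVanishing K d n w)
    (A := FractionRing (PlRing K d n ⧸ schubertVanishing K d n w)), add_zero, h1] at h2
  rw [← h2, Cardinal.mk_option, Cardinal.mk_fintype, card_free]
  simp

/-- the affine cone over the Schubert variety `X(w)` has dimension `codeg w + 1` -/
theorem ringKrullDim_schubert [Infinite K] (hd : 0 < d) (w : Idx d n) :
    ringKrullDim (PlRing K d n ⧸ schubertVanishing K d n w) =
      ((codeg w + 1 : ℕ) : WithBot ℕ∞) := by
  have := schubert_isPrime K hd w
  have : IsDomain (PlRing K d n ⧸ schubertVanishing K d n w) := Ideal.Quotient.isDomain _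
  have : Algebra.FiniteType K (PlRing K d n ⧸ schubertVanishing K d n w) :=
    Algebra.FiniteType.of_surjective (Ideal.Quotient.mkₐ K (schubertVanishing K d n w))
      (Ideal.Quotient.mkₐ_surjective K _)
  obtain ⟨m, hm1, hm2, -⟩ := Groth.Agent.Lib.Helper14.FTDim.exists_dim K
    (PlRing K d n ⧸ schubertVanishing K d n w)
  rw [trdeg_schubert K hd w] at hm1
  have : codeg w + 1 = m := by exact_mod_cast hm1
  rw [hm2, this]

end Groth.Agent.Lib.Helper25.Grass
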