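import Mathlib
import Groth.Prelude.Def_W4bk4grassmannianPl
import Groth.Prelude.Def_CAlg
import Groth.Prelude.Def_GrSyz
import Groth.Agent.Lib.Helper25GrassCM
import Groth.Agent.Lib.Helper25GrassDim
import Groth.Agent.Lib.Helper25GrGlob
import Groth.Agent.Lib.Helper29Conn

/-!
# Schubert varieties and unions of Schubert divisors are Cohen–Macaulay (helper25)
-/

noncomputable section

open MvPolynomial W4bk4grassmannian

namespace Groth.Agent.Lib.Helper25.Grass

variable {d n : ℕ}

section Homog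

variable (K : Type*) [Field K]

theorem coord_homog (a : Fin d → Fin n) :
    IsWeightedHomogeneous (fun _ : Idx d n => (1 : ℤ)) (coord K d n a) 1 := by
  unfold coord
  split_ifs with h
  · have h1 : ((-1 : PlRing K d n) ^ invCount d n a) = C ((-1 : K) ^ invCount d n a) := by
      rw [C_pow, C_neg, C_1]
    rw [h1]
    have := (isWeightedHomogeneous_C (fun _ : Idx d n => (1 : ℤ)) ((-1 : K) ^ invCount d n a)).mul
      (isWeightedHomogeneous_X K (fun _ : Idx d n => (1 : ℤ)) (sortIdx d n a h))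
    rwa [zero_add] at this
  · exact isWeightedHomogeneous_zero _ _ _

theorem shuffleRel_homog (i j : Idx d n) (r : Fin d) :
    IsWeightedHomogeneous (fun _ : Idx d n => (1 : ℤ)) (shuffleRel K i j r) 2 := by
  unfold shuffleRel
  apply IsWeightedHomogeneous.sum
  intro A _
  unfold shuffleTerm
  split_ifs with hA
  · have h1 : ((-1 : PlRing K d n) ^ shuffleSign r A) = C ((-1 : K) ^ shuffleSign r A) := by
      rw [C_pow, C_neg, C_1]
    rw [h1]
    have := ((isWeightedHomogeneous_C (fun _ : Idx d n => (1 : ℤ))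
      ((-1 : K) ^ shuffleSign r A)).mul (coord_homog K (shuffleI i j r A hA))).mul
      (coord_homog K (shuffleJ i j r A hA))
    have e : (0 : ℤ) + 1 + 1 = 2 := by norm_num
    rwa [e] at this
  · exact isWeightedHomogeneous_zero _ _ _

theorem plIdeal_homog (τ : Idx d n) :
    (plIdeal K τ).IsHomogeneous (GrSyz.stdGr K (Idx d n)) := by
  unfold plIdeal
  apply Ideal.homogeneous_span
  rintro f (⟨i, j, r, -, rfl⟩ | ⟨φ, -, rfl⟩)
  · exact ⟨2, (GrSyz.mem_stdGr_iff K _ 2 _).2 (shuffleRel_homog K i j r)⟩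
  · exact ⟨1, (GrSyz.mem_stdGr_iff K _ 1 _).2
      (isWeightedHomogeneous_X K (fun _ : Idx d n => (1 : ℤ)) φ)⟩

theorem schubert_homog [Infinite K] (hd : 0 < d) (τ : Idx d n) :
    (schubertVanishing K d n τ).IsHomogeneous (GrSyz.stdGr K (Idx d n)) := by
  rw [← plIdeal_eq_schubert K hd τ]
  exact plIdeal_homog K τ

theorem JD_homog [Infinite K] (hd : 0 < d) (D : Finset (Idx d n)) :
    (JD K D).IsHomogeneous (GrSyz.stdGr K (Idx d n)) := by
  unfold JD
  exact Ideal.IsHomogeneous.iInf₂ fun φ _ => schubert_homog K hd φ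

theorem X_mem_irr (θ : Idx d n) :
    (X θ : PlRing K d n) ∈ (GrSyz.irrel (GrSyz.stdGr K (Idx d n))).toIdeal :=
  Ideal.subset_span ⟨1, one_pos, (GrSyz.mem_stdGr_iff K _ 1 _).2
    (isWeightedHomogeneous_X K (fun _ : Idx d n => (1 : ℤ)) θ)⟩

end Homog

universe u

variable (K : Type u) [Field K]

theorem ringKrullDim_JD_le [IsAlgClosed K] (hd : 0 < d) (e : ℕ) :
    ∀ D : Finset (Idx d n), (∀ φ ∈ D, codeg φ + 1 = e) →
      ringKrullDim (PlRing K d n ⧸ JD K D) ≤ (e : WithBot ℕ∞) := by
  classical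
  intro D
  induction D using Finset.induction_on with
  | empty =>
    intro _
    have h1 : JD K (∅ : Finset (Idx d n)) = ⊤ := by
      unfold JD
      simp
    rw [h1]
    have : Subsingleton (PlRing K d n ⧸ (⊤ : Ideal (PlRing K d n))) :=
      Ideal.Quotient.subsingleton_iff.mpr rfl
    rw [ringKrullDim_eq_bot_of_subsingleton]
    exact bot_le
  | insert φ D' hφ ih =>
    intro hall
    rw [JD_insert]
    have h1 := Groth.Agent.Lib.Helper29.Conn.dim_inf_sup_le (schubertVanishing K d n φ) (JD K D') ⊥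
    rw [sup_bot_eq, sup_bot_eq, sup_bot_eq] at h1
    refine h1.trans (max_le ?_ ?_)
    · rw [ringKrullDim_schubert K hd φ, hall φ (Finset.mem_insert_self φ D')]
    · exact ih fun ψ hψ => hall ψ (Finset.mem_insert_of_mem hψ)

/-- Schubert varieties are Cohen–Macaulay -/
theorem isCohenMacaulayRing_schubert [IsAlgClosed K] (hd : 0 < d) (hdn : d < n) (τ : Idx d n) :
    LocCoh.IsCohenMacaulayRing (PlRing K d n ⧸ schubertVanishing K d n τ) := by
  apply Groth.Agent.Lib.Helper25.GrGlob.isCohenMacaulayRing_of_le_idealDepth K (Idx d n)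
    (schubertVanishing K d n τ) (schubert_homog K hd τ) (codeg τ + 1)
  · rw [ringKrullDim_schubert K hd τ]
  · exact (depth_main K hd hdn _ (X_mem_irr K) (codeg τ) τ rfl).2

/-- unions of Schubert divisors are Cohen–Macaulay -/
theorem isCohenMacaulayRing_union_divisors [IsAlgClosed K] (hd : 0 < d) (hdn : d < n) (τ : Idx d n)
    (s : ℕ) (φ : Fin s → Idx d n) (hφ : ∀ i, φ i ∈ divisors τ) :
    LocCoh.IsCohenMacaulayRing (PlRing K d n ⧸ ⨅ i, schubertVanishing K d n (φ i)) := by
  classical
  have h1 : (⨅ i, schubertVanishing K d n (φ i)) = JD K (Finset.univ.image φ) := by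
    unfold JD
    rw [Finset.iInf_finset_image]
    simp
  rw [h1]
  apply Groth.Agent.Lib.Helper25.GrGlob.isCohenMacaulayRing_of_le_idealDepth K (Idx d n)
    (JD K (Finset.univ.image φ)) (JD_homog K hd _) (codeg τ)
  · apply ringKrullDim_JD_le K hd
    intro ψ hψ
    obtain ⟨i, -, rfl⟩ := Finset.mem_image.mp hψ
    exact (hφ i).2
  · by_cases hs : (Finset.univ.image φ).Nonempty
    · apply (depth_main K hd hdn _ (X_mem_irr K) (codeg τ) τ rfl).1 _ hs
      intro ψ hψ
      obtain ⟨i, -, rfl⟩ := Finset.mem_image.mp hψ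
      exact hφ i
    · rw [Finset.not_nonempty_iff_eq_empty] at hs
      rw [hs]
      have h2 : JD K (∅ : Finset (Idx d n)) = ⊤ := by
        unfold JD
        simp
      rw [h2]
      have : Subsingleton (PlRing K d n ⧸ (⊤ : Ideal (PlRing K d n))) :=
        Ideal.Quotient.subsingleton_iff.mpr rfl
      rw [Groth.Agent.Lib.Helper28.idealDepth_eq_top_of_subsingleton]
      exact le_top

end Groth.Agent.Lib.Helper25.Grass
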