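import Mathlib
import Groth.Prelude.Def_W4bk4grassmannianPl
import Groth.Prelude.Def_CAlgX
import Groth.Agent.Lib.Helper25DetRing
import Groth.Agent.Lib.Helper25GrassCM2
import Groth.Agent.Lib.Helper28ProjNormal
import Groth.Agent.Lib.Helper28PolyCM
import Groth.Agent.Lib.Helper14FTDimB

/-!
# Determinantal rings are Cohen–Macaulay of dimension `(t-1)(m+n-t+1)` (helper25)
-/

noncomputable section

open MvPolynomial W4bk4grassmannian

namespace Groth.Agent.Lib.Helper25.DetRing

open Groth.Agent.Lib.Helper25.Grass Groth.Agent.Lib.Helper25.Bitab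

universe u

/-- quotient of a Cohen–Macaulay finite type domain by a principal prime: Cohen–Macaulay, and the
dimension drops by one -/
theorem cm_dim_quotient_span_singleton {K A : Type u} [Field K] [CommRing A] [IsDomain A]
    [Algebra K A] [Algebra.FiniteType K A] [LocCoh.IsCohenMacaulayRing A] (a : A) (ha : a ≠ 0)
    (hprime : (Ideal.span {a}).IsPrime) (D : ℕ) (hD : ringKrullDim A = ((D + 1 : ℕ) : WithBot ℕ∞)) :
    LocCoh.IsCohenMacaulayRing (A ⧸ Ideal.span {a}) ∧
      ringKrullDim (A ⧸ Ideal.span {a}) = ((D : ℕ) : WithBot ℕ∞) := by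
  have hN : IsNoetherianRing A := Algebra.FiniteType.isNoetherianRing K A
  have h1 : 1 ≤ (Ideal.span {a}).height :=
    Ideal.one_le_height_span_singleton_of_mem_nonZeroDivisors (mem_nonZeroDivisors_of_ne_zero ha)
  have hnu : ¬ IsUnit a := by
    intro hu
    exact hprime.ne_top (Ideal.span_singleton_eq_top.mpr hu)
  have h2 : (Ideal.span {a}).height ≤ 1 := Ideal.height_span_singleton_le_one hnu
  have hht : (Ideal.span {a}).height = 1 := le_antisymm h2 h1
  constructor
  · refine (Groth.Agent.Lib.Helper28.isCohenMacaulayRing_quotient_of_eq_ofList [a] (Ideal.span {a})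
      (Ideal.ofList_singleton a).symm ?_).1
    rw [hht]
    simp
  · obtain ⟨m, c, hc, hm, hcc, hq⟩ := Groth.Agent.Lib.Helper14.FTDim.exists_dim_height (k := K) A
      (Ideal.span {a})
    rw [hD] at hm
    rw [hht] at hcc
    have hm' : D + 1 = m := by exact_mod_cast hm
    have hc' : c = 1 := by exact_mod_cast hcc.symm
    rw [hq]
    congr 1
    omega


variable (K : Type u) [Field K] {d r t : ℕ}

/-- `R_t ≃ (S / J(τ_t)) / (X_ι - 1)` -/
theorem exists_ringEquiv [Infinite K] (hd : 0 < d) (hr : 0 < r) (ht1 : 1 ≤ t) (ht : t ≤ r + 1) :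
    Nonempty ((MvPolynomial (Fin r × Fin d) K ⧸ CAlgX.minorIdeal (genMatrix K r d) t) ≃+*
      ((PlRing K d (d + r) ⧸ schubertVanishing K d (d + r) (tauT d r t ht)) ⧸
        Ideal.span {Ideal.Quotient.mk (schubertVanishing K d (d + r) (tauT d r t ht))
          ((X (io hr) : PlRing K d (d + r)) - 1)})) := by
  have hsurj : Function.Surjective (psi (d := d) (r := r) K t).toRingHom := psi_surjective K hr t
  have e1 := RingHom.quotientKerEquivOfSurjective hsurj
  have hker : RingHom.ker (psi (d := d) (r := r) K t).toRingHom =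
      schubertVanishing K d (d + r) (tauT d r t ht) ⊔
        Ideal.span {(X (io hr) : PlRing K d (d + r)) - 1} := by
    have h1 : RingHom.ker (psi (d := d) (r := r) K t).toRingHom =
        RingHom.ker (psi (d := d) (r := r) K t) := rfl
    rw [h1, ker_psi K hd hr ht1 ht]
    unfold Qid
    rw [plIdeal_eq_schubert K hd]
  have e2 := Ideal.quotEquivOfEq hker
  have e3 := DoubleQuot.quotQuotEquivQuotSup (schubertVanishing K d (d + r) (tauT d r t ht))
    (Ideal.span {(X (io hr) : PlRing K d (d + r)) - 1})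
  have hmap : (Ideal.span {(X (io hr) : PlRing K d (d + r)) - 1}).map
      (Ideal.Quotient.mk (schubertVanishing K d (d + r) (tauT d r t ht))) =
      Ideal.span {Ideal.Quotient.mk (schubertVanishing K d (d + r) (tauT d r t ht))
          ((X (io hr) : PlRing K d (d + r)) - 1)} := by
    rw [Ideal.map_span, Set.image_singleton]
  exact ⟨e1.symm.trans (e2.trans (e3.symm.trans (Ideal.quotEquivOfEq hmap)))⟩

/-- `X_ι - 1` does not vanish on the Schubert cone -/
theorem X_io_sub_one_not_mem (hd : 0 < d) (hr : 0 < r) (τ : Idx d (d + r)) :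
    (X (io hr) : PlRing K d (d + r)) - 1 ∉ schubertVanishing K d (d + r) τ := by
  intro h
  rw [mem_schubert_iff] at h
  have hdet : ∀ φ : Idx d (d + r), ((0 : Matrix (Fin (d + r)) (Fin d) K).submatrix φ.1 id).det = 0 := by
    intro φ
    haveI : Nonempty (Fin d) := ⟨⟨0, hd⟩⟩
    have : (0 : Matrix (Fin (d + r)) (Fin d) K).submatrix φ.1 id = 0 := by
      ext i j; rfl
    rw [this, Matrix.det_zero]
  have h1 := h 0 (fun φ _ => hdet φ)
  rw [map_sub, map_one] at h1
  unfold evalMinors at h1
  rw [MvPolynomial.aeval_X, hdet, zero_sub, neg_eq_zero] at h1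
  exact one_ne_zero h1

theorem codeg_tauT (ht1 : 1 ≤ t) (ht : t ≤ r + 1) (htd : t ≤ d) :
    codeg (tauT d r t ht) = (t - 1) * (r + d - t + 1) := by
  unfold codeg tauT
  simp only
  have h1 : ∀ j : Fin d, ((if h : j.val + t ≤ d then (⟨j.val + (t - 1), by omega⟩ : Fin (d + r))
      else ⟨r + j.val, by have := j.isLt; omega⟩ : Fin (d + r)).val - j.val) =
      if j.val < d - t + 1 then t - 1 else r := by
    intro j
    split_ifs with h2 h3 h3
    · simp only; omega
    · omega
    · omega
    · simp only; omega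
  rw [Finset.sum_congr rfl (fun j _ => h1 j), Finset.sum_ite, Finset.sum_const, Finset.sum_const,
    smul_eq_mul, smul_eq_mul, card_filter_val_lt]
  have h2 : (Finset.univ.filter fun j : Fin d => ¬ j.val < d - t + 1).card = t - 1 := by
    have h3 := Finset.card_filter_add_card_filter_not (s := (Finset.univ : Finset (Fin d)))
      (fun j : Fin d => j.val < d - t + 1)
    rw [card_filter_val_lt, Finset.card_univ, Fintype.card_fin] at h3
    have : min (d - t + 1) d = d - t + 1 := by omega
    omega
  rw [h2]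
  have h4 : min (d - t + 1) d = d - t + 1 := by omega
  rw [h4]
  have h5 : r + d - t + 1 = (d - t + 1) + r := by omega
  rw [h5]
  ring


/-- determinantal rings are Cohen–Macaulay of dimension `(t-1)(r+d-t+1)` -/
theorem cm_dim_detRing [IsAlgClosed K] (hd : 0 < d) (hr : 0 < r) (ht1 : 1 ≤ t) (ht : t ≤ r)
    (htd : t ≤ d) :
    LocCoh.IsCohenMacaulayRing
        (MvPolynomial (Fin r × Fin d) K ⧸ CAlgX.minorIdeal (genMatrix K r d) t) ∧
      ringKrullDim (MvPolynomial (Fin r × Fin d) K ⧸ CAlgX.minorIdeal (genMatrix K r d) t) =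
        (((t - 1) * (r + d - t + 1) : ℕ) : WithBot ℕ∞) := by
  have ht' : t ≤ r + 1 := by omega
  have hdn : d < d + r := Nat.lt_add_of_pos_right hr
  obtain ⟨e⟩ := exists_ringEquiv K hd hr ht1 ht'
  have hp := schubert_isPrime K hd (tauT d r t ht')
  have hdom : IsDomain (PlRing K d (d + r) ⧸ schubertVanishing K d (d + r) (tauT d r t ht')) :=
    Ideal.Quotient.isDomain _
  have hft : Algebra.FiniteType K
      (PlRing K d (d + r) ⧸ schubertVanishing K d (d + r) (tauT d r t ht')) :=
    Algebra.FiniteType.of_surjective (Ideal.Quotient.mkₐ K _) (Ideal.Quotient.mkₐ_surjective K _)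
  have hCM := isCohenMacaulayRing_schubert K hd hdn (tauT d r t ht')
  have ha : Ideal.Quotient.mk (schubertVanishing K d (d + r) (tauT d r t ht'))
      ((X (io hr) : PlRing K d (d + r)) - 1) ≠ 0 := by
    intro h
    rw [Ideal.Quotient.eq_zero_iff_mem] at h
    exact X_io_sub_one_not_mem K hd hr _ h
  have hdomR := isDomain_detRing K r d t ht1
  have hdomQ : IsDomain ((PlRing K d (d + r) ⧸ schubertVanishing K d (d + r) (tauT d r t ht')) ⧸
        Ideal.span {Ideal.Quotient.mk (schubertVanishing K d (d + r) (tauT d r t ht'))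
          ((X (io hr) : PlRing K d (d + r)) - 1)}) := MulEquiv.isDomain _ e.symm.toMulEquiv
  have hprime := (Ideal.Quotient.isDomain_iff_prime _).mp hdomQ
  obtain ⟨h1, h2⟩ := cm_dim_quotient_span_singleton (K := K) _ ha hprime (codeg (tauT d r t ht'))
    (ringKrullDim_schubert K hd _)
  refine ⟨Groth.Agent.Lib.Helper28.isCohenMacaulayRing_of_ringEquiv
    (R := (PlRing K d (d + r) ⧸ schubertVanishing K d (d + r) (tauT d r t ht')) ⧸
        Ideal.span {Ideal.Quotient.mk (schubertVanishing K d (d + r) (tauT d r t ht'))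
          ((X (io hr) : PlRing K d (d + r)) - 1)}) e.symm, ?_⟩
  rw [ringKrullDim_eq_of_ringEquiv
    (S := (PlRing K d (d + r) ⧸ schubertVanishing K d (d + r) (tauT d r t ht')) ⧸
        Ideal.span {Ideal.Quotient.mk (schubertVanishing K d (d + r) (tauT d r t ht'))
          ((X (io hr) : PlRing K d (d + r)) - 1)}) e, h2, codeg_tauT ht1 ht' htd]

end Groth.Agent.Lib.Helper25.DetRing
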