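import Groth.Agent.Lib.Helper25HDescE

/-!
# Algebra maps from a finitely presented algebra into `R ⊗ N` come from a finitely generated
subalgebra of `R` (helper25)
-/

set_option autoImplicit false
set_option linter.unusedSectionVars false
set_option linter.style.haveILetI false
universe u

namespace Groth.Agent.Lib.Helper25.HDesc

open TensorProduct

section K1

variable {K : Type u} [CommRing K] (R : Type u) [CommRing R] [Algebra K R]
  (N : Type u) [CommRing N] [Algebra K N]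

theorem map_eq_rTensor {T T' : Type u} [CommRing T] [Algebra K T] [CommRing T'] [Algebra K T']
    (f : T →ₐ[K] T') (x : T ⊗[K] N) :
    Algebra.TensorProduct.map f (AlgHom.id K N) x = LinearMap.rTensor N f.toLinearMap x := rfl

/-- The map `S ⊗ N → R ⊗ N`. -/
noncomputable abbrev ρS (S : Subalgebra K R) : S ⊗[K] N →ₐ[K] R ⊗[K] N :=
  Algebra.TensorProduct.map S.val (AlgHom.id K N)

/-- The map `S ⊗ N → S' ⊗ N`. -/
noncomputable abbrev ρSS {S S' : Subalgebra K R} (h : S ≤ S') : S ⊗[K] N →ₐ[K] S' ⊗[K] N :=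
  Algebra.TensorProduct.map (Subalgebra.inclusion h) (AlgHom.id K N)

theorem ρS_ρSS {S S' : Subalgebra K R} (h : S ≤ S') (x : S ⊗[K] N) :
    ρS R N S' (ρSS R N h x) = ρS R N S x := by
  induction x using TensorProduct.induction_on with
  | zero => simp
  | add x y hx hy => simp only [map_add, hx, hy]
  | tmul s n => simp

theorem ρSS_ρSS {S S' S'' : Subalgebra K R} (h : S ≤ S') (h' : S' ≤ S'') (x : S ⊗[K] N) :
    ρSS R N h' (ρSS R N h x) = ρSS R N (h.trans h') x := by
  induction x using TensorProduct.induction_on with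
  | zero => simp
  | add x y hx hy => simp only [map_add, hx, hy]
  | tmul s n => simp

theorem exists_fg_mem_range (u : R ⊗[K] N) :
    ∃ S : Subalgebra K R, S.FG ∧ ∀ S' : Subalgebra K R, S ≤ S' →
      u ∈ Set.range (ρS R N S') := by
  obtain ⟨S, hS, y, hy⟩ := TensorProduct.Algebra.exists_of_fg u
  refine ⟨S, hS, fun S' hS' => ⟨ρSS R N hS' y, ?_⟩⟩
  rw [ρS_ρSS]
  exact hy

theorem exists_fg_eq_zero {S : Subalgebra K R} (hS : S.FG) (t : S ⊗[K] N)
    (ht : ρS R N S t = 0) :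
    ∃ S₁ : Subalgebra K R, S₁.FG ∧ ∀ S' : Subalgebra K R, S₁ ≤ S' →
      ∃ h : S ≤ S', ρSS R N h t = 0 := by
  have h0 : LinearMap.rTensor N S.val.toLinearMap t = LinearMap.rTensor N S.val.toLinearMap 0 := by
    rw [map_zero]
    exact ht
  obtain ⟨S₁, hSS₁, hfg, heq⟩ := TensorProduct.Algebra.eq_of_fg_of_subtype_eq hS h0
  refine ⟨S₁, hfg, fun S' hS' => ⟨hSS₁.trans hS', ?_⟩⟩
  rw [← ρSS_ρSS R N hSS₁ hS']
  have : ρSS R N hSS₁ t = 0 := by
    rw [map_zero] at heq
    exact heq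
  rw [this, map_zero]

/-- **Lifting to a finite stage.** A `K`-algebra map from a finitely presented algebra `B` to
`R ⊗ N` factors through `S ⊗ N` for all large enough finitely generated subalgebras `S` of `R`. -/
theorem exists_fg_algHom_lift (B : Type u) [CommRing B] [Algebra K B]
    (hfp : Algebra.FinitePresentation K B) (φ : B →ₐ[K] R ⊗[K] N) :
    ∃ S : Subalgebra K R, S.FG ∧ ∀ S' : Subalgebra K R, S ≤ S' →
      ∃ ψ : B →ₐ[K] S' ⊗[K] N, ∀ b, ρS R N S' (ψ b) = φ b := by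
  classical
  obtain ⟨n, f, hf, s, hs⟩ := hfp.out
  -- lift the images of the variables
  obtain ⟨Sa, hSa, h1⟩ := exists_fg_forall_finset R (Finset.univ : Finset (Fin n))
    (fun j S => φ (f (MvPolynomial.X j)) ∈ Set.range (ρS R N S))
    (fun j _ => exists_fg_mem_range R N _)
  have h1' : ∀ j : Fin n, ∃ y : Sa ⊗[K] N, ρS R N Sa y = φ (f (MvPolynomial.X j)) :=
    fun j => h1 Sa le_rfl j (Finset.mem_univ j)
  choose y hy using h1'
  let ψ₀ : MvPolynomial (Fin n) K →ₐ[K] Sa ⊗[K] N := MvPolynomial.aeval y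
  have hψ₀ : ∀ p, ρS R N Sa (ψ₀ p) = φ (f p) := by
    intro p
    have : (ρS R N Sa).comp ψ₀ = φ.comp f := by
      apply MvPolynomial.algHom_ext
      intro j
      simp only [AlgHom.comp_apply, ψ₀, MvPolynomial.aeval_X]
      exact hy j
    exact congrArg (fun F => F p) this
  -- kill the relations
  have hsker : ∀ r ∈ s, f r = 0 := by
    intro r hr
    have : r ∈ RingHom.ker f.toRingHom := hs ▸ Ideal.subset_span hr
    exact this
  obtain ⟨Sb, hSb, h2⟩ := exists_fg_forall_finset R s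
    (fun r S => ∃ h : Sa ≤ S, ρSS R N h (ψ₀ r) = 0)
    (fun r hr => exists_fg_eq_zero R N hSa (ψ₀ r) (by rw [hψ₀, hsker r hr, map_zero]))
  refine ⟨Sa ⊔ Sb, hSa.sup hSb, fun S' hS' => ?_⟩
  have h1S' : Sa ≤ S' := le_trans le_sup_left hS'
  have h2S' : Sb ≤ S' := le_trans le_sup_right hS'
  let ψ₁ : MvPolynomial (Fin n) K →ₐ[K] S' ⊗[K] N := (ρSS R N h1S').comp ψ₀
  have hkill : RingHom.ker f.toRingHom ≤ RingHom.ker ψ₁.toRingHom := by
    rw [← hs, Ideal.span_le]
    intro r hr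
    obtain ⟨h, hr0⟩ := h2 S' h2S' r hr
    exact hr0
  refine ⟨AlgHom.liftOfSurjective f hf ψ₁ hkill, fun b => ?_⟩
  obtain ⟨p, rfl⟩ := hf b
  rw [AlgHom.liftOfSurjective_apply]
  change ρS R N S' (ρSS R N h1S' (ψ₀ p)) = _
  rw [ρS_ρSS, hψ₀]

end K1

end Groth.Agent.Lib.Helper25.HDesc
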