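import Groth.Agent.Lib.Helper25SprE
import Groth.Agent.Lib.Helper25HDescF

/-!
# Abstract directed systems of algebras whose colimit commutes with tensor products (helper25)

`IsDirSys Ti σ τ`: a directed system of `B`-algebras `Ti i` with transition maps `τ` mapping
compatibly (`σ`) to `T`, such that `T ⊗ N` is the filtered colimit of the `Ti i ⊗ N` for every
`B`-algebra `N`.  Consequences for algebra maps out of finitely presented algebras (`L1`, `L2`).
-/

set_option autoImplicit false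
set_option linter.unusedSectionVars false
set_option linter.style.haveILetI false
universe u

namespace Groth.Agent.Lib.Helper25.DirSys

open TensorProduct Groth.Agent.Lib.Helper25.Spr

/-- A directed system of `B`-algebras with "limit" `T`, compatible with tensor products. -/
structure IsDirSys {B : Type u} [CommRing B] {T : Type u} [CommRing T] [Algebra B T]
    {I : Type u} [Preorder I] (Ti : I → Type u) [∀ i, CommRing (Ti i)] [∀ i, Algebra B (Ti i)]
    (σ : ∀ i, Ti i →ₐ[B] T) (τ : ∀ i j, i ≤ j → (Ti i →ₐ[B] Ti j)) : Prop where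
  σ_τ : ∀ i j (h : i ≤ j), (σ j).comp (τ i j h) = σ i
  τ_τ : ∀ i j k (h : i ≤ j) (h' : j ≤ k), (τ j k h').comp (τ i j h) = τ i k (h.trans h')
  F1 : ∀ (N : Type u) [CommRing N] [Algebra B N] (u : T ⊗[B] N),
    ∃ i, ∃ v : Ti i ⊗[B] N, tmap N (σ i) v = u
  F2 : ∀ (N : Type u) [CommRing N] [Algebra B N] (i : I) (d : Ti i ⊗[B] N),
    tmap N (σ i) d = 0 → ∃ j, ∃ h : i ≤ j, tmap N (τ i j h) d = 0

section Basics

variable {I : Type u} [Preorder I] [IsDirected I (· ≤ ·)] [Nonempty I]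

/-- Finitely many eventually-true properties are simultaneously eventually true. -/
theorem exists_forall_finset {ι : Type*} (G : Finset ι) (p : ι → I → Prop)
    (h : ∀ x ∈ G, ∃ i, ∀ j, i ≤ j → p x j) :
    ∃ i, ∀ j, i ≤ j → ∀ x ∈ G, p x j := by
  classical
  induction G using Finset.induction_on with
  | empty =>
    obtain ⟨i⟩ := ‹Nonempty I›
    exact ⟨i, fun _ _ x hx => absurd hx (Finset.notMem_empty x)⟩
  | insert a G ha ih =>
    obtain ⟨i₁, h₁⟩ := h a (Finset.mem_insert_self a G)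
    obtain ⟨i₂, h₂⟩ := ih (fun x hx => h x (Finset.mem_insert_of_mem hx))
    obtain ⟨k, hk₁, hk₂⟩ := exists_ge_ge i₁ i₂
    refine ⟨k, fun j hj x hx => ?_⟩
    rcases Finset.mem_insert.mp hx with rfl | hx
    · exact h₁ j (hk₁.trans hj)
    · exact h₂ j (hk₂.trans hj) x hx

end Basics

section L

variable {B : Type u} [CommRing B] {T : Type u} [CommRing T] [Algebra B T]
  {I : Type u} [Preorder I] [IsDirected I (· ≤ ·)] [Nonempty I]
  {Ti : I → Type u} [∀ i, CommRing (Ti i)] [∀ i, Algebra B (Ti i)]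
  {σ : ∀ i, Ti i →ₐ[B] T} {τ : ∀ i j, i ≤ j → (Ti i →ₐ[B] Ti j)}
  (D : IsDirSys Ti σ τ) (N : Type u) [CommRing N] [Algebra B N]

include D

theorem tmap_σ_τ (i j : I) (h : i ≤ j) (x : Ti i ⊗[B] N) :
    tmap N (σ j) (tmap N (τ i j h) x) = tmap N (σ i) x := by
  rw [tmap_tmap, D.σ_τ]

theorem tmap_τ_τ (i j k : I) (h : i ≤ j) (h' : j ≤ k) (x : Ti i ⊗[B] N) :
    tmap N (τ j k h') (tmap N (τ i j h) x) = tmap N (τ i k (h.trans h')) x := by
  rw [tmap_tmap, D.τ_τ]

/-- **F1, eventual form.** -/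
theorem exists_mem_range (u : T ⊗[B] N) :
    ∃ i, ∀ j, i ≤ j → ∃ v : Ti j ⊗[B] N, tmap N (σ j) v = u := by
  obtain ⟨i, v, hv⟩ := D.F1 N u
  exact ⟨i, fun j hj => ⟨tmap N (τ i j hj) v, by rw [tmap_σ_τ D N, hv]⟩⟩

/-- **F2, eventual form.** -/
theorem exists_eq_zero (i : I) (d : Ti i ⊗[B] N) (hd : tmap N (σ i) d = 0) :
    ∃ j, ∀ k, j ≤ k → ∀ h : i ≤ k, tmap N (τ i k h) d = 0 := by
  obtain ⟨j, hij, hj⟩ := D.F2 N i d hd
  refine ⟨j, fun k hjk h => ?_⟩
  rw [← tmap_τ_τ D N i j k hij hjk, hj, map_zero]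

/-- **L1: lifting to a finite stage.** -/
theorem exists_algHom_lift (X : Type u) [CommRing X] [Algebra B X]
    (hfp : Algebra.FinitePresentation B X) (φ : X →ₐ[B] T ⊗[B] N) :
    ∃ i, ∀ j, i ≤ j → ∃ ψ : X →ₐ[B] Ti j ⊗[B] N, ∀ x, tmap N (σ j) (ψ x) = φ x := by
  classical
  obtain ⟨n, f, hf, r, hr⟩ := hfp.out
  obtain ⟨ia, h1⟩ := exists_forall_finset (I := I) (Finset.univ : Finset (Fin n))
    (fun a j => ∃ v : Ti j ⊗[B] N, tmap N (σ j) v = φ (f (MvPolynomial.X a)))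
    (fun a _ => exists_mem_range D N _)
  have h1' : ∀ a : Fin n, ∃ y : Ti ia ⊗[B] N, tmap N (σ ia) y = φ (f (MvPolynomial.X a)) :=
    fun a => h1 ia le_rfl a (Finset.mem_univ a)
  choose y hy using h1'
  let ψ₀ : MvPolynomial (Fin n) B →ₐ[B] Ti ia ⊗[B] N := MvPolynomial.aeval y
  have hψ₀ : ∀ p, tmap N (σ ia) (ψ₀ p) = φ (f p) := by
    intro p
    have : (tmap N (σ ia)).comp ψ₀ = φ.comp f := by
      apply MvPolynomial.algHom_ext
      intro a
      simp only [AlgHom.comp_apply, ψ₀, MvPolynomial.aeval_X]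
      exact hy a
    exact congrArg (fun F => F p) this
  have hrker : ∀ q ∈ r, f q = 0 := by
    intro q hq
    have : q ∈ RingHom.ker f.toRingHom := hr ▸ Ideal.subset_span hq
    exact this
  obtain ⟨ib, h2⟩ := exists_forall_finset (I := I) r
    (fun q k => ∀ h : ia ≤ k, tmap N (τ ia k h) (ψ₀ q) = 0)
    (fun q hq => exists_eq_zero D N ia (ψ₀ q) (by rw [hψ₀, hrker q hq, map_zero]))
  obtain ⟨i, hia, hib⟩ := exists_ge_ge ia ib
  refine ⟨i, fun j hj => ?_⟩
  have hiaj : ia ≤ j := hia.trans hj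
  let ψ₁ : MvPolynomial (Fin n) B →ₐ[B] Ti j ⊗[B] N := (tmap N (τ ia j hiaj)).comp ψ₀
  have hkill : RingHom.ker f.toRingHom ≤ RingHom.ker ψ₁.toRingHom := by
    rw [← hr, Ideal.span_le]
    intro q hq
    exact h2 j (hib.trans hj) q hq hiaj
  refine ⟨AlgHom.liftOfSurjective f hf ψ₁ hkill, fun b => ?_⟩
  obtain ⟨p, rfl⟩ := hf b
  rw [AlgHom.liftOfSurjective_apply]
  change tmap N (σ j) (tmap N (τ ia j hiaj) (ψ₀ p)) = _
  rw [tmap_σ_τ D N, hψ₀]

/-- **L2: equality at a finite stage.** -/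
theorem exists_algHom_eq (X : Type u) [CommRing X] [Algebra B X]
    (hft : Algebra.FiniteType B X) (i : I) (ψ₁ ψ₂ : X →ₐ[B] Ti i ⊗[B] N)
    (h : ∀ x, tmap N (σ i) (ψ₁ x) = tmap N (σ i) (ψ₂ x)) :
    ∃ j, ∀ k, j ≤ k → ∀ hik : i ≤ k, ∀ x,
      tmap N (τ i k hik) (ψ₁ x) = tmap N (τ i k hik) (ψ₂ x) := by
  classical
  obtain ⟨G, hG⟩ := hft.out
  obtain ⟨j, h2⟩ := exists_forall_finset (I := I) G
    (fun g k => ∀ hik : i ≤ k, tmap N (τ i k hik) (ψ₁ g - ψ₂ g) = 0)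
    (fun g _ => exists_eq_zero D N i (ψ₁ g - ψ₂ g) (by rw [map_sub, h g, sub_self]))
  refine ⟨j, fun k hjk hik => ?_⟩
  have : (tmap N (τ i k hik)).comp ψ₁ = (tmap N (τ i k hik)).comp ψ₂ := by
    apply AlgHom.ext_of_adjoin_eq_top hG
    intro g hg
    have := h2 k hjk g hg hik
    rw [map_sub, sub_eq_zero] at this
    exact this
  intro x
  exact congrArg (fun F => F x) this

end L

end Groth.Agent.Lib.Helper25.DirSys
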