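import Groth.Agent.Lib.Helper25SprE
import Groth.Agent.Lib.Helper25MultBC

/-!
# Diagonalisability descends from a localisation to a principal localisation (helper25)
-/

set_option autoImplicit false
set_option linter.unusedSectionVars false
set_option linter.style.haveILetI false
universe u

namespace Groth.Agent.Lib.Helper25.Spr

open TensorProduct SGA3b Groth.Agent.Lib.Helper25.BCB

theorem finitePresentation_monoidAlgebra (B : Type u) [CommRing B] (M : Type u) [CommGroup M]
    [Group.FG M] : Algebra.FinitePresentation B (MonoidAlgebra B M) := by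
  haveI : Algebra.FiniteType ℤ (MonoidAlgebra ℤ M) :=
    MonoidAlgebra.finiteType_iff_group_fg.mpr inferInstance
  haveI : Algebra.FinitePresentation ℤ (MonoidAlgebra ℤ M) :=
    Algebra.FinitePresentation.of_finiteType.mp inferInstance
  haveI : Algebra.FinitePresentation B (B ⊗[ℤ] MonoidAlgebra ℤ M) := inferInstance
  exact Algebra.FinitePresentation.equiv (MonoidAlgebra.scalarTensorEquiv (M := M) ℤ B)

section M

variable {B : Type u} [CommRing B] (S : Submonoid B) (T : Type u) [CommRing T] [Algebra B T]
  [IsLocalization S T] [Nontrivial T]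
  (Y : Type u) [CommRing Y] [HopfAlgebra B Y]

/-- A finitely presented Hopf algebra which is diagonalisable over `S⁻¹B` is diagonalisable over
`B_s` for some `s ∈ S`. -/
theorem exists_away_isDiag (hfp : Algebra.FinitePresentation B Y) (h : IsDiag T (T ⊗[B] Y)) :
    ∃ s ∈ S, IsDiag (Localization.Away s) (Localization.Away s ⊗[B] Y) := by
  obtain ⟨M, _, ⟨e⟩⟩ := h
  haveI : Algebra.FiniteType B Y := inferInstance
  have hft : Algebra.FiniteType T (T ⊗[B] Y) := inferInstance
  haveI : Group.FG M :=
    MonoidAlgebra.finiteType_iff_group_fg.mp (Algebra.FiniteType.equiv hft e.toAlgEquiv)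
  have hfpM : Algebra.FinitePresentation B (MonoidAlgebra B M) :=
    finitePresentation_monoidAlgebra B M
  obtain ⟨s, hs, ⟨es⟩⟩ := exists_away_bialgEquiv S T Y (MonoidAlgebra B M) hfp hfpM
    (e.trans (steBialg B T M).symm)
  exact ⟨s, hs, M, inferInstance, ⟨es.trans (steBialg B (Localization.Away s) M)⟩⟩

end M

section App

variable (R : Type u) [CommRing R] (C : Type u) [CommRing C] [HopfAlgebra R C]
  (B : Type u) [CommRing B] [Algebra R B] (S : Submonoid B)
  (T : Type u) [CommRing T] [Algebra B T] [Algebra R T] [IsScalarTower R B T]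
  [IsLocalization S T] [Nontrivial T]

/-- Version over a base `R`: `C` a finitely presented Hopf algebra over `R`, `B` an `R`-algebra,
`T = S⁻¹B`. -/
theorem exists_away_isDiag_base (hfp : Algebra.FinitePresentation R C)
    (h : IsDiag T (T ⊗[R] C)) :
    ∃ s ∈ S, IsDiag (Localization.Away s) (Localization.Away s ⊗[R] C) := by
  haveI := hfp
  have hfpY : Algebra.FinitePresentation B (B ⊗[R] C) := inferInstance
  have h1 : IsDiag T (T ⊗[B] (B ⊗[R] C)) := isDiag_of_equiv (cancelBC R B T C) h
  obtain ⟨s, hs, h2⟩ := exists_away_isDiag S T (B ⊗[R] C) hfpY h1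
  exact ⟨s, hs, isDiag_of_equiv (cancelBC R B (Localization.Away s) C).symm h2⟩

end App

end Groth.Agent.Lib.Helper25.Spr
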