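import Groth.Agent.Lib.Helper25DirSysA
import Groth.Agent.Lib.Helper25SprF

/-!
# Descent of bialgebra isomorphisms along an abstract directed system (helper25)
-/

set_option autoImplicit false
set_option linter.unusedSectionVars false
set_option linter.style.haveILetI false
universe u

namespace Groth.Agent.Lib.Helper25.DirSys

open TensorProduct Groth.Agent.Lib.Helper25.Spr Groth.Agent.Lib.Helper25.HDesc SGA3b
  Groth.Agent.Lib.Helper25.BCB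

section Main

variable {B : Type u} [CommRing B] {T : Type u} [CommRing T] [Algebra B T]
  {I : Type u} [Preorder I] [IsDirected I (· ≤ ·)] [Nonempty I]
  {Ti : I → Type u} [∀ i, CommRing (Ti i)] [∀ i, Algebra B (Ti i)]
  {σ : ∀ i, Ti i →ₐ[B] T} {τ : ∀ i j, i ≤ j → (Ti i →ₐ[B] Ti j)}
  (D : IsDirSys Ti σ τ)
  (H₁ H₂ : Type u) [CommRing H₁] [CommRing H₂] [HopfAlgebra B H₁] [HopfAlgebra B H₂]

include D

/-- **Descent of isomorphisms.** If two finitely presented Hopf algebras over `B` become isomorphic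
over the limit `T` of a directed system, they become isomorphic over some stage `Ti i`. -/
theorem exists_bialgEquiv (hfp₁ : Algebra.FinitePresentation B H₁)
    (hfp₂ : Algebra.FinitePresentation B H₂) (e : T ⊗[B] H₁ ≃ₐc[T] T ⊗[B] H₂) :
    ∃ i, Nonempty (Ti i ⊗[B] H₁ ≃ₐc[Ti i] Ti i ⊗[B] H₂) := by
  have hft₁ : Algebra.FiniteType B H₁ := inferInstance
  have hft₂ : Algebra.FiniteType B H₂ := inferInstance
  let φ : H₁ →ₐ[B] T ⊗[B] H₂ := relOf T e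
  let θ : H₂ →ₐ[B] T ⊗[B] H₁ := relOf T e.symm
  have hφ : IsRel T φ := isRel_relOf T e
  obtain ⟨i₁, L₁⟩ := exists_algHom_lift D H₂ H₁ hfp₁ φ
  obtain ⟨i₂, L₂'⟩ := exists_algHom_lift D H₁ H₂ hfp₂ θ
  obtain ⟨i₀, hi₁, hi₂⟩ := exists_ge_ge i₁ i₂
  obtain ⟨ψ₀, hψ₀⟩ := L₁ i₀ hi₁
  obtain ⟨θ₀, hθ₀⟩ := L₂' i₀ hi₂
  have hψ₀' : (tmap H₂ (σ i₀)).comp ψ₀ = φ := AlgHom.ext hψ₀
  have hθ₀' : (tmap H₁ (σ i₀)).comp θ₀ = θ := AlgHom.ext hθ₀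
  have E1 : ∀ a, tmap H₁ (σ i₀) (((bc _ θ₀).restrictScalars B).comp ψ₀ a) =
      tmap H₁ (σ i₀) ((inclR (K := B) (A := H₁) (Ti i₀)) a) := by
    intro a
    change tmap H₁ (σ i₀) (bc _ θ₀ (ψ₀ a)) = tmap H₁ (σ i₀) ((1 : Ti i₀) ⊗ₜ[B] a)
    rw [tmap_bc, hθ₀', hψ₀, tmap_one_tmul, bc_relOf, relOf_apply]
    exact e.symm_apply_apply _
  have E2 : ∀ b, tmap H₂ (σ i₀) (((bc _ ψ₀).restrictScalars B).comp θ₀ b) =
      tmap H₂ (σ i₀) ((inclR (K := B) (A := H₂) (Ti i₀)) b) := by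
    intro b
    change tmap H₂ (σ i₀) (bc _ ψ₀ (θ₀ b)) = tmap H₂ (σ i₀) ((1 : Ti i₀) ⊗ₜ[B] b)
    rw [tmap_bc, hψ₀', hθ₀, tmap_one_tmul, bc_relOf, relOf_apply]
    exact e.apply_symm_apply _
  have E3 : ∀ a, tmap (H₂ ⊗[B] H₂) (σ i₀) (cL _ ψ₀ a) =
      tmap (H₂ ⊗[B] H₂) (σ i₀) (cR _ ψ₀ a) := by
    intro a
    have h1 := congrArg (fun F => F a) (cL_comp (σ i₀) ψ₀)
    have h2 := congrArg (fun F => F a) (cR_comp (σ i₀) ψ₀)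
    simp only [AlgHom.comp_apply] at h1 h2
    rw [← h1, ← h2, hψ₀', hφ.comul]
  have E4 : ∀ a, tmap B (σ i₀) (eL _ ψ₀ a) = tmap B (σ i₀) (eR H₁ _ a) := by
    intro a
    have h1 := congrArg (fun F => F a) (eL_comp (σ i₀) ψ₀)
    have h2 := congrArg (fun F => F a) (eR_comp (H₁ := H₁) (σ i₀))
    simp only [AlgHom.comp_apply] at h1 h2
    rw [← h1, ← h2, hψ₀', hφ.counit]
  obtain ⟨j₁, K₁⟩ := exists_algHom_eq D H₁ H₁ hft₁ i₀ _ _ E1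
  obtain ⟨j₂, K₂⟩ := exists_algHom_eq D H₂ H₂ hft₂ i₀ _ _ E2
  obtain ⟨j₃, K₃⟩ := exists_algHom_eq D (H₂ ⊗[B] H₂) H₁ hft₁ i₀ _ _ E3
  obtain ⟨j₄, K₄⟩ := exists_algHom_eq D B H₁ hft₁ i₀ _ _ E4
  obtain ⟨k₁, hk₁a, hk₁b⟩ := exists_ge_ge j₁ j₂
  obtain ⟨k₂, hk₂a, hk₂b⟩ := exists_ge_ge j₃ j₄
  obtain ⟨k₃, hk₃a, hk₃b⟩ := exists_ge_ge k₁ k₂
  obtain ⟨k, hk₀, hk₃⟩ := exists_ge_ge i₀ k₃
  have d₁ : j₁ ≤ k := hk₁a.trans (hk₃a.trans hk₃)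
  have d₂ : j₂ ≤ k := hk₁b.trans (hk₃a.trans hk₃)
  have d₃ : j₃ ≤ k := hk₂a.trans (hk₃b.trans hk₃)
  have d₄ : j₄ ≤ k := hk₂b.trans (hk₃b.trans hk₃)
  refine ⟨k, ?_⟩
  refine nonempty_bialgEquiv_of_isRel (Ti k) ((tmap H₂ (τ i₀ k hk₀)).comp ψ₀)
    ((tmap H₁ (τ i₀ k hk₀)).comp θ₀) ⟨?_, ?_⟩ ?_ ?_
  · rw [cL_comp, cR_comp]
    exact AlgHom.ext (K₃ k d₃ hk₀)
  · rw [eL_comp, eR_comp (τ i₀ k hk₀)]
    exact AlgHom.ext (K₄ k d₄ hk₀)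
  · intro a
    have := K₁ k d₁ hk₀ a
    change tmap H₁ (τ i₀ k hk₀) (bc _ θ₀ (ψ₀ a)) =
      tmap H₁ (τ i₀ k hk₀) ((1 : Ti i₀) ⊗ₜ[B] a) at this
    rw [tmap_bc, tmap_one_tmul] at this
    exact this
  · intro b
    have := K₂ k d₂ hk₀ b
    change tmap H₂ (τ i₀ k hk₀) (bc _ ψ₀ (θ₀ b)) =
      tmap H₂ (τ i₀ k hk₀) ((1 : Ti i₀) ⊗ₜ[B] b) at this
    rw [tmap_bc, tmap_one_tmul] at this
    exact this

/-- Diagonalisability descends to a finite stage. -/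
theorem exists_isDiag [Nontrivial T] (Y : Type u) [CommRing Y] [HopfAlgebra B Y]
    (hfp : Algebra.FinitePresentation B Y) (h : IsDiag T (T ⊗[B] Y)) :
    ∃ i, IsDiag (Ti i) (Ti i ⊗[B] Y) := by
  obtain ⟨M, _, ⟨e⟩⟩ := h
  haveI : Algebra.FiniteType B Y := inferInstance
  have hft : Algebra.FiniteType T (T ⊗[B] Y) := inferInstance
  haveI : Group.FG M :=
    MonoidAlgebra.finiteType_iff_group_fg.mp (Algebra.FiniteType.equiv hft e.toAlgEquiv)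
  have hfpM : Algebra.FinitePresentation B (MonoidAlgebra B M) :=
    finitePresentation_monoidAlgebra B M
  obtain ⟨i, ⟨es⟩⟩ := exists_bialgEquiv D Y (MonoidAlgebra B M) hfp hfpM
    (e.trans (steBialg B T M).symm)
  exact ⟨i, M, inferInstance, ⟨es.trans (steBialg B (Ti i) M)⟩⟩

end Main

end Groth.Agent.Lib.Helper25.DirSys
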