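import Groth.Agent.Lib.Helper25DirSysB

/-!
# Examples of directed systems: finitely generated subalgebras; base change (helper25)
-/

set_option autoImplicit false
set_option linter.unusedSectionVars false
set_option linter.style.haveILetI false
universe u

namespace Groth.Agent.Lib.Helper25.DirSys

open TensorProduct Groth.Agent.Lib.Helper25.Spr Groth.Agent.Lib.Helper25.HDesc

section FGSub

variable (K : Type u) [CommRing K] (R : Type u) [CommRing R] [Algebra K R]

/-- The index type: finitely generated subalgebras. -/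
abbrev FGSub : Type u := {S : Subalgebra K R // S.FG}

instance : IsDirected (FGSub K R) (· ≤ ·) :=
  ⟨fun S S' => ⟨⟨S.1 ⊔ S'.1, S.2.sup S'.2⟩, le_sup_left (a := S.1), le_sup_right (b := S'.1)⟩⟩

instance : Nonempty (FGSub K R) := ⟨⟨⊥, Subalgebra.fg_bot⟩⟩

/-- The system of finitely generated subalgebras of `R`. -/
theorem isDirSys_fgSub :
    IsDirSys (B := K) (T := R) (I := FGSub K R) (fun S => ↥S.1) (fun S => S.1.val)
      (fun S S' h => Subalgebra.inclusion h) where
  σ_τ := fun S S' h => by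
    ext x
    rfl
  τ_τ := fun S S' S'' h h' => by
    ext x
    rfl
  F1 := fun N _ _ u => by
    obtain ⟨S, hS, h⟩ := exists_fg_mem_range R N u
    obtain ⟨v, hv⟩ := h S le_rfl
    exact ⟨⟨S, hS⟩, v, hv⟩
  F2 := fun N _ _ S d hd => by
    obtain ⟨S₁, hS₁, h⟩ := exists_fg_eq_zero R N S.2 d hd
    obtain ⟨h', h0⟩ := h (S₁ ⊔ S.1) le_sup_left
    exact ⟨⟨S₁ ⊔ S.1, hS₁.sup S.2⟩, h', h0⟩

end FGSub

section BC

variable {B : Type u} [CommRing B] {T : Type u} [CommRing T] [Algebra B T]
  {I : Type u} [Preorder I] [IsDirected I (· ≤ ·)] [Nonempty I]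
  {Ti : I → Type u} [∀ i, CommRing (Ti i)] [∀ i, Algebra B (Ti i)]
  {σ : ∀ i, Ti i →ₐ[B] T} {τ : ∀ i j, i ≤ j → (Ti i →ₐ[B] Ti j)}
  (F : Type u) [CommRing F] [Algebra B F]

theorem assoc_tmap {T₁ T₂ : Type u} [CommRing T₁] [Algebra B T₁] [CommRing T₂] [Algebra B T₂]
    (f : T₁ →ₐ[B] T₂) (N : Type u) [CommRing N] [Algebra B N] (z : (T₁ ⊗[B] F) ⊗[B] N) :
    Algebra.TensorProduct.assoc B B B T₂ F N (tmap N (tmap F f) z) =
      tmap (F ⊗[B] N) f (Algebra.TensorProduct.assoc B B B T₁ F N z) := by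
  induction z using TensorProduct.induction_on with
  | zero => simp
  | add x y hx hy => simp only [map_add, hx, hy]
  | tmul w n =>
    induction w using TensorProduct.induction_on with
    | zero => simp
    | add x y hx hy => simp only [TensorProduct.add_tmul, map_add, hx, hy]
    | tmul t a => simp [tmap]

/-- The base change of a directed system by a `B`-algebra `F`. -/
theorem IsDirSys.baseChange (D : IsDirSys Ti σ τ) :
    IsDirSys (B := B) (T := T ⊗[B] F) (fun i => Ti i ⊗[B] F) (fun i => tmap F (σ i))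
      (fun i j h => tmap F (τ i j h)) where
  σ_τ := fun i j h => by
    apply AlgHom.ext
    intro x
    change tmap F (σ j) (tmap F (τ i j h) x) = tmap F (σ i) x
    rw [tmap_tmap, D.σ_τ]
  τ_τ := fun i j k h h' => by
    apply AlgHom.ext
    intro x
    change tmap F (τ j k h') (tmap F (τ i j h) x) = tmap F (τ i k (h.trans h')) x
    rw [tmap_tmap, D.τ_τ]
  F1 := fun N _ _ u => by
    obtain ⟨i, v, hv⟩ := D.F1 (F ⊗[B] N) (Algebra.TensorProduct.assoc B B B T F N u)
    refine ⟨i, (Algebra.TensorProduct.assoc B B B (Ti i) F N).symm v, ?_⟩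
    apply (Algebra.TensorProduct.assoc B B B T F N).injective
    rw [assoc_tmap, AlgEquiv.apply_symm_apply, hv]
  F2 := fun N _ _ i d hd => by
    have h0 : tmap (F ⊗[B] N) (σ i) (Algebra.TensorProduct.assoc B B B (Ti i) F N d) = 0 := by
      rw [← assoc_tmap, hd, map_zero]
    obtain ⟨j, hij, hj⟩ := D.F2 (F ⊗[B] N) i _ h0
    refine ⟨j, hij, ?_⟩
    apply (Algebra.TensorProduct.assoc B B B (Ti j) F N).injective
    rw [assoc_tmap, hj, map_zero]

end BC

end Groth.Agent.Lib.Helper25.DirSys
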