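import Groth.Agent.Lib.Helper25DirSysC
import Groth.Agent.Lib.Helper25DescChart

/-!
# Descending an étale algebra over which a Hopf algebra is diagonalisable (helper25)
-/

set_option autoImplicit false
set_option linter.unusedSectionVars false
set_option linter.style.haveILetI false
universe u

namespace Groth.Agent.Lib.Helper25.DirSys

open TensorProduct Groth.Agent.Lib.Helper25.Spr Groth.Agent.Lib.Helper25.HDesc SGA3b
  Groth.Agent.Lib.Helper25.BCB Groth.Agent.Lib.Helper25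

section BC

variable (K : Type u) [CommRing K] (R : Type u) [CommRing R] [Algebra K R]
  (F : Type u) [CommRing F] [Algebra K F]
  (Y : Type u) [CommRing Y] [HopfAlgebra K Y]

/-- Diagonalisability over `R ⊗ F` descends to `S ⊗ F` for a finitely generated subalgebra `S`
of `R`. -/
theorem exists_fg_isDiag_bc [Nontrivial (R ⊗[K] F)] (hfp : Algebra.FinitePresentation K Y)
    (h : IsDiag (R ⊗[K] F) ((R ⊗[K] F) ⊗[K] Y)) :
    ∃ S : Subalgebra K R, S.FG ∧ IsDiag (S ⊗[K] F) ((S ⊗[K] F) ⊗[K] Y) := by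
  obtain ⟨S, hS⟩ := exists_isDiag ((isDirSys_fgSub K R).baseChange F) Y hfp h
  exact ⟨S.1, S.2, hS⟩

end BC

section Rebase

/-- Changing the intermediate base of a diagonalisable base change. -/
theorem isDiag_rebase (K S₀ S' F H : Type u) [CommRing K] [CommRing S₀] [CommRing S'] [CommRing F]
    [CommRing H] [HopfAlgebra K H] [Algebra K S₀] [Algebra K S'] [Algebra K F]
    [Algebra S₀ F] [Algebra S' F] [IsScalarTower K S₀ F] [IsScalarTower K S' F]
    (h : IsDiag F (F ⊗[S₀] (S₀ ⊗[K] H))) : IsDiag F (F ⊗[S'] (S' ⊗[K] H)) := by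
  have h3 : IsDiag F (F ⊗[K] H) := isDiag_of_equiv (cancelBC K S₀ F H).symm h
  exact isDiag_of_equiv (cancelBC K S' F H) h3

end Rebase

section SS

variable (K : Type u) [CommRing K] (R : Type u) [CommRing R] [Algebra K R]
  (H : Type u) [CommRing H] [HopfAlgebra K H]
  (E : Type u) [CommRing E] [Algebra R E] [Algebra K E] [IsScalarTower K R E]

/-- **Single step.** An étale `R`-algebra `E` over which `H` is diagonalisable descends, together
with the diagonalisation, to a finitely generated `K`-subalgebra of `R`. -/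
theorem exists_model_etale_isDiag [Algebra.Etale R E] [Nontrivial E]
    (hfp : Algebra.FinitePresentation K H) (hD : IsDiag E (E ⊗[K] H)) :
    ∃ (Λ : Type u) (_ : CommRing Λ) (_ : Algebra K Λ) (_ : Algebra Λ R) (_ : IsScalarTower K Λ R),
      Algebra.FiniteType K Λ ∧
      ∃ (F : Type u) (_ : CommRing F) (_ : Algebra Λ F), Algebra.Etale Λ F ∧
        Nonempty (E ≃ₐ[R] R ⊗[Λ] F) ∧ IsDiag F (F ⊗[Λ] (Λ ⊗[K] H)) := by
  haveI := hfp
  obtain ⟨S₀, F₀, _, _, hS₀, het₀, ⟨e₀⟩⟩ := Algebra.Etale.exists_subalgebra_fg K R E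
  haveI := het₀
  -- diagonalisable over `T = R ⊗[S₀] F₀`
  have hT : IsDiag (R ⊗[S₀] F₀) ((R ⊗[S₀] F₀) ⊗[K] H) :=
    Desc.isDiag_of_algHom K H E (R ⊗[S₀] F₀) ((e₀ : E →ₐ[R] R ⊗[S₀] F₀).restrictScalars K) hD
  have hT' : IsDiag (R ⊗[S₀] F₀) ((R ⊗[S₀] F₀) ⊗[S₀] (S₀ ⊗[K] H)) :=
    isDiag_of_equiv (cancelBC K S₀ (R ⊗[S₀] F₀) H) hT
  haveI : Nontrivial (R ⊗[S₀] F₀) := e₀.symm.toEquiv.nontrivial
  have hfpY : Algebra.FinitePresentation S₀ (S₀ ⊗[K] H) := inferInstance
  obtain ⟨S', hS', hD'⟩ := exists_fg_isDiag_bc S₀ R F₀ (S₀ ⊗[K] H) hfpY hT'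
  have h1 : Algebra.FiniteType K S₀ := (Subalgebra.fg_iff_finiteType S₀).mp hS₀
  have h2 : Algebra.FiniteType S₀ S' := (Subalgebra.fg_iff_finiteType S').mp hS'
  refine ⟨S', inferInstance, inferInstance, inferInstance, inferInstance, h1.trans h2,
    S' ⊗[S₀] F₀, inferInstance, inferInstance, inferInstance,
    ⟨e₀.trans (Algebra.TensorProduct.cancelBaseChange S₀ S' R R F₀).symm⟩, ?_⟩
  exact isDiag_rebase K S₀ S' (S' ⊗[S₀] F₀) H hD'

end SS

end Groth.Agent.Lib.Helper25.DirSys
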