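import Groth.Agent.Lib.Helper25DirSysD

/-!
# Descending finitely many étale algebras over which a Hopf algebra is diagonalisable (helper25)
-/

set_option autoImplicit false
set_option linter.unusedSectionVars false
set_option linter.style.haveILetI false
universe u

namespace Groth.Agent.Lib.Helper25.DirSys

open TensorProduct Groth.Agent.Lib.Helper25.Spr Groth.Agent.Lib.Helper25.HDesc SGA3b
  Groth.Agent.Lib.Helper25.BCB Groth.Agent.Lib.Helper25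

section Aux

/-- Enlarging the intermediate base. -/
theorem isDiag_enlarge (K Λ₁ Λ₂ F' H : Type u) [CommRing K] [CommRing Λ₁] [CommRing Λ₂]
    [CommRing F'] [CommRing H] [HopfAlgebra K H] [Algebra K Λ₁] [Algebra K Λ₂] [Algebra Λ₁ Λ₂]
    [IsScalarTower K Λ₁ Λ₂] [Algebra Λ₁ F'] [Algebra Λ₂ F'] [IsScalarTower Λ₁ Λ₂ F']
    (h : IsDiag F' (F' ⊗[Λ₁] (Λ₁ ⊗[K] H))) : IsDiag F' (F' ⊗[Λ₂] (Λ₂ ⊗[K] H)) := by
  have h1 : IsDiag F' (F' ⊗[Λ₂] (Λ₂ ⊗[Λ₁] (Λ₁ ⊗[K] H))) :=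
    isDiag_of_equiv (cancelBC Λ₁ Λ₂ F' (Λ₁ ⊗[K] H)) h
  exact isDiag_of_equiv (bcEquiv F' (cancelBC K Λ₁ Λ₂ H).symm) h1

/-- Base change of a diagonalising algebra along an enlargement of the base. -/
theorem isDiag_enlarge_bc (K Λ₁ Λ₂ F H : Type u) [CommRing K] [CommRing Λ₁] [CommRing Λ₂]
    [CommRing F] [CommRing H] [HopfAlgebra K H] [Algebra K Λ₁] [Algebra K Λ₂] [Algebra Λ₁ Λ₂]
    [IsScalarTower K Λ₁ Λ₂] [Algebra Λ₁ F]
    (h : IsDiag F (F ⊗[Λ₁] (Λ₁ ⊗[K] H))) :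
    IsDiag (Λ₂ ⊗[Λ₁] F) ((Λ₂ ⊗[Λ₁] F) ⊗[Λ₂] (Λ₂ ⊗[K] H)) := by
  have h1 : IsDiag (Λ₂ ⊗[Λ₁] F) ((Λ₂ ⊗[Λ₁] F) ⊗[Λ₁] (Λ₁ ⊗[K] H)) :=
    Desc.isDiag_of_algHom Λ₁ (Λ₁ ⊗[K] H) F (Λ₂ ⊗[Λ₁] F) Algebra.TensorProduct.includeRight h
  exact isDiag_enlarge K Λ₁ Λ₂ (Λ₂ ⊗[Λ₁] F) H h1

end Aux

section Family

variable (K : Type u) [CommRing K] (R : Type u) [CommRing R] [Algebra K R]
  (H : Type u) [CommRing H] [HopfAlgebra K H]
  {ι : Type u} (E : ι → Type u) [∀ j, CommRing (E j)] [∀ j, Algebra R (E j)]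
  [∀ j, Algebra K (E j)] [∀ j, IsScalarTower K R (E j)]

/-- **Family step.** Finitely many étale `R`-algebras over which `H` is diagonalisable descend
simultaneously to a `K`-algebra of finite type mapping to `R`. -/
theorem exists_model_family [∀ j, Algebra.Etale R (E j)] [∀ j, Nontrivial (E j)]
    (hfp : Algebra.FinitePresentation K H) (hD : ∀ j, IsDiag (E j) (E j ⊗[K] H))
    (s : Finset ι) :
    ∃ (Λ : Type u) (_ : CommRing Λ) (_ : Algebra K Λ) (_ : Algebra Λ R) (_ : IsScalarTower K Λ R),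
      Algebra.FiniteType K Λ ∧
      ∀ j ∈ s, ∃ (F : Type u) (_ : CommRing F) (_ : Algebra Λ F), Algebra.Etale Λ F ∧
        Nonempty (E j ≃ₐ[R] R ⊗[Λ] F) ∧ IsDiag F (F ⊗[Λ] (Λ ⊗[K] H)) := by
  classical
  haveI := hfp
  induction s using Finset.induction_on with
  | empty =>
    exact ⟨K, inferInstance, inferInstance, inferInstance, inferInstance, inferInstance,
      fun j hj => absurd hj (Finset.notMem_empty j)⟩
  | insert a s ha ih =>
    obtain ⟨Λ₁, _, _, _, _, hft₁, hF⟩ := ih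
    -- the new algebra `E a` over `Λ₁`
    letI : Algebra Λ₁ (E a) := ((algebraMap R (E a)).comp (algebraMap Λ₁ R)).toAlgebra
    haveI : IsScalarTower Λ₁ R (E a) := IsScalarTower.of_algebraMap_eq (fun _ => rfl)
    haveI : IsScalarTower K Λ₁ (E a) := IsScalarTower.of_algebraMap_eq (fun k => by
      rw [IsScalarTower.algebraMap_apply K R (E a), IsScalarTower.algebraMap_apply K Λ₁ R,
        ← IsScalarTower.algebraMap_apply Λ₁ R (E a)])
    have hfp₁ : Algebra.FinitePresentation Λ₁ (Λ₁ ⊗[K] H) := inferInstance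
    have hDa : IsDiag (E a) (E a ⊗[Λ₁] (Λ₁ ⊗[K] H)) :=
      isDiag_of_equiv (cancelBC K Λ₁ (E a) H) (hD a)
    obtain ⟨Λ₂, _, _, _, _, hft₂, Fa, _, _, hFaet, hFaiso, hFaD⟩ :=
      exists_model_etale_isDiag Λ₁ R (Λ₁ ⊗[K] H) (E a) hfp₁ hDa
    letI : Algebra K Λ₂ := ((algebraMap Λ₁ Λ₂).comp (algebraMap K Λ₁)).toAlgebra
    haveI : IsScalarTower K Λ₁ Λ₂ := IsScalarTower.of_algebraMap_eq (fun _ => rfl)
    haveI : IsScalarTower K Λ₂ R := IsScalarTower.of_algebraMap_eq (fun k => by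
      rw [IsScalarTower.algebraMap_apply K Λ₁ R, IsScalarTower.algebraMap_apply Λ₁ Λ₂ R,
        ← IsScalarTower.algebraMap_apply K Λ₁ Λ₂])
    refine ⟨Λ₂, inferInstance, inferInstance, inferInstance, inferInstance, hft₁.trans hft₂, ?_⟩
    intro j hj
    rcases Finset.mem_insert.mp hj with rfl | hj
    · refine ⟨Fa, inferInstance, inferInstance, hFaet, hFaiso, ?_⟩
      exact isDiag_of_equiv (bcEquiv Fa (cancelBC K Λ₁ Λ₂ H).symm) hFaD
    · obtain ⟨F, _, _, hFet, ⟨hFiso⟩, hFD⟩ := hF j hj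
      haveI := hFet
      refine ⟨Λ₂ ⊗[Λ₁] F, inferInstance, inferInstance, inferInstance,
        ⟨hFiso.trans (Algebra.TensorProduct.cancelBaseChange Λ₁ Λ₂ R R F).symm⟩, ?_⟩
      exact isDiag_enlarge_bc K Λ₁ Λ₂ F H hFD

end Family

end Groth.Agent.Lib.Helper25.DirSys
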