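import Groth.Agent.Lib.Helper25DirSysE
import Groth.Agent.Lib.Helper25QIsoH
import Groth.Agent.Lib.Helper25FamDesc

/-!
# Joint surjectivity of a family of flat finitely presented algebras at a finite stage (helper25)
-/

set_option autoImplicit false
set_option linter.unusedSectionVars false
set_option linter.style.haveILetI false
universe u

namespace Groth.Agent.Lib.Helper25.DirSys

open TensorProduct Groth.Agent.Lib.Helper25

section Surj

variable (Λ : Type u) [CommRing Λ] (R : Type u) [CommRing R] [Algebra Λ R]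
  {ι : Type u} (F : ι → Type u) [∀ j, CommRing (F j)] [∀ j, Algebra Λ (F j)]

/-- If the base changes `R ⊗ F j` of flat finitely presented `Λ`-algebras jointly cover `Spec R`,
then the ideal of the complement of the union of the images of the `Spec (F j)` in `Spec Λ`
generates the unit ideal of `R`. -/
theorem exists_ideal_map_eq_top [∀ j, Module.Flat Λ (F j)]
    [∀ j, Algebra.FinitePresentation Λ (F j)]
    (hsurj : ∀ p : Ideal R, p.IsPrime → ∃ j, ∃ q : Ideal (R ⊗[Λ] F j), q.IsPrime ∧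
      q.comap (algebraMap R (R ⊗[Λ] F j)) = p) :
    ∃ I : Ideal Λ, I.map (algebraMap Λ R) = ⊤ ∧
      ∀ p : Ideal Λ, p.IsPrime → ¬ I ≤ p →
        ∃ j, ∃ Q : Ideal (F j), Q.IsPrime ∧ Q.comap (algebraMap Λ (F j)) = p := by
  classical
  let U : Set (PrimeSpectrum Λ) := ⋃ j, Set.range (PrimeSpectrum.comap (algebraMap Λ (F j)))
  have hU : IsOpen U := isOpen_iUnion fun j =>
    (PrimeSpectrum.isOpenMap_comap_of_hasGoingDown_of_finitePresentation).isOpen_range
  obtain ⟨I, hI⟩ := (PrimeSpectrum.isClosed_iff_zeroLocus_ideal _).mp hU.isClosed_compl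
  refine ⟨I, ?_, ?_⟩
  · by_contra hne
    obtain ⟨m, hm, hle⟩ := Ideal.exists_le_maximal _ hne
    haveI := hm.isPrime
    obtain ⟨j, q, hq, hqm⟩ := hsurj m hm.isPrime
    haveI := hq
    let Q : Ideal (F j) :=
      q.comap (Algebra.TensorProduct.includeRight : F j →ₐ[Λ] R ⊗[Λ] F j).toRingHom
    have hQ : Q.comap (algebraMap Λ (F j)) = m.comap (algebraMap Λ R) := by
      rw [← hqm, Ideal.comap_comap, Ideal.comap_comap]
      congr 1
      ext x
      simp [Algebra.TensorProduct.algebraMap_apply]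
    have hmem : (⟨m.comap (algebraMap Λ R), inferInstance⟩ : PrimeSpectrum Λ) ∈ U := by
      refine Set.mem_iUnion.mpr ⟨j, ⟨⟨Q, Ideal.IsPrime.comap _⟩, PrimeSpectrum.ext hQ⟩⟩
    have hnot : (⟨m.comap (algebraMap Λ R), inferInstance⟩ : PrimeSpectrum Λ) ∈ Uᶜ := by
      rw [hI, PrimeSpectrum.mem_zeroLocus]
      intro x hx
      exact hle (Ideal.mem_map_of_mem _ hx)
    exact hnot hmem
  · intro p hp hIp
    have hmem : (⟨p, hp⟩ : PrimeSpectrum Λ) ∈ U := by
      by_contra hcon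
      have : (⟨p, hp⟩ : PrimeSpectrum Λ) ∈ Uᶜ := hcon
      rw [hI, PrimeSpectrum.mem_zeroLocus] at this
      exact hIp this
    obtain ⟨j, ⟨Q, hQ⟩⟩ := Set.mem_iUnion.mp hmem
    exact ⟨j, Q.asIdeal, Q.isPrime, congrArg PrimeSpectrum.asIdeal hQ⟩

/-- An ideal generating the unit ideal of `R` generates the unit ideal of a finitely generated
subalgebra. -/
theorem exists_fg_map_eq_top (I : Ideal Λ) (hI : I.map (algebraMap Λ R) = ⊤) :
    ∃ S : Subalgebra Λ R, S.FG ∧ I.map (algebraMap Λ S) = ⊤ := by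
  classical
  have h1 : (1 : R) ∈ Submodule.span R ((algebraMap Λ R) '' (I : Set Λ)) := by
    have : (1 : R) ∈ I.map (algebraMap Λ R) := by rw [hI]; trivial
    exact this
  obtain ⟨f, t, hts, -, hsum⟩ := Submodule.mem_span_iff_exists_finset_subset.mp h1
  refine ⟨Algebra.adjoin Λ ((t.image f : Finset R) : Set R), Subalgebra.fg_adjoin_finset _, ?_⟩
  set S := Algebra.adjoin Λ ((t.image f : Finset R) : Set R) with hS
  rw [Ideal.eq_top_iff_one]
  have hfS : ∀ a ∈ t, f a ∈ S := fun a ha =>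
    Algebra.subset_adjoin (Finset.mem_coe.mpr (Finset.mem_image_of_mem f ha))
  have hx : ∀ a ∈ t, ∃ x ∈ I, algebraMap Λ R x = a := fun a ha => hts (Finset.mem_coe.mpr ha)
  have key : (1 : S) = ∑ a ∈ t.attach, (⟨f a.1, hfS a.1 a.2⟩ : S) *
      algebraMap Λ S (hx a.1 a.2).choose := by
    apply Subtype.ext
    rw [Subalgebra.coe_one, AddSubmonoidClass.coe_finsetSum, ← hsum,
      ← Finset.sum_attach t (fun a => f a • a)]
    refine Finset.sum_congr rfl fun a _ => ?_
    rw [Subalgebra.coe_mul, Subalgebra.coe_algebraMap, (hx a.1 a.2).choose_spec.2, smul_eq_mul]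
  rw [key]
  refine Ideal.sum_mem _ fun a _ => Ideal.mul_mem_left _ _ ?_
  exact Ideal.mem_map_of_mem _ (hx a.1 a.2).choose_spec.1

/-- **Joint surjectivity at a finite stage.** -/
theorem exists_fg_faithfullyFlat [Fintype ι] [DecidableEq ι] [∀ j, Module.Flat Λ (F j)]
    [∀ j, Algebra.FinitePresentation Λ (F j)]
    (hsurj : ∀ p : Ideal R, p.IsPrime → ∃ j, ∃ q : Ideal (R ⊗[Λ] F j), q.IsPrime ∧
      q.comap (algebraMap R (R ⊗[Λ] F j)) = p) :
    ∃ S : Subalgebra Λ R, S.FG ∧ Module.FaithfullyFlat S (∀ j, S ⊗[Λ] F j) := by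
  obtain ⟨I, hI, hcov⟩ := exists_ideal_map_eq_top Λ R F hsurj
  obtain ⟨S, hS, hIS⟩ := exists_fg_map_eq_top Λ R I hI
  refine ⟨S, hS, ?_⟩
  apply FamDesc.faithfullyFlat_pi
  intro m hm
  haveI := hm.isPrime
  have hIm : ¬ I ≤ m.comap (algebraMap Λ S) := by
    intro hle
    apply hm.ne_top
    rw [eq_top_iff, ← hIS]
    exact Ideal.map_le_iff_le_comap.mpr hle
  obtain ⟨j, Q, hQ, hQm⟩ := hcov (m.comap (algebraMap Λ S)) (Ideal.IsPrime.comap _) hIm
  haveI := hQ
  obtain ⟨z, hz, hz1, -⟩ := HPoints.exists_prime_tensor (R := Λ) m Q hQm.symm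
  refine ⟨j, ?_⟩
  intro htop
  apply hz.ne_top
  have htop' : Ideal.map (algebraMap S (S ⊗[Λ] F j)) m = ⊤ := by
    rw [Ideal.smul_top_eq_map, Submodule.restrictScalars_eq_top_iff] at htop
    exact htop
  rw [eq_top_iff, ← htop', Ideal.map_le_iff_le_comap]
  intro x hx
  have : x ∈ z.comap (Algebra.TensorProduct.includeLeft : S →ₐ[Λ] S ⊗[Λ] F j).toRingHom := by
    rw [hz1]; exact hx
  exact this

end Surj

end Groth.Agent.Lib.Helper25.DirSys
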