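import Groth.Agent.Lib.Helper25HDescI

/-!
# Noetherian models of finitely presented Hopf algebras: main statement (helper25)
-/

set_option autoImplicit false
set_option linter.unusedSectionVars false
set_option linter.style.haveILetI false
universe u

namespace Groth.Agent.Lib.Helper25.HDesc

open TensorProduct

section Main

theorem χ_χ_eq {K : Type u} [CommRing K] (R : Type u) [CommRing R] [Algebra K R]
    (A : Type u) [CommRing A] [Algebra K A]
    (C : Type u) [CommRing C] [Algebra R C] [Algebra K C] [IsScalarTower K R C]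
    (e : R ⊗[K] A ≃ₐ[R] C) (ψ : A →ₐ[K] C) (he : ∀ a, e ((1 : R) ⊗ₜ[K] a) = ψ a)
    (S₀ : Subalgebra K R) (w : R ⊗[S₀] (S₀ ⊗[K] A)) :
    χ R (χ S₀ ψ) w = e (Algebra.TensorProduct.cancelBaseChange K S₀ R R A w) := by
  induction w using TensorProduct.induction_on with
  | zero => simp
  | add x y hx hy => simp only [map_add, hx, hy]
  | tmul r x =>
    induction x using TensorProduct.induction_on with
    | zero => simp
    | add x y hx hy => simp only [TensorProduct.tmul_add, map_add, hx, hy]
    | tmul s a =>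
      rw [Algebra.TensorProduct.cancelBaseChange_tmul, χ_tmul, χ_tmul, e_tmul e ψ he,
        smul_assoc, smul_comm]

/-- **Noetherian approximation of Hopf algebras.** A finitely presented commutative Hopf algebra
`C` over a ring `R` is the base change of a finitely presented Hopf algebra over a finitely
generated `ℤ`-algebra `Λ` mapping to `R` (cocommutative if `C` is). -/
theorem exists_noetherian_model (R : Type u) [CommRing R] (C : Type u) [CommRing C]
    [HopfAlgebra R C] (hfp : Algebra.FinitePresentation R C) :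
    ∃ (Λ : Type u) (_ : CommRing Λ) (_ : Algebra Λ R) (_ : Algebra.FiniteType ℤ Λ)
      (H : Type u) (_ : CommRing H) (_ : HopfAlgebra Λ H),
      Algebra.FinitePresentation Λ H ∧ (Coalgebra.IsCocomm R C → Coalgebra.IsCocomm Λ H) ∧
      Nonempty (R ⊗[Λ] H ≃ₐc[R] C) := by
  haveI := hfp
  let P := Algebra.Presentation.ofFinitePresentation R C
  let K := P.Core
  let A := P.ModelOfHasCoeffs K
  let e : R ⊗[K] A ≃ₐ[R] C := P.tensorModelOfHasCoeffsEquiv K
  obtain ⟨S₀, hS₀, D₀, hD₀⟩ := exists_fg_hopfData R A C e inferInstance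
  have hbij : Function.Bijective (χ R (χ S₀ (ψ₀ R A C e))) := by
    have : (χ R (χ S₀ (ψ₀ R A C e)) : _ → _) =
        (fun w => e (Algebra.TensorProduct.cancelBaseChange K S₀ R R A w)) :=
      funext (χ_χ_eq R A C e (ψ₀ R A C e) (fun _ => rfl) S₀)
    rw [this]
    exact e.bijective.comp (Algebra.TensorProduct.cancelBaseChange K S₀ R R A).bijective
  obtain ⟨S, hS, H, _, _, hfpH, hcc, ⟨iso⟩⟩ :=
    exists_fg_model R (S₀ ⊗[K] A) D₀ C (χ S₀ (ψ₀ R A C e)) hD₀ hbij inferInstance
  have h1 : Algebra.FiniteType ℤ K := inferInstance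
  have h2 : Algebra.FiniteType K S₀ := (Subalgebra.fg_iff_finiteType S₀).mp hS₀
  have h3 : Algebra.FiniteType S₀ S := (Subalgebra.fg_iff_finiteType S).mp hS
  exact ⟨S, inferInstance, inferInstance, (h1.trans h2).trans h3, H, _, _, hfpH, hcc, ⟨iso⟩⟩

end Main

end Groth.Agent.Lib.Helper25.HDesc
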