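import Groth.Agent.Lib.Helper25MTGlueQ

/-!
# The kernel of a homomorphism from a group of multiplicative type (helper25)

`isMultType_ker_of_finitePresentation`: the kernel of a homomorphism from a group of multiplicative
type and of finite type to an affine group of finite presentation is of multiplicative type.
-/

set_option autoImplicit false
set_option linter.style.haveILetI false
set_option linter.unusedSectionVars false
universe u v w

namespace Groth.Agent.Lib.Helper25.MTGlue

open TensorProduct Coalgebra SGA3b BCB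
open Groth.Agent.Lib.Helper25.SubDiag Groth.Agent.Lib.Helper25 Groth.Agent.Lib.Helper25.TorsQuot

section Family0

variable {R : Type u} [CommRing R] {X : Type u} [CommRing X] [HopfAlgebra R X]
  {κ : Type u} [Fintype κ] [DecidableEq κ]
  (T : κ → Type u) [∀ k, CommRing (T k)] [∀ k, Algebra R (T k)]
  (Q : κ → Type u) [∀ k, CommGroup (Q k)]
  (θ : ∀ k, Nonempty ((T k ⊗[R] X) ≃ₐc[T k] MonoidAlgebra (T k) (Q k)))

include θ in
/-- The gluing theorem for a family of algebras over which `X` is diagonalisable. -/
theorem isMultType_of_family₀ (hff : Module.FaithfullyFlat R (∀ k, T k)) : IsMultType R X := by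
  refine isMultType_of_family T (fun _ => PUnit.{u + 1}) (fun k _ => (1 : T k)) ?_
    (fun k _ => Q k) ?_ hff
  · intro k
    rw [CompleteOrthogonalIdempotents.unique_iff]
  · intro k i
    obtain ⟨θk⟩ := θ k
    exact nonempty_bialgEquiv_of_algHom (Ideal.Quotient.mkₐ R _) θk

end Family0

section FFAway

variable {R : Type u} [CommRing R] {ι : Type u} [Fintype ι] [DecidableEq ι]
  (S : ι → Type u) [∀ i, CommRing (S i)] [∀ i, Algebra R (S i)]

theorem flat_of_flat_pi (h : Module.Flat R (∀ i, S i)) (i : ι) : Module.Flat R (S i) := by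
  haveI := h
  exact Module.Flat.of_retract (LinearMap.single R S i) (LinearMap.proj i)
    (LinearMap.proj_comp_single_same R S i)

theorem smul_top_eq_top_iff {S' : Type u} [CommRing S'] [Algebra R S'] (m : Ideal R) :
    m • (⊤ : Submodule R S') = ⊤ ↔ Ideal.map (algebraMap R S') m = ⊤ := by
  rw [Ideal.smul_top_eq_map, Submodule.restrictScalars_eq_top_iff]

theorem faithfullyFlat_pi_away (hff : Module.FaithfullyFlat R (∀ i, S i))
    (F : ∀ i, Finset (S i)) (hF : ∀ i, Ideal.span (F i : Set (S i)) = ⊤) :
    Module.FaithfullyFlat R (∀ k : (Σ i, ↥(F i)), Localization.Away (k.2 : S k.1)) := by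
  classical
  haveI : ∀ k : (Σ i, ↥(F i)), Module.Flat R (Localization.Away (k.2 : S k.1)) := by
    intro k
    haveI : Module.Flat R (S k.1) := flat_of_flat_pi S hff.toFlat k.1
    exact Module.Flat.trans R (S k.1) (Localization.Away (k.2 : S k.1))
  apply FamDesc.faithfullyFlat_pi
  intro m hm
  by_contra hcon
  push Not at hcon
  -- every `m S_i = S_i`
  have h1 : ∀ i, Ideal.map (algebraMap R (S i)) m = ⊤ := by
    intro i
    by_contra hne
    obtain ⟨𝔫, h𝔫, hle⟩ := Ideal.exists_le_maximal _ hne
    obtain ⟨t, ht, htn⟩ : ∃ t ∈ F i, t ∉ 𝔫 := by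
      by_contra hc
      push Not at hc
      have : Ideal.span (F i : Set (S i)) ≤ 𝔫 := Ideal.span_le.mpr (fun t ht => hc t ht)
      rw [hF i] at this
      exact h𝔫.ne_top (top_le_iff.mp this)
    have h2 := (smul_top_eq_top_iff (S' := Localization.Away t) m).mp (hcon ⟨i, ⟨t, ht⟩⟩)
    have hdisj : Disjoint (Submonoid.powers t : Set (S i)) (𝔫 : Set (S i)) := by
      rw [Set.disjoint_left]
      rintro x ⟨n, rfl⟩ hx
      exact htn (h𝔫.isPrime.mem_of_pow_mem n hx)
    have hprime := IsLocalization.isPrime_of_isPrime_disjoint (Submonoid.powers t)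
      (Localization.Away t) 𝔫 h𝔫.isPrime hdisj
    apply hprime.ne_top
    rw [eq_top_iff, ← h2, IsScalarTower.algebraMap_eq R (S i) (Localization.Away t),
      ← Ideal.map_map]
    exact Ideal.map_mono hle
  -- hence `m ∏ S_i = ∏ S_i`
  have h3 := ((Module.FaithfullyFlat.iff_flat_and_proper_ideal R (∀ i, S i)).mp hff).2 m hm.ne_top
  apply h3
  rw [eq_top_iff]
  intro x _
  have hx : x = ∑ i, Pi.single i (x i) := (Finset.univ_sum_single x).symm
  rw [hx]
  refine Submodule.sum_mem _ fun i _ => ?_
  have h4 : x i ∈ m • (⊤ : Submodule R (S i)) := by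
    rw [(smul_top_eq_top_iff m).mpr (h1 i)]
    trivial
  exact Submodule.smul_top_le_comap_smul_top m (LinearMap.single R S i) h4

end FFAway

section Main

variable {R : Type u} [CommRing R] {A C : Type u} [CommRing A] [HopfAlgebra R A]
  [CommRing C] [HopfAlgebra R C]

/-- The kernel of a homomorphism from a group of multiplicative type and of finite type to an affine
group of finite presentation is of multiplicative type. -/
theorem isMultType_ker_of_finitePresentation (hft : Algebra.FiniteType R A) (hA : IsMultType R A)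
    (hfp : Algebra.FinitePresentation R C) (φ : C →ₐc[R] A) (J : Ideal A) [J.IsHopfIdeal R]
    (hJ : J = Ideal.map φ (RingHom.ker (Bialgebra.counitAlgHom R C))) :
    IsMultType R (A ⧸ J) := by
  classical
  obtain ⟨DA⟩ := NilLift.nonempty_diagFam (hasDiagCover_of_isMultType hA)
  -- the good elements
  let good : ∀ i, Set (DA.S i) := fun i => {t | ∃ (Q : Type u) (_ : CommGroup Q),
    Nonempty (Localization.Away t ⊗[R] (A ⧸ J) ≃ₐc[Localization.Away t]
      MonoidAlgebra (Localization.Away t) Q)}
  have hgood : ∀ i, Ideal.span (good i) = ⊤ := by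
    intro i
    by_contra hne
    obtain ⟨𝔫, h𝔫, hle⟩ := Ideal.exists_le_maximal _ hne
    haveI : Nontrivial (DA.S i) := by
      by_contra hnt
      haveI := not_nontrivial_iff_subsingleton.mp hnt
      exact hne (Subsingleton.elim _ _)
    obtain ⟨M, _, ⟨ε⟩⟩ := DA.diag i
    have hM : Group.FG M := by
      haveI := hft
      haveI : Algebra.FiniteType (DA.S i) (DA.S i ⊗[R] A) := inferInstance
      have h2 : Algebra.FiniteType (DA.S i) (MonoidAlgebra (DA.S i) M) :=
        Algebra.FiniteType.equiv inferInstance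
          (ε : (DA.S i ⊗[R] A) ≃ₐ[DA.S i] MonoidAlgebra (DA.S i) M)
      exact MonoidAlgebra.finiteType_iff_group_fg.mp h2
    haveI := h𝔫.isPrime
    obtain ⟨t, ht, Q, grp, hQ⟩ := exists_away_diag φ J hJ hfp hM ε 𝔫
    exact ht (hle (Ideal.subset_span ⟨Q, grp, hQ⟩))
  choose F hFsub hFtop using fun i => (Ideal.span_eq_top_iff_finite (good i)).mp (hgood i)
  have key : ∀ k : (Σ i, ↥(F i)), ∃ (Q : Type u) (_ : CommGroup Q),
      Nonempty (Localization.Away (k.2 : DA.S k.1) ⊗[R] (A ⧸ J) ≃ₐc[Localization.Away
        (k.2 : DA.S k.1)] MonoidAlgebra (Localization.Away (k.2 : DA.S k.1)) Q) := by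
    intro k
    exact hFsub k.1 k.2.2
  choose Q grp θ using key
  letI := grp
  exact isMultType_of_family₀ (fun k : (Σ i, ↥(F i)) => Localization.Away (k.2 : DA.S k.1)) Q θ
    (faithfullyFlat_pi_away DA.S DA.ff F hFtop)

end Main

end Groth.Agent.Lib.Helper25.MTGlue
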