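import Groth.Agent.Lib.Helper25DirSysF
import Groth.Agent.Lib.Helper25HDescJ
import Groth.Agent.Lib.Helper25MTGlueR

/-!
# Groups of multiplicative type have Noetherian models of multiplicative type (helper25)

`exists_noetherian_model_isMultType`: a finitely presented Hopf algebra of multiplicative type over
any ring `R` is the base change of a finitely presented Hopf algebra of multiplicative type over a
finitely generated `ℤ`-algebra mapping to `R`.
-/

set_option autoImplicit false
set_option linter.unusedSectionVars false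
set_option linter.style.haveILetI false
universe u

namespace Groth.Agent.Lib.Helper25.DirSys

open TensorProduct Groth.Agent.Lib.Helper25.Spr Groth.Agent.Lib.Helper25.HDesc SGA3b
  Groth.Agent.Lib.Helper25.BCB Groth.Agent.Lib.Helper25

section Point

variable (R : Type u) [CommRing R] (A : Type u) [CommRing A] [HopfAlgebra R A]

/-- A group of multiplicative type and of finite type is diagonalisable over an étale
neighbourhood of any prime. -/
theorem exists_etale_point_diag_of_isMultType (hft : Algebra.FiniteType R A) (h : IsMultType R A)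
    (p : Ideal R) [hp : p.IsPrime] :
    ∃ (C : Type u) (_ : CommRing C) (_ : Algebra R C), Algebra.Etale R C ∧
      (∃ q : Ideal C, q.IsPrime ∧ q.comap (algebraMap R C) = p) ∧ IsDiag C (C ⊗[R] A) := by
  classical
  obtain ⟨s, hs, hsf⟩ := h
  have hex : ∃ f ∈ s, f ∉ p := by
    by_contra hcon
    push Not at hcon
    have hsm : Ideal.span s ≤ p := Ideal.span_le.mpr hcon
    rw [hs] at hsm
    exact hp.ne_top (top_le_iff.mp hsm)
  obtain ⟨f, hfs, hfp⟩ := hex
  have hdisj : Disjoint (Submonoid.powers f : Set R) (p : Set R) := by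
    rw [Set.disjoint_left]
    rintro _ ⟨k, rfl⟩ hk
    exact hfp (hp.mem_of_pow_mem k hk)
  haveI hp₁ : (p.map (algebraMap R (Localization.Away f))).IsPrime :=
    IsLocalization.isPrime_of_isPrime_disjoint (Submonoid.powers f) (Localization.Away f) p
      hp hdisj
  have hpp : (p.map (algebraMap R (Localization.Away f))).comap
      (algebraMap R (Localization.Away f)) = p :=
    IsLocalization.comap_map_of_isPrime_disjoint (Submonoid.powers f) (Localization.Away f)
      hp hdisj
  haveI := hft
  have hft₁ : Algebra.FiniteType (Localization.Away f) (Localization.Away f ⊗[R] A) :=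
    inferInstance
  obtain ⟨C, _, _, het, ⟨q, hq, hqc⟩, hD⟩ :=
    QIso.exists_etale_point_diag (Localization.Away f) (Localization.Away f ⊗[R] A) hft₁
      (hsf f hfs) (p.map (algebraMap R (Localization.Away f)))
  haveI := het
  letI : Algebra R C :=
    ((algebraMap (Localization.Away f) C).comp (algebraMap R (Localization.Away f))).toAlgebra
  haveI : IsScalarTower R (Localization.Away f) C :=
    IsScalarTower.of_algebraMap_eq (fun _ => rfl)
  haveI : Algebra.Etale R (Localization.Away f) := Algebra.Etale.of_isLocalizationAway f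
  refine ⟨C, inferInstance, inferInstance, Algebra.Etale.comp R (Localization.Away f) C,
    ⟨q, hq, ?_⟩, isDiag_of_equiv (cancelBC R (Localization.Away f) C A).symm hD⟩
  rw [IsScalarTower.algebraMap_eq R (Localization.Away f) C, ← Ideal.comap_comap, hqc, hpp]

end Point

section Cover

variable (R : Type u) [CommRing R] (A : Type u) [CommRing A] [HopfAlgebra R A]

/-- A finite jointly surjective family of étale algebras over which a group of multiplicative type
and of finite type is diagonalisable. -/
theorem exists_finite_etale_cover_diag (hft : Algebra.FiniteType R A) (h : IsMultType R A) :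
    ∃ (ι : Type u) (_ : Fintype ι) (_ : DecidableEq ι) (E : ι → Type u)
      (_ : ∀ j, CommRing (E j)) (_ : ∀ j, Algebra R (E j)),
      (∀ j, Algebra.Etale R (E j)) ∧ (∀ j, Nontrivial (E j)) ∧
      (∀ j, IsDiag (E j) (E j ⊗[R] A)) ∧
      ∀ p : Ideal R, p.IsPrime → ∃ j, ∃ q : Ideal (E j), q.IsPrime ∧
        q.comap (algebraMap R (E j)) = p := by
  classical
  have hpt : ∀ x : PrimeSpectrum R, ∃ (C : Type u) (_ : CommRing C) (_ : Algebra R C),
      Algebra.Etale R C ∧ (∃ q : Ideal C, q.IsPrime ∧ q.comap (algebraMap R C) = x.asIdeal) ∧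
      IsDiag C (C ⊗[R] A) := fun x =>
    haveI := x.isPrime
    exists_etale_point_diag_of_isMultType R A hft h x.asIdeal
  choose C instCR instAlg hEt hq hD using hpt
  let U : PrimeSpectrum R → Set (PrimeSpectrum R) := fun x =>
    Set.range (PrimeSpectrum.comap (algebraMap R (C x)))
  have hUo : ∀ x, IsOpen (U x) := fun x => by
    haveI := hEt x
    haveI : Module.Flat R (C x) := inferInstance
    exact (PrimeSpectrum.isOpenMap_comap_of_hasGoingDown_of_finitePresentation).isOpen_range
  have hxU : ∀ x, x ∈ U x := fun x => by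
    obtain ⟨q, hqp, hqc⟩ := hq x
    exact ⟨⟨q, hqp⟩, PrimeSpectrum.ext hqc⟩
  obtain ⟨t, ht⟩ := isCompact_univ.elim_finite_subcover U hUo
    (fun x _ => Set.mem_iUnion.mpr ⟨x, hxU x⟩)
  refine ⟨↥t, inferInstance, inferInstance, fun j => C j.1, fun j => instCR j.1,
    fun j => instAlg j.1, fun j => hEt j.1, fun j => ?_, fun j => hD j.1, ?_⟩
  · obtain ⟨q, hqp, -⟩ := hq j.1
    by_contra hcon
    rw [not_nontrivial_iff_subsingleton] at hcon
    haveI := hcon
    exact hqp.ne_top (Subsingleton.elim _ _)
  · intro p hp
    have hmem := ht (Set.mem_univ (⟨p, hp⟩ : PrimeSpectrum R))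
    obtain ⟨x, hx⟩ := Set.mem_iUnion.mp hmem
    obtain ⟨hxt, ⟨Q, hQ⟩⟩ := Set.mem_iUnion.mp hx
    exact ⟨⟨x, hxt⟩, Q.asIdeal, Q.isPrime, congrArg PrimeSpectrum.asIdeal hQ⟩

end Cover

end Groth.Agent.Lib.Helper25.DirSys
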