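import Groth.Agent.Lib.Helper25DirSysG

/-!
# Groups of multiplicative type have Noetherian models of multiplicative type (helper25)

`exists_noetherian_model_isMultType`: a finitely presented Hopf algebra of multiplicative type over
any ring `R` is the base change of a finitely presented Hopf algebra of multiplicative type over a
finitely generated `ℤ`-algebra mapping to `R`.
-/

set_option autoImplicit false
set_option linter.unusedSectionVars false
set_option linter.style.haveILetI false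
universe u

namespace Groth.Agent.Lib.Helper25.DirSys

open TensorProduct Groth.Agent.Lib.Helper25.Spr Groth.Agent.Lib.Helper25.HDesc SGA3b
  Groth.Agent.Lib.Helper25.BCB Groth.Agent.Lib.Helper25

section Transport

/-- Transport of a prime along an algebra isomorphism. -/
theorem exists_prime_of_algEquiv {R E T : Type u} [CommRing R] [CommRing E] [CommRing T]
    [Algebra R E] [Algebra R T] (e : E ≃ₐ[R] T) (p : Ideal R) (q : Ideal E) [hq : q.IsPrime]
    (hqp : q.comap (algebraMap R E) = p) :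
    ∃ q' : Ideal T, q'.IsPrime ∧ q'.comap (algebraMap R T) = p := by
  refine ⟨q.comap (e.symm : T →+* E), Ideal.IsPrime.comap _, ?_⟩
  rw [Ideal.comap_comap, ← hqp]
  congr 1
  ext r
  simp

end Transport

section Main

variable (R : Type u) [CommRing R] (C : Type u) [CommRing C] [HopfAlgebra R C]

/-- **Noetherian approximation of groups of multiplicative type.** -/
theorem exists_noetherian_model_isMultType (hfp : Algebra.FinitePresentation R C)
    (hmt : IsMultType R C) :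
    ∃ (Λ : Type u) (_ : CommRing Λ) (_ : Algebra Λ R) (_ : Algebra.FiniteType ℤ Λ)
      (H : Type u) (_ : CommRing H) (_ : HopfAlgebra Λ H),
      Algebra.FinitePresentation Λ H ∧ IsMultType Λ H ∧ Nonempty (R ⊗[Λ] H ≃ₐc[R] C) := by
  classical
  haveI := hfp
  have hft : Algebra.FiniteType R C := inferInstance
  obtain ⟨Λ₀, _, _, hΛ₀, H₀, _, _, hfpH₀, -, ⟨iso₀⟩⟩ := exists_noetherian_model R C hfp
  haveI := hfpH₀
  obtain ⟨ι, _, _, E, _, _, hEt, hEnt, hED, hEsurj⟩ := exists_finite_etale_cover_diag R C hft hmt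
  haveI := hEt
  haveI := hEnt
  letI : ∀ j, Algebra Λ₀ (E j) := fun j =>
    ((algebraMap R (E j)).comp (algebraMap Λ₀ R)).toAlgebra
  haveI : ∀ j, IsScalarTower Λ₀ R (E j) := fun j =>
    IsScalarTower.of_algebraMap_eq (fun _ => rfl)
  have hED₀ : ∀ j, IsDiag (E j) (E j ⊗[Λ₀] H₀) := fun j =>
    isDiag_of_equiv ((cancelBC Λ₀ R (E j) H₀).symm.trans (bcEquiv (E j) iso₀)) (hED j)
  obtain ⟨Λ₁, _, _, _, _, hft₁, hF⟩ :=
    exists_model_family Λ₀ R H₀ E hfpH₀ hED₀ Finset.univ
  have hF' : ∀ j, ∃ (F : Type u) (_ : CommRing F) (_ : Algebra Λ₁ F), Algebra.Etale Λ₁ F ∧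
      Nonempty (E j ≃ₐ[R] R ⊗[Λ₁] F) ∧ IsDiag F (F ⊗[Λ₁] (Λ₁ ⊗[Λ₀] H₀)) :=
    fun j => hF j (Finset.mem_univ j)
  choose F instFR instFA hFet hFiso hFD using hF'
  haveI := hFet
  haveI : ∀ j, Module.Flat Λ₁ (F j) := fun j => inferInstance
  haveI : ∀ j, Algebra.FinitePresentation Λ₁ (F j) := fun j => inferInstance
  have hsurj : ∀ p : Ideal R, p.IsPrime → ∃ j, ∃ q : Ideal (R ⊗[Λ₁] F j), q.IsPrime ∧
      q.comap (algebraMap R (R ⊗[Λ₁] F j)) = p := by
    intro p hp
    obtain ⟨j, q, hq, hqp⟩ := hEsurj p hp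
    obtain ⟨e⟩ := hFiso j
    haveI := hq
    exact ⟨j, exists_prime_of_algEquiv e p q hqp⟩
  obtain ⟨S, hS, hff⟩ := exists_fg_faithfullyFlat Λ₁ R F hsurj
  have hft₂ : Algebra.FiniteType Λ₁ S := (Subalgebra.fg_iff_finiteType S).mp hS
  have hD' : ∀ j, IsDiag (S ⊗[Λ₁] F j) ((S ⊗[Λ₁] F j) ⊗[S] (S ⊗[Λ₀] H₀)) := fun j =>
    isDiag_enlarge_bc Λ₀ Λ₁ S (F j) H₀ (hFD j)
  choose Q instQ hQ using hD'
  refine ⟨S, inferInstance, inferInstance, (hΛ₀.trans hft₁).trans hft₂, S ⊗[Λ₀] H₀,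
    inferInstance, inferInstance, inferInstance, ?_, ⟨(cancelBC Λ₀ S R H₀).trans iso₀⟩⟩
  exact MTGlue.isMultType_of_family₀ (fun j => S ⊗[Λ₁] F j) Q hQ hff

end Main

end Groth.Agent.Lib.Helper25.DirSys
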