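import Groth.Agent.Lib.Helper25SprK
import Groth.Agent.Lib.Helper25AdicF

/-!
# Tori: fibrewise criterion (helper25)
-/

set_option autoImplicit false
set_option linter.unusedSectionVars false
set_option linter.style.haveILetI false
universe u

namespace Groth.Agent.Lib.Helper25.Spr

open TensorProduct SGA3b Groth.Agent.Lib.Helper25.BCB

section TorusField

variable (k : Type u) [Field k] (H : Type u) [CommRing H] [HopfAlgebra k H]

/-- A torus over a field is split by a field extension. -/
theorem exists_field_split_of_isTorus (hT : IsTorus k H) :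
    ∃ (K : Type u) (_ : Field K) (_ : Algebra k K) (n : ℕ),
      Nonempty (K ⊗[k] H ≃ₐc[K] MonoidAlgebra K (ULift.{u} (Multiplicative (Fin n → ℤ)))) := by
  obtain ⟨s, hs, hTs⟩ := hT
  obtain ⟨f, hfs, hf0⟩ := exists_ne_zero_of_span_eq_top k s hs
  obtain ⟨R', _, _, hff, n, ⟨τ⟩⟩ := hTs f hfs
  haveI := hff
  haveI : Nontrivial (Localization.Away f) := nontrivial_away k hf0
  haveI : Nontrivial R' :=
    (FaithfulSMul.algebraMap_injective (Localization.Away f) R').nontrivial
  obtain ⟨y, hy⟩ := Ideal.exists_maximal R'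
  letI : Field (R' ⧸ y) := Ideal.Quotient.field y
  letI : Algebra k (R' ⧸ y) :=
    ((algebraMap (Localization.Away f) (R' ⧸ y)).comp
      (algebraMap k (Localization.Away f))).toAlgebra
  haveI : IsScalarTower k (Localization.Away f) (R' ⧸ y) :=
    IsScalarTower.of_algebraMap_eq (fun _ => rfl)
  let τ' : R' ⊗[Localization.Away f] (Localization.Away f ⊗[k] H) ≃ₐc[R']
      MonoidAlgebra R' (ULift.{u} (Multiplicative (Fin n → ℤ))) :=
    τ.trans (MonoidAlgebra.domCongrBialgEquiv (R := R') (A := R') MulEquiv.ulift.symm)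
  exact ⟨R' ⧸ y, inferInstance, inferInstance, n,
    ⟨(cancelBC k (Localization.Away f) (R' ⧸ y) H).symm.trans
      (MTGlue.bcDiag (Localization.Away f) R' (R' ⧸ y) τ')⟩⟩

theorem isMultType_of_isTorus_field (hT : IsTorus k H) : IsMultType k H := by
  obtain ⟨K, _, _, n, ⟨e⟩⟩ := exists_field_split_of_isTorus k H hT
  exact isMultType_of_isMultTypeConst k H
    ⟨K, inferInstance, inferInstance, inferInstance,
      ULift.{u} (Multiplicative (Fin n → ℤ)), inferInstance, ⟨e⟩⟩

theorem connectedSpace_of_isTorus_field (hT : IsTorus k H) :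
    ConnectedSpace (PrimeSpectrum H) := by
  obtain ⟨K, _, _, n, ⟨e⟩⟩ := exists_field_split_of_isTorus k H hT
  let e' : K ⊗[k] H ≃+* MonoidAlgebra K (Multiplicative (Fin n → ℤ)) :=
    e.toAlgEquiv.toRingEquiv.trans
      (MonoidAlgebra.domCongr K K (MulEquiv.ulift (α := Multiplicative (Fin n → ℤ)))).toRingEquiv
  let e'' : H ⊗[k] K ≃+* MonoidAlgebra K (Multiplicative (Fin n → ℤ)) :=
    (Algebra.TensorProduct.comm k H K).toRingEquiv.trans e'
  haveI : ConnectedSpace (PrimeSpectrum (H ⊗[k] K)) :=
    ((PrimeSpectrum.homeomorphOfRingEquiv e'').connectedSpace_iff).mpr inferInstance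
  have hsurj : Function.Surjective (PrimeSpectrum.comap (algebraMap H (H ⊗[k] K))) :=
    PrimeSpectrum.comap_surjective_of_faithfullyFlat
  exact hsurj.connectedSpace (PrimeSpectrum.continuous_comap (algebraMap H (H ⊗[k] K)))

end TorusField

end Groth.Agent.Lib.Helper25.Spr

namespace Groth.Agent.Lib.Helper25.Spr

open TensorProduct SGA3b Groth.Agent.Lib.Helper25.BCB

section Triv

/-- Over the zero ring all bialgebras are isomorphic. -/
theorem nonempty_bialgEquiv_of_subsingleton (R' : Type u) [CommRing R'] [Subsingleton R']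
    (X Y : Type u) [CommRing X] [CommRing Y] [Bialgebra R' X] [Bialgebra R' Y] :
    Nonempty (X ≃ₐc[R'] Y) := by
  haveI : Subsingleton X := Module.subsingleton R' X
  haveI : Subsingleton Y := Module.subsingleton R' Y
  let f : X ≃ₐ[R'] Y :=
    { toFun := fun _ => 0
      invFun := fun _ => 0
      left_inv := fun _ => Subsingleton.elim _ _
      right_inv := fun _ => Subsingleton.elim _ _
      map_mul' := fun _ _ => Subsingleton.elim _ _
      map_add' := fun _ _ => Subsingleton.elim _ _
      commutes' := fun _ => Subsingleton.elim _ _ }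
  refine ⟨BialgEquiv.ofAlgEquiv f ?_ ?_⟩
  · apply AlgHom.ext
    intro x
    exact Subsingleton.elim _ _
  · apply AlgHom.ext
    intro x
    haveI : Subsingleton (Y ⊗[R'] Y) := Module.subsingleton R' _
    exact Subsingleton.elim _ _

end Triv

section Torus

variable (R : Type u) [CommRing R] (A : Type u) [CommRing A] [HopfAlgebra R A]

/-- **Tori: fibrewise criterion.** -/
theorem isTorus_of_fibres [Module.Flat R A] (hfp : Algebra.FinitePresentation R A)
    (hfib : ∀ (p : Ideal R) [p.IsPrime], IsTorus p.ResidueField (p.ResidueField ⊗[R] A)) :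
    IsTorus R A := by
  have hmt : IsMultType R A := isMultType_of_fibres_connected R A hfp
    (fun p _ => ⟨isMultType_of_isTorus_field _ _ (hfib p),
      connectedSpace_of_isTorus_field _ _ (hfib p)⟩)
  obtain ⟨s, hs, hmts⟩ := hmt
  refine ⟨s, hs, fun f hf => ?_⟩
  obtain ⟨R', _, _, hff, M, _, ⟨e⟩⟩ := hmts f hf
  haveI := hff
  by_cases hsub : Subsingleton R'
  · exact ⟨R', inferInstance, inferInstance, hff, 0,
      nonempty_bialgEquiv_of_subsingleton R' _ _⟩
  · rw [not_subsingleton_iff_nontrivial] at hsub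
    obtain ⟨y, hy⟩ := Ideal.exists_maximal R'
    letI : Field (R' ⧸ y) := Ideal.Quotient.field y
    letI : Algebra R (R' ⧸ y) :=
      ((algebraMap (Localization.Away f) (R' ⧸ y)).comp
        (algebraMap R (Localization.Away f))).toAlgebra
    haveI : IsScalarTower R (Localization.Away f) (R' ⧸ y) :=
      IsScalarTower.of_algebraMap_eq (fun _ => rfl)
    -- the prime of `R` below
    let p : Ideal R := RingHom.ker (algebraMap R (R' ⧸ y))
    haveI : p.IsPrime := RingHom.ker_isPrime _
    let ι : p.ResidueField →ₐ[R] (R' ⧸ y) :=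
      Ideal.ResidueField.liftₐ p (Algebra.ofId R (R' ⧸ y)) le_rfl (by
        intro x hx
        change IsUnit (algebraMap R (R' ⧸ y) x)
        rw [isUnit_iff_ne_zero]
        exact fun h0 => hx h0)
    letI : Algebra p.ResidueField (R' ⧸ y) := ι.toRingHom.toAlgebra
    haveI : IsScalarTower R p.ResidueField (R' ⧸ y) :=
      IsScalarTower.of_algebraMap_eq (fun r => (ι.commutes r).symm)
    let ε₀ : (R' ⧸ y) ⊗[p.ResidueField] (p.ResidueField ⊗[R] A) ≃ₐc[R' ⧸ y]
        MonoidAlgebra (R' ⧸ y) M :=
      (cancelBC R p.ResidueField (R' ⧸ y) A).trans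
        ((cancelBC R (Localization.Away f) (R' ⧸ y) A).symm.trans
          (MTGlue.bcDiag (Localization.Away f) R' (R' ⧸ y) e))
    obtain ⟨n, ⟨g⟩⟩ := Adic.exists_mulEquiv_of_isTorus p.ResidueField (p.ResidueField ⊗[R] A)
      (R' ⧸ y) ε₀ (hfib p)
    exact ⟨R', inferInstance, inferInstance, hff, n,
      ⟨e.trans (MonoidAlgebra.domCongrBialgEquiv (R := R') (A := R') g)⟩⟩

end Torus

end Groth.Agent.Lib.Helper25.Spr
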