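import Groth.Agent.Lib.Helper25DirSysH
import Groth.Agent.Lib.Helper25SprL

/-!
# Groups of multiplicative type and of finite type are finitely presented (helper25)
-/

set_option autoImplicit false
set_option linter.unusedSectionVars false
set_option linter.style.haveILetI false
universe u

namespace Groth.Agent.Lib.Helper25.DirSys

open TensorProduct Groth.Agent.Lib.Helper25.Spr SGA3b Groth.Agent.Lib.Helper25.BCB
  Groth.Agent.Lib.Helper25

section FP

variable (R : Type u) [CommRing R] (C : Type u) [CommRing C] [HopfAlgebra R C]

/-- Constant type. -/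
theorem finitePresentation_of_isMultTypeConst (hft : Algebra.FiniteType R C)
    (h : IsMultTypeConst R C) : Algebra.FinitePresentation R C := by
  obtain ⟨R', _, _, hff, M, _, ⟨e⟩⟩ := h
  haveI := hff
  haveI := hft
  have hft' : Algebra.FiniteType R' (R' ⊗[R] C) := inferInstance
  have key : ∃ (M' : Type u) (_ : CommGroup M'), Group.FG M' ∧
      Nonempty (R' ⊗[R] C ≃ₐc[R'] MonoidAlgebra R' M') := by
    by_cases hnt : Nontrivial R'
    · haveI := hnt
      exact ⟨M, inferInstance,
        MonoidAlgebra.finiteType_iff_group_fg.mp (Algebra.FiniteType.equiv hft' e.toAlgEquiv),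
        ⟨e⟩⟩
    · rw [not_nontrivial_iff_subsingleton] at hnt
      haveI := hnt
      exact ⟨PUnit.{u + 1}, inferInstance, inferInstance,
        nonempty_bialgEquiv_of_subsingleton R' _ _⟩
  obtain ⟨M', _, hM', ⟨e'⟩⟩ := key
  haveI := hM'
  haveI : Algebra.FinitePresentation R' (MonoidAlgebra R' M') :=
    finitePresentation_monoidAlgebra R' M'
  haveI : Algebra.FinitePresentation R' (R' ⊗[R] C) :=
    Algebra.FinitePresentation.equiv e'.toAlgEquiv.symm
  exact Algebra.FinitePresentation.of_finitePresentation_tensorProduct_of_faithfullyFlat R'

attribute [local instance] Algebra.TensorProduct.rightAlgebra in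
/-- **Finite presentation.** A group of multiplicative type and of finite type over any ring is of
finite presentation. -/
theorem finitePresentation_of_isMultType (hft : Algebra.FiniteType R C) (h : IsMultType R C) :
    Algebra.FinitePresentation R C := by
  obtain ⟨s, hs, hsf⟩ := h
  haveI := hft
  have h1 : ∀ f : ↥s, Algebra.FinitePresentation R (Localization.Away (f : R) ⊗[R] C) := by
    intro f
    have hft₁ : Algebra.FiniteType (Localization.Away (f : R)) (Localization.Away (f : R) ⊗[R] C) :=
      inferInstance
    haveI : Algebra.FinitePresentation (Localization.Away (f : R))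
        (Localization.Away (f : R) ⊗[R] C) :=
      finitePresentation_of_isMultTypeConst _ _ hft₁ (hsf f.1 f.2)
    haveI : Algebra.FinitePresentation R (Localization.Away (f : R)) :=
      IsLocalization.Away.finitePresentation (f : R)
    exact Algebra.FinitePresentation.trans R (Localization.Away (f : R)) _
  haveI := h1
  refine Algebra.FinitePresentation.of_span_eq_top_target_of_isLocalizationAway
    (fun f : ↥s => algebraMap R C (f : R)) ?_ (fun f => Localization.Away (f : R) ⊗[R] C)
  have : Set.range (fun f : ↥s => algebraMap R C (f : R)) = (algebraMap R C) '' s := by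
    ext x
    constructor
    · rintro ⟨f, rfl⟩
      exact ⟨f.1, f.2, rfl⟩
    · rintro ⟨f, hf, rfl⟩
      exact ⟨⟨f, hf⟩, rfl⟩
  rw [this, ← Ideal.map_span, hs, Ideal.map_top]

end FP

end Groth.Agent.Lib.Helper25.DirSys
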