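import Groth.Agent.Lib.Helper25DirSysI

/-!
# Finiteness at a finite stage; surjectivity on spectra (helper25)
-/

set_option autoImplicit false
set_option linter.unusedSectionVars false
set_option linter.style.haveILetI false
universe u

namespace Groth.Agent.Lib.Helper25.DirSys

open TensorProduct Polynomial Groth.Agent.Lib.Helper25.Spr Groth.Agent.Lib.Helper25

section Fin

variable (Λ : Type u) [CommRing Λ] (R : Type u) [CommRing R] [Algebra Λ R]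
  (F : Type u) [CommRing F] [Algebra Λ F]

/-- Integrality of `1 ⊗ x` over `R` descends to all large enough subalgebras. -/
theorem exists_fg_isIntegral_one_tmul (x : F)
    (hx : IsIntegral R ((1 : R) ⊗ₜ[Λ] x : R ⊗[Λ] F)) :
    ∃ i : FGSub Λ R, ∀ j : FGSub Λ R, i ≤ j → ∀ S : Subalgebra Λ R, j.1 ≤ S →
      IsIntegral S ((1 : S) ⊗ₜ[Λ] x : S ⊗[Λ] F) := by
  classical
  obtain ⟨p, hpm, hp0⟩ := hx
  let S₀ : Subalgebra Λ R := Algebra.adjoin Λ (p.coeffs : Set R)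
  have hS₀ : S₀.FG := Subalgebra.fg_adjoin_finset _
  have hlift : p ∈ Polynomial.lifts (algebraMap S₀ R) := by
    rw [Polynomial.lifts_iff_coeffs_subset_range]
    intro c hc
    exact ⟨⟨c, Algebra.subset_adjoin hc⟩, rfl⟩
  obtain ⟨q, hqp, -, hqm⟩ := Polynomial.lifts_and_natDegree_eq_and_monic hlift hpm
  let y : S₀ ⊗[Λ] F := eval₂ (algebraMap S₀ (S₀ ⊗[Λ] F)) ((1 : S₀) ⊗ₜ[Λ] x) q
  have hcomp : ∀ (S S' : Subalgebra Λ R) (h : S ≤ S'),
      ((tmap F (Subalgebra.inclusion h) : S ⊗[Λ] F →ₐ[Λ] S' ⊗[Λ] F) : S ⊗[Λ] F →+* S' ⊗[Λ] F).comp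
        (algebraMap S (S ⊗[Λ] F)) =
      (algebraMap S' (S' ⊗[Λ] F)).comp (Subalgebra.inclusion h : S →+* S') := by
    intro S S' h
    ext s
    simp [tmap, Algebra.TensorProduct.algebraMap_apply]
  have hy : tmap F S₀.val y = 0 := by
    have h1 : ((tmap F S₀.val : S₀ ⊗[Λ] F →ₐ[Λ] R ⊗[Λ] F) : S₀ ⊗[Λ] F →+* R ⊗[Λ] F).comp
        (algebraMap S₀ (S₀ ⊗[Λ] F)) = (algebraMap R (R ⊗[Λ] F)).comp (algebraMap S₀ R) := by
      ext s
      simp [tmap, Algebra.TensorProduct.algebraMap_apply]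
    change ((tmap F S₀.val : S₀ ⊗[Λ] F →ₐ[Λ] R ⊗[Λ] F) : S₀ ⊗[Λ] F →+* R ⊗[Λ] F) y = 0
    rw [Polynomial.hom_eval₂, h1, ← Polynomial.eval₂_map, hqp]
    have h2 : ((tmap F S₀.val : S₀ ⊗[Λ] F →ₐ[Λ] R ⊗[Λ] F) : S₀ ⊗[Λ] F →+* R ⊗[Λ] F)
        ((1 : S₀) ⊗ₜ[Λ] x) = (1 : R) ⊗ₜ[Λ] x := by
      simp [tmap]
    rw [h2]
    exact hp0
  obtain ⟨j₀, hj₀⟩ := exists_eq_zero (isDirSys_fgSub Λ R) F ⟨S₀, hS₀⟩ y hy
  refine ⟨⟨j₀.1 ⊔ S₀, j₀.2.sup hS₀⟩, fun j hj S hS => ?_⟩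
  have hS₀j : (⟨S₀, hS₀⟩ : FGSub Λ R) ≤ j := le_trans (le_sup_right (a := j₀.1)) hj
  have hj₀j : j₀ ≤ j := le_trans (le_sup_left (b := S₀)) hj
  have hzero : tmap F (Subalgebra.inclusion hS₀j) y = 0 := hj₀ j hj₀j hS₀j
  have hS₀S : S₀ ≤ S := le_trans hS₀j hS
  have hzero' : tmap F (Subalgebra.inclusion hS₀S) y = 0 := by
    have : tmap F (Subalgebra.inclusion hS₀S) y =
        tmap F (Subalgebra.inclusion hS) (tmap F (Subalgebra.inclusion hS₀j) y) := by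
      rw [tmap_tmap]
      rfl
    rw [this, hzero, map_zero]
  refine ⟨q.map (Subalgebra.inclusion hS₀S : S₀ →+* S), hqm.map _, ?_⟩
  rw [Polynomial.eval₂_map, ← hcomp S₀ S hS₀S]
  have h2 : ((tmap F (Subalgebra.inclusion hS₀S) : S₀ ⊗[Λ] F →ₐ[Λ] S ⊗[Λ] F) :
      S₀ ⊗[Λ] F →+* S ⊗[Λ] F) ((1 : S₀) ⊗ₜ[Λ] x) = (1 : S) ⊗ₜ[Λ] x := by
    simp [tmap]
  rw [← h2, ← Polynomial.hom_eval₂]
  exact hzero'

/-- A base change generated by integral elements `1 ⊗ x` is integral. -/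
theorem isIntegral_baseChange_of_generators (S : Type u) [CommRing S] [Algebra Λ S]
    (G : Set F) (hG : Algebra.adjoin Λ G = ⊤)
    (h : ∀ x ∈ G, IsIntegral S ((1 : S) ⊗ₜ[Λ] x : S ⊗[Λ] F)) :
    Algebra.IsIntegral S (S ⊗[Λ] F) := by
  have h1 : ∀ f : F, ((1 : S) ⊗ₜ[Λ] f : S ⊗[Λ] F) ∈ integralClosure S (S ⊗[Λ] F) := by
    intro f
    have hf : f ∈ Algebra.adjoin Λ G := by rw [hG]; trivial
    induction hf using Algebra.adjoin_induction with
    | mem x hx => exact h x hx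
    | algebraMap r =>
      have : ((1 : S) ⊗ₜ[Λ] (algebraMap Λ F r) : S ⊗[Λ] F) =
          algebraMap S (S ⊗[Λ] F) (algebraMap Λ S r) := by
        rw [Algebra.TensorProduct.algebraMap_apply, Algebra.algebraMap_self, RingHom.id_apply,
          Algebra.algebraMap_eq_smul_one, Algebra.algebraMap_eq_smul_one, TensorProduct.smul_tmul]
      rw [this]
      exact Subalgebra.algebraMap_mem _ _
    | add a b _ _ ha hb =>
      rw [TensorProduct.tmul_add]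
      exact Subalgebra.add_mem _ ha hb
    | mul a b _ _ ha hb =>
      have : ((1 : S) ⊗ₜ[Λ] (a * b) : S ⊗[Λ] F) = ((1 : S) ⊗ₜ[Λ] a) * ((1 : S) ⊗ₜ[Λ] b) := by
        rw [Algebra.TensorProduct.tmul_mul_tmul, one_mul]
      rw [this]
      exact Subalgebra.mul_mem _ ha hb
  refine ⟨fun z => ?_⟩
  change z ∈ integralClosure S (S ⊗[Λ] F)
  induction z using TensorProduct.induction_on with
  | zero => exact Subalgebra.zero_mem _
  | add a b ha hb => exact Subalgebra.add_mem _ ha hb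
  | tmul s f =>
    have : (s ⊗ₜ[Λ] f : S ⊗[Λ] F) = s • ((1 : S) ⊗ₜ[Λ] f) := by
      rw [TensorProduct.smul_tmul', smul_eq_mul, mul_one]
    rw [this]
    exact Subalgebra.smul_mem _ (h1 f) s

/-- **Finiteness at a finite stage.** -/
theorem exists_fg_finite (hft : Algebra.FiniteType Λ F) [Module.Finite R (R ⊗[Λ] F)] :
    ∃ S₁ : Subalgebra Λ R, S₁.FG ∧ ∀ S : Subalgebra Λ R, S₁ ≤ S →
      Module.Finite S (S ⊗[Λ] F) := by
  classical
  obtain ⟨G, hG⟩ := hft.out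
  obtain ⟨i, hi⟩ := exists_forall_finset (I := FGSub Λ R) G
    (fun x j => ∀ S : Subalgebra Λ R, j.1 ≤ S → IsIntegral S ((1 : S) ⊗ₜ[Λ] x : S ⊗[Λ] F))
    (fun x _ => exists_fg_isIntegral_one_tmul Λ R F x (Algebra.IsIntegral.isIntegral _))
  refine ⟨i.1, i.2, fun S hS => ?_⟩
  haveI := hft
  haveI : Algebra.IsIntegral S (S ⊗[Λ] F) :=
    isIntegral_baseChange_of_generators Λ F S (G : Set F) hG
      (fun x hx => hi i le_rfl x hx S hS)
  exact Algebra.IsIntegral.finite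

end Fin

end Groth.Agent.Lib.Helper25.DirSys
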