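import Groth.Agent.Lib.Helper25DirSysJ

/-!
# Isotrivial groups of multiplicative type have isotrivial Noetherian models (helper25)
-/

set_option autoImplicit false
set_option linter.unusedSectionVars false
set_option linter.style.haveILetI false
universe u

namespace Groth.Agent.Lib.Helper25.DirSys

open TensorProduct Groth.Agent.Lib.Helper25.Spr Groth.Agent.Lib.Helper25.HDesc SGA3b
  Groth.Agent.Lib.Helper25.BCB Groth.Agent.Lib.Helper25

section PrimeTensor

variable (Λ : Type u) [CommRing Λ] {ι : Type u} (F : ι → Type u) [∀ j, CommRing (F j)]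
  [∀ j, Algebra Λ (F j)]

/-- Primes of an algebra `S` in which `I` generates the unit ideal lift to some `S ⊗ F j`. -/
theorem exists_prime_tensor_of_map_eq_top (I : Ideal Λ)
    (hcov : ∀ p : Ideal Λ, p.IsPrime → ¬ I ≤ p →
      ∃ j, ∃ Q : Ideal (F j), Q.IsPrime ∧ Q.comap (algebraMap Λ (F j)) = p)
    (S : Type u) [CommRing S] [Algebra Λ S] (hIS : I.map (algebraMap Λ S) = ⊤)
    (m : Ideal S) [hm : m.IsPrime] :
    ∃ j, ∃ z : Ideal (S ⊗[Λ] F j), z.IsPrime ∧ z.comap (algebraMap S (S ⊗[Λ] F j)) = m := by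
  have hIm : ¬ I ≤ m.comap (algebraMap Λ S) := by
    intro hle
    apply hm.ne_top
    rw [eq_top_iff, ← hIS]
    exact Ideal.map_le_iff_le_comap.mpr hle
  obtain ⟨j, Q, hQ, hQm⟩ := hcov (m.comap (algebraMap Λ S)) (Ideal.IsPrime.comap _) hIm
  haveI := hQ
  obtain ⟨z, hz, hz1, -⟩ := HPoints.exists_prime_tensor (R := Λ) m Q hQm.symm
  exact ⟨j, z, hz, hz1⟩

end PrimeTensor

section Iso

variable (R : Type u) [CommRing R] (C : Type u) [CommRing C] [HopfAlgebra R C]

/-- **Noetherian approximation of isotrivial groups of multiplicative type.** -/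
theorem exists_noetherian_model_isIsotrivial (hfp : Algebra.FinitePresentation R C)
    (h : IsIsotrivial R C) :
    ∃ (Λ : Type u) (_ : CommRing Λ) (_ : Algebra Λ R) (_ : Algebra.FiniteType ℤ Λ)
      (H : Type u) (_ : CommRing H) (_ : HopfAlgebra Λ H),
      Algebra.FinitePresentation Λ H ∧ IsIsotrivial Λ H ∧ Nonempty (R ⊗[Λ] H ≃ₐc[R] C) := by
  classical
  haveI := hfp
  obtain ⟨R', _, _, hEt, hFin, hFF, hD⟩ := h
  haveI := hEt
  haveI := hFin
  haveI := hFF
  obtain ⟨Λ₀, _, _, hΛ₀, H₀, _, _, hfpH₀, -, ⟨iso₀⟩⟩ := exists_noetherian_model R C hfp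
  haveI := hfpH₀
  by_cases hnt : Nontrivial R'
  · haveI := hnt
    letI : Algebra Λ₀ R' := ((algebraMap R R').comp (algebraMap Λ₀ R)).toAlgebra
    haveI : IsScalarTower Λ₀ R R' := IsScalarTower.of_algebraMap_eq (fun _ => rfl)
    have hD₀ : IsDiag R' (R' ⊗[Λ₀] H₀) :=
      isDiag_of_equiv ((cancelBC Λ₀ R R' H₀).symm.trans (bcEquiv R' iso₀)) hD
    obtain ⟨Λ₁, _, _, _, _, hft₁, F, _, _, hFet, ⟨e⟩, hFD⟩ :=
      exists_model_etale_isDiag Λ₀ R H₀ R' hfpH₀ hD₀
    haveI := hFet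
    haveI : Module.Finite R (R ⊗[Λ₁] F) := Module.Finite.equiv e.toLinearEquiv
    have hftF : Algebra.FiniteType Λ₁ F := inferInstance
    obtain ⟨S₁, hS₁, hfin⟩ := exists_fg_finite Λ₁ R F hftF
    haveI : ∀ _ : PUnit.{u + 1}, Module.Flat Λ₁ F := fun _ => inferInstance
    haveI : ∀ _ : PUnit.{u + 1}, Algebra.FinitePresentation Λ₁ F := fun _ => inferInstance
    have hsurj : ∀ p : Ideal R, p.IsPrime → ∃ _ : PUnit.{u + 1}, ∃ q : Ideal (R ⊗[Λ₁] F),
        q.IsPrime ∧ q.comap (algebraMap R (R ⊗[Λ₁] F)) = p := by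
      intro p hp
      obtain ⟨Q, hQ⟩ := PrimeSpectrum.comap_surjective_of_faithfullyFlat (A := R) (B := R')
        ⟨p, hp⟩
      haveI := Q.isPrime
      exact ⟨PUnit.unit, exists_prime_of_algEquiv e p Q.asIdeal
        (congrArg PrimeSpectrum.asIdeal hQ)⟩
    obtain ⟨I, hI, hcov⟩ := exists_ideal_map_eq_top Λ₁ R (fun _ : PUnit.{u + 1} => F) hsurj
    obtain ⟨S₂, hS₂, hIS₂⟩ := exists_fg_map_eq_top Λ₁ R I hI
    let S : Subalgebra Λ₁ R := S₁ ⊔ S₂
    have hS : S.FG := hS₁.sup hS₂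
    have hft₂ : Algebra.FiniteType Λ₁ S := (Subalgebra.fg_iff_finiteType S).mp hS
    have hIS : I.map (algebraMap Λ₁ S) = ⊤ := by
      have h2 : S₂ ≤ S := le_sup_right
      have : algebraMap Λ₁ S = (Subalgebra.inclusion h2 : S₂ →+* S).comp (algebraMap Λ₁ S₂) := by
        ext x
        rfl
      rw [this, ← Ideal.map_map, hIS₂, Ideal.map_top]
    haveI : Module.Finite S (S ⊗[Λ₁] F) := hfin S le_sup_left
    haveI : Module.FaithfullyFlat S (S ⊗[Λ₁] F) := by
      apply Module.FaithfullyFlat.of_comap_surjective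
      intro P
      haveI := P.isPrime
      obtain ⟨-, z, hz, hz1⟩ := exists_prime_tensor_of_map_eq_top Λ₁
        (fun _ : PUnit.{u + 1} => F) I hcov S hIS P.asIdeal
      exact ⟨⟨z, hz⟩, PrimeSpectrum.ext hz1⟩
    refine ⟨S, inferInstance, inferInstance, (hΛ₀.trans hft₁).trans hft₂, S ⊗[Λ₀] H₀,
      inferInstance, inferInstance, inferInstance, ?_, ⟨(cancelBC Λ₀ S R H₀).trans iso₀⟩⟩
    exact ⟨S ⊗[Λ₁] F, inferInstance, inferInstance, inferInstance, inferInstance, inferInstance,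
      isDiag_enlarge_bc Λ₀ Λ₁ S F H₀ hFD⟩
  · rw [not_nontrivial_iff_subsingleton] at hnt
    haveI := hnt
    haveI : Subsingleton R := by
      by_contra hcon
      rw [not_subsingleton_iff_nontrivial] at hcon
      haveI := hcon
      haveI : Nontrivial (R ⊗[R] R') := Module.FaithfullyFlat.rTensor_nontrivial R R' R
      exact not_subsingleton (R ⊗[R] R') (TensorProduct.lid R R').toEquiv.subsingleton
    haveI : Algebra.FinitePresentation Λ₀ (MonoidAlgebra Λ₀ PUnit.{u + 1}) :=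
      finitePresentation_monoidAlgebra Λ₀ PUnit.{u + 1}
    refine ⟨Λ₀, inferInstance, inferInstance, hΛ₀, MonoidAlgebra Λ₀ PUnit.{u + 1},
      inferInstance, inferInstance, inferInstance, ?_,
      nonempty_bialgEquiv_of_subsingleton R _ _⟩
    exact ⟨Λ₀, inferInstance, inferInstance, inferInstance, inferInstance, inferInstance,
      PUnit.{u + 1}, inferInstance, ⟨steBialg Λ₀ Λ₀ PUnit.{u + 1}⟩⟩

end Iso

end Groth.Agent.Lib.Helper25.DirSys
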