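import Groth.Agent.Lib.Helper25DirSysK

/-!
# Directed unions of subrings; base change of isotrivial groups (helper25)
-/

set_option autoImplicit false
set_option linter.unusedSectionVars false
set_option linter.style.haveILetI false
universe u

namespace Groth.Agent.Lib.Helper25.DirSys

open TensorProduct SGA3b Groth.Agent.Lib.Helper25.BCB Groth.Agent.Lib.Helper25

section Index

variable (A : Type u) [CommRing A] {ι : Type u} [Preorder ι] [IsDirected ι (· ≤ ·)] [Nonempty ι]
  (B : ι → Subring A)

/-- A ring of finite type over `ℤ` mapping to a directed union of subrings maps to one of them. -/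
theorem exists_index (hmono : Monotone B) (hsup : ⨆ i, B i = ⊤)
    (Λ : Type u) [CommRing Λ] [Algebra Λ A] (hΛ : Algebra.FiniteType ℤ Λ) :
    ∃ i, ∃ φ : Λ →+* B i, ∀ x, ((φ x : B i) : A) = algebraMap Λ A x := by
  classical
  obtain ⟨G, hG⟩ := hΛ.out
  have hdir : Directed (· ≤ ·) B := hmono.directed_le
  have h1 : ∀ g : Λ, ∃ i, algebraMap Λ A g ∈ B i := by
    intro g
    have : algebraMap Λ A g ∈ ⨆ i, B i := by rw [hsup]; trivial
    exact (Subring.mem_iSup_of_directed hdir).mp this
  choose idx hidx using h1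
  obtain ⟨M, hM⟩ := Finset.exists_le (G.image idx)
  have h2 : ∀ g ∈ G, algebraMap Λ A g ∈ B M := fun g hg =>
    hmono (hM (idx g) (Finset.mem_image_of_mem idx hg)) (hidx g)
  have h3 : ∀ x : Λ, algebraMap Λ A x ∈ B M := by
    intro x
    have hx : x ∈ Algebra.adjoin ℤ (G : Set Λ) := by rw [hG]; trivial
    induction hx using Algebra.adjoin_induction with
    | mem g hg => exact h2 g (Finset.mem_coe.mp hg)
    | algebraMap n =>
      rw [algebraMap_int_eq, eq_intCast, map_intCast]
      exact intCast_mem _ n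
    | add a b _ _ ha hb =>
      rw [map_add]
      exact add_mem ha hb
    | mul a b _ _ ha hb =>
      rw [map_mul]
      exact mul_mem ha hb
  exact ⟨M, (algebraMap Λ A).codRestrict (B M) h3, fun _ => rfl⟩

end Index

section IsoBC

/-- Auxiliary: rebase a diagonalisation. -/
theorem isDiag_cancel (K S' F H : Type u) [CommRing K] [CommRing S'] [CommRing F]
    [CommRing H] [HopfAlgebra K H] [Algebra K S'] [Algebra K F] [Algebra S' F]
    [IsScalarTower K S' F] (h : IsDiag F (F ⊗[K] H)) : IsDiag F (F ⊗[S'] (S' ⊗[K] H)) :=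
  isDiag_of_equiv (cancelBC K S' F H) h

/-- Isotriviality is stable under base change. -/
theorem isIsotrivial_baseChange (Λ : Type u) [CommRing Λ] (H : Type u) [CommRing H]
    [HopfAlgebra Λ H] (T : Type u) [CommRing T] [Algebra Λ T] (h : IsIsotrivial Λ H) :
    IsIsotrivial T (T ⊗[Λ] H) := by
  obtain ⟨R', _, _, hEt, hFin, hFF, hD⟩ := h
  haveI := hEt
  haveI := hFin
  haveI := hFF
  have h1 : IsDiag (T ⊗[Λ] R') ((T ⊗[Λ] R') ⊗[Λ] H) :=
    Desc.isDiag_of_algHom Λ H R' (T ⊗[Λ] R') Algebra.TensorProduct.includeRight hD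
  exact ⟨T ⊗[Λ] R', inferInstance, inferInstance, inferInstance, inferInstance, inferInstance,
    isDiag_cancel Λ T (T ⊗[Λ] R') H h1⟩

end IsoBC

end Groth.Agent.Lib.Helper25.DirSys
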