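import Groth.Agent.Lib.Helper25Antipode
import Groth.Agent.Lib.Helper25Comod
import Groth.Prelude.Def_ComodDual
import Mathlib.LinearAlgebra.Contraction

/-! # The contragredient comodule of a finite projective comodule (helper25) -/

set_option autoImplicit false
universe u v w w'

namespace Groth.Agent.Lib.Helper25

open TensorProduct HopfRep

section DualComod

variable {k : Type u} [CommRing k] {A : Type v} [CommRing A] [HopfAlgebra k A]
variable {V : Type w} [AddCommGroup V] [Module k V] [Module.Finite k V] [Module.Projective k V]

/-- `f ↦ (v ↦ Σ f(v₀) S(v₁))` as a linear map. -/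
noncomputable def dualThetaL (c : Comod k A V) : Module.Dual k V →ₗ[k] (V →ₗ[k] A) where
  toFun f := ComodTens.dualCoactFun c f
  map_add' f g := ComodTens.dualCoactFun_add c f g
  map_smul' r f := ComodTens.dualCoactFun_smul c r f

omit [Module.Finite k V] [Module.Projective k V] in
@[simp] theorem dualThetaL_apply (c : Comod k A V) (f : Module.Dual k V) :
    dualThetaL c f = ComodTens.dualCoactFun c f := rfl

/-- The contragredient coaction. -/
noncomputable def dualCoact (c : Comod k A V) : Module.Dual k V →ₗ[k] Module.Dual k V ⊗[k] A :=
  (LinearEquiv.ofBijective (dualTensorHom k V A) dualTensorHom_bijective).symm.toLinearMap ∘ₗ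
    dualThetaL c

theorem dualTensorHom_dualCoact (c : Comod k A V) (f : Module.Dual k V) :
    dualTensorHom k V A (dualCoact c f) = ComodTens.dualCoactFun c f := by
  unfold dualCoact
  rw [LinearMap.comp_apply, LinearEquiv.coe_coe]
  exact (LinearEquiv.ofBijective (dualTensorHom k V A) dualTensorHom_bijective).apply_symm_apply _

omit [Module.Finite k V] [Module.Projective k V] [HopfAlgebra k A] in
theorem dualTensorHom_assoc_tmul [Algebra k A] (z : Module.Dual k V ⊗[k] A) (a' : A) (v : V) :
    dualTensorHom k V (A ⊗[k] A) (TensorProduct.assoc k (Module.Dual k V) A A (z ⊗ₜ[k] a')) v =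
      dualTensorHom k V A z v ⊗ₜ[k] a' := by
  induction z using TensorProduct.induction_on with
  | zero => simp
  | add x y hx hy => simp only [TensorProduct.add_tmul, map_add, LinearMap.add_apply, hx, hy]
  | tmul g a => simp [TensorProduct.smul_tmul']

/-- Step (1): evaluating `assoc ((d ⊗ id) y)` at `v`. -/
theorem dualTensorHom_assoc_rTensor_dualCoact (c : Comod k A V) (y : Module.Dual k V ⊗[k] A)
    (v : V) :
    dualTensorHom k V (A ⊗[k] A) (TensorProduct.assoc k (Module.Dual k V) A A
        ((dualCoact c).rTensor A y)) v =
      TensorProduct.map (HopfAlgebraStruct.antipode (R := k) (A := A)) (dualTensorHom k V A y)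
        (TensorProduct.comm k V A (c.coact v)) := by
  induction y using TensorProduct.induction_on with
  | zero => simp
  | add x y hx hy =>
    simp only [map_add, LinearMap.add_apply, hx, hy, TensorProduct.map_add_right]
  | tmul g a' =>
    rw [LinearMap.rTensor_tmul, dualTensorHom_assoc_tmul, dualTensorHom_dualCoact,
      ComodTens.dualCoactFun_apply]
    generalize c.coact v = x
    induction x using TensorProduct.induction_on with
    | zero => simp
    | add x y hx hy => simp only [map_add, TensorProduct.add_tmul, hx, hy]
    | tmul v' b =>
      simp only [TensorProduct.map_tmul, TensorProduct.lid_tmul, TensorProduct.comm_tmul,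
        dualTensorHom_apply, TensorProduct.smul_tmul', TensorProduct.tmul_smul]

omit [Module.Finite k V] [Module.Projective k V] in
theorem comm_map_assoc_symm_tmul (f : Module.Dual k V) (v' : V) (w : A ⊗[k] A) :
    TensorProduct.comm k A A (TensorProduct.map
      ((TensorProduct.lid k A).toLinearMap ∘ₗ
        TensorProduct.map f (HopfAlgebraStruct.antipode (R := k) (A := A)))
      (HopfAlgebraStruct.antipode (R := k) (A := A))
      ((TensorProduct.assoc k V A A).symm (v' ⊗ₜ[k] w))) =
    f v' • TensorProduct.map (HopfAlgebraStruct.antipode (R := k) (A := A))
      (HopfAlgebraStruct.antipode (R := k) (A := A)) (TensorProduct.comm k A A w) := by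
  induction w using TensorProduct.induction_on with
  | zero => simp
  | add x y hx hy => simp only [TensorProduct.tmul_add, map_add, smul_add, hx, hy]
  | tmul b' b'' =>
    simp [TensorProduct.tmul_smul]

omit [Module.Finite k V] [Module.Projective k V] in
theorem comm_map_assoc_symm_comul (f : Module.Dual k V) (x : V ⊗[k] A) :
    TensorProduct.comm k A A (TensorProduct.map
      ((TensorProduct.lid k A).toLinearMap ∘ₗ
        TensorProduct.map f (HopfAlgebraStruct.antipode (R := k) (A := A)))
      (HopfAlgebraStruct.antipode (R := k) (A := A))
      ((TensorProduct.assoc k V A A).symm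
        ((CoalgebraStruct.comul (R := k) (A := A)).lTensor V x))) =
    CoalgebraStruct.comul (R := k)
      (TensorProduct.lid k A (TensorProduct.map f
        (HopfAlgebraStruct.antipode (R := k) (A := A)) x)) := by
  induction x using TensorProduct.induction_on with
  | zero => simp
  | add x y hx hy => simp only [map_add, hx, hy]
  | tmul v' b =>
    rw [LinearMap.lTensor_tmul, comm_map_assoc_symm_tmul, TensorProduct.map_tmul,
      TensorProduct.lid_tmul, map_smul]
    congr 1
    exact (comul_antipode (k := k) b).symm

omit [Module.Finite k V] [Module.Projective k V] in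
theorem map_antipode_dualCoactFun_comm (c : Comod k A V) (f : Module.Dual k V) (v : V) :
    TensorProduct.map (HopfAlgebraStruct.antipode (R := k) (A := A)) (ComodTens.dualCoactFun c f)
        (TensorProduct.comm k V A (c.coact v)) =
      CoalgebraStruct.comul (R := k) (ComodTens.dualCoactFun c f v) := by
  letI := c
  rw [ComodTens.dualCoactFun_apply, ← comm_map_assoc_symm_comul, ← coassoc_apply]
  have h1 : ∀ x : V ⊗[k] A,
      TensorProduct.map (HopfAlgebraStruct.antipode (R := k) (A := A))
        (ComodTens.dualCoactFun c f) (TensorProduct.comm k V A x) =
      TensorProduct.comm k A A (TensorProduct.map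
        ((TensorProduct.lid k A).toLinearMap ∘ₗ
          TensorProduct.map f (HopfAlgebraStruct.antipode (R := k) (A := A)))
        (HopfAlgebraStruct.antipode (R := k) (A := A))
        ((Comod.coact (k := k) (A := A)).rTensor A x)) := by
    intro x
    induction x using TensorProduct.induction_on with
    | zero => simp
    | add x y hx hy => simp only [map_add, hx, hy]
    | tmul v' b =>
      simp only [TensorProduct.comm_tmul, TensorProduct.map_tmul, LinearMap.rTensor_tmul,
        LinearMap.comp_apply, LinearEquiv.coe_coe]
      rfl
  exact h1 _

/-- The contragredient comodule structure on the dual of a finite projective comodule. -/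
@[reducible] noncomputable def dualComod (c : Comod k A V) : Comod k A (Module.Dual k V) where
  coact := dualCoact c
  coassoc := by
    apply LinearMap.ext
    intro f
    apply (dualTensorHom_bijective (R := k) (M := V) (N := A ⊗[k] A)).1
    apply LinearMap.ext
    intro v
    simp only [LinearMap.comp_apply, LinearEquiv.coe_coe]
    rw [dualTensorHom_assoc_rTensor_dualCoact, dualTensorHom_dualCoact,
      map_antipode_dualCoactFun_comm]
    have h := LinearMap.congr_fun (dualTensorHom_comp_lTensor (R := k) (M := V)
      (CoalgebraStruct.comul (R := k) (A := A))) (dualCoact c f)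
    simp only [LinearMap.comp_apply] at h
    rw [h, dualTensorHom_dualCoact]
    rfl
  counit_comp := by
    letI := c
    apply LinearMap.ext
    intro f
    apply (dualTensorHom_bijective (R := k) (M := V) (N := k)).1
    apply LinearMap.ext
    intro v
    have h := LinearMap.congr_fun (dualTensorHom_comp_lTensor (R := k) (M := V)
      (CoalgebraStruct.counit (R := k) (A := A))) (dualCoact c f)
    simp only [LinearMap.comp_apply] at h
    rw [LinearMap.comp_apply, h, dualTensorHom_dualCoact]
    simp only [LinearMap.compRight_apply, LinearMap.comp_apply, LinearMap.flip_apply,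
      TensorProduct.mk_apply, dualTensorHom_apply, smul_eq_mul, mul_one]
    rw [ComodTens.dualCoactFun_apply]
    have h2 : ∀ x : V ⊗[k] A, CoalgebraStruct.counit (R := k) (A := A)
        (TensorProduct.lid k A (TensorProduct.map f
          (HopfAlgebraStruct.antipode (R := k) (A := A)) x)) =
        f (TensorProduct.rid k V ((CoalgebraStruct.counit (R := k) (A := A)).lTensor V x)) := by
      intro x
      induction x using TensorProduct.induction_on with
      | zero => simp
      | add x y hx hy => simp only [map_add, hx, hy]
      | tmul v' b => simp [mul_comm]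
    have h3 : c.coact v = Comod.coact (k := k) (A := A) v := rfl
    rw [h2, h3, counit_apply]
    simp

theorem isDual_dualComod (c : Comod k A V) : ComodTens.Comod.IsDual c (dualComod c) :=
  fun f => dualTensorHom_dualCoact c f

end DualComod

end Groth.Agent.Lib.Helper25
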