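import Groth.Agent.Lib.Helper25Comod
import Groth.Prelude.Def_ComodDual
import Groth.Prelude.Def_ComodTens
import Mathlib.LinearAlgebra.Contraction
import Mathlib.Algebra.Module.FinitePresentation
import Mathlib.RingTheory.Flat.Basic
import Mathlib.LinearAlgebra.LeftExact

/-! # Invariants of `B ⊗ M^*` and comodule maps `M → B` (helper25) -/

set_option autoImplicit false
universe u v w w'

namespace Groth.Agent.Lib.Helper25


open TensorProduct HopfRep

section DualTensorFlat

variable {k : Type u} [CommRing k]
variable {M : Type w'} [AddCommGroup M] [Module k M] [Module.FinitePresentation k M]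
variable {B : Type w} [AddCommGroup B] [Module k B] [Module.Flat k B]

theorem dualTensorHom_bijective_of_flat :
    Function.Bijective (dualTensorHom k M B) := by
  obtain ⟨n, m, f, g, hf, hfg⟩ := Module.FinitePresentation.exists_fin' k M
  have hD0 : Function.Bijective (dualTensorHom k (Fin n → k) B) := dualTensorHom_bijective
  have hD1 : Function.Bijective (dualTensorHom k (Fin m → k) B) := dualTensorHom_bijective
  have natf := dualTensorHom_comp_rTensor_dualMap (R := k) (P := B) f
  have natg := dualTensorHom_comp_rTensor_dualMap (R := k) (P := B) g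
  have hex : Function.Exact f.dualMap g.dualMap :=
    LinearMap.exact_lcomp_of_exact_of_surjective (N := k) hfg hf
  have hinj : Function.Injective f.dualMap :=
    LinearMap.lcomp_injective_of_surjective (S := k) (N := k) f hf
  have hexB : Function.Exact (f.dualMap.rTensor B) (g.dualMap.rTensor B) :=
    Module.Flat.rTensor_exact B hex
  have hinjB : Function.Injective (f.dualMap.rTensor B) :=
    Module.Flat.rTensor_preserves_injective_linearMap _ hinj
  constructor
  · rw [injective_iff_map_eq_zero]
    intro x hx
    apply hinjB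
    rw [map_zero]
    apply hD0.1
    rw [map_zero]
    have := LinearMap.congr_fun natf x
    simp only [LinearMap.comp_apply] at this
    rw [this, hx, map_zero]
  · intro h
    obtain ⟨y, hy⟩ := hD0.2 (h ∘ₗ f)
    have h1 : g.dualMap.rTensor B y = 0 := by
      apply hD1.1
      rw [map_zero]
      have := LinearMap.congr_fun natg y
      simp only [LinearMap.comp_apply] at this
      rw [this, hy]
      apply LinearMap.ext
      intro z
      simp only [LinearMap.lcomp_apply', LinearMap.comp_apply, LinearMap.zero_apply]
      rw [hfg.apply_apply_eq_zero, map_zero]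
    obtain ⟨x, hx⟩ := (hexB y).mp h1
    refine ⟨x, ?_⟩
    have := LinearMap.congr_fun natf x
    simp only [LinearMap.comp_apply] at this
    rw [hx, hy] at this
    apply LinearMap.ext
    intro z
    obtain ⟨z', rfl⟩ := hf z
    have h2 := LinearMap.congr_fun this z'
    simp only [LinearMap.lcomp_apply', LinearMap.comp_apply] at h2
    exact h2.symm

end DualTensorFlat




section MulR

variable {k : Type u} [CommRing k] {A : Type v} [CommRing A] [Algebra k A]
variable {B : Type w} [AddCommGroup B] [Module k B]

/-- `(b ⊗ a) ⊗ a' ↦ b ⊗ (a * a')`. -/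
noncomputable def mulR (k : Type u) [CommRing k] (A : Type v) [CommRing A] [Algebra k A]
    (B : Type w) [AddCommGroup B] [Module k B] : (B ⊗[k] A) ⊗[k] A →ₗ[k] B ⊗[k] A :=
  (LinearMap.mul' k A).lTensor B ∘ₗ (TensorProduct.assoc k B A A).toLinearMap

@[simp] theorem mulR_tmul (b : B) (a a' : A) :
    mulR k A B ((b ⊗ₜ[k] a) ⊗ₜ[k] a') = b ⊗ₜ[k] (a * a') := by
  simp [mulR]

theorem mulR_tmul_one (z : B ⊗[k] A) : mulR k A B (z ⊗ₜ[k] (1 : A)) = z := by
  induction z using TensorProduct.induction_on with
  | zero => simp
  | add x y hx hy => simp only [TensorProduct.add_tmul, map_add, hx, hy]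
  | tmul b a => simp

theorem mulR_mulR (z : B ⊗[k] A) (a a' : A) :
    mulR k A B (mulR k A B (z ⊗ₜ[k] a) ⊗ₜ[k] a') = mulR k A B (z ⊗ₜ[k] (a * a')) := by
  induction z using TensorProduct.induction_on with
  | zero => simp
  | add x y hx hy => simp only [TensorProduct.add_tmul, map_add, hx, hy]
  | tmul b c => simp [mul_assoc]

end MulR

section Psi

variable {k : Type u} [CommRing k] {A : Type v} [CommRing A] [Algebra k A]
variable {B : Type w} [AddCommGroup B] [Module k B]
variable {M : Type w'} [AddCommGroup M] [Module k M]

/-- `(b ⊗ φ) ⊗ a ↦ (m ↦ φ m • (b ⊗ a))`. -/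
noncomputable def psiMap (k : Type u) [CommRing k] (A : Type v) [CommRing A] [Algebra k A]
    (B : Type w) [AddCommGroup B] [Module k B] (M : Type w') [AddCommGroup M] [Module k M] :
    (B ⊗[k] Module.Dual k M) ⊗[k] A →ₗ[k] M →ₗ[k] B ⊗[k] A :=
  dualTensorHom k M (B ⊗[k] A) ∘ₗ (TensorProduct.comm k (B ⊗[k] A) (Module.Dual k M)).toLinearMap ∘ₗ
    (TensorProduct.rightComm k B (Module.Dual k M) A).toLinearMap

@[simp] theorem psiMap_tmul (b : B) (φ : Module.Dual k M) (a : A) (m : M) :
    psiMap k A B M ((b ⊗ₜ[k] φ) ⊗ₜ[k] a) m = φ m • (b ⊗ₜ[k] a) := by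
  simp [psiMap]

theorem psiMap_injective [Module.Flat k A] [Module.Flat k B] [Module.FinitePresentation k M] :
    Function.Injective (psiMap k A B M) := by
  unfold psiMap
  simp only [LinearMap.coe_comp, LinearEquiv.coe_coe]
  exact (dualTensorHom_bijective_of_flat (k := k) (M := M) (B := B ⊗[k] A)).1.comp
    ((TensorProduct.comm k (B ⊗[k] A) (Module.Dual k M)).injective.comp
      (TensorProduct.rightComm k B (Module.Dual k M) A).injective)

theorem psiMap_tmul_one (x : B ⊗[k] Module.Dual k M) (m : M) :
    psiMap k A B M (x ⊗ₜ[k] (1 : A)) m =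
      dualTensorHom k M B (TensorProduct.comm k B (Module.Dual k M) x) m ⊗ₜ[k] (1 : A) := by
  induction x using TensorProduct.induction_on with
  | zero => simp
  | add x y hx hy =>
    simp only [TensorProduct.add_tmul, map_add, LinearMap.add_apply, hx, hy]
  | tmul b φ => simp [TensorProduct.smul_tmul']

theorem psiMap_map_mul (z : B ⊗[k] A) (w : Module.Dual k M ⊗[k] A) (m : M) :
    psiMap k A B M (TensorProduct.map LinearMap.id (LinearMap.mul' k A)
      (AlgebraTensorModule.tensorTensorTensorComm k k k k B A (Module.Dual k M) A (z ⊗ₜ[k] w))) m =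
      mulR k A B (z ⊗ₜ[k] (dualTensorHom k M A w m)) := by
  induction z using TensorProduct.induction_on with
  | zero => simp
  | add x y hx hy =>
    simp only [TensorProduct.add_tmul, map_add, LinearMap.add_apply, hx, hy]
  | tmul b a =>
    induction w using TensorProduct.induction_on with
    | zero => simp
    | add x y hx hy =>
      simp only [TensorProduct.tmul_add, map_add, LinearMap.add_apply, hx, hy]
    | tmul φ a' =>
      simp [TensorProduct.tmul_smul]

end Psi

section Cj

variable {k : Type u} [CommRing k] {A : Type v} [CommRing A] [HopfAlgebra k A]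
variable {B : Type w} [AddCommGroup B] [Module k B] [Comod k A B]
variable {M : Type w'} [AddCommGroup M] [Module k M] [Comod k A M]

/-- `cj h m = Σ ρ (h m₀) · S m₁`. -/
noncomputable def cj (h : M →ₗ[k] B) : M →ₗ[k] B ⊗[k] A :=
  mulR k A B ∘ₗ TensorProduct.map (Comod.coact (k := k) (A := A) ∘ₗ h)
    (HopfAlgebraStruct.antipode (R := k) (A := A)) ∘ₗ Comod.coact (k := k) (A := A)

omit [Comod k A M] in
theorem mulR_coact_tmul_lid (b : B) (φ : Module.Dual k M) (y : M ⊗[k] A) :
    mulR k A B (Comod.coact (k := k) (A := A) b ⊗ₜ[k]
      (TensorProduct.lid k A (TensorProduct.map φ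
        (HopfAlgebraStruct.antipode (R := k) (A := A)) y))) =
      mulR k A B (TensorProduct.map
        (Comod.coact (k := k) (A := A) ∘ₗ dualTensorHom k M B (φ ⊗ₜ[k] b))
        (HopfAlgebraStruct.antipode (R := k) (A := A)) y) := by
  induction y using TensorProduct.induction_on with
  | zero => simp
  | add x y hx hy => simp only [map_add, TensorProduct.tmul_add, hx, hy]
  | tmul m' a =>
    simp only [TensorProduct.map_tmul, TensorProduct.lid_tmul, LinearMap.comp_apply,
      dualTensorHom_apply, map_smul, TensorProduct.tmul_smul, TensorProduct.smul_tmul']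

omit [Comod k A B] [Comod k A M] in
theorem mulR_map_rTensor_assoc_symm (h : M →ₗ[k] B) (w : M ⊗[k] (A ⊗[k] A)) :
    mulR k A B (TensorProduct.map (h.rTensor A) (HopfAlgebraStruct.antipode (R := k) (A := A))
      ((TensorProduct.assoc k M A A).symm w)) =
      TensorProduct.map h (LinearMap.mul' k A ∘ₗ
        (HopfAlgebraStruct.antipode (R := k) (A := A)).lTensor A) w := by
  induction w using TensorProduct.induction_on with
  | zero => simp
  | add x y hx hy => simp only [map_add, hx, hy]
  | tmul m' z =>
    induction z using TensorProduct.induction_on with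
    | zero => simp
    | add x y hx hy => simp only [TensorProduct.tmul_add, map_add, hx, hy]
    | tmul a a' => simp

omit [Comod k A B] [Comod k A M] in
theorem mulR_mulR_rTensor_assoc_symm (g : M →ₗ[k] B ⊗[k] A) (w : M ⊗[k] (A ⊗[k] A)) :
    mulR k A B ((mulR k A B).rTensor A
      ((TensorProduct.map g (HopfAlgebraStruct.antipode (R := k) (A := A))).rTensor A
        ((TensorProduct.assoc k M A A).symm w))) =
      mulR k A B (TensorProduct.map g (LinearMap.mul' k A ∘ₗ
        (HopfAlgebraStruct.antipode (R := k) (A := A)).rTensor A) w) := by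
  induction w using TensorProduct.induction_on with
  | zero => simp
  | add x y hx hy => simp only [map_add, hx, hy]
  | tmul m' z =>
    induction z using TensorProduct.induction_on with
    | zero => simp
    | add x y hx hy => simp only [TensorProduct.tmul_add, map_add, hx, hy]
    | tmul a a' =>
      simp only [TensorProduct.assoc_symm_tmul, LinearMap.rTensor_tmul, TensorProduct.map_tmul,
        LinearMap.comp_apply, LinearMap.mul'_apply, mulR_mulR]

omit [Comod k A B] in
theorem map_unit_counit_coact (g : M →ₗ[k] B) (m : M) :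
    TensorProduct.map g (Algebra.linearMap k A ∘ₗ CoalgebraStruct.counit (R := k) (A := A))
      (Comod.coact (k := k) (A := A) m) = g m ⊗ₜ[k] (1 : A) := by
  have h1 : TensorProduct.map g (Algebra.linearMap k A ∘ₗ CoalgebraStruct.counit (R := k) (A := A)) =
      TensorProduct.map g (Algebra.linearMap k A) ∘ₗ
        (CoalgebraStruct.counit (R := k) (A := A)).lTensor M := by
    apply TensorProduct.ext'
    intro x a
    simp only [LinearMap.comp_apply, TensorProduct.map_tmul, LinearMap.lTensor_tmul]
  rw [h1, LinearMap.comp_apply, counit_apply, TensorProduct.map_tmul]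
  simp

theorem cj_of_isComodHom (h : M →ₗ[k] B) (hh : Hoch.IsComodHom A h) (m : M) :
    cj h m = h m ⊗ₜ[k] (1 : A) := by
  unfold cj
  have h0 : Comod.coact (k := k) (A := A) ∘ₗ h = h.rTensor A ∘ₗ Comod.coact (k := k) (A := A) := hh
  have h1 : TensorProduct.map (h.rTensor A ∘ₗ Comod.coact (k := k) (A := A))
      (HopfAlgebraStruct.antipode (R := k) (A := A)) =
      TensorProduct.map (h.rTensor A) (HopfAlgebraStruct.antipode (R := k) (A := A)) ∘ₗ
        (Comod.coact (k := k) (A := A)).rTensor A := by
    apply TensorProduct.ext'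
    intro x a
    simp only [LinearMap.comp_apply, TensorProduct.map_tmul, LinearMap.rTensor_tmul]
  rw [h0, h1]
  simp only [LinearMap.comp_apply]
  rw [coassoc_apply, mulR_map_rTensor_assoc_symm]
  have h2 : TensorProduct.map h (LinearMap.mul' k A ∘ₗ
      (HopfAlgebraStruct.antipode (R := k) (A := A)).lTensor A)
      ((CoalgebraStruct.comul (R := k) (A := A)).lTensor M (Comod.coact (k := k) (A := A) m)) =
      TensorProduct.map h ((LinearMap.mul' k A ∘ₗ
        (HopfAlgebraStruct.antipode (R := k) (A := A)).lTensor A) ∘ₗ
          CoalgebraStruct.comul (R := k) (A := A)) (Comod.coact (k := k) (A := A) m) := by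
    generalize Comod.coact (k := k) (A := A) m = y
    induction y using TensorProduct.induction_on with
    | zero => simp
    | add x y hx hy => simp only [map_add, hx, hy]
    | tmul m' a => simp only [LinearMap.lTensor_tmul, TensorProduct.map_tmul, LinearMap.comp_apply]
  rw [h2, LinearMap.comp_assoc, HopfAlgebra.mul_antipode_lTensor_comul, map_unit_counit_coact]

theorem isComodHom_of_cj (h : M →ₗ[k] B) (hh : ∀ m, cj h m = h m ⊗ₜ[k] (1 : A)) :
    Hoch.IsComodHom A h := by
  apply LinearMap.ext
  intro m
  have hcj : cj (k := k) (A := A) h = (TensorProduct.mk k B A).flip 1 ∘ₗ h := by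
    apply LinearMap.ext
    intro m
    rw [hh]
    rfl
  -- compute `mulR ((cj h ⊗ id) (ρ m))` in two ways
  have e1 : mulR k A B ((cj (k := k) (A := A) h).rTensor A (Comod.coact (k := k) (A := A) m)) =
      h.rTensor A (Comod.coact (k := k) (A := A) m) := by
    rw [hcj]
    generalize Comod.coact (k := k) (A := A) m = y
    induction y using TensorProduct.induction_on with
    | zero => simp
    | add x y hx hy => simp only [map_add, hx, hy]
    | tmul m' a => simp
  have e2 : mulR k A B ((cj (k := k) (A := A) h).rTensor A (Comod.coact (k := k) (A := A) m)) =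
      Comod.coact (k := k) (A := A) (h m) := by
    unfold cj
    rw [LinearMap.rTensor_comp, LinearMap.rTensor_comp, LinearMap.comp_apply,
      LinearMap.comp_apply, coassoc_apply, mulR_mulR_rTensor_assoc_symm]
    have h2 : TensorProduct.map (Comod.coact (k := k) (A := A) ∘ₗ h) (LinearMap.mul' k A ∘ₗ
        (HopfAlgebraStruct.antipode (R := k) (A := A)).rTensor A)
        ((CoalgebraStruct.comul (R := k) (A := A)).lTensor M (Comod.coact (k := k) (A := A) m)) =
        TensorProduct.map (Comod.coact (k := k) (A := A) ∘ₗ h) ((LinearMap.mul' k A ∘ₗ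
          (HopfAlgebraStruct.antipode (R := k) (A := A)).rTensor A) ∘ₗ
            CoalgebraStruct.comul (R := k) (A := A)) (Comod.coact (k := k) (A := A) m) := by
      generalize Comod.coact (k := k) (A := A) m = y
      induction y using TensorProduct.induction_on with
      | zero => simp
      | add x y hx hy => simp only [map_add, hx, hy]
      | tmul m' a => simp only [LinearMap.lTensor_tmul, TensorProduct.map_tmul, LinearMap.comp_apply]
    rw [h2, LinearMap.comp_assoc, HopfAlgebra.mul_antipode_rTensor_comul, map_unit_counit_coact,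
      mulR_tmul_one]
    rfl
  change Comod.coact (k := k) (A := A) (h m) = h.rTensor A (Comod.coact (k := k) (A := A) m)
  rw [← e1, e2]

theorem cj_add (h h' : M →ₗ[k] B) :
    cj (k := k) (A := A) (h + h') = cj (k := k) (A := A) h + cj (k := k) (A := A) h' := by
  unfold cj
  rw [LinearMap.comp_add, TensorProduct.map_add_left, LinearMap.add_comp, LinearMap.comp_add]

theorem cj_zero : cj (k := k) (A := A) (0 : M →ₗ[k] B) = 0 := by
  unfold cj
  rw [LinearMap.comp_zero, TensorProduct.map_zero_left, LinearMap.zero_comp, LinearMap.comp_zero]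

theorem psiMap_tensor_coact (d : Comod k A (Module.Dual k M))
    (hd : ComodTens.Comod.IsDual (inferInstance : Comod k A M) d)
    (x : B ⊗[k] Module.Dual k M) (m : M) :
    psiMap k A B M ((ComodTens.Comod.tensor (inferInstance : Comod k A B) d).coact x) m =
      cj (k := k) (A := A)
        (dualTensorHom k M B (TensorProduct.comm k B (Module.Dual k M) x)) m := by
  induction x using TensorProduct.induction_on with
  | zero => simp [cj_zero]
  | add x y hx hy =>
    simp only [map_add, LinearMap.add_apply, hx, hy, cj_add]
  | tmul b φ =>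
    rw [ComodTens.tensor_coact_tmul, psiMap_map_mul, hd φ, ComodTens.dualCoactFun_apply,
      TensorProduct.comm_tmul]
    exact mulR_coact_tmul_lid b φ _

end Cj


end Groth.Agent.Lib.Helper25
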