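import Mathlib

/-!
# Eisenbud–Evans basic element theory, part 1: ranks of finite families of vectors

`rk K v` is the dimension of the span of a family `v`. We prove the characterization by
minors, for families of vectors in `I → K` (with `I` arbitrary).
-/

set_option autoImplicit false

namespace Groth.Agent.Lib.Helper25.EE

open Module Submodule

section Field

variable (K : Type*) [Field K] {W : Type*} [AddCommGroup W] [Module K W]

/-- The rank of a family of vectors: the dimension of its span. -/
noncomputable def rk {ι : Type*} (v : ι → W) : ℕ := Module.finrank K (span K (Set.range v))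

variable {K}

lemma rk_le_card {ι : Type*} [Fintype ι] (v : ι → W) : rk K v ≤ Fintype.card ι :=
  finrank_range_le_card v

lemma rk_eq_card_iff {ι : Type*} [Fintype ι] (v : ι → W) :
    rk K v = Fintype.card ι ↔ LinearIndependent K v := by
  rw [linearIndependent_iff_card_eq_finrank_span, eq_comm]; rfl

lemma card_le_rk_iff {ι : Type*} [Fintype ι] (v : ι → W) :
    Fintype.card ι ≤ rk K v ↔ LinearIndependent K v := by
  rw [linearIndependent_iff_card_le_finrank_span]; rfl

lemma rk_mono {ι ι' : Type*} [Finite ι'] (v : ι → W) (v' : ι' → W)
    (h : ∀ i, v i ∈ span K (Set.range v')) : rk K v ≤ rk K v' := by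
  have : Module.Finite K (span K (Set.range v')) :=
    FiniteDimensional.span_of_finite K (Set.finite_range v')
  apply Submodule.finrank_mono
  rw [span_le]
  rintro _ ⟨i, rfl⟩
  exact h i

lemma rk_comp_le {ι ι' : Type*} [Finite ι] (v : ι → W) (c : ι' → ι) :
    rk K (v ∘ c) ≤ rk K v :=
  rk_mono _ _ fun i => subset_span ⟨c i, rfl⟩

lemma rk_map_le {W' : Type*} [AddCommGroup W'] [Module K W'] {ι : Type*} [Finite ι]
    (f : W →ₗ[K] W') (v : ι → W) : rk K (f ∘ v) ≤ rk K v := by
  unfold rk
  rw [Set.range_comp, ← Submodule.map_span]
  have : Module.Finite K (span K (Set.range v)) :=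
    FiniteDimensional.span_of_finite K (Set.finite_range v)
  exact finrank_map_le f _

/-- If the span of `v'` together with one more vector contains all `v i`, the rank drops by at
most one. -/
lemma rk_le_succ {ι ι' : Type*} [Finite ι'] (v : ι → W) (v' : ι' → W) (y : W)
    (h : ∀ i, v i ∈ span K (Set.range v') ⊔ span K {y}) : rk K v ≤ rk K v' + 1 := by
  have hfin : Module.Finite K (span K (Set.range v')) :=
    FiniteDimensional.span_of_finite K (Set.finite_range v')
  have hfin2 : Module.Finite K (span K ({y} : Set W)) :=
    FiniteDimensional.span_of_finite K (Set.finite_singleton y)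
  have hle : span K (Set.range v) ≤ span K (Set.range v') ⊔ span K {y} := by
    rw [span_le]; rintro _ ⟨i, rfl⟩; exact h i
  calc rk K v ≤ finrank K ↥(span K (Set.range v') ⊔ span K {y}) := Submodule.finrank_mono hle
    _ ≤ finrank K (span K (Set.range v')) + finrank K (span K ({y} : Set W)) :=
        Submodule.finrank_add_le_finrank_add_finrank _ _
    _ ≤ rk K v' + 1 := by
        have : finrank K (span K ({y} : Set W)) ≤ 1 := by
          have := finrank_span_le_card (R := K) ({y} : Set W)
          simpa using this
        unfold rk; omega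

end Field

section Minors

variable {K : Type*} [Field K] {I : Type*}

/-- Key lemma: if `s` vectors in `I → K` are linearly independent, some `s × s` minor is nonzero. -/
lemma exists_det_ne_zero_of_linearIndependent {s : ℕ} (u : Fin s → (I → K))
    (hu : LinearIndependent K u) :
    ∃ r : Fin s → I, (Matrix.of fun a b => u b (r a)).det ≠ 0 := by
  classical
  -- rows
  let ρ : I → (Fin s → K) := fun i b => u b i
  have hspan : span K (Set.range ρ) = ⊤ := by
    by_contra hne
    obtain ⟨f, hf0, hf⟩ := Submodule.exists_dual_map_eq_bot_of_lt_top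
      (lt_top_iff_ne_top.mpr hne) inferInstance
    -- f is a nonzero functional killing all rows
    have hkill : ∀ i, f (ρ i) = 0 := by
      intro i
      have : f (ρ i) ∈ (span K (Set.range ρ)).map f := ⟨ρ i, subset_span ⟨i, rfl⟩, rfl⟩
      rw [hf] at this
      exact (Submodule.mem_bot K).mp this
    -- the vector x b = f (e_b)
    let x : Fin s → K := fun b => f (Pi.single b 1)
    have hfx : ∀ y : Fin s → K, f y = ∑ b, y b * x b := by
      intro y
      conv_lhs => rw [← Finset.univ_sum_single y]
      rw [map_sum]
      refine Finset.sum_congr rfl fun b _ => ?_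
      have : (Pi.single b (y b) : Fin s → K) = y b • Pi.single b 1 := by
        rw [← Pi.single_smul]; simp
      rw [this, map_smul, smul_eq_mul]
    have hx : ∑ b, x b • u b = 0 := by
      ext i
      have := hkill i
      rw [hfx] at this
      simp only [Finset.sum_apply, Pi.smul_apply, smul_eq_mul, Pi.zero_apply]
      rw [← this]
      exact Finset.sum_congr rfl fun b _ => mul_comm _ _
    have hx0 := Fintype.linearIndependent_iff.mp hu x hx
    apply hf0
    refine LinearMap.ext fun y => ?_
    rw [hfx]
    simp [hx0]
  obtain ⟨b, hb, hbspan, hbli⟩ := exists_linearIndependent K (Set.range ρ)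
  rw [hspan] at hbspan
  -- b is a basis of `Fin s → K`, so has cardinality s
  let B : Basis b K (Fin s → K) := Basis.mk hbli (by rw [Subtype.range_coe]; exact hbspan.ge)
  have hfin : Finite b := Module.Finite.finite_basis B
  have : Fintype b := Fintype.ofFinite b
  have hcard : Fintype.card b = s := by
    have := Module.finrank_eq_card_basis B
    simpa using this.symm
  let e : Fin s ≃ b := (Fintype.equivFinOfCardEq hcard).symm
  have hrow : ∀ a : Fin s, ∃ i : I, ρ i = (e a : Fin s → K) := fun a => hb (e a).2
  choose r hr using hrow
  refine ⟨r, ?_⟩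
  have hli : LinearIndependent K (fun a : Fin s => ((e a : b) : Fin s → K)) :=
    hbli.comp e e.injective
  have hrows : LinearIndependent K (Matrix.of fun a b => u b (r a)).row := by
    convert hli using 1
    ext a b'
    simp only [Matrix.row, Matrix.of_apply]
    exact congrFun (hr a) b'
  have := Matrix.linearIndependent_rows_iff_isUnit.mp hrows
  rw [Matrix.isUnit_iff_isUnit_det] at this
  exact this.ne_zero

/-- Conversely, a nonzero minor gives linear independence. -/
lemma linearIndependent_of_det_ne_zero {s : ℕ} (u : Fin s → (I → K)) (r : Fin s → I)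
    (h : (Matrix.of fun a b => u b (r a)).det ≠ 0) : LinearIndependent K u := by
  classical
  have hunit : IsUnit (Matrix.of fun a b => u b (r a)) := by
    rw [Matrix.isUnit_iff_isUnit_det]; exact isUnit_iff_ne_zero.mpr h
  have hcols := Matrix.linearIndependent_cols_iff_isUnit.mpr hunit
  -- columns are images of u under restriction
  let res : (I → K) →ₗ[K] (Fin s → K) := LinearMap.funLeft K K r
  have : (Matrix.of fun a b => u b (r a)).col = res ∘ u := by
    ext b a
    simp [Matrix.col, res, LinearMap.funLeft]
  rw [this] at hcols
  exact LinearIndependent.of_comp res hcols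

/-- Minor characterization of the rank. -/
lemma le_rk_iff_exists_minor {ι : Type*} [Finite ι] (v : ι → (I → K)) (s : ℕ) :
    s ≤ rk K v ↔ ∃ (r : Fin s → I) (c : Fin s → ι),
      (Matrix.of fun a b => v (c b) (r a)).det ≠ 0 := by
  classical
  constructor
  · intro hs
    -- choose an independent subfamily spanning
    obtain ⟨b, hb, hbspan, hbli⟩ := exists_linearIndependent K (Set.range v)
    have hfinb : Finite b := (Set.finite_range v).subset hb
    have : Fintype b := Fintype.ofFinite b
    have hcard : Fintype.card b = rk K v := by
      have := finrank_span_eq_card hbli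
      rw [Subtype.range_coe, hbspan] at this
      exact this.symm
    have hsle : s ≤ Fintype.card b := by omega
    -- an injection Fin s → b
    have : Nonempty (Fin s ↪ b) := by
      apply Function.Embedding.nonempty_of_card_le
      simpa using hsle
    obtain ⟨emb⟩ := this
    have hcol : ∀ a : Fin s, ∃ j : ι, v j = (emb a : I → K) := fun a => hb (emb a).2
    choose c hc using hcol
    have hli : LinearIndependent K (fun a : Fin s => v (c a)) := by
      have h1 : LinearIndependent K (fun a : Fin s => ((emb a : b) : I → K)) :=
        hbli.comp emb emb.injective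
      have heq : (fun a : Fin s => v (c a)) = fun a : Fin s => ((emb a : b) : I → K) :=
        funext hc
      rw [heq]; exact h1
    obtain ⟨r, hr⟩ := exists_det_ne_zero_of_linearIndependent _ hli
    exact ⟨r, c, hr⟩
  · rintro ⟨r, c, h⟩
    have hli := linearIndependent_of_det_ne_zero (fun b => v (c b)) r h
    have h1 : rk K (v ∘ c) = s := by
      have := (rk_eq_card_iff (K := K) (v ∘ c)).mpr hli
      simpa using this
    have h2 := rk_comp_le (K := K) v c
    omega

end Minors


section Via

variable {R : Type*} [CommRing R] {K : Type*} [Field K] (φ : R →+* K) {I : Type*}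

/-- Reduction of a family of vectors along a ring homomorphism. -/
def red {ι : Type*} (v : ι → (I → R)) : ι → (I → K) := fun j i => φ (v j i)

@[simp] lemma red_apply {ι : Type*} (v : ι → (I → R)) (j : ι) (i : I) :
    red φ v j i = φ (v j i) := rfl

lemma red_comp {ι ι' : Type*} (v : ι → (I → R)) (c : ι' → ι) :
    red φ (v ∘ c) = red φ v ∘ c := rfl

/-- Rank of a family of vectors over `R` after reduction along `φ : R → K`. -/
noncomputable def rkVia {ι : Type*} (v : ι → (I → R)) : ℕ := rk K (red φ v)

/-- The minor of a family with given rows and columns. -/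
noncomputable def minor {ι : Type*} (v : ι → (I → R)) {s : ℕ} (r : Fin s → I) (c : Fin s → ι) : R :=
  (Matrix.of fun a b => v (c b) (r a)).det

lemma map_minor {ι : Type*} (v : ι → (I → R)) {s : ℕ} (r : Fin s → I) (c : Fin s → ι) :
    φ (minor v r c) = (Matrix.of fun a b => red φ v (c b) (r a)).det := by
  unfold minor
  rw [RingHom.map_det]
  rfl

lemma le_rkVia_iff {ι : Type*} [Finite ι] (v : ι → (I → R)) (s : ℕ) :
    s ≤ rkVia φ v ↔ ∃ (r : Fin s → I) (c : Fin s → ι), minor v r c ∉ RingHom.ker φ := by
  unfold rkVia
  rw [le_rk_iff_exists_minor]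
  simp only [RingHom.mem_ker, map_minor]

lemma rkVia_congr_ker {K' : Type*} [Field K'] (φ' : R →+* K') (hker : RingHom.ker φ = RingHom.ker φ')
    {ι : Type*} [Finite ι] (v : ι → (I → R)) : rkVia φ v = rkVia φ' v := by
  apply le_antisymm
  · exact (le_rkVia_iff φ' v _).mpr (hker ▸ (le_rkVia_iff φ v _).mp le_rfl)
  · exact (le_rkVia_iff φ v _).mpr (hker ▸ (le_rkVia_iff φ' v _).mp le_rfl)

lemma rkVia_le_card {ι : Type*} [Fintype ι] (v : ι → (I → R)) : rkVia φ v ≤ Fintype.card ι :=
  rk_le_card _

lemma rkVia_mono_ker {K' : Type*} [Field K'] (φ' : R →+* K') (hker : RingHom.ker φ' ≤ RingHom.ker φ)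
    {ι : Type*} [Finite ι] (v : ι → (I → R)) : rkVia φ v ≤ rkVia φ' v := by
  obtain ⟨r, c, h⟩ := (le_rkVia_iff φ v _).mp le_rfl
  exact (le_rkVia_iff φ' v _).mpr ⟨r, c, fun h' => h (hker h')⟩

end Via

end Groth.Agent.Lib.Helper25.EE
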