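import Mathlib
import Groth.Agent.Lib.Helper25EERank

/-!
# Eisenbud–Evans basic element theory, part 2: the step lemma

Matrix form of the Eisenbud–Evans argument, valid over any set of primes `𝒮` having finitely many
"generic points" in every closed subset.
-/

set_option autoImplicit false

namespace Groth.Agent.Lib.Helper25.EE

open Module Submodule

section FieldLemmas

variable {K : Type*} [Field K] {W : Type*} [AddCommGroup W] [Module K W]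

/-- The modified family. -/
def modFam {n : ℕ} (Y : Fin (n + 1) → W) (c : Fin n → K) : Fin n → W :=
  fun i => Y i.castSucc + c i • Y (Fin.last n)

lemma rk_sumElim_le_succ {h n : ℕ} (S : Fin h → W) (Y : Fin (n + 1) → W) (c : Fin n → K) :
    rk K (Sum.elim S Y) ≤ rk K (Sum.elim S (modFam Y c)) + 1 := by
  apply rk_le_succ _ _ (Y (Fin.last n))
  rintro (i | j)
  · exact mem_sup_left (subset_span ⟨Sum.inl i, rfl⟩)
  · simp only [Sum.elim_inr]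
    induction j using Fin.lastCases with
    | last => exact mem_sup_right (subset_span rfl)
    | cast i =>
      have : Y i.castSucc = modFam Y c i - c i • Y (Fin.last n) := by simp [modFam]
      rw [this]
      apply Submodule.sub_mem
      · exact mem_sup_left (subset_span ⟨Sum.inr i, rfl⟩)
      · exact mem_sup_right (Submodule.smul_mem _ _ (subset_span rfl))

lemma rk_sumElim_le_of_rel {h n : ℕ} (S : Fin h → W) (Y : Fin (n + 1) → W) (c : Fin n → K)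
    (a : Fin h → K) (b : Fin (n + 1) → K)
    (hrel : ∑ i, a i • S i + ∑ j, b j • Y j = 0)
    (hl : b (Fin.last n) - ∑ i : Fin n, c i * b i.castSucc ≠ 0) :
    rk K (Sum.elim S Y) ≤ rk K (Sum.elim S (modFam Y c)) := by
  set ℓ := b (Fin.last n) - ∑ i : Fin n, c i * b i.castSucc with hℓ
  set U := span K (Set.range (Sum.elim S (modFam Y c))) with hU
  have hS : ∀ i, S i ∈ U := fun i => subset_span ⟨Sum.inl i, rfl⟩
  have hY' : ∀ i, modFam Y c i ∈ U := fun i => subset_span ⟨Sum.inr i, rfl⟩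
  have hkey : ℓ • Y (Fin.last n) = -(∑ i, a i • S i + ∑ i : Fin n, b i.castSucc • modFam Y c i) := by
    have h1 : ∑ j, b j • Y j = ∑ i : Fin n, b i.castSucc • Y i.castSucc
        + b (Fin.last n) • Y (Fin.last n) := Fin.sum_univ_castSucc _
    have h2 : ∑ i : Fin n, b i.castSucc • modFam Y c i
        = ∑ i : Fin n, b i.castSucc • Y i.castSucc
          + (∑ i : Fin n, c i * b i.castSucc) • Y (Fin.last n) := by
      simp only [modFam, smul_add, Finset.sum_add_distrib, Finset.sum_smul, smul_smul]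
      congr 1
      exact Finset.sum_congr rfl fun i _ => by rw [mul_comm]
    rw [h1] at hrel
    rw [h2, hℓ, sub_smul]
    have : b (Fin.last n) • Y (Fin.last n)
        = -(∑ i, a i • S i + ∑ i : Fin n, b i.castSucc • Y i.castSucc) := by
      rw [eq_neg_iff_add_eq_zero]
      rw [← hrel]; abel
    rw [this]; abel
  have hlast : Y (Fin.last n) ∈ U := by
    have : Y (Fin.last n) = ℓ⁻¹ • (ℓ • Y (Fin.last n)) := by
      rw [smul_smul, inv_mul_cancel₀ hl, one_smul]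
    rw [this, hkey]
    apply Submodule.smul_mem
    apply Submodule.neg_mem
    apply Submodule.add_mem
    · exact Submodule.sum_mem _ fun i _ => Submodule.smul_mem _ _ (hS i)
    · exact Submodule.sum_mem _ fun i _ => Submodule.smul_mem _ _ (hY' i)
  apply rk_mono
  rintro (i | j)
  · exact hS i
  · simp only [Sum.elim_inr]
    induction j using Fin.lastCases with
    | last => exact hlast
    | cast i =>
      have : Y i.castSucc = modFam Y c i - c i • Y (Fin.last n) := by simp [modFam]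
      rw [this]
      exact Submodule.sub_mem _ (hY' i) (Submodule.smul_mem _ _ hlast)

lemma exists_rel_of_rk_lt {h n : ℕ} (S : Fin h → W) (Y : Fin (n + 1) → W)
    (hS : LinearIndependent K S) (hlt : rk K (Sum.elim S Y) < h + n + 1) :
    ∃ (a : Fin h → K) (b : Fin (n + 1) → K), b ≠ 0 ∧
      ∑ i, a i • S i + ∑ j, b j • Y j = 0 := by
  have hnli : ¬ LinearIndependent K (Sum.elim S Y) := by
    intro hli
    have := (rk_eq_card_iff (K := K) (Sum.elim S Y)).mpr hli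
    simp at this
    omega
  rw [Fintype.not_linearIndependent_iff] at hnli
  obtain ⟨g, hg, hg0⟩ := hnli
  rw [Fintype.sum_sum_type] at hg
  simp only [Sum.elim_inl, Sum.elim_inr] at hg
  refine ⟨fun i => g (Sum.inl i), fun j => g (Sum.inr j), ?_, hg⟩
  intro hb
  have hb' : ∀ j, g (Sum.inr j) = 0 := fun j => congrFun hb j
  simp only [hb', zero_smul, Finset.sum_const_zero, add_zero] at hg
  have ha := Fintype.linearIndependent_iff.mp hS _ hg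
  obtain ⟨j, hj⟩ := hg0
  rcases j with i | j
  · exact hj (ha i)
  · exact hj (hb' j)

end FieldLemmas

section Primes

variable {R : Type*} [CommRing R] {I : Type*}

/-- Rank of a family of vectors at a prime. -/
noncomputable def rkAt (𝔭 : PrimeSpectrum R) {ι : Type*} (v : ι → (I → R)) : ℕ :=
  rkVia (algebraMap R 𝔭.asIdeal.ResidueField) v

lemma le_rkAt_iff (𝔭 : PrimeSpectrum R) {ι : Type*} [Finite ι] (v : ι → (I → R)) (s : ℕ) :
    s ≤ rkAt 𝔭 v ↔ ∃ (r : Fin s → I) (c : Fin s → ι), minor v r c ∉ 𝔭.asIdeal := by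
  unfold rkAt
  rw [le_rkVia_iff, Ideal.ker_algebraMap_residueField]

lemma rkAt_eq_rkVia (𝔭 : PrimeSpectrum R) {K : Type*} [Field K] (φ : R →+* K)
    (hφ : RingHom.ker φ = 𝔭.asIdeal) {ι : Type*} [Finite ι] (v : ι → (I → R)) :
    rkAt 𝔭 v = rkVia φ v :=
  rkVia_congr_ker _ _ (by rw [Ideal.ker_algebraMap_residueField, hφ]) v

lemma rkAt_anti {𝔭 𝔮 : PrimeSpectrum R} (h : 𝔮 ≤ 𝔭) {ι : Type*} [Finite ι] (v : ι → (I → R)) :
    rkAt 𝔭 v ≤ rkAt 𝔮 v := by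
  apply rkVia_mono_ker
  rw [Ideal.ker_algebraMap_residueField, Ideal.ker_algebraMap_residueField]
  exact h

lemma rkAt_le_card (𝔭 : PrimeSpectrum R) {ι : Type*} [Fintype ι] (v : ι → (I → R)) :
    rkAt 𝔭 v ≤ Fintype.card ι := rkVia_le_card _ v

/-- Ideal generated by the `s × s` minors. -/
noncomputable def minorIdeal {ι : Type*} (v : ι → (I → R)) (s : ℕ) : Ideal R :=
  Ideal.span {x | ∃ (r : Fin s → I) (c : Fin s → ι), x = minor v r c}

lemma rkAt_lt_iff (𝔭 : PrimeSpectrum R) {ι : Type*} [Finite ι] (v : ι → (I → R)) (s : ℕ) :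
    rkAt 𝔭 v < s ↔ minorIdeal v s ≤ 𝔭.asIdeal := by
  rw [← not_le, le_rkAt_iff, minorIdeal, Ideal.span_le]
  constructor
  · intro h x hx
    obtain ⟨r, c, rfl⟩ := hx
    by_contra hx'
    exact h ⟨r, c, hx'⟩
  · rintro h ⟨r, c, hx⟩
    exact hx (h ⟨r, c, rfl⟩)

/-- A set of primes has "finitely many generic points in closed subsets". -/
def GenericFinite (𝒮 : Set (PrimeSpectrum R)) : Prop :=
  ∀ J : Ideal R, ∃ T : Finset (PrimeSpectrum R), (∀ 𝔮 ∈ T, 𝔮 ∈ 𝒮 ∧ J ≤ 𝔮.asIdeal) ∧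
    ∀ 𝔭 ∈ 𝒮, J ≤ 𝔭.asIdeal → ∃ 𝔮 ∈ T, 𝔮 ≤ 𝔭

lemma GenericFinite.inter_lowerSet {𝒮 𝒰 : Set (PrimeSpectrum R)} (h : GenericFinite 𝒮)
    (h𝒰 : ∀ 𝔭 ∈ 𝒰, ∀ 𝔮 ∈ 𝒮, 𝔮 ≤ 𝔭 → 𝔮 ∈ 𝒰) : GenericFinite (𝒮 ∩ 𝒰) := by
  classical
  intro J
  obtain ⟨T, hT1, hT2⟩ := h J
  refine ⟨T.filter (· ∈ 𝒰), ?_, ?_⟩
  · intro 𝔮 h𝔮
    rw [Finset.mem_filter] at h𝔮
    exact ⟨⟨(hT1 𝔮 h𝔮.1).1, h𝔮.2⟩, (hT1 𝔮 h𝔮.1).2⟩
  · intro 𝔭 h𝔭 hJ
    obtain ⟨𝔮, h𝔮T, h𝔮𝔭⟩ := hT2 𝔭 h𝔭.1 hJ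
    exact ⟨𝔮, Finset.mem_filter.mpr ⟨h𝔮T, h𝒰 𝔭 h𝔭.2 𝔮 (hT1 𝔮 h𝔮T).1 h𝔮𝔭⟩, h𝔮𝔭⟩

/-- Avoidance lemma: finitely many primes, a nonzero vector over each residue field; there is
`c` in `R^n` such that the linear form `x_last - ∑ c_i x_i` is nonzero on each vector. -/
lemma avoidance (n : ℕ) (T : Finset (PrimeSpectrum R))
    (b : ∀ 𝔭 : PrimeSpectrum R, Fin (n + 1) → 𝔭.asIdeal.ResidueField)
    (hb : ∀ 𝔭 ∈ T, b 𝔭 ≠ 0) :
    ∃ c : Fin n → R, ∀ 𝔭 ∈ T,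
      b 𝔭 (Fin.last n) - ∑ i : Fin n, algebraMap R 𝔭.asIdeal.ResidueField (c i) * b 𝔭 i.castSucc
        ≠ 0 := by
  classical
  induction' hk : T.card with k ih generalizing T
  · rw [Finset.card_eq_zero] at hk
    subst hk
    exact ⟨0, by simp⟩
  · have hne : T.Nonempty := by rw [← Finset.card_pos]; omega
    obtain ⟨𝔭, h𝔭⟩ := T.exists_minimal hne
    have h𝔭T : 𝔭 ∈ T := h𝔭.1
    obtain ⟨c', hc'⟩ := ih (T.erase 𝔭) (fun 𝔮 h𝔮 => hb 𝔮 (Finset.mem_of_mem_erase h𝔮))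
      (by rw [Finset.card_erase_of_mem h𝔭T]; omega)
    -- r in all other primes, not in 𝔭
    have hnle : ¬ ((T.erase 𝔭).inf PrimeSpectrum.asIdeal ≤ 𝔭.asIdeal) := by
      rw [Ideal.IsPrime.inf_le' 𝔭.2]
      rintro ⟨𝔮, h𝔮, hle⟩
      have h𝔮T := Finset.mem_of_mem_erase h𝔮
      have hle' : 𝔮 ≤ 𝔭 := hle
      have := h𝔭.2 h𝔮T hle'
      exact (Finset.ne_of_mem_erase h𝔮) (le_antisymm hle' this)
    obtain ⟨r, hr, hr𝔭⟩ := SetLike.not_le_iff_exists.mp hnle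
    have hr𝔮 : ∀ 𝔮 ∈ T.erase 𝔭, algebraMap R 𝔮.asIdeal.ResidueField r = 0 := by
      intro 𝔮 h𝔮
      rw [Ideal.algebraMap_residueField_eq_zero]
      exact (Finset.inf_le h𝔮 : (T.erase 𝔭).inf PrimeSpectrum.asIdeal ≤ 𝔮.asIdeal) hr
    have hr𝔭' : algebraMap R 𝔭.asIdeal.ResidueField r ≠ 0 := by
      rw [Ne, Ideal.algebraMap_residueField_eq_zero]; exact hr𝔭
    -- the value at 𝔭
    by_cases h0 : b 𝔭 (Fin.last n)
        - ∑ i : Fin n, algebraMap R 𝔭.asIdeal.ResidueField (c' i) * b 𝔭 i.castSucc ≠ 0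
    · refine ⟨c', fun 𝔮 h𝔮 => ?_⟩
      by_cases h𝔮𝔭 : 𝔮 = 𝔭
      · subst h𝔮𝔭; exact h0
      · exact hc' 𝔮 (Finset.mem_erase.mpr ⟨h𝔮𝔭, h𝔮⟩)
    · rw [not_not] at h0
      -- some b 𝔭 i.castSucc ≠ 0
      have hex : ∃ i : Fin n, b 𝔭 i.castSucc ≠ 0 := by
        by_contra hall
        push_neg at hall
        apply hb 𝔭 h𝔭T
        have hlast : b 𝔭 (Fin.last n) = 0 := by
          simpa [hall] using h0
        ext j
        induction j using Fin.lastCases with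
        | last => simpa using hlast
        | cast i => simpa using hall i
      obtain ⟨i0, hi0⟩ := hex
      refine ⟨c' + (Pi.single i0 r : Fin n → R), fun 𝔮 h𝔮 => ?_⟩
      have hexp : ∀ 𝔮 : PrimeSpectrum R,
          b 𝔮 (Fin.last n) - ∑ i : Fin n,
            algebraMap R 𝔮.asIdeal.ResidueField ((c' + (Pi.single i0 r : Fin n → R)) i)
              * b 𝔮 i.castSucc
          = (b 𝔮 (Fin.last n) - ∑ i : Fin n,
            algebraMap R 𝔮.asIdeal.ResidueField (c' i) * b 𝔮 i.castSucc)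
            - algebraMap R 𝔮.asIdeal.ResidueField r * b 𝔮 i0.castSucc := by
        intro 𝔮
        simp only [Pi.add_apply, map_add, add_mul, Finset.sum_add_distrib]
        have : ∑ i : Fin n, algebraMap R 𝔮.asIdeal.ResidueField ((Pi.single i0 r : Fin n → R) i)
            * b 𝔮 i.castSucc = algebraMap R 𝔮.asIdeal.ResidueField r * b 𝔮 i0.castSucc := by
          rw [Finset.sum_eq_single i0]
          · simp
          · intro j _ hj; simp [Pi.single_eq_of_ne hj]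
          · simp
        rw [this]; ring
      rw [hexp]
      by_cases h𝔮𝔭 : 𝔮 = 𝔭
      · subst h𝔮𝔭
        rw [h0, zero_sub, neg_ne_zero]
        exact mul_ne_zero hr𝔭' hi0
      · have h𝔮e : 𝔮 ∈ T.erase 𝔭 := Finset.mem_erase.mpr ⟨h𝔮𝔭, h𝔮⟩
        rw [hr𝔮 𝔮 h𝔮e, zero_mul, sub_zero]
        exact hc' 𝔮 h𝔮e


lemma red_sumElim {K : Type*} [Field K] (φ : R →+* K) {ι ι' : Type*} (S : ι → (I → R))
    (Y : ι' → (I → R)) : red φ (Sum.elim S Y) = Sum.elim (red φ S) (red φ Y) := by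
  ext (i | j) <;> rfl

lemma red_modFam {K : Type*} [Field K] (φ : R →+* K) {n : ℕ} (Y : Fin (n + 1) → (I → R))
    (c : Fin n → R) :
    red φ (fun i : Fin n => Y i.castSucc + c i • Y (Fin.last n))
      = modFam (red φ Y) (fun i => φ (c i)) := by
  ext i x
  simp [red, modFam]

/-- **Step lemma** (Eisenbud–Evans, matrix form). -/
theorem step {𝒮 : Set (PrimeSpectrum R)} (h𝒮 : GenericFinite 𝒮) (w : PrimeSpectrum R → ℕ)
    (hw : ∀ 𝔮 ∈ 𝒮, ∀ 𝔭 ∈ 𝒮, 𝔮 < 𝔭 → w 𝔭 < w 𝔮)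
    {h n : ℕ} (S : Fin h → (I → R)) (Y : Fin (n + 1) → (I → R))
    (hS : ∀ 𝔭 ∈ 𝒮, h ≤ rkAt 𝔭 S)
    (hY : ∀ 𝔭 ∈ 𝒮, min (h + n + 1) (w 𝔭) ≤ rkAt 𝔭 (Sum.elim S Y)) :
    ∃ c : Fin n → R, ∀ 𝔭 ∈ 𝒮,
      min (h + n) (w 𝔭)
        ≤ rkAt 𝔭 (Sum.elim S (fun i : Fin n => Y i.castSucc + c i • Y (Fin.last n))) := by
  classical
  set Y₀ : Fin h ⊕ Fin (n + 1) → (I → R) := Sum.elim S Y with hY₀
  choose Tset hT1 hT2 using fun s : ℕ => h𝒮 (minorIdeal Y₀ (s + 1))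
  let T : Finset (PrimeSpectrum R) := (Finset.range (h + n + 1)).biUnion Tset
  let T' := T.filter (fun 𝔭 => rkAt 𝔭 Y₀ < h + n + 1)
  have hT𝒮 : ∀ 𝔭 ∈ T, 𝔭 ∈ 𝒮 := by
    intro 𝔭 h𝔭
    obtain ⟨s, -, hs⟩ := Finset.mem_biUnion.mp h𝔭
    exact (hT1 s 𝔭 hs).1
  have hli : ∀ 𝔭 ∈ 𝒮, LinearIndependent 𝔭.asIdeal.ResidueField
      (red (algebraMap R 𝔭.asIdeal.ResidueField) S) := by
    intro 𝔭 h𝔭
    rw [← card_le_rk_iff]
    have := hS 𝔭 h𝔭
    rw [Fintype.card_fin]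
    exact this
  have hrel : ∀ 𝔭 : PrimeSpectrum R, ∃ (a : Fin h → 𝔭.asIdeal.ResidueField)
      (b : Fin (n + 1) → 𝔭.asIdeal.ResidueField), 𝔭 ∈ T' → (b ≠ 0 ∧
        ∑ i, a i • red (algebraMap R 𝔭.asIdeal.ResidueField) S i
          + ∑ j, b j • red (algebraMap R 𝔭.asIdeal.ResidueField) Y j = 0) := by
    intro 𝔭
    by_cases h𝔭 : 𝔭 ∈ T'
    · have h1 := (Finset.mem_filter.mp h𝔭).1
      have h2 := (Finset.mem_filter.mp h𝔭).2
      have h3 : rk 𝔭.asIdeal.ResidueField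
          (Sum.elim (red (algebraMap R 𝔭.asIdeal.ResidueField) S)
            (red (algebraMap R 𝔭.asIdeal.ResidueField) Y)) < h + n + 1 := by
        rw [← red_sumElim]; exact h2
      obtain ⟨a, b, hb, hab⟩ := exists_rel_of_rk_lt _ _ (hli 𝔭 (hT𝒮 𝔭 h1)) h3
      exact ⟨a, b, fun _ => ⟨hb, hab⟩⟩
    · exact ⟨0, 0, fun h => absurd h h𝔭⟩
  choose a b hab using hrel
  obtain ⟨c, hc⟩ := avoidance n T' b (fun 𝔭 h𝔭 => (hab 𝔭 h𝔭).1)
  refine ⟨c, fun 𝔭 h𝔭 => ?_⟩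
  set φ := algebraMap R 𝔭.asIdeal.ResidueField with hφ
  set Y₁ : Fin h ⊕ Fin n → (I → R) :=
    Sum.elim S (fun i : Fin n => Y i.castSucc + c i • Y (Fin.last n)) with hY₁
  have hred0 : rkAt 𝔭 Y₀ = rk 𝔭.asIdeal.ResidueField (Sum.elim (red φ S) (red φ Y)) := by
    rw [← red_sumElim]; rfl
  have hred1 : rkAt 𝔭 Y₁ = rk 𝔭.asIdeal.ResidueField
      (Sum.elim (red φ S) (modFam (red φ Y) (fun i => φ (c i)))) := by
    rw [← red_modFam, ← red_sumElim]; rfl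
  have hdrop : rkAt 𝔭 Y₀ ≤ rkAt 𝔭 Y₁ + 1 := by
    rw [hred0, hred1]; exact rk_sumElim_le_succ _ _ _
  have hhyp := hY 𝔭 h𝔭
  have hcard : rkAt 𝔭 Y₀ ≤ h + n + 1 := by
    have := rkAt_le_card 𝔭 Y₀
    simpa [add_assoc] using this
  by_cases hcase : rkAt 𝔭 Y₀ = h + n + 1 ∨ w 𝔭 + 1 ≤ rkAt 𝔭 Y₀
  · rcases hcase with h1 | h1
    · exact le_trans (min_le_left _ _) (by omega)
    · exact le_trans (min_le_right _ _) (by omega)
  · rw [not_or, not_le] at hcase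
    obtain ⟨hc1, hc2⟩ := hcase
    have hlt : rkAt 𝔭 Y₀ < h + n + 1 := lt_of_le_of_ne hcard hc1
    have hwle : w 𝔭 ≤ rkAt 𝔭 Y₀ := by
      rcases le_total (h + n + 1) (w 𝔭) with h1 | h1
      · rw [min_eq_left h1] at hhyp; omega
      · rwa [min_eq_right h1] at hhyp
    have hweq : rkAt 𝔭 Y₀ = w 𝔭 := by omega
    -- 𝔭 is in T'
    have h𝔭T' : 𝔭 ∈ T' := by
      have hJ : minorIdeal Y₀ (rkAt 𝔭 Y₀ + 1) ≤ 𝔭.asIdeal := by
        rw [← rkAt_lt_iff]; omega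
      obtain ⟨𝔮, h𝔮T, h𝔮𝔭⟩ := hT2 (rkAt 𝔭 Y₀) 𝔭 h𝔭 hJ
      have h𝔮𝒮 := (hT1 _ 𝔮 h𝔮T).1
      have h𝔮J := (hT1 _ 𝔮 h𝔮T).2
      rw [← rkAt_lt_iff] at h𝔮J
      have h𝔮eq : 𝔮 = 𝔭 := by
        by_contra hne
        have hlt' : 𝔮 < 𝔭 := lt_of_le_of_ne h𝔮𝔭 hne
        have hwlt := hw 𝔮 h𝔮𝒮 𝔭 h𝔭 hlt'
        have := hY 𝔮 h𝔮𝒮
        rcases le_total (h + n + 1) (w 𝔮) with h1 | h1
        · rw [min_eq_left h1] at this; omega
        · rw [min_eq_right h1] at this; omega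
      subst h𝔮eq
      refine Finset.mem_filter.mpr ⟨Finset.mem_biUnion.mpr ⟨rkAt 𝔮 Y₀, ?_, h𝔮T⟩, hlt⟩
      exact Finset.mem_range.mpr hlt
    obtain ⟨hb0, hrel⟩ := hab 𝔭 h𝔭T'
    have hnd : rkAt 𝔭 Y₀ ≤ rkAt 𝔭 Y₁ := by
      rw [hred0, hred1]
      exact rk_sumElim_le_of_rel _ _ _ (a 𝔭) (b 𝔭) hrel (hc 𝔭 h𝔭T')
    exact le_trans (min_le_right _ _) (by omega)


/-- **Main theorem** (iterated step lemma): from a family `Y_0, …, Y_n` find
`t ∈ Y_0 + ∑_{i ≥ 1} R Y_i` such that `(S, t)` has rank `≥ min (h+1) (w 𝔭)` at all `𝔭 ∈ 𝒮`. -/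
theorem main {𝒮 : Set (PrimeSpectrum R)} (h𝒮 : GenericFinite 𝒮) (w : PrimeSpectrum R → ℕ)
    (hw : ∀ 𝔮 ∈ 𝒮, ∀ 𝔭 ∈ 𝒮, 𝔮 < 𝔭 → w 𝔭 < w 𝔮)
    {h : ℕ} (S : Fin h → (I → R)) (hS : ∀ 𝔭 ∈ 𝒮, h ≤ rkAt 𝔭 S) :
    ∀ (n : ℕ) (Y : Fin (n + 1) → (I → R)),
      (∀ 𝔭 ∈ 𝒮, min (h + n + 1) (w 𝔭) ≤ rkAt 𝔭 (Sum.elim S Y)) →
      ∃ t : I → R, t - Y 0 ∈ Submodule.span R (Set.range (fun i : Fin n => Y i.succ)) ∧
        ∀ 𝔭 ∈ 𝒮, min (h + 1) (w 𝔭) ≤ rkAt 𝔭 (Sum.elim S (fun _ : Fin 1 => t)) := by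
  intro n
  induction n with
  | zero =>
    intro Y hY
    refine ⟨Y 0, by simp, fun 𝔭 h𝔭 => ?_⟩
    have : (fun _ : Fin 1 => Y 0) = Y := funext fun i => by rw [Subsingleton.elim i 0]
    rw [this]
    exact hY 𝔭 h𝔭
  | succ n ih =>
    intro Y hY
    obtain ⟨c, hc⟩ := step h𝒮 w hw S Y hS hY
    obtain ⟨t, ht1, ht2⟩ := ih _ hc
    refine ⟨t, ?_, ht2⟩
    set U := Submodule.span R (Set.range (fun i : Fin (n + 1) => Y i.succ)) with hU
    have hlast : Y (Fin.last (n + 1)) ∈ U := by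
      apply Submodule.subset_span
      exact ⟨Fin.last n, by simp only [Fin.succ_last]⟩
    have hsub : Submodule.span R (Set.range (fun i : Fin n =>
        Y i.succ.castSucc + c i.succ • Y (Fin.last (n + 1)))) ≤ U := by
      rw [Submodule.span_le]
      rintro _ ⟨i, rfl⟩
      apply Submodule.add_mem
      · apply Submodule.subset_span
        exact ⟨i.castSucc, by simp only [Fin.succ_castSucc]⟩
      · exact Submodule.smul_mem _ _ hlast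
    have h1 : t - Y 0 = (t - (Y (0 : Fin (n + 1)).castSucc + c 0 • Y (Fin.last (n + 1))))
        + c 0 • Y (Fin.last (n + 1)) := by
      rw [Fin.castSucc_zero]; abel
    rw [h1]
    exact Submodule.add_mem _ (hsub ht1) (Submodule.smul_mem _ _ hlast)

end Primes

end Groth.Agent.Lib.Helper25.EE
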