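import Mathlib
import Groth.Agent.Lib.Helper25EEStep

/-!
# Eisenbud–Evans, part 4: the j-spectrum of a ring with Noetherian maximal spectrum
-/

set_option autoImplicit false

namespace Groth.Agent.Lib.Helper25.EE

open TopologicalSpace

variable {R : Type*} [CommRing R]

/-- Closed subset of the maximal spectrum cut out by an ideal. -/
def vmax (J : Ideal R) : Set (MaximalSpectrum R) := {x | J ≤ x.asIdeal}

lemma mem_vmax {J : Ideal R} {x : MaximalSpectrum R} : x ∈ vmax J ↔ J ≤ x.asIdeal := Iff.rfl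

lemma vmax_eq_preimage (J : Ideal R) :
    vmax J = MaximalSpectrum.toPrimeSpectrum ⁻¹' (PrimeSpectrum.zeroLocus (J : Set R)) := by
  ext x
  simp only [vmax, Set.mem_setOf_eq, Set.mem_preimage, PrimeSpectrum.mem_zeroLocus,
    MaximalSpectrum.toPrimeSpectrum]
  rfl

lemma isClosed_vmax (J : Ideal R) : IsClosed (vmax J) := by
  rw [vmax_eq_preimage]
  exact (PrimeSpectrum.isClosed_zeroLocus _).preimage MaximalSpectrum.toPrimeSpectrum_continuous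

lemma exists_eq_vmax {Z : Set (MaximalSpectrum R)} (hZ : IsClosed Z) :
    ∃ J : Ideal R, Z = vmax J := by
  rw [isClosed_induced_iff] at hZ
  obtain ⟨t, ht, rfl⟩ := hZ
  obtain ⟨J, rfl⟩ := (PrimeSpectrum.isClosed_iff_zeroLocus_ideal t).mp ht
  exact ⟨J, (vmax_eq_preimage J).symm⟩

lemma vmax_anti {J J' : Ideal R} (h : J ≤ J') : vmax J' ⊆ vmax J := fun _ hx => h.trans hx

/-- Vanishing ideal of a set of maximal ideals. -/
def imax (Z : Set (MaximalSpectrum R)) : Ideal R := ⨅ x ∈ Z, x.asIdeal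

lemma mem_imax {Z : Set (MaximalSpectrum R)} {a : R} : a ∈ imax Z ↔ ∀ x ∈ Z, a ∈ x.asIdeal := by
  simp [imax, Submodule.mem_iInf]

lemma imax_le_of_mem {Z : Set (MaximalSpectrum R)} {x : MaximalSpectrum R} (h : x ∈ Z) :
    imax Z ≤ x.asIdeal := fun _ ha => mem_imax.mp ha x h

lemma imax_anti {Z Z' : Set (MaximalSpectrum R)} (h : Z ⊆ Z') : imax Z' ≤ imax Z :=
  fun _ ha => mem_imax.mpr fun x hx => mem_imax.mp ha x (h hx)

lemma subset_vmax_imax (Z : Set (MaximalSpectrum R)) : Z ⊆ vmax (imax Z) :=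
  fun _ hx => imax_le_of_mem hx

lemma le_imax_vmax (J : Ideal R) : J ≤ imax (vmax J) :=
  fun _ ha => mem_imax.mpr fun _ hx => hx ha

lemma imax_vmax (J : Ideal R) : imax (vmax J) = J.jacobson := by
  ext a
  rw [mem_imax, Ideal.jacobson, Ideal.mem_sInf]
  constructor
  · intro h m hm
    exact h ⟨m, hm.2⟩ hm.1
  · intro h x hx
    exact h ⟨hx, x.isMaximal⟩

lemma vmax_imax_of_isClosed {Z : Set (MaximalSpectrum R)} (hZ : IsClosed Z) :
    vmax (imax Z) = Z := by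
  obtain ⟨J, rfl⟩ := exists_eq_vmax hZ
  exact Set.Subset.antisymm (vmax_anti (le_imax_vmax J)) (subset_vmax_imax _)

lemma jacobson_imax (Z : Set (MaximalSpectrum R)) : (imax Z).jacobson = imax Z := by
  apply le_antisymm _ Ideal.le_jacobson
  intro a ha
  rw [mem_imax]
  intro x hx
  rw [Ideal.jacobson, Ideal.mem_sInf] at ha
  exact ha ⟨imax_le_of_mem hx, x.isMaximal⟩

lemma imax_isPrime {Z : Set (MaximalSpectrum R)} (hZ : IsIrreducible Z) : (imax Z).IsPrime := by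
  constructor
  · obtain ⟨x, hx⟩ := hZ.nonempty
    intro htop
    exact x.isMaximal.ne_top (top_le_iff.mp (htop ▸ imax_le_of_mem hx))
  · intro a b hab
    have hcover : Z ⊆ vmax (Ideal.span {a}) ∪ vmax (Ideal.span {b}) := by
      intro x hx
      have := mem_imax.mp hab x hx
      rcases x.isMaximal.isPrime.mem_or_mem this with h | h
      · left; rw [mem_vmax, Ideal.span_singleton_le_iff_mem]; exact h
      · right; rw [mem_vmax, Ideal.span_singleton_le_iff_mem]; exact h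
    rcases (isPreirreducible_iff_isClosed_union_isClosed.mp hZ.isPreirreducible) _ _
      (isClosed_vmax _) (isClosed_vmax _) hcover with h | h
    · left
      rw [mem_imax]; intro x hx
      have := h hx
      rwa [mem_vmax, Ideal.span_singleton_le_iff_mem] at this
    · right
      rw [mem_imax]; intro x hx
      have := h hx
      rwa [mem_vmax, Ideal.span_singleton_le_iff_mem] at this

/-- The j-primes: primes which are intersections of maximal ideals. -/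
def jPrimes : Set (PrimeSpectrum R) := {𝔭 | 𝔭.asIdeal.jacobson = 𝔭.asIdeal}

lemma imax_vmax_of_mem_jPrimes {𝔭 : PrimeSpectrum R} (h : 𝔭 ∈ jPrimes) :
    imax (vmax 𝔭.asIdeal) = 𝔭.asIdeal := by
  rw [imax_vmax]; exact h

lemma isIrreducible_vmax {𝔭 : PrimeSpectrum R} (h : 𝔭 ∈ jPrimes) :
    IsIrreducible (vmax 𝔭.asIdeal) := by
  constructor
  · by_contra hne
    rw [Set.not_nonempty_iff_eq_empty] at hne
    have h1 := imax_vmax_of_mem_jPrimes h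
    rw [hne] at h1
    have : imax (∅ : Set (MaximalSpectrum R)) = ⊤ := by
      rw [eq_top_iff]; intro a _; rw [mem_imax]; intro x hx; exact absurd hx (Set.notMem_empty x)
    rw [this] at h1
    exact 𝔭.2.ne_top h1.symm
  · rw [isPreirreducible_iff_isClosed_union_isClosed]
    intro Z₁ Z₂ h1 h2 hcover
    obtain ⟨J₁, rfl⟩ := exists_eq_vmax h1
    obtain ⟨J₂, rfl⟩ := exists_eq_vmax h2
    have hprod : J₁ * J₂ ≤ 𝔭.asIdeal := by
      have himax : J₁ * J₂ ≤ imax (vmax 𝔭.asIdeal) := by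
        intro a ha
        rw [mem_imax]
        intro x hx
        have ha1 : a ∈ J₁ := Ideal.mul_le_left ha
        have ha2 : a ∈ J₂ := Ideal.mul_le_right ha
        rcases hcover hx with h' | h'
        · exact (mem_vmax.mp h') ha1
        · exact (mem_vmax.mp h') ha2
      exact himax.trans (imax_vmax_of_mem_jPrimes h).le
    rcases 𝔭.2.mul_le.mp hprod with h' | h'
    · left; exact vmax_anti h'
    · right; exact vmax_anti h'

lemma mem_jPrimes_of_imax {Z : Set (MaximalSpectrum R)} (hZ : IsIrreducible Z) :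
    (⟨imax Z, imax_isPrime hZ⟩ : PrimeSpectrum R) ∈ jPrimes := jacobson_imax Z

theorem genericFinite_jPrimes [NoetherianSpace (MaximalSpectrum R)] :
    GenericFinite (jPrimes : Set (PrimeSpectrum R)) := by
  classical
  intro J
  obtain ⟨S, hSf, hSc, hSi, hSU⟩ :=
    NoetherianSpace.exists_finite_set_isClosed_irreducible (isClosed_vmax J)
  have hfin : {𝔮 : PrimeSpectrum R | 𝔮.asIdeal ∈ imax '' S}.Finite := by
    have hinj : Function.Injective (PrimeSpectrum.asIdeal : PrimeSpectrum R → Ideal R) :=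
      fun a b h => PrimeSpectrum.ext h
    exact Set.Finite.preimage hinj.injOn (hSf.image _)
  refine ⟨hfin.toFinset, ?_, ?_⟩
  · intro 𝔮 h𝔮
    rw [Set.Finite.mem_toFinset] at h𝔮
    obtain ⟨W, hW, hWq⟩ := h𝔮
    constructor
    · show 𝔮.asIdeal.jacobson = 𝔮.asIdeal
      rw [← hWq]; exact jacobson_imax W
    · rw [← hWq]
      have : W ⊆ vmax J := by rw [hSU]; exact Set.subset_sUnion_of_mem hW
      exact (le_imax_vmax J).trans (imax_anti this)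
  · intro 𝔭 h𝔭 hJ
    have hirr := isIrreducible_vmax h𝔭
    have hsub : vmax 𝔭.asIdeal ⊆ ⋃₀ S := by rw [← hSU]; exact vmax_anti hJ
    lift S to Finset (Set (MaximalSpectrum R)) using hSf
    obtain ⟨W, hW, hWsub⟩ := isIrreducible_iff_sUnion_isClosed.mp hirr S hSc hsub
    refine ⟨⟨imax W, imax_isPrime (hSi W hW)⟩, ?_, ?_⟩
    · rw [Set.Finite.mem_toFinset]
      exact ⟨W, hW, rfl⟩
    · show imax W ≤ 𝔭.asIdeal
      rw [← imax_vmax_of_mem_jPrimes h𝔭]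
      exact imax_anti hWsub


/-- irreducible closed subset attached to a j-prime -/
def jClosure (𝔭 : PrimeSpectrum R) (h : 𝔭 ∈ jPrimes) : IrreducibleCloseds (MaximalSpectrum R) :=
  ⟨vmax 𝔭.asIdeal, isIrreducible_vmax h, isClosed_vmax _⟩

lemma jClosure_le {𝔮 𝔭 : PrimeSpectrum R} (h𝔮 : 𝔮 ∈ jPrimes) (h𝔭 : 𝔭 ∈ jPrimes) (hle : 𝔮 ≤ 𝔭) :
    jClosure 𝔭 h𝔭 ≤ jClosure 𝔮 h𝔮 := by
  show vmax 𝔭.asIdeal ⊆ vmax 𝔮.asIdeal
  exact vmax_anti hle

lemma jClosure_lt {𝔮 𝔭 : PrimeSpectrum R} (h𝔮 : 𝔮 ∈ jPrimes) (h𝔭 : 𝔭 ∈ jPrimes) (hlt : 𝔮 < 𝔭) :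
    jClosure 𝔭 h𝔭 < jClosure 𝔮 h𝔮 := by
  refine lt_of_le_of_ne (jClosure_le h𝔮 h𝔭 hlt.le) ?_
  intro heq
  have h1 : vmax 𝔭.asIdeal = vmax 𝔮.asIdeal :=
    congrArg (fun Z : IrreducibleCloseds (MaximalSpectrum R) => Z.carrier) heq
  have h2 : 𝔭.asIdeal = 𝔮.asIdeal := by
    rw [← imax_vmax_of_mem_jPrimes h𝔭, ← imax_vmax_of_mem_jPrimes h𝔮, h1]
  exact hlt.ne (PrimeSpectrum.ext h2.symm)

open Classical in
/-- codimension of the closure of a j-prime in the maximal spectrum -/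
noncomputable def cohtJ (𝔭 : PrimeSpectrum R) : ℕ∞ :=
  if h : 𝔭 ∈ jPrimes then Order.coheight (jClosure 𝔭 h) else ⊤

lemma cohtJ_eq {𝔭 : PrimeSpectrum R} (h : 𝔭 ∈ jPrimes) :
    cohtJ 𝔭 = Order.coheight (jClosure 𝔭 h) := by
  unfold cohtJ; rw [dif_pos h]

lemma cohtJ_anti {𝔮 𝔭 : PrimeSpectrum R} (h𝔮 : 𝔮 ∈ jPrimes) (h𝔭 : 𝔭 ∈ jPrimes) (hle : 𝔮 ≤ 𝔭) :
    cohtJ 𝔮 ≤ cohtJ 𝔭 := by
  rw [cohtJ_eq h𝔮, cohtJ_eq h𝔭]
  exact Order.coheight_anti (jClosure_le h𝔮 h𝔭 hle)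

lemma cohtJ_strict {𝔮 𝔭 : PrimeSpectrum R} (h𝔮 : 𝔮 ∈ jPrimes) (h𝔭 : 𝔭 ∈ jPrimes) (hlt : 𝔮 < 𝔭)
    (hfin : cohtJ 𝔮 < ⊤) : cohtJ 𝔮 < cohtJ 𝔭 := by
  rw [cohtJ_eq h𝔮] at hfin ⊢
  rw [cohtJ_eq h𝔭]
  exact Order.coheight_strictAnti (jClosure_lt h𝔮 h𝔭 hlt) hfin

/-- weight function for the codimension version -/
noncomputable def wJ (c : ℕ) (𝔭 : PrimeSpectrum R) : ℕ := c - (cohtJ 𝔭).toNat

/-- The set of j-primes not containing `J` and of codimension `< k`. -/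
def SJ (J : Ideal R) (k : ℕ) : Set (PrimeSpectrum R) :=
  jPrimes ∩ {𝔭 | ¬ J ≤ 𝔭.asIdeal ∧ cohtJ 𝔭 < k}

lemma genericFinite_SJ [NoetherianSpace (MaximalSpectrum R)] (J : Ideal R) (k : ℕ) :
    GenericFinite (SJ J k) := by
  apply genericFinite_jPrimes.inter_lowerSet
  intro 𝔭 h𝔭 𝔮 h𝔮 hle
  refine ⟨fun hJ => h𝔭.1 (hJ.trans hle), ?_⟩
  by_cases h𝔭j : 𝔭 ∈ jPrimes
  · exact lt_of_le_of_lt (cohtJ_anti h𝔮 h𝔭j hle) h𝔭.2
  · have : cohtJ 𝔭 = ⊤ := by unfold cohtJ; rw [dif_neg h𝔭j]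
    have h2 := h𝔭.2
    rw [this] at h2
    exact absurd h2 (by simp)

lemma wJ_strict {J : Ideal R} {k c : ℕ} (hkc : k ≤ c) {𝔮 𝔭 : PrimeSpectrum R}
    (h𝔮 : 𝔮 ∈ SJ J k) (h𝔭 : 𝔭 ∈ SJ J k) (hlt : 𝔮 < 𝔭) : wJ c 𝔭 < wJ c 𝔮 := by
  have h1 := cohtJ_strict h𝔮.1 h𝔭.1 hlt (lt_of_lt_of_le h𝔮.2.2 le_top)
  have h2 := h𝔭.2.2
  obtain ⟨a, ha⟩ := ENat.ne_top_iff_exists.mp (ne_top_of_lt h𝔮.2.2)
  obtain ⟨b, hb⟩ := ENat.ne_top_iff_exists.mp (ne_top_of_lt h𝔭.2.2)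
  unfold wJ
  rw [← ha, ← hb] at h1
  rw [← hb] at h2
  rw [← ha, ← hb]
  simp only [ENat.toNat_natCast]
  have h1' : a < b := by exact_mod_cast h1
  have h2' : b < k := by exact_mod_cast h2
  omega

lemma lt_wJ_of_mem {J : Ideal R} {k h : ℕ} {𝔭 : PrimeSpectrum R} (h𝔭 : 𝔭 ∈ SJ J k) :
    h + 1 ≤ wJ (h + k) 𝔭 := by
  obtain ⟨b, hb⟩ := ENat.ne_top_iff_exists.mp (ne_top_of_lt h𝔭.2.2)
  have h2 := h𝔭.2.2
  unfold wJ
  rw [← hb] at h2
  rw [← hb]
  simp only [ENat.toNat_natCast]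
  have h2' : b < k := by exact_mod_cast h2
  omega

lemma wJ_le (c : ℕ) (𝔭 : PrimeSpectrum R) : wJ c 𝔭 ≤ c := by unfold wJ; omega

end Groth.Agent.Lib.Helper25.EE
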