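import Mathlib
import Groth.Agent.Lib.Helper25EEStep

/-!
# Eisenbud–Evans, part 3: Noetherian rings of finite Krull dimension, projective modules
-/

set_option autoImplicit false

namespace Groth.Agent.Lib.Helper25.EE

open Module Submodule TensorProduct

section Spec

variable {R : Type*} [CommRing R]

lemma genericFinite_univ [IsNoetherianRing R] :
    GenericFinite (Set.univ : Set (PrimeSpectrum R)) := by
  classical
  intro J
  have hfin : {𝔮 : PrimeSpectrum R | 𝔮.asIdeal ∈ J.minimalPrimes}.Finite := by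
    have h1 := Ideal.finite_minimalPrimes_of_isNoetherianRing R J
    have hinj : Function.Injective (PrimeSpectrum.asIdeal : PrimeSpectrum R → Ideal R) :=
      fun a b h => PrimeSpectrum.ext h
    exact Set.Finite.preimage hinj.injOn h1
  refine ⟨hfin.toFinset, ?_, ?_⟩
  · intro 𝔮 h𝔮
    rw [Set.Finite.mem_toFinset] at h𝔮
    exact ⟨Set.mem_univ _, h𝔮.1.2⟩
  · intro 𝔭 _ hJ
    haveI := 𝔭.2
    obtain ⟨q, hq, hq𝔭⟩ := Ideal.exists_minimalPrimes_le hJ
    refine ⟨⟨q, hq.1.1⟩, ?_, hq𝔭⟩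
    rw [Set.Finite.mem_toFinset]
    exact hq

/-- the weight function `d + 1 - ht 𝔭` -/
noncomputable def wSpec (d : ℕ) (𝔭 : PrimeSpectrum R) : ℕ := d + 1 - (Order.height 𝔭).toNat

lemma height_le_of_ringKrullDim_le {d : ℕ} (hdim : ringKrullDim R ≤ d) (𝔭 : PrimeSpectrum R) :
    Order.height 𝔭 ≤ d := by
  have h1 : (Order.height 𝔭 : WithBot ℕ∞) ≤ Order.krullDim (PrimeSpectrum R) :=
    Order.height_le_krullDim 𝔭
  have h2 : (Order.height 𝔭 : WithBot ℕ∞) ≤ (d : WithBot ℕ∞) := h1.trans hdim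
  exact_mod_cast h2

lemma wSpec_pos {d : ℕ} (hdim : ringKrullDim R ≤ d) (𝔭 : PrimeSpectrum R) : 1 ≤ wSpec d 𝔭 := by
  have h := height_le_of_ringKrullDim_le hdim 𝔭
  have h' : (Order.height 𝔭).toNat ≤ d := by
    have := ENat.toNat_le_toNat h (by simp)
    simpa using this
  unfold wSpec; omega

lemma wSpec_le (d : ℕ) (𝔭 : PrimeSpectrum R) : wSpec d 𝔭 ≤ d + 1 := by
  unfold wSpec; omega

lemma wSpec_strictAnti {d : ℕ} (hdim : ringKrullDim R ≤ d) {𝔮 𝔭 : PrimeSpectrum R} (h : 𝔮 < 𝔭) :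
    wSpec d 𝔭 < wSpec d 𝔮 := by
  have h1 := Order.height_add_one_le h
  have h𝔭 := height_le_of_ringKrullDim_le hdim 𝔭
  have h𝔮 := height_le_of_ringKrullDim_le hdim 𝔮
  obtain ⟨a, ha⟩ := ENat.ne_top_iff_exists.mp (ne_top_of_le_ne_top (by simp) h𝔭)
  obtain ⟨b, hb⟩ := ENat.ne_top_iff_exists.mp (ne_top_of_le_ne_top (by simp) h𝔮)
  rw [← ha] at h1 h𝔭
  rw [← hb] at h1 h𝔮
  unfold wSpec
  rw [← ha, ← hb]
  simp only [ENat.toNat_coe]
  have h1' : b + 1 ≤ a := by exact_mod_cast h1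
  have h𝔭' : a ≤ d := by exact_mod_cast h𝔭
  omega

end Spec

section Proj

variable {R : Type*} [CommRing R] (P : Type*) [AddCommGroup P] [Module R P]

/-- evaluation `P → (Dual P → R)` -/
def evLin : P →ₗ[R] (Module.Dual R P → R) :=
  LinearMap.pi fun ψ => (ψ : P →ₗ[R] R)

@[simp] lemma evLin_apply (p : P) (ψ : Module.Dual R P) : evLin P p ψ = ψ p := rfl

variable {P}

/-- The comparison map `κ ⊗ P → (Dual P → κ)`. -/
noncomputable def thetaMap (K : Type*) [Field K] [Algebra R K] :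
    K ⊗[R] P →ₗ[K] (Module.Dual R P → K) :=
  LinearMap.pi fun ψ =>
    (AlgebraTensorModule.rid R K K).toLinearMap ∘ₗ (LinearMap.baseChange K (ψ : P →ₗ[R] R))

lemma thetaMap_tmul (K : Type*) [Field K] [Algebra R K] (x : K) (p : P) (ψ : Module.Dual R P) :
    thetaMap (R := R) (P := P) K (x ⊗ₜ p) ψ = ψ p • x := by
  simp [thetaMap]

lemma thetaMap_injective [Module.Finite R P] [Module.Projective R P]
    (K : Type*) [Field K] [Algebra R K] :
    Function.Injective (thetaMap (R := R) (P := P) K) := by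
  obtain ⟨n, f, g, -, -, hfg⟩ := Module.Finite.exists_comp_eq_id_of_projective R P
  -- dual basis
  let ψ : Fin n → Module.Dual R P := fun i => LinearMap.proj i ∘ₗ g
  let x : Fin n → P := fun i => f (Pi.single i 1)
  have hdual : ∀ p : P, ∑ i, ψ i p • x i = p := by
    intro p
    have h1 : f (g p) = p := by
      have := congrArg (fun l : P →ₗ[R] P => l p) hfg
      simpa using this
    conv_rhs => rw [← h1]
    have h2 : g p = ∑ i, (g p i) • (Pi.single i 1 : Fin n → R) := by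
      ext j
      simp [Finset.sum_apply, Pi.single_apply]
    conv_rhs => rw [h2, map_sum]
    refine Finset.sum_congr rfl fun i _ => ?_
    rw [map_smul]
    rfl
  have hid : ∀ z : K ⊗[R] P,
      z = ∑ i, (thetaMap (R := R) (P := P) K z (ψ i)) • ((1 : K) ⊗ₜ[R] x i) := by
    intro z
    induction z using TensorProduct.induction_on with
    | zero => simp
    | tmul k p =>
      simp only [thetaMap_tmul]
      conv_lhs => rw [← hdual p, TensorProduct.tmul_sum]
      refine Finset.sum_congr rfl fun i _ => ?_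
      rw [TensorProduct.tmul_smul, TensorProduct.smul_tmul', TensorProduct.smul_tmul',
        smul_eq_mul, mul_one]
    | add a b ha hb =>
      conv_lhs => rw [ha, hb]
      rw [← Finset.sum_add_distrib]
      refine Finset.sum_congr rfl fun i _ => ?_
      rw [map_add, Pi.add_apply, add_smul]
  rw [← LinearMap.ker_eq_bot, LinearMap.ker_eq_bot']
  intro z hz
  rw [hid z, hz]
  simp

/-- For generators `g` of a f.g. projective module, the rank of `ev ∘ g` at `𝔭` is at least the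
rank of `P` at `𝔭`. -/
lemma rankAtStalk_le_rkAt [Module.Finite R P] [Module.Projective R P] {L : ℕ} (g : Fin L → P)
    (hg : span R (Set.range g) = ⊤) (𝔭 : PrimeSpectrum R) :
    Module.rankAtStalk P 𝔭 ≤ rkAt 𝔭 (fun j => evLin P (g j)) := by
  set K := 𝔭.asIdeal.ResidueField
  rw [Module.rankAtStalk_eq]
  -- span of the reductions is the range of thetaMap
  have hrange : span K (Set.range (red (algebraMap R K) (fun j => evLin P (g j))))
      = LinearMap.range (thetaMap (R := R) (P := P) K) := by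
    have h1 : ∀ j, red (algebraMap R K) (fun j => evLin P (g j)) j
        = thetaMap (R := R) (P := P) K ((1 : K) ⊗ₜ g j) := by
      intro j
      ext ψ
      simp [thetaMap_tmul, Algebra.smul_def]
    have h2 : Set.range (red (algebraMap R K) (fun j => evLin P (g j)))
        = thetaMap (R := R) (P := P) K '' (Set.range fun j => (1 : K) ⊗ₜ[R] g j) := by
      rw [← Set.range_comp]
      congr 1
      ext j : 1
      exact h1 j
    rw [h2, ← Submodule.map_span, LinearMap.range_eq_map]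
    congr 1
    -- 1 ⊗ g j span K ⊗ P
    have : (Set.range fun j => (1 : K) ⊗ₜ[R] g j) = (TensorProduct.mk R K P 1) '' (Set.range g) := by
      rw [← Set.range_comp]; rfl
    rw [this, ← Submodule.baseChange_span, hg, Submodule.baseChange_top]
  unfold rkAt rkVia rk
  rw [hrange]
  rw [LinearMap.finrank_range_of_inj (thetaMap_injective K)]


variable {I : Type*}

lemma red_smul {K : Type*} [Field K] (φ : R →+* K) (a : R) (x : I → R) (i : I) :
    φ ((a • x) i) = φ a * φ (x i) := by simp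

lemma rkAt_le_rkAt_of_smul (𝔭 : PrimeSpectrum R) {ι ι' : Type*} [Finite ι']
    (v : ι → (I → R)) (v' : ι' → (I → R)) (a : R) (ha : a ∉ 𝔭.asIdeal) (c : ι → ι')
    (h : ∀ j, v' (c j) = a • v j) : rkAt 𝔭 v ≤ rkAt 𝔭 v' := by
  unfold rkAt rkVia
  apply rk_mono
  intro j
  set φ := algebraMap R 𝔭.asIdeal.ResidueField
  have hφa : φ a ≠ 0 := by
    rw [Ne, Ideal.algebraMap_residueField_eq_zero]; exact ha
  have : red φ v j = (φ a)⁻¹ • red φ v' (c j) := by
    ext i
    simp only [red_apply, Pi.smul_apply, smul_eq_mul, h j, map_mul]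
    rw [inv_mul_cancel_left₀ hφa]
  rw [this]
  exact Submodule.smul_mem _ _ (subset_span ⟨c j, rfl⟩)

/-- **Eisenbud–Evans Theorem A(b)** for projective modules over a Noetherian ring of dimension
`≤ d`: if `P` has rank `≥ d + 1` everywhere and `(p, a)` is unimodular in `P ⊕ R`, then
`p + a q` is unimodular in `P` for some `q`. -/
theorem exists_unimodular_add_smul [IsNoetherianRing R] (d : ℕ) (hdim : ringKrullDim R ≤ d)
    [Module.Finite R P] [Module.Projective R P]
    (hrk : ∀ 𝔭 : PrimeSpectrum R, d + 1 ≤ Module.rankAtStalk P 𝔭)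
    (p : P) (a : R) (φ : P →ₗ[R] R) (r : R) (h : φ p + r * a = 1) :
    ∃ (q : P) (ψ : P →ₗ[R] R), ψ (p + a • q) = 1 := by
  classical
  obtain ⟨L, g, hg⟩ := Module.Finite.exists_fin (R := R) (M := P)
  let 𝒮 : Set (PrimeSpectrum R) := Set.univ ∩ {𝔭 | a ∉ 𝔭.asIdeal}
  have h𝒮 : GenericFinite 𝒮 := genericFinite_univ.inter_lowerSet
    (by intro 𝔭 h𝔭 𝔮 _ hle ha; exact h𝔭 (hle ha))
  let S : Fin 0 → (Module.Dual R P → R) := fun i => i.elim0
  let Y : Fin (L + 1) → (Module.Dual R P → R) :=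
    Fin.cons (evLin P p) (fun j => evLin P (a • g j))
  have hw : ∀ 𝔮 ∈ 𝒮, ∀ 𝔭 ∈ 𝒮, 𝔮 < 𝔭 → wSpec d 𝔭 < wSpec d 𝔮 :=
    fun 𝔮 _ 𝔭 _ hlt => wSpec_strictAnti hdim hlt
  have hS : ∀ 𝔭 ∈ 𝒮, 0 ≤ rkAt 𝔭 S := fun _ _ => Nat.zero_le _
  have hY : ∀ 𝔭 ∈ 𝒮, min (0 + L + 1) (wSpec d 𝔭) ≤ rkAt 𝔭 (Sum.elim S Y) := by
    intro 𝔭 h𝔭
    refine le_trans (min_le_right _ _) ?_
    refine le_trans (wSpec_le d 𝔭) (le_trans (hrk 𝔭) ?_)
    refine le_trans (rankAtStalk_le_rkAt g hg 𝔭) ?_
    apply rkAt_le_rkAt_of_smul 𝔭 _ _ a h𝔭.2 (fun j => Sum.inr j.succ)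
    intro j
    simp only [Sum.elim_inr, Y, Fin.cons_succ, map_smul]
  obtain ⟨t, ht1, ht2⟩ := main h𝒮 (wSpec d) hw S hS L Y hY
  -- t = ev (p + a q)
  have hle : span R (Set.range (fun i : Fin L => Y i.succ))
      ≤ LinearMap.range (evLin P ∘ₗ (a • (LinearMap.id : P →ₗ[R] P))) := by
    rw [span_le]
    rintro _ ⟨i, rfl⟩
    exact ⟨g i, by simp [Y]⟩
  obtain ⟨q, hq⟩ := hle ht1
  have hY0 : Y 0 = evLin P p := by simp [Y]
  have ht : t = evLin P (p + a • q) := by
    rw [map_add]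
    have : evLin P (a • q) = t - Y 0 := by rw [← hq]; simp
    rw [this, hY0]; abel
  refine ⟨q, ?_⟩
  -- the order ideal
  let O : Ideal R := LinearMap.range (LinearMap.applyₗ (p + a • q) : Module.Dual R P →ₗ[R] R)
  have hO : O = ⊤ := by
    by_contra hne
    obtain ⟨m, hm, hOm⟩ := Ideal.exists_le_maximal O hne
    let 𝔭 : PrimeSpectrum R := ⟨m, hm.isPrime⟩
    by_cases ha : a ∈ m
    · -- φ (p + a q) ≡ 1
      have h1 : φ (p + a • q) ∈ m := hOm ⟨φ, rfl⟩
      have h2 : φ (p + a • q) = 1 - r * a + a * φ q := by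
        rw [map_add, map_smul, smul_eq_mul, ← h]; ring
      rw [h2] at h1
      have h3 : (1 : R) ∈ m := by
        have : (1 : R) = (1 - r * a + a * φ q) + (r * a - a * φ q) := by ring
        rw [this]
        exact m.add_mem h1 (m.sub_mem (m.mul_mem_left _ ha) (m.mul_mem_right _ ha))
      exact hm.ne_top ((Ideal.eq_top_iff_one _).mpr h3)
    · have h𝔭 : 𝔭 ∈ 𝒮 := ⟨Set.mem_univ _, ha⟩
      have h1 := ht2 𝔭 h𝔭
      have h2 : 1 ≤ rkAt 𝔭 (Sum.elim S (fun _ : Fin 1 => t)) := by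
        refine le_trans ?_ h1
        exact le_min (by omega) (wSpec_pos hdim 𝔭)
      rw [le_rkAt_iff] at h2
      obtain ⟨rr, cc, hminor⟩ := h2
      apply hminor
      unfold minor
      rw [Matrix.det_fin_one, Matrix.of_apply]
      rcases hcc : cc 0 with i | i
      · exact i.elim0
      · simp only [Sum.elim_inr]
        rw [ht]
        exact hOm ⟨rr 0, rfl⟩
  have h1 : (1 : R) ∈ O := by rw [hO]; trivial
  obtain ⟨ψ, hψ⟩ := h1
  exact ⟨ψ, hψ⟩

end Proj

end Groth.Agent.Lib.Helper25.EE
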