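import Mathlib
import Groth.Agent.Lib.Helper25EEJSpec
import Groth.Agent.Lib.Helper25EESpec

/-!
# Serre's splitting proposition (matrix form via Eisenbud–Evans)
-/

set_option autoImplicit false

universe u

namespace Groth.Agent.Lib.Helper25.EE

open TopologicalSpace Module Submodule

section Field

variable {K : Type*} [Field K] {W : Type*} [AddCommGroup W] [Module K W]

lemma exists_linearIndependent_subfamily {ι : Type*} [Finite ι] (v : ι → W) (s : ℕ)
    (hs : s ≤ rk K v) : ∃ c : Fin s → ι, LinearIndependent K (v ∘ c) := by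
  classical
  obtain ⟨b, hb, hbspan, hbli⟩ := exists_linearIndependent K (Set.range v)
  have hfinb : Finite b := (Set.finite_range v).subset hb
  have : Fintype b := Fintype.ofFinite b
  have hcard : Fintype.card b = rk K v := by
    have := finrank_span_eq_card hbli
    rw [Subtype.range_coe, hbspan] at this
    exact this.symm
  have hsle : s ≤ Fintype.card b := by omega
  have : Nonempty (Fin s ↪ b) := by
    apply Function.Embedding.nonempty_of_card_le
    simpa using hsle
  obtain ⟨emb⟩ := this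
  have hcol : ∀ a : Fin s, ∃ j : ι, v j = (emb a : W) := fun a => hb (emb a).2
  choose c hc using hcol
  refine ⟨c, ?_⟩
  have h1 : LinearIndependent K (fun a : Fin s => ((emb a : b) : W)) :=
    hbli.comp emb emb.injective
  have heq : v ∘ c = fun a : Fin s => ((emb a : b) : W) := funext hc
  rw [heq]; exact h1

lemma rk_comp_equiv {ι ι' : Type*} (v : ι → W) (e : ι' ≃ ι) : rk K (v ∘ e) = rk K v := by
  unfold rk
  rw [Set.range_comp, Set.range_eq_univ.mpr e.surjective, Set.image_univ]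

end Field

section Defs

variable (R : Type u) [CommRing R] (M : Type u) [AddCommGroup M] [Module R M]

/-- the submodule `B(x)` of `M(x) = M/xM` -/
def Bq (x : MaximalSpectrum R) :
    Submodule (R ⧸ x.asIdeal) (M ⧸ (x.asIdeal • ⊤ : Submodule R M)) :=
  Submodule.span (R ⧸ x.asIdeal)
    ((x.asIdeal • ⊤ : Submodule R M).mkQ '' {m : M | ∀ φ : M →ₗ[R] R, φ m ∈ x.asIdeal})

/-- the image of `m` in `V(x) = M(x)/B(x)` -/
def img (x : MaximalSpectrum R) (m : M) : (M ⧸ (x.asIdeal • ⊤ : Submodule R M)) ⧸ Bq R M x :=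
  (Bq R M x).mkQ ((x.asIdeal • ⊤ : Submodule R M).mkQ m)

variable {R M}

lemma apply_mem_of_mem_smul_top (x : MaximalSpectrum R) (φ : M →ₗ[R] R) {n : M}
    (hn : n ∈ (x.asIdeal • ⊤ : Submodule R M)) : φ n ∈ x.asIdeal := by
  refine Submodule.smul_induction_on hn ?_ ?_
  · intro r hr m _
    rw [map_smul, smul_eq_mul]; exact Ideal.mul_mem_right _ _ hr
  · intro a b ha hb
    rw [map_add]; exact add_mem ha hb

lemma img_eq_zero_iff (x : MaximalSpectrum R) (m : M) :
    img R M x m = 0 ↔ ∀ φ : M →ₗ[R] R, φ m ∈ x.asIdeal := by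
  unfold img
  rw [Submodule.mkQ_apply, Submodule.Quotient.mk_eq_zero]
  constructor
  · intro h
    have key : ∀ y ∈ Bq R M x, ∃ m' : M, (∀ φ : M →ₗ[R] R, φ m' ∈ x.asIdeal) ∧
        (x.asIdeal • ⊤ : Submodule R M).mkQ m' = y := by
      intro y hy
      unfold Bq at hy
      induction hy using Submodule.span_induction with
      | mem y hy =>
        obtain ⟨m', hm', rfl⟩ := hy
        exact ⟨m', hm', rfl⟩
      | zero => exact ⟨0, by simp, by simp⟩
      | add y z _ _ hy hz =>
        obtain ⟨a, ha, rfl⟩ := hy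
        obtain ⟨b, hb, rfl⟩ := hz
        exact ⟨a + b, fun φ => by rw [map_add]; exact add_mem (ha φ) (hb φ), by simp⟩
      | smul c y _ hy =>
        obtain ⟨a, ha, rfl⟩ := hy
        obtain ⟨r, rfl⟩ := Ideal.Quotient.mk_surjective c
        exact ⟨r • a, fun φ => by rw [map_smul, smul_eq_mul]; exact Ideal.mul_mem_left _ _ (ha φ),
          rfl⟩
    obtain ⟨m', hm', heq⟩ := key _ h
    have hmem : m - m' ∈ (x.asIdeal • ⊤ : Submodule R M) := by
      rw [← Submodule.Quotient.eq]; exact heq.symm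
    intro φ
    have h1 := apply_mem_of_mem_smul_top x φ hmem
    rw [map_sub] at h1
    have : φ m = (φ m - φ m') + φ m' := by ring
    rw [this]
    exact add_mem h1 (hm' φ)
  · intro h
    exact Submodule.subset_span ⟨m, h, rfl⟩

lemma img_add (x : MaximalSpectrum R) (m m' : M) :
    img R M x (m + m') = img R M x m + img R M x m' := by
  simp [img]

lemma img_smul (x : MaximalSpectrum R) (r : R) (m : M) :
    img R M x (r • m) = Ideal.Quotient.mk x.asIdeal r • img R M x m := by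
  unfold img
  rw [← map_smul]
  rfl

lemma img_sum (x : MaximalSpectrum R) {ι : Type*} (t : Finset ι) (f : ι → M) :
    img R M x (∑ i ∈ t, f i) = ∑ i ∈ t, img R M x (f i) := by
  classical
  induction t using Finset.induction_on with
  | empty => simp [img]
  | insert a t ha ih => rw [Finset.sum_insert ha, Finset.sum_insert ha, img_add, ih]

lemma img_surjective (x : MaximalSpectrum R) : Function.Surjective (img R M x) := by
  intro y
  obtain ⟨z, rfl⟩ := Submodule.mkQ_surjective _ y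
  obtain ⟨m, rfl⟩ := Submodule.mkQ_surjective _ z
  exact ⟨m, rfl⟩

/-- Linear independence in `V(x)` is linear independence of the evaluation vectors mod `x`. -/
lemma linearIndependent_img_iff (x : MaximalSpectrum R) {ι : Type*} [Fintype ι] (s : ι → M) :
    LinearIndependent (R ⧸ x.asIdeal) (fun i => img R M x (s i)) ↔
      LinearIndependent (R ⧸ x.asIdeal)
        (fun (i : ι) (φ : Module.Dual R M) => Ideal.Quotient.mk x.asIdeal (φ (s i))) := by
  classical
  rw [Fintype.linearIndependent_iff, Fintype.linearIndependent_iff]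
  have hkey : ∀ r : ι → R,
      (∑ i, Ideal.Quotient.mk x.asIdeal (r i) • img R M x (s i) = 0) ↔
      (∑ i, Ideal.Quotient.mk x.asIdeal (r i) •
        (fun (φ : Module.Dual R M) => Ideal.Quotient.mk x.asIdeal (φ (s i))) = 0) := by
    intro r
    have h1 : ∑ i, Ideal.Quotient.mk x.asIdeal (r i) • img R M x (s i)
        = img R M x (∑ i, r i • s i) := by
      rw [img_sum]
      exact Finset.sum_congr rfl fun i _ => (img_smul x _ _).symm
    rw [h1, img_eq_zero_iff]
    constructor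
    · intro h
      ext φ
      simp only [Finset.sum_apply, Pi.smul_apply, smul_eq_mul, Pi.zero_apply]
      have e1 : φ (∑ i, r i • s i) = ∑ i, r i * φ (s i) := by simp [map_sum]
      have := h φ
      rw [← Ideal.Quotient.eq_zero_iff_mem, e1, map_sum] at this
      simp only [map_mul] at this
      exact this
    · intro h φ
      have := congrFun h φ
      simp only [Finset.sum_apply, Pi.smul_apply, smul_eq_mul, Pi.zero_apply] at this
      have e1 : φ (∑ i, r i • s i) = ∑ i, r i * φ (s i) := by simp [map_sum]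
      rw [← Ideal.Quotient.eq_zero_iff_mem, e1, map_sum]
      simp only [map_mul]
      exact this
  constructor
  · intro h g hg
    obtain ⟨r, rfl⟩ : ∃ r : ι → R, g = fun i => Ideal.Quotient.mk x.asIdeal (r i) :=
      ⟨fun i => (Ideal.Quotient.mk_surjective (g i)).choose,
        funext fun i => (Ideal.Quotient.mk_surjective (g i)).choose_spec.symm⟩
    exact h _ ((hkey r).mpr hg)
  · intro h g hg
    obtain ⟨r, rfl⟩ : ∃ r : ι → R, g = fun i => Ideal.Quotient.mk x.asIdeal (r i) :=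
      ⟨fun i => (Ideal.Quotient.mk_surjective (g i)).choose,
        funext fun i => (Ideal.Quotient.mk_surjective (g i)).choose_spec.symm⟩
    exact h _ ((hkey r).mp hg)


lemma rkAt_comp_le {I : Type*} (𝔭 : PrimeSpectrum R) {ι ι' : Type*} [Finite ι]
    (v : ι → (I → R)) (c : ι' → ι) : rkAt 𝔭 (v ∘ c) ≤ rkAt 𝔭 v := by
  unfold rkAt rkVia
  rw [red_comp]
  exact rk_comp_le _ _

lemma rkAt_comp_equiv {I : Type*} (𝔭 : PrimeSpectrum R) {ι ι' : Type*}
    (v : ι → (I → R)) (e : ι' ≃ ι) : rkAt 𝔭 (v ∘ e) = rkAt 𝔭 v := by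
  unfold rkAt rkVia
  rw [red_comp]
  exact rk_comp_equiv _ e

lemma linearIndependent_img_iff_rkAt (x : MaximalSpectrum R) {ι : Type*} [Fintype ι]
    (s : ι → M) :
    LinearIndependent (R ⧸ x.asIdeal) (fun i => img R M x (s i)) ↔
      Fintype.card ι ≤ rkAt x.toPrimeSpectrum (fun i => evLin M (s i)) := by
  letI : Field (R ⧸ x.asIdeal) := Ideal.Quotient.field x.asIdeal
  rw [linearIndependent_img_iff]
  rw [rkAt_eq_rkVia x.toPrimeSpectrum (Ideal.Quotient.mk x.asIdeal) Ideal.mk_ker]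
  unfold rkVia
  rw [card_le_rk_iff]
  rfl

lemma le_rkAt_of_le_finrank (x : MaximalSpectrum R) {L : ℕ} (g : Fin L → M)
    (hg : span R (Set.range g) = ⊤) (c : ℕ)
    (hc : c ≤ Module.finrank (R ⧸ x.asIdeal)
      ((M ⧸ (x.asIdeal • ⊤ : Submodule R M)) ⧸ Bq R M x)) :
    c ≤ rkAt x.toPrimeSpectrum (fun j => evLin M (g j)) := by
  letI : Field (R ⧸ x.asIdeal) := Ideal.Quotient.field x.asIdeal
  have hspan : span (R ⧸ x.asIdeal) (Set.range (fun j => img R M x (g j))) = ⊤ := by
    rw [eq_top_iff]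
    rintro y -
    obtain ⟨m, rfl⟩ := img_surjective x y
    have hm : m ∈ span R (Set.range g) := by rw [hg]; trivial
    obtain ⟨r, rfl⟩ := (Submodule.mem_span_range_iff_exists_fun R).mp hm
    rw [img_sum]
    refine Submodule.sum_mem _ fun j _ => ?_
    rw [img_smul]
    exact Submodule.smul_mem _ _ (Submodule.subset_span ⟨j, rfl⟩)
  have hrk : rk (R ⧸ x.asIdeal) (fun j => img R M x (g j))
      = Module.finrank (R ⧸ x.asIdeal)
        ((M ⧸ (x.asIdeal • ⊤ : Submodule R M)) ⧸ Bq R M x) := by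
    unfold rk
    rw [hspan, finrank_top]
  obtain ⟨cc, hcc⟩ := exists_linearIndependent_subfamily (K := R ⧸ x.asIdeal)
    (fun j => img R M x (g j)) c (by rw [hrk]; exact hc)
  have h1 := (linearIndependent_img_iff_rkAt x (fun i => g (cc i))).mp hcc
  rw [Fintype.card_fin] at h1
  exact h1.trans (rkAt_comp_le x.toPrimeSpectrum (fun j => evLin M (g j)) cc)

/-- Chinese remainder theorem for a module and distinct maximal ideals. -/
lemma exists_lift_crt {n : ℕ} (xs : Fin n → MaximalSpectrum R) (hxs : Function.Injective xs)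
    (v : ∀ i : Fin n, M ⧸ ((xs i).asIdeal • ⊤ : Submodule R M)) :
    ∃ t : M, ∀ i, ((xs i).asIdeal • ⊤ : Submodule R M).mkQ t = v i := by
  classical
  have hcop : Pairwise (Function.onFun IsCoprime fun i => (xs i).asIdeal) := by
    intro i j hij
    exact MaximalSpectrum.isCoprime_of_ne (fun h => hij (hxs h))
  have he : ∀ i : Fin n, ∃ e : R, ∀ j, e - (if j = i then 1 else 0) ∈ (xs j).asIdeal := by
    intro i
    exact Ideal.exists_forall_sub_mem_ideal hcop (fun j => if j = i then 1 else 0)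
  choose e he using he
  have hm : ∀ i : Fin n, ∃ m : M, ((xs i).asIdeal • ⊤ : Submodule R M).mkQ m = v i :=
    fun i => Submodule.mkQ_surjective _ (v i)
  choose m hm using hm
  refine ⟨∑ i, e i • m i, fun j => ?_⟩
  rw [← hm j]
  simp only [Submodule.mkQ_apply]
  rw [Submodule.Quotient.eq]
  have : ∑ i, e i • m i - m j = ∑ i, (e i - (if j = i then 1 else 0)) • m i := by
    simp only [sub_smul, Finset.sum_sub_distrib, ite_smul, one_smul, zero_smul,
      Finset.sum_ite_eq, Finset.mem_univ, if_true]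
  rw [this]
  exact Submodule.sum_mem _ fun i _ => Submodule.smul_mem_smul (he i j) trivial

/-- A closed subset of a Noetherian maximal spectrum is cut out by finitely many elements. -/
lemma exists_finset_cover [NoetherianSpace (MaximalSpectrum R)] {F : Set (MaximalSpectrum R)}
    (hF : IsClosed F) :
    ∃ A : Finset R, (∀ a ∈ A, a ∈ imax F) ∧ ∀ x, x ∉ F → ∃ a ∈ A, a ∉ x.asIdeal := by
  classical
  have hcpt : IsCompact Fᶜ := NoetherianSpace.isCompact _
  let U : imax F → Set (MaximalSpectrum R) := fun a => (vmax (Ideal.span {(a : R)}))ᶜ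
  have hUo : ∀ a, IsOpen (U a) := fun a => (isClosed_vmax _).isOpen_compl
  have hcover : Fᶜ ⊆ ⋃ a, U a := by
    intro x hx
    have hx' : ¬ (imax F ≤ x.asIdeal) := by
      rw [← mem_vmax, vmax_imax_of_isClosed hF]; exact hx
    obtain ⟨a, ha, hax⟩ := SetLike.not_le_iff_exists.mp hx'
    refine Set.mem_iUnion.mpr ⟨⟨a, ha⟩, ?_⟩
    show x ∉ vmax (Ideal.span {a})
    rw [mem_vmax, Ideal.span_singleton_le_iff_mem]
    exact hax
  obtain ⟨t, ht⟩ := hcpt.elim_finite_subcover U hUo hcover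
  refine ⟨t.image Subtype.val, ?_, ?_⟩
  · intro a ha
    obtain ⟨b, -, rfl⟩ := Finset.mem_image.mp ha
    exact b.2
  · intro x hx
    have := ht hx
    simp only [Set.mem_iUnion] at this
    obtain ⟨a, hat, hxa⟩ := this
    refine ⟨a.1, Finset.mem_image.mpr ⟨a, hat, rfl⟩, ?_⟩
    have : x ∉ vmax (Ideal.span {(a : R)}) := hxa
    rwa [mem_vmax, Ideal.span_singleton_le_iff_mem] at this


/-- **Serre's splitting proposition** in the form of S7163. -/
theorem serre_prop [NoetherianSpace (MaximalSpectrum R)] [Module.Finite R M]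
    (h : ℕ) (s : Fin h → M) (F : Set (MaximalSpectrum R)) (hF : IsClosed F)
    (n : ℕ) (xs : Fin n → MaximalSpectrum R) (hxs : Function.Injective xs) (hxF : ∀ i, xs i ∈ F)
    (v : ∀ i : Fin n, M ⧸ ((xs i).asIdeal • ⊤ : Submodule R M)) (k : ℕ)
    (hrank : ∀ x : MaximalSpectrum R, h + k ≤ Module.finrank (R ⧸ x.asIdeal)
      ((M ⧸ (x.asIdeal • ⊤ : Submodule R M)) ⧸ Bq R M x))
    (hZ : ∀ x : MaximalSpectrum R,
      ¬ LinearIndependent (R ⧸ x.asIdeal) (fun i => img R M x (s i)) → x ∈ F) :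
    ∃ (t : M) (F' : Set (MaximalSpectrum R)), IsClosed F' ∧
      (∀ i : Fin n, img R M (xs i) t = (Bq R M (xs i)).mkQ (v i)) ∧
      (∀ x : MaximalSpectrum R,
        ¬ LinearIndependent (R ⧸ x.asIdeal)
          (Fin.snoc (fun i => img R M x (s i)) (img R M x t)) → x ∈ F ∪ F') ∧
      ∀ Z : TopologicalSpace.IrreducibleCloseds (MaximalSpectrum R),
        (Z : Set (MaximalSpectrum R)) ⊆ F' → (k : ℕ∞) ≤ Order.coheight Z := by
  classical
  obtain ⟨L, g, hg⟩ := Module.Finite.exists_fin (R := R) (M := M)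
  obtain ⟨t₀, ht₀⟩ := exists_lift_crt xs hxs v
  obtain ⟨A, hA1, hA2⟩ := exists_finset_cover hF
  let r := A.card
  let a : Fin r → R := fun i => (A.equivFin.symm i : R)
  have ha1 : ∀ i, a i ∈ imax F := fun i => hA1 _ (A.equivFin.symm i).2
  have ha2 : ∀ x, x ∉ F → ∃ i, a i ∉ x.asIdeal := by
    intro x hx
    obtain ⟨a', ha', hax⟩ := hA2 x hx
    refine ⟨A.equivFin ⟨a', ha'⟩, ?_⟩
    simp only [a, Equiv.symm_apply_apply]
    exact hax
  let e : Fin r × Fin L ≃ Fin (r * L) := finProdFinEquiv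
  let b : Fin (r * L) → M := fun k' => a (e.symm k').1 • g (e.symm k').2
  let S : Fin h → (Module.Dual R M → R) := fun i => evLin M (s i)
  let Y : Fin (r * L + 1) → (Module.Dual R M → R) :=
    Fin.cons (evLin M t₀) (fun k' => evLin M (b k'))
  let J := imax F
  have h𝒮 := genericFinite_SJ J k
  have hw : ∀ 𝔮 ∈ SJ J k, ∀ 𝔭 ∈ SJ J k, 𝔮 < 𝔭 → wJ (h + k) 𝔭 < wJ (h + k) 𝔮 :=
    fun 𝔮 h𝔮 𝔭 h𝔭 hlt => wJ_strict (by omega) h𝔮 h𝔭 hlt
  have hpt : ∀ 𝔭 ∈ SJ J k, ∃ x : MaximalSpectrum R, 𝔭.asIdeal ≤ x.asIdeal ∧ x ∉ F := by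
    intro 𝔭 h𝔭
    by_contra hcon
    apply h𝔭.2.1
    rw [← imax_vmax_of_mem_jPrimes h𝔭.1]
    refine imax_anti (fun x hx => ?_)
    by_contra hxF'
    exact hcon ⟨x, hx, hxF'⟩
  have hS : ∀ 𝔭 ∈ SJ J k, h ≤ rkAt 𝔭 S := by
    intro 𝔭 h𝔭
    obtain ⟨x, hx𝔭, hxF'⟩ := hpt 𝔭 h𝔭
    have hli : LinearIndependent (R ⧸ x.asIdeal) (fun i => img R M x (s i)) := by
      by_contra hcon; exact hxF' (hZ x hcon)
    have := (linearIndependent_img_iff_rkAt x s).mp hli
    rw [Fintype.card_fin] at this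
    exact this.trans (rkAt_anti (show 𝔭 ≤ x.toPrimeSpectrum from hx𝔭) S)
  have hY : ∀ 𝔭 ∈ SJ J k, min (h + r * L + 1) (wJ (h + k) 𝔭) ≤ rkAt 𝔭 (Sum.elim S Y) := by
    intro 𝔭 h𝔭
    refine le_trans (min_le_right _ _) ?_
    refine le_trans (wJ_le _ _) ?_
    obtain ⟨x, hx𝔭, hxF'⟩ := hpt 𝔭 h𝔭
    obtain ⟨i, hi⟩ := ha2 x hxF'
    have hi𝔭 : a i ∉ 𝔭.asIdeal := fun hmem => hi (hx𝔭 hmem)
    have h1 := le_rkAt_of_le_finrank x g hg (h + k) (hrank x)
    have h2 := rkAt_anti (show 𝔭 ≤ x.toPrimeSpectrum from hx𝔭) (fun j => evLin M (g j))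
    refine le_trans h1 (le_trans h2 ?_)
    apply rkAt_le_rkAt_of_smul 𝔭 _ _ (a i) hi𝔭 (fun j => Sum.inr (Fin.succ (e (i, j))))
    intro j
    simp only [Sum.elim_inr, Y, Fin.cons_succ, b, Equiv.symm_apply_apply, map_smul]
  obtain ⟨t', ht'1, ht'2⟩ := main h𝒮 (wJ (h + k)) hw S hS (r * L) Y hY
  have hle : span R (Set.range (fun i : Fin (r * L) => Y i.succ))
      ≤ Submodule.map (evLin M) (span R (Set.range b)) := by
    rw [span_le]
    rintro _ ⟨i, rfl⟩
    exact ⟨b i, subset_span ⟨i, rfl⟩, by simp [Y]⟩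
  obtain ⟨u, hu, hu'⟩ := hle ht'1
  have hY0 : Y 0 = evLin M t₀ := by simp [Y]
  have ht : t' = evLin M (t₀ + u) := by
    rw [map_add, hu', hY0]; abel
  have huJ : u ∈ (J • ⊤ : Submodule R M) := by
    refine (span_le.mpr ?_) hu
    rintro _ ⟨k', rfl⟩
    exact Submodule.smul_mem_smul (ha1 _) trivial
  set t := t₀ + u with htdef
  -- the family s' = snoc s t
  let s' : Fin (h + 1) → M := Fin.snoc s t
  have hsnoc : ∀ x : MaximalSpectrum R,
      (Fin.snoc (fun i => img R M x (s i)) (img R M x t) : Fin (h + 1) → _)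
        = fun i => img R M x (s' i) := by
    intro x
    have := Fin.comp_snoc (img R M x) s t
    exact this.symm
  have hfam : (fun i => evLin M (s' i)) ∘ (finSumFinEquiv : Fin h ⊕ Fin 1 ≃ Fin (h + 1))
      = Sum.elim S (fun _ : Fin 1 => t') := by
    ext (i | i) : 1
    · simp only [Function.comp_apply, finSumFinEquiv_apply_left, Sum.elim_inl, S, s']
      congr 1
      exact Fin.snoc_castSucc (α := fun _ => M) t s i
    · simp only [Function.comp_apply, finSumFinEquiv_apply_right, Sum.elim_inr, s', ht]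
      congr 1
      have : Fin.natAdd h i = Fin.last h := by
        ext; simp
      rw [this]
      exact Fin.snoc_last (α := fun _ => M) t s
  have hrkeq : ∀ 𝔭 : PrimeSpectrum R, rkAt 𝔭 (Sum.elim S (fun _ : Fin 1 => t'))
      = rkAt 𝔭 (fun i => evLin M (s' i)) := by
    intro 𝔭
    rw [← hfam]
    exact rkAt_comp_equiv 𝔭 _ _
  -- the degeneracy locus
  have hZt : ∀ x : MaximalSpectrum R,
      (¬ LinearIndependent (R ⧸ x.asIdeal) (Fin.snoc (fun i => img R M x (s i)) (img R M x t)))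
        ↔ x ∈ vmax (minorIdeal (fun i => evLin M (s' i)) (h + 1)) := by
    intro x
    rw [hsnoc x, linearIndependent_img_iff_rkAt x s', Fintype.card_fin, not_le, rkAt_lt_iff]
    rfl
  obtain ⟨Sc, hScf, hScc, hSci, hScU⟩ := NoetherianSpace.exists_finite_set_isClosed_irreducible
    (isClosed_vmax (minorIdeal (fun i => evLin (R := R) M (s' i)) (h + 1)))
  let Sc' : Set (Set (MaximalSpectrum R)) := {W | W ∈ Sc ∧ ¬ W ⊆ F}
  have hSc'f : Sc'.Finite := hScf.subset fun W hW => hW.1
  refine ⟨t, ⋃₀ Sc', ?_, ?_, ?_, ?_⟩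
  · rw [Set.sUnion_eq_biUnion]
    exact hSc'f.isClosed_biUnion fun W hW => hScc W hW.1
  · intro i
    unfold img
    congr 1
    rw [← ht₀ i, htdef, map_add]
    have : ((xs i).asIdeal • ⊤ : Submodule R M).mkQ u = 0 := by
      rw [Submodule.mkQ_apply, Submodule.Quotient.mk_eq_zero]
      have hJle : J ≤ (xs i).asIdeal := imax_le_of_mem (hxF i)
      exact Submodule.smul_mono_left hJle huJ
    rw [this, add_zero]
  · intro x hx
    rw [hZt x, hScU] at hx
    obtain ⟨W, hW, hxW⟩ := hx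
    by_cases hWF : W ⊆ F
    · exact Or.inl (hWF hxW)
    · exact Or.inr ⟨W, ⟨hW, hWF⟩, hxW⟩
  · intro Z hZsub
    -- Z is contained in some W ∈ Sc'
    have hclosed : ∀ z ∈ hSc'f.toFinset, IsClosed z :=
      fun z hz => hScc z ((Set.Finite.mem_toFinset hSc'f).mp hz).1
    have hsub' : (Z : Set (MaximalSpectrum R)) ⊆ ⋃₀ (↑hSc'f.toFinset : Set (Set _)) := by
      rw [Set.Finite.coe_toFinset]; exact hZsub
    obtain ⟨W, hW, hZW⟩ := isIrreducible_iff_sUnion_isClosed.mp Z.isIrreducible'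
      hSc'f.toFinset hclosed hsub'
    have hW' : W ∈ Sc ∧ ¬ W ⊆ F := (Set.Finite.mem_toFinset hSc'f).mp hW
    have hWirr := hSci W hW'.1
    have hWcl := hScc W hW'.1
    let Wi : IrreducibleCloseds (MaximalSpectrum R) := ⟨W, hWirr, hWcl⟩
    have hle1 : Order.coheight Wi ≤ Order.coheight Z := Order.coheight_anti (show Z ≤ Wi from hZW)
    refine le_trans ?_ hle1
    by_contra hlt
    rw [not_le] at hlt
    -- the j-prime of W
    let 𝔭 : PrimeSpectrum R := ⟨imax W, imax_isPrime hWirr⟩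
    have h𝔭j : 𝔭 ∈ jPrimes := mem_jPrimes_of_imax hWirr
    have hcl : jClosure 𝔭 h𝔭j = Wi := by
      apply IrreducibleCloseds.ext
      exact vmax_imax_of_isClosed hWcl
    have h𝔭S : 𝔭 ∈ SJ J k := by
      refine ⟨h𝔭j, ?_, ?_⟩
      · intro hJ
        apply hW'.2
        rw [← vmax_imax_of_isClosed hWcl, ← vmax_imax_of_isClosed hF]
        exact vmax_anti hJ
      · rw [cohtJ_eq h𝔭j, hcl]; exact hlt
    have h1 := ht'2 𝔭 h𝔭S
    have h2 : h + 1 ≤ rkAt 𝔭 (fun i => evLin M (s' i)) := by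
      rw [← hrkeq]
      exact le_trans (le_min le_rfl (lt_wJ_of_mem h𝔭S)) h1
    rw [le_rkAt_iff] at h2
    obtain ⟨rr, cc, hminor⟩ := h2
    have : ¬ (∀ x ∈ W, minor (fun i => evLin M (s' i)) rr cc ∈ x.asIdeal) := by
      intro hall
      exact hminor (mem_imax.mpr hall)
    push_neg at this
    obtain ⟨x, hxW, hxm⟩ := this
    have hxZt : x ∈ vmax (minorIdeal (fun i => evLin M (s' i)) (h + 1)) := by
      rw [hScU]; exact ⟨W, hW'.1, hxW⟩
    apply hxm
    exact hxZt (Ideal.subset_span ⟨rr, cc, rfl⟩)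

end Defs

end Groth.Agent.Lib.Helper25.EE
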