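import Mathlib
import Groth.Agent.Lib.Helper25EESerre

/-!
# Serre's splitting theorem (S7113) from the splitting proposition
-/

set_option autoImplicit false

universe u

namespace Groth.Agent.Lib.Helper25.EE

open TopologicalSpace Module Submodule

variable {R : Type u} [CommRing R] {M : Type u} [AddCommGroup M] [Module R M]

/-- A free direct summand of rank `c` in `M_m` gives elements and linear forms whose pairing
matrix is "diagonal invertible" modulo `m`. -/
lemma exists_dual_pairs_of_local_summand (m : Ideal R) [hm : m.IsMaximal]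
    [Module.FinitePresentation R M] (c : ℕ)
    (f : (Fin c → Localization.AtPrime m) →ₗ[Localization.AtPrime m]
      LocalizedModule m.primeCompl M)
    (g : LocalizedModule m.primeCompl M →ₗ[Localization.AtPrime m]
      (Fin c → Localization.AtPrime m))
    (hgf : g ∘ₗ f = LinearMap.id) :
    ∃ (mm : Fin c → M) (φ : Fin c → (M →ₗ[R] R)),
      (∀ i, φ i (mm i) ∉ m) ∧ ∀ i j, i ≠ j → φ i (mm j) ∈ m := by
  classical
  let Rm := Localization.AtPrime m
  let mk := LocalizedModule.mkLinearMap m.primeCompl M
  have hsurj : ∀ j : Fin c, ∃ x : M × m.primeCompl, x.2 • f (Pi.single j 1) = mk x.1 :=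
    fun j => IsLocalizedModule.surj m.primeCompl mk (f (Pi.single j 1))
  choose x hx using hsurj
  let γ : Fin c → (M →ₗ[R] Rm) := fun i =>
    ((LinearMap.proj i : (Fin c → Rm) →ₗ[Rm] Rm) ∘ₗ g).restrictScalars R ∘ₗ mk
  have hlift : ∀ i : Fin c, ∃ (φ : M →ₗ[R] R) (s : m.primeCompl),
      (Algebra.linearMap R Rm) ∘ₗ φ = s • γ i := fun i =>
    Module.FinitePresentation.exists_lift_of_isLocalizedModule m.primeCompl
      (Algebra.linearMap R Rm) (γ i)
  choose φ s hφ using hlift
  have hval : ∀ i j, algebraMap R Rm (φ i ((x j).1))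
      = algebraMap R Rm ((s i : R) * ((x j).2 : R)) * (if i = j then 1 else 0) := by
    intro i j
    have h1 := congrArg (fun l : M →ₗ[R] Rm => l (x j).1) (hφ i)
    simp only [LinearMap.coe_comp, Function.comp_apply, Algebra.linearMap_apply,
      LinearMap.smul_apply] at h1
    rw [h1]
    have h2 : γ i (x j).1 = g (mk (x j).1) i := rfl
    rw [h2, ← hx j]
    have h3 : g ((x j).2 • f (Pi.single j 1)) = (x j).2 • g (f (Pi.single j 1)) := by
      rw [Submonoid.smul_def, Submonoid.smul_def]
      exact LinearMap.map_smul_of_tower g _ _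
    rw [h3]
    have h4 : g (f (Pi.single j 1)) = Pi.single j 1 := by
      have := congrArg (fun l => l (Pi.single j (1 : Rm))) hgf
      simpa using this
    rw [h4]
    simp only [Submonoid.smul_def, Pi.smul_apply, Pi.single_apply, Algebra.smul_def, map_mul]
    by_cases hij : i = j
    · simp only [hij, if_true, mul_one]; rfl
    · simp [hij]
  refine ⟨fun j => (x j).1, φ, ?_, ?_⟩
  · intro i hmem
    have h1 := hval i i
    rw [if_pos rfl, mul_one] at h1
    have hunit : IsUnit (algebraMap R Rm ((s i : R) * ((x i).2 : R))) := by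
      rw [IsLocalization.AtPrime.isUnit_to_map_iff Rm m]
      exact (s i * (x i).2).2
    rw [← h1, IsLocalization.AtPrime.isUnit_to_map_iff Rm m] at hunit
    exact hunit hmem
  · intro i j hij
    have h1 := hval i j
    rw [if_neg hij, mul_zero] at h1
    by_contra hnot
    have hunit : IsUnit (algebraMap R Rm (φ i (x j).1)) := by
      rw [IsLocalization.AtPrime.isUnit_to_map_iff Rm m]; exact hnot
    rw [h1] at hunit
    exact not_isUnit_zero hunit

lemma finrank_ge_of_local_summand (x : MaximalSpectrum R) [Module.FinitePresentation R M]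
    (c : ℕ)
    (f : (Fin c → Localization.AtPrime x.asIdeal) →ₗ[Localization.AtPrime x.asIdeal]
      LocalizedModule x.asIdeal.primeCompl M)
    (g : LocalizedModule x.asIdeal.primeCompl M →ₗ[Localization.AtPrime x.asIdeal]
      (Fin c → Localization.AtPrime x.asIdeal))
    (hgf : g ∘ₗ f = LinearMap.id) :
    c ≤ Module.finrank (R ⧸ x.asIdeal) ((M ⧸ (x.asIdeal • ⊤ : Submodule R M)) ⧸ Bq R M x) := by
  classical
  letI : Field (R ⧸ x.asIdeal) := Ideal.Quotient.field x.asIdeal
  obtain ⟨mm, φ, h1, h2⟩ := exists_dual_pairs_of_local_summand x.asIdeal c f g hgf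
  have hli : LinearIndependent (R ⧸ x.asIdeal) (fun j => img R M x (mm j)) := by
    rw [linearIndependent_img_iff, Fintype.linearIndependent_iff]
    intro a ha i
    have h3 := congrFun ha (φ i)
    simp only [Finset.sum_apply, Pi.smul_apply, smul_eq_mul, Pi.zero_apply] at h3
    rw [Finset.sum_eq_single i] at h3
    · rcases mul_eq_zero.mp h3 with h4 | h4
      · exact h4
      · exact absurd (Ideal.Quotient.eq_zero_iff_mem.mp h4) (h1 i)
    · intro j _ hji
      rw [Ideal.Quotient.eq_zero_iff_mem.mpr (h2 i j (Ne.symm hji)), mul_zero]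
    · intro hi; exact absurd (Finset.mem_univ i) hi
  have := hli.fintype_card_le_finrank
  simpa using this


/-- **Serre's splitting theorem** in the form of S7113. -/
theorem serre_splitting (d : ℕ) [NoetherianSpace (MaximalSpectrum R)]
    (hdim : topologicalKrullDim (MaximalSpectrum R) ≤ d)
    [Module.FinitePresentation R M]
    (hM : ∀ (m : Ideal R) [m.IsMaximal],
      ∃ (f : (Fin (d + 1) → Localization.AtPrime m) →ₗ[Localization.AtPrime m]
          LocalizedModule m.primeCompl M)
        (g : LocalizedModule m.primeCompl M →ₗ[Localization.AtPrime m]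
          (Fin (d + 1) → Localization.AtPrime m)),
        g ∘ₗ f = LinearMap.id) :
    ∃ (s : M) (φ : M →ₗ[R] R), φ s = 1 := by
  classical
  have hrank : ∀ x : MaximalSpectrum R, 0 + (d + 1) ≤ Module.finrank (R ⧸ x.asIdeal)
      ((M ⧸ (x.asIdeal • ⊤ : Submodule R M)) ⧸ Bq R M x) := by
    intro x
    obtain ⟨f, g, hgf⟩ := hM x.asIdeal
    rw [zero_add]
    exact finrank_ge_of_local_summand x (d + 1) f g hgf
  obtain ⟨t, F', -, -, hb, hc⟩ := serre_prop (R := R) (M := M) 0 (fun i => i.elim0) ∅
    isClosed_empty 0 (fun i => i.elim0) (fun i => i.elim0) (fun i => i.elim0)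
    (fun i => i.elim0) (d + 1) hrank
    (fun x hx => absurd (linearIndependent_empty_type) hx)
  have hF'empty : F' = ∅ := by
    by_contra hne
    obtain ⟨x, hx⟩ := Set.nonempty_iff_ne_empty.mpr hne
    let Z : IrreducibleCloseds (MaximalSpectrum R) :=
      ⟨{x}, isIrreducible_singleton, isClosed_singleton⟩
    have h1 := hc Z (Set.singleton_subset_iff.mpr hx)
    have h2 : (Order.coheight Z : WithBot ℕ∞) ≤ (d : WithBot ℕ∞) :=
      (Order.coheight_le_krullDim Z).trans hdim
    have h2' : Order.coheight Z ≤ (d : ℕ∞) := by exact_mod_cast h2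
    have h3 : ((d + 1 : ℕ) : ℕ∞) ≤ (d : ℕ∞) := h1.trans h2'
    have h4 : d + 1 ≤ d := by exact_mod_cast h3
    omega
  have hne : ∀ x : MaximalSpectrum R, ∃ φ : M →ₗ[R] R, φ t ∉ x.asIdeal := by
    intro x
    letI : Field (R ⧸ x.asIdeal) := Ideal.Quotient.field x.asIdeal
    have hli : LinearIndependent (R ⧸ x.asIdeal)
        (Fin.snoc (fun i : Fin 0 => img R M x (i.elim0 : M)) (img R M x t)) := by
      by_contra hcon
      have := hb x hcon
      rw [hF'empty] at this
      simpa using this
    have h0 := hli.ne_zero (Fin.last 0)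
    rw [Fin.snoc_last] at h0
    by_contra hall
    push_neg at hall
    exact h0 ((img_eq_zero_iff x t).mpr hall)
  let O : Ideal R := LinearMap.range (LinearMap.applyₗ t : Module.Dual R M →ₗ[R] R)
  have hO : O = ⊤ := by
    by_contra hne'
    obtain ⟨m, hm, hOm⟩ := Ideal.exists_le_maximal O hne'
    obtain ⟨φ, hφ⟩ := hne ⟨m, hm⟩
    exact hφ (hOm ⟨φ, rfl⟩)
  have h1 : (1 : R) ∈ O := by rw [hO]; trivial
  obtain ⟨ψ, hψ⟩ := h1
  exact ⟨t, ψ, hψ⟩

end Groth.Agent.Lib.Helper25.EE
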