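import Mathlib
import Groth.Agent.Lib.Helper25EESpec

/-!
# Serre splitting and Bass cancellation for projective modules over Noetherian rings
-/

set_option autoImplicit false

universe u

namespace Groth.Agent.Lib.Helper25.EE

open Module Submodule

section Split

variable {R : Type u} [CommRing R]

/-- Splitting off a unimodular element. -/
noncomputable def splitEquiv {P : Type*} [AddCommGroup P] [Module R P] (q : P) (ψ : P →ₗ[R] R)
    (h : ψ q = 1) : P ≃ₗ[R] (LinearMap.ker ψ × R) :=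
  LinearEquiv.ofLinear
    (LinearMap.prod
      (LinearMap.codRestrict (LinearMap.ker ψ) (LinearMap.id - (LinearMap.toSpanSingleton R P q) ∘ₗ ψ)
        (fun x => by simp [h]))
      ψ)
    (LinearMap.coprod (LinearMap.ker ψ).subtype (LinearMap.toSpanSingleton R P q))
    (by
      ext x
      · simp
      · simp
      · simp [h]
      · simp [h])
    (by
      ext x
      simp)

lemma serre_unimodular [IsNoetherianRing R] (d : ℕ) (hdim : ringKrullDim R ≤ d)
    (P : Type*) [AddCommGroup P] [Module R P] [Module.Finite R P] [Module.Projective R P]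
    (hrk : ∀ 𝔭 : PrimeSpectrum R, d + 1 ≤ Module.rankAtStalk P 𝔭) :
    ∃ (q : P) (ψ : P →ₗ[R] R), ψ q = 1 := by
  obtain ⟨q, ψ, h⟩ := exists_unimodular_add_smul d hdim hrk (0 : P) (1 : R) 0 1 (by simp)
  exact ⟨q, ψ, by simpa using h⟩

theorem exists_equiv_prod_free [IsNoetherianRing R] [Nontrivial R] (d : ℕ)
    (hdim : ringKrullDim R ≤ d) :
    ∀ (j : ℕ) (P : Type u) [AddCommGroup P] [Module R P] [Module.Finite R P]
      [Module.Projective R P],
      (∀ 𝔭 : PrimeSpectrum R, Module.rankAtStalk P 𝔭 = d + j) →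
      ∃ (P₀ : Type u) (_ : AddCommGroup P₀) (_ : Module R P₀),
        Nonempty (P ≃ₗ[R] (P₀ × (Fin j → R))) := by
  intro j
  induction j with
  | zero =>
    intro P _ _ _ _ _
    exact ⟨P, inferInstance, inferInstance, ⟨(LinearEquiv.prodUnique).symm⟩⟩
  | succ j ih =>
    intro P _ _ _ _ hrk
    obtain ⟨q, ψ, hψ⟩ := serre_unimodular d hdim P (fun 𝔭 => by rw [hrk 𝔭]; omega)
    let e := splitEquiv q ψ hψ
    haveI : Module.Finite R (LinearMap.ker ψ) :=
      Module.Finite.of_surjective ((LinearMap.fst R (LinearMap.ker ψ) R) ∘ₗ e.toLinearMap)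
        (fun k => ⟨e.symm (k, 0), by simp⟩)
    haveI : Module.Projective R (LinearMap.ker ψ) :=
      Module.Projective.of_split (LinearMap.ker ψ).subtype
        ((LinearMap.fst R (LinearMap.ker ψ) R) ∘ₗ e.toLinearMap) (by
          ext x
          have hx : ψ x = 0 := x.2
          simp [e, splitEquiv, hx])
    have hrkK : ∀ 𝔭 : PrimeSpectrum R, Module.rankAtStalk (LinearMap.ker ψ) 𝔭 = d + j := by
      intro 𝔭
      have h1 := congrFun (Module.rankAtStalk_eq_of_equiv e) 𝔭
      rw [Module.rankAtStalk_prod, Pi.add_apply, Module.rankAtStalk_self, hrk 𝔭] at h1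
      simp only [Pi.one_apply] at h1
      omega
    obtain ⟨P₀, _, _, ⟨e₀⟩⟩ := ih (LinearMap.ker ψ) hrkK
    refine ⟨P₀, inferInstance, inferInstance, ⟨?_⟩⟩
    -- P ≃ K × R ≃ (P₀ × F) × R ≃ P₀ × (F × R) ≃ P₀ × (R × F) ≃ P₀ × (Fin (j+1) → R)
    refine e ≪≫ₗ (LinearEquiv.prodCongr e₀ (LinearEquiv.refl R R)) ≪≫ₗ
      (LinearEquiv.prodAssoc R P₀ (Fin j → R) R) ≪≫ₗ
      (LinearEquiv.prodCongr (LinearEquiv.refl R P₀) ?_)
    exact (LinearEquiv.prodComm R (Fin j → R) R) ≪≫ₗ
      (Fin.consLinearEquiv R (fun _ : Fin (j + 1) => R))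

end Split


section Cancel

variable {R : Type*} [CommRing R] {A A' : Type*} [AddCommGroup A] [Module R A]
  [AddCommGroup A'] [Module R A']

/-- `(x, r) ↦ (x + r • q, r)` -/
def shearL (q : A) : (A × R) ≃ₗ[R] (A × R) :=
  LinearEquiv.ofLinear
    (LinearMap.prod (LinearMap.coprod LinearMap.id (LinearMap.toSpanSingleton R A q))
      (LinearMap.snd R A R))
    (LinearMap.prod (LinearMap.coprod LinearMap.id (LinearMap.toSpanSingleton R A (-q)))
      (LinearMap.snd R A R))
    (by ext <;> simp)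
    (by ext <;> simp)

@[simp] lemma shearL_apply (q : A) (x : A) (r : R) : shearL q (x, r) = (x + r • q, r) := by
  simp [shearL]

/-- `(x, r) ↦ (x, r + l x)` -/
def shearR (l : A →ₗ[R] R) : (A × R) ≃ₗ[R] (A × R) :=
  LinearEquiv.ofLinear
    (LinearMap.prod (LinearMap.fst R A R) (LinearMap.coprod l LinearMap.id))
    (LinearMap.prod (LinearMap.fst R A R) (LinearMap.coprod (-l) LinearMap.id))
    (by ext <;> simp)
    (by ext <;> simp)

@[simp] lemma shearR_apply (l : A →ₗ[R] R) (x : A) (r : R) :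
    shearR l (x, r) = (x, l x + r) := by
  simp [shearR]

/-- An isomorphism `A × R ≃ A' × R` fixing `(0, 1)` induces `A ≃ A'`. -/
def equivOfFix (e : (A × R) ≃ₗ[R] (A' × R)) (h : e (0, 1) = (0, 1)) : A ≃ₗ[R] A' :=
  have h' : e.symm (0, 1) = (0, 1) := by rw [← h, e.symm_apply_apply]
  LinearEquiv.ofLinear
    ((LinearMap.fst R A' R) ∘ₗ e.toLinearMap ∘ₗ (LinearMap.inl R A R))
    ((LinearMap.fst R A R) ∘ₗ e.symm.toLinearMap ∘ₗ (LinearMap.inl R A' R))
    (by
      ext y
      simp only [LinearMap.coe_comp, LinearEquiv.coe_coe, Function.comp_apply, LinearMap.inl_apply,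
        LinearMap.fst_apply, LinearMap.id_coe, id_eq]
      have h1 : e.symm (y, 0) = ((e.symm (y, 0)).1, 0) + (e.symm (y, 0)).2 • ((0 : A), (1 : R)) := by
        ext <;> simp
      have h2 := congrArg e h1
      rw [e.apply_symm_apply, map_add, map_smul, h] at h2
      have h3 := congrArg Prod.fst h2
      simp only [Prod.fst_add, Prod.smul_fst, smul_zero, add_zero] at h3
      exact h3.symm)
    (by
      ext x
      simp only [LinearMap.coe_comp, LinearEquiv.coe_coe, Function.comp_apply, LinearMap.inl_apply,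
        LinearMap.fst_apply, LinearMap.id_coe, id_eq]
      have h1 : e (x, 0) = ((e (x, 0)).1, 0) + (e (x, 0)).2 • ((0 : A'), (1 : R)) := by
        ext <;> simp
      have h2 := congrArg e.symm h1
      rw [e.symm_apply_apply, map_add, map_smul, h'] at h2
      have h3 := congrArg Prod.fst h2
      simp only [Prod.fst_add, Prod.smul_fst, smul_zero, add_zero] at h3
      exact h3.symm)

/-- Cancellation of one free summand of rank one. -/
theorem cancel_one [IsNoetherianRing R] (d : ℕ) (hdim : ringKrullDim R ≤ d)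
    [Module.Finite R A] [Module.Projective R A]
    (hrk : ∀ 𝔭 : PrimeSpectrum R, d + 1 ≤ Module.rankAtStalk A 𝔭)
    (e : (A × R) ≃ₗ[R] (A' × R)) : Nonempty (A ≃ₗ[R] A') := by
  set pa := e.symm (0, 1) with hpa
  set p : A := pa.1 with hp
  set a : R := pa.2 with ha
  let φ : A →ₗ[R] R := (LinearMap.snd R A' R) ∘ₗ e.toLinearMap ∘ₗ (LinearMap.inl R A R)
  let ρ : R := (e (0, 1)).2
  have hunim : φ p + ρ * a = 1 := by
    have h1 : pa = (p, 0) + a • ((0 : A), (1 : R)) := by
      ext <;> simp [hp, ha]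
    have h2 := congrArg e h1
    rw [hpa, e.apply_symm_apply, map_add, map_smul] at h2
    have h3 := congrArg Prod.snd h2
    simp only [Prod.snd_add, Prod.smul_snd, smul_eq_mul] at h3
    rw [mul_comm ρ a]
    exact h3.symm
  obtain ⟨q, ψ, hψ⟩ := exists_unimodular_add_smul d hdim hrk p a φ ρ hunim
  set p' := p + a • q with hp'
  let σ : (A × R) ≃ₗ[R] (A × R) := (shearL q) ≪≫ₗ (shearR ((1 - a) • ψ)) ≪≫ₗ (shearL (-p'))
  have hσ : σ pa = (0, 1) := by
    have : pa = (p, a) := rfl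
    rw [this]
    simp only [σ, LinearEquiv.trans_apply, shearL_apply, shearR_apply, LinearMap.smul_apply,
      ← hp', hψ, smul_eq_mul, mul_one]
    ext <;> simp
  let e' : (A × R) ≃ₗ[R] (A' × R) := σ.symm ≪≫ₗ e
  have he' : e' (0, 1) = (0, 1) := by
    simp only [e', LinearEquiv.trans_apply]
    rw [← hσ, σ.symm_apply_apply, hpa, e.apply_symm_apply]
  exact ⟨equivOfFix e' he'⟩


/-- `(X × R^(m+1)) ≃ (X × R^m) × R` -/
def prodPiSuccEquiv (X : Type*) [AddCommGroup X] [Module R X] (m : ℕ) :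
    (X × (Fin (m + 1) → R)) ≃ₗ[R] ((X × (Fin m → R)) × R) :=
  (LinearEquiv.prodCongr (LinearEquiv.refl R X)
    ((Fin.consLinearEquiv R (fun _ : Fin (m + 1) => R)).symm ≪≫ₗ
      (LinearEquiv.prodComm R R (Fin m → R)))) ≪≫ₗ
    (LinearEquiv.prodAssoc R X (Fin m → R) R).symm

/-- Bass cancellation: cancel `R^m`. -/
theorem cancel_free [IsNoetherianRing R] (d : ℕ) (hdim : ringKrullDim R ≤ d)
    [Module.Finite R A] [Module.Projective R A]
    (hrk : ∀ 𝔭 : PrimeSpectrum R, d + 1 ≤ Module.rankAtStalk A 𝔭) :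
    ∀ (m : ℕ), ((A × (Fin m → R)) ≃ₗ[R] (A' × (Fin m → R))) → Nonempty (A ≃ₗ[R] A') := by
  intro m
  induction m with
  | zero =>
    intro e
    exact ⟨(LinearEquiv.prodUnique (R := R) (M := A) (M₂ := Fin 0 → R)).symm ≪≫ₗ e ≪≫ₗ
      (LinearEquiv.prodUnique (R := R) (M := A') (M₂ := Fin 0 → R))⟩
  | succ m ih =>
    intro e
    let e1 := prodPiSuccEquiv (R := R) A m
    let e2 := prodPiSuccEquiv (R := R) A' m
    have hrk' : ∀ 𝔭 : PrimeSpectrum R, d + 1 ≤ Module.rankAtStalk (A × (Fin m → R)) 𝔭 := by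
      intro 𝔭
      rw [Module.rankAtStalk_prod, Pi.add_apply]
      exact le_trans (hrk 𝔭) (Nat.le_add_right _ _)
    obtain ⟨e3⟩ := cancel_one d hdim hrk' (e1.symm ≪≫ₗ e ≪≫ₗ e2)
    exact ih e3


/-- Bass cancellation: cancel a finite free module. -/
theorem cancel_finite_free [IsNoetherianRing R] [Nontrivial R] (d : ℕ) (hdim : ringKrullDim R ≤ d)
    [Module.Finite R A] [Module.Projective R A]
    (hrk : ∀ 𝔭 : PrimeSpectrum R, d + 1 ≤ Module.rankAtStalk A 𝔭)
    (F : Type*) [AddCommGroup F] [Module R F] [Module.Free R F] [Module.Finite R F]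
    (e : (A × F) ≃ₗ[R] (A' × F)) : Nonempty (A ≃ₗ[R] A') := by
  let b := (Module.finBasis R F).equivFun
  exact cancel_free d hdim hrk (Module.finrank R F)
    ((LinearEquiv.prodCongr (LinearEquiv.refl R A) b.symm) ≪≫ₗ e ≪≫ₗ
      (LinearEquiv.prodCongr (LinearEquiv.refl R A') b))

/-- `(ι → X × F) ≃ (ι → X) × (ι → F)` -/
def piProdEquiv (ι X F : Type*) [AddCommGroup X] [Module R X] [AddCommGroup F] [Module R F] :
    (ι → X × F) ≃ₗ[R] ((ι → X) × (ι → F)) where
  toFun f := (fun i => (f i).1, fun i => (f i).2)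
  invFun g := fun i => (g.1 i, g.2 i)
  map_add' _ _ := rfl
  map_smul' _ _ := rfl
  left_inv _ := rfl
  right_inv _ := rfl

instance projective_pi_fin (N : ℕ) (X : Type*) [AddCommGroup X] [Module R X]
    [Module.Projective R X] : Module.Projective R (Fin N → X) :=
  Module.Projective.of_equiv (DFinsupp.linearEquivFunOnFintype (R := R) (M := fun _ : Fin N => X))

/-- stably isomorphic ⇒ some power is isomorphic -/
theorem exists_pow_equiv [IsNoetherianRing R] [Nontrivial R] (d n : ℕ) (hdim : ringKrullDim R ≤ d)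
    [Module.Finite R A] [Module.Projective R A] [Module.Finite R A'] [Module.Projective R A']
    (hrk : ∀ 𝔭 : PrimeSpectrum R, Module.rankAtStalk A 𝔭 = n)
    (hrk' : ∀ 𝔭 : PrimeSpectrum R, Module.rankAtStalk A' 𝔭 = n)
    (m : ℕ) (e : (A × (Fin m → R)) ≃ₗ[R] (A' × (Fin m → R))) :
    ∃ N : ℕ, 1 ≤ N ∧ Nonempty ((Fin N → A) ≃ₗ[R] (Fin N → A')) := by
  rcases Nat.eq_zero_or_pos n with hn | hn
  · subst hn
    have h1 : Subsingleton A := by
      rw [← Module.rankAtStalk_eq_zero_iff_subsingleton (R := R)]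
      ext 𝔭; exact hrk 𝔭
    have h2 : Subsingleton A' := by
      rw [← Module.rankAtStalk_eq_zero_iff_subsingleton (R := R)]
      ext 𝔭; exact hrk' 𝔭
    exact ⟨1, le_rfl, ⟨LinearEquiv.ofSubsingleton _ _⟩⟩
  · refine ⟨d + 1, by omega, ?_⟩
    have hrkN : ∀ 𝔭 : PrimeSpectrum R, d + 1 ≤ Module.rankAtStalk (Fin (d + 1) → A) 𝔭 := by
      intro 𝔭
      rw [Module.rankAtStalk_pi, finsum_eq_sum_of_fintype]
      simp only [hrk 𝔭, Finset.sum_const, Finset.card_univ, Fintype.card_fin, smul_eq_mul]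
      nlinarith
    apply cancel_finite_free d hdim hrkN (Fin (d + 1) → Fin m → R)
    exact (piProdEquiv (R := R) (Fin (d + 1)) A (Fin m → R)).symm ≪≫ₗ
      (LinearEquiv.piCongrRight fun _ => e) ≪≫ₗ
      (piProdEquiv (R := R) (Fin (d + 1)) A' (Fin m → R))

end Cancel

end Groth.Agent.Lib.Helper25.EE
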