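import Groth.Statements.S15411
import Groth.Agent.Lib.Helper25BCComod
import Mathlib.LinearAlgebra.TensorProduct.Basis
import Mathlib.LinearAlgebra.Basis.VectorSpace
import Mathlib.RingTheory.Flat.FaithfullyFlat.Basic
import Mathlib.RingTheory.Bialgebra.Equiv
import Mathlib.RingTheory.Bialgebra.TensorProduct

/-!
# Helper25EqDesc: descent of bialgebra isomorphisms along a finite equalizer system over a field

`Sys`, `scalar_ext`, `repr_map`, `elem_ext`, `exists_elem`, `exists_nontrivial`, `one_tmul_smul`,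
`tmul_eq_smul_one_tmul`, `one_tmul_eq_of_bcMapG_eq`, `v0`, `vAlg`, `vAlg_spec`, `u_eq_baseChange`,
`vAlg_bijective`, `counit_vAlg`, `comul_vAlg`, `vBialg`, `vEquiv`, `existsUnique_descent`.
-/

set_option autoImplicit false
universe u
open scoped TensorProduct

namespace Groth.Agent.Lib.Helper25.EqDesc

/-- A finite equalizer system of algebras over a field. -/
structure Sys (K : Type u) [Field K] where
  ιv : Type u
  ιe : Type u
  finv : Finite ιv
  fine : Finite ιe
  Kv : ιv → Type u
  cv : ∀ i, CommRing (Kv i)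
  av : ∀ i, Algebra K (Kv i)
  Ke : ιe → Type u
  ce : ∀ k, CommRing (Ke k)
  ae : ∀ k, Algebra K (Ke k)
  l : ιe → ιv
  r : ιe → ιv
  ρl : ∀ k, Kv (l k) →ₐ[K] Ke k
  ρr : ∀ k, Kv (r k) →ₐ[K] Ke k
  hlim : ∀ x : (∀ i, Kv i), (∀ k, ρl k (x (l k)) = ρr k (x (r k))) →
      ∃! a : K, ∀ i, algebraMap K (Kv i) a = x i

attribute [instance] Sys.finv Sys.fine Sys.cv Sys.av Sys.ce Sys.ae

section Elements

variable {K : Type u} [Field K] (S : Sys K) {M : Type u} [AddCommGroup M] [Module K M]

/-- Scalars are determined by their images in all vertices. -/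
theorem scalar_ext {a a' : K} (h : ∀ i, algebraMap K (S.Kv i) a = algebraMap K (S.Kv i) a') :
    a = a' := by
  obtain ⟨c, -, hc⟩ := S.hlim (fun i => algebraMap K (S.Kv i) a') (by
    intro k
    rw [AlgHom.commutes, AlgHom.commutes])
  rw [hc a h, hc a' (fun _ => rfl)]

/-- Coordinates commute with change of scalars. -/
theorem repr_map {ι : Type*} (b : Module.Basis ι K M) {T T' : Type u} [CommRing T] [Algebra K T]
    [CommRing T'] [Algebra K T'] (ρ : T →ₐ[K] T') (y : T ⊗[K] M) (j : ι) :
    (b.baseChange T').repr (TensorProduct.map ρ.toLinearMap LinearMap.id y) j =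
      ρ ((b.baseChange T).repr y j) := by
  induction y using TensorProduct.induction_on with
  | zero => simp
  | tmul t m =>
    rw [TensorProduct.map_tmul, Module.Basis.baseChange_repr_tmul,
      Module.Basis.baseChange_repr_tmul, map_smul]
    rfl
  | add y y' hy hy' =>
    rw [map_add, map_add, Finsupp.add_apply, hy, hy', map_add, Finsupp.add_apply, map_add]

/-- Elements of a vector space are determined by their images in all vertices. -/
theorem elem_ext {m m' : M} (h : ∀ i, (1 : S.Kv i) ⊗ₜ[K] m = (1 : S.Kv i) ⊗ₜ[K] m') : m = m' := by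
  let b := Module.Free.chooseBasis K M
  apply b.repr.injective
  apply Finsupp.ext
  intro j
  apply scalar_ext S
  intro i
  have h1 := congrArg (fun y => (b.baseChange (S.Kv i)).repr y j) (h i)
  simp only [Module.Basis.baseChange_repr_tmul] at h1
  rw [Algebra.algebraMap_eq_smul_one, Algebra.algebraMap_eq_smul_one]
  exact h1

/-- Descent of elements: a compatible family of elements of the `Kv i ⊗ M` comes from a unique
element of `M`. -/
theorem exists_elem (y : ∀ i, S.Kv i ⊗[K] M)
    (hy : ∀ k, TensorProduct.map (S.ρl k).toLinearMap LinearMap.id (y (S.l k)) =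
      TensorProduct.map (S.ρr k).toLinearMap LinearMap.id (y (S.r k))) :
    ∃ m : M, ∀ i, (1 : S.Kv i) ⊗ₜ[K] m = y i := by
  classical
  let b := Module.Free.chooseBasis K M
  have hc : ∀ j, ∃! a : K, ∀ i, algebraMap K (S.Kv i) a = (b.baseChange (S.Kv i)).repr (y i) j := by
    intro j
    apply S.hlim
    intro k
    rw [← repr_map b (S.ρl k), ← repr_map b (S.ρr k), hy k]
  choose α hα hαu using hc
  haveI : Fintype S.ιv := Fintype.ofFinite _
  have hsupp : ∀ j, α j ≠ 0 →
      j ∈ (Finset.univ : Finset S.ιv).biUnion (fun i => ((b.baseChange (S.Kv i)).repr (y i)).support) := by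
    intro j hj
    by_contra hn
    apply hj
    apply scalar_ext S
    intro i
    rw [hα j i, map_zero]
    by_contra hne
    apply hn
    rw [Finset.mem_biUnion]
    exact ⟨i, Finset.mem_univ i, Finsupp.mem_support_iff.mpr hne⟩
  let a : _ →₀ K := Finsupp.onFinset _ α hsupp
  refine ⟨b.repr.symm a, fun i => ?_⟩
  apply (b.baseChange (S.Kv i)).repr.injective
  apply Finsupp.ext
  intro j
  rw [Module.Basis.baseChange_repr_tmul, LinearEquiv.apply_symm_apply, Finsupp.onFinset_apply,
    ← hα j i, Algebra.algebraMap_eq_smul_one]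

/-- Some vertex is a nontrivial ring. -/
theorem exists_nontrivial : ∃ i, Nontrivial (S.Kv i) := by
  by_contra h
  have h2 : ∀ i, Subsingleton (S.Kv i) := fun i => not_nontrivial_iff_subsingleton.mp
    (fun hn => h ⟨i, hn⟩)
  have : (0 : K) = 1 := scalar_ext S (fun i => Subsingleton.elim _ _)
  exact zero_ne_one this

end Elements

section Aux

variable {K : Type u} [Field K] {T : Type u} [CommRing T] [Algebra K T]
variable {M : Type u} [AddCommGroup M] [Module K M]

theorem one_tmul_smul (c : K) (m : M) :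
    (1 : T) ⊗ₜ[K] (c • m) = (algebraMap K T c) • ((1 : T) ⊗ₜ[K] m) := by
  rw [algebraMap_smul, TensorProduct.tmul_smul]

theorem tmul_eq_smul_one_tmul (t : T) (m : M) :
    t ⊗ₜ[K] m = t • ((1 : T) ⊗ₜ[K] m) := by
  rw [TensorProduct.smul_tmul', smul_eq_mul, mul_one]

variable (A B : Type u) [AddCommGroup A] [Module K A] [AddCommGroup B] [Module K B]

/-- `bcMapG` detects equality after `1 ⊗ -`. -/
theorem one_tmul_eq_of_bcMapG_eq {z z' : B ⊗[K] A}
    (h : bcMapG K T A B z = bcMapG K T A B z') :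
    (1 : T) ⊗ₜ[K] z = (1 : T) ⊗ₜ[K] z' := by
  unfold bcMapG at h
  rw [LinearMap.comp_apply, LinearMap.comp_apply] at h
  have h2 := (TensorProduct.AlgebraTensorModule.tensorTensorTensorComm K T K T T T B A).injective h
  rw [TensorProduct.mk_apply, TensorProduct.mk_apply] at h2
  have h3 := congrArg (LinearMap.rTensor (B ⊗[K] A)
    ((TensorProduct.lid T T).toLinearMap.restrictScalars K)) h2
  rw [LinearMap.rTensor_tmul, LinearMap.rTensor_tmul] at h3
  simpa using h3

end Aux

section Main

variable {K : Type u} [Field K] (S : Sys K) {A B : Type u} [CommRing A] [CommRing B]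
  [Bialgebra K A] [Bialgebra K B]
  (u : ∀ i, (S.Kv i ⊗[K] B) ≃ₐc[S.Kv i] (S.Kv i ⊗[K] A))
  (hu : ∀ (k : S.ιe) (b : B),
      Algebra.TensorProduct.map (S.ρl k) (AlgHom.id K A) (u (S.l k) (1 ⊗ₜ[K] b)) =
        Algebra.TensorProduct.map (S.ρr k) (AlgHom.id K A) (u (S.r k) (1 ⊗ₜ[K] b)))

include hu in
theorem exists_v0 (b : B) : ∃ a : A, ∀ i, (1 : S.Kv i) ⊗ₜ[K] a = u i (1 ⊗ₜ[K] b) := by
  apply exists_elem S (fun i => u i (1 ⊗ₜ[K] b))
  intro k
  exact hu k b

/-- The descended map on elements. -/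
noncomputable def v0 (b : B) : A := Classical.choose (exists_v0 S u hu b)

theorem v0_spec (i : S.ιv) (b : B) : (1 : S.Kv i) ⊗ₜ[K] v0 S u hu b = u i (1 ⊗ₜ[K] b) :=
  Classical.choose_spec (exists_v0 S u hu b) i

/-- The descended algebra map. -/
noncomputable def vAlg : B →ₐ[K] A :=
  AlgHom.ofLinearMap
    { toFun := v0 S u hu
      map_add' := by
        intro b b'
        apply elem_ext S
        intro i
        rw [v0_spec, TensorProduct.tmul_add, map_add, TensorProduct.tmul_add, v0_spec, v0_spec]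
      map_smul' := by
        intro c b
        apply elem_ext S
        intro i
        rw [RingHom.id_apply, v0_spec, one_tmul_smul, map_smul, ← v0_spec S u hu, one_tmul_smul] }
    (by
      apply elem_ext S
      intro i
      change (1 : S.Kv i) ⊗ₜ[K] v0 S u hu 1 = _
      rw [v0_spec, ← Algebra.TensorProduct.one_def, map_one, Algebra.TensorProduct.one_def])
    (by
      intro b b'
      apply elem_ext S
      intro i
      change (1 : S.Kv i) ⊗ₜ[K] v0 S u hu (b * b') = (1 : S.Kv i) ⊗ₜ[K] (v0 S u hu b * v0 S u hu b')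
      have e : ∀ x y : B, (1 : S.Kv i) ⊗ₜ[K] (x * y) = ((1 : S.Kv i) ⊗ₜ[K] x) * ((1 : S.Kv i) ⊗ₜ[K] y) := by
        intro x y
        rw [Algebra.TensorProduct.tmul_mul_tmul, _root_.mul_one]
      have e' : ∀ x y : A, (1 : S.Kv i) ⊗ₜ[K] (x * y) = ((1 : S.Kv i) ⊗ₜ[K] x) * ((1 : S.Kv i) ⊗ₜ[K] y) := by
        intro x y
        rw [Algebra.TensorProduct.tmul_mul_tmul, _root_.mul_one]
      rw [v0_spec, e, map_mul, e', v0_spec, v0_spec])

theorem vAlg_spec (i : S.ιv) (b : B) : (1 : S.Kv i) ⊗ₜ[K] vAlg S u hu b = u i (1 ⊗ₜ[K] b) :=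
  v0_spec S u hu i b

theorem u_eq_baseChange (i : S.ιv) (x : S.Kv i ⊗[K] B) :
    u i x = (vAlg S u hu).toLinearMap.baseChange (S.Kv i) x := by
  induction x using TensorProduct.induction_on with
  | zero => simp
  | add x y hx hy => rw [map_add, map_add, hx, hy]
  | tmul t b =>
    rw [LinearMap.baseChange_tmul, tmul_eq_smul_one_tmul, map_smul, ← vAlg_spec S u hu,
      ← tmul_eq_smul_one_tmul]
    rfl

theorem vAlg_bijective : Function.Bijective (vAlg S u hu) := by
  obtain ⟨i, hi⟩ := exists_nontrivial S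
  have h1 : Function.Bijective ((vAlg S u hu).toLinearMap.lTensor (S.Kv i)) := by
    have : ⇑((vAlg S u hu).toLinearMap.lTensor (S.Kv i)) = ⇑(u i) := by
      funext x
      rw [u_eq_baseChange S u hu i x, LinearMap.baseChange_eq_ltensor]
    rw [this]
    exact (u i).bijective
  exact (Module.FaithfullyFlat.lTensor_bijective_iff_bijective K (S.Kv i) _).mp h1

theorem counit_vAlg (b : B) :
    Coalgebra.counit (R := K) (vAlg S u hu b) = Coalgebra.counit (R := K) b := by
  apply scalar_ext S
  intro i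
  have e : ∀ (C : Type u) [CommRing C] [Bialgebra K C] (c : C),
      algebraMap K (S.Kv i) (Coalgebra.counit (R := K) c) =
        Coalgebra.counit (R := S.Kv i) ((1 : S.Kv i) ⊗ₜ[K] c) := by
    intro C _ _ c
    rw [TensorProduct.counit_tmul, Algebra.algebraMap_eq_smul_one]
    congr 1
  rw [e, e, vAlg_spec]
  exact CoalgHomClass.counit_comp_apply (u i) _

theorem comul_vAlg (b : B) :
    Coalgebra.comul (R := K) (vAlg S u hu b) =
      TensorProduct.map (vAlg S u hu).toLinearMap (vAlg S u hu).toLinearMap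
        (Coalgebra.comul (R := K) b) := by
  apply elem_ext S
  intro i
  apply one_tmul_eq_of_bcMapG_eq
  rw [← comul_one_tmul', vAlg_spec]
  have h1 := CoalgHomClass.map_comp_comul_apply (u i) ((1 : S.Kv i) ⊗ₜ[K] b)
  rw [← h1, comul_one_tmul']
  generalize Coalgebra.comul (R := K) b = z
  induction z using TensorProduct.induction_on with
  | zero => simp
  | add x y hx hy => rw [map_add, map_add, map_add, map_add, hx, hy]
  | tmul b1 b2 =>
    rw [bcMapG_tmul, TensorProduct.map_tmul, TensorProduct.map_tmul, bcMapG_tmul]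
    change u i _ ⊗ₜ[S.Kv i] u i _ = _
    rw [← vAlg_spec S u hu, ← vAlg_spec S u hu]
    rfl

end Main

section Main

variable {K : Type u} [Field K] (S : Sys K) {A B : Type u} [CommRing A] [CommRing B]
  [Bialgebra K A] [Bialgebra K B]
  (u : ∀ i, (S.Kv i ⊗[K] B) ≃ₐc[S.Kv i] (S.Kv i ⊗[K] A))
  (hu : ∀ (k : S.ιe) (b : B),
      Algebra.TensorProduct.map (S.ρl k) (AlgHom.id K A) (u (S.l k) (1 ⊗ₜ[K] b)) =
        Algebra.TensorProduct.map (S.ρr k) (AlgHom.id K A) (u (S.r k) (1 ⊗ₜ[K] b)))

/-- The descended bialgebra map. -/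
noncomputable def vBialg : B →ₐc[K] A :=
  BialgHom.ofAlgHom (vAlg S u hu)
    (by
      apply AlgHom.ext
      intro b
      exact counit_vAlg S u hu b)
    (by
      apply AlgHom.ext
      intro b
      exact (comul_vAlg S u hu b).symm)

theorem vBialg_apply (b : B) : vBialg S u hu b = vAlg S u hu b := rfl

/-- The descended bialgebra isomorphism. -/
noncomputable def vEquiv : B ≃ₐc[K] A :=
  BialgEquiv.ofBijective (vBialg S u hu) (vAlg_bijective S u hu)

theorem vEquiv_apply (b : B) : vEquiv S u hu b = vAlg S u hu b := rfl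

include hu in
theorem existsUnique_descent :
    ∃! v : B ≃ₐc[K] A, ∀ (i : S.ιv) (b : B), u i (1 ⊗ₜ[K] b) = 1 ⊗ₜ[K] v b := by
  refine ⟨vEquiv S u hu, fun i b => ?_, fun v' hv' => ?_⟩
  · rw [vEquiv_apply, vAlg_spec]
  · apply BialgEquiv.ext
    intro b
    apply elem_ext S
    intro i
    rw [← hv' i b, vEquiv_apply, vAlg_spec]

end Main

end Groth.Agent.Lib.Helper25.EqDesc
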