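import Groth.Agent.Lib.Helper25SubAlgComod
import Groth.Agent.Lib.Helper25DiagSS
import Groth.Agent.Lib.Helper25CartierHopf
import Mathlib

/-!
# Equivariant Zariski's main theorem (helper25)
-/

set_option autoImplicit false
set_option linter.unusedSectionVars false
universe u
open TensorProduct HopfRep

namespace Groth.Agent.Lib.Helper25.EqZMT

open Groth.Agent.Lib.Helper25 Groth.Agent.Lib.Helper25.SubAlg

section Stable
variable {k : Type u} [Field k] {A : Type u} [CommRing A] [HopfAlgebra k A]
  {S : Type u} [CommRing S] [Algebra k S] [HopfRep.Comod k A S] [GLin.IsCoactAlg k A S]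
  {R : Type u} [CommRing R] [Algebra k R] [HopfRep.Comod k A R] [GLin.IsCoactAlg k A R]

theorem map_eq_rTensor (φ : S →ₐ[k] R) (z : S ⊗[k] A) :
    Algebra.TensorProduct.map φ (AlgHom.id k A) z = φ.toLinearMap.rTensor A z := by
  induction z using TensorProduct.induction_on with
  | zero => simp
  | add x y hx hy => simp only [map_add, hx, hy]
  | tmul r a => simp

theorem transAlg_map (φ : S →ₐ[k] R)
    (hequiv : ∀ s : S, Comod.coact (k := k) (A := A) (φ s) =
      Algebra.TensorProduct.map φ (AlgHom.id k A) (Comod.coact (k := k) (A := A) s))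
    (g : A →ₐ[k] k) (s : S) : transAlg g (φ s) = φ (transAlg g s) := by
  rw [transAlg_apply, transAlg_apply, T_apply, T_apply, hequiv, map_eq_rTensor, slice_rTensor]
  rfl

variable [Algebra S R] [IsScalarTower k S R]

theorem isIntegral_transAlg
    (hequiv : ∀ s : S, Comod.coact (k := k) (A := A) (algebraMap S R s) =
      Algebra.TensorProduct.map (IsScalarTower.toAlgHom k S R) (AlgHom.id k A)
        (Comod.coact (k := k) (A := A) s))
    (g : A →ₐ[k] k) {u : R} (hu : IsIntegral S u) : IsIntegral S (transAlg g u) := by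
  obtain ⟨p, hpm, hp⟩ := hu
  refine ⟨p.map ((transAlg g : S →ₐ[k] S) : S →+* S), hpm.map _, ?_⟩
  rw [Polynomial.eval₂_map]
  have hcomm : (algebraMap S R).comp ((transAlg g : S →ₐ[k] S) : S →+* S) =
      ((transAlg g : R →ₐ[k] R) : R →+* R).comp (algebraMap S R) := by
    apply RingHom.ext
    intro s
    exact (transAlg_map (IsScalarTower.toAlgHom k S R) hequiv g s).symm
  rw [hcomm]
  have h2 := Polynomial.hom_eval₂ p (algebraMap S R) ((transAlg g : R →ₐ[k] R) : R →+* R) u
  rw [hp, map_zero] at h2
  exact h2.symm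

theorem isSubcomod_integralClosure [IsAlgClosed k] [Algebra.FiniteType k A] [IsReduced A]
    (hequiv : ∀ s : S, Comod.coact (k := k) (A := A) (algebraMap S R s) =
      Algebra.TensorProduct.map (IsScalarTower.toAlgHom k S R) (AlgHom.id k A)
        (Comod.coact (k := k) (A := A) s)) :
    IsSubcomod (k := k) (A := A)
      (Subalgebra.toSubmodule ((integralClosure S R).restrictScalars k)) := by
  apply isSubcomod_of_forall_point_mem
  intro g u hu
  rw [← transAlg_apply]
  exact isIntegral_transAlg hequiv g hu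

end Stable

section ZMT
variable {S : Type u} [CommRing S] {R : Type u} [CommRing R] [Algebra S R]

theorem exists_finset_zmt [Algebra.FiniteType S R] [Algebra.QuasiFinite S R] :
    ∃ t : Finset R, Ideal.span (t : Set R) = ⊤ ∧
      ∀ r ∈ t, IsIntegral S r ∧ ∀ x : R, ∃ m : ℕ, IsIntegral S (r ^ m * x) := by
  let T : Set R := {r | IsIntegral S r ∧ ∀ x : R, ∃ m : ℕ, IsIntegral S (r ^ m * x)}
  have hT : Ideal.span T = ⊤ := by
    by_contra h
    obtain ⟨M, hM, hle⟩ := Ideal.exists_le_maximal _ h
    haveI := hM.isPrime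
    have h1 := Algebra.ZariskisMainProperty.of_finiteType (R := S) M
    rw [Algebra.zariskisMainProperty_iff] at h1
    obtain ⟨r, hrM, hr, hx⟩ := h1
    exact hrM (hle (Ideal.subset_span ⟨hr, hx⟩))
  obtain ⟨t, htT, ht⟩ := (Ideal.span_eq_top_iff_finite T).mp hT
  exact ⟨t, ht, fun r hr => htT hr⟩

end ZMT


section Main
variable {k : Type u} [Field k] [IsAlgClosed k] {A : Type u} [CommRing A] [HopfAlgebra k A]
  [Algebra.FiniteType k A] [IsReduced A]
  {S : Type u} [CommRing S] [Algebra k S] [Algebra.FiniteType k S]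
  [HopfRep.Comod k A S] [GLin.IsCoactAlg k A S]
  {R : Type u} [CommRing R] [Algebra k R] [Algebra.FiniteType k R]
  [HopfRep.Comod k A R] [GLin.IsCoactAlg k A R]
  [Algebra S R] [IsScalarTower k S R] [Algebra.QuasiFinite S R]

theorem exists_stable_subalgebra
    (hequiv : ∀ s : S, Comod.coact (k := k) (A := A) (algebraMap S R s) =
      Algebra.TensorProduct.map (IsScalarTower.toAlgHom k S R) (AlgHom.id k A)
        (Comod.coact (k := k) (A := A) s)) :
    ∃ (B : Subalgebra k R) (t : Finset R),
      (∀ b ∈ B, Comod.coact (k := k) (A := A) b ∈ (inclT (A := A) B).range) ∧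
      B.FG ∧ (∀ s : S, algebraMap S R s ∈ B) ∧ (∀ b ∈ B, IsIntegral S b) ∧
      Ideal.span (t : Set R) = ⊤ ∧ (∀ r ∈ t, r ∈ B) ∧
      (∀ r ∈ t, ∀ x : R, ∃ n : ℕ, r ^ n * x ∈ B) := by
  classical
  haveI : Algebra.FiniteType S R := Algebra.FiniteType.of_restrictScalars_finiteType k S R
  obtain ⟨t, ht, htprop⟩ := exists_finset_zmt (S := S) (R := R)
  obtain ⟨X, hX⟩ := (Algebra.FiniteType.out : (⊤ : Subalgebra k R).FG)
  choose! m hm using fun r (hr : r ∈ t) => (htprop r hr).2
  let F : Finset R := t ∪ (t ×ˢ X).image (fun p => p.1 ^ m p.1 p.2 * p.2)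
  have hFint : ∀ y ∈ F, IsIntegral S y := by
    intro y hy
    rcases Finset.mem_union.mp hy with hy | hy
    · exact (htprop y hy).1
    · obtain ⟨p, hp, rfl⟩ := Finset.mem_image.mp hy
      exact hm p.1 (Finset.mem_product.mp hp).1 p.2
  set Ī := Subalgebra.toSubmodule ((integralClosure S R).restrictScalars k) with hĪdef
  have hĪ : IsSubcomod (k := k) (A := A) Ī := isSubcomod_integralClosure hequiv
  have hU : Submodule.span k (F : Set R) ≤ Ī := Submodule.span_le.mpr (fun y hy => hFint y hy)
  obtain ⟨V, hVfg, hV, hUV, hVĪ⟩ := exists_fg_subcomod_between _ Ī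
    (Submodule.fg_span F.finite_toSet) hĪ hU
  set B := Algebra.adjoin k (Set.range (algebraMap S R) ∪ (V : Set R)) with hBdef
  have hSB : ∀ s : S, algebraMap S R s ∈ B := fun s => Algebra.subset_adjoin (Or.inl ⟨s, rfl⟩)
  have hVB : V ≤ Subalgebra.toSubmodule B := fun v hv => Algebra.subset_adjoin (Or.inr hv)
  have hFB : ∀ y ∈ F, y ∈ B := fun y hy => hVB (hUV (Submodule.subset_span hy))
  have htB : ∀ r ∈ t, r ∈ B := fun r hr => hFB r (Finset.mem_union_left _ hr)
  refine ⟨B, t, ?_, ?_, hSB, ?_, ht, htB, ?_⟩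
  · -- stability
    apply forall_mem_range_adjoin
    rintro x (⟨s, rfl⟩ | hx)
    · let ψ : S →ₐ[k] B := (IsScalarTower.toAlgHom k S R).codRestrict B hSB
      refine ⟨Algebra.TensorProduct.map ψ (AlgHom.id k A) (Comod.coact (k := k) (A := A) s), ?_⟩
      rw [hequiv s]
      change inclT (A := A) B (Algebra.TensorProduct.map ψ (AlgHom.id k A) _) = _
      generalize Comod.coact (k := k) (A := A) s = z
      induction z using TensorProduct.induction_on with
      | zero => simp
      | add x y hx hy => simp only [map_add, hx, hy]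
      | tmul r a => simp [ψ]
    · exact coact_mem_range_of_isSubcomod hV hVB hx
  · -- finite generation
    obtain ⟨F', hF'⟩ := hVfg
    obtain ⟨Y, hY⟩ := (Algebra.FiniteType.out : (⊤ : Subalgebra k S).FG)
    have h1 : Set.range (algebraMap S R) =
        (((⊤ : Subalgebra k S).map (IsScalarTower.toAlgHom k S R) : Subalgebra k R) : Set R) := by
      ext x
      simp
    rw [hBdef, Algebra.adjoin_union, h1, Algebra.adjoin_eq, ← hF', Algebra.adjoin_span]
    exact (Subalgebra.FG.map _ (⟨Y, hY⟩ : (⊤ : Subalgebra k S).FG)).sup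
      (Subalgebra.fg_adjoin_finset F')
  · -- integrality
    have hle : B ≤ (integralClosure S R).restrictScalars k := by
      apply Algebra.adjoin_le
      rintro x (⟨s, rfl⟩ | hx)
      · exact isIntegral_algebraMap
      · exact hVĪ hx
    exact fun b hb => hle hb
  · -- saturation
    intro r hr
    have hrB := htB r hr
    let C : Subalgebra k R :=
      { carrier := {x | ∃ n : ℕ, r ^ n * x ∈ B}
        mul_mem' := by
          rintro x y ⟨n, h⟩ ⟨n', h'⟩
          refine ⟨n + n', ?_⟩
          rw [pow_add, mul_mul_mul_comm]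
          exact B.mul_mem h h'
        add_mem' := by
          rintro x y ⟨n, h⟩ ⟨n', h'⟩
          refine ⟨n + n', ?_⟩
          have : r ^ (n + n') * (x + y) = r ^ n' * (r ^ n * x) + r ^ n * (r ^ n' * y) := by ring
          rw [this]
          exact B.add_mem (B.mul_mem (pow_mem hrB n') h) (B.mul_mem (pow_mem hrB n) h')
        algebraMap_mem' := fun c => ⟨0, by simp⟩ }
    have hXC : (X : Set R) ⊆ C := by
      intro x hx
      refine ⟨m r x, hFB _ (Finset.mem_union_right _ (Finset.mem_image.mpr
        ⟨(r, x), Finset.mem_product.mpr ⟨hr, hx⟩, rfl⟩))⟩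
    have hC : C = ⊤ := top_le_iff.mp (hX ▸ Algebra.adjoin_le hXC)
    intro x
    have : x ∈ C := by rw [hC]; exact Algebra.mem_top
    exact this

end Main

end Groth.Agent.Lib.Helper25.EqZMT
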