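import Mathlib

/-!
# Helper25EtConn: homomorphisms between finite étale and connected finite group schemes (Hopf form)

`algHom_eq_of_comp_eq` (two algebra maps from an unramified algebra to a local ring with a
retraction to the base that agree after the retraction are equal), `connectedEtale_universal`.
-/

set_option autoImplicit false
universe u

open TensorProduct

namespace Groth.Agent.Lib.Helper25.EtConn


section -- EtQ
/-- Two algebra maps from an unramified finite type algebra `C` to a local ring `L` with a
retraction `ρ : L → R` onto the (local) base which agree after `ρ` are equal. -/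
theorem algHom_eq_of_comp_eq {R : Type u} [CommRing R] [IsLocalRing R]
    {C : Type u} [CommRing C] [Algebra R C] [Algebra.FormallyUnramified R C]
    [Algebra.EssFiniteType R C]
    {L : Type u} [CommRing L] [Algebra R L] [IsLocalRing L]
    (ρ : L →ₐ[R] R) (f g : C →ₐ[R] L) (h : ρ.comp f = ρ.comp g) : f = g := by
  let t := Algebra.FormallyUnramified.elem R C
  let F : C ⊗[R] C →ₐ[R] L := Algebra.TensorProduct.lift f g (fun _ _ => Commute.all _ _)
  let u : L := F t
  have hρsurj : Function.Surjective ρ := fun r => ⟨algebraMap R L r, by simp⟩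
  have hloc : IsLocalHom ρ.toRingHom := IsLocalHom.of_surjective ρ.toRingHom hρsurj
  have hρu : ρ u = 1 := by
    have h1 : ρ.comp F = (ρ.comp f).comp (Algebra.TensorProduct.lmul' R) := by
      apply Algebra.TensorProduct.ext
      · ext c; simp [F]
      · ext c
        have := congrArg (fun φ : C →ₐ[R] R => φ c) h
        simp [F] at this ⊢
        exact this.symm
    have h2 : ρ u = (ρ.comp F) t := rfl
    rw [h2, h1, AlgHom.comp_apply, Algebra.FormallyUnramified.lmul_elem]
    simp
  have hu : IsUnit u := by
    have : IsUnit (ρ.toRingHom u) := by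
      change IsUnit (ρ u); rw [hρu]; exact isUnit_one
    exact hloc.map_nonunit u this
  ext s
  have h3 : (1 ⊗ₜ[R] s - s ⊗ₜ[R] 1) * t = 0 :=
    Algebra.FormallyUnramified.one_tmul_sub_tmul_one_mul_elem (R := R) (S := C) s
  have h4 := congrArg F h3
  rw [map_mul, map_sub, map_zero] at h4
  have h5 : F ((1 : C) ⊗ₜ[R] s) = g s := by simp [F]
  have h6 : F (s ⊗ₜ[R] (1 : C)) = f s := by simp [F]
  rw [h5, h6] at h4
  have h7 : g s - f s = 0 := (hu.mul_left_eq_zero).mp h4
  exact (sub_eq_zero.mp h7).symm

end

section -- EtQ2
theorem connectedEtale_universal (R : Type u) [CommRing R] [IsLocalRing R]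
    (A : Type u) [CommRing A] [HopfAlgebra R A]
    (e : A) (hε : Bialgebra.counitAlgHom R A e = 1)
    [IsLocalRing (A ⧸ Ideal.span ({1 - e} : Set A))] :
    (∀ (C : Type u) [CommRing C] [HopfAlgebra R C] [Module.Finite R C] [Algebra.Etale R C]
        (φ : C →ₐc[R] A) (c : C),
        φ c ∈ (AlgHom.equalizer
          ((Algebra.TensorProduct.map (AlgHom.id R A)
              (Ideal.Quotient.mkₐ R (Ideal.span ({1 - e} : Set A)))).comp
            (Bialgebra.comulAlgHom R A))
          (Algebra.TensorProduct.includeLeft :
            A →ₐ[R] A ⊗[R] (A ⧸ Ideal.span ({1 - e} : Set A))))) ∧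
      ∀ (D : Type u) [CommRing D] [HopfAlgebra R D] [IsLocalRing D]
        (ψ : A →ₐc[R] D), IsIdempotentElem e → ψ e = 1 := by
  refine ⟨?_, ?_⟩
  · intro C _ _ _ _ φ c
    rw [AlgHom.mem_equalizer]
    let π : A →ₐ[R] A ⧸ Ideal.span ({1 - e} : Set A) :=
      Ideal.Quotient.mkₐ R (Ideal.span ({1 - e} : Set A))
    let ρ : (A ⧸ Ideal.span ({1 - e} : Set A)) →ₐ[R] R :=
      Ideal.Quotient.liftₐ (Ideal.span ({1 - e} : Set A)) (Bialgebra.counitAlgHom R A) (by
        intro a ha
        have hle : Ideal.span ({1 - e} : Set A) ≤ RingHom.ker (Bialgebra.counitAlgHom R A) := by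
          rw [Ideal.span_le]
          rintro _ rfl
          change (1 - e) ∈ RingHom.ker (Bialgebra.counitAlgHom R A)
          rw [RingHom.mem_ker, map_sub, map_one, hε, sub_self]
        exact hle ha)
    have hρπ : ρ.comp π = Bialgebra.counitAlgHom R A := by
      ext a; rfl
    have hfg : π.comp (φ : C →ₐ[R] A) =
        (Algebra.ofId R (A ⧸ Ideal.span ({1 - e} : Set A))).comp (Bialgebra.counitAlgHom R C) := by
      apply algHom_eq_of_comp_eq ρ
      rw [← AlgHom.comp_assoc, hρπ]
      ext x
      simp
    have key : ∀ x : C ⊗[R] C,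
        (Algebra.TensorProduct.map (AlgHom.id R A) π)
          ((TensorProduct.map (φ : C →ₗ[R] A) (φ : C →ₗ[R] A)) x) =
        (TensorProduct.map (φ : C →ₗ[R] A)
          (Algebra.linearMap R (A ⧸ Ideal.span ({1 - e} : Set A))))
          ((Coalgebra.counit (R := R) (A := C)).lTensor C x) := by
      intro x
      induction x with
      | zero => simp
      | add x y hx hy => simp only [map_add, hx, hy]
      | tmul a b =>
        have := congrArg (fun f : C →ₐ[R] _ => f b) hfg
        simp only [AlgHom.comp_apply] at this
        simp only [TensorProduct.map_tmul, Algebra.TensorProduct.map_tmul, LinearMap.lTensor_tmul,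
          AlgHom.coe_id, id_eq, Algebra.linearMap_apply]
        congr 1
    have hΔ : Coalgebra.comul (R := R) (φ c) =
        (TensorProduct.map (φ : C →ₗ[R] A) (φ : C →ₗ[R] A)) (Coalgebra.comul (R := R) c) :=
      (CoalgHomClass.map_comp_comul_apply φ c).symm
    change (Algebra.TensorProduct.map (AlgHom.id R A) π) (Coalgebra.comul (R := R) (φ c)) =
      (φ c) ⊗ₜ[R] 1
    rw [hΔ, key, Coalgebra.lTensor_counit_comul]
    simp
  · intro D _ _ _ ψ he
    have hid : IsIdempotentElem (ψ e) := he.map ψ
    rcases IsLocalRing.isUnit_or_isUnit_one_sub_self (ψ e) with h | h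
    · -- ψ e unit idempotent => 1
      have := hid.eq
      exact (IsUnit.mul_eq_right h).mp this |>.symm ▸ rfl
    · -- 1 - ψ e unit idempotent => ψ e = 0, contradiction with counit
      exfalso
      have hid' : IsIdempotentElem (1 - ψ e) := hid.one_sub
      have h1 : 1 - ψ e = 1 := by
        have := hid'.eq
        exact (IsUnit.mul_eq_right h).mp this
      have h0 : ψ e = 0 := by
        have := sub_eq_self.mp h1
        exact this
      have hc : Bialgebra.counitAlgHom R D (ψ e) = 1 := by
        have := congrArg (fun f : A →ₐ[R] R => f e) (BialgHom.counitAlgHom_comp ψ)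
        simp only [AlgHom.comp_apply] at this
        rw [← hε]
        exact this
      rw [h0, map_zero] at hc
      exact zero_ne_one hc

end

end Groth.Agent.Lib.Helper25.EtConn
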