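import Groth.Prelude.Def_SGA3
import Mathlib

/-!
# Helper25EtConn2: the connected component of a finite group scheme is normal (Hopf form)

`idempotent_eq_zero_of_lift_eq_zero` (an idempotent of `L ⊗ A`, `L` local with a retraction to the
base and `A` finite, killed by the retraction is zero), `conv3_eq` (`Dyn.conv3` as a convolution
product), `comp_conv3_conj` (naturality of conjugation), `isNormalHopfIdeal_span_one_sub`.
-/

set_option autoImplicit false
set_option linter.unusedSimpArgs false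
universe u

open TensorProduct WithConv

namespace Groth.Agent.Lib.Helper25.EtConn2


section -- NormA
/-- Let `L` be a local `R`-algebra with a retraction `ρ : L → R` and `A` a finite `R`-algebra. An
idempotent of `L ⊗ A` killed by `ρ ⊗ id : L ⊗ A → A` is zero. -/
theorem idempotent_eq_zero_of_lift_eq_zero {R : Type u} [CommRing R]
    {L : Type u} [CommRing L] [Algebra R L] [IsLocalRing L] (ρ : L →ₐ[R] R)
    {A : Type u} [CommRing A] [Algebra R A] [Module.Finite R A]
    (F : L ⊗[R] A) (hF : IsIdempotentElem F)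
    (h0 : Algebra.TensorProduct.lift ((Algebra.ofId R A).comp ρ) (AlgHom.id R A)
      (fun _ _ => Commute.all _ _) F = 0) : F = 0 := by
  let Φ₀ : L ⊗[R] A →ₐ[R] A :=
    Algebra.TensorProduct.lift ((Algebra.ofId R A).comp ρ) (AlgHom.id R A)
      (fun _ _ => Commute.all _ _)
  -- `F` lies in every maximal ideal
  have hmax : ∀ 𝔫 : Ideal (L ⊗[R] A), 𝔫.IsMaximal → F ∈ 𝔫 := by
    intro 𝔫 h𝔫
    have hq : (𝔫.comap (algebraMap L (L ⊗[R] A))).IsMaximal :=
      Ideal.isMaximal_comap_of_isIntegral_of_isMaximal (R := L) (S := L ⊗[R] A) 𝔫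
    have hq' : 𝔫.comap (algebraMap L (L ⊗[R] A)) = IsLocalRing.maximalIdeal L :=
      IsLocalRing.eq_maximalIdeal hq
    have hker : RingHom.ker ρ ≤ IsLocalRing.maximalIdeal L := by
      apply IsLocalRing.le_maximalIdeal
      intro htop
      have h1 : (1 : L) ∈ RingHom.ker ρ := htop ▸ Submodule.mem_top
      rw [RingHom.mem_ker, map_one] at h1
      -- then `1 = 0` in `L ⊗ A`
      have : (1 : L ⊗[R] A) = 0 := by
        have h2 : (1 : L ⊗[R] A) = algebraMap R (L ⊗[R] A) 1 := (map_one _).symm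
        rw [h2, h1, map_zero]
      exact h𝔫.ne_top ((Ideal.eq_top_iff_one _).mpr (this ▸ 𝔫.zero_mem))
    have key : ∀ y : L ⊗[R] A, y - (1 : L) ⊗ₜ[R] (Φ₀ y) ∈ 𝔫 := by
      intro y
      induction y with
      | zero => simp
      | add x y hx hy =>
        have : x + y - (1 : L) ⊗ₜ[R] (Φ₀ (x + y)) =
            (x - (1 : L) ⊗ₜ[R] (Φ₀ x)) + (y - (1 : L) ⊗ₜ[R] (Φ₀ y)) := by
          rw [map_add, TensorProduct.tmul_add]; ring
        rw [this]
        exact 𝔫.add_mem hx hy
      | tmul l a =>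
        have h1 : Φ₀ (l ⊗ₜ[R] a) = ρ l • a := by
          simp [Φ₀, Algebra.ofId_apply, Algebra.smul_def]
        have h2 : l ⊗ₜ[R] a - (1 : L) ⊗ₜ[R] (Φ₀ (l ⊗ₜ[R] a)) =
            ((l - algebraMap R L (ρ l)) ⊗ₜ[R] (1 : A)) * ((1 : L) ⊗ₜ[R] a) := by
          rw [h1, Algebra.TensorProduct.tmul_mul_tmul, mul_one, one_mul, TensorProduct.sub_tmul,
            TensorProduct.tmul_smul, TensorProduct.smul_tmul', Algebra.smul_def, mul_one]
        rw [h2]
        apply 𝔫.mul_mem_right
        have h3 : l - algebraMap R L (ρ l) ∈ RingHom.ker ρ := by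
          rw [RingHom.mem_ker, map_sub, AlgHom.commutes]; simp
        have h4 : l - algebraMap R L (ρ l) ∈ 𝔫.comap (algebraMap L (L ⊗[R] A)) := by
          rw [hq']; exact hker h3
        exact h4
    have := key F
    rw [show Φ₀ F = 0 from h0, TensorProduct.tmul_zero, sub_zero] at this
    exact this
  have hjac : F ∈ Ideal.jacobson (⊥ : Ideal (L ⊗[R] A)) := by
    rw [Ideal.jacobson, Ideal.mem_sInf]
    rintro 𝔫 ⟨-, h𝔫⟩
    exact hmax 𝔫 h𝔫
  have hunit : IsUnit (1 - F) := by
    have := Ideal.mem_jacobson_bot.mp hjac (-1)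
    simpa [sub_eq_neg_add] using this
  have hz : (1 - F) * F = 0 := by
    rw [sub_mul, one_mul, hF.eq, sub_self]
  exact (hunit.mul_right_eq_zero).mp hz

end

section -- NormB
section
variable {k : Type u} [CommRing k] {A : Type u} [CommRing A] [HopfAlgebra k A]
  {C : Type u} [CommRing C] [Algebra k C]

lemma conv3_eq (f g h : A →ₐ[k] C) :
    Dyn.conv3 k A f g h = (toConv f * toConv g * toConv h).ofConv := by
  rw [AlgHom.convMul_def (toConv f * toConv g) (toConv h), AlgHom.convMul_def (toConv f) (toConv g)]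
  simp only [ofConv_toConv]
  unfold Dyn.conv3
  have : Algebra.TensorProduct.map
      ((Algebra.TensorProduct.lmul' (S := C) k).comp
        ((Algebra.TensorProduct.map f g).comp (Bialgebra.comulAlgHom k A))) h =
      (Algebra.TensorProduct.map ((Algebra.TensorProduct.lmul' (S := C) k).comp
        (Algebra.TensorProduct.map f g)) h).comp
        (Algebra.TensorProduct.map (Bialgebra.comulAlgHom k A) (AlgHom.id k A)) := by
    rw [← Algebra.TensorProduct.map_comp, AlgHom.comp_id, AlgHom.comp_assoc]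
  rw [this, AlgHom.comp_assoc]

/-- naturality of the conjugation formula -/
lemma comp_conv3_conj {C' : Type u} [CommRing C'] [Algebra k C'] (Φ : C →ₐ[k] C')
    (g h : A →ₐ[k] C) :
    Φ.comp (Dyn.conv3 k A g h (g.comp (HopfAlgebra.antipodeAlgHom k A))) =
      Dyn.conv3 k A (Φ.comp g) (Φ.comp h) ((Φ.comp g).comp (HopfAlgebra.antipodeAlgHom k A)) := by
  rw [conv3_eq, conv3_eq, AlgHom.comp_convMul_distrib, AlgHom.comp_convMul_distrib]
  simp only [ofConv_toConv, toConv_ofConv, AlgHom.comp_assoc]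

end

end

section -- NormC
theorem isNormalHopfIdeal_span_one_sub (R : Type u) [CommRing R]
    (A : Type u) [CommRing A] [HopfAlgebra R A] [Module.Finite R A]
    (e : A) (he : IsIdempotentElem e) (hε : Bialgebra.counitAlgHom R A e = 1)
    [IsLocalRing (A ⧸ Ideal.span ({1 - e} : Set A))] :
    SGA3.IsNormalHopfIdeal R A (Ideal.span ({1 - e} : Set A)) := by
  intro T _ _ g h hkill a ha
  let π : A →ₐ[R] A ⧸ Ideal.span ({1 - e} : Set A) :=
    Ideal.Quotient.mkₐ R (Ideal.span ({1 - e} : Set A))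
  let ρ : (A ⧸ Ideal.span ({1 - e} : Set A)) →ₐ[R] R :=
    Ideal.Quotient.liftₐ (Ideal.span ({1 - e} : Set A)) (Bialgebra.counitAlgHom R A) (by
      intro a ha
      have hle : Ideal.span ({1 - e} : Set A) ≤ RingHom.ker (Bialgebra.counitAlgHom R A) := by
        rw [Ideal.span_le]
        rintro _ rfl
        change (1 - e) ∈ RingHom.ker (Bialgebra.counitAlgHom R A)
        rw [RingHom.mem_ker, map_sub, map_one, hε, sub_self]
      exact hle ha)
  have hρπ : ρ.comp π = Bialgebra.counitAlgHom R A := by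
    ext a; rfl
  let gu : A →ₐ[R] (A ⧸ Ideal.span ({1 - e} : Set A)) ⊗[R] A :=
    Algebra.TensorProduct.includeRight
  let hu : A →ₐ[R] (A ⧸ Ideal.span ({1 - e} : Set A)) ⊗[R] A :=
    Algebra.TensorProduct.includeLeft.comp π
  let cu : A →ₐ[R] (A ⧸ Ideal.span ({1 - e} : Set A)) ⊗[R] A :=
    Dyn.conv3 R A gu hu (gu.comp (HopfAlgebra.antipodeAlgHom R A))
  have hE : cu e = 1 := by
    have hidem : IsIdempotentElem (1 - cu e) := (he.map cu).one_sub
    have h0 := idempotent_eq_zero_of_lift_eq_zero ρ (1 - cu e) hidem (by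
      set Φ₀ : (A ⧸ Ideal.span ({1 - e} : Set A)) ⊗[R] A →ₐ[R] A :=
        Algebra.TensorProduct.lift ((Algebra.ofId R A).comp ρ) (AlgHom.id R A)
          (fun _ _ => Commute.all _ _) with hΦ₀
      have h1 : Φ₀.comp gu = AlgHom.id R A := by ext; simp [Φ₀, gu]
      have h2 : Φ₀.comp hu = (Algebra.ofId R A).comp (Bialgebra.counitAlgHom R A) := by
        rw [← hρπ]
        ext x
        simp [Φ₀, hu]
      have h3 : Φ₀.comp cu = (Algebra.ofId R A).comp (Bialgebra.counitAlgHom R A) := by
        rw [comp_conv3_conj, h1, h2, conv3_eq]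
        have : toConv ((AlgHom.id R A).comp (HopfAlgebra.antipodeAlgHom R A)) =
            (toConv (AlgHom.id R A))⁻¹ := rfl
        rw [this, ← AlgHom.convOne_def, mul_one, mul_inv_cancel]
        rfl
      have h4 : Φ₀ (cu e) = 1 := by
        have := congrArg (fun f : A →ₐ[R] A => f e) h3
        simp only [AlgHom.comp_apply] at this
        rw [this, hε, map_one]
      rw [map_sub, map_one, h4, sub_self])
    exact (sub_eq_zero.mp h0).symm
  let hbar : (A ⧸ Ideal.span ({1 - e} : Set A)) →ₐ[R] T :=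
    Ideal.Quotient.liftₐ (Ideal.span ({1 - e} : Set A)) h hkill
  let Φ : (A ⧸ Ideal.span ({1 - e} : Set A)) ⊗[R] A →ₐ[R] T :=
    Algebra.TensorProduct.lift hbar g (fun _ _ => Commute.all _ _)
  have hΦg : Φ.comp gu = g := by ext; simp [Φ, gu]
  have hΦh : Φ.comp hu = h := by
    ext x
    simp [Φ, hu, hbar, π] <;> rfl
  have hc : Dyn.conv3 R A g h (g.comp (HopfAlgebra.antipodeAlgHom R A)) = Φ.comp cu := by
    rw [comp_conv3_conj, hΦg, hΦh]
  obtain ⟨r, rfl⟩ := Ideal.mem_span_singleton'.mp ha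
  rw [hc, AlgHom.comp_apply, map_mul, map_sub, map_one, hE, sub_self, mul_zero, map_zero]

end

end Groth.Agent.Lib.Helper25.EtConn2
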