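import Groth.Agent.Lib.Helper6Hopf6
import Mathlib

/-!
# Helper25EtConn3: extensions of connected / étale finite group schemes (Hopf form)

`ker_le_sq_of_unramified` (the augmentation ideal of a formally unramified augmented algebra is
idempotent), `isLocalRing_of_ext`, `etale_of_ext`.
-/

set_option autoImplicit false
set_option linter.style.haveILetI false
universe u v

open TensorProduct

namespace Groth.Agent.Lib.Helper25.EtConn3


section -- ExtA
section aug
variable {R : Type u} {C : Type v} [CommRing R] [CommRing C] [Algebra R C] (ε : C →ₐ[R] R)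

lemma sub_mem_ker (a : C) : a - algebraMap R C (ε a) ∈ RingHom.ker ε := by
  rw [RingHom.mem_ker, map_sub, AlgHom.commutes]; simp

/-- `a ↦ [a - ε(a)]`, linear over the base. -/
noncomputable def toCot : C →ₗ[R] (RingHom.ker ε).Cotangent where
  toFun a := (RingHom.ker ε).toCotangent ⟨a - algebraMap R C (ε a), sub_mem_ker ε a⟩
  map_add' a b := by
    rw [← map_add]
    congr 1
    apply Subtype.ext
    simp only [map_add, Submodule.coe_add]
    ring
  map_smul' c a := by
    rw [RingHom.id_apply, ← LinearMap.map_smul_of_tower]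
    congr 1
    apply Subtype.ext
    change c • a - algebraMap R C (ε (c • a)) = c • (a - algebraMap R C (ε a))
    rw [map_smul, smul_sub, Algebra.algebraMap_eq_smul_one, Algebra.algebraMap_eq_smul_one,
      smul_eq_mul, mul_smul]

lemma toCot_of_mem (z : RingHom.ker ε) : toCot ε (z : C) = (RingHom.ker ε).toCotangent z := by
  change (RingHom.ker ε).toCotangent ⟨(z : C) - algebraMap R C (ε (z : C)), _⟩ = _
  congr 1
  apply Subtype.ext
  have : ε (z : C) = 0 := z.2
  simp only [this, map_zero, sub_zero]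

lemma toCot_mul (a b : C) : toCot ε (a * b) = a • toCot ε b + b • toCot ε a := by
  set a' : RingHom.ker ε := ⟨a - algebraMap R C (ε a), sub_mem_ker ε a⟩ with ha'
  set b' : RingHom.ker ε := ⟨b - algebraMap R C (ε b), sub_mem_ker ε b⟩ with hb'
  have e1 : toCot ε (a * b) = (RingHom.ker ε).toCotangent (a • b' + b • a' - (b' : C) • a') := by
    change (RingHom.ker ε).toCotangent _ = _
    congr 1
    apply Subtype.ext
    simp only [Submodule.coe_sub, Submodule.coe_add, Submodule.coe_smul, smul_eq_mul, ha', hb',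
      map_mul]
    ring
  have e2 : (RingHom.ker ε).toCotangent ((b' : C) • a') = 0 := by
    rw [Ideal.toCotangent_eq_zero, pow_two]
    exact Ideal.mul_mem_mul b'.2 a'.2
  rw [e1, map_sub, map_add, e2, sub_zero, map_smul, map_smul]
  rfl

/-- The derivation `a ↦ [a - ε(a)]`. -/
noncomputable def cotDer : Derivation R C (RingHom.ker ε).Cotangent :=
  Derivation.mk' (toCot ε) (toCot_mul ε)

/-- The augmentation ideal of a formally unramified augmented algebra is idempotent. -/
lemma ker_le_sq_of_unramified [Algebra.FormallyUnramified R C] :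
    RingHom.ker ε ≤ RingHom.ker ε ^ 2 := by
  intro z hz
  have h0 : (cotDer ε) z = 0 := by
    rw [← Derivation.liftKaehlerDifferential_comp_D (cotDer ε) z,
      Subsingleton.elim (KaehlerDifferential.D R C z) 0, map_zero]
  have h1 : toCot ε z = 0 := h0
  rw [show z = ((⟨z, hz⟩ : RingHom.ker ε) : C) from rfl, toCot_of_mem,
    Ideal.toCotangent_eq_zero] at h1
  exact h1

end aug

end

section -- ExtB
section
variable (R : Type u) [CommRing R] [IsLocalRing R]
    (A A'' : Type u) [CommRing A] [HopfAlgebra R A] [Module.Finite R A]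
    [CommRing A''] [HopfAlgebra R A'']
    [Algebra A'' A] [IsScalarTower R A'' A]

/-- extension of connected by connected is connected -/
theorem isLocalRing_of_ext
    (hA'' : IsLocalRing A'')
    (hloc : IsLocalRing (A ⧸ (RingHom.ker (Bialgebra.counitAlgHom R A'')).map (algebraMap A'' A))) :
    IsLocalRing A := by
  set J : Ideal A := (RingHom.ker (Bialgebra.counitAlgHom R A'')).map (algebraMap A'' A) with hJ
  haveI : Module.Finite A'' A := Module.Finite.of_restrictScalars_finite R A'' A
  have hkerle : RingHom.ker (Bialgebra.counitAlgHom R A'') ≤ IsLocalRing.maximalIdeal A'' := by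
    apply IsLocalRing.le_maximalIdeal
    intro htop
    have h1 : (1 : A'') ∈ RingHom.ker (Bialgebra.counitAlgHom R A'') := htop ▸ Submodule.mem_top
    rw [RingHom.mem_ker, map_one] at h1
    exact one_ne_zero h1
  have hJle : ∀ 𝔫 : Ideal A, 𝔫.IsMaximal → J ≤ 𝔫 := by
    intro 𝔫 h𝔫
    have hq : (𝔫.comap (algebraMap A'' A)).IsMaximal :=
      Ideal.isMaximal_comap_of_isIntegral_of_isMaximal (R := A'') (S := A) 𝔫
    have hq' : 𝔫.comap (algebraMap A'' A) = IsLocalRing.maximalIdeal A'' :=
      IsLocalRing.eq_maximalIdeal hq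
    rw [hJ, Ideal.map_le_iff_le_comap, hq']
    exact hkerle
  let 𝔫₀ : Ideal A := (IsLocalRing.maximalIdeal (A ⧸ J)).comap (Ideal.Quotient.mk J)
  have h𝔫₀ : 𝔫₀.IsMaximal :=
    Ideal.comap_isMaximal_of_surjective _ Ideal.Quotient.mk_surjective
  refine IsLocalRing.of_unique_max_ideal ⟨𝔫₀, h𝔫₀, ?_⟩
  intro 𝔫 h𝔫
  have hle : 𝔫 ≤ 𝔫₀ := by
    intro a ha
    change Ideal.Quotient.mk J a ∈ IsLocalRing.maximalIdeal (A ⧸ J)
    rw [IsLocalRing.mem_maximalIdeal, mem_nonunits_iff]
    intro hu
    obtain ⟨b, hb⟩ := hu.exists_right_inv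
    obtain ⟨b, rfl⟩ := Ideal.Quotient.mk_surjective b
    rw [← map_mul, ← map_one (Ideal.Quotient.mk J), Ideal.Quotient.eq] at hb
    have h1 : a * b - 1 ∈ 𝔫 := hJle 𝔫 h𝔫 hb
    have h2 : a * b ∈ 𝔫 := 𝔫.mul_mem_right b ha
    have h3 : (1 : A) ∈ 𝔫 := by
      have := 𝔫.sub_mem h2 h1
      simpa using this
    exact h𝔫.ne_top ((Ideal.eq_top_iff_one _).mpr h3)
  exact h𝔫.eq_of_le h𝔫₀.ne_top hle

end

end

section -- ExtC
open Groth.Agent.Lib.Helper6.Hopf

section
variable (R : Type u) [CommRing R]
    (A A'' : Type u) [CommRing A] [HopfAlgebra R A] [Module.Finite R A] [Module.Projective R A]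
    [CommRing A''] [HopfAlgebra R A'']
    [Algebra A'' A] [IsScalarTower R A'' A]

/-- extension of étale by étale is étale -/
theorem etale_of_ext
    (hε : (Bialgebra.counitAlgHom R A).comp (IsScalarTower.toAlgHom R A'' A) =
      Bialgebra.counitAlgHom R A'')
    (hA'' : Algebra.Etale R A'')
    (het : Algebra.Etale R
      (A ⧸ (RingHom.ker (Bialgebra.counitAlgHom R A'')).map (algebraMap A'' A))) :
    Algebra.Etale R A := by
  set J : Ideal A := (RingHom.ker (Bialgebra.counitAlgHom R A'')).map (algebraMap A'' A) with hJ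
  have hεc : ∀ c : A'', Bialgebra.counitAlgHom R A (algebraMap A'' A c) =
      Bialgebra.counitAlgHom R A'' c := fun c => congrArg (fun f : A'' →ₐ[R] R => f c) hε
  have hI'' : RingHom.ker (Bialgebra.counitAlgHom R A'') ≤
      RingHom.ker (Bialgebra.counitAlgHom R A'') ^ 2 :=
    ker_le_sq_of_unramified (Bialgebra.counitAlgHom R A'')
  have hJI : J ≤ augR R A := by
    rw [hJ, Ideal.map_le_iff_le_comap]
    intro c hc
    rw [Ideal.mem_comap, RingHom.mem_ker, hεc]
    exact hc
  let εb : (A ⧸ J) →ₐ[R] R := Ideal.Quotient.liftₐ J (Bialgebra.counitAlgHom R A)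
    (fun a ha => hJI ha)
  have hC : RingHom.ker εb ≤ RingHom.ker εb ^ 2 := ker_le_sq_of_unramified εb
  have hkerεb : RingHom.ker εb = (augR R A).map (Ideal.Quotient.mk J) :=
    Ideal.ker_quotient_lift (Bialgebra.counitAlgHom R A : A →+* R) (fun a ha => hJI ha)
  have hJsq : J ≤ augR R A ^ 2 := by
    calc J ≤ (RingHom.ker (Bialgebra.counitAlgHom R A'') ^ 2).map (algebraMap A'' A) :=
          Ideal.map_mono hI''
      _ = J ^ 2 := by rw [Ideal.map_pow]
      _ ≤ augR R A ^ 2 := Ideal.pow_right_mono hJI 2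
  have hle : augR R A ≤ augR R A ^ 2 := by
    intro a ha
    have h1 : Ideal.Quotient.mk J a ∈ RingHom.ker εb := by
      rw [hkerεb]; exact Ideal.mem_map_of_mem _ ha
    have h2 := hC h1
    rw [hkerεb, ← Ideal.map_pow] at h2
    obtain ⟨a', ha', hmk⟩ :=
      (Ideal.mem_map_iff_of_surjective _ Ideal.Quotient.mk_surjective).mp h2
    have h3 : a - a' ∈ J := by
      rw [← Ideal.Quotient.eq]; exact hmk.symm
    have h4 : a = a' + (a - a') := by ring
    rw [h4]
    exact Ideal.add_mem _ ha' (hJsq h3)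
  exact (etale_iff_augR_sq (R := R) (A := A)).mpr
    (le_antisymm (Ideal.pow_le_self (by norm_num)) hle)

end

end

end Groth.Agent.Lib.Helper25.EtConn3
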