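import Mathlib.RingTheory.Smooth.StandardSmoothOfFree
import Mathlib.RingTheory.Smooth.StandardSmoothCotangent
import Mathlib.RingTheory.Etale.Basic
import Mathlib.RingTheory.Polynomial.Basic
import Mathlib.RingTheory.Nilpotent.Lemmas

/-!
# Lifting étale algebras along surjections (helper25)

`exists_etale_lift`: let `B → B̄` be a surjective ring map and `B̄'` an étale `B̄`-algebra.  Then
there are an étale `B`-algebra `B'` and a surjective `B`-algebra map `θ : B' → B̄'` whose kernel is
contained in `ker (B → B̄) · B'`.  (Lift a submersive presentation of relative dimension `0` and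
invert the lifted Jacobian.)
-/

set_option autoImplicit false
set_option linter.unusedSectionVars false
set_option linter.style.haveILetI false
universe u

namespace Groth.Agent.Lib.Helper25.EtNil

open MvPolynomial

section Lift

variable {B : Type u} [CommRing B] {Bb : Type u} [CommRing Bb] [Algebra B Bb]
  (hπ : Function.Surjective (algebraMap B Bb))
  (Bb' : Type u) [CommRing Bb'] [Algebra Bb Bb'] [Algebra B Bb'] [IsScalarTower B Bb Bb']
  [Algebra.Etale Bb Bb']

include hπ in
theorem exists_etale_lift :
    ∃ (B' : Type u) (_ : CommRing B') (_ : Algebra B B') (θ : B' →ₐ[B] Bb'),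
      Algebra.Etale B B' ∧ Function.Surjective θ ∧
        RingHom.ker θ.toRingHom ≤
          Ideal.map (algebraMap B B') (RingHom.ker (algebraMap B Bb)) := by
  classical
  have h0 : Algebra.IsStandardSmoothOfRelativeDimension 0 Bb Bb' :=
    Algebra.Etale.iff_isStandardSmoothOfRelativeDimension_zero.mp inferInstance
  obtain ⟨ι, σ, hσ, hι, P₀, hdim⟩ := h0.out
  cases nonempty_fintype σ
  -- lifts of the relations
  have hmapsurj : Function.Surjective
      (MvPolynomial.map (algebraMap B Bb) : MvPolynomial ι B → MvPolynomial ι Bb) :=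
    MvPolynomial.map_surjective _ hπ
  choose rt hrt using fun j : σ => hmapsurj (P₀.relation j)
  let PC : Algebra.PreSubmersivePresentation B
      (MvPolynomial ι B ⧸ Ideal.span (Set.range rt)) ι σ :=
    Algebra.PreSubmersivePresentation.naive (v := rt) P₀.map P₀.map_inj
  -- the map `C → B̄'`
  have hkill : ∀ a ∈ Ideal.span (Set.range rt), (aeval (R := B) P₀.val) a = 0 := by
    intro a ha
    have hle : Ideal.span (Set.range rt) ≤ RingHom.ker (aeval (R := B) P₀.val).toRingHom := by
      rw [Ideal.span_le]
      rintro _ ⟨j, rfl⟩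
      change aeval (R := B) P₀.val (rt j) = 0
      rw [← MvPolynomial.aeval_map_algebraMap Bb, hrt]
      exact P₀.aeval_val_relation j
    exact hle ha
  let θC : (MvPolynomial ι B ⧸ Ideal.span (Set.range rt)) →ₐ[B] Bb' :=
    Ideal.Quotient.liftₐ _ (aeval (R := B) P₀.val) hkill
  have hθC : ∀ p, θC (Ideal.Quotient.mk _ p) = aeval (R := B) P₀.val p := fun p => rfl
  have hjacC : θC PC.jacobian = P₀.jacobian := by
    rw [Algebra.PreSubmersivePresentation.jacobian_eq_jacobiMatrix_det,
      Algebra.PreSubmersivePresentation.jacobian_eq_jacobiMatrix_det,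
      Algebra.Generators.algebraMap_apply, Algebra.Generators.algebraMap_apply]
    have h1 : (aeval (R := B) PC.val : MvPolynomial ι B →ₐ[B] _) =
        Ideal.Quotient.mkₐ B (Ideal.span (Set.range rt)) := by
      apply MvPolynomial.algHom_ext
      intro i
      rw [aeval_X]
      rfl
    have h2 : aeval (R := B) PC.val PC.jacobiMatrix.det =
        Ideal.Quotient.mk _ PC.jacobiMatrix.det := by
      rw [h1]; rfl
    rw [h2, hθC, ← MvPolynomial.aeval_map_algebraMap Bb]
    congr 1
    rw [RingHom.map_det]
    congr 1
    refine Matrix.ext (fun i j => ?_)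
    rw [RingHom.mapMatrix_apply, Matrix.map_apply,
      Algebra.PreSubmersivePresentation.jacobiMatrix_apply,
      Algebra.PreSubmersivePresentation.jacobiMatrix_apply]
    change (MvPolynomial.map (algebraMap B Bb)) (pderiv (P₀.map i) (rt j)) = _
    rw [← MvPolynomial.pderiv_map, hrt]
  -- the localisation at the lifted Jacobian
  let Q : Algebra.PreSubmersivePresentation (MvPolynomial ι B ⧸ Ideal.span (Set.range rt)) (Localization.Away PC.jacobian) Unit Unit :=
    Algebra.PreSubmersivePresentation.localizationAway (Localization.Away PC.jacobian) PC.jacobian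
  let PB : Algebra.PreSubmersivePresentation B (Localization.Away PC.jacobian) (Unit ⊕ ι) (Unit ⊕ σ) :=
    Q.comp PC
  have hjac : PB.jacobian = PC.jacobian • algebraMap (MvPolynomial ι B ⧸ Ideal.span (Set.range rt)) (Localization.Away PC.jacobian) PC.jacobian := by
    rw [Algebra.PreSubmersivePresentation.comp_jacobian_eq_jacobian_smul_jacobian,
      Algebra.PreSubmersivePresentation.localizationAway_jacobian]
  have hunitJ : IsUnit (algebraMap (MvPolynomial ι B ⧸ Ideal.span (Set.range rt)) (Localization.Away PC.jacobian) PC.jacobian) :=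
    IsLocalization.Away.algebraMap_isUnit PC.jacobian
  have hunit : IsUnit PB.jacobian := by
    rw [hjac]
    have := Algebra.smul_def (A := Localization.Away PC.jacobian) PC.jacobian
      (algebraMap (MvPolynomial ι B ⧸ Ideal.span (Set.range rt)) (Localization.Away PC.jacobian)
        PC.jacobian)
    rw [this]
    exact hunitJ.mul hunitJ
  let SP : Algebra.SubmersivePresentation B (Localization.Away PC.jacobian) (Unit ⊕ ι) (Unit ⊕ σ) :=
    { toPreSubmersivePresentation := PB, jacobian_isUnit := hunit }
  have hdimB : SP.dimension = 0 := by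
    change (Q.comp PC).dimension = 0
    rw [Algebra.PreSubmersivePresentation.dimension_comp_eq_dimension_add_dimension]
    have hQ : Q.dimension = 0 := by
      simp [Algebra.Presentation.dimension]
    have hPC : PC.dimension = 0 := by
      have := hdim
      simp only [Algebra.Presentation.dimension] at this ⊢
      exact this
    rw [hQ, hPC]
  haveI hss : Algebra.IsStandardSmoothOfRelativeDimension 0 B (Localization.Away PC.jacobian) :=
    SP.isStandardSmoothOfRelativeDimension hdimB
  have het : Algebra.Etale B (Localization.Away PC.jacobian) := inferInstance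
  -- the map `θ`
  have hunitθ : ∀ y : Submonoid.powers PC.jacobian, IsUnit (θC (y : _)) := by
    rintro ⟨_, n, rfl⟩
    change IsUnit (θC (PC.jacobian ^ n))
    rw [map_pow, hjacC]
    exact P₀.jacobian_isUnit.pow n
  let θ : Localization.Away PC.jacobian →ₐ[B] Bb' :=
    IsLocalization.liftAlgHom (M := Submonoid.powers PC.jacobian) (f := θC) hunitθ
  have hθalg : ∀ c, θ (algebraMap _ (Localization.Away PC.jacobian) c) = θC c := by
    intro c
    exact IsLocalization.lift_eq _ c
  have hθCsurj : Function.Surjective θC := by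
    intro y
    obtain ⟨p, hp⟩ := P₀.algebraMap_surjective y
    obtain ⟨q, rfl⟩ := hmapsurj p
    refine ⟨Ideal.Quotient.mk _ q, ?_⟩
    rw [hθC, ← MvPolynomial.aeval_map_algebraMap Bb, ← hp, Algebra.Generators.algebraMap_apply]
  have hkerC : ∀ c, θC c = 0 → c ∈ Ideal.map
      (algebraMap B (MvPolynomial ι B ⧸ Ideal.span (Set.range rt)))
      (RingHom.ker (algebraMap B Bb)) := by
    intro c hc
    obtain ⟨p, rfl⟩ := Ideal.Quotient.mk_surjective c
    rw [hθC, ← MvPolynomial.aeval_map_algebraMap Bb] at hc
    have h1 : MvPolynomial.map (algebraMap B Bb) p ∈ P₀.ker := by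
      rw [Algebra.Generators.ker_eq_ker_aeval_val, RingHom.mem_ker]
      exact hc
    rw [← P₀.span_range_relation_eq_ker] at h1
    have h2 : Ideal.span (Set.range P₀.relation) =
        Ideal.map (MvPolynomial.map (algebraMap B Bb)) (Ideal.span (Set.range rt)) := by
      rw [Ideal.map_span]
      congr 1
      ext x
      constructor
      · rintro ⟨j, rfl⟩
        exact ⟨rt j, ⟨j, rfl⟩, hrt j⟩
      · rintro ⟨_, ⟨j, rfl⟩, rfl⟩
        exact ⟨j, (hrt j).symm⟩
    rw [h2] at h1
    obtain ⟨q, hq, hqp⟩ := (Ideal.mem_map_iff_of_surjective _ hmapsurj).mp h1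
    have h3 : p - q ∈ RingHom.ker (MvPolynomial.map (algebraMap B Bb)) := by
      rw [RingHom.mem_ker, map_sub, hqp, sub_self]
    rw [MvPolynomial.ker_map] at h3
    have h4 : Ideal.Quotient.mk (Ideal.span (Set.range rt)) p =
        Ideal.Quotient.mk (Ideal.span (Set.range rt)) (p - q) := by
      rw [map_sub, Ideal.Quotient.eq_zero_iff_mem.mpr hq, sub_zero]
    rw [h4]
    have h5 := Ideal.mem_map_of_mem (Ideal.Quotient.mk (Ideal.span (Set.range rt))) h3
    rw [Ideal.map_map] at h5
    exact h5
  refine ⟨Localization.Away PC.jacobian, inferInstance, inferInstance, θ, het, ?_, ?_⟩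
  · intro y
    obtain ⟨c, hc⟩ := hθCsurj y
    exact ⟨algebraMap _ _ c, by rw [hθalg, hc]⟩
  · intro x hx
    obtain ⟨c, ⟨_, n, rfl⟩, rfl⟩ := IsLocalization.exists_mk'_eq (Submonoid.powers PC.jacobian) x
    have hx' : θ (IsLocalization.mk' (Localization.Away PC.jacobian) c
        (⟨PC.jacobian ^ n, n, rfl⟩ : Submonoid.powers PC.jacobian)) = 0 := hx
    have hspec := IsLocalization.mk'_spec (Localization.Away PC.jacobian) c
        (⟨PC.jacobian ^ n, n, rfl⟩ : Submonoid.powers PC.jacobian)
    have h1 : θC c = 0 := by
      rw [← hθalg, ← hspec, map_mul, hx', zero_mul]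
    have h2 := hkerC c h1
    have h3 := Ideal.mem_map_of_mem
      (algebraMap (MvPolynomial ι B ⧸ Ideal.span (Set.range rt)) (Localization.Away PC.jacobian)) h2
    rw [Ideal.map_map, ← IsScalarTower.algebraMap_eq] at h3
    have hu : IsUnit (algebraMap (MvPolynomial ι B ⧸ Ideal.span (Set.range rt))
        (Localization.Away PC.jacobian)
        ((⟨PC.jacobian ^ n, n, rfl⟩ : Submonoid.powers PC.jacobian) : _)) :=
      IsLocalization.map_units _ _
    rw [← hspec] at h3
    exact (Ideal.mul_unit_mem_iff_mem _ hu).mp h3

end Lift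

end Groth.Agent.Lib.Helper25.EtNil
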