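import Groth.Agent.Lib.Helper25EtaleLiftA
import Groth.Agent.Lib.Helper25FamDesc
import Mathlib.RingTheory.Unramified.LocalStructure
import Mathlib.RingTheory.Etale.Pi
import Mathlib.RingTheory.Smooth.Flat

/-!
# Lifting étale covers along surjections with nilpotent kernel, part B (helper25)

* `exists_finite_standardEtale_cover`: an étale algebra is covered by finitely many standard
  étale basic opens.
* `faithfullyFlat_pi_away`: the product of the localisations at a family generating the unit
  ideal is faithfully flat.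
* `faithfullyFlat_of_surjective_nil`: faithful flatness can be checked modulo a nil ideal.
-/

set_option autoImplicit false
set_option linter.unusedSectionVars false
set_option linter.style.haveILetI false
universe u

namespace Groth.Agent.Lib.Helper25.EtaleLift

open Polynomial Groth.Agent.Lib.Helper25

section Cover

variable (Bb : Type u) [CommRing Bb] (Bb' : Type u) [CommRing Bb'] [Algebra Bb Bb']
  [Algebra.Etale Bb Bb']

theorem exists_finite_standardEtale_cover :
    ∃ s : Finset Bb', Ideal.span (s : Set Bb') = ⊤ ∧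
      ∀ h ∈ s, Algebra.IsStandardEtale Bb (Localization.Away h) := by
  set T : Set Bb' := {h | Algebra.IsStandardEtale Bb (Localization.Away h)} with hT
  have hspan : Ideal.span T = ⊤ := by
    by_contra hne
    obtain ⟨Q, hQmax, hle⟩ := Ideal.exists_le_maximal _ hne
    haveI : Q.IsPrime := hQmax.isPrime
    have huniv : Algebra.etaleLocus Bb Bb' = Set.univ :=
      Algebra.etaleLocus_eq_univ_iff_etale.mpr inferInstance
    have hQ : (⟨Q, inferInstance⟩ : PrimeSpectrum Bb') ∈ Algebra.etaleLocus Bb Bb' := by
      rw [huniv]; trivial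
    haveI : Algebra.IsEtaleAt Bb Q := hQ
    obtain ⟨h, hhQ, hstd⟩ := Algebra.IsEtaleAt.exists_isStandardEtale (R := Bb) Q
    exact hhQ (hle (Ideal.subset_span hstd))
  obtain ⟨s, hsT, hs⟩ := (Ideal.span_eq_top_iff_finite T).mp hspan
  exact ⟨s, hs, fun h hh => hsT hh⟩

end Cover

section PiAway

variable {S : Type u} [CommRing S] (s : Finset S) (hs : Ideal.span (s : Set S) = ⊤)

include hs in
theorem faithfullyFlat_pi_away :
    Module.FaithfullyFlat S (∀ h : s, Localization.Away (h : S)) := by
  classical
  apply FamDesc.faithfullyFlat_pi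
  intro m hm
  haveI := hm.isPrime
  have hex : ∃ h ∈ s, h ∉ m := by
    by_contra hcon
    push Not at hcon
    have : Ideal.span (s : Set S) ≤ m := Ideal.span_le.mpr (fun h hh => hcon h hh)
    rw [hs] at this
    exact hm.ne_top (top_le_iff.mp this)
  obtain ⟨h, hhs, hhm⟩ := hex
  refine ⟨⟨h, hhs⟩, ?_⟩
  rw [Ideal.smul_top_eq_map]
  intro htop
  have h1 : Ideal.map (algebraMap S (Localization.Away h)) m = ⊤ := by
    rw [Submodule.restrictScalars_eq_top_iff] at htop
    exact htop
  exact (IsLocalization.map_algebraMap_ne_top_iff_disjoint (Submonoid.powers h)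
    (S := Localization.Away h) m).mpr
    ((Ideal.disjoint_powers_iff_notMem_of_isPrime h).mpr hhm) h1

end PiAway

section FF

variable {B : Type u} [CommRing B] {Bb : Type u} [CommRing Bb] [Algebra B Bb]
  (hπ : Function.Surjective (algebraMap B Bb))
  (hnil : ∀ x ∈ RingHom.ker (algebraMap B Bb), IsNilpotent x)
  (B'' : Type u) [CommRing B''] [Algebra B B''] [Module.Flat B B'']
  (Bb'' : Type u) [CommRing Bb''] [Algebra Bb Bb''] [Module.FaithfullyFlat Bb Bb'']
  (Θ : B'' →+* Bb'')
  (hΘ : ∀ b, Θ (algebraMap B B'' b) = algebraMap Bb Bb'' (algebraMap B Bb b))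

include hπ hnil Θ hΘ in
theorem faithfullyFlat_of_surjective_nil : Module.FaithfullyFlat B B'' := by
  refine { submodule_ne_top := ?_ }
  intro m hm htop
  haveI := hm.isPrime
  have h1 : Ideal.map (algebraMap B B'') m = ⊤ := by
    rw [Ideal.smul_top_eq_map, Submodule.restrictScalars_eq_top_iff] at htop
    exact htop
  have hker : RingHom.ker (algebraMap B Bb) ≤ m := by
    intro x hx
    obtain ⟨n, hn⟩ := hnil x hx
    exact hm.isPrime.mem_of_pow_mem n (by rw [hn]; exact m.zero_mem)
  have hne : Ideal.map (algebraMap B Bb) m ≠ ⊤ := by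
    intro h
    have h2 := Ideal.comap_map_of_surjective (algebraMap B Bb) hπ m
    rw [h, Ideal.comap_top] at h2
    have h3 : m ⊔ Ideal.comap (algebraMap B Bb) ⊥ = m := sup_eq_left.mpr hker
    rw [h3] at h2
    exact hm.ne_top h2.symm
  have hmax : (Ideal.map (algebraMap B Bb) m).IsMaximal :=
    (Ideal.map_eq_top_or_isMaximal_of_surjective _ hπ hm).resolve_left hne
  have h4 := Module.FaithfullyFlat.submodule_ne_top (R := Bb) (M := Bb'') hmax
  apply h4
  rw [Ideal.smul_top_eq_map, Submodule.restrictScalars_eq_top_iff, Ideal.map_map]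
  have h5 : (algebraMap Bb Bb'').comp (algebraMap B Bb) = Θ.comp (algebraMap B B'') := by
    ext b
    exact (hΘ b).symm
  rw [h5, ← Ideal.map_map, h1, Ideal.map_top]

end FF

end Groth.Agent.Lib.Helper25.EtaleLift
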