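import Groth.Agent.Lib.Helper25EtNilA
import Groth.Agent.Lib.Helper25EtaleLiftB

/-!
# Lifting (finite, faithfully flat) étale algebras along surjections with nil kernel (helper25)

* `isNilpotent_of_mem_map`: the extension of a nil ideal is nil.
* `finite_of_surjective_nil`: finiteness can be checked modulo a nil ideal (for finite type).
* `exists_etale_lift_nil`: an étale algebra over `B̄ = B / (nil ideal)` lifts to an étale
  `B`-algebra, finite (resp. faithfully flat) if the given algebra is.
-/

set_option autoImplicit false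
set_option linter.unusedSectionVars false
set_option linter.style.haveILetI false
universe u

namespace Groth.Agent.Lib.Helper25.EtNil

open Polynomial

theorem isNilpotent_of_mem_map {B C : Type*} [CommRing B] [CommRing C] (f : B →+* C)
    (J : Ideal B) (hJ : ∀ x ∈ J, IsNilpotent x) : ∀ y ∈ Ideal.map f J, IsNilpotent y := by
  intro y hy
  have hle : Ideal.map f J ≤ nilradical C := by
    rw [Ideal.map_le_iff_le_comap]
    intro x hx
    rw [Ideal.mem_comap, mem_nilradical]
    exact (hJ x hx).map f
  exact mem_nilradical.mp (hle hy)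

section Fin

variable {B : Type u} [CommRing B] {Bb : Type u} [CommRing Bb] [Algebra B Bb]
  (hπ : Function.Surjective (algebraMap B Bb))
  {B' : Type u} [CommRing B'] [Algebra B B']
  {Bb' : Type u} [CommRing Bb'] [Algebra Bb Bb'] [Algebra B Bb'] [IsScalarTower B Bb Bb']
  (θ : B' →ₐ[B] Bb') (hnil : ∀ x ∈ RingHom.ker θ.toRingHom, IsNilpotent x)

include hπ hnil in
theorem isIntegral_of_surjective_nil [Algebra.IsIntegral Bb Bb'] (x : B') : IsIntegral B x := by
  obtain ⟨pb, hpb, hpx⟩ := Algebra.IsIntegral.isIntegral (R := Bb) (θ x)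
  obtain ⟨p, hp, hmonic⟩ := EtaleLift.exists_monic_lift hπ pb hpb
  have h1 : θ (aeval x p) = 0 := by
    rw [← Polynomial.aeval_algHom_apply, ← Polynomial.aeval_map_algebraMap Bb, hp]
    exact hpx
  obtain ⟨m, hm⟩ := hnil (aeval x p) h1
  refine ⟨p ^ m, hmonic.pow m, ?_⟩
  rw [← Polynomial.aeval_def, map_pow, hm]

include hπ hnil in
theorem finite_of_surjective_nil [Algebra.FiniteType B B'] [Module.Finite Bb Bb'] :
    Module.Finite B B' := by
  haveI : Algebra.IsIntegral B B' := ⟨fun x => isIntegral_of_surjective_nil hπ θ hnil x⟩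
  exact Algebra.IsIntegral.finite

end Fin

section Lift

variable {B : Type u} [CommRing B] {Bb : Type u} [CommRing Bb] [Algebra B Bb]
  (hπ : Function.Surjective (algebraMap B Bb))
  (hnil : ∀ x ∈ RingHom.ker (algebraMap B Bb), IsNilpotent x)
  (Bb' : Type u) [CommRing Bb'] [Algebra Bb Bb'] [Algebra B Bb'] [IsScalarTower B Bb Bb']
  [Algebra.Etale Bb Bb']

include hπ hnil in
theorem exists_etale_lift_nil :
    ∃ (B' : Type u) (_ : CommRing B') (_ : Algebra B B') (θ : B' →ₐ[B] Bb'),
      Algebra.Etale B B' ∧ Function.Surjective θ ∧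
        (∀ x ∈ RingHom.ker θ.toRingHom, IsNilpotent x) ∧
        (Module.FaithfullyFlat Bb Bb' → Module.FaithfullyFlat B B') ∧
        (Module.Finite Bb Bb' → Module.Finite B B') := by
  obtain ⟨B', _, _, θ, het, hsurj, hker⟩ := exists_etale_lift hπ Bb'
  have hn : ∀ x ∈ RingHom.ker θ.toRingHom, IsNilpotent x := fun x hx =>
    isNilpotent_of_mem_map _ _ hnil x (hker hx)
  refine ⟨B', inferInstance, inferInstance, θ, het, hsurj, hn, ?_, ?_⟩
  · intro hff
    haveI := het
    haveI : Module.Flat B B' := inferInstance
    exact EtaleLift.faithfullyFlat_of_surjective_nil hπ hnil B' Bb' θ.toRingHom (fun b => by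
      change θ (algebraMap B B' b) = _
      rw [AlgHom.commutes, IsScalarTower.algebraMap_apply B Bb Bb'])
  · intro hfin
    haveI := het
    haveI : Algebra.FiniteType B B' := inferInstance
    exact finite_of_surjective_nil hπ θ hn

end Lift

end Groth.Agent.Lib.Helper25.EtNil
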