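import Groth.Agent.Lib.Helper25Shear
import Groth.Agent.Lib.Helper25UnipExt
import Groth.Agent.Lib.Helper25NilHopf

/-!
# Helper25EtRad: radicial kernels over étale quotients (helper25)

* `isNilpotent_tmul_sub`: for a sub-Hopf-algebra `B` of `A` such that the augmentation ideal of `A`
  is contained in the radical of `A·B⁺`, every `1 ⊗ a - a ⊗ 1` is nilpotent in `A ⊗[B] A`.
* `exists_algebraMap_eq_of_isNilpotent`: if `B` is étale over a perfect field `k`, `R` a reduced
  `B`-algebra with `B → R` injective and `1 ⊗ r - r ⊗ 1` nilpotent in `R ⊗[B] R`, then `r ∈ B`.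
-/

set_option autoImplicit false
universe u

namespace Groth.Agent.Lib.Helper25.EtRad

open TensorProduct

section Nilp

variable {k A : Type u} [Field k] [CommRing A] [HopfAlgebra k A] (B : Subalgebra k A)

theorem isNilpotent_tmul_sub
    (hB : ∀ b ∈ B, CoalgebraStruct.comul (R := k) b ∈
      LinearMap.range (TensorProduct.map B.val.toLinearMap B.val.toLinearMap))
    (hrad : ∀ y : A, CoalgebraStruct.counit (R := k) y = 0 →
      ∃ n : ℕ, y ^ n ∈ SGA3.augIdealSpan k A B) (a : A) :
    IsNilpotent ((1 : A) ⊗ₜ[↥B] a - a ⊗ₜ[↥B] (1 : A)) := by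
  set F : A ⊗[k] A →ₐ[k] A ⊗[↥B] A := (toTensorOver B).comp (shearInv (k := k) (A := A)) with hF
  set η : A →ₗ[k] A := Algebra.linearMap k A ∘ₗ CoalgebraStruct.counit (R := k) (A := A) with hη
  set θ : A →ₗ[k] A := LinearMap.id - η with hθ
  -- key claim
  have key : ∀ z : A ⊗[k] A, IsNilpotent (F (θ.lTensor A z)) := by
    intro z
    induction z using TensorProduct.induction_on with
    | zero => simp
    | add x y hx hy =>
      rw [map_add, map_add]
      exact (Commute.all _ _).isNilpotent_add hx hy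
    | tmul x y =>
      rw [LinearMap.lTensor_tmul]
      set y' : A := θ y with hy'
      have hy0 : CoalgebraStruct.counit (R := k) y' = 0 := by
        rw [hy', hθ, hη]
        simp
      obtain ⟨n, hn⟩ := hrad y' hy0
      have e : (x ⊗ₜ[k] y' : A ⊗[k] A) = (x ⊗ₜ[k] (1 : A)) * ((1 : A) ⊗ₜ[k] y') := by
        rw [Algebra.TensorProduct.tmul_mul_tmul, mul_one, one_mul]
      rw [e, map_mul]
      apply Commute.isNilpotent_mul_left (Commute.all _ _)
      refine ⟨n, ?_⟩
      rw [← map_pow, Algebra.TensorProduct.tmul_pow, one_pow]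
      rw [hF, AlgHom.comp_apply]
      apply toTensorOver_shearInv_eq_zero B hB
      exact ⟨(1 : A) ⊗ₜ[k] ⟨y' ^ n, hn⟩, by simp⟩
  have h1 : CoalgebraStruct.comul (R := k) a - a ⊗ₜ[k] (1 : A) =
      θ.lTensor A (CoalgebraStruct.comul (R := k) a) := by
    rw [hθ, LinearMap.lTensor_sub, LinearMap.sub_apply, LinearMap.lTensor_id, LinearMap.id_apply,
      hη, LinearMap.lTensor_comp, LinearMap.comp_apply, Coalgebra.lTensor_counit_comul,
      LinearMap.lTensor_tmul]
    simp
  have h2 : CoalgebraStruct.comul (R := k) a - a ⊗ₜ[k] (1 : A) =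
      shear (k := k) ((1 : A) ⊗ₜ[k] a - a ⊗ₜ[k] (1 : A)) := by
    rw [map_sub, shear_tmul, shear_tmul, Bialgebra.comul_one, ← Algebra.TensorProduct.one_def,
      one_mul, mul_one]
  have h3 := key (CoalgebraStruct.comul (R := k) a)
  rw [← h1, h2, hF, AlgHom.comp_apply, shearInv_shear, map_sub, toTensorOver_tmul,
    toTensorOver_tmul] at h3
  exact h3

end Nilp

section Descent

variable {k : Type u} [Field k] [PerfectField k] {R : Type u} [CommRing R] [Algebra k R]
  [IsReduced R] (B : Type u) [CommRing B] [Algebra k B] [Algebra.Etale k B] [Algebra B R]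
  [IsScalarTower k B R]

/-- The canonical map `R ⊗[k] R → R ⊗[B] R`. -/
noncomputable def qMap : R ⊗[k] R →ₐ[k] R ⊗[B] R :=
  Algebra.TensorProduct.lift (Algebra.TensorProduct.includeLeft : R →ₐ[k] R ⊗[B] R)
    ((Algebra.TensorProduct.includeRight : R →ₐ[B] R ⊗[B] R).restrictScalars k)
    (fun _ _ => .all ..)

omit [PerfectField k] [IsReduced R] [Algebra.Etale k B] in
theorem qMap_tmul (x y : R) : qMap (k := k) B (x ⊗ₜ[k] y) = x ⊗ₜ[B] y := by
  simp [qMap, Algebra.TensorProduct.tmul_mul_tmul]

include k in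
theorem exists_algebraMap_eq_of_isNilpotent (hinj : Function.Injective (algebraMap B R)) (r : R)
    (h : IsNilpotent ((1 : R) ⊗ₜ[B] r - r ⊗ₜ[B] (1 : R))) : ∃ b : B, algebraMap B R b = r := by
  classical
  -- separability element
  haveI : Algebra.FiniteType k B := inferInstance
  obtain ⟨t, ht1, ht2⟩ := (Algebra.FormallyUnramified.iff_exists_tensorProduct (R := k) (S := B)).mp
    inferInstance
  set ι : B →ₐ[k] R := IsScalarTower.toAlgHom k B R with hι
  set t' : R ⊗[k] R := Algebra.TensorProduct.map ι ι t with ht'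
  have ht1' : ∀ s : B, ((1 : R) ⊗ₜ[k] ι s - ι s ⊗ₜ[k] (1 : R)) * t' = 0 := by
    intro s
    have := congrArg (Algebra.TensorProduct.map ι ι) (ht1 s)
    rw [map_mul, map_sub, Algebra.TensorProduct.map_tmul, Algebra.TensorProduct.map_tmul,
      map_one, map_zero] at this
    exact this
  -- reducedness of R ⊗[k] R
  haveI := NilHopf.isGeometricallyReduced_of_perfectField k R
  haveI : IsReduced (R ⊗[k] R) := NilHopf.isReduced_tensor_of_isReduced k R R
  -- the map m_t
  letI : Module B (R ⊗[k] R) := inferInstance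
  have hsm : ∀ (b : B) (w : R ⊗[k] R), b • w = (ι b ⊗ₜ[k] (1 : R)) * w := by
    intro b w
    induction w using TensorProduct.induction_on with
    | zero => simp
    | add x y hx hy => rw [smul_add, hx, hy, mul_add]
    | tmul x y =>
      rw [TensorProduct.smul_tmul', Algebra.TensorProduct.tmul_mul_tmul, one_mul,
        Algebra.smul_def]
      rfl
  let mt : R ⊗[B] R →ₗ[B] R ⊗[k] R := TensorProduct.lift
    { toFun := fun x =>
        { toFun := fun y => t' * (x ⊗ₜ[k] y)
          map_add' := fun y y' => by rw [TensorProduct.tmul_add, mul_add]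
          map_smul' := fun b y => by
            rw [RingHom.id_apply, hsm, Algebra.smul_def]
            have e : (x ⊗ₜ[k] (algebraMap B R b * y) : R ⊗[k] R) =
                ((1 : R) ⊗ₜ[k] ι b - ι b ⊗ₜ[k] (1 : R)) * (x ⊗ₜ[k] y) +
                  (ι b ⊗ₜ[k] (1 : R)) * (x ⊗ₜ[k] y) := by
              rw [sub_mul, sub_add_cancel, Algebra.TensorProduct.tmul_mul_tmul, one_mul]
              rfl
            rw [e, mul_add, ← mul_assoc, mul_comm t', ht1' b, zero_mul, zero_add]
            ring }
      map_add' := fun x x' => by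
        ext y
        simp only [LinearMap.coe_mk, AddHom.coe_mk, LinearMap.add_apply]
        rw [TensorProduct.add_tmul, mul_add]
      map_smul' := fun b x => by
        ext y
        simp only [LinearMap.coe_mk, AddHom.coe_mk, LinearMap.smul_apply, RingHom.id_apply]
        rw [hsm, Algebra.smul_def]
        have e : ((algebraMap B R b * x) ⊗ₜ[k] y : R ⊗[k] R) =
            (ι b ⊗ₜ[k] (1 : R)) * (x ⊗ₜ[k] y) := by
          rw [Algebra.TensorProduct.tmul_mul_tmul, one_mul]
          rfl
        rw [e]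
        ring }
  have hmt : ∀ w : R ⊗[k] R, mt (qMap (k := k) B w) = t' * w := by
    intro w
    induction w using TensorProduct.induction_on with
    | zero => simp
    | add x y hx hy => rw [map_add, map_add, hx, hy, mul_add]
    | tmul x y =>
      rw [qMap_tmul]
      rfl
  set x : R ⊗[k] R := (1 : R) ⊗ₜ[k] r - r ⊗ₜ[k] (1 : R) with hx
  have hqx : qMap (k := k) B x = (1 : R) ⊗ₜ[B] r - r ⊗ₜ[B] (1 : R) := by
    rw [hx, map_sub, qMap_tmul, qMap_tmul]
  obtain ⟨N, hN⟩ := h
  have h1 : t' * x ^ N = 0 := by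
    rw [← hmt, map_pow, hqx, hN, map_zero]
  have h2 : t' * x = 0 := by
    apply IsNilpotent.eq_zero
    refine ⟨N + 1, ?_⟩
    rw [mul_pow, pow_succ, pow_succ, mul_assoc, ← mul_assoc t' (x ^ N), h1]
    ring
  -- q (1 - t') = 0
  have h3 : qMap (k := k) B ((1 : R ⊗[k] R) - t') = 0 := by
    have hmem : (1 : B ⊗[k] B) - t ∈ KaehlerDifferential.ideal k B := by
      rw [KaehlerDifferential.ideal, RingHom.mem_ker, map_sub, map_one]
      change (1 : B) - Algebra.TensorProduct.lmul' k t = 0
      rw [ht2, sub_self]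
    rw [← KaehlerDifferential.span_range_eq_ideal] at hmem
    have hle : Ideal.span (Set.range fun s : B => (1 : B) ⊗ₜ[k] s - s ⊗ₜ[k] (1 : B)) ≤
        RingHom.ker (((qMap (k := k) B).comp (Algebra.TensorProduct.map ι ι) :
          B ⊗[k] B →ₐ[k] R ⊗[B] R) : B ⊗[k] B →+* R ⊗[B] R) := by
      rw [Ideal.span_le]
      rintro _ ⟨s, rfl⟩
      rw [SetLike.mem_coe, RingHom.mem_ker]
      change qMap (k := k) B (Algebra.TensorProduct.map ι ι ((1 : B) ⊗ₜ[k] s - s ⊗ₜ[k] (1 : B))) = 0
      rw [map_sub, Algebra.TensorProduct.map_tmul, Algebra.TensorProduct.map_tmul, map_one,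
        map_sub, qMap_tmul, qMap_tmul, sub_eq_zero]
      have e : ι s = s • (1 : R) := by
        rw [Algebra.smul_def, mul_one]
        rfl
      rw [e, TensorProduct.smul_tmul]
    have := hle hmem
    rw [RingHom.mem_ker] at this
    change qMap (k := k) B (Algebra.TensorProduct.map ι ι ((1 : B ⊗[k] B) - t)) = 0 at this
    rw [map_sub, map_one] at this
    exact this
  have h4 : (1 : R) ⊗ₜ[B] r = r ⊗ₜ[B] (1 : R) := by
    have e : x = t' * x + ((1 : R ⊗[k] R) - t') * x := by ring
    have := congrArg (qMap (k := k) B) e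
    rw [h2, zero_add, map_mul, h3, zero_mul, hqx, sub_eq_zero] at this
    exact this
  -- retraction
  haveI : Module.Finite k B := Algebra.FormallyUnramified.finite_of_free k B
  haveI : IsReduced B := Algebra.FormallyUnramified.isReduced_of_field k B
  haveI : IsArtinianRing B := IsArtinianRing.of_finite k B
  haveI : IsSemisimpleRing B := IsArtinianRing.isSemisimpleRing_of_isReduced B
  obtain ⟨ρ, hρ⟩ := IsSemisimpleModule.extension_property (Algebra.linearMap B R) hinj
    (LinearMap.id : B →ₗ[B] B)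
  have hρ1 : ρ 1 = 1 := by
    have := LinearMap.congr_fun hρ 1
    simpa using this
  have h5 := congrArg (fun z => TensorProduct.lid B R (ρ.rTensor R z)) h4
  simp only [LinearMap.rTensor_tmul, TensorProduct.lid_tmul, hρ1, one_smul] at h5
  refine ⟨ρ r, ?_⟩
  conv_rhs => rw [h5]
  rw [Algebra.smul_def, mul_one]

end Descent

end Groth.Agent.Lib.Helper25.EtRad
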