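import Mathlib.RingTheory.Etale.StandardEtale
import Mathlib.RingTheory.Polynomial.Nilpotent
import Mathlib.Algebra.Polynomial.Lifts

/-!
# Lifting standard étale algebras along surjections (helper25)

Let `B → B̄` be a surjective ring map with kernel `J` and `S̄` a standard étale `B̄`-algebra.  Then
there are a standard étale pair `P` over `B` and a surjective `B`-algebra map `P.Ring → S̄`
whose kernel is contained in `J · P.Ring`.
-/

set_option autoImplicit false
set_option linter.unusedSectionVars false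
set_option linter.style.haveILetI false
universe u

namespace Groth.Agent.Lib.Helper25.EtaleLift

open Polynomial

section Single

variable {B : Type u} [CommRing B] {Bb : Type u} [CommRing Bb] [Algebra B Bb]
  (hπ : Function.Surjective (algebraMap B Bb))
  {Sb : Type u} [CommRing Sb] [Algebra Bb Sb] [Algebra B Sb] [IsScalarTower B Bb Sb]
  (Pr : StandardEtalePresentation Bb Sb)

include hπ in
theorem exists_monic_lift (p : Bb[X]) (hp : p.Monic) :
    ∃ f : B[X], f.map (algebraMap B Bb) = p ∧ f.Monic := by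
  cases subsingleton_or_nontrivial Bb
  · exact ⟨1, Subsingleton.elim _ _, monic_one⟩
  · have hl : p ∈ Polynomial.lifts (algebraMap B Bb) :=
      (Polynomial.mem_lifts _).mpr (Polynomial.map_surjective _ hπ _)
    obtain ⟨f, h1, _, h2⟩ := Polynomial.lifts_and_degree_eq_and_monic hl hp
    exact ⟨f, h1, h2⟩

include hπ Pr in
/-- Lifting a standard étale presentation along a surjection. -/
theorem exists_standardEtalePair_lift :
    ∃ (P : StandardEtalePair B) (θ : P.Ring →ₐ[B] Sb), Function.Surjective θ ∧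
      RingHom.ker θ.toRingHom ≤
        Ideal.map (algebraMap B P.Ring) (RingHom.ker (algebraMap B Bb)) := by
  -- choose lifts
  obtain ⟨f, hf, hmonic⟩ := exists_monic_lift hπ Pr.f Pr.monic_f
  obtain ⟨q₁, q₂, n, hcond⟩ := Pr.cond
  obtain ⟨g₀, hg₀⟩ := Polynomial.map_surjective _ hπ Pr.g
  obtain ⟨p₁, hp₁⟩ := Polynomial.map_surjective _ hπ q₁
  obtain ⟨p₂, hp₂⟩ := Polynomial.map_surjective _ hπ q₂
  set w : B[X] := derivative f * p₁ + f * p₂ with hw
  have hwmap : w.map (algebraMap B Bb) = Pr.g ^ n := by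
    rw [hw, Polynomial.map_add, Polynomial.map_mul, Polynomial.map_mul,
      ← Polynomial.derivative_map, hf, hp₁, hp₂, hcond]
  let P : StandardEtalePair B :=
    { f := f, monic_f := hmonic, g := g₀ * w,
      cond := ⟨g₀ * p₁, g₀ * p₂, 1, by rw [pow_one, hw]; ring⟩ }
  have hPf : P.f = f := rfl
  have hPg : P.g = g₀ * w := rfl
  -- the map `θ`
  have hmapx : P.HasMap Pr.x := by
    constructor
    · rw [hPf, ← Polynomial.aeval_map_algebraMap Bb, hf]
      exact Pr.hasMap.1
    · rw [hPg, ← Polynomial.aeval_map_algebraMap Bb, Polynomial.map_mul, hg₀, hwmap, map_mul,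
        map_pow]
      exact Pr.hasMap.2.mul (Pr.hasMap.2.pow n)
  let θ : P.Ring →ₐ[B] Sb := P.lift Pr.x hmapx
  have hθX : θ P.X = Pr.x := P.lift_X _ _
  -- the quotient `Q = P.Ring / J P.Ring` as a `B̄`-algebra
  set J : Ideal B := RingHom.ker (algebraMap B Bb) with hJ
  set K : Ideal P.Ring := Ideal.map (algebraMap B P.Ring) J with hK
  let ρ₀ : B ⧸ J →+* P.Ring ⧸ K :=
    Ideal.Quotient.lift J ((Ideal.Quotient.mk K).comp (algebraMap B P.Ring))
      (fun a ha => Ideal.Quotient.eq_zero_iff_mem.mpr (Ideal.mem_map_of_mem _ ha))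
  let ρ : Bb →+* P.Ring ⧸ K :=
    ρ₀.comp (RingHom.quotientKerEquivOfSurjective hπ).symm.toRingHom
  have hρ : ∀ b : B, ρ (algebraMap B Bb b) = Ideal.Quotient.mk K (algebraMap B P.Ring b) := by
    intro b
    change ρ₀ ((RingHom.quotientKerEquivOfSurjective hπ).symm (algebraMap B Bb b)) = _
    rw [RingHom.quotientKerEquivOfSurjective_symm_apply]
    rfl
  letI : Algebra Bb (P.Ring ⧸ K) := ρ.toAlgebra
  haveI : IsScalarTower B Bb (P.Ring ⧸ K) :=
    IsScalarTower.of_algebraMap_eq (fun b => (hρ b).symm)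
  -- the map `ψ : S̄ → Q`
  have hunit : IsUnit (aeval P.X g₀) := by
    have h1 : IsUnit (aeval P.X P.g) := P.hasMap_X.2
    rw [hPg, map_mul] at h1
    exact isUnit_of_mul_isUnit_left h1
  have hmapQ : Pr.P.HasMap (Ideal.Quotient.mk K P.X) := by
    constructor
    · change aeval (Ideal.Quotient.mk K P.X) Pr.f = 0
      rw [← hf, Polynomial.aeval_map_algebraMap]
      change aeval (Ideal.Quotient.mkₐ B K P.X) f = 0
      rw [Polynomial.aeval_algHom_apply]
      have : aeval P.X f = 0 := P.hasMap_X.1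
      rw [this, map_zero]
    · change IsUnit (aeval (Ideal.Quotient.mk K P.X) Pr.g)
      rw [← hg₀, Polynomial.aeval_map_algebraMap]
      change IsUnit (aeval (Ideal.Quotient.mkₐ B K P.X) g₀)
      rw [Polynomial.aeval_algHom_apply]
      exact hunit.map _
  let ψ₀ : Pr.P.Ring →ₐ[Bb] P.Ring ⧸ K := Pr.P.lift _ hmapQ
  let ψ : Sb →ₐ[Bb] P.Ring ⧸ K := ψ₀.comp Pr.equivRing.toAlgHom
  have hψx : ψ Pr.x = Ideal.Quotient.mk K P.X := by
    change ψ₀ (Pr.equivRing Pr.x) = _
    rw [StandardEtalePresentation.equivRing_x]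
    exact Pr.P.lift_X _ _
  -- `ψ ∘ θ` is the quotient map
  have hψθ : (ψ.restrictScalars B).comp θ = Ideal.Quotient.mkₐ B K := by
    apply P.hom_ext
    change ψ (θ P.X) = Ideal.Quotient.mk K P.X
    rw [hθX, hψx]
  -- the induced map `θ̄ : Q → S̄`
  have hKθ : ∀ a ∈ K, θ.toRingHom a = 0 := by
    intro a ha
    have hle : K ≤ RingHom.ker θ.toRingHom := by
      rw [hK, Ideal.map_le_iff_le_comap]
      intro j hj
      rw [Ideal.mem_comap, RingHom.mem_ker]
      change θ (algebraMap B P.Ring j) = 0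
      rw [AlgHom.commutes, IsScalarTower.algebraMap_apply B Bb Sb]
      have : algebraMap B Bb j = 0 := hj
      rw [this, map_zero]
    exact hle ha
  let θbr : P.Ring ⧸ K →+* Sb := Ideal.Quotient.lift K θ.toRingHom hKθ
  have hθbr : ∀ x, θbr (Ideal.Quotient.mk K x) = θ x := fun x => rfl
  let θb : P.Ring ⧸ K →ₐ[Bb] Sb :=
    { θbr with
      commutes' := by
        intro c
        obtain ⟨b, rfl⟩ := hπ c
        change θbr (ρ (algebraMap B Bb b)) = _
        rw [hρ, hθbr, AlgHom.commutes, IsScalarTower.algebraMap_apply B Bb Sb] }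
  have hθbψ : θb.comp ψ = AlgHom.id Bb Sb := by
    apply Pr.hom_ext
    change θbr (ψ Pr.x) = Pr.x
    rw [hψx, hθbr, hθX]
  refine ⟨P, θ, ?_, ?_⟩
  · intro y
    obtain ⟨x, hx⟩ := Ideal.Quotient.mk_surjective (ψ y)
    refine ⟨x, ?_⟩
    have h1 : θb (ψ y) = y := congrArg (fun F => F y) hθbψ
    rw [← h1, ← hx]
    rfl
  · intro x hx
    have h1 : ψ (θ x) = Ideal.Quotient.mk K x := congrArg (fun F => F x) hψθ
    have h2 : θ x = 0 := hx
    rw [h2, map_zero] at h1
    exact Ideal.Quotient.eq_zero_iff_mem.mp h1.symm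

end Single

end Groth.Agent.Lib.Helper25.EtaleLift
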