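import Groth.Agent.Lib.Helper25EtaleLiftB

/-!
# Lifting étale covers along surjections with nilpotent kernel, part C (helper25)

`exists_etale_cover_lift`: let `B → B̄` be surjective with nilpotent kernel and `B̄'` an étale
faithfully flat `B̄`-algebra.  Then there are an étale faithfully flat `B`-algebra `B''`, a
`B̄'`-algebra `B̄''` and a surjection `B'' → B̄''` with nilpotent kernel, compatible with
`B → B̄ → B̄'`.
-/

set_option autoImplicit false
set_option linter.unusedSectionVars false
set_option linter.style.haveILetI false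
universe u

namespace Groth.Agent.Lib.Helper25.EtaleLift

open Polynomial Groth.Agent.Lib.Helper25

section Lift

variable {B : Type u} [CommRing B] {Bb : Type u} [CommRing Bb] [Algebra B Bb]
  (hπ : Function.Surjective (algebraMap B Bb))
  (hJ : IsNilpotent (RingHom.ker (algebraMap B Bb)))
  (Bb' : Type u) [CommRing Bb'] [Algebra Bb Bb'] [Algebra.Etale Bb Bb']
  [Module.FaithfullyFlat Bb Bb']

include hπ hJ in
theorem exists_etale_cover_lift :
    ∃ (B'' : Type u) (_ : CommRing B'') (_ : Algebra B B'') (Bb'' : Type u) (_ : CommRing Bb'')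
      (_ : Algebra Bb' Bb'') (Θ : B'' →+* Bb''),
      Algebra.Etale B B'' ∧ Module.FaithfullyFlat B B'' ∧ Function.Surjective Θ ∧
        IsNilpotent (RingHom.ker Θ) ∧
        ∀ b, Θ (algebraMap B B'' b) =
          algebraMap Bb' Bb'' (algebraMap Bb Bb' (algebraMap B Bb b)) := by
  classical
  obtain ⟨s, hs, hstd⟩ := exists_finite_standardEtale_cover Bb Bb'
  -- `B`-algebra structures on the localisations
  letI algB : ∀ h : s, Algebra B (Localization.Away (h : Bb')) := fun h =>
    ((algebraMap Bb (Localization.Away (h : Bb'))).comp (algebraMap B Bb)).toAlgebra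
  haveI towB : ∀ h : s, IsScalarTower B Bb (Localization.Away (h : Bb')) := fun h =>
    IsScalarTower.of_algebraMap_eq (fun _ => rfl)
  -- lift the standard étale presentations
  have hlift : ∀ h : s, ∃ (P : StandardEtalePair B)
      (θ : P.Ring →ₐ[B] Localization.Away (h : Bb')), Function.Surjective θ ∧
        RingHom.ker θ.toRingHom ≤
          Ideal.map (algebraMap B P.Ring) (RingHom.ker (algebraMap B Bb)) := by
    intro h
    haveI := hstd h h.2
    exact exists_standardEtalePair_lift hπ
      (Algebra.IsStandardEtale.nonempty_standardEtalePresentation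
        (R := Bb) (S := Localization.Away (h : Bb'))).some
  choose P θ hθs hθk using hlift
  -- the products
  let Θ : (∀ h : s, (P h).Ring) →+* (∀ h : s, Localization.Away (h : Bb')) :=
    Pi.ringHom (fun h => (θ h).toRingHom.comp (Pi.evalRingHom (fun h : s => (P h).Ring) h))
  have hΘa : ∀ x h, Θ x h = θ h (x h) := fun _ _ => rfl
  have hΘ : ∀ b, Θ (algebraMap B (∀ h : s, (P h).Ring) b) =
      algebraMap Bb' (∀ h : s, Localization.Away (h : Bb'))
        (algebraMap Bb Bb' (algebraMap B Bb b)) := by
    intro b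
    funext h
    rw [hΘa, Pi.algebraMap_apply, AlgHom.commutes, Pi.algebraMap_apply,
      ← IsScalarTower.algebraMap_apply Bb Bb' (Localization.Away (h : Bb'))]
    rfl
  have hΘ' : ∀ b, Θ (algebraMap B (∀ h : s, (P h).Ring) b) =
      algebraMap Bb (∀ h : s, Localization.Away (h : Bb')) (algebraMap B Bb b) := by
    intro b
    rw [hΘ, ← IsScalarTower.algebraMap_apply Bb Bb' (∀ h : s, Localization.Away (h : Bb'))]
  have hsurj : Function.Surjective Θ := by
    intro y
    choose x hx using fun h => hθs h (y h)
    exact ⟨x, funext (fun h => by rw [hΘa, hx])⟩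
  have hnil : IsNilpotent (RingHom.ker Θ) := by
    obtain ⟨N, hN⟩ := hJ
    refine ⟨N, ?_⟩
    rw [Ideal.zero_eq_bot, eq_bot_iff]
    intro z hz
    rw [Ideal.mem_bot]
    funext h
    have h1 : Ideal.map (Pi.evalRingHom (fun h : s => (P h).Ring) h) (RingHom.ker Θ) ≤
        RingHom.ker (θ h).toRingHom := by
      rw [Ideal.map_le_iff_le_comap]
      intro x hx
      rw [Ideal.mem_comap, RingHom.mem_ker]
      change θ h (x h) = 0
      rw [← hΘa, (RingHom.mem_ker).mp hx]
      rfl
    have h2 : (Pi.evalRingHom (fun h : s => (P h).Ring) h) z ∈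
        Ideal.map (Pi.evalRingHom (fun h : s => (P h).Ring) h) (RingHom.ker Θ ^ N) :=
      Ideal.mem_map_of_mem _ hz
    rw [Ideal.map_pow] at h2
    have h3 := Ideal.pow_right_mono (h1.trans (hθk h)) N h2
    rw [← Ideal.map_pow, hN, Ideal.zero_eq_bot, Ideal.map_bot, Ideal.mem_bot] at h3
    exact h3
  -- flatness
  haveI : ∀ h : s, Module.Flat B (P h).Ring := fun h => inferInstance
  haveI : Module.Flat B (∀ h : s, (P h).Ring) := FamDesc.flat_pi (R := B) (fun h : s => (P h).Ring)
  haveI : Module.FaithfullyFlat Bb' (∀ h : s, Localization.Away (h : Bb')) :=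
    faithfullyFlat_pi_away s hs
  haveI : Module.FaithfullyFlat Bb (∀ h : s, Localization.Away (h : Bb')) :=
    Module.FaithfullyFlat.trans Bb Bb' _
  have hnil' : ∀ x ∈ RingHom.ker (algebraMap B Bb), IsNilpotent x := by
    intro x hx
    obtain ⟨N, hN⟩ := hJ
    refine ⟨N, ?_⟩
    have := Ideal.pow_mem_pow hx N
    rwa [hN] at this
  have hff : Module.FaithfullyFlat B (∀ h : s, (P h).Ring) :=
    faithfullyFlat_of_surjective_nil hπ hnil' _ (∀ h : s, Localization.Away (h : Bb')) Θ hΘ'
  exact ⟨∀ h : s, (P h).Ring, inferInstance, inferInstance,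
    ∀ h : s, Localization.Away (h : Bb'), inferInstance, inferInstance, Θ,
    inferInstance, hff, hsurj, hnil, hΘ⟩

end Lift

end Groth.Agent.Lib.Helper25.EtaleLift
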