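import Groth.Agent.Lib.Helper25Antipode
import Groth.Agent.Lib.Helper25Comod
import Groth.Prelude.Def_W4c1tameactTame
import Groth.Prelude.Def_GLin
import Mathlib.RingTheory.Spectrum.Prime.Topology

/-!
# The Reynolds operator of a total integral on relative Hopf modules (helper25)
-/

set_option autoImplicit false
universe u v w w'

namespace Groth.Agent.Lib.Helper25

open TensorProduct HopfRep

section Tame

variable {k : Type u} [CommRing k] {A : Type v} [CommRing A] [HopfAlgebra k A]
variable {B : Type w} [CommRing B] [Algebra k B]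
variable {M : Type w'} [AddCommGroup M] [Module k M] [Module B M] [IsScalarTower k B M]

/-- `m ⊗ a ↦ α(S a) • m`. -/
noncomputable def reyAux (α : A →ₗ[k] B) : M ⊗[k] A →ₗ[k] M :=
  TensorProduct.lift
    ((Algebra.lsmul k k M : B →ₐ[k] Module.End k M).toLinearMap ∘ₗ α ∘ₗ
      (HopfAlgebraStruct.antipode (R := k) (A := A))).flip

@[simp] theorem reyAux_tmul (α : A →ₗ[k] B) (m : M) (a : A) :
    reyAux α (m ⊗ₜ[k] a) = α (HopfAlgebraStruct.antipode (R := k) a) • m := by
  simp [reyAux]

/-- `Γ(b ⊗ c)(m ⊗ a) = (α(S c) • m) ⊗ (S b * a)`. -/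
noncomputable def gam (α : A →ₗ[k] B) : A ⊗[k] A →ₗ[k] M ⊗[k] A →ₗ[k] M ⊗[k] A :=
  TameAct.hmSMul k A B M ∘ₗ
    TensorProduct.map (α ∘ₗ HopfAlgebraStruct.antipode (R := k) (A := A))
      (HopfAlgebraStruct.antipode (R := k) (A := A)) ∘ₗ (TensorProduct.comm k A A).toLinearMap

@[simp] theorem gam_tmul (α : A →ₗ[k] B) (b c : A) (m : M) (a : A) :
    gam α (b ⊗ₜ[k] c) (m ⊗ₜ[k] a) =
      (α (HopfAlgebraStruct.antipode (R := k) c) • m) ⊗ₜ[k]
        (HopfAlgebraStruct.antipode (R := k) b * a) := by
  simp [gam]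

/-- `Ψ(m ⊗ (e ⊗ d)) = (α(S d) • m) ⊗ e`. -/
noncomputable def psiAux (α : A →ₗ[k] B) : M ⊗[k] (A ⊗[k] A) →ₗ[k] M ⊗[k] A :=
  TensorProduct.lift
    { toFun := fun m => TensorProduct.lift
        { toFun := fun e => (TensorProduct.mk k M A).flip e ∘ₗ
            ((Algebra.lsmul k k M : B →ₐ[k] Module.End k M).toLinearMap.flip m) ∘ₗ α ∘ₗ
              (HopfAlgebraStruct.antipode (R := k) (A := A))
          map_add' := fun e e' => by ext d; simp [TensorProduct.tmul_add]
          map_smul' := fun c e => by ext d; simp }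
      map_add' := fun m m' => by
        apply TensorProduct.ext'
        intro e d
        simp [TensorProduct.add_tmul]
      map_smul' := fun c m => by
        apply TensorProduct.ext'
        intro e d
        simp [TensorProduct.smul_tmul'] }

@[simp] theorem psiAux_tmul (α : A →ₗ[k] B) (m : M) (e d : A) :
    psiAux α (m ⊗ₜ[k] (e ⊗ₜ[k] d)) =
      (α (HopfAlgebraStruct.antipode (R := k) d) • m) ⊗ₜ[k] e := by
  simp [psiAux]

end Tame

section Xi

variable {k : Type u} [CommRing k] {A : Type v} [CommRing A] [HopfAlgebra k A]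

/-- `Ξ(a ⊗ (b ⊗ d)) = (a * S b) ⊗ d`. -/
noncomputable def xiAux (k : Type u) [CommRing k] (A : Type v) [CommRing A] [HopfAlgebra k A] :
    A ⊗[k] (A ⊗[k] A) →ₗ[k] A ⊗[k] A :=
  (LinearMap.mul' k A ∘ₗ (HopfAlgebraStruct.antipode (R := k) (A := A)).lTensor A).rTensor A ∘ₗ
    (TensorProduct.assoc k A A A).symm.toLinearMap

@[simp] theorem xiAux_tmul (a b d : A) :
    xiAux k A (a ⊗ₜ[k] (b ⊗ₜ[k] d)) = (a * HopfAlgebraStruct.antipode (R := k) b) ⊗ₜ[k] d := by
  simp [xiAux]

theorem xiAux_comul_comul (c : A) :
    xiAux k A ((CoalgebraStruct.comul (R := k) (A := A)).lTensor A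
      (CoalgebraStruct.comul (R := k) c)) = (1 : A) ⊗ₜ[k] c := by
  unfold xiAux
  rw [LinearMap.comp_apply, LinearEquiv.coe_coe, Coalgebra.coassoc_symm_apply,
    ← LinearMap.rTensor_comp_apply, LinearMap.comp_assoc,
    HopfAlgebra.mul_antipode_lTensor_comul, LinearMap.rTensor_comp, LinearMap.comp_apply,
    Coalgebra.rTensor_counit_comul, LinearMap.rTensor_tmul]
  simp [Algebra.algebraMap_eq_smul_one]

end Xi

section Main

variable {k : Type u} [CommRing k] {A : Type v} [CommRing A] [HopfAlgebra k A]
variable {B : Type w} [CommRing B] [Algebra k B] [Comod k A B]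
variable {M : Type w'} [AddCommGroup M] [Module k M] [Module B M] [IsScalarTower k B M]
variable [Comod k A M] [TameAct.IsHopfMod k A B M]

omit [Comod k A B] [Comod k A M] [TameAct.IsHopfMod k A B M] in
theorem gam_eq_psiAux (α : A →ₗ[k] B) (z : A ⊗[k] A) (m : M) (a : A) :
    gam α z (m ⊗ₜ[k] a) = psiAux α (m ⊗ₜ[k] xiAux k A (a ⊗ₜ[k] z)) := by
  induction z using TensorProduct.induction_on with
  | zero => simp
  | add x y hx hy => simp only [map_add, LinearMap.add_apply, TensorProduct.tmul_add, hx, hy]
  | tmul b d => simp [mul_comm]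

/-- Step A: `ρ(α(S a) • m) = Γ(Δ a)(ρ m)`. -/
theorem coact_reyAux_tmul (α : A →ₗ[k] B) (hα : Hoch.IsComodHom A α) (m : M) (a : A) :
    Comod.coact (k := k) (A := A) (reyAux α (m ⊗ₜ[k] a)) =
      gam α (CoalgebraStruct.comul (R := k) a) (Comod.coact (k := k) (A := A) m) := by
  rw [reyAux_tmul, TameAct.IsHopfMod.coact_smul]
  have h1 := isComodHom_apply hα (HopfAlgebraStruct.antipode (R := k) a)
  change Comod.coact (k := k) (A := A) (α (HopfAlgebraStruct.antipode (R := k) a)) =
    α.rTensor A (CoalgebraStruct.comul (R := k) (HopfAlgebraStruct.antipode (R := k) a)) at h1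
  rw [h1]
  have h2 := comul_antipode (k := k) a
  change CoalgebraStruct.comul (R := k) (HopfAlgebraStruct.antipode (R := k) a) = _ at h2
  rw [h2]
  unfold gam
  simp only [LinearMap.coe_comp, Function.comp_apply, LinearEquiv.coe_coe]
  congr 1
  generalize (TensorProduct.comm k A A) (CoalgebraStruct.comul (R := k) a) = z
  induction z using TensorProduct.induction_on with
  | zero => simp
  | add x y hx hy => simp only [map_add, hx, hy]
  | tmul b d => simp

theorem coact_reyAux (α : A →ₗ[k] B) (hα : Hoch.IsComodHom A α) (x : M ⊗[k] A) :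
    Comod.coact (k := k) (A := A) (reyAux α x) =
      TensorProduct.lift (gam (M := M) α).flip
        (TensorProduct.map (Comod.coact (k := k) (A := A)) (CoalgebraStruct.comul (R := k) (A := A))
          x) := by
  induction x using TensorProduct.induction_on with
  | zero => simp
  | add x y hx hy => simp only [map_add, hx, hy]
  | tmul m a =>
    rw [coact_reyAux_tmul α hα, TensorProduct.map_tmul, TensorProduct.lift.tmul]
    rfl

omit [Comod k A B] [Comod k A M] [TameAct.IsHopfMod k A B M] in
theorem lift_gam_eq (α : A →ₗ[k] B) (w : M ⊗[k] (A ⊗[k] A)) :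
    TensorProduct.lift (gam (M := M) α).flip
      ((CoalgebraStruct.comul (R := k) (A := A)).lTensor (M ⊗[k] A)
        ((TensorProduct.assoc k M A A).symm w)) =
      psiAux α ((xiAux k A ∘ₗ (CoalgebraStruct.comul (R := k) (A := A)).lTensor A).lTensor M w) := by
  induction w using TensorProduct.induction_on with
  | zero => simp
  | add x y hx hy => simp only [map_add, hx, hy]
  | tmul m z =>
    induction z using TensorProduct.induction_on with
    | zero => simp
    | add x y hx hy => simp only [TensorProduct.tmul_add, map_add, hx, hy]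
    | tmul a c =>
      simp only [TensorProduct.assoc_symm_tmul, LinearMap.lTensor_tmul, TensorProduct.lift.tmul,
        LinearMap.flip_apply, LinearMap.coe_comp, Function.comp_apply]
      exact gam_eq_psiAux α _ m a

omit [Comod k A B] [Comod k A M] [TameAct.IsHopfMod k A B M] in
theorem psiAux_one_tmul (α : A →ₗ[k] B) (x : M ⊗[k] A) :
    psiAux α ((TensorProduct.mk k A A 1).lTensor M x) = reyAux α x ⊗ₜ[k] (1 : A) := by
  induction x using TensorProduct.induction_on with
  | zero => simp
  | add x y hx hy => simp only [map_add, hx, hy, TensorProduct.add_tmul]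
  | tmul m a => simp

/-- The Reynolds operator of a total integral lands in the invariants. -/
theorem coact_reyAux_coact (α : A →ₗ[k] B) (hα : Hoch.IsComodHom A α) (m : M) :
    Comod.coact (k := k) (A := A) (reyAux α (Comod.coact (k := k) (A := A) m)) =
      reyAux α (Comod.coact (k := k) (A := A) m) ⊗ₜ[k] (1 : A) := by
  rw [coact_reyAux α hα]
  have h1 : TensorProduct.map (Comod.coact (k := k) (A := A) (V := M))
      (CoalgebraStruct.comul (R := k) (A := A)) (Comod.coact (k := k) (A := A) m) =
      (CoalgebraStruct.comul (R := k) (A := A)).lTensor (M ⊗[k] A)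
        ((Comod.coact (k := k) (A := A)).rTensor A (Comod.coact (k := k) (A := A) m)) := by
    rw [← LinearMap.comp_apply (LinearMap.lTensor _ _) (LinearMap.rTensor _ _),
      LinearMap.lTensor_comp_rTensor]
  rw [h1, coassoc_apply, lift_gam_eq, ← LinearMap.comp_apply (LinearMap.lTensor M _),
    ← LinearMap.lTensor_comp]
  have h2 : (xiAux k A ∘ₗ (CoalgebraStruct.comul (R := k) (A := A)).lTensor A) ∘ₗ
      CoalgebraStruct.comul (R := k) (A := A) = TensorProduct.mk k A A 1 := by
    apply LinearMap.ext
    intro c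
    exact xiAux_comul_comul c
  rw [h2, psiAux_one_tmul]

end Main

section Reynolds

variable {k : Type u} [CommRing k] {A : Type v} [CommRing A] [HopfAlgebra k A]
variable {B : Type w} [CommRing B] [Algebra k B] [Comod k A B]
variable {M : Type w'} [AddCommGroup M] [Module k M] [Module B M] [IsScalarTower k B M]
variable [Comod k A M]
variable {N : Type*} [AddCommGroup N] [Module k N] [Module B N] [IsScalarTower k B N]
variable [Comod k A N]

theorem reynolds_eq (α : A →ₗ[k] B) (m : M) :
    TameAct.reynolds k A B M α m = reyAux α (Comod.coact (k := k) (A := A) m) := rfl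

theorem reynolds_mem_fixedPts [TameAct.IsHopfMod k A B M] (α : A →ₗ[k] B)
    (hα : Hoch.IsComodHom A α) (m : M) : TameAct.reynolds k A B M α m ∈ fixedPts k A M := by
  change Comod.coact (k := k) (A := A) _ = _
  rw [reynolds_eq]
  exact coact_reyAux_coact α hα m

theorem reynolds_of_mem_fixedPts (α : A →ₗ[k] B) (hα1 : α 1 = 1) {m : M}
    (hm : m ∈ fixedPts k A M) : TameAct.reynolds k A B M α m = m := by
  have hm' : Comod.coact (k := k) (A := A) m = m ⊗ₜ[k] (1 : A) := hm
  rw [TameAct.reynolds_apply_of_coact_eq k A B M α m m 1 hm']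
  have : HopfAlgebraStruct.antipode (R := k) (1 : A) = 1 := HopfAlgebra.antipode_one
  rw [this, hα1, one_smul]

omit [Comod k A B] [Comod k A M] [Comod k A N] in
theorem map_reyAux (α : A →ₗ[k] B) (f : M →ₗ[B] N) (x : M ⊗[k] A) :
    f (reyAux α x) = reyAux α ((f.restrictScalars k).rTensor A x) := by
  induction x using TensorProduct.induction_on with
  | zero => simp
  | add x y hx hy => simp only [map_add, hx, hy]
  | tmul m a => simp

/-- Naturality of the Reynolds operator. -/
theorem map_reynolds (α : A →ₗ[k] B) (f : M →ₗ[B] N)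
    (hf : Hoch.IsComodHom A (f.restrictScalars k)) (m : M) :
    f (TameAct.reynolds k A B M α m) = TameAct.reynolds k A B N α (f m) := by
  rw [reynolds_eq, reynolds_eq, map_reyAux]
  congr 1
  exact (isComodHom_apply hf m).symm

omit [Comod k A B] [Comod k A M] in
theorem reyAux_hmSMul_tmul_one (α : A →ₗ[k] B) (b : B) (x : M ⊗[k] A) :
    reyAux α (TameAct.hmSMul k A B M (b ⊗ₜ[k] (1 : A)) x) = b • reyAux α x := by
  induction x using TensorProduct.induction_on with
  | zero => simp
  | add x y hx hy => simp only [map_add, hx, hy, smul_add]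
  | tmul m a =>
    rw [TameAct.hmSMul_tmul, one_mul, reyAux_tmul, reyAux_tmul, smul_comm]

/-- The Reynolds operator is linear over the invariants of `B`. -/
theorem reynolds_smul_of_mem_fixedPts [TameAct.IsHopfMod k A B M] (α : A →ₗ[k] B) {b : B}
    (hb : b ∈ fixedPts k A B) (m : M) :
    TameAct.reynolds k A B M α (b • m) = b • TameAct.reynolds k A B M α m := by
  rw [reynolds_eq, reynolds_eq, TameAct.IsHopfMod.coact_smul]
  have hb' : Comod.coact (k := k) (A := A) b = b ⊗ₜ[k] (1 : A) := hb
  rw [hb', reyAux_hmSMul_tmul_one]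

omit [Comod k A B] [Comod k A M] in
theorem reyAux_mem_of_mem_range (α : A →ₗ[k] B) (U : Submodule B M)
    {x : M ⊗[k] A} (hx : x ∈ LinearMap.range ((U.restrictScalars k).subtype.rTensor A)) :
    reyAux α x ∈ U := by
  obtain ⟨y, rfl⟩ := hx
  induction y using TensorProduct.induction_on with
  | zero => simp
  | add x y hx hy => rw [map_add, map_add]; exact U.add_mem hx hy
  | tmul u a =>
    rw [LinearMap.rTensor_tmul, reyAux_tmul]
    exact U.smul_mem _ u.2

/-- The Reynolds operator preserves `B`-submodules which are subcomodules. -/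
theorem reynolds_mem_of_isSubcomod (α : A →ₗ[k] B) (U : Submodule B M)
    (hU : IsSubcomod (k := k) (A := A) (U.restrictScalars k)) {m : M} (hm : m ∈ U) :
    TameAct.reynolds k A B M α m ∈ U := by
  rw [reynolds_eq]
  exact reyAux_mem_of_mem_range α U (hU m hm)

end Reynolds

section SelfModule

variable {k : Type u} [CommRing k] {A : Type v} [CommRing A] [Bialgebra k A]
variable {B : Type w} [CommRing B] [Algebra k B] [Comod k A B] [GLin.IsCoactAlg k A B]

omit [Comod k A B] [GLin.IsCoactAlg k A B] in
theorem hmSMul_eq_mul (x y : B ⊗[k] A) : TameAct.hmSMul k A B B x y = x * y := by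
  induction x using TensorProduct.induction_on with
  | zero => simp
  | add x₁ x₂ h₁ h₂ => rw [map_add, LinearMap.add_apply, h₁, h₂, add_mul]
  | tmul b a =>
    induction y using TensorProduct.induction_on with
    | zero => simp
    | add y₁ y₂ h₁ h₂ => rw [map_add, h₁, h₂, mul_add]
    | tmul b' a' => simp [Algebra.TensorProduct.tmul_mul_tmul]

instance isHopfMod_self : TameAct.IsHopfMod k A B B where
  coact_smul b m := by
    rw [smul_eq_mul, GLin.IsCoactAlg.coact_mul, hmSMul_eq_mul]

end SelfModule

section Invariants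

variable {k : Type u} [CommRing k] {A : Type v} [CommRing A] [HopfAlgebra k A]
variable {B : Type w} [CommRing B] [Algebra k B] [Comod k A B] [GLin.IsCoactAlg k A B]

/-- The Reynolds operator `B → B^A` of a total integral, with values in the invariant subalgebra. -/
noncomputable def reynoldsInv (α : A →ₗ[k] B) (hα : Hoch.IsComodHom A α) :
    B → GLin.invariants k A B :=
  fun b => ⟨TameAct.reynolds k A B B α b, reynolds_mem_fixedPts α hα b⟩

theorem reynoldsInv_mem_of_mem_map (α : A →ₗ[k] B) (hα : Hoch.IsComodHom A α)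
    (c : Ideal (GLin.invariants k A B)) {y : B}
    (hy : y ∈ c.map (algebraMap (GLin.invariants k A B) B)) : reynoldsInv α hα y ∈ c := by
  have hfix : ∀ b : B, TameAct.reynolds k A B B α b ∈ GLin.invariants k A B :=
    fun b => reynolds_mem_fixedPts α hα b
  have key : ∀ r : B, reynoldsInv α hα (r * y) ∈ c := by
    refine Submodule.span_induction (p := fun y _ => ∀ r : B, reynoldsInv α hα (r * y) ∈ c)
      ?_ ?_ ?_ ?_ hy
    · rintro _ ⟨z, hz, rfl⟩ r
      have h1 : TameAct.reynolds k A B B α (r * (z : B)) =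
          (z : B) * TameAct.reynolds k A B B α r := by
        rw [mul_comm]
        exact reynolds_smul_of_mem_fixedPts α z.2 r
      have h2 : reynoldsInv α hα (r * (z : B)) = z * reynoldsInv α hα r := Subtype.ext h1
      change reynoldsInv α hα (r * (z : B)) ∈ c
      rw [h2]
      exact Ideal.mul_mem_right _ _ hz
    · intro r
      have : reynoldsInv α hα (r * 0) = 0 := by
        apply Subtype.ext
        simp [reynoldsInv]
      rw [this]
      exact Ideal.zero_mem _
    · intro y₁ y₂ _ _ h₁ h₂ r
      have : reynoldsInv α hα (r * (y₁ + y₂)) =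
          reynoldsInv α hα (r * y₁) + reynoldsInv α hα (r * y₂) := by
        apply Subtype.ext
        simp [reynoldsInv, mul_add]
      rw [this]
      exact Ideal.add_mem _ (h₁ r) (h₂ r)
    · intro r' y _ h r
      have : r * (r' • y) = (r * r') * y := by rw [smul_eq_mul, mul_assoc]
      rw [this]
      exact h _
  have := key 1
  rwa [one_mul] at this

theorem reynoldsInv_algebraMap (α : A →ₗ[k] B) (hα : Hoch.IsComodHom A α) (hα1 : α 1 = 1)
    (x : GLin.invariants k A B) :
    reynoldsInv α hα (algebraMap (GLin.invariants k A B) B x) = x :=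
  Subtype.ext (reynolds_of_mem_fixedPts α hα1 x.2)

theorem reynoldsInv_add (α : A →ₗ[k] B) (hα : Hoch.IsComodHom A α) (x y : B) :
    reynoldsInv α hα (x + y) = reynoldsInv α hα x + reynoldsInv α hα y := by
  apply Subtype.ext
  simp [reynoldsInv]

end Invariants

section PrimeLift

/-- A prime `p` of `C` such that `(I + pB) ∩ C ⊆ p` is the contraction of a prime of `B`
containing `I`. -/
theorem exists_prime_comap_eq {C B : Type*} [CommRing C] [CommRing B] (f : C →+* B)
    (I : Ideal B) (p : Ideal C) [hp : p.IsPrime] (h : (I ⊔ p.map f).comap f ≤ p) :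
    ∃ q : Ideal B, q.IsPrime ∧ I ≤ q ∧ q.comap f = p := by
  set J := I ⊔ p.map f with hJ
  have hdis : Disjoint (J : Set B) (Submonoid.map f p.primeCompl : Set B) := by
    rw [Set.disjoint_left]
    rintro _ hxJ ⟨s, hs, rfl⟩
    exact hs (h hxJ)
  obtain ⟨q, hq, hJq, hqS⟩ := Ideal.exists_le_prime_disjoint J _ hdis
  refine ⟨q, hq, le_trans le_sup_left hJq, ?_⟩
  apply le_antisymm
  · intro s hs
    by_contra hsp
    exact Set.disjoint_left.mp hqS hs ⟨s, hsp, rfl⟩
  · rw [← Ideal.map_le_iff_le_comap]
    exact le_trans le_sup_right hJq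

end PrimeLift

section ZeroLocus

theorem image_zeroLocus_aux
    (k : Type u) [CommRing k] (A : Type v) [CommRing A] [HopfAlgebra k A]
    (B : Type w) [CommRing B] [Algebra k B] [HopfRep.Comod k A B] [GLin.IsCoactAlg k A B]
    (htame : ∃ α : A →ₗ[k] B, Hoch.IsComodHom A α ∧ α 1 = 1)
    (b : Ideal B) (hb : HopfRep.IsSubcomod (k := k) (A := A) (b.restrictScalars k)) :
    PrimeSpectrum.comap (algebraMap (GLin.invariants k A B) B) '' PrimeSpectrum.zeroLocus (b : Set B) =
      PrimeSpectrum.zeroLocus ((b.comap (algebraMap (GLin.invariants k A B) B) : Ideal (GLin.invariants k A B)) : Set (GLin.invariants k A B)) := by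
  obtain ⟨α, hα, hα1⟩ := htame
  apply Set.eq_of_subset_of_subset
  · rintro _ ⟨q, hq, rfl⟩
    rw [PrimeSpectrum.mem_zeroLocus] at hq ⊢
    intro x hx
    exact hq hx
  · intro p hp
    rw [PrimeSpectrum.mem_zeroLocus] at hp
    have hle : (b ⊔ p.asIdeal.map (algebraMap (GLin.invariants k A B) B)).comap
        (algebraMap (GLin.invariants k A B) B) ≤ p.asIdeal := by
      intro x hx
      rw [Ideal.mem_comap] at hx
      obtain ⟨β, hβ, y, hy, hsum⟩ := Submodule.mem_sup.mp hx
      have h1 : reynoldsInv α hα β ∈ p.asIdeal := by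
        apply hp
        change algebraMap (GLin.invariants k A B) B (reynoldsInv α hα β) ∈ b
        exact reynolds_mem_of_isSubcomod α b hb hβ
      have h2 : reynoldsInv α hα y ∈ p.asIdeal := reynoldsInv_mem_of_mem_map α hα _ hy
      have h3 : x = reynoldsInv α hα β + reynoldsInv α hα y := by
        rw [← reynoldsInv_add, hsum, reynoldsInv_algebraMap α hα hα1]
      rw [h3]
      exact Ideal.add_mem _ h1 h2
    obtain ⟨q, hq, hbq, hqp⟩ := exists_prime_comap_eq _ b p.asIdeal hle
    refine ⟨⟨q, hq⟩, ?_, ?_⟩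
    · rw [PrimeSpectrum.mem_zeroLocus]
      exact hbq
    · exact PrimeSpectrum.ext hqp


end ZeroLocus

end Groth.Agent.Lib.Helper25
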