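import Groth.Agent.Lib.Helper25DualComod
import Groth.Agent.Lib.Helper25DualInv
import Groth.Agent.Lib.Helper25Tame

/-! # Exactness of invariants gives a total integral (helper25) -/

set_option autoImplicit false
universe u v w w'

namespace Groth.Agent.Lib.Helper25

open TensorProduct HopfRep

section Exact

variable {k : Type u} [CommRing k] {A : Type v} [CommRing A] [HopfAlgebra k A]
variable {B : Type w} [CommRing B] [Algebra k B]
variable {M : Type w'} [AddCommGroup M] [Module k M]

/-- Evaluation at `m₀`: `b ⊗ g ↦ g m₀ • b`, as a `B`-linear map. -/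
noncomputable def evalB (B : Type w) [CommRing B] [Algebra k B] (m₀ : M) :
    B ⊗[k] Module.Dual k M →ₗ[B] B :=
  (TensorProduct.AlgebraTensorModule.rid k B B).toLinearMap ∘ₗ
    TensorProduct.AlgebraTensorModule.lTensor B B (LinearMap.applyₗ (R := k) m₀)

@[simp] theorem evalB_tmul (m₀ : M) (b : B) (g : Module.Dual k M) :
    evalB B m₀ (b ⊗ₜ[k] g) = g m₀ • b := by
  simp [evalB]

theorem evalB_eq (m₀ : M) (x : B ⊗[k] Module.Dual k M) :
    evalB B m₀ x = dualTensorHom k M B (TensorProduct.comm k B (Module.Dual k M) x) m₀ := by
  induction x using TensorProduct.induction_on with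
  | zero => simp
  | add x y hx hy => simp only [map_add, LinearMap.add_apply, hx, hy]
  | tmul b g => simp

theorem evalB_rTensor (m₀ : M) (y : (B ⊗[k] Module.Dual k M) ⊗[k] A) :
    ((evalB B m₀).restrictScalars k).rTensor A y = psiMap k A B M y m₀ := by
  induction y using TensorProduct.induction_on with
  | zero => simp
  | add x y hx hy => simp only [map_add, LinearMap.add_apply, hx, hy]
  | tmul x a =>
    induction x using TensorProduct.induction_on with
    | zero => simp
    | add x y hx hy => simp only [TensorProduct.add_tmul, map_add, LinearMap.add_apply, hx, hy]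
    | tmul b g => simp [TensorProduct.smul_tmul']

theorem hmSMul_map_mul (z z' : B ⊗[k] A) (w : Module.Dual k M ⊗[k] A) :
    TensorProduct.map LinearMap.id (LinearMap.mul' k A)
      (AlgebraTensorModule.tensorTensorTensorComm k k k k B A (Module.Dual k M) A
        ((z * z') ⊗ₜ[k] w)) =
    TameAct.hmSMul k A B (B ⊗[k] Module.Dual k M) z
      (TensorProduct.map LinearMap.id (LinearMap.mul' k A)
        (AlgebraTensorModule.tensorTensorTensorComm k k k k B A (Module.Dual k M) A
          (z' ⊗ₜ[k] w))) := by
  induction z using TensorProduct.induction_on with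
  | zero => simp
  | add x y hx hy =>
    simp only [add_mul, TensorProduct.add_tmul, map_add, LinearMap.add_apply, hx, hy]
  | tmul b a =>
    induction z' using TensorProduct.induction_on with
    | zero => simp
    | add x y hx hy =>
      simp only [mul_add, TensorProduct.add_tmul, map_add, hx, hy]
    | tmul b' a' =>
      induction w using TensorProduct.induction_on with
      | zero => simp
      | add x y hx hy =>
        simp only [TensorProduct.tmul_add, map_add, hx, hy]
      | tmul g a'' =>
        simp [Algebra.TensorProduct.tmul_mul_tmul, TensorProduct.smul_tmul', mul_assoc]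

end Exact

section Main

variable {k : Type u} [CommRing k] {A : Type u} [CommRing A] [HopfAlgebra k A]
  [Module.Finite k A] [Module.Projective k A]
variable {B : Type u} [CommRing B] [Algebra k B] [Comod k A B] [GLin.IsCoactAlg k A B]

theorem exists_totalIntegral_of_exact
    (hexact : ∀ (M N : Type u) [AddCommGroup M] [Module k M] [Module B M] [IsScalarTower k B M]
      [HopfRep.Comod k A M] [TameAct.IsHopfMod k A B M]
      [AddCommGroup N] [Module k N] [Module B N] [IsScalarTower k B N]
      [HopfRep.Comod k A N] [TameAct.IsHopfMod k A B N] (f : M →ₗ[B] N),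
      Hoch.IsComodHom A (f.restrictScalars k) → Function.Surjective f →
      ∀ n ∈ HopfRep.fixedPts k A N, ∃ m ∈ HopfRep.fixedPts k A M, f m = n) :
    ∃ α : A →ₗ[k] B, Hoch.IsComodHom A α ∧ α 1 = 1 := by
  let d : Comod k A (Module.Dual k A) := dualComod (Comod.regular k A)
  have hd : ComodTens.Comod.IsDual (inferInstance : Comod k A A) d :=
    isDual_dualComod (Comod.regular k A)
  letI cM : Comod k A (B ⊗[k] Module.Dual k A) :=
    ComodTens.Comod.tensor (inferInstance : Comod k A B) d
  haveI : TameAct.IsHopfMod k A B (B ⊗[k] Module.Dual k A) := by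
    constructor
    intro b x
    induction x using TensorProduct.induction_on with
    | zero => simp
    | add x y hx hy => simp only [smul_add, map_add, hx, hy]
    | tmul b' g =>
      rw [TensorProduct.smul_tmul', smul_eq_mul]
      change (ComodTens.Comod.tensor (inferInstance : Comod k A B) d).coact ((b * b') ⊗ₜ[k] g) =
        TameAct.hmSMul k A B (B ⊗[k] Module.Dual k A) (Comod.coact (k := k) (A := A) b)
          ((ComodTens.Comod.tensor (inferInstance : Comod k A B) d).coact (b' ⊗ₜ[k] g))
      rw [ComodTens.tensor_coact_tmul, ComodTens.tensor_coact_tmul]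
      have hm : (inferInstance : Comod k A B).coact (b * b') =
          (inferInstance : Comod k A B).coact b * (inferInstance : Comod k A B).coact b' :=
        GLin.IsCoactAlg.coact_mul b b'
      rw [hm]
      exact hmSMul_map_mul _ _ _
  -- the evaluation map at `1`
  let f : B ⊗[k] Module.Dual k A →ₗ[B] B := evalB B (1 : A)
  have hcomod : Hoch.IsComodHom A (f.restrictScalars k) := by
    apply LinearMap.ext
    intro x
    change Comod.coact (k := k) (A := A) (evalB B (1 : A) x) =
      ((evalB B (1 : A)).restrictScalars k).rTensor A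
        ((ComodTens.Comod.tensor (inferInstance : Comod k A B) d).coact x)
    rw [evalB_rTensor, psiMap_tensor_coact d hd x 1, evalB_eq]
    unfold cj
    simp only [LinearMap.comp_apply]
    have h1 : Comod.coact (k := k) (A := A) (1 : A) = (1 : A) ⊗ₜ[k] (1 : A) := by
      change CoalgebraStruct.comul (R := k) (1 : A) = _
      rw [Bialgebra.comul_one, Algebra.TensorProduct.one_def]
    rw [h1, TensorProduct.map_tmul, HopfAlgebra.antipode_one, mulR_tmul_one]
    rfl
  have hsurj : Function.Surjective f := by
    intro b
    refine ⟨b ⊗ₜ[k] (CoalgebraStruct.counit (R := k) (A := A)), ?_⟩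
    change evalB B (1 : A) _ = b
    rw [evalB_tmul, Bialgebra.counit_one, one_smul]
  have h1 : (1 : B) ∈ HopfRep.fixedPts k A B := by
    change Comod.coact (k := k) (A := A) (1 : B) = (1 : B) ⊗ₜ[k] (1 : A)
    rw [GLin.IsCoactAlg.coact_one, Algebra.TensorProduct.one_def]
  obtain ⟨x, hx, hfx⟩ := hexact (B ⊗[k] Module.Dual k A) B f hcomod hsurj 1 h1
  refine ⟨dualTensorHom k A B (TensorProduct.comm k B (Module.Dual k A) x), ?_, ?_⟩
  · apply isComodHom_of_cj
    intro m
    rw [← psiMap_tensor_coact d hd x m, ← psiMap_tmul_one]
    have hx' : (ComodTens.Comod.tensor (inferInstance : Comod k A B) d).coact x =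
        x ⊗ₜ[k] (1 : A) := hx
    rw [hx']
  · rw [← evalB_eq]
    exact hfx

end Main

end Groth.Agent.Lib.Helper25
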