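import Groth.Agent.Lib.Helper25DescUniq
import Mathlib.RingTheory.Flat.EquationalCriterion
import Mathlib.Algebra.Module.FinitePresentation

/-!
# Descent of finite projectivity along a finite jointly faithfully flat family (helper25)
-/

set_option autoImplicit false
set_option linter.unusedSectionVars false
set_option linter.style.haveILetI false
universe u

namespace Groth.Agent.Lib.Helper25.FamProj

open TensorProduct Groth.Agent.Lib.Helper25

section

variable {R : Type u} [CommRing R] {ι : Type u} [Fintype ι] [DecidableEq ι]
  (S : ι → Type u) [∀ i, CommRing (S i)] [∀ i, Algebra R (S i)]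
  [Module.FaithfullyFlat R (∀ i, S i)]

theorem exists_finset_mem_span {P : Type u} [CommRing P] [Algebra R P] {N : Type u}
    [AddCommGroup N] [Module R N] (z : P ⊗[R] N) :
    ∃ F : Finset N, z ∈ Submodule.span P ((fun n => (1 : P) ⊗ₜ[R] n) '' (F : Set N)) := by
  classical
  induction z using TensorProduct.induction_on with
  | zero => exact ⟨∅, Submodule.zero_mem _⟩
  | tmul s n =>
    refine ⟨{n}, ?_⟩
    have : s ⊗ₜ[R] n = s • ((1 : P) ⊗ₜ[R] n) := by
      rw [TensorProduct.smul_tmul', smul_eq_mul, mul_one]
    rw [this]
    exact Submodule.smul_mem _ _ (Submodule.subset_span ⟨n, by simp, rfl⟩)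
  | add z z' hz hz' =>
    obtain ⟨F, hF⟩ := hz
    obtain ⟨F', hF'⟩ := hz'
    refine ⟨F ∪ F', Submodule.add_mem _ ?_ ?_⟩
    · exact Submodule.span_mono (Set.image_mono (by simp)) hF
    · exact Submodule.span_mono (Set.image_mono (by simp)) hF'

theorem exists_finset_span_eq_top {P : Type u} [CommRing P] [Algebra R P] {N : Type u}
    [AddCommGroup N] [Module R N] [Module.Finite P (P ⊗[R] N)] :
    ∃ F : Finset N, Submodule.span P ((fun n => (1 : P) ⊗ₜ[R] n) '' (F : Set N)) = ⊤ := by
  classical
  obtain ⟨G, hG⟩ := (Module.Finite.fg_top : (⊤ : Submodule P (P ⊗[R] N)).FG)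
  choose F hF using fun z : P ⊗[R] N => exists_finset_mem_span (R := R) (P := P) z
  refine ⟨G.biUnion F, ?_⟩
  rw [eq_top_iff, ← hG, Submodule.span_le]
  intro g hg
  refine Submodule.span_mono (Set.image_mono ?_) (hF g)
  intro n hn
  simp only [Finset.coe_biUnion, Set.mem_iUnion]
  exact ⟨g, hg, hn⟩

/-- Finiteness descends along a jointly faithfully flat finite family. -/
theorem finite_of_forall (N : Type u) [AddCommGroup N] [Module R N]
    (h : ∀ i, Module.Finite (S i) (S i ⊗[R] N)) : Module.Finite R N := by
  classical
  choose F hF using fun i => exists_finset_span_eq_top (R := R) (P := S i) (N := N)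
  let N' : Submodule R N := Submodule.span R ((Finset.univ.biUnion F : Finset N) : Set N)
  have hsurj : Function.Surjective N'.subtype := by
    apply Desc.surjective_of_forall_lTensor S
    intro i
    rw [← LinearMap.baseChange_eq_ltensor, ← LinearMap.range_eq_top, eq_top_iff, ← hF i,
      Submodule.span_le]
    rintro _ ⟨n, hn, rfl⟩
    have hn' : n ∈ N' := by
      apply Submodule.subset_span
      simp only [Finset.coe_biUnion, Set.mem_iUnion]
      exact ⟨i, Finset.mem_univ i, hn⟩
    exact ⟨(1 : S i) ⊗ₜ[R] ⟨n, hn'⟩, by rw [LinearMap.baseChange_tmul]; rfl⟩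
  have htop : N' = ⊤ := by
    rw [eq_top_iff]
    intro n _
    obtain ⟨⟨n', hn'⟩, rfl⟩ := hsurj n
    exact hn'
  exact ⟨⟨_, htop⟩⟩

/-- Flatness descends along a jointly faithfully flat finite family. -/
theorem flat_of_forall (N : Type u) [AddCommGroup N] [Module R N]
    (h : ∀ i, Module.Flat R (S i ⊗[R] N)) : Module.Flat R N := by
  rw [Module.Flat.iff_lTensor_preserves_injective_linearMap]
  intro X Y _ _ _ _ f hf
  apply Desc.injective_of_forall_lTensor S
  intro i
  haveI := h i
  have h1 : Function.Injective (f.lTensor (S i ⊗[R] N)) :=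
    Module.Flat.lTensor_preserves_injective_linearMap f hf
  have h2 : (f.lTensor N).lTensor (S i) =
      (TensorProduct.assoc R (S i) N Y).toLinearMap ∘ₗ (f.lTensor (S i ⊗[R] N)) ∘ₗ
        (TensorProduct.assoc R (S i) N X).symm.toLinearMap := by
    apply TensorProduct.ext'
    intro s z
    induction z using TensorProduct.induction_on with
    | zero => simp
    | add z z' hz hz' => rw [TensorProduct.tmul_add, map_add, map_add, hz, hz']
    | tmul n x => simp
  rw [h2]
  exact (TensorProduct.assoc R (S i) N Y).injective.comp
    (h1.comp (TensorProduct.assoc R (S i) N X).symm.injective)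

/-- Finite projectivity descends along a jointly faithfully flat finite family of flat algebras. -/
theorem finite_projective_of_forall [∀ i, Module.Flat R (S i)] (N : Type u) [AddCommGroup N]
    [Module R N] (hfin : ∀ i, Module.Finite (S i) (S i ⊗[R] N))
    (hproj : ∀ i, Module.Projective (S i) (S i ⊗[R] N)) :
    Module.Finite R N ∧ Module.Projective R N := by
  classical
  haveI hF : Module.Finite R N := finite_of_forall S N hfin
  haveI hFl : Module.Flat R N := by
    apply flat_of_forall S N
    intro i
    haveI := hproj i
    exact Module.Flat.trans R (S i) (S i ⊗[R] N)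
  obtain ⟨n, π, hπ⟩ := Module.Finite.exists_fin' R N
  have hK : (LinearMap.ker π).FG := by
    rw [← Module.Finite.iff_fg]
    apply finite_of_forall S
    intro i
    haveI := hfin i
    haveI := hproj i
    haveI : Module.FinitePresentation (S i) (S i ⊗[R] N) :=
      Module.finitePresentation_of_projective _ _
    have hex : Function.Exact ((LinearMap.ker π).subtype.baseChange (S i)) (π.baseChange (S i)) :=
      Module.Flat.lTensor_exact (S i) π.exact_subtype_ker_map
    have hinj : Function.Injective ((LinearMap.ker π).subtype.baseChange (S i)) := by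
      rw [LinearMap.baseChange_eq_ltensor]
      exact Module.Flat.lTensor_preserves_injective_linearMap _ (Submodule.subtype_injective _)
    have hfg : (LinearMap.ker (π.baseChange (S i))).FG :=
      Module.FinitePresentation.fg_ker (π.baseChange (S i))
        (by rw [LinearMap.baseChange_eq_ltensor]; exact LinearMap.lTensor_surjective _ hπ)
    rw [LinearMap.exact_iff.mp hex] at hfg
    haveI : Module.Finite (S i) (LinearMap.range ((LinearMap.ker π).subtype.baseChange (S i))) :=
      Module.Finite.iff_fg.mpr hfg
    exact Module.Finite.equiv (LinearEquiv.ofInjective _ hinj).symm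
  haveI : Module.FinitePresentation R N := Module.finitePresentation_of_free_of_surjective π hπ hK
  exact ⟨hF, Module.Flat.projective_of_finitePresentation⟩

end

end Groth.Agent.Lib.Helper25.FamProj
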