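import Groth.Agent.Lib.Helper25FinQuot
import Mathlib

/-!
# Going down for the quotient by a finite group scheme (helper25)

For a finite-dimensional commutative Hopf algebra `H` over a field `k` coacting on a commutative
`k`-algebra `R`, the extension `R^H ⊆ R` satisfies going down.
-/

set_option autoImplicit false
universe u v w

namespace Groth.Agent.Lib.Helper25.FinQuotGD

open TensorProduct HopfRep Groth.Agent.Lib.Helper25 Polynomial

variable {k : Type u} [Field k] {H : Type v} [CommRing H] [HopfAlgebra k H] [Module.Finite k H]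
variable {R : Type w} [CommRing R] [Algebra k R] [Comod k H R] [GLin.IsCoactAlg k H R]

/-- the low coefficients of the characteristic polynomial of `0` vanish -/
theorem coeff_chiPoly_zero (S : Type w) [CommRing S] [Algebra k S] (i : ℕ)
    (hi : i < Module.finrank k H) : (chiPoly k H S (0 : S ⊗[k] H)).coeff i = 0 := by
  by_cases hS : Nontrivial S
  · unfold chiPoly
    rw [map_zero, LinearMap.charpoly_zero, Module.finrank_baseChange, coeff_X_pow, if_neg hi.ne]
  · rw [not_nontrivial_iff_subsingleton] at hS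
    exact Subsingleton.elim _ _

theorem natDegree_chiPoly [Nontrivial R] (y : R ⊗[k] H) :
    (chiPoly k H R y).natDegree = Module.finrank k H := by
  unfold chiPoly
  rw [LinearMap.charpoly_natDegree, Module.finrank_baseChange]

/-- if `g ∉ Q` then some low coefficient of the characteristic polynomial of `ρ g` is not in `Q` -/
theorem exists_coeff_notMem (Q : Ideal R) [Q.IsPrime] (g : R) (hg : g ∉ Q) :
    ∃ i < Module.finrank k H,
      (chiPoly k H R (Comod.coact (k := k) (A := H) g)).coeff i ∉ Q := by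
  have hnt : Nontrivial R := ⟨⟨0, 1, fun h => (Ideal.IsPrime.ne_top ‹_›)
    ((Ideal.eq_top_iff_one Q).mpr (h ▸ Q.zero_mem))⟩⟩
  by_contra hall
  push Not at hall
  apply hg
  set P := chiPoly k H R (Comod.coact (k := k) (A := H) g) with hP
  have hmonic : P.Monic := chiPoly_monic R _
  have hdeg : P.natDegree = Module.finrank k H := natDegree_chiPoly _
  have h0 : Polynomial.aeval g P = 0 := aeval_self_chiPoly_coact (k := k) (A := H) g
  rw [Polynomial.aeval_eq_sum_range, Finset.sum_range_succ, hmonic.coeff_natDegree, one_smul,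
    hdeg] at h0
  have h1 : g ^ Module.finrank k H ∈ Q := by
    rw [eq_neg_of_add_eq_zero_right h0]
    apply Q.neg_mem
    apply Q.sum_mem
    intro i hi
    rw [smul_eq_mul]
    exact Q.mul_mem_right _ (hall i (Finset.mem_range.mp hi))
  exact Ideal.IsPrime.mem_of_pow_mem ‹_› _ h1

/-- key vanishing: if `g * a` lies in an ideal generated by invariants contained in the prime `Q₀`,
with `a` invariant and not in `Q₀`, then the low coefficients of the characteristic polynomial of
`ρ g` lie in `Q₀` -/
theorem coeff_mem_of_mul_mem (p : Ideal ↥(GLin.invariants k H R)) (Q₀ : Ideal R) [Q₀.IsPrime]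
    (hpQ : p.map (algebraMap ↥(GLin.invariants k H R) R) ≤ Q₀)
    (g : R) (a : ↥(GLin.invariants k H R)) (ha : (a : R) ∉ Q₀)
    (hga : g * (a : R) ∈ p.map (algebraMap ↥(GLin.invariants k H R) R))
    (i : ℕ) (hi : i < Module.finrank k H) :
    (chiPoly k H R (Comod.coact (k := k) (A := H) g)).coeff i ∈ Q₀ := by
  -- the residue field
  let K := FractionRing (R ⧸ Q₀)
  let θ : R →ₐ[k] K := (IsScalarTower.toAlgHom k (R ⧸ Q₀) K).comp (Ideal.Quotient.mkₐ k Q₀)
  have hθker : ∀ x : R, θ x = 0 ↔ x ∈ Q₀ := by
    intro x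
    show algebraMap (R ⧸ Q₀) K (Ideal.Quotient.mk Q₀ x) = 0 ↔ x ∈ Q₀
    rw [map_eq_zero_iff _ (IsFractionRing.injective (R ⧸ Q₀) K), Ideal.Quotient.eq_zero_iff_mem]
  let Φ : R →ₐ[k] K ⊗[k] H :=
    (Algebra.TensorProduct.map θ (AlgHom.id k H)).comp (GLin.coactAlgHom k H R)
  have hΦinv : ∀ b : ↥(GLin.invariants k H R), Φ (b : R) = θ (b : R) ⊗ₜ[k] (1 : H) := by
    intro b
    show Algebra.TensorProduct.map θ (AlgHom.id k H) (Comod.coact (k := k) (A := H) (b : R)) = _
    rw [(GLin.mem_invariants_iff k H R _).mp b.2, Algebra.TensorProduct.map_tmul, map_one]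
  have hΦker : p.map (algebraMap ↥(GLin.invariants k H R) R) ≤ RingHom.ker Φ.toRingHom := by
    rw [Ideal.map_le_iff_le_comap]
    intro b hb
    rw [Ideal.mem_comap, RingHom.mem_ker]
    show Φ (b : R) = 0
    have hb0 : θ (b : R) = 0 := (hθker _).mpr (hpQ (Ideal.mem_map_of_mem _ hb))
    rw [hΦinv, hb0, TensorProduct.zero_tmul]
  have h1 : Φ g * (θ (a : R) ⊗ₜ[k] (1 : H)) = 0 := by
    rw [← hΦinv, ← map_mul]
    exact hΦker hga
  have hunit : θ (a : R) ≠ 0 := fun h => ha ((hθker _).mp h)
  have h2 : Φ g = 0 := by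
    have h3 : Φ g * (θ (a : R) ⊗ₜ[k] (1 : H)) * ((θ (a : R))⁻¹ ⊗ₜ[k] (1 : H)) = 0 := by
      rw [h1, zero_mul]
    rw [mul_assoc, Algebra.TensorProduct.tmul_mul_tmul, mul_inv_cancel₀ hunit, mul_one,
      ← Algebra.TensorProduct.one_def, mul_one] at h3
    exact h3
  have h4 := chiPoly_map (A := H) θ (Comod.coact (k := k) (A := H) g)
  have h5 : Algebra.TensorProduct.map θ (AlgHom.id k H) (Comod.coact (k := k) (A := H) g) = 0 := h2
  rw [h5] at h4
  have h6 := congrArg (fun P => Polynomial.coeff P i) h4
  simp only [Polynomial.coeff_map] at h6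
  rw [coeff_chiPoly_zero K i hi] at h6
  exact (hθker _).mp h6.symm

/-- going down for the extension `R^H ⊆ R` by a finite group scheme -/
instance hasGoingDown_invariants : Algebra.HasGoingDown ↥(GLin.invariants k H R) R where
  exists_ideal_le_liesOver_of_lt {p} _ Q _ hlt := by
    have : Algebra.IsIntegral ↥(GLin.invariants k H R) R := ⟨isIntegral_invariants⟩
    -- a prime over `p`
    obtain ⟨Q₀, -, hQ₀prime, hQ₀⟩ := Ideal.exists_ideal_over_prime_of_isIntegral p
      (⊥ : Ideal R) (by
        rw [Ideal.comap_bot_of_injective _ Subtype.val_injective]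
        exact bot_le)
    haveI := hQ₀prime
    have hpQ₀ : p.map (algebraMap ↥(GLin.invariants k H R) R) ≤ Q₀ := by
      rw [Ideal.map_le_iff_le_comap, hQ₀]
    -- the multiplicative set
    set S : Submonoid R := Q.primeCompl ⊔ p.primeCompl.map (algebraMap ↥(GLin.invariants k H R) R)
      with hS
    have hdisj : Disjoint ((p.map (algebraMap ↥(GLin.invariants k H R) R) : Ideal R) : Set R)
        (S : Set R) := by
      rw [Set.disjoint_left]
      rintro x hxI hxS
      rw [SetLike.mem_coe, hS, Submonoid.mem_sup] at hxS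
      obtain ⟨g, hg, _, ⟨a, ha, rfl⟩, rfl⟩ := hxS
      have hg' : g ∉ Q := hg
      have ha' : a ∉ p := ha
      obtain ⟨i, hi, hci⟩ := exists_coeff_notMem (k := k) (H := H) Q g hg'
      have haQ₀ : (a : R) ∉ Q₀ := by
        intro h
        apply ha'
        rw [← hQ₀]
        exact h
      have hmem := coeff_mem_of_mul_mem p Q₀ hpQ₀ g a haQ₀ hxI i hi
      apply hci
      -- the coefficient is invariant and lies in `Q₀ ∩ R^H = p < Q ∩ R^H`
      let c : ↥(GLin.invariants k H R) := ⟨_, coeff_chiPoly_mem_invariants (k := k) (A := H) g i⟩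
      have hcp : c ∈ p := by
        rw [← hQ₀]
        exact hmem
      have := hlt.le hcp
      exact this
    obtain ⟨P, hPprime, hIP, hPS⟩ := Ideal.exists_le_prime_disjoint _ S hdisj
    refine ⟨P, ?_, hPprime, ⟨?_⟩⟩
    · intro x hxP
      by_contra hxQ
      apply Set.disjoint_left.mp hPS hxP
      rw [SetLike.mem_coe, hS]
      exact Submonoid.mem_sup_left hxQ
    · apply le_antisymm
      · intro b hb
        exact hIP (Ideal.mem_map_of_mem _ hb)
      · intro b hb
        by_contra hbp
        apply Set.disjoint_left.mp hPS (show (b : R) ∈ P from hb)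
        rw [SetLike.mem_coe, hS]
        exact Submonoid.mem_sup_right ⟨b, hbp, rfl⟩

end Groth.Agent.Lib.Helper25.FinQuotGD
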