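import Groth.Agent.Lib.Helper25FinQuotGD
import Groth.Agent.Lib.Helper25CoactAlg
import Groth.Agent.Lib.Helper28DepthMore
import Groth.Agent.Lib.Helper28DepthBC
import Groth.Agent.Lib.Helper5IntDim
import Groth.Agent.Lib.Helper5CMLocusOpen
import Groth.Agent.Lib.Helper28SFC1
import Mathlib

/-!
# Serre's conditions and Cohen–Macaulayness for invariants of finite linearly reductive group
schemes (helper25)
-/

set_option autoImplicit false
universe u

namespace Groth.Agent.Lib.Helper25.FinQuotSk

open CategoryTheory Abelian Groth.Agent.Lib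

section Order

theorem min_le_coe_of_forall_nat {a b : WithBot ℕ∞} {d : ℕ∞}
    (h : ∀ n : ℕ, ((n : ℕ∞) : WithBot ℕ∞) ≤ a → ((n : ℕ∞) : WithBot ℕ∞) ≤ b → (n : ℕ∞) ≤ d) :
    min a b ≤ (d : WithBot ℕ∞) := by
  rcases hm : min a b with _ | e
  · exact bot_le
  · refine WithBot.coe_le_coe.mpr ?_
    rw [← ENat.forall_natCast_le_iff_le]
    intro n hn
    have h1 : ((n : ℕ∞) : WithBot ℕ∞) ≤ min a b := by
      rw [hm]
      exact WithBot.coe_le_coe.mpr hn
    exact h n (h1.trans (min_le_left _ _)) (h1.trans (min_le_right _ _))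

end Order

section Retract

variable {C : Type*} [Category C] [Abelian C] [HasExt C]

theorem subsingleton_ext_of_retract {X Y Y' : C} (i : Y' ⟶ Y) (π : Y ⟶ Y') (hiπ : i ≫ π = 𝟙 Y')
    (n : ℕ) (h : Subsingleton (Ext X Y n)) : Subsingleton (Ext X Y' n) := by
  refine ⟨fun x y => ?_⟩
  have key : ∀ z : Ext X Y' n, z = ((z.comp (Ext.mk₀ i) (add_zero n)).comp (Ext.mk₀ π)
      (add_zero n)) := by
    intro z
    rw [Ext.comp_assoc_of_third_deg_zero, Ext.mk₀_comp_mk₀, hiπ, Ext.comp_mk₀_id]
  rw [key x, key y, Subsingleton.elim (x.comp (Ext.mk₀ i) (add_zero n))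
    (y.comp (Ext.mk₀ i) (add_zero n))]

end Retract

section General

variable {B R : Type u} [CommRing B] [CommRing R] [Algebra B R] [IsNoetherianRing B]
  [IsNoetherianRing R] [Module.Finite B R] [Algebra.HasGoingDown B R]

/-- the key inequality: `(S_r)` for `R` gives depth of `R` over `B` along primes of `B` -/
theorem le_idealDepth_of_hasSk (r : ℕ) (hR : LocCoh.HasSk r R R) (p : Ideal B) [p.IsPrime]
    (n : ℕ) (hnr : n ≤ r) (hnp : (n : ℕ∞) ≤ p.height) :
    (n : ℕ∞) ≤ LocCoh.idealDepth p R := by
  rw [Helper28.idealDepth_restrictScalars_eq_idealDepth_map (B := R) p R,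
    Helper28.idealDepth_eq_iInf_depth_localization]
  refine le_iInf₂ fun Q hQ => ?_
  have hpQ : p ≤ Q.asIdeal.under B := Ideal.map_le_iff_le_comap.mp hQ
  have h1 : p.height ≤ (Q.asIdeal.under B).height := Ideal.height_mono hpQ
  haveI : Q.asIdeal.LiesOver (Q.asIdeal.under B) := ⟨rfl⟩
  have h2 : (Q.asIdeal.under B).height ≤ Q.asIdeal.height :=
    Helper5.height_le_height_of_liesOver_of_hasGoingDown _ _
  have h3 := hR Q.asIdeal
  rw [Module.supportDim_eq_of_equiv (Helper28.localizedModuleSelfEquiv Q.asIdeal),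
    Helper28.supportDim_localization_self] at h3
  have h4 : ((n : ℕ∞) : WithBot ℕ∞) ≤
      min (r : WithBot ℕ∞) ((Q.asIdeal.height : ℕ∞) : WithBot ℕ∞) :=
    le_min (by exact_mod_cast hnr) (WithBot.coe_le_coe.mpr (hnp.trans (h1.trans h2)))
  exact WithBot.coe_le_coe.mp (h4.trans h3)

/-- `(S_r)` for the ring `R` gives `(S_r)` for `R` as a `B`-module -/
theorem hasSk_restrictScalars (r : ℕ) (hR : LocCoh.HasSk r R R) : LocCoh.HasSk r B R := by
  intro p _
  apply min_le_coe_of_forall_nat
  intro n hnr hnp
  have hnr' : n ≤ r := by exact_mod_cast hnr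
  have h1 : Module.supportDim (Localization.AtPrime p) (LocalizedModule p.primeCompl R) ≤
      ((p.height : ℕ∞) : WithBot ℕ∞) := by
    refine (Module.supportDim_le_ringKrullDim _ _).trans ?_
    rw [IsLocalization.AtPrime.ringKrullDim_eq_height p (Localization.AtPrime p)]
  have hnp' : (n : ℕ∞) ≤ p.height := WithBot.coe_le_coe.mp (hnp.trans h1)
  exact (le_idealDepth_of_hasSk r hR p n hnr' hnp').trans
    (Helper28.idealDepth_le_depth_localization p R le_rfl)

variable (E : R →ₗ[B] B) (hE : ∀ b : B, E (algebraMap B R b) = b)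
include hE

/-- depth passes to a module retract -/
theorem le_idealDepth_self_of_retract (I : Ideal B) (n : ℕ)
    (h : (n : ℕ∞) ≤ LocCoh.idealDepth I R) : (n : ℕ∞) ≤ LocCoh.idealDepth I B := by
  rw [Helper28.natCast_le_idealDepth_iff_ext'] at h ⊢
  intro i hi
  refine subsingleton_ext_of_retract (ModuleCat.ofHom (Algebra.linearMap B R))
    (ModuleCat.ofHom E) ?_ i (h i hi)
  ext
  have h1 := hE 1
  rw [map_one] at h1
  simpa using h1

/-- `(S_r)` descends to a module retract along a finite extension with going down -/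
theorem hasSk_of_retract (r : ℕ) (hR : LocCoh.HasSk r R R) : LocCoh.HasSk r B B := by
  intro p _
  apply min_le_coe_of_forall_nat
  intro n hnr hnp
  have hnr' : n ≤ r := by exact_mod_cast hnr
  have h1 : Module.supportDim (Localization.AtPrime p) (LocalizedModule p.primeCompl B) ≤
      ((p.height : ℕ∞) : WithBot ℕ∞) := by
    refine (Module.supportDim_le_ringKrullDim _ _).trans ?_
    rw [IsLocalization.AtPrime.ringKrullDim_eq_height p (Localization.AtPrime p)]
  have hnp' : (n : ℕ∞) ≤ p.height := WithBot.coe_le_coe.mp (hnp.trans h1)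
  exact (le_idealDepth_self_of_retract E hE p n
    (le_idealDepth_of_hasSk r hR p n hnr' hnp')).trans
    (Helper28.idealDepth_le_depth_localization p B le_rfl)

omit hE in
/-- over a Cohen–Macaulay ring `R`, depth of `R` over `B` along a prime is at least its height -/
theorem height_le_idealDepth_of_isCohenMacaulayRing (hR : LocCoh.IsCohenMacaulayRing R)
    (p : Ideal B) [p.IsPrime] : p.height ≤ LocCoh.idealDepth p R := by
  obtain ⟨n, hn⟩ := ENat.ne_top_iff_exists.mp (Ideal.height_ne_top_of_isPrime (I := p))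
  rw [← hn]
  exact le_idealDepth_of_hasSk n (Helper28.SFC.hasSk_of_isCohenMacaulayRing n R hR) p n le_rfl
    (le_of_eq hn)

/-- Cohen–Macaulayness descends to a module retract along a finite extension with going down -/
theorem isCohenMacaulayRing_of_retract (hR : LocCoh.IsCohenMacaulayRing R) :
    LocCoh.IsCohenMacaulayRing B := by
  refine ⟨fun p _ => ?_⟩
  rw [Helper5.CMLocusOpen.cm_iff_height_eq_depth p]
  apply le_antisymm _ (Helper5.CMLocusOpen.depth_le_height p)
  obtain ⟨n, hn⟩ := ENat.ne_top_iff_exists.mp (Ideal.height_ne_top_of_isPrime (I := p))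
  have h1 : (n : ℕ∞) ≤ LocCoh.idealDepth p R := by
    rw [hn]
    exact height_le_idealDepth_of_isCohenMacaulayRing hR p
  have h2 := le_idealDepth_self_of_retract E hE p n h1
  rw [← hn, ← Helper28.depth_localizedModule_self]
  exact h2.trans (Helper28.idealDepth_le_depth_localization p B le_rfl)

omit hE in
/-- `R` is a maximal Cohen–Macaulay module over `B` at every prime -/
theorem isMaximalCohenMacaulay_of_isCohenMacaulayRing (hR : LocCoh.IsCohenMacaulayRing R)
    (hinj : Function.Injective (algebraMap B R)) (p : Ideal B) [p.IsPrime] :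
    LocCoh.IsCohenMacaulayModule (Localization.AtPrime p) (LocalizedModule p.primeCompl R) ∧
      Module.supportDim (Localization.AtPrime p) (LocalizedModule p.primeCompl R) =
        ringKrullDim (Localization.AtPrime p) := by
  have : Nontrivial (LocalizedModule p.primeCompl R) := by
    by_contra hnt
    rw [not_nontrivial_iff_subsingleton, LocalizedModule.subsingleton_iff] at hnt
    obtain ⟨t, ht, ht0⟩ := hnt 1
    rw [Algebra.smul_def, mul_one] at ht0
    have : t = 0 := hinj (by rw [ht0, map_zero])
    rw [this] at ht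
    exact ht p.zero_mem
  have h1 : ((p.height : ℕ∞) : WithBot ℕ∞) ≤
      ((LocCoh.depth (Localization.AtPrime p) (LocalizedModule p.primeCompl R) : ℕ∞) :
        WithBot ℕ∞) :=
    WithBot.coe_le_coe.mpr ((height_le_idealDepth_of_isCohenMacaulayRing hR p).trans
      (Helper28.idealDepth_le_depth_localization p R le_rfl))
  have h2 : ((LocCoh.depth (Localization.AtPrime p) (LocalizedModule p.primeCompl R) : ℕ∞) :
      WithBot ℕ∞) ≤ Module.supportDim (Localization.AtPrime p)
        (LocalizedModule p.primeCompl R) := Helper28.depth_le_supportDim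
  have h3 : Module.supportDim (Localization.AtPrime p) (LocalizedModule p.primeCompl R) ≤
      ringKrullDim (Localization.AtPrime p) := Module.supportDim_le_ringKrullDim _ _
  have h4 : ringKrullDim (Localization.AtPrime p) = ((p.height : ℕ∞) : WithBot ℕ∞) :=
    IsLocalization.AtPrime.ringKrullDim_eq_height p (Localization.AtPrime p)
  rw [h4] at h3 ⊢
  refine ⟨?_, le_antisymm h3 (h1.trans h2)⟩
  unfold LocCoh.IsCohenMacaulayModule
  exact le_antisymm (h3.trans h1) h2

end General

section Hopf

open HopfRep Groth.Agent.Lib.Helper25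

variable (k : Type u) [Field k] (H : Type u) [CommRing H] [HopfAlgebra k H] [Module.Finite k H]
  (R : Type u) [CommRing R] [Algebra k R] [Comod k H R] [GLin.IsCoactAlg k H R]

/-- the Reynolds operator as a retraction linear over the invariants -/
theorem exists_reynolds_linear (hG : IsLinearlyReductive k H) :
    ∃ E : R →ₗ[↥(GLin.invariants k H R)] ↥(GLin.invariants k H R),
      ∀ b : ↥(GLin.invariants k H R), E (algebraMap ↥(GLin.invariants k H R) R b) = b := by
  have hss : IsSemisimpleComod k H R := isSemisimpleComod_of_isLinearlyReductive hG R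
  obtain ⟨E₀, hE₀, hEE, hEx⟩ := exists_reynolds hss
  have hmem : ∀ r : R, E₀ r ∈ GLin.invariants k H R := fun r =>
    (hEx (E₀ r)).mp (LinearMap.congr_fun hEE r)
  refine ⟨{ toFun := fun r => ⟨E₀ r, hmem r⟩
            map_add' := fun x y => Subtype.ext (map_add E₀ x y)
            map_smul' := fun b r => Subtype.ext ?_ }, fun b => Subtype.ext ?_⟩
  · show E₀ (b • r) = (b : R) * E₀ r
    rw [Algebra.smul_def]
    exact reynolds_mul_of_mem_fixedPts hss hE₀ hEE hEx b.2 r
  · exact (hEx _).mpr b.2

variable [Algebra.FiniteType k R]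

/-- `(S_r)` for invariants of a finite linearly reductive group scheme -/
theorem hasSk_invariants (hG : IsLinearlyReductive k H) (r : ℕ) (hR : LocCoh.HasSk r R R) :
    LocCoh.HasSk r ↥(GLin.invariants k H R) R ∧
      LocCoh.HasSk r ↥(GLin.invariants k H R) ↥(GLin.invariants k H R) := by
  obtain ⟨hft, hfin⟩ := finite_quotient k H R
  haveI := hfin
  haveI : IsNoetherianRing ↥(GLin.invariants k H R) := Algebra.FiniteType.isNoetherianRing k _
  haveI : IsNoetherianRing R := Algebra.FiniteType.isNoetherianRing k R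
  obtain ⟨E, hE⟩ := exists_reynolds_linear k H R hG
  exact ⟨hasSk_restrictScalars r hR, hasSk_of_retract E hE r hR⟩

/-- Cohen–Macaulayness for invariants of a finite linearly reductive group scheme -/
theorem isCohenMacaulay_invariants (hG : IsLinearlyReductive k H)
    (hR : LocCoh.IsCohenMacaulayRing R) :
    LocCoh.IsCohenMacaulayRing ↥(GLin.invariants k H R) ∧
      ∀ (p : Ideal ↥(GLin.invariants k H R)) [p.IsPrime],
        LocCoh.IsCohenMacaulayModule (Localization.AtPrime p) (LocalizedModule p.primeCompl R) ∧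
          Module.supportDim (Localization.AtPrime p) (LocalizedModule p.primeCompl R) =
            ringKrullDim (Localization.AtPrime p) := by
  obtain ⟨hft, hfin⟩ := finite_quotient k H R
  haveI := hfin
  haveI : IsNoetherianRing ↥(GLin.invariants k H R) := Algebra.FiniteType.isNoetherianRing k _
  haveI : IsNoetherianRing R := Algebra.FiniteType.isNoetherianRing k R
  obtain ⟨E, hE⟩ := exists_reynolds_linear k H R hG
  exact ⟨isCohenMacaulayRing_of_retract E hE hR, fun p _ =>
    isMaximalCohenMacaulay_of_isCohenMacaulayRing hR Subtype.val_injective p⟩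

end Hopf

end Groth.Agent.Lib.Helper25.FinQuotSk
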