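import Groth.Agent.Lib.Helper25NilGL

/-!
# Lifting bases of flat modules along nilpotent ideals (helper25)

* `eq_top_of_sup_smul_top`: Nakayama for nilpotent ideals.
* `linearIndependent_of_flat`, `basisOfFlat`: if `A` is flat over `R`, `I` is a nilpotent ideal and
  the images `1 ⊗ b m` form a basis of `(R/I) ⊗ A`, then `b` is a basis of `A`.
-/

set_option autoImplicit false
set_option linter.unusedSectionVars false
universe u v w

namespace Groth.Agent.Lib.Helper25.FlatBasis

open TensorProduct Groth.Agent.Lib.Helper25.NilGL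

section Nak

variable {R : Type u} [CommRing R] {N : Type v} [AddCommGroup N] [Module R N]

theorem le_sup_pow_smul_top (I : Ideal R) (W : Submodule R N)
    (h : W ⊔ I • (⊤ : Submodule R N) = ⊤) (j : ℕ) :
    (⊤ : Submodule R N) ≤ W ⊔ (I ^ j) • (⊤ : Submodule R N) := by
  induction j with
  | zero => simp
  | succ j ih =>
    have h1 : (I ^ j) • (⊤ : Submodule R N) ≤ W ⊔ (I ^ (j + 1)) • (⊤ : Submodule R N) := by
      conv_lhs => rw [← h]
      rw [Submodule.smul_sup]
      refine sup_le (le_trans Submodule.smul_le_right le_sup_left) ?_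
      rw [← Submodule.mul_smul, ← pow_succ]
      exact le_sup_right
    exact le_trans ih (sup_le le_sup_left h1)

/-- Nakayama's lemma for a nilpotent ideal. -/
theorem eq_top_of_sup_smul_top (I : Ideal R) (hI : IsNilpotent I) (W : Submodule R N)
    (h : W ⊔ I • (⊤ : Submodule R N) = ⊤) : W = ⊤ := by
  obtain ⟨n, hn⟩ := hI
  have := le_sup_pow_smul_top I W h n
  rw [hn, Submodule.zero_eq_bot, Submodule.bot_smul, sup_bot_eq] at this
  exact top_le_iff.mp this

end Nak

section Basis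

variable {R : Type u} [CommRing R] (I : Ideal R) (hI : IsNilpotent I)
  {A : Type v} [AddCommGroup A] [Module R A] {ι : Type w} (b : ι → A)

include hI in
theorem span_eq_top_of_span_tmul_eq_top
    (hsp : ⊤ ≤ Submodule.span (R ⧸ I) (Set.range fun i => (1 : R ⧸ I) ⊗ₜ[R] b i)) :
    Submodule.span R (Set.range b) = ⊤ := by
  apply eq_top_of_sup_smul_top I hI
  rw [eq_top_iff]
  intro a _
  have ha : (1 : R ⧸ I) ⊗ₜ[R] a ∈
      Submodule.span (R ⧸ I) (Set.range fun i => (1 : R ⧸ I) ⊗ₜ[R] b i) := hsp trivial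
  -- every element of the span is of the form `1 ⊗ w` with `w ∈ span b`
  have key : ∀ z ∈ Submodule.span (R ⧸ I) (Set.range fun i => (1 : R ⧸ I) ⊗ₜ[R] b i),
      ∃ w ∈ Submodule.span R (Set.range b), z = (1 : R ⧸ I) ⊗ₜ[R] w := by
    intro z hz
    refine Submodule.span_induction ?_ ?_ ?_ ?_ hz
    · rintro _ ⟨i, rfl⟩
      exact ⟨b i, Submodule.subset_span ⟨i, rfl⟩, rfl⟩
    · exact ⟨0, Submodule.zero_mem _, by simp⟩
    · rintro x y _ _ ⟨w, hw, rfl⟩ ⟨w', hw', rfl⟩
      exact ⟨w + w', Submodule.add_mem _ hw hw', by rw [TensorProduct.tmul_add]⟩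
    · rintro c x _ ⟨w, hw, rfl⟩
      obtain ⟨r, rfl⟩ := Ideal.Quotient.mk_surjective c
      refine ⟨r • w, Submodule.smul_mem _ _ hw, ?_⟩
      rw [TensorProduct.smul_tmul', smul_eq_mul, mul_one, TensorProduct.tmul_smul,
        TensorProduct.smul_tmul', Algebra.smul_def, mul_one, Ideal.Quotient.algebraMap_eq]
  obtain ⟨w, hw, hwa⟩ := key _ ha
  rw [one_tmul_eq_one_tmul_iff] at hwa
  have : a = w + (a - w) := by abel
  rw [this]
  exact Submodule.add_mem_sup hw hwa

end Basis

section Nak2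

variable {R : Type u} [CommRing R] {N : Type v} [AddCommGroup N] [Module R N]

theorem le_sup_pow_smul (I : Ideal R) (W L : Submodule R N)
    (h : L ≤ W ⊔ I • L) (j : ℕ) : L ≤ W ⊔ (I ^ j) • L := by
  induction j with
  | zero => simp
  | succ j ih =>
    have h1 : (I ^ j) • L ≤ W ⊔ (I ^ (j + 1)) • L := by
      calc (I ^ j) • L ≤ (I ^ j) • (W ⊔ I • L) := Submodule.smul_mono le_rfl h
        _ = (I ^ j) • W ⊔ (I ^ j) • (I • L) := Submodule.smul_sup _ _ _
        _ ≤ W ⊔ (I ^ (j + 1)) • L := by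
          refine sup_le (le_trans Submodule.smul_le_right le_sup_left) ?_
          rw [← Submodule.mul_smul, ← pow_succ]
          exact le_sup_right
    exact le_trans ih (sup_le le_sup_left h1)

/-- Nakayama's lemma for a nilpotent ideal, relative form. -/
theorem le_of_le_sup_smul (I : Ideal R) (hI : IsNilpotent I) (W L : Submodule R N)
    (h : L ≤ W ⊔ I • L) : L ≤ W := by
  obtain ⟨n, hn⟩ := hI
  have := le_sup_pow_smul I W L h n
  rwa [hn, Submodule.zero_eq_bot, Submodule.bot_smul, sup_bot_eq] at this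

end Nak2

section LinInd

variable {R : Type u} [CommRing R] (I : Ideal R) (hI : IsNilpotent I)
  {A : Type v} [AddCommGroup A] [Module R A] [Module.Flat R A] {ι : Type w} (b : ι → A)
  (μ : ι → ((R ⧸ I) ⊗[R] A →ₗ[R ⧸ I] R ⧸ I))

/-- The map `J ⊗ A → (R/I) ⊗ J`, `j ⊗ a ↦ μ (1 ⊗ a) ⊗ j`. -/
noncomputable def coordMap (J : Ideal R) (μ₀ : (R ⧸ I) ⊗[R] A →ₗ[R ⧸ I] R ⧸ I) :
    J ⊗[R] A →ₗ[R] (R ⧸ I) ⊗[R] J :=
  TensorProduct.lift ((TensorProduct.mk R (R ⧸ I) J).flip.compl₂
    ((μ₀.restrictScalars R) ∘ₗ (TensorProduct.mk R (R ⧸ I) A 1)))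

theorem coordMap_tmul (J : Ideal R) (μ₀ : (R ⧸ I) ⊗[R] A →ₗ[R ⧸ I] R ⧸ I) (j : J) (a : A) :
    coordMap I J μ₀ (j ⊗ₜ[R] a) = μ₀ ((1 : R ⧸ I) ⊗ₜ[R] a) ⊗ₜ[R] j := by
  simp [coordMap]

theorem mem_mul_of_mem_smul_top (J : Ideal R) (x : J)
    (hx : x ∈ I • (⊤ : Submodule R J)) : (x : R) ∈ I * J := by
  have h1 : (J.subtype x) ∈ Submodule.map J.subtype (I • (⊤ : Submodule R J)) :=
    Submodule.mem_map_of_mem hx
  rw [Submodule.map_smul'', Submodule.map_top, Submodule.range_subtype] at h1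
  exact h1

variable [DecidableEq ι]

theorem coeff_mem_pow (hμ : ∀ i n, μ i ((1 : R ⧸ I) ⊗ₜ[R] b n) = if n = i then 1 else 0)
    (c : ι →₀ R) (hc : Finsupp.linearCombination R b c = 0) (j : ℕ) :
    ∀ i, c i ∈ I ^ j := by
  induction j with
  | zero => intro i; simp
  | succ j ih =>
    intro i
    set J : Ideal R := I ^ j with hJ
    set t : J ⊗[R] A := ∑ n ∈ c.support, (⟨c n, ih n⟩ : J) ⊗ₜ[R] b n with ht
    have hinj : Function.Injective (J.subtype.rTensor A) :=
      Module.Flat.rTensor_preserves_injective_linearMap J.subtype Subtype.val_injective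
    have ht0 : t = 0 := by
      apply hinj
      rw [map_zero]
      apply (TensorProduct.lid R A).injective
      rw [map_zero, ht, map_sum, map_sum]
      rw [Finsupp.linearCombination_apply, Finsupp.sum] at hc
      rw [← hc]
      refine Finset.sum_congr rfl (fun n _ => ?_)
      rw [LinearMap.rTensor_tmul, TensorProduct.lid_tmul]
      rfl
    have h1 : coordMap I J (μ i) t = (1 : R ⧸ I) ⊗ₜ[R] (⟨c i, ih i⟩ : J) := by
      rw [ht, map_sum]
      simp only [coordMap_tmul, hμ]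
      rw [Finset.sum_eq_single i]
      · rw [if_pos rfl]
      · intro n _ hn
        rw [if_neg hn, TensorProduct.zero_tmul]
      · intro hi
        rw [if_pos rfl]
        have : c i = 0 := Finsupp.notMem_support_iff.mp hi
        have h0 : (⟨c i, ih i⟩ : J) = 0 := Subtype.ext this
        rw [h0, TensorProduct.tmul_zero]
    rw [ht0, map_zero] at h1
    have h2 := (one_tmul_eq_zero_iff I (⟨c i, ih i⟩ : J)).mp h1.symm
    have h3 := mem_mul_of_mem_smul_top I J _ h2
    rw [pow_succ']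
    exact h3

include hI in
theorem linearIndependent_of_flat
    (hμ : ∀ i n, μ i ((1 : R ⧸ I) ⊗ₜ[R] b n) = if n = i then 1 else 0) :
    LinearIndependent R b := by
  rw [linearIndependent_iff]
  intro c hc
  obtain ⟨n, hn⟩ := hI
  ext i
  have := coeff_mem_pow I b μ hμ c hc n i
  rw [hn] at this
  simpa using this

/-- A family in a flat module which is a basis modulo a nilpotent ideal is a basis. -/
noncomputable def basisOfFlat
    (hμ : ∀ i n, μ i ((1 : R ⧸ I) ⊗ₜ[R] b n) = if n = i then 1 else 0)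
    (hsp : ⊤ ≤ Submodule.span (R ⧸ I) (Set.range fun i => (1 : R ⧸ I) ⊗ₜ[R] b i)) :
    Module.Basis ι R A :=
  Module.Basis.mk (linearIndependent_of_flat I hI b μ hμ)
    (span_eq_top_of_span_tmul_eq_top I hI b hsp).ge

@[simp] theorem basisOfFlat_apply
    (hμ : ∀ i n, μ i ((1 : R ⧸ I) ⊗ₜ[R] b n) = if n = i then 1 else 0)
    (hsp : ⊤ ≤ Submodule.span (R ⧸ I) (Set.range fun i => (1 : R ⧸ I) ⊗ₜ[R] b i)) (i : ι) :
    basisOfFlat I hI b μ hμ hsp i = b i := by
  simp [basisOfFlat]

end LinInd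

end Groth.Agent.Lib.Helper25.FlatBasis
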