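import Groth.Agent.Lib.Helper25FlatBasis
import Groth.Agent.Lib.Helper25Comod

/-!
# Lifting group-like elements along a nilpotent ideal: existence (helper25)

Let `A` be a coalgebra over `R` with a basis `b` consisting of elements group-like modulo a
nilpotent ideal `I`.  Then every `b m` is congruent modulo `I A` to a group-like element.

The proof lifts the idempotent "projection on `b m`" inside the algebra of endomorphisms of
`A` commuting with the comultiplication.
-/

set_option autoImplicit false
set_option linter.unusedSectionVars false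
universe u v w

namespace Groth.Agent.Lib.Helper25.FlatDef

open TensorProduct Groth.Agent.Lib.Helper25 Groth.Agent.Lib.Helper25.NilGL
  Groth.Agent.Lib.Helper25.FlatBasis

section CoEnd

variable {R : Type u} [CommRing R] {A : Type v} [AddCommGroup A] [Module R A] [Coalgebra R A]

/-- Endomorphisms of `A` commuting with the comultiplication (acting on the right factor). -/
def IsCoEnd (F : Module.End R A) : Prop :=
  ∀ a, CoalgebraStruct.comul (R := R) (F a) = (F.lTensor A) (CoalgebraStruct.comul (R := R) a)

theorem isCoEnd_one : IsCoEnd (1 : Module.End R A) := by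
  intro a
  simp [Module.End.one_eq_id]

theorem IsCoEnd.sub {F G : Module.End R A} (hF : IsCoEnd F) (hG : IsCoEnd G) :
    IsCoEnd (F - G) := by
  intro a
  rw [LinearMap.sub_apply, map_sub, hF a, hG a, LinearMap.lTensor_sub, LinearMap.sub_apply]

theorem IsCoEnd.mul {F G : Module.End R A} (hF : IsCoEnd F) (hG : IsCoEnd G) :
    IsCoEnd (F * G) := by
  intro a
  rw [Module.End.mul_apply, hF (G a), hG a, Module.End.mul_eq_comp, LinearMap.lTensor_comp,
    LinearMap.comp_apply]

theorem IsCoEnd.pow {F : Module.End R A} (hF : IsCoEnd F) (n : ℕ) : IsCoEnd (F ^ n) := by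
  induction n with
  | zero => rw [pow_zero]; exact isCoEnd_one
  | succ n ih => rw [pow_succ]; exact ih.mul hF

/-- The operator `a ↦ Σ δ(a₂) a₁`. -/
noncomputable def sliceOp (δ : A →ₗ[R] R) : Module.End R A :=
  slice A δ ∘ₗ CoalgebraStruct.comul (R := R)

theorem sliceOp_apply (δ : A →ₗ[R] R) (a : A) :
    sliceOp δ a = slice A δ (CoalgebraStruct.comul (R := R) a) := rfl

theorem lTensor_slice_assoc (δ : A →ₗ[R] R) (z : A ⊗[R] A) (y : A) :
    (slice A δ).lTensor A (TensorProduct.assoc R A A A (z ⊗ₜ[R] y)) = δ y • z := by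
  induction z using TensorProduct.induction_on with
  | zero => simp
  | add z z' hz hz' => rw [TensorProduct.add_tmul, map_add, map_add, hz, hz', smul_add]
  | tmul p q =>
    rw [TensorProduct.assoc_tmul, LinearMap.lTensor_tmul, slice_tmul, TensorProduct.tmul_smul]

theorem comul_slice (δ : A →ₗ[R] R) (t : A ⊗[R] A) :
    CoalgebraStruct.comul (R := R) (slice A δ t) =
      (slice A δ).lTensor A (TensorProduct.assoc R A A A
        ((CoalgebraStruct.comul (R := R)).rTensor A t)) := by
  induction t using TensorProduct.induction_on with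
  | zero => simp
  | add z z' hz hz' => simp only [map_add, hz, hz']
  | tmul x y =>
    rw [slice_tmul, map_smul, LinearMap.rTensor_tmul, lTensor_slice_assoc]

theorem isCoEnd_sliceOp (δ : A →ₗ[R] R) : IsCoEnd (sliceOp δ) := by
  intro a
  rw [sliceOp_apply, comul_slice, Coalgebra.coassoc_apply, ← LinearMap.lTensor_comp_apply]
  rfl

end CoEnd

section PowMem

variable {R : Type u} [CommRing R] {A : Type v} [AddCommGroup A] [Module R A]

theorem map_mem_mul_smul_top (I J : Ideal R) (F : Module.End R A)
    (hF : ∀ a, F a ∈ J • (⊤ : Submodule R A)) {x : A} (hx : x ∈ I • (⊤ : Submodule R A)) :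
    F x ∈ (I * J) • (⊤ : Submodule R A) := by
  refine Submodule.smul_induction_on hx ?_ ?_
  · intro r hr a _
    rw [map_smul, Submodule.mul_smul]
    exact Submodule.smul_mem_smul hr (hF a)
  · intro x y hx hy
    rw [map_add]
    exact Submodule.add_mem _ hx hy

theorem pow_apply_mem (I : Ideal R) (F : Module.End R A)
    (hF : ∀ a, F a ∈ I • (⊤ : Submodule R A)) (j : ℕ) (a : A) :
    (F ^ j) a ∈ (I ^ j) • (⊤ : Submodule R A) := by
  induction j generalizing a with
  | zero => simp
  | succ j ih =>
    have h1 : (F ^ (j + 1)) a = F ((F ^ j) a) := by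
      rw [pow_succ' F j, Module.End.mul_apply]
    rw [h1, pow_succ I j]
    exact map_mem_mul_smul_top (I ^ j) I F hF (ih a)

theorem pow_eq_zero_of_forall_mem (I : Ideal R) (F : Module.End R A)
    (hF : ∀ a, F a ∈ I • (⊤ : Submodule R A)) (n : ℕ) (hn : I ^ n = 0) : F ^ n = 0 := by
  ext a
  have := pow_apply_mem I F hF n a
  rw [hn, Submodule.zero_eq_bot, Submodule.bot_smul, Submodule.mem_bot] at this
  rw [this, LinearMap.zero_apply]

end PowMem

end Groth.Agent.Lib.Helper25.FlatDef
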