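import Groth.Agent.Lib.Helper25FlatDefA

/-!
# Lifting group-like elements along a nilpotent ideal: existence, part B (helper25)
-/

set_option autoImplicit false
set_option linter.unusedSectionVars false
universe u v w

namespace Groth.Agent.Lib.Helper25.FlatDef

open TensorProduct Groth.Agent.Lib.Helper25 Groth.Agent.Lib.Helper25.NilGL
  Groth.Agent.Lib.Helper25.FlatBasis

section Proj

variable {R : Type u} [CommRing R] {A : Type v} [AddCommGroup A] [Module R A]
  (I : Ideal R) {M : Type w} [DecidableEq M] (b : Module.Basis M R A) (m : M)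

/-- `F` is, modulo `I`, the projection onto the `m`-th coordinate. -/
def IsProjMod (F : Module.End R A) : Prop :=
  ∀ n, F (b n) - (if n = m then b n else 0) ∈ I • (⊤ : Submodule R A)

/-- The coordinate projection on `(R/I) ⊗ A`. -/
noncomputable def pr : Module.End (R ⧸ I) ((R ⧸ I) ⊗[R] A) :=
  (b.baseChange (R ⧸ I)).constr (R ⧸ I)
    (fun n => if n = m then b.baseChange (R ⧸ I) n else 0)

theorem pr_basis (n : M) :
    pr I b m (b.baseChange (R ⧸ I) n) = if n = m then b.baseChange (R ⧸ I) n else 0 := by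
  rw [pr, Module.Basis.constr_basis]

theorem pr_idem : IsIdempotentElem (pr I b m) := by
  apply (b.baseChange (R ⧸ I)).ext
  intro n
  rw [Module.End.mul_apply, pr_basis]
  split_ifs with h
  · rw [pr_basis, if_pos h]
  · rw [map_zero]

theorem isProjMod_iff (F : Module.End R A) :
    IsProjMod I b m F ↔ F.baseChange (R ⧸ I) = pr I b m := by
  constructor
  · intro h
    apply (b.baseChange (R ⧸ I)).ext
    intro n
    rw [pr_basis, Module.Basis.baseChange_apply, LinearMap.baseChange_tmul]
    have h1 := (one_tmul_eq_one_tmul_iff I _ _).mpr (h n)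
    rw [h1]
    split_ifs
    · rfl
    · rw [TensorProduct.tmul_zero]
  · intro h n
    rw [← one_tmul_eq_one_tmul_iff]
    have h1 : (1 : R ⧸ I) ⊗ₜ[R] F (b n) = F.baseChange (R ⧸ I) (b.baseChange (R ⧸ I) n) := by
      rw [Module.Basis.baseChange_apply, LinearMap.baseChange_tmul]
    rw [h1, h, pr_basis, Module.Basis.baseChange_apply]
    split_ifs
    · rfl
    · rw [TensorProduct.tmul_zero]

theorem forall_mem_of_baseChange_eq_zero (F : Module.End R A)
    (h : F.baseChange (R ⧸ I) = 0) (a : A) : F a ∈ I • (⊤ : Submodule R A) := by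
  rw [← one_tmul_eq_zero_iff]
  have : (1 : R ⧸ I) ⊗ₜ[R] F a = F.baseChange (R ⧸ I) ((1 : R ⧸ I) ⊗ₜ[R] a) := by
    rw [LinearMap.baseChange_tmul]
  rw [this, h, LinearMap.zero_apply]

/-- Lifting the projection to an idempotent. -/
theorem exists_idem_isProjMod (n : ℕ) (hn : I ^ n = 0) (E₀ : Module.End R A)
    (hE₀ : IsProjMod I b m E₀) :
    ∃ k : ℕ, IsIdempotentElem (1 - (1 - E₀ ^ k) ^ k) ∧
      IsProjMod I b m (1 - (1 - E₀ ^ k) ^ k) := by
  refine ⟨n + 1, ?_, ?_⟩
  · apply isIdempotentElem_one_sub_one_sub_pow_pow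
    apply pow_eq_zero_of_forall_mem I
    · apply forall_mem_of_baseChange_eq_zero
      have h1 : (E₀ - E₀ ^ 2).baseChange (R ⧸ I) =
          Module.End.baseChangeHom R (R ⧸ I) A (E₀ - E₀ ^ 2) := rfl
      have h2 : Module.End.baseChangeHom R (R ⧸ I) A E₀ = pr I b m :=
        (isProjMod_iff I b m E₀).mp hE₀
      rw [h1, map_sub, map_pow, h2, pow_two, (pr_idem I b m).eq, sub_self]
    · rw [pow_succ, hn, zero_mul]
  · rw [isProjMod_iff]
    have h1 : (1 - (1 - E₀ ^ (n + 1)) ^ (n + 1)).baseChange (R ⧸ I) =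
        Module.End.baseChangeHom R (R ⧸ I) A (1 - (1 - E₀ ^ (n + 1)) ^ (n + 1)) := rfl
    have h2 : Module.End.baseChangeHom R (R ⧸ I) A E₀ = pr I b m :=
      (isProjMod_iff I b m E₀).mp hE₀
    have h3 := IsIdempotentElem.one_sub (R := Module.End (R ⧸ I) ((R ⧸ I) ⊗[R] A))
      (pr_idem I b m)
    rw [h1, map_sub, map_pow, map_sub, map_pow, map_one, h2,
      (pr_idem I b m).pow_succ_eq, h3.pow_succ_eq]
    exact sub_sub_cancel (1 : Module.End (R ⧸ I) ((R ⧸ I) ⊗[R] A)) (pr I b m)

end Proj

section Slice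

variable {R : Type u} [CommRing R] {A : Type v} [CommRing A] [Bialgebra R A]
  (I : Ideal R) {M : Type w} [DecidableEq M] (b : Module.Basis M R A)
  (hGL : ∀ m, IsGLMod I (b m)) (m : M)

include hGL in
theorem isProjMod_sliceOp : IsProjMod I b m (sliceOp (b.coord m)) := by
  intro n
  have h1 := MRB.map_mem_smul_top (slice A (b.coord m)) I (hGL n).1
  rw [map_sub, slice_tmul, Module.Basis.coord_apply, Module.Basis.repr_self,
    Finsupp.single_apply] at h1
  rw [sliceOp_apply]
  convert h1 using 2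
  split_ifs
  · rw [one_smul]
  · rw [zero_smul]

end Slice

end Groth.Agent.Lib.Helper25.FlatDef
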