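import Groth.Agent.Lib.Helper25FlatDefB

/-!
# Lifting group-like elements along a nilpotent ideal: existence, part C (helper25)
-/

set_option autoImplicit false
set_option linter.unusedSectionVars false
universe u v w

namespace Groth.Agent.Lib.Helper25.FlatDef

open TensorProduct Groth.Agent.Lib.Helper25 Groth.Agent.Lib.Helper25.NilGL
  Groth.Agent.Lib.Helper25.FlatBasis

section Range

variable {R : Type u} [CommRing R] {A : Type v} [CommRing A] [Bialgebra R A]
  (I : Ideal R) (hI : IsNilpotent I) {M : Type w} [DecidableEq M] (b : Module.Basis M R A) (m : M)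
  (E : Module.End R A) (hE : IsIdempotentElem E) (hP : IsProjMod I b m E)

include hI hE hP in
theorem range_le_span : LinearMap.range E ≤ Submodule.span R {E (b m)} := by
  apply le_of_le_sup_smul I hI
  rintro _ ⟨a, rfl⟩
  have hle : Submodule.span R (Set.range b) ≤
      (Submodule.span R {E (b m)} ⊔ I • LinearMap.range E).comap E := by
    rw [Submodule.span_le]
    rintro _ ⟨n, rfl⟩
    change E (b n) ∈ Submodule.span R {E (b m)} ⊔ I • LinearMap.range E
    have h1 : E (b n) = E (if n = m then b n else 0) +
        E (E (b n) - (if n = m then b n else 0)) := by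
      rw [← map_add, add_sub_cancel, ← Module.End.mul_apply, hE.eq]
    rw [h1]
    apply Submodule.add_mem_sup
    · split_ifs with h
      · subst h; exact Submodule.mem_span_singleton_self _
      · rw [map_zero]; exact Submodule.zero_mem _
    · have := Submodule.mem_map_of_mem (f := E) (hP n)
      rwa [Submodule.map_smul'', Submodule.map_top] at this
  have : a ∈ Submodule.span R (Set.range b) := by rw [b.span_eq]; trivial
  exact hle this

include hI hE hP in
theorem exists_smul_eq (a : A) : ∃ r : R, E a = r • E (b m) := by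
  have := range_le_span I hI b m E hE hP ⟨a, rfl⟩
  rw [Submodule.mem_span_singleton] at this
  obtain ⟨r, hr⟩ := this
  exact ⟨r, hr.symm⟩

include hI hE hP in
theorem exists_lTensor_eq (t : A ⊗[R] A) : ∃ h : A, E.lTensor A t = h ⊗ₜ[R] E (b m) := by
  induction t using TensorProduct.induction_on with
  | zero => exact ⟨0, by simp⟩
  | add x y hx hy =>
    obtain ⟨h, hh⟩ := hx
    obtain ⟨h', hh'⟩ := hy
    exact ⟨h + h', by rw [map_add, hh, hh', TensorProduct.add_tmul]⟩
  | tmul x y =>
    obtain ⟨r, hr⟩ := exists_smul_eq I hI b m E hE hP y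
    exact ⟨r • x, by rw [LinearMap.lTensor_tmul, hr, TensorProduct.tmul_smul,
      TensorProduct.smul_tmul']⟩

include hI hE hP in
theorem exists_groupLike_of_idem (hGLm : IsGLMod I (b m)) (hC : IsCoEnd E) :
    ∃ g, IsGroupLikeElem R g ∧ g - b m ∈ I • (⊤ : Submodule R A) := by
  set g := E (b m) with hg
  obtain ⟨h, hh⟩ := exists_lTensor_eq I hI b m E hE hP (CoalgebraStruct.comul (R := R) (b m))
  have hΔ : CoalgebraStruct.comul (R := R) g = h ⊗ₜ[R] g := by rw [hg, hC (b m), hh]
  have hcg : CoalgebraStruct.counit (R := R) g • h = g := by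
    have h1 := Coalgebra.lTensor_counit_comul (R := R) g
    rw [hΔ, LinearMap.lTensor_tmul] at h1
    have h2 := congrArg (TensorProduct.rid R A) h1
    rwa [TensorProduct.rid_tmul, TensorProduct.rid_tmul, one_smul] at h2
  have hgb : g - b m ∈ I • (⊤ : Submodule R A) := by
    have := hP m
    rwa [if_pos rfl] at this
  have hεI : CoalgebraStruct.counit (R := R) g - 1 ∈ I := by
    have h1 := MRB.functional_mem_of_mem_smul_top (CoalgebraStruct.counit (R := R) (A := A)) I hgb
    rw [map_sub] at h1
    have := I.add_mem h1 hGLm.2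
    rwa [sub_add_sub_cancel] at this
  have hnil : IsNilpotent (CoalgebraStruct.counit (R := R) g - 1) := by
    obtain ⟨n, hn⟩ := hI
    refine ⟨n, ?_⟩
    have := Ideal.pow_mem_pow hεI n
    rwa [hn] at this
  have hunit : IsUnit (CoalgebraStruct.counit (R := R) g) := by
    have := hnil.isUnit_add_one
    rwa [sub_add_cancel] at this
  obtain ⟨u, hu⟩ := hunit
  have hv : (↑u⁻¹ : R) * CoalgebraStruct.counit (R := R) g = 1 := by
    rw [← hu]; exact u.inv_mul
  have hh' : h = (↑u⁻¹ : R) • g := by
    rw [← hcg, smul_smul, hv, one_smul]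
  refine ⟨h, ⟨?_, ?_⟩, ?_⟩
  · rw [hh', map_smul, smul_eq_mul, hv]
  · calc CoalgebraStruct.comul (R := R) h
        = CoalgebraStruct.comul (R := R) ((↑u⁻¹ : R) • g) := by rw [hh']
      _ = (↑u⁻¹ : R) • (h ⊗ₜ[R] g) := by rw [map_smul, hΔ]
      _ = h ⊗ₜ[R] ((↑u⁻¹ : R) • g) := (TensorProduct.tmul_smul _ _ _).symm
      _ = h ⊗ₜ[R] h := by rw [← hh']
  · have hvI : (↑u⁻¹ : R) - 1 ∈ I := by
      have : (↑u⁻¹ : R) - 1 = - ((↑u⁻¹ : R) * (CoalgebraStruct.counit (R := R) g - 1)) := by
        rw [mul_sub, hv]; ring
      rw [this]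
      exact I.neg_mem (I.mul_mem_left _ hεI)
    have : h - b m = ((↑u⁻¹ : R) - 1) • g + (g - b m) := by
      rw [hh', sub_smul, one_smul]; abel
    rw [this]
    exact Submodule.add_mem _ (Submodule.smul_mem_smul hvI trivial) hgb

end Range

section Main

variable {R : Type u} [CommRing R] {A : Type v} [CommRing A] [Bialgebra R A]
  (I : Ideal R) (hI : IsNilpotent I) {M : Type w} (b : Module.Basis M R A)
  (hGL : ∀ m, IsGLMod I (b m))

include hI hGL in
/-- Existence of group-like lifts: a basis of elements which are group-like modulo a nilpotent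
ideal can be corrected to group-like elements. -/
theorem exists_groupLike_lift_of_basis (m : M) :
    ∃ g, IsGroupLikeElem R g ∧ g - b m ∈ I • (⊤ : Submodule R A) := by
  classical
  obtain ⟨n, hn⟩ := hI
  obtain ⟨k, hidem, hproj⟩ := exists_idem_isProjMod I b m n hn (sliceOp (b.coord m))
    (isProjMod_sliceOp I b hGL m)
  have hC : IsCoEnd (1 - (1 - sliceOp (b.coord m) ^ k) ^ k) :=
    isCoEnd_one.sub ((isCoEnd_one.sub ((isCoEnd_sliceOp _).pow k)).pow k)
  exact exists_groupLike_of_idem I ⟨n, hn⟩ b m _ hidem hproj (hGL m) hC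

end Main

section Uniq

variable {R : Type u} [CommRing R] {A : Type v} [CommRing A] [Bialgebra R A]
  (I : Ideal R) (hI : IsNilpotent I) {M : Type w} (g : Module.Basis M R A)
  (hg : ∀ m, IsGroupLikeElem R (g m))

include hg in
theorem coord_idem (m : M) {x : A} (hx : IsGroupLikeElem R x) :
    IsIdempotentElem (g.coord m x) := by
  classical
  set L : A →ₗ[R] R := LinearMap.mul' R R ∘ₗ TensorProduct.map (g.coord m) (g.coord m) ∘ₗ
    CoalgebraStruct.comul (R := R) with hL
  have hLg : L = g.coord m := by
    apply g.ext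
    intro n
    rw [hL, LinearMap.comp_apply, LinearMap.comp_apply, (hg n).comul_eq_tmul_self,
      TensorProduct.map_tmul, LinearMap.mul'_apply, Module.Basis.coord_apply,
      Module.Basis.repr_self, Finsupp.single_apply]
    split_ifs <;> simp
  have h1 : L x = g.coord m x * g.coord m x := by
    rw [hL, LinearMap.comp_apply, LinearMap.comp_apply, hx.comul_eq_tmul_self,
      TensorProduct.map_tmul, LinearMap.mul'_apply]
  rw [hLg] at h1
  exact h1.symm

include hI hg in
/-- Uniqueness of group-like lifts, for a coalgebra with a basis of group-like elements. -/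
theorem groupLike_eq_of_basis {x y : A} (hx : IsGroupLikeElem R x) (hy : IsGroupLikeElem R y)
    (hxy : x - y ∈ I • (⊤ : Submodule R A)) : x = y := by
  apply g.ext_elem
  intro m
  have h1 := MRB.functional_mem_of_mem_smul_top (g.coord m) I hxy
  rw [map_sub] at h1
  have hnil : IsNilpotent (g.coord m x - g.coord m y) := by
    obtain ⟨n, hn⟩ := hI
    refine ⟨n, ?_⟩
    have := Ideal.pow_mem_pow h1 n
    rwa [hn] at this
  exact eq_of_isNilpotent_sub_of_isIdempotentElem (coord_idem g hg m hx) (coord_idem g hg m hy)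
    hnil

end Uniq

end Groth.Agent.Lib.Helper25.FlatDef
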