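import Groth.Agent.Lib.Helper25FlatDefC
import Groth.Agent.Lib.Helper25NilDiagB

/-!
# Flat deformations of diagonalisable groups along nilpotent ideals (helper25)

`isDiag_of_flat_of_equiv_mod_nilpotent`: if `A` is a flat Hopf algebra over `R`, `I` is a
nilpotent ideal and `(R/I) ⊗ A ≅ (R/I)[M]`, then `A ≅ R[M]`.
-/

set_option autoImplicit false
set_option linter.unusedSectionVars false
set_option linter.style.haveILetI false
universe u

namespace Groth.Agent.Lib.Helper25.FlatDef

open TensorProduct Groth.Agent.Lib.Helper25 Groth.Agent.Lib.Helper25.NilGL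
  Groth.Agent.Lib.Helper25.FlatBasis Groth.Agent.Lib.Helper25.NilLift

section Assemble

variable {R : Type u} [CommRing R] {A : Type u} [CommRing A] [HopfAlgebra R A] [Module.Flat R A]
  (I : Ideal R) (hI : IsNilpotent I) {M : Type u} [CommGroup M]
  (e : (R ⧸ I) ⊗[R] A ≃ₐc[R ⧸ I] MonoidAlgebra (R ⧸ I) M)

/-- The coordinate functionals of `(R/I) ⊗ A` given by the trivialisation `e`. -/
noncomputable def mu (m : M) : (R ⧸ I) ⊗[R] A →ₗ[R ⧸ I] R ⧸ I :=
  coeffFun (R ⧸ I) m ∘ₗ e.toCoalgEquiv.toLinearEquiv.toLinearMap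

theorem mu_apply (m : M) (x : (R ⧸ I) ⊗[R] A) : mu I e m x = (e x).coeff m := rfl

variable (c : M → A) (hc : ∀ m, (1 : R ⧸ I) ⊗ₜ[R] c m = e.symm (MonoidAlgebra.single m 1))

include hc in
theorem mu_lift [DecidableEq M] (i n : M) :
    mu I e i ((1 : R ⧸ I) ⊗ₜ[R] c n) = if n = i then 1 else 0 := by
  rw [mu_apply, hc, BialgEquiv.apply_symm_apply, MonoidAlgebra.coeff_single,
    Finsupp.single_apply]

include hc in
theorem span_lift :
    ⊤ ≤ Submodule.span (R ⧸ I) (Set.range fun i => (1 : R ⧸ I) ⊗ₜ[R] c i) := by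
  intro x _
  have h1 : x = e.symm (e x) := (e.symm_apply_apply x).symm
  rw [h1, eq_sum_single (e x), map_sum]
  refine Submodule.sum_mem _ (fun n _ => ?_)
  have h2 : (MonoidAlgebra.single n ((e x).coeff n) : MonoidAlgebra (R ⧸ I) M) =
      (e x).coeff n • MonoidAlgebra.single n (1 : R ⧸ I) := by
    rw [MonoidAlgebra.smul_single, smul_eq_mul, mul_one]
  rw [h2, map_smul, ← hc]
  exact Submodule.smul_mem _ _ (Submodule.subset_span ⟨n, rfl⟩)

include hc in
theorem isGLMod_lift (m : M) : IsGLMod I (c m) := by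
  have hg : IsGroupLikeElem (R ⧸ I) ((1 : R ⧸ I) ⊗ₜ[R] c m) := by
    rw [hc]
    exact NilDiag.isGroupLikeElem_symm_single I e m
  constructor
  · rw [← one_tmul_eq_zero_iff]
    apply one_tmul_eq_zero_of_bcMap2_eq_zero
    rw [map_sub, MRB.bcMap2_tmul, ← MRB.comul_one_tmul, hg.comul_eq_tmul_self, sub_self]
  · have h1 := hg.counit_eq_one
    rw [TensorProduct.counit_tmul, CommSemiring.counit_apply, Algebra.smul_def,
      mul_one] at h1
    rw [← Ideal.Quotient.eq_zero_iff_mem, map_sub, map_one, sub_eq_zero]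
    exact h1

/-- A family of lifts of the group-like basis of `(R/I) ⊗ A` is a basis of `A`. -/
noncomputable def liftBasis : Module.Basis M R A := by
  classical
  exact basisOfFlat I hI c (mu I e) (mu_lift I e c hc) (span_lift I e c hc)

theorem liftBasis_apply (m : M) : liftBasis I hI e c hc m = c m := by
  classical
  exact basisOfFlat_apply I hI c (mu I e) (mu_lift I e c hc) (span_lift I e c hc) m

end Assemble

end Groth.Agent.Lib.Helper25.FlatDef
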