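import Groth.Agent.Lib.Helper25FlatDefD

/-!
# Flat deformations of diagonalisable groups along nilpotent ideals: conclusion (helper25)
-/

set_option autoImplicit false
set_option linter.unusedSectionVars false
set_option linter.style.haveILetI false
universe u

namespace Groth.Agent.Lib.Helper25.FlatDef

open TensorProduct Groth.Agent.Lib.Helper25 Groth.Agent.Lib.Helper25.NilGL
  Groth.Agent.Lib.Helper25.FlatBasis Groth.Agent.Lib.Helper25.NilLift

section Final

variable {R : Type u} [CommRing R] {A : Type u} [CommRing A] [HopfAlgebra R A] [Module.Flat R A]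
  (I : Ideal R) (hI : IsNilpotent I) {M : Type u} [CommGroup M]
  (e : (R ⧸ I) ⊗[R] A ≃ₐc[R ⧸ I] MonoidAlgebra (R ⧸ I) M)

include hI in
theorem exists_groupLike_lifts :
    ∃ g : M → A, (∀ m, IsGroupLikeElem R (g m)) ∧
      ∀ m, (1 : R ⧸ I) ⊗ₜ[R] g m = e.symm (MonoidAlgebra.single m 1) := by
  have hsurj : ∀ m : M, ∃ a : A, (1 : R ⧸ I) ⊗ₜ[R] a = e.symm (MonoidAlgebra.single m 1) := by
    intro m
    obtain ⟨a, ha⟩ := TensorProduct.mk_surjective R A (R ⧸ I) Ideal.Quotient.mk_surjective
      (e.symm (MonoidAlgebra.single m 1))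
    exact ⟨a, ha⟩
  choose c hc using hsurj
  have hex := fun m => exists_groupLike_lift_of_basis I hI (liftBasis I hI e c hc)
    (fun m => by rw [liftBasis_apply]; exact isGLMod_lift I e c hc m) m
  choose g hg1 hg2 using hex
  refine ⟨g, hg1, fun m => ?_⟩
  rw [← hc m, one_tmul_eq_one_tmul_iff]
  have := hg2 m
  rwa [liftBasis_apply] at this

variable (g : M → A) (hg1 : ∀ m, IsGroupLikeElem R (g m))
  (hg2 : ∀ m, (1 : R ⧸ I) ⊗ₜ[R] g m = e.symm (MonoidAlgebra.single m 1))

include hI hg1 hg2 in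
theorem groupLike_unique {x y : A} (hx : IsGroupLikeElem R x) (hy : IsGroupLikeElem R y)
    (hxy : (1 : R ⧸ I) ⊗ₜ[R] x = (1 : R ⧸ I) ⊗ₜ[R] y) : x = y := by
  apply groupLike_eq_of_basis I hI (liftBasis I hI e g hg2)
    (fun m => by rw [liftBasis_apply]; exact hg1 m) hx hy
  rwa [← one_tmul_eq_one_tmul_iff]

/-- `m ↦ g m` as a homomorphism to the group-like elements of `A`. -/
noncomputable def gammaHom : M →* GroupLike R A where
  toFun m := ⟨g m, hg1 m⟩
  map_one' := by
    apply GroupLike.val_injective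
    change g 1 = 1
    apply groupLike_unique I hI e g hg1 hg2 (hg1 1) IsGroupLikeElem.one
    rw [hg2, ← MonoidAlgebra.one_def, map_one]
    rfl
  map_mul' := by
    intro m m'
    apply GroupLike.val_injective
    change g (m * m') = g m * g m'
    apply groupLike_unique I hI e g hg1 hg2 (hg1 _) ((hg1 m).mul (hg1 m'))
    have h1 : (1 : R ⧸ I) ⊗ₜ[R] (g m * g m') =
        ((1 : R ⧸ I) ⊗ₜ[R] g m) * ((1 : R ⧸ I) ⊗ₜ[R] g m') := by
      rw [Algebra.TensorProduct.tmul_mul_tmul, mul_one]
    rw [h1, hg2, hg2, hg2, ← map_mul, MonoidAlgebra.single_mul_single, mul_one]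

/-- The bialgebra map `R[M] → A`. -/
noncomputable def PhiHom : MonoidAlgebra R M →ₐc[R] A :=
  (MonoidAlgebra.liftGroupLikeBialgHom (R := R) (A := A)).comp
    (MonoidAlgebra.mapDomainBialgHom R (gammaHom I hI e g hg1 hg2))

theorem PhiHom_single (m : M) :
    PhiHom I hI e g hg1 hg2 (MonoidAlgebra.single m 1) = g m := by
  rw [PhiHom, BialgHom.comp_apply, MonoidAlgebra.mapDomainBialgHom_single,
    MonoidAlgebra.liftGroupLikeBialgHom_apply, MonoidAlgebra.lift_single, one_smul]
  rfl

theorem PhiHom_bijective : Function.Bijective (PhiHom I hI e g hg1 hg2) := by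
  set ψ : MonoidAlgebra R M ≃ₗ[R] A :=
    (MonoidAlgebra.coeffLinearEquiv R).trans (liftBasis I hI e g hg2).repr.symm with hψ
  have h : ∀ x, PhiHom I hI e g hg1 hg2 x = ψ x := by
    intro x
    induction x using MonoidAlgebra.induction_linear with
    | zero => simp
    | add x y hx hy => rw [map_add, map_add, hx, hy]
    | single m r =>
      have h1 : (MonoidAlgebra.single m r : MonoidAlgebra R M) =
          r • MonoidAlgebra.single m (1 : R) := by
        rw [MonoidAlgebra.smul_single, smul_eq_mul, mul_one]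
      rw [h1, map_smul, map_smul, PhiHom_single, hψ, LinearEquiv.trans_apply,
        MonoidAlgebra.coeffLinearEquiv_apply, MonoidAlgebra.coeff_single,
        Module.Basis.repr_symm_single_one, liftBasis_apply]
  have : (PhiHom I hI e g hg1 hg2 : _ → _) = ψ := funext h
  rw [this]
  exact ψ.bijective

end Final

section Main

variable (R : Type u) [CommRing R] (A : Type u) [CommRing A] [HopfAlgebra R A] [Module.Flat R A]
  (I : Ideal R) (hI : IsNilpotent I)

include hI in
/-- **Flat deformation lemma.**  A flat Hopf algebra which is diagonalisable modulo a nilpotent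
ideal is diagonalisable. -/
theorem isDiag_of_flat_of_isDiag_mod_nilpotent
    (h : SGA3b.IsDiag (R ⧸ I) ((R ⧸ I) ⊗[R] A)) : SGA3b.IsDiag R A := by
  obtain ⟨M, _, ⟨e⟩⟩ := h
  obtain ⟨g, hg1, hg2⟩ := exists_groupLike_lifts I hI e
  exact ⟨M, inferInstance, ⟨(BialgEquiv.ofBijective (PhiHom I hI e g hg1 hg2)
    (PhiHom_bijective I hI e g hg1 hg2)).symm⟩⟩

end Main

end Groth.Agent.Lib.Helper25.FlatDef
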