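import Groth.Agent.Lib.Helper25GLnEmbed
import Groth.Agent.Lib.Helper25TakeuchiCor

/-!
# Finitely generated Hopf subalgebras and fraction fields (helper25)

* `exists_bialgHom_GLn_range_ge`, `exists_finiteType_hopfSubalgebra_ge`: every finite subset of a
  commutative Hopf algebra over a field lies in a finitely generated Hopf subalgebra.
* `hopfSubalgebra_eq_top_of_fractions`: a Hopf subalgebra of a Hopf domain with the same fraction
  field is everything (faithful flatness).
* `adjoin_eq_top_of_finiteType`, `finiteType_of_adjoin_eq_top`: a Hopf domain is of finite type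
  iff its fraction field is a finitely generated field extension.
-/

set_option autoImplicit false
universe u v w w'

namespace Groth.Agent.Lib.Helper25

open TensorProduct HopfRep Module Matrix CoordGrp


section FTsub

variable {k : Type u} [Field k] {A : Type v} [CommRing A] [HopfAlgebra k A]

instance finiteType_GLn (n : ℕ) : Algebra.FiniteType k (GLn n k) :=
  haveI : Algebra.FiniteType k (GLb n k) :=
    inferInstanceAs (Algebra.FiniteType k (MvPolynomial (GLPoly.Idx n) k))
  Algebra.FiniteType.of_surjective (GLn.mk n k) (Ideal.Quotient.mkₐ_surjective k _)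

/-- Every finite subset of a commutative Hopf algebra over a field lies in the image of a
bialgebra map from some `k[GL_n]`. -/
theorem exists_bialgHom_GLn_range_ge (F : Finset A) :
    ∃ (n : ℕ) (π : GLn n k →ₐc[k] A), ∀ f ∈ F, f ∈ (π : GLn n k →ₐ[k] A).range := by
  classical
  obtain ⟨U, hUfg, hUsub, hle⟩ := exists_fg_subcomod_ge (k := k) (A := A) (V := A)
    (Submodule.span k (F : Set A)) (Submodule.fg_span F.finite_toSet)
  letI := subComod U hUsub
  haveI : Module.Finite k U := Module.Finite.iff_fg.mpr hUfg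
  let b := Module.finBasis k U
  have ha := isComatrix_comatrix (A := A) b
  refine ⟨_, glnHom ha, ?_⟩
  intro f hf
  have hfU : f ∈ U := hle (Submodule.subset_span hf)
  have h1 : CoalgebraStruct.comul (R := k) f =
      U.subtype.rTensor A (Comod.coact (k := k) (A := A) (⟨f, hfU⟩ : U)) :=
    (rTensor_subtype_subCoact U hUsub ⟨f, hfU⟩).symm
  rw [coact_eq_sum b] at h1
  have h2 := Coalgebra.rTensor_counit_comul (R := k) f
  rw [h1] at h2
  simp only [map_sum, LinearMap.rTensor_tmul, Submodule.subtype_apply] at h2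
  have h3 := congrArg (TensorProduct.lid k A) h2
  simp only [map_sum, TensorProduct.lid_tmul, one_smul] at h3
  rw [← h3]
  refine Subalgebra.sum_mem _ (fun i _ => Subalgebra.smul_mem _ ?_ _)
  refine Subalgebra.sum_mem _ (fun l _ => Subalgebra.smul_mem _ ?_ _)
  exact ⟨GLn.X i l, glnHom_X ha i l⟩

/-- Every finite subset of a commutative Hopf algebra over a field lies in a finitely generated
Hopf subalgebra. -/
theorem exists_finiteType_hopfSubalgebra_ge (F : Finset A) :
    ∃ B : Subalgebra k A, Algebra.FiniteType k B ∧ (↑F : Set A) ⊆ B ∧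
      (∀ b ∈ B, CoalgebraStruct.comul (R := k) b ∈
        LinearMap.range (TensorProduct.map B.val.toLinearMap B.val.toLinearMap)) ∧
      (∀ b ∈ B, HopfAlgebra.antipode k b ∈ B) := by
  obtain ⟨n, π, hπ⟩ := exists_bialgHom_GLn_range_ge (k := k) F
  refine ⟨(π : GLn n k →ₐ[k] A).range, ?_, fun f hf => hπ f hf, comul_mem_of_mem_range π,
    antipode_mem_of_mem_range π⟩
  exact Algebra.FiniteType.of_surjective (π : GLn n k →ₐ[k] A).rangeRestrict
    (π : GLn n k →ₐ[k] A).rangeRestrict_surjective

end FTsub



section FTfrac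

variable {k : Type u} [Field k] {B : Type v} [CommRing B] [HopfAlgebra k B]

/-- A Hopf subalgebra with the same fraction field is everything. -/
theorem hopfSubalgebra_eq_top_of_fractions [IsDomain B] (B₀ : Subalgebra k B)
    (hΔ : ∀ b ∈ B₀, CoalgebraStruct.comul (R := k) b ∈
        LinearMap.range (TensorProduct.map B₀.val.toLinearMap B₀.val.toLinearMap))
    (hS : ∀ b ∈ B₀, HopfAlgebra.antipode k b ∈ B₀)
    (h : ∀ c : B, ∃ p q : B, p ∈ B₀ ∧ q ∈ B₀ ∧ q ≠ 0 ∧ c * q = p) : B₀ = ⊤ := by
  rw [eq_top_iff]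
  intro c _
  obtain ⟨p, q, hp, hq, hq0, hcq⟩ := h c
  haveI : Module.FaithfullyFlat ↥B₀ B := faithfullyFlat_of_isHopfSubalgebra B₀ hΔ hS
  have h1 := Ideal.comap_map_eq_self_of_faithfullyFlat (B := B)
    (Ideal.span {(⟨q, hq⟩ : ↥B₀)})
  have h2 : (⟨p, hp⟩ : ↥B₀) ∈ Ideal.comap (algebraMap ↥B₀ B)
      (Ideal.map (algebraMap ↥B₀ B) (Ideal.span {(⟨q, hq⟩ : ↥B₀)})) := by
    rw [Ideal.mem_comap, Ideal.map_span, Set.image_singleton, Ideal.mem_span_singleton]
    exact ⟨c, by rw [mul_comm]; exact hcq.symm⟩
  rw [h1, Ideal.mem_span_singleton] at h2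
  obtain ⟨c₀, hc₀⟩ := h2
  have h3 : p = q * (c₀ : B) := congrArg Subtype.val hc₀
  have h4 : c = (c₀ : B) := by
    have : q * c = q * (c₀ : B) := by rw [mul_comm, hcq, h3]
    exact mul_left_cancel₀ hq0 this
  rw [h4]
  exact c₀.2

end FTfrac



section FTfrac2

variable {k : Type u} [Field k] {B : Type v} [CommRing B] [IsDomain B] [HopfAlgebra k B]

theorem adjoin_eq_top_of_finiteType [Algebra.FiniteType k B] :
    ∃ s : Finset (FractionRing B),
      IntermediateField.adjoin k (s : Set (FractionRing B)) = ⊤ := by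
  classical
  obtain ⟨t, ht⟩ := (Algebra.FiniteType.out : (⊤ : Subalgebra k B).FG)
  refine ⟨t.image (algebraMap B (FractionRing B)), ?_⟩
  rw [eq_top_iff]
  intro x _
  have hB : ∀ c : B, algebraMap B (FractionRing B) c ∈
      IntermediateField.adjoin k
        ((t.image (algebraMap B (FractionRing B)) : Finset (FractionRing B)) :
          Set (FractionRing B)) := by
    intro c
    have hc : c ∈ Algebra.adjoin k (↑t : Set B) := by rw [ht]; trivial
    induction hc using Algebra.adjoin_induction with
    | mem x hx =>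
      apply IntermediateField.subset_adjoin
      rw [Finset.coe_image]
      exact ⟨x, hx, rfl⟩
    | algebraMap r =>
      rw [← IsScalarTower.algebraMap_apply]
      exact IntermediateField.algebraMap_mem _ r
    | add x y _ _ hx hy => rw [map_add]; exact add_mem hx hy
    | mul x y _ _ hx hy => rw [map_mul]; exact mul_mem hx hy
  obtain ⟨a, b, hb, rfl⟩ := IsFractionRing.div_surjective (A := B) x
  exact div_mem (hB a) (hB b)

theorem finiteType_of_adjoin_eq_top (s : Finset (FractionRing B))
    (hs : IntermediateField.adjoin k (s : Set (FractionRing B)) = ⊤) :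
    Algebra.FiniteType k B := by
  classical
  have hch : ∀ x : FractionRing B, ∃ ab : B × B, ab.2 ≠ 0 ∧
      x = algebraMap B (FractionRing B) ab.1 / algebraMap B (FractionRing B) ab.2 := by
    intro x
    obtain ⟨a, b, hb, rfl⟩ := IsFractionRing.div_surjective (A := B) x
    exact ⟨(a, b), nonZeroDivisors.ne_zero hb, rfl⟩
  choose ab hab0 hab using hch
  obtain ⟨B₀, hft, hF, hΔ, hS⟩ := exists_finiteType_hopfSubalgebra_ge (k := k)
    (s.image (fun x => (ab x).1) ∪ s.image (fun x => (ab x).2))
  have hinj : Function.Injective (algebraMap B (FractionRing B)) :=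
    IsFractionRing.injective B (FractionRing B)
  have key : ∀ x : FractionRing B, ∃ p q : B, p ∈ B₀ ∧ q ∈ B₀ ∧ q ≠ 0 ∧
      x = algebraMap B (FractionRing B) p / algebraMap B (FractionRing B) q := by
    intro x
    have hx : x ∈ IntermediateField.adjoin k (s : Set (FractionRing B)) := by rw [hs]; trivial
    induction hx using IntermediateField.adjoin_induction with
    | mem x hx =>
      refine ⟨(ab x).1, (ab x).2, hF ?_, hF ?_, hab0 x, hab x⟩
      · rw [Finset.coe_union]
        exact Or.inl (by rw [Finset.coe_image]; exact ⟨x, hx, rfl⟩)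
      · rw [Finset.coe_union]
        exact Or.inr (by rw [Finset.coe_image]; exact ⟨x, hx, rfl⟩)
    | algebraMap r =>
      refine ⟨algebraMap k B r, 1, B₀.algebraMap_mem r, B₀.one_mem, one_ne_zero, ?_⟩
      rw [map_one, div_one, ← IsScalarTower.algebraMap_apply]
    | add x y _ _ hx hy =>
      obtain ⟨p, q, hp, hq, hq0, rfl⟩ := hx
      obtain ⟨p', q', hp', hq', hq0', rfl⟩ := hy
      refine ⟨p * q' + p' * q, q * q', B₀.add_mem (B₀.mul_mem hp hq') (B₀.mul_mem hp' hq),
        B₀.mul_mem hq hq', mul_ne_zero hq0 hq0', ?_⟩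
      have h1 : algebraMap B (FractionRing B) q ≠ 0 := fun h => hq0 (hinj (by rw [h, map_zero]))
      have h2 : algebraMap B (FractionRing B) q' ≠ 0 := fun h => hq0' (hinj (by rw [h, map_zero]))
      rw [map_add, map_mul, map_mul, map_mul]
      field_simp
    | inv x _ hx =>
      obtain ⟨p, q, hp, hq, hq0, rfl⟩ := hx
      by_cases hp0 : p = 0
      · refine ⟨0, 1, B₀.zero_mem, B₀.one_mem, one_ne_zero, ?_⟩
        rw [hp0, map_zero, zero_div, _root_.inv_zero, zero_div]
      · exact ⟨q, p, hq, hp, hp0, by rw [inv_div]⟩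
    | mul x y _ _ hx hy =>
      obtain ⟨p, q, hp, hq, hq0, rfl⟩ := hx
      obtain ⟨p', q', hp', hq', hq0', rfl⟩ := hy
      refine ⟨p * p', q * q', B₀.mul_mem hp hp', B₀.mul_mem hq hq', mul_ne_zero hq0 hq0', ?_⟩
      rw [map_mul, map_mul, div_mul_div_comm]
  have htop : B₀ = ⊤ := by
    apply hopfSubalgebra_eq_top_of_fractions B₀ hΔ hS
    intro c
    obtain ⟨p, q, hp, hq, hq0, h⟩ := key (algebraMap B (FractionRing B) c)
    refine ⟨p, q, hp, hq, hq0, ?_⟩
    apply hinj
    have h1 : algebraMap B (FractionRing B) q ≠ 0 := fun h => hq0 (hinj (by rw [h, map_zero]))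
    rw [map_mul, h, div_mul_cancel₀ _ h1]
  haveI := hft
  exact Algebra.FiniteType.of_surjective B₀.val (by
    intro c
    exact ⟨⟨c, by rw [htop]; trivial⟩, rfl⟩)

end FTfrac2

end Groth.Agent.Lib.Helper25
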