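import Mathlib

/-!
# Helper25FrobSplit: the Frobenius splitting of `E → E_red` for a finite commutative Hopf algebra
over a perfect field of characteristic `p` (S11927).
-/

set_option autoImplicit false
set_option linter.style.haveILetI false
universe u

open TensorProduct

namespace Groth.Agent.Lib.Helper25.FrobSplit


section Perfect

variable (k : Type u) [Field k] [PerfectField k] (p : ℕ) [Fact p.Prime] [CharP k p]

/-- a reduced finite-dimensional algebra over a perfect field of char `p` has surjective Frobenius -/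
theorem frobenius_surjective_of_finite (R : Type u) [CommRing R] [Algebra k R]
    [Module.Finite k R] [IsReduced R] : Function.Surjective fun x : R => x ^ p := by
  haveI : IsArtinianRing R := IsArtinianRing.of_finite k R
  have hcomp : ∀ m : MaximalSpectrum R, Function.Surjective fun x : R ⧸ m.asIdeal => x ^ p := by
    intro m
    letI : Field (R ⧸ m.asIdeal) := Ideal.Quotient.field m.asIdeal
    haveI : Algebra.IsAlgebraic k (R ⧸ m.asIdeal) := Algebra.IsAlgebraic.of_finite k _
    haveI : PerfectField (R ⧸ m.asIdeal) := Algebra.IsAlgebraic.perfectField k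
    haveI : CharP (R ⧸ m.asIdeal) p :=
      charP_of_injective_algebraMap (algebraMap k (R ⧸ m.asIdeal)).injective p
    haveI : ExpChar (R ⧸ m.asIdeal) p := ExpChar.prime Fact.out
    haveI : PerfectRing (R ⧸ m.asIdeal) p := PerfectField.toPerfectRing p
    exact (bijective_frobenius (R ⧸ m.asIdeal) p).2
  intro y
  let e := IsArtinianRing.equivPi R
  choose w hw using fun m => hcomp m (e y m)
  refine ⟨e.symm w, ?_⟩
  apply e.injective
  change e ((e.symm w) ^ p) = e y
  rw [map_pow, AlgEquiv.apply_symm_apply]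
  funext m
  exact hw m

end Perfect

section CharTensor

variable (k : Type u) [Field k] (p : ℕ) [Fact p.Prime] [CharP k p]
  (A : Type u) [CommRing A] [Bialgebra k A]

include k in
theorem nontrivial_of_bialg : Nontrivial A := by
  refine ⟨⟨0, 1, fun h => ?_⟩⟩
  have := congrArg (Bialgebra.counitAlgHom k A) h
  simp at this

include k in
theorem charP_of_bialg : CharP A p :=
  haveI := nontrivial_of_bialg k A
  charP_of_injective_algebraMap (algebraMap k A).injective p

omit [Fact p.Prime] in
theorem charP_tensor_of_bialg : CharP (A ⊗[k] A) p := by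
  haveI : Nontrivial (A ⊗[k] A) := by
    refine ⟨⟨0, 1, fun h => ?_⟩⟩
    have := congrArg (Algebra.TensorProduct.lmul' k (S := k) ∘
      Algebra.TensorProduct.map (Bialgebra.counitAlgHom k A) (Bialgebra.counitAlgHom k A)) h
    simp at this
  exact charP_of_injective_algebraMap (algebraMap k (A ⊗[k] A)).injective p

end CharTensor

section Split

variable (k : Type u) [Field k] [PerfectField k] (p : ℕ) [Fact p.Prime] [CharP k p]
  (E : Type u) [CommRing E] [HopfAlgebra k E] [FiniteDimensional k E]
  [(nilradical E).IsHopfIdeal k]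

include p in
/-- the data of the Frobenius splitting -/
theorem exists_section :
    ∃ σ : (E ⧸ nilradical E) →ₐ[k] E,
      (∀ x, Ideal.Quotient.mk (nilradical E) (σ x) = x) ∧
      ∃ q : ℕ, 0 < q ∧ (∀ a b : E ⊗[k] E, (a + b) ^ q = a ^ q + b ^ q) ∧
        (∀ a b : (E ⧸ nilradical E) ⊗[k] (E ⧸ nilradical E), (a + b) ^ q = a ^ q + b ^ q) ∧
        (∀ a : E, σ ((Ideal.Quotient.mk (nilradical E) a) ^ q) = a ^ q) ∧
        Function.Surjective fun x : E ⧸ nilradical E => x ^ q := by
  haveI : IsNoetherianRing E := Algebra.FiniteType.isNoetherianRing k E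
  haveI hCE : CharP E p := charP_of_bialg k p E
  haveI hCR : CharP (E ⧸ nilradical E) p := charP_of_bialg k p (E ⧸ nilradical E)
  haveI : ExpChar E p := ExpChar.prime Fact.out
  haveI : ExpChar (E ⧸ nilradical E) p := ExpChar.prime Fact.out
  haveI : ExpChar k p := ExpChar.prime Fact.out
  haveI : PerfectRing k p := PerfectField.toPerfectRing p
  haveI : IsReduced (E ⧸ nilradical E) :=
    (Ideal.isRadical_iff_quotient_reduced (nilradical E)).mp (Ideal.radical_isRadical _)
  haveI : PerfectRing (E ⧸ nilradical E) p :=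
    PerfectRing.ofSurjective _ p (frobenius_surjective_of_finite k p (E ⧸ nilradical E))
  obtain ⟨m, hm⟩ := IsNoetherianRing.isNilpotent_nilradical E
  have hmle : m ≤ p ^ m := (Nat.lt_pow_self (Fact.out : p.Prime).one_lt).le
  have hkill : ∀ a ∈ nilradical E, iterateFrobenius E p m a = 0 := by
    intro a ha
    rw [iterateFrobenius_def]
    have h1 : a ^ m ∈ nilradical E ^ m := Ideal.pow_mem_pow ha m
    rw [hm] at h1
    exact pow_eq_zero_of_le hmle h1
  let ψ : (E ⧸ nilradical E) →+* E := Ideal.Quotient.lift (nilradical E) (iterateFrobenius E p m) hkill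
  have hψ : ∀ a : E, ψ (Ideal.Quotient.mk _ a) = a ^ p ^ m := fun a => by
    simp only [ψ, Ideal.Quotient.lift_mk, iterateFrobenius_def]
  let σ₀ : (E ⧸ nilradical E) →+* E :=
    ψ.comp ((iterateFrobeniusEquiv (E ⧸ nilradical E) p m).symm : _ →+* _)
  have hσ₀ : ∀ y : E ⧸ nilradical E, σ₀ (y ^ p ^ m) = ψ y := by
    intro y
    change ψ ((iterateFrobeniusEquiv (E ⧸ nilradical E) p m).symm (y ^ p ^ m)) = ψ y
    congr 1
    rw [RingEquiv.symm_apply_eq, iterateFrobeniusEquiv_apply, iterateFrobenius_def]
  have hcomm : ∀ c : k, σ₀ (algebraMap k (E ⧸ nilradical E) c) = algebraMap k E c := by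
    intro c
    obtain ⟨d, hd⟩ := (bijective_iterateFrobenius k p m).2 c
    rw [iterateFrobenius_def] at hd
    rw [← hd, map_pow, hσ₀, IsScalarTower.algebraMap_apply k E (E ⧸ nilradical E),
      Ideal.Quotient.algebraMap_eq, hψ, map_pow]
  let σ : (E ⧸ nilradical E) →ₐ[k] E := { σ₀ with commutes' := hcomm }
  have hσ : ∀ y : E ⧸ nilradical E, σ (y ^ p ^ m) = ψ y := hσ₀
  have hsurj : Function.Surjective fun x : E ⧸ nilradical E => x ^ p ^ m := by
    intro y
    obtain ⟨x, hx⟩ := (bijective_iterateFrobenius (E ⧸ nilradical E) p m).2 y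
    exact ⟨x, by rw [← hx, iterateFrobenius_def]⟩
  refine ⟨σ, ?_, p ^ m, pow_pos (Fact.out : p.Prime).pos _, ?_, ?_, ?_, hsurj⟩
  · intro x
    obtain ⟨y, rfl⟩ := hsurj x
    obtain ⟨a, rfl⟩ := Ideal.Quotient.mk_surjective y
    change Ideal.Quotient.mk (nilradical E) (σ ((Ideal.Quotient.mk (nilradical E) a) ^ p ^ m)) = _
    rw [hσ, hψ, map_pow]
  · haveI := charP_tensor_of_bialg k p E
    intro a b
    exact add_pow_char_pow a b p m
  · haveI := charP_tensor_of_bialg k p (E ⧸ nilradical E)
    intro a b
    exact add_pow_char_pow a b p m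
  · intro a
    rw [hσ, hψ]

end Split



section Split2

variable (k : Type u) [Field k] [PerfectField k] (p : ℕ) [Fact p.Prime] [CharP k p]
  (E : Type u) [CommRing E] [HopfAlgebra k E] [FiniteDimensional k E]
  [(nilradical E).IsHopfIdeal k]

include p in
theorem exists_bialgHom_section :
    ∃ σ : (E ⧸ nilradical E) →ₐc[k] E,
      (Bialgebra.Quotient.mkBialgHom (R := k) (nilradical E)).comp σ =
        BialgHom.id k (E ⧸ nilradical E) := by
  obtain ⟨σ, hπσ, q, hq, haddE, haddR, hσq, hsurj⟩ := exists_section k p E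
  let π : E →ₐ[k] (E ⧸ nilradical E) := Ideal.Quotient.mkₐ k (nilradical E)
  have hcounit : (Bialgebra.counitAlgHom k E).comp σ =
      Bialgebra.counitAlgHom k (E ⧸ nilradical E) := by
    ext x
    obtain ⟨y, rfl⟩ := hsurj x
    obtain ⟨a, rfl⟩ := Ideal.Quotient.mk_surjective y
    change Bialgebra.counitAlgHom k E (σ ((Ideal.Quotient.mk (nilradical E) a) ^ q)) =
      Bialgebra.counitAlgHom k (E ⧸ nilradical E) ((Ideal.Quotient.mk (nilradical E) a) ^ q)
    rw [hσq, map_pow, map_pow]
    rfl
  -- key claim on tensor squares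
  have hkey : ∀ w : E ⊗[k] E,
      Algebra.TensorProduct.map σ σ ((Algebra.TensorProduct.map π π w) ^ q) = w ^ q := by
    intro w
    induction w using TensorProduct.induction_on with
    | zero => simp [zero_pow hq.ne']
    | tmul a b =>
      rw [Algebra.TensorProduct.map_tmul, Algebra.TensorProduct.tmul_pow,
        Algebra.TensorProduct.map_tmul, Algebra.TensorProduct.tmul_pow]
      change σ ((Ideal.Quotient.mk (nilradical E) a) ^ q) ⊗ₜ[k]
        σ ((Ideal.Quotient.mk (nilradical E) b) ^ q) = _
      rw [hσq, hσq]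
    | add x y hx hy =>
      rw [map_add, haddR, map_add, hx, hy, haddE]
  have hcomul : (Algebra.TensorProduct.map σ σ).comp
      (Bialgebra.comulAlgHom k (E ⧸ nilradical E)) =
      (Bialgebra.comulAlgHom k E).comp σ := by
    ext x
    obtain ⟨y, rfl⟩ := hsurj x
    obtain ⟨a, rfl⟩ := Ideal.Quotient.mk_surjective y
    change Algebra.TensorProduct.map σ σ (Bialgebra.comulAlgHom k (E ⧸ nilradical E)
      ((Ideal.Quotient.mk (nilradical E) a) ^ q)) =
      Bialgebra.comulAlgHom k E (σ ((Ideal.Quotient.mk (nilradical E) a) ^ q))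
    have h1 : Bialgebra.comulAlgHom k (E ⧸ nilradical E) (Ideal.Quotient.mk (nilradical E) a) =
        Algebra.TensorProduct.map π π (Bialgebra.comulAlgHom k E a) := rfl
    rw [hσq, map_pow (Bialgebra.comulAlgHom k (E ⧸ nilradical E)),
      map_pow (Bialgebra.comulAlgHom k E), h1, hkey]
  refine ⟨BialgHom.ofAlgHom σ hcounit hcomul, ?_⟩
  ext x
  exact hπσ x

end Split2


end Groth.Agent.Lib.Helper25.FrobSplit
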