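import Groth.Agent.Lib.Helper25Trig

/-!
# Helper25FullFlag: full flags with trivial quotients in comodules of unipotent groups

`exists_fullTrivFlag_aux`.
-/

set_option autoImplicit false
universe u v

namespace Groth.Agent.Lib.Helper25

open TensorProduct HopfRep Module

section FullFlag

variable {k : Type u} [Field k] {A : Type v} [CommRing A] [Bialgebra k A]

theorem exists_fullTrivFlag_aux (hU : IsUnipotent k A) (n : ℕ) :
    ∀ (V : Type v) [AddCommGroup V] [Module k V] [Comod k A V], Module.Finite k V →
      Module.finrank k V = n → ∃ F : ℕ → Submodule k V, Monotone F ∧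
        (∀ i, IsSubcomod (k := k) (A := A) (F i)) ∧
        (∀ i, i ≤ n → Module.finrank k (F i) = i) ∧
        ∀ i, ∀ v ∈ F (i + 1),
          Comod.coact (k := k) (A := A) v - v ⊗ₜ[k] (1 : A) ∈
            LinearMap.range ((F i).subtype.rTensor A) := by
  induction n with
  | zero =>
    intro V _ _ _ hfin hn
    refine ⟨fun _ => ⊥, monotone_const, fun _ => isSubcomod_bot, ?_, ?_⟩
    · intro i hi
      rw [finrank_bot]
      omega
    · intro i v hv
      rw [Submodule.mem_bot] at hv
      rw [hv]
      simp
  | succ n ih =>
    intro V _ _ _ hfin hn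
    have hnt : Nontrivial V := by
      rw [← Module.finrank_pos_iff (R := k)]
      omega
    have hP0 : fixedPts k A V ≠ ⊥ := hU V hfin hnt
    obtain ⟨v₀, hv₀, hv₀ne⟩ := Submodule.exists_mem_ne_zero_of_ne_bot hP0
    set E : Submodule k V := Submodule.span k {v₀} with hEdef
    have hE : IsSubcomod (k := k) (A := A) E := isSubcomod_span_of_mem_fixedPts hv₀
    have hEfix : E ≤ fixedPts k A V := by
      rw [hEdef, Submodule.span_le]
      intro x hx
      rw [Set.mem_singleton_iff] at hx
      rw [hx]
      exact hv₀
    have hE1 : Module.finrank k E = 1 := finrank_span_singleton hv₀ne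
    letI := quotComod E hE
    have hq : Hoch.IsComodHom A E.mkQ := isComodHom_mkQ E hE
    have hQ : Module.finrank k (V ⧸ E) = n := by
      have h1 := Submodule.finrank_quotient_add_finrank E
      omega
    obtain ⟨F', hmono, hsub, hdim, hgr⟩ := ih (V ⧸ E) inferInstance hQ
    have hF'0 : F' 0 = ⊥ := Submodule.finrank_eq_zero.mp (hdim 0 (Nat.zero_le _))
    refine ⟨fun i => Nat.casesOn i ⊥ (fun j => (F' j).comap E.mkQ), ?_, ?_, ?_, ?_⟩
    · apply monotone_nat_of_le_succ
      intro i
      cases i with
      | zero => exact bot_le
      | succ j => exact Submodule.comap_mono (hmono (Nat.le_succ j))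
    · intro i
      cases i with
      | zero => exact isSubcomod_bot
      | succ j => exact isSubcomod_comap hq (hsub j)
    · intro i hi
      cases i with
      | zero => exact finrank_bot k V
      | succ j =>
        change Module.finrank k ((F' j).comap E.mkQ) = j + 1
        rw [finrank_comap_mkQ, hE1, hdim j (by omega)]
    · intro i v hv
      cases i with
      | zero =>
        change v ∈ (F' 0).comap E.mkQ at hv
        rw [hF'0, Submodule.comap_bot, Submodule.ker_mkQ] at hv
        have : Comod.coact (k := k) (A := A) v - v ⊗ₜ[k] (1 : A) = 0 := by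
          rw [sub_eq_zero]; exact hEfix hv
        rw [this]; exact Submodule.zero_mem _
      | succ j =>
        change v ∈ (F' (j + 1)).comap E.mkQ at hv
        change _ ∈ LinearMap.range (((F' j).comap E.mkQ).subtype.rTensor A)
        rw [mem_range_rTensor_iff]
        intro φ
        rw [Submodule.mem_comap, ← slice_rTensor, map_sub, LinearMap.rTensor_tmul,
          ← isComodHom_apply hq]
        exact (mem_range_rTensor_iff _ _).mp (hgr j _ hv) φ

end FullFlag

end Groth.Agent.Lib.Helper25
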