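import Groth.Agent.Lib.Helper25Chevalley
import Groth.Prelude.Def_GLin5
import Mathlib

/-!
# Affine algebraic groups are linear (helper25)

For a comatrix `a` of size `n` in a commutative Hopf algebra: `det a` is group-like
(`comul_det_comatrix`, `counit_det_comatrix`) with inverse `det (S a)`; `glnHom ha` is the
bialgebra map `k[GL_n] → A`, `X i j ↦ a i j`.  `exists_surjective_bialgHom_GLn`: every finitely
generated commutative Hopf algebra over a field is a quotient of some `k[GL_n]`.
-/

set_option autoImplicit false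
universe u v w w'

namespace Groth.Agent.Lib.Helper25

open TensorProduct HopfRep Module Matrix CoordGrp


section GLnHom

variable {k : Type u} [Field k] {A : Type v} [CommRing A] [HopfAlgebra k A] {n : ℕ}

theorem comatrix_mul_antipode {a : Matrix (Fin n) (Fin n) A} (ha : IsComatrix (k := k) a) :
    a * a.map (HopfAlgebra.antipode k) = 1 := by
  ext i j
  rw [Matrix.mul_apply, Matrix.one_apply]
  simp only [Matrix.map_apply]
  exact ha.mul_antipode i j

theorem det_mul_det_antipode {a : Matrix (Fin n) (Fin n) A} (ha : IsComatrix (k := k) a) :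
    a.det * (a.map (HopfAlgebra.antipode k)).det = 1 := by
  rw [← Matrix.det_mul, comatrix_mul_antipode ha, Matrix.det_one]

/-- The determinant of a comatrix is group-like. -/
theorem comul_det_comatrix {a : Matrix (Fin n) (Fin n) A} (ha : IsComatrix (k := k) a) :
    CoalgebraStruct.comul (R := k) a.det = a.det ⊗ₜ[k] a.det := by
  have h1 : CoalgebraStruct.comul (R := k) a.det =
      ((Bialgebra.comulAlgHom k A).mapMatrix a).det := AlgHom.map_det (Bialgebra.comulAlgHom k A) a
  have h2 : (Bialgebra.comulAlgHom k A).mapMatrix a =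
      (Algebra.TensorProduct.includeLeft : A →ₐ[k] A ⊗[k] A).mapMatrix a *
        (Algebra.TensorProduct.includeRight : A →ₐ[k] A ⊗[k] A).mapMatrix a := by
    ext i j
    rw [Matrix.mul_apply]
    simp only [AlgHom.mapMatrix_apply, Matrix.map_apply, Bialgebra.comulAlgHom_apply, ha.comul,
      Algebra.TensorProduct.includeLeft_apply, Algebra.TensorProduct.includeRight_apply,
      Algebra.TensorProduct.tmul_mul_tmul, mul_one, one_mul]
  rw [h1, h2, Matrix.det_mul, ← AlgHom.map_det, ← AlgHom.map_det,
    Algebra.TensorProduct.includeLeft_apply, Algebra.TensorProduct.includeRight_apply,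
    Algebra.TensorProduct.tmul_mul_tmul, mul_one, one_mul]

theorem counit_det_comatrix {a : Matrix (Fin n) (Fin n) A} (ha : IsComatrix (k := k) a) :
    CoalgebraStruct.counit (R := k) a.det = 1 := by
  have h1 : CoalgebraStruct.counit (R := k) a.det =
      ((Bialgebra.counitAlgHom k A).mapMatrix a).det := AlgHom.map_det (Bialgebra.counitAlgHom k A) a
  have h2 : (Bialgebra.counitAlgHom k A).mapMatrix a = 1 := by
    ext i j
    simp only [AlgHom.mapMatrix_apply, Matrix.map_apply, Bialgebra.counitAlgHom_apply, ha.counit,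
      Matrix.one_apply]
  rw [h1, h2, Matrix.det_one]

end GLnHom


section GLnHom2

variable {k : Type u} [Field k] {A : Type v} [CommRing A] [HopfAlgebra k A] {n : ℕ}

theorem comul_det_antipode {a : Matrix (Fin n) (Fin n) A} (ha : IsComatrix (k := k) a) :
    CoalgebraStruct.comul (R := k) (a.map (HopfAlgebra.antipode k)).det =
      (a.map (HopfAlgebra.antipode k)).det ⊗ₜ[k] (a.map (HopfAlgebra.antipode k)).det := by
  set g := a.det with hg
  set d := (a.map (HopfAlgebra.antipode k)).det with hd
  have hgd : g * d = 1 := det_mul_det_antipode ha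
  have h1 : CoalgebraStruct.comul (R := k) d * CoalgebraStruct.comul (R := k) g = 1 := by
    rw [← Bialgebra.comul_mul, mul_comm, hgd, Bialgebra.comul_one]
  have h2 : (g ⊗ₜ[k] g : A ⊗[k] A) * (d ⊗ₜ[k] d) = 1 := by
    rw [Algebra.TensorProduct.tmul_mul_tmul, hgd, Algebra.TensorProduct.one_def]
  calc CoalgebraStruct.comul (R := k) d
      = CoalgebraStruct.comul (R := k) d * ((g ⊗ₜ[k] g : A ⊗[k] A) * (d ⊗ₜ[k] d)) := by
        rw [h2, mul_one]
    _ = (CoalgebraStruct.comul (R := k) d * CoalgebraStruct.comul (R := k) g) * (d ⊗ₜ[k] d) := by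
        rw [comul_det_comatrix ha, mul_assoc]
    _ = d ⊗ₜ[k] d := by rw [h1, one_mul]

theorem counit_det_antipode {a : Matrix (Fin n) (Fin n) A} (ha : IsComatrix (k := k) a) :
    CoalgebraStruct.counit (R := k) (a.map (HopfAlgebra.antipode k)).det = 1 := by
  have h := congrArg (CoalgebraStruct.counit (R := k) (A := A)) (det_mul_det_antipode ha)
  rw [Bialgebra.counit_mul, counit_det_comatrix ha, one_mul, Bialgebra.counit_one] at h
  exact h

/-- The homomorphism to `GL_n` defined by a comatrix. -/
noncomputable def glnHom {a : Matrix (Fin n) (Fin n) A} (ha : IsComatrix (k := k) a) :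
    GLn n k →ₐc[k] A :=
  BialgHom.ofAlgHom (GLn.pt n k a (a.map (HopfAlgebra.antipode k)).det (det_mul_det_antipode ha))
    (by
      apply GLn.algHom_ext
      · intro i j
        simp only [AlgHom.comp_apply, GLn.pt_X, Bialgebra.counitAlgHom_apply, ha.counit,
          GLn.counit_X]
      · simp only [AlgHom.comp_apply, GLn.pt_Dinv, Bialgebra.counitAlgHom_apply,
          counit_det_antipode ha, GLn.counit_Dinv])
    (by
      apply GLn.algHom_ext
      · intro i j
        simp only [AlgHom.comp_apply, GLn.pt_X, Bialgebra.comulAlgHom_apply, ha.comul,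
          GLn.comul_X, map_sum, Algebra.TensorProduct.map_tmul]
      · simp only [AlgHom.comp_apply, GLn.pt_Dinv, Bialgebra.comulAlgHom_apply,
          comul_det_antipode ha, GLn.comul_Dinv, Algebra.TensorProduct.map_tmul])

@[simp] theorem glnHom_X {a : Matrix (Fin n) (Fin n) A} (ha : IsComatrix (k := k) a)
    (i j : Fin n) : glnHom ha (GLn.X i j) = a i j :=
  GLn.pt_X a _ (det_mul_det_antipode ha) i j

end GLnHom2


section GLnEmbed

variable {k : Type u} [Field k] {A : Type u} [CommRing A] [HopfAlgebra k A]

theorem apply_eq_sum_counit_smul_vecCoeff {V : Type v} [AddCommGroup V] [Module k V]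
    [Comod k A V] {ι : Type*} [Fintype ι] [DecidableEq ι] (j : V →ₗ[k] A)
    (hj : Hoch.IsComodHom A j) (b : Basis ι k V) (x : V) :
    j x = ∑ i, CoalgebraStruct.counit (R := k) (A := A) (j (b i)) • vecCoeff (A := A) b x i := by
  conv_lhs => rw [eq_coeffMap_of_isComodHom hj]
  rw [coeffMap_apply, coact_eq_sum b x, map_sum]
  refine Finset.sum_congr rfl (fun i _ => ?_)
  rw [lslice_tmul]
  rfl

theorem exists_surjective_bialgHom_GLn (k A : Type u) [Field k] [CommRing A] [HopfAlgebra k A]
    [Algebra.FiniteType k A] :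
    ∃ (n : ℕ) (π : CoordGrp.GLn n k →ₐc[k] A), Function.Surjective π := by
  classical
  obtain ⟨F, hF⟩ := (Algebra.FiniteType.out : (⊤ : Subalgebra k A).FG)
  obtain ⟨U, hUfg, hUsub, hle⟩ := exists_fg_subcomod_ge (k := k) (A := A) (V := A)
    (Submodule.span k (F : Set A)) (Submodule.fg_span F.finite_toSet)
  letI := subComod U hUsub
  haveI : Module.Finite k U := Module.Finite.iff_fg.mpr hUfg
  have hj := isComodHom_subtype U hUsub
  let b := Module.finBasis k U
  have ha := isComatrix_comatrix (A := A) b
  refine ⟨_, glnHom ha, ?_⟩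
  have hrange : (⊤ : Subalgebra k A) ≤
      ((glnHom ha : GLn (Module.finrank k U) k →ₐc[k] A) :
        GLn (Module.finrank k U) k →ₐ[k] A).range := by
    rw [← hF, Algebra.adjoin_le_iff]
    intro f hf
    have hfU : f ∈ U := hle (Submodule.subset_span hf)
    have h1 := apply_eq_sum_counit_smul_vecCoeff U.subtype hj b ⟨f, hfU⟩
    change f = _ at h1
    rw [h1]
    refine Subalgebra.sum_mem _ (fun i _ => Subalgebra.smul_mem _ ?_ _)
    unfold vecCoeff
    refine Subalgebra.sum_mem _ (fun l _ => Subalgebra.smul_mem _ ?_ _)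
    exact ⟨GLn.X i l, glnHom_X ha i l⟩
  intro x
  obtain ⟨y, hy⟩ := hrange (Algebra.mem_top (x := x))
  exact ⟨y, hy⟩

end GLnEmbed

end Groth.Agent.Lib.Helper25
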