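import Groth.Agent.Lib.Helper25Cosemisimple
import Groth.Prelude.Def_ComodTens

/-!
# Coefficient spaces of tensor products, twists, transports and tensor powers of comodules (helper25)
-/

set_option autoImplicit false
universe u v v' w w'

namespace Groth.Agent.Lib.Helper25

open TensorProduct HopfRep ComodTens

section Basic

variable {k : Type u} [Field k] {A : Type v} [AddCommGroup A] [Module k A] [Coalgebra k A]
variable {V : Type w} [AddCommGroup V] [Module k V] {W : Type w'} [AddCommGroup W] [Module k W]

theorem comod_ext {c d : Comod k A V} (h : c.coact = d.coact) : c = d := by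
  cases c
  cases d
  cases h
  rfl

/-- The coefficient space of a comodule structure given as an explicit term. -/
noncomputable abbrev cs (c : Comod k A V) : Submodule k A :=
  letI := c
  coeffSpace k A V

/-- The coefficient map of a comodule structure given as an explicit term. -/
noncomputable abbrev cm (c : Comod k A V) (l : V →ₗ[k] k) : V →ₗ[k] A :=
  letI := c
  coeffMap (A := A) l

theorem cm_apply (c : Comod k A V) (l : V →ₗ[k] k) (v : V) : cm c l v = lslice l (c.coact v) := rfl

theorem cm_mem_cs (c : Comod k A V) (l : V →ₗ[k] k) (v : V) : cm c l v ∈ cs c :=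
  letI := c
  coeffMap_mem_coeffSpace l v

theorem cs_induction (c : Comod k A V) {motive : A → Prop} {x : A} (hx : x ∈ cs c)
    (mem : ∀ l v, motive (cm c l v)) (zero : motive 0)
    (add : ∀ x y, motive x → motive y → motive (x + y)) : motive x := by
  letI := c
  refine Submodule.iSup_induction _ (motive := motive) hx ?_ zero add
  rintro l _ ⟨v, rfl⟩
  exact mem l v

theorem isComodHom_ofEquiv (e : V ≃ₗ[k] W) (c : Comod k A V) :
    @Hoch.IsComodHom k _ A _ _ _ V _ _ c W _ _ (Comod.ofEquiv e c) (e : V →ₗ[k] W) := by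
  apply LinearMap.ext
  intro v
  exact ofEquiv_coact_apply e c v

theorem cs_ofEquiv (e : V ≃ₗ[k] W) (c : Comod k A V) : cs (Comod.ofEquiv e c) = cs c := by
  letI := c
  letI := Comod.ofEquiv e c
  exact (coeffSpace_eq_of_equiv e (isComodHom_ofEquiv e c)).symm

end Basic

section Bialg

variable {k : Type u} [Field k] {A : Type v} [CommRing A] [Bialgebra k A]
variable {V : Type w} [AddCommGroup V] [Module k V] {W : Type w'} [AddCommGroup W] [Module k W]

theorem lslice_tensor_aux (l : V →ₗ[k] k) (l' : W →ₗ[k] k) (s : V ⊗[k] A) (t : W ⊗[k] A) :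
    lslice ((TensorProduct.lid k k).toLinearMap ∘ₗ TensorProduct.map l l')
      (TensorProduct.map LinearMap.id (LinearMap.mul' k A)
        (AlgebraTensorModule.tensorTensorTensorComm k k k k V A W A (s ⊗ₜ[k] t))) =
      lslice l s * lslice l' t := by
  induction s using TensorProduct.induction_on with
  | zero => simp
  | add x y hx hy => simp only [TensorProduct.add_tmul, map_add, hx, hy, add_mul]
  | tmul v a =>
    induction t using TensorProduct.induction_on with
    | zero => simp
    | add x y hx hy => simp only [TensorProduct.tmul_add, map_add, hx, hy, mul_add]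
    | tmul w b =>
      simp only [AlgebraTensorModule.tensorTensorTensorComm_tmul, TensorProduct.map_tmul,
        LinearMap.id_apply, LinearMap.mul'_apply, lslice_tmul, LinearMap.coe_comp,
        LinearEquiv.coe_coe, Function.comp_apply, TensorProduct.lid_tmul, smul_eq_mul]
      rw [smul_mul_smul_comm]

theorem cm_tensor_tmul (c : Comod k A V) (d : Comod k A W) (l : V →ₗ[k] k) (l' : W →ₗ[k] k)
    (v : V) (w : W) :
    cm (Comod.tensor c d) ((TensorProduct.lid k k).toLinearMap ∘ₗ TensorProduct.map l l')
      (v ⊗ₜ[k] w) = cm c l v * cm d l' w := by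
  rw [cm_apply, tensor_coact_tmul, lslice_tensor_aux]
  rfl

theorem mul_mem_cs_tensor (c : Comod k A V) (d : Comod k A W) {x y : A} (hx : x ∈ cs c)
    (hy : y ∈ cs d) : x * y ∈ cs (Comod.tensor c d) := by
  refine cs_induction c (motive := fun x => x * y ∈ cs (Comod.tensor c d)) hx ?_ ?_ ?_
  · intro l v
    refine cs_induction d (motive := fun y => cm c l v * y ∈ cs (Comod.tensor c d)) hy ?_ ?_ ?_
    · intro l' w
      beta_reduce
      rw [← cm_tensor_tmul]
      exact cm_mem_cs _ _ _
    · beta_reduce
      rw [mul_zero]; exact Submodule.zero_mem _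
    · intro a b ha hb
      beta_reduce at ha hb ⊢
      rw [mul_add]; exact Submodule.add_mem _ ha hb
  · beta_reduce
    rw [zero_mul]; exact Submodule.zero_mem _
  · intro a b ha hb
    beta_reduce at ha hb ⊢
    rw [add_mul]; exact Submodule.add_mem _ ha hb

theorem cm_twist (c : Comod k A V) (g : A) (hg : IsGroupLikeElem k g) (l : V →ₗ[k] k) (v : V) :
    cm (Comod.twist c g hg) l v = cm c l v * g := by
  rw [cm_apply, twist_coact, lslice_lTensor]
  rfl

theorem mul_mem_cs_twist (c : Comod k A V) (g : A) (hg : IsGroupLikeElem k g) {x : A}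
    (hx : x ∈ cs c) : x * g ∈ cs (Comod.twist c g hg) := by
  refine cs_induction c (motive := fun x => x * g ∈ cs (Comod.twist c g hg)) hx ?_ ?_ ?_
  · intro l v
    beta_reduce
    rw [← cm_twist c g hg]
    exact cm_mem_cs _ _ _
  · beta_reduce
    rw [zero_mul]; exact Submodule.zero_mem _
  · intro a b ha hb
    beta_reduce at ha hb ⊢
    rw [add_mul]; exact Submodule.add_mem _ ha hb

theorem cm_comodAlong {B : Type v'} [CommRing B] [Bialgebra k B] (φ : A →ₐc[k] B)
    (c : Comod k A V) (l : V →ₗ[k] k) (v : V) :
    cm (GLin.comodAlong φ c) l v = φ (cm c l v) := by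
  rw [cm_apply, GLin.comodAlong_coact, lslice_map, LinearMap.comp_id]
  rfl

theorem map_mem_cs_comodAlong {B : Type v'} [CommRing B] [Bialgebra k B] (φ : A →ₐc[k] B)
    (c : Comod k A V) {x : A} (hx : x ∈ cs c) : φ x ∈ cs (GLin.comodAlong φ c) := by
  refine cs_induction c (motive := fun x => φ x ∈ cs (GLin.comodAlong φ c)) hx ?_ ?_ ?_
  · intro l v
    beta_reduce
    rw [← cm_comodAlong]
    exact cm_mem_cs _ _ _
  · beta_reduce
    rw [map_zero]; exact Submodule.zero_mem _
  · intro a b ha hb
    beta_reduce at ha hb ⊢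
    rw [map_add]; exact Submodule.add_mem _ ha hb

theorem one_mem_cs_trivial : (1 : A) ∈ cs (Comod.trivial k A k) := by
  have h : cm (Comod.trivial k A k) LinearMap.id (1 : k) = (1 : A) := by
    rw [cm_apply]
    change lslice LinearMap.id ((1 : k) ⊗ₜ[k] (1 : A)) = 1
    rw [lslice_tmul, LinearMap.id_apply, one_smul]
  rw [← h]
  exact cm_mem_cs _ _ _

theorem prod_mem_cs_tpow (c : Comod k A V) (a : ℕ) (x : Fin a → A) (hx : ∀ l, x l ∈ cs c) :
    ∏ l, x l ∈ cs (Comod.tpow c a) := by
  induction a with
  | zero =>
    rw [Fin.prod_univ_zero, tpow_zero, cs_ofEquiv]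
    exact one_mem_cs_trivial
  | succ a ih =>
    rw [Fin.prod_univ_castSucc, tpow_succ, cs_ofEquiv]
    apply mul_mem_cs_tensor
    · exact ih _ (fun l => hx _)
    · rw [cs_ofEquiv]
      exact hx _

end Bialg

section Std

variable (n : ℕ) (k : Type u) [Field k]

theorem X_mem_cs_stdVec (i j : Fin n) : CoordGrp.Mat.X i j ∈ cs (stdVec n k) := by
  have h : cm (stdVec n k) (LinearMap.proj i) (Pi.basisFun k (Fin n) j) = CoordGrp.Mat.X i j := by
    rw [cm_apply, stdVec_coact_basisFun, map_sum]
    simp only [lslice_tmul, LinearMap.proj_apply, Pi.basisFun_apply]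
    rw [Finset.sum_eq_single i]
    · rw [Pi.single_eq_same, one_smul]
    · intro b _ hb
      rw [Pi.single_eq_of_ne' hb, zero_smul]
    · intro hi
      exact absurd (Finset.mem_univ i) hi
  rw [← h]
  exact cm_mem_cs _ _ _

end Std

section PiTwist

variable {k : Type u} [Field k] {A : Type v} [CommRing A] [Bialgebra k A]
variable {ι : Type w'} [Fintype ι] [DecidableEq ι] {X : ι → Type w} [∀ i, AddCommGroup (X i)]
  [∀ i, Module k (X i)]

theorem pi_twist_eq (c : ∀ i, Comod k A (X i)) (g : A) (hg : IsGroupLikeElem k g) :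
    Comod.pi (fun i => Comod.twist (c i) g hg) = Comod.twist (Comod.pi c) g hg := by
  apply comod_ext
  apply LinearMap.ext
  intro f
  rw [pi_coact, twist_coact, pi_coact, map_sum]
  refine Finset.sum_congr rfl (fun i _ => ?_)
  rw [twist_coact, lTensor_rTensor_comm]

end PiTwist

end Groth.Agent.Lib.Helper25
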