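import Groth.Agent.Lib.Helper25GLnRed
import Groth.Agent.Lib.Helper25TensCoeff

/-!
# Weights of the scalar one-parameter subgroup on the coordinate ring of `GL_n` (helper25)
-/

set_option autoImplicit false
universe u v w

namespace Groth.Agent.Lib.Helper25.Schur

open TensorProduct HopfRep CoordGrp LaurentPolynomial Groth.Agent.Lib.Helper25

section Weight

variable (k : Type u) [Field k] (n : ℕ)

local notation "TT" => Groth.Agent.Lib.Helper25.T
local notation "LT" => LaurentPolynomial.T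

/-- The coefficient of `T^h`. -/
noncomputable def coeffT (h : ℤ) : k[T;T⁻¹] →ₗ[k] k :=
  Finsupp.lapply h ∘ₗ (AddMonoidAlgebra.coeffLinearEquiv k).toLinearMap

theorem coeffT_T (h w : ℤ) : coeffT k h (LT w) = if w = h then 1 else 0 := by
  change (LT w : k[T;T⁻¹]).coeff h = _
  exact LaurentPolynomial.T_apply h w

/-- The weight-`h` functional on the coordinate ring of `GL_n` (scalar one-parameter subgroup). -/
noncomputable def wtFun (h : ℤ) : GLn n k →ₗ[k] k :=
  coeffT k h ∘ₗ ((GLn.diag n k (fun _ => 1) : GLn n k →ₐc[k] k[T;T⁻¹]) : GLn n k →ₗ[k] k[T;T⁻¹])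

theorem wtFun_apply (h : ℤ) (z : GLn n k) :
    wtFun k n h z = coeffT k h (GLn.diag n k (fun _ => 1) z) := rfl

theorem T_wtFun_of_homogeneous {V : Type w} [AddCommGroup V] [Module k V]
    [ρ : Comod k (GLn n k) V] (h : ℤ)
    (hh : ∀ v : V, (GLin.comodAlong (GLn.diag n k (fun _ => 1)) ρ).coact v =
      v ⊗ₜ[k] (LT h : k[T;T⁻¹])) (v : V) :
    TT (wtFun k n h) v = v := by
  rw [T_apply]
  have h2 := hh v
  rw [GLin.comodAlong_coact] at h2
  have h1 : slice V (wtFun k n h) (Comod.coact (k := k) (A := GLn n k) v) =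
      slice V (coeffT k h) (TensorProduct.map LinearMap.id
        ((GLn.diag n k (fun _ => 1) : GLn n k →ₐc[k] k[T;T⁻¹]) : GLn n k →ₗ[k] k[T;T⁻¹])
        (Comod.coact (k := k) (A := GLn n k) v)) := by
    rw [slice_map]
    rfl
  rw [h1, h2, slice_tmul, coeffT_T, if_pos rfl, one_smul]

theorem T_wtFun_of_mem_coeffSpace {V : Type w} [AddCommGroup V] [Module k V]
    [ρ : Comod k (GLn n k) V] (h : ℤ)
    (hh : ∀ v : V, (GLin.comodAlong (GLn.diag n k (fun _ => 1)) ρ).coact v =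
      v ⊗ₜ[k] (LT h : k[T;T⁻¹])) (g : GLn n k) (hg : g ∈ coeffSpace k (GLn n k) V) :
    TT (wtFun k n h) g = g := by
  refine Submodule.iSup_induction _ (motive := fun g => TT (wtFun k n h) g = g) hg ?_ ?_ ?_
  · rintro l _ ⟨v, rfl⟩
    rw [T_coeffMap, T_wtFun_of_homogeneous k n h hh]
  · exact map_zero _
  · intro a b ha hb
    rw [map_add, ha, hb]

theorem T_comatrix_regular {A : Type v} [AddCommGroup A] [Module k A] [Coalgebra k A]
    {ι : Type*} [Fintype ι] [DecidableEq ι] (y : Matrix ι ι A) (hy : IsComatrix (k := k) y)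
    (φ : A →ₗ[k] k) (L J : ι) : TT φ (y L J) = ∑ M, φ (y M J) • y L M := by
  rw [T_apply]
  change slice A φ (CoalgebraStruct.comul (R := k) (y L J)) = _
  rw [hy.comul, map_sum]
  simp only [slice_tmul]

theorem scal_yMat (c d : ℕ) (M J : Fin d → Fin n) :
    GLn.diag n k (fun _ => 1) (yMat (Mat.toGLn n k) ((GLn.Dinv : GLn n k) ^ c) d M J) =
      if M = J then LT ((d : ℤ) - (n : ℤ) * (c : ℤ)) else 0 := by
  rw [yMat, tpowMat_apply, map_mul, map_pow, map_prod, GLn.diag_Dinv]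
  have hx : ∀ l, GLn.diag n k (fun _ => 1) (xMat (Mat.toGLn n k) (M l) (J l)) =
      if M l = J l then LT 1 else 0 := by
    intro l
    rw [xMat, Mat.toGLn_X, GLn.diag_X]
  simp only [hx]
  rw [Finset.prod_ite_zero]
  split_ifs with h1 h2 h2
  · rw [Finset.prod_const, LaurentPolynomial.T_pow, LaurentPolynomial.T_pow, ← LaurentPolynomial.T_add]
    congr 1
    simp
    ring
  · exfalso
    apply h2
    funext l
    exact h1 l (Finset.mem_univ l)
  · exfalso
    apply h1
    intro l _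
    rw [h2]
  · rw [mul_zero]

theorem T_wtFun_yMat (h : ℤ) (c d : ℕ) (L J : Fin d → Fin n) :
    TT (wtFun k n h) (yMat (Mat.toGLn n k) ((GLn.Dinv : GLn n k) ^ c) d L J) =
      if (d : ℤ) - (n : ℤ) * (c : ℤ) = h then yMat (Mat.toGLn n k) ((GLn.Dinv : GLn n k) ^ c) d L J
      else 0 := by
  rw [T_comatrix_regular k _ (isComatrix_yMat (Mat.toGLn n k)
    (IsGroupLikeElem.pow ⟨GLn.counit_Dinv, GLn.comul_Dinv⟩) d)]
  have hφ : ∀ M, wtFun k n h (yMat (Mat.toGLn n k) ((GLn.Dinv : GLn n k) ^ c) d M J) =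
      if M = J then (if (d : ℤ) - (n : ℤ) * (c : ℤ) = h then 1 else 0) else 0 := by
    intro M
    rw [wtFun_apply, scal_yMat]
    by_cases h1 : M = J
    · rw [if_pos h1, if_pos h1, coeffT_T]
    · rw [if_neg h1, if_neg h1, map_zero]
  simp only [hφ]
  rw [Finset.sum_eq_single J]
  · rw [if_pos rfl]
    split_ifs
    · rw [one_smul]
    · rw [zero_smul]
  · intro M _ hM
    rw [if_neg hM, zero_smul]
  · intro hJ
    exact absurd (Finset.mem_univ J) hJ

/-- The span of the entries of weight `h` with fixed power `c` of the inverse determinant. -/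
noncomputable def wSpan (h : ℤ) (c : ℕ) : Submodule k (GLn n k) :=
  Submodule.span k {y | ∃ (d : ℕ) (L J : Fin d → Fin n), (d : ℤ) - (n : ℤ) * (c : ℤ) = h ∧
    y = yMat (Mat.toGLn n k) ((GLn.Dinv : GLn n k) ^ c) d L J}

theorem T_wtFun_mem (h : ℤ) (z : GLn n k) : TT (wtFun k n h) z ∈ ⨆ c, wSpan k n h c := by
  have hz : z ∈ ySpan k n := by
    rw [ySpan_eq_top]
    trivial
  induction hz using Submodule.span_induction with
  | mem z hz =>
    obtain ⟨⟨c, d⟩, L, J, rfl⟩ := hz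
    rw [T_wtFun_yMat]
    split_ifs with hw
    · exact Submodule.mem_iSup_of_mem c (Submodule.subset_span ⟨d, L, J, hw, rfl⟩)
    · exact Submodule.zero_mem _
  | zero => rw [map_zero]; exact Submodule.zero_mem _
  | add a b _ _ ha hb => rw [map_add]; exact Submodule.add_mem _ ha hb
  | smul t a _ ha => rw [map_smul]; exact Submodule.smul_mem _ _ ha

theorem yMat_succ_eq (c d : ℕ) (L J : Fin d → Fin n) :
    yMat (Mat.toGLn n k) ((GLn.Dinv : GLn n k) ^ c) d L J =
      ∑ σ : Equiv.Perm (Fin n), Equiv.Perm.sign σ •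
        yMat (Mat.toGLn n k) ((GLn.Dinv : GLn n k) ^ (c + 1)) (d + n)
          (Fin.append L (fun i => σ i)) (Fin.append J id) := by
  have hterm : ∀ σ : Equiv.Perm (Fin n),
      yMat (Mat.toGLn n k) ((GLn.Dinv : GLn n k) ^ (c + 1)) (d + n)
        (Fin.append L (fun i => σ i)) (Fin.append J id) =
      (GLn.Dinv ^ (c + 1) * ∏ l, xMat (Mat.toGLn n k) (L l) (J l)) * ∏ i, GLn.X (σ i) i := by
    intro σ
    rw [yMat, tpowMat_apply, Fin.prod_univ_add]
    simp only [Fin.append_left, Fin.append_right, id]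
    rw [mul_assoc]
    congr 2
    refine Finset.prod_congr rfl (fun i _ => ?_)
    exact Mat.toGLn_X _ _
  simp only [hterm]
  rw [yMat, tpowMat_apply]
  have hdet : (GLn.det : GLn n k) =
      ∑ σ : Equiv.Perm (Fin n), ((Equiv.Perm.sign σ : ℤ) : GLn n k) * ∏ i, GLn.X (σ i) i := by
    rw [GLn.det_eq, Matrix.det_apply]
    refine Finset.sum_congr rfl (fun σ _ => ?_)
    rw [Units.smul_def, zsmul_eq_mul]
    rfl
  have hsum : ∀ σ : Equiv.Perm (Fin n), Equiv.Perm.sign σ •
      ((GLn.Dinv ^ (c + 1) * ∏ l, xMat (Mat.toGLn n k) (L l) (J l)) * ∏ i, GLn.X (σ i) i) =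
      (GLn.Dinv ^ (c + 1) * ∏ l, xMat (Mat.toGLn n k) (L l) (J l)) *
        (((Equiv.Perm.sign σ : ℤ) : GLn n k) * ∏ i, GLn.X (σ i) i) := by
    intro σ
    rw [Units.smul_def, zsmul_eq_mul]
    ring
  simp only [hsum]
  rw [← Finset.mul_sum, ← hdet, pow_succ]
  linear_combination (-(GLn.Dinv ^ c * ∏ l, xMat (Mat.toGLn n k) (L l) (J l))) *
    (GLn.Dinv_mul_det (n := n) (k := k))

theorem wSpan_le_succ (h : ℤ) (c : ℕ) : wSpan k n h c ≤ wSpan k n h (c + 1) := by
  apply Submodule.span_le.mpr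
  rintro _ ⟨d, L, J, hw, rfl⟩
  rw [yMat_succ_eq]
  apply Submodule.sum_mem
  intro σ _
  have hmem : yMat (Mat.toGLn n k) ((GLn.Dinv : GLn n k) ^ (c + 1)) (d + n)
      (Fin.append L fun i => σ i) (Fin.append J id) ∈ wSpan k n h (c + 1) :=
    Submodule.subset_span ⟨d + n, _, _, by push_cast; linarith, rfl⟩
  rcases Int.units_eq_one_or (Equiv.Perm.sign σ) with hs | hs
  · rw [hs, one_smul]
    exact hmem
  · rw [hs, Units.neg_smul, one_smul]
    exact Submodule.neg_mem _ hmem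

theorem wSpan_mono (h : ℤ) : Monotone (wSpan k n h) :=
  monotone_nat_of_le_succ (wSpan_le_succ k n h)

theorem exists_le_wSpan (hn : 0 < n) (h : ℤ) (S : Submodule k (GLn n k)) (hS : S.FG)
    (hle : S ≤ ⨆ c, wSpan k n h c) :
    ∃ c : ℕ, 0 < c ∧ 0 ≤ h + (n : ℤ) * (c : ℤ) ∧ S ≤ wSpan k n h c := by
  have hcomp := (Submodule.fg_iff_compact S).mp hS
  rw [CompleteLattice.isCompactElement_iff_le_of_directed_sSup_le] at hcomp
  obtain ⟨_, ⟨c₀, rfl⟩, hc₀⟩ := hcomp (Set.range (wSpan k n h)) (Set.range_nonempty _)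
    (directedOn_range.mpr (wSpan_mono k n h).directed_le) (by rwa [sSup_range])
  refine ⟨c₀ + 1 + h.natAbs, by omega, ?_, hc₀.trans (wSpan_mono k n h (by omega))⟩
  have h1 : (1 : ℤ) ≤ n := by exact_mod_cast hn
  have h2 : -(h.natAbs : ℤ) ≤ h := by
    rw [Int.natCast_natAbs]
    exact neg_abs_le h
  have h3 : (0 : ℤ) ≤ (h.natAbs : ℤ) := Int.natCast_nonneg _
  have h4 : (0 : ℤ) ≤ (c₀ : ℤ) := Int.natCast_nonneg _
  have h5 : (h.natAbs : ℤ) ≤ (n : ℤ) * (h.natAbs : ℤ) := by nlinarith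
  have h6 : (0 : ℤ) ≤ (n : ℤ) * ((c₀ : ℤ) + 1) := by nlinarith
  rw [Nat.cast_add, Nat.cast_add, Nat.cast_one]
  linarith

/-- Entries of weight `h`: for a suitable power of the inverse determinant, the generators all have
the same tensor degree. -/
theorem wSpan_eq (h : ℤ) (c a : ℕ) (ha : (a : ℤ) = h + (n : ℤ) * (c : ℤ)) :
    wSpan k n h c = Submodule.span k (Set.range fun p : (Fin a → Fin n) × (Fin a → Fin n) =>
      yMat (Mat.toGLn n k) ((GLn.Dinv : GLn n k) ^ c) a p.1 p.2) := by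
  apply le_antisymm
  · apply Submodule.span_le.mpr
    rintro _ ⟨d, L, J, hw, rfl⟩
    have hda : d = a := by
      have : (d : ℤ) = a := by rw [ha]; linarith
      exact_mod_cast this
    subst hda
    exact Submodule.subset_span ⟨(L, J), rfl⟩
  · apply Submodule.span_le.mpr
    rintro _ ⟨⟨L, J⟩, rfl⟩
    exact Submodule.subset_span ⟨a, L, J, by rw [ha]; ring, rfl⟩

end Weight

end Groth.Agent.Lib.Helper25.Schur
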