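import Groth.Statements.S6094

/-!
# `G`-module structures for an affine group `G = Spec A` and `A`-comodules (helper25)

* `ptOf`, `algOf`: points `Spec B ⟶ Spec A` over `Spec R` and algebra maps `A → B`
  (`Spec.mapMulEquiv`), with `ptMap_comp_ptOf`, `algOf_one`, `algOf_mul`, `algOf_ptMap_comp`.
* `actB δ f`: the `B`-linear endomorphism of `B ⊗ E` defined by a coaction `δ` and `f : A → B`;
  `actB_mul`, `actB_one`, `Wmap_actB`; `toGMod`.
* `delta m`: the coaction of a `G`-module structure (the universal point); `rho_one_tmul`,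
  `delta_coassoc`, `delta_counit`.
* `exists_unique_gmod`, `exists_unique_delta`.
-/

set_option autoImplicit false
universe u
open CategoryTheory MonObj GrpObj AlgebraicGeometry
open scoped TensorProduct

namespace Groth.Agent.Lib.Helper25.GModComod

variable {R : Type u} [CommRing R] {A : Type u} [CommRing A] [HopfAlgebra R A]

/-- The affine group scheme `Spec A` over `Spec R`. -/
noncomputable abbrev GS (R : Type u) [CommRing R] (A : Type u) [CommRing A] [HopfAlgebra R A] :
    Over (Spec (CommRingCat.of R)) :=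
  (Spec (CommRingCat.of A)).asOver (Spec (CommRingCat.of R))

/-- The point of `Spec A` given by an algebra map. -/
noncomputable def ptOf {B : Type u} [CommRing B] [Algebra R B] (f : A →ₐ[R] B) :
    VecGrp.pt R B ⟶ GS R A :=
  Spec.mapMulEquiv (WithConv.toConv f)

/-- The algebra map of a point. -/
noncomputable def algOf {B : Type u} [CommRing B] [Algebra R B] (g : VecGrp.pt R B ⟶ GS R A) :
    A →ₐ[R] B :=
  (Spec.mapMulEquiv.symm g).ofConv

theorem algOf_ptOf {B : Type u} [CommRing B] [Algebra R B] (f : A →ₐ[R] B) :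
    algOf (ptOf f) = f := by
  simp [algOf, ptOf]

theorem ptOf_algOf {B : Type u} [CommRing B] [Algebra R B] (g : VecGrp.pt R B ⟶ GS R A) :
    ptOf (algOf g) = g := by
  simp [algOf, ptOf]

theorem ptMap_comp_ptOf {B B' : Type u} [CommRing B] [Algebra R B] [CommRing B'] [Algebra R B']
    (φ : B →ₐ[R] B') (f : A →ₐ[R] B) :
    VecGrp.ptMap φ ≫ ptOf f = ptOf (φ.comp f) := by
  apply Over.OverMorphism.ext
  simp only [ptOf, Over.comp_left, VecGrp.ptMap_left]
  change Spec.map _ ≫ Spec.map _ = Spec.map _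
  rw [LieS.specMap_comp]
  rfl

variable {R : Type u} [CommRing R] {A : Type u} [CommRing A] [HopfAlgebra R A]
  {E : Type u} [AddCommGroup E] [Module R E]

section Lin

variable {B : Type u} [CommRing B] [Algebra R B]

/-- `x ↦ comm ((id ⊗ f) (δ x)) : E → B ⊗ E`. -/
noncomputable def actLin (δ : E →ₗ[R] E ⊗[R] A) (f : A →ₐ[R] B) : E →ₗ[R] B ⊗[R] E :=
  (TensorProduct.comm R E B).toLinearMap ∘ₗ f.toLinearMap.lTensor E ∘ₗ δ

theorem actLin_apply (δ : E →ₗ[R] E ⊗[R] A) (f : A →ₐ[R] B) (x : E) :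
    actLin δ f x = (TensorProduct.comm R E B) (f.toLinearMap.lTensor E (δ x)) := rfl

/-- The `B`-linear extension of `actLin`. -/
noncomputable def actB (δ : E →ₗ[R] E ⊗[R] A) (f : A →ₐ[R] B) : B ⊗[R] E →ₗ[B] B ⊗[R] E :=
  LinearMap.liftBaseChange B (actLin δ f)

theorem actB_tmul (δ : E →ₗ[R] E ⊗[R] A) (f : A →ₐ[R] B) (b : B) (x : E) :
    actB δ f (b ⊗ₜ[R] x) = b • (TensorProduct.comm R E B) (f.toLinearMap.lTensor E (δ x)) := by
  rw [actB, LinearMap.liftBaseChange_tmul, actLin_apply]

theorem actB_one_tmul (δ : E →ₗ[R] E ⊗[R] A) (f : A →ₐ[R] B) (x : E) :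
    actB δ f ((1 : B) ⊗ₜ[R] x) = (TensorProduct.comm R E B) (f.toLinearMap.lTensor E (δ x)) := by
  rw [actB_tmul, one_smul]

/-- The product of two algebra maps, as an algebra map from `A ⊗ A`. -/
noncomputable def pm (f f' : A →ₐ[R] B) : A ⊗[R] A →ₐ[R] B :=
  (Algebra.TensorProduct.lmul' R).comp (Algebra.TensorProduct.map f f')

@[simp] theorem pm_tmul (f f' : A →ₐ[R] B) (a a' : A) : pm f f' (a ⊗ₜ[R] a') = f a * f' a' := by
  simp [pm]

theorem star (f f' : A →ₐ[R] B) (w : E ⊗[R] A) (a : A) :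
    f' a • (TensorProduct.comm R E B) (f.toLinearMap.lTensor E w) =
      (TensorProduct.comm R E B) ((pm f f').toLinearMap.lTensor E
        (TensorProduct.assoc R E A A (w ⊗ₜ[R] a))) := by
  induction w using TensorProduct.induction_on with
  | zero => simp
  | add x y hx hy =>
    rw [map_add, map_add, smul_add, hx, hy, TensorProduct.add_tmul, map_add, map_add, map_add]
  | tmul e a' =>
    simp only [LinearMap.lTensor_tmul, AlgHom.toLinearMap_apply, TensorProduct.comm_tmul,
      TensorProduct.assoc_tmul, pm_tmul, TensorProduct.smul_tmul', smul_eq_mul]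
    rw [mul_comm]

/-- If a `B`-linear `T` is given on `1 ⊗ e` by the coaction `δ` and `f`, then on the image of
the coaction with `f'` it is given by the iterated coaction and the product of `f` and `f'`. -/
theorem key (T : B ⊗[R] E →ₗ[B] B ⊗[R] E) (δ : E →ₗ[R] E ⊗[R] A) (f f' : A →ₐ[R] B)
    (hT : ∀ e : E, T ((1 : B) ⊗ₜ[R] e) =
      (TensorProduct.comm R E B) (f.toLinearMap.lTensor E (δ e))) (z : E ⊗[R] A) :
    T ((TensorProduct.comm R E B) (f'.toLinearMap.lTensor E z)) =
      (TensorProduct.comm R E B) ((pm f f').toLinearMap.lTensor E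
        (TensorProduct.assoc R E A A (δ.rTensor A z))) := by
  induction z using TensorProduct.induction_on with
  | zero => simp
  | add x y hx hy => simp only [map_add, hx, hy]
  | tmul e a =>
    rw [LinearMap.lTensor_tmul, TensorProduct.comm_tmul, LinearMap.rTensor_tmul,
      AlgHom.toLinearMap_apply, ← star]
    have h1 : f' a ⊗ₜ[R] e = f' a • ((1 : B) ⊗ₜ[R] e) := by
      rw [TensorProduct.smul_tmul', smul_eq_mul, _root_.mul_one]
    rw [h1, map_smul, hT]

end Lin

variable {R : Type u} [CommRing R] {A : Type u} [CommRing A] [HopfAlgebra R A]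
  {E : Type u} [AddCommGroup E] [Module R E]

section Ext

variable {B : Type u} [CommRing B] [Algebra R B] {N : Type*} [AddCommGroup N] [Module B N]
  [Module R N] [IsScalarTower R B N]

theorem ext_one_tmul {T T' : B ⊗[R] E →ₗ[B] N}
    (h : ∀ e : E, T ((1 : B) ⊗ₜ[R] e) = T' ((1 : B) ⊗ₜ[R] e)) : T = T' := by
  apply TensorProduct.AlgebraTensorModule.ext
  intro b e
  have h1 : b ⊗ₜ[R] e = b • ((1 : B) ⊗ₜ[R] e) := by
    rw [TensorProduct.smul_tmul', smul_eq_mul, _root_.mul_one]
  rw [h1, map_smul, map_smul, h]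

end Ext

section ComodToGMod

variable {B : Type u} [CommRing B] [Algebra R B] (δ : E →ₗ[R] E ⊗[R] A)

theorem actB_mul
    (hco : (TensorProduct.assoc R E A A).toLinearMap ∘ₗ δ.rTensor A ∘ₗ δ =
      (CoalgebraStruct.comul (R := R) (A := A)).lTensor E ∘ₗ δ)
    (f f' : A →ₐ[R] B) :
    actB δ ((WithConv.toConv f * WithConv.toConv f').ofConv) = actB δ f ∘ₗ actB δ f' := by
  apply ext_one_tmul
  intro x
  rw [LinearMap.comp_apply, actB_one_tmul, actB_one_tmul,
    key (actB δ f) δ f f' (actB_one_tmul δ f)]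
  have h1 := LinearMap.congr_fun hco x
  simp only [LinearMap.comp_apply, LinearEquiv.coe_coe] at h1
  rw [h1]
  have h2 : ((WithConv.toConv f * WithConv.toConv f').ofConv).toLinearMap =
      (pm f f').toLinearMap ∘ₗ (CoalgebraStruct.comul (R := R) (A := A)) := by
    ext a
    rfl
  rw [h2, LinearMap.lTensor_comp, LinearMap.comp_apply]

theorem actB_one
    (hcu : (CoalgebraStruct.counit (R := R) (A := A)).lTensor E ∘ₗ δ =
      (TensorProduct.mk R E R).flip 1) :
    actB δ ((1 : WithConv (A →ₐ[R] B)).ofConv) = LinearMap.id := by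
  apply ext_one_tmul
  intro x
  rw [actB_one_tmul, LinearMap.id_apply]
  have h1 := LinearMap.congr_fun hcu x
  simp only [LinearMap.comp_apply, LinearMap.flip_apply, TensorProduct.mk_apply] at h1
  have h2 : ((1 : WithConv (A →ₐ[R] B)).ofConv).toLinearMap =
      (Algebra.linearMap R B) ∘ₗ (CoalgebraStruct.counit (R := R) (A := A)) := by
    ext a
    rfl
  rw [h2, LinearMap.lTensor_comp, LinearMap.comp_apply, h1]
  simp

theorem comm_lTensor_comp {B' : Type u} [CommRing B'] [Algebra R B'] (φ : B →ₐ[R] B')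
    (f : A →ₐ[R] B) (w : E ⊗[R] A) :
    VecGrp.Wmap φ ((TensorProduct.comm R E B) (f.toLinearMap.lTensor E w)) =
      (TensorProduct.comm R E B') ((φ.comp f).toLinearMap.lTensor E w) := by
  induction w using TensorProduct.induction_on with
  | zero => simp
  | add x y hx hy => simp only [map_add, hx, hy]
  | tmul e a => simp

theorem Wmap_actB {B' : Type u} [CommRing B'] [Algebra R B'] (φ : B →ₐ[R] B')
    (f : A →ₐ[R] B) (x : B ⊗[R] E) :
    VecGrp.Wmap φ (actB δ f x) = actB δ (φ.comp f) (VecGrp.Wmap φ x) := by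
  induction x using TensorProduct.induction_on with
  | zero => simp
  | add x y hx hy => simp only [map_add, hx, hy]
  | tmul b e =>
    rw [actB_tmul, VecGrp.Wmap_smul, comm_lTensor_comp, VecGrp.Wmap_tmul, actB_tmul]

end ComodToGMod

variable {R : Type u} [CommRing R] {A : Type u} [CommRing A] [HopfAlgebra R A]
  {E : Type u} [AddCommGroup E] [Module R E]

section Points

variable {B : Type u} [CommRing B] [Algebra R B]

theorem algOf_one : algOf (1 : VecGrp.pt R B ⟶ GS R A) = (1 : WithConv (A →ₐ[R] B)).ofConv := by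
  have h : (Spec.mapMulEquiv (R := R) (S := A) (T := B)).symm 1 = 1 := map_one _
  exact congrArg WithConv.ofConv h

theorem algOf_mul (g g' : VecGrp.pt R B ⟶ GS R A) :
    algOf (g * g') = (WithConv.toConv (algOf g) * WithConv.toConv (algOf g')).ofConv := by
  have h : (Spec.mapMulEquiv (R := R) (S := A) (T := B)).symm (g * g') =
      (Spec.mapMulEquiv (R := R) (S := A) (T := B)).symm g *
        (Spec.mapMulEquiv (R := R) (S := A) (T := B)).symm g' := map_mul _ _ _
  exact congrArg WithConv.ofConv h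

theorem algOf_ptMap_comp {B' : Type u} [CommRing B'] [Algebra R B'] (φ : B →ₐ[R] B')
    (g : VecGrp.pt R B ⟶ GS R A) : algOf (VecGrp.ptMap φ ≫ g) = φ.comp (algOf g) := by
  conv_lhs => rw [← ptOf_algOf g, ptMap_comp_ptOf, algOf_ptOf]

end Points

section Build

variable (δ : E →ₗ[R] E ⊗[R] A)
  (hco : (TensorProduct.assoc R E A A).toLinearMap ∘ₗ δ.rTensor A ∘ₗ δ =
      (CoalgebraStruct.comul (R := R) (A := A)).lTensor E ∘ₗ δ)
  (hcu : (CoalgebraStruct.counit (R := R) (A := A)).lTensor E ∘ₗ δ =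
      (TensorProduct.mk R E R).flip 1)

/-- The action of points as a monoid homomorphism to endomorphisms. -/
noncomputable def toEnd (B : Type u) [CommRing B] [Algebra R B] :
    (VecGrp.pt R B ⟶ GS R A) →* Module.End B (B ⊗[R] E) where
  toFun g := actB δ (algOf g)
  map_one' := by
    rw [algOf_one]
    exact actB_one δ hcu
  map_mul' g g' := by
    rw [algOf_mul]
    exact actB_mul δ hco _ _

/-- The `G`-module structure of a comodule. -/
noncomputable def toGMod : VecGrp.GMod (GS R A) E where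
  ρ B _ _ := (LinearMap.GeneralLinearGroup.generalLinearEquiv B (B ⊗[R] E)).toMonoidHom.comp
    (toEnd δ hco hcu B).toHomUnits
  naturality φ g x := by
    change VecGrp.Wmap φ (actB δ (algOf g) x) = actB δ (algOf (VecGrp.ptMap φ ≫ g)) (VecGrp.Wmap φ x)
    rw [algOf_ptMap_comp]
    exact Wmap_actB δ φ _ x

theorem toGMod_ρ_apply (B : Type u) [CommRing B] [Algebra R B] (g : VecGrp.pt R B ⟶ GS R A)
    (x : B ⊗[R] E) : (toGMod δ hco hcu).ρ B g x = actB δ (algOf g) x := rfl

end Build

variable {R : Type u} [CommRing R] {A : Type u} [CommRing A] [HopfAlgebra R A]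
  {E : Type u} [AddCommGroup E] [Module R E]

section GModToComod

variable (m : VecGrp.GMod (GS R A) E)

/-- `x ↦ g • (1 ⊗ x)`. -/
noncomputable def phi {B : Type u} [CommRing B] [Algebra R B] (g : VecGrp.pt R B ⟶ GS R A) :
    E →ₗ[R] B ⊗[R] E :=
  ((m.ρ B g : B ⊗[R] E →ₗ[B] B ⊗[R] E).restrictScalars R) ∘ₗ (TensorProduct.mk R B E 1)

theorem phi_apply {B : Type u} [CommRing B] [Algebra R B] (g : VecGrp.pt R B ⟶ GS R A) (x : E) :
    phi m g x = m.ρ B g ((1 : B) ⊗ₜ[R] x) := rfl

/-- The coaction of a `G`-module structure: the action of the universal point. -/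
noncomputable def delta : E →ₗ[R] E ⊗[R] A :=
  (TensorProduct.comm R E A).symm.toLinearMap ∘ₗ phi m (ptOf (AlgHom.id R A))

theorem comm_delta (x : E) :
    (TensorProduct.comm R E A) (delta m x) = m.ρ A (ptOf (AlgHom.id R A)) ((1 : A) ⊗ₜ[R] x) := by
  simp [delta, phi_apply]

theorem Wmap_comm {B B' : Type u} [CommRing B] [Algebra R B] [CommRing B'] [Algebra R B']
    (φ : B →ₐ[R] B') (w : E ⊗[R] B) :
    VecGrp.Wmap φ ((TensorProduct.comm R E B) w) =
      (TensorProduct.comm R E B') (φ.toLinearMap.lTensor E w) := by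
  induction w using TensorProduct.induction_on with
  | zero => simp
  | add x y hx hy => simp only [map_add, hx, hy]
  | tmul e a => simp

/-- The action of any point is given by the coaction. -/
theorem rho_one_tmul {B : Type u} [CommRing B] [Algebra R B] (g : VecGrp.pt R B ⟶ GS R A)
    (x : E) :
    m.ρ B g ((1 : B) ⊗ₜ[R] x) =
      (TensorProduct.comm R E B) ((algOf g).toLinearMap.lTensor E (delta m x)) := by
  have h1 := m.naturality (algOf g) (ptOf (AlgHom.id R A)) ((1 : A) ⊗ₜ[R] x)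
  rw [ptMap_comp_ptOf, AlgHom.comp_id, ptOf_algOf, VecGrp.Wmap_tmul, map_one, ← comm_delta,
    Wmap_comm] at h1
  exact h1.symm

theorem rho_eq_actB {B : Type u} [CommRing B] [Algebra R B] (g : VecGrp.pt R B ⟶ GS R A) :
    (m.ρ B g : B ⊗[R] E →ₗ[B] B ⊗[R] E) = actB (delta m) (algOf g) := by
  apply ext_one_tmul
  intro e
  rw [actB_one_tmul]
  exact rho_one_tmul m g e

end GModToComod

variable {R : Type u} [CommRing R] {A : Type u} [CommRing A] [HopfAlgebra R A]
  {E : Type u} [AddCommGroup E] [Module R E]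

section Axioms

variable (m : VecGrp.GMod (GS R A) E)

theorem pm_include :
    pm (Algebra.TensorProduct.includeLeft : A →ₐ[R] A ⊗[R] A)
      (Algebra.TensorProduct.includeRight : A →ₐ[R] A ⊗[R] A) = AlgHom.id R (A ⊗[R] A) := by
  apply Algebra.TensorProduct.ext'
  intro a b
  simp

theorem delta_coassoc :
    (TensorProduct.assoc R E A A).toLinearMap ∘ₗ (delta m).rTensor A ∘ₗ delta m =
      (CoalgebraStruct.comul (R := R) (A := A)).lTensor E ∘ₗ delta m := by
  apply LinearMap.ext
  intro x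
  simp only [LinearMap.comp_apply, LinearEquiv.coe_coe]
  set i₁ : A →ₐ[R] A ⊗[R] A := Algebra.TensorProduct.includeLeft with hi₁
  set i₂ : A →ₐ[R] A ⊗[R] A := Algebra.TensorProduct.includeRight with hi₂
  have hmul : m.ρ (A ⊗[R] A) (ptOf i₁ * ptOf i₂) ((1 : A ⊗[R] A) ⊗ₜ[R] x) =
      m.ρ (A ⊗[R] A) (ptOf i₁) (m.ρ (A ⊗[R] A) (ptOf i₂) ((1 : A ⊗[R] A) ⊗ₜ[R] x)) := by
    rw [map_mul]
    rfl
  have hk := key (m.ρ (A ⊗[R] A) (ptOf i₁) : (A ⊗[R] A) ⊗[R] E →ₗ[A ⊗[R] A] (A ⊗[R] A) ⊗[R] E)
    (delta m) i₁ i₂ (fun e => by rw [LinearEquiv.coe_coe, rho_one_tmul, algOf_ptOf]) (delta m x)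
  rw [LinearEquiv.coe_coe] at hk
  rw [rho_one_tmul, rho_one_tmul m (ptOf i₂), algOf_ptOf, algOf_mul, algOf_ptOf, algOf_ptOf,
    hk] at hmul
  have h2 : ((WithConv.toConv i₁ * WithConv.toConv i₂).ofConv).toLinearMap =
      (pm i₁ i₂).toLinearMap ∘ₗ (CoalgebraStruct.comul (R := R) (A := A)) := by
    ext a
    rfl
  rw [h2, pm_include] at hmul
  have h3 := (TensorProduct.comm R E (A ⊗[R] A)).injective hmul
  simpa using h3.symm

theorem delta_counit :
    (CoalgebraStruct.counit (R := R) (A := A)).lTensor E ∘ₗ delta m =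
      (TensorProduct.mk R E R).flip 1 := by
  apply LinearMap.ext
  intro x
  simp only [LinearMap.comp_apply, LinearMap.flip_apply, TensorProduct.mk_apply]
  have h1 : m.ρ R (1 : VecGrp.pt R R ⟶ GS R A) ((1 : R) ⊗ₜ[R] x) = (1 : R) ⊗ₜ[R] x := by
    rw [map_one]
    rfl
  rw [rho_one_tmul, algOf_one] at h1
  have h2 : ((1 : WithConv (A →ₐ[R] R)).ofConv).toLinearMap =
      (CoalgebraStruct.counit (R := R) (A := A)) := by
    ext a
    rfl
  rw [h2] at h1
  have h3 : (1 : R) ⊗ₜ[R] x = (TensorProduct.comm R E R) (x ⊗ₜ[R] (1 : R)) := by simp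
  rw [h3] at h1
  exact (TensorProduct.comm R E R).injective h1

end Axioms

variable {R : Type u} [CommRing R] {A : Type u} [CommRing A] [HopfAlgebra R A]
  {E : Type u} [AddCommGroup E] [Module R E]

section Final

theorem gmod_ext {m m' : VecGrp.GMod (GS R A) E}
    (h : ∀ (B : Type u) [CommRing B] [Algebra R B] (g : VecGrp.pt R B ⟶ GS R A) (x : E),
      m.ρ B g ((1 : B) ⊗ₜ[R] x) = m'.ρ B g ((1 : B) ⊗ₜ[R] x)) : m = m' := by
  cases m with
  | mk ρ nat =>
    cases m' with
    | mk ρ' nat' =>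
      have : ρ = ρ' := by
        funext B _ _
        apply MonoidHom.ext
        intro g
        apply LinearEquiv.toLinearMap_injective
        apply ext_one_tmul
        intro e
        exact h B g e
      subst this
      rfl

theorem exists_unique_gmod (δ : E →ₗ[R] E ⊗[R] A)
    (hco : (TensorProduct.assoc R E A A).toLinearMap ∘ₗ δ.rTensor A ∘ₗ δ =
      (CoalgebraStruct.comul (R := R) (A := A)).lTensor E ∘ₗ δ)
    (hcu : (CoalgebraStruct.counit (R := R) (A := A)).lTensor E ∘ₗ δ =
      (TensorProduct.mk R E R).flip 1) :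
    ∃! m : VecGrp.GMod (GS R A) E,
      ∀ (B : Type u) [CommRing B] [Algebra R B] (g : VecGrp.pt R B ⟶ GS R A) (x : E),
        m.ρ B g ((1 : B) ⊗ₜ[R] x) =
          (TensorProduct.comm R E B) (LinearMap.lTensor E
            (Spec.mapMulEquiv.symm g).ofConv.toLinearMap (δ x)) := by
  refine ⟨toGMod δ hco hcu, ?_, ?_⟩
  · intro B _ _ g x
    rw [toGMod_ρ_apply, actB_one_tmul]
    rfl
  · intro m' hm'
    apply gmod_ext
    intro B _ _ g x
    rw [hm' B g x, toGMod_ρ_apply, actB_one_tmul]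
    rfl

theorem exists_unique_delta (m : VecGrp.GMod (GS R A) E) :
    ∃! δ : E →ₗ[R] E ⊗[R] A,
      ((TensorProduct.assoc R E A A).toLinearMap ∘ₗ δ.rTensor A ∘ₗ δ =
          (CoalgebraStruct.comul (R := R) (A := A)).lTensor E ∘ₗ δ ∧
        (CoalgebraStruct.counit (R := R) (A := A)).lTensor E ∘ₗ δ =
          (TensorProduct.mk R E R).flip 1) ∧
      ∀ (B : Type u) [CommRing B] [Algebra R B] (g : VecGrp.pt R B ⟶ GS R A) (x : E),
        m.ρ B g ((1 : B) ⊗ₜ[R] x) =
          (TensorProduct.comm R E B) (LinearMap.lTensor E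
            (Spec.mapMulEquiv.symm g).ofConv.toLinearMap (δ x)) := by
  refine ⟨delta m, ⟨⟨delta_coassoc m, delta_counit m⟩, ?_⟩, ?_⟩
  · intro B _ _ g x
    exact rho_one_tmul m g x
  · rintro δ' ⟨-, hδ'⟩
    apply LinearMap.ext
    intro x
    have h1 := hδ' A (ptOf (AlgHom.id R A)) x
    have h2 := rho_one_tmul m (ptOf (AlgHom.id R A)) x
    rw [h2] at h1
    have h3 := (TensorProduct.comm R E A).injective h1
    have h4 : (Spec.mapMulEquiv.symm (ptOf (AlgHom.id R A) : VecGrp.pt R A ⟶ GS R A)).ofConv =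
        AlgHom.id R A := algOf_ptOf _
    rw [h4, algOf_ptOf] at h3
    simpa using h3.symm

end Final

end Groth.Agent.Lib.Helper25.GModComod
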