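import Mathlib
import Groth.Agent.Lib.Helper25GrHsop

/-!
# A homogeneous system of parameters of equal degrees is algebraically independent (helper25)
-/

noncomputable section

namespace Groth.Agent.Lib.Helper25.GrHsop

open DirectSum Groth.Agent.Lib.Helper25.GrDim MvPolynomial

universe u v

variable {K : Type u} [Field K] {A : Type v} [CommRing A] [Algebra K A]
  (𝒜 : ℕ → Submodule K A) [GradedAlgebra 𝒜]

/-- evaluating a homogeneous polynomial of degree `N` at elements of degree `D` gives an element
of degree `N * D` -/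
theorem aeval_mem_graded {d D : ℕ} (x : Fin d → A) (hx : ∀ i, x i ∈ 𝒜 D) (N : ℕ)
    (P : MvPolynomial (Fin d) K) (hP : P.IsHomogeneous N) : aeval x P ∈ 𝒜 (N * D) := by
  classical
  rw [aeval_def, eval₂_eq']
  apply Submodule.sum_mem
  intro m hm
  rw [← Algebra.smul_def]
  apply Submodule.smul_mem
  have h1 := SetLike.prod_pow_mem_graded 𝒜 (fun _ : Fin d => D) x (fun i => m i)
    (F := Finset.univ) (fun i _ => hx i)
  have h2 : ∑ i, m i • D = N * D := by
    have h3 := hP (mem_support_iff.mp hm)
    simp only [Finsupp.weight_apply, Pi.one_apply, smul_eq_mul, mul_one] at h3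
    rw [Finsupp.sum_fintype _ _ (fun i => rfl)] at h3
    rw [← h3, Finset.sum_mul]
    simp
  rw [h2] at h1
  exact h1

/-- a polynomial relation among elements of equal positive degree holds in each degree -/
theorem aeval_homogeneousComponent_eq_zero {d D : ℕ} (hD : 0 < D) (x : Fin d → A)
    (hx : ∀ i, x i ∈ 𝒜 D) (P : MvPolynomial (Fin d) K) (hP : aeval x P = 0) (N : ℕ) :
    aeval x (homogeneousComponent N P) = 0 := by
  classical
  have hsum := sum_homogeneousComponent P
  have h1 : aeval x P = ∑ i ∈ Finset.range (P.totalDegree + 1), aeval x (homogeneousComponent i P) := by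
    conv_lhs => rw [← hsum]
    rw [map_sum]
  rw [hP] at h1
  have hmem : ∀ i, aeval x (homogeneousComponent i P) ∈ 𝒜 (i * D) := fun i =>
    aeval_mem_graded 𝒜 x hx i _ (homogeneousComponent_isHomogeneous i P)
  by_cases hN : N ∈ Finset.range (P.totalDegree + 1)
  · have h2 : ((decompose 𝒜 (0 : A)) (N * D) : A) =
        ∑ i ∈ Finset.range (P.totalDegree + 1),
          ((decompose 𝒜 (aeval x (homogeneousComponent i P))) (N * D) : A) := by
      conv_lhs => rw [h1]
      rw [decompose_sum, DFinsupp.finsetSum_apply, AddSubmonoidClass.coe_finsetSum]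
    rw [decompose_zero, DirectSum.zero_apply, ZeroMemClass.coe_zero] at h2
    rw [Finset.sum_eq_single N] at h2
    · rw [decompose_of_mem_same 𝒜 (hmem N)] at h2
      exact h2.symm
    · intro i _ hi
      rw [decompose_of_mem_ne 𝒜 (hmem i)]
      intro h
      exact hi (Nat.eq_of_mul_eq_mul_right hD h)
    · intro h
      exact absurd hN h
  · rw [Finset.mem_range, not_lt] at hN
    rw [homogeneousComponent_eq_zero N P (by omega), map_zero]

/-- the polynomial ring has trivial degree zero part -/
theorem mvPolynomial_h0 (d : ℕ) : ∀ a ∈ homogeneousSubmodule (Fin d) K 0,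
    ∃ c : K, algebraMap K (MvPolynomial (Fin d) K) c = a := by
  intro a ha
  rw [homogeneousSubmodule_zero, Submodule.mem_one] at ha
  exact ha

/-- a homogeneous system of parameters of equal positive degrees is algebraically independent -/
theorem algebraicIndependent_of_hsop [IsNoetherianRing A] [Nontrivial A]
    (h0 : ∀ a ∈ 𝒜 0, ∃ c : K, algebraMap K A c = a) {d D : ℕ} (hD : 0 < D) (x : Fin d → A)
    (hx : ∀ i, x i ∈ 𝒜 D) (hdim : ringKrullDim A = (d : WithBot ℕ∞))
    (hrad : irr 𝒜 ≤ (Ideal.span (Set.range x)).radical) : AlgebraicIndependent K x := by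
  classical
  have hmax := irr_isMaximal 𝒜 h0
  rcases Nat.eq_zero_or_pos d with hd | hd
  · subst hd
    rw [algebraicIndependent_empty_type_iff]
    exact (algebraMap K A).injective
  rw [algebraicIndependent_iff]
  intro P hP
  by_contra hPne
  -- a nonzero homogeneous component
  obtain ⟨N, hN⟩ : ∃ N, homogeneousComponent N P ≠ 0 := by
    by_contra hall
    push Not at hall
    apply hPne
    rw [← sum_homogeneousComponent P]
    exact Finset.sum_eq_zero (fun i _ => hall i)
  set Q := homogeneousComponent N P with hQ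
  have hQ0 : aeval x Q = 0 := aeval_homogeneousComponent_eq_zero 𝒜 hD x hx P hP N
  have hQhom : Q.IsHomogeneous N := homogeneousComponent_isHomogeneous N P
  -- the polynomial ring
  let ℬ : ℕ → Submodule K (MvPolynomial (Fin d) K) := homogeneousSubmodule (Fin d) K
  letI : GradedAlgebra ℬ := MvPolynomial.gradedAlgebra
  have hI' : Ideal.span {Q} ≠ ⊤ := by
    intro htop
    have h1 : (1 : MvPolynomial (Fin d) K) ∈ Ideal.span {Q} := htop ▸ Submodule.mem_top
    rw [Ideal.mem_span_singleton'] at h1
    obtain ⟨a, ha⟩ := h1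
    have h2 := congrArg (aeval x) ha
    rw [map_mul, hQ0, mul_zero, map_one] at h2
    exact zero_ne_one h2
  have hIhom : (Ideal.span {Q}).IsHomogeneous ℬ := by
    apply Ideal.homogeneous_span
    intro y hy
    rw [Set.mem_singleton_iff] at hy
    subst hy
    exact ⟨N, hQhom⟩
  have hdimB : ringKrullDim (MvPolynomial (Fin d) K ⧸ Ideal.span {Q}) ≤
      ((d - 1 : ℕ) : WithBot ℕ∞) := by
    have h1 := ringKrullDim_quotient_succ_le_of_nonZeroDivisor
      (r := Q) (mem_nonZeroDivisors_of_ne_zero hN)
    rw [MvPolynomial.ringKrullDim_of_isNoetherianRing, ringKrullDim_eq_zero_of_field, zero_add,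
      Nat.card_eq_fintype_card, Fintype.card_fin] at h1
    generalize ringKrullDim (MvPolynomial (Fin d) K ⧸ Ideal.span {Q}) = z at h1 ⊢
    induction z using WithBot.recBotCoe with
    | bot => exact bot_le
    | coe n =>
      have h2 : (n + 1 : ℕ∞) ≤ (d : ℕ∞) := by exact_mod_cast h1
      have h3 : n ≤ ((d - 1 : ℕ) : ℕ∞) := by
        induction n using ENat.recTopCoe with
        | top => simp at h2
        | coe m =>
          have : m + 1 ≤ d := by exact_mod_cast h2
          exact_mod_cast (by omega : m ≤ d - 1)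
      exact WithBot.coe_le_coe.mpr h3
  obtain ⟨g, hgdeg, hgrad⟩ := exists_hsop ℬ (mvPolynomial_h0 d) (d - 1) (Ideal.span {Q})
    hIhom hI' hdimB
  choose e he hge using hgdeg
  -- push forward
  set φ : MvPolynomial (Fin d) K →ₐ[K] A := aeval x with hφ
  set J : Ideal A := Ideal.span (Set.range (fun j => φ (g j))) with hJ
  have hJirr : J ≤ irr 𝒜 := by
    rw [hJ, Ideal.span_le]
    rintro _ ⟨j, rfl⟩
    have h1 : φ (g j) ∈ 𝒜 (e j * D) := aeval_mem_graded 𝒜 x hx (e j) (g j) (hge j)
    have h2 : 0 < e j * D := Nat.mul_pos (he j) hD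
    show φ (g j) ∈ irr 𝒜
    rw [mem_irr_iff]
    rw [DirectSum.decompose_of_mem_ne 𝒜 h1 h2.ne']
  have hxJ : Ideal.span (Set.range x) ≤ J.radical := by
    rw [Ideal.span_le]
    rintro _ ⟨i, rfl⟩
    have hXi : (X i : MvPolynomial (Fin d) K) ∈ irr ℬ := by
      rw [mem_irr_iff]
      have h1 : (X i : MvPolynomial (Fin d) K) ∈ ℬ 1 := isHomogeneous_X K i
      rw [DirectSum.decompose_of_mem_ne ℬ h1 one_ne_zero]
    obtain ⟨n, hn⟩ := hgrad hXi
    refine ⟨n, ?_⟩
    have h1 : φ (X i ^ n) ∈ (Ideal.span {Q} ⊔ Ideal.span (Set.range g)).map φ.toRingHom :=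
      Ideal.mem_map_of_mem _ hn
    have h2 : (Ideal.span {Q} ⊔ Ideal.span (Set.range g)).map φ.toRingHom ≤ J := by
      rw [Ideal.map_sup, Ideal.map_span, Ideal.map_span, sup_le_iff]
      constructor
      · rw [Ideal.span_le]
        rintro _ ⟨q, hq, rfl⟩
        rw [Set.mem_singleton_iff] at hq
        subst hq
        show φ Q ∈ J
        rw [hφ, hQ0]
        exact J.zero_mem
      · rw [Ideal.span_le]
        rintro _ ⟨_, ⟨j, rfl⟩, rfl⟩
        exact Ideal.subset_span ⟨j, rfl⟩
    have h3 := h2 h1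
    rw [map_pow, hφ, aeval_X] at h3
    exact h3
  have hirrJ : irr 𝒜 ≤ J.radical := by
    refine hrad.trans ?_
    rw [Ideal.radical_le_radical_iff]
    exact hxJ
  -- `irr 𝒜` is a minimal prime of `J`
  set s : Finset A := Finset.image (fun j => φ (g j)) Finset.univ with hs
  have hsJ : Ideal.span (s : Set A) = J := by
    rw [hs, Finset.coe_image, Finset.coe_univ, Set.image_univ]
  have hmin : irr 𝒜 ∈ (Ideal.span (s : Set A)).minimalPrimes := by
    rw [hsJ]
    refine ⟨⟨hmax.isPrime, hJirr⟩, ?_⟩
    rintro q ⟨hq, hJq⟩ _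
    exact hirrJ.trans (hq.radical_le_iff.mpr hJq)
  have hht := Ideal.height_le_card_of_mem_minimalPrimes_span_finset hmin
  have hcard : s.card ≤ d - 1 := by
    have := Finset.card_image_le (s := (Finset.univ : Finset (Fin (d - 1))))
      (f := fun j => φ (g j))
    simpa using this
  have hdim' := ringKrullDim_le_height_irr 𝒜 h0
  rw [hdim] at hdim'
  have h4 : (d : ℕ∞) ≤ (irr 𝒜).height := by exact_mod_cast hdim'
  have h5 : (d : ℕ∞) ≤ ((d - 1 : ℕ) : ℕ∞) := h4.trans (hht.trans (by exact_mod_cast hcard))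
  have h6 : d ≤ d - 1 := by exact_mod_cast h5
  omega

end Groth.Agent.Lib.Helper25.GrHsop
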