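import Mathlib

/-!
# Smooth monoid algebras of sharp monoids are polynomial algebras (helper25)

Let `k` be a field and `N` a finitely generated cancellative sharp commutative monoid.  If the monoid
algebra `k[N]` is formally smooth over `k` then `N` is free: `N ≃+ (S →₀ ℕ)` for a finite set `S`.
-/

set_option autoImplicit false
set_option linter.unusedSectionVars false

open MvPolynomial TensorProduct

namespace Groth.Agent.Lib.Helper25.SmMon

section Deg

theorem eq_zero_or_single_of_degree_lt_two {σ : Type*} (x : σ →₀ ℕ) (h : Finsupp.degree x < 2) :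
    x = 0 ∨ ∃ i, x = Finsupp.single i 1 := by
  classical
  by_cases hx : x = 0
  · exact Or.inl hx
  right
  obtain ⟨i, hi⟩ : x.support.Nonempty := by
    rw [Finset.nonempty_iff_ne_empty, Ne, Finsupp.support_eq_empty]
    exact hx
  have hxi : x i ≠ 0 := Finsupp.mem_support_iff.mp hi
  refine ⟨i, ?_⟩
  have hdec : x = Finsupp.single i (x i) + Finsupp.erase i x := (Finsupp.single_add_erase i x).symm
  have hdeg : Finsupp.degree x = x i + Finsupp.degree (Finsupp.erase i x) := by
    conv_lhs => rw [hdec]
    rw [map_add, Finsupp.degree_single]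
  have h1 : x i = 1 := by omega
  have h2 : Finsupp.degree (Finsupp.erase i x) = 0 := by omega
  rw [Finsupp.degree_eq_zero_iff] at h2
  rw [hdec, h2, add_zero, h1]

end Deg

section Monoid

variable {N : Type*} [AddCommMonoid N] [IsCancelAdd N] [DecidableEq N]
  (hsharp : ∀ n : N, IsAddUnit n → n = 0)
  (S : Finset N) (hgen : AddSubmonoid.closure (S : Set N) = ⊤)
  (hmin : ∀ S' : Finset N, AddSubmonoid.closure (S' : Set N) = ⊤ → S.card ≤ S'.card)

/-- the canonical map `ℕ^S → N` -/
noncomputable def phiMon : (S →₀ ℕ) →+ N :=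
  Finsupp.liftAddHom (fun x : S => multiplesHom N (x : N))

theorem phiMon_single (x : S) (n : ℕ) : phiMon S (Finsupp.single x n) = n • (x : N) := by
  simp [phiMon]

theorem phiMon_apply (α : S →₀ ℕ) : phiMon S α = α.sum (fun x n => n • (x : N)) := by
  rw [phiMon, Finsupp.liftAddHom_apply]
  rfl

include hgen in
theorem phiMon_surjective : Function.Surjective (phiMon S) := by
  intro n
  have hn : n ∈ AddSubmonoid.closure (S : Set N) := by rw [hgen]; trivial
  induction hn using AddSubmonoid.closure_induction with
  | mem x hx => exact ⟨Finsupp.single ⟨x, hx⟩ 1, by rw [phiMon_single, one_smul]⟩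
  | zero => exact ⟨0, map_zero _⟩
  | add x y _ _ hx hy =>
    obtain ⟨α, rfl⟩ := hx
    obtain ⟨β, rfl⟩ := hy
    exact ⟨α + β, map_add _ _ _⟩

include hsharp in
theorem eq_zero_of_add_eq_zero {x y : N} (h : x + y = 0) : x = 0 :=
  hsharp x (isAddUnit_iff_exists_neg.mpr ⟨y, h⟩)

include hgen hmin in
theorem not_mem_closure_erase (x : N) (hx : x ∈ S) :
    x ∉ AddSubmonoid.closure ((S.erase x : Finset N) : Set N) := by
  classical
  intro hmem
  have hle : AddSubmonoid.closure (S : Set N) ≤
      AddSubmonoid.closure ((S.erase x : Finset N) : Set N) := by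
    rw [AddSubmonoid.closure_le]
    intro y hy
    by_cases hyx : y = x
    · rw [hyx]; exact hmem
    · exact AddSubmonoid.subset_closure (Finset.mem_coe.mpr (Finset.mem_erase.mpr ⟨hyx, hy⟩))
  have h1 : AddSubmonoid.closure ((S.erase x : Finset N) : Set N) = ⊤ := by
    rw [eq_top_iff, ← hgen]; exact hle
  have h2 := hmin _ h1
  have h3 := Finset.card_erase_lt_of_mem hx
  omega

include hgen hmin in
theorem ne_zero_of_mem (x : N) (hx : x ∈ S) : x ≠ 0 := by
  intro h0
  apply not_mem_closure_erase S hgen hmin x hx
  rw [h0]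
  exact zero_mem _

include hsharp hgen hmin in
theorem phiMon_eq_zero {α : S →₀ ℕ} (h : phiMon S α = 0) : α = 0 := by
  classical
  by_contra hα
  obtain ⟨x, hx⟩ : α.support.Nonempty := by
    rw [Finset.nonempty_iff_ne_empty, Ne, Finsupp.support_eq_empty]
    exact hα
  have hαx : α x ≠ 0 := Finsupp.mem_support_iff.mp hx
  have hdec : α = Finsupp.single x 1 + (Finsupp.single x (α x - 1) + Finsupp.erase x α) := by
    rw [← add_assoc, ← Finsupp.single_add, Nat.add_sub_cancel' (Nat.one_le_iff_ne_zero.mpr hαx),
      Finsupp.single_add_erase]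
  rw [hdec, map_add, phiMon_single, one_smul] at h
  exact ne_zero_of_mem S hgen hmin x x.2 (eq_zero_of_add_eq_zero hsharp h)

include hsharp hgen hmin in
theorem phiMon_eq_mem {α : S →₀ ℕ} (x : S) (h : phiMon S α = x) : α = Finsupp.single x 1 := by
  classical
  by_cases hαx : α x = 0
  · exfalso
    apply not_mem_closure_erase S hgen hmin x x.2
    have key : phiMon S α ∈ AddSubmonoid.closure ((S.erase (x : N) : Finset N) : Set N) := ?_
    · rw [h] at key; exact key
    rw [phiMon_apply]
    apply AddSubmonoid.sum_mem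
    intro y hy
    apply AddSubmonoid.nsmul_mem
    apply AddSubmonoid.subset_closure
    rw [Finset.mem_coe, Finset.mem_erase]
    refine ⟨?_, y.2⟩
    intro hyx
    have : y = x := Subtype.ext hyx
    rw [this] at hy
    exact (Finsupp.mem_support_iff.mp hy) hαx
  · have hdec : α = Finsupp.single x 1 + (Finsupp.single x (α x - 1) + Finsupp.erase x α) := by
      rw [← add_assoc, ← Finsupp.single_add, Nat.add_sub_cancel' (Nat.one_le_iff_ne_zero.mpr hαx),
        Finsupp.single_add_erase]
    rw [hdec, map_add, phiMon_single, one_smul] at h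
    have h0 : phiMon S (Finsupp.single x (α x - 1) + Finsupp.erase x α) = 0 := by
      have : (x : N) + phiMon S (Finsupp.single x (α x - 1) + Finsupp.erase x α) = (x : N) + 0 := by
        rw [h, add_zero]
      exact add_left_cancel this
    rw [hdec, phiMon_eq_zero hsharp S hgen hmin h0, add_zero]

end Monoid

end Groth.Agent.Lib.Helper25.SmMon
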