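import Mathlib
import Groth.Agent.Lib.Helper25SmMonA

/-!
# Smooth graded algebras over sharp monoids (helper25), part A: a length function

For a finitely generated cancellative sharp commutative monoid `N` there is a function
`ℓ : N → ℕ` which strictly increases when a non-zero element is added.
-/

set_option autoImplicit false
set_option linter.unusedSectionVars false

namespace Groth.Agent.Lib.Helper25.GrSm

open Groth.Agent.Lib.Helper25.SmMon

theorem exists_length (N : Type*) [AddCommMonoid N] [AddMonoid.FG N] [IsCancelAdd N]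
    (hsharp : ∀ n : N, IsAddUnit n → n = 0) :
    ∃ ℓ : N → ℕ, ∀ a b : N, b ≠ 0 → ℓ a < ℓ (a + b) := by
  classical
  have hfg : (⊤ : AddSubmonoid N).FG := AddMonoid.fg_def.mp inferInstance
  let Pn : ℕ → Prop := fun n => ∃ S : Finset N, AddSubmonoid.closure (S : Set N) = ⊤ ∧ S.card = n
  have hex : ∃ n, Pn n := by
    obtain ⟨S, hS⟩ := hfg
    exact ⟨S.card, S, hS, rfl⟩
  obtain ⟨S, hgen, hcard⟩ := Nat.find_spec hex
  have hmin : ∀ S' : Finset N, AddSubmonoid.closure (S' : Set N) = ⊤ → S.card ≤ S'.card := by
    intro S' hS'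
    rw [hcard]
    exact Nat.find_min' hex ⟨S', hS', rfl⟩
  have hfib : ∀ n : N, {v : S →₀ ℕ | phiMon S v = n}.Finite := by
    intro n
    refine IsAntichain.finite_of_partiallyWellOrderedOn (r := (· ≤ ·)) ?_
      (Set.isPWO_of_wellQuasiOrderedLE _)
    intro v hv w hw hvw hle
    have hw' : w = v + (w - v) := (add_tsub_cancel_of_le hle).symm
    have h0 : phiMon S (w - v) = 0 := by
      have h1 : phiMon S v + phiMon S (w - v) = phiMon S v + 0 := by
        rw [← map_add, ← hw', add_zero]
        exact (hw : phiMon S w = n).trans (hv : phiMon S v = n).symm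
      exact add_left_cancel h1
    have h2 := phiMon_eq_zero hsharp S hgen hmin h0
    apply hvw
    rw [hw', h2, add_zero]
  let ℓ : N → ℕ := fun n => (hfib n).toFinset.sup Finsupp.degree
  refine ⟨ℓ, ?_⟩
  intro a b hb
  obtain ⟨v, hv⟩ := phiMon_surjective S hgen a
  have hne : (hfib a).toFinset.Nonempty := ⟨v, by simpa using hv⟩
  obtain ⟨v', hv'mem, hv'⟩ := Finset.exists_mem_eq_sup _ hne Finsupp.degree
  obtain ⟨w, hw⟩ := phiMon_surjective S hgen b
  have hw0 : w ≠ 0 := by
    rintro rfl
    exact hb (by rw [← hw, map_zero])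
  have hdeg : 0 < Finsupp.degree w := by
    rw [pos_iff_ne_zero, Ne, Finsupp.degree_eq_zero_iff]
    exact hw0
  have hv'a : phiMon S v' = a := by simpa using hv'mem
  have hmem : v' + w ∈ (hfib (a + b)).toFinset := by
    simp only [Set.Finite.mem_toFinset, Set.mem_setOf_eq]
    rw [map_add, hv'a, hw]
  have hle := Finset.le_sup (f := Finsupp.degree) hmem
  change (hfib a).toFinset.sup Finsupp.degree < (hfib (a + b)).toFinset.sup Finsupp.degree
  rw [hv']
  calc Finsupp.degree v' < Finsupp.degree v' + Finsupp.degree w := by omega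
    _ = Finsupp.degree (v' + w) := (map_add _ _ _).symm
    _ ≤ _ := hle

end Groth.Agent.Lib.Helper25.GrSm
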