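import Mathlib

/-!
# Smooth graded algebras over sharp monoids (helper25), part B: facts on symmetric algebras

* the augmentation ideal `𝔪` of `Sym_{A₀}(P)` is generated by `P`;
* every element is `a + ι p` modulo `𝔪²`;
* for `P` projective, `Sym_{A₀}(P)` is formally smooth and `⋂ 𝔪^j = 0`.
-/

set_option autoImplicit false
set_option linter.unusedSectionVars false
set_option linter.style.haveILetI false

open SymmetricAlgebra

namespace Groth.Agent.Lib.Helper25.GrSm

variable (A₀ : Type*) [CommRing A₀] (P : Type*) [AddCommGroup P] [Module A₀ P]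

/-- the augmentation ideal of the symmetric algebra -/
noncomputable def augIdeal : Ideal (SymmetricAlgebra A₀ P) :=
  RingHom.ker (algebraMapInv : SymmetricAlgebra A₀ P →ₐ[A₀] A₀)

variable {A₀ P}

theorem mem_augIdeal_iff (x : SymmetricAlgebra A₀ P) :
    x ∈ augIdeal A₀ P ↔ (algebraMapInv : SymmetricAlgebra A₀ P →ₐ[A₀] A₀) x = 0 :=
  RingHom.mem_ker

theorem ι_mem_augIdeal (p : P) : ι A₀ P p ∈ augIdeal A₀ P := by
  rw [mem_augIdeal_iff, algebraMapInv_ι]

theorem sub_algebraMap_mem_span (x : SymmetricAlgebra A₀ P) :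
    x - algebraMap A₀ _ ((algebraMapInv : SymmetricAlgebra A₀ P →ₐ[A₀] A₀) x) ∈
      Ideal.span (Set.range (ι A₀ P)) := by
  induction x using SymmetricAlgebra.induction with
  | algebraMap r =>
    rw [AlgHom.commutes]
    simp
  | ι p =>
    rw [algebraMapInv_ι, map_zero, sub_zero]
    exact Ideal.subset_span ⟨p, rfl⟩
  | mul a b ha hb =>
    have h : a * b - algebraMap A₀ _ ((algebraMapInv : SymmetricAlgebra A₀ P →ₐ[A₀] A₀) (a * b)) =
        (a - algebraMap A₀ _ ((algebraMapInv : SymmetricAlgebra A₀ P →ₐ[A₀] A₀) a)) * b +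
        algebraMap A₀ _ ((algebraMapInv : SymmetricAlgebra A₀ P →ₐ[A₀] A₀) a) *
          (b - algebraMap A₀ _ ((algebraMapInv : SymmetricAlgebra A₀ P →ₐ[A₀] A₀) b)) := by
      rw [map_mul, map_mul]
      ring
    rw [h]
    exact Ideal.add_mem _ (Ideal.mul_mem_right _ _ ha) (Ideal.mul_mem_left _ _ hb)
  | add a b ha hb =>
    have h : a + b - algebraMap A₀ _ ((algebraMapInv : SymmetricAlgebra A₀ P →ₐ[A₀] A₀) (a + b)) =
        (a - algebraMap A₀ _ ((algebraMapInv : SymmetricAlgebra A₀ P →ₐ[A₀] A₀) a)) +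
          (b - algebraMap A₀ _ ((algebraMapInv : SymmetricAlgebra A₀ P →ₐ[A₀] A₀) b)) := by
      rw [map_add, map_add]
      ring
    rw [h]
    exact Ideal.add_mem _ ha hb

theorem augIdeal_eq_span : augIdeal A₀ P = Ideal.span (Set.range (ι A₀ P)) := by
  apply le_antisymm
  · intro x hx
    have h := sub_algebraMap_mem_span x
    rw [(mem_augIdeal_iff x).mp hx, map_zero, sub_zero] at h
    exact h
  · rw [Ideal.span_le]
    rintro _ ⟨p, rfl⟩
    exact ι_mem_augIdeal p

/-- every element is `a + ι p` modulo `𝔪²` -/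
theorem exists_decomp (x : SymmetricAlgebra A₀ P) :
    ∃ (a : A₀) (p : P), x - (algebraMap A₀ _ a + ι A₀ P p) ∈ augIdeal A₀ P ^ 2 := by
  induction x using SymmetricAlgebra.induction with
  | algebraMap r => exact ⟨r, 0, by simp⟩
  | ι p => exact ⟨0, p, by simp⟩
  | mul x y hx hy =>
    obtain ⟨a, p, hu⟩ := hx
    obtain ⟨b, q, hv⟩ := hy
    refine ⟨a * b, a • q + b • p, ?_⟩
    set u := x - (algebraMap A₀ _ a + ι A₀ P p) with hu_def
    set v := y - (algebraMap A₀ _ b + ι A₀ P q) with hv_def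
    have hx' : x = (algebraMap A₀ _ a + ι A₀ P p) + u := by rw [hu_def]; ring
    have hy' : y = (algebraMap A₀ _ b + ι A₀ P q) + v := by rw [hv_def]; ring
    have h : x * y - (algebraMap A₀ _ (a * b) + ι A₀ P (a • q + b • p)) =
        ι A₀ P p * ι A₀ P q + (algebraMap A₀ _ a + ι A₀ P p) * v + u * y := by
      rw [map_add, map_smul, map_smul, map_mul, Algebra.smul_def, Algebra.smul_def]
      conv_lhs => rw [hx']
      conv_lhs => enter [1, 2]; rw [hy']
      ring
    rw [h]
    refine Ideal.add_mem _ (Ideal.add_mem _ ?_ (Ideal.mul_mem_left _ _ hv))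
      (Ideal.mul_mem_right _ _ hu)
    rw [sq]
    exact Ideal.mul_mem_mul (ι_mem_augIdeal p) (ι_mem_augIdeal q)
  | add x y hx hy =>
    obtain ⟨a, p, hu⟩ := hx
    obtain ⟨b, q, hv⟩ := hy
    refine ⟨a + b, p + q, ?_⟩
    have h : x + y - (algebraMap A₀ _ (a + b) + ι A₀ P (p + q)) =
        (x - (algebraMap A₀ _ a + ι A₀ P p)) + (y - (algebraMap A₀ _ b + ι A₀ P q)) := by
      rw [map_add, map_add]
      ring
    rw [h]
    exact Ideal.add_mem _ hu hv

section Projective

variable [Module.Projective A₀ P]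

/-- an injective algebra map to a polynomial ring, with a retraction -/
theorem exists_embedding :
    ∃ (θ : SymmetricAlgebra A₀ P →ₐ[A₀] MvPolynomial P A₀)
      (ρ : MvPolynomial P A₀ →ₐ[A₀] SymmetricAlgebra A₀ P),
      ρ.comp θ = AlgHom.id A₀ _ ∧ ∀ p : P, θ (ι A₀ P p) ∈ MvPolynomial.idealOfVars P A₀ := by
  obtain ⟨i, hi⟩ := (Module.projective_def' (R := A₀) (P := P)).mp inferInstance
  set r : (P →₀ A₀) →ₗ[A₀] P := Finsupp.linearCombination A₀ id with hr
  let b : Module.Basis P A₀ (P →₀ A₀) := Finsupp.basisSingleOne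
  let e := SymmetricAlgebra.equivMvPolynomial b
  let Si : SymmetricAlgebra A₀ P →ₐ[A₀] SymmetricAlgebra A₀ (P →₀ A₀) :=
    SymmetricAlgebra.lift ((ι A₀ (P →₀ A₀)) ∘ₗ i)
  let Sr : SymmetricAlgebra A₀ (P →₀ A₀) →ₐ[A₀] SymmetricAlgebra A₀ P :=
    SymmetricAlgebra.lift ((ι A₀ P) ∘ₗ r)
  have hSS : Sr.comp Si = AlgHom.id A₀ _ := by
    apply SymmetricAlgebra.algHom_ext
    refine LinearMap.ext fun p => ?_
    change Sr (Si (ι A₀ P p)) = ι A₀ P p
    have := congrArg (fun f => f p) hi
    simp only [LinearMap.comp_apply, LinearMap.id_apply] at this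
    simp only [Si, Sr, lift_ι_apply, LinearMap.comp_apply]
    rw [this]
  refine ⟨(e : _ →ₐ[A₀] _).comp Si, Sr.comp (e.symm : _ →ₐ[A₀] _), ?_, ?_⟩
  · refine AlgHom.ext fun x => ?_
    have := congrArg (fun f => f x) hSS
    simp only [AlgHom.comp_apply, AlgHom.id_apply] at this
    change Sr (e.symm (e (Si x))) = x
    rw [AlgEquiv.symm_apply_apply]
    exact this
  · intro p
    simp only [AlgHom.comp_apply, AlgHom.coe_coe, Si, lift_ι_apply, LinearMap.comp_apply]
    generalize i p = f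
    induction f using Finsupp.induction_linear with
    | zero => simp
    | add f g hf hg =>
      rw [map_add, map_add]
      exact Ideal.add_mem _ hf hg
    | single k c =>
      have h1 : (Finsupp.single k c : P →₀ A₀) = c • b k := by
        simp [b, Finsupp.basisSingleOne]
      rw [h1, map_smul, map_smul]
      change c • (SymmetricAlgebra.equivMvPolynomial b) (ι A₀ (P →₀ A₀) (b k)) ∈ _
      rw [SymmetricAlgebra.equivMvPolynomial_ι_apply]
      exact Submodule.smul_of_tower_mem _ c (Ideal.subset_span ⟨k, rfl⟩)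

instance formallySmooth_symmetricAlgebra :
    Algebra.FormallySmooth A₀ (SymmetricAlgebra A₀ P) := by
  obtain ⟨θ, ρ, hρθ, -⟩ := exists_embedding (A₀ := A₀) (P := P)
  refine Algebra.FormallySmooth.of_split ρ ((Ideal.Quotient.mkₐ A₀ _).comp θ) ?_
  refine AlgHom.ext fun x => ?_
  have := congrArg (fun f => f x) hρθ
  simp only [AlgHom.comp_apply, AlgHom.id_apply] at this
  simp only [AlgHom.comp_apply, AlgHom.id_apply, Ideal.Quotient.mkₐ_eq_mk]
  rw [AlgHom.kerSquareLift_mk]
  exact this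

theorem eq_zero_of_forall_mem_pow (x : SymmetricAlgebra A₀ P)
    (hx : ∀ j : ℕ, x ∈ augIdeal A₀ P ^ j) : x = 0 := by
  obtain ⟨θ, ρ, hρθ, hθ⟩ := exists_embedding (A₀ := A₀) (P := P)
  have hinj : Function.Injective θ := by
    intro a b hab
    have ha := congrArg (fun f => f a) hρθ
    have hb := congrArg (fun f => f b) hρθ
    simp only [AlgHom.comp_apply, AlgHom.id_apply] at ha hb
    rw [← ha, ← hb, hab]
  have hmap : Ideal.map θ (augIdeal A₀ P) ≤ MvPolynomial.idealOfVars P A₀ := by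
    rw [augIdeal_eq_span, Ideal.map_span, Ideal.span_le]
    rintro _ ⟨_, ⟨p, rfl⟩, rfl⟩
    exact hθ p
  have h0 : θ x = 0 := by
    ext m
    rw [MvPolynomial.coeff_zero]
    have h1 : θ x ∈ MvPolynomial.idealOfVars P A₀ ^ (Finsupp.degree m + 1) := by
      have h2 : θ x ∈ Ideal.map θ (augIdeal A₀ P ^ (Finsupp.degree m + 1)) :=
        Ideal.mem_map_of_mem _ (hx _)
      rw [Ideal.map_pow] at h2
      exact Ideal.pow_right_mono hmap _ h2
    rw [MvPolynomial.mem_pow_idealOfVars_iff'] at h1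
    exact h1 m (Nat.lt_succ_self _)
  exact hinj (h0.trans (map_zero θ).symm)

end Projective

end Groth.Agent.Lib.Helper25.GrSm
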