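import Mathlib
import Groth.Agent.Lib.Helper25GrSmB

/-!
# Smooth graded algebras over sharp monoids (helper25), part C: the injectivity criterion

A surjection `B → A` of formally smooth `R`-algebras whose kernel lies in `𝔪²` has kernel inside
`⋂ 𝔪^j`.  Applied to `B = Sym_{A₀}(P) → A`.
-/

set_option autoImplicit false
set_option linter.unusedSectionVars false
set_option linter.style.haveILetI false

open TensorProduct SymmetricAlgebra

namespace Groth.Agent.Lib.Helper25.GrSm

section Generic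

variable {R B A : Type*} [CommRing R] [CommRing B] [CommRing A] [Algebra R B] [Algebra R A]
  [Algebra B A] [IsScalarTower R B A]

theorem D_mem_smul_of_mem_sq (𝔪 : Ideal B) {p : B} (hp : p ∈ 𝔪 ^ 2) :
    KaehlerDifferential.D R B p ∈ 𝔪 • (⊤ : Submodule B (Ω[B⁄R])) := by
  rw [sq] at hp
  induction hp using Submodule.mul_induction_on' with
  | mem_mul_mem x hx y hy =>
    rw [Derivation.leibniz]
    exact Submodule.add_mem _ (Submodule.smul_mem_smul hx Submodule.mem_top)
      (Submodule.smul_mem_smul hy Submodule.mem_top)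
  | add x _ y _ hx hy =>
    rw [map_add]
    exact Submodule.add_mem _ hx hy

theorem ker_le_mul_ker [Algebra.FormallySmooth R B] [Algebra.FormallySmooth R A]
    (hsurj : Function.Surjective (algebraMap B A)) (𝔪 : Ideal B)
    (hsq : RingHom.ker (algebraMap B A) ≤ 𝔪 ^ 2) :
    RingHom.ker (algebraMap B A) ≤ 𝔪 * RingHom.ker (algebraMap B A) := by
  set 𝔟 : Ideal B := RingHom.ker (algebraMap B A) with h𝔟
  obtain ⟨l, hl⟩ := (Algebra.FormallySmooth.iff_split_injection (R := R) (P := B)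
    (A := A) hsurj).mp inferInstance
  have h𝔪 : 𝔟 ≤ 𝔪 := hsq.trans (Ideal.pow_le_self two_ne_zero)
  intro b hb
  have h1 : 𝔟.toCotangent ⟨b, hb⟩ ∈ 𝔪 • (⊤ : Submodule B 𝔟.Cotangent) := by
    have h2 : 𝔟.toCotangent ⟨b, hb⟩ =
        l (KaehlerDifferential.kerCotangentToTensor R B A (𝔟.toCotangent ⟨b, hb⟩)) := by
      have := congrArg (fun f => f (𝔟.toCotangent ⟨b, hb⟩)) hl
      simp only [LinearMap.comp_apply, LinearMap.id_apply] at this
      exact this.symm
    rw [h2, KaehlerDifferential.kerCotangentToTensor_toCotangent]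
    have h3 : (1 : A) ⊗ₜ[B] KaehlerDifferential.D R B b ∈
        𝔪 • (⊤ : Submodule B (A ⊗[B] (Ω[B⁄R]))) := by
      have h4 := D_mem_smul_of_mem_sq (R := R) 𝔪 (hsq hb)
      have h5 := Submodule.mem_map_of_mem
        (f := TensorProduct.mk B A (Ω[B⁄R]) 1) h4
      rw [Submodule.map_smul''] at h5
      exact Submodule.smul_mono le_rfl le_top h5
    have h6 := Submodule.mem_map_of_mem (f := l) h3
    rw [Submodule.map_smul''] at h6
    exact Submodule.smul_mono le_rfl le_top h6
  have h7 : 𝔪 • (⊤ : Submodule B 𝔟.Cotangent) =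
      Submodule.map 𝔟.toCotangent (𝔪 • (⊤ : Submodule B 𝔟)) := by
    rw [Submodule.map_smul'', Submodule.map_top,
      LinearMap.range_eq_top.mpr (Ideal.toCotangent_surjective 𝔟)]
  rw [h7] at h1
  obtain ⟨y, hy, hyx⟩ := h1
  have h8 : 𝔟.toCotangent (⟨b, hb⟩ - y) = 0 := by rw [map_sub, hyx, sub_self]
  rw [Ideal.toCotangent_eq_zero] at h8
  have h9 : (y : B) ∈ 𝔪 * 𝔟 := by
    have h10 := Submodule.mem_map_of_mem (f := 𝔟.subtype) hy
    rw [Submodule.map_smul'', Submodule.map_top, Submodule.range_subtype] at h10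
    exact h10
  have h11 : 𝔟 ^ 2 ≤ 𝔪 * 𝔟 := by
    rw [sq]
    exact Ideal.mul_mono_left h𝔪
  have h12 : b = ((⟨b, hb⟩ - y : 𝔟) : B) + (y : B) := by
    simp
  rw [h12]
  exact Ideal.add_mem _ (h11 h8) h9

theorem ker_le_pow [Algebra.FormallySmooth R B] [Algebra.FormallySmooth R A]
    (hsurj : Function.Surjective (algebraMap B A)) (𝔪 : Ideal B)
    (hsq : RingHom.ker (algebraMap B A) ≤ 𝔪 ^ 2) (j : ℕ) :
    RingHom.ker (algebraMap B A) ≤ 𝔪 ^ j := by
  induction j with
  | zero => rw [pow_zero, Ideal.one_eq_top]; exact le_top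
  | succ j ih =>
    refine (ker_le_mul_ker (R := R) hsurj 𝔪 hsq).trans ?_
    rw [pow_succ']
    exact Ideal.mul_mono_right ih

end Generic

section Sym

variable {R A₀ A P : Type*} [CommRing R] [CommRing A₀] [CommRing A] [Algebra R A₀]
  [Algebra A₀ A] [Algebra R A] [IsScalarTower R A₀ A] [AddCommGroup P] [Module A₀ P]

/-- the kernel of `Sym(P) → A` lies in `𝔪²` when `A` has a compatible "first order jet" -/
theorem ker_lift_le_sq (π₀ : A →ₐ[A₀] A₀) (s : P →ₗ[A₀] A) (q' : A →ₗ[A₀] P)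
    (hs : ∀ p, π₀ (s p) = 0) (hqs : ∀ p, q' (s p) = p)
    (hq : ∀ x y, q' (x * y) = π₀ x • q' y + π₀ y • q' x) :
    RingHom.ker (SymmetricAlgebra.lift s) ≤ augIdeal A₀ P ^ 2 := by
  set Φ := SymmetricAlgebra.lift s with hΦ
  have hq1 : q' 1 = 0 := by
    have := hq 1 1
    rw [mul_one, map_one π₀, one_smul] at this
    have h2 : q' 1 + 0 = q' 1 + q' 1 := by rw [add_zero]; exact this
    exact (add_left_cancel h2).symm
  have hqa : ∀ a : A₀, q' (algebraMap A₀ A a) = 0 := by
    intro a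
    rw [Algebra.algebraMap_eq_smul_one, map_smul, hq1, smul_zero]
  have hπΦ : π₀.comp Φ = (algebraMapInv : SymmetricAlgebra A₀ P →ₐ[A₀] A₀) := by
    apply SymmetricAlgebra.algHom_ext
    refine LinearMap.ext fun p => ?_
    change π₀ (Φ (ι A₀ P p)) = algebraMapInv (ι A₀ P p)
    rw [hΦ, lift_ι_apply, hs, algebraMapInv_ι]
  have hΦ𝔪 : ∀ u ∈ augIdeal A₀ P, π₀ (Φ u) = 0 := by
    intro u hu
    have := congrArg (fun f => f u) hπΦ
    simp only [AlgHom.comp_apply] at this
    rw [this]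
    exact (mem_augIdeal_iff u).mp hu
  have hqΦ : ∀ u ∈ augIdeal A₀ P ^ 2, q' (Φ u) = 0 := by
    intro u hu
    rw [sq] at hu
    induction hu using Submodule.mul_induction_on' with
    | mem_mul_mem x hx y hy =>
      rw [map_mul, hq, hΦ𝔪 x hx, hΦ𝔪 y hy, zero_smul, zero_smul, add_zero]
    | add x _ y _ hx hy =>
      rw [map_add, map_add, hx, hy, add_zero]
  intro x hx
  rw [RingHom.mem_ker] at hx
  obtain ⟨a, p, hu⟩ := exists_decomp x
  set u := x - (algebraMap A₀ _ a + ι A₀ P p) with hu_def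
  have hx' : x = algebraMap A₀ _ a + ι A₀ P p + u := by rw [hu_def]; ring
  have hu1 : u ∈ augIdeal A₀ P := Ideal.pow_le_self two_ne_zero hu
  have hΦx : Φ x = algebraMap A₀ A a + s p + Φ u := by
    rw [hx', map_add, map_add, AlgHom.commutes, hΦ, lift_ι_apply]
  have hΦx0 : Φ x = 0 := hx
  have ha : a = 0 := by
    have := congrArg π₀ hΦx
    rw [hΦx0, map_zero, map_add, map_add, AlgHom.commutes, hs, hΦ𝔪 u hu1, add_zero, add_zero] at this
    exact this.symm
  have hp : p = 0 := by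
    have := congrArg q' hΦx
    rw [hΦx0, map_zero, map_add, map_add, hqa, hqs, hqΦ u hu, add_zero, zero_add] at this
    exact this.symm
  rw [hx', ha, hp, map_zero, map_zero, zero_add, zero_add]
  exact hu

theorem lift_injective [Module.Projective A₀ P]
    [Algebra.FormallySmooth R A₀] [Algebra.FormallySmooth R A]
    (π₀ : A →ₐ[A₀] A₀) (s : P →ₗ[A₀] A) (q' : A →ₗ[A₀] P)
    (hs : ∀ p, π₀ (s p) = 0) (hqs : ∀ p, q' (s p) = p)
    (hq : ∀ x y, q' (x * y) = π₀ x • q' y + π₀ y • q' x)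
    (hsurj : Function.Surjective (SymmetricAlgebra.lift s)) :
    Function.Injective (SymmetricAlgebra.lift s) := by
  set Φ := SymmetricAlgebra.lift s with hΦ
  letI : Algebra R (SymmetricAlgebra A₀ P) :=
    ((algebraMap A₀ (SymmetricAlgebra A₀ P)).comp (algebraMap R A₀)).toAlgebra
  haveI : IsScalarTower R A₀ (SymmetricAlgebra A₀ P) :=
    IsScalarTower.of_algebraMap_eq (fun _ => rfl)
  haveI : Algebra.FormallySmooth R (SymmetricAlgebra A₀ P) :=
    Algebra.FormallySmooth.comp R A₀ (SymmetricAlgebra A₀ P)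
  letI : Algebra (SymmetricAlgebra A₀ P) A := Φ.toRingHom.toAlgebra
  haveI : IsScalarTower R (SymmetricAlgebra A₀ P) A := by
    refine IsScalarTower.of_algebraMap_eq (fun r => ?_)
    change algebraMap R A r = Φ (algebraMap A₀ _ (algebraMap R A₀ r))
    rw [AlgHom.commutes, ← IsScalarTower.algebraMap_apply]
  have hker := ker_lift_le_sq π₀ s q' hs hqs hq
  rw [injective_iff_map_eq_zero]
  intro x hx
  apply eq_zero_of_forall_mem_pow x
  intro j
  have := ker_le_pow (R := R) (B := SymmetricAlgebra A₀ P) (A := A) hsurj (augIdeal A₀ P) hker j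
  exact this (RingHom.mem_ker.mpr hx)

end Sym

end Groth.Agent.Lib.Helper25.GrSm
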