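import Mathlib

/-!
# Smooth graded algebras over sharp monoids (helper25), part D: graded preliminaries

For an algebra `A` graded by a commutative monoid `N` in which `a + b = 0 → a = 0`:
the components `comp n : A →ₗ[𝒜 0] A`, the retraction `proj0 : A →ₐ[𝒜 0] 𝒜 0`, its kernel `irr`.
-/

set_option autoImplicit false
set_option linter.unusedSectionVars false
set_option linter.style.haveILetI false

open DirectSum

namespace Groth.Agent.Lib.Helper25.GrSm

variable {R A : Type*} [CommRing R] [CommRing A] [Algebra R A] {N : Type*} [AddCommMonoid N]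
  [DecidableEq N] (𝒜 : N → Submodule R A) [GradedAlgebra 𝒜]

/-- the degree `n` component, as an `𝒜 0`-linear endomorphism of `A` -/
noncomputable def comp (n : N) : A →ₗ[𝒜 0] A where
  toFun x := (decompose 𝒜 x n : A)
  map_add' x y := by rw [decompose_add, DirectSum.add_apply, Submodule.coe_add]
  map_smul' a x := by
    rw [RingHom.id_apply, Algebra.smul_def, Algebra.smul_def, SetLike.GradeZero.algebraMap_apply]
    exact coe_decompose_mul_of_left_mem_zero 𝒜 a.2

theorem comp_apply (n : N) (x : A) : comp 𝒜 n x = (decompose 𝒜 x n : A) := rfl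

theorem comp_mem (n : N) (x : A) : comp 𝒜 n x ∈ 𝒜 n := Subtype.prop _

theorem comp_of_mem {n : N} {x : A} (hx : x ∈ 𝒜 n) : comp 𝒜 n x = x :=
  decompose_of_mem_same 𝒜 hx

theorem comp_of_mem_ne {n m : N} {x : A} (hx : x ∈ 𝒜 n) (h : n ≠ m) : comp 𝒜 m x = 0 :=
  decompose_of_mem_ne 𝒜 hx h

theorem comp_comp (n m : N) (x : A) :
    comp 𝒜 n (comp 𝒜 m x) = if m = n then comp 𝒜 n x else 0 := by
  split_ifs with h
  · subst h
    exact comp_of_mem 𝒜 (comp_mem 𝒜 m x)
  · exact comp_of_mem_ne 𝒜 (comp_mem 𝒜 m x) h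

theorem exists_sum_comp (x : A) :
    ∃ T : Finset N, (∀ n, n ∉ T → comp 𝒜 n x = 0) ∧ x = ∑ n ∈ T, comp 𝒜 n x := by
  classical
  refine ⟨(decompose 𝒜 x).support, ?_, ?_⟩
  · intro n hn
    rw [DFinsupp.notMem_support_iff] at hn
    rw [comp_apply, hn]
    rfl
  · exact (sum_support_decompose 𝒜 x).symm

theorem comp_mul (n : N) (y z : A) :
    ∃ T : Finset (N × N), (∀ ij ∈ T, ij.1 + ij.2 = n) ∧
      comp 𝒜 n (y * z) = ∑ ij ∈ T, comp 𝒜 ij.1 y * comp 𝒜 ij.2 z := by
  classical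
  refine ⟨((decompose 𝒜 y).support ×ˢ (decompose 𝒜 z).support).filter
    (fun ij => ij.1 + ij.2 = n), ?_, ?_⟩
  · intro ij hij
    exact (Finset.mem_filter.mp hij).2
  · rw [comp_apply, decompose_mul, coe_mul_apply]
    rfl

section Sharp

variable (hz : ∀ a b : N, a + b = 0 → a = 0)

include hz in
theorem comp_zero_mul (y z : A) : comp 𝒜 0 (y * z) = comp 𝒜 0 y * comp 𝒜 0 z := by
  classical
  have h5 : comp 𝒜 0 (y * z) =
      ∑ ij ∈ ((decompose 𝒜 y).support ×ˢ (decompose 𝒜 z).support).filter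
        (fun ij => ij.1 + ij.2 = 0), comp 𝒜 ij.1 y * comp 𝒜 ij.2 z := by
    rw [comp_apply, decompose_mul, coe_mul_apply]
    rfl
  rw [h5, Finset.sum_eq_single ((0 : N), (0 : N))]
  · intro ij hij hne
    exfalso
    apply hne
    have h1 := (Finset.mem_filter.mp hij).2
    exact Prod.ext (hz _ _ h1) (hz _ _ (by rw [add_comm]; exact h1))
  · intro h
    rw [Finset.mem_filter, Finset.mem_product, not_and_or, not_and_or] at h
    rcases h with (h | h) | h
    · rw [DFinsupp.notMem_support_iff] at h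
      have h0 : comp 𝒜 0 y = 0 := by rw [comp_apply, h]; rfl
      rw [h0, zero_mul]
    · rw [DFinsupp.notMem_support_iff] at h
      have h0 : comp 𝒜 0 z = 0 := by rw [comp_apply, h]; rfl
      rw [h0, mul_zero]
    · exact absurd (add_zero _) h

/-- the retraction of `A` onto its degree zero part -/
noncomputable def proj0 : A →ₐ[𝒜 0] 𝒜 0 where
  toFun x := decompose 𝒜 x 0
  map_one' := Subtype.ext (decompose_of_mem_same 𝒜 SetLike.GradedOne.one_mem)
  map_mul' x y := Subtype.ext (comp_zero_mul 𝒜 hz x y)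
  map_zero' := by rw [decompose_zero]; rfl
  map_add' x y := by rw [decompose_add]; rfl
  commutes' a := Subtype.ext (decompose_of_mem_same 𝒜 a.2)

theorem coe_proj0 (x : A) : ((proj0 𝒜 hz x : 𝒜 0) : A) = comp 𝒜 0 x := rfl

/-- the irrelevant ideal: the kernel of `proj0` -/
noncomputable def irr : Ideal A := RingHom.ker (proj0 𝒜 hz)

theorem mem_irr_iff (x : A) : x ∈ irr 𝒜 hz ↔ comp 𝒜 0 x = 0 := by
  rw [irr, RingHom.mem_ker, ← coe_proj0 𝒜 hz, Submodule.coe_eq_zero]

theorem mem_irr_of_mem {n : N} (hn : n ≠ 0) {x : A} (hx : x ∈ 𝒜 n) : x ∈ irr 𝒜 hz := by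
  rw [mem_irr_iff]
  exact comp_of_mem_ne 𝒜 hx hn

theorem comp_mem_irr {x : A} (hx : x ∈ irr 𝒜 hz) (n : N) : comp 𝒜 n x ∈ irr 𝒜 hz := by
  rw [mem_irr_iff] at hx ⊢
  rw [comp_comp]
  split_ifs with h
  · exact hx
  · rfl

theorem sub_proj0_mem_irr (x : A) : x - (proj0 𝒜 hz x : A) ∈ irr 𝒜 hz := by
  rw [mem_irr_iff, map_sub, coe_proj0, comp_comp, if_pos rfl, sub_self]

/-- the key induction principle on products of elements of the irrelevant ideal -/
theorem comp_mul_mem (M : AddSubmonoid A) {y z : A} (hy : y ∈ irr 𝒜 hz) (hz' : z ∈ irr 𝒜 hz)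
    (n : N)
    (h : ∀ a b : N, a ≠ 0 → b ≠ 0 → a + b = n → comp 𝒜 a y * comp 𝒜 b z ∈ M) :
    comp 𝒜 n (y * z) ∈ M := by
  obtain ⟨T, hT, hsum⟩ := comp_mul 𝒜 n y z
  rw [hsum]
  refine AddSubmonoid.sum_mem _ fun ij hij => ?_
  by_cases ha : ij.1 = 0
  · rw [ha, (mem_irr_iff 𝒜 hz y).mp hy, zero_mul]
    exact zero_mem _
  by_cases hb : ij.2 = 0
  · rw [hb, (mem_irr_iff 𝒜 hz z).mp hz', mul_zero]
    exact zero_mem _
  exact h _ _ ha hb (hT ij hij)

theorem comp_mem_sq {w : A} (hw : w ∈ irr 𝒜 hz ^ 2) (n : N) : comp 𝒜 n w ∈ irr 𝒜 hz ^ 2 := by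
  rw [sq] at hw ⊢
  induction hw using Submodule.mul_induction_on' with
  | mem_mul_mem y hy z hz' =>
    refine comp_mul_mem 𝒜 hz (irr 𝒜 hz * irr 𝒜 hz).toAddSubmonoid hy hz' n ?_
    intro a b _ _ _
    exact Ideal.mul_mem_mul (comp_mem_irr 𝒜 hz hy a) (comp_mem_irr 𝒜 hz hz' b)
  | add x _ y _ hx hy =>
    rw [map_add]
    exact Ideal.add_mem _ hx hy

end Sharp

end Groth.Agent.Lib.Helper25.GrSm
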