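import Mathlib
import Groth.Agent.Lib.Helper25GrSmD

/-!
# Smooth graded algebras over sharp monoids (helper25), part E: the cotangent module of the
irrelevant ideal
-/

set_option autoImplicit false
set_option linter.unusedSectionVars false
set_option linter.style.haveILetI false

open DirectSum TensorProduct

namespace Groth.Agent.Lib.Helper25.GrSm

section PC

variable {R A B : Type*} [CommRing R] [CommRing A] [CommRing B] [Algebra R A] [Algebra R B]
  [Algebra A B] [IsScalarTower R A B]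

/-- for a surjection `A → B` of formally smooth `R`-algebras with `Ω[A⁄R]` finite, the conormal
module is finite projective over `B` -/
theorem cotangent_finite_projective (hf : Function.Surjective (algebraMap A B))
    [Algebra.FormallySmooth R A] [Algebra.FormallySmooth R B] [Module.Finite A Ω[A⁄R]]
    [Module B (RingHom.ker (algebraMap A B)).Cotangent]
    [IsScalarTower A B (RingHom.ker (algebraMap A B)).Cotangent] :
    Module.Finite B (RingHom.ker (algebraMap A B)).Cotangent ∧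
      Module.Projective B (RingHom.ker (algebraMap A B)).Cotangent := by
  obtain ⟨l, hl⟩ := (Algebra.FormallySmooth.iff_split_injection (R := R) (P := A) (A := B)
    hf).mp inferInstance
  let l' : B ⊗[A] Ω[A⁄R] →ₗ[B] (RingHom.ker (algebraMap A B)).Cotangent :=
    l.extendScalarsOfSurjective hf
  let k' : (RingHom.ker (algebraMap A B)).Cotangent →ₗ[B] B ⊗[A] Ω[A⁄R] :=
    (KaehlerDifferential.kerCotangentToTensor R A B).extendScalarsOfSurjective hf
  have hlk : l'.comp k' = LinearMap.id := by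
    refine LinearMap.ext fun x => ?_
    have := congrArg (fun f => f x) hl
    simp only [LinearMap.comp_apply, LinearMap.id_apply] at this
    exact this
  have hsurj : Function.Surjective l' := by
    intro x
    refine ⟨k' x, ?_⟩
    have := congrArg (fun f => f x) hlk
    simp only [LinearMap.comp_apply, LinearMap.id_apply] at this
    exact this
  exact ⟨Module.Finite.of_surjective l' hsurj, Module.Projective.of_split k' l' hlk⟩

end PC

variable {R A : Type*} [CommRing R] [CommRing A] [Algebra R A] {N : Type*} [AddCommMonoid N]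
  [DecidableEq N] (𝒜 : N → Submodule R A) [GradedAlgebra 𝒜]
  (hz : ∀ a b : N, a + b = 0 → a = 0)

/-- the "linear part" map `A → I/I²`, `x ↦ [x - x₀]` -/
noncomputable def qmap : A →ₗ[𝒜 0] (irr 𝒜 hz).Cotangent where
  toFun x := (irr 𝒜 hz).toCotangent ⟨x - (proj0 𝒜 hz x : A), sub_proj0_mem_irr 𝒜 hz x⟩
  map_add' x y := by
    rw [← map_add]
    congr 1
    ext
    simp only [map_add, Submodule.coe_add]
    ring
  map_smul' a x := by
    rw [RingHom.id_apply, ← LinearMap.map_smul_of_tower]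
    congr 1
    ext
    simp only [map_smul, Submodule.coe_smul_of_tower, smul_sub]
    rfl

theorem qmap_apply (x : A) : qmap 𝒜 hz x =
    (irr 𝒜 hz).toCotangent ⟨x - (proj0 𝒜 hz x : A), sub_proj0_mem_irr 𝒜 hz x⟩ := rfl

theorem qmap_of_mem_irr {x : A} (hx : x ∈ irr 𝒜 hz) :
    qmap 𝒜 hz x = (irr 𝒜 hz).toCotangent ⟨x, hx⟩ := by
  rw [qmap_apply]
  congr 1
  ext
  have : proj0 𝒜 hz x = 0 := hx
  simp [this]

theorem qmap_surjective : Function.Surjective (qmap 𝒜 hz) := by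
  intro p
  obtain ⟨x, rfl⟩ := Ideal.toCotangent_surjective _ p
  exact ⟨x, qmap_of_mem_irr 𝒜 hz x.2⟩

theorem qmap_eq_zero_of_mem_sq {w : A} (hw : w ∈ irr 𝒜 hz ^ 2) : qmap 𝒜 hz w = 0 := by
  rw [qmap_of_mem_irr 𝒜 hz (Ideal.pow_le_self two_ne_zero hw), Ideal.toCotangent_eq_zero]
  exact hw

theorem mem_sq_of_qmap_eq_zero {x : A} (hx : x ∈ irr 𝒜 hz) (h : qmap 𝒜 hz x = 0) :
    x ∈ irr 𝒜 hz ^ 2 := by
  rw [qmap_of_mem_irr 𝒜 hz hx, Ideal.toCotangent_eq_zero] at h
  exact h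

theorem qmap_coe (a : 𝒜 0) : qmap 𝒜 hz (a : A) = 0 := by
  rw [qmap_apply]
  have h : proj0 𝒜 hz (a : A) = a := (proj0 𝒜 hz).commutes a
  have h2 : (⟨(a : A) - (proj0 𝒜 hz (a : A) : A), sub_proj0_mem_irr 𝒜 hz (a : A)⟩ :
      irr 𝒜 hz) = 0 := by
    ext
    simp [h]
  rw [h2, map_zero]

theorem qmap_mul (x y : A) : qmap 𝒜 hz (x * y) =
    proj0 𝒜 hz x • qmap 𝒜 hz y + proj0 𝒜 hz y • qmap 𝒜 hz x := by
  have hx := sub_proj0_mem_irr 𝒜 hz x
  have hy := sub_proj0_mem_irr 𝒜 hz y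
  have h1 : x * y = (x - (proj0 𝒜 hz x : A)) * (y - (proj0 𝒜 hz y : A)) +
      (proj0 𝒜 hz x) • (y - (proj0 𝒜 hz y : A)) + (proj0 𝒜 hz y) • (x - (proj0 𝒜 hz x : A)) +
      ((proj0 𝒜 hz x * proj0 𝒜 hz y : 𝒜 0) : A) := by
    rw [Algebra.smul_def, Algebra.smul_def, SetLike.GradeZero.algebraMap_apply,
      SetLike.GradeZero.algebraMap_apply]
    have : ((proj0 𝒜 hz x * proj0 𝒜 hz y : 𝒜 0) : A) =
      (proj0 𝒜 hz x : A) * (proj0 𝒜 hz y : A) := rfl
    rw [this]
    ring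
  conv_lhs => rw [h1]
  rw [map_add, map_add, map_add, qmap_coe, add_zero, map_smul, map_smul,
    qmap_eq_zero_of_mem_sq 𝒜 hz (by rw [sq]; exact Ideal.mul_mem_mul hx hy), zero_add]
  have h2 : ∀ z : A, qmap 𝒜 hz (z - (proj0 𝒜 hz z : A)) = qmap 𝒜 hz z := by
    intro z
    rw [map_sub, qmap_coe, sub_zero]
  rw [h2, h2]

theorem qmap_comp_eq_zero {y : A} (h : qmap 𝒜 hz y = 0) (n : N) :
    qmap 𝒜 hz (comp 𝒜 n y) = 0 := by
  have hw : y - (proj0 𝒜 hz y : A) ∈ irr 𝒜 hz ^ 2 := by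
    apply mem_sq_of_qmap_eq_zero 𝒜 hz (sub_proj0_mem_irr 𝒜 hz y)
    rw [map_sub, qmap_coe, sub_zero, h]
  have h1 : y = (y - (proj0 𝒜 hz y : A)) + (proj0 𝒜 hz y : A) := by ring
  rw [h1, map_add, map_add, qmap_eq_zero_of_mem_sq 𝒜 hz (comp_mem_sq 𝒜 hz hw n), zero_add]
  by_cases hn : n = 0
  · subst hn
    rw [comp_of_mem 𝒜 (proj0 𝒜 hz y).2, qmap_coe]
  · rw [comp_of_mem_ne 𝒜 (proj0 𝒜 hz y).2 (Ne.symm hn), map_zero]

end Groth.Agent.Lib.Helper25.GrSm
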