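import Mathlib
import Groth.Agent.Lib.Helper25GrSmA
import Groth.Agent.Lib.Helper25GrSmC
import Groth.Agent.Lib.Helper25GrSmE

/-!
# Smooth graded algebras over sharp monoids (helper25), part F: the graded section and the
main theorem
-/

set_option autoImplicit false
set_option linter.unusedSectionVars false
set_option linter.style.haveILetI false

open DirectSum TensorProduct SymmetricAlgebra

namespace Groth.Agent.Lib.Helper25.GrSm

variable {R A : Type*} [CommRing R] [CommRing A] [Algebra R A] {N : Type*} [AddCommMonoid N]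
  [DecidableEq N] (𝒜 : N → Submodule R A) [GradedAlgebra 𝒜]
  (hz : ∀ a b : N, a + b = 0 → a = 0)

include hz in
theorem formallySmooth_zero [Algebra.FormallySmooth R A] : Algebra.FormallySmooth R (𝒜 0) := by
  let π : A →ₐ[R] 𝒜 0 :=
    { (proj0 𝒜 hz).toRingHom with
      commutes' := fun r => (proj0 𝒜 hz).commutes (algebraMap R (𝒜 0) r) }
  let incl : 𝒜 0 →ₐ[R] A :=
    { toFun := Subtype.val
      map_one' := rfl
      map_mul' := fun _ _ => rfl
      map_zero' := rfl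
      map_add' := fun _ _ => rfl
      commutes' := fun _ => rfl }
  refine Algebra.FormallySmooth.of_split π ((Ideal.Quotient.mkₐ R _).comp incl) ?_
  refine AlgHom.ext fun a => ?_
  rw [AlgHom.comp_apply, AlgHom.comp_apply, Ideal.Quotient.mkₐ_eq_mk, AlgHom.kerSquareLift_mk]
  exact (proj0 𝒜 hz).commutes a

theorem cotangent_irr_finite_projective [Algebra.Smooth R A] :
    Module.Finite (𝒜 0) (irr 𝒜 hz).Cotangent ∧ Module.Projective (𝒜 0) (irr 𝒜 hz).Cotangent := by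
  haveI := formallySmooth_zero 𝒜 hz
  letI : Algebra A (𝒜 0) := (proj0 𝒜 hz).toRingHom.toAlgebra
  haveI : IsScalarTower R A (𝒜 0) := IsScalarTower.of_algebraMap_eq
    (fun r => ((proj0 𝒜 hz).commutes (algebraMap R (𝒜 0) r)).symm)
  have hf : Function.Surjective (algebraMap A (𝒜 0)) :=
    fun a => ⟨a, (proj0 𝒜 hz).commutes a⟩
  haveI : IsScalarTower A (𝒜 0) (RingHom.ker (algebraMap A (𝒜 0))).Cotangent := by
    change IsScalarTower A (𝒜 0) (irr 𝒜 hz).Cotangent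
    refine ⟨fun x b p => ?_⟩
    obtain ⟨y, rfl⟩ := Ideal.toCotangent_surjective _ p
    rw [← LinearMap.map_smul_of_tower, ← LinearMap.map_smul_of_tower, ← map_smul, ← sub_eq_zero,
      ← map_sub, Ideal.toCotangent_eq_zero]
    have h1 : (((x • b) • y - x • b • y : irr 𝒜 hz) : A) =
        ((proj0 𝒜 hz x : A) - x) * ((b : A) * (y : A)) := by
      have h2 : x • b = proj0 𝒜 hz x * b := rfl
      rw [h2]
      simp only [Submodule.coe_sub, Submodule.coe_smul_of_tower, Algebra.smul_def,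
        SetLike.GradeZero.algebraMap_apply, smul_eq_mul]
      have h3 : ((proj0 𝒜 hz x * b : 𝒜 0) : A) = (proj0 𝒜 hz x : A) * (b : A) := rfl
      rw [h3]
      have h4 : (algebraMap A A) x = x := rfl
      rw [h4]
      ring
    rw [h1, sq]
    refine Ideal.mul_mem_mul ?_ (Ideal.mul_mem_left _ _ y.2)
    have := sub_proj0_mem_irr 𝒜 hz x
    rw [← neg_sub]
    exact Ideal.neg_mem_iff _ |>.mpr this
  exact cotangent_finite_projective (R := R) hf

section Ebar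

variable (s₀ : (irr 𝒜 hz).Cotangent →ₗ[𝒜 0] A) (hs₀ : ∀ p, qmap 𝒜 hz (s₀ p) = p)

/-- the degree `n` projector of `I/I²` -/
noncomputable def ebar (n : N) : (irr 𝒜 hz).Cotangent →ₗ[𝒜 0] (irr 𝒜 hz).Cotangent :=
  (qmap 𝒜 hz) ∘ₗ (comp 𝒜 n) ∘ₗ s₀

include hs₀ in
theorem ebar_qmap (n : N) (x : A) :
    ebar 𝒜 hz s₀ n (qmap 𝒜 hz x) = qmap 𝒜 hz (comp 𝒜 n x) := by
  change qmap 𝒜 hz (comp 𝒜 n (s₀ (qmap 𝒜 hz x))) = _
  have h : qmap 𝒜 hz (s₀ (qmap 𝒜 hz x) - x) = 0 := by rw [map_sub, hs₀, sub_self]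
  have h2 := qmap_comp_eq_zero 𝒜 hz h n
  rw [map_sub, map_sub, sub_eq_zero] at h2
  exact h2

include hs₀ in
theorem ebar_ebar (n : N) (p : (irr 𝒜 hz).Cotangent) :
    ebar 𝒜 hz s₀ n (ebar 𝒜 hz s₀ n p) = ebar 𝒜 hz s₀ n p := by
  obtain ⟨x, rfl⟩ := qmap_surjective 𝒜 hz p
  rw [ebar_qmap 𝒜 hz s₀ hs₀, ebar_qmap 𝒜 hz s₀ hs₀, comp_comp, if_pos rfl]

include hs₀ in
theorem ebar_zero (p : (irr 𝒜 hz).Cotangent) : ebar 𝒜 hz s₀ 0 p = 0 := by
  obtain ⟨x, rfl⟩ := qmap_surjective 𝒜 hz p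
  rw [ebar_qmap 𝒜 hz s₀ hs₀, ← coe_proj0 𝒜 hz, qmap_coe]

include hs₀ in
theorem exists_finset [Module.Finite (𝒜 0) (irr 𝒜 hz).Cotangent] :
    ∃ S : Finset N, ∀ p, ∑ n ∈ S, ebar 𝒜 hz s₀ n p = p := by
  classical
  obtain ⟨G, hG⟩ := (Module.Finite.fg_top : (⊤ : Submodule (𝒜 0) (irr 𝒜 hz).Cotangent).FG)
  let xg : (irr 𝒜 hz).Cotangent → A := fun g => (qmap_surjective 𝒜 hz g).choose
  have hxg : ∀ g, qmap 𝒜 hz (xg g) = g := fun g => (qmap_surjective 𝒜 hz g).choose_spec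
  let T : (irr 𝒜 hz).Cotangent → Finset N := fun g => (exists_sum_comp 𝒜 (xg g)).choose
  have hT1 : ∀ g n, n ∉ T g → comp 𝒜 n (xg g) = 0 :=
    fun g => (exists_sum_comp 𝒜 (xg g)).choose_spec.1
  have hT2 : ∀ g, xg g = ∑ n ∈ T g, comp 𝒜 n (xg g) :=
    fun g => (exists_sum_comp 𝒜 (xg g)).choose_spec.2
  refine ⟨G.biUnion T, ?_⟩
  have key : ∀ g ∈ G, ∑ n ∈ G.biUnion T, ebar 𝒜 hz s₀ n g = g := by
    intro g hg
    have hsub : T g ⊆ G.biUnion T := Finset.subset_biUnion_of_mem T hg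
    calc ∑ n ∈ G.biUnion T, ebar 𝒜 hz s₀ n g
        = ∑ n ∈ G.biUnion T, qmap 𝒜 hz (comp 𝒜 n (xg g)) := by
          refine Finset.sum_congr rfl fun n _ => ?_
          rw [← ebar_qmap 𝒜 hz s₀ hs₀, hxg]
      _ = qmap 𝒜 hz (∑ n ∈ G.biUnion T, comp 𝒜 n (xg g)) := (map_sum _ _ _).symm
      _ = qmap 𝒜 hz (xg g) := by
          congr 1
          rw [← Finset.sum_subset hsub (fun n _ hn => hT1 g n hn)]
          exact (hT2 g).symm
      _ = g := hxg g
  intro p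
  have hp : p ∈ Submodule.span (𝒜 0) (G : Set (irr 𝒜 hz).Cotangent) := by
    rw [hG]; trivial
  induction hp using Submodule.span_induction with
  | mem g hg => exact key g hg
  | zero => simp
  | add x y _ _ hx hy =>
    simp only [map_add, Finset.sum_add_distrib]
    rw [hx, hy]
  | smul a x _ hx =>
    simp only [map_smul]
    rw [← Finset.smul_sum, hx]

/-- the graded section -/
noncomputable def sec (S : Finset N) : (irr 𝒜 hz).Cotangent →ₗ[𝒜 0] A :=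
  ∑ n ∈ S, (comp 𝒜 n) ∘ₗ s₀ ∘ₗ (ebar 𝒜 hz s₀ n)

theorem sec_apply (S : Finset N) (p : (irr 𝒜 hz).Cotangent) :
    sec 𝒜 hz s₀ S p = ∑ n ∈ S, comp 𝒜 n (s₀ (ebar 𝒜 hz s₀ n p)) := by
  simp [sec, LinearMap.sum_apply]

include hs₀ in
theorem qmap_sec (S : Finset N) (hS : ∀ p, ∑ n ∈ S, ebar 𝒜 hz s₀ n p = p)
    (p : (irr 𝒜 hz).Cotangent) : qmap 𝒜 hz (sec 𝒜 hz s₀ S p) = p := by
  rw [sec_apply, map_sum]
  have h : ∀ n ∈ S, qmap 𝒜 hz (comp 𝒜 n (s₀ (ebar 𝒜 hz s₀ n p))) = ebar 𝒜 hz s₀ n p := by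
    intro n _
    exact ebar_ebar 𝒜 hz s₀ hs₀ n p
  rw [Finset.sum_congr rfl h]
  exact hS p

include hs₀ in
theorem proj0_sec (S : Finset N) (p : (irr 𝒜 hz).Cotangent) :
    proj0 𝒜 hz (sec 𝒜 hz s₀ S p) = 0 := by
  rw [sec_apply, map_sum]
  refine Finset.sum_eq_zero fun n _ => ?_
  by_cases hn : n = 0
  · subst hn
    rw [ebar_zero 𝒜 hz s₀ hs₀, map_zero, map_zero, map_zero]
  · apply Subtype.ext
    rw [coe_proj0, comp_comp, if_neg hn]
    rfl

include hs₀ in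
theorem sec_qmap_mem (S : Finset N) {n : N} {x : A} (hx : x ∈ 𝒜 n) :
    sec 𝒜 hz s₀ S (qmap 𝒜 hz x) ∈ 𝒜 n := by
  rw [sec_apply]
  refine Submodule.sum_mem _ fun m _ => ?_
  rw [ebar_qmap 𝒜 hz s₀ hs₀]
  by_cases hm : m = n
  · subst hm
    exact comp_mem 𝒜 _ _
  · rw [comp_of_mem_ne 𝒜 hx (Ne.symm hm), map_zero, map_zero, map_zero]
    exact zero_mem _

include hs₀ in
theorem lift_sec_surjective (ℓ : N → ℕ) (hℓ : ∀ a b : N, b ≠ 0 → ℓ a < ℓ (a + b))
    (S : Finset N) (hS : ∀ p, ∑ n ∈ S, ebar 𝒜 hz s₀ n p = p) :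
    Function.Surjective (SymmetricAlgebra.lift (sec 𝒜 hz s₀ S)) := by
  set Φ := SymmetricAlgebra.lift (sec 𝒜 hz s₀ S) with hΦ
  have key : ∀ k : ℕ, ∀ n : N, ℓ n = k → ∀ x ∈ 𝒜 n, x ∈ Φ.range := by
    intro k
    induction k using Nat.strong_induction_on with
    | _ k ih =>
      intro n hn x hx
      by_cases h0 : n = 0
      · subst h0
        refine ⟨algebraMap (𝒜 0) (SymmetricAlgebra (𝒜 0) (irr 𝒜 hz).Cotangent) ⟨x, hx⟩, ?_⟩
        change Φ (algebraMap (𝒜 0) (SymmetricAlgebra (𝒜 0) (irr 𝒜 hz).Cotangent) ⟨x, hx⟩) = x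
        rw [AlgHom.commutes]
        rfl
      · have hsx := sec_qmap_mem 𝒜 hz s₀ hs₀ S hx
        have hw𝒜 : x - sec 𝒜 hz s₀ S (qmap 𝒜 hz x) ∈ 𝒜 n := Submodule.sub_mem _ hx hsx
        have hwI := mem_irr_of_mem 𝒜 hz h0 hw𝒜
        have hq : qmap 𝒜 hz (x - sec 𝒜 hz s₀ S (qmap 𝒜 hz x)) = 0 := by
          rw [map_sub, qmap_sec 𝒜 hz s₀ hs₀ S hS, sub_self]
        have hw2 := mem_sq_of_qmap_eq_zero 𝒜 hz hwI hq
        have hcomp : ∀ w ∈ irr 𝒜 hz ^ 2, comp 𝒜 n w ∈ Φ.range := by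
          intro w hw
          rw [sq] at hw
          induction hw using Submodule.mul_induction_on' with
          | mem_mul_mem y hy z hz' =>
            refine comp_mul_mem 𝒜 hz (Subalgebra.toSubmodule Φ.range).toAddSubmonoid hy hz' n ?_
            intro a b ha hb hab
            have hla : ℓ a < k := by rw [← hn, ← hab]; exact hℓ a b hb
            have hlb : ℓ b < k := by rw [← hn, ← hab, add_comm]; exact hℓ b a ha
            exact Φ.range.mul_mem (ih _ hla a rfl _ (comp_mem 𝒜 a y))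
              (ih _ hlb b rfl _ (comp_mem 𝒜 b z))
          | add x _ y _ hx hy =>
            rw [map_add]
            exact Φ.range.add_mem hx hy
        have hw' : x - sec 𝒜 hz s₀ S (qmap 𝒜 hz x) ∈ Φ.range := by
          rw [← comp_of_mem 𝒜 hw𝒜]
          exact hcomp _ hw2
        have hx' : x = (x - sec 𝒜 hz s₀ S (qmap 𝒜 hz x)) + sec 𝒜 hz s₀ S (qmap 𝒜 hz x) := by
          ring
        rw [hx']
        exact Φ.range.add_mem hw' ⟨ι _ _ (qmap 𝒜 hz x), lift_ι_apply _ _⟩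
  intro x
  obtain ⟨T, -, hsum⟩ := exists_sum_comp 𝒜 x
  have hx : x ∈ Φ.range := by
    rw [hsum]
    exact Subalgebra.sum_mem _ (fun n _ => key _ n rfl _ (comp_mem 𝒜 n x))
  exact hx

end Ebar

end Groth.Agent.Lib.Helper25.GrSm
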