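import Mathlib
import Groth.Prelude.Def_CAlg
import Groth.Agent.Lib.Helper25GrDim
import Groth.Agent.Lib.Helper25DepthUnion
import Groth.Agent.Lib.Helper28DepthBC
import Groth.Agent.Lib.Helper28DepthMore
import Groth.Agent.Lib.Helper28DepthLoc

/-!
# Unions of graded Cohen–Macaulay schemes meeting in codimension one, at the vertex (helper25)
-/

noncomputable section

namespace Groth.Agent.Lib.Helper25.GrUnion

open DirectSum Groth.Agent.Lib.Helper25.GrDim Groth.Agent.Lib.Helper28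

universe u v

variable {K : Type u} [Field K] {A : Type v} [CommRing A] [Algebra K A] [IsNoetherianRing A]
  (𝒜 : ℕ → Submodule K A) [GradedAlgebra 𝒜]
  (h0 : ∀ a ∈ 𝒜 0, ∃ c : K, algebraMap K A c = a)
include h0

theorem ne_top_of_dim {I : Ideal A} {e : ℕ} (hdim : ringKrullDim (A ⧸ I) = (e : WithBot ℕ∞)) :
    I ≠ ⊤ := by
  intro h
  have : Subsingleton (A ⧸ I) := Ideal.Quotient.subsingleton_iff.mpr h
  rw [ringKrullDim_eq_bot_of_subsingleton] at hdim
  exact absurd hdim (by simp)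

/-- the depth of a graded Cohen–Macaulay quotient at the irrelevant ideal is its dimension -/
theorem le_idealDepth_of_cm (I : Ideal A) (hI : I.IsHomogeneous 𝒜)
    (hcm : LocCoh.IsCohenMacaulayRing (A ⧸ I)) (e : ℕ)
    (hdim : ringKrullDim (A ⧸ I) = (e : WithBot ℕ∞)) :
    (e : ℕ∞) ≤ LocCoh.idealDepth (irr 𝒜) (A ⧸ I) := by
  have hI' : I ≠ ⊤ := ne_top_of_dim 𝒜 h0 hdim
  have hnt : Nontrivial A := by
    by_contra h
    rw [not_nontrivial_iff_subsingleton] at h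
    exact hI' (Subsingleton.elim _ _)
  have hIM := le_irr_of_isHomogeneous 𝒜 h0 I hI hI'
  have hmax := irr_isMaximal 𝒜 h0
  have hne : (irr 𝒜).map (Ideal.Quotient.mk I) ≠ ⊤ :=
    (Ideal.IsMaximal.map_of_surjective_of_ker_le Ideal.Quotient.mk_surjective
      (by rwa [Ideal.mk_ker]) : ((irr 𝒜).map (Ideal.Quotient.mk I)).IsMaximal).ne_top
  rw [idealDepth_restrictScalars_eq_idealDepth_map (A := A) (B := A ⧸ I) (irr 𝒜) (A ⧸ I),
    Ideal.Quotient.algebraMap_eq,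
    idealDepth_self_eq_height_of_isCohenMacaulayRing hcm _ hne]
  have h1 := ringKrullDim_quotient_le_height 𝒜 h0 I hI hI'
  rw [hdim] at h1
  exact_mod_cast h1


/-- the union of two graded Cohen–Macaulay schemes of dimension `e` meeting in a Cohen–Macaulay
scheme of dimension `e - 1` is Cohen–Macaulay of dimension `e` at the vertex -/
theorem cm_at_vertex_inf (I J : Ideal A) (hI : I.IsHomogeneous 𝒜) (hJ : J.IsHomogeneous 𝒜)
    (e : ℕ)
    (hIcm : LocCoh.IsCohenMacaulayRing (A ⧸ I)) (hJcm : LocCoh.IsCohenMacaulayRing (A ⧸ J))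
    (hIJcm : LocCoh.IsCohenMacaulayRing (A ⧸ (I ⊔ J)))
    (hIdim : ringKrullDim (A ⧸ I) = (e : WithBot ℕ∞))
    (hJdim : ringKrullDim (A ⧸ J) = (e : WithBot ℕ∞))
    (hIJdim : ringKrullDim (A ⧸ (I ⊔ J)) = ((e - 1 : ℕ) : WithBot ℕ∞))
    [hm : ((irr 𝒜).map (Ideal.Quotient.mk (I ⊓ J))).IsPrime] :
    LocCoh.IsCohenMacaulayLocalRing
        (Localization.AtPrime ((irr 𝒜).map (Ideal.Quotient.mk (I ⊓ J)))) ∧
      ringKrullDim (Localization.AtPrime ((irr 𝒜).map (Ideal.Quotient.mk (I ⊓ J)))) =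
        (e : WithBot ℕ∞) := by
  have d1 := le_idealDepth_of_cm 𝒜 h0 I hI hIcm e hIdim
  have d2 := le_idealDepth_of_cm 𝒜 h0 J hJ hJcm e hJdim
  have d3 := le_idealDepth_of_cm 𝒜 h0 (I ⊔ J) (hI.sup hJ) hIJcm (e - 1) hIJdim
  have d4 := Groth.Agent.Lib.Helper25.DepthUnion.le_idealDepth_inf (irr 𝒜) I J e d1 d2 d3
  rw [idealDepth_restrictScalars_eq_idealDepth_map (A := A) (B := A ⧸ (I ⊓ J)) (irr 𝒜)
    (A ⧸ (I ⊓ J)), Ideal.Quotient.algebraMap_eq] at d4
  have d5 := idealDepth_le_depth_localization ((irr 𝒜).map (Ideal.Quotient.mk (I ⊓ J)))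
    (A ⧸ (I ⊓ J)) (le_refl ((irr 𝒜).map (Ideal.Quotient.mk (I ⊓ J))))
  rw [depth_localizedModule_self] at d5
  have hdimB : ringKrullDim (A ⧸ (I ⊓ J)) ≤ (e : WithBot ℕ∞) := by
    have := Groth.Agent.Lib.Helper29.Conn.dim_inf_sup_le I J ⊥
    rw [sup_bot_eq, sup_bot_eq, sup_bot_eq, hIdim, hJdim, max_self] at this
    exact this
  have hdimloc : ringKrullDim (Localization.AtPrime ((irr 𝒜).map (Ideal.Quotient.mk (I ⊓ J)))) ≤
      (e : WithBot ℕ∞) := by
    rw [IsLocalization.AtPrime.ringKrullDim_eq_height ((irr 𝒜).map (Ideal.Quotient.mk (I ⊓ J)))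
      (Localization.AtPrime ((irr 𝒜).map (Ideal.Quotient.mk (I ⊓ J))))]
    exact (Ideal.height_le_ringKrullDim_of_ne_top hm.ne_top).trans hdimB
  have h3 : ((LocCoh.depth (Localization.AtPrime ((irr 𝒜).map (Ideal.Quotient.mk (I ⊓ J))))
      (Localization.AtPrime ((irr 𝒜).map (Ideal.Quotient.mk (I ⊓ J)))) : ℕ∞) : WithBot ℕ∞) ≤
      Module.supportDim (Localization.AtPrime ((irr 𝒜).map (Ideal.Quotient.mk (I ⊓ J))))
        (Localization.AtPrime ((irr 𝒜).map (Ideal.Quotient.mk (I ⊓ J)))) :=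
    Groth.Agent.Lib.Helper28.depth_le_supportDim
  rw [Module.supportDim_self_eq_ringKrullDim] at h3
  have h4 : (e : WithBot ℕ∞) ≤
      ((LocCoh.depth (Localization.AtPrime ((irr 𝒜).map (Ideal.Quotient.mk (I ⊓ J))))
      (Localization.AtPrime ((irr 𝒜).map (Ideal.Quotient.mk (I ⊓ J)))) : ℕ∞) : WithBot ℕ∞) := by
    have := d4.trans d5
    exact_mod_cast this
  refine ⟨{ supportDim_eq_depth := ?_ }, ?_⟩
  · rw [Module.supportDim_self_eq_ringKrullDim]
    exact le_antisymm (hdimloc.trans h4) h3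
  · exact le_antisymm hdimloc (h4.trans h3)

end Groth.Agent.Lib.Helper25.GrUnion
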