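import Mathlib

/-!
# A Nagata-type UFD criterion in embedded form (helper25)

`R ↪ C` with `C` a UFD, `x ∈ R` prime with prime image, and every element of `C` of the form
`φ(a) / φ(x)^k`: then `R` is a UFD.
-/

namespace Groth.Agent.Lib.Helper25.Nagata

variable {R C : Type*} [CommRing R] [IsDomain R] [CommRing C] [IsDomain C]

theorem pow_mul_eq_pow_mul {x a b : R} (hx : Prime x) (ha : ¬ x ∣ a) (hb : ¬ x ∣ b) {m m' : ℕ}
    (h : x ^ m * a = x ^ m' * b) : m = m' ∧ a = b := by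
  wlog hmm : m ≤ m' generalizing m m' a b
  · obtain ⟨h1, h2⟩ := this hb ha h.symm (le_of_not_ge hmm)
    exact ⟨h1.symm, h2.symm⟩
  obtain ⟨k, rfl⟩ := Nat.exists_eq_add_of_le hmm
  rw [pow_add, mul_assoc] at h
  have h1 := mul_left_cancel₀ (pow_ne_zero m hx.ne_zero) h
  rcases Nat.eq_zero_or_pos k with rfl | hk
  · rw [pow_zero, one_mul] at h1
    exact ⟨rfl, h1⟩
  · exfalso
    apply ha
    rw [h1]
    exact Dvd.dvd.mul_right (dvd_pow_self x hk.ne') b

theorem dvd_of_dvd_map (φ : R →+* C) (hφ : Function.Injective φ) (x : R) (hx : Prime x)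
    (hsurj : ∀ g : C, ∃ (a : R) (k : ℕ), φ x ^ k * g = φ a) {a b : R} (hxa : ¬ x ∣ a) {e : ℕ}
    {g : C} (hag : φ a = φ x ^ e * g) (hgb : g ∣ φ b) : a ∣ b := by
  obtain ⟨h, hh⟩ := hgb
  obtain ⟨r, k, hr⟩ := hsurj h
  have h1 : x ^ (k + e) * b = a * r := by
    apply hφ
    rw [map_mul, map_mul, map_pow, hh, hag, ← hr]
    ring
  have h2 : x ^ (k + e) ∣ r := hx.pow_dvd_of_dvd_mul_left _ hxa ⟨b, h1.symm⟩
  obtain ⟨r', rfl⟩ := h2
  refine ⟨r', ?_⟩
  apply mul_left_cancel₀ (pow_ne_zero (k + e) hx.ne_zero)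
  rw [h1]
  ring

theorem isUnit_of_factor (φ : R →+* C) (x : R) (hp : Prime (φ x)) {g₁ : C} (hpg₁ : ¬ φ x ∣ g₁)
    {k β : ℕ} {a' : R} (ha' : IsUnit a') (h : φ x ^ k * g₁ = φ (x ^ β * a')) : IsUnit g₁ := by
  have hu : IsUnit (φ a') := ha'.map φ
  rw [map_mul, map_pow] at h
  have h1 := pow_mul_eq_pow_mul hp hpg₁ (fun hd => hp.not_unit (isUnit_of_dvd_unit hd hu)) h
  rw [h1.2]
  exact hu

theorem prime_of_irreducible [WfDvdMonoid R] [UniqueFactorizationMonoid C] (φ : R →+* C)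
    (hφ : Function.Injective φ) (x : R) (hx : Prime x) (hp : Prime (φ x))
    (hsurj : ∀ g : C, ∃ (a : R) (k : ℕ), φ x ^ k * g = φ a) {a : R} (ha : Irreducible a)
    (hxa : ¬ x ∣ a) : Prime a := by
  have hφa : φ a ≠ 0 := by
    rw [Ne, map_eq_zero_iff φ hφ]
    exact ha.ne_zero
  obtain ⟨e, g, hpg, hag⟩ := WfDvdMonoid.max_power_factor hφa hp.irreducible
  have hg0 : g ≠ 0 := by
    rintro rfl
    rw [mul_zero] at hag
    exact hφa hag
  have hgu : ¬ IsUnit g := by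
    intro hu
    obtain ⟨g', hg'⟩ := hu.exists_right_inv
    obtain ⟨r, k, hr⟩ := hsurj g'
    have h1 : a * r = x ^ (e + k) := by
      apply hφ
      rw [map_mul, map_pow, hag, ← hr, pow_add]
      calc φ x ^ e * g * (φ x ^ k * g') = φ x ^ e * φ x ^ k * (g * g') := by ring
        _ = _ := by rw [hg', mul_one]
    have h2 : x ^ (e + k) ∣ r := hx.pow_dvd_of_dvd_mul_left _ hxa ⟨1, by rw [h1, mul_one]⟩
    obtain ⟨r', rfl⟩ := h2
    have h3 : a * r' = 1 := by
      apply mul_left_cancel₀ (pow_ne_zero (e + k) hx.ne_zero)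
      rw [mul_one]
      calc x ^ (e + k) * (a * r') = a * (x ^ (e + k) * r') := by ring
        _ = _ := h1
    exact ha.not_isUnit (IsUnit.of_mul_eq_one _ h3)
  have hgi : Irreducible g := by
    rw [irreducible_iff]
    refine ⟨hgu, ?_⟩
    intro g₁ g₂ hg12
    obtain ⟨a₁, k₁, h₁⟩ := hsurj g₁
    obtain ⟨a₂, k₂, h₂⟩ := hsurj g₂
    have hg₁0 : g₁ ≠ 0 := by
      rintro rfl
      rw [zero_mul] at hg12
      exact hg0 hg12
    have hg₂0 : g₂ ≠ 0 := by
      rintro rfl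
      rw [mul_zero] at hg12
      exact hg0 hg12
    have ha₁0 : a₁ ≠ 0 := by
      rintro rfl
      rw [map_zero] at h₁
      exact (mul_ne_zero (pow_ne_zero _ hp.ne_zero) hg₁0) h₁
    have ha₂0 : a₂ ≠ 0 := by
      rintro rfl
      rw [map_zero] at h₂
      exact (mul_ne_zero (pow_ne_zero _ hp.ne_zero) hg₂0) h₂
    obtain ⟨β, a₁', hxa₁', rfl⟩ := WfDvdMonoid.max_power_factor ha₁0 hx.irreducible
    obtain ⟨γ, a₂', hxa₂', rfl⟩ := WfDvdMonoid.max_power_factor ha₂0 hx.irreducible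
    have key : x ^ (k₁ + k₂) * a = x ^ (e + β + γ) * (a₁' * a₂') := by
      apply hφ
      have h₁' := h₁
      have h₂' := h₂
      simp only [map_mul, map_pow] at h₁' h₂' ⊢
      rw [hag, hg12]
      calc φ x ^ (k₁ + k₂) * (φ x ^ e * (g₁ * g₂))
          = φ x ^ e * (φ x ^ k₁ * g₁) * (φ x ^ k₂ * g₂) := by ring
        _ = φ x ^ e * (φ x ^ β * φ a₁') * (φ x ^ γ * φ a₂') := by rw [h₁', h₂']
        _ = _ := by ring
    have hnd : ¬ x ∣ a₁' * a₂' := fun h => (hx.dvd_or_dvd h).elim hxa₁' hxa₂'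
    obtain ⟨-, haa⟩ := pow_mul_eq_pow_mul hx hxa hnd key
    rcases ha.isUnit_or_isUnit haa with hu | hu
    · left
      exact isUnit_of_factor φ x hp (fun hd => hpg (hd.trans ⟨g₂, hg12⟩)) hu h₁
    · right
      exact isUnit_of_factor φ x hp
        (fun hd => hpg (hd.trans ⟨g₁, by rw [hg12, mul_comm]⟩)) hu h₂
  have hgp : Prime g := UniqueFactorizationMonoid.irreducible_iff_prime.mp hgi
  refine ⟨ha.ne_zero, ha.not_isUnit, fun b c hbc => ?_⟩
  have h1 : g ∣ φ b * φ c := by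
    rw [← map_mul]
    exact (Dvd.intro_left (φ x ^ e) hag.symm).trans (map_dvd φ hbc)
  rcases hgp.dvd_or_dvd h1 with h | h
  · left
    exact dvd_of_dvd_map φ hφ x hx hsurj hxa hag h
  · right
    exact dvd_of_dvd_map φ hφ x hx hsurj hxa hag h

/-- Nagata-type criterion in embedded form. -/
theorem ufd_of_embedding [WfDvdMonoid R] [UniqueFactorizationMonoid C] (φ : R →+* C)
    (hφ : Function.Injective φ) (x : R) (hx : Prime x) (hp : Prime (φ x))
    (hsurj : ∀ g : C, ∃ (a : R) (k : ℕ), φ x ^ k * g = φ a) :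
    UniqueFactorizationMonoid R :=
  { (inferInstance : WfDvdMonoid R) with
    irreducible_iff_prime := by
      intro a
      refine ⟨fun ha => ?_, Prime.irreducible⟩
      by_cases hxa : x ∣ a
      · obtain ⟨u, rfl⟩ := hxa
        have hu : IsUnit u := (ha.isUnit_or_isUnit rfl).resolve_left hx.not_unit
        obtain ⟨u, rfl⟩ := hu
        exact (Associated.prime_iff ⟨u, rfl⟩).mp hx
      · exact prime_of_irreducible φ hφ x hx hp hsurj ha hxa }

end Groth.Agent.Lib.Helper25.Nagata
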