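import Mathlib
import Groth.Prelude.Def_W4bk4grassmannianPl
import Groth.Agent.Lib.Helper25GrassNormal
import Groth.Agent.Lib.Helper25GrassDivisors
import Groth.Agent.Lib.Helper25Nagata
import Groth.Agent.S11254
import Groth.Agent.S11268

/-!
# Factoriality of Schubert varieties (helper25)
-/

noncomputable section

open MvPolynomial W4bk4grassmannian

namespace Groth.Agent.Lib.Helper25.Grass

variable {d n : ℕ} (K : Type*) [Field K]

theorem cellPhiBar_algebraMap [Infinite K] (hd : 0 < d) (τ : Idx d n) (r : K) :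
    cellPhiBar K hd τ (algebraMap K (PlRing K d n ⧸ schubertVanishing K d n τ) r) =
      (C r : CellAlg K τ) := by
  have h0 : algebraMap K (PlRing K d n ⧸ schubertVanishing K d n τ) r =
      Ideal.Quotient.mk _ (algebraMap K (PlRing K d n) r) := rfl
  rw [h0, cellPhiBar_mk, AlgHom.commutes (cellPhi K τ) r]
  rfl

theorem irreducible_mk_X [Infinite K] (hd : 0 < d) (τ : Idx d n) :
    Irreducible (Ideal.Quotient.mk (schubertVanishing K d n τ) (X τ)) := by
  have hp : Prime (X none : CellAlg K τ) := MvPolynomial.X_prime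
  rw [irreducible_iff]
  constructor
  · intro hu
    have h1 := hu.map (cellPhiBar K hd τ)
    rw [cellPhiBar_mk, cellPhi_X_tau] at h1
    exact hp.not_unit h1
  · intro a b hab
    have h1 : (X none : CellAlg K τ) = cellPhiBar K hd τ a * cellPhiBar K hd τ b := by
      rw [← map_mul, ← hab, cellPhiBar_mk, cellPhi_X_tau]
    have key : ∀ c : PlRing K d n ⧸ schubertVanishing K d n τ,
        IsUnit (cellPhiBar K hd τ c) → IsUnit c := by
      intro c hc
      rw [MvPolynomial.isUnit_iff_eq_C_of_isReduced] at hc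
      obtain ⟨r, hr, hcr⟩ := hc
      have h2 : c = algebraMap K _ r := by
        apply cellPhiBar_injective K hd τ
        rw [hcr, cellPhiBar_algebraMap]
      rw [h2]
      exact hr.map _
    rcases hp.irreducible.isUnit_or_isUnit h1 with h | h
    · left
      exact key a h
    · right
      exact key b h

theorem ufd_of_prime [Infinite K] (hd : 0 < d) (τ : Idx d n)
    (h : Prime (Ideal.Quotient.mk (schubertVanishing K d n τ) (X τ))) :
    UniqueFactorizationMonoid (PlRing K d n ⧸ schubertVanishing K d n τ) := by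
  have := schubert_isPrime K hd τ
  have : IsDomain (PlRing K d n ⧸ schubertVanishing K d n τ) := Ideal.Quotient.isDomain _
  apply Groth.Agent.Lib.Helper25.Nagata.ufd_of_embedding (cellPhiBar K hd τ)
    (cellPhiBar_injective K hd τ) _ h
  · rw [cellPhiBar_mk, cellPhi_X_tau]
    exact MvPolynomial.X_prime
  · intro g
    obtain ⟨F, k, hF⟩ := exists_cellPhi_eq K hd τ g
    refine ⟨Ideal.Quotient.mk _ F, k, ?_⟩
    rw [cellPhiBar_mk, cellPhiBar_mk, cellPhi_X_tau]
    exact hF

theorem ufd_iff_prime [Infinite K] (hd : 0 < d) (τ : Idx d n) :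
    UniqueFactorizationMonoid (PlRing K d n ⧸ schubertVanishing K d n τ) ↔
      Prime (Ideal.Quotient.mk (schubertVanishing K d n τ) (X τ)) := by
  constructor
  · intro hufd
    exact UniqueFactorizationMonoid.irreducible_iff_prime.mp (irreducible_mk_X K hd τ)
  · exact ufd_of_prime K hd τ

theorem prime_mk_iff (τ : Idx d n) (hne : (X τ : PlRing K d n) ∉ schubertVanishing K d n τ) :
    Prime (Ideal.Quotient.mk (schubertVanishing K d n τ) (X τ)) ↔
      (schubertVanishing K d n τ ⊔ Ideal.span {(X τ : PlRing K d n)}).IsPrime := by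
  constructor
  · intro hp
    rw [Ideal.isPrime_iff]
    constructor
    · intro htop
      have h1 : (1 : PlRing K d n) ∈
          schubertVanishing K d n τ ⊔ Ideal.span {(X τ : PlRing K d n)} := by
        rw [htop]
        trivial
      rw [← dvd_mk_iff, map_one] at h1
      exact hp.not_unit (isUnit_of_dvd_one h1)
    · intro a b hab
      rw [← dvd_mk_iff, map_mul] at hab
      rw [← dvd_mk_iff, ← dvd_mk_iff]
      exact hp.dvd_or_dvd hab
  · intro hI
    refine ⟨?_, ?_, ?_⟩
    · rw [Ne, Ideal.Quotient.eq_zero_iff_mem]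
      exact hne
    · intro hu
      have h1 : Ideal.Quotient.mk (schubertVanishing K d n τ) (X τ) ∣
          Ideal.Quotient.mk (schubertVanishing K d n τ) 1 := by
        rw [map_one]
        exact hu.dvd
      rw [dvd_mk_iff] at h1
      exact hI.ne_top ((Ideal.eq_top_iff_one _).mpr h1)
    · intro a b hab
      obtain ⟨a, rfl⟩ := Ideal.Quotient.mk_surjective a
      obtain ⟨b, rfl⟩ := Ideal.Quotient.mk_surjective b
      rw [← map_mul, dvd_mk_iff] at hab
      rw [dvd_mk_iff, dvd_mk_iff]
      exact hI.mem_or_mem hab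

theorem cellPhiBar_surjective_of_minimal [Infinite K] (hd : 0 < d) (hdn : d < n) (τ : Idx d n)
    (hτ : ¬ ∃ φ : Idx d n, φ < τ) : Function.Surjective (cellPhiBar K hd τ) := by
  have := free_isEmpty_of_minimal hdn τ hτ
  intro g
  induction g using MvPolynomial.induction_on with
  | C a =>
    refine ⟨algebraMap K _ a, ?_⟩
    rw [cellPhiBar_algebraMap]
  | add g₁ g₂ h₁ h₂ =>
    obtain ⟨a1, h1⟩ := h₁
    obtain ⟨a2, h2⟩ := h₂
    exact ⟨a1 + a2, by rw [map_add, h1, h2]⟩
  | mul_X g o hg =>
    obtain ⟨a, ha⟩ := hg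
    rcases o with _ | f
    · refine ⟨a * Ideal.Quotient.mk _ (X τ), ?_⟩
      rw [map_mul, ha, cellPhiBar_mk, cellPhi_X_tau]
    · exact (IsEmpty.false f).elim

theorem prime_iff_subsingleton [IsAlgClosed K] (hd : 0 < d) (hdn : d < n) (τ : Idx d n) :
    Prime (Ideal.Quotient.mk (schubertVanishing K d n τ) (X τ)) ↔ (divisors τ).Subsingleton := by
  classical
  have hne := X_tau_not_mem K hd τ
  by_cases hτ : ∃ φ : Idx d n, φ < τ
  · rw [prime_mk_iff K τ hne, Groth.Agent.S11254.result K d n hd hdn τ hτ]
    constructor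
    · intro hP
      have h1 : (⨅ φ ∈ divisors τ, schubertVanishing K d n φ) =
          (divisors τ).toFinset.inf (fun φ => schubertVanishing K d n φ) := by
        rw [Finset.inf_eq_iInf]
        simp only [Set.mem_toFinset]
      rw [h1] at hP
      obtain ⟨φ₀, hφ₀, hle⟩ := (Ideal.IsPrime.inf_le' hP).mp le_rfl
      have key : ∀ φ ∈ divisors τ, φ = φ₀ := by
        intro φ hφ
        have hle2 : schubertVanishing K d n φ₀ ≤ schubertVanishing K d n φ :=
          hle.trans (Finset.inf_le (Set.mem_toFinset.mpr hφ))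
        have h3 : φ ≤ φ₀ := by
          by_contra hcon
          exact X_tau_not_mem K hd φ (hle2 (X_mem_schubert K φ₀ φ hcon))
        apply eq_of_le_of_codeg_eq h3
        have e1 := hφ.2
        have e2 := (Set.mem_toFinset.mp hφ₀).2
        omega
      intro φ₁ h₁ φ₂ h₂
      rw [key φ₁ h₁, key φ₂ h₂]
    · intro hsub
      obtain ⟨φ₀, hφ₀⟩ := hτ
      obtain ⟨δ, hδ, -⟩ := Groth.Agent.S11268.result d n φ₀ τ hφ₀
      have h1 : (⨅ φ ∈ divisors τ, schubertVanishing K d n φ) = schubertVanishing K d n δ := by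
        apply le_antisymm
        · exact iInf₂_le δ hδ
        · apply le_iInf₂
          intro φ hφ
          rw [hsub hφ hδ]
      rw [h1]
      exact schubert_isPrime K hd δ
  · have hempty : divisors τ = ∅ := by
      ext φ
      simp only [Set.mem_empty_iff_false, iff_false]
      intro hφ
      exact hτ ⟨φ, hφ.1⟩
    constructor
    · intro _
      rw [hempty]
      exact Set.subsingleton_empty
    · intro _
      let e : (PlRing K d n ⧸ schubertVanishing K d n τ) ≃+* CellAlg K τ :=
        RingEquiv.ofBijective (cellPhiBar K hd τ)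
          ⟨cellPhiBar_injective K hd τ, cellPhiBar_surjective_of_minimal K hd hdn τ hτ⟩
      have h1 : Prime (e (Ideal.Quotient.mk (schubertVanishing K d n τ) (X τ))) := by
        show Prime (cellPhiBar K hd τ (Ideal.Quotient.mk (schubertVanishing K d n τ) (X τ)))
        rw [cellPhiBar_mk, cellPhi_X_tau]
        exact MvPolynomial.X_prime
      exact (MulEquiv.prime_iff e.toMulEquiv).mp h1

/-- the UFD criterion for Schubert varieties -/
theorem ufd_schubert_tfae [IsAlgClosed K] (hd : 0 < d) (hdn : d < n) (τ : Idx d n) :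
    (UniqueFactorizationMonoid (PlRing K d n ⧸ schubertVanishing K d n τ) ↔
        Prime (Ideal.Quotient.mk (schubertVanishing K d n τ) (MvPolynomial.X τ))) ∧
      (Prime (Ideal.Quotient.mk (schubertVanishing K d n τ) (MvPolynomial.X τ)) ↔
        (divisors τ).Subsingleton) ∧
      ((divisors τ).Subsingleton ↔
        ∃ s : ℕ, (∀ t : Fin d, t.val < s → (τ.1 t).val = t.val) ∧
          ∀ t t' : Fin d, s ≤ t.val → t.val + 1 = t'.val → (τ.1 t).val + 1 = (τ.1 t').val) :=
  ⟨ufd_iff_prime K hd τ, prime_iff_subsingleton K hd hdn τ, subsingleton_divisors_iff τ⟩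

end Groth.Agent.Lib.Helper25.Grass
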