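import Mathlib.RepresentationTheory.Homological.GroupCohomology.LowDegree
import Mathlib.GroupTheory.OrderOfElement
import Mathlib.FieldTheory.IsSepClosed
import Mathlib.RingTheory.RootsOfUnity.Basic

/-!
# Helper25H2Van: vanishing of `H²(Q, kˣ)` from `H³(Q, ℤ) = 0` (helper25)

* `main`: abstract cocycle argument.  `Q` finite of order `n`, `A` an `n`-divisible abelian group whose
  `n`-torsion is cyclic, every integral 3-cocycle a coboundary ⇒ every 2-cocycle `Q × Q → A`
  (trivial action) is a coboundary.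
* `exists_of_H3`: `Subsingleton (groupCohomology (Rep.trivial ℤ Q ℤ) 3)` in explicit cocycle form.
* `subsingleton_H2`, `units_result`.
-/

set_option autoImplicit false

namespace Groth.Agent.Lib.Helper25.H2Van

open BigOperators

section Abstract

variable {Q : Type*} [Group Q] {A : Type*} [AddCommGroup A]

/-- 2-cocycle condition for the trivial action. -/
def IsC2 (f : Q × Q → A) : Prop :=
  ∀ g h j : Q, f (g * h, j) + f (g, h) = f (h, j) + f (g, h * j)

/-- 2-coboundary condition for the trivial action. -/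
def IsB2 (f : Q × Q → A) : Prop :=
  ∃ x : Q → A, ∀ g h : Q, x h - x (g * h) + x g = f (g, h)

theorem card_smul_eq [Fintype Q] {f : Q × Q → A} (hf : IsC2 f) (g h : Q) :
    Fintype.card Q • f (g, h) =
      (∑ k, f (h, k)) - (∑ k, f (g * h, k)) + ∑ k, f (g, k) := by
  have h1 : ∑ k, (f (g * h, k) + f (g, h)) = ∑ k, (f (h, k) + f (g, h * k)) :=
    Finset.sum_congr rfl (fun k _ => hf g h k)
  rw [Finset.sum_add_distrib, Finset.sum_add_distrib, Finset.sum_const, Finset.card_univ] at h1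
  have h2 : ∑ k, f (g, h * k) = ∑ k, f (g, k) :=
    Fintype.sum_equiv (Equiv.mulLeft h) _ _ (fun k => rfl)
  rw [h2] at h1
  have h3 : Fintype.card Q • f (g, h) =
      ((∑ k, f (g * h, k)) + Fintype.card Q • f (g, h)) - ∑ k, f (g * h, k) := by abel
  rw [h3, h1]
  abel

theorem isB2_card_smul [Fintype Q] {f : Q × Q → A} (hf : IsC2 f) :
    IsB2 (fun p => Fintype.card Q • f p) :=
  ⟨fun g => ∑ k, f (g, k), fun g h => (card_smul_eq hf g h).symm⟩

theorem IsB2.add {f f' : Q × Q → A} (hf : IsB2 f) (hf' : IsB2 f') : IsB2 (fun p => f p + f' p) := by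
  obtain ⟨x, hx⟩ := hf
  obtain ⟨x', hx'⟩ := hf'
  refine ⟨fun g => x g + x' g, fun g h => ?_⟩
  simp only
  rw [← hx, ← hx']
  abel

theorem isC2_of_isB2 {f : Q × Q → A} (hf : IsB2 f) : IsC2 f := by
  obtain ⟨x, hx⟩ := hf
  intro g h j
  rw [← hx, ← hx, ← hx, ← hx, mul_assoc]
  abel

theorem main [Fintype Q] (hdiv : ∀ a : A, ∃ b : A, Fintype.card Q • b = a)
    (ζ : A) (hζ0 : Fintype.card Q • ζ = 0)
    (hζ : ∀ a : A, Fintype.card Q • a = 0 → ∃ m : ℤ, a = m • ζ)
    (hQ : ∀ b : Q × Q × Q → ℤ,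
      (∀ g0 g1 g2 g3 : Q, b (g1, g2, g3) - b (g0 * g1, g2, g3) + b (g0, g1 * g2, g3)
        - b (g0, g1, g2 * g3) + b (g0, g1, g2) = 0) →
      ∃ β : Q × Q → ℤ, ∀ g h j : Q,
        b (g, h, j) = β (h, j) - β (g * h, j) + β (g, h * j) - β (g, h))
    {f : Q × Q → A} (hf : IsC2 f) : IsB2 f := by
  classical
  set n := Fintype.card Q with hn
  have hnpos : 0 < n := Fintype.card_pos
  -- Step 1-2: subtract a coboundary to land in the `n`-torsion
  choose c hc using fun g : Q => hdiv (∑ k, f (g, k))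
  set f' : Q × Q → A := fun p => f p - (c p.2 - c (p.1 * p.2) + c p.1) with hf'
  have hf'C : IsC2 f' := by
    intro g h j
    have := hf g h j
    simp only [hf']
    have e : (f (g * h, j) + f (g, h)) - (f (h, j) + f (g, h * j)) = 0 := by rw [this]; abel
    rw [← sub_eq_zero]
    rw [← e, mul_assoc]
    abel
  have hf'n : ∀ p, n • f' p = 0 := by
    rintro ⟨g, h⟩
    simp only [hf']
    rw [smul_sub, card_smul_eq hf g h, smul_add, smul_sub, hc, hc, hc]
    abel
  -- Step 3: integral exponents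
  choose a ha using fun p : Q × Q => hζ (f' p) (hf'n p)
  -- the order of ζ
  set d := addOrderOf ζ with hd
  have hdpos : 0 < d := by
    rw [hd, addOrderOf_pos_iff]
    exact isOfFinAddOrder_iff_nsmul_eq_zero.mpr ⟨n, hnpos, hζ0⟩
  have hdζ : (d : ℤ) • ζ = 0 := by
    rw [natCast_zsmul]; exact addOrderOf_nsmul_eq_zero ζ
  -- Step 4-5: the defect is divisible by `d`
  have hdef : ∀ g h j : Q, (d : ℤ) ∣ a (h, j) - a (g * h, j) + a (g, h * j) - a (g, h) := by
    intro g h j
    rw [hd, addOrderOf_dvd_iff_zsmul_eq_zero]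
    have h0 := hf'C g h j
    rw [ha, ha, ha, ha] at h0
    rw [sub_smul, add_smul, sub_smul]
    have h1 : a (h, j) • ζ - a (g * h, j) • ζ + a (g, h * j) • ζ - a (g, h) • ζ
        = (a (h, j) • ζ + a (g, h * j) • ζ) - (a (g * h, j) • ζ + a (g, h) • ζ) := by abel
    rw [h1, h0, sub_self]
  choose b hb using hdef
  have hb3 : ∀ g0 g1 g2 g3 : Q, b g1 g2 g3 - b (g0 * g1) g2 g3 + b g0 (g1 * g2) g3
        - b g0 g1 (g2 * g3) + b g0 g1 g2 = 0 := by
    intro g0 g1 g2 g3
    have hd0 : (d : ℤ) ≠ 0 := by exact_mod_cast hdpos.ne'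
    apply mul_left_cancel₀ hd0
    rw [mul_zero]
    simp only [mul_add, mul_sub, ← hb, mul_assoc]
    ring
  obtain ⟨β, hβ⟩ := hQ (fun t => b t.1 t.2.1 t.2.2) hb3
  -- Step 6: integral cocycle
  set e : Q × Q → ℤ := fun p => a p - d * β p with he
  have heC : IsC2 e := by
    intro g h j
    have h1 := hb g h j
    have h2 := hβ g h j
    simp only at h2
    simp only [he]
    rw [h2] at h1
    linarith
  have heζ : ∀ p, e p • ζ = f' p := by
    intro p
    simp only [he]
    rw [sub_smul, mul_comm, mul_smul, hdζ, smul_zero, sub_zero, ← ha]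
  -- Step 7: divide ζ by n
  obtain ⟨ξ, hξ⟩ := hdiv ζ
  set f'' : Q × Q → A := fun p => e p • ξ with hf''
  have hf''C : IsC2 f'' := by
    intro g h j
    simp only [hf'']
    rw [← add_smul, ← add_smul, heC g h j]
  have hf'B : IsB2 f' := by
    have := isB2_card_smul hf''C
    have e2 : (fun p => Fintype.card Q • f'' p) = f' := by
      funext p
      simp only [hf'']
      rw [← hn, smul_comm, hξ, heζ]
    rwa [e2] at this
  have hcB : IsB2 (fun p : Q × Q => c p.2 - c (p.1 * p.2) + c p.1) := ⟨c, fun g h => rfl⟩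
  have := hf'B.add hcB
  have e3 : (fun p => f' p + (c p.2 - c (p.1 * p.2) + c p.1)) = f := by
    funext p
    simp only [hf']
    abel
  rwa [e3] at this

end Abstract

end Groth.Agent.Lib.Helper25.H2Van

namespace Groth.Agent.Lib.Helper25.H2Van

open CategoryTheory groupCohomology

section Bridge

variable {Q : Type} [Group Q]

theorem exists_of_H3 (hQ : Subsingleton (groupCohomology (Rep.trivial ℤ Q ℤ) 3))
    (b : Q × Q × Q → ℤ)
    (hb : ∀ g0 g1 g2 g3 : Q, b (g1, g2, g3) - b (g0 * g1, g2, g3) + b (g0, g1 * g2, g3)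
        - b (g0, g1, g2 * g3) + b (g0, g1, g2) = 0) :
    ∃ β : Q × Q → ℤ, ∀ g h j : Q,
      b (g, h, j) = β (h, j) - β (g * h, j) + β (g, h * j) - β (g, h) := by
  have hex : (inhomogeneousCochains (Rep.trivial ℤ Q ℤ)).ExactAt 3 := by
    rw [HomologicalComplex.exactAt_iff_isZero_homology]
    exact ModuleCat.isZero_of_subsingleton (groupCohomology (Rep.trivial ℤ Q ℤ) 3)
  rw [HomologicalComplex.exactAt_iff' _ 2 3 4 (by simp) (by simp)] at hex
  rw [ShortComplex.moduleCat_exact_iff] at hex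
  let x₂ : (inhomogeneousCochains (Rep.trivial ℤ Q ℤ)).X 3 := fun v => b (v 0, v 1, v 2)
  have hx₂ : (inhomogeneousCochains (Rep.trivial ℤ Q ℤ)).d 3 4 x₂ = 0 := by
    rw [inhomogeneousCochains.d_def]
    ext v
    rw [inhomogeneousCochains.d_hom_apply]
    have e0 : x₂ (fun i => v i.succ) = b (v 1, v 2, v 3) := rfl
    have e1 : x₂ (Fin.contractNth (0 : Fin 4) (· * ·) v) = b (v 0 * v 1, v 2, v 3) := rfl
    have e2 : x₂ (Fin.contractNth (1 : Fin 4) (· * ·) v) = b (v 0, v 1 * v 2, v 3) := rfl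
    have e3 : x₂ (Fin.contractNth (2 : Fin 4) (· * ·) v) = b (v 0, v 1, v 2 * v 3) := rfl
    have e4 : x₂ (Fin.contractNth (3 : Fin 4) (· * ·) v) = b (v 0, v 1, v 2) := rfl
    rw [Fin.sum_univ_four, e0, e1, e2, e3, e4, Rep.trivial_ρ_apply]
    have := hb (v 0) (v 1) (v 2) (v 3)
    change _ = (0 : ℤ)
    simp
    linarith
  obtain ⟨x₁, hx₁⟩ := hex x₂ hx₂
  refine ⟨(cochainsIso₂ (Rep.trivial ℤ Q ℤ)).hom x₁, fun g h j => ?_⟩
  have h1 := congr($(comp_d₂₃_eq (Rep.trivial ℤ Q ℤ)) x₁)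
  have h2 := congrFun h1 (g, h, j)
  have h3 : (ConcreteCategory.hom ((inhomogeneousCochains (Rep.trivial ℤ Q ℤ)).d 2 3)) x₁ = x₂ := hx₁
  have h4 : (ConcreteCategory.hom (d₂₃ (Rep.trivial ℤ Q ℤ)))
      ((ConcreteCategory.hom (cochainsIso₂ (Rep.trivial ℤ Q ℤ)).hom) x₁) (g, h, j) =
      (ConcreteCategory.hom (cochainsIso₃ (Rep.trivial ℤ Q ℤ)).hom)
        ((ConcreteCategory.hom ((inhomogeneousCochains (Rep.trivial ℤ Q ℤ)).d 2 3)) x₁) (g, h, j) := h2
  rw [h3, d₂₃_hom_apply] at h4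
  rw [Representation.trivial_apply] at h4
  rw [h4]
  rfl

end Bridge

end Groth.Agent.Lib.Helper25.H2Van

namespace Groth.Agent.Lib.Helper25.H2Van

open CategoryTheory groupCohomology

section Final

variable {Q : Type} [Group Q] [Finite Q]

theorem subsingleton_H2 (A : Type) [AddCommGroup A]
    (hQ : Subsingleton (groupCohomology (Rep.trivial ℤ Q ℤ) 3))
    (hdiv : ∀ a : A, ∃ b : A, Nat.card Q • b = a)
    (hcyc : ∃ ζ : A, Nat.card Q • ζ = 0 ∧ ∀ a : A, Nat.card Q • a = 0 → ∃ m : ℤ, a = m • ζ) :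
    Subsingleton (groupCohomology (Rep.trivial ℤ Q A) 2) := by
  haveI : Fintype Q := Fintype.ofFinite Q
  rw [Nat.card_eq_fintype_card] at hdiv hcyc
  obtain ⟨ζ, hζ0, hζ⟩ := hcyc
  suffices h : ∀ x : groupCohomology (Rep.trivial ℤ Q A) 2, x = 0 from
    ⟨fun x y => (h x).trans (h y).symm⟩
  intro x
  induction x using H2_induction_on with
  | h x =>
    rw [H2π_eq_zero_iff]
    have hC : IsC2 (x : Q × Q → A) := by
      intro g h j
      have := (mem_cocycles₂_iff (x : Q × Q → A)).1 x.2 g h j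
      rwa [Rep.trivial_ρ_apply] at this
    obtain ⟨y, hy⟩ := main hdiv ζ hζ0 hζ (exists_of_H3 hQ) hC
    refine ⟨y, ?_⟩
    funext p
    rw [d₁₂_hom_apply, Rep.trivial_ρ_apply]
    exact hy p.1 p.2

end Final

end Groth.Agent.Lib.Helper25.H2Van

namespace Groth.Agent.Lib.Helper25.H2Van

theorem units_result (Q : Type) [Group Q] [Finite Q]
    (hQ : Subsingleton (groupCohomology (Rep.trivial ℤ Q ℤ) 3)) (k : Type) [Field k] [IsSepClosed k]
    (p : ℕ) [CharP k p] (hp : ¬ p ∣ Nat.card Q) :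
    Subsingleton (groupCohomology (Rep.trivial ℤ Q (Additive kˣ)) 2) := by
  set n := Nat.card Q with hn
  have hn0 : n ≠ 0 := Nat.card_pos.ne'
  haveI : NeZero (n : k) := ⟨by rwa [Ne, CharP.cast_eq_zero_iff k p n]⟩
  haveI : NeZero n := ⟨hn0⟩
  apply subsingleton_H2 (Additive kˣ) hQ
  · intro a
    obtain ⟨z, hz⟩ := IsSepClosed.exists_pow_nat_eq ((Additive.toMul a : kˣ) : k) n
    have hz0 : z ≠ 0 := by
      rintro rfl
      rw [zero_pow hn0] at hz
      exact (Units.ne_zero _) hz.symm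
    refine ⟨Additive.ofMul (Units.mk0 z hz0), ?_⟩
    rw [← ofMul_pow]
    apply Additive.toMul.injective
    apply Units.ext
    simpa using hz
  · obtain ⟨g, hg⟩ := IsCyclic.exists_generator (α := rootsOfUnity n k)
    refine ⟨Additive.ofMul (g : kˣ), ?_, fun a ha => ?_⟩
    · rw [← ofMul_pow]
      have := g.2
      rw [mem_rootsOfUnity] at this
      rw [this]; rfl
    · have ha' : Additive.toMul a ∈ rootsOfUnity n k := by
        rw [mem_rootsOfUnity]
        have := congrArg Additive.toMul ha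
        simpa using this
      obtain ⟨m, hm⟩ := Subgroup.mem_zpowers_iff.1 (hg ⟨Additive.toMul a, ha'⟩)
      refine ⟨m, ?_⟩
      rw [← ofMul_zpow]
      have := congrArg (fun u : rootsOfUnity n k => (u : kˣ)) hm
      simp only [Subgroup.coe_zpow] at this
      rw [this]; rfl

end Groth.Agent.Lib.Helper25.H2Van
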