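import Groth.Agent.Lib.Helper25AdicJ

/-!
# Generalities for the henselian/completion comparison (helper25)

* `idem_eq_zero_of_finite`, `idem_eq_of_finite_quot`: idempotents in `I Λ` with finite quotients.
* `mem_of_one_tmul_mem_map`: faithfully flat descent of ideal membership.
* `bc2`, `bc2_injective`: `X ⊗ X → (P ⊗ X) ⊗_P (P ⊗ X)` for plain algebras.
* `isHopfIdeal_of_baseChange`: descent of Hopf ideals.
* `isHopfIdeal_ker`: kernels of surjective bialgebra maps are Hopf ideals.
* `exists_bialgHom_factor`: factorisation through a surjective bialgebra map.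
-/

set_option autoImplicit false
set_option linter.unusedSectionVars false
set_option linter.style.haveILetI false
universe u

namespace Groth.Agent.Lib.Helper25.HC

open TensorProduct SGA3b Groth.Agent.Lib.Helper25

section Idem

variable {P : Type u} [CommRing P] {Λ : Type u} [CommRing Λ] [Algebra P Λ]

theorem idem_eq_zero_of_finite [Module.Finite P Λ] (I : Ideal P) (hI : I ≤ Ideal.jacobson ⊥)
    (f : Λ) (hf : IsIdempotentElem f) (hfI : f ∈ I.map (algebraMap P Λ)) : f = 0 := by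
  let N : Submodule P Λ := (Ideal.span ({f} : Set Λ)).restrictScalars P
  have hNfg : N.FG := by
    have h1 : N = Submodule.map ((LinearMap.mulLeft P f)) ⊤ := by
      ext x
      constructor
      · intro hx
        obtain ⟨r, rfl⟩ := Ideal.mem_span_singleton'.mp hx
        exact ⟨r, trivial, by simp [mul_comm]⟩
      · rintro ⟨r, -, rfl⟩
        change f * r ∈ Ideal.span ({f} : Set Λ)
        exact Ideal.mul_mem_right _ _ (Ideal.mem_span_singleton_self f)
    rw [h1]
    exact Submodule.FG.map _ (Module.Finite.fg_top)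
  have hfx : ∀ x ∈ N, f * x = x := by
    intro x hx
    obtain ⟨r, rfl⟩ := Ideal.mem_span_singleton'.mp hx
    rw [mul_comm r f, ← mul_assoc, hf.eq]
  have hf' : f ∈ I • (⊤ : Submodule P Λ) := by
    have : (I • (⊤ : Submodule P Λ)) = (I.map (algebraMap P Λ)).restrictScalars P :=
      Ideal.smul_top_eq_map I
    rw [this]
    exact hfI
  have hle : N ≤ I • N := by
    intro x hx
    rw [← hfx x hx]
    refine Submodule.smul_induction_on (p := fun g => g * x ∈ I • N) hf' ?_ ?_
    · intro a ha l _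
      rw [smul_mul_assoc]
      refine Submodule.smul_mem_smul ha ?_
      change l * x ∈ Ideal.span ({f} : Set Λ)
      exact Ideal.mul_mem_left _ _ hx
    · intro g g' hg hg'
      rw [add_mul]
      exact add_mem hg hg'
  have hbot := Submodule.eq_bot_of_le_smul_of_le_jacobson_bot I N hNfg hle hI
  have hfN : f ∈ N := Ideal.mem_span_singleton_self f
  rw [hbot] at hfN
  exact (Submodule.mem_bot P).mp hfN

theorem idem_mul_one_sub_eq_zero (I : Ideal P) (hI : I ≤ Ideal.jacobson ⊥)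
    (f₁ f₂ : Λ) (h₁ : IsIdempotentElem f₁) (h₂ : IsIdempotentElem f₂)
    (hf₁ : f₁ ∈ I.map (algebraMap P Λ))
    [Module.Finite P (Λ ⧸ Ideal.span ({f₂} : Set Λ))] : f₁ * (1 - f₂) = 0 := by
  set g := f₁ * (1 - f₂) with hg
  have hgi : IsIdempotentElem g := h₁.mul h₂.one_sub
  have hgI : g ∈ I.map (algebraMap P Λ) := Ideal.mul_mem_right _ _ hf₁
  let mk := Ideal.Quotient.mk (Ideal.span ({f₂} : Set Λ))
  have h1 : mk g = 0 := by
    apply idem_eq_zero_of_finite I hI (mk g) (hgi.map mk)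
    have h2 := Ideal.mem_map_of_mem mk hgI
    rw [Ideal.map_map] at h2
    have h3 : mk.comp (algebraMap P Λ) = algebraMap P (Λ ⧸ Ideal.span ({f₂} : Set Λ)) := rfl
    rw [h3] at h2
    exact h2
  have h2 : g ∈ Ideal.span ({f₂} : Set Λ) := Ideal.Quotient.eq_zero_iff_mem.mp h1
  obtain ⟨r, hr⟩ := Ideal.mem_span_singleton'.mp h2
  have h3 : g = g * (1 - f₂) := by
    rw [hg, mul_assoc, h₂.one_sub.eq]
  rw [h3, ← hr, mul_assoc, mul_sub, mul_one, h₂.eq, sub_self, mul_zero]

theorem idem_eq_of_finite_quot (I : Ideal P) (hI : I ≤ Ideal.jacobson ⊥)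
    (f₁ f₂ : Λ) (h₁ : IsIdempotentElem f₁) (h₂ : IsIdempotentElem f₂)
    (hf₁ : f₁ ∈ I.map (algebraMap P Λ)) (hf₂ : f₂ ∈ I.map (algebraMap P Λ))
    [Module.Finite P (Λ ⧸ Ideal.span ({f₁} : Set Λ))]
    [Module.Finite P (Λ ⧸ Ideal.span ({f₂} : Set Λ))] : f₁ = f₂ := by
  have ha := idem_mul_one_sub_eq_zero I hI f₁ f₂ h₁ h₂ hf₁
  have hb := idem_mul_one_sub_eq_zero I hI f₂ f₁ h₂ h₁ hf₂
  rw [mul_sub, mul_one, sub_eq_zero] at ha hb
  calc f₁ = f₁ * f₂ := ha
    _ = f₂ * f₁ := mul_comm _ _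
    _ = f₂ := hb.symm

end Idem

section Ext

variable {A : Type u} [CommRing A] {P : Type u} [CommRing P] [Algebra A P]
  {C : Type u} [CommRing C] [Algebra A C]

/-- The extension of an ideal of `C` to `P ⊗ C`. -/
def extIdeal (A : Type u) [CommRing A] (P : Type u) [CommRing P] [Algebra A P]
    {C : Type u} [CommRing C] [Algebra A C] (𝔞 : Ideal C) : Ideal (P ⊗[A] C) :=
  𝔞.map (Algebra.TensorProduct.includeRight : C →ₐ[A] P ⊗[A] C)

theorem one_tmul_mem_extIdeal {𝔞 : Ideal C} {c : C} (hc : c ∈ 𝔞) :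
    (1 : P) ⊗ₜ[A] c ∈ extIdeal A P 𝔞 :=
  Ideal.mem_map_of_mem (Algebra.TensorProduct.includeRight : C →ₐ[A] P ⊗[A] C) hc

end Ext

section Mem

variable {A : Type u} [CommRing A] {P : Type u} [CommRing P] [Algebra A P]
  [Module.FaithfullyFlat A P] {C : Type u} [CommRing C] [Algebra A C]

theorem ker_map_mk (𝔞 : Ideal C) :
    RingHom.ker (Algebra.TensorProduct.map (AlgHom.id A P) (Ideal.Quotient.mkₐ A 𝔞)) =
      extIdeal A P 𝔞 := by
  have hkq : RingHom.ker (Ideal.Quotient.mkₐ A 𝔞) = 𝔞 := by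
    ext x
    rw [RingHom.mem_ker]
    exact Ideal.Quotient.eq_zero_iff_mem
  rw [Algebra.TensorProduct.lTensor_ker _ (Ideal.Quotient.mkₐ_surjective A _), hkq]
  rfl

theorem mem_of_one_tmul_mem_map (𝔞 : Ideal C) (c : C)
    (h : (1 : P) ⊗ₜ[A] c ∈ extIdeal A P 𝔞) : c ∈ 𝔞 := by
  rw [← ker_map_mk, RingHom.mem_ker] at h
  have h2 : (1 : P) ⊗ₜ[A] (Ideal.Quotient.mk 𝔞 c) = (1 : P) ⊗ₜ[A] (0 : C ⧸ 𝔞) := by
    rw [TensorProduct.tmul_zero]
    exact h
  have h3 := Module.FaithfullyFlat.tensorProduct_mk_injective (A := A) (B := P) (C ⧸ 𝔞) h2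
  exact Ideal.Quotient.eq_zero_iff_mem.mp h3

end Mem

section Bc2

variable {A : Type u} [CommRing A] (P : Type u) [CommRing P] [Algebra A P]
  (X : Type u) [CommRing X] [Algebra A X]

/-- The natural map `X ⊗[A] X → (P ⊗ X) ⊗[P] (P ⊗ X)`. -/
noncomputable def bc2 : X ⊗[A] X →ₗ[A] (P ⊗[A] X) ⊗[P] (P ⊗[A] X) :=
  ((AlgebraTensorModule.tensorTensorTensorComm A P A P P P X X).toLinearMap.restrictScalars A) ∘ₗ
    (TensorProduct.mk A (P ⊗[P] P) (X ⊗[A] X) ((1 : P) ⊗ₜ[P] (1 : P)))

theorem bc2_tmul (a b : X) :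
    bc2 P X (a ⊗ₜ[A] b) = ((1 : P) ⊗ₜ[A] a) ⊗ₜ[P] ((1 : P) ⊗ₜ[A] b) := by
  simp [bc2]

theorem bc2_injective [Module.FaithfullyFlat A P] : Function.Injective (bc2 (A := A) P X) := by
  intro x y h
  have h1 : ((1 : P) ⊗ₜ[P] (1 : P)) ⊗ₜ[A] x = ((1 : P) ⊗ₜ[P] (1 : P)) ⊗ₜ[A] y :=
    (AlgebraTensorModule.tensorTensorTensorComm A P A P P P X X).injective h
  have h2 := congrArg (LinearMap.rTensor (X ⊗[A] X)
    ((TensorProduct.lid P P).toLinearMap.restrictScalars A)) h1
  rw [LinearMap.rTensor_tmul, LinearMap.rTensor_tmul] at h2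
  have h3 : ((TensorProduct.lid P P).toLinearMap.restrictScalars A) ((1 : P) ⊗ₜ[P] (1 : P)) = 1 := by
    change (TensorProduct.lid P P) ((1 : P) ⊗ₜ[P] (1 : P)) = 1
    rw [TensorProduct.lid_tmul, one_smul]
  rw [h3] at h2
  exact Module.FaithfullyFlat.tensorProduct_mk_injective (A := A) (B := P) (X ⊗[A] X) h2

variable {X} {Y : Type u} [CommRing Y] [Algebra A Y]

theorem bc2_map (ψ : X →ₐ[A] Y) (Ψ : P ⊗[A] X →ₐ[P] P ⊗[A] Y)
    (hΨ : ∀ c, Ψ ((1 : P) ⊗ₜ[A] c) = (1 : P) ⊗ₜ[A] ψ c) (z : X ⊗[A] X) :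
    Algebra.TensorProduct.map Ψ Ψ (bc2 (A := A) P X z) =
      bc2 (A := A) P Y (Algebra.TensorProduct.map ψ ψ z) := by
  induction z using TensorProduct.induction_on with
  | zero => simp
  | tmul a b =>
    rw [bc2_tmul, Algebra.TensorProduct.map_tmul, Algebra.TensorProduct.map_tmul,
      bc2_tmul, hΨ, hΨ]
  | add z z' hz hz' => simp only [map_add, hz, hz']

end Bc2

section HopfDescent

variable {A : Type u} [CommRing A] {P : Type u} [CommRing P] [Algebra A P]
  [Module.FaithfullyFlat A P] {C : Type u} [CommRing C] [HopfAlgebra A C]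

theorem comul_one_tmul' (x : C) :
    CoalgebraStruct.comul (R := P) ((1 : P) ⊗ₜ[A] x) =
      bc2 (A := A) P C (CoalgebraStruct.comul (R := A) x) := by
  rw [TensorProduct.comul_tmul]
  rfl

/-- Hopf ideals descend along faithfully flat base change. -/
theorem isHopfIdeal_of_baseChange (𝔞 : Ideal C) (h : (extIdeal A P 𝔞).IsHopfIdeal P) :
    𝔞.IsHopfIdeal A := by
  have hco : (𝔞.restrictScalars A).IsCoideal := by
    refine ⟨?_, ?_⟩
    · intro x hx
      have h1 : Coalgebra.counit (R := P) ((1 : P) ⊗ₜ[A] x) = 0 :=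
        h.toIsCoideal.counit_eq_zero (one_tmul_mem_extIdeal (A := A) (P := P) hx)
      rw [TensorProduct.counit_tmul, CommSemiring.counit_apply, Algebra.smul_def, mul_one] at h1
      exact FaithfulSMul.algebraMap_injective A P (by rw [h1, map_zero])
    · intro x hx
      change (Algebra.TensorProduct.map (Ideal.Quotient.mkₐ A 𝔞) (Ideal.Quotient.mkₐ A 𝔞))
        (Coalgebra.comul (R := A) x) = 0
      apply bc2_injective P (C ⧸ 𝔞)
      rw [map_zero]
      -- the base-changed quotient map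
      let q : P ⊗[A] C →ₐ[P] P ⊗[A] (C ⧸ 𝔞) :=
        Algebra.TensorProduct.map (AlgHom.id P P) (Ideal.Quotient.mkₐ A 𝔞)
      have hq : ∀ c, q ((1 : P) ⊗ₜ[A] c) = (1 : P) ⊗ₜ[A] (Ideal.Quotient.mkₐ A 𝔞 c) := fun c => rfl
      rw [← bc2_map P (Ideal.Quotient.mkₐ A 𝔞) q hq, ← comul_one_tmul']
      -- factor `q` through the quotient by the extended ideal
      have hqk : ∀ z ∈ extIdeal A P 𝔞, q z = 0 := by
        intro z hz
        have h0 : z ∈ RingHom.ker (Algebra.TensorProduct.map (AlgHom.id A P)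
            (Ideal.Quotient.mkₐ A 𝔞)) := by
          rw [ker_map_mk]; exact hz
        rw [RingHom.mem_ker] at h0
        have h1 : ∀ w : P ⊗[A] C, q w = Algebra.TensorProduct.map (AlgHom.id A P)
            (Ideal.Quotient.mkₐ A 𝔞) w := by
          intro w
          induction w using TensorProduct.induction_on with
          | zero => simp
          | add a b ha hb => rw [map_add, map_add, ha, hb]
          | tmul p c => rfl
        rw [h1, h0]
      let qb : (P ⊗[A] C) ⧸ extIdeal A P 𝔞 →ₐ[P] P ⊗[A] (C ⧸ 𝔞) :=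
        Ideal.Quotient.liftₐ (extIdeal A P 𝔞) q hqk
      have hfac : q = qb.comp (Ideal.Quotient.mkₐ P (extIdeal A P 𝔞)) := by
        apply AlgHom.ext
        intro z
        rfl
      have h2 : (Algebra.TensorProduct.map (Ideal.Quotient.mkₐ P (extIdeal A P 𝔞))
          (Ideal.Quotient.mkₐ P (extIdeal A P 𝔞)))
          (Coalgebra.comul (R := P) ((1 : P) ⊗ₜ[A] x)) = 0 :=
        h.toIsCoideal.map_mkQ_comul_eq_zero (one_tmul_mem_extIdeal (A := A) (P := P) hx)
      rw [hfac, Algebra.TensorProduct.map_comp, AlgHom.comp_apply, h2, map_zero]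
  refine { toIsCoideal := hco, antipode_mem := ?_ }
  intro x hx
  apply mem_of_one_tmul_mem_map (A := A) (P := P)
  have h1 := h.antipode_mem (one_tmul_mem_extIdeal (A := A) (P := P) hx)
  rw [TensorProduct.antipode_def, AlgebraTensorModule.map_tmul, HopfAlgebra.antipode_one] at h1
  exact h1

end HopfDescent

section KerHopf

variable {R : Type u} [CommRing R] {X Y Z : Type u} [CommRing X] [CommRing Y] [CommRing Z]

/-- The kernel of a surjective bialgebra map of Hopf algebras is a Hopf ideal. -/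
theorem isHopfIdeal_ker [HopfAlgebra R X] [HopfAlgebra R Z] (F : X →ₐc[R] Z)
    (hFs : Function.Surjective F) : (RingHom.ker (F : X →+* Z)).IsHopfIdeal R := by
  let Fa : X →ₐ[R] Z := (F : X →ₐ[R] Z)
  set K := RingHom.ker (F : X →+* Z) with hK
  have hco : (K.restrictScalars R).IsCoideal := by
    refine ⟨?_, ?_⟩
    · intro x hx
      have h0 : F x = 0 := hx
      rw [← CoalgHomClass.counit_comp_apply F x, h0, map_zero]
    · intro x hx
      have h0 : F x = 0 := hx
      change (Algebra.TensorProduct.map (Ideal.Quotient.mkₐ R K) (Ideal.Quotient.mkₐ R K))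
        (Coalgebra.comul (R := R) x) = 0
      have h1 : Algebra.TensorProduct.map Fa Fa (Coalgebra.comul (R := R) x) = 0 := by
        have h2 := CoalgHomClass.map_comp_comul_apply F x
        rw [h0, map_zero] at h2
        exact h2
      have h2 : Coalgebra.comul (R := R) x ∈ RingHom.ker (Algebra.TensorProduct.map Fa Fa) := h1
      have h4 : RingHom.ker Fa = K := rfl
      rw [Algebra.TensorProduct.map_ker _ _ hFs hFs, h4] at h2
      have hkq : RingHom.ker (Ideal.Quotient.mkₐ R K) = K := by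
        ext y
        rw [RingHom.mem_ker]
        exact Ideal.Quotient.eq_zero_iff_mem
      have h6 : Coalgebra.comul (R := R) x ∈ RingHom.ker (Algebra.TensorProduct.map
          (Ideal.Quotient.mkₐ R K) (Ideal.Quotient.mkₐ R K)) := by
        rw [Algebra.TensorProduct.map_ker _ _ (Ideal.Quotient.mkₐ_surjective R K)
          (Ideal.Quotient.mkₐ_surjective R K), hkq]
        exact h2
      exact h6
  refine { toIsCoideal := hco, antipode_mem := ?_ }
  intro x hx
  have h0 : F x = 0 := hx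
  change F (HopfAlgebra.antipode R x) = 0
  have h2 := congrArg (fun f : X →ₗ[R] Z => f x) (FrobSplit.antipode_comp_bialgHom F)
  simp only [LinearMap.comp_apply] at h2
  have h3 : HopfAlgebra.antipode R (F x) = F (HopfAlgebra.antipode R x) := h2
  rw [← h3, h0, map_zero]

/-- Factorisation through a surjective bialgebra map. -/
theorem exists_bialgHom_factor [Bialgebra R X] [Bialgebra R Y] [Bialgebra R Z]
    (π : X →ₐc[R] Y) (F : X →ₐc[R] Z) (hπ : Function.Surjective π)
    (hker : ∀ x, π x = 0 → F x = 0) : ∃ Ψ : Y →ₐc[R] Z, ∀ x, Ψ (π x) = F x := by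
  let πa : X →ₐ[R] Y := (π : X →ₐ[R] Y)
  let Fa : X →ₐ[R] Z := (F : X →ₐ[R] Z)
  have H : RingHom.ker πa.toRingHom ≤ RingHom.ker Fa.toRingHom := fun x hx => hker x hx
  let Ψa : Y →ₐ[R] Z := AlgHom.liftOfSurjective πa hπ Fa H
  have hΨ : ∀ x, Ψa (π x) = F x := fun x => AlgHom.liftOfSurjective_apply πa hπ Fa H x
  have hcounit : (Bialgebra.counitAlgHom R Z).comp Ψa = Bialgebra.counitAlgHom R Y := by
    apply AlgHom.ext
    intro y
    obtain ⟨x, rfl⟩ := hπ y
    change Coalgebra.counit (R := R) (Ψa (π x)) = Coalgebra.counit (R := R) (π x)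
    rw [hΨ, CoalgHomClass.counit_comp_apply, CoalgHomClass.counit_comp_apply]
  have hcomul : (Algebra.TensorProduct.map Ψa Ψa).comp (Bialgebra.comulAlgHom R Y) =
      (Bialgebra.comulAlgHom R Z).comp Ψa := by
    apply AlgHom.ext
    intro y
    obtain ⟨x, rfl⟩ := hπ y
    change Algebra.TensorProduct.map Ψa Ψa (Coalgebra.comul (R := R) (π x)) =
      Coalgebra.comul (R := R) (Ψa (π x))
    rw [hΨ, ← CoalgHomClass.map_comp_comul_apply F x, ← CoalgHomClass.map_comp_comul_apply π x]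
    generalize Coalgebra.comul (R := R) x = w
    induction w using TensorProduct.induction_on with
    | zero => simp
    | add a b ha hb => rw [map_add, map_add, ha, hb, map_add]
    | tmul a b =>
      rw [TensorProduct.map_tmul, TensorProduct.map_tmul, Algebra.TensorProduct.map_tmul]
      change Ψa (π a) ⊗ₜ[R] Ψa (π b) = F a ⊗ₜ[R] F b
      rw [hΨ, hΨ]
  exact ⟨BialgHom.ofAlgHom Ψa hcounit hcomul, hΨ⟩

end KerHopf

end Groth.Agent.Lib.Helper25.HC
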