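import Groth.Agent.Lib.Helper25AdicJ

/-!
# Open and closed subgroup of multiplicative type over a complete base: level-flat form (helper25)

A variant of `exists_cover_surj_idem'` / S5285 where flatness along the closed fibre is replaced by
flatness of all infinitesimal base changes (which is all the proof uses).
-/

set_option autoImplicit false
set_option linter.unusedSectionVars false
set_option linter.style.haveILetI false
universe u

namespace Groth.Agent.Lib.Helper25.HC

open TensorProduct SGA3b Groth.Agent.Lib.Helper25 Groth.Agent.Lib.Helper25.Adic BCB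

/-- Level-wise flatness: `T ⊗ C` is `T`-flat whenever a power of `I` dies in `T`. -/
def LevelFlat (A : Type u) [CommRing A] (I : Ideal A) (C : Type u) [CommRing C] [Algebra A C] :
    Prop :=
  ∀ (T : Type u) [CommRing T] [Algebra A T] (k : ℕ),
    (∀ a ∈ I, (algebraMap A T a) ^ k = 0) → Module.Flat T (T ⊗[A] C)

theorem levelFlat_of_local_flat (A : Type u) [CommRing A] (I : Ideal A) (C : Type u) [CommRing C]
    [Algebra A C]
    (hfl : ∀ (q : Ideal C) [q.IsPrime], Ideal.map (algebraMap A C) I ≤ q →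
      Module.Flat A (Localization.AtPrime q)) : LevelFlat A I C :=
  fun T _ _ k hT => flat_baseChange_of_local_flat A I C hfl T k hT

theorem exists_cover_surj_idem'' (A : Type u) [CommRing A] [IsNoetherianRing A] (I : Ideal A)
    [IsAdicComplete I A] (C : Type u) [CommRing C] [HopfAlgebra A C]
    (hft : Algebra.FiniteType A C)
    (hfl : LevelFlat A I C) (h0 : IsIsotrivial (A ⧸ I) ((A ⧸ I) ⊗[A] C)) :
    ∃ (P : Type u) (_ : CommRing P) (_ : Algebra A P) (M : Type u) (_ : CommGroup M),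
      Algebra.Etale A P ∧ Module.Finite A P ∧ Module.FaithfullyFlat A P ∧
      (∃ (Q : Type u) (_ : CommRing Q) (_ : Algebra (A ⧸ I) Q), Module.FaithfullyFlat (A ⧸ I) Q ∧
        Nonempty (Q ⊗[A ⧸ I] ((A ⧸ I) ⊗[A] C) ≃ₐc[Q] MonoidAlgebra Q M)) ∧
      ∃ (F : P ⊗[A] C →ₐc[P] MonoidAlgebra P M) (e : P ⊗[A] C),
        Function.Surjective F ∧ IsIdempotentElem e ∧
        RingHom.ker (F : P ⊗[A] C →+* MonoidAlgebra P M) = Ideal.span {e} ∧
        e ∈ (I.map (algebraMap A P)) • LinearMap.ker F.toCoalgHom.toLinearMap := by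
  classical
  obtain ⟨Q, _, _, het, hfin, hff, M, _, ⟨ε₀⟩⟩ := h0
  letI : Algebra A Q := ((algebraMap (A ⧸ I) Q).comp (algebraMap A (A ⧸ I))).toAlgebra
  haveI : IsScalarTower A (A ⧸ I) Q := IsScalarTower.of_algebraMap_eq (fun _ => rfl)
  haveI := het
  haveI := hfin
  haveI := hff
  obtain ⟨P, _, _, θ, hetP, hfinP, hsurjθ, hkerθ⟩ := HensFEt.exists_finEtale_lift I Q
  haveI := hetP
  haveI := hfinP
  have hπ : Function.Surjective (algebraMap A (A ⧸ I)) := Ideal.Quotient.mk_surjective
  have hjac : RingHom.ker (algebraMap A (A ⧸ I)) ≤ Ideal.jacobson ⊥ := by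
    rw [Ideal.Quotient.algebraMap_eq, Ideal.mk_ker]
    exact IsAdicComplete.le_jacobson_bot I
  haveI hffP : Module.FaithfullyFlat A P :=
    HensFEt.faithfullyFlat_of_ker_le_jacobson (B := A) (Bb := A ⧸ I) hπ hjac P Q θ.toRingHom
      (fun b => by
        change θ (algebraMap A P b) = _
        rw [AlgHom.commutes, IsScalarTower.algebraMap_apply A (A ⧸ I) Q])
  letI : Algebra P Q := θ.toRingHom.toAlgebra
  haveI : IsScalarTower A P Q := IsScalarTower.of_algebraMap_eq (fun r => (θ.commutes r).symm)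
  have hsurj : Function.Surjective (algebraMap P Q) := hsurjθ
  have hker : RingHom.ker (algebraMap P Q) = I.map (algebraMap A P) := by
    apply le_antisymm hkerθ
    rw [Ideal.map_le_iff_le_comap]
    intro a ha
    rw [Ideal.mem_comap, RingHom.mem_ker]
    change θ (algebraMap A P a) = 0
    rw [AlgHom.commutes, IsScalarTower.algebraMap_apply A (A ⧸ I) Q,
      Ideal.Quotient.algebraMap_eq, Ideal.Quotient.eq_zero_iff_mem.mpr ha, map_zero]
  haveI : IsNoetherianRing P := IsNoetherianRing.of_finite A P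
  haveI : IsAdicComplete (I.map (algebraMap A P)) P := by
    rw [IsAdicComplete.map_algebraMap_iff]
    haveI : IsPrecomplete I P := LunaCompl.isPrecomplete_of_finite A I P
    haveI : IsHausdorff I P := IsHausdorff.of_le_jacobson I P (IsAdicComplete.le_jacobson_bot I)
    exact {}
  let e₀ : Q ⊗[P] (P ⊗[A] C) ≃ₐc[Q] MonoidAlgebra Q M :=
    (cancelBC A P Q C).trans ((cancelBC A (A ⧸ I) Q C).symm.trans ε₀)
  haveI := hft
  have hftP : Algebra.FiniteType P (P ⊗[A] C) := inferInstance
  have hflP : ∀ n : ℕ, Module.Flat (P ⧸ (I.map (algebraMap A P)) ^ (n + 1))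
      ((P ⧸ (I.map (algebraMap A P)) ^ (n + 1)) ⊗[P] (P ⊗[A] C)) := by
    intro n
    haveI : Module.Flat (P ⧸ (I.map (algebraMap A P)) ^ (n + 1))
        ((P ⧸ (I.map (algebraMap A P)) ^ (n + 1)) ⊗[A] C) := by
      apply hfl _ (n + 1)
      intro a ha
      rw [IsScalarTower.algebraMap_apply A P (P ⧸ (I.map (algebraMap A P)) ^ (n + 1)),
        Ideal.Quotient.algebraMap_eq, ← map_pow, Ideal.Quotient.eq_zero_iff_mem]
      exact Ideal.pow_mem_pow (Ideal.mem_map_of_mem _ ha) (n + 1)
    exact Module.Flat.of_linearEquiv (AlgebraTensorModule.cancelBaseChange A P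
      (P ⧸ (I.map (algebraMap A P)) ^ (n + 1)) (P ⧸ (I.map (algebraMap A P)) ^ (n + 1)) C)
  obtain ⟨F, e, hFs, he, hke, hle⟩ := exists_surj_idem' P (I.map (algebraMap A P)) (P ⊗[A] C) hflP
    hftP M Q hsurj hker e₀
  exact ⟨P, inferInstance, inferInstance, M, inferInstance, hetP, hfinP, hffP,
    ⟨Q, inferInstance, inferInstance, hff, ⟨ε₀⟩⟩, F, e, hFs, he, hke, hle⟩

/-- S5285 in level-flat form. -/
theorem exists_clopen_isotrivial (A : Type u) [CommRing A] [IsNoetherianRing A] (I : Ideal A)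
    [IsAdicComplete I A]
    (C : Type u) [CommRing C] [HopfAlgebra A C] (hft : Algebra.FiniteType A C)
    (hfl : LevelFlat A I C)
    (h0 : IsIsotrivial (A ⧸ I) ((A ⧸ I) ⊗[A] C)) :
    ∃ e : C, IsIdempotentElem e ∧ e ∈ Ideal.map (algebraMap A C) I ∧
      ∃ _ : (Ideal.span {e}).IsHopfIdeal A, IsIsotrivial A (C ⧸ Ideal.span {e}) := by
  obtain ⟨P, _, _, M, _, hetP, hfinP, hffP, _, F, eP, hFs, heP, hke, hle⟩ :=
    exists_cover_surj_idem'' A I C hft hfl h0
  haveI := hfinP
  haveI := hffP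
  obtain ⟨c, hc⟩ := exists_eq_one_tmul_of_idem I F eP (IsAdicComplete.le_jacobson_bot I) hFs hke
    heP hle
  subst hc
  have hinj := Module.FaithfullyFlat.tensorProduct_mk_injective (A := A) (B := P) C
  have hc_idem : IsIdempotentElem c := by
    apply hinj
    change (1 : P) ⊗ₜ[A] (c * c) = (1 : P) ⊗ₜ[A] c
    have h1 := heP.eq
    rw [Algebra.TensorProduct.tmul_mul_tmul, mul_one] at h1
    exact h1
  have hcI : c ∈ Ideal.map (algebraMap A C) I :=
    mem_map_of_one_tmul_mem (P := P) I c (mem_map_of_mem_smul_ker I F _ hle)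
  have hHopf : (Ideal.span ({c} : Set C)).IsHopfIdeal A :=
    isHopfIdeal_of_ker_eq_span_one_tmul F c hFs hke hc_idem
  refine ⟨c, hc_idem, hcI, hHopf, ?_⟩
  exact ⟨P, inferInstance, inferInstance, hetP, hfinP, hffP, M, inferInstance,
    nonempty_equiv_quot F c hFs hke⟩

end Groth.Agent.Lib.Helper25.HC
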