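import Groth.Agent.Lib.Helper25LocRigidB

/-!
# Rigidity of homomorphisms into groups of multiplicative type over a local base, part C (helper25)

* `isMultTypeConst_of_isMultType_of_isLocalRing`: over a local ring, multiplicative type implies
  constant type.
* `exists_local_diag_cover`: over a local ring `R`, a group of multiplicative type is diagonalised
  by a faithfully flat local `R`-algebra `S` with `𝔪 S` inside the radical.
* `fg_span_sub_of_finiteType`, `eq_of_isMultType_of_isLocalRing`.
-/

set_option autoImplicit false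
set_option linter.style.haveILetI false
universe u v w

namespace Groth.Agent.Lib.Helper25.LocRigid

open TensorProduct WithConv Groth.Agent.Lib.Helper25 SGA3b BCB

section Local

variable (R : Type u) [CommRing R] [IsLocalRing R] (H : Type u) [CommRing H] [HopfAlgebra R H]

theorem isMultTypeConst_of_isMultType_of_isLocalRing (h : IsMultType R H) :
    IsMultTypeConst R H := by
  obtain ⟨s, hs, hmt⟩ := h
  obtain ⟨f, hfs, hfu⟩ : ∃ f ∈ s, IsUnit f := by
    by_contra hall
    push Not at hall
    have h1 : Ideal.span s ≤ IsLocalRing.maximalIdeal R :=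
      Ideal.span_le.mpr (fun x hx => (IsLocalRing.mem_maximalIdeal x).mpr (hall x hx))
    rw [hs] at h1
    exact (IsLocalRing.maximalIdeal.isMaximal R).ne_top (top_le_iff.mp h1)
  obtain ⟨R', _, _, hff, hD⟩ := hmt f hfs
  haveI := hff
  letI : Algebra R R' :=
    ((algebraMap (Localization.Away f) R').comp (algebraMap R (Localization.Away f))).toAlgebra
  haveI : IsScalarTower R (Localization.Away f) R' := IsScalarTower.of_algebraMap_eq (fun _ => rfl)
  haveI : Module.FaithfullyFlat R (Localization.Away f) := by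
    have e : R ≃ₐ[R] Localization.Away f :=
      IsLocalization.atUnits R (Submonoid.powers f) (S := Localization.Away f)
        (Submonoid.powers_le.mpr hfu)
    exact Module.FaithfullyFlat.of_linearEquiv R R e.symm.toLinearEquiv
  haveI : Module.FaithfullyFlat R R' := Module.FaithfullyFlat.trans R (Localization.Away f) R'
  exact ⟨R', inferInstance, inferInstance, inferInstance,
    isDiag_of_equiv (cancelBC R (Localization.Away f) R' H).symm hD⟩

theorem exists_local_diag_cover (h : IsMultType R H) :
    ∃ (S : Type u) (_ : CommRing S) (_ : Algebra R S),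
      Function.Injective (fun a : H => (1 : S) ⊗ₜ[R] a) ∧
      (IsLocalRing.maximalIdeal R).map (algebraMap R S) ≤ Ideal.jacobson ⊥ ∧
      IsDiag S (S ⊗[R] H) := by
  obtain ⟨R', _, _, hff, hD⟩ := isMultTypeConst_of_isMultType_of_isLocalRing R H h
  haveI := hff
  have hne : (IsLocalRing.maximalIdeal R).map (algebraMap R R') ≠ ⊤ := by
    have := hff.submodule_ne_top (IsLocalRing.maximalIdeal.isMaximal R)
    rw [Ideal.smul_top_eq_map] at this
    intro h'
    apply this
    rw [h']
    rfl
  obtain ⟨𝔫, h𝔫max, h𝔫le⟩ := Ideal.exists_le_maximal _ hne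
  haveI := h𝔫max
  let S := Localization.AtPrime 𝔫
  haveI : Module.Flat R S := Module.Flat.trans R R' S
  have hmap : (IsLocalRing.maximalIdeal R).map (algebraMap R S) ≤ IsLocalRing.maximalIdeal S := by
    rw [Ideal.map_le_iff_le_comap]
    intro x hx
    rw [Ideal.mem_comap, IsScalarTower.algebraMap_apply R R' S,
      IsLocalization.AtPrime.to_map_mem_maximal_iff S 𝔫]
    exact h𝔫le (Ideal.mem_map_of_mem _ hx)
  haveI : IsLocalHom (algebraMap R S) :=
    ((IsLocalRing.local_hom_TFAE (algebraMap R S)).out 0 2).mpr hmap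
  haveI : Module.FaithfullyFlat R S := Module.FaithfullyFlat.of_flat_of_isLocalHom
  refine ⟨S, inferInstance, inferInstance, ?_, ?_, isDiag_baseChange_of_tower R H R' S hD⟩
  · exact Module.FaithfullyFlat.tensorProduct_mk_injective (A := R) (B := S) H
  · rw [IsLocalRing.jacobson_eq_maximalIdeal ⊥ bot_ne_top]
    exact hmap

end Local

section FG

variable {R : Type u} [CommRing R] {A : Type v} [CommRing A] [Algebra R A]
  {C : Type w} [CommRing C] [Algebra R C]

theorem fg_span_sub_of_finiteType (hC : Algebra.FiniteType R C) (φ ψ : C →ₐ[R] A) :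
    (Ideal.span (Set.range fun c => φ c - ψ c)).FG := by
  classical
  obtain ⟨s, hs⟩ := hC.out
  set J₀ : Ideal A := Ideal.span ((s.image fun c => φ c - ψ c : Finset A) : Set A) with hJ₀
  have h1 : (Ideal.Quotient.mkₐ R J₀).comp φ = (Ideal.Quotient.mkₐ R J₀).comp ψ := by
    refine AlgHom.ext_of_adjoin_eq_top hs ?_
    intro c hc
    rw [AlgHom.comp_apply, AlgHom.comp_apply, Ideal.Quotient.mkₐ_eq_mk, Ideal.Quotient.eq]
    exact Ideal.subset_span (Finset.mem_coe.mpr (Finset.mem_image.mpr ⟨c, hc, rfl⟩))
  have h2 : Ideal.span (Set.range fun c => φ c - ψ c) = J₀ := by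
    apply le_antisymm
    · rw [Ideal.span_le]
      rintro _ ⟨c, rfl⟩
      have := AlgHom.congr_fun h1 c
      rw [AlgHom.comp_apply, AlgHom.comp_apply, Ideal.Quotient.mkₐ_eq_mk, Ideal.Quotient.eq] at this
      exact this
    · rw [hJ₀, Ideal.span_le]
      intro x hx
      obtain ⟨c, -, rfl⟩ := Finset.mem_image.mp (Finset.mem_coe.mp hx)
      exact Ideal.subset_span ⟨c, rfl⟩
  rw [h2]
  exact ⟨_, rfl⟩

end FG

section Final

variable (R : Type u) [CommRing R] [IsLocalRing R] (A : Type u) [CommRing A] [HopfAlgebra R A]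
  (C : Type u) [CommRing C] [Bialgebra R C]

theorem eq_of_isMultType_of_isLocalRing (h : IsMultType R A) (φ ψ : C →ₐc[R] A)
    (hs : ∀ c : C, φ c - ψ c ∈ Ideal.map (algebraMap R A) (IsLocalRing.maximalIdeal R))
    (hfg : (Ideal.span (Set.range fun c => φ c - ψ c)).FG)
    (hcomm : ∀ (S : Type u) [CommRing S] [Algebra R S] (f : A →ₗ[R] S),
      Commute (toConv (f ∘ₗ (φ : C →ₗc[R] A).toLinearMap))
        (toConv (f ∘ₗ (ψ : C →ₗc[R] A).toLinearMap))) :
    φ = ψ := by
  obtain ⟨S, _, _, hinj, hrad, M, _, ⟨e⟩⟩ := exists_local_diag_cover R A h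
  refine eq_of_diag_cover e hinj (IsLocalRing.maximalIdeal R) hrad φ ψ ?_ hfg
    (fun m => hcomm S _)
  intro c
  rw [Ideal.smul_top_eq_map]
  exact hs c

end Final

end Groth.Agent.Lib.Helper25.LocRigid
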