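import Groth.Agent.Lib.Helper25HCa
import Groth.Agent.Lib.Helper25TorsQuot
import Groth.Agent.Lib.Helper25LocRigidC
import Groth.Agent.Lib.Helper3HenselG

/-!
# Torsion ideals under base change and quotients; the finite part over a henselian base (helper25)
-/

set_option autoImplicit false
set_option linter.unusedSectionVars false
set_option linter.style.haveILetI false
universe u

namespace Groth.Agent.Lib.Helper25.HC

open TensorProduct SGA3b Groth.Agent.Lib.Helper25 Groth.Agent.Lib.Helper25.Tors BCB

section Tors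

variable {A : Type u} [CommRing A] (P : Type u) [CommRing P] [Algebra A P]
  {C : Type u} [CommRing C] [HopfAlgebra A C]

theorem powConv_sub_counit_mem (n : ℕ) (c : C) :
    powConv A C n c - algebraMap A C (Coalgebra.counit (R := A) c) ∈ torsionIdeal A C n := by
  have h1 : c - algebraMap A C (Coalgebra.counit (R := A) c) ∈
      RingHom.ker (Bialgebra.counitAlgHom A C) := by
    rw [RingHom.mem_ker, map_sub, AlgHom.commutes]
    change Coalgebra.counit (R := A) c - algebraMap A A (Coalgebra.counit (R := A) c) = 0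
    simp
  have h2 : powConv A C n (c - algebraMap A C (Coalgebra.counit (R := A) c)) ∈
      torsionIdeal A C n := Ideal.mem_map_of_mem _ h1
  rw [map_sub, AlgHom.commutes] at h2
  exact h2

theorem torsionIdeal_baseChange_le (n : ℕ) :
    torsionIdeal P (P ⊗[A] C) n ≤ extIdeal A P (torsionIdeal A C n) := by
  have key : ∀ z : P ⊗[A] C, powConv P (P ⊗[A] C) n z -
      algebraMap P (P ⊗[A] C) (Coalgebra.counit (R := P) z) ∈
      extIdeal A P (torsionIdeal A C n) := by
    intro z
    induction z using TensorProduct.induction_on with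
    | zero => simp
    | add x y hx hy =>
      have : powConv P (P ⊗[A] C) n (x + y) -
          algebraMap P (P ⊗[A] C) (Coalgebra.counit (R := P) (x + y)) =
          (powConv P (P ⊗[A] C) n x - algebraMap P (P ⊗[A] C) (Coalgebra.counit (R := P) x)) +
          (powConv P (P ⊗[A] C) n y - algebraMap P (P ⊗[A] C) (Coalgebra.counit (R := P) y)) := by
        rw [map_add, map_add, map_add]; ring
      rw [this]
      exact add_mem hx hy
    | tmul p c =>
      rw [powConv_baseChange, TensorProduct.counit_tmul, CommSemiring.counit_apply]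
      have h1 : algebraMap P (P ⊗[A] C) (Coalgebra.counit (R := A) c • p) =
          p ⊗ₜ[A] algebraMap A C (Coalgebra.counit (R := A) c) := by
        rw [Algebra.TensorProduct.algebraMap_apply, Algebra.algebraMap_eq_smul_one
          (Coalgebra.counit (R := A) c), TensorProduct.tmul_smul, TensorProduct.smul_tmul']
        simp
      rw [h1, ← TensorProduct.tmul_sub]
      have h2 : p ⊗ₜ[A] (powConv A C n c - algebraMap A C (Coalgebra.counit (R := A) c)) =
          (p ⊗ₜ[A] (1 : C)) *
            ((1 : P) ⊗ₜ[A] (powConv A C n c - algebraMap A C (Coalgebra.counit (R := A) c))) := by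
        rw [Algebra.TensorProduct.tmul_mul_tmul, mul_one, one_mul]
      rw [h2]
      exact Ideal.mul_mem_left _ _ (one_tmul_mem_extIdeal (A := A) (P := P)
        (powConv_sub_counit_mem n c))
  unfold torsionIdeal
  rw [Ideal.map_le_iff_le_comap]
  intro z hz
  rw [Ideal.mem_comap]
  have h0 : Coalgebra.counit (R := P) z = 0 := hz
  have := key z
  rw [h0, map_zero, sub_zero] at this
  exact this

theorem extIdeal_torsionIdeal_le (n : ℕ) :
    extIdeal A P (torsionIdeal A C n) ≤ torsionIdeal P (P ⊗[A] C) n := by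
  unfold extIdeal
  rw [Ideal.map_le_iff_le_comap]
  intro c hc
  rw [Ideal.mem_comap]
  exact one_tmul_mem_torsionIdeal P n hc

theorem torsionIdeal_baseChange (n : ℕ) :
    torsionIdeal P (P ⊗[A] C) n = extIdeal A P (torsionIdeal A C n) :=
  le_antisymm (torsionIdeal_baseChange_le P n) (extIdeal_torsionIdeal_le P n)

end Tors

section Surj

variable {R : Type u} [CommRing R] {X Y : Type u} [CommRing X] [CommRing Y]
  [HopfAlgebra R X] [HopfAlgebra R Y]

theorem map_eq_zero_of_isKilled (θ : X →ₐc[R] Y) {n : ℕ} (hk : IsKilled R Y n) {x : X}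
    (hx : x ∈ torsionIdeal R X n) : θ x = 0 := by
  have h1 := map_mem_torsionIdeal θ n hx
  rw [(torsionIdeal_eq_bot_iff n).mpr hk] at h1
  exact h1

theorem torsionIdeal_le_map_of_surjective (q : X →ₐc[R] Y) (hq : Function.Surjective q) (n : ℕ) :
    torsionIdeal R Y n ≤ (torsionIdeal R X n).map (q : X →+* Y) := by
  unfold torsionIdeal
  rw [Ideal.map_le_iff_le_comap]
  intro y hy
  rw [Ideal.mem_comap]
  obtain ⟨x, rfl⟩ := hq y
  have hx : x ∈ RingHom.ker (Bialgebra.counitAlgHom R X) := by
    rw [RingHom.mem_ker] at hy ⊢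
    have : Bialgebra.counitAlgHom R Y (q x) = Bialgebra.counitAlgHom R X x := by
      change Coalgebra.counit (R := R) (q x) = Coalgebra.counit (R := R) x
      exact CoalgHomClass.counit_comp_apply q x
    rw [← this, hy]
  have h1 : powConv R Y n (q x) = (q : X →+* Y) (powConv R X n x) := (map_powConv q n x).symm
  rw [h1]
  exact Ideal.mem_map_of_mem _ (Ideal.mem_map_of_mem _ hx)

end Surj

section Transport

variable {R : Type u} [CommRing R] {H H' : Type u} [CommRing H] [HopfAlgebra R H]
  [CommRing H'] [HopfAlgebra R H']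

theorem isMultTypeConst_of_equiv (e : H ≃ₐc[R] H') (h : IsMultTypeConst R H') :
    IsMultTypeConst R H := by
  obtain ⟨R', _, _, hff, hD⟩ := h
  exact ⟨R', inferInstance, inferInstance, hff, isDiag_of_equiv (bcEquiv R' e) hD⟩

theorem isMultType_of_equiv (e : H ≃ₐc[R] H') (h : IsMultType R H') : IsMultType R H := by
  obtain ⟨s, hs, hmt⟩ := h
  refine ⟨s, hs, fun f hf => ?_⟩
  exact isMultTypeConst_of_equiv (bcEquiv (Localization.Away f) e) (hmt f hf)

/-- Descent of multiplicative type along a faithfully flat local extension of local rings. -/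
theorem isMultType_of_baseChange_local [IsLocalRing R] (P : Type u) [CommRing P] [Algebra R P]
    [IsLocalRing P] [Module.FaithfullyFlat R P] (h : IsMultType P (P ⊗[R] H)) :
    IsMultType R H := by
  obtain ⟨P', _, _, hff, hD⟩ := LocRigid.isMultTypeConst_of_isMultType_of_isLocalRing _ _ h
  letI : Algebra R P' := ((algebraMap P P').comp (algebraMap R P)).toAlgebra
  haveI : IsScalarTower R P P' := IsScalarTower.of_algebraMap_eq (fun _ => rfl)
  haveI := hff
  haveI : Module.FaithfullyFlat R P' := Module.FaithfullyFlat.trans R P P'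
  apply isMultType_of_isMultTypeConst
  exact ⟨P', inferInstance, inferInstance, inferInstance,
    isDiag_of_equiv (cancelBC R P P' H).symm hD⟩

end Transport

section Split

open IsLocalRing Groth.Agent.Lib.Helper3.Hensel

variable (A : Type u) [CommRing A] [HenselianLocalRing A]

/-- Over a henselian local ring, a finite type algebra `T` with finite closed fibre splits off its
finite part. -/
theorem exists_idem_of_finite_fibre (T : Type u) [CommRing T] [Algebra A T]
    [Algebra.FiniteType A T]
    (hfin : Module.Finite A (T ⧸ (maximalIdeal A).map (algebraMap A T))) :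
    ∃ e : T, IsIdempotentElem e ∧ Module.Finite A (T ⧸ Ideal.span ({1 - e} : Set T)) ∧
      1 - e ∈ (maximalIdeal A).map (algebraMap A T) := by
  obtain ⟨e, he, hfe, hno⟩ := finiteType_split A T
  refine ⟨e, he, hfe, ?_⟩
  -- no primes of `T/(e)` over the closed point
  have htop : (maximalIdeal A).map (algebraMap A (T ⧸ Ideal.span ({e} : Set T))) = ⊤ := by
    by_contra hne
    obtain ⟨M, hM, hle⟩ := Ideal.exists_le_maximal _ hne
    haveI : M.IsPrime := hM.isPrime
    have hl : M.LiesOver (maximalIdeal A) := under_eq_of_map_le M hle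
    apply hno M hl
    -- quasi-finiteness at `M`
    let T' := T ⧸ Ideal.span ({e} : Set T)
    have hfin' : Module.Finite A (T' ⧸ (maximalIdeal A).map (algebraMap A T')) := by
      let g : T →ₐ[A] T' ⧸ (maximalIdeal A).map (algebraMap A T') :=
        (Ideal.Quotient.mkₐ A _).comp (Ideal.Quotient.mkₐ A _)
      have hg : ∀ x ∈ (maximalIdeal A).map (algebraMap A T), g x = 0 := by
        intro x hx
        have h1 : (maximalIdeal A).map (algebraMap A T) ≤ RingHom.ker g.toRingHom := by
          rw [Ideal.map_le_iff_le_comap]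
          intro a ha
          rw [Ideal.mem_comap, RingHom.mem_ker]
          change g (algebraMap A T a) = 0
          rw [AlgHom.commutes]
          change Ideal.Quotient.mk _ (algebraMap A T' a) = 0
          rw [Ideal.Quotient.eq_zero_iff_mem]
          exact Ideal.mem_map_of_mem _ ha
        exact h1 hx
      let gb := Ideal.Quotient.liftₐ ((maximalIdeal A).map (algebraMap A T)) g hg
      have hgs : Function.Surjective gb := by
        intro y
        obtain ⟨y', rfl⟩ := Ideal.Quotient.mk_surjective y
        obtain ⟨x, rfl⟩ := Ideal.Quotient.mk_surjective y'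
        exact ⟨Ideal.Quotient.mk _ x, rfl⟩
      exact Module.Finite.of_surjective gb.toLinearMap hgs
    haveI : Algebra.FiniteType A T' := inferInstance
    have hu : M.under A = maximalIdeal A := (hl.over).symm
    haveI : Module.Finite A (T' ⧸ (M.under A).map (algebraMap A T')) := by
      rw [hu]; exact hfin'
    haveI : Algebra.WeaklyQuasiFiniteAt A M :=
      (inferInstance : Algebra.QuasiFiniteAt A
        (M.map (Ideal.Quotient.mk ((M.under A).map (algebraMap A T')))))
    exact Algebra.QuasiFiniteAt.of_weaklyQuasiFiniteAt M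
  -- unwind
  have h1 : (1 : T ⧸ Ideal.span ({e} : Set T)) ∈
      (maximalIdeal A).map (algebraMap A (T ⧸ Ideal.span ({e} : Set T))) := by
    rw [htop]; trivial
  have h2 : (maximalIdeal A).map (algebraMap A (T ⧸ Ideal.span ({e} : Set T))) =
      ((maximalIdeal A).map (algebraMap A T)).map (Ideal.Quotient.mk (Ideal.span ({e} : Set T))) := by
    rw [Ideal.map_map]
    rfl
  rw [h2, ← map_one (Ideal.Quotient.mk (Ideal.span ({e} : Set T))),
    Ideal.mem_map_iff_of_surjective _ Ideal.Quotient.mk_surjective] at h1
  obtain ⟨a, ha, hae⟩ := h1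
  have h3 : a - 1 ∈ Ideal.span ({e} : Set T) := by
    rw [← Ideal.Quotient.eq]; exact hae
  obtain ⟨r, hr⟩ := Ideal.mem_span_singleton'.mp h3
  have h4 : 1 - e = (1 - e) * a := by
    have : a = 1 + r * e := by rw [hr]; ring
    rw [this, mul_add, mul_one, ← mul_assoc, mul_comm (1 - e) r, mul_assoc, sub_mul, one_mul,
      he.eq, sub_self, mul_zero, add_zero]
  rw [h4]
  exact Ideal.mul_mem_left _ _ ha

/-- The same with an ideal `J` of `C` (applied to `T = C/J`). -/
theorem exists_split (C : Type u) [CommRing C] [Algebra A C] [Algebra.FiniteType A C]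
    (J : Ideal C)
    (hfin : Module.Finite A (C ⧸ (J ⊔ (maximalIdeal A).map (algebraMap A C)))) :
    ∃ ε : C, ε * ε - ε ∈ J ∧ Module.Finite A (C ⧸ (J ⊔ Ideal.span ({1 - ε} : Set C))) ∧
      1 - ε ∈ J ⊔ (maximalIdeal A).map (algebraMap A C) := by
  let T := C ⧸ J
  have hmapT : (maximalIdeal A).map (algebraMap A T) =
      ((maximalIdeal A).map (algebraMap A C)).map (Ideal.Quotient.mk J) := by
    rw [Ideal.map_map]; rfl
  have hfinT : Module.Finite A (T ⧸ (maximalIdeal A).map (algebraMap A T)) := by
    rw [hmapT]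
    exact Module.Finite.equiv
      (DoubleQuot.quotQuotEquivQuotSupₐ A J ((maximalIdeal A).map (algebraMap A C))).symm.toLinearEquiv
  obtain ⟨e, he, hfe, hem⟩ := exists_idem_of_finite_fibre A T hfinT
  obtain ⟨ε, rfl⟩ := Ideal.Quotient.mk_surjective e
  refine ⟨ε, ?_, ?_, ?_⟩
  · rw [← Ideal.Quotient.eq_zero_iff_mem, map_sub, map_mul, sub_eq_zero]
    exact he.eq
  · let g : C →ₐ[A] C ⧸ (J ⊔ Ideal.span ({1 - ε} : Set C)) := Ideal.Quotient.mkₐ A _
    have hgJ : ∀ x ∈ J, g x = 0 := fun x hx =>
      Ideal.Quotient.eq_zero_iff_mem.mpr (Ideal.mem_sup_left hx)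
    let gJ : T →ₐ[A] C ⧸ (J ⊔ Ideal.span ({1 - ε} : Set C)) := Ideal.Quotient.liftₐ J g hgJ
    have hgJ2 : ∀ y ∈ Ideal.span ({1 - Ideal.Quotient.mk J ε} : Set T), gJ y = 0 := by
      intro y hy
      obtain ⟨r, rfl⟩ := Ideal.mem_span_singleton'.mp hy
      rw [map_mul]
      have : gJ (1 - Ideal.Quotient.mk J ε) = 0 := by
        change g (1 - ε) = 0
        exact Ideal.Quotient.eq_zero_iff_mem.mpr
          (Ideal.mem_sup_right (Ideal.mem_span_singleton_self _))
      rw [this, mul_zero]
    let gb := Ideal.Quotient.liftₐ (Ideal.span ({1 - Ideal.Quotient.mk J ε} : Set T)) gJ hgJ2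
    have hgs : Function.Surjective gb := by
      intro y
      obtain ⟨x, rfl⟩ := Ideal.Quotient.mk_surjective y
      exact ⟨Ideal.Quotient.mk _ (Ideal.Quotient.mk J x), rfl⟩
    exact Module.Finite.of_surjective gb.toLinearMap hgs
  · rw [hmapT, ← map_one (Ideal.Quotient.mk J), ← map_sub,
      Ideal.mem_map_iff_of_surjective _ Ideal.Quotient.mk_surjective] at hem
    obtain ⟨a, ha, hae⟩ := hem
    have h3 : a - (1 - ε) ∈ J := by
      rw [← Ideal.Quotient.eq]; exact hae
    have h4 : 1 - ε = a - (a - (1 - ε)) := by ring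
    rw [h4]
    exact sub_mem (Ideal.mem_sup_right ha) (Ideal.mem_sup_left h3)

end Split

end Groth.Agent.Lib.Helper25.HC
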