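import Groth.Agent.Lib.Helper25HensDiagA

/-!
# Diagonalisability over a Henselian pair, part B: the torsion quotients (helper25)

The `n`-torsion quotient of a trivialised Hopf algebra of finite type is finite projective and
cocommutative, and the group elements of its reduction lift to group-like elements
(`exists_lift_torsion`).
-/

set_option autoImplicit false
set_option linter.unusedSectionVars false
set_option linter.style.haveILetI false
universe u

namespace Groth.Agent.Lib.Helper25.HensDiag

open TensorProduct SGA3b Groth.Agent.Lib.Helper25 DescGL Tors LCVal DescLift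

section Cocomm

variable {R : Type u} [CommRing R] {A : Type u} [CommRing A] [HopfAlgebra R A]
  (J : Ideal A) [J.IsHopfIdeal R]

theorem isCocomm_quot [Coalgebra.IsCocomm R A] : Coalgebra.IsCocomm R (A ⧸ J) := by
  refine ⟨?_⟩
  apply LinearMap.ext
  intro b
  obtain ⟨a, rfl⟩ := Ideal.Quotient.mk_surjective b
  rw [LinearMap.comp_apply]
  have h1 : Coalgebra.comul (R := R) (Ideal.Quotient.mk J a) =
      TensorProduct.map (Ideal.Quotient.mkₐ R J).toLinearMap (Ideal.Quotient.mkₐ R J).toLinearMap
        (Coalgebra.comul (R := R) a) :=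
    (CoalgHomClass.map_comp_comul_apply (Bialgebra.Quotient.mkBialgHom (R := R) J) a).symm
  rw [h1]
  have h2 : ∀ w : A ⊗[R] A, TensorProduct.comm R _ _ (TensorProduct.map
      (Ideal.Quotient.mkₐ R J).toLinearMap (Ideal.Quotient.mkₐ R J).toLinearMap w) =
      TensorProduct.map (Ideal.Quotient.mkₐ R J).toLinearMap (Ideal.Quotient.mkₐ R J).toLinearMap
        (TensorProduct.comm R _ _ w) := by
    intro w
    induction w using TensorProduct.induction_on with
    | zero => simp
    | add x y hx hy => rw [map_add, map_add, hx, hy, map_add, map_add]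
    | tmul a b => simp
  change TensorProduct.comm R _ _ _ = _
  rw [h2, Coalgebra.comm_comul]

end Cocomm

section TorsionLevel

variable {R : Type u} [CommRing R] {A : Type u} [CommRing A] [HopfAlgebra R A]
  {M : Type u} [CommGroup M] [Group.FG M] (V : CTriv R A M)
  (n : ℕ) (J : Ideal A) [J.IsHopfIdeal R] (hJ : J = torsionIdeal R A n)

include V hJ in
theorem finite_projective_quot (hn : 0 < n) :
    Module.Finite R (A ⧸ J) ∧ Module.Projective R (A ⧸ J) := by
  classical
  haveI := V.ff
  haveI := V.flat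
  haveI : Finite (M ⧸ powSub M n) := finite_quot_powSub M n hn
  have key : ∀ i, Module.Finite (V.Q i) (V.Q i ⊗[R] (A ⧸ J)) ∧
      Module.Projective (V.Q i) (V.Q i ⊗[R] (A ⧸ J)) := by
    intro i
    let el : (V.Q i ⊗[R] (A ⧸ J)) ≃ₗ[V.Q i] MonoidAlgebra (V.Q i) (M ⧸ powSub M n) :=
      (redE (V.ε i) n J hJ).toCoalgEquiv.toLinearEquiv
    haveI : Module.Finite (V.Q i) (MonoidAlgebra (V.Q i) (M ⧸ powSub M n)) :=
      Module.Finite.of_basis (MonoidAlgebra.basis (M ⧸ powSub M n) (V.Q i))
    haveI : Module.Projective (V.Q i) (MonoidAlgebra (V.Q i) (M ⧸ powSub M n)) :=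
      Module.Projective.of_basis (MonoidAlgebra.basis (M ⧸ powSub M n) (V.Q i))
    exact ⟨Module.Finite.equiv el.symm, Module.Projective.of_equiv el.symm⟩
  exact FamProj.finite_projective_of_forall V.Q (A ⧸ J) (fun i => (key i).1)
    (fun i => (key i).2)

/-- A finite dual basis of a finite projective module. -/
theorem exists_dual_basis (N : Type u) [AddCommGroup N] [Module R N] [Module.Finite R N]
    [Module.Projective R N] :
    ∃ (k : ℕ) (b : Fin k → N) (β : Fin k → N →ₗ[R] R), ∀ x : N, x = ∑ j, β j x • b j := by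
  obtain ⟨k, f, g, -, -, hfg⟩ := Module.Finite.exists_comp_eq_id_of_projective R N
  refine ⟨k, fun j => f (Pi.single j 1), fun j => (LinearMap.proj j) ∘ₗ g, ?_⟩
  intro x
  have h1 : x = f (g x) := by
    have := LinearMap.congr_fun hfg x
    exact this.symm
  have h2 : g x = ∑ j, (g x j) • (Pi.single j (1 : R) : Fin k → R) := by
    ext j
    simp [Finset.sum_apply, Pi.single_apply]
  conv_lhs => rw [h1, h2, map_sum]
  apply Finset.sum_congr rfl
  intro j _
  rw [map_smul]
  rfl

include V hJ in
/-- Group elements of the reduction lift to group-like elements of the torsion quotient. -/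
theorem exists_lift_torsion (hn : 0 < n) (I : Ideal R) (hI : I ≤ Ideal.jacobson ⊥)
    (hIL : ∀ (X : Type u) [CommRing X] [Algebra R X] [Module.Finite R X],
      IdemLift (I.map (algebraMap R X)))
    (e₀ : (R ⧸ I) ⊗[R] A ≃ₐc[R ⧸ I] MonoidAlgebra (R ⧸ I) M) (m : M) :
    ∃ a : A, IsGroupLikeElem R (Ideal.Quotient.mk J a) ∧
      quotMap (R ⧸ I) M n (e₀ ((1 : R ⧸ I) ⊗ₜ[R] a)) =
        MonoidAlgebra.single (QuotientGroup.mk' (powSub M n) m) 1 := by
  haveI : Coalgebra.IsCocomm R A := V.isCocomm
  haveI : Coalgebra.IsCocomm R (A ⧸ J) := isCocomm_quot J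
  obtain ⟨hfin, hproj⟩ := finite_projective_quot V n J hJ hn
  haveI := hfin
  haveI := hproj
  obtain ⟨k, b, β, hb⟩ := exists_dual_basis (R := R) (A ⧸ J)
  haveI : Module.Finite R (CartLift.E R (A ⧸ J)) := CartLift.finite_E b β hb
  obtain ⟨g, hg, hge⟩ := CartLift.exists_groupLike_lift I b β (redE e₀ n J hJ) hI hb
    (hIL (CartLift.E R (A ⧸ J))) (QuotientGroup.mk' (powSub M n) m)
  obtain ⟨a, rfl⟩ := Ideal.Quotient.mk_surjective g
  refine ⟨a, hg, ?_⟩
  rw [← redE_one_tmul_mk e₀ n J hJ a]
  exact hge

end TorsionLevel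

end Groth.Agent.Lib.Helper25.HensDiag
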