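import Groth.Agent.Lib.Helper25FrobSplit2
import Groth.Agent.Lib.Helper25TorsQuot

/-!
# The torsion ideals of a commutative cocommutative Hopf algebra are Hopf ideals (helper25)

* `imIdeal σ`: for a bialgebra map `σ : A → E` of commutative Hopf algebras over a ring, the ideal
  of `E` generated by the image of the augmentation ideal of `A`; it is a Hopf ideal.
* `powBialg n`: the `n`-th power map of a commutative cocommutative Hopf algebra as a bialgebra map,
  `powConv_eq`.
* `isHopfIdeal_torsionIdeal`.
* `isCocomm_of_forall`: cocommutativity descends along a jointly faithfully flat family.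
-/

set_option autoImplicit false
set_option linter.unusedSectionVars false
set_option linter.style.haveILetI false
universe u

open TensorProduct WithConv

namespace Groth.Agent.Lib.Helper25.TorsHopf

open Groth.Agent.Lib.Helper25 Groth.Agent.Lib.Helper25.FrobSplit SGA3b

section General

variable {R : Type u} [CommRing R] {E : Type u} {A : Type u} [CommRing E] [HopfAlgebra R E]
  [CommRing A] [HopfAlgebra R A] (σ : A →ₐc[R] E)

/-- The ideal generated by the image of the augmentation ideal. -/
def imIdeal : Ideal E :=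
  Ideal.map (σ : A →+* E) (RingHom.ker (Bialgebra.counitAlgHom R A))

theorem sigma_mem_imIdeal {x : A} (hx : Coalgebra.counit (R := R) x = 0) :
    σ x ∈ imIdeal σ :=
  Ideal.mem_map_of_mem (σ : A →+* E) (by simpa [RingHom.mem_ker] using hx)

theorem imIdeal_le_iff (J : Ideal E) :
    imIdeal σ ≤ J ↔ ∀ x : A, Coalgebra.counit (R := R) x = 0 → σ x ∈ J := by
  unfold imIdeal
  rw [Ideal.map_le_iff_le_comap]
  constructor
  · intro h x hx
    exact h (by simpa [RingHom.mem_ker] using hx)
  · intro h x hx
    exact h x (by simpa [RingHom.mem_ker] using hx)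

theorem mk_sigma (x : A) :
    Ideal.Quotient.mk (imIdeal σ) (σ x) =
      algebraMap R (E ⧸ imIdeal σ) (Coalgebra.counit (R := R) x) := by
  have h : σ (x - algebraMap R A (Coalgebra.counit (R := R) x)) ∈ imIdeal σ :=
    sigma_mem_imIdeal σ (by simp)
  rw [map_sub, AlgHomClass.commutes] at h
  have := (Ideal.Quotient.eq_zero_iff_mem).mpr h
  rw [map_sub, sub_eq_zero] at this
  rw [this]
  rfl

theorem mk_comp_sigma :
    (Ideal.Quotient.mkₐ R (imIdeal σ)).toLinearMap ∘ₗ (σ : A →ₐ[R] E).toLinearMap =
      cu R A (E ⧸ imIdeal σ) := by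
  ext x
  exact mk_sigma σ x

theorem counit_sigma (x : A) : Coalgebra.counit (R := R) (σ x) = Coalgebra.counit (R := R) x :=
  CoalgHomClass.counit_comp_apply σ x

theorem imIdeal_le_ker_counit : imIdeal σ ≤ RingHom.ker (Bialgebra.counitAlgHom R E) := by
  rw [imIdeal_le_iff]
  intro x hx
  rw [RingHom.mem_ker]
  change Coalgebra.counit (R := R) (σ x) = 0
  rw [counit_sigma, hx]

theorem map_counit_counit_comul {C : Type*} [AddCommMonoid C] [Module R C] [Coalgebra R C]
    (x : C) :
    TensorProduct.map (Coalgebra.counit (R := R) (A := C)) (Coalgebra.counit (R := R) (A := C))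
      (Coalgebra.comul x) = (1 : R) ⊗ₜ[R] Coalgebra.counit (R := R) x := by
  have h := Coalgebra.rTensor_counit_comul (R := R) x
  have h2 : TensorProduct.map (Coalgebra.counit (R := R) (A := C))
      (Coalgebra.counit (R := R) (A := C))
      = (LinearMap.lTensor R (Coalgebra.counit (R := R) (A := C))) ∘ₗ
        (LinearMap.rTensor C (Coalgebra.counit (R := R) (A := C))) := by
    ext a b
    simp
  rw [h2, LinearMap.comp_apply, h, LinearMap.lTensor_tmul]

theorem isHopfIdeal_imIdeal : (imIdeal σ).IsHopfIdeal R := by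
  have hcou : ∀ x ∈ imIdeal σ, Coalgebra.counit (R := R) x = 0 := by
    intro x hx
    have := imIdeal_le_ker_counit σ hx
    rwa [RingHom.mem_ker] at this
  set πI : E →ₐ[R] E ⧸ imIdeal σ := Ideal.Quotient.mkₐ R (imIdeal σ) with hπI
  set G : E →ₐ[R] (E ⧸ imIdeal σ) ⊗[R] (E ⧸ imIdeal σ) :=
    (Algebra.TensorProduct.map πI πI).comp (Bialgebra.comulAlgHom R E) with hG
  have hcom : imIdeal σ ≤ RingHom.ker G := by
    rw [imIdeal_le_iff]
    intro x hx
    rw [RingHom.mem_ker]
    change TensorProduct.map πI.toLinearMap πI.toLinearMap (Coalgebra.comul (σ x)) = 0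
    have h1 : Coalgebra.comul (R := R) (σ x) =
        TensorProduct.map (σ : A →ₐ[R] E).toLinearMap (σ : A →ₐ[R] E).toLinearMap
          (Coalgebra.comul x) := (CoalgHomClass.map_comp_comul_apply σ x).symm
    rw [h1, ← LinearMap.comp_apply, ← TensorProduct.map_comp, mk_comp_sigma]
    have h2 : TensorProduct.map (cu R A (E ⧸ imIdeal σ)) (cu R A (E ⧸ imIdeal σ)) =
        TensorProduct.map (Algebra.linearMap R (E ⧸ imIdeal σ))
          (Algebra.linearMap R (E ⧸ imIdeal σ)) ∘ₗ
        TensorProduct.map (Coalgebra.counit (R := R) (A := A))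
          (Coalgebra.counit (R := R) (A := A)) := by
      rw [← TensorProduct.map_comp]
      rfl
    rw [h2, LinearMap.comp_apply, map_counit_counit_comul, hx, tmul_zero, map_zero]
  have hant : imIdeal σ ≤ Ideal.comap (HopfAlgebra.antipodeAlgHom R E : E →+* E) (imIdeal σ) := by
    rw [imIdeal_le_iff]
    intro x hx
    rw [Ideal.mem_comap]
    change HopfAlgebra.antipode R (σ x) ∈ imIdeal σ
    have h1 := LinearMap.congr_fun (antipode_comp_bialgHom σ) x
    simp only [LinearMap.comp_apply] at h1
    change HopfAlgebra.antipode R (σ x) = σ (HopfAlgebra.antipode R x) at h1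
    rw [h1]
    exact sigma_mem_imIdeal σ (by rw [HopfAlgebra.counit_antipode, hx])
  refine { counit_eq_zero := ?_, map_mkQ_comul_eq_zero := ?_, antipode_mem := ?_ }
  · intro x hx
    exact hcou x hx
  · intro x hx
    have := hcom hx
    rw [RingHom.mem_ker] at this
    exact this
  · intro x hx
    exact hant hx

end General

section Pow

variable (R : Type u) [CommRing R] (A : Type u) [CommRing A] [HopfAlgebra R A]
  [Coalgebra.IsCocomm R A]

/-- The `n`-th power map as a bialgebra map. -/
noncomputable def powBialg (n : ℕ) : A →ₐc[R] A :=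
  ((toConv (BialgHom.id R A)) ^ n).ofConv

theorem powConv_eq (n : ℕ) : powConv R A n = ((powBialg R A n : A →ₐc[R] A) : A →ₐ[R] A) := by
  have h := BialgHom.toAlgHom_convPow (toConv (BialgHom.id R A)) n
  have h2 := congrArg WithConv.ofConv h
  rw [WithConv.ofConv_toConv] at h2
  unfold powConv powBialg
  rw [h2]
  rfl

theorem torsionIdeal_eq_imIdeal (n : ℕ) : torsionIdeal R A n = imIdeal (powBialg R A n) := by
  unfold torsionIdeal imIdeal
  rw [powConv_eq]
  rfl

theorem isHopfIdeal_torsionIdeal (n : ℕ) : (torsionIdeal R A n).IsHopfIdeal R := by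
  rw [torsionIdeal_eq_imIdeal]
  exact isHopfIdeal_imIdeal _

end Pow

end Groth.Agent.Lib.Helper25.TorsHopf
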