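import Groth.Agent.Lib.Helper25HCb
import Groth.Agent.Lib.Helper25HCc
import Groth.Agent.Lib.Helper25HensDiagB
import Groth.Agent.Lib.Helper25TorsHopf
import Groth.Agent.Lib.Helper25HensLocal
import Groth.Agent.S5242

/-!
# The finite part of the torsion of `H` and the open subgroup of multiplicative type (helper25)

* `isCocomm_of_isMultType_local`.
* `finite_fibre_torsion`: `C/(Jₙ + 𝔪C)` is finite when the closed fibre is of multiplicative type.
* `core`: comparison of the two idempotents modulo the torsion ideal and the kernel of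
  `C' → M'/Jₙ(M')`.
-/

set_option autoImplicit false
set_option linter.unusedSectionVars false
set_option linter.style.haveILetI false
universe u

namespace Groth.Agent.Lib.Helper25.HC

open TensorProduct SGA3b Groth.Agent.Lib.Helper25 Groth.Agent.Lib.Helper25.Tors BCB

section Cocomm

variable {R : Type u} [CommRing R] {H H' : Type u} [CommRing H] [HopfAlgebra R H]
  [CommRing H'] [HopfAlgebra R H']

theorem isCocomm_of_equiv (e : H ≃ₐc[R] H') [Coalgebra.IsCocomm R H'] : Coalgebra.IsCocomm R H := by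
  refine ⟨?_⟩
  apply LinearMap.ext
  intro h
  rw [LinearMap.comp_apply]
  let ea : H →ₐ[R] H' := (e : H →ₐc[R] H')
  have hinj : Function.Injective (Algebra.TensorProduct.map ea ea) := by
    have : ⇑(Algebra.TensorProduct.map ea ea) =
        ⇑(TensorProduct.congr e.toCoalgEquiv.toLinearEquiv e.toCoalgEquiv.toLinearEquiv) := by
      ext z
      induction z using TensorProduct.induction_on with
      | zero => simp
      | add a b ha hb => rw [map_add, map_add, ha, hb]
      | tmul a b => rfl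
    rw [this]
    exact (TensorProduct.congr _ _).injective
  apply hinj
  have h1 : ∀ z : H ⊗[R] H, Algebra.TensorProduct.map ea ea (TensorProduct.comm R H H z) =
      TensorProduct.comm R H' H' (Algebra.TensorProduct.map ea ea z) := by
    intro z
    induction z using TensorProduct.induction_on with
    | zero => simp
    | add a b ha hb => simp only [map_add, ha, hb]
    | tmul a b => rfl
  have h2 : Algebra.TensorProduct.map ea ea (Coalgebra.comul (R := R) h) =
      Coalgebra.comul (R := R) (e h) := CoalgHomClass.map_comp_comul_apply e h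
  change Algebra.TensorProduct.map ea ea (TensorProduct.comm R H H (Coalgebra.comul (R := R) h)) =
    Algebra.TensorProduct.map ea ea (Coalgebra.comul (R := R) h)
  rw [h1, h2, Coalgebra.comm_comul]

theorem isCocomm_of_baseChange_ff (P : Type u) [CommRing P] [Algebra R P]
    [Module.FaithfullyFlat R P] [Coalgebra.IsCocomm P (P ⊗[R] H)] : Coalgebra.IsCocomm R H := by
  refine ⟨?_⟩
  apply LinearMap.ext
  intro h
  rw [LinearMap.comp_apply]
  apply bc2_injective P H
  have h1 : ∀ z : H ⊗[R] H, bc2 (A := R) P H (TensorProduct.comm R H H z) =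
      TensorProduct.comm P _ _ (bc2 (A := R) P H z) := by
    intro z
    induction z using TensorProduct.induction_on with
    | zero => simp
    | add a b ha hb => simp only [map_add, ha, hb]
    | tmul a b => simp [bc2_tmul]
  change bc2 (A := R) P H (TensorProduct.comm R H H (Coalgebra.comul (R := R) h)) =
    bc2 (A := R) P H (Coalgebra.comul (R := R) h)
  rw [h1, ← comul_one_tmul']
  exact Coalgebra.comm_comul P _

theorem isCocomm_of_isMultType_local [IsLocalRing R] (h : IsMultType R H) :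
    Coalgebra.IsCocomm R H := by
  obtain ⟨P, _, _, hff, M, _, ⟨e⟩⟩ := LocRigid.isMultTypeConst_of_isMultType_of_isLocalRing _ _ h
  haveI := hff
  haveI : Coalgebra.IsCocomm P (P ⊗[R] H) := isCocomm_of_equiv e
  exact isCocomm_of_baseChange_ff P

end Cocomm

section Fibre

open IsLocalRing

variable (A : Type u) [CommRing A] [IsLocalRing A] (C : Type u) [CommRing C] [HopfAlgebra A C]

/-- The closed fibre of the `n`-torsion is finite when the closed fibre of `H` is of
multiplicative type. -/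
theorem finite_fibre_torsion (hft : Algebra.FiniteType A C)
    (hs : IsMultType (ResidueField A) (ResidueField A ⊗[A] C)) (n : ℕ) (hn : 0 < n) :
    Module.Finite A (C ⧸ (torsionIdeal A C n ⊔ (maximalIdeal A).map (algebraMap A C))) := by
  let k := ResidueField A
  haveI := hft
  have hftk : Algebra.FiniteType k (k ⊗[A] C) := inferInstance
  haveI : Coalgebra.IsCocomm k (k ⊗[A] C) := isCocomm_of_isMultType_local hs
  haveI : (torsionIdeal k (k ⊗[A] C) n).IsHopfIdeal k := TorsHopf.isHopfIdeal_torsionIdeal k _ n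
  obtain ⟨-, hfin⟩ := Groth.Agent.S5242.result k (k ⊗[A] C) hftk hs n hn
    (torsionIdeal k (k ⊗[A] C) n) rfl
  haveI := hfin
  let X := C ⧸ (torsionIdeal A C n ⊔ (maximalIdeal A).map (algebraMap A C))
  -- `k → X`
  have hm : ∀ a ∈ maximalIdeal A, (Algebra.ofId A X) a = 0 := by
    intro a ha
    change algebraMap A X a = 0
    rw [IsScalarTower.algebraMap_apply A C X, Ideal.Quotient.algebraMap_eq,
      Ideal.Quotient.eq_zero_iff_mem]
    exact Ideal.mem_sup_right (Ideal.mem_map_of_mem _ ha)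
  let f : k →ₐ[A] X := Ideal.Quotient.liftₐ (maximalIdeal A) (Algebra.ofId A X) hm
  let g : C →ₐ[A] X := Ideal.Quotient.mkₐ A _
  let ρ : k ⊗[A] C →ₐ[A] X := Algebra.TensorProduct.lift f g (fun _ _ => Commute.all _ _)
  have hρ1 : ∀ c : C, ρ ((1 : k) ⊗ₜ[A] c) = g c := by
    intro c
    rw [Algebra.TensorProduct.lift_tmul, map_one, one_mul]
  have hρk : ∀ z ∈ torsionIdeal k (k ⊗[A] C) n, ρ z = 0 := by
    intro z hz
    rw [torsionIdeal_baseChange] at hz
    have hle : extIdeal A k (torsionIdeal A C n) ≤ RingHom.ker ρ.toRingHom := by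
      unfold extIdeal
      rw [Ideal.map_le_iff_le_comap]
      intro c hc
      rw [Ideal.mem_comap, RingHom.mem_ker]
      change ρ ((1 : k) ⊗ₜ[A] c) = 0
      rw [hρ1]
      exact Ideal.Quotient.eq_zero_iff_mem.mpr (Ideal.mem_sup_left hc)
    exact hle hz
  let ρb := Ideal.Quotient.liftₐ (torsionIdeal k (k ⊗[A] C) n) ρ hρk
  have hρs : Function.Surjective ρb := by
    intro x
    obtain ⟨c, rfl⟩ := Ideal.Quotient.mk_surjective x
    refine ⟨Ideal.Quotient.mk _ ((1 : k) ⊗ₜ[A] c), ?_⟩
    change ρ ((1 : k) ⊗ₜ[A] c) = _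
    rw [hρ1]
    rfl
  haveI : Module.Finite A k := inferInstanceAs (Module.Finite A (A ⧸ maximalIdeal A))
  haveI : Module.Finite A ((k ⊗[A] C) ⧸ torsionIdeal k (k ⊗[A] C) n) :=
    Module.Finite.trans k _
  exact Module.Finite.of_surjective ρb.toLinearMap hρs

end Fibre

section Core

variable (P : Type u) [CommRing P] (I : Ideal P) (hI : I ≤ Ideal.jacobson ⊥)
  {C' : Type u} [CommRing C'] [HopfAlgebra P C']
  (e' : C') (he' : IsIdempotentElem e') (he'I : e' ∈ I.map (algebraMap P C'))
  [hH : (Ideal.span ({e'} : Set C')).IsHopfIdeal P]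
  [Coalgebra.IsCocomm P (C' ⧸ Ideal.span ({e'} : Set C'))]
  (n : ℕ)

/-- The quotient map `C' → M' = C'/(e')`. -/
noncomputable abbrev qM : C' →ₐc[P] C' ⧸ Ideal.span ({e'} : Set C') :=
  Bialgebra.Quotient.mkBialgHom (R := P) (Ideal.span ({e'} : Set C'))

theorem qM_surjective : Function.Surjective (qM P e' : C' →+* C' ⧸ Ideal.span ({e'} : Set C')) := by
  intro y
  obtain ⟨x, rfl⟩ := Ideal.Quotient.mk_surjective y
  exact ⟨x, rfl⟩

theorem qM_surjective' : Function.Surjective (qM P e') := by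
  intro y
  obtain ⟨x, rfl⟩ := Ideal.Quotient.mk_surjective y
  exact ⟨x, rfl⟩

instance instHopfTors : (torsionIdeal P (C' ⧸ Ideal.span ({e'} : Set C')) n).IsHopfIdeal P :=
  TorsHopf.isHopfIdeal_torsionIdeal P _ n

/-- `Φ : C' → M'/Jₙ(M')`. -/
noncomputable abbrev Phi : C' →ₐc[P]
    (C' ⧸ Ideal.span ({e'} : Set C')) ⧸ torsionIdeal P (C' ⧸ Ideal.span ({e'} : Set C')) n :=
  (Bialgebra.Quotient.mkBialgHom (R := P)
    (torsionIdeal P (C' ⧸ Ideal.span ({e'} : Set C')) n)).comp (qM P e')

theorem Phi_surjective : Function.Surjective (Phi P e' n) := by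
  intro y
  obtain ⟨y', rfl⟩ := Ideal.Quotient.mk_surjective y
  obtain ⟨x, rfl⟩ := Ideal.Quotient.mk_surjective y'
  exact ⟨x, rfl⟩

theorem Phi_eq_zero_iff (x : C') :
    Phi P e' n x = 0 ↔ x ∈ torsionIdeal P C' n ⊔ Ideal.span ({e'} : Set C') := by
  constructor
  · intro h
    have h1 : qM P e' x ∈ torsionIdeal P (C' ⧸ Ideal.span ({e'} : Set C')) n :=
      Ideal.Quotient.eq_zero_iff_mem.mp h
    have h2 := torsionIdeal_le_map_of_surjective (qM P e') (qM_surjective' P e') n h1
    rw [Ideal.mem_map_iff_of_surjective _ (qM_surjective P e')] at h2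
    obtain ⟨t, ht, hte⟩ := h2
    have h3 : t - x ∈ Ideal.span ({e'} : Set C') := by
      rw [← Ideal.Quotient.eq]; exact hte
    have h4 : x = t - (t - x) := by ring
    rw [h4]
    exact sub_mem (Ideal.mem_sup_left ht) (Ideal.mem_sup_right h3)
  · intro h
    obtain ⟨t, ht, y, hy, rfl⟩ := Submodule.mem_sup.mp h
    rw [map_add]
    have h1 : Phi P e' n t = 0 := by
      have := map_mem_torsionIdeal (qM P e') n ht
      exact Ideal.Quotient.eq_zero_iff_mem.mpr this
    have h2 : Phi P e' n y = 0 := by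
      have : qM P e' y = 0 := Ideal.Quotient.eq_zero_iff_mem.mpr hy
      change Ideal.Quotient.mk _ (qM P e' y) = 0
      rw [this, map_zero]
    rw [h1, h2, add_zero]

include hI he' he'I in
/-- The two idempotents agree modulo the torsion ideal. -/
theorem core (x₁ : C') (hx₁ : x₁ * x₁ - x₁ ∈ torsionIdeal P C' n)
    (hx₁I : x₁ ∈ torsionIdeal P C' n ⊔ I.map (algebraMap P C'))
    (hfin₁ : Module.Finite P (C' ⧸ (torsionIdeal P C' n ⊔ Ideal.span ({x₁} : Set C'))))
    (hfin₂ : Module.Finite P ((C' ⧸ Ideal.span ({e'} : Set C')) ⧸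
      torsionIdeal P (C' ⧸ Ideal.span ({e'} : Set C')) n)) :
    e' - x₁ ∈ torsionIdeal P C' n := by
  set 𝔱 := torsionIdeal P C' n with h𝔱
  let Λ := C' ⧸ 𝔱
  let mk : C' →+* Λ := Ideal.Quotient.mk 𝔱
  let mka : C' →ₐ[P] Λ := Ideal.Quotient.mkₐ P 𝔱
  have hmkI : ∀ x ∈ I.map (algebraMap P C'), mk x ∈ I.map (algebraMap P Λ) := by
    intro x hx
    have h2 := Ideal.mem_map_of_mem mk hx
    rw [Ideal.map_map] at h2
    exact h2
  have hf₁ : IsIdempotentElem (mk x₁) := by
    unfold IsIdempotentElem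
    rw [← map_mul, ← sub_eq_zero, ← map_sub]
    exact Ideal.Quotient.eq_zero_iff_mem.mpr hx₁
  have hf₂ : IsIdempotentElem (mk e') := he'.map mk
  have hf₁I : mk x₁ ∈ I.map (algebraMap P Λ) := by
    obtain ⟨t, ht, y, hy, rfl⟩ := Submodule.mem_sup.mp hx₁I
    rw [map_add]
    have : mk t = 0 := Ideal.Quotient.eq_zero_iff_mem.mpr ht
    rw [this, zero_add]
    exact hmkI y hy
  have hf₂I : mk e' ∈ I.map (algebraMap P Λ) := hmkI e' he'I
  -- finiteness of `Λ/(f₁)`
  haveI : Module.Finite P (Λ ⧸ Ideal.span ({mk x₁} : Set Λ)) := by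
    haveI := hfin₁
    let g : C' →ₐ[P] Λ ⧸ Ideal.span ({mk x₁} : Set Λ) := (Ideal.Quotient.mkₐ P _).comp mka
    have hg : ∀ x ∈ 𝔱 ⊔ Ideal.span ({x₁} : Set C'), g x = 0 := by
      intro x hx
      obtain ⟨t, ht, y, hy, rfl⟩ := Submodule.mem_sup.mp hx
      obtain ⟨r, rfl⟩ := Ideal.mem_span_singleton'.mp hy
      rw [map_add]
      have h1 : g t = 0 := by
        change Ideal.Quotient.mk _ (mk t) = 0
        have : mk t = 0 := Ideal.Quotient.eq_zero_iff_mem.mpr ht
        rw [this, map_zero]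
      have h2 : g (r * x₁) = 0 := by
        change Ideal.Quotient.mk _ (mk (r * x₁)) = 0
        rw [map_mul, Ideal.Quotient.eq_zero_iff_mem]
        exact Ideal.mul_mem_left _ _ (Ideal.mem_span_singleton_self _)
      rw [h1, h2, add_zero]
    let gb := Ideal.Quotient.liftₐ (𝔱 ⊔ Ideal.span ({x₁} : Set C')) g hg
    have hgs : Function.Surjective gb := by
      intro y
      obtain ⟨y', rfl⟩ := Ideal.Quotient.mk_surjective y
      obtain ⟨x, rfl⟩ := Ideal.Quotient.mk_surjective y'
      exact ⟨Ideal.Quotient.mk _ x, rfl⟩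
    exact Module.Finite.of_surjective gb.toLinearMap hgs
  -- finiteness of `Λ/(f₂)`
  haveI : Module.Finite P (Λ ⧸ Ideal.span ({mk e'} : Set Λ)) := by
    haveI := hfin₂
    let g : C' →ₐ[P] Λ ⧸ Ideal.span ({mk e'} : Set Λ) := (Ideal.Quotient.mkₐ P _).comp mka
    have hg1 : ∀ x ∈ Ideal.span ({e'} : Set C'), g x = 0 := by
      intro x hx
      obtain ⟨r, rfl⟩ := Ideal.mem_span_singleton'.mp hx
      change Ideal.Quotient.mk _ (mk (r * e')) = 0
      rw [map_mul, Ideal.Quotient.eq_zero_iff_mem]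
      exact Ideal.mul_mem_left _ _ (Ideal.mem_span_singleton_self _)
    let g1 : (C' ⧸ Ideal.span ({e'} : Set C')) →ₐ[P] Λ ⧸ Ideal.span ({mk e'} : Set Λ) :=
      Ideal.Quotient.liftₐ _ g hg1
    have hg2 : ∀ y ∈ torsionIdeal P (C' ⧸ Ideal.span ({e'} : Set C')) n, g1 y = 0 := by
      intro y hy
      have h2 := torsionIdeal_le_map_of_surjective (qM P e') (qM_surjective' P e') n hy
      rw [Ideal.mem_map_iff_of_surjective _ (qM_surjective P e')] at h2
      obtain ⟨t, ht, rfl⟩ := h2
      change Ideal.Quotient.mk _ (mk t) = 0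
      have : mk t = 0 := Ideal.Quotient.eq_zero_iff_mem.mpr ht
      rw [this, map_zero]
    let gb := Ideal.Quotient.liftₐ _ g1 hg2
    have hgs : Function.Surjective gb := by
      intro y
      obtain ⟨y', rfl⟩ := Ideal.Quotient.mk_surjective y
      obtain ⟨x, rfl⟩ := Ideal.Quotient.mk_surjective y'
      exact ⟨Ideal.Quotient.mk _ (Ideal.Quotient.mk _ x), rfl⟩
    exact Module.Finite.of_surjective gb.toLinearMap hgs
  have heq := idem_eq_of_finite_quot I hI (mk e') (mk x₁) hf₂ hf₁ hf₂I hf₁I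
  rw [← sub_eq_zero, ← map_sub] at heq
  exact Ideal.Quotient.eq_zero_iff_mem.mp heq

end Core

end Groth.Agent.Lib.Helper25.HC
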