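import Groth.Agent.Lib.Helper25HCd
import Groth.Agent.Lib.Helper25EtNilC

/-!
# The open subgroup of multiplicative type over the completion (helper25)
-/

set_option autoImplicit false
set_option linter.unusedSectionVars false
set_option linter.style.haveILetI false
universe u

namespace Groth.Agent.Lib.Helper25.HC

open TensorProduct SGA3b Groth.Agent.Lib.Helper25 Groth.Agent.Lib.Helper25.Tors BCB IsLocalRing

section Open

variable (A : Type u) [CommRing A] [IsLocalRing A]
  (P : Type u) [CommRing P] [Algebra A P] [IsNoetherianRing P] [IsLocalRing P]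
  [IsAdicComplete (maximalIdeal P) P]
  (hmax : maximalIdeal P = (maximalIdeal A).map (algebraMap A P))
  (C : Type u) [CommRing C] [HopfAlgebra A C] (hft : Algebra.FiniteType A C)
  (hfl : LevelFlat A (maximalIdeal A) C)
  (hs : IsMultType (ResidueField A) (ResidueField A ⊗[A] C))

include hmax hfl in
theorem levelFlat_baseChange : LevelFlat P (maximalIdeal P) (P ⊗[A] C) := by
  intro T _ _ k hT
  letI : Algebra A T := ((algebraMap P T).comp (algebraMap A P)).toAlgebra
  haveI : IsScalarTower A P T := IsScalarTower.of_algebraMap_eq (fun _ => rfl)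
  haveI : Module.Flat T (T ⊗[A] C) := by
    apply hfl T k
    intro a ha
    rw [IsScalarTower.algebraMap_apply A P T]
    apply hT
    rw [hmax]
    exact Ideal.mem_map_of_mem _ ha
  exact Module.Flat.of_linearEquiv (AlgebraTensorModule.cancelBaseChange A P T T C)

include hmax hft hs in
theorem isIsotrivial_closedFibre :
    IsIsotrivial (P ⧸ maximalIdeal P) ((P ⧸ maximalIdeal P) ⊗[P] (P ⊗[A] C)) := by
  letI : Field (P ⧸ maximalIdeal P) := Ideal.Quotient.field (maximalIdeal P)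
  let k := ResidueField A
  let kP := P ⧸ maximalIdeal P
  haveI : IsLocalHom (algebraMap A P) := by
    apply ((IsLocalRing.local_hom_TFAE (algebraMap A P)).out 0 2).mpr
    rw [hmax]
  letI : Algebra k kP := (ResidueField.map (algebraMap A P)).toAlgebra
  haveI : IsScalarTower A k kP := IsScalarTower.of_algebraMap_eq (fun _ => rfl)
  haveI := hft
  have hftk : Algebra.FiniteType kP (kP ⊗[P] (P ⊗[A] C)) := inferInstance
  have h1 : IsMultType kP (kP ⊗[k] (k ⊗[A] C)) := EtNil.isMultType_baseChange k (k ⊗[A] C) kP hs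
  have h2 : IsMultType kP (kP ⊗[P] (P ⊗[A] C)) :=
    isMultType_of_equiv ((cancelBC A P kP C).trans (cancelBC A k kP C).symm) h1
  exact HensFEt.isIsotrivial_of_field kP _ hftk h2

include hmax hft hfl hs in
theorem exists_open_subgroup :
    ∃ e' : P ⊗[A] C, IsIdempotentElem e' ∧
      e' ∈ (maximalIdeal P).map (algebraMap P (P ⊗[A] C)) ∧
      ∃ _ : (Ideal.span ({e'} : Set (P ⊗[A] C))).IsHopfIdeal P,
        IsIsotrivial P ((P ⊗[A] C) ⧸ Ideal.span ({e'} : Set (P ⊗[A] C))) := by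
  haveI := hft
  exact exists_clopen_isotrivial P (maximalIdeal P) (P ⊗[A] C) inferInstance
    (levelFlat_baseChange A P hmax C hfl) (isIsotrivial_closedFibre A P hmax C hft hs)

end Open

end Groth.Agent.Lib.Helper25.HC

namespace Groth.Agent.Lib.Helper25.HC

open TensorProduct SGA3b Groth.Agent.Lib.Helper25 Groth.Agent.Lib.Helper25.Tors BCB IsLocalRing

section Aux

variable {R : Type u} [CommRing R]

theorem isMultType_of_isIsotrivial {H : Type u} [CommRing H] [HopfAlgebra R H]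
    (h : IsIsotrivial R H) : IsMultType R H := by
  obtain ⟨R', _, _, -, -, hff, hD⟩ := h
  exact isMultType_of_isMultTypeConst R H ⟨R', inferInstance, inferInstance, hff, hD⟩

theorem sup_span_eq_of_sub_mem {X : Type u} [CommRing X] (𝔱 : Ideal X) {a b : X}
    (h : a - b ∈ 𝔱) : 𝔱 ⊔ Ideal.span ({a} : Set X) = 𝔱 ⊔ Ideal.span ({b} : Set X) := by
  apply le_antisymm
  · refine sup_le le_sup_left ?_
    rw [Ideal.span_singleton_le_iff_mem]
    have : a = (a - b) + b := by ring
    rw [this]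
    exact add_mem (Ideal.mem_sup_left h) (Ideal.mem_sup_right (Ideal.mem_span_singleton_self b))
  · refine sup_le le_sup_left ?_
    rw [Ideal.span_singleton_le_iff_mem]
    have : b = a - (a - b) := by ring
    rw [this]
    exact sub_mem (Ideal.mem_sup_right (Ideal.mem_span_singleton_self a)) (Ideal.mem_sup_left h)

end Aux

section Finite

variable (A : Type u) [CommRing A] [HenselianLocalRing A]
  (P : Type u) [CommRing P] [Algebra A P] [IsNoetherianRing P] [IsLocalRing P]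
  [IsAdicComplete (maximalIdeal P) P] [Module.FaithfullyFlat A P]
  (hmax : maximalIdeal P = (maximalIdeal A).map (algebraMap A P))
  (C : Type u) [CommRing C] [HopfAlgebra A C] (hft : Algebra.FiniteType A C)
  (hfl : LevelFlat A (maximalIdeal A) C)
  (hs : IsMultType (ResidueField A) (ResidueField A ⊗[A] C))

theorem extIdeal_sup_span (J : Ideal C) (y : C) :
    extIdeal A P (J ⊔ Ideal.span ({y} : Set C)) =
      extIdeal A P J ⊔ Ideal.span ({(1 : P) ⊗ₜ[A] y} : Set (P ⊗[A] C)) := by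
  unfold extIdeal
  rw [Ideal.map_sup, Ideal.map_span, Set.image_singleton]
  rfl

theorem one_tmul_mem_map_maximalIdeal {y : C} (hy : y ∈ (maximalIdeal A).map (algebraMap A C)) :
    (1 : P) ⊗ₜ[A] y ∈ ((maximalIdeal A).map (algebraMap A P)).map
      (algebraMap P (P ⊗[A] C)) := by
  have h1 := Ideal.mem_map_of_mem
    (Algebra.TensorProduct.includeRight : C →ₐ[A] P ⊗[A] C).toRingHom hy
  rw [Ideal.map_map] at h1
  rw [Ideal.map_map]
  have h2 : (Algebra.TensorProduct.includeRight : C →ₐ[A] P ⊗[A] C).toRingHom.comp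
      (algebraMap A C) = (algebraMap P (P ⊗[A] C)).comp (algebraMap A P) := by
    ext a
    change (1 : P) ⊗ₜ[A] (algebraMap A C a) = (algebraMap A P a) ⊗ₜ[A] (1 : C)
    rw [Algebra.algebraMap_eq_smul_one, Algebra.algebraMap_eq_smul_one, TensorProduct.tmul_smul,
      TensorProduct.smul_tmul']
  rw [h2] at h1
  exact h1

include hmax hft hfl hs in
theorem exists_finite_part (n : ℕ) (hn : 0 < n) :
    ∃ (𝔞 : Ideal C) (_ : 𝔞.IsHopfIdeal A), Module.Finite A (C ⧸ 𝔞) ∧ IsMultType A (C ⧸ 𝔞) ∧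
      Coalgebra.IsCocomm P (P ⊗[A] (C ⧸ 𝔞)) ∧
      ∀ (D : Type u) [CommRing D] [HopfAlgebra A D] [Module.Finite A D], IsKilled A D n →
        ∀ (θ' : P ⊗[A] C →ₐc[P] P ⊗[A] D), ∀ z ∈ extIdeal A P 𝔞, θ' z = 0 := by
  obtain ⟨e', he', he'I, hH, hiso⟩ := exists_open_subgroup A P hmax C hft hfl hs
  haveI := hH
  haveI := hft
  have hI : maximalIdeal P ≤ Ideal.jacobson ⊥ := IsLocalRing.maximalIdeal_le_jacobson ⊥
  have hMmt : IsMultType P ((P ⊗[A] C) ⧸ Ideal.span ({e'} : Set (P ⊗[A] C))) :=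
    isMultType_of_isIsotrivial hiso
  haveI : Coalgebra.IsCocomm P ((P ⊗[A] C) ⧸ Ideal.span ({e'} : Set (P ⊗[A] C))) :=
    isCocomm_of_isMultType_local hMmt
  have hMft : Algebra.FiniteType P ((P ⊗[A] C) ⧸ Ideal.span ({e'} : Set (P ⊗[A] C))) :=
    inferInstance
  obtain ⟨hFmt, hFfin⟩ := Groth.Agent.S5242.result P _ hMft hMmt n hn
    (torsionIdeal P ((P ⊗[A] C) ⧸ Ideal.span ({e'} : Set (P ⊗[A] C))) n) rfl
  have hfib := finite_fibre_torsion A C hft hs n hn
  obtain ⟨ε, hε1, hεfin, hεm⟩ := exists_split A C (torsionIdeal A C n) hfib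
  set 𝔞 : Ideal C := torsionIdeal A C n ⊔ Ideal.span ({1 - ε} : Set C) with h𝔞
  set x₁ : P ⊗[A] C := (1 : P) ⊗ₜ[A] (1 - ε) with hx₁def
  have hext : extIdeal A P 𝔞 =
      torsionIdeal P (P ⊗[A] C) n ⊔ Ideal.span ({x₁} : Set (P ⊗[A] C)) := by
    rw [h𝔞, extIdeal_sup_span, torsionIdeal_baseChange]
  have hx₁ : x₁ * x₁ - x₁ ∈ torsionIdeal P (P ⊗[A] C) n := by
    have h1 : x₁ * x₁ - x₁ = (1 : P) ⊗ₜ[A] (ε * ε - ε) := by
      rw [hx₁def, Algebra.TensorProduct.tmul_mul_tmul, mul_one, ← TensorProduct.tmul_sub]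
      congr 1
      ring
    rw [h1]
    exact one_tmul_mem_torsionIdeal P n hε1
  have hx₁I : x₁ ∈ torsionIdeal P (P ⊗[A] C) n ⊔
      (maximalIdeal P).map (algebraMap P (P ⊗[A] C)) := by
    obtain ⟨j, hj, y, hy, hjy⟩ := Submodule.mem_sup.mp hεm
    rw [hx₁def, ← hjy, TensorProduct.tmul_add]
    refine add_mem (Ideal.mem_sup_left (one_tmul_mem_torsionIdeal P n hj)) (Ideal.mem_sup_right ?_)
    rw [hmax]
    exact one_tmul_mem_map_maximalIdeal A P C hy
  -- the base-changed quotient map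
  let πa : P ⊗[A] C →ₐ[P] P ⊗[A] (C ⧸ 𝔞) :=
    Algebra.TensorProduct.map (AlgHom.id P P) (Ideal.Quotient.mkₐ A 𝔞)
  have hπa0 : ∀ z, πa z = Algebra.TensorProduct.map (AlgHom.id A P)
      (Ideal.Quotient.mkₐ A 𝔞) z := by
    intro z
    induction z using TensorProduct.induction_on with
    | zero => simp
    | add x y hx hy => rw [map_add, map_add, hx, hy]
    | tmul p x => rfl
  have hπas : Function.Surjective πa := by
    intro w
    obtain ⟨z, hz⟩ := Algebra.TensorProduct.map_surjective (AlgHom.id A P)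
      (Ideal.Quotient.mkₐ A 𝔞) Function.surjective_id
      (Ideal.Quotient.mkₐ_surjective A _) w
    exact ⟨z, by rw [hπa0, hz]⟩
  have hπak : ∀ z, πa z = 0 ↔ z ∈ extIdeal A P 𝔞 := by
    intro z
    rw [hπa0, ← ker_map_mk (A := A) (P := P) 𝔞, RingHom.mem_ker]
  have hfin₁ : Module.Finite P ((P ⊗[A] C) ⧸
      (torsionIdeal P (P ⊗[A] C) n ⊔ Ideal.span ({x₁} : Set (P ⊗[A] C)))) := by
    haveI := hεfin
    let mkq : P ⊗[A] C →ₐ[P] (P ⊗[A] C) ⧸
      (torsionIdeal P (P ⊗[A] C) n ⊔ Ideal.span ({x₁} : Set (P ⊗[A] C))) :=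
      Ideal.Quotient.mkₐ P _
    have H : RingHom.ker πa.toRingHom ≤ RingHom.ker mkq.toRingHom := by
      intro z hz
      have h1 : πa z = 0 := hz
      rw [hπak, hext] at h1
      exact Ideal.Quotient.eq_zero_iff_mem.mpr h1
    let gb := AlgHom.liftOfSurjective πa hπas mkq H
    have hgs : Function.Surjective gb := by
      intro y
      obtain ⟨z, rfl⟩ := Ideal.Quotient.mk_surjective y
      exact ⟨πa z, AlgHom.liftOfSurjective_apply πa hπas mkq H z⟩
    exact Module.Finite.of_surjective gb.toLinearMap hgs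
  have hcore := core P (maximalIdeal P) hI e' he' he'I n x₁ hx₁ hx₁I hfin₁ hFfin
  have hker : ∀ x, Phi P e' n x = 0 ↔ x ∈ extIdeal A P 𝔞 := by
    intro x
    rw [Phi_eq_zero_iff, hext, sup_span_eq_of_sub_mem _ hcore]
  -- Hopf ideal
  have hHext : (extIdeal A P 𝔞).IsHopfIdeal P := by
    have h1 := isHopfIdeal_ker (Phi P e' n) (Phi_surjective P e' n)
    have h2 : extIdeal A P 𝔞 = RingHom.ker (RingHomClass.toRingHom (Phi P e' n)) := by
      apply Ideal.ext
      intro x
      rw [RingHom.mem_ker]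
      exact (hker x).symm
    rw [h2]
    exact h1
  have hHa : 𝔞.IsHopfIdeal A := isHopfIdeal_of_baseChange 𝔞 hHext
  haveI := hHa
  let πb : P ⊗[A] C →ₐc[P] P ⊗[A] (C ⧸ 𝔞) := TorsQuot.bcMk (S := P) 𝔞
  have hπb : ∀ z, πb z = πa z := by
    intro z
    induction z using TensorProduct.induction_on with
    | zero => simp
    | add x y hx hy => rw [map_add, map_add, hx, hy]
    | tmul p x => rfl
  have hπbs : Function.Surjective πb := TorsQuot.bcMk_surjective 𝔞
  obtain ⟨eq⟩ := Adic.nonempty_bialgEquiv_of_ker_eq πb (Phi P e' n) hπbs (Phi_surjective P e' n)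
    (fun z => by rw [hπb, hπak, hker])
  have hEmtP : IsMultType P (P ⊗[A] (C ⧸ 𝔞)) := isMultType_of_equiv eq hFmt
  have hEmt : IsMultType A (C ⧸ 𝔞) := isMultType_of_baseChange_local P hEmtP
  haveI : Coalgebra.IsCocomm P (((P ⊗[A] C) ⧸ Ideal.span ({e'} : Set (P ⊗[A] C))) ⧸
      torsionIdeal P ((P ⊗[A] C) ⧸ Ideal.span ({e'} : Set (P ⊗[A] C))) n) :=
    HensDiag.isCocomm_quot _
  have hEco : Coalgebra.IsCocomm P (P ⊗[A] (C ⧸ 𝔞)) := isCocomm_of_equiv eq
  refine ⟨𝔞, hHa, hεfin, hEmt, hEco, ?_⟩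
  intro D _ _ _ hk θ' z hz
  rw [hext, sup_span_eq_of_sub_mem _ (show x₁ - e' ∈ torsionIdeal P (P ⊗[A] C) n by
    have := neg_mem hcore; rwa [neg_sub] at this)] at hz
  obtain ⟨t, ht, y, hy, rfl⟩ := Submodule.mem_sup.mp hz
  obtain ⟨r, rfl⟩ := Ideal.mem_span_singleton'.mp hy
  rw [map_add, map_mul]
  have h1 : θ' t = 0 := map_eq_zero_of_isKilled θ' (hk.baseChange P) ht
  have h2 : θ' e' = 0 := by
    apply idem_eq_zero_of_finite (maximalIdeal P) hI (θ' e') (he'.map θ')
    have h3 := Ideal.mem_map_of_mem (θ' : P ⊗[A] C →+* P ⊗[A] D) he'I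
    rw [Ideal.map_map] at h3
    have h4 : (θ' : P ⊗[A] C →+* P ⊗[A] D).comp (algebraMap P (P ⊗[A] C)) =
        algebraMap P (P ⊗[A] D) := by
      ext p
      exact AlgHomClass.commutes θ' p
    rw [h4] at h3
    exact h3
  rw [h1, h2, mul_zero, add_zero]

end Finite

end Groth.Agent.Lib.Helper25.HC
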