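import Groth.Agent.Lib.Helper25HensDiagH
import Groth.Agent.Lib.Helper25HensFEt
import Groth.Agent.Lib.Helper25EtNilC

/-!
# Isotriviality over a Henselian pair (helper25)

`isIsotrivial_of_hens`: for a Henselian pair `(R, I)`, a group of multiplicative type and of
finite type over `R` whose reduction modulo `I` is isotrivial is isotrivial.
-/

set_option autoImplicit false
set_option linter.unusedSectionVars false
set_option linter.style.haveILetI false
universe u

namespace Groth.Agent.Lib.Helper25.HensDiag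

open TensorProduct SGA3b Groth.Agent.Lib.Helper25 DescGL Tors LCVal DescLift BCB

section Aux

variable {R : Type u} [CommRing R]

theorem map_le_jacobson_of_isIntegral (I : Ideal R) (P : Type u) [CommRing P] [Algebra R P]
    [Algebra.IsIntegral R P] (hI : I ≤ Ideal.jacobson ⊥) :
    I.map (algebraMap R P) ≤ Ideal.jacobson ⊥ := by
  rw [Ideal.jacobson, le_sInf_iff]
  rintro m ⟨-, hm⟩
  rw [Ideal.map_le_iff_le_comap]
  haveI := hm
  have hmax : (m.comap (algebraMap R P)).IsMaximal :=
    Ideal.isMaximal_comap_of_isIntegral_of_isMaximal m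
  exact hI.trans (sInf_le ⟨bot_le, hmax⟩)

/-- Over the zero ring everything is isotrivial. -/
theorem isIsotrivial_of_subsingleton [Subsingleton R] (A : Type u) [CommRing A]
    [HopfAlgebra R A] : IsIsotrivial R A := by
  refine ⟨R, inferInstance, inferInstance, inferInstance, inferInstance, inferInstance,
    PUnit.{u + 1}, inferInstance, ⟨?_⟩⟩
  haveI : Subsingleton (R ⊗[R] A) := Module.subsingleton R _
  haveI : Subsingleton (MonoidAlgebra R PUnit.{u + 1}) := Module.subsingleton R _
  refine BialgEquiv.ofBijective ((Bialgebra.unitBialgHom R (MonoidAlgebra R PUnit.{u + 1})).comp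
    (Bialgebra.counitBialgHom R (R ⊗[R] A))) ⟨?_, ?_⟩
  · intro x y _
    exact Subsingleton.elim x y
  · intro y
    exact ⟨0, Subsingleton.elim _ _⟩

end Aux

section Main

variable {R : Type u} [CommRing R] (I : Ideal R) [HenselianRing R I]
  (A : Type u) [CommRing A] [HopfAlgebra R A]

/-- **Isotriviality over a Henselian pair.** -/
theorem isIsotrivial_of_hens (hft : Algebra.FiniteType R A) (h : IsMultType R A)
    (h0 : IsIsotrivial (R ⧸ I) ((R ⧸ I) ⊗[R] A)) : IsIsotrivial R A := by
  classical
  by_cases hR : Subsingleton R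
  · exact isIsotrivial_of_subsingleton A
  rw [not_subsingleton_iff_nontrivial] at hR
  obtain ⟨Q, _, _, het, hfin, hff, hD⟩ := h0
  letI : Algebra R Q := ((algebraMap (R ⧸ I) Q).comp (algebraMap R (R ⧸ I))).toAlgebra
  haveI : IsScalarTower R (R ⧸ I) Q := IsScalarTower.of_algebraMap_eq (fun _ => rfl)
  haveI := het
  haveI := hfin
  haveI := hff
  obtain ⟨P, _, _, θ, hetP, hfinP, hsurj, hker⟩ := HensFEt.exists_finEtale_lift I Q
  haveI := hetP
  haveI := hfinP
  have hπ : Function.Surjective (algebraMap R (R ⧸ I)) := Ideal.Quotient.mk_surjective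
  have hjac : RingHom.ker (algebraMap R (R ⧸ I)) ≤ Ideal.jacobson ⊥ := by
    rw [Ideal.Quotient.algebraMap_eq, Ideal.mk_ker]
    exact HenselianRing.jac
  haveI hffP : Module.FaithfullyFlat R P :=
    HensFEt.faithfullyFlat_of_ker_le_jacobson (B := R) (Bb := R ⧸ I) hπ hjac P Q θ.toRingHom
      (fun b => by
        change θ (algebraMap R P b) = _
        rw [AlgHom.commutes, IsScalarTower.algebraMap_apply R (R ⧸ I) Q])
  haveI : Algebra.IsIntegral R P := Algebra.IsIntegral.of_finite R P
  -- the Henselian pair `(P, I P)`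
  have hIP : I.map (algebraMap R P) ≤ Ideal.jacobson ⊥ :=
    map_le_jacobson_of_isIntegral I P HenselianRing.jac
  have hILP : ∀ (X : Type u) [CommRing X] [Algebra P X] [Module.Finite P X],
      IdemLift ((I.map (algebraMap R P)).map (algebraMap P X)) := by
    intro X _ _ _
    letI : Algebra R X := ((algebraMap P X).comp (algebraMap R P)).toAlgebra
    haveI : IsScalarTower R P X := IsScalarTower.of_algebraMap_eq (fun _ => rfl)
    haveI : Module.Finite R X := Module.Finite.trans P X
    have h1 := HensFEt.idemLift_map_hens I X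
    rw [Ideal.map_map]
    exact h1
  -- the reduction of `P` is `Q`
  have hker_eq : RingHom.ker θ = I.map (algebraMap R P) := by
    apply le_antisymm
    · intro x hx
      exact hker hx
    · rw [Ideal.map_le_iff_le_comap]
      intro a ha
      rw [Ideal.mem_comap, RingHom.mem_ker]
      rw [AlgHom.commutes, IsScalarTower.algebraMap_apply R (R ⧸ I) Q,
        Ideal.Quotient.algebraMap_eq, Ideal.Quotient.eq_zero_iff_mem.mpr ha, map_zero]
  let j : Q →ₐ[R] P ⧸ I.map (algebraMap R P) :=
    (Ideal.quotientEquivAlgOfEq R hker_eq).toAlgHom.comp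
      (Ideal.quotientKerAlgEquivOfSurjective hsurj).symm.toAlgHom
  have hD1 : IsDiag Q (Q ⊗[R] A) := isDiag_of_equiv (cancelBC R (R ⧸ I) Q A).symm hD
  have hD2 : IsDiag (P ⧸ I.map (algebraMap R P)) ((P ⧸ I.map (algebraMap R P)) ⊗[R] A) :=
    Desc.isDiag_of_algHom R A Q (P ⧸ I.map (algebraMap R P)) j hD1
  have hD3 : IsDiag (P ⧸ I.map (algebraMap R P))
      ((P ⧸ I.map (algebraMap R P)) ⊗[P] (P ⊗[R] A)) :=
    isDiag_of_equiv (cancelBC R P (P ⧸ I.map (algebraMap R P)) A) hD2
  obtain ⟨M, _, ⟨e₀⟩⟩ := hD3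
  -- `M` is finitely generated
  haveI : Nontrivial P := (FaithfulSMul.algebraMap_injective R P).nontrivial
  haveI : Nontrivial (P ⧸ I.map (algebraMap R P)) := by
    apply Ideal.Quotient.nontrivial_iff.mpr
    intro htop
    rw [htop, top_le_iff] at hIP
    obtain ⟨m, hm⟩ := Ideal.exists_maximal P
    have : (⊤ : Ideal P) ≤ m := by
      rw [← hIP]
      exact sInf_le ⟨bot_le, hm⟩
    exact hm.ne_top (top_le_iff.mp this)
  haveI : Algebra.FiniteType R A := hft
  have hft3 : Algebra.FiniteType (P ⧸ I.map (algebraMap R P))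
      ((P ⧸ I.map (algebraMap R P)) ⊗[P] (P ⊗[R] A)) := inferInstance
  haveI : Group.FG M :=
    MonoidAlgebra.finiteType_iff_group_fg.mp (Algebra.FiniteType.equiv hft3 e₀.toAlgEquiv)
  have hmt : IsMultType P (P ⊗[R] A) := EtNil.isMultType_baseChange R A P h
  obtain ⟨e⟩ := isDiag_of_hens_multType (I.map (algebraMap R P)) hIP hILP hmt e₀
  exact ⟨P, inferInstance, inferInstance, hetP, hfinP, hffP, ⟨M, inferInstance, ⟨e⟩⟩⟩

end Main

end Groth.Agent.Lib.Helper25.HensDiag
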