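import Groth.Agent.Lib.Helper25HCe
import Groth.Agent.S5262
import Groth.Agent.S2985

/-!
# Finite level descent of homomorphisms from the completion (helper25)
-/

set_option autoImplicit false
set_option linter.unusedSectionVars false
set_option linter.style.haveILetI false
universe u

namespace Groth.Agent.Lib.Helper25.HC

open TensorProduct SGA3b Groth.Agent.Lib.Helper25 Groth.Agent.Lib.Helper25.Tors BCB IsLocalRing

section BcMk

variable {A : Type u} [CommRing A] {P : Type u} [CommRing P] [Algebra A P]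
  [Module.FaithfullyFlat A P] {C : Type u} [CommRing C] [HopfAlgebra A C]

theorem bcMk_eq_zero_iff (𝔞 : Ideal C) [𝔞.IsHopfIdeal A] (z : P ⊗[A] C) :
    TorsQuot.bcMk (S := P) 𝔞 z = 0 ↔ z ∈ extIdeal A P 𝔞 := by
  have h0 : TorsQuot.bcMk (S := P) 𝔞 z = Algebra.TensorProduct.map (AlgHom.id A P)
      (Ideal.Quotient.mkₐ A 𝔞) z := by
    induction z using TensorProduct.induction_on with
    | zero => simp
    | add x y hx hy => rw [map_add, map_add, hx, hy]
    | tmul p x => rfl
  rw [h0, ← ker_map_mk (A := A) (P := P) 𝔞, RingHom.mem_ker]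

end BcMk

section Level

variable (A : Type u) [CommRing A] [HenselianLocalRing A]
  (P : Type u) [CommRing P] [Algebra A P] [IsNoetherianRing P] [IsLocalRing P]
  [IsAdicComplete (maximalIdeal P) P] [Module.FaithfullyFlat A P]
  (hmax : maximalIdeal P = (maximalIdeal A).map (algebraMap A P))
  (κ : P →ₐ[A] ResidueField A) (hκs : Function.Surjective κ)
  (C : Type u) [CommRing C] [HopfAlgebra A C] (hft : Algebra.FiniteType A C)
  (hfl : LevelFlat A (maximalIdeal A) C)
  (hs : IsMultType (ResidueField A) (ResidueField A ⊗[A] C))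

include hmax κ hκs hft hfl hs in
theorem finite_level (n : ℕ) (hn : 0 < n) (D : Type u) [CommRing D] [HopfAlgebra A D]
    [Module.Finite A D] (hD : IsMultType A D) (hk : IsKilled A D n)
    (θ' : P ⊗[A] C →ₐc[P] P ⊗[A] D) :
    ∃ θ : C →ₐc[A] D, ∀ c : C, θ' ((1 : P) ⊗ₜ[A] c) = (1 : P) ⊗ₜ[A] θ c := by
  obtain ⟨𝔞, hHa, hEfin, hEmt, hEco, hkill⟩ := exists_finite_part A P hmax C hft hfl hs n hn
  haveI := hHa
  haveI := hEfin
  haveI := hEco
  obtain ⟨χ', hχ'⟩ := exists_bialgHom_factor (TorsQuot.bcMk (S := P) 𝔞) θ'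
    (TorsQuot.bcMk_surjective 𝔞)
    (fun x hx => hkill D hk θ' x ((bcMk_eq_zero_iff 𝔞 x).mp hx))
  -- the residue field as a `P`-algebra
  letI : Algebra P (ResidueField A) := κ.toRingHom.toAlgebra
  haveI : IsScalarTower A P (ResidueField A) :=
    IsScalarTower.of_algebraMap_eq (fun a => (κ.commutes a).symm)
  have hκker : RingHom.ker (algebraMap P (ResidueField A)) = maximalIdeal P :=
    IsLocalRing.eq_maximalIdeal (RingHom.ker_isMaximal_of_surjective _ hκs)
  let φ₀ : ResidueField A ⊗[A] (C ⧸ 𝔞) →ₐc[ResidueField A] ResidueField A ⊗[A] D :=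
    (((cancelBC A P (ResidueField A) D : _ →ₐc[ResidueField A] _)).comp
      (Bialgebra.TensorProduct.map (BialgHom.id (ResidueField A) (ResidueField A)) χ')).comp
      ((cancelBC A P (ResidueField A) (C ⧸ 𝔞)).symm : _ →ₐc[ResidueField A] _)
  obtain ⟨χ, hχ⟩ := (Groth.Agent.S5262.result A D hD (C ⧸ 𝔞) hEmt).2 φ₀
  let χ'' : P ⊗[A] (C ⧸ 𝔞) →ₐc[P] P ⊗[A] D :=
    Bialgebra.TensorProduct.map (BialgHom.id P P) χ
  have hPDmt : IsMultType P (P ⊗[A] D) := EtNil.isMultType_baseChange A D P hD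
  have hPEfp : Algebra.FinitePresentation P (P ⊗[A] (C ⧸ 𝔞)) :=
    Algebra.FinitePresentation.of_finiteType.mp inferInstance
  have hcmp : χ' = χ'' := by
    apply Groth.Agent.S2985.result P (P ⊗[A] D) inferInstance hPDmt (P ⊗[A] (C ⧸ 𝔞)) hPEfp
    intro c
    have h1 : (1 : ResidueField A) ⊗ₜ[P] (χ' c - χ'' c) = 0 := by
      induction c using TensorProduct.induction_on with
      | zero => simp
      | add x y hx hy =>
        have : χ' (x + y) - χ'' (x + y) = (χ' x - χ'' x) + (χ' y - χ'' y) := by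
          rw [map_add, map_add]; ring
        rw [this, TensorProduct.tmul_add, hx, hy, add_zero]
      | tmul p e =>
        have h2 : p ⊗ₜ[A] e = p • ((1 : P) ⊗ₜ[A] e) := by
          rw [TensorProduct.smul_tmul', smul_eq_mul, mul_one]
        rw [h2, map_smul, map_smul, ← smul_sub, TensorProduct.tmul_smul]
        suffices h : (1 : ResidueField A) ⊗ₜ[P] χ' ((1 : P) ⊗ₜ[A] e) =
            (1 : ResidueField A) ⊗ₜ[P] χ'' ((1 : P) ⊗ₜ[A] e) by
          rw [TensorProduct.tmul_sub, h, sub_self, smul_zero]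
        apply EquivLike.injective (cancelBC A P (ResidueField A) D)
        have h3 : cancelBC A P (ResidueField A) D
            ((1 : ResidueField A) ⊗ₜ[P] χ' ((1 : P) ⊗ₜ[A] e)) =
            φ₀ ((1 : ResidueField A) ⊗ₜ[A] e) := by
          change _ = cancelBC A P (ResidueField A) D
            (Bialgebra.TensorProduct.map (BialgHom.id (ResidueField A) (ResidueField A)) χ'
              ((cancelBC A P (ResidueField A) (C ⧸ 𝔞)).symm ((1 : ResidueField A) ⊗ₜ[A] e)))
          have h4 : (cancelBC A P (ResidueField A) (C ⧸ 𝔞)).symm ((1 : ResidueField A) ⊗ₜ[A] e) =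
              (1 : ResidueField A) ⊗ₜ[P] ((1 : P) ⊗ₜ[A] e) := by
            have h8 := (cancelBC A P (ResidueField A) (C ⧸ 𝔞)).symm_apply_apply
              ((1 : ResidueField A) ⊗ₜ[P] ((1 : P) ⊗ₜ[A] e))
            rw [cancelBC_tmul, one_smul] at h8
            exact h8
          rw [h4]
          rfl
        have h5 : χ'' ((1 : P) ⊗ₜ[A] e) = (1 : P) ⊗ₜ[A] χ e := rfl
        rw [h3, hχ, h5, cancelBC_tmul, one_smul]
    have h6 := Adic.mem_smul_top_of_one_tmul_eq_zero (R := P) (R₀ := ResidueField A) hκs _ h1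
    rw [hκker, Ideal.smul_top_eq_map] at h6
    exact h6
  refine ⟨χ.comp (Bialgebra.Quotient.mkBialgHom (R := A) 𝔞), ?_⟩
  intro c
  rw [← hχ' ((1 : P) ⊗ₜ[A] c), hcmp]
  rfl

end Level

end Groth.Agent.Lib.Helper25.HC
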