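import Groth.Agent.Lib.Helper25HCf
import Groth.Agent.Lib.Helper25TorsDense4

/-!
# Detecting descended elements on the torsion levels (helper25)
-/

set_option autoImplicit false
set_option linter.unusedSectionVars false
set_option linter.style.haveILetI false
universe u

namespace Groth.Agent.Lib.Helper25.HC

open TensorProduct SGA3b Groth.Agent.Lib.Helper25 Groth.Agent.Lib.Helper25.Tors BCB IsLocalRing

section FlatMT

variable {R : Type u} [CommRing R] {H : Type u} [CommRing H] [HopfAlgebra R H]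

theorem flat_of_isMultTypeConst (h : IsMultTypeConst R H) : Module.Flat R H := by
  obtain ⟨S, _, _, hff, M, _, ⟨e⟩⟩ := h
  haveI := hff
  haveI : Module.Flat S (S ⊗[R] H) :=
    Module.Flat.of_linearEquiv (e.toAlgEquiv.toLinearEquiv)
  exact Module.Flat.of_flat_tensorProduct R H S

theorem flat_of_isMultType_local [IsLocalRing R] (h : IsMultType R H) : Module.Flat R H :=
  flat_of_isMultTypeConst (LocRigid.isMultTypeConst_of_isMultType_of_isLocalRing R H h)

end FlatMT

section Detect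

variable (A : Type u) [CommRing A] [IsLocalRing A]
  (P : Type u) [CommRing P] [Algebra A P] [Module.FaithfullyFlat A P]
  (B : Type u) [CommRing B] [HopfAlgebra A B] (hft : Algebra.FiniteType A B)
  (hG : IsMultType A B)

include hft hG in
theorem level_detect (b' : P ⊗[A] B)
    (h : ∀ n : ℕ, 0 < n → ∃ b : B, b' - (1 : P) ⊗ₜ[A] b ∈ extIdeal A P (torsionIdeal A B n)) :
    ∃ b : B, b' = (1 : P) ⊗ₜ[A] b := by
  haveI := hft
  haveI : Module.Flat A B := flat_of_isMultType_local hG
  let PP := P ⊗[A] P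
  let ι₁ : P →ₐ[A] PP := Algebra.TensorProduct.includeLeft
  let ι₂ : P →ₐ[A] PP := Algebra.TensorProduct.includeRight
  let δ₁ : P ⊗[A] B →ₐ[A] PP ⊗[A] B := Algebra.TensorProduct.map ι₁ (AlgHom.id A B)
  let δ₂ : P ⊗[A] B →ₐ[A] PP ⊗[A] B := Algebra.TensorProduct.map ι₂ (AlgHom.id A B)
  have hδ₁ : ∀ (J : Ideal B) (y : P ⊗[A] B), y ∈ extIdeal A P J → δ₁ y ∈ extIdeal A PP J := by
    intro J y hy
    have hle : extIdeal A P J ≤ (extIdeal A PP J).comap δ₁.toRingHom := by
      unfold extIdeal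
      rw [Ideal.map_le_iff_le_comap]
      intro j hj
      rw [Ideal.mem_comap, Ideal.mem_comap]
      change (ι₁ 1) ⊗ₜ[A] j ∈ _
      rw [map_one]
      exact Ideal.mem_map_of_mem _ hj
    exact hle hy
  have hδ₂ : ∀ (J : Ideal B) (y : P ⊗[A] B), y ∈ extIdeal A P J → δ₂ y ∈ extIdeal A PP J := by
    intro J y hy
    have hle : extIdeal A P J ≤ (extIdeal A PP J).comap δ₂.toRingHom := by
      unfold extIdeal
      rw [Ideal.map_le_iff_le_comap]
      intro j hj
      rw [Ideal.mem_comap, Ideal.mem_comap]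
      change (ι₂ 1) ⊗ₜ[A] j ∈ _
      rw [map_one]
      exact Ideal.mem_map_of_mem _ hj
    exact hle hy
  have hmt : IsMultType PP (PP ⊗[A] B) := EtNil.isMultType_baseChange A B PP hG
  have hlev : ∀ n : ℕ, 0 < n → δ₁ b' - δ₂ b' ∈ torsionIdeal PP (PP ⊗[A] B) n := by
    intro n hn
    obtain ⟨b, hb⟩ := h n hn
    have h1 : δ₁ b' - δ₂ b' = δ₁ (b' - (1 : P) ⊗ₜ[A] b) - δ₂ (b' - (1 : P) ⊗ₜ[A] b) := by
      rw [map_sub, map_sub]
      have h2 : δ₁ ((1 : P) ⊗ₜ[A] b) = δ₂ ((1 : P) ⊗ₜ[A] b) := by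
        change (ι₁ 1) ⊗ₜ[A] b = (ι₂ 1) ⊗ₜ[A] b
        rw [map_one, map_one]
      rw [h2]
      ring
    rw [h1]
    apply extIdeal_torsionIdeal_le PP n
    exact sub_mem (hδ₁ _ _ hb) (hδ₂ _ _ hb)
  have hzero : δ₁ b' - δ₂ b' = 0 := by
    obtain ⟨k, hk⟩ := TorsDense.dense_of_isMultType (R := PP) (A := PP ⊗[A] B) inferInstance hmt
      1 (δ₁ b' - δ₂ b') (fun n hn => ⟨0, by rw [pow_zero, one_mul]; exact hlev n hn⟩)
    rwa [one_pow, one_mul] at hk
  -- exactness
  have hex := Module.Flat.rTensor_exact B (Algebra.IsEffective.of_faithfullyFlat A P)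
  have hd : ∀ x : P ⊗[A] B,
      (Algebra.TensorProduct.includeLeftSubRight A P).rTensor B x = δ₁ x - δ₂ x := by
    intro x
    induction x using TensorProduct.induction_on with
    | zero => simp
    | add x y hx hy =>
      rw [map_add, hx, hy, map_add, map_add]
      ring
    | tmul p b =>
      rw [LinearMap.rTensor_tmul, Algebra.TensorProduct.includeLeftSubRight_apply,
        TensorProduct.sub_tmul]
      rfl
  rw [← hd] at hzero
  obtain ⟨z, hz⟩ := (hex b').mp hzero
  refine ⟨TensorProduct.lid A B z, ?_⟩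
  rw [← hz]
  clear hz
  induction z using TensorProduct.induction_on with
  | zero => simp
  | add x y hx hy => rw [map_add, map_add, TensorProduct.tmul_add, hx, hy]
  | tmul a b =>
    rw [LinearMap.rTensor_tmul, TensorProduct.lid_tmul, Algebra.linearMap_apply,
      Algebra.algebraMap_eq_smul_one, TensorProduct.smul_tmul]

end Detect

end Groth.Agent.Lib.Helper25.HC
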