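import Groth.Agent.Lib.Helper25HCg
import Groth.Agent.Lib.Helper25HomLiftB
import Groth.Agent.Lib.Helper25TorsHopf
import Groth.Agent.S5242
import Groth.Agent.S0543

/-!
# Homomorphisms over the completion of a henselian Noetherian local ring descend (helper25)
-/

set_option autoImplicit false
set_option linter.unusedSectionVars false
set_option linter.style.haveILetI false
universe u

namespace Groth.Agent.Lib.Helper25.HC

open TensorProduct SGA3b Groth.Agent.Lib.Helper25 Groth.Agent.Lib.Helper25.Tors BCB IsLocalRing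

section Descend

variable {R : Type u} [CommRing R] {B C : Type u} [CommRing B] [CommRing C]
  [HopfAlgebra R B] [HopfAlgebra R C]
  (R' : Type u) [CommRing R'] [Algebra R R'] [Module.FaithfullyFlat R R']

/-- A bialgebra map over a faithfully flat `R'` which maps `1 ⊗ C` into `1 ⊗ B` is a base
change. -/
theorem exists_bialgHom_of_forall_exists (f' : R' ⊗[R] C →ₐc[R'] R' ⊗[R] B)
    (hdesc : ∀ c : C, ∃ b : B, f' ((1 : R') ⊗ₜ[R] c) = (1 : R') ⊗ₜ[R] b) :
    ∃ φ : C →ₐc[R] B, ∀ c : C, f' ((1 : R') ⊗ₜ[R] c) = (1 : R') ⊗ₜ[R] φ c := by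
  classical
  choose φf hφf using hdesc
  have hinj : Function.Injective (TensorProduct.mk R R' B 1) :=
    Module.FaithfullyFlat.tensorProduct_mk_injective (A := R) (B := R') B
  have hinj' : ∀ b b' : B, (1 : R') ⊗ₜ[R] b = (1 : R') ⊗ₜ[R] b' → b = b' := fun b b' h => hinj h
  let φa : C →ₐ[R] B :=
    { toFun := φf
      map_one' := by
        apply hinj'
        rw [← hφf, ← Algebra.TensorProduct.one_def, map_one, Algebra.TensorProduct.one_def]
      map_mul' := fun c c' => by
        apply hinj'
        have h1 : (1 : R') ⊗ₜ[R] (c * c') = ((1 : R') ⊗ₜ[R] c) * ((1 : R') ⊗ₜ[R] c') := by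
          rw [Algebra.TensorProduct.tmul_mul_tmul, mul_one]
        rw [← hφf, h1, map_mul, hφf, hφf, Algebra.TensorProduct.tmul_mul_tmul, mul_one]
      map_zero' := by
        apply hinj'
        rw [← hφf, TensorProduct.tmul_zero, map_zero, TensorProduct.tmul_zero]
      map_add' := fun c c' => by
        apply hinj'
        rw [← hφf, TensorProduct.tmul_add, map_add, hφf, hφf, TensorProduct.tmul_add]
      commutes' := fun r => by
        apply hinj'
        have h1 : (1 : R') ⊗ₜ[R] (algebraMap R C r) =
            algebraMap R' (R' ⊗[R] C) (algebraMap R R' r) := by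
          rw [Algebra.TensorProduct.algebraMap_apply, Algebra.algebraMap_eq_smul_one r,
            TensorProduct.tmul_smul, TensorProduct.smul_tmul', Algebra.algebraMap_self,
            RingHom.id_apply, Algebra.algebraMap_eq_smul_one r]
        have h2 : (1 : R') ⊗ₜ[R] (algebraMap R B r) =
            algebraMap R' (R' ⊗[R] B) (algebraMap R R' r) := by
          rw [Algebra.TensorProduct.algebraMap_apply, Algebra.algebraMap_eq_smul_one r,
            TensorProduct.tmul_smul, TensorProduct.smul_tmul', Algebra.algebraMap_self,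
            RingHom.id_apply, Algebra.algebraMap_eq_smul_one r]
        rw [← hφf, h1, h2, AlgHomClass.commutes] }
  have hφa : ∀ c, φa c = φf c := fun _ => rfl
  haveI : Module.FaithfullyFlat R (∀ _ : PUnit.{u + 1}, R') := by
    apply FamDesc.faithfullyFlat_pi
    intro m hm
    exact ⟨PUnit.unit, Module.FaithfullyFlat.submodule_ne_top hm⟩
  obtain ⟨φ, hφ⟩ := Desc.exists_bialgHom_of_forall_baseChange (fun _ : PUnit.{u + 1} => R') φa
    (fun _ => ⟨f', fun c => by rw [hφa]; exact hφf c⟩)
  exact ⟨φ, fun c => by rw [hφ, hφa]; exact hφf c⟩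

end Descend

section Main

variable (A : Type u) [CommRing A] [IsNoetherianRing A] [HenselianLocalRing A]
  (B : Type u) [CommRing B] [HopfAlgebra A B] (hGft : Algebra.FiniteType A B)
  (hG : IsMultType A B)
  (C : Type u) [CommRing C] [HopfAlgebra A C] (hHft : Algebra.FiniteType A C)
  (hfl : ∀ (q : Ideal C) [q.IsPrime],
    Ideal.map (algebraMap A C) (maximalIdeal A) ≤ q → Module.Flat A (Localization.AtPrime q))
  (hs : IsMultType (ResidueField A) (ResidueField A ⊗[A] C))

instance : IsNoetherianRing (AdicCompletion (maximalIdeal A) A) :=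
  Groth.Agent.S0543.result A _

instance : Module.Flat A (AdicCompletion (maximalIdeal A) A) :=
  AdicCompletion.flat_of_isNoetherian (maximalIdeal A)

instance : Module.FaithfullyFlat A (AdicCompletion (maximalIdeal A) A) :=
  Module.FaithfullyFlat.of_flat_of_isLocalHom

include hGft hG hHft hfl hs in
theorem exists_descent
    (φ' : (AdicCompletion (maximalIdeal A) A ⊗[A] C) →ₐc[AdicCompletion (maximalIdeal A) A]
      (AdicCompletion (maximalIdeal A) A ⊗[A] B)) :
    ∃ φ : C →ₐc[A] B, ∀ c : C,
      φ' ((1 : AdicCompletion (maximalIdeal A) A) ⊗ₜ[A] c) =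
        (1 : AdicCompletion (maximalIdeal A) A) ⊗ₜ[A] (φ c) := by
  have hmax := AdicCompletion.maximalIdeal_eq_map (R := A)
  have hLF := levelFlat_of_local_flat A (maximalIdeal A) C hfl
  let κ : AdicCompletion (maximalIdeal A) A →ₐ[A] ResidueField A :=
    AdicCompletion.evalOneₐ (maximalIdeal A)
  have hκs : Function.Surjective κ := AdicCompletion.evalOneₐ_surjective _
  haveI hcoB : Coalgebra.IsCocomm A B := isCocomm_of_isMultType_local hG
  apply exists_bialgHom_of_forall_exists
  intro c
  apply level_detect A (AdicCompletion (maximalIdeal A) A) B hGft hG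
  intro n hn
  haveI : (torsionIdeal A B n).IsHopfIdeal A := TorsHopf.isHopfIdeal_torsionIdeal A B n
  obtain ⟨hmtn, hfinn⟩ := Groth.Agent.S5242.result A B hGft hG n hn (torsionIdeal A B n) rfl
  haveI := hfinn
  have hk : IsKilled A (B ⧸ torsionIdeal A B n) n :=
    TorsQuot.isKilled_quotient n _ le_rfl
  obtain ⟨θ, hθ⟩ := finite_level A (AdicCompletion (maximalIdeal A) A) hmax κ hκs C hHft hLF hs
    n hn (B ⧸ torsionIdeal A B n) hmtn hk
    ((TorsQuot.bcMk (S := AdicCompletion (maximalIdeal A) A) (torsionIdeal A B n)).comp φ')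
  obtain ⟨b, hb⟩ := Ideal.Quotient.mk_surjective (θ c)
  refine ⟨b, ?_⟩
  rw [← bcMk_eq_zero_iff, map_sub, TorsQuot.bcMk_tmul, hb, ← hθ c]
  exact sub_self _

end Main

end Groth.Agent.Lib.Helper25.HC
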