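import Mathlib

/-!
# Hopf algebra structures as triples of algebra maps (helper25)

`HopfData K A`: comultiplication, counit and antipode of a commutative `K`-algebra `A` given as
algebra maps, without axioms; `HopfData.IsHopf`: the axioms, as equalities of algebra maps.
`HopfData.toHopfAlgebra`, `HopfData.ofHopf`.
-/

set_option autoImplicit false
set_option linter.unusedSectionVars false
set_option linter.style.haveILetI false
universe u

namespace Groth.Agent.Lib.Helper25.HDesc

open TensorProduct

/-- Comultiplication, counit and antipode as algebra maps, no axioms. -/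
structure HopfData (K : Type u) (A : Type u) [CommRing K] [CommRing A] [Algebra K A] where
  comul : A →ₐ[K] A ⊗[K] A
  counit : A →ₐ[K] K
  antipode : A →ₐ[K] A

namespace HopfData

variable {K : Type u} {A : Type u} [CommRing K] [CommRing A] [Algebra K A] (D : HopfData K A)

noncomputable def coassL : A →ₐ[K] A ⊗[K] (A ⊗[K] A) :=
  (Algebra.TensorProduct.assoc K K K A A A).toAlgHom.comp
    ((Algebra.TensorProduct.map D.comul (AlgHom.id K A)).comp D.comul)

noncomputable def coassR : A →ₐ[K] A ⊗[K] (A ⊗[K] A) :=
  (Algebra.TensorProduct.map (AlgHom.id K A) D.comul).comp D.comul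

noncomputable def counitL : A →ₐ[K] A :=
  (Algebra.TensorProduct.lid K A).toAlgHom.comp
    ((Algebra.TensorProduct.map D.counit (AlgHom.id K A)).comp D.comul)

noncomputable def counitR : A →ₐ[K] A :=
  (Algebra.TensorProduct.rid K K A).toAlgHom.comp
    ((Algebra.TensorProduct.map (AlgHom.id K A) D.counit).comp D.comul)

noncomputable def antiL : A →ₐ[K] A :=
  (Algebra.TensorProduct.lmul' K).comp
    ((Algebra.TensorProduct.map D.antipode (AlgHom.id K A)).comp D.comul)

noncomputable def antiR : A →ₐ[K] A :=
  (Algebra.TensorProduct.lmul' K).comp
    ((Algebra.TensorProduct.map (AlgHom.id K A) D.antipode).comp D.comul)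

noncomputable def unitCounit : A →ₐ[K] A := (Algebra.ofId K A).comp D.counit

noncomputable def comulSwap : A →ₐ[K] A ⊗[K] A :=
  (Algebra.TensorProduct.comm K A A).toAlgHom.comp D.comul

/-- The Hopf algebra axioms. -/
structure IsHopf : Prop where
  coassoc : D.coassL = D.coassR
  counitL : D.counitL = AlgHom.id K A
  counitR : D.counitR = AlgHom.id K A
  antiL : D.antiL = D.unitCounit
  antiR : D.antiR = D.unitCounit

/-- Cocommutativity. -/
def IsCocomm : Prop := D.comulSwap = D.comul

/-- The bialgebra structure defined by data satisfying the axioms. -/
noncomputable def toBialgebra (h : D.IsHopf) : Bialgebra K A :=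
  Bialgebra.ofAlgHom D.comul D.counit h.coassoc
    (by
      apply AlgHom.ext
      intro a
      apply (Algebra.TensorProduct.lid K A).injective
      have := congrArg (fun F => F a) h.counitL
      simpa [counitL] using this)
    (by
      apply AlgHom.ext
      intro a
      apply (Algebra.TensorProduct.rid K K A).injective
      have := congrArg (fun F => F a) h.counitR
      simpa [counitR] using this)

/-- The Hopf algebra structure defined by data satisfying the axioms. -/
noncomputable def toHopfAlgebra (h : D.IsHopf) : HopfAlgebra K A :=
  letI := D.toBialgebra h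
  { antipode := D.antipode.toLinearMap
    mul_antipode_rTensor_comul := by
      apply LinearMap.ext
      intro a
      have := congrArg (fun F => F a) h.antiL
      exact this
    mul_antipode_lTensor_comul := by
      apply LinearMap.ext
      intro a
      have := congrArg (fun F => F a) h.antiR
      exact this }

theorem isCocomm_toHopfAlgebra (h : D.IsHopf) (hc : D.IsCocomm) :
    @Coalgebra.IsCocomm K A _ _ _ (D.toHopfAlgebra h).toCoalgebra := by
  letI := D.toHopfAlgebra h
  refine ⟨?_⟩
  apply LinearMap.ext
  intro a
  have := congrArg (fun F => F a) hc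
  exact this

end HopfData

namespace HopfData

section OfHopf

variable (K : Type u) (A : Type u) [CommRing K] [CommRing A] [HopfAlgebra K A]

/-- The data of a commutative Hopf algebra. -/
noncomputable def ofHopf : HopfData K A where
  comul := Bialgebra.comulAlgHom K A
  counit := Bialgebra.counitAlgHom K A
  antipode := HopfAlgebra.antipodeAlgHom K A

theorem isHopf_ofHopf : (ofHopf K A).IsHopf where
  coassoc := by
    apply AlgHom.ext
    intro a
    exact Coalgebra.coassoc_apply a
  counitL := by
    apply AlgHom.ext
    intro a
    change TensorProduct.lid K A ((Coalgebra.counit (R := K) (A := A)).rTensor A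
      (Coalgebra.comul (R := K) a)) = a
    rw [Coalgebra.rTensor_counit_comul]
    simp
  counitR := by
    apply AlgHom.ext
    intro a
    change TensorProduct.rid K A ((Coalgebra.counit (R := K) (A := A)).lTensor A
      (Coalgebra.comul (R := K) a)) = a
    rw [Coalgebra.lTensor_counit_comul]
    simp
  antiL := by
    apply AlgHom.ext
    intro a
    exact HopfAlgebra.mul_antipode_rTensor_comul_apply a
  antiR := by
    apply AlgHom.ext
    intro a
    exact HopfAlgebra.mul_antipode_lTensor_comul_apply a

theorem isCocomm_ofHopf [Coalgebra.IsCocomm K A] : (ofHopf K A).IsCocomm := by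
  apply AlgHom.ext
  intro a
  exact Coalgebra.comm_comul K a

end OfHopf

end HopfData

end Groth.Agent.Lib.Helper25.HDesc
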