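import Groth.Agent.Lib.Helper25HDescA

/-!
# Homomorphisms of Hopf data over a change of base ring, naturality of the axioms (helper25)
-/

set_option autoImplicit false
set_option linter.unusedSectionVars false
set_option linter.style.haveILetI false
universe u

namespace Groth.Agent.Lib.Helper25.HDesc

open TensorProduct

section Maps

variable {K T A B : Type u} [CommRing K] [CommRing T] [Algebra K T] [CommRing A] [Algebra K A]
  [CommRing B] [Algebra T B] [Algebra K B] [IsScalarTower K T B]

variable (T) in
/-- `a ⊗ b ↦ φ a ⊗ φ b`, from `A ⊗[K] A` to `B ⊗[T] B`. -/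
noncomputable def map₂ (φ : A →ₐ[K] B) : A ⊗[K] A →ₐ[K] B ⊗[T] B :=
  Algebra.TensorProduct.productMap
    (((Algebra.TensorProduct.includeLeft : B →ₐ[T] B ⊗[T] B).restrictScalars K).comp φ)
    (((Algebra.TensorProduct.includeRight : B →ₐ[T] B ⊗[T] B).restrictScalars K).comp φ)

@[simp]
theorem map₂_tmul (φ : A →ₐ[K] B) (a b : A) : map₂ T φ (a ⊗ₜ[K] b) = φ a ⊗ₜ[T] φ b := by
  simp [map₂, Algebra.TensorProduct.productMap_apply_tmul]

variable (T) in
/-- `a ⊗ (b ⊗ c) ↦ φ a ⊗ (φ b ⊗ φ c)`. -/
noncomputable def map₃ (φ : A →ₐ[K] B) : A ⊗[K] (A ⊗[K] A) →ₐ[K] B ⊗[T] (B ⊗[T] B) :=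
  Algebra.TensorProduct.productMap
    (((Algebra.TensorProduct.includeLeft : B →ₐ[T] B ⊗[T] (B ⊗[T] B)).restrictScalars K).comp φ)
    (((Algebra.TensorProduct.includeRight :
      (B ⊗[T] B) →ₐ[T] B ⊗[T] (B ⊗[T] B)).restrictScalars K).comp (map₂ T φ))

@[simp]
theorem map₃_tmul (φ : A →ₐ[K] B) (a : A) (z : A ⊗[K] A) :
    map₃ T φ (a ⊗ₜ[K] z) = φ a ⊗ₜ[T] map₂ T φ z := by
  simp [map₃, Algebra.TensorProduct.productMap_apply_tmul]

end Maps

section Hom

variable {K T A B : Type u} [CommRing K] [CommRing T] [Algebra K T] [CommRing A] [Algebra K A]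
  [CommRing B] [Algebra T B] [Algebra K B] [IsScalarTower K T B]

/-- `φ` is compatible with the Hopf data `D` on `A` over `K` and `D'` on `B` over `T`. -/
structure IsHom (D : HopfData K A) (D' : HopfData T B) (φ : A →ₐ[K] B) : Prop where
  comul : ∀ a, D'.comul (φ a) = map₂ T φ (D.comul a)
  counit : ∀ a, D'.counit (φ a) = algebraMap K T (D.counit a)
  antipode : ∀ a, D'.antipode (φ a) = φ (D.antipode a)

namespace IsHom

variable {D : HopfData K A} {D' : HopfData T B} {φ : A →ₐ[K] B} (h : IsHom D D' φ)

include h

theorem map_comul_id (z : A ⊗[K] A) :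
    Algebra.TensorProduct.assoc T T T B B B
      (Algebra.TensorProduct.map D'.comul (AlgHom.id T B) (map₂ T φ z)) =
      map₃ T φ (Algebra.TensorProduct.assoc K K K A A A
        (Algebra.TensorProduct.map D.comul (AlgHom.id K A) z)) := by
  induction z using TensorProduct.induction_on with
  | zero => simp
  | add x y hx hy => simp only [map_add, hx, hy]
  | tmul a b =>
    rw [map₂_tmul, Algebra.TensorProduct.map_tmul, Algebra.TensorProduct.map_tmul, h.comul]
    simp only [AlgHom.id_apply]
    generalize D.comul a = w
    induction w using TensorProduct.induction_on with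
    | zero => simp
    | add x y hx hy => simp only [map_add, TensorProduct.add_tmul, hx, hy]
    | tmul x y =>
      rw [map₂_tmul, Algebra.TensorProduct.assoc_tmul, Algebra.TensorProduct.assoc_tmul,
        map₃_tmul, map₂_tmul]

theorem coassL_apply (a : A) : D'.coassL (φ a) = map₃ T φ (D.coassL a) := by
  change Algebra.TensorProduct.assoc T T T B B B
    (Algebra.TensorProduct.map D'.comul (AlgHom.id T B) (D'.comul (φ a))) = _
  rw [h.comul, h.map_comul_id]
  rfl

theorem map_id_comul (z : A ⊗[K] A) :
    Algebra.TensorProduct.map (AlgHom.id T B) D'.comul (map₂ T φ z) =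
      map₃ T φ (Algebra.TensorProduct.map (AlgHom.id K A) D.comul z) := by
  induction z using TensorProduct.induction_on with
  | zero => simp
  | add x y hx hy => simp only [map_add, hx, hy]
  | tmul a b =>
    rw [map₂_tmul, Algebra.TensorProduct.map_tmul, Algebra.TensorProduct.map_tmul, h.comul,
      map₃_tmul]
    rfl

theorem coassR_apply (a : A) : D'.coassR (φ a) = map₃ T φ (D.coassR a) := by
  change Algebra.TensorProduct.map (AlgHom.id T B) D'.comul (D'.comul (φ a)) = _
  rw [h.comul, h.map_id_comul]
  rfl

theorem counitL_apply (a : A) : D'.counitL (φ a) = φ (D.counitL a) := by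
  change Algebra.TensorProduct.lid T B
    (Algebra.TensorProduct.map D'.counit (AlgHom.id T B) (D'.comul (φ a))) =
    φ (Algebra.TensorProduct.lid K A
      (Algebra.TensorProduct.map D.counit (AlgHom.id K A) (D.comul a)))
  rw [h.comul]
  generalize D.comul a = w
  induction w using TensorProduct.induction_on with
  | zero => simp
  | add x y hx hy => simp only [map_add, hx, hy]
  | tmul x y =>
    rw [map₂_tmul, Algebra.TensorProduct.map_tmul, Algebra.TensorProduct.map_tmul, h.counit]
    simp only [AlgHom.id_apply, Algebra.TensorProduct.lid_tmul, map_smul]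
    rw [algebraMap_smul]

theorem counitR_apply (a : A) : D'.counitR (φ a) = φ (D.counitR a) := by
  change Algebra.TensorProduct.rid T T B
    (Algebra.TensorProduct.map (AlgHom.id T B) D'.counit (D'.comul (φ a))) =
    φ (Algebra.TensorProduct.rid K K A
      (Algebra.TensorProduct.map (AlgHom.id K A) D.counit (D.comul a)))
  rw [h.comul]
  generalize D.comul a = w
  induction w using TensorProduct.induction_on with
  | zero => simp
  | add x y hx hy => simp only [map_add, hx, hy]
  | tmul x y =>
    rw [map₂_tmul, Algebra.TensorProduct.map_tmul, Algebra.TensorProduct.map_tmul, h.counit]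
    simp only [AlgHom.id_apply, Algebra.TensorProduct.rid_tmul, map_smul]
    rw [algebraMap_smul]

theorem antiL_apply (a : A) : D'.antiL (φ a) = φ (D.antiL a) := by
  change Algebra.TensorProduct.lmul' T
    (Algebra.TensorProduct.map D'.antipode (AlgHom.id T B) (D'.comul (φ a))) =
    φ (Algebra.TensorProduct.lmul' K
      (Algebra.TensorProduct.map D.antipode (AlgHom.id K A) (D.comul a)))
  rw [h.comul]
  generalize D.comul a = w
  induction w using TensorProduct.induction_on with
  | zero => simp
  | add x y hx hy => simp only [map_add, hx, hy]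
  | tmul x y =>
    rw [map₂_tmul, Algebra.TensorProduct.map_tmul, Algebra.TensorProduct.map_tmul, h.antipode]
    simp

theorem antiR_apply (a : A) : D'.antiR (φ a) = φ (D.antiR a) := by
  change Algebra.TensorProduct.lmul' T
    (Algebra.TensorProduct.map (AlgHom.id T B) D'.antipode (D'.comul (φ a))) =
    φ (Algebra.TensorProduct.lmul' K
      (Algebra.TensorProduct.map (AlgHom.id K A) D.antipode (D.comul a)))
  rw [h.comul]
  generalize D.comul a = w
  induction w using TensorProduct.induction_on with
  | zero => simp
  | add x y hx hy => simp only [map_add, hx, hy]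
  | tmul x y =>
    rw [map₂_tmul, Algebra.TensorProduct.map_tmul, Algebra.TensorProduct.map_tmul, h.antipode]
    simp

theorem unitCounit_apply (a : A) : D'.unitCounit (φ a) = φ (D.unitCounit a) := by
  change algebraMap T B (D'.counit (φ a)) = φ (algebraMap K A (D.counit a))
  rw [h.counit, AlgHom.commutes, ← IsScalarTower.algebraMap_apply]

theorem comulSwap_apply (a : A) : D'.comulSwap (φ a) = map₂ T φ (D.comulSwap a) := by
  change Algebra.TensorProduct.comm T B B (D'.comul (φ a)) =
    map₂ T φ (Algebra.TensorProduct.comm K A A (D.comul a))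
  rw [h.comul]
  generalize D.comul a = w
  induction w using TensorProduct.induction_on with
  | zero => simp
  | add x y hx hy => simp only [map_add, hx, hy]
  | tmul x y => simp

end IsHom

end Hom

end Groth.Agent.Lib.Helper25.HDesc
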