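import Groth.Agent.Lib.Helper25HDescB

/-!
# Transfer of the Hopf axioms along homomorphisms; base change of Hopf data (helper25)
-/

set_option autoImplicit false
set_option linter.unusedSectionVars false
set_option linter.style.haveILetI false
universe u

namespace Groth.Agent.Lib.Helper25.HDesc

open TensorProduct

section Transfer

variable {K T A B : Type u} [CommRing K] [CommRing T] [Algebra K T] [CommRing A] [Algebra K A]
  [CommRing B] [Algebra T B] [Algebra K B] [IsScalarTower K T B]
  {D : HopfData K A} {D' : HopfData T B} {φ : A →ₐ[K] B}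

theorem IsHom.isHopf_of_surjective (h : IsHom D D' φ) (hφ : Function.Surjective φ)
    (hD : D.IsHopf) : D'.IsHopf where
  coassoc := by
    apply AlgHom.ext
    intro b
    obtain ⟨a, rfl⟩ := hφ b
    rw [h.coassL_apply, h.coassR_apply, hD.coassoc]
  counitL := by
    apply AlgHom.ext
    intro b
    obtain ⟨a, rfl⟩ := hφ b
    rw [h.counitL_apply, hD.counitL]
    rfl
  counitR := by
    apply AlgHom.ext
    intro b
    obtain ⟨a, rfl⟩ := hφ b
    rw [h.counitR_apply, hD.counitR]
    rfl
  antiL := by
    apply AlgHom.ext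
    intro b
    obtain ⟨a, rfl⟩ := hφ b
    rw [h.antiL_apply, h.unitCounit_apply, hD.antiL]
  antiR := by
    apply AlgHom.ext
    intro b
    obtain ⟨a, rfl⟩ := hφ b
    rw [h.antiR_apply, h.unitCounit_apply, hD.antiR]

theorem IsHom.isCocomm_of_surjective (h : IsHom D D' φ) (hφ : Function.Surjective φ)
    (hD : D.IsCocomm) : D'.IsCocomm := by
  apply AlgHom.ext
  intro b
  obtain ⟨a, rfl⟩ := hφ b
  rw [h.comulSwap_apply, h.comul, hD]

theorem IsHom.isHopf_of_injective (h : IsHom D D' φ) (h₁ : Function.Injective φ)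
    (h₃ : Function.Injective (map₃ T φ)) (hD' : D'.IsHopf) : D.IsHopf where
  coassoc := by
    apply AlgHom.ext
    intro a
    apply h₃
    rw [← h.coassL_apply, ← h.coassR_apply, hD'.coassoc]
  counitL := by
    apply AlgHom.ext
    intro a
    apply h₁
    rw [← h.counitL_apply, hD'.counitL]
    rfl
  counitR := by
    apply AlgHom.ext
    intro a
    apply h₁
    rw [← h.counitR_apply, hD'.counitR]
    rfl
  antiL := by
    apply AlgHom.ext
    intro a
    apply h₁
    rw [← h.antiL_apply, ← h.unitCounit_apply, hD'.antiL]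
  antiR := by
    apply AlgHom.ext
    intro a
    apply h₁
    rw [← h.antiR_apply, ← h.unitCounit_apply, hD'.antiR]

theorem IsHom.isCocomm_of_injective (h : IsHom D D' φ)
    (h₂ : Function.Injective (map₂ T φ)) (hD' : D'.IsCocomm) : D.IsCocomm := by
  apply AlgHom.ext
  intro a
  apply h₂
  rw [← h.comulSwap_apply, ← h.comul, hD']

end Transfer

section Equiv

variable {K A B : Type u} [CommRing K] [CommRing A] [Algebra K A] [CommRing B] [Algebra K B]

theorem map₂_self (φ : A →ₐ[K] B) (z : A ⊗[K] A) :
    map₂ K φ z = Algebra.TensorProduct.map φ φ z := by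
  induction z using TensorProduct.induction_on with
  | zero => simp
  | add x y hx hy => simp only [map_add, hx, hy]
  | tmul a b => simp

theorem map₃_self (φ : A →ₐ[K] B) (z : A ⊗[K] (A ⊗[K] A)) :
    map₃ K φ z = Algebra.TensorProduct.map φ (Algebra.TensorProduct.map φ φ) z := by
  induction z using TensorProduct.induction_on with
  | zero => simp
  | add x y hx hy => simp only [map_add, hx, hy]
  | tmul a w => rw [map₃_tmul, Algebra.TensorProduct.map_tmul, map₂_self]

theorem map₂_equiv_injective (e : A ≃ₐ[K] B) :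
    Function.Injective (map₂ K (e : A →ₐ[K] B)) := by
  have h : ∀ z, map₂ K (e : A →ₐ[K] B) z = Algebra.TensorProduct.congr e e z := by
    intro z
    rw [map₂_self]
    rfl
  intro x y hxy
  rw [h, h] at hxy
  exact (Algebra.TensorProduct.congr e e).injective hxy

theorem map₃_equiv_injective (e : A ≃ₐ[K] B) :
    Function.Injective (map₃ K (e : A →ₐ[K] B)) := by
  have h : ∀ z, map₃ K (e : A →ₐ[K] B) z =
      Algebra.TensorProduct.congr e (Algebra.TensorProduct.congr e e) z := by
    intro z
    rw [map₃_self]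
    rfl
  intro x y hxy
  rw [h, h] at hxy
  exact (Algebra.TensorProduct.congr e (Algebra.TensorProduct.congr e e)).injective hxy

/-- Transport of Hopf data along an algebra isomorphism. -/
noncomputable def HopfData.transport (D : HopfData K A) (e : A ≃ₐ[K] B) : HopfData K B where
  comul := (Algebra.TensorProduct.map (e : A →ₐ[K] B) (e : A →ₐ[K] B)).comp
    (D.comul.comp (e.symm : B →ₐ[K] A))
  counit := D.counit.comp (e.symm : B →ₐ[K] A)
  antipode := (e : A →ₐ[K] B).comp (D.antipode.comp (e.symm : B →ₐ[K] A))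

theorem isHom_transport (D : HopfData K A) (e : A ≃ₐ[K] B) :
    IsHom D (D.transport e) (e : A →ₐ[K] B) where
  comul := by
    intro a
    rw [map₂_self]
    change Algebra.TensorProduct.map (e : A →ₐ[K] B) (e : A →ₐ[K] B)
      (D.comul (e.symm (e a))) = _
    rw [AlgEquiv.symm_apply_apply]
  counit := by
    intro a
    change D.counit (e.symm (e a)) = _
    rw [AlgEquiv.symm_apply_apply]
    rfl
  antipode := by
    intro a
    change e (D.antipode (e.symm (e a))) = _
    rw [AlgEquiv.symm_apply_apply]
    rfl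

theorem isHopf_transport (D : HopfData K A) (e : A ≃ₐ[K] B) (h : D.IsHopf) :
    (D.transport e).IsHopf :=
  (isHom_transport D e).isHopf_of_surjective e.surjective h

theorem isCocomm_transport (D : HopfData K A) (e : A ≃ₐ[K] B) (h : D.IsCocomm) :
    (D.transport e).IsCocomm :=
  (isHom_transport D e).isCocomm_of_surjective e.surjective h

/-- A hom which is an isomorphism reflects the axioms. -/
theorem IsHom.isHopf_of_equiv {D : HopfData K A} {D' : HopfData K B} (e : A ≃ₐ[K] B)
    (h : IsHom D D' (e : A →ₐ[K] B)) (hD' : D'.IsHopf) : D.IsHopf :=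
  h.isHopf_of_injective e.injective (map₃_equiv_injective e) hD'

theorem IsHom.isCocomm_of_equiv {D : HopfData K A} {D' : HopfData K B} (e : A ≃ₐ[K] B)
    (h : IsHom D D' (e : A →ₐ[K] B)) (hD' : D'.IsCocomm) : D.IsCocomm :=
  h.isCocomm_of_injective (map₂_equiv_injective e) hD'

end Equiv

section TwoOfThree

variable {K T A X Y : Type u} [CommRing K] [CommRing T] [Algebra K T] [CommRing A] [Algebra K A]
  [CommRing X] [Algebra T X] [Algebra K X] [IsScalarTower K T X]
  [CommRing Y] [Algebra T Y] [Algebra K Y] [IsScalarTower K T Y]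

theorem map₂_comp (φ₁ : A →ₐ[K] X) (φ₂ : A →ₐ[K] Y) (e : X →ₐ[T] Y)
    (he : ∀ a, e (φ₁ a) = φ₂ a) (z : A ⊗[K] A) :
    map₂ T e (map₂ T φ₁ z) = map₂ T φ₂ z := by
  induction z using TensorProduct.induction_on with
  | zero => simp
  | add x y hx hy => simp only [map_add, hx, hy]
  | tmul a b => rw [map₂_tmul, map₂_tmul, map₂_tmul, he, he]

/-- If `φ₁ : A → X` and `φ₂ = e ∘ φ₁ : A → Y` are homs and the image of `φ₁` generates `X` over
`T`, then `e` is a hom. -/
theorem isHom_of_comp (D : HopfData K A) (D₁ : HopfData T X) (D₂ : HopfData T Y)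
    (φ₁ : A →ₐ[K] X) (φ₂ : A →ₐ[K] Y) (e : X →ₐ[T] Y) (he : ∀ a, e (φ₁ a) = φ₂ a)
    (hgen : Algebra.adjoin T (Set.range φ₁) = ⊤)
    (h₁ : IsHom D D₁ φ₁) (h₂ : IsHom D D₂ φ₂) : IsHom D₁ D₂ e where
  comul := by
    have : D₂.comul.comp e = (map₂ T e).comp D₁.comul := by
      apply AlgHom.ext_of_adjoin_eq_top hgen
      rintro _ ⟨a, rfl⟩
      change D₂.comul (e (φ₁ a)) = map₂ T e (D₁.comul (φ₁ a))
      rw [he, h₂.comul, h₁.comul, map₂_comp φ₁ φ₂ e he]
    intro x
    exact congrArg (fun F => F x) this
  counit := by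
    have : D₂.counit.comp e = D₁.counit := by
      apply AlgHom.ext_of_adjoin_eq_top hgen
      rintro _ ⟨a, rfl⟩
      change D₂.counit (e (φ₁ a)) = D₁.counit (φ₁ a)
      rw [he, h₂.counit, h₁.counit]
    intro x
    have := congrArg (fun F => F x) this
    exact this
  antipode := by
    have : D₂.antipode.comp e = e.comp D₁.antipode := by
      apply AlgHom.ext_of_adjoin_eq_top hgen
      rintro _ ⟨a, rfl⟩
      change D₂.antipode (e (φ₁ a)) = e (D₁.antipode (φ₁ a))
      rw [he, h₂.antipode, h₁.antipode, he]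
    intro x
    exact congrArg (fun F => F x) this

end TwoOfThree

end Groth.Agent.Lib.Helper25.HDesc
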