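import Groth.Agent.Lib.Helper25HDescC

/-!
# Base change of Hopf data and the comparison maps `T ⊗ (A ⊗ A) → (T ⊗ A) ⊗[T] (T ⊗ A)` (helper25)
-/

set_option autoImplicit false
set_option linter.unusedSectionVars false
set_option linter.style.haveILetI false
universe u

namespace Groth.Agent.Lib.Helper25.HDesc

open TensorProduct

section BC

variable {K A : Type u} [CommRing K] [CommRing A] [Algebra K A]
  (T : Type u) [CommRing T] [Algebra K T]

/-- `a ↦ 1 ⊗ a` as a `K`-algebra map. -/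
noncomputable abbrev inclR : A →ₐ[K] T ⊗[K] A := Algebra.TensorProduct.includeRight

/-- Base change of Hopf data. -/
noncomputable def HopfData.bc (D : HopfData K A) : HopfData T (T ⊗[K] A) where
  comul := Algebra.TensorProduct.lift (Algebra.ofId T _)
    ((map₂ T (inclR (K := K) (A := A) T)).comp D.comul) (fun _ _ => Commute.all _ _)
  counit := Algebra.TensorProduct.lift (AlgHom.id T T) ((Algebra.ofId K T).comp D.counit)
    (fun _ _ => Commute.all _ _)
  antipode := Algebra.TensorProduct.map (AlgHom.id T T) D.antipode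

theorem isHom_bc (D : HopfData K A) : IsHom D (D.bc T) (inclR T) where
  comul := by
    intro a
    change Algebra.TensorProduct.lift (Algebra.ofId T _)
      ((map₂ T (inclR (K := K) (A := A) T)).comp D.comul) (fun _ _ => Commute.all _ _)
      ((1 : T) ⊗ₜ[K] a) = _
    rw [Algebra.TensorProduct.lift_tmul, map_one, one_mul]
    rfl
  counit := by
    intro a
    simp [HopfData.bc, inclR]
  antipode := by
    intro a
    change Algebra.TensorProduct.map _ _ ((1 : T) ⊗ₜ[K] a) = _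
    rw [Algebra.TensorProduct.map_tmul]
    rfl

/-- `T`-algebra maps out of `T ⊗ A` are determined by their values on `1 ⊗ a`. -/
theorem algHom_ext_one_tmul {X : Type u} [CommRing X] [Algebra T X]
    {F F' : T ⊗[K] A →ₐ[T] X} (h : ∀ a : A, F ((1 : T) ⊗ₜ[K] a) = F' ((1 : T) ⊗ₜ[K] a)) :
    F = F' := by
  apply AlgHom.ext
  intro z
  induction z using TensorProduct.induction_on with
  | zero => simp
  | add x y hx hy => simp only [map_add, hx, hy]
  | tmul t a =>
    have : t ⊗ₜ[K] a = t • ((1 : T) ⊗ₜ[K] a) := by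
      rw [TensorProduct.smul_tmul', smul_eq_mul, mul_one]
    rw [this, map_smul, map_smul, h]

/-- ... and by their values on `1 ⊗ g` for `g` in a generating set. -/
theorem algHom_ext_one_tmul_of_adjoin {X : Type u} [CommRing X] [Algebra T X] [Algebra K X]
    [IsScalarTower K T X] {G : Set A} (hG : Algebra.adjoin K G = ⊤)
    {F F' : T ⊗[K] A →ₐ[T] X} (h : ∀ g ∈ G, F ((1 : T) ⊗ₜ[K] g) = F' ((1 : T) ⊗ₜ[K] g)) :
    F = F' := by
  apply algHom_ext_one_tmul
  have : (F.restrictScalars K).comp (inclR T) = (F'.restrictScalars K).comp (inclR T) := by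
    apply AlgHom.ext_of_adjoin_eq_top hG
    intro g hg
    exact h g hg
  intro a
  exact congrArg (fun Φ => Φ a) this

end BC

section Compare

variable {K A : Type u} [CommRing K] [CommRing A] [Algebra K A]
  {T : Type u} [CommRing T] [Algebra K T]
  {B : Type u} [CommRing B] [Algebra T B] [Algebra K B] [IsScalarTower K T B]

/-- The comparison `T ⊗ (A ⊗ A) → B ⊗[T] B`, `t ⊗ z ↦ t • (ψ ⊗ ψ) z`. -/
noncomputable def Λ₂ (ψ : A →ₐ[K] B) : T ⊗[K] (A ⊗[K] A) →ₗ[T] B ⊗[T] B :=
  (map₂ T ψ).toLinearMap.liftBaseChange T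

theorem Λ₂_tmul (ψ : A →ₐ[K] B) (t : T) (z : A ⊗[K] A) :
    Λ₂ ψ (t ⊗ₜ[K] z) = t • map₂ T ψ z := by
  simp [Λ₂]

theorem Λ₂_one_tmul (ψ : A →ₐ[K] B) (z : A ⊗[K] A) :
    Λ₂ ψ ((1 : T) ⊗ₜ[K] z) = map₂ T ψ z := by
  rw [Λ₂_tmul, one_smul]

/-- The comparison `T ⊗ (A ⊗ (A ⊗ A)) → B ⊗[T] (B ⊗[T] B)`. -/
noncomputable def Λ₃ (ψ : A →ₐ[K] B) :
    T ⊗[K] (A ⊗[K] (A ⊗[K] A)) →ₗ[T] B ⊗[T] (B ⊗[T] B) :=
  (map₃ T ψ).toLinearMap.liftBaseChange T

theorem Λ₃_tmul (ψ : A →ₐ[K] B) (t : T) (z : A ⊗[K] (A ⊗[K] A)) :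
    Λ₃ ψ (t ⊗ₜ[K] z) = t • map₃ T ψ z := by
  simp [Λ₃]

theorem Λ₃_one_tmul (ψ : A →ₐ[K] B) (z : A ⊗[K] (A ⊗[K] A)) :
    Λ₃ ψ ((1 : T) ⊗ₜ[K] z) = map₃ T ψ z := by
  rw [Λ₃_tmul, one_smul]

variable (e : T ⊗[K] A ≃ₐ[T] B) (ψ : A →ₐ[K] B) (he : ∀ a, e ((1 : T) ⊗ₜ[K] a) = ψ a)

include he in
theorem e_tmul (t : T) (a : A) : e (t ⊗ₜ[K] a) = t • ψ a := by
  have : t ⊗ₜ[K] a = t • ((1 : T) ⊗ₜ[K] a) := by
    rw [TensorProduct.smul_tmul', smul_eq_mul, mul_one]
  rw [this, map_smul, he]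

include he in
theorem Λ₂_eq (w : T ⊗[K] (A ⊗[K] A)) :
    Λ₂ ψ w = TensorProduct.AlgebraTensorModule.congr e.toLinearEquiv e.toLinearEquiv
      (AlgebraTensorModule.distribBaseChange K T A A w) := by
  induction w using TensorProduct.induction_on with
  | zero => simp
  | add x y hx hy => simp only [map_add, hx, hy]
  | tmul t z =>
    induction z using TensorProduct.induction_on with
    | zero => simp
    | add x y hx hy => simp only [TensorProduct.tmul_add, map_add, hx, hy]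
    | tmul a b =>
      rw [Λ₂_tmul, map₂_tmul, AlgebraTensorModule.distribBaseChange_tmul,
        TensorProduct.AlgebraTensorModule.congr_tmul]
      change _ = e (t ⊗ₜ[K] a) ⊗ₜ[T] e ((1 : T) ⊗ₜ[K] b)
      rw [he, e_tmul e ψ he, TensorProduct.smul_tmul']

/-- `Λ₂` as an equivalence, when `B` is the base change of `A`. -/
noncomputable def Λ₂equiv : T ⊗[K] (A ⊗[K] A) ≃ₗ[T] B ⊗[T] B :=
  (AlgebraTensorModule.distribBaseChange K T A A).trans
    (TensorProduct.AlgebraTensorModule.congr e.toLinearEquiv e.toLinearEquiv)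

include he in
theorem Λ₂equiv_apply (w : T ⊗[K] (A ⊗[K] A)) : Λ₂equiv e w = Λ₂ ψ w :=
  (Λ₂_eq e ψ he w).symm

include he in
theorem Λ₂_injective : Function.Injective (Λ₂ (T := T) ψ) := by
  have : (Λ₂ (T := T) ψ : _ → _) = (Λ₂equiv e : _ → _) :=
    funext (fun w => (Λ₂equiv_apply e ψ he w).symm)
  rw [this]
  exact (Λ₂equiv e).injective

include he in
theorem Λ₃_eq (w : T ⊗[K] (A ⊗[K] (A ⊗[K] A))) :
    Λ₃ ψ w = TensorProduct.AlgebraTensorModule.congr e.toLinearEquiv (Λ₂equiv e)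
      (AlgebraTensorModule.distribBaseChange K T A (A ⊗[K] A) w) := by
  induction w using TensorProduct.induction_on with
  | zero => simp
  | add x y hx hy => simp only [map_add, hx, hy]
  | tmul t z =>
    induction z using TensorProduct.induction_on with
    | zero => simp
    | add x y hx hy => simp only [TensorProduct.tmul_add, map_add, hx, hy]
    | tmul a v =>
      rw [Λ₃_tmul, map₃_tmul, AlgebraTensorModule.distribBaseChange_tmul,
        TensorProduct.AlgebraTensorModule.congr_tmul, Λ₂equiv_apply e ψ he, Λ₂_one_tmul]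
      change _ = e (t ⊗ₜ[K] a) ⊗ₜ[T] _
      rw [e_tmul e ψ he, TensorProduct.smul_tmul']

include he in
theorem Λ₃_injective : Function.Injective (Λ₃ (T := T) ψ) := by
  have : (Λ₃ (T := T) ψ : _ → _) =
      ((AlgebraTensorModule.distribBaseChange K T A (A ⊗[K] A)).trans
        (TensorProduct.AlgebraTensorModule.congr e.toLinearEquiv (Λ₂equiv e)) : _ → _) :=
    funext (fun w => Λ₃_eq e ψ he w)
  rw [this]
  exact LinearEquiv.injective _

end Compare

end Groth.Agent.Lib.Helper25.HDesc
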