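import Groth.Agent.Lib.Helper25HDescD

/-!
# The Hopf axioms after base change as finitely many tensor equations; finite stage (helper25)
-/

set_option autoImplicit false
set_option linter.unusedSectionVars false
set_option linter.style.haveILetI false
universe u

namespace Groth.Agent.Lib.Helper25.HDesc

open TensorProduct

section Criterion

variable {K A : Type u} [CommRing K] [CommRing A] [Algebra K A] (D : HopfData K A)

/-- The Hopf axioms of `D` hold at `a` after tensoring with `T`. -/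
def AxEq (T : Type u) [CommRing T] [Algebra K T] (a : A) : Prop :=
  ((1 : T) ⊗ₜ[K] D.coassL a = (1 : T) ⊗ₜ[K] D.coassR a) ∧
  ((1 : T) ⊗ₜ[K] D.counitL a = (1 : T) ⊗ₜ[K] a) ∧
  ((1 : T) ⊗ₜ[K] D.counitR a = (1 : T) ⊗ₜ[K] a) ∧
  ((1 : T) ⊗ₜ[K] D.antiL a = (1 : T) ⊗ₜ[K] D.unitCounit a) ∧
  ((1 : T) ⊗ₜ[K] D.antiR a = (1 : T) ⊗ₜ[K] D.unitCounit a)

/-- Cocommutativity of `D` holds at `a` after tensoring with `T`. -/
def CcEq (T : Type u) [CommRing T] [Algebra K T] (a : A) : Prop :=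
  (1 : T) ⊗ₜ[K] D.comulSwap a = (1 : T) ⊗ₜ[K] D.comul a

variable {T : Type u} [CommRing T] [Algebra K T]
  {B : Type u} [CommRing B] [Algebra T B] [Algebra K B] [IsScalarTower K T B]

/-- `t ⊗ a ↦ t • ψ a`. -/
noncomputable def Λ₁ (ψ : A →ₐ[K] B) : T ⊗[K] A →ₗ[T] B := ψ.toLinearMap.liftBaseChange T

theorem Λ₁_one_tmul (ψ : A →ₐ[K] B) (a : A) : Λ₁ ψ ((1 : T) ⊗ₜ[K] a) = ψ a := by
  simp [Λ₁]

theorem Λ₁_eq (e : T ⊗[K] A ≃ₐ[T] B) (ψ : A →ₐ[K] B) (he : ∀ a, e ((1 : T) ⊗ₜ[K] a) = ψ a)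
    (w : T ⊗[K] A) : Λ₁ ψ w = e w := by
  induction w using TensorProduct.induction_on with
  | zero => simp
  | add x y hx hy => simp only [map_add, hx, hy]
  | tmul t a =>
    rw [e_tmul e ψ he]
    simp [Λ₁]

theorem Λ₁_injective (e : T ⊗[K] A ≃ₐ[T] B) (ψ : A →ₐ[K] B)
    (he : ∀ a, e ((1 : T) ⊗ₜ[K] a) = ψ a) : Function.Injective (Λ₁ (T := T) ψ) := by
  have : (Λ₁ (T := T) ψ : _ → _) = (e : _ → _) := funext (Λ₁_eq e ψ he)
  rw [this]
  exact e.injective

variable {D} {D' : HopfData T B} {ψ : A →ₐ[K] B} (h : IsHom D D' ψ)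

include h in
theorem isHopf_of_axEq (hgenT : Algebra.adjoin T (Set.range ψ) = ⊤) {G : Set A}
    (hG : Algebra.adjoin K G = ⊤) (hax : ∀ g ∈ G, AxEq D T g) : D'.IsHopf where
  coassoc := by
    apply AlgHom.ext_of_adjoin_eq_top hgenT
    rintro _ ⟨a, rfl⟩
    rw [h.coassL_apply, h.coassR_apply]
    have key : (map₃ T ψ).comp D.coassL = (map₃ T ψ).comp D.coassR := by
      apply AlgHom.ext_of_adjoin_eq_top hG
      intro g hg
      change map₃ T ψ (D.coassL g) = map₃ T ψ (D.coassR g)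
      rw [← Λ₃_one_tmul, ← Λ₃_one_tmul, (hax g hg).1]
    exact congrArg (fun F => F a) key
  counitL := by
    apply AlgHom.ext_of_adjoin_eq_top hgenT
    rintro _ ⟨a, rfl⟩
    rw [h.counitL_apply]
    have key : ψ.comp D.counitL = ψ := by
      apply AlgHom.ext_of_adjoin_eq_top hG
      intro g hg
      change ψ (D.counitL g) = ψ g
      rw [← Λ₁_one_tmul (T := T), ← Λ₁_one_tmul (T := T) ψ g, (hax g hg).2.1]
    exact congrArg (fun F => F a) key
  counitR := by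
    apply AlgHom.ext_of_adjoin_eq_top hgenT
    rintro _ ⟨a, rfl⟩
    rw [h.counitR_apply]
    have key : ψ.comp D.counitR = ψ := by
      apply AlgHom.ext_of_adjoin_eq_top hG
      intro g hg
      change ψ (D.counitR g) = ψ g
      rw [← Λ₁_one_tmul (T := T), ← Λ₁_one_tmul (T := T) ψ g, (hax g hg).2.2.1]
    exact congrArg (fun F => F a) key
  antiL := by
    apply AlgHom.ext_of_adjoin_eq_top hgenT
    rintro _ ⟨a, rfl⟩
    rw [h.antiL_apply, h.unitCounit_apply]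
    have key : ψ.comp D.antiL = ψ.comp D.unitCounit := by
      apply AlgHom.ext_of_adjoin_eq_top hG
      intro g hg
      change ψ (D.antiL g) = ψ (D.unitCounit g)
      rw [← Λ₁_one_tmul (T := T), ← Λ₁_one_tmul (T := T) ψ (D.unitCounit g), (hax g hg).2.2.2.1]
    exact congrArg (fun F => F a) key
  antiR := by
    apply AlgHom.ext_of_adjoin_eq_top hgenT
    rintro _ ⟨a, rfl⟩
    rw [h.antiR_apply, h.unitCounit_apply]
    have key : ψ.comp D.antiR = ψ.comp D.unitCounit := by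
      apply AlgHom.ext_of_adjoin_eq_top hG
      intro g hg
      change ψ (D.antiR g) = ψ (D.unitCounit g)
      rw [← Λ₁_one_tmul (T := T), ← Λ₁_one_tmul (T := T) ψ (D.unitCounit g), (hax g hg).2.2.2.2]
    exact congrArg (fun F => F a) key

include h in
theorem isCocomm_of_ccEq (hgenT : Algebra.adjoin T (Set.range ψ) = ⊤) {G : Set A}
    (hG : Algebra.adjoin K G = ⊤) (hax : ∀ g ∈ G, CcEq D T g) : D'.IsCocomm := by
  apply AlgHom.ext_of_adjoin_eq_top hgenT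
  rintro _ ⟨a, rfl⟩
  rw [h.comulSwap_apply, h.comul]
  have key : (map₂ T ψ).comp D.comulSwap = (map₂ T ψ).comp D.comul := by
    apply AlgHom.ext_of_adjoin_eq_top hG
    intro g hg
    change map₂ T ψ (D.comulSwap g) = map₂ T ψ (D.comul g)
    rw [← Λ₂_one_tmul, ← Λ₂_one_tmul, hax g hg]
  exact congrArg (fun F => F a) key

include h in
theorem axEq_of_isHopf (e : T ⊗[K] A ≃ₐ[T] B) (he : ∀ a, e ((1 : T) ⊗ₜ[K] a) = ψ a)
    (hD' : D'.IsHopf) (a : A) : AxEq D T a := by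
  refine ⟨?_, ?_, ?_, ?_, ?_⟩
  · apply Λ₃_injective e ψ he
    rw [Λ₃_one_tmul, Λ₃_one_tmul, ← h.coassL_apply, ← h.coassR_apply, hD'.coassoc]
  · apply Λ₁_injective e ψ he
    rw [Λ₁_one_tmul, Λ₁_one_tmul, ← h.counitL_apply, hD'.counitL]
    rfl
  · apply Λ₁_injective e ψ he
    rw [Λ₁_one_tmul, Λ₁_one_tmul, ← h.counitR_apply, hD'.counitR]
    rfl
  · apply Λ₁_injective e ψ he
    rw [Λ₁_one_tmul, Λ₁_one_tmul, ← h.antiL_apply, ← h.unitCounit_apply, hD'.antiL]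
  · apply Λ₁_injective e ψ he
    rw [Λ₁_one_tmul, Λ₁_one_tmul, ← h.antiR_apply, ← h.unitCounit_apply, hD'.antiR]

include h in
theorem ccEq_of_isCocomm (e : T ⊗[K] A ≃ₐ[T] B) (he : ∀ a, e ((1 : T) ⊗ₜ[K] a) = ψ a)
    (hD' : D'.IsCocomm) (a : A) : CcEq D T a := by
  apply Λ₂_injective e ψ he
  rw [Λ₂_one_tmul, Λ₂_one_tmul, ← h.comulSwap_apply, ← h.comul, hD']

end Criterion

section Mono

variable {K A : Type u} [CommRing K] [CommRing A] [Algebra K A] (D : HopfData K A)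
  {T T' : Type u} [CommRing T] [Algebra K T] [CommRing T'] [Algebra K T']

theorem one_tmul_eq_of_algHom {X : Type u} [AddCommGroup X] [Module K X] (f : T →ₐ[K] T')
    {x y : X} (hxy : (1 : T) ⊗ₜ[K] x = (1 : T) ⊗ₜ[K] y) :
    (1 : T') ⊗ₜ[K] x = (1 : T') ⊗ₜ[K] y := by
  have := congrArg (LinearMap.rTensor X f.toLinearMap) hxy
  simpa using this

theorem axEq_of_algHom (f : T →ₐ[K] T') {a : A} (hax : AxEq D T a) : AxEq D T' a :=
  ⟨one_tmul_eq_of_algHom f hax.1, one_tmul_eq_of_algHom f hax.2.1,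
    one_tmul_eq_of_algHom f hax.2.2.1, one_tmul_eq_of_algHom f hax.2.2.2.1,
    one_tmul_eq_of_algHom f hax.2.2.2.2⟩

theorem ccEq_of_algHom (f : T →ₐ[K] T') {a : A} (hax : CcEq D T a) : CcEq D T' a :=
  one_tmul_eq_of_algHom f hax

end Mono

section Stage

variable {K A : Type u} [CommRing K] [CommRing A] [Algebra K A] (D : HopfData K A)
  (R : Type u) [CommRing R] [Algebra K R]

theorem exists_fg_one_tmul_eq {X : Type u} [AddCommGroup X] [Module K X] {x y : X}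
    (hxy : (1 : R) ⊗ₜ[K] x = (1 : R) ⊗ₜ[K] y) :
    ∃ S : Subalgebra K R, S.FG ∧ ∀ S' : Subalgebra K R, S ≤ S' →
      (1 : S') ⊗ₜ[K] x = (1 : S') ⊗ₜ[K] y := by
  have h0 : LinearMap.rTensor X (⊥ : Subalgebra K R).val.toLinearMap ((1 : (⊥ : Subalgebra K R)) ⊗ₜ[K] x)
      = LinearMap.rTensor X (⊥ : Subalgebra K R).val.toLinearMap ((1 : (⊥ : Subalgebra K R)) ⊗ₜ[K] y) := by
    simpa using hxy
  obtain ⟨S, hS, hfg, heq⟩ := TensorProduct.Algebra.eq_of_fg_of_subtype_eq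
    (Subalgebra.fg_bot) h0
  refine ⟨S, hfg, fun S' hSS' => ?_⟩
  have h1 : (1 : S) ⊗ₜ[K] x = (1 : S) ⊗ₜ[K] y := by simpa using heq
  exact one_tmul_eq_of_algHom (Subalgebra.inclusion hSS') h1

theorem exists_fg_axEq {a : A} (hax : AxEq D R a) :
    ∃ S : Subalgebra K R, S.FG ∧ ∀ S' : Subalgebra K R, S ≤ S' → AxEq D S' a := by
  obtain ⟨S₁, h₁, e₁⟩ := exists_fg_one_tmul_eq R hax.1
  obtain ⟨S₂, h₂, e₂⟩ := exists_fg_one_tmul_eq R hax.2.1
  obtain ⟨S₃, h₃, e₃⟩ := exists_fg_one_tmul_eq R hax.2.2.1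
  obtain ⟨S₄, h₄, e₄⟩ := exists_fg_one_tmul_eq R hax.2.2.2.1
  obtain ⟨S₅, h₅, e₅⟩ := exists_fg_one_tmul_eq R hax.2.2.2.2
  refine ⟨S₁ ⊔ S₂ ⊔ S₃ ⊔ S₄ ⊔ S₅, (((h₁.sup h₂).sup h₃).sup h₄).sup h₅, fun S' hS' => ?_⟩
  have l₁ : S₁ ≤ S' := le_trans (le_trans (le_trans (le_trans le_sup_left le_sup_left) le_sup_left) le_sup_left) hS'
  have l₂ : S₂ ≤ S' := le_trans (le_trans (le_trans (le_trans le_sup_right le_sup_left) le_sup_left) le_sup_left) hS'
  have l₃ : S₃ ≤ S' := le_trans (le_trans (le_trans le_sup_right le_sup_left) le_sup_left) hS'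
  have l₄ : S₄ ≤ S' := le_trans (le_trans le_sup_right le_sup_left) hS'
  have l₅ : S₅ ≤ S' := le_trans le_sup_right hS'
  exact ⟨e₁ S' l₁, e₂ S' l₂, e₃ S' l₃, e₄ S' l₄, e₅ S' l₅⟩

/-- Finitely many monotone conditions each satisfied on a finitely generated subalgebra are
simultaneously satisfied on one. -/
theorem exists_fg_forall_finset {ι : Type*} (G : Finset ι) (p : ι → Subalgebra K R → Prop)
    (h : ∀ g ∈ G, ∃ S : Subalgebra K R, S.FG ∧ ∀ S' : Subalgebra K R, S ≤ S' → p g S') :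
    ∃ S : Subalgebra K R, S.FG ∧ ∀ S' : Subalgebra K R, S ≤ S' → ∀ g ∈ G, p g S' := by
  classical
  induction G using Finset.induction_on with
  | empty => exact ⟨⊥, Subalgebra.fg_bot, fun _ _ g hg => absurd hg (Finset.notMem_empty g)⟩
  | insert g₀ G hg₀ ih =>
    obtain ⟨S₁, hS₁, h₁⟩ := ih (fun g hg => h g (Finset.mem_insert_of_mem hg))
    obtain ⟨S₂, hS₂, h₂⟩ := h g₀ (Finset.mem_insert_self g₀ G)
    refine ⟨S₁ ⊔ S₂, hS₁.sup hS₂, fun S' hS' g hg => ?_⟩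
    rcases Finset.mem_insert.mp hg with rfl | hg
    · exact h₂ S' (le_trans le_sup_right hS')
    · exact h₁ S' (le_trans le_sup_left hS') g hg

theorem adjoin_range_inclR (T : Type u) [CommRing T] [Algebra K T] :
    Algebra.adjoin T (Set.range (inclR (K := K) (A := A) T)) = ⊤ := by
  have := Algebra.TensorProduct.adjoin_one_tmul_image_eq_top (R := K) (A := T) (B := A)
    (Set.univ : Set A) (by simp)
  rw [Set.image_univ] at this
  exact this

/-- If the base change of `D` to `R` is a Hopf algebra, so is the base change to every large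
enough finitely generated subalgebra. -/
theorem exists_fg_isHopf_bc (hft : Algebra.FiniteType K A) (hR : (D.bc R).IsHopf) :
    ∃ S : Subalgebra K R, S.FG ∧ ∀ S' : Subalgebra K R, S ≤ S' → (D.bc S').IsHopf := by
  obtain ⟨G, hG⟩ := hft.out
  have hax : ∀ a, AxEq D R a :=
    axEq_of_isHopf (isHom_bc R D) AlgEquiv.refl (fun _ => rfl) hR
  obtain ⟨S, hS, hSax⟩ := exists_fg_forall_finset R G (fun g S => AxEq D S g)
    (fun g _ => exists_fg_axEq D R (hax g))
  refine ⟨S, hS, fun S' hS' => ?_⟩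
  exact isHopf_of_axEq (isHom_bc S' D) (adjoin_range_inclR S') hG (fun g hg => hSax S' hS' g hg)

theorem exists_fg_isCocomm_bc (hft : Algebra.FiniteType K A) (hR : (D.bc R).IsCocomm) :
    ∃ S : Subalgebra K R, S.FG ∧ ∀ S' : Subalgebra K R, S ≤ S' → (D.bc S').IsCocomm := by
  obtain ⟨G, hG⟩ := hft.out
  have hax : ∀ a, CcEq D R a :=
    ccEq_of_isCocomm (isHom_bc R D) AlgEquiv.refl (fun _ => rfl) hR
  obtain ⟨S, hS, hSax⟩ := exists_fg_forall_finset R G (fun g S => CcEq D S g)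
    (fun g _ => exists_fg_one_tmul_eq R (hax g))
  refine ⟨S, hS, fun S' hS' => ?_⟩
  exact isCocomm_of_ccEq (isHom_bc S' D) (adjoin_range_inclR S') hG
    (fun g hg => hSax S' hS' g hg)

end Stage

end Groth.Agent.Lib.Helper25.HDesc
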