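import Groth.Agent.Lib.Helper25HDescF
import Groth.Agent.Lib.Helper25MultRigidB

/-!
# Hopf data on `T ⊗ A` from relative data; compatibility lemmas (helper25)
-/

set_option autoImplicit false
set_option linter.unusedSectionVars false
set_option linter.style.haveILetI false
universe u

namespace Groth.Agent.Lib.Helper25.HDesc

open TensorProduct

section L2

variable {K A : Type u} [CommRing K] [CommRing A] [Algebra K A]
  (T : Type u) [CommRing T] [Algebra K T]

/-- The comparison `T ⊗ (A ⊗ A) → (T ⊗ A) ⊗[T] (T ⊗ A)` as an algebra map. -/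
noncomputable def L₂ : T ⊗[K] (A ⊗[K] A) →ₐ[T] (T ⊗[K] A) ⊗[T] (T ⊗[K] A) :=
  Algebra.TensorProduct.lift (Algebra.ofId T _) (map₂ T (inclR (K := K) (A := A) T))
    (fun _ _ => Commute.all _ _)

theorem L₂_one_tmul (z : A ⊗[K] A) :
    L₂ T ((1 : T) ⊗ₜ[K] z) = map₂ T (inclR (K := K) (A := A) T) z := by
  change Algebra.TensorProduct.lift (Algebra.ofId T _) (map₂ T (inclR (K := K) (A := A) T))
    (fun _ _ => Commute.all _ _) ((1 : T) ⊗ₜ[K] z) = _
  rw [Algebra.TensorProduct.lift_tmul, map_one, one_mul]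

theorem L₂_apply (w : T ⊗[K] (A ⊗[K] A)) :
    L₂ T w = Λ₂ (inclR (K := K) (A := A) T) w := by
  induction w using TensorProduct.induction_on with
  | zero => simp
  | add x y hx hy => simp only [map_add, hx, hy]
  | tmul t z =>
    have : t ⊗ₜ[K] z = t • ((1 : T) ⊗ₜ[K] z) := by
      rw [TensorProduct.smul_tmul', smul_eq_mul, mul_one]
    rw [this, map_smul, map_smul, L₂_one_tmul, Λ₂_one_tmul]

end L2

section Chi

variable {K A : Type u} [CommRing K] [CommRing A] [Algebra K A]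
  (T₁ : Type u) [CommRing T₁] [Algebra K T₁]
  {T₂ : Type u} [CommRing T₂] [Algebra K T₂] [Algebra T₁ T₂] [IsScalarTower K T₁ T₂]
  {B : Type u} [CommRing B] [Algebra T₂ B] [Algebra K B] [IsScalarTower K T₂ B]
  [Algebra T₁ B] [IsScalarTower T₁ T₂ B] [IsScalarTower K T₁ B]

/-- `t ⊗ a ↦ t • ψ a`, as a `T₁`-algebra map. -/
noncomputable def χ (ψ : A →ₐ[K] B) : T₁ ⊗[K] A →ₐ[T₁] B :=
  Algebra.TensorProduct.lift (Algebra.ofId T₁ B) ψ (fun _ _ => Commute.all _ _)

theorem χ_tmul (ψ : A →ₐ[K] B) (t : T₁) (a : A) : χ T₁ ψ (t ⊗ₜ[K] a) = t • ψ a := by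
  change Algebra.TensorProduct.lift (Algebra.ofId T₁ B) ψ (fun _ _ => Commute.all _ _)
    (t ⊗ₜ[K] a) = _
  rw [Algebra.TensorProduct.lift_tmul, Algebra.smul_def]
  rfl

theorem χ_one_tmul (ψ : A →ₐ[K] B) (a : A) : χ T₁ ψ ((1 : T₁) ⊗ₜ[K] a) = ψ a := by
  rw [χ_tmul, one_smul]

theorem map₂_χ_map₂ (ψ : A →ₐ[K] B) (z : A ⊗[K] A) :
    map₂ T₂ (χ T₁ ψ) (map₂ T₁ (inclR (K := K) (A := A) T₁) z) = map₂ T₂ ψ z := by
  induction z using TensorProduct.induction_on with
  | zero => simp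
  | add x y hx hy => simp only [map_add, hx, hy]
  | tmul a b =>
    rw [map₂_tmul, map₂_tmul, map₂_tmul]
    change χ T₁ ψ ((1 : T₁) ⊗ₜ[K] a) ⊗ₜ[T₂] χ T₁ ψ ((1 : T₁) ⊗ₜ[K] b) = _
    rw [χ_one_tmul, χ_one_tmul]

/-- **Lemma H.** A hom `ψ` from `(A, D)` over `K` to `(B, D₂)` over `T₂` extends to a hom from the
base change of `D` to an intermediate ring `T₁`. -/
theorem isHom_bc_χ {D : HopfData K A} {D₂ : HopfData T₂ B} {ψ : A →ₐ[K] B}
    (h : IsHom D D₂ ψ) : IsHom (D.bc T₁) D₂ (χ T₁ ψ) where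
  comul := by
    have key : (D₂.comul.restrictScalars T₁).comp (χ T₁ ψ) =
        (map₂ T₂ (χ T₁ ψ)).comp (D.bc T₁).comul := by
      apply algHom_ext_one_tmul
      intro a
      change D₂.comul (χ T₁ ψ ((1 : T₁) ⊗ₜ[K] a)) =
        map₂ T₂ (χ T₁ ψ) ((D.bc T₁).comul (inclR T₁ a))
      rw [χ_one_tmul, h.comul, (isHom_bc T₁ D).comul, map₂_χ_map₂]
    intro x
    exact congrArg (fun F => F x) key
  counit := by
    have key : (D₂.counit.restrictScalars T₁).comp (χ T₁ ψ) =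
        (Algebra.ofId T₁ T₂).comp (D.bc T₁).counit := by
      apply algHom_ext_one_tmul
      intro a
      change D₂.counit (χ T₁ ψ ((1 : T₁) ⊗ₜ[K] a)) =
        algebraMap T₁ T₂ ((D.bc T₁).counit (inclR T₁ a))
      rw [χ_one_tmul, h.counit, (isHom_bc T₁ D).counit, ← IsScalarTower.algebraMap_apply]
    intro x
    exact congrArg (fun F => F x) key
  antipode := by
    have key : (D₂.antipode.restrictScalars T₁).comp (χ T₁ ψ) =
        (χ T₁ ψ).comp (D.bc T₁).antipode := by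
      apply algHom_ext_one_tmul
      intro a
      change D₂.antipode (χ T₁ ψ ((1 : T₁) ⊗ₜ[K] a)) =
        χ T₁ ψ ((D.bc T₁).antipode (inclR T₁ a))
      rw [χ_one_tmul, h.antipode, (isHom_bc T₁ D).antipode]
      change _ = χ T₁ ψ ((1 : T₁) ⊗ₜ[K] _)
      rw [χ_one_tmul]
    intro x
    exact congrArg (fun F => F x) key

end Chi

section Rel

variable (K : Type u) [CommRing K] (T : Type u) [CommRing T] [Algebra K T]
  (A : Type u) [CommRing A] [Algebra K A]

/-- Hopf data on `T ⊗ A`, given by `K`-algebra maps out of `A`. -/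
structure RelData where
  δ : A →ₐ[K] T ⊗[K] (A ⊗[K] A)
  σ : A →ₐ[K] T ⊗[K] A
  ε : A →ₐ[K] T

variable {K T A}

/-- The Hopf data on `T ⊗ A` given by relative data. -/
noncomputable def RelData.toHopfData (rd : RelData K T A) : HopfData T (T ⊗[K] A) where
  comul := Algebra.TensorProduct.lift (Algebra.ofId T _)
    (((L₂ (K := K) (A := A) T).restrictScalars K).comp rd.δ) (fun _ _ => Commute.all _ _)
  counit := Algebra.TensorProduct.lift (AlgHom.id T T) rd.ε (fun _ _ => Commute.all _ _)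
  antipode := Algebra.TensorProduct.lift Algebra.TensorProduct.includeLeft rd.σ
    (fun _ _ => Commute.all _ _)

theorem RelData.comul_one_tmul (rd : RelData K T A) (a : A) :
    rd.toHopfData.comul ((1 : T) ⊗ₜ[K] a) = L₂ T (rd.δ a) := by
  change Algebra.TensorProduct.lift (Algebra.ofId T _)
    (((L₂ (K := K) (A := A) T).restrictScalars K).comp rd.δ) (fun _ _ => Commute.all _ _)
    ((1 : T) ⊗ₜ[K] a) = _
  rw [Algebra.TensorProduct.lift_tmul, map_one, one_mul]
  rfl

theorem RelData.counit_one_tmul (rd : RelData K T A) (a : A) :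
    rd.toHopfData.counit ((1 : T) ⊗ₜ[K] a) = rd.ε a := by
  change Algebra.TensorProduct.lift (AlgHom.id T T) rd.ε (fun _ _ => Commute.all _ _)
    ((1 : T) ⊗ₜ[K] a) = _
  rw [Algebra.TensorProduct.lift_tmul, map_one, one_mul]

theorem RelData.antipode_one_tmul (rd : RelData K T A) (a : A) :
    rd.toHopfData.antipode ((1 : T) ⊗ₜ[K] a) = rd.σ a := by
  change Algebra.TensorProduct.lift Algebra.TensorProduct.includeLeft rd.σ
    (fun _ _ => Commute.all _ _) ((1 : T) ⊗ₜ[K] a) = _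
  rw [Algebra.TensorProduct.lift_tmul, map_one, one_mul]

end Rel

section RelHom

variable {K A : Type u} [CommRing K] [CommRing A] [Algebra K A]
  {T₁ : Type u} [CommRing T₁] [Algebra K T₁]
  {T₂ : Type u} [CommRing T₂] [Algebra K T₂] [Algebra T₁ T₂] [IsScalarTower K T₁ T₂]
  {B : Type u} [CommRing B] [Algebra T₂ B] [Algebra K B] [IsScalarTower K T₂ B]
  [Algebra T₁ B] [IsScalarTower T₁ T₂ B] [IsScalarTower K T₁ B]

/-- The change of rings `T₁ ⊗ N → T₂ ⊗ N`. -/
noncomputable abbrev ρT (N : Type u) [CommRing N] [Algebra K N] : T₁ ⊗[K] N →ₐ[K] T₂ ⊗[K] N :=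
  Algebra.TensorProduct.map (IsScalarTower.toAlgHom K T₁ T₂) (AlgHom.id K N)

theorem map₂_χ_L₂ (ψ : A →ₐ[K] B) (w : T₁ ⊗[K] (A ⊗[K] A)) :
    map₂ T₂ (χ T₁ ψ) (L₂ T₁ w) = Λ₂ ψ (ρT (T₂ := T₂) (A ⊗[K] A) w) := by
  induction w using TensorProduct.induction_on with
  | zero => simp
  | add x y hx hy => simp only [map_add, hx, hy]
  | tmul t z =>
    have : t ⊗ₜ[K] z = t • ((1 : T₁) ⊗ₜ[K] z) := by
      rw [TensorProduct.smul_tmul', smul_eq_mul, mul_one]
    rw [this, map_smul, map_smul, L₂_one_tmul, map₂_χ_map₂]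
    rw [← this]
    change _ = Λ₂ ψ (algebraMap T₁ T₂ t ⊗ₜ[K] z)
    rw [Λ₂_tmul, algebraMap_smul]

theorem χ_eq_Λ₁ (ψ : A →ₐ[K] B) (w : T₁ ⊗[K] A) :
    χ T₁ ψ w = Λ₁ ψ (ρT (T₂ := T₂) A w) := by
  induction w using TensorProduct.induction_on with
  | zero => simp
  | add x y hx hy => simp only [map_add, hx, hy]
  | tmul t a =>
    rw [χ_tmul]
    change _ = Λ₁ ψ (algebraMap T₁ T₂ t ⊗ₜ[K] a)
    simp [Λ₁]

/-- Relative data over `T₁` whose images over `T₂` compute the Hopf data `D₂` on `B` along `ψ`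
define Hopf data over `T₁` mapping to `D₂`. -/
theorem isHom_toHopfData (rd : RelData K T₁ A) (D₂ : HopfData T₂ B) (ψ : A →ₐ[K] B)
    (hδ : ∀ a, Λ₂ ψ (ρT (T₂ := T₂) (A ⊗[K] A) (rd.δ a)) = D₂.comul (ψ a))
    (hσ : ∀ a, Λ₁ ψ (ρT (T₂ := T₂) A (rd.σ a)) = D₂.antipode (ψ a))
    (hε : ∀ a, algebraMap T₁ T₂ (rd.ε a) = D₂.counit (ψ a)) :
    IsHom rd.toHopfData D₂ (χ T₁ ψ) where
  comul := by
    have key : (D₂.comul.restrictScalars T₁).comp (χ T₁ ψ) =
        (map₂ T₂ (χ T₁ ψ)).comp rd.toHopfData.comul := by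
      apply algHom_ext_one_tmul
      intro a
      change D₂.comul (χ T₁ ψ ((1 : T₁) ⊗ₜ[K] a)) =
        map₂ T₂ (χ T₁ ψ) (rd.toHopfData.comul ((1 : T₁) ⊗ₜ[K] a))
      rw [χ_one_tmul, rd.comul_one_tmul, map₂_χ_L₂, hδ]
    intro x
    exact congrArg (fun F => F x) key
  counit := by
    have key : (D₂.counit.restrictScalars T₁).comp (χ T₁ ψ) =
        (Algebra.ofId T₁ T₂).comp rd.toHopfData.counit := by
      apply algHom_ext_one_tmul
      intro a
      change D₂.counit (χ T₁ ψ ((1 : T₁) ⊗ₜ[K] a)) =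
        algebraMap T₁ T₂ (rd.toHopfData.counit ((1 : T₁) ⊗ₜ[K] a))
      rw [χ_one_tmul, rd.counit_one_tmul, hε]
    intro x
    exact congrArg (fun F => F x) key
  antipode := by
    have key : (D₂.antipode.restrictScalars T₁).comp (χ T₁ ψ) =
        (χ T₁ ψ).comp rd.toHopfData.antipode := by
      apply algHom_ext_one_tmul
      intro a
      change D₂.antipode (χ T₁ ψ ((1 : T₁) ⊗ₜ[K] a)) =
        χ T₁ ψ (rd.toHopfData.antipode ((1 : T₁) ⊗ₜ[K] a))
      rw [χ_one_tmul, rd.antipode_one_tmul, χ_eq_Λ₁ (T₂ := T₂), hσ]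
    intro x
    exact congrArg (fun F => F x) key

end RelHom

section Mathlib

variable (S : Type u) [CommRing S] (R : Type u) [CommRing R] [Algebra S R]
  (H : Type u) [CommRing H] [HopfAlgebra S H]

theorem map₂_inclR_eq_bcMap2 (z : H ⊗[S] H) :
    map₂ R (inclR (K := S) (A := H) R) z = MRB.bcMap2 R H z := by
  induction z using TensorProduct.induction_on with
  | zero => simp
  | add x y hx hy => simp only [map_add, hx, hy]
  | tmul a b =>
    rw [map₂_tmul, MRB.bcMap2_tmul]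
    rfl

/-- `h ↦ 1 ⊗ h` is a hom to Mathlib's base change Hopf algebra. -/
theorem isHom_inclR_ofHopf :
    IsHom (HopfData.ofHopf S H) (HopfData.ofHopf R (R ⊗[S] H)) (inclR R) where
  comul := by
    intro h
    change CoalgebraStruct.comul (R := R) ((1 : R) ⊗ₜ[S] h) = _
    rw [MRB.comul_one_tmul, map₂_inclR_eq_bcMap2]
    rfl
  counit := by
    intro h
    change Coalgebra.counit (R := R) ((1 : R) ⊗ₜ[S] h) = algebraMap S R (Coalgebra.counit (R := S) h)
    rw [TensorProduct.counit_tmul, CommSemiring.counit_apply, Algebra.smul_def, mul_one]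
  antipode := by
    intro h
    change HopfAlgebra.antipode R ((1 : R) ⊗ₜ[S] h) = (1 : R) ⊗ₜ[S] HopfAlgebra.antipode S h
    rw [TensorProduct.antipode_def, AlgebraTensorModule.map_tmul, HopfAlgebra.antipode_one]

end Mathlib

section ToBialg

variable {R : Type u} [CommRing R] {X Y : Type u} [CommRing X] [CommRing Y]
  [HopfAlgebra R X] [HopfAlgebra R Y]

/-- A hom of the Hopf data of two Hopf algebras over the same ring which is an algebra isomorphism is
an isomorphism of bialgebras. -/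
noncomputable def bialgEquivOfIsHom (f : X ≃ₐ[R] Y)
    (h : IsHom (HopfData.ofHopf R X) (HopfData.ofHopf R Y) (f : X →ₐ[R] Y)) : X ≃ₐc[R] Y :=
  BialgEquiv.ofAlgEquiv f
    (by
      apply AlgHom.ext
      intro x
      exact h.counit x)
    (by
      apply AlgHom.ext
      intro x
      have := h.comul x
      rw [map₂_self] at this
      exact this.symm)

end ToBialg

end Groth.Agent.Lib.Helper25.HDesc
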