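import Groth.Agent.Lib.Helper25HDescG

/-!
# Descent of a Hopf algebra structure to a finitely generated subalgebra (helper25)
-/

set_option autoImplicit false
set_option linter.unusedSectionVars false
set_option linter.style.haveILetI false
universe u

namespace Groth.Agent.Lib.Helper25.HDesc

open TensorProduct

section L2gen

variable {K A : Type u} [CommRing K] [CommRing A] [Algebra K A]
  {T : Type u} [CommRing T] [Algebra K T]
  {B : Type u} [CommRing B] [Algebra T B] [Algebra K B] [IsScalarTower K T B]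

/-- `Λ₂` as an algebra map. -/
noncomputable def L₂' (ψ : A →ₐ[K] B) : T ⊗[K] (A ⊗[K] A) →ₐ[T] B ⊗[T] B :=
  Algebra.TensorProduct.lift (Algebra.ofId T _) (map₂ T ψ) (fun _ _ => Commute.all _ _)

theorem L₂'_one_tmul (ψ : A →ₐ[K] B) (z : A ⊗[K] A) :
    L₂' (T := T) ψ ((1 : T) ⊗ₜ[K] z) = map₂ T ψ z := by
  change Algebra.TensorProduct.lift (Algebra.ofId T _) (map₂ T ψ)
    (fun _ _ => Commute.all _ _) ((1 : T) ⊗ₜ[K] z) = _
  rw [Algebra.TensorProduct.lift_tmul, map_one, one_mul]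

theorem L₂'_apply (ψ : A →ₐ[K] B) (w : T ⊗[K] (A ⊗[K] A)) : L₂' ψ w = Λ₂ ψ w := by
  induction w using TensorProduct.induction_on with
  | zero => simp
  | add x y hx hy => simp only [map_add, hx, hy]
  | tmul t z =>
    have : t ⊗ₜ[K] z = t • ((1 : T) ⊗ₜ[K] z) := by
      rw [TensorProduct.smul_tmul', smul_eq_mul, mul_one]
    rw [this, map_smul, map_smul, L₂'_one_tmul, Λ₂_one_tmul]

/-- `Λ₂` as an algebra isomorphism when `B` is the base change of `A`. -/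
noncomputable def L₂'equiv (e : T ⊗[K] A ≃ₐ[T] B) (ψ : A →ₐ[K] B)
    (he : ∀ a, e ((1 : T) ⊗ₜ[K] a) = ψ a) : T ⊗[K] (A ⊗[K] A) ≃ₐ[T] B ⊗[T] B :=
  AlgEquiv.ofBijective (L₂' ψ) (by
    have : (L₂' (T := T) ψ : _ → _) = (Λ₂equiv e : _ → _) :=
      funext (fun w => by rw [L₂'_apply, Λ₂equiv_apply e ψ he])
    rw [this]
    exact (Λ₂equiv e).bijective)

theorem L₂'equiv_apply (e : T ⊗[K] A ≃ₐ[T] B) (ψ : A →ₐ[K] B)
    (he : ∀ a, e ((1 : T) ⊗ₜ[K] a) = ψ a) (w : T ⊗[K] (A ⊗[K] A)) :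
    L₂'equiv e ψ he w = Λ₂ ψ w := L₂'_apply ψ w

end L2gen

section M1

variable {K : Type u} [CommRing K] (R : Type u) [CommRing R] [Algebra K R]
  (A : Type u) [CommRing A] [Algebra K A]
  (C : Type u) [CommRing C] [HopfAlgebra R C] [Algebra K C] [IsScalarTower K R C]
  (e : R ⊗[K] A ≃ₐ[R] C)

/-- `a ↦ e (1 ⊗ a)`. -/
noncomputable def ψ₀ : A →ₐ[K] C := ((e : R ⊗[K] A →ₐ[R] C).restrictScalars K).comp (inclR R)

/-- **Descent of the structure maps.** The Hopf structure of `C ≃ R ⊗ A`, `A` finitely presented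
over `K`, comes from Hopf data (not yet satisfying the axioms) on `S₀ ⊗ A` for a finitely generated
subalgebra `S₀` of `R`. -/
theorem exists_fg_hopfData (hfp : Algebra.FinitePresentation K A) :
    ∃ S₀ : Subalgebra K R, S₀.FG ∧ ∃ D₀ : HopfData S₀ (S₀ ⊗[K] A),
      IsHom D₀ (HopfData.ofHopf R C) (χ S₀ (ψ₀ R A C e)) := by
  classical
  set ψ := ψ₀ R A C e with hψ
  have he : ∀ a, e ((1 : R) ⊗ₜ[K] a) = ψ a := fun _ => rfl
  let E₂ := L₂'equiv e ψ he
  let φΔ : A →ₐ[K] R ⊗[K] (A ⊗[K] A) :=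
    ((E₂.symm : C ⊗[R] C →ₐ[R] R ⊗[K] (A ⊗[K] A)).restrictScalars K).comp
      (((Bialgebra.comulAlgHom R C).restrictScalars K).comp ψ)
  let φσ : A →ₐ[K] R ⊗[K] A :=
    ((e.symm : C →ₐ[R] R ⊗[K] A).restrictScalars K).comp
      (((HopfAlgebra.antipodeAlgHom R C).restrictScalars K).comp ψ)
  let φε : A →ₐ[K] R := ((Bialgebra.counitAlgHom R C).restrictScalars K).comp ψ
  obtain ⟨SΔ, hSΔ, hΔ⟩ := exists_fg_algHom_lift R (A ⊗[K] A) A hfp φΔ
  obtain ⟨Sσ, hSσ, hσ⟩ := exists_fg_algHom_lift R A A hfp φσ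
  have hSε : φε.range.FG := by
    haveI := hfp
    have h1 : (⊤ : Subalgebra K A).FG := Algebra.FiniteType.out
    have h2 := h1.map φε
    rwa [Algebra.map_top] at h2
  let S₀ : Subalgebra K R := SΔ ⊔ Sσ ⊔ φε.range
  obtain ⟨δ₀, hδ₀⟩ := hΔ S₀ (le_sup_of_le_left le_sup_left)
  obtain ⟨σ₀, hσ₀⟩ := hσ S₀ (le_sup_of_le_left le_sup_right)
  let ε₀ : A →ₐ[K] S₀ :=
    (Subalgebra.inclusion (le_sup_right : φε.range ≤ S₀)).comp φε.rangeRestrict
  refine ⟨S₀, (hSΔ.sup hSσ).sup hSε, (RelData.mk δ₀ σ₀ ε₀).toHopfData, ?_⟩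
  apply isHom_toHopfData
  · intro a
    have h1 : ρT (T₁ := S₀) (T₂ := R) (A ⊗[K] A) (δ₀ a) = φΔ a := hδ₀ a
    change Λ₂ ψ (ρT (T₁ := S₀) (T₂ := R) (A ⊗[K] A) (δ₀ a)) = _
    rw [h1, ← L₂'equiv_apply e ψ he]
    exact E₂.apply_symm_apply _
  · intro a
    have h1 : ρT (T₁ := S₀) (T₂ := R) A (σ₀ a) = φσ a := hσ₀ a
    change Λ₁ ψ (ρT (T₁ := S₀) (T₂ := R) A (σ₀ a)) = _
    rw [h1, Λ₁_eq e ψ he]
    exact e.apply_symm_apply _
  · intro a
    rfl

end M1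

section M2

variable {K : Type u} [CommRing K] (R : Type u) [CommRing R] [Algebra K R]
  (A : Type u) [CommRing A] [Algebra K A] (D : HopfData K A)
  (C : Type u) [CommRing C] [HopfAlgebra R C] [Algebra K C] [IsScalarTower K R C]
  (ψ : A →ₐ[K] C) (hψ : IsHom D (HopfData.ofHopf R C) ψ) (hbij : Function.Bijective (χ R ψ))

include hψ hbij in
theorem isHopf_bc_of_bijective : (D.bc R).IsHopf := by
  have h1 : IsHom (D.bc R) (HopfData.ofHopf R C) (χ R ψ) := isHom_bc_χ R hψ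
  exact IsHom.isHopf_of_equiv (AlgEquiv.ofBijective (χ R ψ) hbij) h1 (HopfData.isHopf_ofHopf R C)

include hψ hbij in
theorem isCocomm_bc_of_bijective [Coalgebra.IsCocomm R C] : (D.bc R).IsCocomm := by
  have h1 : IsHom (D.bc R) (HopfData.ofHopf R C) (χ R ψ) := isHom_bc_χ R hψ
  exact IsHom.isCocomm_of_equiv (AlgEquiv.ofBijective (χ R ψ) hbij) h1
    (HopfData.isCocomm_ofHopf R C)

theorem ofHopf_toHopfAlgebra {K A : Type u} [CommRing K] [CommRing A] [Algebra K A]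
    (D : HopfData K A) (h : D.IsHopf) :
    @HopfData.ofHopf K A _ _ (D.toHopfAlgebra h) = D := by
  cases D
  rfl

end M2

end Groth.Agent.Lib.Helper25.HDesc
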