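import Groth.Agent.Lib.Helper25HDescH

/-!
# Noetherian models of finitely presented Hopf algebras (helper25)
-/

set_option autoImplicit false
set_option linter.unusedSectionVars false
set_option linter.style.haveILetI false
universe u

namespace Groth.Agent.Lib.Helper25.HDesc

open TensorProduct

section Gen

theorem nonempty_bialgEquiv_of_isHom {S R : Type u} [CommRing S] [CommRing R] [Algebra S R]
    (H : Type u) [CommRing H] [HopfAlgebra S H] (C : Type u) [CommRing C] [HopfAlgebra R C]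
    [Algebra S C] [IsScalarTower S R C]
    (φ : H →ₐ[S] C) (hφ : IsHom (HopfData.ofHopf S H) (HopfData.ofHopf R C) φ)
    (f : R ⊗[S] H ≃ₐ[R] C) (hf : ∀ h, f ((1 : R) ⊗ₜ[S] h) = φ h) :
    Nonempty (R ⊗[S] H ≃ₐc[R] C) := by
  have h1 : IsHom (HopfData.ofHopf R (R ⊗[S] H)) (HopfData.ofHopf R C) (f : R ⊗[S] H →ₐ[R] C) :=
    isHom_of_comp (HopfData.ofHopf S H) (HopfData.ofHopf R (R ⊗[S] H)) (HopfData.ofHopf R C)
      (inclR R) φ (f : R ⊗[S] H →ₐ[R] C) hf (adjoin_range_inclR R)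
      (isHom_inclR_ofHopf S R H) hφ
  exact ⟨bialgEquivOfIsHom f h1⟩

end Gen

section M2

variable {K : Type u} [CommRing K] (R : Type u) [CommRing R] [Algebra K R]
  (A : Type u) [CommRing A] [Algebra K A] (D : HopfData K A)
  (C : Type u) [CommRing C] [HopfAlgebra R C] [Algebra K C] [IsScalarTower K R C]
  (ψ : A →ₐ[K] C) (hψ : IsHom D (HopfData.ofHopf R C) ψ) (hbij : Function.Bijective (χ R ψ))

/-- The algebra isomorphism `R ⊗[S] (S ⊗[K] A) ≃ C`. -/
noncomputable def modelAlgEquiv (S : Subalgebra K R) : R ⊗[S] (S ⊗[K] A) ≃ₐ[R] C :=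
  (Algebra.TensorProduct.cancelBaseChange K S R R A).trans (AlgEquiv.ofBijective (χ R ψ) hbij)

theorem modelAlgEquiv_one_tmul (S : Subalgebra K R) (x : S ⊗[K] A) :
    modelAlgEquiv R A C ψ hbij S ((1 : R) ⊗ₜ[S] x) = χ S ψ x := by
  induction x using TensorProduct.induction_on with
  | zero => simp
  | add x y hx hy => simp only [TensorProduct.tmul_add, map_add, hx, hy]
  | tmul s a =>
    change χ R ψ (Algebra.TensorProduct.cancelBaseChange K S R R A ((1 : R) ⊗ₜ[S] (s ⊗ₜ[K] a))) = _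
    rw [Algebra.TensorProduct.cancelBaseChange_tmul, χ_tmul, χ_tmul, smul_assoc, one_smul]

include hψ hbij in
theorem exists_fg_model (hfp : Algebra.FinitePresentation K A) :
    ∃ S : Subalgebra K R, S.FG ∧
      ∃ (H : Type u) (_ : CommRing H) (_ : HopfAlgebra S H),
        Algebra.FinitePresentation S H ∧ (Coalgebra.IsCocomm R C → Coalgebra.IsCocomm S H) ∧
        Nonempty (R ⊗[S] H ≃ₐc[R] C) := by
  have hft : Algebra.FiniteType K A := inferInstance
  obtain ⟨S₁, hS₁, h₁⟩ := exists_fg_isHopf_bc D R hft (isHopf_bc_of_bijective R A D C ψ hψ hbij)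
  have hcc : ∃ S₂ : Subalgebra K R, S₂.FG ∧ ∀ S' : Subalgebra K R, S₂ ≤ S' →
      Coalgebra.IsCocomm R C → (D.bc S').IsCocomm := by
    by_cases hc : Coalgebra.IsCocomm R C
    · obtain ⟨S₂, hS₂, h₂⟩ := exists_fg_isCocomm_bc D R hft
        (isCocomm_bc_of_bijective R A D C ψ hψ hbij)
      exact ⟨S₂, hS₂, fun S' hS' _ => h₂ S' hS'⟩
    · exact ⟨⊥, Subalgebra.fg_bot, fun _ _ h => absurd h hc⟩
  obtain ⟨S₂, hS₂, h₂⟩ := hcc
  let S := S₁ ⊔ S₂
  have hS : (D.bc S).IsHopf := h₁ S le_sup_left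
  have hfpS : Algebra.FinitePresentation S (S ⊗[K] A) := inferInstance
  have hφ : IsHom (D.bc S) (HopfData.ofHopf R C) (χ S ψ) := isHom_bc_χ S hψ
  refine ⟨S, hS₁.sup hS₂, S ⊗[K] A, inferInstance, (D.bc S).toHopfAlgebra hS, hfpS,
    fun hc => HopfData.isCocomm_toHopfAlgebra _ hS (h₂ S le_sup_right hc), ?_⟩
  letI instH : HopfAlgebra S (S ⊗[K] A) := (D.bc S).toHopfAlgebra hS
  refine nonempty_bialgEquiv_of_isHom (S ⊗[K] A) C (χ S ψ) ?_ (modelAlgEquiv R A C ψ hbij S)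
    (modelAlgEquiv_one_tmul R A C ψ hbij S)
  rw [ofHopf_toHopfAlgebra]
  exact hφ

end M2

end Groth.Agent.Lib.Helper25.HDesc
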