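import Groth.Agent.Lib.Helper3FlatOpenFP

/-!
# Flatness along a closed fibre and flatness of a principal localisation (helper25)
-/

set_option autoImplicit false
set_option linter.unusedSectionVars false
set_option linter.style.haveILetI false
universe u

namespace Groth.Agent.Lib.Helper25.HFlat

open TensorProduct

section Transport

variable {R : Type u} [CommRing R] {C : Type u} [CommRing C] [Algebra R C]

theorem flat_atPrime_of_eq {q q' : Ideal C} [hq : q.IsPrime] [hq' : q'.IsPrime] (h : q' = q)
    (hf : Module.Flat R (Localization.AtPrime q')) : Module.Flat R (Localization.AtPrime q) := by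
  subst h
  exact hf

theorem flat_away_of_eq {g g' : C} (h : g' = g)
    (hf : Module.Flat R (Localization.Away g')) : Module.Flat R (Localization.Away g) := by
  subst h
  exact hf

/-- Flatness of `C_q` for `q` in the basic open `D(g)` from flatness of `C_g`. -/
theorem flat_atPrime_of_flat_away (g : C) (hflat : Module.Flat R (Localization.Away g))
    (q : Ideal C) [q.IsPrime] (hgq : g ∉ q) : Module.Flat R (Localization.AtPrime q) := by
  have hdisj : Disjoint (Submonoid.powers g : Set C) (q : Set C) := by
    rw [Set.disjoint_left]
    rintro _ ⟨n, rfl⟩ hn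
    exact hgq (Ideal.IsPrime.mem_of_pow_mem inferInstance n hn)
  let P : Ideal (Localization.Away g) := q.map (algebraMap C (Localization.Away g))
  haveI hP : P.IsPrime :=
    IsLocalization.isPrime_of_isPrime_disjoint (Submonoid.powers g) _ q inferInstance hdisj
  have hcomap : P.comap (algebraMap C (Localization.Away g)) = q :=
    IsLocalization.comap_map_of_isPrime_disjoint (Submonoid.powers g) _ inferInstance hdisj
  let e := IsLocalization.localizationLocalizationAtPrimeIsoLocalization (Submonoid.powers g) P
  haveI : Module.Flat R (Localization.AtPrime P) := inferInstance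
  have h1 : Module.Flat R (Localization.AtPrime (P.comap (algebraMap C (Localization.Away g)))) :=
    Module.Flat.of_linearEquiv (e.toLinearEquiv.restrictScalars R)
  exact flat_atPrime_of_eq hcomap h1

/-- Flatness of `C_g` from flatness of `C_q` for all `q` in the basic open `D(g)`. -/
theorem flat_away_of_flat_atPrime (g : C)
    (h : ∀ (q : Ideal C) [q.IsPrime], g ∉ q → Module.Flat R (Localization.AtPrime q)) :
    Module.Flat R (Localization.Away g) := by
  refine Module.flat_of_isLocalized_maximal (Localization.Away g) (Localization.Away g)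
    (fun P _ => Localization.AtPrime P) (fun P _ => Algebra.linearMap _ _) ?_
  intro P hP
  let e := IsLocalization.localizationLocalizationAtPrimeIsoLocalization (Submonoid.powers g) P
  have hg : g ∉ P.comap (algebraMap C (Localization.Away g)) := by
    intro hmem
    have hu : IsUnit (algebraMap C (Localization.Away g) g) :=
      IsLocalization.Away.algebraMap_isUnit g
    exact (Ideal.IsPrime.ne_top inferInstance) (Ideal.eq_top_of_isUnit_mem P hmem hu)
  haveI := h (P.comap (algebraMap C (Localization.Away g))) hg
  exact Module.Flat.of_linearEquiv (e.toLinearEquiv.restrictScalars R).symm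

end Transport

section Open

open Groth.Agent.Lib.Helper3.FlatOpen

/-- **Flatness near the closed fibre is flatness of a principal open neighbourhood.** -/
theorem exists_flat_away (R : Type u) [CommRing R] (I : Ideal R) (C : Type u) [CommRing C]
    [Algebra R C] [Algebra.FinitePresentation R C]
    (hfl : ∀ (q : Ideal C) [q.IsPrime], I.map (algebraMap R C) ≤ q →
      Module.Flat R (Localization.AtPrime q)) :
    ∃ g : C, g - 1 ∈ I.map (algebraMap R C) ∧ Module.Flat R (Localization.Away g) := by
  let U : Set (PrimeSpectrum C) :=
    {q | Module.Flat R (LocalizedModule q.asIdeal.primeCompl C)}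
  have hU : IsOpen U := isOpen_flatLocus_of_finitePresentation (R := R) (S := C) (M := C)
  have hiff : ∀ q : PrimeSpectrum C, q ∈ U ↔ Module.Flat R (Localization.AtPrime q.asIdeal) := by
    intro q
    let e : LocalizedModule q.asIdeal.primeCompl C ≃ₗ[C] Localization.AtPrime q.asIdeal :=
      IsLocalizedModule.linearEquiv q.asIdeal.primeCompl
        (LocalizedModule.mkLinearMap q.asIdeal.primeCompl C)
        (Algebra.linearMap C (Localization.AtPrime q.asIdeal))
    constructor
    · intro h
      haveI : Module.Flat R (LocalizedModule q.asIdeal.primeCompl C) := h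
      exact Module.Flat.of_linearEquiv (e.restrictScalars R).symm
    · intro h
      haveI := h
      exact Module.Flat.of_linearEquiv (e.restrictScalars R)
  obtain ⟨J, hJ⟩ := (PrimeSpectrum.isClosed_iff_zeroLocus_ideal _).mp hU.isClosed_compl
  have htop : J ⊔ I.map (algebraMap R C) = ⊤ := by
    by_contra hne
    obtain ⟨M, hM, hle⟩ := Ideal.exists_le_maximal _ hne
    haveI := hM.isPrime
    have h1 : (⟨M, hM.isPrime⟩ : PrimeSpectrum C) ∈ U :=
      (hiff _).mpr (hfl M (le_trans le_sup_right hle))
    have h2 : (⟨M, hM.isPrime⟩ : PrimeSpectrum C) ∈ Uᶜ := by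
      rw [hJ, PrimeSpectrum.mem_zeroLocus]
      intro x hx
      exact hle (Ideal.mem_sup_left hx)
    exact h2 h1
  obtain ⟨j, hj, n, hn, hjn⟩ := Submodule.mem_sup.mp ((Ideal.eq_top_iff_one _).mp htop)
  refine ⟨j, ?_, ?_⟩
  · have : j - 1 = -n := by rw [← hjn]; ring
    rw [this]
    exact neg_mem hn
  · apply flat_away_of_flat_atPrime
    intro q hq hjq
    apply (hiff ⟨q, hq⟩).mp
    by_contra hnot
    have h2 : (⟨q, hq⟩ : PrimeSpectrum C) ∈ Uᶜ := hnot
    rw [hJ, PrimeSpectrum.mem_zeroLocus] at h2
    exact hjq (h2 hj)

/-- Conversely, flatness of a principal open neighbourhood of the closed fibre gives flatness at the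
points of the closed fibre. -/
theorem flat_atPrime_of_exists {R : Type u} [CommRing R] (I : Ideal R) {C : Type u} [CommRing C]
    [Algebra R C] (g : C) (hg : g - 1 ∈ I.map (algebraMap R C))
    (hflat : Module.Flat R (Localization.Away g))
    (q : Ideal C) [q.IsPrime] (hq : I.map (algebraMap R C) ≤ q) :
    Module.Flat R (Localization.AtPrime q) := by
  apply flat_atPrime_of_flat_away g hflat
  intro hgq
  have : (1 : C) ∈ q := by
    have h1 : g - (g - 1) ∈ q := sub_mem hgq (hq hg)
    simpa using h1
  exact (Ideal.IsPrime.ne_top inferInstance) ((Ideal.eq_top_iff_one q).mpr this)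

end Open

end Groth.Agent.Lib.Helper25.HFlat
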