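import Groth.Agent.Lib.Helper25HFlatA
import Groth.Agent.S4848

/-!
# Flatness of principal localisations: transfer along isomorphisms and base change, and descent
to a finitely generated subalgebra (helper25)
-/

set_option autoImplicit false
set_option linter.unusedSectionVars false
set_option linter.style.haveILetI false
universe u

namespace Groth.Agent.Lib.Helper25.HFlat

open TensorProduct

section Iso

variable {R : Type u} [CommRing R] {X Y : Type u} [CommRing X] [CommRing Y] [Algebra R X]
  [Algebra R Y]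

theorem flat_away_of_algEquiv (f : X ≃ₐ[R] Y) (g : X)
    (h : Module.Flat R (Localization.Away (f g))) : Module.Flat R (Localization.Away g) := by
  let B := Localization.Away (f g)
  letI : Algebra X B := ((algebraMap Y B).comp (f : X →+* Y)).toAlgebra
  haveI : IsScalarTower R X B := IsScalarTower.of_algebraMap_eq (fun r => by
    change algebraMap R B r = algebraMap Y B (f (algebraMap R X r))
    rw [f.commutes, ← IsScalarTower.algebraMap_apply])
  haveI : IsLocalization (Submonoid.powers g) B := by
    refine IsLocalization.of_ringEquiv_left (M₁ := Submonoid.powers (f g)) f.toRingEquiv ?_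
      (fun x => rfl)
    rw [Submonoid.map_powers]
    rfl
  let e : Localization.Away g ≃ₐ[X] B :=
    IsLocalization.algEquiv (Submonoid.powers g) (Localization.Away g) B
  exact Module.Flat.of_linearEquiv (e.toLinearEquiv.restrictScalars R)

end Iso

section BC

variable (Λ : Type u) [CommRing Λ] (Λ' : Type u) [CommRing Λ'] [Algebra Λ Λ']
  (H : Type u) [CommRing H] [Algebra Λ H] (g : H)

theorem flat_away_baseChange (h : Module.Flat Λ (Localization.Away g)) :
    Module.Flat Λ' (Localization.Away ((1 : Λ') ⊗ₜ[Λ] g)) := by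
  let e := IsLocalization.Away.tensorProductEquivTMulRight Λ Λ' g (Localization.Away g)
  exact Module.Flat.of_linearEquiv e.toLinearEquiv.symm

theorem flat_tensor_away (h : Module.Flat Λ' (Localization.Away ((1 : Λ') ⊗ₜ[Λ] g))) :
    Module.Flat Λ' (Λ' ⊗[Λ] Localization.Away g) := by
  let e := IsLocalization.Away.tensorProductEquivTMulRight Λ Λ' g (Localization.Away g)
  exact Module.Flat.of_linearEquiv e.toLinearEquiv

theorem flat_away_of_flat_tensor (h : Module.Flat Λ' (Λ' ⊗[Λ] Localization.Away g)) :
    Module.Flat Λ' (Localization.Away ((1 : Λ') ⊗ₜ[Λ] g)) := by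
  let e := IsLocalization.Away.tensorProductEquivTMulRight Λ Λ' g (Localization.Away g)
  exact Module.Flat.of_linearEquiv e.toLinearEquiv.symm

end BC

section Colim

variable (Λ : Type u) [CommRing Λ] (R : Type u) [CommRing R] [Algebra Λ R]

theorem isDirectedColimitRing_fg :
    FlatCA.IsDirectedColimitRing (ι := {S : Subalgebra Λ R // S.FG})
      (fun i => (i.1 : Type u))
      (fun i j h => (Subalgebra.inclusion (show i.1 ≤ j.1 from h)).toRingHom) R := by
  refine ⟨⟨fun a b => ⟨⟨a.1 ⊔ b.1, a.2.sup b.2⟩, ?_, ?_⟩⟩, ⟨⟨⊥, Subalgebra.fg_bot⟩⟩, ?_, ?_, ?_, ?_, ?_⟩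
  · exact (le_sup_left : a.1 ≤ a.1 ⊔ b.1)
  · exact (le_sup_right : b.1 ≤ a.1 ⊔ b.1)
  · intro i
    ext x
    rfl
  · intro i j k hij hjk
    ext x
    rfl
  · intro i j h
    ext x
    rfl
  · intro a
    have hfg : (Algebra.adjoin Λ ({a} : Set R)).FG := by
      have := Subalgebra.fg_adjoin_finset (R := Λ) ({a} : Finset R)
      simpa using this
    exact ⟨⟨Algebra.adjoin Λ {a}, hfg⟩,
      ⟨a, Algebra.subset_adjoin (Set.mem_singleton a)⟩, rfl⟩
  · intro i x hx
    refine ⟨i, le_rfl, ?_⟩
    have : x = 0 := Subtype.ext hx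
    rw [this, map_zero]

/-- Flatness of a base change of a finitely presented algebra descends to a finitely generated
subalgebra (from the landed milestone S4848). -/
theorem exists_fg_flat (B₀ : Type u) [CommRing B₀] [Algebra Λ B₀]
    [Algebra.FinitePresentation Λ B₀] (h : Module.Flat R (R ⊗[Λ] B₀)) :
    ∃ S : Subalgebra Λ R, S.FG ∧ Module.Flat S (S ⊗[Λ] B₀) := by
  obtain ⟨i, hi⟩ := (Groth.Agent.S4848.result (A₀ := Λ) (ι := {S : Subalgebra Λ R // S.FG})
    (fun i => (i.1 : Type u)) (fun i j h => Subalgebra.inclusion (show i.1 ≤ j.1 from h)) R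
    (isDirectedColimitRing_fg Λ R) (B₀ := B₀) B₀).mp h
  exact ⟨i.1, i.2, hi⟩

end Colim

end Groth.Agent.Lib.Helper25.HFlat
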