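import Mathlib

/-!
# A common faithfully flat local extension (helper25)
-/

set_option autoImplicit false
set_option linter.unusedSectionVars false
set_option linter.style.haveILetI false
universe u

namespace Groth.Agent.Lib.Helper25.HStage

open TensorProduct IsLocalRing

/-- Given a local homomorphism `R₀ → R` of local rings and a faithfully flat local `R₀`-algebra `P`
with `𝔪_P = 𝔪_{R₀} P`, there is a local ring `R''` which is a faithfully flat local `R`-algebra and
a `P`-algebra, compatibly over `R₀`, with `𝔪_P` mapping into `𝔪_{R''}`. -/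
theorem exists_common_local_extension (R₀ R P : Type u) [CommRing R₀] [CommRing R] [CommRing P]
    [IsLocalRing R₀] [IsLocalRing R] [IsLocalRing P]
    [Algebra R₀ R] [Algebra R₀ P] [IsLocalHom (algebraMap R₀ R)] [Module.FaithfullyFlat R₀ P]
    (hmax : maximalIdeal P = (maximalIdeal R₀).map (algebraMap R₀ P)) :
    ∃ (R'' : Type u) (_ : CommRing R'') (_ : IsLocalRing R'') (_ : Algebra R R'')
      (_ : Algebra P R'') (_ : Algebra R₀ R'')
      (_ : IsScalarTower R₀ R R'') (_ : IsScalarTower R₀ P R''),
      Module.FaithfullyFlat R R'' ∧ IsLocalHom (algebraMap R R'') ∧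
      (maximalIdeal P).map (algebraMap P R'') ≤ maximalIdeal R'' := by
  let R' := R ⊗[R₀] P
  have hne : (maximalIdeal R).map (algebraMap R R') ≠ ⊤ := by
    intro h
    have h1 := Ideal.comap_map_eq_self_of_faithfullyFlat (B := R') (maximalIdeal R)
    rw [h, Ideal.comap_top] at h1
    exact (Ideal.IsPrime.ne_top inferInstance) h1.symm
  obtain ⟨𝔫, h𝔫, hle⟩ := Ideal.exists_le_maximal _ hne
  haveI := h𝔫.isPrime
  let R'' := Localization.AtPrime 𝔫
  letI algP' : Algebra P R' := Algebra.TensorProduct.includeRight.toRingHom.toAlgebra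
  haveI tower0 : IsScalarTower R₀ P R' := by
    apply IsScalarTower.of_algebraMap_eq
    intro r
    change algebraMap R₀ R' r = (1 : R) ⊗ₜ[R₀] (algebraMap R₀ P r)
    rw [Algebra.TensorProduct.algebraMap_apply, Algebra.algebraMap_eq_smul_one r,
      Algebra.algebraMap_eq_smul_one r, TensorProduct.tmul_smul, TensorProduct.smul_tmul']
  haveI tower1 : IsScalarTower R₀ R R'' := inferInstance
  haveI tower2 : IsScalarTower R₀ P R'' := inferInstance
  have hcomap : (maximalIdeal R'').comap (algebraMap R R'') = maximalIdeal R := by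
    have h1 : (maximalIdeal R'').comap (algebraMap R' R'') = 𝔫 :=
      IsLocalization.AtPrime.comap_maximalIdeal R'' 𝔫
    have h2 : (maximalIdeal R'').comap (algebraMap R R'') = 𝔫.comap (algebraMap R R') := by
      have : (maximalIdeal R'').comap (algebraMap R R'') =
          ((maximalIdeal R'').comap (algebraMap R' R'')).comap (algebraMap R R') := by
        rw [Ideal.comap_comap, ← IsScalarTower.algebraMap_eq]
      rw [this, h1]
    rw [h2]
    have h3 : maximalIdeal R ≤ 𝔫.comap (algebraMap R R') := by
      rw [← Ideal.map_le_iff_le_comap]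
      exact hle
    have h4 : 𝔫.comap (algebraMap R R') ≠ ⊤ := (Ideal.comap_isPrime _ _).ne_top
    exact ((maximalIdeal.isMaximal R).eq_of_le h4 h3).symm
  haveI hloc : IsLocalHom (algebraMap R R'') :=
    ((IsLocalRing.local_hom_TFAE (algebraMap R R'')).out 0 4).mpr hcomap
  haveI : Module.Flat R R'' := inferInstance
  haveI hff : Module.FaithfullyFlat R R'' := Module.FaithfullyFlat.of_flat_of_isLocalHom
  refine ⟨R'', inferInstance, inferInstance, inferInstance, inferInstance, inferInstance, tower1,
    tower2, hff, hloc, ?_⟩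
  rw [hmax, Ideal.map_map, ← IsScalarTower.algebraMap_eq R₀ P R'',
    IsScalarTower.algebraMap_eq R₀ R R'', ← Ideal.map_map, Ideal.map_le_iff_le_comap, hcomap]
  have hloc₀ : IsLocalHom (algebraMap R₀ R) := inferInstance
  exact ((IsLocalRing.local_hom_TFAE (algebraMap R₀ R)).out 0 2).mp hloc₀

end Groth.Agent.Lib.Helper25.HStage
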