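import Groth.Agent.Lib.Helper25HCh
import Groth.Agent.Lib.Helper25HStageC

/-!
# Reduction of the multiplicative type criteria to killing an idempotent (helper25)
-/

set_option autoImplicit false
set_option linter.unusedSectionVars false
set_option linter.style.haveILetI false
universe u

namespace Groth.Agent.Lib.Helper25.HKill

open TensorProduct SGA3b Groth.Agent.Lib.Helper25 Groth.Agent.Lib.Helper25.HC BCB IsLocalRing

section Ker

variable {A : Type u} [CommRing A] {P : Type u} [CommRing P] [Algebra A P]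
  {C : Type u} [CommRing C]

theorem ker_map_mk' [Algebra A C] (𝔞 : Ideal C) :
    RingHom.ker (Algebra.TensorProduct.map (AlgHom.id A P) (Ideal.Quotient.mkₐ A 𝔞)) =
      extIdeal A P 𝔞 := by
  have hkq : RingHom.ker (Ideal.Quotient.mkₐ A 𝔞) = 𝔞 := by
    ext x
    rw [RingHom.mem_ker]
    exact Ideal.Quotient.eq_zero_iff_mem
  rw [Algebra.TensorProduct.lTensor_ker _ (Ideal.Quotient.mkₐ_surjective A _), hkq]
  rfl

theorem bcMk_eq_zero_iff' [HopfAlgebra A C] (𝔞 : Ideal C) [𝔞.IsHopfIdeal A] (z : P ⊗[A] C) :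
    TorsQuot.bcMk (S := P) 𝔞 z = 0 ↔ z ∈ extIdeal A P 𝔞 := by
  have h0 : TorsQuot.bcMk (S := P) 𝔞 z = Algebra.TensorProduct.map (AlgHom.id A P)
      (Ideal.Quotient.mkₐ A 𝔞) z := by
    induction z using TensorProduct.induction_on with
    | zero => simp
    | add x y hx hy => rw [map_add, map_add, hx, hy]
    | tmul p x => rfl
  rw [h0, ← ker_map_mk' (A := A) (P := P) 𝔞, RingHom.mem_ker]

theorem extIdeal_span_singleton [Algebra A C] (e : C) :
    extIdeal A P (Ideal.span ({e} : Set C)) = Ideal.span ({(1 : P) ⊗ₜ[A] e} : Set (P ⊗[A] C)) := by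
  unfold extIdeal
  rw [Ideal.map_span, Set.image_singleton]
  rfl

theorem bcMk_span_eq_zero_iff [HopfAlgebra A C] (e : C) [(Ideal.span ({e} : Set C)).IsHopfIdeal A]
    (z : P ⊗[A] C) :
    TorsQuot.bcMk (S := P) (Ideal.span ({e} : Set C)) z = 0 ↔
      z ∈ Ideal.span ({(1 : P) ⊗ₜ[A] e} : Set (P ⊗[A] C)) := by
  rw [bcMk_eq_zero_iff', extIdeal_span_singleton]

end Ker

section Q

variable {T : Type u} [CommRing T] {X Z : Type u} [CommRing X] [CommRing Z]
  [HopfAlgebra T X] [HopfAlgebra T Z]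

/-- The kernel of a surjective bialgebra map, if principal, is a Hopf ideal. -/
theorem isHopfIdeal_span_of_ker (F : X →ₐc[T] Z) (hF : Function.Surjective F) (x : X)
    (hker : ∀ y, F y = 0 ↔ y ∈ Ideal.span ({x} : Set X)) :
    (Ideal.span ({x} : Set X)).IsHopfIdeal T := by
  have h1 : RingHom.ker (F : X →+* Z) = Ideal.span ({x} : Set X) := by
    ext y
    rw [RingHom.mem_ker]
    exact hker y
  rw [← h1]
  exact isHopfIdeal_ker F hF

/-- First isomorphism theorem for a surjective bialgebra map with principal kernel. -/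
theorem nonempty_quotEquiv_of_ker (F : X →ₐc[T] Z) (hF : Function.Surjective F) (x : X)
    (hker : ∀ y, F y = 0 ↔ y ∈ Ideal.span ({x} : Set X))
    [(Ideal.span ({x} : Set X)).IsHopfIdeal T] :
    Nonempty ((X ⧸ Ideal.span ({x} : Set X)) ≃ₐc[T] Z) := by
  obtain ⟨Ψ, hΨ⟩ := exists_bialgHom_factor
    (Bialgebra.Quotient.mkBialgHom (R := T) (Ideal.span ({x} : Set X))) F
    Ideal.Quotient.mk_surjective
    (fun y hy => (hker y).mpr (Ideal.Quotient.eq_zero_iff_mem.mp hy))
  have hbij : Function.Bijective Ψ := by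
    constructor
    · rw [injective_iff_map_eq_zero]
      intro q hq
      obtain ⟨y, rfl⟩ := Ideal.Quotient.mk_surjective q
      have h1 : Ψ (Bialgebra.Quotient.mkBialgHom (R := T) (Ideal.span ({x} : Set X)) y) = 0 := hq
      rw [hΨ] at h1
      exact Ideal.Quotient.eq_zero_iff_mem.mpr ((hker y).mp h1)
    · intro z
      obtain ⟨y, rfl⟩ := hF z
      exact ⟨Bialgebra.Quotient.mkBialgHom (R := T) (Ideal.span ({x} : Set X)) y, hΨ y⟩
  exact ⟨BialgEquiv.ofBijective Ψ hbij⟩

end Q

section ClosedFibre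

variable (R : Type u) [CommRing R] [IsLocalRing R] (C : Type u) [CommRing C] [HopfAlgebra R C]
  (R₀ : Type u) [CommRing R₀] [IsLocalRing R₀] [Algebra R₀ R] [IsLocalHom (algebraMap R₀ R)]
  (C₀ : Type u) [CommRing C₀] [HopfAlgebra R₀ C₀]

/-- The closed fibre of a model is of multiplicative type if that of its base change is. -/
theorem isMultType_closedFibre_of_model (iso₀ : R ⊗[R₀] C₀ ≃ₐc[R] C)
    (hs : IsMultType (ResidueField R) (ResidueField R ⊗[R] C)) :
    IsMultType (ResidueField R₀) (ResidueField R₀ ⊗[R₀] C₀) := by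
  let k₀ := ResidueField R₀
  let k := ResidueField R
  haveI : IsScalarTower R₀ k₀ k := inferInstance
  haveI : IsScalarTower R₀ R k := inferInstance
  have h1 : IsMultType k (k ⊗[k₀] (k₀ ⊗[R₀] C₀)) :=
    isMultType_of_equiv ((cancelBC R₀ k₀ k C₀).trans
      ((cancelBC R₀ R k C₀).symm.trans (bcEquiv k iso₀))) hs
  exact isMultType_of_baseChange_local k h1

end ClosedFibre

end Groth.Agent.Lib.Helper25.HKill
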