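import Groth.Agent.Lib.Helper25HStageA

/-!
# A model over a Noetherian local ring (helper25)
-/

set_option autoImplicit false
set_option linter.unusedSectionVars false
set_option linter.style.haveILetI false
universe u

namespace Groth.Agent.Lib.Helper25.HStage

open TensorProduct Groth.Agent.Lib.Helper25.HDesc Groth.Agent.Lib.Helper25.HFlat BCB IsLocalRing

section T7

variable (R₀ : Type u) [CommRing R₀] [IsLocalRing R₀] (R : Type u) [CommRing R] [IsLocalRing R]
  [Algebra R₀ R] [IsLocalHom (algebraMap R₀ R)] (C₀ : Type u) [CommRing C₀] [Algebra R₀ C₀]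

/-- An element of `C₀` whose image in `R ⊗ C₀` lies in `𝔪_R (R ⊗ C₀)` lies in `𝔪_{R₀} C₀`, for a
local homomorphism `R₀ → R`. -/
theorem mem_map_maximalIdeal_of_one_tmul_mem (x : C₀)
    (h : (1 : R) ⊗ₜ[R₀] x ∈ (maximalIdeal R).map (algebraMap R (R ⊗[R₀] C₀))) :
    x ∈ (maximalIdeal R₀).map (algebraMap R₀ C₀) := by
  let k₀ := ResidueField R₀
  let k := ResidueField R
  haveI : IsScalarTower R₀ k₀ k := inferInstance
  have h1 : (1 : k) ⊗ₜ[R] ((1 : R) ⊗ₜ[R₀] x) = 0 := by
    apply (NilGL.one_tmul_eq_zero_iff (maximalIdeal R) _).mpr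
    rw [Ideal.smul_top_eq_map]
    exact h
  have h2 : (1 : k) ⊗ₜ[R₀] x = 0 := by
    have := congrArg (AlgebraTensorModule.cancelBaseChange R₀ R k k C₀) h1
    simpa using this
  have h3 : (1 : k) ⊗ₜ[k₀] ((1 : k₀) ⊗ₜ[R₀] x) = 0 := by
    have := congrArg (AlgebraTensorModule.cancelBaseChange R₀ k₀ k k C₀).symm h2
    simpa using this
  have h4 : (1 : k₀) ⊗ₜ[R₀] x = 0 := (Module.FaithfullyFlat.one_tmul_eq_zero_iff k₀ _ _).mp h3
  have h5 := (NilGL.one_tmul_eq_zero_iff (maximalIdeal R₀) x).mp h4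
  rw [Ideal.smul_top_eq_map] at h5
  exact h5

end T7

section Local

theorem mem_map_of_algEquiv {R : Type u} [CommRing R] {X Y : Type u} [CommRing X] [CommRing Y]
    [Algebra R X] [Algebra R Y] (φ : X ≃ₐ[R] Y) (I : Ideal R) {y : X}
    (h : φ y ∈ I.map (algebraMap R Y)) : y ∈ I.map (algebraMap R X) := by
  have h1 := Ideal.mem_map_of_mem (φ.symm : Y →+* X) h
  rw [Ideal.map_map] at h1
  have h2 : ((φ.symm : Y →+* X)).comp (algebraMap R Y) = algebraMap R X := by
    ext r
    exact φ.symm.commutes r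
  rw [h2] at h1
  simpa using h1

/-- **A model over a Noetherian local ring.** A finitely presented Hopf algebra over a local ring
`R`, flat at the points of the closed fibre, is the base change of a Hopf algebra of finite type
over a Noetherian local ring `R₀` with a local homomorphism `R₀ → R`, again flat at the points of
the closed fibre. -/
theorem exists_local_model (R : Type u) [CommRing R] [IsLocalRing R] (C : Type u) [CommRing C]
    [HopfAlgebra R C] (hfp : Algebra.FinitePresentation R C)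
    (hfl : ∀ (q : Ideal C) [q.IsPrime], (maximalIdeal R).map (algebraMap R C) ≤ q →
      Module.Flat R (Localization.AtPrime q)) :
    ∃ (R₀ : Type u) (_ : CommRing R₀) (_ : IsLocalRing R₀) (_ : IsNoetherianRing R₀)
      (_ : Algebra R₀ R) (_ : IsLocalHom (algebraMap R₀ R))
      (C₀ : Type u) (_ : CommRing C₀) (_ : HopfAlgebra R₀ C₀),
      Algebra.FiniteType R₀ C₀ ∧ (Coalgebra.IsCocomm R C → Coalgebra.IsCocomm R₀ C₀) ∧
      Nonempty (R ⊗[R₀] C₀ ≃ₐc[R] C) ∧
      (∀ (q : Ideal C₀) [q.IsPrime], (maximalIdeal R₀).map (algebraMap R₀ C₀) ≤ q →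
        Module.Flat R₀ (Localization.AtPrime q)) := by
  obtain ⟨Λ, _, _, hΛ, H, _, _, g, iso, hfpH, hcc, hg, hflat⟩ :=
    exists_flat_model R C (maximalIdeal R) hfp hfl
  haveI := hfpH
  let p : Ideal Λ := (maximalIdeal R).comap (algebraMap Λ R)
  haveI hp : p.IsPrime := Ideal.comap_isPrime _ _
  let R₀ := Localization.AtPrime p
  have hunit : ∀ y : p.primeCompl, IsUnit (algebraMap Λ R y) := by
    intro y
    have : algebraMap Λ R y ∉ maximalIdeal R := fun h => y.2 h
    exact (IsLocalRing.notMem_maximalIdeal).mp this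
  letI : Algebra R₀ R := (IsLocalization.lift hunit).toAlgebra
  haveI : IsScalarTower Λ R₀ R :=
    IsScalarTower.of_algebraMap_eq (fun x => (IsLocalization.lift_eq hunit x).symm)
  haveI : IsLocalHom (algebraMap R₀ R) := by
    constructor
    intro x hx
    obtain ⟨a, s, rfl⟩ := IsLocalization.exists_mk'_eq p.primeCompl x
    rw [IsLocalization.AtPrime.isUnit_mk'_iff R₀ p]
    change a ∉ p
    intro hap
    have h1 : algebraMap R₀ R (IsLocalization.mk' R₀ a s) * algebraMap Λ R s = algebraMap Λ R a := by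
      rw [IsScalarTower.algebraMap_apply Λ R₀ R s, IsScalarTower.algebraMap_apply Λ R₀ R a,
        ← map_mul, IsLocalization.mk'_spec]
    have h2 : IsUnit (algebraMap Λ R a) := by
      rw [← h1]
      exact hx.mul (hunit s)
    exact (IsLocalRing.notMem_maximalIdeal.mpr h2) hap
  haveI : IsNoetherianRing Λ := Algebra.FiniteType.isNoetherianRing ℤ Λ
  haveI : IsNoetherianRing R₀ := IsLocalization.isNoetherianRing p.primeCompl R₀ inferInstance
  let g₀ : R₀ ⊗[Λ] H := (1 : R₀) ⊗ₜ[Λ] g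
  let iso₀ : R ⊗[R₀] (R₀ ⊗[Λ] H) ≃ₐc[R] C := stepIso Λ R₀ R H C iso
  have hflat₀ : Module.Flat R₀ (Localization.Away g₀) := flat_away_baseChange Λ R₀ H g hflat
  have hg₀ : g₀ - 1 ∈ (maximalIdeal R₀).map (algebraMap R₀ (R₀ ⊗[Λ] H)) := by
    apply mem_map_maximalIdeal_of_one_tmul_mem R₀ R
    apply mem_map_of_algEquiv (iso₀ : R ⊗[R₀] (R₀ ⊗[Λ] H) ≃ₐ[R] C)
    have : (iso₀ : R ⊗[R₀] (R₀ ⊗[Λ] H) ≃ₐ[R] C) ((1 : R) ⊗ₜ[R₀] (g₀ - 1)) =
        iso ((1 : R) ⊗ₜ[Λ] g) - 1 := by
      rw [TensorProduct.tmul_sub, map_sub]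
      congr 1
      · exact stepIso_one_tmul_one_tmul Λ R₀ R H C iso g
      · exact map_one iso₀
    rw [this]
    exact hg
  refine ⟨R₀, inferInstance, inferInstance, inferInstance, inferInstance, inferInstance,
    R₀ ⊗[Λ] H, inferInstance, inferInstance, inferInstance, ?_, ⟨iso₀⟩, ?_⟩
  · intro hc
    haveI := hcc hc
    infer_instance
  · intro q _ hq
    exact flat_atPrime_of_exists (maximalIdeal R₀) g₀ hg₀ hflat₀ q hq

end Local

end Groth.Agent.Lib.Helper25.HStage
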