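import Groth.Agent.Lib.Helper25HKillA
import Groth.Agent.Lib.Helper25HStageB

/-!
# Reduction of the multiplicative type criteria to killing an idempotent: the core (helper25)
-/

set_option autoImplicit false
set_option linter.unusedSectionVars false
set_option linter.style.haveILetI false
universe u

namespace Groth.Agent.Lib.Helper25.HKill

open TensorProduct SGA3b Groth.Agent.Lib.Helper25 Groth.Agent.Lib.Helper25.HC BCB IsLocalRing
  Groth.Agent.Lib.Helper25.HStage

section Aux

theorem one_tmul_mem_map_map {A : Type u} [CommRing A] (P : Type u) [CommRing P] [Algebra A P]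
    {C : Type u} [CommRing C] [Algebra A C] (I : Ideal A) {y : C}
    (hy : y ∈ I.map (algebraMap A C)) :
    (1 : P) ⊗ₜ[A] y ∈ (I.map (algebraMap A P)).map (algebraMap P (P ⊗[A] C)) := by
  have h1 := Ideal.mem_map_of_mem
    (Algebra.TensorProduct.includeRight : C →ₐ[A] P ⊗[A] C).toRingHom hy
  rw [Ideal.map_map] at h1
  rw [Ideal.map_map]
  have h2 : (Algebra.TensorProduct.includeRight : C →ₐ[A] P ⊗[A] C).toRingHom.comp
      (algebraMap A C) = (algebraMap P (P ⊗[A] C)).comp (algebraMap A P) := by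
    ext a
    change (1 : P) ⊗ₜ[A] (algebraMap A C a) = (algebraMap A P a) ⊗ₜ[A] (1 : C)
    rw [Algebra.algebraMap_eq_smul_one, Algebra.algebraMap_eq_smul_one, TensorProduct.tmul_smul,
      TensorProduct.smul_tmul']
  rw [h2] at h1
  exact h1

end Aux

section Compl

variable (A : Type u) [CommRing A] [IsNoetherianRing A] [IsLocalRing A]

theorem isNoetherianRing_completion : IsNoetherianRing (AdicCompletion (maximalIdeal A) A) :=
  Groth.Agent.S0543.result A _

theorem flat_completion : Module.Flat A (AdicCompletion (maximalIdeal A) A) :=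
  AdicCompletion.flat_of_isNoetherian (maximalIdeal A)

theorem faithfullyFlat_completion : Module.FaithfullyFlat A (AdicCompletion (maximalIdeal A) A) :=
  haveI := flat_completion A
  Module.FaithfullyFlat.of_flat_of_isLocalHom

end Compl

section Inner

/-- The inner step: an open subgroup of multiplicative type `Ĉ/(e')` over `P`, base changed to
`R''` and transported to `X`, is killed, so that `X` is of multiplicative type. -/
theorem isMultType_of_kills_inner (P : Type u) [CommRing P] (R'' : Type u) [CommRing R'']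
    [IsLocalRing R''] [Algebra P R''] (Ĉ : Type u) [CommRing Ĉ] [HopfAlgebra P Ĉ] (e' : Ĉ)
    (he' : IsIdempotentElem e') [(Ideal.span ({e'} : Set Ĉ)).IsHopfIdeal P]
    (hG : IsMultType P (Ĉ ⧸ Ideal.span ({e'} : Set Ĉ)))
    (I : Ideal P) (hI : I.map (algebraMap P R'') ≤ maximalIdeal R'')
    (he'm : e' ∈ I.map (algebraMap P Ĉ))
    (X : Type u) [CommRing X] [HopfAlgebra R'' X] (Φ : R'' ⊗[P] Ĉ ≃ₐc[R''] X)
    (hkillX : ∀ e : X, IsIdempotentElem e → e ∈ (maximalIdeal R'').map (algebraMap R'' X) →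
      ∀ [(Ideal.span ({e} : Set X)).IsHopfIdeal R''],
        IsMultType R'' (X ⧸ Ideal.span ({e} : Set X)) → e = 0) :
    IsMultType R'' X := by
  let F : R'' ⊗[P] Ĉ →ₐc[R''] R'' ⊗[P] (Ĉ ⧸ Ideal.span ({e'} : Set Ĉ)) :=
    TorsQuot.bcMk (S := R'') (Ideal.span ({e'} : Set Ĉ))
  have hFs : Function.Surjective F := TorsQuot.bcMk_surjective _
  have hFker : ∀ z, F z = 0 ↔
      z ∈ Ideal.span ({(1 : R'') ⊗ₜ[P] e'} : Set (R'' ⊗[P] Ĉ)) :=
    bcMk_span_eq_zero_iff e'
  have hGR'' : IsMultType R'' (R'' ⊗[P] (Ĉ ⧸ Ideal.span ({e'} : Set Ĉ))) :=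
    EtNil.isMultType_baseChange P _ R'' hG
  let e₂ : X := Φ ((1 : R'') ⊗ₜ[P] e')
  let F' : X →ₐc[R''] R'' ⊗[P] (Ĉ ⧸ Ideal.span ({e'} : Set Ĉ)) :=
    F.comp (Φ.symm : X →ₐc[R''] R'' ⊗[P] Ĉ)
  have hF's : Function.Surjective F' := hFs.comp Φ.symm.surjective
  have hF'ker : ∀ y, F' y = 0 ↔ y ∈ Ideal.span ({e₂} : Set X) := by
    intro y
    change F (Φ.symm y) = 0 ↔ _
    rw [hFker, Ideal.mem_span_singleton', Ideal.mem_span_singleton']
    constructor
    · rintro ⟨a, ha⟩
      refine ⟨Φ a, ?_⟩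
      change Φ a * Φ ((1 : R'') ⊗ₜ[P] e') = y
      rw [← map_mul, ha, Φ.apply_symm_apply]
    · rintro ⟨a, ha⟩
      refine ⟨Φ.symm a, ?_⟩
      apply Φ.injective
      change Φ (Φ.symm a * (1 : R'') ⊗ₜ[P] e') = Φ (Φ.symm y)
      rw [map_mul, Φ.apply_symm_apply, Φ.apply_symm_apply]
      exact ha
  haveI : (Ideal.span ({e₂} : Set X)).IsHopfIdeal R'' :=
    isHopfIdeal_span_of_ker F' hF's e₂ hF'ker
  obtain ⟨ψ⟩ := nonempty_quotEquiv_of_ker F' hF's e₂ hF'ker
  have hidem : IsIdempotentElem e₂ := by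
    have h1 : IsIdempotentElem ((1 : R'') ⊗ₜ[P] e') := by
      change (1 : R'') ⊗ₜ[P] e' * (1 : R'') ⊗ₜ[P] e' = _
      rw [Algebra.TensorProduct.tmul_mul_tmul, mul_one, he'.eq]
    exact h1.map Φ
  have hmem : e₂ ∈ (maximalIdeal R'').map (algebraMap R'' X) := by
    apply mem_map_of_algEquiv (Φ.symm : X ≃ₐ[R''] R'' ⊗[P] Ĉ)
    change Φ.symm (Φ ((1 : R'') ⊗ₜ[P] e')) ∈ _
    rw [Φ.symm_apply_apply]
    exact Ideal.map_mono hI (one_tmul_mem_map_map R'' I he'm)
  have h0 : e₂ = 0 := hkillX e₂ hidem hmem (isMultType_of_equiv ψ hGR'')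
  have h0' : (1 : R'') ⊗ₜ[P] e' = 0 := Φ.injective (h0.trans (map_zero Φ).symm)
  have hFbij : Function.Bijective F := by
    refine ⟨?_, hFs⟩
    rw [injective_iff_map_eq_zero]
    intro z hz
    have h1 := (hFker z).mp hz
    rw [h0', Ideal.mem_span_singleton'] at h1
    obtain ⟨a, ha⟩ := h1
    rw [← ha, mul_zero]
  have h1 : IsMultType R'' (R'' ⊗[P] Ĉ) :=
    isMultType_of_equiv (BialgEquiv.ofBijective F hFbij) hGR''
  exact isMultType_of_equiv Φ.symm h1

end Inner

section Core

variable (R : Type u) [CommRing R] [IsLocalRing R] (C : Type u) [CommRing C] [HopfAlgebra R C]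

/-- Over every faithfully flat local extension of `R`, an open and closed subgroup of
multiplicative type of the base change of `C`, given by an idempotent vanishing on the closed fibre,
is everything. -/
def KillsOpenSubgroups : Prop :=
  ∀ (R'' : Type u) [CommRing R''] [IsLocalRing R''] [Algebra R R''] [Module.FaithfullyFlat R R'']
    [IsLocalHom (algebraMap R R'')] (e : R'' ⊗[R] C), IsIdempotentElem e →
    e ∈ (maximalIdeal R'').map (algebraMap R'' (R'' ⊗[R] C)) →
    ∀ [(Ideal.span ({e} : Set (R'' ⊗[R] C))).IsHopfIdeal R''],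
      IsMultType R'' ((R'' ⊗[R] C) ⧸ Ideal.span ({e} : Set (R'' ⊗[R] C))) → e = 0

variable (R₀ : Type u) [CommRing R₀] [IsLocalRing R₀] [IsNoetherianRing R₀] [Algebra R₀ R]
  [IsLocalHom (algebraMap R₀ R)] (C₀ : Type u) [CommRing C₀] [HopfAlgebra R₀ C₀]

theorem isMultType_of_killsOpenSubgroups_of_model (hkill : KillsOpenSubgroups R C)
    (hs : IsMultType (ResidueField R) (ResidueField R ⊗[R] C))
    (hft : Algebra.FiniteType R₀ C₀) (iso₀ : R ⊗[R₀] C₀ ≃ₐc[R] C)
    (hfl₀ : ∀ (q : Ideal C₀) [q.IsPrime], (maximalIdeal R₀).map (algebraMap R₀ C₀) ≤ q →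
      Module.Flat R₀ (Localization.AtPrime q)) : IsMultType R C := by
  have hs₀ := isMultType_closedFibre_of_model R C R₀ C₀ iso₀ hs
  let P := AdicCompletion (maximalIdeal R₀) R₀
  haveI : IsNoetherianRing P := isNoetherianRing_completion R₀
  haveI : Module.FaithfullyFlat R₀ P := faithfullyFlat_completion R₀
  have hmax : maximalIdeal P = (maximalIdeal R₀).map (algebraMap R₀ P) :=
    AdicCompletion.maximalIdeal_eq_map
  obtain ⟨e', he', he'm, hHopf, hiso⟩ := exists_open_subgroup R₀ P hmax C₀ hft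
    (levelFlat_of_local_flat R₀ (maximalIdeal R₀) C₀ hfl₀) hs₀
  haveI := hHopf
  have hG : IsMultType P ((P ⊗[R₀] C₀) ⧸ Ideal.span ({e'} : Set (P ⊗[R₀] C₀))) :=
    isMultType_of_isIsotrivial hiso
  obtain ⟨R'', _, _, _, _, _, _, _, hff, hloc, hmP⟩ := exists_common_local_extension R₀ R P hmax
  haveI := hff
  haveI := hloc
  let Φ : R'' ⊗[P] (P ⊗[R₀] C₀) ≃ₐc[R''] R'' ⊗[R] C :=
    (cancelBC R₀ P R'' C₀).trans ((cancelBC R₀ R R'' C₀).symm.trans (bcEquiv R'' iso₀))
  have h2 : IsMultType R'' (R'' ⊗[R] C) :=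
    isMultType_of_kills_inner P R'' (P ⊗[R₀] C₀) e' he' hG (maximalIdeal P) hmP he'm
      (R'' ⊗[R] C) Φ (fun e he hm _ hq => hkill R'' e he hm hq)
  exact isMultType_of_baseChange_local R'' h2

/-- **Core reduction.** For a finitely presented Hopf algebra over a local ring, flat at the points
of the closed fibre and with closed fibre of multiplicative type: if open subgroups of
multiplicative type are killed, it is of multiplicative type. -/
theorem isMultType_of_killsOpenSubgroups (hkill : KillsOpenSubgroups R C)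
    (hfp : Algebra.FinitePresentation R C)
    (hfl : ∀ (q : Ideal C) [q.IsPrime], (maximalIdeal R).map (algebraMap R C) ≤ q →
      Module.Flat R (Localization.AtPrime q))
    (hs : IsMultType (ResidueField R) (ResidueField R ⊗[R] C)) : IsMultType R C := by
  obtain ⟨R₀, _, _, _, _, _, C₀, _, _, hft, -, ⟨iso₀⟩, hfl₀⟩ := exists_local_model R C hfp hfl
  exact isMultType_of_killsOpenSubgroups_of_model R C R₀ C₀ hkill hs hft iso₀ hfl₀

end Core

end Groth.Agent.Lib.Helper25.HKill
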