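import Mathlib
import Groth.Prelude.Def_SGA3b
import Groth.Agent.Lib.Helper25Torsion
import Groth.Agent.Lib.Helper25TorsQuot
import Groth.Agent.Lib.Helper25MultBC
import Groth.Agent.Lib.Helper25TorsDense10

/-!
# Density of the torsion in a commutative group over a field with an open subgroup of
multiplicative type (helper25)
-/

set_option autoImplicit false
set_option linter.style.haveILetI false
set_option linter.unusedSectionVars false
universe u

namespace Groth.Agent.Lib.Helper25.TorsDense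

open Groth.Agent.Lib.Helper25.Tors Groth.Agent.Lib.Helper25.TorsQuot SGA3b Coalgebra TensorProduct WithConv

section FinalOpen

variable {R : Type u} [CommRing R] {A : Type u} [CommRing A] [HopfAlgebra R A]

/-- From the elementwise form of density to the localised form. -/
theorem iInf_map_eq_bot_of_dense
    (h : ∀ a y : A, (∀ n : ℕ, 0 < n → ∃ k : ℕ, a ^ k * y ∈ torsionIdeal R A n) →
      ∃ k : ℕ, a ^ k * y = 0) (a : A) :
    ⨅ n : {n : ℕ // 0 < n},
      Ideal.map (algebraMap A (Localization.Away a)) (torsionIdeal R A n.1) = ⊥ := by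
  rw [eq_bot_iff]
  intro x hx
  rw [Ideal.mem_bot]
  obtain ⟨y, ⟨_, j, rfl⟩, rfl⟩ := IsLocalization.exists_mk'_eq (Submonoid.powers a) x
  have hy : ∀ n : ℕ, 0 < n → algebraMap A (Localization.Away a) y ∈
      Ideal.map (algebraMap A (Localization.Away a)) (torsionIdeal R A n) := by
    intro n hn
    have h1 := Ideal.mem_iInf.mp hx ⟨n, hn⟩
    have h2 := Ideal.mul_mem_right (algebraMap A (Localization.Away a) (a ^ j)) _ h1
    rwa [IsLocalization.mk'_spec] at h2
  have hyp : ∀ n : ℕ, 0 < n → ∃ k : ℕ, a ^ k * y ∈ torsionIdeal R A n := by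
    intro n hn
    obtain ⟨⟨i, ⟨_, k, rfl⟩⟩, hik⟩ :=
      (IsLocalization.mem_map_algebraMap_iff (Submonoid.powers a) _).mp (hy n hn)
    have h3 : algebraMap A (Localization.Away a) (y * a ^ k) =
        algebraMap A (Localization.Away a) i := by
      rw [map_mul]
      exact hik
    obtain ⟨⟨_, k', rfl⟩, hk'⟩ := (IsLocalization.eq_iff_exists (Submonoid.powers a) _).mp h3
    refine ⟨k' + k, ?_⟩
    have h4 : a ^ (k' + k) * y = a ^ k' * i := by
      rw [pow_add, ← hk']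
      ring
    rw [h4]
    exact Ideal.mul_mem_left _ _ i.2
  obtain ⟨k, hk⟩ := h a y hyp
  rw [IsLocalization.mk'_eq_zero_iff]
  exact ⟨⟨a ^ k, k, rfl⟩, hk⟩

end FinalOpen

section Open

variable (k : Type u) [Field k] (C : Type u) [CommRing C] [HopfAlgebra k C] [IsCocomm k C]

theorem dense_of_open_multType (hft : Algebra.FiniteType k C) (e : C) (he : IsIdempotentElem e)
    [(Ideal.span {e}).IsHopfIdeal k] (hG : IsMultType k (C ⧸ Ideal.span {e})) (a y : C)
    (hyp : ∀ n : ℕ, 0 < n → ∃ j : ℕ, a ^ j * y ∈ torsionIdeal k C n) :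
    ∃ j : ℕ, a ^ j * y = 0 := by
  haveI := hft
  obtain ⟨K, _, _, hK⟩ := Groth.Agent.Lib.Helper25.BCB.exists_field_isDiag k _
    (Groth.Agent.Lib.Helper25.BCB.isMultTypeConst_of_isMultType k _ hG)
  obtain ⟨M, _, ⟨ε₁⟩⟩ := Groth.Agent.Lib.Helper25.BCB.isDiag_baseChange_of_tower k
    (C ⧸ Ideal.span {e}) K (AlgebraicClosure K) hK
  let Ω := AlgebraicClosure K
  let φ : Ω ⊗[k] C →ₐc[Ω] MonoidAlgebra Ω M :=
    (ε₁ : Ω ⊗[k] (C ⧸ Ideal.span {e}) →ₐc[Ω] MonoidAlgebra Ω M).comp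
      (bcMk (S := Ω) (Ideal.span {e}))
  have hφ : Function.Surjective φ := ε₁.surjective.comp (bcMk_surjective (S := Ω) _)
  have hker : RingHom.ker (φ : Ω ⊗[k] C →+* MonoidAlgebra Ω M) =
      Ideal.span {(1 : Ω) ⊗ₜ[k] e} := by
    have h1 : RingHom.ker (φ : Ω ⊗[k] C →+* MonoidAlgebra Ω M) =
        RingHom.ker (Algebra.TensorProduct.map (AlgHom.id k Ω)
          (Ideal.Quotient.mkₐ k (Ideal.span {e}))) := by
      ext x
      rw [RingHom.mem_ker, RingHom.mem_ker]
      change ε₁ (bcMk (S := Ω) (Ideal.span {e}) x) = 0 ↔ _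
      rw [EmbeddingLike.map_eq_zero_iff]
      rfl
    have h2 : RingHom.ker (Ideal.Quotient.mkₐ k (Ideal.span {e})) = Ideal.span {e} := by
      ext x
      rw [RingHom.mem_ker, Ideal.Quotient.mkₐ_eq_mk, Ideal.Quotient.eq_zero_iff_mem]
    rw [h1, Algebra.TensorProduct.lTensor_ker _ (Ideal.Quotient.mkₐ_surjective k _), h2,
      Ideal.map_span, Set.image_singleton]
    rfl
  have hpow : ∀ j : ℕ, ((1 : Ω) ⊗ₜ[k] a) ^ j * ((1 : Ω) ⊗ₜ[k] y) = (1 : Ω) ⊗ₜ[k] (a ^ j * y) := by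
    intro j
    rw [Algebra.TensorProduct.tmul_pow, one_pow, Algebra.TensorProduct.tmul_mul_tmul, one_mul]
  have hide : IsIdempotentElem ((1 : Ω) ⊗ₜ[k] e) := by
    change ((1 : Ω) ⊗ₜ[k] e) * ((1 : Ω) ⊗ₜ[k] e) = _
    rw [Algebra.TensorProduct.tmul_mul_tmul, one_mul, he.eq]
  obtain ⟨j, hj⟩ := core_field φ hφ hide hker ((1 : Ω) ⊗ₜ[k] a) ((1 : Ω) ⊗ₜ[k] y) (fun n hn => by
    obtain ⟨j, hj⟩ := hyp n hn
    refine ⟨j, ?_⟩
    rw [hpow]
    exact one_tmul_mem_torsionIdeal Ω n hj)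
  refine ⟨j, ?_⟩
  rw [hpow] at hj
  apply Module.FaithfullyFlat.tensorProduct_mk_injective (A := k) (B := Ω) C
  rw [map_zero]
  exact hj

end Open

end Groth.Agent.Lib.Helper25.TorsDense
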