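import Groth.Agent.Lib.Helper25HKillB
import Groth.Agent.Lib.Helper25TorsDense11

/-!
# Killing open subgroups: the case of finite torsion kernels (helper25)
-/

set_option autoImplicit false
set_option linter.unusedSectionVars false
set_option linter.style.haveILetI false
universe u

namespace Groth.Agent.Lib.Helper25.HKill

open TensorProduct SGA3b Groth.Agent.Lib.Helper25 Groth.Agent.Lib.Helper25.HC BCB IsLocalRing
  Groth.Agent.Lib.Helper25.HStage

section FibNil

/-- An idempotent vanishing on all fibres is zero. -/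
theorem eq_zero_of_idem_of_fibres (T : Type u) [CommRing T] (X : Type u) [CommRing X]
    [Algebra T X] (e : X) (he : IsIdempotentElem e)
    (h : ∀ (p : Ideal T) [p.IsPrime], (1 : p.ResidueField) ⊗ₜ[T] e = 0) : e = 0 := by
  have hnil : IsNilpotent e := by
    rw [← mem_nilradical, nilradical_eq_sInf, Ideal.mem_sInf]
    intro Q hQ
    haveI : Q.IsPrime := hQ
    let p : Ideal T := Q.comap (algebraMap T X)
    haveI : p.IsPrime := Ideal.comap_isPrime _ _
    let ι : p.ResidueField →ₐ[T] Q.ResidueField :=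
      Ideal.ResidueField.mapₐ p Q (Algebra.ofId T X) rfl
    let μ : p.ResidueField ⊗[T] X →ₐ[T] Q.ResidueField :=
      Algebra.TensorProduct.productMap ι (IsScalarTower.toAlgHom T X Q.ResidueField)
    have h1 : μ ((1 : p.ResidueField) ⊗ₜ[T] e) = algebraMap X Q.ResidueField e := by
      simp [μ]
    rw [h p, map_zero] at h1
    exact Ideal.algebraMap_residueField_eq_zero.mp h1.symm
  obtain ⟨n, hn⟩ := hnil
  rcases Nat.eq_zero_or_pos n with rfl | hpos
  · have : (1 : X) = 0 := by simpa using hn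
    rw [← mul_one e, this, mul_zero]
  · rw [← he.pow_succ_eq (n - 1), Nat.sub_add_cancel hpos]
    exact hn

end FibNil

section Finite

variable (R : Type u) [CommRing R] (R'' : Type u) [CommRing R''] [Algebra R R'']
  (C : Type u) [CommRing C] [HopfAlgebra R C]

/-- Finiteness of the torsion quotients is stable under base change. -/
theorem finite_torsion_baseChange (n : ℕ) (h : Module.Finite R (C ⧸ torsionIdeal R C n)) :
    Module.Finite R'' ((R'' ⊗[R] C) ⧸ torsionIdeal R'' (R'' ⊗[R] C) n) := by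
  let J := torsionIdeal R C n
  let J' := torsionIdeal R'' (R'' ⊗[R] C) n
  let φ₀ : C ⧸ J →ₐ[R] (R'' ⊗[R] C) ⧸ J' :=
    Ideal.Quotient.liftₐ J
      (((Ideal.Quotient.mkₐ R'' J').restrictScalars R).comp
        (Algebra.TensorProduct.includeRight : C →ₐ[R] R'' ⊗[R] C))
      (fun a ha => by
        change Ideal.Quotient.mk J' ((1 : R'') ⊗ₜ[R] a) = 0
        exact Ideal.Quotient.eq_zero_iff_mem.mpr (Tors.one_tmul_mem_torsionIdeal R'' n ha))
  let φ : R'' ⊗[R] (C ⧸ J) →ₐ[R''] (R'' ⊗[R] C) ⧸ J' :=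
    Algebra.TensorProduct.lift (Algebra.ofId R'' _) φ₀ (fun _ _ => Commute.all _ _)
  have hφ : Function.Surjective φ := by
    intro y
    obtain ⟨x, rfl⟩ := Ideal.Quotient.mk_surjective y
    induction x using TensorProduct.induction_on with
    | zero => exact ⟨0, by simp⟩
    | add x y hx hy =>
      obtain ⟨x', hx'⟩ := hx
      obtain ⟨y', hy'⟩ := hy
      exact ⟨x' + y', by rw [map_add, hx', hy', map_add]⟩
    | tmul r c =>
      refine ⟨r ⊗ₜ[R] Ideal.Quotient.mk J c, ?_⟩
      change Algebra.TensorProduct.lift (Algebra.ofId R'' _) φ₀ (fun _ _ => Commute.all _ _)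
        (r ⊗ₜ[R] Ideal.Quotient.mk J c) = _
      rw [Algebra.TensorProduct.lift_tmul]
      change algebraMap R'' _ r * Ideal.Quotient.mk J' ((1 : R'') ⊗ₜ[R] c) = _
      rw [← Ideal.Quotient.mk_algebraMap, ← map_mul, Algebra.TensorProduct.algebraMap_apply,
        Algebra.TensorProduct.tmul_mul_tmul, mul_one, one_mul]
      rfl
  haveI := h
  exact Module.Finite.of_surjective φ.toLinearMap hφ

end Finite

section Kb

variable (T : Type u) [CommRing T] (X : Type u) [CommRing X] [HopfAlgebra T X]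
  [Coalgebra.IsCocomm T X]

/-- On each fibre, an open subgroup of multiplicative type containing all the torsion kernels is
everything. -/
theorem one_tmul_eq_zero_of_mem_torsion (hft : Algebra.FiniteType T X) (e : X)
    (he : IsIdempotentElem e) [(Ideal.span ({e} : Set X)).IsHopfIdeal T]
    (hq : IsMultType T (X ⧸ Ideal.span ({e} : Set X)))
    (hJ : ∀ n : ℕ, 0 < n → e ∈ torsionIdeal T X n) (p : Ideal T) [p.IsPrime] :
    (1 : p.ResidueField) ⊗ₜ[T] e = 0 := by
  haveI := hft
  let κ := p.ResidueField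
  let F : κ ⊗[T] X →ₐc[κ] κ ⊗[T] (X ⧸ Ideal.span ({e} : Set X)) :=
    TorsQuot.bcMk (S := κ) (Ideal.span ({e} : Set X))
  have hFs : Function.Surjective F := TorsQuot.bcMk_surjective _
  have hFker : ∀ z, F z = 0 ↔ z ∈ Ideal.span ({(1 : κ) ⊗ₜ[T] e} : Set (κ ⊗[T] X)) :=
    bcMk_span_eq_zero_iff e
  haveI : (Ideal.span ({(1 : κ) ⊗ₜ[T] e} : Set (κ ⊗[T] X))).IsHopfIdeal κ :=
    isHopfIdeal_span_of_ker F hFs _ hFker
  obtain ⟨ψ⟩ := nonempty_quotEquiv_of_ker F hFs _ hFker
  have hG : IsMultType κ ((κ ⊗[T] X) ⧸ Ideal.span ({(1 : κ) ⊗ₜ[T] e} : Set (κ ⊗[T] X))) :=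
    isMultType_of_equiv ψ (EtNil.isMultType_baseChange T _ κ hq)
  have hidem : IsIdempotentElem ((1 : κ) ⊗ₜ[T] e) := by
    change (1 : κ) ⊗ₜ[T] e * (1 : κ) ⊗ₜ[T] e = _
    rw [Algebra.TensorProduct.tmul_mul_tmul, mul_one, he.eq]
  obtain ⟨j, hj⟩ := TorsDense.dense_of_open_multType κ (κ ⊗[T] X) inferInstance
    ((1 : κ) ⊗ₜ[T] e) hidem hG 1 ((1 : κ) ⊗ₜ[T] e)
    (fun n hn => ⟨0, by
      rw [pow_zero, one_mul]
      exact Tors.one_tmul_mem_torsionIdeal κ n (hJ n hn)⟩)
  rwa [one_pow, one_mul] at hj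

/-- Over a local ring, an open subgroup of multiplicative type vanishing on the closed fibre is
everything, if the torsion kernels are finite. -/
theorem eq_zero_of_finite_torsion [IsLocalRing T] (hft : Algebra.FiniteType T X)
    (hfin : ∀ n : ℕ, 0 < n → Module.Finite T (X ⧸ torsionIdeal T X n)) (e : X)
    (he : IsIdempotentElem e) (hmem : e ∈ (maximalIdeal T).map (algebraMap T X))
    [(Ideal.span ({e} : Set X)).IsHopfIdeal T]
    (hq : IsMultType T (X ⧸ Ideal.span ({e} : Set X))) : e = 0 := by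
  have hJ : ∀ n : ℕ, 0 < n → e ∈ torsionIdeal T X n := by
    intro n hn
    haveI := hfin n hn
    let mk := Ideal.Quotient.mk (torsionIdeal T X n)
    have h1 : mk e = 0 := by
      apply idem_eq_zero_of_finite (P := T) (maximalIdeal T)
        (IsLocalRing.maximalIdeal_le_jacobson ⊥) (mk e) (he.map mk)
      have h2 := Ideal.mem_map_of_mem mk hmem
      rw [Ideal.map_map] at h2
      exact h2
    exact Ideal.Quotient.eq_zero_iff_mem.mp h1
  exact eq_zero_of_idem_of_fibres T X e he
    (fun p _ => one_tmul_eq_zero_of_mem_torsion T X hft e he hq hJ p)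

end Kb

section KbMain

variable (R : Type u) [CommRing R] [IsLocalRing R] (C : Type u) [CommRing C] [HopfAlgebra R C]
  [Coalgebra.IsCocomm R C]

theorem killsOpenSubgroups_of_finite (hft : Algebra.FiniteType R C)
    (hfin : ∀ n : ℕ, 0 < n → Module.Finite R (C ⧸ torsionIdeal R C n)) :
    KillsOpenSubgroups R C := by
  intro R'' _ _ _ _ _ e he hmem _ hq
  haveI := hft
  exact eq_zero_of_finite_torsion R'' (R'' ⊗[R] C) inferInstance
    (fun n hn => finite_torsion_baseChange R R'' C n (hfin n hn)) e he hmem hq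

end KbMain

end Groth.Agent.Lib.Helper25.HKill
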