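import Groth.Agent.Lib.Helper12GeomConn

/-!
# Geometric connectedness of a connected algebra with an augmentation, in ring form (helper25)
-/

set_option autoImplicit false
set_option linter.unusedSectionVars false
set_option linter.style.haveILetI false
universe u

namespace Groth.Agent.Lib.Helper25.HKill

open TensorProduct CategoryTheory Limits AlgebraicGeometry

section GC

variable (k : Type u) [Field k] (B : Type u) [CommRing B] [Algebra k B]

/-- A `k`-algebra with connected spectrum and a `k`-point has connected spectrum after any field
extension. -/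
theorem connectedSpace_tensor_of_augmentation (ε : B →ₐ[k] k)
    [ConnectedSpace (PrimeSpectrum B)] (K : Type u) [Field K] [Algebra k K] :
    ConnectedSpace (PrimeSpectrum (K ⊗[k] B)) := by
  let f : Spec (.of B) ⟶ Spec (.of k) := Spec.map (CommRingCat.ofHom (algebraMap k B))
  let x : Spec (.of k) ⟶ Spec (.of B) := Spec.map (CommRingCat.ofHom ε.toRingHom)
  have hx : x ≫ f = 𝟙 _ := by
    rw [← Spec.map_comp, ← CommRingCat.ofHom_comp]
    have : ε.toRingHom.comp (algebraMap k B) = RingHom.id k := by
      ext a
      simp
    rw [this]
    exact Spec.map_id _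
  haveI : ConnectedSpace ↥(Spec (.of B)) := inferInstanceAs (ConnectedSpace (PrimeSpectrum B))
  have hgc : GeometricallyConnected f :=
    Groth.Agent.Lib.Helper12.GeomConn.geometricallyConnected_of_section f x hx
  have h1 : ConnectedSpace ↥(pullback f (Spec.map (CommRingCat.ofHom (algebraMap k K)))) :=
    pullback_of_geometrically hgc.geometrically_connectedSpace K _
  have h2 : ConnectedSpace ↥(Spec (.of (B ⊗[k] K))) :=
    ((pullbackSpecIso k B K).hom.homeomorph.connectedSpace_iff).mp h1
  have h3 : ConnectedSpace (PrimeSpectrum (B ⊗[k] K)) := h2
  exact ((PrimeSpectrum.homeomorphOfRingEquiv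
    (Algebra.TensorProduct.comm k B K).toRingEquiv).connectedSpace_iff).mp h3

end GC

end Groth.Agent.Lib.Helper25.HKill
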