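import Groth.Agent.Lib.Helper25HKillD
import Groth.Agent.Lib.Helper25HKillB

/-!
# Killing open subgroups: the case of connected fibres (helper25)
-/

set_option autoImplicit false
set_option linter.unusedSectionVars false
set_option linter.style.haveILetI false
universe u

namespace Groth.Agent.Lib.Helper25.HKill

open TensorProduct SGA3b IsLocalRing

section Idem

theorem idem_eq_zero_or_one_of_connected (A : Type u) [CommRing A]
    [ConnectedSpace (PrimeSpectrum A)] (e : A) (he : IsIdempotentElem e) : e = 0 ∨ e = 1 := by
  have hclopen : IsClopen (PrimeSpectrum.basicOpen e : Set (PrimeSpectrum A)) :=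
    PrimeSpectrum.isClopen_iff.mpr ⟨e, he, rfl⟩
  rcases isClopen_iff.mp hclopen with h | h
  · left
    apply PrimeSpectrum.basicOpen_injOn_isIdempotentElem he IsIdempotentElem.zero
    apply SetLike.ext'
    rw [h, PrimeSpectrum.basicOpen_zero]
    rfl
  · right
    apply PrimeSpectrum.basicOpen_injOn_isIdempotentElem he IsIdempotentElem.one
    apply SetLike.ext'
    rw [h, PrimeSpectrum.basicOpen_one]
    rfl

end Idem

section Kc1

variable (R : Type u) [CommRing R] (C : Type u) [CommRing C] [Algebra R C]

/-- If all fibres of an augmented algebra are connected, all its geometric fibres are. -/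
theorem connectedSpace_tensor_field (ε : C →ₐ[R] R)
    (hconn : ∀ (p : Ideal R) [p.IsPrime], ConnectedSpace (PrimeSpectrum (p.ResidueField ⊗[R] C)))
    (L : Type u) [Field L] [Algebra R L] : ConnectedSpace (PrimeSpectrum (L ⊗[R] C)) := by
  let p : Ideal R := RingHom.ker (algebraMap R L)
  haveI : p.IsPrime := RingHom.ker_isPrime _
  let κ := p.ResidueField
  let ι : κ →ₐ[R] L := Ideal.ResidueField.liftₐ p (Algebra.ofId R L) le_rfl (by
    intro x hx
    change IsUnit (algebraMap R L x)
    rw [isUnit_iff_ne_zero]
    exact fun h0 => hx h0)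
  letI : Algebra κ L := ι.toRingHom.toAlgebra
  haveI : IsScalarTower R κ L := IsScalarTower.of_algebraMap_eq (fun r => (ι.commutes r).symm)
  let εκ : κ ⊗[R] C →ₐ[κ] κ :=
    Algebra.TensorProduct.lift (AlgHom.id κ κ) ((Algebra.ofId R κ).comp ε)
      (fun _ _ => Commute.all _ _)
  haveI := hconn p
  have h1 : ConnectedSpace (PrimeSpectrum (L ⊗[κ] (κ ⊗[R] C))) :=
    connectedSpace_tensor_of_augmentation κ (κ ⊗[R] C) εκ L
  exact ((PrimeSpectrum.homeomorphOfRingEquiv
    (Algebra.TensorProduct.cancelBaseChange R κ L L C).toRingEquiv).connectedSpace_iff).mp h1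

end Kc1

section Kc2

variable (R : Type u) [CommRing R] (R'' : Type u) [CommRing R''] [Algebra R R'']
  (C : Type u) [CommRing C] [Algebra R C]

/-- The base change of an augmentation. -/
noncomputable def augBC (ε : C →ₐ[R] R) : R'' ⊗[R] C →ₐ[R''] R'' :=
  Algebra.TensorProduct.lift (AlgHom.id R'' R'') ((Algebra.ofId R R'').comp ε)
    (fun _ _ => Commute.all _ _)

theorem augBC_tmul (ε : C →ₐ[R] R) (r : R'') (c : C) :
    augBC R R'' C ε (r ⊗ₜ[R] c) = r * algebraMap R R'' (ε c) := by
  simp [augBC]

/-- An idempotent of a base change of an augmented algebra with connected geometric fibres which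
vanishes along the augmentation is zero. -/
theorem eq_zero_of_idem_of_aug (ε : C →ₐ[R] R)
    (hL : ∀ (L : Type u) [Field L] [Algebra R L], ConnectedSpace (PrimeSpectrum (L ⊗[R] C)))
    (e : R'' ⊗[R] C) (he : IsIdempotentElem e) (hε : augBC R R'' C ε e = 0) : e = 0 := by
  have hnil : IsNilpotent e := by
    rw [← mem_nilradical, nilradical_eq_sInf, Ideal.mem_sInf]
    intro Q hQ
    haveI : Q.IsPrime := hQ
    let L := Q.ResidueField
    haveI := hL L
    let θ : R'' ⊗[R] C →ₐ[R] L ⊗[R] C :=
      Algebra.TensorProduct.map (IsScalarTower.toAlgHom R R'' L) (AlgHom.id R C)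
    let μ : L ⊗[R] C →ₐ[L] L :=
      Algebra.TensorProduct.lift (AlgHom.id L L)
        ((IsScalarTower.toAlgHom R (R'' ⊗[R] C) L).comp
          (Algebra.TensorProduct.includeRight : C →ₐ[R] R'' ⊗[R] C))
        (fun _ _ => Commute.all _ _)
    have hμθ : ∀ z, μ (θ z) = algebraMap (R'' ⊗[R] C) L z := by
      intro z
      induction z using TensorProduct.induction_on with
      | zero => simp
      | add x y hx hy => simp only [map_add, hx, hy]
      | tmul r c =>
        change μ ((algebraMap R'' L r) ⊗ₜ[R] c) = _
        change Algebra.TensorProduct.lift (AlgHom.id L L) _ _ ((algebraMap R'' L r) ⊗ₜ[R] c) = _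
        rw [Algebra.TensorProduct.lift_tmul]
        change algebraMap R'' L r * algebraMap (R'' ⊗[R] C) L ((1 : R'') ⊗ₜ[R] c) = _
        rw [IsScalarTower.algebraMap_apply R'' (R'' ⊗[R] C) L, ← map_mul,
          Algebra.TensorProduct.algebraMap_apply, Algebra.TensorProduct.tmul_mul_tmul, mul_one,
          one_mul]
        rfl
    have haug : ∀ z, augBC R L C ε (θ z) = algebraMap R'' L (augBC R R'' C ε z) := by
      intro z
      induction z using TensorProduct.induction_on with
      | zero => simp
      | add x y hx hy => simp only [map_add, hx, hy]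
      | tmul r c =>
        change augBC R L C ε ((algebraMap R'' L r) ⊗ₜ[R] c) = _
        rw [augBC_tmul, augBC_tmul, map_mul, ← IsScalarTower.algebraMap_apply R R'' L]
    have hθe : IsIdempotentElem (θ e) := he.map θ
    rcases idem_eq_zero_or_one_of_connected (L ⊗[R] C) (θ e) hθe with h0 | h1
    · have := hμθ e
      rw [h0, map_zero] at this
      exact Ideal.algebraMap_residueField_eq_zero.mp this.symm
    · exfalso
      have := haug e
      rw [h1, hε, map_zero, map_one] at this
      exact one_ne_zero this
  obtain ⟨n, hn⟩ := hnil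
  rcases Nat.eq_zero_or_pos n with rfl | hpos
  · have : (1 : R'' ⊗[R] C) = 0 := by simpa using hn
    rw [← mul_one e, this, mul_zero]
  · rw [← he.pow_succ_eq (n - 1), Nat.sub_add_cancel hpos]
    exact hn

end Kc2

section KcMain

open Groth.Agent.Lib.Helper25.HKill

variable (R : Type u) [CommRing R] [IsLocalRing R] (C : Type u) [CommRing C] [HopfAlgebra R C]

theorem augBC_counit (R'' : Type u) [CommRing R''] [Algebra R R''] (z : R'' ⊗[R] C) :
    augBC R R'' C (Bialgebra.counitAlgHom R C) z = Coalgebra.counit (R := R'') z := by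
  induction z using TensorProduct.induction_on with
  | zero => simp
  | add x y hx hy => simp only [map_add, hx, hy]
  | tmul r c =>
    rw [augBC_tmul, TensorProduct.counit_tmul, CommSemiring.counit_apply, Algebra.smul_def,
      mul_comm]
    rfl

theorem killsOpenSubgroups_of_connected
    (hconn : ∀ (p : Ideal R) [p.IsPrime],
      ConnectedSpace (PrimeSpectrum (p.ResidueField ⊗[R] C))) :
    KillsOpenSubgroups R C := by
  intro R'' _ _ _ _ _ e he _ inst _
  have hε : Coalgebra.counit (R := R'') e = 0 :=
    inst.toIsCoideal.counit_eq_zero (Ideal.mem_span_singleton_self e)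
  apply eq_zero_of_idem_of_aug R R'' C (Bialgebra.counitAlgHom R C)
    (fun L _ _ => connectedSpace_tensor_field R C (Bialgebra.counitAlgHom R C) hconn L) e he
  rw [augBC_counit]
  exact hε

end KcMain

end Groth.Agent.Lib.Helper25.HKill
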