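import Groth.Agent.Lib.Helper25HDescJ
import Groth.Agent.Lib.Helper25HFlatB
import Groth.Agent.Lib.Helper25MultBC
import Groth.Agent.Lib.Helper25NilGL

/-!
# A model over a finitely generated ring, flat near the closed fibre (helper25)
-/

set_option autoImplicit false
set_option linter.unusedSectionVars false
set_option linter.style.haveILetI false
universe u

namespace Groth.Agent.Lib.Helper25.HStage

open TensorProduct Groth.Agent.Lib.Helper25.HDesc Groth.Agent.Lib.Helper25.HFlat BCB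

section Step

variable (Λ : Type u) [CommRing Λ] (Λ' : Type u) [CommRing Λ'] [Algebra Λ Λ']
  (R : Type u) [CommRing R] [Algebra Λ R] [Algebra Λ' R] [IsScalarTower Λ Λ' R]
  (H : Type u) [CommRing H] [HopfAlgebra Λ H] (C : Type u) [CommRing C] [HopfAlgebra R C]

/-- The comparison isomorphism for a model after enlarging the base ring. -/
noncomputable def stepIso (iso : R ⊗[Λ] H ≃ₐc[R] C) : R ⊗[Λ'] (Λ' ⊗[Λ] H) ≃ₐc[R] C :=
  (cancelBC Λ Λ' R H).trans iso

theorem stepIso_one_tmul (iso : R ⊗[Λ] H ≃ₐc[R] C) (x : Λ' ⊗[Λ] H) :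
    stepIso Λ Λ' R H C iso ((1 : R) ⊗ₜ[Λ'] x) =
      iso (Algebra.TensorProduct.map (IsScalarTower.toAlgHom Λ Λ' R) (AlgHom.id Λ H) x) := by
  change iso (cancelBC Λ Λ' R H ((1 : R) ⊗ₜ[Λ'] x)) = _
  congr 1
  induction x using TensorProduct.induction_on with
  | zero => simp
  | add x y hx hy => simp only [TensorProduct.tmul_add, map_add, hx, hy]
  | tmul s h =>
    rw [cancelBC_tmul, Algebra.TensorProduct.map_tmul, Algebra.smul_def, mul_one]
    rfl

theorem stepIso_one_tmul_one_tmul (iso : R ⊗[Λ] H ≃ₐc[R] C) (h : H) :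
    stepIso Λ Λ' R H C iso ((1 : R) ⊗ₜ[Λ'] ((1 : Λ') ⊗ₜ[Λ] h)) = iso ((1 : R) ⊗ₜ[Λ] h) := by
  rw [stepIso_one_tmul, Algebra.TensorProduct.map_tmul, map_one]
  rfl

end Step

section Flat

variable (R : Type u) [CommRing R] (C : Type u) [CommRing C] [HopfAlgebra R C]

/-- Stage a: enlarge the base ring of a model so that a given element is defined over it. -/
theorem exists_model_with_element (Λ : Type u) [CommRing Λ] [Algebra Λ R]
    (hΛ : Algebra.FiniteType ℤ Λ) (H : Type u) [CommRing H] [HopfAlgebra Λ H]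
    (hfpH : Algebra.FinitePresentation Λ H) (iso : R ⊗[Λ] H ≃ₐc[R] C) (g : C) :
    ∃ (Λ' : Type u) (_ : CommRing Λ') (_ : Algebra Λ' R) (_ : Algebra.FiniteType ℤ Λ')
      (H' : Type u) (_ : CommRing H') (_ : HopfAlgebra Λ' H') (g' : H')
      (iso' : R ⊗[Λ'] H' ≃ₐc[R] C),
      Algebra.FinitePresentation Λ' H' ∧ (Coalgebra.IsCocomm Λ H → Coalgebra.IsCocomm Λ' H') ∧
      iso' ((1 : R) ⊗ₜ[Λ'] g') = g := by
  haveI := hfpH
  obtain ⟨Sa, hSa, ga, hga⟩ := TensorProduct.Algebra.exists_of_fg (iso.symm g)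
  let isoa : R ⊗[Sa] (Sa ⊗[Λ] H) ≃ₐc[R] C := stepIso Λ Sa R H C iso
  have hisoa : isoa ((1 : R) ⊗ₜ[Sa] ga) = g := by
    rw [stepIso_one_tmul]
    have : Algebra.TensorProduct.map (IsScalarTower.toAlgHom Λ Sa R) (AlgHom.id Λ H) ga =
        iso.symm g := hga
    rw [this]
    exact iso.apply_symm_apply g
  have h2 : Algebra.FiniteType Λ Sa := (Subalgebra.fg_iff_finiteType Sa).mp hSa
  refine ⟨Sa, inferInstance, inferInstance, hΛ.trans h2, Sa ⊗[Λ] H,
    inferInstance, inferInstance, ga, isoa, inferInstance, ?_, hisoa⟩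
  intro hc
  infer_instance

/-- Stage b: enlarge the base ring of a model so that a principal localisation, flat over `R`
after base change, is flat. -/
theorem exists_model_flat (Λ : Type u) [CommRing Λ] [Algebra Λ R]
    (hΛ : Algebra.FiniteType ℤ Λ) (H : Type u) [CommRing H] [HopfAlgebra Λ H]
    (hfpH : Algebra.FinitePresentation Λ H) (iso : R ⊗[Λ] H ≃ₐc[R] C) (g : H)
    (hflat : Module.Flat R (Localization.Away (iso ((1 : R) ⊗ₜ[Λ] g)))) :
    ∃ (Λ' : Type u) (_ : CommRing Λ') (_ : Algebra Λ' R) (_ : Algebra.FiniteType ℤ Λ')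
      (H' : Type u) (_ : CommRing H') (_ : HopfAlgebra Λ' H') (g' : H')
      (iso' : R ⊗[Λ'] H' ≃ₐc[R] C),
      Algebra.FinitePresentation Λ' H' ∧ (Coalgebra.IsCocomm Λ H → Coalgebra.IsCocomm Λ' H') ∧
      iso' ((1 : R) ⊗ₜ[Λ'] g') = iso ((1 : R) ⊗ₜ[Λ] g) ∧
      Module.Flat Λ' (Localization.Away g') := by
  haveI := hfpH
  have hfla : Module.Flat R (Localization.Away ((1 : R) ⊗ₜ[Λ] g)) :=
    flat_away_of_algEquiv (iso : R ⊗[Λ] H ≃ₐ[R] C) _ hflat
  have hfla' : Module.Flat R (R ⊗[Λ] Localization.Away g) := flat_tensor_away Λ R _ g hfla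
  haveI : Algebra.FinitePresentation H (Localization.Away g) :=
    IsLocalization.Away.finitePresentation g
  haveI : Algebra.FinitePresentation Λ (Localization.Away g) :=
    Algebra.FinitePresentation.trans (R := Λ) (A := H) (B := Localization.Away g)
  obtain ⟨Sb, hSb, hflb⟩ := exists_fg_flat Λ R (Localization.Away g) hfla'
  have hflb' : Module.Flat Sb (Localization.Away ((1 : Sb) ⊗ₜ[Λ] g)) :=
    flat_away_of_flat_tensor Λ Sb _ g hflb
  let isob : R ⊗[Sb] (Sb ⊗[Λ] H) ≃ₐc[R] C := stepIso Λ Sb R H C iso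
  have hisob : isob ((1 : R) ⊗ₜ[Sb] ((1 : Sb) ⊗ₜ[Λ] g)) = iso ((1 : R) ⊗ₜ[Λ] g) :=
    stepIso_one_tmul_one_tmul Λ Sb R H C iso g
  have h3 : Algebra.FiniteType Λ Sb := (Subalgebra.fg_iff_finiteType Sb).mp hSb
  refine ⟨Sb, inferInstance, inferInstance, hΛ.trans h3, Sb ⊗[Λ] H,
    inferInstance, inferInstance, (1 : Sb) ⊗ₜ[Λ] g, isob, inferInstance, ?_, hisob, hflb'⟩
  intro hc
  infer_instance

/-- **A model flat near the closed fibre.** -/
theorem exists_flat_model (I : Ideal R) (hfp : Algebra.FinitePresentation R C)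
    (hfl : ∀ (q : Ideal C) [q.IsPrime], I.map (algebraMap R C) ≤ q →
      Module.Flat R (Localization.AtPrime q)) :
    ∃ (Λ : Type u) (_ : CommRing Λ) (_ : Algebra Λ R) (_ : Algebra.FiniteType ℤ Λ)
      (H : Type u) (_ : CommRing H) (_ : HopfAlgebra Λ H) (g : H) (iso : R ⊗[Λ] H ≃ₐc[R] C),
      Algebra.FinitePresentation Λ H ∧ (Coalgebra.IsCocomm R C → Coalgebra.IsCocomm Λ H) ∧
      iso ((1 : R) ⊗ₜ[Λ] g) - 1 ∈ I.map (algebraMap R C) ∧
      Module.Flat Λ (Localization.Away g) := by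
  obtain ⟨Λ, _, _, hΛ, H, _, _, hfpH, hcc, ⟨iso⟩⟩ := exists_noetherian_model R C hfp
  haveI := hfp
  obtain ⟨g, hg, hflat⟩ := exists_flat_away R I C hfl
  obtain ⟨Λa, _, _, hΛa, Ha, _, _, ga, isoa, hfpa, hcca, hga⟩ :=
    exists_model_with_element R C Λ hΛ H hfpH iso g
  obtain ⟨Λb, _, _, hΛb, Hb, _, _, gb, isob, hfpb, hccb, hgb, hflb⟩ :=
    exists_model_flat R C Λa hΛa Ha hfpa isoa ga (flat_away_of_eq hga.symm hflat)
  refine ⟨Λb, _, _, hΛb, Hb, _, _, gb, isob, hfpb, fun hc => hccb (hcca (hcc hc)), ?_, hflb⟩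
  rw [hgb, hga]
  exact hg

end Flat

end Groth.Agent.Lib.Helper25.HStage
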