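import Groth.Agent.Lib.Helper25LCHom
import Groth.Agent.Lib.Helper25TorsHopf
import Groth.Agent.Lib.Helper25FamProj
import Groth.Agent.Lib.Helper25CartLift
import Groth.Agent.Lib.Helper25HPoints
import Groth.Agent.Lib.Helper25NilLift

/-!
# Diagonalisability over a Henselian pair, part A: set-up (helper25)

* `CTriv R A M`: a Hopf algebra trivialised with constant type `M` over a finite jointly faithfully
  flat family of flat algebras.
* cocommutativity, the torsion quotient `A ⧸ torsionIdeal n` (finite projective, trivialised by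
  `redE`), dual bases.
-/

set_option autoImplicit false
set_option linter.unusedSectionVars false
set_option linter.style.haveILetI false
universe u

namespace Groth.Agent.Lib.Helper25.HensDiag

open TensorProduct SGA3b Groth.Agent.Lib.Helper25 DescGL Tors LCVal

/-- A Hopf algebra trivialised with constant type `M` over a finite jointly faithfully flat
family. -/
structure CTriv (R : Type u) [CommRing R] (A : Type u) [CommRing A] [HopfAlgebra R A]
    (M : Type u) [CommGroup M] where
  ι : Type u
  [fin : Fintype ι]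
  [dec : DecidableEq ι]
  Q : ι → Type u
  [cr : ∀ i, CommRing (Q i)]
  [alg : ∀ i, Algebra R (Q i)]
  flat : ∀ i, Module.Flat R (Q i)
  ff : Module.FaithfullyFlat R (∀ i, Q i)
  ε : ∀ i, Q i ⊗[R] A ≃ₐc[Q i] MonoidAlgebra (Q i) M

attribute [instance] CTriv.fin CTriv.dec CTriv.cr CTriv.alg

namespace CTriv

variable {R : Type u} [CommRing R] {A : Type u} [CommRing A] [HopfAlgebra R A]
  {M : Type u} [CommGroup M] (V : CTriv R A M)

/-- The underlying trivialisation. -/
@[reducible] def toTriv : Desc.Triv R A where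
  ι := V.ι
  Q := V.Q
  M := fun _ => M
  flat := V.flat
  ff := V.ff
  ε := V.ε

include V in
/-- A Hopf algebra trivialised over a jointly faithfully flat family is cocommutative. -/
theorem isCocomm : Coalgebra.IsCocomm R A := by
  haveI := V.ff
  refine ⟨?_⟩
  apply LinearMap.ext
  intro a
  rw [LinearMap.comp_apply, ← sub_eq_zero]
  apply FamDesc.eq_zero_of_forall_one_tmul (R := R) V.Q (A ⊗[R] A)
  intro i
  apply NilLift.one_tmul_eq_zero_of_bcMap2_eq_zero
  rw [map_sub, sub_eq_zero]
  have hcomm : ∀ z : A ⊗[R] A, MRB.bcMap2 (V.Q i) A ((TensorProduct.comm R A A) z) =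
      TensorProduct.comm (V.Q i) _ _ (MRB.bcMap2 (V.Q i) A z) := by
    intro z
    induction z using TensorProduct.induction_on with
    | zero => simp
    | add x y hx hy => rw [map_add, map_add, hx, hy, map_add, map_add]
    | tmul a b => simp [MRB.bcMap2_tmul]
  change MRB.bcMap2 (V.Q i) A ((TensorProduct.comm R A A) (Coalgebra.comul a)) = _
  rw [hcomm, ← MRB.comul_one_tmul]
  -- cocommutativity of `Q i ⊗ A ≃ (Q i)[M]`
  have hco : ∀ y : V.Q i ⊗[R] A, TensorProduct.comm (V.Q i) _ _ (Coalgebra.comul y) =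
      Coalgebra.comul y := by
    intro y
    have h1 : Coalgebra.comul (R := V.Q i) y =
        TensorProduct.map ((V.ε i).symm : MonoidAlgebra (V.Q i) M →ₗ[V.Q i] V.Q i ⊗[R] A)
          ((V.ε i).symm : MonoidAlgebra (V.Q i) M →ₗ[V.Q i] V.Q i ⊗[R] A)
          (Coalgebra.comul (R := V.Q i) (V.ε i y)) := by
      have := CoalgHomClass.map_comp_comul_apply (V.ε i).symm (V.ε i y)
      rw [BialgEquiv.symm_apply_apply] at this
      exact this.symm
    rw [h1]
    have h2 : ∀ w : MonoidAlgebra (V.Q i) M ⊗[V.Q i] MonoidAlgebra (V.Q i) M,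
        TensorProduct.comm (V.Q i) _ _ (TensorProduct.map
          ((V.ε i).symm : MonoidAlgebra (V.Q i) M →ₗ[V.Q i] V.Q i ⊗[R] A)
          ((V.ε i).symm : MonoidAlgebra (V.Q i) M →ₗ[V.Q i] V.Q i ⊗[R] A) w) =
        TensorProduct.map
          ((V.ε i).symm : MonoidAlgebra (V.Q i) M →ₗ[V.Q i] V.Q i ⊗[R] A)
          ((V.ε i).symm : MonoidAlgebra (V.Q i) M →ₗ[V.Q i] V.Q i ⊗[R] A)
          (TensorProduct.comm (V.Q i) _ _ w) := by
      intro w
      induction w using TensorProduct.induction_on with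
      | zero => simp
      | add x y hx hy => rw [map_add, map_add, hx, hy, map_add, map_add]
      | tmul a b => simp
    rw [h2, Coalgebra.comm_comul]
  exact hco _

end CTriv

section Quot

variable {R : Type u} [CommRing R] {A : Type u} [CommRing A] [HopfAlgebra R A]
  {S : Type u} [CommRing S] [Algebra R S] {M : Type u} [CommGroup M]
  (ε : S ⊗[R] A ≃ₐc[S] MonoidAlgebra S M) (n : ℕ) (J : Ideal A) [J.IsHopfIdeal R]
  (hJ : J = torsionIdeal R A n)

/-- The induced trivialisation of the `n`-torsion quotient. -/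
noncomputable def redE : S ⊗[R] (A ⧸ J) ≃ₐc[S] MonoidAlgebra S (M ⧸ powSub M n) :=
  (BialgEquiv.ofBijective (TorsQuot.psiBar' ε n J hJ) (TorsQuot.psiBar'_bijective ε n J hJ)).symm

theorem redE_apply (y : S ⊗[R] (A ⧸ J)) : redE ε n J hJ y = TorsQuot.chi ε n J hJ y := by
  set y' := redE ε n J hJ y with hy'
  have h1 : TorsQuot.psiBar' ε n J hJ y' = y := by
    rw [hy', redE]
    exact (BialgEquiv.ofBijective (TorsQuot.psiBar' ε n J hJ)
      (TorsQuot.psiBar'_bijective ε n J hJ)).apply_symm_apply y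
  rw [← h1, TorsQuot.chi_psiBar']

theorem redE_one_tmul_mk (a : A) :
    redE ε n J hJ ((1 : S) ⊗ₜ[R] Ideal.Quotient.mk J a) = quotMap S M n (ε ((1 : S) ⊗ₜ[R] a)) := by
  rw [redE_apply, TorsQuot.chi_tmul, one_smul, TorsQuot.chi0_mk, TorsQuot.theta_apply]

end Quot

section FiniteQuot

variable (M : Type u) [CommGroup M] [Group.FG M]

theorem finite_quot_powSub (n : ℕ) (hn : 0 < n) : Finite (M ⧸ powSub M n) := by
  haveI : Group.FG (M ⧸ powSub M n) := inferInstance
  apply CommGroup.finite_of_fg_isMulTorsion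
  intro q
  rw [isOfFinOrder_iff_pow_eq_one]
  refine ⟨n, hn, ?_⟩
  obtain ⟨m, rfl⟩ := QuotientGroup.mk_surjective q
  rw [← QuotientGroup.mk_pow, QuotientGroup.eq_one_iff]
  exact ⟨m, rfl⟩

end FiniteQuot

end Groth.Agent.Lib.Helper25.HensDiag
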