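import Groth.Agent.Lib.Helper25HensDiagB

/-!
# Diagonalisability over a Henselian pair, part C: transition maps and their values (helper25)
-/

set_option autoImplicit false
set_option linter.unusedSectionVars false
set_option linter.style.haveILetI false
universe u

namespace Groth.Agent.Lib.Helper25.HensDiag

open TensorProduct SGA3b Groth.Agent.Lib.Helper25 DescGL Tors LCVal DescLift

namespace CTriv

variable {R : Type u} [CommRing R] {A : Type u} [CommRing A] [HopfAlgebra R A]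
  {M : Type u} [CommGroup M] (V : CTriv R A M)

/-- The double overlaps. -/
abbrev T (i j : V.ι) : Type u := V.Q i ⊗[R] V.Q j

abbrev iL (i j : V.ι) : V.Q i →ₐ[R] V.T i j := Algebra.TensorProduct.includeLeft
abbrev iR (i j : V.ι) : V.Q j →ₐ[R] V.T i j := Algebra.TensorProduct.includeRight

/-- The transition maps on the double overlaps. -/
noncomputable def Psi (i j : V.ι) :
    MonoidAlgebra (V.T i j) M →ₐc[V.T i j] MonoidAlgebra (V.T i j) M :=
  V.toTriv.trans i j (V.T i j) (V.iL i j) (V.iR i j)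

noncomputable def PsiInv (i j : V.ι) :
    MonoidAlgebra (V.T i j) M →ₐc[V.T i j] MonoidAlgebra (V.T i j) M :=
  V.toTriv.trans j i (V.T i j) (V.iR i j) (V.iL i j)

theorem PsiInv_comp_Psi (i j : V.ι) :
    (V.PsiInv i j).comp (V.Psi i j) = BialgHom.id (V.T i j) (MonoidAlgebra (V.T i j) M) := by
  apply BialgHom.ext
  intro y
  rw [BialgHom.comp_apply, Psi, PsiInv, Desc.Triv.trans_eq, Desc.Triv.trans_eq,
    BialgEquiv.symm_apply_apply, BialgEquiv.apply_symm_apply]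
  rfl

theorem Psi_comp_PsiInv (i j : V.ι) :
    (V.Psi i j).comp (V.PsiInv i j) = BialgHom.id (V.T i j) (MonoidAlgebra (V.T i j) M) := by
  apply BialgHom.ext
  intro y
  rw [BialgHom.comp_apply, Psi, PsiInv, Desc.Triv.trans_eq, Desc.Triv.trans_eq,
    BialgEquiv.symm_apply_apply, BialgEquiv.apply_symm_apply]
  rfl

theorem Psi_apply (i j : V.ι) (a : A) :
    V.Psi i j (MonoidAlgebra.mapRingHom M (V.iR i j).toRingHom (V.ε j ((1 : V.Q j) ⊗ₜ[R] a))) =
      MonoidAlgebra.mapRingHom M (V.iL i j).toRingHom (V.ε i ((1 : V.Q i) ⊗ₜ[R] a)) :=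
  V.toTriv.trans_apply i j (V.T i j) (V.iL i j) (V.iR i j) a

variable (I : Ideal R)

/-- The members of the family modulo `I`. -/
abbrev Qb (j : V.ι) : Type u := V.Q j ⧸ I.map (algebraMap R (V.Q j))

noncomputable def mkb (j : V.ι) : V.Q j →ₐ[R] V.Qb I j := Ideal.Quotient.mkₐ R _

noncomputable def cb (j : V.ι) : R ⧸ I →ₐ[R] V.Qb I j :=
  Ideal.Quotient.liftₐ I (Algebra.ofId R (V.Qb I j)) (by
    intro r hr
    rw [Algebra.ofId_apply, IsScalarTower.algebraMap_apply R (V.Q j) (V.Qb I j),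
      Ideal.Quotient.algebraMap_eq, Ideal.Quotient.eq_zero_iff_mem]
    exact Ideal.mem_map_of_mem _ hr)

variable (e₀ : (R ⧸ I) ⊗[R] A ≃ₐc[R ⧸ I] MonoidAlgebra (R ⧸ I) M)

/-- The trivialisation modulo `I`, over `Qb j`. -/
noncomputable def bcE (j : V.ι) : V.Qb I j ⊗[R] A ≃ₐc[V.Qb I j] MonoidAlgebra (V.Qb I j) M :=
  letI : Algebra (R ⧸ I) (V.Qb I j) := (V.cb I j).toRingHom.toAlgebra
  haveI : IsScalarTower R (R ⧸ I) (V.Qb I j) :=
    IsScalarTower.of_algebraMap_eq (fun r => ((V.cb I j).commutes r).symm)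
  MTGlue.bcDiag R (R ⧸ I) (V.Qb I j) e₀

theorem bcE_one_tmul (j : V.ι) (a : A) :
    V.bcE I e₀ j ((1 : V.Qb I j) ⊗ₜ[R] a) =
      MonoidAlgebra.mapRingHom M (V.cb I j).toRingHom (e₀ ((1 : R ⧸ I) ⊗ₜ[R] a)) := by
  letI : Algebra (R ⧸ I) (V.Qb I j) := (V.cb I j).toRingHom.toAlgebra
  haveI : IsScalarTower R (R ⧸ I) (V.Qb I j) :=
    IsScalarTower.of_algebraMap_eq (fun r => ((V.cb I j).commutes r).symm)
  exact MTGlue.bcDiag_one_tmul R (R ⧸ I) (V.Qb I j) e₀ a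

/-- The comparison between the given trivialisation and the one modulo `I`. -/
noncomputable def tau (j : V.ι) :
    MonoidAlgebra (V.Qb I j) M →ₐc[V.Qb I j] MonoidAlgebra (V.Qb I j) M :=
  (V.toTriv.bcε j (V.Qb I j) (V.mkb I j)).toBialgHom.comp (V.bcE I e₀ j).symm.toBialgHom

noncomputable def tauInv (j : V.ι) :
    MonoidAlgebra (V.Qb I j) M →ₐc[V.Qb I j] MonoidAlgebra (V.Qb I j) M :=
  (V.bcE I e₀ j).toBialgHom.comp (V.toTriv.bcε j (V.Qb I j) (V.mkb I j)).symm.toBialgHom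

theorem tauInv_comp_tau (j : V.ι) :
    (V.tauInv I e₀ j).comp (V.tau I e₀ j) = BialgHom.id _ _ := by
  apply BialgHom.ext
  intro y
  have h1 : ∀ w, V.tau I e₀ j w =
      (V.toTriv.bcε j (V.Qb I j) (V.mkb I j)) ((V.bcE I e₀ j).symm w) := fun _ => rfl
  have h2 : ∀ w, V.tauInv I e₀ j w =
      V.bcE I e₀ j ((V.toTriv.bcε j (V.Qb I j) (V.mkb I j)).symm w) := fun _ => rfl
  rw [BialgHom.comp_apply, h1, h2, BialgEquiv.symm_apply_apply, BialgEquiv.apply_symm_apply]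
  rfl

theorem tau_comp_tauInv (j : V.ι) :
    (V.tau I e₀ j).comp (V.tauInv I e₀ j) = BialgHom.id _ _ := by
  apply BialgHom.ext
  intro y
  have h1 : ∀ w, V.tau I e₀ j w =
      (V.toTriv.bcε j (V.Qb I j) (V.mkb I j)) ((V.bcE I e₀ j).symm w) := fun _ => rfl
  have h2 : ∀ w, V.tauInv I e₀ j w =
      V.bcE I e₀ j ((V.toTriv.bcε j (V.Qb I j) (V.mkb I j)).symm w) := fun _ => rfl
  rw [BialgHom.comp_apply, h1, h2, BialgEquiv.symm_apply_apply, BialgEquiv.apply_symm_apply]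
  rfl

theorem tau_apply (j : V.ι) (a : A) :
    V.tau I e₀ j (MonoidAlgebra.mapRingHom M (V.cb I j).toRingHom
      (e₀ ((1 : R ⧸ I) ⊗ₜ[R] a))) =
      MonoidAlgebra.mapRingHom M (V.mkb I j).toRingHom (V.ε j ((1 : V.Q j) ⊗ₜ[R] a)) := by
  rw [← bcE_one_tmul]
  change (V.toTriv.bcε j (V.Qb I j) (V.mkb I j)) ((V.bcE I e₀ j).symm
    (V.bcE I e₀ j ((1 : V.Qb I j) ⊗ₜ[R] a))) = _
  rw [BialgEquiv.symm_apply_apply]
  exact V.toTriv.bcε_one_tmul j (V.Qb I j) (V.mkb I j) a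

/-! ### The relations modulo `n`-th powers -/

theorem rel1 (n : ℕ) (a : A) (i j : V.ι) :
    MonoidAlgebra.mapRingHom (M ⧸ powSub M n) (V.iL i j).toRingHom
        (quotMap (V.Q i) M n (V.ε i ((1 : V.Q i) ⊗ₜ[R] a))) =
      red n (V.Psi i j) (MonoidAlgebra.mapRingHom (M ⧸ powSub M n) (V.iR i j).toRingHom
        (quotMap (V.Q j) M n (V.ε j ((1 : V.Q j) ⊗ₜ[R] a)))) := by
  rw [← quotMap_mapRingHom, ← quotMap_mapRingHom, red_quotMap, Psi_apply]

theorem rel2 (n : ℕ) (a : A) (j : V.ι) :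
    MonoidAlgebra.mapRingHom (M ⧸ powSub M n) (V.mkb I j).toRingHom
        (quotMap (V.Q j) M n (V.ε j ((1 : V.Q j) ⊗ₜ[R] a))) =
      red n (V.tau I e₀ j) (MonoidAlgebra.mapRingHom (M ⧸ powSub M n) (V.cb I j).toRingHom
        (quotMap (R ⧸ I) M n (e₀ ((1 : R ⧸ I) ⊗ₜ[R] a)))) := by
  rw [← quotMap_mapRingHom, ← quotMap_mapRingHom, red_quotMap, tau_apply]

end CTriv

end Groth.Agent.Lib.Helper25.HensDiag
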