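import Groth.Agent.Lib.Helper25HensDiagC

/-!
# Diagonalisability over a Henselian pair, part D: general lemmas on values (helper25)

* `val_eq_sig_val`: transport of values through a relation.
* `finite_range_sigEquiv`.
* the complete system of orthogonal idempotents attached to a finite family of group-likes of
  `T[M/Mⁿ]` whose values are everywhere given by a finite set `F` of automorphisms.
-/

set_option autoImplicit false
set_option linter.unusedSectionVars false
set_option linter.style.haveILetI false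
universe u

namespace Groth.Agent.Lib.Helper25.HensDiag

open TensorProduct SGA3b Groth.Agent.Lib.Helper25 DescGL Tors LCVal DescLift

section General

variable {T T₁ T₂ : Type u} [CommRing T] [CommRing T₁] [CommRing T₂] {N N' : Type u}
  [CommGroup N] [CommGroup N']

theorem val_eq_sig_val (ψ : MonoidAlgebra T N →ₐc[T] MonoidAlgebra T N') (f : T₁ →+* T)
    (f' : T₂ →+* T) {g : MonoidAlgebra T₁ N'} (hg : IsGroupLikeElem T₁ g)
    {g' : MonoidAlgebra T₂ N} (hg' : IsGroupLikeElem T₂ g')
    (h : MonoidAlgebra.mapRingHom N' f g = ψ (MonoidAlgebra.mapRingHom N f' g'))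
    (z : Ideal T) [z.IsPrime] :
    val hg (z.comap f) = sig ψ z (val hg' (z.comap f')) := by
  rw [← val_mapRingHom f hg z, ← val_mapRingHom f' hg' z, ← val_apply ψ]
  exact val_congr _ _ h z

theorem finite_range_sigEquiv {M : Type u} [CommGroup M] [Group.FG M]
    (ψ ψ' : MonoidAlgebra T M →ₐc[T] MonoidAlgebra T M)
    (h1 : ψ'.comp ψ = BialgHom.id T _) (h2 : ψ.comp ψ' = BialgHom.id T _) :
    (Set.range (fun x : PrimeSpectrum T => sigEquiv ψ ψ' h1 h2 x.asIdeal)).Finite := by
  apply Set.Finite.of_finite_image (f := MulEquiv.toMonoidHom)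
  · rw [← Set.range_comp]
    exact finite_range_sig ψ
  · intro a _ b _ h
    exact MulEquiv.toMonoidHom_injective h

end General

section COI

variable {T : Type u} [CommRing T] {M : Type u} [CommGroup M] (n : ℕ) (S : Finset M)
  (F : Finset (M ≃* M)) (w : S → MonoidAlgebra T (M ⧸ powSub M n))
  (hw : ∀ s, IsGroupLikeElem T (w s))

/-- The idempotent of the locus where the values of `w` are given by `φ`. -/
noncomputable def cIdem (φ : M ≃* M) : T :=
  ∏ s : S, (w s).coeff (QuotientGroup.mk' (powSub M n) (φ (s : M)))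

include hw in
theorem cIdem_notMem_iff (x : Ideal T) [hx : x.IsPrime] (φ : M ≃* M) :
    cIdem n S w φ ∉ x ↔ ∀ s : S, val (hw s) x = QuotientGroup.mk' (powSub M n) (φ (s : M)) := by
  rw [cIdem, Ideal.IsPrime.prod_mem_iff]
  push Not
  constructor
  · intro h s
    rw [val_eq_iff]
    exact h s (Finset.mem_univ s)
  · intro h s _
    rw [← val_eq_iff (hw s)]
    exact h s

include hw in
theorem cIdem_idem (φ : M ≃* M) : cIdem n S w φ * cIdem n S w φ = cIdem n S w φ := by
  rw [cIdem, ← Finset.prod_mul_distrib]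
  refine Finset.prod_congr rfl (fun s _ => ?_)
  exact (SubDiag.isIdempotentElem_coeff (hw s) _).eq

variable (hsep : ∀ φ ∈ F, ∀ φ' ∈ F, (∀ s : S, QuotientGroup.mk' (powSub M n) (φ (s : M)) =
    QuotientGroup.mk' (powSub M n) (φ' (s : M))) → φ = φ')
  (hK : ∀ (x : Ideal T) [x.IsPrime], ∃ φ ∈ F, ∀ s : S,
    val (hw s) x = QuotientGroup.mk' (powSub M n) (φ (s : M)))

include hw hsep in
theorem cIdem_orth (φ : M ≃* M) (hφ : φ ∈ F) (φ' : M ≃* M) (hφ' : φ' ∈ F) (hne : φ ≠ φ') :
    cIdem n S w φ * cIdem n S w φ' = 0 := by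
  classical
  have h1 : ∃ s : S, QuotientGroup.mk' (powSub M n) (φ (s : M)) ≠
      QuotientGroup.mk' (powSub M n) (φ' (s : M)) := by
    by_contra hcon
    push Not at hcon
    exact hne (hsep φ hφ φ' hφ' hcon)
  obtain ⟨s, hs⟩ := h1
  rw [cIdem, cIdem, ← Finset.prod_mul_distrib]
  apply Finset.prod_eq_zero (Finset.mem_univ s)
  rw [SubDiag.coeff_mul_coeff (hw s), if_neg hs]

include hw hsep hK in
theorem isCOI_cIdem : IsCOI F (cIdem n S w) := by
  classical
  refine ⟨cIdem_orth n S F w hw hsep, ?_⟩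
  set e : T := ∑ φ ∈ F, cIdem n S w φ with he
  have hmul : ∀ φ₀ ∈ F, e * cIdem n S w φ₀ = cIdem n S w φ₀ := by
    intro φ₀ hφ₀
    rw [he, Finset.sum_mul, Finset.sum_eq_single φ₀]
    · exact cIdem_idem n S w hw φ₀
    · intro φ hφ hne
      exact cIdem_orth n S F w hw hsep φ hφ φ₀ hφ₀ hne
    · intro h
      exact absurd hφ₀ h
  have hee : e * e = e := by
    conv_lhs => rw [he, Finset.mul_sum]
    rw [he]
    refine Finset.sum_congr rfl (fun φ hφ => ?_)
    exact hmul φ hφ
  have hid : IsIdempotentElem (1 - e) := IsIdempotentElem.one_sub (show IsIdempotentElem e from hee)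
  have hnil : IsNilpotent (1 - e) := by
    rw [← mem_nilradical, nilradical_eq_sInf, Ideal.mem_sInf]
    intro x hx
    haveI : x.IsPrime := hx
    obtain ⟨φ₀, hφ₀, hv⟩ := hK x
    have h1 : cIdem n S w φ₀ ∉ x := (cIdem_notMem_iff n S w hw x φ₀).mpr hv
    have h2 : (1 - e) * cIdem n S w φ₀ ∈ x := by
      rw [sub_mul, one_mul, hmul φ₀ hφ₀, sub_self]
      exact x.zero_mem
    exact (hx.mem_or_mem h2).resolve_right h1
  have h0 := hid.eq_zero_of_isNilpotent hnil
  rw [sub_eq_zero] at h0
  exact h0.symm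

end COI

end Groth.Agent.Lib.Helper25.HensDiag
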