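import Groth.Agent.Lib.Helper25HensDiagD

/-!
# Diagonalisability over a Henselian pair, part E: the values of the transition maps (helper25)
-/

set_option autoImplicit false
set_option linter.unusedSectionVars false
set_option linter.style.haveILetI false
universe u

namespace Groth.Agent.Lib.Helper25.HensDiag

open TensorProduct SGA3b Groth.Agent.Lib.Helper25 DescGL Tors LCVal DescLift

section Sep

variable {M : Type u} [CommGroup M] [Group.FG M]

/-- A finite generating set and an exponent separating a finite set of automorphisms. -/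
theorem exists_sep (G : Set (M ≃* M)) (hG : G.Finite) :
    ∃ (S : Finset M) (n : ℕ), 0 < n ∧ ∀ φ ∈ G, ∀ φ' ∈ G,
      (∀ s : S, QuotientGroup.mk' (powSub M n) (φ (s : M)) =
        QuotientGroup.mk' (powSub M n) (φ' (s : M))) → φ = φ' := by
  classical
  obtain ⟨S, hS⟩ := Group.FG.out (G := M)
  have hX : (Set.image2 (fun (φ : M ≃* M) (s : M) => φ s) G (S : Set M)).Finite :=
    hG.image2 _ (Finset.finite_toSet S)
  obtain ⟨n, hn, hinj⟩ := Tors.exists_good_injOn (M := M) (p := 0) (Or.inl rfl)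
    (fun h => absurd rfl h) hX.toFinset
  refine ⟨S, n, hn.1, ?_⟩
  intro φ hφ φ' hφ' h
  apply MulEquiv.toMonoidHom_injective
  apply MonoidHom.eq_of_eqOn_dense hS
  intro s hs
  apply hinj
  · rw [Set.Finite.coe_toFinset]
    exact ⟨φ, hφ, s, hs, rfl⟩
  · rw [Set.Finite.coe_toFinset]
    exact ⟨φ', hφ', s, hs, rfl⟩
  · exact h ⟨s, hs⟩

end Sep

namespace CTriv

variable {R : Type u} [CommRing R] {A : Type u} [CommRing A] [HopfAlgebra R A]
  {M : Type u} [CommGroup M] (V : CTriv R A M) (I : Ideal R)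
  (e₀ : (R ⧸ I) ⊗[R] A ≃ₐc[R ⧸ I] MonoidAlgebra (R ⧸ I) M)

/-- The value of the transition map at a prime of the double overlap. -/
noncomputable def sigZ (i j : V.ι) (z : Ideal (V.T i j)) [z.IsPrime] : M ≃* M :=
  sigEquiv (V.Psi i j) (V.PsiInv i j) (V.PsiInv_comp_Psi i j) (V.Psi_comp_PsiInv i j) z

theorem sigZ_apply (i j : V.ι) (z : Ideal (V.T i j)) [z.IsPrime] (m : M) :
    V.sigZ i j z m = sig (V.Psi i j) z m := rfl

/-- The value of the comparison map at a prime of the reduction. -/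
noncomputable def tauY (j : V.ι) (y : Ideal (V.Qb I j)) [y.IsPrime] : M ≃* M :=
  sigEquiv (V.tau I e₀ j) (V.tauInv I e₀ j) (V.tauInv_comp_tau I e₀ j)
    (V.tau_comp_tauInv I e₀ j) y

theorem tauY_apply (j : V.ι) (y : Ideal (V.Qb I j)) [y.IsPrime] (m : M) :
    V.tauY I e₀ j y m = sig (V.tau I e₀ j) y m := rfl

/-- The finite set of values of the transition maps. -/
def SigSet : Set (M ≃* M) :=
  ⋃ (i : V.ι), ⋃ (j : V.ι),
    Set.range (fun z : PrimeSpectrum (V.T i j) => V.sigZ i j z.asIdeal)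

/-- The finite set of values of the comparison maps. -/
def Sig0Set : Set (M ≃* M) :=
  ⋃ (j : V.ι), Set.range (fun y : PrimeSpectrum (V.Qb I j) => V.tauY I e₀ j y.asIdeal)

theorem finite_SigSet [Group.FG M] : V.SigSet.Finite :=
  Set.finite_iUnion (fun _ => Set.finite_iUnion (fun _ => finite_range_sigEquiv _ _ _ _))

theorem finite_Sig0Set [Group.FG M] : (V.Sig0Set I e₀).Finite :=
  Set.finite_iUnion (fun _ => finite_range_sigEquiv _ _ _ _)

theorem sigZ_mem (i j : V.ι) (z : Ideal (V.T i j)) [hz : z.IsPrime] :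
    V.sigZ i j z ∈ V.SigSet := by
  simp only [SigSet, Set.mem_iUnion, Set.mem_range]
  exact ⟨i, j, ⟨z, hz⟩, rfl⟩

theorem tauY_mem (j : V.ι) (y : Ideal (V.Qb I j)) [hy : y.IsPrime] :
    V.tauY I e₀ j y ∈ V.Sig0Set I e₀ := by
  simp only [Sig0Set, Set.mem_iUnion, Set.mem_range]
  exact ⟨j, ⟨y, hy⟩, rfl⟩

/-- The possible values of the group-like lifts. -/
def FSet : Set (M ≃* M) :=
  Set.image2 (fun τ σ => τ.trans σ) (V.Sig0Set I e₀) V.SigSet

/-- The set on which the exponent must separate. -/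
def GSet : Set (M ≃* M) :=
  V.FSet I e₀ ∪ Set.image2 (fun φ σ => φ.trans σ) (V.FSet I e₀) V.SigSet

theorem finite_FSet [Group.FG M] : (V.FSet I e₀).Finite :=
  (V.finite_Sig0Set I e₀).image2 _ V.finite_SigSet

theorem finite_GSet [Group.FG M] : (V.GSet I e₀).Finite :=
  (V.finite_FSet I e₀).union ((V.finite_FSet I e₀).image2 _ V.finite_SigSet)

/-- Lifts of the generators to elements of `A` which are group-like modulo `n`-torsion. -/
structure Lifts (n : ℕ) (S : Finset M) where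
  a : S → A
  gl : ∀ i s, IsGroupLikeElem (V.Q i)
    (quotMap (V.Q i) M n (V.ε i ((1 : V.Q i) ⊗ₜ[R] a s)))
  red : ∀ s : S, quotMap (R ⧸ I) M n (e₀ ((1 : R ⧸ I) ⊗ₜ[R] a s)) =
    MonoidAlgebra.single (QuotientGroup.mk' (powSub M n) (s : M)) 1

namespace Lifts

variable {V I e₀} {n : ℕ} {S : Finset M} (L : V.Lifts I e₀ n S)

/-- The reductions of the trivialised lifts. -/
noncomputable abbrev w (i : V.ι) (s : S) : MonoidAlgebra (V.Q i) (M ⧸ powSub M n) :=
  quotMap (V.Q i) M n (V.ε i ((1 : V.Q i) ⊗ₜ[R] L.a s))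

theorem val1 (i j : V.ι) (s : S) (z : Ideal (V.T i j)) [z.IsPrime] :
    val (L.gl i s) (z.comap (V.iL i j).toRingHom) =
      sig (LCVal.red n (V.Psi i j)) z (val (L.gl j s) (z.comap (V.iR i j).toRingHom)) :=
  val_eq_sig_val (LCVal.red n (V.Psi i j)) (V.iL i j).toRingHom (V.iR i j).toRingHom (L.gl i s)
    (L.gl j s) (V.rel1 n (L.a s) i j) z

theorem val2 (j : V.ι) (s : S) (y : Ideal (V.Qb I j)) [y.IsPrime] :
    val (L.gl j s) (y.comap (V.mkb I j).toRingHom) =
      QuotientGroup.mk' (powSub M n) (sig (V.tau I e₀ j) y (s : M)) := by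
  have h := V.rel2 I e₀ n (L.a s) j
  rw [L.red s, MonoidAlgebra.mapRingHom_single, map_one] at h
  have h2 := val_eq_sig_val (LCVal.red n (V.tau I e₀ j)) (V.mkb I j).toRingHom (V.cb I j).toRingHom
    (L.gl j s) (isGroupLikeElem_single (T := R ⧸ I) (QuotientGroup.mk' (powSub M n) (s : M)))
    (by rw [MonoidAlgebra.mapRingHom_single, map_one]; exact h) y
  rw [h2, val_single, sig_red_mk]

include L in
theorem exists_phi (hI : I ≤ Ideal.jacobson ⊥) (i : V.ι) (x : Ideal (V.Q i)) [hx : x.IsPrime] :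
    ∃ φ ∈ V.FSet I e₀, ∀ s : S,
      val (L.gl i s) x = QuotientGroup.mk' (powSub M n) (φ (s : M)) := by
  haveI := V.flat
  haveI := V.ff
  obtain ⟨j, y, x', hy, hx', z, hz, hIy, hx'y, hzl, hzr⟩ := HPoints.exists_points I V.Q hI i x
  subst hzl
  subst hzr
  set J : Ideal (V.Q j) := I.map (algebraMap R (V.Q j)) with hJ
  set yb : Ideal (V.Qb I j) := y.map (Ideal.Quotient.mk J) with hyb
  haveI hybp : yb.IsPrime :=
    Ideal.map_isPrime_of_surjective Ideal.Quotient.mk_surjective (by rw [Ideal.mk_ker]; exact hIy)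
  have hcomap : yb.comap (V.mkb I j).toRingHom = y := by
    change (y.map (Ideal.Quotient.mk J)).comap (Ideal.Quotient.mk J) = y
    rw [Ideal.comap_map_of_surjective _ Ideal.Quotient.mk_surjective,
      ← RingHom.ker_eq_comap_bot, Ideal.mk_ker, sup_eq_left]
    exact hIy
  refine ⟨(V.tauY I e₀ j yb).trans (V.sigZ i j z),
    ⟨_, V.tauY_mem I e₀ j yb, _, V.sigZ_mem i j z, rfl⟩, fun s => ?_⟩
  rw [L.val1 i j s z, val_of_le (L.gl j s) hx'y, ← val_of_le (L.gl j s) (le_of_eq hcomap),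
    L.val2 j s yb, sig_red_mk]
  rfl

end Lifts

end CTriv

end Groth.Agent.Lib.Helper25.HensDiag
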