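import Groth.Agent.Lib.Helper25HensDiagE
import Groth.Agent.Lib.Helper25DescUniq
import Groth.Agent.Lib.Helper25MTGlueA

/-!
# Diagonalisability over a Henselian pair, part F: correcting the trivialisations (helper25)
-/

set_option autoImplicit false
set_option linter.unusedSectionVars false
set_option linter.style.haveILetI false
universe u

namespace Groth.Agent.Lib.Helper25.HensDiag

open TensorProduct SGA3b Groth.Agent.Lib.Helper25 DescGL Tors LCVal DescLift

namespace CTriv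

variable {R : Type u} [CommRing R] {A : Type u} [CommRing A] [HopfAlgebra R A]
  {M : Type u} [CommGroup M] (V : CTriv R A M)

/-- The trivial descent datum on the family of `V`. -/
@[reducible] noncomputable def trivDatum : Desc.Datum R where
  ι := V.ι
  P := V.Q
  M := fun _ => M
  flat := V.flat
  ff := V.ff
  Ψ := fun _ _ T _ _ _ _ => BialgHom.id T (MonoidAlgebra T M)
  nat := fun _ _ _ _ _ _ _ _ f _ _ => bcHom_id f.toRingHom
  id := fun _ _ _ _ _ => rfl
  cocycle := fun _ _ _ _ _ _ _ _ _ => rfl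

noncomputable instance instHopfTrivDatumA : HopfAlgebra R V.trivDatum.A :=
  Desc.Datum.hopfAlgebra V.trivDatum

/-- A Hopf algebra with compatible constant trivialisations is diagonalisable. -/
theorem nonempty_equiv_of_compat
    (ε' : ∀ i, V.Q i ⊗[R] A ≃ₐc[V.Q i] MonoidAlgebra (V.Q i) M)
    (h : ∀ (a : A) (i j : V.ι),
      MonoidAlgebra.mapRingHom M (V.iR i j).toRingHom (ε' j ((1 : V.Q j) ⊗ₜ[R] a)) =
        MonoidAlgebra.mapRingHom M (V.iL i j).toRingHom (ε' i ((1 : V.Q i) ⊗ₜ[R] a))) :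
    Nonempty (A ≃ₐc[R] MonoidAlgebra R M) := by
  obtain ⟨e1⟩ := V.trivDatum.nonempty_equiv_of_triv (B := A) ε' (by
    intro a
    rw [Desc.Datum.mem_A_iff]
    intro i j
    rw [Desc.Datum.resR_apply, Desc.Datum.resL_apply, Desc.Datum.toPi_apply,
      Desc.Datum.toPi_apply]
    exact h a i j)
  obtain ⟨e2⟩ := V.trivDatum.nonempty_equiv_of_triv (B := MonoidAlgebra R M)
    (fun i => BCB.steBialg R (V.Q i) M) (by
    intro a
    rw [Desc.Datum.mem_A_iff]
    intro i j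
    rw [Desc.Datum.resR_apply, Desc.Datum.resL_apply, Desc.Datum.toPi_apply,
      Desc.Datum.toPi_apply, MTGlue.steBialg_one_tmul, MTGlue.steBialg_one_tmul]
    change MonoidAlgebra.mapRingHom M (V.iR i j).toRingHom
      (MonoidAlgebra.mapRingHom M (algebraMap R (V.Q j)) a) =
      MonoidAlgebra.mapRingHom M (V.iL i j).toRingHom
        (MonoidAlgebra.mapRingHom M (algebraMap R (V.Q i)) a)
    apply MonoidAlgebra.coeff_injective
    ext m
    simp only [MonoidAlgebra.coeff_mapRingHom]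
    change (V.iR i j) (algebraMap R (V.Q j) (a.coeff m)) =
      (V.iL i j) (algebraMap R (V.Q i) (a.coeff m))
    rw [AlgHom.commutes, AlgHom.commutes])
  exact ⟨e1.trans e2.symm⟩

namespace Lifts

variable {V} {I : Ideal R} {e₀ : (R ⧸ I) ⊗[R] A ≃ₐc[R ⧸ I] MonoidAlgebra (R ⧸ I) M}
  {n : ℕ} {S : Finset M} (L : V.Lifts I e₀ n S)

include L in
/-- The main step: correct the trivialisations by locally constant automorphisms. -/
theorem nonempty_equiv [Group.FG M] (hI : I ≤ Ideal.jacobson ⊥)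
    (hsep : ∀ φ ∈ V.GSet I e₀, ∀ φ' ∈ V.GSet I e₀,
      (∀ s : S, QuotientGroup.mk' (powSub M n) (φ (s : M)) =
        QuotientGroup.mk' (powSub M n) (φ' (s : M))) → φ = φ') :
    Nonempty (A ≃ₐc[R] MonoidAlgebra R M) := by
  classical
  set F : Finset (M ≃* M) := (V.finite_FSet I e₀).toFinset with hFdef
  have hF : ∀ φ, φ ∈ F ↔ φ ∈ V.FSet I e₀ := fun φ => Set.Finite.mem_toFinset _
  have hFG : ∀ φ, φ ∈ F → φ ∈ V.GSet I e₀ := fun φ h => Or.inl ((hF φ).mp h)
  have hsepF : ∀ φ ∈ F, ∀ φ' ∈ F, (∀ s : S, QuotientGroup.mk' (powSub M n) (φ (s : M)) =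
      QuotientGroup.mk' (powSub M n) (φ' (s : M))) → φ = φ' :=
    fun φ hφ φ' hφ' h => hsep φ (hFG φ hφ) φ' (hFG φ' hφ') h
  have hK : ∀ (i : V.ι) (x : Ideal (V.Q i)) [x.IsPrime], ∃ φ ∈ F, ∀ s : S,
      val (L.gl i s) x = QuotientGroup.mk' (powSub M n) (φ (s : M)) := by
    intro i x _
    obtain ⟨φ, hφ, h⟩ := L.exists_phi hI i x
    exact ⟨φ, (hF φ).mpr hφ, h⟩
  have hcoi : ∀ i, IsCOI F (cIdem n S (L.w i)) :=
    fun i => isCOI_cIdem n S F (L.w i) (L.gl i) hsepF (hK i)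
  -- the correcting automorphisms
  let β : ∀ i, MonoidAlgebra (V.Q i) M →ₐc[V.Q i] MonoidAlgebra (V.Q i) M :=
    fun i => lcHom (hcoi i) (fun φ => φ.symm.toMonoidHom)
  let α : ∀ i, MonoidAlgebra (V.Q i) M ≃ₐc[V.Q i] MonoidAlgebra (V.Q i) M :=
    fun i => lcEquiv (hcoi i) (fun φ => φ)
  have hαβ : ∀ i u, (α i).symm u = β i u := fun i u => rfl
  -- the relation between the values
  have hrho : ∀ (i j : V.ι) (z : Ideal (V.T i j)) [z.IsPrime] (φ : M ≃* M) (_ : φ ∈ F)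
      (_ : cIdem n S (L.w i) φ ∉ z.comap (V.iL i j).toRingHom) (φ' : M ≃* M) (_ : φ' ∈ F)
      (_ : cIdem n S (L.w j) φ' ∉ z.comap (V.iR i j).toRingHom),
      φ = φ'.trans (V.sigZ i j z) := by
    intro i j z _ φ hφ hc φ' hφ' hc'
    apply hsep φ (hFG φ hφ) (φ'.trans (V.sigZ i j z))
      (Or.inr ⟨φ', (hF φ').mp hφ', _, V.sigZ_mem i j z, rfl⟩)
    intro s
    have h1 := (cIdem_notMem_iff n S (L.w i) (L.gl i) _ φ).mp hc s
    have h2 := (cIdem_notMem_iff n S (L.w j) (L.gl j) _ φ').mp hc' s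
    rw [← h1, L.val1 i j s z, h2, sig_red_mk]
    rfl
  have hkey : ∀ i j : V.ι, bcHom (V.iR i j).toRingHom (β j) =
      (bcHom (V.iL i j).toRingHom (β i)).comp (V.Psi i j) := by
    intro i j
    apply ext_of_sig
    intro z _
    obtain ⟨φ, hφ, hc⟩ := (hcoi i).exists_notMem (z.comap (V.iL i j).toRingHom)
    obtain ⟨φ', hφ', hc'⟩ := (hcoi j).exists_notMem (z.comap (V.iR i j).toRingHom)
    have hrel := hrho i j z φ hφ hc φ' hφ' hc'
    rw [sig_comp, sig_bcHom, sig_bcHom, sig_lcHom (hcoi j) _ _ hφ' hc',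
      sig_lcHom (hcoi i) _ _ hφ hc]
    ext m
    rw [MonoidHom.comp_apply, hrel]
    change φ'.symm m = φ'.symm ((V.sigZ i j z).symm (sig (V.Psi i j) z m))
    rw [← V.sigZ_apply, MulEquiv.symm_apply_apply]
  apply V.nonempty_equiv_of_compat (fun i => (V.ε i).trans (α i).symm)
  intro a i j
  change MonoidAlgebra.mapRingHom M (V.iR i j).toRingHom
      ((α j).symm (V.ε j ((1 : V.Q j) ⊗ₜ[R] a))) =
    MonoidAlgebra.mapRingHom M (V.iL i j).toRingHom ((α i).symm (V.ε i ((1 : V.Q i) ⊗ₜ[R] a)))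
  rw [hαβ, hαβ, ← bcHom_mapRingHom, ← bcHom_mapRingHom, hkey, BialgHom.comp_apply, V.Psi_apply]

end Lifts

end CTriv

end Groth.Agent.Lib.Helper25.HensDiag
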