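import Groth.Agent.Lib.Helper25HensDiagF

/-!
# Diagonalisability over a Henselian pair, part G: the constant-type case (helper25)

`isDiag_of_hens`: if `I ≤ rad R`, idempotents lift along `X → X/IX` for finite `R`-algebras `X`,
`A` is trivialised with constant type `M` (finitely generated) over a finite jointly faithfully
flat family of flat algebras and `A/IA ≅ (R/I)[M]`, then `A ≅ R[M]`.
-/

set_option autoImplicit false
set_option linter.unusedSectionVars false
set_option linter.style.haveILetI false
universe u

namespace Groth.Agent.Lib.Helper25.HensDiag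

open TensorProduct SGA3b Groth.Agent.Lib.Helper25 DescGL Tors LCVal DescLift

variable {R : Type u} [CommRing R] {A : Type u} [CommRing A] [HopfAlgebra R A]
  {M : Type u} [CommGroup M] [Group.FG M]

theorem isDiag_of_hens (V : CTriv R A M) (I : Ideal R) (hI : I ≤ Ideal.jacobson ⊥)
    (hIL : ∀ (X : Type u) [CommRing X] [Algebra R X] [Module.Finite R X],
      IdemLift (I.map (algebraMap R X)))
    (e₀ : (R ⧸ I) ⊗[R] A ≃ₐc[R ⧸ I] MonoidAlgebra (R ⧸ I) M) :
    Nonempty (A ≃ₐc[R] MonoidAlgebra R M) := by
  obtain ⟨S, n, hn, hsep⟩ := exists_sep (V.GSet I e₀) (V.finite_GSet I e₀)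
  haveI := V.isCocomm
  haveI := TorsHopf.isHopfIdeal_torsionIdeal R A n
  have key : ∀ s : S, ∃ a : A,
      IsGroupLikeElem R (Ideal.Quotient.mk (torsionIdeal R A n) a) ∧
      quotMap (R ⧸ I) M n (e₀ ((1 : R ⧸ I) ⊗ₜ[R] a)) =
        MonoidAlgebra.single (QuotientGroup.mk' (powSub M n) (s : M)) 1 :=
    fun s => exists_lift_torsion V n (torsionIdeal R A n) rfl hn I hI hIL e₀ s
  choose a ha using key
  let L : V.Lifts I e₀ n S :=
    { a := a
      gl := by
        intro i s
        have h := (LocRigid.isGroupLikeElem_one_tmul' (S := V.Q i) (ha s).1).map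
          (redE (V.ε i) n (torsionIdeal R A n) rfl)
        rw [redE_one_tmul_mk] at h
        exact h
      red := fun s => (ha s).2 }
  exact L.nonempty_equiv hI hsep

end Groth.Agent.Lib.Helper25.HensDiag
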