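import Groth.Agent.Lib.Helper25HensDiagG
import Groth.Agent.Lib.Helper25MTGlueA

/-!
# Diagonalisability over a Henselian pair, part H: reduction to constant type (helper25)

A group of multiplicative type over `R` (with `I ≤ rad R`) whose reduction modulo `I` is
diagonalisable of type `M` is trivialised with constant type `M` over a finite jointly faithfully
flat family.
-/

set_option autoImplicit false
set_option linter.unusedSectionVars false
set_option linter.style.haveILetI false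
universe u

namespace Groth.Agent.Lib.Helper25.HensDiag

open TensorProduct SGA3b Groth.Agent.Lib.Helper25 DescGL Tors LCVal DescLift

section H1

variable {R : Type u} [CommRing R] {A : Type u} [CommRing A] [HopfAlgebra R A]
  {M : Type u} [CommGroup M]

theorem flat_of_flat_pi {ι : Type u} [Fintype ι] [DecidableEq ι] (S : ι → Type u)
    [∀ i, CommRing (S i)] [∀ i, Algebra R (S i)] [Module.Flat R (∀ i, S i)] (i : ι) :
    Module.Flat R (S i) :=
  Module.Flat.of_retract (M := ∀ i, S i) (LinearMap.single R S i) (LinearMap.proj i) (by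
    ext x
    simp)

/-- The type of a trivialisation over an algebra meeting `V(I)` is the type of the reduction. -/
theorem nonempty_mulEquiv_of_map_ne_top (I : Ideal R)
    (e₀ : (R ⧸ I) ⊗[R] A ≃ₐc[R ⧸ I] MonoidAlgebra (R ⧸ I) M)
    (S : Type u) [CommRing S] [Algebra R S] (hS : I.map (algebraMap R S) ≠ ⊤)
    (N : Type u) [CommGroup N] (e : S ⊗[R] A ≃ₐc[S] MonoidAlgebra S N) : Nonempty (N ≃* M) := by
  obtain ⟨y, hy, hIy⟩ := Ideal.exists_le_maximal _ hS
  letI : Field (S ⧸ y) := Ideal.Quotient.field y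
  let cb : R ⧸ I →ₐ[R] S ⧸ y :=
    Ideal.Quotient.liftₐ I (Algebra.ofId R (S ⧸ y)) (by
      intro r hr
      rw [Algebra.ofId_apply, IsScalarTower.algebraMap_apply R S (S ⧸ y),
        Ideal.Quotient.algebraMap_eq, Ideal.Quotient.eq_zero_iff_mem]
      exact hIy (Ideal.mem_map_of_mem _ hr))
  letI : Algebra (R ⧸ I) (S ⧸ y) := cb.toRingHom.toAlgebra
  haveI : IsScalarTower R (R ⧸ I) (S ⧸ y) :=
    IsScalarTower.of_algebraMap_eq (fun r => (cb.commutes r).symm)
  let e1 : (S ⧸ y) ⊗[R] A ≃ₐc[S ⧸ y] MonoidAlgebra (S ⧸ y) N := MTGlue.bcDiag R S (S ⧸ y) e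
  let e2 : (S ⧸ y) ⊗[R] A ≃ₐc[S ⧸ y] MonoidAlgebra (S ⧸ y) M :=
    MTGlue.bcDiag R (R ⧸ I) (S ⧸ y) e₀
  exact ⟨MTGlue.mulEquiv_of_bialgEquiv (e1.symm.trans e2)⟩

/-- Reduction to constant type. -/
theorem nonempty_ctriv (D : NilLift.DiagFam R A) (I : Ideal R) (hI : I ≤ Ideal.jacobson ⊥)
    (e₀ : (R ⧸ I) ⊗[R] A ≃ₐc[R ⧸ I] MonoidAlgebra (R ⧸ I) M) : Nonempty (CTriv R A M) := by
  classical
  haveI := D.ff
  haveI hflat : ∀ i, Module.Flat R (D.S i) := fun i => flat_of_flat_pi D.S i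
  let ι' : Type u := {i : D.ι // I.map (algebraMap R (D.S i)) ≠ ⊤}
  have hff : Module.FaithfullyFlat R (∀ i : ι', D.S i.1) := by
    apply FamDesc.faithfullyFlat_pi (fun i : ι' => D.S i.1)
    intro m hm
    haveI := hm
    obtain ⟨j, hj⟩ := HPoints.exists_map_ne_top D.S m
    have hIm : I ≤ m := hI.trans (sInf_le ⟨bot_le, hm⟩)
    have hj' : I.map (algebraMap R (D.S j)) ≠ ⊤ := by
      intro h
      apply hj
      rw [eq_top_iff, ← h]
      exact Ideal.map_mono hIm
    refine ⟨⟨j, hj'⟩, ?_⟩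
    rw [Ideal.smul_top_eq_map]
    intro h
    apply hj
    rw [Submodule.restrictScalars_eq_top_iff] at h
    exact h
  have key : ∀ i : ι', Nonempty (D.S i.1 ⊗[R] A ≃ₐc[D.S i.1] MonoidAlgebra (D.S i.1) M) := by
    intro i
    obtain ⟨N, _, ⟨e⟩⟩ := D.diag i.1
    obtain ⟨φ⟩ := nonempty_mulEquiv_of_map_ne_top I e₀ (D.S i.1) i.2 N e
    exact ⟨e.trans (MonoidAlgebra.domCongrBialgEquiv (D.S i.1) (D.S i.1) φ)⟩
  exact ⟨{ ι := ι'
           Q := fun i => D.S i.1
           flat := fun i => hflat i.1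
           ff := hff
           ε := fun i => (key i).some }⟩

/-- Diagonalisability of groups of multiplicative type over a base with lifting of
idempotents, given diagonalisability modulo `I`. -/
theorem isDiag_of_hens_multType [Group.FG M] (I : Ideal R) (hI : I ≤ Ideal.jacobson ⊥)
    (hIL : ∀ (X : Type u) [CommRing X] [Algebra R X] [Module.Finite R X],
      IdemLift (I.map (algebraMap R X)))
    (h : IsMultType R A)
    (e₀ : (R ⧸ I) ⊗[R] A ≃ₐc[R ⧸ I] MonoidAlgebra (R ⧸ I) M) :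
    Nonempty (A ≃ₐc[R] MonoidAlgebra R M) := by
  obtain ⟨D⟩ := NilLift.nonempty_diagFam (SubDiag.hasDiagCover_of_isMultType h)
  obtain ⟨V⟩ := nonempty_ctriv D I hI e₀
  exact isDiag_of_hens V I hI hIL e₀

end H1

end Groth.Agent.Lib.Helper25.HensDiag
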