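import Groth.Agent.Lib.Helper25Reynolds
import Groth.Prelude.Def_ComodTens

/-!
# Universe-polymorphic consequences of linear reductivity (helper25)

`HopfRep.IsLinearlyReductive k H` only quantifies over comodules in the universe of `H`.  Here we
show that nevertheless every comodule, in any universe, is semisimple, and derive lifting of
invariants along surjections.
-/

set_option autoImplicit false
universe u v w w'

namespace Groth.Agent.Lib.Helper25.Univ

open TensorProduct HopfRep Groth.Agent.Lib.Helper25

variable {k : Type u} [Field k] {H : Type v} [CommRing H] [Bialgebra k H]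

theorem isSemisimpleComod_of_equiv {V : Type w} {W : Type w'} [AddCommGroup V] [Module k V]
    [AddCommGroup W] [Module k W] [Comod k H V] [Comod k H W] (e : V ≃ₗ[k] W)
    (he : Hoch.IsComodHom H (e : V →ₗ[k] W)) (hV : IsSemisimpleComod k H V) :
    IsSemisimpleComod k H W := by
  intro U hU
  obtain ⟨U', hU', hc⟩ := hV (U.comap (e : V →ₗ[k] W)) (isSubcomod_comap he hU)
  refine ⟨U'.map (e : V →ₗ[k] W), isSubcomod_map he hU', ?_⟩
  have h1 : (U.comap (e : V →ₗ[k] W)).map (e : V →ₗ[k] W) = U :=
    Submodule.map_comap_eq_of_surjective e.surjective U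
  rw [← h1]
  exact (Submodule.orderIsoMapComap e).isCompl_iff.mp hc

theorem nontrivial_of_bialgebra (k : Type u) [Field k] (H : Type v) [CommRing H] [Bialgebra k H] :
    Nontrivial H := by
  refine ⟨⟨0, 1, fun h => ?_⟩⟩
  have := congrArg (Bialgebra.counitAlgHom k H) h
  simp at this

theorem isSemisimpleComod (hG : IsLinearlyReductive k H)
    (V : Type w) [AddCommGroup V] [Module k V] [Comod k H V] : IsSemisimpleComod k H V := by
  haveI : Nontrivial H := nontrivial_of_bialgebra k H
  apply isSemisimpleComod_of_forall_fg
  intro U hU hfg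
  letI cU : Comod k H U := subComod U hU
  haveI : Module.Finite k U := Module.Finite.iff_fg.mpr hfg
  let L : Submodule k H := Submodule.span k {(1 : H)}
  let e0 : k ≃ₗ[k] L := LinearEquiv.toSpanNonzeroSingleton k H 1 one_ne_zero
  let e : U ≃ₗ[k] (Fin (Module.finrank k U) → L) :=
    (Module.finBasis k U).equivFun ≪≫ₗ LinearEquiv.piCongrRight (fun _ => e0)
  letI c' : Comod k H (Fin (Module.finrank k U) → L) := ComodTens.Comod.ofEquiv e cU
  have hss' : IsSemisimpleComod k H (Fin (Module.finrank k U) → L) := hG _ inferInstance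
  have he : Hoch.IsComodHom H (e : U →ₗ[k] (Fin (Module.finrank k U) → L)) := by
    unfold Hoch.IsComodHom
    ext x
    simp only [LinearMap.comp_apply]
    exact ComodTens.ofEquiv_coact_apply e cU x
  exact isSemisimpleComod_of_equiv e.symm (isComodHom_symm e he) hss'

/-- For a linearly reductive bialgebra, invariants lift along surjective comodule maps
(comodules in any universes). -/
theorem exists_fixedPts_map_eq (hG : IsLinearlyReductive k H)
    (V : Type w) (W : Type w') [AddCommGroup V] [Module k V] [Comod k H V]
    [AddCommGroup W] [Module k W] [Comod k H W]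
    (φ : V →ₗ[k] W) (hφ : Hoch.IsComodHom H φ) (hsurj : Function.Surjective φ)
    (w : W) (hw : w ∈ fixedPts k H W) :
    ∃ v ∈ fixedPts k H V, φ v = w := by
  have hssV := isSemisimpleComod hG V
  have hssW := isSemisimpleComod hG W
  obtain ⟨E, hE, hEE, hEx⟩ := exists_reynolds hssV
  obtain ⟨E', hE', hEE', hEx'⟩ := exists_reynolds hssW
  have hcomm := reynolds_comm hssV hE hEE hEx hE' hEE' hEx' hφ
  obtain ⟨v₀, rfl⟩ := hsurj w
  refine ⟨E v₀, (hEx _).mp (LinearMap.congr_fun hEE v₀), ?_⟩
  have := LinearMap.congr_fun hcomm v₀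
  simp only [LinearMap.comp_apply] at this
  rw [← this]
  exact (hEx' _).mpr hw

end Groth.Agent.Lib.Helper25.Univ
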