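import Groth.Agent.Lib.Helper25PolyComod
import Groth.Agent.Lib.Helper25UnivSS

/-!
# Hilbert's finiteness theorem for finite type equivariant algebras, universe polymorphic (helper25)
-/

set_option autoImplicit false
universe u v w w'
open TensorProduct HopfRep

namespace Groth.Agent.Lib.Helper25.Univ

open Groth.Agent.Lib.Helper25

section HilbertGeneral
variable {k : Type u} [Field k] {H : Type v} [CommRing H] [HopfAlgebra k H]
variable {A₀ : Type w} [CommRing A₀] [Algebra k A₀] [Comod k H A₀] [GLin.IsCoactAlg k H A₀]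
variable {R : Type w'} [CommRing R] [Algebra k R] [Algebra A₀ R] [IsScalarTower k A₀ R]
  [Comod k H R] [GLin.IsCoactAlg k H R]

theorem exists_finset_invariants_eq_adjoin (hG : IsLinearlyReductive k H) [IsNoetherianRing A₀]
    [Algebra.FiniteType A₀ R]
    (hAC : Hoch.IsComodHom H (IsScalarTower.toAlgHom k A₀ R).toLinearMap) :
    ∃ s : Finset R, GLin.invariants k H R =
      Algebra.adjoin k (⇑(algebraMap A₀ R) '' ↑(GLin.invariants k H A₀) ∪ ↑s) := by
  classical
  obtain ⟨t, ht⟩ := (Algebra.FiniteType.out : (⊤ : Subalgebra A₀ R).FG)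
  obtain ⟨V, hVfg, hV, htV⟩ := exists_fg_subcomod_ge (k := k) (A := H) (Submodule.span k (t : Set R))
    (Submodule.fg_span t.finite_toSet)
  letI cV : Comod k H V := subComod V hV
  haveI : Module.Finite k V := Module.Finite.iff_fg.mpr hVfg
  let b := Module.finBasis k V
  set a : Matrix (Fin (Module.finrank k V)) (Fin (Module.finrank k V)) H := comatrix (A := H) b with hadef
  have ha : IsComatrix (k := k) a := isComatrix_comatrix b
  let v : Fin (Module.finrank k V) → R := fun j => (b j : R)
  have hv : ∀ j, Comod.coact (k := k) (A := H) (v j) = ∑ i, v i ⊗ₜ[k] a i j := by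
    intro j
    have h1 := isComodHom_apply (isComodHom_subtype V hV) (b j)
    have h2 : Comod.coact (k := k) (A := H) (b j) = ∑ i, b i ⊗ₜ[k] a i j := coact_basis b j
    rw [h2, map_sum] at h1
    simpa using h1
  letI cP : Comod k H (MvPolynomial (Fin (Module.finrank k V)) A₀) := polyComod (A₀ := A₀) a ha
  haveI : GLin.IsCoactAlg k H (MvPolynomial (Fin (Module.finrank k V)) A₀) :=
    polyComod_isCoactAlg (A₀ := A₀) a ha
  set π : MvPolynomial (Fin (Module.finrank k V)) A₀ →ₐ[A₀] R := MvPolynomial.aeval v with hπ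
  have hπcom : Hoch.IsComodHom H (π.restrictScalars k).toLinearMap := isComodHom_aeval a ha hAC v hv
  have hπsurj : Function.Surjective π := by
    rw [← AlgHom.range_eq_top, eq_top_iff, ← ht]
    apply Algebra.adjoin_le
    intro x hx
    have hxV : x ∈ V := htV (Submodule.subset_span hx)
    have : (⟨x, hxV⟩ : V) ∈ Submodule.span k (Set.range b) := by
      rw [b.span_eq]; exact Submodule.mem_top
    have h2 : x ∈ Submodule.map V.subtype (Submodule.span k (Set.range b)) := ⟨_, this, rfl⟩
    rw [Submodule.map_span] at h2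
    have h3 : Submodule.span k (V.subtype '' Set.range b) ≤ (π.range.toSubmodule).restrictScalars k := by
      apply Submodule.span_le.mpr
      rintro _ ⟨_, ⟨j, rfl⟩, rfl⟩
      exact ⟨MvPolynomial.X j, by simp [hπ, v]⟩
    exact h3 h2
  have hss := isSemisimpleComod hG (MvPolynomial (Fin (Module.finrank k V)) A₀)
  obtain ⟨s, hs, hgen⟩ := exists_finset_invariants_adjoin_graded (k := k) (H := H) hss
    (fun d => isComodHom_hcK (A₀ := A₀) a ha d)
  refine ⟨s.image π, ?_⟩
  apply le_antisymm
  · intro f hf
    obtain ⟨p, hp, rfl⟩ := exists_fixedPts_map_eq hG _ _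
      (π.restrictScalars k).toLinearMap hπcom hπsurj f hf
    have h1 := hgen p hp
    have h2 : (π.restrictScalars k) p ∈ (Algebra.adjoin k
        ({f | f ∈ fixedPts k H (MvPolynomial (Fin (Module.finrank k V)) A₀) ∧
          ∃ a, f = MvPolynomial.C a} ∪ ↑s)).map (π.restrictScalars k) := ⟨p, h1, rfl⟩
    rw [AlgHom.map_adjoin] at h2
    refine Algebra.adjoin_mono ?_ h2
    rintro _ ⟨g, (⟨hgfix, r, rfl⟩ | hg), rfl⟩
    · left
      refine ⟨r, mem_fixedPts_of_C_mem_fixedPts a ha r hgfix, ?_⟩
      simp [hπ]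
    · right
      simp only [Finset.coe_image]
      exact ⟨g, hg, rfl⟩
  · apply Algebra.adjoin_le
    rintro _ (⟨r, hr, rfl⟩ | hg)
    · have := map_mem_fixedPts hAC (v := r) hr
      exact this
    · simp only [Finset.coe_image] at hg
      obtain ⟨g, hg, rfl⟩ := hg
      exact map_mem_fixedPts hπcom (hs g hg)

end HilbertGeneral

end Groth.Agent.Lib.Helper25.Univ
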