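import Groth.Agent.Lib.Helper25Hoch1

/-!
# Vanishing of H¹ in the presence of a normalised right integral (helper25)
-/

set_option autoImplicit false
universe u v w

namespace Groth.Agent.Lib.Helper25

open TensorProduct HopfRep Module

section SliceLemmas

variable {k : Type u} [CommRing k] {A : Type v} [AddCommGroup A] [Module k A]
variable {V : Type w} [AddCommGroup V] [Module k V]

theorem slice_assoc_symm_lTensor (φ : A →ₗ[k] k) (g : A →ₗ[k] A ⊗[k] A) (x : V ⊗[k] A) :
    slice (V ⊗[k] A) φ ((TensorProduct.assoc k V A A).symm (g.lTensor V x)) =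
      (slice A φ ∘ₗ g).lTensor V x := by
  induction x using TensorProduct.induction_on with
  | zero => simp
  | add x y hx hy => simp only [map_add, hx, hy]
  | tmul v a =>
    rw [LinearMap.lTensor_tmul, LinearMap.lTensor_tmul, LinearMap.comp_apply]
    generalize g a = z
    induction z using TensorProduct.induction_on with
    | zero => simp
    | add x y hx hy => simp only [TensorProduct.tmul_add, map_add, hx, hy]
    | tmul b c =>
      simp only [TensorProduct.assoc_symm_tmul, slice_tmul, TensorProduct.tmul_smul,
        TensorProduct.smul_tmul']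

theorem lTensor_toSpanSingleton_comp (l : A →ₗ[k] k) (a₀ : A) (x : V ⊗[k] A) :
    ((LinearMap.toSpanSingleton k A a₀) ∘ₗ l).lTensor V x = (slice V l x) ⊗ₜ[k] a₀ := by
  induction x using TensorProduct.induction_on with
  | zero => simp
  | add x y hx hy => simp only [map_add, hx, hy, TensorProduct.add_tmul]
  | tmul v a =>
    simp only [LinearMap.lTensor_tmul, LinearMap.coe_comp, Function.comp_apply,
      LinearMap.toSpanSingleton_apply, slice_tmul, TensorProduct.tmul_smul,
      TensorProduct.smul_tmul']

end SliceLemmas

section Integral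

variable {k : Type u} [CommRing k] {A : Type v} [Ring A] [Bialgebra k A]
variable {V : Type v} [AddCommGroup V] [Module k V] [Comod k A V]

/-- If `A` has a functional `l` with `l 1 = 1` and `Σ a₁ l(a₂) = l(a) 1`, every 1-cocycle
is a coboundary. -/
theorem cocycles_one_le_coboundaries_of_integral (l : A →ₗ[k] k) (h1 : l 1 = 1)
    (hl : ∀ a : A, slice A l (CoalgebraStruct.comul (R := k) a) = l a • (1 : A)) :
    Hoch.cocycles k A V 1 ≤ Hoch.coboundaries k A V 1 := by
  intro x hx
  have hx0 : Hoch.d k A V 1 x = 0 := hx
  rw [d1_apply] at hx0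
  have h := congrArg (slice (V ⊗[k] A) l) hx0
  rw [map_add, map_sub, map_zero, slice_rTensor, slice_assoc_symm_lTensor, slice_tmul, h1,
    one_smul] at h
  have h2 : (slice A l ∘ₗ CoalgebraStruct.comul (R := k) (A := A)).lTensor V x =
      (slice V l x) ⊗ₜ[k] (1 : A) := by
    have : slice A l ∘ₗ CoalgebraStruct.comul (R := k) (A := A) =
        (LinearMap.toSpanSingleton k A 1) ∘ₗ l := by
      ext a
      simp only [LinearMap.coe_comp, Function.comp_apply, hl, LinearMap.toSpanSingleton_apply]
    rw [this, lTensor_toSpanSingleton_comp]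
  rw [h2] at h
  refine ⟨- slice V l x, ?_⟩
  rw [d0_apply, map_neg, TensorProduct.neg_tmul]
  have hx' : x = - (Comod.coact (k := k) (A := A) (slice V l x) - slice V l x ⊗ₜ[k] (1 : A)) := by
    rw [eq_neg_iff_add_eq_zero, add_comm]
    exact h
  refine Eq.trans ?_ hx'.symm
  abel

end Integral

end Groth.Agent.Lib.Helper25
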