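import Groth.Agent.Lib.Helper25QIsoG
import Groth.Agent.Lib.Helper25DescLift

/-!
# Base change relations for bialgebra maps `S ⊗ C → S ⊗ B` (helper25)

* `IsBC j f g`: the bialgebra map `g` over `T` is a base change of `f` over `S` along `j : S → T`.
* `exists_isBC`, `IsBC.unique`, `IsBC.comp`, `IsBC.apply`.
* `bcOf T φ`: base change of `φ : C → B`.
* `toGA`, `ofGA`: transport along trivialisations to maps of group algebras; `isBC_toGA`:
  compatibility with `bcHom`.
-/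

set_option autoImplicit false
set_option linter.unusedSectionVars false
set_option linter.style.haveILetI false
universe u

namespace Groth.Agent.Lib.Helper25.HomLift

open TensorProduct SGA3b Groth.Agent.Lib.Helper25 DescGL DescLift BCB

section Basic

variable {R : Type u} [CommRing R] {B C : Type u} [CommRing B] [CommRing C]
  [HopfAlgebra R B] [HopfAlgebra R C]

section MapLemmas

variable {S T U : Type u} [CommRing S] [CommRing T] [CommRing U] [Algebra R S] [Algebra R T]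
  [Algebra R U]

theorem map_smul' (j : S →ₐ[R] T) (s : S) (w : S ⊗[R] B) :
    Algebra.TensorProduct.map j (AlgHom.id R B) (s • w) =
      j s • Algebra.TensorProduct.map j (AlgHom.id R B) w := by
  induction w using TensorProduct.induction_on with
  | zero => simp
  | add x y hx hy => rw [smul_add, map_add, hx, hy, map_add, smul_add]
  | tmul s' b =>
    rw [TensorProduct.smul_tmul', Algebra.TensorProduct.map_tmul, Algebra.TensorProduct.map_tmul,
      TensorProduct.smul_tmul', smul_eq_mul, smul_eq_mul, map_mul]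

theorem map_map' (j : S →ₐ[R] T) (j' : T →ₐ[R] U) (w : S ⊗[R] B) :
    Algebra.TensorProduct.map j' (AlgHom.id R B) (Algebra.TensorProduct.map j (AlgHom.id R B) w) =
      Algebra.TensorProduct.map (j'.comp j) (AlgHom.id R B) w := by
  induction w using TensorProduct.induction_on with
  | zero => simp
  | tmul s x => rfl
  | add x y hx hy => rw [map_add, map_add, map_add, hx, hy]

end MapLemmas

section Ext

variable {S : Type u} [CommRing S] [Algebra R S]

theorem bialgHom_ext_one_tmul {X : Type u} [CommRing X] [Bialgebra S X]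
    {f f' : S ⊗[R] C →ₐc[S] X} (h : ∀ c : C, f ((1 : S) ⊗ₜ[R] c) = f' ((1 : S) ⊗ₜ[R] c)) :
    f = f' := by
  apply BialgHom.ext
  intro z
  induction z using TensorProduct.induction_on with
  | zero => rw [map_zero, map_zero]
  | add x y hx hy => rw [map_add, map_add, hx, hy]
  | tmul s c =>
    have h1 : s ⊗ₜ[R] c = s • ((1 : S) ⊗ₜ[R] c) := by
      rw [TensorProduct.smul_tmul', smul_eq_mul, mul_one]
    rw [h1, map_smul, map_smul, h]

end Ext

variable {S T U : Type u} [CommRing S] [CommRing T] [CommRing U] [Algebra R S] [Algebra R T]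
  [Algebra R U]

/-- `g` is a base change of `f` along `j`. -/
def IsBC (j : S →ₐ[R] T) (f : S ⊗[R] C →ₐc[S] S ⊗[R] B) (g : T ⊗[R] C →ₐc[T] T ⊗[R] B) : Prop :=
  ∀ c : C, g ((1 : T) ⊗ₜ[R] c) =
    Algebra.TensorProduct.map j (AlgHom.id R B) (f ((1 : S) ⊗ₜ[R] c))

theorem IsBC.apply {j : S →ₐ[R] T} {f : S ⊗[R] C →ₐc[S] S ⊗[R] B}
    {g : T ⊗[R] C →ₐc[T] T ⊗[R] B} (h : IsBC j f g) (z : S ⊗[R] C) :
    g (Algebra.TensorProduct.map j (AlgHom.id R C) z) =
      Algebra.TensorProduct.map j (AlgHom.id R B) (f z) := by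
  induction z using TensorProduct.induction_on with
  | zero => simp
  | add x y hx hy => rw [map_add, map_add, hx, hy, map_add, map_add]
  | tmul s c =>
    have h1 : s ⊗ₜ[R] c = s • ((1 : S) ⊗ₜ[R] c) := by
      rw [TensorProduct.smul_tmul', smul_eq_mul, mul_one]
    have h2 : Algebra.TensorProduct.map j (AlgHom.id R C) (s ⊗ₜ[R] c) =
        j s • ((1 : T) ⊗ₜ[R] c) := by
      rw [Algebra.TensorProduct.map_tmul, TensorProduct.smul_tmul', smul_eq_mul, mul_one]
      rfl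
    rw [h2, map_smul, h c, h1, map_smul, map_smul']

theorem IsBC.unique {j : S →ₐ[R] T} {f : S ⊗[R] C →ₐc[S] S ⊗[R] B}
    {g g' : T ⊗[R] C →ₐc[T] T ⊗[R] B} (h : IsBC j f g) (h' : IsBC j f g') : g = g' :=
  bialgHom_ext_one_tmul (fun c => (h c).trans (h' c).symm)

theorem IsBC.comp {j : S →ₐ[R] T} {j' : T →ₐ[R] U} {f : S ⊗[R] C →ₐc[S] S ⊗[R] B}
    {g : T ⊗[R] C →ₐc[T] T ⊗[R] B} {k : U ⊗[R] C →ₐc[U] U ⊗[R] B}
    (h : IsBC j f g) (h' : IsBC j' g k) : IsBC (j'.comp j) f k := by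
  intro c
  rw [h' c, h c, map_map']

theorem IsBC.congr {j j' : S →ₐ[R] T} (hj : j = j') {f : S ⊗[R] C →ₐc[S] S ⊗[R] B}
    {g : T ⊗[R] C →ₐc[T] T ⊗[R] B} (h : IsBC j f g) : IsBC j' f g := hj ▸ h

/-- Existence of base changes. -/
theorem exists_isBC (j : S →ₐ[R] T) (f : S ⊗[R] C →ₐc[S] S ⊗[R] B) :
    ∃ g : T ⊗[R] C →ₐc[T] T ⊗[R] B, IsBC j f g := by
  letI : Algebra S T := j.toRingHom.toAlgebra
  haveI : IsScalarTower R S T := IsScalarTower.of_algebraMap_eq (fun r => (j.commutes r).symm)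
  refine ⟨((cancelBC R S T B : T ⊗[S] (S ⊗[R] B) ≃ₐc[T] T ⊗[R] B) : _ →ₐc[T] _).comp
    ((Bialgebra.TensorProduct.map (BialgHom.id T T) f).comp
      ((cancelBC R S T C).symm : T ⊗[R] C →ₐc[T] T ⊗[S] (S ⊗[R] C))), ?_⟩
  intro c
  change cancelBC R S T B (Bialgebra.TensorProduct.map (BialgHom.id T T) f
    ((cancelBC R S T C).symm ((1 : T) ⊗ₜ[R] c))) = _
  rw [MTGlue.cancelBC_symm_one_tmul, Bialgebra.TensorProduct.map_tmul, BialgHom.id_apply,
    HensDiag.cancelBC_one_tmul]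
  rfl

/-- Base change of a bialgebra map over `R`. -/
noncomputable def bcOf (T : Type u) [CommRing T] [Algebra R T] (φ : C →ₐc[R] B) :
    T ⊗[R] C →ₐc[T] T ⊗[R] B :=
  Bialgebra.TensorProduct.map (BialgHom.id T T) φ

@[simp] theorem bcOf_tmul (φ : C →ₐc[R] B) (t : T) (c : C) :
    bcOf T φ (t ⊗ₜ[R] c) = t ⊗ₜ[R] φ c := rfl

theorem isBC_bcOf (j : S →ₐ[R] T) (φ : C →ₐc[R] B) : IsBC j (bcOf S φ) (bcOf T φ) := by
  intro c
  rw [bcOf_tmul, bcOf_tmul, Algebra.TensorProduct.map_tmul, map_one]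
  rfl

end Basic

section GA

variable {R : Type u} [CommRing R] {B C : Type u} [CommRing B] [CommRing C]
  [HopfAlgebra R B] [HopfAlgebra R C]
  {T : Type u} [CommRing T] [Algebra R T] {M N : Type u} [CommGroup M] [CommGroup N]
  (eB : T ⊗[R] B ≃ₐc[T] MonoidAlgebra T M) (eC : T ⊗[R] C ≃ₐc[T] MonoidAlgebra T N)

/-- Transport of a bialgebra map to the group algebras. -/
noncomputable def toGA (f : T ⊗[R] C →ₐc[T] T ⊗[R] B) :
    MonoidAlgebra T N →ₐc[T] MonoidAlgebra T M :=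
  (eB : T ⊗[R] B →ₐc[T] MonoidAlgebra T M).comp
    (f.comp (eC.symm : MonoidAlgebra T N →ₐc[T] T ⊗[R] C))

/-- Transport of a bialgebra map from the group algebras. -/
noncomputable def ofGA (Φ : MonoidAlgebra T N →ₐc[T] MonoidAlgebra T M) :
    T ⊗[R] C →ₐc[T] T ⊗[R] B :=
  (eB.symm : MonoidAlgebra T M →ₐc[T] T ⊗[R] B).comp
    (Φ.comp (eC : T ⊗[R] C →ₐc[T] MonoidAlgebra T N))

theorem toGA_apply (f : T ⊗[R] C →ₐc[T] T ⊗[R] B) (x : MonoidAlgebra T N) :
    toGA eB eC f x = eB (f (eC.symm x)) := rfl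

theorem ofGA_apply (Φ : MonoidAlgebra T N →ₐc[T] MonoidAlgebra T M) (z : T ⊗[R] C) :
    ofGA eB eC Φ z = eB.symm (Φ (eC z)) := rfl

theorem ofGA_toGA (f : T ⊗[R] C →ₐc[T] T ⊗[R] B) : ofGA eB eC (toGA eB eC f) = f := by
  apply BialgHom.ext
  intro z
  rw [ofGA_apply, toGA_apply, BialgEquiv.symm_apply_apply, BialgEquiv.symm_apply_apply]

theorem toGA_ofGA (Φ : MonoidAlgebra T N →ₐc[T] MonoidAlgebra T M) :
    toGA eB eC (ofGA eB eC Φ) = Φ := by
  apply BialgHom.ext
  intro x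
  rw [toGA_apply, ofGA_apply, BialgEquiv.apply_symm_apply, BialgEquiv.apply_symm_apply]

theorem toGA_injective {f f' : T ⊗[R] C →ₐc[T] T ⊗[R] B} (h : toGA eB eC f = toGA eB eC f') :
    f = f' := by
  rw [← ofGA_toGA eB eC f, h, ofGA_toGA]

variable {T' : Type u} [CommRing T'] [Algebra R T'] [Algebra T T'] [IsScalarTower R T T']

theorem bcDiag_map {A : Type u} [CommRing A] [HopfAlgebra R A]
    (ε : T ⊗[R] A ≃ₐc[T] MonoidAlgebra T M) (w : T ⊗[R] A) :
    MTGlue.bcDiag R T T' ε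
        (Algebra.TensorProduct.map (IsScalarTower.toAlgHom R T T') (AlgHom.id R A) w) =
      MonoidAlgebra.mapRingHom M (algebraMap T T') (ε w) := by
  rw [← HensDiag.cancelBC_one_tmul]
  change steBialg T T' M (bcEquiv T' ε ((cancelBC R T T' A).symm
    (cancelBC R T T' A ((1 : T') ⊗ₜ[T] w)))) = _
  rw [BialgEquiv.symm_apply_apply, bcEquiv_tmul, MTGlue.steBialg_one_tmul]

/-- Base change relations become `bcHom` on group algebras. -/
theorem toGA_of_isBC {f : T ⊗[R] C →ₐc[T] T ⊗[R] B} {g : T' ⊗[R] C →ₐc[T'] T' ⊗[R] B}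
    (h : IsBC (IsScalarTower.toAlgHom R T T') f g) :
    toGA (MTGlue.bcDiag R T T' eB) (MTGlue.bcDiag R T T' eC) g =
      bcHom (algebraMap T T') (toGA eB eC f) := by
  apply bialgHom_ext_single
  intro n
  rw [toGA_apply, MTGlue.bcDiag_symm_single, HensDiag.cancelBC_one_tmul, h.apply, bcDiag_map,
    bcHom_single, one_smul, toGA_apply]

theorem isBC_ofGA (Φ : MonoidAlgebra T N →ₐc[T] MonoidAlgebra T M) :
    IsBC (IsScalarTower.toAlgHom R T T') (ofGA eB eC Φ)
      (ofGA (MTGlue.bcDiag R T T' eB) (MTGlue.bcDiag R T T' eC) (bcHom (algebraMap T T') Φ)) := by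
  obtain ⟨g, hg⟩ := exists_isBC (IsScalarTower.toAlgHom R T T') (ofGA eB eC Φ)
  have h1 := toGA_of_isBC eB eC hg
  rw [toGA_ofGA] at h1
  rw [← h1, ofGA_toGA]
  exact hg

end GA

end Groth.Agent.Lib.Helper25.HomLift
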