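import Mathlib
import Groth.Agent.Lib.Helper25DetRing2
import Groth.Agent.Lib.Helper14FTDim

/-!
# Hopf's lemma on biinjective bilinear maps via the cone of rank-one matrices (helper25)
-/

noncomputable section

open MvPolynomial W4bk4grassmannian

namespace Groth.Agent.Lib.Helper25.HopfLemma

universe u

variable (K : Type u) [Field K] [IsAlgClosed K] (m n : ℕ)

/-- the ideal of `2 × 2` minors -/
abbrev I2 : Ideal (MvPolynomial (Fin m × Fin n) K) := CAlgX.minorIdeal (genMatrix K m n) 2

/-- the maximal ideal of the origin -/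
abbrev mO : Ideal (MvPolynomial (Fin m × Fin n) K) :=
  vanishingIdeal K {(0 : Fin m × Fin n → K)}

omit [IsAlgClosed K] in
theorem I2_le_mO : I2 K m n ≤ mO K m n := by
  unfold I2 CAlgX.minorIdeal
  rw [Ideal.span_le]
  rintro _ ⟨fg, rfl⟩
  rw [SetLike.mem_coe, mem_vanishingIdeal_iff]
  intro x hx
  rw [Set.mem_singleton_iff] at hx
  subst hx
  rw [AlgHom.map_det]
  have : ((aeval (0 : Fin m × Fin n → K) : MvPolynomial (Fin m × Fin n) K →ₐ[K] K).mapMatrix
      ((genMatrix K m n).submatrix fg.1 fg.2)) = 0 := by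
    ext i j
    simp [genMatrix]
  rw [this, Matrix.det_zero]

/-- the height of the origin in the cone of matrices of rank `≤ 1` -/
theorem height_mO (hm : 2 ≤ m) (hn : 2 ≤ n) :
    ((mO K m n).map (Ideal.Quotient.mk (I2 K m n))).height = ((m + n - 1 : ℕ) : ℕ∞) := by
  have hdom := Groth.Agent.Lib.Helper25.DetRing.isDomain_detRing K m n 2 (by norm_num)
  have hft : Algebra.FiniteType K (MvPolynomial (Fin m × Fin n) K ⧸ I2 K m n) :=
    Algebra.FiniteType.of_surjective (Ideal.Quotient.mkₐ K _) (Ideal.Quotient.mkₐ_surjective K _)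
  have hmax : ((mO K m n).map (Ideal.Quotient.mk (I2 K m n))).IsMaximal :=
    Ideal.IsMaximal.map_of_surjective_of_ker_le Ideal.Quotient.mk_surjective
      (by rw [Ideal.mk_ker]; exact I2_le_mO K m n)
  obtain ⟨N, -, hN, hNm⟩ := Groth.Agent.Lib.Helper14.FTDim.exists_dim K
    (MvPolynomial (Fin m × Fin n) K ⧸ I2 K m n)
  have hdim := (Groth.Agent.Lib.Helper25.DetRing.cm_dim_detRing K (d := n) (r := m) (t := 2)
    (by omega) (by omega) (by norm_num) hm hn).2
  rw [hN] at hdim
  have hNeq : N = (2 - 1) * (m + n - 2 + 1) := by exact_mod_cast hdim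
  rw [hNm _, hNeq]
  congr 1
  omega


/-- fewer than `m + n - 1` polynomials vanishing at the origin have a common nonzero zero among
the matrices of rank at most one -/
theorem exists_rank_one_zero (hm : 2 ≤ m) (hn : 2 ≤ n) (c : ℕ)
    (ℓ : Fin c → MvPolynomial (Fin m × Fin n) K)
    (hℓ : ∀ i, aeval (0 : Fin m × Fin n → K) (ℓ i) = 0) (hc : c + 2 ≤ m + n) :
    ∃ z : Fin m × Fin n → K, z ≠ 0 ∧ (∀ f ∈ I2 K m n, aeval z f = 0) ∧
      ∀ i, aeval z (ℓ i) = 0 := by
  classical
  by_contra hcon
  push Not at hcon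
  set J : Ideal (MvPolynomial (Fin m × Fin n) K) := I2 K m n ⊔ Ideal.span (Set.range ℓ) with hJ
  have hzl : zeroLocus K J ⊆ {(0 : Fin m × Fin n → K)} := by
    intro z hz
    rw [mem_zeroLocus_iff] at hz
    rw [Set.mem_singleton_iff]
    by_contra hz0
    obtain ⟨i, hi⟩ := hcon z hz0 (fun f hf => hz f (Ideal.mem_sup_left hf))
    exact hi (hz _ (Ideal.mem_sup_right (Ideal.subset_span ⟨i, rfl⟩)))
  have hrad : mO K m n ≤ J.radical := by
    rw [← vanishingIdeal_zeroLocus_eq_radical (K := K)]
    exact vanishingIdeal_anti_mono hzl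
  set mk := Ideal.Quotient.mk (I2 K m n) with hmk
  have hmax : ((mO K m n).map mk).IsMaximal :=
    Ideal.IsMaximal.map_of_surjective_of_ker_le Ideal.Quotient.mk_surjective
      (by rw [Ideal.mk_ker]; exact I2_le_mO K m n)
  have hprime := hmax.isPrime
  set s : Finset (MvPolynomial (Fin m × Fin n) K ⧸ I2 K m n) :=
    Finset.univ.image (fun i => mk (ℓ i)) with hs
  have hJmap : J.map mk = Ideal.span (s : Set (MvPolynomial (Fin m × Fin n) K ⧸ I2 K m n)) := by
    rw [hJ, Ideal.map_sup, Ideal.map_quotient_self, bot_sup_eq, Ideal.map_span, hs,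
      Finset.coe_image, Finset.coe_univ, Set.image_univ, ← Set.range_comp]
    rfl
  have hle : Ideal.span (s : Set (MvPolynomial (Fin m × Fin n) K ⧸ I2 K m n)) ≤ (mO K m n).map mk := by
    rw [← hJmap]
    apply Ideal.map_mono
    rw [hJ, sup_le_iff]
    refine ⟨I2_le_mO K m n, ?_⟩
    rw [Ideal.span_le]
    rintro _ ⟨i, rfl⟩
    rw [SetLike.mem_coe, mem_vanishingIdeal_iff]
    intro x hx
    rw [Set.mem_singleton_iff] at hx
    subst hx
    exact hℓ i
  have hradD : (mO K m n).map mk ≤
      (Ideal.span (s : Set (MvPolynomial (Fin m × Fin n) K ⧸ I2 K m n))).radical := by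
    rw [← hJmap]
    exact (Ideal.map_mono hrad).trans (Ideal.map_radical_le mk)
  have hmin : (mO K m n).map mk ∈
      (Ideal.span (s : Set (MvPolynomial (Fin m × Fin n) K ⧸ I2 K m n))).minimalPrimes := by
    refine ⟨⟨hprime, hle⟩, ?_⟩
    rintro 𝔭 ⟨h𝔭, h𝔭le⟩ -
    exact hradD.trans (h𝔭.radical_le_iff.mpr h𝔭le)
  have hN : IsNoetherianRing (MvPolynomial (Fin m × Fin n) K ⧸ I2 K m n) := inferInstance
  have hht := Ideal.height_le_card_of_mem_minimalPrimes_span_finset hmin
  rw [height_mO K m n hm hn] at hht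
  have hcard : s.card ≤ c := by
    rw [hs]
    refine Finset.card_image_le.trans ?_
    rw [Finset.card_univ, Fintype.card_fin]
  have : ((m + n - 1 : ℕ) : ℕ∞) ≤ (c : ℕ∞) := hht.trans (by exact_mod_cast hcard)
  have h2 : m + n - 1 ≤ c := by exact_mod_cast this
  omega


omit [IsAlgClosed K] in
theorem aeval_minor (z : Fin m × Fin n → K) (p p' : Fin m) (q q' : Fin n)
    (hz : ∀ f ∈ I2 K m n, aeval z f = 0) :
    z (p, q) * z (p', q') - z (p, q') * z (p', q) = 0 := by
  have hmem : ((genMatrix K m n).submatrix ![p, p'] ![q, q']).det ∈ I2 K m n :=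
    Ideal.subset_span ⟨(![p, p'], ![q, q']), rfl⟩
  have h := hz _ hmem
  rw [AlgHom.map_det, Matrix.det_fin_two] at h
  simpa [genMatrix] using h

omit [IsAlgClosed K] in
/-- a nonzero matrix all of whose `2 × 2` minors vanish is an outer product -/
theorem exists_outer (z : Fin m × Fin n → K) (hz0 : z ≠ 0)
    (hz : ∀ f ∈ I2 K m n, aeval z f = 0) :
    ∃ (u : Fin m → K) (v : Fin n → K), u ≠ 0 ∧ v ≠ 0 ∧ ∀ p q, z (p, q) = u p * v q := by
  have : ∃ pq : Fin m × Fin n, z pq ≠ 0 := by
    by_contra h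
    push Not at h
    exact hz0 (funext h)
  obtain ⟨⟨p₀, q₀⟩, h0⟩ := this
  refine ⟨fun p => z (p, q₀), fun q => z (p₀, q) / z (p₀, q₀), ?_, ?_, ?_⟩
  · intro h
    exact h0 (congrFun h p₀)
  · intro h
    have := congrFun h q₀
    simp only [Pi.zero_apply] at this
    rw [div_self h0] at this
    exact one_ne_zero this
  · intro p q
    have h1 := aeval_minor K m n z p p₀ q q₀ hz
    have h2 : z (p, q) * z (p₀, q₀) = z (p, q₀) * z (p₀, q) := sub_eq_zero.mp h1
    show z (p, q) = z (p, q₀) * (z (p₀, q) / z (p₀, q₀))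
    rw [← mul_div_assoc, ← h2, mul_div_assoc, div_self h0, mul_one]


open TensorProduct in
/-- **Hopf's lemma**: the image of a biinjective bilinear map `A ⊗ B → C` over an algebraically
closed field has dimension at least `dim A + dim B - 1`. -/
theorem hopf_lemma {A : Type*} {B : Type*} {E : Type*} [AddCommGroup A] [Module K A]
    [AddCommGroup B] [Module K B] [AddCommGroup E] [Module K E] [FiniteDimensional K A]
    [FiniteDimensional K B] [Nontrivial A] [Nontrivial B] (ν : A ⊗[K] B →ₗ[K] E)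
    (hA : ∀ a : A, a ≠ 0 → Function.Injective (fun b : B => ν (a ⊗ₜ[K] b)))
    (hB : ∀ b : B, b ≠ 0 → Function.Injective (fun a : A => ν (a ⊗ₜ[K] b))) :
    Module.finrank K A + Module.finrank K B ≤ Module.finrank K (LinearMap.range ν) + 1 := by
  classical
  have ha1 : 0 < Module.finrank K A := Module.finrank_pos
  have hb1 : 0 < Module.finrank K B := Module.finrank_pos
  -- `dim B ≤ dim im ν` and `dim A ≤ dim im ν`
  have hBle : Module.finrank K B ≤ Module.finrank K (LinearMap.range ν) := by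
    obtain ⟨a₀, ha₀⟩ := exists_ne (0 : A)
    let φ : B →ₗ[K] LinearMap.range ν :=
      (ν.rangeRestrict).comp (TensorProduct.mk K A B a₀)
    apply LinearMap.finrank_le_finrank_of_injective (f := φ)
    intro b b' hbb
    apply hA a₀ ha₀
    have := congrArg Subtype.val hbb
    exact this
  have hAle : Module.finrank K A ≤ Module.finrank K (LinearMap.range ν) := by
    obtain ⟨b₀, hb₀⟩ := exists_ne (0 : B)
    let φ : A →ₗ[K] LinearMap.range ν :=
      (ν.rangeRestrict).comp ((TensorProduct.mk K A B).flip b₀)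
    apply LinearMap.finrank_le_finrank_of_injective (f := φ)
    intro a a' haa
    apply hB b₀ hb₀
    have := congrArg Subtype.val haa
    exact this
  by_contra hcon
  push Not at hcon
  set a := Module.finrank K A with ha
  set b := Module.finrank K B with hb
  set c := Module.finrank K (LinearMap.range ν) with hc
  have ha2 : 2 ≤ a := by omega
  have hb2 : 2 ≤ b := by omega
  let eA : Module.Basis (Fin a) K A := Module.finBasis K A
  let eB : Module.Basis (Fin b) K B := Module.finBasis K B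
  let eC : Module.Basis (Fin c) K (LinearMap.range ν) := Module.finBasis K (LinearMap.range ν)
  let ℓ : Fin c → MvPolynomial (Fin a × Fin b) K := fun i =>
    ∑ p : Fin a × Fin b, C (eC.coord i (ν.rangeRestrict (eA p.1 ⊗ₜ[K] eB p.2))) * X p
  have hℓeval : ∀ (z : Fin a × Fin b → K) (i : Fin c), aeval z (ℓ i) =
      eC.coord i (ν.rangeRestrict (∑ p : Fin a × Fin b, z p • (eA p.1 ⊗ₜ[K] eB p.2))) := by
    intro z i
    simp only [ℓ, map_sum, map_mul, aeval_C, aeval_X, map_smul, smul_eq_mul, Algebra.algebraMap_self,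
      RingHom.id_apply]
    apply Finset.sum_congr rfl
    intro p _
    rw [mul_comm]
  obtain ⟨z, hz0, hzI, hzℓ⟩ := exists_rank_one_zero K a b ha2 hb2 c ℓ (by
    intro i
    rw [hℓeval]
    simp) (by omega)
  obtain ⟨u, v, hu, hv, huv⟩ := exists_outer K a b z hz0 hzI
  set α : A := ∑ p, u p • eA p with hα
  set β : B := ∑ q, v q • eB q with hβ
  have hαβ : α ⊗ₜ[K] β = ∑ p : Fin a × Fin b, z p • (eA p.1 ⊗ₜ[K] eB p.2) := by
    rw [hα, hβ, TensorProduct.sum_tmul, Fintype.sum_prod_type]
    apply Finset.sum_congr rfl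
    intro p _
    rw [TensorProduct.tmul_sum]
    apply Finset.sum_congr rfl
    intro q _
    rw [TensorProduct.smul_tmul_smul, huv]
  have hν : ν.rangeRestrict (α ⊗ₜ[K] β) = 0 := by
    rw [← eC.forall_coord_eq_zero_iff]
    intro i
    rw [hαβ, ← hℓeval]
    exact hzℓ i
  have hν' : ν (α ⊗ₜ[K] β) = 0 := by
    have := congrArg Subtype.val hν
    exact this
  have hα0 : α ≠ 0 := by
    intro h
    apply hu
    funext p
    have := congrArg (fun x => eA.repr x p) h
    simp only [hα, map_sum, map_smul, Module.Basis.repr_self, Finsupp.coe_finset_sum, Finsupp.coe_smul,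
      Finset.sum_apply, Pi.smul_apply, smul_eq_mul, map_zero, Finsupp.coe_zero, Pi.zero_apply] at this
    rw [Finset.sum_eq_single p] at this
    · simpa using this
    · intro p' _ hp'
      rw [Finsupp.single_eq_of_ne (Ne.symm hp'), mul_zero]
    · intro h'
      exact absurd (Finset.mem_univ p) h'
  have hβ0 : β = 0 := by
    apply hA α hα0
    show ν (α ⊗ₜ[K] β) = ν (α ⊗ₜ[K] 0)
    rw [hν', TensorProduct.tmul_zero, map_zero]
  apply hv
  funext q
  have := congrArg (fun x => eB.repr x q) hβ0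
  simp only [hβ, map_sum, map_smul, Module.Basis.repr_self, Finsupp.coe_finset_sum, Finsupp.coe_smul,
    Finset.sum_apply, Pi.smul_apply, smul_eq_mul, map_zero, Finsupp.coe_zero, Pi.zero_apply] at this
  rw [Finset.sum_eq_single q] at this
  · simpa using this
  · intro q' _ hq'
    rw [Finsupp.single_eq_of_ne (Ne.symm hq'), mul_zero]
  · intro h'
    exact absurd (Finset.mem_univ q) h'

end Groth.Agent.Lib.Helper25.HopfLemma
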