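import Groth.Agent.Lib.Helper25BCComod
import Groth.Prelude.Def_GLin

/-!
# Helper25InvDescent: descent of total integrals from the base change to a subalgebra of invariants

For a subalgebra `C ⊆ B` of invariant elements of a comodule algebra `B` over a bialgebra `A`,
a total integral of the base change `C ⊗ A → C ⊗ B` descends to a total integral `A → B`,
by composing with the multiplication `C ⊗ B → B`.
-/

set_option autoImplicit false
universe u v w w'

namespace Groth.Agent.Lib.Helper25

open TensorProduct HopfRep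

section Descent

variable (R : Type u) (A : Type v) (B : Type w)
  [CommRing R] [CommRing A] [Bialgebra R A]
  [CommRing B] [Algebra R B] [Comod R A B] [GLin.IsCoactAlg R A B]

variable (C : Subalgebra R B)

/-- The multiplication map `C ⊗ B → B`. -/
noncomputable def invMul : C ⊗[R] B →ₗ[C] B :=
  LinearMap.liftBaseChange C (LinearMap.id : B →ₗ[R] B)

theorem invMul_tmul (c : C) (b : B) : invMul R B C (c ⊗ₜ[R] b) = (c : B) * b := by
  simp only [invMul, LinearMap.liftBaseChange_tmul, LinearMap.id_apply]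
  rfl

/-- The map `(C ⊗ B) ⊗[C] (C ⊗ A) → B ⊗ A`. -/
noncomputable def invMul2 : (C ⊗[R] B) ⊗[C] (C ⊗[R] A) →ₗ[C] B ⊗[R] A :=
  TensorProduct.lift
    ((LinearMap.liftBaseChangeEquiv C).toLinearMap ∘ₗ
      (TensorProduct.AlgebraTensorModule.mk R C B A) ∘ₗ invMul R B C)

theorem invMul2_tmul (y : C ⊗[R] B) (c : C) (a : A) :
    invMul2 R A B C (y ⊗ₜ[C] (c ⊗ₜ[R] a)) = c • (invMul R B C y ⊗ₜ[R] a) := by
  simp only [invMul2, TensorProduct.lift.tmul, LinearMap.comp_apply, LinearEquiv.coe_coe]
  rfl

theorem invMul2_bcMapG (z : B ⊗[R] A) : invMul2 R A B C (bcMapG R C A B z) = z := by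
  induction z using TensorProduct.induction_on with
  | zero => simp
  | add x y hx hy => simp only [map_add, hx, hy]
  | tmul b a =>
    rw [bcMapG_tmul, invMul2_tmul, one_smul, invMul_tmul]
    simp

theorem smul_eq_tmul_one_mul (c : C) (z : B ⊗[R] A) :
    c • z = ((c : B) ⊗ₜ[R] (1 : A)) * z := by
  induction z using TensorProduct.induction_on with
  | zero => simp
  | add x y hx hy => rw [smul_add, hx, hy, mul_add]
  | tmul b a =>
    rw [Algebra.TensorProduct.tmul_mul_tmul, one_mul]
    rfl

theorem coact_invMul (hC : ∀ c : C, Comod.coact (k := R) (A := A) (c : B) = (c : B) ⊗ₜ[R] (1 : A))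
    (y : C ⊗[R] B) :
    Comod.coact (k := R) (A := A) (invMul R B C y) =
      invMul2 R A B C ((CoactBr.Comod.baseChange R C A B).coact y) := by
  induction y using TensorProduct.induction_on with
  | zero => simp
  | add x y hx hy => simp only [map_add, hx, hy]
  | tmul c b =>
    have e : c ⊗ₜ[R] b = c • ((1 : C) ⊗ₜ[R] b) := by
      rw [TensorProduct.smul_tmul', smul_eq_mul, mul_one]
    rw [invMul_tmul, e, map_smul, map_smul, baseChange_coact_one_tmul', invMul2_bcMapG,
      GLin.IsCoactAlg.coact_mul, smul_eq_tmul_one_mul]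
    congr 1
    exact hC c

/-- Descent of total integrals from the base change to the ring of invariants. -/
theorem exists_integral_of_baseChange_invariants
    (hC : ∀ c : C, Comod.coact (k := R) (A := A) (c : B) = (c : B) ⊗ₜ[R] (1 : A))
    (β : C ⊗[R] A →ₗ[C] C ⊗[R] B)
    (hβ : @Hoch.IsComodHom C _ (C ⊗[R] A) _ _ _ (C ⊗[R] A) _ _
        (HopfRep.Comod.regular C (C ⊗[R] A)) (C ⊗[R] B) _ _
        (CoactBr.Comod.baseChange R C A B) β) (hβ1 : β 1 = 1) :
    ∃ α : A →ₗ[R] B, Hoch.IsComodHom A α ∧ α 1 = 1 := by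
  set α : A →ₗ[R] B :=
    ((invMul R B C).restrictScalars R) ∘ₗ (β.restrictScalars R) ∘ₗ
      (TensorProduct.mk R C A 1) with hα
  have hαa : ∀ a, α a = invMul R B C (β ((1 : C) ⊗ₜ[R] a)) := fun a => rfl
  refine ⟨α, ?_, ?_⟩
  · apply LinearMap.ext
    intro a
    change Comod.coact (k := R) (A := A) (α a) =
      α.rTensor A (CoalgebraStruct.comul (R := R) a)
    rw [hαa, coact_invMul R A B C hC]
    have h1 := LinearMap.congr_fun hβ ((1 : C) ⊗ₜ[R] a)
    change (CoactBr.Comod.baseChange R C A B).coact (β ((1 : C) ⊗ₜ[R] a)) =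
      β.rTensor (C ⊗[R] A) (CoalgebraStruct.comul (R := C) ((1 : C) ⊗ₜ[R] a)) at h1
    rw [h1, comul_one_tmul']
    generalize CoalgebraStruct.comul (R := R) a = z
    induction z using TensorProduct.induction_on with
    | zero => simp
    | add x y hx hy => simp only [map_add, hx, hy]
    | tmul a₁ a₂ =>
      rw [bcMapG_tmul, LinearMap.rTensor_tmul, invMul2_tmul, one_smul, LinearMap.rTensor_tmul, hαa]
  · rw [hαa, ← Algebra.TensorProduct.one_def, hβ1, Algebra.TensorProduct.one_def, invMul_tmul]
    simp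

end Descent

end Groth.Agent.Lib.Helper25
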