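import Groth.Agent.Lib.Helper25SubfieldFG
import Mathlib.RingTheory.Localization.NumDen
import Mathlib.RingTheory.EssentialFiniteness
import Mathlib.RingTheory.UniqueFactorizationDomain.Basic

/-!
# Invariant rational functions on a factorial variety with trivial units (helper25)

Abstract form: a set `S` of `k`-algebra automorphisms of a factorial finitely generated `k`-domain
`B` with `Bˣ = kˣ`, closed under inverses.  The field of `S`-invariant fractions is the fraction
field of the invariants of `B[1/h]` for a suitable semi-invariant `h`.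
-/

set_option autoImplicit false
set_option linter.style.haveILetI false
universe u

namespace Groth.Agent.Lib.Helper25.InvFrac

open IntermediateField

variable {k : Type u} [Field k] {B : Type u} [CommRing B] [Algebra k B] [IsDomain B]

local notation "𝕂" => FractionRing B

/-- The extension of an automorphism to the fraction field. -/
noncomputable def ext (σ : B ≃ₐ[k] B) : 𝕂 ≃+* 𝕂 :=
  IsFractionRing.ringEquivOfRingEquiv (σ : B ≃+* B)

theorem ext_algebraMap (σ : B ≃ₐ[k] B) (b : B) :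
    ext σ (algebraMap B 𝕂 b) = algebraMap B 𝕂 (σ b) :=
  IsFractionRing.ringEquivOfRingEquiv_algebraMap (σ : B ≃+* B) b

variable (S : Set (B ≃ₐ[k] B))

/-- The field of invariant fractions. -/
noncomputable def invField : IntermediateField k 𝕂 where
  carrier := {q | ∀ σ ∈ S, ext σ q = q}
  mul_mem' := fun {a b} ha hb σ hσ => by rw [map_mul, ha σ hσ, hb σ hσ]
  one_mem' := fun σ _ => map_one _
  add_mem' := fun {a b} ha hb σ hσ => by rw [map_add, ha σ hσ, hb σ hσ]
  zero_mem' := fun σ _ => map_zero _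
  algebraMap_mem' := fun c σ _ => by
    rw [IsScalarTower.algebraMap_apply k B 𝕂, ext_algebraMap, AlgEquiv.commutes]
  inv_mem' := fun a ha σ hσ => by rw [map_inv₀, ha σ hσ]

theorem mem_invField_iff (q : 𝕂) : q ∈ invField S ↔ ∀ σ ∈ S, ext σ q = q := Iff.rfl

variable {S}

theorem div_mem_invField_iff {a b : B} (hb : b ≠ 0) :
    algebraMap B 𝕂 a / algebraMap B 𝕂 b ∈ invField S ↔ ∀ σ ∈ S, σ a * b = a * σ b := by
  have hb' : algebraMap B 𝕂 b ≠ 0 := by
    simpa using (IsFractionRing.injective B 𝕂).ne hb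
  constructor
  · intro h σ hσ
    have h1 := h σ hσ
    rw [map_div₀, ext_algebraMap, ext_algebraMap] at h1
    have hσb : algebraMap B 𝕂 (σ b) ≠ 0 := by
      have : σ b ≠ 0 := by simpa using hb
      simpa using (IsFractionRing.injective B 𝕂).ne this
    rw [div_eq_div_iff hσb hb'] at h1
    apply IsFractionRing.injective B 𝕂
    rw [map_mul, map_mul, h1]
  · intro h σ hσ
    rw [map_div₀, ext_algebraMap, ext_algebraMap]
    have hσb : algebraMap B 𝕂 (σ b) ≠ 0 := by
      have : σ b ≠ 0 := by simpa using hb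
      simpa using (IsFractionRing.injective B 𝕂).ne this
    rw [div_eq_div_iff hσb hb', ← map_mul, ← map_mul, h σ hσ]

/-- Semi-invariants. -/
def SemiInv (S : Set (B ≃ₐ[k] B)) (x : B) : Prop := ∀ σ ∈ S, ∃ c : k, c ≠ 0 ∧ σ x = c • x

theorem SemiInv.mul {x y : B} (hx : SemiInv S x) (hy : SemiInv S y) : SemiInv S (x * y) := by
  intro σ hσ
  obtain ⟨c, hc, hcx⟩ := hx σ hσ
  obtain ⟨d, hd, hdy⟩ := hy σ hσ
  refine ⟨c * d, mul_ne_zero hc hd, ?_⟩
  rw [map_mul, hcx, hdy, smul_mul_smul_comm]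

theorem SemiInv.one : SemiInv S (1 : B) := fun σ _ => ⟨1, one_ne_zero, by simp⟩

theorem SemiInv.prod {ι : Type*} (s : Finset ι) (f : ι → B) (hf : ∀ i ∈ s, SemiInv S (f i)) :
    SemiInv S (∏ i ∈ s, f i) := by
  classical
  induction s using Finset.induction_on with
  | empty => simpa using SemiInv.one
  | insert i s hi ih =>
    rw [Finset.prod_insert hi]
    exact (hf i (Finset.mem_insert_self i s)).mul
      (ih (fun j hj => hf j (Finset.mem_insert_of_mem hj)))

section Reduced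
variable [UniqueFactorizationMonoid B]

theorem exists_smul_of_dvd_of_units (hunits : ∀ u : Bˣ, ∃ c : k, algebraMap k B c = u)
    {a a' : B} (h1 : a ∣ a') (h2 : a' ∣ a) : ∃ c : k, c ≠ 0 ∧ a' = c • a := by
  obtain ⟨u, hu⟩ := associated_of_dvd_dvd h1 h2
  obtain ⟨c, hc⟩ := hunits u
  refine ⟨c, ?_, ?_⟩
  · rintro rfl
    rw [map_zero] at hc
    exact u.ne_zero hc.symm
  · rw [← hu, ← hc, Algebra.smul_def, mul_comm]

/-- A nonzero invariant fraction is a quotient of two semi-invariants of the same weight. -/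
theorem exists_semiInv_fraction (hSinv : ∀ σ ∈ S, σ.symm ∈ S)
    (hunits : ∀ u : Bˣ, ∃ c : k, algebraMap k B c = u) {q : 𝕂} (hq : q ∈ invField S)
    (hq0 : q ≠ 0) :
    ∃ a b : B, a ≠ 0 ∧ b ≠ 0 ∧ q = algebraMap B 𝕂 a / algebraMap B 𝕂 b ∧
      ∀ σ ∈ S, ∃ c : k, c ≠ 0 ∧ σ a = c • a ∧ σ b = c • b := by
  obtain ⟨a, ⟨b, hb⟩, hrel, hab⟩ := IsFractionRing.exists_reduced_fraction (A := B) (K := FractionRing B) q
  have hb0 : b ≠ 0 := nonZeroDivisors.ne_zero hb
  have hqab : q = algebraMap B 𝕂 a / algebraMap B 𝕂 b := by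
    rw [← hab, IsFractionRing.mk'_eq_div]
  have ha0 : a ≠ 0 := by
    rintro rfl
    apply hq0
    rw [hqab, map_zero, zero_div]
  refine ⟨a, b, ha0, hb0, hqab, ?_⟩
  rw [hqab, div_mem_invField_iff hb0] at hq
  have hrel' : IsRelPrime a b := hrel
  have hdvd_a : ∀ σ ∈ S, a ∣ σ a := by
    intro σ hσ
    have h1 : a ∣ σ a * b := ⟨σ b, hq σ hσ⟩
    exact hrel'.dvd_of_dvd_mul_right h1
  have hdvd_b : ∀ σ ∈ S, b ∣ σ b := by
    intro σ hσ
    have h1 : b ∣ a * σ b := ⟨σ a, by rw [← hq σ hσ, mul_comm]⟩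
    exact hrel'.symm.dvd_of_dvd_mul_left h1
  intro σ hσ
  have ha2 : σ a ∣ a := by
    have := map_dvd σ (hdvd_a σ.symm (hSinv σ hσ))
    simpa using this
  have hb2 : σ b ∣ b := by
    have := map_dvd σ (hdvd_b σ.symm (hSinv σ hσ))
    simpa using this
  obtain ⟨c, hc, hca⟩ := exists_smul_of_dvd_of_units hunits (hdvd_a σ hσ) ha2
  obtain ⟨d, hd, hdb⟩ := exists_smul_of_dvd_of_units hunits (hdvd_b σ hσ) hb2
  refine ⟨c, hc, hca, ?_⟩
  have h1 := hq σ hσ
  rw [hca, hdb, smul_mul_assoc, mul_smul_comm] at h1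
  have hab0 : a * b ≠ 0 := mul_ne_zero ha0 hb0
  have : c = d := by
    by_contra hne
    have h2 : (c - d) • (a * b) = 0 := by rw [sub_smul, h1, sub_self]
    rcases smul_eq_zero.mp h2 with h | h
    · exact hne (sub_eq_zero.mp h)
    · exact hab0 h
  rw [this]
  exact hdb

end Reduced

section Main
variable [UniqueFactorizationMonoid B] [Algebra.FiniteType k B]

/-- The subalgebra of invariant fractions with denominator a power of `h`. -/
noncomputable def invAway (S : Set (B ≃ₐ[k] B)) (h : B) : Subalgebra k 𝕂 where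
  carrier := {q | q ∈ invField S ∧ ∃ (c : B) (r : ℕ), q * algebraMap B 𝕂 h ^ r = algebraMap B 𝕂 c}
  mul_mem' := by
    rintro x y ⟨hx, c, r, hc⟩ ⟨hy, d, t, hd⟩
    refine ⟨(invField S).mul_mem hx hy, c * d, r + t, ?_⟩
    rw [map_mul, ← hc, ← hd, pow_add]
    ring
  one_mem' := ⟨(invField S).one_mem, 1, 0, by simp⟩
  add_mem' := by
    rintro x y ⟨hx, c, r, hc⟩ ⟨hy, d, t, hd⟩
    refine ⟨(invField S).add_mem hx hy, c * h ^ t + d * h ^ r, r + t, ?_⟩
    rw [map_add, map_mul, map_mul, ← hc, ← hd, pow_add, map_pow, map_pow]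
    ring
  zero_mem' := ⟨(invField S).zero_mem, 0, 0, by simp⟩
  algebraMap_mem' := fun c => ⟨(invField S).algebraMap_mem c, algebraMap k B c, 0, by
    rw [pow_zero, mul_one, ← IsScalarTower.algebraMap_apply]⟩

theorem exists_basicOpen_invariants (hSinv : ∀ σ ∈ S, σ.symm ∈ S)
    (hunits : ∀ u : Bˣ, ∃ c : k, algebraMap k B c = u) :
    ∃ h : B, h ≠ 0 ∧ SemiInv S h ∧
      ∀ a b : B, b ≠ 0 → (∀ σ ∈ S, σ a * b = a * σ b) →
        ∃ (c d : B) (r t : ℕ), d ≠ 0 ∧
          (∀ σ ∈ S, σ c * h ^ r = c * (σ h) ^ r) ∧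
          (∀ σ ∈ S, σ d * h ^ t = d * (σ h) ^ t) ∧
          a * d * h ^ r = b * c * h ^ t := by
  classical
  have hinj := IsFractionRing.injective B 𝕂
  obtain ⟨G, hG⟩ := SubfieldFG.fg_of_essFiniteType (invField S)
  -- choose reduced fractions for the nonzero generators
  have hgen : ∀ q ∈ G, q ∈ invField S := fun q hq => by
    rw [← hG]; exact subset_adjoin k _ hq
  have hch : ∀ q : 𝕂, ∃ a b : B, a ≠ 0 ∧ b ≠ 0 ∧ SemiInv S a ∧ SemiInv S b ∧
      (q ∈ G → q ≠ 0 → q = algebraMap B 𝕂 a / algebraMap B 𝕂 b) := by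
    intro q
    by_cases hq : q ∈ G ∧ q ≠ 0
    · obtain ⟨a, b, ha, hb, hqab, hσ⟩ := exists_semiInv_fraction hSinv hunits (hgen q hq.1) hq.2
      refine ⟨a, b, ha, hb, ?_, ?_, fun _ _ => hqab⟩
      · intro σ hσS
        obtain ⟨c, hc, h1, _⟩ := hσ σ hσS
        exact ⟨c, hc, h1⟩
      · intro σ hσS
        obtain ⟨c, hc, _, h2⟩ := hσ σ hσS
        exact ⟨c, hc, h2⟩
    · refine ⟨1, 1, one_ne_zero, one_ne_zero, SemiInv.one, SemiInv.one, fun h1 h2 => ?_⟩
      exact absurd ⟨h1, h2⟩ hq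
  choose α β hα0 hβ0 hαS hβS hαβ using hch
  set h : B := ∏ q ∈ G, α q * β q with hh
  have hh0 : h ≠ 0 := Finset.prod_ne_zero_iff.mpr (fun q _ => mul_ne_zero (hα0 q) (hβ0 q))
  have hhS : SemiInv S h := SemiInv.prod G _ (fun q _ => (hαS q).mul (hβS q))
  have hhK : algebraMap B 𝕂 h ≠ 0 := by simpa using hinj.ne hh0
  refine ⟨h, hh0, hhS, ?_⟩
  -- generators lie in `invAway`
  have hGaway : ∀ q ∈ G, q ∈ invAway S h := by
    intro q hq
    refine ⟨hgen q hq, ?_⟩
    by_cases hq0 : q = 0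
    · exact ⟨0, 0, by simp [hq0]⟩
    · have hβdvd : β q ∣ h :=
        (Dvd.intro_left (α q) rfl).trans (Finset.dvd_prod_of_mem (fun q => α q * β q) hq)
      obtain ⟨e, he⟩ := hβdvd
      refine ⟨α q * e, 1, ?_⟩
      have hβK : algebraMap B 𝕂 (β q) ≠ 0 := by simpa using hinj.ne (hβ0 q)
      have hq' := hαβ q hq hq0
      rw [pow_one, he, map_mul, map_mul]
      calc q * (algebraMap B 𝕂 (β q) * algebraMap B 𝕂 e)
          = (algebraMap B 𝕂 (α q) / algebraMap B 𝕂 (β q)) *
              (algebraMap B 𝕂 (β q) * algebraMap B 𝕂 e) := by rw [← hq']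
        _ = algebraMap B 𝕂 (α q) * algebraMap B 𝕂 e := by field_simp
  have hle : Algebra.adjoin k (G : Set 𝕂) ≤ invAway S h := Algebra.adjoin_le hGaway
  intro a b hb hab
  have hbK : algebraMap B 𝕂 b ≠ 0 := by simpa using hinj.ne hb
  have hq : algebraMap B 𝕂 a / algebraMap B 𝕂 b ∈ invField S := (div_mem_invField_iff hb).mpr hab
  rw [← hG, mem_adjoin_iff_div] at hq
  obtain ⟨x, hx, y, hy, hxy⟩ := hq
  by_cases hy0 : y = 0
  · -- the fraction is zero
    rw [hy0, div_zero, div_eq_zero_iff] at hxy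
    have ha0 : a = 0 := by
      rcases hxy with h1 | h1
      · exact hinj (by rw [h1, map_zero])
      · exact absurd h1 hbK
    refine ⟨0, 1, 0, 0, one_ne_zero, ?_, ?_, ?_⟩
    · intro σ _; simp
    · intro σ _; simp
    · simp [ha0]
  · obtain ⟨hxL, c, r, hc⟩ := hle hx
    obtain ⟨hyL, d, t, hd⟩ := hle hy
    have hd0 : d ≠ 0 := by
      rintro rfl
      rw [map_zero] at hd
      rcases mul_eq_zero.mp hd with h1 | h1
      · exact hy0 h1
      · exact pow_ne_zero t hhK h1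
    have hinvar : ∀ (z : 𝕂) (e : B) (n : ℕ), z ∈ invField S →
        z * algebraMap B 𝕂 h ^ n = algebraMap B 𝕂 e →
        ∀ σ ∈ S, σ e * h ^ n = e * (σ h) ^ n := by
      intro z e n hz hze σ hσ
      have h1 := congrArg (ext σ) hze
      rw [map_mul, map_pow, ext_algebraMap, ext_algebraMap, hz σ hσ] at h1
      apply hinj
      rw [map_mul, map_mul, map_pow, map_pow, ← h1, ← hze]
      ring
    refine ⟨c, d, r, t, hd0, hinvar x c r hxL hc, hinvar y d t hyL hd, ?_⟩
    apply hinj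
    rw [div_eq_div_iff hbK hy0] at hxy
    simp only [map_mul, map_pow]
    rw [← hc, ← hd]
    linear_combination (algebraMap B 𝕂 h ^ r * algebraMap B 𝕂 h ^ t) * hxy

end Main

end Groth.Agent.Lib.Helper25.InvFrac
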