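import Groth.Agent.Lib.Helper25InvFrac
import Groth.Agent.Lib.Helper25KrullGrp
import Groth.Agent.Lib.Helper25SubAlgComod

/-!
# Invariant rational functions: group scheme form (helper25)
-/

set_option autoImplicit false
set_option linter.style.haveILetI false
universe u
open TensorProduct HopfRep

namespace Groth.Agent.Lib.Helper25.InvFracGIT

open Groth.Agent.Lib.Helper25

variable {k : Type u} [Field k] {A : Type u} [CommRing A] [HopfAlgebra k A]
  {B : Type u} [CommRing B] [Algebra k B] [HopfRep.Comod k A B] [GLin.IsCoactAlg k A B]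

theorem T_inv_T (g : A →ₐ[k] k) (r : B) :
    T (g.comp (HopfAlgebra.antipodeAlgHom k A)).toLinearMap (T g.toLinearMap r) = r := by
  rw [T_T]
  have : conv (g.comp (HopfAlgebra.antipodeAlgHom k A)).toLinearMap g.toLinearMap =
      CoalgebraStruct.counit (R := k) (A := A) := by
    apply LinearMap.ext
    intro a
    rw [← convPt_apply, convPt_antipode']
    rfl
  rw [this, T_counit]

theorem T_T_inv (g : A →ₐ[k] k) (r : B) :
    T g.toLinearMap (T (g.comp (HopfAlgebra.antipodeAlgHom k A)).toLinearMap r) = r := by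
  rw [T_T]
  have : conv g.toLinearMap (g.comp (HopfAlgebra.antipodeAlgHom k A)).toLinearMap =
      CoalgebraStruct.counit (R := k) (A := A) := by
    apply LinearMap.ext
    intro a
    rw [← convPt_apply, convPt_antipode]
    rfl
  rw [this, T_counit]

/-- Translation by a point as an algebra automorphism. -/
noncomputable def transEquiv (g : A →ₐ[k] k) : B ≃ₐ[k] B :=
  AlgEquiv.ofAlgHom (SubAlg.transAlg g)
    (SubAlg.transAlg (g.comp (HopfAlgebra.antipodeAlgHom k A)))
    (by
      apply AlgHom.ext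
      intro r
      simp only [AlgHom.comp_apply, SubAlg.transAlg_apply, AlgHom.id_apply]
      exact T_T_inv g r)
    (by
      apply AlgHom.ext
      intro r
      simp only [AlgHom.comp_apply, SubAlg.transAlg_apply, AlgHom.id_apply]
      exact T_inv_T g r)

theorem transEquiv_apply (g : A →ₐ[k] k) (r : B) :
    transEquiv g r = HopfRep.Comod.act k A B g r := by
  change SubAlg.transAlg g r = _
  rw [SubAlg.transAlg_apply]
  rfl

theorem transEquiv_symm (g : A →ₐ[k] k) :
    (transEquiv (B := B) g).symm = transEquiv (g.comp (HopfAlgebra.antipodeAlgHom k A)) := by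
  apply AlgEquiv.ext
  intro r
  apply (transEquiv (B := B) g).injective
  rw [AlgEquiv.apply_symm_apply]
  change r = SubAlg.transAlg g (SubAlg.transAlg (g.comp (HopfAlgebra.antipodeAlgHom k A)) r)
  rw [SubAlg.transAlg_apply, SubAlg.transAlg_apply, T_T_inv]

theorem exists_basicOpen_invariants [IsDomain B] [UniqueFactorizationMonoid B]
    [Algebra.FiniteType k B] (hunits : ∀ u : Bˣ, ∃ c : k, algebraMap k B c = u) :
    ∃ h : B, h ≠ 0 ∧ (∀ φ : A →ₐ[k] k, ∃ (N : ℕ) (u : B), HopfRep.Comod.act k A B φ h * u = h ^ N) ∧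
      ∀ a b : B, b ≠ 0 → (∀ φ : A →ₐ[k] k, HopfRep.Comod.act k A B φ a * b = a * HopfRep.Comod.act k A B φ b) →
        ∃ (c d : B) (r t : ℕ), d ≠ 0 ∧
          (∀ φ : A →ₐ[k] k, HopfRep.Comod.act k A B φ c * h ^ r = c * (HopfRep.Comod.act k A B φ h) ^ r) ∧
          (∀ φ : A →ₐ[k] k, HopfRep.Comod.act k A B φ d * h ^ t = d * (HopfRep.Comod.act k A B φ h) ^ t) ∧
          a * d * h ^ r = b * c * h ^ t := by
  set S : Set (B ≃ₐ[k] B) := Set.range (fun φ : A →ₐ[k] k => transEquiv (B := B) φ) with hS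
  have hSinv : ∀ σ ∈ S, σ.symm ∈ S := by
    rintro _ ⟨φ, rfl⟩
    exact ⟨_, (transEquiv_symm φ).symm⟩
  obtain ⟨h, hh0, hhS, hmain⟩ := InvFrac.exists_basicOpen_invariants hSinv hunits
  refine ⟨h, hh0, ?_, ?_⟩
  · intro φ
    obtain ⟨c, hc, hch⟩ := hhS _ ⟨φ, rfl⟩
    refine ⟨1, algebraMap k B c⁻¹, ?_⟩
    rw [← transEquiv_apply, hch, pow_one, Algebra.smul_def, mul_comm (algebraMap k B c), mul_assoc,
      ← map_mul, mul_inv_cancel₀ hc, map_one, mul_one]
  · intro a b hb hab
    obtain ⟨c, d, r, t, hd, hc1, hd1, heq⟩ := hmain a b hb (by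
      rintro _ ⟨φ, rfl⟩
      simp only [transEquiv_apply]
      exact hab φ)
    refine ⟨c, d, r, t, hd, ?_, ?_, heq⟩
    · intro φ
      have := hc1 _ ⟨φ, rfl⟩
      simpa only [transEquiv_apply] using this
    · intro φ
      have := hd1 _ ⟨φ, rfl⟩
      simpa only [transEquiv_apply] using this

end Groth.Agent.Lib.Helper25.InvFracGIT
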