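import Groth.Agent.Lib.Helper25CoactAlg
import Mathlib.RingTheory.Idempotents
import Mathlib.RingTheory.IntegralClosure.IntegrallyClosed
import Mathlib.RingTheory.Localization.FractionRing
import Mathlib.RingTheory.Flat.Basic
import Mathlib.Algebra.Ring.Subring.Basic

/-!
# helper25 library: invariants of a comodule algebra which is a finite product of normal domains

* Hopf part (`coact_supp_idem`, `coact_of_mul_regular`): for a comodule algebra `S` over a Hopf algebra
  over a field, the support idempotent of an invariant element is invariant (annihilators of stable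
  ideals are stable), and if `b` is an invariant nonzerodivisor with `s b` invariant then `s` is
  invariant.
* Ring part (`exists_prod_normal_domains`): a subring `A'` of a finite product of normal domains which
  contains the support idempotents of its elements and is "saturated" with respect to division by its
  everywhere-nonzero elements is a finite product of normal domains (corner rings at the minimal
  idempotents of `A'`).
* `invariants_prod_normal_domains`: the combination.
-/

set_option autoImplicit false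
universe u v w

namespace Groth.Agent.Lib.Helper25.InvND

open Classical TensorProduct HopfRep

section HopfPart

variable {k : Type u} [Field k] {H : Type v} [CommRing H] [HopfAlgebra k H]
variable {S : Type w} [CommRing S] [Algebra k S] [Comod k H S] [GLin.IsCoactAlg k H S]

omit [GLin.IsCoactAlg k H S] in
theorem isSubcomod_bot :
    IsSubcomod (k := k) (A := H) ((⊥ : Ideal S).restrictScalars k) := by
  intro w hw
  have h0 : w = 0 := by
    rw [Submodule.restrictScalars_mem] at hw
    exact (Submodule.mem_bot S).mp hw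
  subst h0
  rw [map_zero]
  exact Submodule.zero_mem _

omit [Comod k H S] [GLin.IsCoactAlg k H S] [HopfAlgebra k H] in
theorem range_rTensor_mul_eq_zero [Algebra k H] (K : Submodule k S) (v : S)
    (hv : ∀ c ∈ K, c * v = 0)
    (z : S ⊗[k] H) (hz : z ∈ LinearMap.range (K.subtype.rTensor H)) :
    z * (v ⊗ₜ[k] (1 : H)) = 0 := by
  obtain ⟨w, rfl⟩ := hz
  induction w using TensorProduct.induction_on with
  | zero => simp
  | add x y hx hy => rw [map_add, add_mul, hx, hy, add_zero]
  | tmul c h =>
    rw [LinearMap.rTensor_tmul, Submodule.subtype_apply, Algebra.TensorProduct.tmul_mul_tmul,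
      hv c.1 c.2, TensorProduct.zero_tmul]

/-- The support idempotent of an invariant element is invariant. -/
theorem coact_supp_idem {a ε : S}
    (ha : Comod.coact (k := k) (A := H) a = a ⊗ₜ[k] (1 : H)) (hε : ε * ε = ε)
    (hann : ∀ c : S, c * a = 0 ↔ c * ε = 0) :
    Comod.coact (k := k) (A := H) ε = ε ⊗ₜ[k] (1 : H) := by
  have hεε : ε * (1 - ε) = 0 := by rw [mul_sub, mul_one, hε, sub_self]
  have hI : IsSubcomod (k := k) (A := H) ((Ideal.span {a}).restrictScalars k) := by
    apply isSubcomod_span_of_fixedPts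
    intro f hf
    rw [Set.mem_singleton_iff] at hf
    subst hf
    exact ha
  set K₁ : Submodule k S := (Ideal.span {1 - ε}).restrictScalars k with hK₁def
  have hK₁ : ∀ c : S, c ∈ K₁ ↔ ∀ y ∈ Ideal.span {a}, c * y ∈ (⊥ : Ideal S) := by
    intro c
    rw [hK₁def, Submodule.restrictScalars_mem, Ideal.mem_span_singleton']
    constructor
    · rintro ⟨r, rfl⟩ y hy
      obtain ⟨t, rfl⟩ := Ideal.mem_span_singleton'.mp hy
      have h1 : (1 - ε) * a = 0 := (hann (1 - ε)).mpr (by rw [mul_comm]; exact hεε)
      rw [Ideal.mem_bot]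
      calc r * (1 - ε) * (t * a) = r * t * ((1 - ε) * a) := by ring
        _ = 0 := by rw [h1, mul_zero]
    · intro h
      have h1 := h a (Ideal.subset_span rfl)
      rw [Ideal.mem_bot] at h1
      have h2 := (hann c).mp h1
      exact ⟨c, by rw [mul_sub, mul_one, h2, sub_zero]⟩
  have hsub₁ : IsSubcomod (k := k) (A := H) K₁ := isSubcomod_colon hI isSubcomod_bot K₁ hK₁
  set K₂ : Submodule k S := (Ideal.span {ε}).restrictScalars k with hK₂def
  have hK₂ : ∀ c : S, c ∈ K₂ ↔ ∀ y ∈ Ideal.span {1 - ε}, c * y ∈ (⊥ : Ideal S) := by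
    intro c
    rw [hK₂def, Submodule.restrictScalars_mem, Ideal.mem_span_singleton']
    constructor
    · rintro ⟨r, rfl⟩ y hy
      obtain ⟨t, rfl⟩ := Ideal.mem_span_singleton'.mp hy
      rw [Ideal.mem_bot]
      calc r * ε * (t * (1 - ε)) = r * t * (ε * (1 - ε)) := by ring
        _ = 0 := by rw [hεε, mul_zero]
    · intro h
      have h1 := h (1 - ε) (Ideal.subset_span rfl)
      rw [Ideal.mem_bot, mul_sub, mul_one, sub_eq_zero] at h1
      exact ⟨c, h1.symm⟩
  have hsub₂ : IsSubcomod (k := k) (A := H) K₂ := isSubcomod_colon hsub₁ isSubcomod_bot K₂ hK₂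
  have e1 : Comod.coact (k := k) (A := H) ε * ((1 - ε) ⊗ₜ[k] (1 : H)) = 0 := by
    refine range_rTensor_mul_eq_zero K₂ (1 - ε) ?_ _ (hsub₂ ε ?_)
    · intro c hc
      rw [hK₂def, Submodule.restrictScalars_mem, Ideal.mem_span_singleton'] at hc
      obtain ⟨r, rfl⟩ := hc
      rw [mul_assoc, hεε, mul_zero]
    · rw [hK₂def, Submodule.restrictScalars_mem]
      exact Ideal.subset_span rfl
  have e2 : Comod.coact (k := k) (A := H) (1 - ε) * (ε ⊗ₜ[k] (1 : H)) = 0 := by
    refine range_rTensor_mul_eq_zero K₁ ε ?_ _ (hsub₁ (1 - ε) ?_)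
    · intro c hc
      rw [hK₁def, Submodule.restrictScalars_mem, Ideal.mem_span_singleton'] at hc
      obtain ⟨r, rfl⟩ := hc
      rw [mul_assoc, mul_comm (1 - ε), hεε, mul_zero]
    · rw [hK₁def, Submodule.restrictScalars_mem]
      exact Ideal.subset_span rfl
  rw [map_sub, GLin.IsCoactAlg.coact_one, sub_mul, one_mul, sub_eq_zero] at e2
  rw [TensorProduct.sub_tmul, mul_sub, ← Algebra.TensorProduct.one_def, mul_one, sub_eq_zero] at e1
  rw [e1, ← e2]

omit [HopfAlgebra k H] [Comod k H S] [GLin.IsCoactAlg k H S] in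
theorem tmul_one_regular [Algebra k H] {b : S} (hreg : ∀ c : S, c * b = 0 → c = 0) (z : S ⊗[k] H)
    (hz : z * (b ⊗ₜ[k] (1 : H)) = 0) : z = 0 := by
  have hinj : Function.Injective (LinearMap.mulRight k b) := by
    rw [injective_iff_map_eq_zero]
    intro c hc
    exact hreg c hc
  have hinj2 := Module.Flat.rTensor_preserves_injective_linearMap (M := H) _ hinj
  have e : ∀ z : S ⊗[k] H, (LinearMap.mulRight k b).rTensor H z = z * (b ⊗ₜ[k] (1 : H)) := by
    intro z
    induction z using TensorProduct.induction_on with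
    | zero => simp
    | add x y hx hy => rw [map_add, add_mul, hx, hy]
    | tmul c h =>
      rw [LinearMap.rTensor_tmul, LinearMap.mulRight_apply, Algebra.TensorProduct.tmul_mul_tmul,
        mul_one]
  apply hinj2
  rw [e, hz, map_zero]

/-- If `b` is an invariant nonzerodivisor and `s b` is invariant then `s` is invariant. -/
theorem coact_of_mul_regular {b s : S}
    (hb : Comod.coact (k := k) (A := H) b = b ⊗ₜ[k] (1 : H))
    (hreg : ∀ c : S, c * b = 0 → c = 0)
    (hsb : Comod.coact (k := k) (A := H) (s * b) = (s * b) ⊗ₜ[k] (1 : H)) :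
    Comod.coact (k := k) (A := H) s = s ⊗ₜ[k] (1 : H) := by
  rw [← sub_eq_zero]
  apply tmul_one_regular hreg
  rw [sub_mul, sub_eq_zero, ← hb, ← GLin.IsCoactAlg.coact_mul, hsb, hb,
    Algebra.TensorProduct.tmul_mul_tmul, mul_one]

end HopfPart

section RingPart

variable {ι : Type u} [Fintype ι] {D : ι → Type u} [∀ i, CommRing (D i)] [∀ i, IsDomain (D i)]
variable (A' : Subring (Π i, D i))

/-- Idempotents of a product of domains have coordinates `0` or `1`. -/
theorem idem_coord {f : Π i, D i} (hf : f * f = f) (j : ι) : f j = 0 ∨ f j = 1 := by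
  have h := congrFun hf j
  simp only [Pi.mul_apply] at h
  have h2 : f j * (f j - 1) = 0 := by rw [mul_sub, h, mul_one, sub_self]
  rcases mul_eq_zero.mp h2 with h3 | h3
  · exact Or.inl h3
  · exact Or.inr (sub_eq_zero.mp h3)

/-- The idempotents of `A'`. -/
def Idem : Set (Π i, D i) := {f | f ∈ A' ∧ f * f = f}

theorem idem_finite : (Idem A').Finite := by
  have hinj : Set.InjOn (fun f : Π i, D i => (Finset.univ.filter (fun j => f j = 1) : Finset ι))
      (Idem A') := by
    intro f hf g hg hfg
    funext j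
    have h1 : (j ∈ Finset.univ.filter (fun j => f j = 1)) ↔
        (j ∈ Finset.univ.filter (fun j => g j = 1)) := by
      simp only at hfg
      rw [hfg]
    simp only [Finset.mem_filter, Finset.mem_univ, true_and] at h1
    rcases idem_coord hf.2 j with h | h
    · rcases idem_coord hg.2 j with h' | h'
      · rw [h, h']
      · have := h1.mpr h'
        rw [h] at this
        exact absurd this zero_ne_one
    · rw [h, h1.mp h]
  exact Set.Finite.of_finite_image (Set.toFinite _) hinj

/-- The minimal idempotent of `A'` which is `1` at `i`. -/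
noncomputable def mI (i : ι) : Π i, D i :=
  ∏ f ∈ (idem_finite A').toFinset.filter (fun f => f i = 1), f

theorem mI_mem (i : ι) : mI A' i ∈ A' := by
  unfold mI
  refine Subring.prod_mem _ (fun f hf => ?_)
  rw [Finset.mem_filter, Set.Finite.mem_toFinset] at hf
  exact hf.1.1

theorem mI_idem (i : ι) : mI A' i * mI A' i = mI A' i := by
  unfold mI
  rw [← Finset.prod_mul_distrib]
  refine Finset.prod_congr rfl (fun f hf => ?_)
  rw [Finset.mem_filter, Set.Finite.mem_toFinset] at hf
  exact hf.1.2

theorem mI_self (i : ι) : mI A' i i = 1 := by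
  unfold mI
  rw [Finset.prod_apply]
  refine Finset.prod_eq_one (fun f hf => ?_)
  rw [Finset.mem_filter] at hf
  exact hf.2

theorem mI_mem_Idem (i : ι) : mI A' i ∈ Idem A' := ⟨mI_mem A' i, mI_idem A' i⟩

theorem mI_mul_of_mem {f : Π i, D i} (hf : f ∈ Idem A') {i : ι} (hi : f i = 1) :
    mI A' i * f = mI A' i := by
  unfold mI
  have hmem : f ∈ (idem_finite A').toFinset.filter (fun f => f i = 1) := by
    rw [Finset.mem_filter, Set.Finite.mem_toFinset]
    exact ⟨hf, hi⟩
  rw [← Finset.mul_prod_erase _ _ hmem, mul_comm, ← mul_assoc, hf.2]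

theorem one_sub_mem_Idem {g : Π i, D i} (hg : g ∈ Idem A') : 1 - g ∈ Idem A' := by
  refine ⟨A'.sub_mem A'.one_mem hg.1, ?_⟩
  have := hg.2
  ring_nf
  rw [sq, this]
  ring

/-- `mI i` is an atom. -/
theorem mI_atom {g : Π i, D i} (hg : g ∈ Idem A') {i : ι} (hle : g * mI A' i = g) :
    g = 0 ∨ g = mI A' i := by
  rcases idem_coord hg.2 i with h | h
  · left
    have h1 : (1 - g) i = 1 := by simp [h]
    have h2 := mI_mul_of_mem A' (one_sub_mem_Idem A' hg) h1
    rw [mul_sub, mul_one, sub_eq_self] at h2
    rw [← hle, mul_comm, h2]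
  · right
    have h2 := mI_mul_of_mem A' hg h
    rw [← hle, mul_comm, h2]

theorem mI_dichotomy (i j : ι) : mI A' i = mI A' j ∨ mI A' i * mI A' j = 0 := by
  have hg : mI A' i * mI A' j ∈ Idem A' := by
    refine ⟨A'.mul_mem (mI_mem A' i) (mI_mem A' j), ?_⟩
    rw [mul_mul_mul_comm, mI_idem, mI_idem]
  have h1 : mI A' i * mI A' j * mI A' i = mI A' i * mI A' j := by
    rw [mul_right_comm, mI_idem]
  have h2 : mI A' i * mI A' j * mI A' j = mI A' i * mI A' j := by
    rw [mul_assoc, mI_idem]
  rcases mI_atom A' hg h1 with h | h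
  · exact Or.inr h
  · rcases mI_atom A' hg h2 with h' | h'
    · exact Or.inr h'
    · exact Or.inl (h.symm.trans h')

end RingPart

section RingPart2

variable {ι : Type u} [Fintype ι] {D : ι → Type u} [∀ i, CommRing (D i)] [∀ i, IsDomain (D i)]
variable (A' : Subring (Π i, D i))

/-- The index type: the distinct minimal idempotents. -/
noncomputable def Kap : Finset (Π i, D i) := Finset.univ.image (mI A')

theorem exists_of_mem_Kap {g : Π i, D i} (hg : g ∈ Kap A') : ∃ i, mI A' i = g := by
  unfold Kap at hg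
  rw [Finset.mem_image] at hg
  obtain ⟨i, _, hi⟩ := hg
  exact ⟨i, hi⟩

theorem mI_mem_Kap (i : ι) : mI A' i ∈ Kap A' := by
  unfold Kap
  exact Finset.mem_image_of_mem _ (Finset.mem_univ i)

/-- The family of idempotents. -/
noncomputable def eK (g : Kap A') : A' :=
  ⟨g.1, by obtain ⟨i, hi⟩ := exists_of_mem_Kap A' g.2; rw [← hi]; exact mI_mem A' i⟩

theorem eK_complete : CompleteOrthogonalIdempotents (eK A') := by
  refine ⟨⟨?_, ?_⟩, ?_⟩
  · intro g
    obtain ⟨i, hi⟩ := exists_of_mem_Kap A' g.2
    apply Subtype.ext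
    change g.1 * g.1 = g.1
    rw [← hi]
    exact mI_idem A' i
  · intro g g' hne
    obtain ⟨i, hi⟩ := exists_of_mem_Kap A' g.2
    obtain ⟨j, hj⟩ := exists_of_mem_Kap A' g'.2
    apply Subtype.ext
    change g.1 * g'.1 = 0
    rw [← hi, ← hj]
    rcases mI_dichotomy A' i j with h | h
    · exfalso
      apply hne
      apply Subtype.ext
      rw [← hi, ← hj, h]
    · exact h
  · apply Subtype.ext
    rw [AddSubmonoidClass.coe_finset_sum]
    funext j
    rw [Finset.sum_apply]
    change ∑ g : Kap A', g.1 j = 1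
    rw [Finset.sum_eq_single (⟨mI A' j, mI_mem_Kap A' j⟩ : Kap A')]
    · exact mI_self A' j
    · intro g _ hne
      obtain ⟨i, hi⟩ := exists_of_mem_Kap A' g.2
      rcases mI_dichotomy A' i j with h | h
      · exfalso
        apply hne
        apply Subtype.ext
        change g.1 = mI A' j
        rw [← hi, h]
      · have := congrFun h j
        simp only [Pi.mul_apply, Pi.zero_apply, mI_self, mul_one] at this
        rw [← hi]
        exact this
    · intro h
      exact absurd (Finset.mem_univ _) h

end RingPart2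

section RingPart3

variable {ι : Type u} [Fintype ι] {D : ι → Type u} [∀ i, CommRing (D i)] [∀ i, IsDomain (D i)]
variable (A' : Subring (Π i, D i))
variable (h1 : ∀ a ∈ A', (fun i => if a i = 0 then (0 : D i) else 1) ∈ A')

include h1 in
theorem supp_lemma {x : Π i, D i} (hx : x ∈ A') {i : ι} (hxi : mI A' i * x = x) :
    x = 0 ∨ ∀ j, mI A' i j = 1 → x j ≠ 0 := by
  set s : Π i, D i := fun j => if x j = 0 then 0 else 1 with hs
  have hsI : s ∈ Idem A' := by
    refine ⟨h1 x hx, ?_⟩
    funext j
    simp only [Pi.mul_apply, hs]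
    split_ifs <;> simp
  have hle : s * mI A' i = s := by
    funext j
    simp only [Pi.mul_apply, hs]
    split_ifs with h
    · simp
    · have h2 := congrFun hxi j
      simp only [Pi.mul_apply] at h2
      have h3 : mI A' i j = 1 := by
        have h4 : (mI A' i j - 1) * x j = 0 := by rw [sub_mul, h2, one_mul, sub_self]
        rcases mul_eq_zero.mp h4 with h5 | h5
        · exact sub_eq_zero.mp h5
        · exact absurd h5 h
      rw [h3, mul_one]
  rcases mI_atom A' hsI hle with h | h
  · left
    funext j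
    have h2 := congrFun h j
    simp only [hs, Pi.zero_apply] at h2
    by_contra hne
    change ¬ (x j = 0) at hne
    rw [if_neg hne] at h2
    exact one_ne_zero h2
  · right
    intro j hj hxj
    have h2 := congrFun h j
    simp only [hs] at h2
    rw [if_pos hxj, hj] at h2
    exact zero_ne_one h2

/-- The corner ring at `g`. -/
abbrev Cor (g : Kap A') : Type u := ((eK_complete A').idem g).Corner

theorem cor_mul {g : Kap A'} (x : Cor A' g) : g.1 * x.1.1 = x.1.1 := by
  have h := ((Subsemigroup.mem_corner_iff ((eK_complete A').idem g)).mp x.2).1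
  exact congrArg Subtype.val h

theorem cor_mem {g : Kap A'} (x : Cor A' g) : x.1.1 ∈ A' := x.1.2

theorem cor_ext {g : Kap A'} {x y : Cor A' g} (h : x.1.1 = y.1.1) : x = y :=
  Subtype.ext (Subtype.ext h)

theorem cor_zero_val {g : Kap A'} : (0 : Cor A' g).1.1 = 0 := rfl
theorem cor_one_val {g : Kap A'} : (1 : Cor A' g).1.1 = g.1 := rfl
theorem cor_mul_val {g : Kap A'} (x y : Cor A' g) : (x * y).1.1 = x.1.1 * y.1.1 := rfl
theorem cor_add_val {g : Kap A'} (x y : Cor A' g) : (x + y).1.1 = x.1.1 + y.1.1 := rfl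

include h1 in
theorem cor_supp {g : Kap A'} {i : ι} (hi : mI A' i = g.1) (x : Cor A' g) (hx : x ≠ 0) :
    ∀ j, mI A' i j = 1 → x.1.1 j ≠ 0 := by
  have hxi : mI A' i * x.1.1 = x.1.1 := by rw [hi]; exact cor_mul A' x
  rcases supp_lemma A' h1 (cor_mem A' x) hxi with h | h
  · exfalso
    apply hx
    apply cor_ext
    rw [h]
    rfl
  · exact h

include h1 in
theorem cor_isDomain (g : Kap A') : IsDomain (Cor A' g) := by
  obtain ⟨i, hi⟩ := exists_of_mem_Kap A' g.2
  haveI : Nontrivial (Cor A' g) := by
    refine ⟨⟨0, 1, ?_⟩⟩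
    intro h
    have h2 := congrArg (fun x : Cor A' g => x.1.1 i) h
    simp only [cor_zero_val, cor_one_val, Pi.zero_apply] at h2
    rw [← hi, mI_self] at h2
    exact zero_ne_one h2
  haveI : NoZeroDivisors (Cor A' g) := by
    refine ⟨fun {x y} hxy => ?_⟩
    by_contra hne
    push_neg at hne
    have hx := cor_supp A' h1 hi x hne.1 i (mI_self A' i)
    have hy := cor_supp A' h1 hi y hne.2 i (mI_self A' i)
    have h2 := congrArg (fun x : Cor A' g => x.1.1 i) hxy
    simp only [cor_mul_val, cor_zero_val, Pi.mul_apply, Pi.zero_apply] at h2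
    rcases mul_eq_zero.mp h2 with h3 | h3
    · exact hx h3
    · exact hy h3
  exact NoZeroDivisors.to_isDomain _

end RingPart3

section RingPart4

variable {ι : Type u} [Fintype ι] {D : ι → Type u} [∀ i, CommRing (D i)] [∀ i, IsDomain (D i)]
variable (A' : Subring (Π i, D i))
variable (h1 : ∀ a ∈ A', (fun i => if a i = 0 then (0 : D i) else 1) ∈ A')
variable (h2 : ∀ b ∈ A', (∀ i, b i ≠ 0) → ∀ s : Π i, D i, s * b ∈ A' → s ∈ A')

/-- Evaluation at a coordinate in the support of `g`. -/
noncomputable def corEval {g : Kap A'} (j : ι) (hj : g.1 j = 1) : Cor A' g →+* D j where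
  toFun x := x.1.1 j
  map_one' := by rw [cor_one_val]; exact hj
  map_mul' x y := by rw [cor_mul_val]; rfl
  map_zero' := rfl
  map_add' x y := by rw [cor_add_val]; rfl

theorem corEval_apply {g : Kap A'} (j : ι) (hj : g.1 j = 1) (x : Cor A' g) :
    corEval A' j hj x = x.1.1 j := rfl

include h1 in
theorem corEval_injective {g : Kap A'} (j : ι) (hj : g.1 j = 1) :
    Function.Injective (corEval A' j hj) := by
  obtain ⟨i, hi⟩ := exists_of_mem_Kap A' g.2
  rw [injective_iff_map_eq_zero]
  intro x hx
  by_contra hne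
  exact cor_supp A' h1 hi x hne j (by rw [hi]; exact hj) hx

theorem g_idem (g : Kap A') : g.1 * g.1 = g.1 := by
  obtain ⟨i, hi⟩ := exists_of_mem_Kap A' g.2
  rw [← hi]
  exact mI_idem A' i

theorem g_mem (g : Kap A') : g.1 ∈ A' := by
  obtain ⟨i, hi⟩ := exists_of_mem_Kap A' g.2
  rw [← hi]
  exact mI_mem A' i

theorem cor_val_zero_of {g : Kap A'} (x : Cor A' g) {j : ι} (hj : g.1 j ≠ 1) : x.1.1 j = 0 := by
  have hg0 : g.1 j = 0 := (idem_coord (g_idem A' g) j).resolve_right hj
  have h := congrFun (cor_mul A' x) j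
  simp only [Pi.mul_apply, hg0, zero_mul] at h
  exact h.symm

include h1 h2 in
theorem cor_isIntegrallyClosed [∀ i, IsIntegrallyClosed (D i)] (g : Kap A') :
    IsIntegrallyClosed (Cor A' g) := by
  haveI := cor_isDomain A' h1 g
  obtain ⟨i, hi⟩ := exists_of_mem_Kap A' g.2
  rw [isIntegrallyClosed_iff (FractionRing (Cor A' g))]
  intro x hx
  obtain ⟨a, b, hb, rfl⟩ := IsFractionRing.div_surjective (A := Cor A' g) x
  have hb0 : b ≠ 0 := nonZeroDivisors.ne_zero hb
  have key : ∀ j, g.1 j = 1 → ∃ s : D j, s * b.1.1 j = a.1.1 j := by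
    intro j hj
    have hπ := corEval_injective A' h1 j hj
    set G : Cor A' g →+* FractionRing (D j) :=
      (algebraMap (D j) (FractionRing (D j))).comp (corEval A' j hj) with hG
    have hGinj : Function.Injective G :=
      (IsFractionRing.injective (D j) (FractionRing (D j))).comp hπ
    have hint : IsIntegral (D j) (IsFractionRing.lift hGinj
        (algebraMap (Cor A' g) (FractionRing (Cor A' g)) a /
          algebraMap (Cor A' g) (FractionRing (Cor A' g)) b)) := by
      refine IsIntegral.map_of_comp_eq (corEval A' j hj) (IsFractionRing.lift hGinj) ?_ hx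
      ext y
      simp only [RingHom.comp_apply, IsFractionRing.lift_algebraMap]
      rfl
    obtain ⟨s, hs⟩ := IsIntegrallyClosed.isIntegral_iff.mp hint
    refine ⟨s, ?_⟩
    rw [map_div₀, IsFractionRing.lift_algebraMap, IsFractionRing.lift_algebraMap] at hs
    have hGb : G b ≠ 0 := (map_ne_zero_iff G hGinj).mpr hb0
    rw [eq_div_iff hGb] at hs
    apply IsFractionRing.injective (D j) (FractionRing (D j))
    rw [map_mul]
    exact hs
  choose! s hs using key
  set t : Π i, D i := fun j => if g.1 j = 1 then s j else 0 with ht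
  have ht_b : t * b.1.1 = a.1.1 := by
    funext j
    simp only [Pi.mul_apply, ht]
    split_ifs with hj
    · exact hs j hj
    · rw [zero_mul, cor_val_zero_of A' a hj]
  have ht_g : g.1 * t = t := by
    funext j
    simp only [Pi.mul_apply, ht]
    split_ifs with hj
    · rw [hj, one_mul]
    · rw [mul_zero]
  have hb' : b.1.1 + (1 - g.1) ∈ A' :=
    A'.add_mem (cor_mem A' b) (A'.sub_mem A'.one_mem (g_mem A' g))
  have hreg : ∀ j, (b.1.1 + (1 - g.1)) j ≠ 0 := by
    intro j
    simp only [Pi.add_apply, Pi.sub_apply, Pi.one_apply]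
    by_cases hj : g.1 j = 1
    · rw [hj, sub_self, add_zero]
      exact cor_supp A' h1 hi b hb0 j (by rw [hi]; exact hj)
    · have hg0 : g.1 j = 0 := (idem_coord (g_idem A' g) j).resolve_right hj
      rw [cor_val_zero_of A' b hj, hg0, sub_zero, zero_add]
      exact one_ne_zero
  have ht_mem : t ∈ A' := by
    refine h2 _ hb' hreg t ?_
    have h0 : t * (1 - g.1) = 0 := by
      rw [mul_sub, mul_one, mul_comm, ht_g, sub_self]
    rw [mul_add, ht_b, h0, add_zero]
    exact cor_mem A' a
  have ht_cor : (⟨t, ht_mem⟩ : A') ∈ Subsemigroup.corner (eK A' g) := by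
    rw [Subsemigroup.mem_corner_iff ((eK_complete A').idem g)]
    constructor
    · apply Subtype.ext
      exact ht_g
    · apply Subtype.ext
      change t * g.1 = t
      rw [mul_comm]
      exact ht_g
  refine ⟨⟨⟨t, ht_mem⟩, ht_cor⟩, ?_⟩
  have hbK : algebraMap (Cor A' g) (FractionRing (Cor A' g)) b ≠ 0 :=
    (map_ne_zero_iff _ (IsFractionRing.injective (Cor A' g) (FractionRing (Cor A' g)))).mpr hb0
  rw [eq_div_iff hbK, ← map_mul]
  congr 1
  apply cor_ext
  exact ht_b

end RingPart4

theorem exists_prod_normal_domains {ι : Type u} [Fintype ι] {D : ι → Type u}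
    [∀ i, CommRing (D i)] [∀ i, IsDomain (D i)] [∀ i, IsIntegrallyClosed (D i)]
    (A' : Subring (Π i, D i))
    (h1 : ∀ a ∈ A', (fun i => if a i = 0 then (0 : D i) else 1) ∈ A')
    (h2 : ∀ b ∈ A', (∀ i, b i ≠ 0) → ∀ s : Π i, D i, s * b ∈ A' → s ∈ A') :
    ∃ (κ : Type u) (_ : Fintype κ) (E : κ → Type u) (_ : ∀ j, CommRing (E j))
      (_ : ∀ j, IsDomain (E j)) (_ : ∀ j, IsIntegrallyClosed (E j)),
      Nonempty (A' ≃+* Π j, E j) :=
  ⟨Kap A', inferInstance, Cor A', fun _ => inferInstance, cor_isDomain A' h1,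
    cor_isIntegrallyClosed A' h1 h2, ⟨(eK_complete A').ringEquivOfComm⟩⟩

theorem invariants_prod_normal_domains (k : Type u) [Field k]
    (H : Type u) [CommRing H] [HopfAlgebra k H]
    (S : Type u) [CommRing S] [Algebra k S] [HopfRep.Comod k H S]
    (hmul : ∀ x y : S, HopfRep.Comod.coact (k := k) (A := H) (x * y) =
        HopfRep.Comod.coact (k := k) (A := H) x * HopfRep.Comod.coact (k := k) (A := H) y)
    (hone : HopfRep.Comod.coact (k := k) (A := H) (1 : S) = 1)
    {ι : Type u} [Fintype ι] (D : ι → Type u) [∀ i, CommRing (D i)] [∀ i, IsDomain (D i)]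
    [∀ i, IsIntegrallyClosed (D i)] (e : S ≃+* Π i, D i)
    (A : Subalgebra k S)
    (hA : ∀ a : S, a ∈ A ↔ HopfRep.Comod.coact (k := k) (A := H) a = a ⊗ₜ[k] (1 : H)) :
    ∃ (κ : Type u) (_ : Fintype κ) (E : κ → Type u) (_ : ∀ j, CommRing (E j))
      (_ : ∀ j, IsDomain (E j)) (_ : ∀ j, IsIntegrallyClosed (E j)),
      Nonempty (A ≃+* Π j, E j) := by
  haveI : GLin.IsCoactAlg k H S := ⟨hone, hmul⟩
  set A' : Subring (Π i, D i) := A.toSubring.map (e : S →+* Π i, D i) with hA'
  have h1 : ∀ a ∈ A', (fun i => if a i = 0 then (0 : D i) else 1) ∈ A' := by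
    rintro _ ⟨a, ha, rfl⟩
    set ind : Π i, D i := fun i => if e a i = 0 then 0 else 1 with hind
    refine ⟨e.symm ind, ?_, e.apply_symm_apply ind⟩
    change e.symm ind ∈ A
    rw [hA]
    have ha' : a ∈ A := ha
    apply coact_supp_idem ((hA a).mp ha')
    · rw [← map_mul]
      congr 1
      funext i
      simp only [Pi.mul_apply, hind]
      split_ifs <;> simp
    · intro c
      rw [← map_eq_zero_iff e e.injective, ← map_eq_zero_iff e e.injective (x := c * e.symm ind),
        map_mul, map_mul, e.apply_symm_apply, funext_iff, funext_iff]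
      refine forall_congr' (fun i => ?_)
      simp only [Pi.mul_apply, Pi.zero_apply, hind]
      split_ifs with h
      · simp [h]
      · simp [h]
  have h2 : ∀ b ∈ A', (∀ i, b i ≠ 0) → ∀ s : Π i, D i, s * b ∈ A' → s ∈ A' := by
    rintro _ ⟨b, hb, rfl⟩ hreg s' ⟨x, hx, hxe⟩
    have hb' : b ∈ A := hb
    have hx' : x ∈ A := hx
    refine ⟨e.symm s', ?_, e.apply_symm_apply s'⟩
    change e.symm s' ∈ A
    rw [hA]
    have hxs : e.symm s' * b = x := by
      apply e.injective
      rw [map_mul, e.apply_symm_apply]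
      exact hxe.symm
    apply coact_of_mul_regular ((hA b).mp hb')
    · intro c hc
      apply e.injective
      rw [map_zero]
      funext i
      have h3 := congrFun (congrArg e hc) i
      rw [map_mul, map_zero] at h3
      simp only [Pi.mul_apply, Pi.zero_apply] at h3
      rcases mul_eq_zero.mp h3 with h4 | h4
      · exact h4
      · exact absurd h4 (hreg i)
    · rw [hxs]
      exact (hA x).mp hx'
  obtain ⟨κ, fκ, E, i1, i2, i3, ⟨iso⟩⟩ := exists_prod_normal_domains A' h1 h2
  have eqv : A ≃+* A' := (RingEquiv.subringMap e : A.toSubring ≃+* _)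
  exact ⟨κ, fκ, E, i1, i2, i3, ⟨eqv.trans iso⟩⟩

end Groth.Agent.Lib.Helper25.InvND
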