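import Groth.Agent.Lib.Helper25FamDesc
import Groth.Agent.Lib.Helper25FamProj
import Groth.Agent.Lib.Helper25BCComod
import Groth.Agent.Lib.Helper25HCd

/-!
# Family descent preliminaries for finite groups of multiplicative type (helper25)

* `faithfullyFlat_pi_of_primes`: a finite family of flat algebras through which every prime lifts
  has faithfully flat product.
* `isCocomm_of_family`: cocommutativity descends along a jointly faithfully flat finite family.
-/

set_option autoImplicit false
set_option linter.unusedSectionVars false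
set_option linter.style.haveILetI false
universe u

namespace Groth.Agent.Lib.Helper25.IsoTriv

open TensorProduct Groth.Agent.Lib.Helper25

section FF

variable {R : Type u} [CommRing R] {ι : Type u} [Fintype ι] [DecidableEq ι]
  (S : ι → Type u) [∀ i, CommRing (S i)] [∀ i, Algebra R (S i)]

theorem faithfullyFlat_pi_of_primes [∀ i, Module.Flat R (S i)]
    (h : ∀ p : Ideal R, p.IsPrime → ∃ j, ∃ q : Ideal (S j), q.IsPrime ∧
      q.comap (algebraMap R (S j)) = p) :
    Module.FaithfullyFlat R (∀ i, S i) := by
  apply FamDesc.faithfullyFlat_pi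
  intro m hm
  obtain ⟨j, q, hq, hqm⟩ := h m hm.isPrime
  refine ⟨j, fun htop => ?_⟩
  have hle : m • (⊤ : Submodule R (S j)) ≤ q.restrictScalars R := by
    rw [Submodule.smul_le]
    intro a ha x _
    change a • x ∈ q
    rw [Algebra.smul_def]
    apply Ideal.mul_mem_right
    rw [← hqm] at ha
    exact ha
  have h1 : (1 : S j) ∈ q := by
    have : (1 : S j) ∈ m • (⊤ : Submodule R (S j)) := by rw [htop]; trivial
    exact hle this
  exact hq.ne_top ((Ideal.eq_top_iff_one q).mpr h1)

end FF

section Cocomm

variable {R : Type u} [CommRing R] {ι : Type u} [Fintype ι] [DecidableEq ι]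
  (S : ι → Type u) [∀ i, CommRing (S i)] [∀ i, Algebra R (S i)]
  [Module.FaithfullyFlat R (∀ i, S i)]
  (A : Type u) [CommRing A] [HopfAlgebra R A]

theorem distribBaseChange_one_tmul (P : Type u) [CommRing P] [Algebra R P] (w : A ⊗[R] A) :
    TensorProduct.AlgebraTensorModule.distribBaseChange R P A A ((1 : P) ⊗ₜ[R] w) =
      bcMapG R P A A w := by
  induction w using TensorProduct.induction_on with
  | zero => simp
  | add x y hx hy => rw [TensorProduct.tmul_add, map_add, hx, hy, map_add]
  | tmul a b =>
    rw [bcMapG_tmul]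
    rfl

theorem bcMapG_comm (P : Type u) [CommRing P] [Algebra R P] (w : A ⊗[R] A) :
    bcMapG R P A A (TensorProduct.comm R A A w) =
      TensorProduct.comm P (P ⊗[R] A) (P ⊗[R] A) (bcMapG R P A A w) := by
  induction w using TensorProduct.induction_on with
  | zero => simp
  | add x y hx hy => simp only [map_add, hx, hy]
  | tmul a b => simp [bcMapG_tmul]

theorem isCocomm_of_family (h : ∀ i, Coalgebra.IsCocomm (S i) (S i ⊗[R] A)) :
    Coalgebra.IsCocomm R A := by
  refine ⟨?_⟩
  apply LinearMap.ext
  intro a
  rw [LinearMap.comp_apply]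
  rw [← sub_eq_zero]
  apply FamDesc.eq_zero_of_forall_one_tmul (R := R) S (A ⊗[R] A)
  intro i
  haveI := h i
  apply (TensorProduct.AlgebraTensorModule.distribBaseChange R (S i) A A).injective
  rw [map_zero, distribBaseChange_one_tmul, map_sub]
  have h1 : bcMapG R (S i) A A ((TensorProduct.comm R A A) (CoalgebraStruct.comul (R := R) a)) =
      TensorProduct.comm (S i) _ _ (bcMapG R (S i) A A (CoalgebraStruct.comul (R := R) a)) :=
    bcMapG_comm A (S i) _
  change bcMapG R (S i) A A ((TensorProduct.comm R A A) (CoalgebraStruct.comul (R := R) a)) -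
    bcMapG R (S i) A A (CoalgebraStruct.comul (R := R) a) = 0
  rw [h1, ← comul_one_tmul', sub_eq_zero]
  exact Coalgebra.comm_comul (S i) _

end Cocomm

end Groth.Agent.Lib.Helper25.IsoTriv
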