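import Groth.Agent.Lib.Helper25DualEval
import Groth.Agent.Lib.Helper25BCComod
import Mathlib.RingTheory.Coalgebra.TensorProduct
import Mathlib.RingTheory.HopfAlgebra.TensorProduct

/-!
# Base change of the dual algebra of a finite projective Hopf algebra (helper25)

For a commutative Hopf algebra `A` over `R`, finite projective as a module, and an `R`-algebra `T`:
`dualBC R A T : T ⊗[R] DA R A ≃ₐ[T] DA T (T ⊗[R] A)`, where `DA R A = WithConv (A →ₗ[R] R)` is the
dual algebra (convolution product).
-/

set_option autoImplicit false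
set_option linter.unusedSectionVars false
universe u

namespace Groth.Agent.Lib.Helper25.IsoTriv

open TensorProduct WithConv Groth.Agent.Lib.Helper25 Groth.Agent.Lib.Helper25.DualEval

section Pairing

variable (R : Type u) [CommRing R] (A : Type u) [CommRing A] [HopfAlgebra R A]
  (T : Type u) [CommRing T] [Algebra R T]

/-- The `T`-linear form on `T ⊗ A` induced by a linear form on `A`. -/
noncomputable def evT (x : A →ₗ[R] R) : T ⊗[R] A →ₗ[T] T :=
  (TensorProduct.AlgebraTensorModule.rid R T T).toLinearMap ∘ₗ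
    TensorProduct.AlgebraTensorModule.map (LinearMap.id : T →ₗ[T] T) x

variable {R A T}

theorem evT_tmul (x : A →ₗ[R] R) (t : T) (a : A) : evT R A T x (t ⊗ₜ[R] a) = x a • t := by
  simp [evT]

theorem evT_add (x y : A →ₗ[R] R) : evT R A T (x + y) = evT R A T x + evT R A T y := by
  apply TensorProduct.AlgebraTensorModule.ext
  intro t a
  rw [LinearMap.add_apply, evT_tmul, evT_tmul, evT_tmul, LinearMap.add_apply, add_smul]

theorem evT_smul (c : R) (x : A →ₗ[R] R) : evT R A T (c • x) = c • evT R A T x := by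
  apply TensorProduct.AlgebraTensorModule.ext
  intro t a
  rw [LinearMap.smul_apply, evT_tmul, evT_tmul, LinearMap.smul_apply, smul_assoc]

/-- `T`-linear maps out of `T ⊗ A` agreeing on `1 ⊗ a` are equal. -/
theorem ext_one_tmul {N : Type*} [AddCommGroup N] [Module T N] {f f' : T ⊗[R] A →ₗ[T] N}
    (h : ∀ a : A, f ((1 : T) ⊗ₜ[R] a) = f' ((1 : T) ⊗ₜ[R] a)) : f = f' := by
  apply LinearMap.ext
  intro g
  induction g using TensorProduct.induction_on with
  | zero => simp
  | tmul r a =>
    have h1 : r ⊗ₜ[R] a = r • ((1 : T) ⊗ₜ[R] a) := by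
      rw [TensorProduct.smul_tmul', smul_eq_mul, _root_.mul_one]
    rw [h1, map_smul, map_smul, h]
  | add g g' hg hg' => rw [map_add, map_add, hg, hg']

theorem evT_one : evT R A T (1 : DA R A).ofConv =
    (Coalgebra.counit (R := T) (A := T ⊗[R] A)) := by
  apply ext_one_tmul
  intro a
  rw [evT_tmul, TensorProduct.counit_tmul]
  rfl

theorem mul_map_evT_bcMapG (x y : A →ₗ[R] R) (z : A ⊗[R] A) :
    LinearMap.mul' T T (TensorProduct.map (evT R A T x) (evT R A T y)
      (bcMapG R T A A z)) =
      algebraMap R T (LinearMap.mul' R R (TensorProduct.map x y z)) := by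
  induction z using TensorProduct.induction_on with
  | zero => simp
  | tmul a b =>
    rw [bcMapG_tmul, TensorProduct.map_tmul, LinearMap.mul'_apply,
      evT_tmul, evT_tmul, TensorProduct.map_tmul, LinearMap.mul'_apply, map_mul,
      Algebra.algebraMap_eq_smul_one, Algebra.algebraMap_eq_smul_one]
  | add z z' hz hz' => rw [map_add, map_add, map_add, hz, hz', map_add, map_add, map_add]

/-- Base change of linear forms is multiplicative for convolution. -/
theorem evT_mul (x y : DA R A) :
    toConv (evT R A T (x * y).ofConv) =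
      (toConv (evT R A T x.ofConv) * toConv (evT R A T y.ofConv) : DA T (T ⊗[R] A)) := by
  apply WithConv.ext
  change evT R A T (x * y).ofConv =
      (LinearMap.mul' T T) ∘ₗ (TensorProduct.map (evT R A T x.ofConv) (evT R A T y.ofConv)) ∘ₗ
        (Coalgebra.comul (R := T) (A := T ⊗[R] A))
  apply ext_one_tmul
  intro a
  rw [LinearMap.comp_apply, LinearMap.comp_apply, comul_one_tmul', mul_map_evT_bcMapG, evT_tmul,
    Algebra.algebraMap_eq_smul_one]
  rfl

end Pairing

section Beta

variable (R : Type u) [CommRing R] (A : Type u) [CommRing A] [HopfAlgebra R A]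
  [Coalgebra.IsCocomm R A] (T : Type u) [CommRing T] [Algebra R T]

instance instIsScalarTowerDA : IsScalarTower R T (DA T (T ⊗[R] A)) :=
  ⟨fun r t φ => by
    apply WithConv.ext
    exact smul_assoc r t φ.ofConv⟩

/-- Base change of linear forms, as an `R`-linear map between the dual algebras. -/
noncomputable def evTl : DA R A →ₗ[R] DA T (T ⊗[R] A) where
  toFun x := toConv (evT R A T x.ofConv)
  map_add' x y := by
    apply WithConv.ext
    exact evT_add x.ofConv y.ofConv
  map_smul' c x := by
    apply WithConv.ext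
    exact evT_smul c x.ofConv

theorem evTl_apply (x : DA R A) : evTl R A T x = toConv (evT R A T x.ofConv) := rfl

/-- The base change map of dual algebras, as a linear map. -/
noncomputable def betaLin : T ⊗[R] DA R A →ₗ[T] DA T (T ⊗[R] A) :=
  LinearMap.liftBaseChange T (evTl R A T)

theorem betaLin_tmul (t : T) (x : DA R A) :
    betaLin R A T (t ⊗ₜ[R] x) = t • toConv (evT R A T x.ofConv) := by
  simp [betaLin, evTl_apply]

/-- The base change map of dual algebras. -/
noncomputable def beta : T ⊗[R] DA R A →ₐ[T] DA T (T ⊗[R] A) :=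
  Algebra.TensorProduct.algHomOfLinearMapTensorProduct (betaLin R A T)
    (by
      intro t t' x y
      rw [betaLin_tmul, betaLin_tmul, betaLin_tmul, evT_mul, smul_mul_smul_comm])
    (by
      rw [betaLin_tmul, one_smul, evT_one]
      rfl)

theorem beta_tmul (t : T) (x : DA R A) :
    beta R A T (t ⊗ₜ[R] x) = t • toConv (evT R A T x.ofConv) :=
  betaLin_tmul R A T t x

theorem beta_tmul_apply (t : T) (x : DA R A) (t' : T) (a : A) :
    (beta R A T (t ⊗ₜ[R] x)) (t' ⊗ₜ[R] a) = t * (x a • t') := by
  rw [beta_tmul]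
  change t • evT R A T x.ofConv (t' ⊗ₜ[R] a) = _
  rw [evT_tmul, smul_eq_mul]

end Beta

section Bij

variable (R : Type u) [CommRing R] (A : Type u) [CommRing A] [HopfAlgebra R A]
  [Coalgebra.IsCocomm R A] [Module.Finite R A] [Module.Projective R A]
  (T : Type u) [CommRing T] [Algebra R T]

theorem beta_bijective : Function.Bijective (beta R A T) := by
  classical
  obtain ⟨n, a, f, hx⟩ := exists_dual_basis R A
  -- the inverse
  let γ : DA T (T ⊗[R] A) →ₗ[T] T ⊗[R] DA R A :=
    ∑ i : Fin n, (LinearMap.toSpanSingleton T (T ⊗[R] DA R A)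
        ((1 : T) ⊗ₜ[R] (toConv (f i) : DA R A))).comp
      ((LinearMap.applyₗ ((1 : T) ⊗ₜ[R] a i)).comp
        (WithConv.linearEquiv T ((T ⊗[R] A) →ₗ[T] T)).toLinearMap)
  have hγ : ∀ Φ : DA T (T ⊗[R] A),
      γ Φ = ∑ i : Fin n, (Φ.ofConv ((1 : T) ⊗ₜ[R] a i)) ⊗ₜ[R] (toConv (f i) : DA R A) := by
    intro Φ
    simp only [γ, LinearMap.sum_apply, LinearMap.comp_apply, LinearMap.toSpanSingleton_apply]
    refine Finset.sum_congr rfl (fun i _ => ?_)
    rw [TensorProduct.smul_tmul', smul_eq_mul, mul_one]
    rfl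
  have hdual : ∀ x : DA R A, x = ∑ i : Fin n, x.ofConv (a i) • (toConv (f i) : DA R A) := by
    intro x
    apply WithConv.ext
    apply LinearMap.ext
    intro b
    have h1 : (∑ i : Fin n, x.ofConv (a i) • (toConv (f i) : DA R A)).ofConv =
        ∑ i : Fin n, x.ofConv (a i) • f i := by
      rw [WithConv.ofConv_sum]
      rfl
    rw [h1, LinearMap.sum_apply]
    conv_lhs => rw [hx b, map_sum]
    refine Finset.sum_congr rfl (fun i _ => ?_)
    rw [map_smul, LinearMap.smul_apply, smul_eq_mul, smul_eq_mul, mul_comm]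
  have h1 : ∀ z : T ⊗[R] DA R A, γ (beta R A T z) = z := by
    intro z
    induction z using TensorProduct.induction_on with
    | zero => simp
    | add z w hz hw => rw [map_add, map_add, hz, hw]
    | tmul t x =>
      rw [hγ]
      have h2 : ∀ i : Fin n, (beta R A T (t ⊗ₜ[R] x)).ofConv ((1 : T) ⊗ₜ[R] a i) =
          x.ofConv (a i) • t := by
        intro i
        have := beta_tmul_apply R A T t x 1 (a i)
        rw [Algebra.smul_def, mul_one, mul_comm, ← Algebra.smul_def] at this
        exact this
      simp only [h2]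
      conv_rhs => rw [hdual x, TensorProduct.tmul_sum]
      refine Finset.sum_congr rfl (fun i _ => ?_)
      rw [TensorProduct.smul_tmul]
  have h2 : ∀ Φ : DA T (T ⊗[R] A), beta R A T (γ Φ) = Φ := by
    intro Φ
    apply WithConv.ext
    apply ext_one_tmul
    intro b
    rw [hγ, map_sum]
    have h3 : (∑ i : Fin n, beta R A T
        ((Φ.ofConv ((1 : T) ⊗ₜ[R] a i)) ⊗ₜ[R] (toConv (f i) : DA R A))).ofConv
          ((1 : T) ⊗ₜ[R] b) =
        ∑ i : Fin n, (Φ.ofConv ((1 : T) ⊗ₜ[R] a i)) * (f i b • (1 : T)) := by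
      rw [WithConv.ofConv_sum, LinearMap.sum_apply]
      refine Finset.sum_congr rfl (fun i _ => ?_)
      exact beta_tmul_apply R A T _ _ 1 b
    rw [h3]
    conv_rhs => rw [hx b, TensorProduct.tmul_sum, map_sum]
    refine Finset.sum_congr rfl (fun i _ => ?_)
    rw [TensorProduct.tmul_smul, LinearMap.map_smul_of_tower,
      Algebra.smul_def (f i b) (Φ.ofConv _),
      Algebra.smul_def (f i b) (1 : T), mul_one, mul_comm]
  exact ⟨Function.LeftInverse.injective h1, Function.RightInverse.surjective h2⟩

/-- The dual algebra commutes with base change. -/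
noncomputable def dualBC : T ⊗[R] DA R A ≃ₐ[T] DA T (T ⊗[R] A) :=
  AlgEquiv.ofBijective (beta R A T) (beta_bijective R A T)

theorem dualBC_tmul_apply (t : T) (x : DA R A) (t' : T) (a : A) :
    (dualBC R A T (t ⊗ₜ[R] x)) (t' ⊗ₜ[R] a) = t * (x a • t') :=
  beta_tmul_apply R A T t x t' a

end Bij

end Groth.Agent.Lib.Helper25.IsoTriv
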