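import Groth.Agent.Lib.Helper25IsoTrivA
import Groth.Agent.Lib.Helper25IsoTrivB
import Groth.Agent.S16070
import Mathlib.RingTheory.Etale.Descent
import Mathlib.RingTheory.Smooth.Fiber
import Mathlib.RingTheory.TotallySplit
import Mathlib.RingTheory.Finiteness.ModuleFinitePresentation

/-!
# The dual algebra of a finite group of multiplicative type is étale (helper25)

* `dualCongr`: a bialgebra isomorphism induces an isomorphism of dual algebras.
* `etale_dual_of_isDiag`: the dual algebra of a finite diagonalisable Hopf algebra is étale.
* `etale_dual_of_family`: étaleness of the dual algebra descends along a jointly faithfully flat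
  finite family.
-/

set_option autoImplicit false
set_option linter.unusedSectionVars false
set_option linter.style.haveILetI false
universe u

namespace Groth.Agent.Lib.Helper25.IsoTriv

open TensorProduct WithConv Groth.Agent.Lib.Helper25 Groth.Agent.Lib.Helper25.DualEval

section Congr

variable {T : Type u} [CommRing T] {E E' : Type u} [CommRing E] [HopfAlgebra T E]
  [Coalgebra.IsCocomm T E] [CommRing E'] [HopfAlgebra T E'] [Coalgebra.IsCocomm T E']

/-- Transpose of a bialgebra map, as an algebra map between the dual algebras. -/
noncomputable def dualMap (f : E →ₐc[T] E') : DA T E' →ₐ[T] DA T E :=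
  AlgHom.ofLinearMap
    { toFun := fun φ => toConv (φ.ofConv.comp (f : E →ₗc[T] E').toLinearMap)
      map_add' := fun φ ψ => rfl
      map_smul' := fun c φ => rfl }
    (by
      apply WithConv.ext
      apply LinearMap.ext
      intro x
      change Algebra.linearMap T T (Coalgebra.counit (R := T) (f x)) =
        Algebra.linearMap T T (Coalgebra.counit (R := T) x)
      rw [CoalgHomClass.counit_comp_apply])
    (by
      intro φ ψ
      apply WithConv.ext
      exact LinearMap.convMul_comp_coalgHom_distrib φ ψ (f : E →ₗc[T] E'))

theorem dualMap_apply (f : E →ₐc[T] E') (φ : DA T E') (x : E) :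
    (dualMap f φ).ofConv x = φ.ofConv (f x) := rfl

/-- A bialgebra isomorphism induces an isomorphism of dual algebras. -/
noncomputable def dualCongr (e : E ≃ₐc[T] E') : DA T E' ≃ₐ[T] DA T E :=
  AlgEquiv.ofAlgHom (dualMap (e : E →ₐc[T] E')) (dualMap (e.symm : E' →ₐc[T] E))
    (by
      apply AlgHom.ext
      intro φ
      apply WithConv.ext
      apply LinearMap.ext
      intro x
      change φ.ofConv (e.symm (e x)) = φ.ofConv x
      rw [e.symm_apply_apply])
    (by
      apply AlgHom.ext
      intro φ
      apply WithConv.ext
      apply LinearMap.ext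
      intro x
      change φ.ofConv (e (e.symm x)) = φ.ofConv x
      rw [e.apply_symm_apply])

end Congr

section Diag

variable (T : Type u) [CommRing T] [Nontrivial T] (E : Type u) [CommRing E] [HopfAlgebra T E]
  [Coalgebra.IsCocomm T E] [Module.Finite T E]

theorem etale_dual_of_isDiag (h : SGA3b.IsDiag T E) : Algebra.Etale T (DA T E) := by
  classical
  obtain ⟨M, _, ⟨e⟩⟩ := h
  haveI : Module.Finite T (MonoidAlgebra T M) := Module.Finite.equiv e.toLinearEquiv
  haveI : Finite M := Module.Finite.finite_basis (MonoidAlgebra.basis M T)
  haveI := Fintype.ofFinite M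
  obtain ⟨e', -⟩ := Groth.Agent.S16070.result T M
  let e₁ : DA T (MonoidAlgebra T M) ≃ₐ[T] DA T E := dualCongr e
  let e₂ : DA T (MonoidAlgebra T M) ≃ₐ[T] (M → T) := (e' : _ ≃ₐ[T] ConstGrp.F T M)
  exact Algebra.Etale.of_equiv (e₂.symm.trans e₁)

end Diag

section Family

variable {R : Type u} [CommRing R] {ι : Type u} [Fintype ι] [DecidableEq ι]
  (S : ι → Type u) [∀ i, CommRing (S i)] [∀ i, Algebra R (S i)]
  [Module.FaithfullyFlat R (∀ i, S i)]
  (A : Type u) [CommRing A] [HopfAlgebra R A] [Coalgebra.IsCocomm R A]
  [Module.Finite R A] [Module.Projective R A]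

open KaehlerDifferential in
theorem etale_dual_of_family (h : ∀ i, Algebra.Etale (S i) (DA (S i) (S i ⊗[R] A))) :
    Algebra.Etale R (DA R A) := by
  haveI : Module.Finite R (DA R A) := CartDual.instModuleFinite R A
  haveI : Module.Projective R (DA R A) := CartDual.instModuleProjective R A
  haveI : Module.FinitePresentation R (DA R A) := Module.finitePresentation_of_projective R _
  haveI : Algebra.FinitePresentation R (DA R A) := inferInstance
  haveI : Module.Flat R (DA R A) := inferInstance
  haveI : Algebra.FormallyUnramified R (DA R A) := by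
    constructor
    rw [subsingleton_iff_forall_eq 0]
    intro ω
    apply FamDesc.eq_zero_of_forall_one_tmul (R := R) S _ ω
    intro i
    haveI := h i
    haveI : Algebra.FormallyUnramified (S i) (S i ⊗[R] DA R A) :=
      Algebra.FormallyUnramified.of_equiv (dualBC R A (S i)).symm
    let _ : Algebra (DA R A) (S i ⊗[R] DA R A) := Algebra.TensorProduct.rightAlgebra
    haveI : Subsingleton (S i ⊗[R] Ω[DA R A⁄R]) :=
      (KaehlerDifferential.tensorKaehlerEquivBase R (S i) (DA R A)
        (S i ⊗[R] DA R A)).subsingleton
    exact Subsingleton.elim _ _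
  exact Algebra.Etale.of_formallyUnramified_of_flat

end Family

end Groth.Agent.Lib.Helper25.IsoTriv
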