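import Groth.Agent.Lib.Helper25IsoTrivC

/-!
# A split dual algebra gives a basis of group-like elements (helper25)

`exists_groupLike_basis`: if the dual algebra of a finite projective commutative Hopf algebra `E`
over `T` is isomorphic to `T^m`, then `E` has a `T`-basis consisting of group-like elements.
-/

set_option autoImplicit false
set_option linter.unusedSectionVars false
set_option linter.style.haveILetI false
universe u

namespace Groth.Agent.Lib.Helper25.IsoTriv

open TensorProduct WithConv Groth.Agent.Lib.Helper25 Groth.Agent.Lib.Helper25.DualEval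

section Basis

variable {T : Type u} [CommRing T] {E : Type u} [CommRing E] [HopfAlgebra T E]
  [Coalgebra.IsCocomm T E] [Module.Finite T E] [Module.Projective T E]

theorem exists_groupLike_basis {m : ℕ} (σ : DA T E ≃ₐ[T] (Fin m → T)) :
    ∃ b : Module.Basis (Fin m) T E, ∀ i, IsGroupLikeElem T (b i) := by
  classical
  let χ : Fin m → (DA T E →ₐ[T] T) := fun i =>
    (Pi.evalAlgHom T (fun _ : Fin m => T) i).comp (σ : DA T E →ₐ[T] (Fin m → T))
  have hχ : ∀ i (φ : DA T E), χ i φ = σ φ i := fun i φ => rfl
  have hex : ∀ i, ∃ x : E, ∀ φ : DA T E, χ i φ = φ x := fun i =>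
    (exists_unique_eval_dual (χ i).toLinearMap).exists
  choose g hg using hex
  have hgl : ∀ i, IsGroupLikeElem T (g i) := fun i => isGroupLikeElem_of_eval (χ i) (g i) (hg i)
  let φ : Fin m → DA T E := fun i => σ.symm (Pi.single i 1)
  have hφg : ∀ i j, (φ i) (g j) = if j = i then 1 else 0 := by
    intro i j
    rw [← hg j (φ i), hχ]
    change σ (σ.symm (Pi.single i 1)) j = _
    rw [σ.apply_symm_apply, Pi.single_apply]
  have hexp : ∀ ψ : DA T E, ψ = ∑ i, ψ (g i) • φ i := by
    intro ψ
    apply σ.injective
    rw [map_sum]
    ext j
    rw [Finset.sum_apply, ← hχ, hg]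
    have : ∀ i, σ (ψ (g i) • φ i) j = if j = i then ψ (g i) else 0 := by
      intro i
      rw [map_smul]
      change ψ (g i) • σ (σ.symm (Pi.single i 1)) j = _
      rw [σ.apply_symm_apply, Pi.single_apply]
      split_ifs <;> simp
    simp only [this]
    rw [Finset.sum_ite_eq Finset.univ j]
    simp
  let L : E ≃ₗ[T] (Fin m → T) :=
    { toFun := fun x i => (φ i).ofConv x
      map_add' := fun x y => by ext i; exact map_add (φ i).ofConv x y
      map_smul' := fun c x => by ext i; exact map_smul (φ i).ofConv c x
      invFun := fun c => ∑ i, c i • g i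
      left_inv := by
        intro x
        apply eq_of_forall_dual (B := T)
        intro ψ
        rw [map_sum]
        have h1 := congrArg (fun θ : DA T E => θ.ofConv x) (hexp (toConv ψ))
        simp only [WithConv.ofConv_sum, WithConv.ofConv_toConv, LinearMap.sum_apply] at h1
        rw [h1]
        refine Finset.sum_congr rfl (fun i _ => ?_)
        rw [map_smul, smul_eq_mul, mul_comm]
        rfl
      right_inv := by
        intro c
        ext j
        change (φ j).ofConv (∑ i, c i • g i) = c j
        rw [map_sum]
        have : ∀ i, (φ j).ofConv (c i • g i) = if i = j then c i else 0 := by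
          intro i
          rw [map_smul]
          change c i • (φ j) (g i) = _
          rw [hφg]
          split_ifs <;> simp
        simp only [this]
        rw [Finset.sum_ite_eq' Finset.univ j]
        simp }
  refine ⟨Module.Basis.ofEquivFun L, fun i => ?_⟩
  have : Module.Basis.ofEquivFun L i = g i := by
    rw [Module.Basis.coe_ofEquivFun]
    change ∑ j, (Pi.single i (1 : T) : Fin m → T) j • g j = g i
    rw [Finset.sum_eq_single i]
    · rw [Pi.single_eq_same, one_smul]
    · intro j _ hji
      rw [Pi.single_eq_of_ne hji, zero_smul]
    · intro hi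
      exact absurd (Finset.mem_univ i) hi
  rw [this]
  exact hgl i

end Basis

end Groth.Agent.Lib.Helper25.IsoTriv
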