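import Groth.Agent.Lib.Helper25IsoTrivD
import Mathlib.RingTheory.HopfAlgebra.GroupLike

/-!
# Refining a basis of group-like elements (helper25)

If `E` has a basis `b` of group-like elements over `T`, every group-like element `u` has
coefficients which are orthogonal idempotents with sum `1`; hence near a given prime `q` of `T`
(on the clopen neighbourhood of an idempotent `e ∉ q`) the element `u` equals one of the basis
elements.
-/

set_option autoImplicit false
set_option linter.unusedSectionVars false
set_option linter.style.haveILetI false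
universe u

namespace Groth.Agent.Lib.Helper25.IsoTriv

open TensorProduct WithConv Groth.Agent.Lib.Helper25 Groth.Agent.Lib.Helper25.DualEval

section Coeff

variable {T : Type u} [CommRing T] {E : Type u} [CommRing E] [HopfAlgebra T E]
  {m : ℕ} (b : Module.Basis (Fin m) T E) (hb : ∀ i, IsGroupLikeElem T (b i))

include hb

theorem coord_conv_coord (k l : Fin m) :
    (toConv (b.coord k) * toConv (b.coord l) : WithConv (E →ₗ[T] T)) =
      if k = l then toConv (b.coord k) else 0 := by
  haveI : Module.Finite T E := Module.Finite.of_basis b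
  haveI : Module.Projective T E := Module.Projective.of_basis b
  apply WithConv.ext
  apply b.ext
  intro j
  have h1 : ((toConv (b.coord k) * toConv (b.coord l) : WithConv (E →ₗ[T] T))).ofConv (b j) =
      (b.coord k) (b j) * (b.coord l) (b j) :=
    conv_apply_of_groupLike (hb j) (toConv (b.coord k)) (toConv (b.coord l))
  rw [h1]
  by_cases hkl : k = l
  · subst hkl
    rw [if_pos rfl, WithConv.ofConv_toConv, Module.Basis.coord_apply, Module.Basis.repr_self,
      Finsupp.single_apply]
    split_ifs <;> simp
  · rw [if_neg hkl, WithConv.ofConv_zero, LinearMap.zero_apply, Module.Basis.coord_apply,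
      Module.Basis.coord_apply, Module.Basis.repr_self, Finsupp.single_apply, Finsupp.single_apply]
    by_cases hjk : j = k
    · subst hjk
      rw [if_neg hkl, mul_zero]
    · rw [if_neg hjk, zero_mul]

theorem repr_mul_repr {u : E} (hu : IsGroupLikeElem T u) (k l : Fin m) :
    b.repr u k * b.repr u l = if k = l then b.repr u k else 0 := by
  haveI : Module.Finite T E := Module.Finite.of_basis b
  haveI : Module.Projective T E := Module.Projective.of_basis b
  have h1 : ((toConv (b.coord k) * toConv (b.coord l) : WithConv (E →ₗ[T] T))) u =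
      (b.coord k) u * (b.coord l) u := conv_apply_of_groupLike hu _ _
  rw [coord_conv_coord b hb] at h1
  rw [← Module.Basis.coord_apply, ← Module.Basis.coord_apply, ← h1]
  split_ifs
  · rfl
  · rfl

theorem sum_repr_eq_one {u : E} (hu : IsGroupLikeElem T u) : ∑ k, b.repr u k = 1 := by
  have h1 : Coalgebra.counit (R := T) u = ∑ k, b.repr u k := by
    conv_lhs => rw [← b.sum_repr u, map_sum]
    refine Finset.sum_congr rfl (fun k _ => ?_)
    rw [map_smul, (hb k).counit_eq_one, smul_eq_mul, mul_one]
  rw [← h1, hu.counit_eq_one]

theorem exists_idem_smul_eq (q : Ideal T) [hq : q.IsPrime] {u : E} (hu : IsGroupLikeElem T u) :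
    ∃ e : T, IsIdempotentElem e ∧ e ∉ q ∧ ∃ k, e • u = e • b k := by
  classical
  have hex : ∃ k, b.repr u k ∉ q := by
    by_contra hcon
    push Not at hcon
    have : (1 : T) ∈ q := by
      rw [← sum_repr_eq_one b hb hu]
      exact Ideal.sum_mem _ (fun k _ => hcon k)
    exact hq.ne_top ((Ideal.eq_top_iff_one q).mpr this)
  obtain ⟨k, hk⟩ := hex
  refine ⟨b.repr u k, ?_, hk, k, ?_⟩
  · have := repr_mul_repr b hb hu k k
    rw [if_pos rfl] at this
    exact this
  · have hsum : b.repr u k • u = b.repr u k • ∑ l, b.repr u l • b l := by rw [b.sum_repr u]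
    rw [hsum, Finset.smul_sum, Finset.sum_eq_single k]
    · rw [smul_smul]
      have := repr_mul_repr b hb hu k k
      rw [if_pos rfl] at this
      rw [this]
    · intro l _ hlk
      rw [smul_smul, repr_mul_repr b hb hu k l, if_neg (Ne.symm hlk), zero_smul]
    · intro hk'
      exact absurd (Finset.mem_univ k) hk'

theorem exists_idem_family (q : Ideal T) [hq : q.IsPrime] {J : Type*} [Fintype J]
    (u : J → E) (hu : ∀ j, IsGroupLikeElem T (u j)) :
    ∃ e : T, IsIdempotentElem e ∧ e ∉ q ∧ ∃ κ : J → Fin m, ∀ j, e • u j = e • b (κ j) := by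
  classical
  choose e he heq κ hκ using fun j => exists_idem_smul_eq b hb q (hu j)
  refine ⟨∏ j, e j, ?_, ?_, κ, ?_⟩
  · change (∏ j, e j) * (∏ j, e j) = ∏ j, e j
    rw [← Finset.prod_mul_distrib]
    exact Finset.prod_congr rfl (fun j _ => he j)
  · rw [Ideal.IsPrime.prod_mem_iff]
    rintro ⟨j, -, hj⟩
    exact heq j hj
  · intro j
    rw [← Finset.mul_prod_erase Finset.univ e (Finset.mem_univ j), mul_comm, mul_smul, mul_smul,
      hκ j]

end Coeff

end Groth.Agent.Lib.Helper25.IsoTriv
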