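import Groth.Agent.Lib.Helper25IsoTrivE
import Mathlib.RingTheory.Bialgebra.MonoidAlgebra
import Mathlib.RingTheory.HopfAlgebra.MonoidAlgebra

/-!
# A multiplicatively closed basis of group-like elements gives a diagonalisation (helper25)
-/

set_option autoImplicit false
set_option linter.unusedSectionVars false
set_option linter.style.haveILetI false
universe u

namespace Groth.Agent.Lib.Helper25.IsoTriv

open TensorProduct WithConv Groth.Agent.Lib.Helper25

section Diag

variable {T : Type u} [CommRing T] [Nontrivial T] {E : Type u} [CommRing E] [HopfAlgebra T E]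
  {m : ℕ} (b : Module.Basis (Fin m) T E) (hb : ∀ i, IsGroupLikeElem T (b i))

include hb in
theorem isDiag_of_closed_basis
    (hmul : ∀ i j, ∃ k, b i * b j = b k) (hone : ∃ k, b k = 1)
    (hinv : ∀ i, ∃ k, b i * b k = 1) : SGA3b.IsDiag T E := by
  classical
  let g : Fin m → GroupLike T E := fun i => ⟨b i, hb i⟩
  let Ms : Subgroup (GroupLike T E) :=
    { carrier := Set.range g
      mul_mem' := by
        rintro _ _ ⟨i, rfl⟩ ⟨j, rfl⟩
        obtain ⟨k, hk⟩ := hmul i j
        exact ⟨k, GroupLike.val_injective hk.symm⟩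
      one_mem' := by
        obtain ⟨k, hk⟩ := hone
        exact ⟨k, GroupLike.val_injective hk⟩
      inv_mem' := by
        rintro _ ⟨i, rfl⟩
        obtain ⟨k, hk⟩ := hinv i
        refine ⟨k, ?_⟩
        have h1 : g i * g k = 1 := GroupLike.val_injective hk
        exact (inv_eq_of_mul_eq_one_right h1).symm }
  let ρ : Fin m ≃ Ms := Equiv.ofBijective (fun i => (⟨g i, ⟨i, rfl⟩⟩ : Ms)) (by
    constructor
    · intro i j hij
      have h1 : (g i).val = (g j).val := congrArg (fun x : Ms => x.val.val) hij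
      exact b.injective h1
    · rintro ⟨_, ⟨i, rfl⟩⟩
      exact ⟨i, rfl⟩)
  let Φ : MonoidAlgebra T Ms →ₐc[T] E :=
    (MonoidAlgebra.liftGroupLikeBialgHom (R := T) (A := E)).comp
      (MonoidAlgebra.mapDomainBialgHom T Ms.subtype)
  have hΦ : ∀ x : Ms, Φ (MonoidAlgebra.single x 1) = x.val.val := by
    intro x
    change (MonoidAlgebra.liftGroupLikeBialgHom (R := T) (A := E))
      ((MonoidAlgebra.mapDomainBialgHom T Ms.subtype) (MonoidAlgebra.single x 1)) = _
    rw [MonoidAlgebra.mapDomainBialgHom_single, MonoidAlgebra.liftGroupLikeBialgHom_apply,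
      MonoidAlgebra.lift_single, one_smul]
    rfl
  let L : MonoidAlgebra T Ms ≃ₗ[T] E := (MonoidAlgebra.basis Ms T).equiv b ρ.symm
  have hL : (Φ : MonoidAlgebra T Ms →ₗ[T] E) = L.toLinearMap := by
    apply (MonoidAlgebra.basis Ms T).ext
    intro x
    rw [MonoidAlgebra.basis_apply]
    change Φ (MonoidAlgebra.single x 1) = L (MonoidAlgebra.single x 1)
    rw [hΦ, ← MonoidAlgebra.basis_apply, Module.Basis.equiv_apply]
    obtain ⟨i, rfl⟩ := ρ.surjective x
    rw [Equiv.symm_apply_apply]
    rfl
  have hbij : Function.Bijective Φ := by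
    have : (Φ : MonoidAlgebra T Ms → E) = L := by
      ext x
      exact congrArg (fun f : MonoidAlgebra T Ms →ₗ[T] E => f x) hL
    rw [this]
    exact L.bijective
  exact ⟨Ms, inferInstance, ⟨(BialgEquiv.ofBijective Φ hbij).symm⟩⟩

end Diag

end Groth.Agent.Lib.Helper25.IsoTriv
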