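import Groth.Agent.Lib.Helper25IsoTrivF
import Groth.Agent.Lib.Helper25SubDiag
import Mathlib.RingTheory.Flat.Rank
import Mathlib.RingTheory.Localization.Away.Lemmas

/-!
# Isotriviality: connected bases and splitting the dual algebra (helper25)

* `exists_rankAtStalk_eq`: over a connected base the rank of a finite projective module is constant.
* `faithfullyFlat_of_connected`: a nontrivial finite flat finitely presented algebra over a connected
  base is faithfully flat.
* `exists_isDiag_of_split`: if the dual algebra of a finite projective cocommutative Hopf algebra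
  is totally split, the Hopf algebra becomes diagonalisable over a clopen piece of the base.
-/

set_option autoImplicit false
set_option linter.unusedSectionVars false
set_option linter.style.haveILetI false
universe u

namespace Groth.Agent.Lib.Helper25.IsoTriv

open TensorProduct WithConv Groth.Agent.Lib.Helper25 Groth.Agent.Lib.Helper25.DualEval

section Conn

variable (R : Type u) [CommRing R] [ConnectedSpace (PrimeSpectrum R)]

theorem exists_rankAtStalk_eq (M : Type u) [AddCommGroup M] [Module R M]
    [Module.FinitePresentation R M] [Module.Flat R M] :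
    ∃ n : ℕ, Module.rankAtStalk (R := R) M = n := by
  obtain ⟨x₀⟩ := (inferInstance : Nonempty (PrimeSpectrum R))
  refine ⟨Module.rankAtStalk M x₀, ?_⟩
  funext p
  have h := Module.isLocallyConstant_rankAtStalk (R := R) (M := M)
  exact h.apply_eq_of_isPreconnected isPreconnected_univ (Set.mem_univ p) (Set.mem_univ x₀)

theorem faithfullyFlat_of_connected (S : Type u) [CommRing S] [Algebra R S] [Nontrivial S]
    [Module.Finite R S] [Module.Flat R S] [Module.FinitePresentation R S] :
    Module.FaithfullyFlat R S := by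
  obtain ⟨n, hn⟩ := exists_rankAtStalk_eq R S
  have hn0 : n ≠ 0 := by
    rintro rfl
    have h0 : Module.rankAtStalk (R := R) S = 0 := by
      rw [hn]; rfl
    rw [Module.rankAtStalk_eq_zero_iff_subsingleton] at h0
    exact not_subsingleton S h0
  apply Module.FaithfullyFlat.of_comap_surjective
  rw [← PrimeSpectrum.rankAtStalk_pos_iff_comap_surjective]
  intro p
  rw [hn]
  exact Nat.pos_of_ne_zero hn0

end Conn

section Idem

variable {T : Type u} [CommRing T] {T' : Type u} [CommRing T'] [Algebra T T']
  {E : Type u} [AddCommGroup E] [Module T E]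

theorem one_tmul_eq_of_smul_eq (e : T) (he : algebraMap T T' e = 1) {x y : E}
    (h : e • x = e • y) : (1 : T') ⊗ₜ[T] x = (1 : T') ⊗ₜ[T] y := by
  have h1 : ∀ z : E, (1 : T') ⊗ₜ[T] z = (1 : T') ⊗ₜ[T] (e • z) := by
    intro z
    rw [← TensorProduct.smul_tmul, Algebra.smul_def, he, mul_one]
  rw [h1 x, h1 y, h]

end Idem

section Split

variable {T : Type u} [CommRing T] {E : Type u} [CommRing E] [HopfAlgebra T E]
  {m : ℕ} (b : Module.Basis (Fin m) T E) (hb : ∀ i, IsGroupLikeElem T (b i))

include hb in
theorem isDiag_baseChange_of_idem (T' : Type u) [CommRing T'] [Algebra T T'] [Nontrivial T']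
    (e : T) (he1 : algebraMap T T' e = 1)
    (hmul : ∀ i j, ∃ k, e • (b i * b j) = e • b k) (hone : ∃ k, e • (1 : E) = e • b k)
    (hinv : ∀ i, ∃ k, e • HopfAlgebra.antipode T (b i) = e • b k) :
    SGA3b.IsDiag T' (T' ⊗[T] E) := by
  have hb' : ∀ i, IsGroupLikeElem T' (b.baseChange T' i) := by
    intro i
    rw [Module.Basis.baseChange_apply]
    exact SubDiag.isGroupLikeElem_one_tmul (S := T') (hb i)
  refine isDiag_of_closed_basis (b.baseChange T') hb' ?_ ?_ ?_
  · intro i j
    obtain ⟨k, hk⟩ := hmul i j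
    refine ⟨k, ?_⟩
    rw [Module.Basis.baseChange_apply, Module.Basis.baseChange_apply,
      Module.Basis.baseChange_apply, Algebra.TensorProduct.tmul_mul_tmul, mul_one]
    exact one_tmul_eq_of_smul_eq e he1 hk
  · obtain ⟨k, hk⟩ := hone
    refine ⟨k, ?_⟩
    rw [Module.Basis.baseChange_apply, Algebra.TensorProduct.one_def]
    exact (one_tmul_eq_of_smul_eq e he1 hk).symm
  · intro i
    obtain ⟨k, hk⟩ := hinv i
    refine ⟨k, ?_⟩
    rw [Module.Basis.baseChange_apply, Module.Basis.baseChange_apply,
      ← one_tmul_eq_of_smul_eq e he1 hk, Algebra.TensorProduct.tmul_mul_tmul, mul_one,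
      (hb i).mul_antipode_cancel, Algebra.TensorProduct.one_def]

end Split

section Split2

variable {T : Type u} [CommRing T] [Nontrivial T] {E : Type u} [CommRing E] [HopfAlgebra T E]
  [Coalgebra.IsCocomm T E] [Module.Finite T E] [Module.Projective T E]

theorem exists_isDiag_of_split {m : ℕ} (σ : DA T E ≃ₐ[T] (Fin m → T)) :
    ∃ (T' : Type u) (_ : CommRing T') (_ : Algebra T T'), Algebra.Etale T T' ∧
      Module.Finite T T' ∧ Nontrivial T' ∧ SGA3b.IsDiag T' (T' ⊗[T] E) := by
  classical
  obtain ⟨b, hb⟩ := exists_groupLike_basis σ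
  obtain ⟨q, hqm⟩ := Ideal.exists_maximal T
  haveI : q.IsPrime := hqm.isPrime
  let u : (Fin m × Fin m) ⊕ (Fin m ⊕ Unit) → E :=
    Sum.elim (fun ij => b ij.1 * b ij.2)
      (Sum.elim (fun i => HopfAlgebra.antipode T (b i)) (fun _ => 1))
  have hu : ∀ j, IsGroupLikeElem T (u j) := by
    rintro (⟨i, j⟩ | i | _)
    · exact (hb i).mul (hb j)
    · exact (hb i).antipode
    · exact IsGroupLikeElem.one
  obtain ⟨e, he, heq, κ, hκ⟩ := exists_idem_family b hb q u hu
  have h1e : 1 - e ∈ q := by
    have h0 : e * (1 - e) ∈ q := by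
      have : e * (1 - e) = 0 := by
        rw [mul_sub, mul_one, he.eq, sub_self]
      rw [this]; exact q.zero_mem
    exact (Ideal.IsPrime.mem_or_mem ‹q.IsPrime› h0).resolve_left heq
  haveI : IsLocalization.Away e (T ⧸ Ideal.span {1 - e}) :=
    IsLocalization.Away.quotient_of_isIdempotentElem he
  haveI : Algebra.Etale T (T ⧸ Ideal.span {1 - e}) := Algebra.Etale.of_isLocalizationAway e
  have hfin : Module.Finite T (T ⧸ Ideal.span {1 - e}) :=
    Module.Finite.of_surjective (Algebra.linearMap T (T ⧸ Ideal.span {1 - e}))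
      Ideal.Quotient.mk_surjective
  haveI hnt : Nontrivial (T ⧸ Ideal.span {1 - e}) := by
    apply Ideal.Quotient.nontrivial_iff.mpr
    intro htop
    have : Ideal.span {1 - e} ≤ q := (Ideal.span_singleton_le_iff_mem q).mpr h1e
    rw [htop] at this
    exact hqm.ne_top (top_le_iff.mp this)
  have he1 : algebraMap T (T ⧸ Ideal.span {1 - e}) e = 1 := by
    change Ideal.Quotient.mk _ e = Ideal.Quotient.mk _ 1
    rw [Ideal.Quotient.eq]
    have : e - 1 = -(1 - e) := by ring
    rw [this]
    exact Ideal.neg_mem_iff _ |>.mpr (Ideal.mem_span_singleton_self _)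
  refine ⟨T ⧸ Ideal.span {1 - e}, inferInstance, inferInstance, inferInstance, hfin, hnt, ?_⟩
  refine isDiag_baseChange_of_idem b hb _ e he1 ?_ ?_ ?_
  · intro i j
    exact ⟨κ (Sum.inl (i, j)), hκ (Sum.inl (i, j))⟩
  · exact ⟨κ (Sum.inr (Sum.inr ())), hκ (Sum.inr (Sum.inr ()))⟩
  · intro i
    exact ⟨κ (Sum.inr (Sum.inl i)), hκ (Sum.inr (Sum.inl i))⟩

end Split2

end Groth.Agent.Lib.Helper25.IsoTriv
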