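import Groth.Agent.Lib.Helper25IsoTrivG
import Groth.Agent.Lib.Helper25IsoTrivC
import Groth.Agent.Lib.Helper25IsoTrivD
import Groth.Agent.Lib.Helper25DirSysG
import Groth.Agent.Lib.Helper25HCd
import Groth.Agent.Lib.Helper25FamProj
import Groth.Agent.Lib.Helper25MultBC

/-!
# Isotriviality of finite groups of multiplicative type over a connected base (helper25)

* `isIsotrivial_of_etale_dual`: over a connected base, a finite projective cocommutative Hopf
  algebra with étale dual algebra is isotrivial.
* `etale_dual_of_isMultType`, `isIsotrivial_of_isMultType_of_finite`.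
-/

set_option autoImplicit false
set_option linter.unusedSectionVars false
set_option linter.style.haveILetI false
universe u

namespace Groth.Agent.Lib.Helper25.IsoTriv

open TensorProduct WithConv Groth.Agent.Lib.Helper25 Groth.Agent.Lib.Helper25.DualEval

section Main

variable (R : Type u) [CommRing R] [ConnectedSpace (PrimeSpectrum R)]
  (A : Type u) [CommRing A] [HopfAlgebra R A] [Coalgebra.IsCocomm R A]
  [Module.Finite R A] [Module.Projective R A]

theorem isIsotrivial_of_etale_dual [Algebra.Etale R (DA R A)] : SGA3b.IsIsotrivial R A := by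
  haveI : Module.Finite R (DA R A) := CartDual.instModuleFinite R A
  haveI : Module.Projective R (DA R A) := CartDual.instModuleProjective R A
  haveI : Module.FinitePresentation R (DA R A) := Module.finitePresentation_of_projective R _
  haveI : Module.Flat R (DA R A) := inferInstance
  obtain ⟨n, hn⟩ := exists_rankAtStalk_eq R (DA R A)
  obtain ⟨T, _, _, hff, hfin, het, hsplit⟩ :=
    Algebra.IsFiniteSplit.exists_tensorProduct_of_etale hn
  obtain ⟨m, ⟨σ₀⟩⟩ := hsplit.nonempty_algEquiv_fun
  haveI : Nontrivial R := by
    obtain ⟨x₀⟩ := (inferInstance : Nonempty (PrimeSpectrum R))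
    exact PrimeSpectrum.nonempty_iff_nontrivial.mp ⟨x₀⟩
  haveI : Nontrivial T :=
    (FaithfulSMul.algebraMap_injective R T).nontrivial
  obtain ⟨T', _, _, het', hfin', hnt', hD⟩ :=
    exists_isDiag_of_split (T := T) (E := T ⊗[R] A) ((dualBC R A T).symm.trans σ₀)
  algebraize [(algebraMap T T').comp (algebraMap R T)]
  haveI : Algebra.Etale R T' := Algebra.Etale.comp R T T'
  haveI : Module.Finite R T' := Module.Finite.trans T T'
  haveI : Module.Flat R T' := inferInstance
  haveI : Module.FinitePresentation R T' :=
    Module.FinitePresentation.of_finite_of_finitePresentation R T'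
  refine ⟨T', inferInstance, inferInstance, inferInstance, inferInstance,
    faithfullyFlat_of_connected R T', ?_⟩
  exact BCB.isDiag_of_equiv (BCB.cancelBC R T T' A).symm hD

end Main

section MT

variable (R : Type u) [CommRing R] (A : Type u) [CommRing A] [HopfAlgebra R A]
  [Module.Finite R A]

theorem exists_cocomm_projective_etale_dual (hA : SGA3b.IsMultType R A) :
    ∃ (_ : Coalgebra.IsCocomm R A) (_ : Module.Projective R A), Algebra.Etale R (DA R A) := by
  classical
  have hft : Algebra.FiniteType R A := inferInstance
  obtain ⟨ι, _, _, E, _, _, hEt, hNt, hD, hpr⟩ :=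
    DirSys.exists_finite_etale_cover_diag R A hft hA
  haveI := hEt
  haveI : ∀ j, Module.Flat R (E j) := fun j => inferInstance
  haveI hff : Module.FaithfullyFlat R (∀ j, E j) := faithfullyFlat_pi_of_primes E hpr
  have hcoc : ∀ j, Coalgebra.IsCocomm (E j) (E j ⊗[R] A) := fun j => by
    obtain ⟨M, _, ⟨e⟩⟩ := hD j
    exact HC.isCocomm_of_equiv e
  haveI : Coalgebra.IsCocomm R A := isCocomm_of_family E A hcoc
  have hproj : ∀ j, Module.Projective (E j) (E j ⊗[R] A) := fun j => by
    obtain ⟨M, _, ⟨e⟩⟩ := hD j
    exact Module.Projective.of_equiv e.symm.toLinearEquiv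
  obtain ⟨-, hP⟩ := FamProj.finite_projective_of_forall E A (fun j => inferInstance) hproj
  haveI := hP
  refine ⟨inferInstance, hP, ?_⟩
  apply etale_dual_of_family E A
  intro j
  haveI := hNt j
  exact etale_dual_of_isDiag (E j) (E j ⊗[R] A) (hD j)

theorem isIsotrivial_of_isMultType_of_finite [ConnectedSpace (PrimeSpectrum R)]
    (hA : SGA3b.IsMultType R A) : SGA3b.IsIsotrivial R A := by
  obtain ⟨hc, hp, he⟩ := exists_cocomm_projective_etale_dual R A hA
  exact isIsotrivial_of_etale_dual R A

end MT

end Groth.Agent.Lib.Helper25.IsoTriv
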