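import Groth.Agent.Lib.Helper25LS
import Groth.Prelude.Def_GLin

/-!
# The Kreimer–Takeuchi theorem for commutative Hopf algebras (helper25)

`H` a commutative Hopf algebra over `R`, finite projective as a module; `A` a commutative
`H`-comodule algebra with invariants `B`.  If `1 ⊗ h` lies in the image of
`A ⊗ A → A ⊗ H, x ⊗ y ↦ (x ⊗ 1) ρ(y)` for every `h`, then `A` is a finite projective `B`-module
and `ρ : A → A ⊗ H` exhibits `A ⊗ H` as the base change of the `B`-module `A` to `A`.
-/

set_option autoImplicit false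
set_option linter.style.haveILetI false
set_option linter.unusedSectionVars false
universe u v w

namespace Groth.Agent.Lib.Helper25.KT

open TensorProduct HopfRep Groth.Agent.Lib.Helper25 Groth.Agent.Lib.Helper25.LS

section Trace

variable {R : Type u} [CommRing R] {H : Type v} [CommRing H] [HopfAlgebra R H]
  {A : Type w} [CommRing A] [Algebra R A] [Comod R H A] [GLin.IsCoactAlg R H A]

omit [HopfAlgebra R H] [Comod R H A] [GLin.IsCoactAlg R H A] in
theorem slice_tmul_one_mul [Algebra R H] (τ : H →ₗ[R] R) (x : A) (w : A ⊗[R] H) :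
    slice A τ ((x ⊗ₜ[R] (1 : H)) * w) = x * slice A τ w := by
  induction w using TensorProduct.induction_on with
  | zero => simp
  | add a b ha hb => simp only [mul_add, map_add, ha, hb]
  | tmul a h =>
    rw [Algebra.TensorProduct.tmul_mul_tmul, one_mul, slice_tmul, slice_tmul, mul_smul_comm]

omit [Comod R H A] [GLin.IsCoactAlg R H A] in
/-- For an integral `τ`: `(id ⊗ id ⊗ τ)(id ⊗ Δ) = (id ⊗ τ) ⊗ 1`. -/
theorem slice_assoc_symm_lTensor_comul (τ : H →ₗ[R] R)
    (hτ : ∀ h : H, slice H τ (CoalgebraStruct.comul (R := R) h) = τ h • (1 : H))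
    (y : A ⊗[R] H) :
    slice (A ⊗[R] H) τ ((TensorProduct.assoc R A H H).symm
      ((CoalgebraStruct.comul (R := R) (A := H)).lTensor A y)) = slice A τ y ⊗ₜ[R] (1 : H) := by
  induction y using TensorProduct.induction_on with
  | zero => simp
  | add a b ha hb => simp only [map_add, ha, hb, TensorProduct.add_tmul]
  | tmul a h =>
    have key : ∀ z : H ⊗[R] H, slice (A ⊗[R] H) τ ((TensorProduct.assoc R A H H).symm
        (a ⊗ₜ[R] z)) = a ⊗ₜ[R] slice H τ z := by
      intro z
      induction z using TensorProduct.induction_on with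
      | zero => simp
      | add x y hx hy => simp only [TensorProduct.tmul_add, map_add, hx, hy]
      | tmul b c =>
        rw [TensorProduct.assoc_symm_tmul, slice_tmul, slice_tmul, TensorProduct.tmul_smul,
          TensorProduct.smul_tmul']
    rw [LinearMap.lTensor_tmul, key, hτ, slice_tmul, TensorProduct.tmul_smul,
      TensorProduct.smul_tmul']

/-- The trace `a ↦ Σ a₀ τ(a₁)` of an integral lands in the invariants. -/
theorem T_mem_invariants (τ : H →ₗ[R] R)
    (hτ : ∀ h : H, slice H τ (CoalgebraStruct.comul (R := R) h) = τ h • (1 : H)) (a : A) :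
    T τ a ∈ GLin.invariants R H A := by
  change Comod.coact (k := R) (A := H) (T τ a) = T τ a ⊗ₜ[R] (1 : H)
  rw [T_apply, ← slice_rTensor, coassoc_apply, slice_assoc_symm_lTensor_comul τ hτ]

theorem T_mul_of_mem (τ : H →ₗ[R] R) {b : A} (hb : b ∈ GLin.invariants R H A) (a : A) :
    T τ (b * a) = b * T τ a := by
  have hb' : Comod.coact (k := R) (A := H) b = b ⊗ₜ[R] (1 : H) := hb
  rw [T_apply, GLin.IsCoactAlg.coact_mul, hb', slice_tmul_one_mul, ← T_apply]

/-- `A ⊗ A → A ⊗ H`, `x ⊗ y ↦ (x ⊗ 1) ρ(y)`. -/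
noncomputable def canR : A ⊗[R] A →ₐ[R] A ⊗[R] H :=
  Algebra.TensorProduct.lift Algebra.TensorProduct.includeLeft (GLin.coactAlgHom R H A)
    (fun _ _ => Commute.all _ _)

theorem canR_tmul (x y : A) :
    canR (R := R) (H := H) (x ⊗ₜ[R] y) =
      (x ⊗ₜ[R] (1 : H)) * Comod.coact (k := R) (A := H) y := by
  simp [canR]

/-- `Σ xᵢ tr(yᵢ a) = (id ⊗ τ)(can(Σ xᵢ ⊗ yᵢ) ρ(a))`. -/
theorem mul'_map_T (τ : H →ₗ[R] R) (a : A) (z : A ⊗[R] A) :
    LinearMap.mul' R A (TensorProduct.map LinearMap.id (T τ ∘ₗ LinearMap.mulRight R a) z) =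
      slice A τ (canR (R := R) (H := H) z * Comod.coact (k := R) (A := H) a) := by
  induction z using TensorProduct.induction_on with
  | zero => simp
  | add x y hx hy => simp only [map_add, hx, hy, add_mul]
  | tmul x y =>
    rw [TensorProduct.map_tmul, LinearMap.mul'_apply, LinearMap.id_apply, LinearMap.comp_apply,
      LinearMap.mulRight_apply, canR_tmul, mul_assoc, slice_tmul_one_mul, T_apply,
      GLin.IsCoactAlg.coact_mul]

omit [HopfAlgebra R H] [Comod R H A] [GLin.IsCoactAlg R H A] in
theorem slice_one_tmul_mul [Algebra R H] (τ : H →ₗ[R] R) (t : H) (w : A ⊗[R] H) :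
    slice A τ (((1 : A) ⊗ₜ[R] t) * w) = slice A (τ ∘ₗ LinearMap.mulLeft R t) w := by
  induction w using TensorProduct.induction_on with
  | zero => simp
  | add a b ha hb => simp only [mul_add, map_add, ha, hb]
  | tmul a h =>
    rw [Algebra.TensorProduct.tmul_mul_tmul, one_mul, slice_tmul, slice_tmul]
    rfl

end Trace

section DualBasis

variable {R : Type u} [CommRing R] {H : Type v} [CommRing H] [HopfAlgebra R H]
  [Module.Finite R H] [Module.Projective R H]
  {A : Type w} [CommRing A] [Algebra R A] [Comod R H A] [GLin.IsCoactAlg R H A]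

/-- **Kreimer–Takeuchi**, dual basis form: if every `1 ⊗ h` is in the image of `canR`, there are
finitely many `(x, y, τ)` with `τ` an integral such that `a = Σ x tr_τ(y a)` for all `a`. -/
theorem exists_dualBasis
    (hcan : ∀ h : H, ∃ z : A ⊗[R] A, canR (R := R) (H := H) z = (1 : A) ⊗ₜ[R] h) :
    ∃ (S : Finset (Σ _ : Module.Dual R H × H, A × A))
      (τ : (Σ _ : Module.Dual R H × H, A × A) → Module.Dual R H),
      (∀ σ ∈ S, ∀ h : H,
        slice H (τ σ) (CoalgebraStruct.comul (R := R) h) = τ σ h • (1 : H)) ∧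
      ∀ a : A, ∑ σ ∈ S, σ.2.1 * T (τ σ) (σ.2.2 * a) = a := by
  classical
  obtain ⟨s, τ₀, T₀, hint, hsum⟩ := LS.exists_integrals (R := R) (H := H)
  choose z hz using hcan
  choose F hF using fun q : Module.Dual R H × H => TensorProduct.exists_finset (z (T₀ q))
  refine ⟨s.sigma F, fun σ => τ₀ σ.1, ?_, ?_⟩
  · intro σ hσ h
    exact hint σ.1 (Finset.mem_sigma.mp hσ).1 h
  · intro a
    rw [Finset.sum_sigma]
    have h1 : ∀ q ∈ s, ∑ j ∈ F q, j.1 * T (τ₀ q) (j.2 * a) =
        slice A (τ₀ q ∘ₗ LinearMap.mulLeft R (T₀ q)) (Comod.coact (k := R) (A := H) a) := by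
      intro q _
      have h2 := mul'_map_T (R := R) (H := H) (τ₀ q) a (z (T₀ q))
      rw [hz, slice_one_tmul_mul] at h2
      rw [← h2, hF q, map_sum, map_sum]
      apply Finset.sum_congr rfl
      intro j _
      rw [TensorProduct.map_tmul, LinearMap.mul'_apply, LinearMap.id_apply, LinearMap.comp_apply,
        LinearMap.mulRight_apply]
    rw [Finset.sum_congr rfl h1]
    have h3 : ∑ q ∈ s, slice A (τ₀ q ∘ₗ LinearMap.mulLeft R (T₀ q))
        (Comod.coact (k := R) (A := H) a) =
        slice A (∑ q ∈ s, τ₀ q ∘ₗ LinearMap.mulLeft R (T₀ q))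
          (Comod.coact (k := R) (A := H) a) := by
      rw [← sliceL_apply, map_sum]
      rfl
    have h4 : ∑ q ∈ s, τ₀ q ∘ₗ LinearMap.mulLeft R (T₀ q) =
        CoalgebraStruct.counit (R := R) (A := H) := by
      apply LinearMap.ext
      intro x
      rw [LinearMap.sum_apply, ← hsum x]
      rfl
    rw [h3, h4, ← T_apply, T_counit]

end DualBasis

section Projective

variable {R : Type u} [CommRing R] {H : Type v} [CommRing H] [HopfAlgebra R H]
  {A : Type w} [CommRing A] [Algebra R A] [Comod R H A] [GLin.IsCoactAlg R H A]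

/-- The trace `a ↦ tr_τ(y a)` as a functional linear over the invariants. -/
noncomputable def trB (τ : H →ₗ[R] R)
    (hτ : ∀ h : H, slice H τ (CoalgebraStruct.comul (R := R) h) = τ h • (1 : H)) (y : A) :
    A →ₗ[↥(GLin.invariants R H A)] ↥(GLin.invariants R H A) where
  toFun a := ⟨T τ (y * a), T_mem_invariants τ hτ _⟩
  map_add' a a' := by
    apply Subtype.ext
    change T τ (y * (a + a')) = T τ (y * a) + T τ (y * a')
    rw [mul_add, map_add]
  map_smul' b a := by
    apply Subtype.ext
    change T τ (y * ((b : A) * a)) = (b : A) * T τ (y * a)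
    rw [mul_left_comm, T_mul_of_mem τ b.2]

theorem trB_apply (τ : H →ₗ[R] R)
    (hτ : ∀ h : H, slice H τ (CoalgebraStruct.comul (R := R) h) = τ h • (1 : H)) (y a : A) :
    ((trB τ hτ y a : ↥(GLin.invariants R H A)) : A) = T τ (y * a) := rfl

omit [HopfAlgebra R H] [Comod R H A] [GLin.IsCoactAlg R H A] in
theorem smul_eq_tmul_one_mul [Algebra R H] (x : A) (w : A ⊗[R] H) :
    x • w = (x ⊗ₜ[R] (1 : H)) * w := by
  induction w using TensorProduct.induction_on with
  | zero => simp
  | add a b ha hb => rw [smul_add, ha, hb, mul_add]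
  | tmul a h =>
    rw [TensorProduct.smul_tmul', Algebra.TensorProduct.tmul_mul_tmul, one_mul, smul_eq_mul]

/-- The coaction, as a map linear over the invariants. -/
noncomputable def coactB : A →ₗ[↥(GLin.invariants R H A)] A ⊗[R] H where
  toFun a := Comod.coact (k := R) (A := H) a
  map_add' a a' := map_add _ a a'
  map_smul' b a := by
    change Comod.coact (k := R) (A := H) ((b : A) * a) =
      (b : A) • Comod.coact (k := R) (A := H) a
    have hb : Comod.coact (k := R) (A := H) (b : A) = (b : A) ⊗ₜ[R] (1 : H) := b.2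
    rw [GLin.IsCoactAlg.coact_mul, hb, smul_eq_tmul_one_mul]

theorem coactB_apply (a : A) :
    coactB (R := R) (H := H) a = Comod.coact (k := R) (A := H) a := rfl

/-- `w ↦ (id ⊗ τ)(ρ(y) w)`, an `A`-linear map. -/
noncomputable def Gmap (τ : H →ₗ[R] R) (y : A) : A ⊗[R] H →ₗ[A] A where
  toFun w := slice A τ (Comod.coact (k := R) (A := H) y * w)
  map_add' w w' := by rw [mul_add, map_add]
  map_smul' x w := by
    rw [RingHom.id_apply, smul_eq_tmul_one_mul, mul_left_comm, slice_tmul_one_mul, smul_eq_mul]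

theorem Gmap_apply (τ : H →ₗ[R] R) (y : A) (w : A ⊗[R] H) :
    Gmap τ y w = slice A τ (Comod.coact (k := R) (A := H) y * w) := rfl

theorem Gmap_coact (τ : H →ₗ[R] R) (y a : A) :
    Gmap τ y (Comod.coact (k := R) (A := H) a) = T τ (y * a) := by
  rw [Gmap_apply, T_apply, GLin.IsCoactAlg.coact_mul]

theorem span_range_coact
    (hcan : ∀ h : H, ∃ z : A ⊗[R] A, canR (R := R) (H := H) z = (1 : A) ⊗ₜ[R] h) :
    Submodule.span A (Set.range (Comod.coact (k := R) (A := H) (V := A))) = ⊤ := by
  have h2 : ∀ z : A ⊗[R] A, canR (R := R) (H := H) z ∈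
      Submodule.span A (Set.range (Comod.coact (k := R) (A := H) (V := A))) := by
    intro z
    induction z using TensorProduct.induction_on with
    | zero => rw [map_zero]; exact Submodule.zero_mem _
    | add a b ha hb => rw [map_add]; exact Submodule.add_mem _ ha hb
    | tmul a b =>
      rw [canR_tmul, ← smul_eq_tmul_one_mul]
      exact Submodule.smul_mem _ _ (Submodule.subset_span ⟨b, rfl⟩)
  have h3 : ∀ w : A ⊗[R] H,
      w ∈ Submodule.span A (Set.range (Comod.coact (k := R) (A := H) (V := A))) := by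
    intro w
    induction w using TensorProduct.induction_on with
    | zero => exact Submodule.zero_mem _
    | add a b ha hb => exact Submodule.add_mem _ ha hb
    | tmul x h =>
      obtain ⟨z, hz⟩ := hcan h
      have h1 : x ⊗ₜ[R] h = x • canR (R := R) (H := H) z := by
        rw [hz, TensorProduct.smul_tmul', smul_eq_mul, mul_one]
      rw [h1]
      exact Submodule.smul_mem _ _ (h2 z)
  rw [eq_top_iff]
  intro w _
  exact h3 w

variable [Module.Finite R H] [Module.Projective R H]

/-- **Kreimer–Takeuchi**: `A` is finite projective over the invariants. -/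
theorem finite_projective
    (hcan : ∀ h : H, ∃ z : A ⊗[R] A, canR (R := R) (H := H) z = (1 : A) ⊗ₜ[R] h) :
    Module.Finite ↥(GLin.invariants R H A) A ∧ Module.Projective ↥(GLin.invariants R H A) A := by
  classical
  obtain ⟨S, τ, hint, hsum⟩ := exists_dualBasis (R := R) (H := H) (A := A) hcan
  let i : A →ₗ[↥(GLin.invariants R H A)] (↥S → ↥(GLin.invariants R H A)) :=
    LinearMap.pi (fun σ => trB (τ σ.1) (hint σ.1 σ.2) σ.1.2.2)
  let p : (↥S → ↥(GLin.invariants R H A)) →ₗ[↥(GLin.invariants R H A)] A :=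
    Fintype.linearCombination ↥(GLin.invariants R H A) (fun σ : ↥S => σ.1.2.1)
  have hpi : p ∘ₗ i = LinearMap.id := by
    apply LinearMap.ext
    intro a
    rw [LinearMap.comp_apply, LinearMap.id_apply, Fintype.linearCombination_apply]
    have h1 := hsum a
    rw [← Finset.sum_coe_sort] at h1
    refine Eq.trans ?_ h1
    apply Finset.sum_congr rfl
    intro σ _
    change ((trB (τ σ.1) (hint σ.1 σ.2) σ.1.2.2 a : ↥(GLin.invariants R H A)) : A) * σ.1.2.1 = _
    rw [trB_apply, mul_comm]
  have hsurj : Function.Surjective p := by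
    intro a
    exact ⟨i a, LinearMap.congr_fun hpi a⟩
  exact ⟨Module.Finite.of_surjective p hsurj, Module.Projective.of_split i p hpi⟩

/-- **Kreimer–Takeuchi**: the coaction exhibits `A ⊗ H` as the base change of the module `A`
over the invariants to `A` (that is, `A ⊗_B A → A ⊗ H` is bijective). -/
theorem isBaseChange_coactB
    (hcan : ∀ h : H, ∃ z : A ⊗[R] A, canR (R := R) (H := H) z = (1 : A) ⊗ₜ[R] h) :
    IsBaseChange A (coactB (R := R) (H := H) (A := A)) := by
  classical
  obtain ⟨S, τ, hint, hsum⟩ := exists_dualBasis (R := R) (H := H) (A := A) hcan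
  apply IsBaseChange.of_lift_unique
  intro Q _ _ _ _ g
  let g' : A ⊗[R] H →ₗ[A] Q := ∑ σ ∈ S, (Gmap (τ σ) σ.2.2).smulRight (g σ.2.1)
  have hg' : ∀ a : A, g' (Comod.coact (k := R) (A := H) a) = g a := by
    intro a
    change (∑ σ ∈ S, (Gmap (τ σ) σ.2.2).smulRight (g σ.2.1))
      (Comod.coact (k := R) (A := H) a) = g a
    rw [LinearMap.sum_apply]
    have h1 : ∀ σ ∈ S, ((Gmap (τ σ) σ.2.2).smulRight (g σ.2.1))
        (Comod.coact (k := R) (A := H) a) = g (σ.2.1 * T (τ σ) (σ.2.2 * a)) := by
      intro σ hσ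
      rw [LinearMap.smulRight_apply, Gmap_coact]
      obtain ⟨b, hb⟩ : ∃ b : ↥(GLin.invariants R H A), (b : A) = T (τ σ) (σ.2.2 * a) :=
        ⟨⟨T (τ σ) (σ.2.2 * a), T_mem_invariants (τ σ) (hint σ hσ) _⟩, rfl⟩
      rw [← hb]
      have h2 : σ.2.1 * (b : A) = b • σ.2.1 := by
        rw [mul_comm]
        rfl
      have h3 : g (b • σ.2.1) = (b : A) • g σ.2.1 :=
        (g.map_smul b σ.2.1).trans (algebraMap_smul A b (g σ.2.1)).symm
      rw [h2, h3]
    rw [Finset.sum_congr rfl h1, ← map_sum, hsum a]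
  refine ⟨g', ?_, ?_⟩
  · apply LinearMap.ext
    intro a
    exact hg' a
  · intro g'' hg''
    apply LinearMap.ext_on (span_range_coact (R := R) (H := H) (A := A) hcan)
    rintro _ ⟨a, rfl⟩
    rw [hg' a]
    exact LinearMap.congr_fun hg'' a

end Projective

end Groth.Agent.Lib.Helper25.KT
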