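import Groth.Agent.Lib.Helper25KT
import Groth.Agent.Lib.Helper25Shear
import Mathlib.RingTheory.Spectrum.Prime.FreeLocus
import Mathlib.RingTheory.LocalRing.Module
import Mathlib.RingTheory.Ideal.GoingUp

/-!
# Ranks in the Kreimer–Takeuchi theorem; quotients of finite Hopf algebras (helper25)
-/

set_option autoImplicit false
set_option linter.style.haveILetI false
set_option linter.unusedSectionVars false
universe u v w

namespace Groth.Agent.Lib.Helper25.KT

open TensorProduct HopfRep Module Groth.Agent.Lib.Helper25 Groth.Agent.Lib.Helper25.LS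

section Rank

variable {R : Type u} [CommRing R] {H : Type v} [CommRing H] [HopfAlgebra R H]
  [Module.Finite R H] [Module.Projective R H]
  {A : Type w} [CommRing A] [Algebra R A] [Comod R H A] [GLin.IsCoactAlg R H A]

/-- The rank of `A` over the invariants at the image of a prime `p` of `A` is the rank of `H`
at the image of `p`. -/
theorem rankAtStalk_invariants
    (hcan : ∀ h : H, ∃ z : A ⊗[R] A, canR (R := R) (H := H) z = (1 : A) ⊗ₜ[R] h)
    (p : PrimeSpectrum A) :
    Module.rankAtStalk (R := ↥(GLin.invariants R H A)) A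
        (p.comap (algebraMap ↥(GLin.invariants R H A) A)) =
      Module.rankAtStalk (R := R) H (p.comap (algebraMap R A)) := by
  obtain ⟨hfin, hproj⟩ := finite_projective (R := R) (H := H) (A := A) hcan
  haveI := hfin
  haveI := hproj
  rw [← Module.rankAtStalk_isBaseChange (isBaseChange_coactB (R := R) (H := H) (A := A) hcan) p,
    Module.rankAtStalk_baseChange]

end Rank

section Quotient

variable {R : Type u} [CommRing R] {M : Type v} [AddCommGroup M] [Module R M]
  [Module.Finite R M] [Module.Flat R M]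

theorem finrank_quotient_tensor_eq_rankAtStalk (P : Ideal R) [hP : P.IsMaximal] :
    finrank (R ⧸ P) ((R ⧸ P) ⊗[R] M) = rankAtStalk M ⟨P, hP.isPrime⟩ := by
  let _ : Field (R ⧸ P) := Ideal.Quotient.field P
  rw [Module.rankAtStalk_eq]
  change _ = finrank P.ResidueField (P.ResidueField ⊗[R] M)
  let e : P.ResidueField ⊗[R ⧸ P] ((R ⧸ P) ⊗[R] M) ≃ₗ[P.ResidueField] P.ResidueField ⊗[R] M :=
    AlgebraTensorModule.cancelBaseChange R (R ⧸ P) P.ResidueField P.ResidueField M
  have h := Module.finrank_baseChange (R := P.ResidueField) (S := R ⧸ P)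
    (M' := (R ⧸ P) ⊗[R] M)
  rw [← e.finrank_eq, h]

end Quotient

section HopfQuot

variable {k : Type u} [CommRing k] {A : Type v} [CommRing A] [HopfAlgebra k A]
  (I : Ideal A) [I.IsHopfIdeal k]

/-- The coaction of the quotient Hopf algebra `A ⧸ I` on `A` (right translation by the
subgroup). -/
@[reducible] noncomputable def quotComod : Comod k (A ⧸ I) A :=
  comodAlongCoalg ((Bialgebra.Quotient.mkBialgHom (R := k) I : A →ₐc[k] A ⧸ I) : A →ₗc[k] A ⧸ I)
    (Comod.regular k A)

theorem quotComod_coact (a : A) :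
    (quotComod (k := k) I).coact a =
      Algebra.TensorProduct.map (AlgHom.id k A) (Ideal.Quotient.mkₐ k I)
        (CoalgebraStruct.comul (R := k) a) := by
  change (((Bialgebra.Quotient.mkBialgHom (R := k) I : A →ₐc[k] A ⧸ I) : A →ₗc[k] A ⧸ I) :
    A →ₗ[k] A ⧸ I).lTensor A (CoalgebraStruct.comul (R := k) a) = _
  generalize CoalgebraStruct.comul (R := k) a = z
  induction z using TensorProduct.induction_on with
  | zero => simp
  | add x y hx hy => rw [map_add, map_add, hx, hy]
  | tmul x y => rfl

instance quotComod_isCoactAlg : @GLin.IsCoactAlg k _ (A ⧸ I) _ _ A _ _ (quotComod (k := k) I) := by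
  letI := quotComod (k := k) I
  refine ⟨?_, ?_⟩
  · change (quotComod (k := k) I).coact 1 = 1
    rw [quotComod_coact, Bialgebra.comul_one, map_one]
  · intro f g
    change (quotComod (k := k) I).coact (f * g) =
      (quotComod (k := k) I).coact f * (quotComod (k := k) I).coact g
    rw [quotComod_coact, quotComod_coact, quotComod_coact, Bialgebra.comul_mul, map_mul]

theorem equalizer_eq_invariants :
    AlgHom.equalizer
      ((Algebra.TensorProduct.map (AlgHom.id k A) (Ideal.Quotient.mkₐ k I)).comp
        (Bialgebra.comulAlgHom k A))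
      (Algebra.TensorProduct.includeLeft : A →ₐ[k] A ⊗[k] (A ⧸ I)) =
      @GLin.invariants k _ (A ⧸ I) _ _ A _ _ (quotComod (k := k) I) (quotComod_isCoactAlg I) := by
  letI := quotComod (k := k) I
  ext a
  rw [AlgHom.mem_equalizer]
  change _ ↔ (quotComod (k := k) I).coact a = a ⊗ₜ[k] (1 : A ⧸ I)
  rw [quotComod_coact]
  rfl

theorem canR_eq_map_shear (z : A ⊗[k] A) :
    @canR k _ (A ⧸ I) _ _ A _ _ (quotComod (k := k) I) (quotComod_isCoactAlg I) z =
      Algebra.TensorProduct.map (AlgHom.id k A) (Ideal.Quotient.mkₐ k I) (shear (k := k) z) := by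
  letI := quotComod (k := k) I
  induction z using TensorProduct.induction_on with
  | zero => simp
  | add x y hx hy => rw [map_add, map_add, map_add, hx, hy]
  | tmul x y =>
    rw [canR_tmul, shear_tmul, map_mul]
    change _ * (quotComod (k := k) I).coact y = _
    rw [quotComod_coact]
    congr 1

theorem hcan_quot (h : A ⧸ I) :
    ∃ z : A ⊗[k] A, @canR k _ (A ⧸ I) _ _ A _ _ (quotComod (k := k) I) (quotComod_isCoactAlg I) z =
      (1 : A) ⊗ₜ[k] h := by
  obtain ⟨a, rfl⟩ := Ideal.Quotient.mk_surjective h
  refine ⟨shearInv (k := k) ((1 : A) ⊗ₜ[k] a), ?_⟩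
  rw [canR_eq_map_shear, shear_shearInv]
  rfl

end HopfQuot

section FiniteField

variable {k : Type u} [Field k] {A : Type v} [CommRing A] [HopfAlgebra k A] [Module.Finite k A]
  (I : Ideal A) [I.IsHopfIdeal k]

/-- A finite-dimensional commutative Hopf algebra is free over the invariants of a Hopf quotient,
of rank the dimension of the quotient. -/
theorem nonempty_basis_invariants_quot :
    Nonempty (Module.Basis (Fin (Module.finrank k (A ⧸ I)))
      ↥(@GLin.invariants k _ (A ⧸ I) _ _ A _ _ (quotComod (k := k) I) (quotComod_isCoactAlg I))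
      A) := by
  letI := quotComod (k := k) I
  obtain ⟨hfin, hproj⟩ := finite_projective (R := k) (H := A ⧸ I) (A := A) (hcan_quot I)
  haveI := hfin
  haveI := hproj
  haveI : Module.Finite k ↥(GLin.invariants k (A ⧸ I) A) :=
    Module.Finite.of_injective (GLin.invariants k (A ⧸ I) A).val.toLinearMap
      Subtype.val_injective
  haveI : IsArtinianRing ↥(GLin.invariants k (A ⧸ I) A) :=
    IsArtinianRing.of_finite k _
  apply Module.nonempty_basis_of_flat_of_finrank_eq
  intro P
  rw [finrank_quotient_tensor_eq_rankAtStalk]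
  have hker : (⊥ : Ideal A).comap (algebraMap ↥(GLin.invariants k (A ⧸ I) A) A) ≤ P.asIdeal := by
    intro b hb
    rw [Ideal.mem_comap, Ideal.mem_bot] at hb
    have : b = 0 := Subtype.ext hb
    rw [this]
    exact Ideal.zero_mem _
  obtain ⟨Q, _, hQp, hQ⟩ := Ideal.exists_ideal_over_prime_of_isIntegral P.asIdeal
    (⊥ : Ideal A) hker
  have h1 := rankAtStalk_invariants (R := k) (H := A ⧸ I) (A := A) (hcan_quot I) ⟨Q, hQp⟩
  have h2 : (⟨Q, hQp⟩ : PrimeSpectrum A).comap (algebraMap ↥(GLin.invariants k (A ⧸ I) A) A) =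
      ⟨P.asIdeal, P.isMaximal.isPrime⟩ := PrimeSpectrum.ext hQ
  rw [h2] at h1
  rw [h1, Module.rankAtStalk_eq_finrank_of_free]
  rfl

end FiniteField

end Groth.Agent.Lib.Helper25.KT
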