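import Groth.Agent.Lib.Helper25LCMod

/-!
# Locally constant bialgebra maps between group algebras (helper25)

* `lcHom F φ c`: for a finite complete system of orthogonal idempotents `c a` (`a ∈ F`) of `T` and
  group homomorphisms `φ a : M →* M'`, the bialgebra map `T[M] → T[M']`, `m ↦ ∑ a, c a • φ a m`.
* `sig_lcHom`: its values at primes.
* `lcEquiv`: the bialgebra automorphism attached to a family of automorphisms.
* `sigEquiv`: the value at a prime of an invertible bialgebra map.
* `quotMap_mapRingHom`.
-/

set_option autoImplicit false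
set_option linter.unusedSectionVars false
set_option linter.style.haveILetI false
universe u

namespace Groth.Agent.Lib.Helper25.LCVal

open TensorProduct Groth.Agent.Lib.Helper25 DescGL Tors

section LC

variable {T : Type u} [CommRing T] {M M' : Type u} [CommGroup M] [CommGroup M']
  {κ : Type u} (F : Finset κ) (c : κ → T)

/-- A finite complete system of orthogonal idempotents. -/
structure IsCOI : Prop where
  orth : ∀ a ∈ F, ∀ b ∈ F, a ≠ b → c a * c b = 0
  sum : ∑ a ∈ F, c a = 1

variable {F c}

theorem IsCOI.idem (h : IsCOI F c) {a : κ} (ha : a ∈ F) : c a * c a = c a := by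
  classical
  have h1 : c a = c a * ∑ b ∈ F, c b := by rw [h.sum, mul_one]
  rw [Finset.mul_sum, Finset.sum_eq_single a] at h1
  · exact h1.symm
  · intro b hb hba
    exact h.orth a ha b hb (Ne.symm hba)
  · intro h'
    exact absurd ha h'

theorem isGroupLikeElem_sum_single' (h : IsCOI F c) (f : κ → M') :
    IsGroupLikeElem T (∑ a ∈ F, MonoidAlgebra.single (f a) (c a)) := by
  classical
  have e1 : ∀ a : κ, MonoidAlgebra.single (f a) (c a) =
      c a • MonoidAlgebra.single (f a) (1 : T) := by
    intro a
    rw [MonoidAlgebra.smul_single, smul_eq_mul, mul_one]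
  refine ⟨?_, ?_⟩
  · rw [map_sum]
    have : ∀ a ∈ F, CoalgebraStruct.counit (R := T) (MonoidAlgebra.single (f a) (c a)) = c a := by
      intro a _
      rw [MonoidAlgebra.counit_single]
      rfl
    rw [Finset.sum_congr rfl this]
    exact h.sum
  · rw [map_sum, TensorProduct.sum_tmul]
    refine Finset.sum_congr rfl (fun a ha => ?_)
    rw [TensorProduct.tmul_sum, MonoidAlgebra.comul_single]
    rw [Finset.sum_eq_single a]
    · simp only [CommSemiring.comul_apply, TensorProduct.map_tmul, MonoidAlgebra.lsingle_apply]
      rw [e1 a, TensorProduct.smul_tmul_smul, h.idem ha, TensorProduct.tmul_smul]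
    · intro b hb hne
      rw [e1 a, e1 b, TensorProduct.smul_tmul_smul, h.orth a ha b hb (Ne.symm hne), zero_smul]
    · intro h'
      exact absurd ha h'

/-- The group-likes defining `lcHom`. -/
noncomputable def lcGL (h : IsCOI F c) (φ : κ → (M →* M')) :
    M →* GroupLike T (MonoidAlgebra T M') where
  toFun m := ⟨∑ a ∈ F, MonoidAlgebra.single (φ a m) (c a), isGroupLikeElem_sum_single' h _⟩
  map_one' := by
    apply GroupLike.val_injective
    change ∑ a ∈ F, MonoidAlgebra.single (φ a 1) (c a) = 1
    simp only [map_one]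
    have hs : ∀ s : Finset κ, ∑ a ∈ s, MonoidAlgebra.single (1 : M') (c a) =
        MonoidAlgebra.single (1 : M') (∑ a ∈ s, c a) := by
      classical
      intro s
      induction s using Finset.induction_on with
      | empty => simp
      | insert a s ha ih => rw [Finset.sum_insert ha, Finset.sum_insert ha, ih,
          MonoidAlgebra.single_add]
    rw [hs, h.sum]
    rfl
  map_mul' m m' := by
    classical
    apply GroupLike.val_injective
    change ∑ a ∈ F, MonoidAlgebra.single (φ a (m * m')) (c a) =
      (∑ a ∈ F, MonoidAlgebra.single (φ a m) (c a)) *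
        (∑ a ∈ F, MonoidAlgebra.single (φ a m') (c a))
    rw [Finset.sum_mul]
    refine Finset.sum_congr rfl (fun a ha => ?_)
    rw [Finset.mul_sum, Finset.sum_eq_single a]
    · rw [MonoidAlgebra.single_mul_single, h.idem ha, map_mul]
    · intro b hb hne
      rw [MonoidAlgebra.single_mul_single, h.orth a ha b hb (Ne.symm hne),
        MonoidAlgebra.single_zero]
    · intro h'
      exact absurd ha h'

/-- The locally constant bialgebra map attached to a complete system of orthogonal idempotents and
a family of group homomorphisms. -/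
noncomputable def lcHom (h : IsCOI F c) (φ : κ → (M →* M')) :
    MonoidAlgebra T M →ₐc[T] MonoidAlgebra T M' :=
  (MonoidAlgebra.liftGroupLikeBialgHom (R := T) (A := MonoidAlgebra T M')).comp
    (MonoidAlgebra.mapDomainBialgHom T (lcGL h φ))

theorem lcHom_single (h : IsCOI F c) (φ : κ → (M →* M')) (m : M) :
    lcHom h φ (MonoidAlgebra.single m 1) = ∑ a ∈ F, MonoidAlgebra.single (φ a m) (c a) := by
  rw [lcHom, BialgHom.comp_apply, MonoidAlgebra.mapDomainBialgHom_single,
    MonoidAlgebra.liftGroupLikeBialgHom_apply, MonoidAlgebra.lift_single, one_smul]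
  rfl

theorem sig_lcHom (h : IsCOI F c) (φ : κ → (M →* M')) (x : Ideal T) [hx : x.IsPrime] {a : κ}
    (ha : a ∈ F) (hc : c a ∉ x) : sig (lcHom h φ) x = φ a := by
  classical
  ext m
  rw [sig_apply, val_eq_iff]
  have h1 : (lcHom h φ (MonoidAlgebra.single m 1)).coeff (φ a m) - c a ∈ x := by
    rw [lcHom_single, MonoidAlgebra.coeff_sum, Finsupp.finsetSum_apply,
      ← Finset.add_sum_erase F _ ha, MonoidAlgebra.coeff_single, Finsupp.single_apply,
      if_pos rfl, add_sub_cancel_left]
    refine Ideal.sum_mem _ (fun b hb => ?_)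
    rw [MonoidAlgebra.coeff_single, Finsupp.single_apply]
    split_ifs
    · have hba : b ≠ a := (Finset.mem_erase.mp hb).1
      have h2 : c a * c b ∈ x := by
        rw [h.orth a ha b (Finset.mem_erase.mp hb).2 (Ne.symm hba)]
        exact x.zero_mem
      exact (hx.mem_or_mem h2).resolve_left hc
    · exact x.zero_mem
  intro hmem
  apply hc
  have := x.sub_mem hmem h1
  rwa [sub_sub_cancel] at this

/-- At every prime exactly one idempotent of a complete orthogonal system survives. -/
theorem IsCOI.exists_notMem (h : IsCOI F c) (x : Ideal T) [hx : x.IsPrime] :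
    ∃ a ∈ F, c a ∉ x := by
  by_contra hcon
  push Not at hcon
  have h1 : (1 : T) ∈ x := by
    rw [← h.sum]
    exact Ideal.sum_mem _ hcon
  exact hx.ne_top ((Ideal.eq_top_iff_one _).mpr h1)

/-- The locally constant bialgebra automorphism attached to a complete system of orthogonal
idempotents and a family of group automorphisms. -/
noncomputable def lcEquiv (h : IsCOI F c) (φ : κ → (M ≃* M)) :
    MonoidAlgebra T M ≃ₐc[T] MonoidAlgebra T M :=
  BialgEquiv.ofBialgHom (lcHom h (fun a => (φ a).toMonoidHom))
    (lcHom h (fun a => (φ a).symm.toMonoidHom))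
    (by
      apply ext_of_sig
      intro x _
      obtain ⟨a, ha, hc⟩ := h.exists_notMem x
      rw [sig_comp, sig_lcHom h _ x ha hc, sig_lcHom h _ x ha hc, sig_id]
      ext m
      simp)
    (by
      apply ext_of_sig
      intro x _
      obtain ⟨a, ha, hc⟩ := h.exists_notMem x
      rw [sig_comp, sig_lcHom h _ x ha hc, sig_lcHom h _ x ha hc, sig_id]
      ext m
      simp)

theorem lcEquiv_toBialgHom (h : IsCOI F c) (φ : κ → (M ≃* M)) :
    (lcEquiv h φ : MonoidAlgebra T M →ₐc[T] MonoidAlgebra T M) =
      lcHom h (fun a => (φ a).toMonoidHom) := rfl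

theorem lcEquiv_symm_toBialgHom (h : IsCOI F c) (φ : κ → (M ≃* M)) :
    ((lcEquiv h φ).symm : MonoidAlgebra T M →ₐc[T] MonoidAlgebra T M) =
      lcHom h (fun a => (φ a).symm.toMonoidHom) := rfl

end LC

section SigEquiv

variable {T : Type u} [CommRing T] {M : Type u} [CommGroup M]

/-- The value at a prime of an invertible bialgebra map. -/
noncomputable def sigEquiv (ψ ψ' : MonoidAlgebra T M →ₐc[T] MonoidAlgebra T M)
    (h1 : ψ'.comp ψ = BialgHom.id T _) (h2 : ψ.comp ψ' = BialgHom.id T _) (x : Ideal T)
    [x.IsPrime] : M ≃* M where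
  toFun := sig ψ x
  invFun := sig ψ' x
  left_inv m := by
    have := congrArg (fun f => f m) (sig_comp ψ ψ' x)
    rw [h1, sig_id] at this
    exact this.symm
  right_inv m := by
    have := congrArg (fun f => f m) (sig_comp ψ' ψ x)
    rw [h2, sig_id] at this
    exact this.symm
  map_mul' := map_mul _

theorem sigEquiv_toMonoidHom (ψ ψ' : MonoidAlgebra T M →ₐc[T] MonoidAlgebra T M)
    (h1 : ψ'.comp ψ = BialgHom.id T _) (h2 : ψ.comp ψ' = BialgHom.id T _) (x : Ideal T)
    [x.IsPrime] : (sigEquiv ψ ψ' h1 h2 x).toMonoidHom = sig ψ x := rfl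

end SigEquiv

section QuotMap

variable {T T' : Type u} [CommRing T] [CommRing T'] {M : Type u} [CommGroup M]

theorem quotMap_mapRingHom (n : ℕ) (f : T →+* T') (u : MonoidAlgebra T M) :
    quotMap T' M n (MonoidAlgebra.mapRingHom M f u) =
      MonoidAlgebra.mapRingHom (M ⧸ powSub M n) f (quotMap T M n u) := by
  induction u using MonoidAlgebra.induction_linear with
  | zero => simp
  | add x y hx hy => rw [map_add, map_add, hx, hy, map_add, map_add]
  | single m t =>
    rw [MonoidAlgebra.mapRingHom_single, quotMap, quotMap, MonoidAlgebra.mapDomainBialgHom_single,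
      MonoidAlgebra.mapDomainBialgHom_single, MonoidAlgebra.mapRingHom_single]

end QuotMap

end Groth.Agent.Lib.Helper25.LCVal
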