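import Groth.Agent.Lib.Helper25LCVal
import Groth.Agent.Lib.Helper25TorsQuot

/-!
# Reduction modulo `n`-th powers of bialgebra maps between group algebras (helper25)

`red n ψ : T[N/Nⁿ] → T[N'/N'ⁿ]` for `ψ : T[N] → T[N']`, with `red n ψ ∘ quotMap = quotMap ∘ ψ`,
and its values at primes.
-/

set_option autoImplicit false
set_option linter.unusedSectionVars false
set_option linter.style.haveILetI false
universe u

namespace Groth.Agent.Lib.Helper25.LCVal

open TensorProduct Groth.Agent.Lib.Helper25 DescGL Tors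

section Red

variable {T T' : Type u} [CommRing T] [CommRing T'] {N N' : Type u} [CommGroup N] [CommGroup N']

theorem pow_eq_one_of_groupLike (n : ℕ) {g : MonoidAlgebra T (N' ⧸ powSub N' n)}
    (hg : IsGroupLikeElem T g) : g ^ n = 1 := by
  apply TorsQuot.pow_eq_one_of_isKilled (isKilled_monoidAlgebra _ n _) hg
  intro q
  obtain ⟨m, rfl⟩ := QuotientGroup.mk_surjective q
  rw [← QuotientGroup.mk_pow, QuotientGroup.eq_one_iff]
  exact ⟨m, rfl⟩

/-- The group-likes defining the reduction. -/
noncomputable def redGL₀ (n : ℕ) (ψ : MonoidAlgebra T N →ₐc[T] MonoidAlgebra T N') :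
    N →* GroupLike T (MonoidAlgebra T (N' ⧸ powSub N' n)) where
  toFun m := ⟨quotMap T N' n (ψ (MonoidAlgebra.single m 1)),
    ((isGroupLikeElem_single (T := T) m).map ψ).map (quotMap T N' n)⟩
  map_one' := by
    apply GroupLike.val_injective
    change quotMap T N' n (ψ (MonoidAlgebra.single 1 1)) = 1
    rw [← MonoidAlgebra.one_def, map_one, map_one]
  map_mul' a b := by
    apply GroupLike.val_injective
    change quotMap T N' n (ψ (MonoidAlgebra.single (a * b) 1)) =
      quotMap T N' n (ψ (MonoidAlgebra.single a 1)) * quotMap T N' n (ψ (MonoidAlgebra.single b 1))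
    rw [← map_mul, ← map_mul, MonoidAlgebra.single_mul_single, mul_one]

theorem powSub_le_ker_redGL₀ (n : ℕ) (ψ : MonoidAlgebra T N →ₐc[T] MonoidAlgebra T N') :
    powSub N n ≤ (redGL₀ n ψ).ker := by
  rintro _ ⟨c, rfl⟩
  rw [MonoidHom.mem_ker]
  change redGL₀ n ψ (c ^ n) = 1
  rw [map_pow]
  apply GroupLike.val_injective
  change ((redGL₀ n ψ c) ^ n).val = 1
  rw [GroupLike.val_pow]
  exact pow_eq_one_of_groupLike n (redGL₀ n ψ c).2

noncomputable def redGL (n : ℕ) (ψ : MonoidAlgebra T N →ₐc[T] MonoidAlgebra T N') :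
    N ⧸ powSub N n →* GroupLike T (MonoidAlgebra T (N' ⧸ powSub N' n)) :=
  QuotientGroup.lift (powSub N n) (redGL₀ n ψ) (powSub_le_ker_redGL₀ n ψ)

/-- The reduction modulo `n`-th powers of a bialgebra map between group algebras. -/
noncomputable def red (n : ℕ) (ψ : MonoidAlgebra T N →ₐc[T] MonoidAlgebra T N') :
    MonoidAlgebra T (N ⧸ powSub N n) →ₐc[T] MonoidAlgebra T (N' ⧸ powSub N' n) :=
  (MonoidAlgebra.liftGroupLikeBialgHom (R := T)
    (A := MonoidAlgebra T (N' ⧸ powSub N' n))).comp
    (MonoidAlgebra.mapDomainBialgHom T (redGL n ψ))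

theorem red_single_mk (n : ℕ) (ψ : MonoidAlgebra T N →ₐc[T] MonoidAlgebra T N') (m : N) :
    red n ψ (MonoidAlgebra.single (QuotientGroup.mk' (powSub N n) m) 1) =
      quotMap T N' n (ψ (MonoidAlgebra.single m 1)) := by
  rw [red, BialgHom.comp_apply, MonoidAlgebra.mapDomainBialgHom_single,
    MonoidAlgebra.liftGroupLikeBialgHom_apply, MonoidAlgebra.lift_single, one_smul]
  rfl

theorem red_comp_quotMap (n : ℕ) (ψ : MonoidAlgebra T N →ₐc[T] MonoidAlgebra T N') :
    (red n ψ).comp (quotMap T N n) = (quotMap T N' n).comp ψ := by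
  apply bialgHom_ext_single
  intro m
  rw [BialgHom.comp_apply, BialgHom.comp_apply]
  have : quotMap T N n (MonoidAlgebra.single m 1) =
      MonoidAlgebra.single (QuotientGroup.mk' (powSub N n) m) 1 :=
    MonoidAlgebra.mapDomainBialgHom_single ..
  rw [this, red_single_mk]

theorem red_quotMap (n : ℕ) (ψ : MonoidAlgebra T N →ₐc[T] MonoidAlgebra T N')
    (y : MonoidAlgebra T N) : red n ψ (quotMap T N n y) = quotMap T N' n (ψ y) := by
  have := congrArg (fun F => F y) (red_comp_quotMap n ψ)
  exact this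

theorem sig_quotMap (n : ℕ) (x : Ideal T) [x.IsPrime] :
    sig (quotMap T N n) x = QuotientGroup.mk' (powSub N n) :=
  sig_mapDomain _ x

/-- The value of the reduction is the reduction of the value. -/
theorem sig_red_mk (n : ℕ) (ψ : MonoidAlgebra T N →ₐc[T] MonoidAlgebra T N') (x : Ideal T)
    [x.IsPrime] (m : N) :
    sig (red n ψ) x (QuotientGroup.mk' (powSub N n) m) =
      QuotientGroup.mk' (powSub N' n) (sig ψ x m) := by
  rw [sig_apply, sig_apply]
  have h1 := val_apply (quotMap T N' n) ((isGroupLikeElem_single (T := T) m).map ψ) x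
  rw [sig_quotMap] at h1
  rw [← h1]
  apply val_congr
  exact red_single_mk n ψ m

end Red

end Groth.Agent.Lib.Helper25.LCVal
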