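import Groth.Agent.Lib.Helper25DescLift

/-!
# Values at primes of group-like elements of group algebras (helper25)

A group-like element `g` of `T[N]` is a "locally constant function `Spec T → N`": its coefficients
are orthogonal idempotents of sum `1`.  For a prime `x` of `T`, `val hg x : N` is the value at `x`
(the unique `n` with `g.coeff n ∉ x`).  A bialgebra map `ψ : T[N] → T[N']` has a value
`sig ψ x : N →* N'` at each prime.
-/

set_option autoImplicit false
set_option linter.unusedSectionVars false
set_option linter.style.haveILetI false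
universe u

namespace Groth.Agent.Lib.Helper25.LCVal

open TensorProduct Groth.Agent.Lib.Helper25 DescGL

section Val

variable {T T' : Type u} [CommRing T] [CommRing T'] {N N' N'' : Type u} [CommGroup N]
  [CommGroup N'] [CommGroup N'']

theorem counit_eq_sum (g : MonoidAlgebra T N) :
    Coalgebra.counit (R := T) g = g.coeff.sum (fun _ c => c) := by
  induction g using MonoidAlgebra.induction_linear with
  | zero => simp
  | add x y hx hy =>
    rw [map_add, hx, hy, MonoidAlgebra.coeff_add, Finsupp.sum_add_index'] <;> simp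
  | single n t => simp

theorem exists_coeff_notMem {g : MonoidAlgebra T N} (hg : IsGroupLikeElem T g) (x : Ideal T)
    [hx : x.IsPrime] : ∃ m, g.coeff m ∉ x := by
  by_contra h
  push Not at h
  have h1 : (1 : T) ∈ x := by
    rw [← hg.counit_eq_one, counit_eq_sum]
    exact Ideal.sum_mem _ (fun m _ => h m)
  exact hx.ne_top ((Ideal.eq_top_iff_one _).mpr h1)

theorem coeff_mem_of_ne {g : MonoidAlgebra T N} (hg : IsGroupLikeElem T g) (x : Ideal T)
    [hx : x.IsPrime] {m m' : N} (hne : m ≠ m') (hm : g.coeff m ∉ x) : g.coeff m' ∈ x := by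
  classical
  have h1 := SubDiag.coeff_mul_coeff hg m m'
  rw [if_neg hne] at h1
  have h2 : g.coeff m * g.coeff m' ∈ x := by rw [h1]; exact x.zero_mem
  exact (hx.mem_or_mem h2).resolve_left hm

/-- The value of a group-like element at a prime. -/
noncomputable def val {g : MonoidAlgebra T N} (hg : IsGroupLikeElem T g) (x : Ideal T)
    [x.IsPrime] : N := (exists_coeff_notMem hg x).choose

theorem val_spec {g : MonoidAlgebra T N} (hg : IsGroupLikeElem T g) (x : Ideal T) [x.IsPrime] :
    g.coeff (val hg x) ∉ x := (exists_coeff_notMem hg x).choose_spec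

theorem val_eq_iff {g : MonoidAlgebra T N} (hg : IsGroupLikeElem T g) (x : Ideal T) [x.IsPrime]
    {m : N} : val hg x = m ↔ g.coeff m ∉ x := by
  constructor
  · rintro rfl
    exact val_spec hg x
  · intro hm
    by_contra hne
    exact hm (coeff_mem_of_ne hg x hne (val_spec hg x))

theorem coeff_mem_iff {g : MonoidAlgebra T N} (hg : IsGroupLikeElem T g) (x : Ideal T) [x.IsPrime]
    {m : N} : g.coeff m ∈ x ↔ val hg x ≠ m := by
  rw [Ne, val_eq_iff, not_not]

theorem val_congr {g g' : MonoidAlgebra T N} (hg : IsGroupLikeElem T g)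
    (hg' : IsGroupLikeElem T g') (h : g = g') (x : Ideal T) [x.IsPrime] :
    val hg x = val hg' x := by
  subst h
  rfl

theorem val_single (n : N) (x : Ideal T) [hx : x.IsPrime] :
    val (isGroupLikeElem_single (T := T) n) x = n := by
  classical
  rw [val_eq_iff, MonoidAlgebra.coeff_single, Finsupp.single_apply, if_pos rfl]
  intro h
  exact hx.ne_top ((Ideal.eq_top_iff_one _).mpr h)

/-- Functoriality of values. -/
theorem val_mapRingHom (f : T →+* T') {g : MonoidAlgebra T N} (hg : IsGroupLikeElem T g)
    (x' : Ideal T') [x'.IsPrime] :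
    val (isGroupLikeElem_mapRingHom f hg) x' = val hg (x'.comap f) := by
  rw [val_eq_iff, MonoidAlgebra.coeff_mapRingHom]
  exact val_spec hg (x'.comap f)

/-- Values are constant under specialisation. -/
theorem val_of_le {g : MonoidAlgebra T N} (hg : IsGroupLikeElem T g) {x y : Ideal T}
    [x.IsPrime] [y.IsPrime] (h : x ≤ y) : val hg x = val hg y := by
  rw [val_eq_iff]
  exact fun hm => val_spec hg y (h hm)

/-- The image of a group-like element in the group algebra of the domain `T ⧸ x`. -/
theorem mapRingHom_mk_eq_single {g : MonoidAlgebra T N} (hg : IsGroupLikeElem T g) (x : Ideal T)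
    [hx : x.IsPrime] :
    MonoidAlgebra.mapRingHom N (Ideal.Quotient.mk x) g = MonoidAlgebra.single (val hg x) 1 := by
  classical
  apply MonoidAlgebra.coeff_injective
  ext m
  rw [MonoidAlgebra.coeff_mapRingHom, MonoidAlgebra.coeff_single, Finsupp.single_apply]
  by_cases hm : val hg x = m
  · rw [if_pos hm]
    have h1 : IsIdempotentElem (Ideal.Quotient.mk x (g.coeff m)) :=
      (SubDiag.isIdempotentElem_coeff hg m).map _
    rcases IsIdempotentElem.iff_eq_zero_or_one.mp h1 with h0 | h1'
    · exfalso
      rw [Ideal.Quotient.eq_zero_iff_mem] at h0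
      exact (val_eq_iff hg x).mp hm h0
    · exact h1'
  · rw [if_neg hm, Ideal.Quotient.eq_zero_iff_mem]
    exact (coeff_mem_iff hg x).mpr hm

theorem val_eq_of_mapRingHom_eq_single {g : MonoidAlgebra T N} (hg : IsGroupLikeElem T g)
    (x : Ideal T) [hx : x.IsPrime] {m : N}
    (h : MonoidAlgebra.mapRingHom N (Ideal.Quotient.mk x) g = MonoidAlgebra.single m 1) :
    val hg x = m := by
  classical
  rw [val_eq_iff]
  intro hm
  have h1 := congrArg (fun y : MonoidAlgebra (T ⧸ x) N => y.coeff m) h
  simp only [MonoidAlgebra.coeff_mapRingHom, MonoidAlgebra.coeff_single, Finsupp.single_apply,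
    if_pos rfl] at h1
  rw [(Ideal.Quotient.eq_zero_iff_mem).mpr hm] at h1
  exact zero_ne_one h1

theorem val_mul {g g' : MonoidAlgebra T N} (hg : IsGroupLikeElem T g)
    (hg' : IsGroupLikeElem T g') (x : Ideal T) [x.IsPrime] :
    val (hg.mul hg') x = val hg x * val hg' x := by
  apply val_eq_of_mapRingHom_eq_single
  rw [map_mul, mapRingHom_mk_eq_single hg, mapRingHom_mk_eq_single hg',
    MonoidAlgebra.single_mul_single, mul_one]

/-- Group-like elements are determined by their values. -/
theorem eq_of_forall_val {g g' : MonoidAlgebra T N} (hg : IsGroupLikeElem T g)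
    (hg' : IsGroupLikeElem T g')
    (h : ∀ (x : Ideal T) [x.IsPrime], val hg x = val hg' x) : g = g' := by
  have key : ∀ {a a' : MonoidAlgebra T N} (ha : IsGroupLikeElem T a) (ha' : IsGroupLikeElem T a'),
      (∀ (x : Ideal T) [x.IsPrime], val ha x = val ha' x) → ∀ m, a.coeff m = a.coeff m * a'.coeff m := by
    intro a a' ha ha' hv m
    have hc := SubDiag.isIdempotentElem_coeff ha m
    have hc' := SubDiag.isIdempotentElem_coeff ha' m
    have hid : IsIdempotentElem (a.coeff m * (1 - a'.coeff m)) := hc.mul hc'.one_sub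
    have hnil : IsNilpotent (a.coeff m * (1 - a'.coeff m)) := by
      rw [← mem_nilradical, nilradical_eq_sInf, Ideal.mem_sInf]
      intro x hx
      haveI : x.IsPrime := hx
      by_cases hm : a.coeff m ∈ x
      · exact x.mul_mem_right _ hm
      · have h1 : val ha x = m := (val_eq_iff ha x).mpr hm
        have h2 : a'.coeff m ∉ x := by
          rw [← val_eq_iff ha' x, ← hv x, h1]
        have h3 : a'.coeff m * (1 - a'.coeff m) ∈ x := by
          rw [mul_sub, mul_one, hc'.eq, sub_self]
          exact x.zero_mem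
        exact x.mul_mem_left _ ((hx.mem_or_mem h3).resolve_left h2)
    have h0 := hid.eq_zero_of_isNilpotent hnil
    rw [mul_sub, mul_one, sub_eq_zero] at h0
    exact h0
  apply MonoidAlgebra.coeff_injective
  ext m
  have h1 := key hg hg' h m
  have h2 := key hg' hg (fun x _ => (h x).symm) m
  calc g.coeff m = g.coeff m * g'.coeff m := h1
    _ = g'.coeff m * g.coeff m := mul_comm _ _
    _ = g'.coeff m := h2.symm

end Val

section Sig

variable {T T' : Type u} [CommRing T] [CommRing T'] {N N' N'' : Type u} [CommGroup N]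
  [CommGroup N'] [CommGroup N'']

/-- The value at a prime of a bialgebra map between group algebras, as a function. -/
noncomputable def sigFun (ψ : MonoidAlgebra T N →ₐc[T] MonoidAlgebra T N') (x : Ideal T)
    [x.IsPrime] (m : N) : N' :=
  val ((isGroupLikeElem_single (T := T) m).map ψ) x

theorem bcHom_mk_single (ψ : MonoidAlgebra T N →ₐc[T] MonoidAlgebra T N') (x : Ideal T)
    [x.IsPrime] (m : N) :
    bcHom (Ideal.Quotient.mk x) ψ (MonoidAlgebra.single m 1) =
      MonoidAlgebra.single (sigFun ψ x m) 1 := by
  rw [bcHom_single, one_smul]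
  exact mapRingHom_mk_eq_single _ x

/-- The value at a prime of a bialgebra map between group algebras. -/
noncomputable def sig (ψ : MonoidAlgebra T N →ₐc[T] MonoidAlgebra T N') (x : Ideal T)
    [hx : x.IsPrime] : N →* N' where
  toFun := sigFun ψ x
  map_one' := by
    have h := bcHom_mk_single ψ x 1
    rw [← MonoidAlgebra.one_def, map_one, MonoidAlgebra.one_def] at h
    exact (MonoidAlgebra.single_left_injective (R := T ⧸ x) (M := N') one_ne_zero h).symm
  map_mul' a b := by
    have h := bcHom_mk_single ψ x (a * b)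
    have h2 : (MonoidAlgebra.single (a * b) (1 : T ⧸ x) : MonoidAlgebra (T ⧸ x) N) =
        MonoidAlgebra.single a 1 * MonoidAlgebra.single b 1 := by
      rw [MonoidAlgebra.single_mul_single, mul_one]
    rw [h2, map_mul, bcHom_mk_single, bcHom_mk_single, MonoidAlgebra.single_mul_single,
      mul_one] at h
    exact (MonoidAlgebra.single_left_injective (R := T ⧸ x) (M := N') one_ne_zero h).symm

theorem sig_apply (ψ : MonoidAlgebra T N →ₐc[T] MonoidAlgebra T N') (x : Ideal T) [x.IsPrime]
    (m : N) : sig ψ x m = val ((isGroupLikeElem_single (T := T) m).map ψ) x := rfl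

theorem bcHom_mk_eq (ψ : MonoidAlgebra T N →ₐc[T] MonoidAlgebra T N') (x : Ideal T) [x.IsPrime] :
    bcHom (Ideal.Quotient.mk x) ψ = MonoidAlgebra.mapDomainBialgHom (T ⧸ x) (sig ψ x) := by
  apply bialgHom_ext_single
  intro m
  rw [bcHom_mk_single, MonoidAlgebra.mapDomainBialgHom_single]
  rfl

/-- The value of the image of a group-like element. -/
theorem val_apply (ψ : MonoidAlgebra T N →ₐc[T] MonoidAlgebra T N') {g : MonoidAlgebra T N}
    (hg : IsGroupLikeElem T g) (x : Ideal T) [x.IsPrime] :
    val (hg.map ψ) x = sig ψ x (val hg x) := by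
  apply val_eq_of_mapRingHom_eq_single
  rw [← bcHom_mapRingHom, mapRingHom_mk_eq_single hg, bcHom_mk_single]
  rfl

theorem sig_comp (ψ : MonoidAlgebra T N →ₐc[T] MonoidAlgebra T N')
    (ψ' : MonoidAlgebra T N' →ₐc[T] MonoidAlgebra T N'') (x : Ideal T) [x.IsPrime] :
    sig (ψ'.comp ψ) x = (sig ψ' x).comp (sig ψ x) := by
  ext m
  rw [MonoidHom.comp_apply, sig_apply, sig_apply ψ, ← val_apply ψ']
  rfl

theorem sig_id (x : Ideal T) [x.IsPrime] :
    sig (BialgHom.id T (MonoidAlgebra T N)) x = MonoidHom.id N := by
  ext m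
  rw [sig_apply, MonoidHom.id_apply]
  exact val_single m x

theorem sig_mapDomain (φ : N →* N') (x : Ideal T) [x.IsPrime] :
    sig (MonoidAlgebra.mapDomainBialgHom T φ) x = φ := by
  ext m
  rw [sig_apply]
  have h : MonoidAlgebra.mapDomainBialgHom T φ (MonoidAlgebra.single m (1 : T)) =
      MonoidAlgebra.single (φ m) 1 := MonoidAlgebra.mapDomainBialgHom_single ..
  rw [val_congr _ (isGroupLikeElem_single (φ m)) h]
  exact val_single (φ m) x

theorem sig_bcHom (f : T →+* T') (ψ : MonoidAlgebra T N →ₐc[T] MonoidAlgebra T N')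
    (x' : Ideal T') [x'.IsPrime] : sig (bcHom f ψ) x' = sig ψ (x'.comap f) := by
  ext m
  rw [sig_apply, sig_apply, ← val_mapRingHom f]
  apply val_congr
  rw [bcHom_single, one_smul]

theorem sig_of_le (ψ : MonoidAlgebra T N →ₐc[T] MonoidAlgebra T N') {x y : Ideal T}
    [x.IsPrime] [y.IsPrime] (h : x ≤ y) : sig ψ x = sig ψ y := by
  ext m
  rw [sig_apply, sig_apply]
  exact val_of_le _ h

/-- Bialgebra maps between group algebras are determined by their values. -/
theorem ext_of_sig {ψ ψ' : MonoidAlgebra T N →ₐc[T] MonoidAlgebra T N'}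
    (h : ∀ (x : Ideal T) [x.IsPrime], sig ψ x = sig ψ' x) : ψ = ψ' := by
  apply bialgHom_ext_single
  intro m
  apply eq_of_forall_val ((isGroupLikeElem_single (T := T) m).map ψ)
    ((isGroupLikeElem_single (T := T) m).map ψ')
  intro x _
  rw [← sig_apply, ← sig_apply, h x]

/-- The values lie in the supports. -/
theorem sig_mem_support (ψ : MonoidAlgebra T N →ₐc[T] MonoidAlgebra T N') (x : Ideal T)
    [x.IsPrime] (m : N) : sig ψ x m ∈ (ψ (MonoidAlgebra.single m 1)).coeff.support := by
  rw [Finsupp.mem_support_iff]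
  intro h0
  have := val_spec ((isGroupLikeElem_single (T := T) m).map ψ) x
  rw [← sig_apply, h0] at this
  exact this x.zero_mem

/-- For a finitely generated group, a bialgebra map has finitely many values. -/
theorem finite_range_sig [Group.FG N] (ψ : MonoidAlgebra T N →ₐc[T] MonoidAlgebra T N') :
    (Set.range (fun x : PrimeSpectrum T => sig ψ x.asIdeal)).Finite := by
  classical
  obtain ⟨S, hS⟩ := Group.FG.out (G := N)
  let P : Set (S → N') := Set.pi Set.univ
    (fun s => ((ψ (MonoidAlgebra.single (s : N) 1)).coeff.support : Set N'))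
  have hP : P.Finite := Set.Finite.pi (fun s => Finset.finite_toSet _)
  let Φ : (N →* N') → (S → N') := fun φ s => φ s
  have hΦ : Function.Injective Φ := by
    intro φ φ' h
    apply MonoidHom.eq_of_eqOn_dense hS
    intro s hs
    exact congrFun h ⟨s, hs⟩
  refine (hP.preimage (hΦ.injOn)).subset ?_
  rintro _ ⟨x, rfl⟩
  intro s _
  exact sig_mem_support ψ x.asIdeal s

end Sig

end Groth.Agent.Lib.Helper25.LCVal
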