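import Groth.Agent.Lib.Helper25UnipExt
import Groth.Agent.Lib.Helper25Exact
import Groth.Agent.Lib.Helper25Integral
import Groth.Agent.Lib.Helper25UnivSS

/-!
# Linear reductivity in exact sequences of affine group schemes (helper25)

* `isLinearlyReductive_of_injective`: a quotient group of a linearly reductive group is linearly
  reductive.
* `isLinearlyReductive_of_extension`: an extension of linearly reductive groups is linearly
  reductive.
-/

set_option autoImplicit false
set_option linter.style.haveILetI false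
universe u v w w'

namespace Groth.Agent.Lib.Helper25.LRExact

open TensorProduct HopfRep WithConv

section Transfer

variable {k : Type u} [Field k] {C : Type v} [AddCommGroup C] [Module k C] [Coalgebra k C]
  {D : Type w'} [AddCommGroup D] [Module k D] [Coalgebra k D]
variable {V : Type w} [AddCommGroup V] [Module k V]

/-- Along an injective coalgebra map, subcomodules for the pushed-forward structure are
subcomodules for the original one. -/
theorem isSubcomod_of_comodAlongCoalg (i : C →ₗc[k] D) (hi : Function.Injective i)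
    (c : Comod k C V) (U : Submodule k V)
    (hU : @IsSubcomod k D _ _ _ _ V _ _ (comodAlongCoalg i c) U) :
    @IsSubcomod k C _ _ _ _ V _ _ c U := by
  letI := c
  rw [isSubcomod_iff]
  intro ℓ u hu
  obtain ⟨r, hr⟩ := LinearMap.exists_leftInverse_of_injective (i : C →ₗ[k] D)
    (LinearMap.ker_eq_bot.mpr hi)
  have h1 := (@isSubcomod_iff k _ D _ _ _ V _ _ (comodAlongCoalg i c) _ U).mp hU (ℓ ∘ₗ r) u hu
  have h2 : @T k _ D _ _ _ V _ _ (comodAlongCoalg i c) (ℓ ∘ₗ r) u = T ℓ u := by
    change slice V (ℓ ∘ₗ r) ((i : C →ₗ[k] D).lTensor V (c.coact u)) = slice V ℓ (c.coact u)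
    rw [slice_lTensor, LinearMap.comp_assoc, hr, LinearMap.comp_id]
  rw [← h2]
  exact h1

end Transfer

section Quot

variable {k : Type u} [Field k] {C : Type v} [CommRing C] [Bialgebra k C]
  {A : Type w'} [CommRing A] [Bialgebra k A]

/-- A quotient group of a linearly reductive group is linearly reductive. -/
theorem isLinearlyReductive_of_injective (φ : C →ₐc[k] A) (hφ : Function.Injective φ)
    (hA : IsLinearlyReductive k A) : IsLinearlyReductive k C := by
  intro V _ _ cV hfin
  letI dV : Comod k A V := comodAlongCoalg (φ : C →ₗc[k] A) cV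
  have hss : @IsSemisimpleComod k A _ _ _ _ V _ _ dV := Univ.isSemisimpleComod hA V
  intro W hW
  obtain ⟨W', hW', hc⟩ := hss W (isSubcomod_comodAlongCoalg (φ : C →ₗc[k] A) cV W hW)
  exact ⟨W', isSubcomod_of_comodAlongCoalg (φ : C →ₗc[k] A) hφ cV W' hW', hc⟩

end Quot

section Along

variable {k : Type u} [Field k] {A : Type v} [AddCommGroup A] [Module k A] [Coalgebra k A]
  {D : Type w'} [AddCommGroup D] [Module k D] [Coalgebra k D]
variable {X : Type w} [AddCommGroup X] [Module k X] {Y : Type w} [AddCommGroup Y] [Module k Y]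

/-- A comodule map stays a comodule map for the pushed-forward structures. -/
theorem isComodHom_along (i : A →ₗc[k] D) (cX : Comod k A X) (cY : Comod k A Y) (f : X →ₗ[k] Y)
    (hf : @Hoch.IsComodHom k _ A _ _ _ X _ _ cX Y _ _ cY f) :
    @Hoch.IsComodHom k _ D _ _ _ X _ _ (comodAlongCoalg i cX) Y _ _ (comodAlongCoalg i cY) f := by
  apply LinearMap.ext
  intro x
  have h := LinearMap.congr_fun hf x
  change cY.coact (f x) = f.rTensor A (cX.coact x) at h
  change (i : A →ₗ[k] D).lTensor Y (cY.coact (f x)) =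
    f.rTensor D ((i : A →ₗ[k] D).lTensor X (cX.coact x))
  rw [h, lTensor_rTensor_comm']

end Along

section Extension

variable {k A : Type u} [Field k] [CommRing A] [HopfAlgebra k A]
  {C : Type u} [CommRing C] [HopfAlgebra k C]

/-- An extension of a linearly reductive group by a linearly reductive group is linearly
reductive. -/
theorem isLinearlyReductive_of_extension (ψ : C →ₐc[k] A) (hψ : Function.Injective ψ)
    (J : Ideal A) [J.IsHopfIdeal k]
    (hJ : J = Ideal.map (ψ : C →+* A) (RingHom.ker (Bialgebra.counitAlgHom k C)))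
    (hC : IsLinearlyReductive k C) (hN : IsLinearlyReductive k (A ⧸ J)) :
    IsLinearlyReductive k A := by
  intro V _ _ _ hfin
  refine isSemisimpleComod_of_exact ?_ V
  intro X Y _ _ cX _ _ cY f hXfin hYfin hf hsurj y hy
  -- step 1: lift to an `N`-invariant vector
  letI dX : Comod k (A ⧸ J) X :=
    comodAlongCoalg ((Bialgebra.Quotient.mkBialgHom (R := k) J : A →ₐc[k] A ⧸ J) : A →ₗc[k] A ⧸ J) cX
  letI dY : Comod k (A ⧸ J) Y :=
    comodAlongCoalg ((Bialgebra.Quotient.mkBialgHom (R := k) J : A →ₐc[k] A ⧸ J) : A →ₗc[k] A ⧸ J) cY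
  have hf' : @Hoch.IsComodHom k _ (A ⧸ J) _ _ _ X _ _ dX Y _ _ dY f :=
    isComodHom_along _ cX cY f hf
  have hyN : y ∈ @fixedPts k (A ⧸ J) _ _ _ Y _ _ dY := by
    rw [mem_fixedPts_iff]
    have h1 := (mem_fixedPts_iff (k := k) (A := A) y).mp hy
    change (Ideal.Quotient.mkₐ k J).toLinearMap.lTensor Y (cY.coact y) = _
    change cY.coact y = _ at h1
    rw [h1, LinearMap.lTensor_tmul]
    simp
  obtain ⟨x₀, hx₀⟩ := hsurj y
  have hssX : @IsSemisimpleComod k (A ⧸ J) _ _ _ _ X _ _ dX := hN X hXfin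
  obtain ⟨x₁, hx₁, hfx₁⟩ := exists_fixedPts_map_eq_of_isSemisimpleComod hssX hf' hyN x₀ hx₀
  -- step 2: pass to the `C`-comodules of `N`-invariants
  obtain ⟨hUX, eX, heX⟩ := exists_comod_invSub X ψ hψ J hJ
  obtain ⟨hUY, eY, heY⟩ := exists_comod_invSub Y ψ hψ J hJ
  have hmemX : x₁ ∈ invSub k J X := by
    rw [mem_invSub]
    exact (mem_fixedPts_iff x₁).mp hx₁
  have hmemY : y ∈ invSub k J Y := by
    rw [mem_invSub]
    exact (mem_fixedPts_iff y).mp hyN
  have hmap : ∀ x ∈ invSub k J X, f x ∈ invSub k J Y := by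
    intro x hx
    rw [mem_invSub] at hx ⊢
    have h := LinearMap.congr_fun hf' x
    change (Ideal.Quotient.mkₐ k J).toLinearMap.lTensor Y (cY.coact (f x)) =
      f.rTensor (A ⧸ J) ((Ideal.Quotient.mkₐ k J).toLinearMap.lTensor X (cX.coact x)) at h
    rw [h, hx, LinearMap.rTensor_tmul]
  let f' : invSub k J X →ₗ[k] invSub k J Y := f.restrict hmap
  have hinjY : Function.Injective ((invSub k J Y).subtype.rTensor A) :=
    Module.Flat.rTensor_preserves_injective_linearMap _ Subtype.val_injective
  have hinjψY : Function.Injective (((ψ : C →ₗc[k] A) : C →ₗ[k] A).lTensor (invSub k J Y)) :=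
    Module.Flat.lTensor_preserves_injective_linearMap _ hψ
  have hinjψX : Function.Injective (((ψ : C →ₗc[k] A) : C →ₗ[k] A).lTensor (invSub k J X)) :=
    Module.Flat.lTensor_preserves_injective_linearMap _ hψ
  -- `f'` is a map of `A`-comodules between the subcomodules
  have hf'A : ∀ u : invSub k J X, subCoact (invSub k J Y) hUY (f' u) =
      f'.rTensor A (subCoact (invSub k J X) hUX u) := by
    intro u
    apply hinjY
    rw [rTensor_subtype_subCoact, ← LinearMap.comp_apply, ← LinearMap.rTensor_comp]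
    have e : (invSub k J Y).subtype ∘ₗ f' = f ∘ₗ (invSub k J X).subtype := by
      apply LinearMap.ext
      intro z
      rfl
    rw [e, LinearMap.rTensor_comp, LinearMap.comp_apply, rTensor_subtype_subCoact]
    exact isComodHom_apply hf (u : X)
  have hf'C : @Hoch.IsComodHom k _ C _ _ _ (invSub k J X) _ _ eX (invSub k J Y) _ _ eY f' := by
    apply LinearMap.ext
    intro u
    change eY.coact (f' u) = f'.rTensor C (eX.coact u)
    apply hinjψY
    rw [heY, lTensor_rTensor_comm', heX]
    exact hf'A u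
  have hyC : (⟨y, hmemY⟩ : invSub k J Y) ∈ @fixedPts k C _ _ _ (invSub k J Y) _ _ eY := by
    rw [mem_fixedPts_iff]
    apply hinjψY
    rw [heY, LinearMap.lTensor_tmul]
    change subCoact (invSub k J Y) hUY ⟨y, hmemY⟩ = (⟨y, hmemY⟩ : invSub k J Y) ⊗ₜ[k] ψ 1
    rw [map_one]
    apply hinjY
    rw [rTensor_subtype_subCoact, LinearMap.rTensor_tmul]
    exact (mem_fixedPts_iff (k := k) (A := A) y).mp hy
  have hfinX : Module.Finite k (invSub k J X) := inferInstance
  have hssC : @IsSemisimpleComod k C _ _ _ _ (invSub k J X) _ _ eX := @hC _ _ _ eX hfinX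
  have hv₀ : f' ⟨x₁, hmemX⟩ = ⟨y, hmemY⟩ := Subtype.ext hfx₁
  obtain ⟨u, hu, hfu⟩ := @exists_fixedPts_map_eq_of_isSemisimpleComod k _ C _ _
    (invSub k J X) _ _ eX (invSub k J Y) _ _ eY hssC f' hf'C _ hyC ⟨x₁, hmemX⟩ hv₀
  refine ⟨(u : X), ?_, ?_⟩
  · rw [mem_fixedPts_iff]
    have h1 := heX u
    have h2 : eX.coact u = u ⊗ₜ[k] (1 : C) := hu
    rw [h2, LinearMap.lTensor_tmul] at h1
    have h3 := rTensor_subtype_subCoact (invSub k J X) hUX u
    have h1' : subCoact (invSub k J X) hUX u = u ⊗ₜ[k] ((ψ : C →ₗc[k] A) : C →ₗ[k] A) 1 :=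
      h1.symm
    rw [h1', LinearMap.rTensor_tmul] at h3
    rw [← h3]
    change (u : X) ⊗ₜ[k] ψ 1 = _
    rw [map_one]
  · exact congrArg Subtype.val hfu

end Extension

section TensorAux

variable {k : Type u} [CommRing k] {A : Type v} [CommRing A] [Algebra k A]

theorem rTensor_mul_one_tmul (f : A →ₗ[k] A) (z : A ⊗[k] A) (s : A) :
    f.rTensor A (z * ((1 : A) ⊗ₜ[k] s)) = f.rTensor A z * ((1 : A) ⊗ₜ[k] s) := by
  induction z using TensorProduct.induction_on with
  | zero => simp
  | add x y hx hy => simp only [add_mul, map_add, hx, hy]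
  | tmul a b =>
    simp only [Algebra.TensorProduct.tmul_mul_tmul, LinearMap.rTensor_tmul, mul_one]

theorem lslice_mul_one_tmul (ξ : A →ₗ[k] k) (z : A ⊗[k] A) (s : A) :
    lslice ξ (z * ((1 : A) ⊗ₜ[k] s)) = lslice ξ z * s := by
  induction z using TensorProduct.induction_on with
  | zero => simp
  | add x y hx hy => simp only [add_mul, map_add, hx, hy]
  | tmul a b =>
    simp only [Algebra.TensorProduct.tmul_mul_tmul, lslice_tmul, mul_one, smul_mul_assoc]

theorem rTensor_mulLeft_comp (b : A) (f : A →ₗ[k] A) (z : A ⊗[k] A) :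
    (LinearMap.mulLeft k b ∘ₗ f).rTensor A z = (b ⊗ₜ[k] (1 : A)) * f.rTensor A z := by
  induction z using TensorProduct.induction_on with
  | zero => simp
  | add x y hx hy => simp only [mul_add, map_add, hx, hy]
  | tmul a c =>
    simp only [LinearMap.rTensor_tmul, LinearMap.comp_apply, LinearMap.mulLeft_apply,
      Algebra.TensorProduct.tmul_mul_tmul, one_mul]

end TensorAux

section KeyIdentity

variable {k : Type u} [CommRing k] {A : Type v} [CommRing A] [HopfAlgebra k A]

/-- The algebra map `b' ⊗ b'' ↦ Δ(b') (1 ⊗ S b'')`. -/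
noncomputable def twist : A ⊗[k] A →ₐ[k] A ⊗[k] A :=
  Algebra.TensorProduct.lift (Bialgebra.comulAlgHom k A)
    ((Algebra.TensorProduct.includeRight : A →ₐ[k] A ⊗[k] A).comp (HopfAlgebra.antipodeAlgHom k A))
    (fun _ _ => .all ..)

theorem twist_tmul (a b : A) :
    twist (k := k) (a ⊗ₜ[k] b) =
      CoalgebraStruct.comul (R := k) a * ((1 : A) ⊗ₜ[k] HopfAlgebra.antipode k b) := by
  simp [twist]

/-- `Σ Δ(b₁) (1 ⊗ S b₂) = b ⊗ 1`. -/
theorem twist_comul (b : A) :
    twist (k := k) (CoalgebraStruct.comul (R := k) b) = b ⊗ₜ[k] (1 : A) := by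
  have h := AlgHom.convMul_apply (toConv (Bialgebra.comulAlgHom k A))
    ((toConv (Algebra.TensorProduct.includeRight : A →ₐ[k] A ⊗[k] A))⁻¹) b
  have e : (toConv (Bialgebra.comulAlgHom k A) *
      (toConv (Algebra.TensorProduct.includeRight : A →ₐ[k] A ⊗[k] A))⁻¹ :
      WithConv (A →ₐ[k] A ⊗[k] A)) =
      toConv (Algebra.TensorProduct.includeLeft : A →ₐ[k] A ⊗[k] A) := by
    rw [comulAlgHom_eq_convMul, toConv_ofConv, mul_assoc, mul_inv_cancel, mul_one]
  rw [e] at h
  exact h.symm

end KeyIdentity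

section Proj

variable {k A : Type u} [Field k] [CommRing A] [HopfAlgebra k A]
variable (B : Subalgebra k A)

theorem slice_comul_mem (hB : SGA3.IsHopfSubalgebra k A B) (φ : A →ₗ[k] k) {b : A} (hb : b ∈ B) :
    slice A φ (CoalgebraStruct.comul (R := k) b) ∈ B := by
  obtain ⟨y, hy⟩ := hB.1 b hb
  rw [← hy]
  clear hy
  induction y using TensorProduct.induction_on with
  | zero => simp
  | add x y hx hy => rw [map_add, map_add]; exact add_mem hx hy
  | tmul b' b'' =>
    simp only [TensorProduct.map_tmul, AlgHom.toLinearMap_apply, Subalgebra.coe_val, slice_tmul]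
    exact Subalgebra.smul_mem _ b'.2 _

theorem lslice_comul_mem (hB : SGA3.IsHopfSubalgebra k A B) (ξ : A →ₗ[k] k) {b : A}
    (hb : b ∈ B) : lslice ξ (CoalgebraStruct.comul (R := k) b) ∈ B := by
  obtain ⟨y, hy⟩ := hB.1 b hb
  rw [← hy]
  clear hy
  induction y using TensorProduct.induction_on with
  | zero => simp
  | add x y hx hy => rw [map_add, map_add]; exact add_mem hx hy
  | tmul b' b'' =>
    simp only [TensorProduct.map_tmul, AlgHom.toLinearMap_apply, Subalgebra.coe_val, lslice_tmul]
    exact Subalgebra.smul_mem _ b''.2 _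

/-- Slicing `Δ b` by a functional vanishing on `B` gives zero. -/
theorem slice_comul_eq_zero (hB : SGA3.IsHopfSubalgebra k A B) (φ : A →ₗ[k] k)
    (hφ : ∀ b ∈ B, φ b = 0) {b : A} (hb : b ∈ B) :
    slice A φ (CoalgebraStruct.comul (R := k) b) = 0 := by
  obtain ⟨y, hy⟩ := hB.1 b hb
  rw [← hy]
  clear hy
  induction y using TensorProduct.induction_on with
  | zero => simp
  | add x y hx hy => rw [map_add, map_add, hx, hy, add_zero]
  | tmul b' b'' =>
    simp only [TensorProduct.map_tmul, AlgHom.toLinearMap_apply, Subalgebra.coe_val, slice_tmul]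
    rw [hφ _ b''.2, zero_smul]

theorem lslice_comul_eq_zero (hB : SGA3.IsHopfSubalgebra k A B) (ξ : A →ₗ[k] k)
    (hξ : ∀ b ∈ B, ξ b = 0) {b : A} (hb : b ∈ B) :
    lslice ξ (CoalgebraStruct.comul (R := k) b) = 0 := by
  obtain ⟨y, hy⟩ := hB.1 b hb
  rw [← hy]
  clear hy
  induction y using TensorProduct.induction_on with
  | zero => simp
  | add x y hx hy => rw [map_add, map_add, hx, hy, add_zero]
  | tmul b' b'' =>
    simp only [TensorProduct.map_tmul, AlgHom.toLinearMap_apply, Subalgebra.coe_val, lslice_tmul]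
    rw [hξ _ b'.2, zero_smul]

theorem isSubcomod_toSubmodule (hB : SGA3.IsHopfSubalgebra k A B) :
    IsSubcomod (k := k) (A := A) (Subalgebra.toSubmodule B) := by
  rw [isSubcomod_iff]
  intro φ b hb
  exact slice_comul_mem B hB φ hb

/-- `ε ((id ⊗ ξ) Δ t) = ξ t`. -/
theorem counit_T (ξ : A →ₗ[k] k) (t : A) :
    CoalgebraStruct.counit (R := k) (T ξ t) = ξ t := by
  have h := apply_lslice (CoalgebraStruct.counit (R := k) (A := A)) ξ
    (CoalgebraStruct.comul (R := k) t)
  have h2 : lslice (CoalgebraStruct.counit (R := k) (A := A))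
      (CoalgebraStruct.comul (R := k) t) = t := by
    have := LinearMap.congr_fun (Coalgebra.rTensor_counit_comp_comul (R := k) (A := A)) t
    simp only [LinearMap.comp_apply] at this
    rw [lslice, LinearMap.comp_apply, this]
    simp
  rw [h2] at h
  exact h.symm

/-- `ε ((ℓ ⊗ id) Δ a) = ℓ a`. -/
theorem counit_coeffMap (ℓ : A →ₗ[k] k) (a : A) :
    CoalgebraStruct.counit (R := k) (coeffMap (A := A) ℓ a) = ℓ a := by
  rw [coeffMap_apply, apply_lslice]
  change ℓ (T (CoalgebraStruct.counit (R := k) (A := A)) a) = ℓ a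
  rw [T_counit]

variable (hss : IsSemisimpleComod k A A)
include hss

/-- A comodule endomorphism of a cosemisimple Hopf algebra with values in a sub-Hopf-algebra `B`
and vanishing on `B` is zero. -/
theorem eq_zero_of_range_le_of_vanish (hB : SGA3.IsHopfSubalgebra k A B) (F : A →ₗ[k] A)
    (hF : Hoch.IsComodHom A F) (hFB : ∀ a, F a ∈ B) (hF0 : ∀ b ∈ B, F b = 0) : F = 0 := by
  obtain ⟨T', hT', hc⟩ := hss (LinearMap.ker F) (isSubcomod_ker hF)
  have hT0 : ∀ t ∈ T', t = 0 := by
    intro t ht
    have htB : t ∈ B := by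
      by_contra hnot
      obtain ⟨ξ, hξt, hξB⟩ := Submodule.exists_le_ker_of_notMem
        (p := Subalgebra.toSubmodule B) (v := t) hnot
      have hξB' : ∀ b ∈ B, ξ b = 0 := fun b hb => LinearMap.mem_ker.mp (hξB hb)
      have h1 : T ξ t ∈ T' := T_mem_of_isSubcomod hT' ξ ht
      have h2 : F (T ξ t) = 0 := by
        rw [map_T_of_isComodHom hF]
        exact slice_comul_eq_zero B hB ξ hξB' (hFB t)
      have h3 : T ξ t ∈ LinearMap.ker F ⊓ T' := Submodule.mem_inf.mpr ⟨LinearMap.mem_ker.mpr h2, h1⟩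
      rw [hc.inf_eq_bot, Submodule.mem_bot] at h3
      apply hξt
      rw [← counit_T ξ t, h3, map_zero]
    have h3 : t ∈ LinearMap.ker F ⊓ T' :=
      Submodule.mem_inf.mpr ⟨LinearMap.mem_ker.mpr (hF0 t htB), ht⟩
    rw [hc.inf_eq_bot, Submodule.mem_bot] at h3
    exact h3
  have hTbot : T' = ⊥ := (Submodule.eq_bot_iff _).mpr hT0
  have hker : LinearMap.ker F = ⊤ := by
    have := hc.sup_eq_top
    rwa [hTbot, sup_bot_eq] at this
  exact LinearMap.ker_eq_top.mp hker

/-- A comodule projection of `A` onto the sub-Hopf-algebra `B`. -/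
theorem exists_proj (hB : SGA3.IsHopfSubalgebra k A B) :
    ∃ p : A →ₗ[k] A, Hoch.IsComodHom A p ∧ (∀ a, p a ∈ B) ∧ ∀ b ∈ B, p b = b := by
  obtain ⟨A', hA', hc⟩ := hss (Subalgebra.toSubmodule B) (isSubcomod_toSubmodule B hB)
  let pr := Submodule.linearProjOfIsCompl (Subalgebra.toSubmodule B) A' hc
  let p : A →ₗ[k] A := (Subalgebra.toSubmodule B).subtype ∘ₗ pr
  have hpB : ∀ a, p a ∈ B := fun a => (pr a).2
  have hpb : ∀ b ∈ B, p b = b := by
    intro b hb
    change ((pr b : Subalgebra.toSubmodule B) : A) = b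
    have := Submodule.linearProjOfIsCompl_apply_left hc (⟨b, hb⟩ : Subalgebra.toSubmodule B)
    exact congrArg Subtype.val this
  have hpA' : ∀ a ∈ A', p a = 0 := by
    intro a ha
    change ((pr a : Subalgebra.toSubmodule B) : A) = 0
    have : pr a = 0 := by
      have h := Submodule.linearProjOfIsCompl_ker hc
      exact LinearMap.mem_ker.mp (h ▸ ha)
    rw [this]
    rfl
  have hsub : ∀ a, a - p a ∈ A' := by
    intro a
    have h := Submodule.linearProjOfIsCompl_ker hc
    rw [← h, LinearMap.mem_ker, map_sub]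
    have : pr (p a) = pr a :=
      Submodule.linearProjOfIsCompl_apply_left hc (pr a)
    change pr a - pr (p a) = 0
    rw [this, sub_self]
  refine ⟨p, ?_, hpB, hpb⟩
  rw [isComodHom_iff]
  intro φ v
  have h1 : T φ v = T φ (p v) + T φ (v - p v) := by
    rw [← map_add]
    congr 1
    abel
  have hT : T φ (p v) ∈ B := slice_comul_mem B hB φ (hpB v)
  rw [h1, map_add, hpb _ hT, hpA' _ (T_mem_of_isSubcomod hA' φ (hsub v)), add_zero]

omit hss in
/-- The antipode trick: for `b ∈ B`, `(ξ ∘ p ∘ (b·) ∘ q ⊗ id) Δ a ∈ B`. -/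
theorem coeffMap_mem (hB : SGA3.IsHopfSubalgebra k A B) (p q : A →ₗ[k] A)
    (hp : Hoch.IsComodHom A p) (hq : Hoch.IsComodHom A q) (hpB : ∀ a, p a ∈ B)
    (ξ : A →ₗ[k] k) {b : A} (hb : b ∈ B) (a : A) :
    coeffMap (A := A) (ξ ∘ₗ p ∘ₗ LinearMap.mulLeft k b ∘ₗ q) a ∈ B := by
  have e1 : coeffMap (A := A) (ξ ∘ₗ p ∘ₗ LinearMap.mulLeft k b ∘ₗ q) a =
      lslice ξ (p.rTensor A ((b ⊗ₜ[k] (1 : A)) * CoalgebraStruct.comul (R := k) (q a))) := by
    rw [coeffMap_apply]
    change lslice (ξ ∘ₗ (p ∘ₗ (LinearMap.mulLeft k b ∘ₗ q))) (CoalgebraStruct.comul (R := k) a) = _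
    rw [← lslice_rTensor, LinearMap.rTensor_comp, LinearMap.comp_apply, rTensor_mulLeft_comp]
    congr 3
    exact (isComodHom_apply hq a).symm
  rw [e1, ← twist_comul (k := k) b]
  obtain ⟨y, hy⟩ := hB.1 b hb
  rw [← hy]
  clear hy e1
  induction y using TensorProduct.induction_on with
  | zero => simp
  | add x y hx hy =>
    rw [map_add, map_add, add_mul, map_add, map_add]
    exact add_mem hx hy
  | tmul b' b'' =>
    simp only [TensorProduct.map_tmul, AlgHom.toLinearMap_apply, Subalgebra.coe_val]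
    rw [twist_tmul, mul_right_comm, ← Bialgebra.comul_mul, rTensor_mul_one_tmul,
      lslice_mul_one_tmul]
    have h1 : p.rTensor A (CoalgebraStruct.comul (R := k) ((b' : A) * q a)) =
        CoalgebraStruct.comul (R := k) (p ((b' : A) * q a)) :=
      (isComodHom_apply hp _).symm
    rw [h1]
    exact mul_mem (lslice_comul_mem B hB ξ (hpB _)) (hB.2 _ b''.2)

/-- The comodule projection onto a sub-Hopf-algebra `B` is `B`-linear. -/
theorem proj_mul (hB : SGA3.IsHopfSubalgebra k A B) (p : A →ₗ[k] A)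
    (hp : Hoch.IsComodHom A p) (hpB : ∀ a, p a ∈ B) (hpb : ∀ b ∈ B, p b = b)
    {b : A} (hb : b ∈ B) (a : A) : p (b * a) = b * p a := by
  let q : A →ₗ[k] A := LinearMap.id - p
  have hq : Hoch.IsComodHom A q := isComodHom_sub isComodHom_id hp
  have hqB : ∀ c ∈ B, q c = 0 := by
    intro c hc
    change c - p c = 0
    rw [hpb c hc, sub_self]
  have key : p (b * q a) = 0 := by
    rw [← Module.forall_dual_apply_eq_zero_iff k]
    intro ξ
    have hF := eq_zero_of_range_le_of_vanish B hss hB
      (coeffMap (A := A) (ξ ∘ₗ p ∘ₗ LinearMap.mulLeft k b ∘ₗ q))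
      (isComodHom_coeffMap _) (fun a' => coeffMap_mem B hB p q hp hq hpB ξ hb a') (by
        intro c hc
        rw [coeffMap_apply]
        apply lslice_comul_eq_zero B hB _ _ hc
        intro c' hc'
        simp only [LinearMap.comp_apply]
        rw [hqB c' hc']
        simp)
    have h2 := counit_coeffMap (ξ ∘ₗ p ∘ₗ LinearMap.mulLeft k b ∘ₗ q) a
    rw [hF] at h2
    simp only [LinearMap.zero_apply, map_zero, LinearMap.comp_apply,
      LinearMap.mulLeft_apply] at h2
    exact h2.symm
  have ha : a = p a + q a := by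
    change a = p a + (a - p a)
    abel
  conv_lhs => rw [ha]
  rw [mul_add, map_add, key, add_zero]
  exact hpb _ (mul_mem hb (hpB a))

end Proj

section IntegralQuot

variable {k A : Type u} [Field k] [CommRing A] [HopfAlgebra k A]
variable (B : Subalgebra k A)
variable {H : Type w} [CommRing H] [HopfAlgebra k H]

/-- If `G` is linearly reductive and `N` is the kernel of a quotient map `G → Q` (i.e. `N` is cut
out by the augmentation ideal of a sub-Hopf-algebra), then `N` is linearly reductive. -/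
theorem isLinearlyReductive_of_ker_eq_augIdealSpan (hss : IsSemisimpleComod k A A)
    (hB : SGA3.IsHopfSubalgebra k A B) (π : A →ₐc[k] H) (hπ : Function.Surjective π)
    (hker : ∀ a, π a = 0 ↔ a ∈ SGA3.augIdealSpan k A B) : IsLinearlyReductive k H := by
  obtain ⟨p, hp, hpB, hpb⟩ := exists_proj B hss hB
  have hmul := fun {b : A} (hb : b ∈ B) (a : A) => proj_mul B hss hB p hp hpB hpb hb a
  let lam : A →ₗ[k] k := CoalgebraStruct.counit (R := k) (A := A) ∘ₗ p
  have hlam : ∀ a, lam a = CoalgebraStruct.counit (R := k) (p a) := fun _ => rfl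
  have hlamJ : ∀ x ∈ SGA3.augIdealSpan k A B, lam x = 0 := by
    have hP : ∀ x ∈ SGA3.augIdealSpan k A B, ∀ a : A, lam (a * x) = 0 := by
      intro x hx
      unfold SGA3.augIdealSpan at hx
      induction hx using Submodule.span_induction with
      | mem s hs =>
        intro a
        rw [hlam, mul_comm, hmul hs.1, Bialgebra.counit_mul, hs.2, zero_mul]
      | zero => intro a; simp
      | add x y _ _ hx hy => intro a; rw [mul_add, map_add, hx, hy, add_zero]
      | smul c x _ hx =>
        intro a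
        rw [smul_eq_mul, ← mul_assoc]
        exact hx _
    intro x hx
    have := hP x hx 1
    rwa [one_mul] at this
  have hπB : ∀ b ∈ B, π b = algebraMap k H (CoalgebraStruct.counit (R := k) b) := by
    intro b hb
    have hmem : b - algebraMap k A (CoalgebraStruct.counit (R := k) b) ∈
        SGA3.augIdealSpan k A B := by
      apply Ideal.subset_span
      refine ⟨B.sub_mem hb (B.algebraMap_mem _), ?_⟩
      rw [map_sub, Bialgebra.counit_algebraMap, sub_self]
    have h0 := (hker _).mpr hmem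
    rw [map_sub, sub_eq_zero] at h0
    rw [h0]
    exact AlgHomClass.commutes π _
  obtain ⟨g, hg⟩ := LinearMap.exists_rightInverse_of_surjective
    ((π : A →ₐ[k] H).toLinearMap) (LinearMap.range_eq_top.mpr hπ)
  let I : H →ₗ[k] k := lam ∘ₗ g
  have hI : ∀ a, I (π a) = lam a := by
    intro a
    change lam (g (π a)) = lam a
    have h1 : π (g (π a)) = π a := LinearMap.congr_fun hg (π a)
    have h2 : a - g (π a) ∈ SGA3.augIdealSpan k A B := by
      rw [← hker, map_sub, h1, sub_self]
    have h3 := hlamJ _ h2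
    rw [map_sub, sub_eq_zero] at h3
    exact h3.symm
  have hIπ : I ∘ₗ (π : A →ₐ[k] H).toLinearMap = lam := LinearMap.ext hI
  have hI1 : I 1 = 1 := by
    have h := hI 1
    rw [map_one] at h
    rw [h, hlam, hpb 1 B.one_mem, Bialgebra.counit_one]
  have hIc : @Hoch.IsComodHom k _ H _ _ _ H _ _ _ k _ _ (Comod.trivial k H k) I := by
    letI := Comod.trivial k H k
    apply LinearMap.ext
    intro h
    obtain ⟨a, rfl⟩ := hπ h
    change (I (π a)) ⊗ₜ[k] (1 : H) = I.rTensor H (CoalgebraStruct.comul (R := k) (π a))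
    rw [← CoalgHomClass.map_comp_comul_apply π a]
    have e1 : ∀ z : A ⊗[k] A, I.rTensor H
        (TensorProduct.map ((π : A →ₗc[k] H) : A →ₗ[k] H) ((π : A →ₗc[k] H) : A →ₗ[k] H) z) =
        ((π : A →ₐ[k] H).toLinearMap).lTensor k (lam.rTensor A z) := by
      intro z
      induction z using TensorProduct.induction_on with
      | zero => simp
      | add x y hx hy => simp only [map_add, hx, hy]
      | tmul x y =>
        simp only [TensorProduct.map_tmul, LinearMap.rTensor_tmul, LinearMap.lTensor_tmul]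
        congr 1
        exact hI x
    have e2 : lam.rTensor A (CoalgebraStruct.comul (R := k) a) = (1 : k) ⊗ₜ[k] p a := by
      change ((CoalgebraStruct.counit (R := k) (A := A)) ∘ₗ p).rTensor A
        (CoalgebraStruct.comul (R := k) a) = _
      rw [LinearMap.rTensor_comp, LinearMap.comp_apply]
      have hpa : p.rTensor A (CoalgebraStruct.comul (R := k) a) =
          CoalgebraStruct.comul (R := k) (p a) := (isComodHom_apply hp a).symm
      rw [hpa]
      have := LinearMap.congr_fun (Coalgebra.rTensor_counit_comp_comul (R := k) (A := A)) (p a)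
      simpa using this
    change _ = I.rTensor H
      (TensorProduct.map ((π : A →ₗc[k] H) : A →ₗ[k] H) ((π : A →ₗc[k] H) : A →ₗ[k] H)
        (CoalgebraStruct.comul (R := k) a))
    rw [e1, e2, LinearMap.lTensor_tmul, hI, hlam]
    change _ = (1 : k) ⊗ₜ[k] π (p a)
    rw [hπB _ (hpB a), Algebra.algebraMap_eq_smul_one, TensorProduct.tmul_smul,
      TensorProduct.smul_tmul', smul_eq_mul, mul_one]
  intro V _ _ _ hfin
  exact isSemisimpleComod_of_totalIntegral I hIc hI1

end IntegralQuot

end Groth.Agent.Lib.Helper25.LRExact
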