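import Groth.Agent.Lib.Helper25HopfMod
import Groth.Agent.Lib.Helper25DualComod

/-!
# Integrals of a finite projective commutative Hopf algebra (helper25)

For a commutative Hopf algebra `H` over a commutative ring `R`, finitely generated and projective
as a module, the dual `H^*` is a Hopf module over `H` (contragredient of the regular coaction,
`(h • f)(x) = f (h x)`).  The fundamental theorem of Hopf modules then yields finitely many
"integrals" `τ_j : H → R` (`Σ h₁ τ_j(h₂) = τ_j(h) 1`) and elements `T_j` of `H` with
`Σ_j τ_j(T_j x) = ε(x)` (`exists_integrals`): the Larson–Sweedler theorem in the form needed for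
the Kreimer–Takeuchi theorem.
-/

set_option autoImplicit false
set_option linter.style.haveILetI false
set_option linter.unusedSectionVars false
universe u v

namespace Groth.Agent.Lib.Helper25.LS

open TensorProduct HopfRep Groth.Agent.Lib.Helper25

section Antipode

variable {R : Type u} [CommRing R] {H : Type v} [CommRing H] [HopfAlgebra R H]

/-- The antipode of a commutative Hopf algebra is an involution. -/
theorem antipode_antipode (a : H) : HopfAlgebra.antipode R (HopfAlgebra.antipode R a) = a := by
  have h := AlgHom.antipode_id_cancel (R := R) (A := H)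
  have h2 : (WithConv.toConv (HopfAlgebra.antipodeAlgHom R H))⁻¹ =
      WithConv.toConv (AlgHom.id R H) := inv_eq_of_mul_eq_one_right h
  have h3 : (HopfAlgebra.antipodeAlgHom R H).comp (HopfAlgebra.antipodeAlgHom R H) =
      AlgHom.id R H := WithConv.toConv_injective h2
  exact AlgHom.congr_fun h3 a

end Antipode

section Dual

variable {R : Type u} [CommRing R] {H : Type v} [CommRing H] [HopfAlgebra R H]

/-- The `H`-module structure on the dual: `(h • f)(x) = f (h x)`. -/
@[reducible] noncomputable def dualModule : Module H (Module.Dual R H) where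
  smul h f := f ∘ₗ LinearMap.mulLeft R h
  one_smul f := by
    apply LinearMap.ext
    intro x
    change f (1 * x) = f x
    rw [one_mul]
  mul_smul h h' f := by
    apply LinearMap.ext
    intro x
    change f (h * h' * x) = f (h' * (h * x))
    congr 1
    ring
  smul_zero h := by
    apply LinearMap.ext
    intro x
    rfl
  smul_add h f g := by
    apply LinearMap.ext
    intro x
    rfl
  add_smul h h' f := by
    apply LinearMap.ext
    intro x
    change f ((h + h') * x) = f (h * x) + f (h' * x)
    rw [add_mul, map_add]
  zero_smul f := by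
    apply LinearMap.ext
    intro x
    change f (0 * x) = 0
    rw [zero_mul, map_zero]

attribute [local instance] dualModule

theorem dual_smul_apply (h : H) (f : Module.Dual R H) (x : H) : (h • f) x = f (h * x) := rfl

instance dual_isScalarTower : IsScalarTower R H (Module.Dual R H) where
  smul_assoc r h f := by
    apply LinearMap.ext
    intro x
    change f ((r • h) * x) = r • f (h * x)
    rw [smul_mul_assoc, map_smul]

end Dual

section HopfModule

variable {R : Type u} [CommRing R] {H : Type v} [CommRing H] [HopfAlgebra R H]

attribute [local instance] dualModule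

/-- `g ↦ Σ g(p₁) S(p₂)`. -/
noncomputable def Epair (p : H ⊗[R] H) : Module.Dual R H →ₗ[R] H where
  toFun g := TensorProduct.lid R H (TensorProduct.map g (HopfAlgebra.antipode R) p)
  map_add' g g' := by rw [TensorProduct.map_add_left, LinearMap.add_apply, map_add]
  map_smul' r g := by
    rw [TensorProduct.map_smul_left, LinearMap.smul_apply, map_smul, RingHom.id_apply]

theorem Epair_apply (p : H ⊗[R] H) (g : Module.Dual R H) :
    Epair p g = TensorProduct.lid R H (TensorProduct.map g (HopfAlgebra.antipode R) p) := rfl

theorem dualCoactFun_regular (g : Module.Dual R H) (y : H) :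
    ComodTens.dualCoactFun (Comod.regular R H) g y =
      Epair (CoalgebraStruct.comul (R := R) y) g := rfl

/-- `a ↦ a • f` as a linear map. -/
noncomputable def smulDual (f : Module.Dual R H) : H →ₗ[R] Module.Dual R H where
  toFun a := a • f
  map_add' a b := add_smul a b f
  map_smul' r a := by
    rw [RingHom.id_apply]
    exact smul_assoc r a f

theorem smulDual_apply (f : Module.Dual R H) (a : H) : smulDual f a = a • f := rfl

theorem Epair_zero (g : Module.Dual R H) : Epair (0 : H ⊗[R] H) g = 0 := by
  rw [Epair_apply, map_zero, map_zero]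

theorem Epair_add (p q : H ⊗[R] H) (g : Module.Dual R H) :
    Epair (p + q) g = Epair p g + Epair q g := by
  rw [Epair_apply, map_add, map_add]
  rfl

theorem Epair_tmul (y1 y2 : H) (g : Module.Dual R H) :
    Epair (y1 ⊗ₜ[R] y2) g = g y1 • HopfAlgebra.antipode R y2 := by
  rw [Epair_apply, TensorProduct.map_tmul, TensorProduct.lid_tmul]

theorem lid_map_mul (f : Module.Dual R H) (a b : H) (p : H ⊗[R] H) :
    TensorProduct.lid R H (TensorProduct.map f (HopfAlgebra.antipode R) (a ⊗ₜ[R] b * p)) =
      HopfAlgebra.antipode R b * Epair p (a • f) := by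
  induction p using TensorProduct.induction_on with
  | zero => rw [mul_zero, map_zero, map_zero, Epair_zero, mul_zero]
  | add x y hx hy => rw [mul_add, map_add, map_add, hx, hy, Epair_add, mul_add]
  | tmul y1 y2 =>
    rw [Algebra.TensorProduct.tmul_mul_tmul, TensorProduct.map_tmul, TensorProduct.lid_tmul,
      Epair_tmul, dual_smul_apply, HopfAlgebra.antipode_mul_distrib, mul_smul_comm]

/-- `u ↦ Σ f((u p)₁) S((u p)₂)`. -/
noncomputable def Psi (f : Module.Dual R H) (p : H ⊗[R] H) : H ⊗[R] H →ₗ[R] H :=
  (TensorProduct.lid R H).toLinearMap ∘ₗ TensorProduct.map f (HopfAlgebra.antipode R) ∘ₗ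
    LinearMap.mulRight R p

theorem Psi_apply (f : Module.Dual R H) (p u : H ⊗[R] H) :
    Psi f p u = TensorProduct.lid R H (TensorProduct.map f (HopfAlgebra.antipode R) (u * p)) :=
  rfl

theorem Psi_tmul (f : Module.Dual R H) (p : H ⊗[R] H) (a b : H) :
    Psi f p (a ⊗ₜ[R] b) = HopfAlgebra.antipode R b * Epair p (a • f) := lid_map_mul f a b p

/-- `u ⊗ c ↦ Ψ(u) c`. -/
noncomputable def Pi3 (f : Module.Dual R H) (p : H ⊗[R] H) : (H ⊗[R] H) ⊗[R] H →ₗ[R] H :=
  LinearMap.mul' R H ∘ₗ TensorProduct.map (Psi f p) LinearMap.id

theorem Pi3_tmul (f : Module.Dual R H) (p u : H ⊗[R] H) (c : H) :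
    Pi3 f p (u ⊗ₜ[R] c) = Psi f p u * c := by
  simp [Pi3]

theorem Pi3_assoc_symm (f : Module.Dual R H) (p : H ⊗[R] H) (a : H) (z : H ⊗[R] H) :
    Pi3 f p ((TensorProduct.assoc R H H H).symm (a ⊗ₜ[R] z)) =
      Epair p (a • f) * LinearMap.mul' R H ((HopfAlgebra.antipode R).rTensor H z) := by
  induction z using TensorProduct.induction_on with
  | zero => simp
  | add x y hx hy => simp only [TensorProduct.tmul_add, map_add, hx, hy, mul_add]
  | tmul b c =>
    rw [TensorProduct.assoc_symm_tmul, Pi3_tmul, Psi_tmul, LinearMap.rTensor_tmul,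
      LinearMap.mul'_apply]
    ring

theorem Pi3_assoc_symm_lTensor_comul (f : Module.Dual R H) (p : H ⊗[R] H) (w : H ⊗[R] H) :
    Pi3 f p ((TensorProduct.assoc R H H H).symm
      ((CoalgebraStruct.comul (R := R) (A := H)).lTensor H w)) =
      Epair p (smulDual f (TensorProduct.rid R H
        ((CoalgebraStruct.counit (R := R) (A := H)).lTensor H w))) := by
  induction w using TensorProduct.induction_on with
  | zero => simp
  | add x y hx hy => simp only [map_add, hx, hy]
  | tmul a b =>
    have h1 : smulDual f (CoalgebraStruct.counit (R := R) b • a) =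
        CoalgebraStruct.counit (R := R) b • smulDual f a := (smulDual f).map_smul _ _
    rw [LinearMap.lTensor_tmul, Pi3_assoc_symm, HopfAlgebra.mul_antipode_rTensor_comul_apply,
      LinearMap.lTensor_tmul, TensorProduct.rid_tmul, h1, (Epair p).map_smul, smulDual_apply,
      Algebra.algebraMap_eq_smul_one, mul_smul_comm, mul_one]

theorem mul'_map_dualCoactFun (f : Module.Dual R H) (y : H) (w : H ⊗[R] H) :
    LinearMap.mul' R H (TensorProduct.map
      (ComodTens.dualCoactFun (Comod.regular R H) f ∘ₗ LinearMap.mulRight R y) LinearMap.id w) =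
      Pi3 f (CoalgebraStruct.comul (R := R) y)
        ((CoalgebraStruct.comul (R := R) (A := H)).rTensor H w) := by
  induction w using TensorProduct.induction_on with
  | zero => simp
  | add x y hx hy => simp only [map_add, hx, hy]
  | tmul a b =>
    rw [TensorProduct.map_tmul, LinearMap.mul'_apply, LinearMap.rTensor_tmul, Pi3_tmul,
      Psi_apply, ← Bialgebra.comul_mul, LinearMap.comp_apply, LinearMap.mulRight_apply,
      LinearMap.id_apply]
    rfl

/-- The key identity: `Σ φ_f(h₁ y) h₂ = φ_{h • f}(y)`. -/
theorem hopfModule_key (f : Module.Dual R H) (h y : H) :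
    LinearMap.mul' R H (TensorProduct.map
      (ComodTens.dualCoactFun (Comod.regular R H) f ∘ₗ LinearMap.mulRight R y) LinearMap.id
      (CoalgebraStruct.comul (R := R) h)) =
      ComodTens.dualCoactFun (Comod.regular R H) (h • f) y := by
  rw [mul'_map_dualCoactFun, ← Coalgebra.coassoc_symm_apply, Pi3_assoc_symm_lTensor_comul,
    Coalgebra.lTensor_counit_comul]
  simp only [TensorProduct.rid_tmul, one_smul]
  rfl

theorem dualTensorHom_hmSMul (z : H ⊗[R] H) (w : Module.Dual R H ⊗[R] H) (y : H) :
    dualTensorHom R H H (TameAct.hmSMul R H H (Module.Dual R H) z w) y =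
      LinearMap.mul' R H (TensorProduct.map
        (dualTensorHom R H H w ∘ₗ LinearMap.mulRight R y) LinearMap.id z) := by
  induction z using TensorProduct.induction_on with
  | zero => simp
  | add x x' hx hx' => simp only [map_add, LinearMap.add_apply, hx, hx']
  | tmul a b =>
    induction w using TensorProduct.induction_on with
    | zero => simp
    | add x x' hx hx' =>
      rw [map_add, map_add, LinearMap.add_apply, hx, hx']
      simp only [TensorProduct.map_tmul, LinearMap.comp_apply, LinearMap.mulRight_apply,
        LinearMap.id_apply, LinearMap.mul'_apply, map_add, LinearMap.add_apply, add_mul]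
    | tmul g c =>
      rw [TameAct.hmSMul_tmul, dualTensorHom_apply, dual_smul_apply, TensorProduct.map_tmul,
        LinearMap.mul'_apply, LinearMap.comp_apply, LinearMap.mulRight_apply,
        dualTensorHom_apply, LinearMap.id_apply, smul_mul_assoc, mul_comm c b]

variable [Module.Finite R H] [Module.Projective R H]

/-- The contragredient of the regular comodule. -/
@[reducible] noncomputable def dualRegComod : Comod R H (Module.Dual R H) :=
  dualComod (Comod.regular R H)

attribute [local instance] dualRegComod

theorem dualTensorHom_coact (f : Module.Dual R H) :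
    dualTensorHom R H H (Comod.coact (k := R) (A := H) f) =
      ComodTens.dualCoactFun (Comod.regular R H) f :=
  dualTensorHom_dualCoact (Comod.regular R H) f

/-- The dual of a finite projective commutative Hopf algebra is a Hopf module. -/
instance dual_isHopfMod : TameAct.IsHopfMod R H H (Module.Dual R H) where
  coact_smul h f := by
    apply (dualTensorHom_bijective (R := R) (M := H) (N := H)).1
    apply LinearMap.ext
    intro y
    rw [dualTensorHom_hmSMul, dualTensorHom_coact, dualTensorHom_coact]
    exact (hopfModule_key f h y).symm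

theorem lid_map_comul_antipode (t : Module.Dual R H) (z : H ⊗[R] H) :
    TensorProduct.lid R H (TensorProduct.map t (HopfAlgebra.antipode R)
      (TensorProduct.map (HopfAlgebra.antipode R) (HopfAlgebra.antipode R)
        (TensorProduct.comm R H H z))) =
      slice H (t ∘ₗ HopfAlgebra.antipode R) z := by
  induction z using TensorProduct.induction_on with
  | zero => simp
  | add x y hx hy => simp only [map_add, hx, hy]
  | tmul a b =>
    rw [TensorProduct.comm_tmul, TensorProduct.map_tmul, TensorProduct.map_tmul,
      TensorProduct.lid_tmul, antipode_antipode, slice_tmul, LinearMap.comp_apply]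

/-- A coinvariant of the dual, composed with the antipode, is an integral:
`Σ h₁ τ(h₂) = τ(h) 1`. -/
theorem slice_comul_of_mem_fixedPts {t : Module.Dual R H}
    (ht : t ∈ fixedPts R H (Module.Dual R H)) (h : H) :
    slice H (t ∘ₗ HopfAlgebra.antipode R) (CoalgebraStruct.comul (R := R) h) =
      (t ∘ₗ HopfAlgebra.antipode R) h • (1 : H) := by
  have ht' : Comod.coact (k := R) (A := H) t = t ⊗ₜ[R] (1 : H) := ht
  have h1 : dualTensorHom R H H (Comod.coact (k := R) (A := H) t) (HopfAlgebra.antipode R h) =
      dualTensorHom R H H (t ⊗ₜ[R] (1 : H)) (HopfAlgebra.antipode R h) := by rw [ht']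
  rw [dualTensorHom_coact, dualTensorHom_apply, dualCoactFun_regular, Epair_apply,
    comul_antipode, lid_map_comul_antipode] at h1
  exact h1

/-- **Larson–Sweedler**, in the form needed below: there are finitely many integrals `τ_q`
(`Σ h₁ τ_q(h₂) = τ_q(h) 1`) and elements `T_q` with `Σ_q τ_q(T_q x) = ε(x)`. -/
theorem exists_integrals :
    ∃ (s : Finset (Module.Dual R H × H)) (τ : Module.Dual R H × H → Module.Dual R H)
      (T : Module.Dual R H × H → H),
      (∀ q ∈ s, ∀ h : H, slice H (τ q) (CoalgebraStruct.comul (R := R) h) = τ q h • (1 : H)) ∧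
      ∀ x : H, ∑ q ∈ s, τ q (T q * x) = CoalgebraStruct.counit (R := R) x := by
  set ε : Module.Dual R H := CoalgebraStruct.counit (R := R) (A := H) with hε
  obtain ⟨s, hs⟩ := TensorProduct.exists_finset (Comod.coact (k := R) (A := H) ε)
  refine ⟨s, fun q => hopfProj R H (Module.Dual R H) q.1 ∘ₗ HopfAlgebra.antipode R,
    fun q => HopfAlgebra.antipode R q.2, ?_, ?_⟩
  · intro q _ h
    exact slice_comul_of_mem_fixedPts (hopfProj_mem_fixedPts q.1) h
  · intro x
    have h1 := sum_smul_hopfProj (k := R) (A := H) ε
    rw [hs, map_sum] at h1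
    have h2 := congrArg (fun φ : Module.Dual R H => φ (HopfAlgebra.antipode R x)) h1
    simp only [LinearMap.sum_apply] at h2
    rw [hε, HopfAlgebra.counit_antipode] at h2
    rw [← h2]
    apply Finset.sum_congr rfl
    intro q _
    rw [TensorProduct.lift.tmul, LinearMap.comp_apply, LinearMap.comp_apply,
      HopfAlgebra.antipode_mul_distrib, antipode_antipode]
    rfl

end HopfModule

end Groth.Agent.Lib.Helper25.LS
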