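import Groth.Agent.Lib.Helper25LamFil

/-!
# The binomial power formula `λ_t(c z) = λ_t(z)^c` (helper25)

`pip`: polynomial identity principle for binomial coefficients in torsion-free rings.
`eq_zero_of_evL_zN`: universal λ-identities are detected on the split models.
`lam_algebraMap_mul`: for `K` binomial, `A` a special `K`-λ-algebra,
`λ^n(c g) = Σ_k C(c,k) coeff_n((λ_t(g) - 1)^k)`; consequences modulo `I^2`.
-/

set_option autoImplicit false
universe u v
open LambdaRing Finset

namespace Groth.Agent.Lib.Helper25.LSp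
open Groth.Agent.Lib.Helper4

theorem eval₂_descPochhammer {S T : Type*} [CommRing S] [CommRing T] (φ : S →+* T) (c : T) (k : ℕ) :
    Polynomial.eval₂ φ c (descPochhammer S k) = (descPochhammer ℤ k).smeval c := by
  rw [← descPochhammer_map (Int.castRingHom S), Polynomial.eval₂_map,
    ← Polynomial.eval₂_smulOneHom_eq_smeval]
  congr 1
  exact RingHom.ext_int _ _

theorem smeval_descPochhammer_map {S T : Type*} [CommRing S] [CommRing T] (φ : S →+* T) (c : S)
    (k : ℕ) : (descPochhammer ℤ k).smeval (φ c) = φ ((descPochhammer ℤ k).smeval c) := by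
  rw [← eval₂_descPochhammer φ (φ c) k, ← eval₂_descPochhammer (RingHom.id S) c k,
    Polynomial.hom_eval₂, RingHom.comp_id]

section PIP
variable {S T : Type*} [CommRing S] [IsDomain S] [CharZero S] [CommRing T] [IsAddTorsionFree T]

/-- **polynomial identity principle** for binomial coefficients. -/
theorem pip (φ : S →+* T) (c : T) (β : ℕ → T)
    (hβ : ∀ i, (i + 1).factorial • β i = (descPochhammer ℤ (i + 1)).smeval c)
    (G : MvPolynomial ℕ S)
    (hG : ∀ m : ℕ, MvPolynomial.eval (fun i => ((m.choose (i + 1) : ℕ) : S)) G = 0) :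
    MvPolynomial.eval₂ φ β G = 0 := by
  have key : ∃ (M : ℕ) (H : Polynomial S), 0 < M ∧
      M • MvPolynomial.eval₂ φ β G = Polynomial.eval₂ φ c H ∧
      ∀ m : ℕ, M • MvPolynomial.eval (fun i => ((m.choose (i + 1) : ℕ) : S)) G = H.eval (m : S) := by
    clear hG
    induction G using MvPolynomial.induction_on with
    | C a => exact ⟨1, Polynomial.C a, one_pos, by simp, by simp⟩
    | add p q hp hq =>
      obtain ⟨M₁, H₁, h0₁, h1₁, h2₁⟩ := hp
      obtain ⟨M₂, H₂, h0₂, h1₂, h2₂⟩ := hq
      refine ⟨M₁ * M₂, Polynomial.C (M₂ : S) * H₁ + Polynomial.C (M₁ : S) * H₂,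
        Nat.mul_pos h0₁ h0₂, ?_, fun m => ?_⟩
      · rw [MvPolynomial.eval₂_add, Polynomial.eval₂_add, Polynomial.eval₂_mul, Polynomial.eval₂_mul,
          Polynomial.eval₂_C, Polynomial.eval₂_C, ← h1₁, ← h1₂]
        simp only [nsmul_eq_mul, map_natCast]
        push_cast
        ring
      · rw [map_add, Polynomial.eval_add, Polynomial.eval_mul, Polynomial.eval_mul,
          Polynomial.eval_C, Polynomial.eval_C, ← h2₁, ← h2₂]
        simp only [nsmul_eq_mul]
        push_cast
        ring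
    | mul_X p i hp =>
      obtain ⟨M, H, h0, h1, h2⟩ := hp
      refine ⟨M * (i + 1).factorial, H * descPochhammer S (i + 1),
        Nat.mul_pos h0 (Nat.factorial_pos _), ?_, fun m => ?_⟩
      · rw [MvPolynomial.eval₂_mul, MvPolynomial.eval₂_X, Polynomial.eval₂_mul, ← h1,
          eval₂_descPochhammer, ← hβ]
        simp only [nsmul_eq_mul]
        push_cast
        ring
      · rw [map_mul, MvPolynomial.eval_X, Polynomial.eval_mul, ← h2,
          descPochhammer_eval_eq_descFactorial, Nat.descFactorial_eq_factorial_mul_choose]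
        simp only [nsmul_eq_mul]
        push_cast
        ring
  obtain ⟨M, H, h0, h1, h2⟩ := key
  have hH : H = 0 := by
    apply Polynomial.eq_zero_of_infinite_isRoot
    refine Set.infinite_of_injective_forall_mem (f := fun m : ℕ => (m : S)) Nat.cast_injective ?_
    intro m
    show H.eval (m : S) = 0
    rw [← h2, hG, smul_zero]
  rw [hH, Polynomial.eval₂_zero] at h1
  exact (nsmul_right_injective h0.ne') (by simp only [h1, smul_zero])

end PIP

section LModel
variable (σ : Type v) (N : ℕ)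

/-- the λ-model family `z_s = Σ_a X_{s,a}` -/
noncomputable def zN : σ → MvPolynomial (σ × Fin N) ℤ := fun s => ∑ a : Fin N, MvPolynomial.X (s, a)

theorem lam_zN (s : σ) (k : ℕ) :
    LambdaOps.lam k (zN σ N s) = ∑ t ∈ (univ : Finset (Fin N)).powersetCard k,
      ∏ a ∈ t, (MvPolynomial.X (s, a) : MvPolynomial (σ × Fin N) ℤ) := by
  classical
  rw [← coeff_lamSeries, zN, lamSeries_sum]
  have : ∀ a : Fin N, lamSeries (MvPolynomial.X (s, a) : MvPolynomial (σ × Fin N) ℤ) =
      1 + PowerSeries.C (MvPolynomial.X (s, a)) * PowerSeries.X := fun a =>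
    lineGen_monoL.line _ (X_mem_monoL (s, a))
  simp_rw [this]
  rw [coeff_prod_one_add_C_mul_X]

theorem evL_zN (F : MvPolynomial (σ × ℕ) ℤ) : evL (zN σ N) F = PhiN σ N F := by
  induction F using MvPolynomial.induction_on with
  | C a => simp [evL, PhiN]
  | add p q hp hq => rw [map_add, map_add, hp, hq]
  | mul_X q p hq =>
    rw [map_mul, map_mul, hq]
    congr 1
    rw [evL_X, PhiN, MvPolynomial.aeval_X, lam_zN, MvPolynomial.esymm, map_sum]
    refine Finset.sum_congr rfl fun t _ => ?_
    rw [map_prod]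
    refine Finset.prod_congr rfl fun a _ => ?_
    rw [MvPolynomial.rename_X]

/-- **universal λ-identities**: a polynomial in the `λ^k(x_s)` vanishing on all split models is zero. -/
theorem eq_zero_of_evL_zN (F : MvPolynomial (σ × ℕ) ℤ) (h : ∀ N, evL (zN σ N) F = 0) : F = 0 := by
  classical
  obtain ⟨N, hN⟩ : ∃ N, ∀ p ∈ F.vars, p.2 < N := by
    refine ⟨(F.vars.sup fun p => p.2) + 1, fun p hp => ?_⟩
    exact Nat.lt_succ_of_le (Finset.le_sup (f := fun p : σ × ℕ => p.2) hp)
  exact PhiN_injective_of_vars σ N F hN (by rw [← evL_zN, h N])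

end LModel

section Dn

/-- the series `Σ_{i ≥ 1} y_{i-1} t^i` -/
noncomputable def ySer {T : Type*} [CommRing T] (y : ℕ → T) : PowerSeries T :=
  PowerSeries.mk fun i => if i = 0 then 0 else y (i - 1)

/-- `1, β_0, β_1, …` -/
def bb {T : Type*} [CommRing T] (β : ℕ → T) : ℕ → T
  | 0 => 1
  | k + 1 => β k

/-- the universal expression `P_n(β; y) − Σ_k β_k coeff_n(ySer^k)` -/
noncomputable def Dn {T : Type*} [CommRing T] (n : ℕ) (β y : ℕ → T) : T :=
  MvPolynomial.aeval (Sum.elim (fun k : Fin n => β k) (fun k : Fin n => y k)) (Pn n)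
    - ∑ k ∈ range (n + 1), bb β k * PowerSeries.coeff n (ySer y ^ k)

theorem ringHom_aeval_int {ι T₁ T₂ : Type*} [CommRing T₁] [CommRing T₂] (f : T₁ →+* T₂)
    (g : ι → T₁) (p : MvPolynomial ι ℤ) :
    f (MvPolynomial.aeval g p) = MvPolynomial.aeval (fun i => f (g i)) p := by
  induction p using MvPolynomial.induction_on with
  | C a => simp
  | add p q hp hq => rw [map_add, map_add, map_add, hp, hq]
  | mul_X q i hq => rw [map_mul, map_mul, map_mul, hq, MvPolynomial.aeval_X, MvPolynomial.aeval_X]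

theorem map_ySer {T₁ T₂ : Type*} [CommRing T₁] [CommRing T₂] (f : T₁ →+* T₂) (y : ℕ → T₁) :
    PowerSeries.map f (ySer y) = ySer fun k => f (y k) := by
  ext i
  simp only [ySer, PowerSeries.coeff_map, PowerSeries.coeff_mk]
  split_ifs <;> simp

theorem map_bb {T₁ T₂ : Type*} [CommRing T₁] [CommRing T₂] (f : T₁ →+* T₂) (β : ℕ → T₁) (k : ℕ) :
    f (bb β k) = bb (fun k => f (β k)) k := by
  cases k <;> simp [bb]

theorem map_Dn {T₁ T₂ : Type*} [CommRing T₁] [CommRing T₂] (f : T₁ →+* T₂) (n : ℕ) (β y : ℕ → T₁) :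
    f (Dn n β y) = Dn n (fun k => f (β k)) (fun k => f (y k)) := by
  rw [Dn, Dn, map_sub, ringHom_aeval_int, map_sum]
  congr 1
  · refine congrArg (fun g => MvPolynomial.aeval g (Pn n)) ?_
    funext i
    cases i <;> rfl
  · refine Finset.sum_congr rfl fun k _ => ?_
    rw [map_mul, map_bb, ← PowerSeries.coeff_map, map_pow, map_ySer]

end Dn

section IntCase
variable {A : Type v} [CommRing A] [LambdaOps A]

theorem ySer_lam (z : A) : ySer (fun k => LambdaOps.lam (k + 1) z) = lamSeries z - 1 := by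
  ext i
  rw [ySer, PowerSeries.coeff_mk, map_sub, coeff_lamSeries, PowerSeries.coeff_one]
  rcases i with _ | i
  · simp [LambdaOps.lam_zero]
  · simp

theorem coeff_pow_eq_zero_of_lt {T : Type*} [CommRing T] (f : PowerSeries T)
    (hf : PowerSeries.constantCoeff f = 0) {n k : ℕ} (h : n < k) :
    PowerSeries.coeff n (f ^ k) = 0 := by
  obtain ⟨g, rfl⟩ := PowerSeries.X_dvd_iff.mpr hf
  rw [mul_pow, PowerSeries.coeff_X_pow_mul', if_neg (by omega)]

theorem coeff_one_add_pow {T : Type*} [CommRing T] (f : PowerSeries T)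
    (hf : PowerSeries.constantCoeff f = 0) (m n : ℕ) :
    PowerSeries.coeff n ((1 + f) ^ m) =
      ∑ k ∈ range (n + 1), (m.choose k : T) * PowerSeries.coeff n (f ^ k) := by
  rw [add_comm, add_pow, map_sum]
  simp only [one_pow, mul_one]
  have e1 : ∀ k, PowerSeries.coeff n (f ^ k * ((m.choose k : ℕ) : PowerSeries T)) =
      (m.choose k : T) * PowerSeries.coeff n (f ^ k) := by
    intro k
    rw [mul_comm, ← map_natCast (PowerSeries.C (R := T)), PowerSeries.coeff_C_mul]
  simp only [e1]
  rw [Finset.sum_subset (Finset.range_subset_range.mpr (show m + 1 ≤ m + n + 1 by omega)),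
    Finset.sum_subset (Finset.range_subset_range.mpr (show n + 1 ≤ m + n + 1 by omega))]
  · intro k _ hk
    rw [Finset.mem_range] at hk
    rw [coeff_pow_eq_zero_of_lt f hf (by omega), mul_zero]
  · intro k _ hk
    rw [Finset.mem_range] at hk
    rw [Nat.choose_eq_zero_of_lt (by omega), Nat.cast_zero, zero_mul]

theorem lamSeries_natCast_mul (m : ℕ) (z : A) : lamSeries ((m : A) * z) = lamSeries z ^ m := by
  induction m with
  | zero => simp
  | succ m ih => rw [Nat.cast_succ, add_mul, one_mul, lamSeries_add, ih, pow_succ]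

theorem lam_natCast (hA : IsSpecial A) (m k : ℕ) : LambdaOps.lam k (m : A) = (m.choose k : A) := by
  rw [← coeff_lamSeries, lamSeries_natCast hA.lam_one_eq_zero, coeff_one_add_X_pow]

theorem bb_choose {T : Type*} [CommRing T] (m k : ℕ) :
    bb (fun i => ((m.choose (i + 1) : ℕ) : T)) k = (m.choose k : T) := by
  cases k <;> simp [bb]

theorem Dn_natCast (hA : IsSpecial A) (n m : ℕ) (z : A) :
    Dn n (fun i => ((m.choose (i + 1) : ℕ) : A)) (fun k => LambdaOps.lam (k + 1) z) = 0 := by
  rw [Dn, ySer_lam]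
  have h1 := hA.lam_mul n (Pn n) (Pn_spec n) (m : A) z
  simp only [lam_natCast hA] at h1
  rw [← h1, ← coeff_lamSeries, lamSeries_natCast_mul]
  have h2 := coeff_one_add_pow (lamSeries z - 1) (by simp) m n
  rw [add_sub_cancel] at h2
  rw [h2, sub_eq_zero]
  refine Finset.sum_congr rfl fun k _ => ?_
  rw [bb_choose]

end IntCase

section U3

/-- the universal polynomial with value `Dn` -/
noncomputable def Gn (n : ℕ) : MvPolynomial ℕ (MvPolynomial (PUnit.{v + 1} × ℕ) ℤ) :=
  Dn n (fun i => MvPolynomial.X i) (fun k => MvPolynomial.C (MvPolynomial.X (PUnit.unit, k)))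

theorem eval_Gn (n m : ℕ) :
    MvPolynomial.eval (fun i => ((m.choose (i + 1) : ℕ) : MvPolynomial (PUnit.{v + 1} × ℕ) ℤ))
      (Gn.{v} n) = 0 := by
  apply eq_zero_of_evL_zN
  intro N
  have h1 := map_Dn (MvPolynomial.eval
      (fun i => ((m.choose (i + 1) : ℕ) : MvPolynomial (PUnit.{v + 1} × ℕ) ℤ))) n
    (fun i => MvPolynomial.X i) (fun k => MvPolynomial.C (MvPolynomial.X (PUnit.unit, k)))
  rw [Gn, h1]
  have h2 := map_Dn
    (evL (zN PUnit.{v + 1} N)).toRingHom n
    (fun k => MvPolynomial.eval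
      (fun i => ((m.choose (i + 1) : ℕ) : MvPolynomial (PUnit.{v + 1} × ℕ) ℤ)) (MvPolynomial.X k))
    (fun k => MvPolynomial.eval
      (fun i => ((m.choose (i + 1) : ℕ) : MvPolynomial (PUnit.{v + 1} × ℕ) ℤ))
        (MvPolynomial.C (MvPolynomial.X (PUnit.unit, k))))
  simp only [AlgHom.toRingHom_eq_coe, RingHom.coe_coe] at h2
  rw [h2]
  simp only [MvPolynomial.eval_X, MvPolynomial.eval_C, RingHom.coe_coe, evL_X, map_natCast]
  exact Dn_natCast isSpecial_sr n m _

theorem isAddTorsionFree_mvPolynomial (ι K : Type*) [CommRing K] [IsAddTorsionFree K] :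
    IsAddTorsionFree (MvPolynomial ι K) where
  nsmul_right_injective := by
    intro n hn p q h
    ext d
    have := congrArg (MvPolynomial.coeff d) h
    simp only [MvPolynomial.coeff_smul] at this
    exact nsmul_right_injective hn this

variable {K : Type u} [CommRing K] [BinomialRing K]

theorem Dn_choose {A : Type*} [CommRing A] [Algebra K A] (n : ℕ) (c : K) (y : ℕ → A) :
    Dn n (fun i => algebraMap K A (Ring.choose c (i + 1))) y = 0 := by
  have := BinomialRing.toIsAddTorsionFree (R := K)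
  have := isAddTorsionFree_mvPolynomial (PUnit.{1} × ℕ) K
  have h := pip (MvPolynomial.map (Int.castRingHom K) :
      MvPolynomial (PUnit.{1} × ℕ) ℤ →+* MvPolynomial (PUnit.{1} × ℕ) K)
    (MvPolynomial.C c) (fun i => MvPolynomial.C (Ring.choose c (i + 1))) ?_ (Gn.{0} n) (eval_Gn n)
  · have h2 := congrArg (MvPolynomial.aeval (R := K) (fun p : PUnit.{1} × ℕ => y p.2)) h
    rw [map_zero, ← MvPolynomial.coe_eval₂Hom, Gn, map_Dn] at h2
    have h3 := map_Dn (MvPolynomial.aeval (R := K) (fun p : PUnit.{1} × ℕ => y p.2) :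
      MvPolynomial (PUnit.{1} × ℕ) K →ₐ[K] A).toRingHom n
      (fun k => (MvPolynomial.eval₂Hom (MvPolynomial.map (Int.castRingHom K))
        fun i => MvPolynomial.C (Ring.choose c (i + 1))) (MvPolynomial.X k))
      (fun k => (MvPolynomial.eval₂Hom (MvPolynomial.map (Int.castRingHom K))
        fun i => MvPolynomial.C (Ring.choose c (i + 1))) (MvPolynomial.C (MvPolynomial.X (PUnit.unit, k))))
    simp only [AlgHom.toRingHom_eq_coe, RingHom.coe_coe] at h3
    rw [h3] at h2
    simpa using h2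
  · intro i
    rw [smeval_descPochhammer_map, Ring.descPochhammer_eq_factorial_smul_choose, map_nsmul]

end U3

section U3'
variable {K : Type u} [CommRing K] [LambdaOps K] [BinomialRing K]
variable {A : Type v} [CommRing A] [LambdaOps A] [Algebra K A]

/-- **binomial power formula** `λ_t(c z) = λ_t(z)^c` -/
theorem lam_algebraMap_mul (hKb : IsBinomial K) (hA : IsSpecial A) (hKA : IsLambdaAlg K A)
    (n : ℕ) (c : K) (g : A) :
    LambdaOps.lam n (algebraMap K A c * g) =
      ∑ k ∈ range (n + 1), algebraMap K A (Ring.choose c k) *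
        PowerSeries.coeff n ((lamSeries g - 1) ^ k) := by
  have h := Dn_choose n c (fun k => LambdaOps.lam (k + 1) g)
  rw [Dn, ySer_lam, sub_eq_zero] at h
  have h1 := hA.lam_mul n (Pn n) (Pn_spec n) (algebraMap K A c) g
  have h2 : ∀ k : ℕ, LambdaOps.lam (k + 1) (algebraMap K A c) =
      algebraMap K A (Ring.choose c (k + 1)) := fun k => by rw [← hKA, hKb]
  simp only [h2] at h1
  rw [h1, h]
  refine Finset.sum_congr rfl fun k _ => ?_
  congr 1
  cases k with
  | zero => simp [bb, Ring.choose_zero_right]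
  | succ k => rfl

theorem coeff_pow_mem {I : Ideal A} {f : PowerSeries A} (hf : ∀ i, PowerSeries.coeff i f ∈ I)
    (k n : ℕ) : PowerSeries.coeff n (f ^ k) ∈ I ^ k := by
  induction k generalizing n with
  | zero => simp
  | succ k ih =>
    rw [pow_succ f, PowerSeries.coeff_mul, pow_succ I]
    exact Ideal.sum_mem _ fun p _ => Ideal.mul_mem_mul (ih _) (hf _)

theorem lam_algebraMap_mul_sub_mem (hKb : IsBinomial K) (hA : IsSpecial A) (hKA : IsLambdaAlg K A)
    (I : Ideal A) (c : K) (g : A) (hg : ∀ i, 1 ≤ i → LambdaOps.lam i g ∈ I) (n : ℕ) (hn : 1 ≤ n) :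
    LambdaOps.lam n (algebraMap K A c * g) - algebraMap K A c * LambdaOps.lam n g ∈ I ^ 2 := by
  have hf : ∀ i, PowerSeries.coeff i (lamSeries g - 1) ∈ I := by
    intro i
    rcases i with _ | i
    · simp
    · rw [map_sub, coeff_lamSeries, PowerSeries.coeff_one, if_neg (by omega), sub_zero]
      exact hg _ (by omega)
  obtain ⟨n', rfl⟩ : ∃ n', n = n' + 1 := ⟨n - 1, by omega⟩
  rw [lam_algebraMap_mul hKb hA hKA, Finset.sum_range_succ', Finset.sum_range_succ']
  have e0 : PowerSeries.coeff (n' + 1) ((lamSeries g - 1) ^ 0) = 0 := by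
    rw [pow_zero, PowerSeries.coeff_one, if_neg (by omega)]
  have e1 : PowerSeries.coeff (n' + 1) ((lamSeries g - 1) ^ (0 + 1)) = LambdaOps.lam (n' + 1) g := by
    rw [zero_add, pow_one, map_sub, coeff_lamSeries, PowerSeries.coeff_one, if_neg (by omega),
      sub_zero]
  rw [e0, e1, mul_zero, add_zero, zero_add, Ring.choose_one_right, add_sub_cancel_right]
  refine Ideal.sum_mem _ fun k _ => Ideal.mul_mem_left _ _ ?_
  exact Ideal.pow_le_pow_right (by omega) (coeff_pow_mem hf (k + 1 + 1) (n' + 1))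

theorem gamma_algebraMap_mul_sub_mem (hKb : IsBinomial K) (hA : IsSpecial A)
    (hKA : IsLambdaAlg K A)
    (I : Ideal A) (c : K) (g : A) (hg : ∀ i, 1 ≤ i → gamma i g ∈ I) (n : ℕ) (hn : 1 ≤ n) :
    gamma n (algebraMap K A c * g) - algebraMap K A c * gamma n g ∈ I ^ 2 := by
  have hl : ∀ i, 1 ≤ i → LambdaOps.lam i g ∈ I := by
    intro i hi
    obtain ⟨i', rfl⟩ : ∃ i', i = i' + 1 := ⟨i - 1, by omega⟩
    rw [lam_succ_eq_sum_gamma]
    exact Ideal.sum_mem _ fun j _ => Ideal.mul_mem_left _ _ (hg _ (by omega))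
  obtain ⟨n', rfl⟩ : ∃ n', n = n' + 1 := ⟨n - 1, by omega⟩
  rw [gamma_succ, gamma_succ, Finset.mul_sum, ← Finset.sum_sub_distrib]
  refine Ideal.sum_mem _ fun j _ => ?_
  have := lam_algebraMap_mul_sub_mem hKb hA hKA I c g hl (j + 1) (by omega)
  have e : (Nat.choose n' j : A) * LambdaOps.lam (j + 1) (algebraMap K A c * g) -
      algebraMap K A c * ((Nat.choose n' j : A) * LambdaOps.lam (j + 1) g) =
      (Nat.choose n' j : A) * (LambdaOps.lam (j + 1) (algebraMap K A c * g) -
        algebraMap K A c * LambdaOps.lam (j + 1) g) := by ring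
  rw [e]
  exact Ideal.mul_mem_left _ _ this

end U3'

end Groth.Agent.Lib.Helper25.LSp
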