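import Groth.Agent.Lib.Helper25LamBinom

/-!
# The Chern class formula on the γ-filtration (helper25)

`gamma_gmon_mem`, `gamma_gmon_congr`: γ-monomials via the universal principle.
`gamma_congr_gammaFil`: for `z ∈ Fil^m`, `γ^j(z) ∈ Fil^m` (`j ≥ 1`) and
`γ^m(z) ≡ (-1)^(m-1) (m-1)! z` modulo `Fil^{m+1}`.
-/

set_option autoImplicit false
universe u v
open LambdaRing Finset

namespace Groth.Agent.Lib.Helper25.LSp
open Groth.Agent.Lib.Helper4

section Mon
variable {σ : Type v} [Fintype σ] (i : σ → ℕ)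

/-- the γ-monomial operation `x ↦ Π_s γ^{i_s}(x_s)` -/
noncomputable def gmon : NatOp σ := fun A _ _ x => ∏ s, gamma (i s) (x s)

theorem isOp_gmon : IsOp (gmon i) :=
  IsOp.prod univ (fun s => fun A _ _ x => gamma (i s) (x s)) fun s _ => (isOp_var s).gamma (i s)

theorem xN_mem_augIdeal (N : ℕ) (s : σ) : xN σ N s ∈ augIdeal (monoL (σ × Fin N)) :=
  Ideal.sum_mem _ fun a _ => Ideal.subset_span ⟨_, X_mem_monoL (s, a), rfl⟩

theorem gmon_model_mem (N : ℕ) :
    gmon i (MvPolynomial (σ × Fin N) ℤ) (xN σ N) ∈ augIdeal (monoL (σ × Fin N)) ^ (∑ s, i s) := by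
  rw [← Finset.prod_pow_eq_pow_sum]
  exact Ideal.prod_mem_prod fun s _ => gamma_mem_augIdeal_pow lineGen_monoL (xN_mem_augIdeal N s) (i s)

variable {K : Type u} [CommRing K] {A : Type v} [CommRing A] [LambdaOps A]

/-- `γ^j` of a γ-monomial of weight `w` lies in `Fil^w`, `j ≥ 1`. -/
theorem gamma_gmon_mem (hA : IsSpecial A) (ε : A →+* K) (x : σ → A) (hx : ∀ s, ε (x s) = 0)
    (j : ℕ) (hj : 1 ≤ j) : gamma j (gmon i A x) ∈ gammaFil ε (∑ s, i s) :=
  IsOp.mem_gammaFil (T := fun A _ _ x => gamma j (gmon i A x)) ((isOp_gmon i).gamma j) _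
    (fun N => gamma_mem_augIdeal_pow' lineGen_monoL (gmon_model_mem i N) j hj) hA ε x hx

/-- `γ^w(g) ≡ c_w g` modulo `Fil^{w+1}` for a γ-monomial `g` of weight `w ≥ 1`. -/
theorem gamma_gmon_congr (hA : IsSpecial A) (ε : A →+* K) (x : σ → A) (hx : ∀ s, ε (x s) = 0)
    (hw : 1 ≤ ∑ s, i s) :
    gamma (∑ s, i s) (gmon i A x) - (cw (∑ s, i s) : A) * gmon i A x ∈
      gammaFil ε (∑ s, i s + 1) :=
  IsOp.mem_gammaFil
    (T := fun A _ _ x => gamma (∑ s, i s) (gmon i A x) - ((cw (∑ s, i s) : ℤ) : A) * gmon i A x)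
    ((((isOp_gmon i).gamma _)).sub ((isOp_intCast _).mul (isOp_gmon i))) _
    (fun N => gamma_congr_of_mem lineGen_monoL _ hw (gmon_model_mem i N)) hA ε x hx

end Mon

section ListMon
variable {K : Type u} [CommRing K] {A : Type v} [CommRing A] [LambdaOps A]

theorem list_prod_eq_gmon (l : List (ℕ × A)) :
    (l.map fun p => gamma p.1 p.2).prod =
      gmon (σ := ULift.{v} (Fin l.length)) (fun s => (l.get s.down).1) A (fun s => (l.get s.down).2) := by
  rw [gmon, ← Equiv.ulift.symm.prod_comp]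
  simp only [Equiv.ulift_symm_apply]
  rw [← List.prod_ofFn]
  conv_lhs => rw [← List.ofFn_get l, List.map_ofFn]
  rfl

theorem list_sum_eq (l : List (ℕ × A)) :
    (l.map Prod.fst).sum = ∑ s : ULift.{v} (Fin l.length), (l.get s.down).1 := by
  rw [← Equiv.ulift.symm.sum_comp]
  simp only [Equiv.ulift_symm_apply]
  rw [← List.sum_ofFn]
  conv_lhs => rw [← List.ofFn_get l, List.map_ofFn]
  rfl

/-- `γ^j` of a generator of `Fil^w` of weight `w` lies in `Fil^w`. -/
theorem gamma_list_mem (hA : IsSpecial A) (ε : A →+* K) (l : List (ℕ × A))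
    (hl : ∀ p ∈ l, ε p.2 = 0) (j : ℕ) (hj : 1 ≤ j) :
    gamma j (l.map fun p => gamma p.1 p.2).prod ∈ gammaFil ε (l.map Prod.fst).sum := by
  rw [list_prod_eq_gmon, list_sum_eq]
  exact gamma_gmon_mem _ hA ε _ (fun s => hl _ (List.get_mem _ _)) j hj

theorem gamma_list_congr (hA : IsSpecial A) (ε : A →+* K) (l : List (ℕ × A))
    (hl : ∀ p ∈ l, ε p.2 = 0) (hw : 1 ≤ (l.map Prod.fst).sum) :
    gamma (l.map Prod.fst).sum (l.map fun p => gamma p.1 p.2).prod -
      (cw (l.map Prod.fst).sum : A) * (l.map fun p => gamma p.1 p.2).prod ∈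
        gammaFil ε ((l.map Prod.fst).sum + 1) := by
  rw [list_prod_eq_gmon, list_sum_eq] at *
  exact gamma_gmon_congr _ hA ε _ (fun s => hl _ (List.get_mem _ _)) hw

end ListMon

section GoodZ
variable {A : Type v} [CommRing A] [LambdaOps A]

theorem gamma_mem_add {J : Ideal A} {y z : A} (hy : ∀ n, 1 ≤ n → gamma n y ∈ J)
    (hz : ∀ n, 1 ≤ n → gamma n z ∈ J) (n : ℕ) (hn : 1 ≤ n) : gamma n (y + z) ∈ J := by
  rw [gamma_add]
  refine J.sum_mem fun i hi => ?_
  rcases Nat.eq_zero_or_pos i with h0 | h0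
  · subst h0
    exact J.mul_mem_left _ (hz _ (by simpa using hn))
  · exact J.mul_mem_right _ (hy _ h0)

theorem gamma_mem_neg {J : Ideal A} {y : A} (hy : ∀ n, 1 ≤ n → gamma n y ∈ J) :
    ∀ n, 1 ≤ n → gamma n (-y) ∈ J := by
  intro n
  induction n using Nat.strong_induction_on with
  | _ n ih =>
    intro hn
    have h := gamma_add n (-y) y
    rw [neg_add_cancel, gamma_zero_arg n hn, Finset.sum_range_succ, Nat.sub_self, gamma_zero_idx,
      mul_one] at h
    have : gamma n (-y) = -∑ i ∈ range n, gamma i (-y) * gamma (n - i) y := by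
      linear_combination -h
    rw [this]
    refine J.neg_mem (J.sum_mem fun i hi => ?_)
    rw [Finset.mem_range] at hi
    exact J.mul_mem_left _ (hy _ (by omega))

/-- the elements on which `γ^j` preserves `I` and `γ^m ≡ c` modulo `J` -/
def GoodZ (I J : Ideal A) (m : ℕ) (c : A) (z : A) : Prop :=
  (∀ j, 1 ≤ j → gamma j z ∈ I) ∧ gamma m z - c * z ∈ J

variable {I J : Ideal A} {m : ℕ} {c : A}

theorem goodZ_zero (hm : 1 ≤ m) : GoodZ I J m c 0 := by
  refine ⟨fun j hj => ?_, ?_⟩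
  · rw [gamma_zero_arg j hj]; exact I.zero_mem
  · rw [gamma_zero_arg m hm, mul_zero, sub_zero]; exact J.zero_mem

theorem goodZ_add (hIJ : I * I ≤ J) (hm : 1 ≤ m) {a b : A} (ha : GoodZ I J m c a)
    (hb : GoodZ I J m c b) : GoodZ I J m c (a + b) := by
  refine ⟨gamma_mem_add ha.1 hb.1, ?_⟩
  obtain ⟨v, rfl⟩ : ∃ v, m = v + 1 := ⟨m - 1, by omega⟩
  have hadd := gamma_add (v + 1) a b
  rw [Finset.sum_range_succ, Nat.sub_self, gamma_zero_idx, mul_one, Finset.sum_range_succ',
    gamma_zero_idx, one_mul, Nat.sub_zero] at hadd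
  have hmid : ∑ i ∈ range v, gamma (i + 1) a * gamma (v + 1 - (i + 1)) b ∈ J := by
    refine hIJ (Ideal.sum_mem _ fun i hi => ?_)
    rw [Finset.mem_range] at hi
    exact Ideal.mul_mem_mul (ha.1 _ (by omega)) (hb.1 _ (by omega))
  have : gamma (v + 1) (a + b) - c * (a + b) =
      (gamma (v + 1) a - c * a) + (gamma (v + 1) b - c * b) +
        ∑ i ∈ range v, gamma (i + 1) a * gamma (v + 1 - (i + 1)) b := by
    rw [hadd]; ring
  rw [this]
  exact Ideal.add_mem _ (Ideal.add_mem _ ha.2 hb.2) hmid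

theorem goodZ_neg (hIJ : I * I ≤ J) (hm : 1 ≤ m) {a : A} (ha : GoodZ I J m c a) :
    GoodZ I J m c (-a) := by
  refine ⟨gamma_mem_neg ha.1, ?_⟩
  obtain ⟨v, rfl⟩ : ∃ v, m = v + 1 := ⟨m - 1, by omega⟩
  have hadd := gamma_add (v + 1) (-a) a
  rw [neg_add_cancel, gamma_zero_arg _ hm, Finset.sum_range_succ, Nat.sub_self, gamma_zero_idx,
    mul_one, Finset.sum_range_succ', gamma_zero_idx, one_mul, Nat.sub_zero] at hadd
  have hmid : ∑ i ∈ range v, gamma (i + 1) (-a) * gamma (v + 1 - (i + 1)) a ∈ J := by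
    refine hIJ (Ideal.sum_mem _ fun i hi => ?_)
    rw [Finset.mem_range] at hi
    exact Ideal.mul_mem_mul (gamma_mem_neg ha.1 _ (by omega)) (ha.1 _ (by omega))
  have : gamma (v + 1) (-a) - c * (-a) =
      -(gamma (v + 1) a - c * a) - ∑ i ∈ range v, gamma (i + 1) (-a) * gamma (v + 1 - (i + 1)) a := by
    linear_combination -hadd
  rw [this]
  exact Ideal.sub_mem _ ((Ideal.neg_mem_iff _).mpr ha.2) hmid

end GoodZ

section Main
variable {K : Type u} [CommRing K] [LambdaOps K] [BinomialRing K]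
variable {A : Type v} [CommRing A] [LambdaOps A] [Algebra K A]

theorem gammaFil_mul_self_le (ε : A →+* K) (m : ℕ) (hm : 1 ≤ m) :
    gammaFil ε m * gammaFil ε m ≤ gammaFil ε (m + 1) :=
  (gammaFil_mul_le ε m m).trans (gammaFil_anti ε (by omega))

/-- generators `a g` of `Fil^m` are good -/
theorem goodZ_gen (hKb : IsBinomial K) (hA : IsSpecial A) (ε : A →ₐ[K] K)
    (hε : IsAugLambdaAlg K A ε) (m : ℕ) (hm : 1 ≤ m) (l : List (ℕ × A))
    (hl : ∀ p ∈ l, (ε : A →+* K) p.2 = 0) (hw : m ≤ (l.map Prod.fst).sum) (a : A) :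
    GoodZ (gammaFil (ε : A →+* K) m) (gammaFil (ε : A →+* K) (m + 1)) m (cw m : A)
      (a * (l.map fun p => gamma p.1 p.2).prod) := by
  set g := (l.map fun p => gamma p.1 p.2).prod with hg
  set w := (l.map Prod.fst).sum with hw'
  have hII := gammaFil_mul_self_le (ε : A →+* K) m hm
  -- the γ-monomial `a' g` of weight `w + 1`
  set a' := a - algebraMap K A (ε a) with ha'
  have hεa' : (ε : A →+* K) a' = 0 := by
    show ε a' = 0
    rw [ha', map_sub, AlgHom.commutes, Algebra.algebraMap_self_apply, sub_self]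
  have hsplit : a * g = algebraMap K A (ε a) * g + a' * g := by rw [ha']; ring
  have hl' : ∀ p ∈ (1, a') :: l, (ε : A →+* K) p.2 = 0 := by
    intro p hp
    rcases List.mem_cons.mp hp with rfl | h
    · exact hεa'
    · exact hl p h
  have e1 : (((1, a') :: l).map fun p => gamma p.1 p.2).prod = a' * g := by
    rw [List.map_cons, List.prod_cons, gamma_one_idx]
  have e2 : (((1, a') :: l).map Prod.fst).sum = 1 + w := by
    rw [List.map_cons, List.sum_cons]
  have h1 : ∀ j, 1 ≤ j → gamma j (a' * g) ∈ gammaFil (ε : A →+* K) (m + 1) := by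
    intro j hj
    have := gamma_list_mem hA (ε : A →+* K) _ hl' j hj
    rw [e1, e2] at this
    exact gammaFil_anti _ (by omega) this
  have hg1 : ∀ j, 1 ≤ j → gamma j g ∈ gammaFil (ε : A →+* K) w := fun j hj =>
    gamma_list_mem hA (ε : A →+* K) l hl j hj
  have hg2 : ∀ j, 1 ≤ j → gamma j g ∈ gammaFil (ε : A →+* K) m := fun j hj =>
    gammaFil_anti _ hw (hg1 j hj)
  have h2 : ∀ j, 1 ≤ j → gamma j (algebraMap K A (ε a) * g) - algebraMap K A (ε a) * gamma j g ∈
      gammaFil (ε : A →+* K) (m + 1) := by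
    intro j hj
    have := gamma_algebraMap_mul_sub_mem hKb hA hε.isLambdaAlg (gammaFil (ε : A →+* K) m) (ε a) g
      hg2 j hj
    rw [pow_two] at this
    exact hII this
  have good1 : GoodZ (gammaFil (ε : A →+* K) m) (gammaFil (ε : A →+* K) (m + 1)) m (cw m : A)
      (a' * g) := by
    refine ⟨fun j hj => gammaFil_anti _ (by omega) (h1 j hj), ?_⟩
    refine Ideal.sub_mem _ (h1 m hm) (Ideal.mul_mem_left _ _ ?_)
    have := h1 1 le_rfl
    rwa [gamma_one_idx] at this
  have good2 : GoodZ (gammaFil (ε : A →+* K) m) (gammaFil (ε : A →+* K) (m + 1)) m (cw m : A)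
      (algebraMap K A (ε a) * g) := by
    refine ⟨fun j hj => ?_, ?_⟩
    · have := Ideal.add_mem _ (gammaFil_anti _ (by omega : m ≤ m + 1) (h2 j hj))
        (Ideal.mul_mem_left _ (algebraMap K A (ε a)) (hg2 j hj))
      rwa [sub_add_cancel] at this
    · have hmain : gamma m g - (cw m : A) * g ∈ gammaFil (ε : A →+* K) (m + 1) := by
        rcases Nat.lt_or_ge m w with h | h
        · refine Ideal.sub_mem _ (gammaFil_anti _ (by omega) (hg1 m hm))
            (Ideal.mul_mem_left _ _ ?_)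
          have := hg1 1 le_rfl
          rw [gamma_one_idx] at this
          exact gammaFil_anti _ (by omega) this
        · have hmw : m = w := le_antisymm hw h
          have := gamma_list_congr hA (ε : A →+* K) l hl (by omega)
          rw [← hw', ← hg, ← hmw] at this
          exact this
      have : gamma m (algebraMap K A (ε a) * g) - (cw m : A) * (algebraMap K A (ε a) * g) =
          (gamma m (algebraMap K A (ε a) * g) - algebraMap K A (ε a) * gamma m g) +
            algebraMap K A (ε a) * (gamma m g - (cw m : A) * g) := by ring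
      rw [this]
      exact Ideal.add_mem _ (h2 m hm) (Ideal.mul_mem_left _ _ hmain)
  rw [hsplit]
  exact goodZ_add hII hm good2 good1

/-- **the Chern class formula** `γ^m(z) ≡ (-1)^(m-1) (m-1)! z` modulo `Fil^{m+1}` on `Fil^m`. -/
theorem gamma_congr_gammaFil (hKb : IsBinomial K) (hA : IsSpecial A) (ε : A →ₐ[K] K)
    (hε : IsAugLambdaAlg K A ε) (m : ℕ) (hm : 1 ≤ m) (z : A)
    (hz : z ∈ gammaFil (ε : A →+* K) m) :
    GoodZ (gammaFil (ε : A →+* K) m) (gammaFil (ε : A →+* K) (m + 1)) m (cw m : A) z := by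
  have hII := gammaFil_mul_self_le (ε : A →+* K) m hm
  suffices h : ∀ a : A,
      GoodZ (gammaFil (ε : A →+* K) m) (gammaFil (ε : A →+* K) (m + 1)) m (cw m : A) (a * z) by
    simpa using h 1
  rw [gammaFil] at hz
  induction hz using Submodule.span_induction with
  | mem x hx =>
    obtain ⟨l, hl, hw, rfl⟩ := hx
    exact fun a => goodZ_gen hKb hA ε hε m hm l hl hw a
  | zero => intro a; rw [mul_zero]; exact goodZ_zero hm
  | add x y _ _ hx hy => intro a; rw [mul_add]; exact goodZ_add hII hm (hx a) (hy a)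
  | smul b x _ hx => intro a; rw [smul_eq_mul, ← mul_assoc]; exact hx (a * b)

end Main

end Groth.Agent.Lib.Helper25.LSp
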