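import Groth.Agent.Lib.Helper25LamWeight2

/-!
# Division by the top γ-class (helper25)

Mixed split models (a prescribed number of lines per variable), the vanishing principle
`mem_span_kill`, the division principle `IsOp.exists_gamma_mul`, the identity
`λ_{-1}(N) = (-1)^d γ^d(N - d)`, and `λ_{-1}(N) ∣ λ^p(x λ_{-1}(N))`.
-/

set_option autoImplicit false
universe u v
open LambdaRing Finset MvPolynomial

namespace Groth.Agent.Lib.Helper25.LSp
open Groth.Agent.Lib.Helper4

section Mixed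
variable {σ : Type v} (N : σ → ℕ)

/-- the mixed model family `x_s = Σ_{a < N s} (X_{s,a} - 1)` -/
noncomputable def xM : σ → MvPolynomial (Σ s : σ, Fin (N s)) ℤ :=
  fun s => ∑ a : Fin (N s), (X ⟨s, a⟩ - 1)

/-- substitution of elementary symmetric polynomials, mixed model -/
noncomputable def PhiM : MvPolynomial (σ × ℕ) ℤ →ₐ[ℤ] MvPolynomial (Σ s : σ, Fin (N s)) ℤ :=
  aeval fun p : σ × ℕ => rename (fun a : Fin (N p.1) => (⟨p.1, a⟩ : Σ s : σ, Fin (N s)))
    (esymm (Fin (N p.1)) ℤ (p.2 + 1))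

theorem gammaSeries_xM (s : σ) :
    gammaSeries (xM N s) = ∏ a : Fin (N s),
      (1 + PowerSeries.C ((X ⟨s, a⟩ : MvPolynomial (Σ s : σ, Fin (N s)) ℤ) - 1) * PowerSeries.X) := by
  rw [xM, gammaSeries_sum]
  refine Finset.prod_congr rfl fun a _ => ?_
  exact gammaSeries_sub_one lam_one_eq_zero_sr _
    ((isLineElt_iff _).mp (lineGen_monoL.line _ (X_mem_monoL (⟨s, a⟩ : Σ s : σ, Fin (N s)))))

theorem gamma_xM (s : σ) (k : ℕ) :
    gamma k (xM N s) = ∑ t ∈ (univ : Finset (Fin (N s))).powersetCard k,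
      ∏ a ∈ t, ((X ⟨s, a⟩ : MvPolynomial (Σ s : σ, Fin (N s)) ℤ) - 1) := by
  classical
  rw [← coeff_gammaSeries, gammaSeries_xM, coeff_prod_one_add_C_mul_X]

theorem gamma_xM_eq_zero (s : σ) (k : ℕ) (h : N s < k) : gamma k (xM N s) = 0 := by
  rw [gamma_xM, Finset.powersetCard_eq_empty.mpr (by simpa using h), Finset.sum_empty]

theorem sh_evG_M (F : MvPolynomial (σ × ℕ) ℤ) : sh (evG (xM N) F) = PhiM N F := by
  induction F using MvPolynomial.induction_on with
  | C a => simp [evG, PhiM]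
  | add p q hp hq => rw [map_add, map_add, map_add, hp, hq]
  | mul_X q p hq =>
    rw [map_mul, map_mul, map_mul, hq]
    congr 1
    rw [evG_X, PhiM, aeval_X, gamma_xM, map_sum, esymm, map_sum]
    refine Finset.sum_congr rfl fun t _ => ?_
    rw [map_prod, map_prod]
    refine Finset.prod_congr rfl fun a _ => ?_
    rw [sh_X_sub_one, rename_X]

theorem eval_eq_zero_of_PhiM (F : MvPolynomial (σ × ℕ) ℤ) (g : σ × ℕ → ℂ)
    (hg : ∀ p ∈ F.vars, N p.1 ≤ p.2 → g p = 0) (h : PhiM N F = 0) :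
    eval₂ (Int.castRingHom ℂ) g F = 0 := by
  classical
  choose r hr using fun s : σ => exists_roots (N s) (fun k => g (s, k))
  set r' : (Σ s : σ, Fin (N s)) → ℂ := fun t => r t.1 t.2 with hr'
  have hcomp : (eval₂Hom (Int.castRingHom ℂ) r').comp (PhiM N : MvPolynomial (σ × ℕ) ℤ →+* _) =
      eval₂Hom (Int.castRingHom ℂ)
        (fun p : σ × ℕ => (Multiset.map (r p.1) Finset.univ.val).esymm (p.2 + 1)) := by
    apply MvPolynomial.ringHom_ext
    · intro a
      simp
    · intro p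
      simp only [RingHom.comp_apply, RingHom.coe_coe, PhiM, aeval_X, coe_eval₂Hom, eval₂_X]
      rw [eval₂_rename]
      have := aeval_esymm_eq_multiset_esymm (Fin (N p.1)) ℤ (p.2 + 1) (r p.1)
      rw [← this, aeval_def]
      rfl
  have h1 : eval₂ (Int.castRingHom ℂ) g F =
      eval₂Hom (Int.castRingHom ℂ)
        (fun p : σ × ℕ => (Multiset.map (r p.1) Finset.univ.val).esymm (p.2 + 1)) F := by
    rw [← coe_eval₂Hom]
    refine eval₂Hom_congr' rfl (fun p hp _ => ?_) rfl
    rcases Nat.lt_or_ge p.2 (N p.1) with hlt | hge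
    · exact (hr p.1 p.2 hlt).symm
    · rw [hg p hp hge, Multiset.esymm, Multiset.powersetCard_eq_empty, Multiset.map_zero,
        Multiset.sum_zero]
      rw [Multiset.card_map]
      simp only [Finset.card_val, Finset.card_univ, Fintype.card_fin]
      omega
  rw [h1, ← hcomp, RingHom.comp_apply]
  change (eval₂Hom (Int.castRingHom ℂ) r') (PhiM N F) = 0
  rw [h, map_zero]

end Mixed

section Kill
variable {σ : Type v}

/-- the variables `X_{u,k}`, `k ≥ e` -/
def Kill (u : σ) (e : ℕ) : Set (σ × ℕ) := {p | p.1 = u ∧ e ≤ p.2}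

theorem sub_aeval_mem_span (S : Set (σ × ℕ)) [DecidablePred (· ∈ S)]
    (F : MvPolynomial (σ × ℕ) ℤ) :
    F - aeval (fun p => if p ∈ S then (0 : MvPolynomial (σ × ℕ) ℤ) else X p) F ∈
      Ideal.span (X '' S : Set (MvPolynomial (σ × ℕ) ℤ)) := by
  induction F using MvPolynomial.induction_on with
  | C a => simp
  | add p q hp hq =>
    rw [map_add]
    have := Ideal.add_mem _ hp hq
    convert this using 1
    ring
  | mul_X q p hq =>
    rw [map_mul, aeval_X]
    split_ifs with hp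
    · rw [mul_zero, sub_zero]
      exact Ideal.mul_mem_left _ _ (Ideal.subset_span ⟨p, hp, rfl⟩)
    · rw [← sub_mul]
      exact Ideal.mul_mem_right _ _ hq

/-- **vanishing principle**: a universal polynomial vanishing on all mixed models truncated at `u`
lies in the ideal of the killed variables. -/
theorem mem_span_kill (u : σ) (e : ℕ) (F : MvPolynomial (σ × ℕ) ℤ)
    (h : ∀ N : σ → ℕ, N u = e → evG (xM N) F = 0) :
    F ∈ Ideal.span (X '' Kill u e : Set (MvPolynomial (σ × ℕ) ℤ)) := by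
  classical
  have h1 := sub_aeval_mem_span (Kill u e) F
  suffices h2 : aeval (fun p => if p ∈ Kill u e then (0 : MvPolynomial (σ × ℕ) ℤ) else X p) F = 0 by
    rwa [h2, sub_zero] at h1
  have hinj : Function.Injective
      (MvPolynomial.map (Int.castRingHom ℂ) : MvPolynomial (σ × ℕ) ℤ → MvPolynomial (σ × ℕ) ℂ) :=
    MvPolynomial.map_injective _ Int.cast_injective
  apply hinj
  rw [map_zero]
  apply MvPolynomial.funext
  intro g
  rw [map_zero, eval_map]
  set g' : σ × ℕ → ℂ := fun p => if p ∈ Kill u e then 0 else g p with hg'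
  have hcomp : (eval₂Hom (Int.castRingHom ℂ) g).comp
      ((aeval (fun p => if p ∈ Kill u e then (0 : MvPolynomial (σ × ℕ) ℤ) else X p) :
        MvPolynomial (σ × ℕ) ℤ →ₐ[ℤ] MvPolynomial (σ × ℕ) ℤ) : _ →+* _) =
      eval₂Hom (Int.castRingHom ℂ) g' := by
    apply MvPolynomial.ringHom_ext
    · intro a; simp
    · intro p
      simp only [RingHom.comp_apply, RingHom.coe_coe, aeval_X, coe_eval₂Hom, eval₂_X, hg']
      split_ifs <;> simp
  have : eval₂ (Int.castRingHom ℂ) g
      (aeval (fun p => if p ∈ Kill u e then (0 : MvPolynomial (σ × ℕ) ℤ) else X p) F) =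
      eval₂ (Int.castRingHom ℂ) g' F := by
    have := congrArg (fun f => f F) hcomp
    simpa using this
  rw [this]
  set M := F.vars.sup (fun p => p.2) + 1 with hM
  refine eval_eq_zero_of_PhiM (fun s => if s = u then e else M) F g' ?_ ?_
  · intro p hp hle
    by_cases hpu : p.1 = u
    · rw [if_pos hpu] at hle
      simp only [hg']
      rw [if_pos ⟨hpu, hle⟩]
    · rw [if_neg hpu] at hle
      have : p.2 ≤ F.vars.sup (fun p => p.2) := Finset.le_sup (f := fun p : σ × ℕ => p.2) hp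
      omega
  · rw [← sh_evG_M, h _ (by simp), map_zero]

end Kill

section Div
variable {σ : Type v} {B : Type v} [CommRing B] [LambdaOps B]

theorem gwt_single (p : σ × ℕ) (a : ℕ) : gwt (Finsupp.single p a) = a * (p.2 + 1) := by
  rw [gwt, Finsupp.weight_single]
  simp [wL]

theorem gwt_add (m m' : σ × ℕ →₀ ℕ) : gwt (m + m') = gwt m + gwt m' := by
  rw [gwt, map_add]

/-- **division lemma** -/
theorem evG_eq_gamma_mul (u : σ) (d : ℕ) (hd : 1 ≤ d) (F : MvPolynomial (σ × ℕ) ℤ) (w : ℕ)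
    (hFw : ∀ m ∈ F.support, w ≤ gwt m)
    (hFk : F ∈ Ideal.span (X '' Kill u (d - 1) : Set (MvPolynomial (σ × ℕ) ℤ)))
    {W : ℕ → Ideal B} (hW : MulFil W) (hWa : Antitone W) (y : σ → B)
    (hy : ∀ s k, gamma (k + 1) (y s) ∈ W (k + 1)) (hyu : ∀ k, d < k → gamma k (y u) = 0) :
    ∃ Γ ∈ W (w - d), evG y F = gamma d (y u) * Γ := by
  classical
  rw [F.as_sum, map_sum]
  refine Finset.sum_induction _ (fun z => ∃ Γ ∈ W (w - d), z = gamma d (y u) * Γ) ?_ ?_ ?_
  · rintro a b ⟨Γa, ha, rfl⟩ ⟨Γb, hb, rfl⟩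
    exact ⟨Γa + Γb, Ideal.add_mem _ ha hb, by ring⟩
  · exact ⟨0, Ideal.zero_mem _, by simp⟩
  · intro m hm
    obtain ⟨p, hpK, hmp⟩ := (mem_ideal_span_X_image.mp hFk) m hm
    obtain ⟨hpu, hpk⟩ := hpK
    rcases Nat.lt_or_ge (d - 1) p.2 with hlt | hge
    · -- the factor `γ^{p.2+1}(y u)` vanishes
      refine ⟨0, Ideal.zero_mem _, ?_⟩
      rw [mul_zero, evG, aeval_monomial, Finsupp.prod]
      have hmem : p ∈ m.support := Finsupp.mem_support_iff.mpr hmp
      rw [Finset.prod_eq_zero hmem, mul_zero]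
      rw [hpu, hyu _ (by omega), zero_pow hmp]
    · have hp2 : p.2 = d - 1 := le_antisymm hge hpk
      set m' := m - Finsupp.single p 1 with hm'
      have hmm' : m = Finsupp.single p 1 + m' := by
        rw [hm']
        ext q
        by_cases hq : q = p
        · subst hq
          simp only [Finsupp.coe_add, Finsupp.coe_tsub, Pi.add_apply, Pi.sub_apply,
            Finsupp.single_eq_same]
          omega
        · simp [Finsupp.single_eq_of_ne hq]
      have hmono : (monomial m (coeff m F) : MvPolynomial (σ × ℕ) ℤ) =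
          X p * monomial m' (coeff m F) := by
        rw [X, monomial_mul, one_mul, ← hmm']
      refine ⟨evG y (monomial m' (coeff m F)), ?_, ?_⟩
      · refine evG_mem_of_mulFil hW hWa y hy _ _ ?_
        intro q hq
        have hqm : q = m' := by
          by_contra hne
          rw [mem_support_iff, coeff_monomial, if_neg (Ne.symm hne)] at hq
          exact hq rfl
        rw [hqm]
        have h1 := hFw m hm
        rw [hmm', gwt_add, gwt_single, hp2] at h1
        omega
      · rw [hmono, map_mul, evG_X, hpu, hp2]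
        congr 2
        omega

/-- **division principle** for natural operations -/
theorem IsOp.exists_gamma_mul {T : NatOp σ} (hT : IsOp T) (u : σ) (d : ℕ) (hd : 1 ≤ d) (w : ℕ)
    (hmodel : ∀ N, T (MvPolynomial (σ × Fin N) ℤ) (xN σ N) ∈ augIdeal (monoL (σ × Fin N)) ^ w)
    (hvanish : ∀ N : σ → ℕ, N u = d - 1 → T (MvPolynomial (Σ s : σ, Fin (N s)) ℤ) (xM N) = 0)
    (hB : IsSpecial B) {W : ℕ → Ideal B} (hW : MulFil W) (hWa : Antitone W) (y : σ → B)
    (hy : ∀ s k, LambdaRing.gamma (k + 1) (y s) ∈ W (k + 1))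
    (hyu : ∀ k, d < k → LambdaRing.gamma k (y u) = 0) :
    ∃ Γ ∈ W (w - d), T B y = LambdaRing.gamma d (y u) * Γ := by
  obtain ⟨F, hF⟩ := hT
  rw [hF B hB]
  refine evG_eq_gamma_mul u d hd F w ?_ ?_ hW hWa y hy hyu
  · refine transfer (fun _ : σ => (1 : ℕ)) (fun m => w ≤ m) F ?_
    intro N β hβ
    rw [← sh_evG] at hβ
    refine degree_le_of_mem_augIdeal_pow ?_ β hβ
    rw [← hF _ isSpecial_sr]
    exact hmodel N
  · refine mem_span_kill u (d - 1) F fun N hN => ?_
    rw [← hF _ isSpecial_sr]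
    exact hvanish N hN

end Div

section Rank
variable {K : Type u} [CommRing K] [LambdaOps K]

theorem coeff_gammaSeries_sub_natCast (h1 : ∀ k : ℕ, 2 ≤ k → LambdaOps.lam k (1 : K) = 0)
    (N : K) (d : ℕ) (hN : ∀ i, d < i → LambdaOps.lam i N = 0) (k : ℕ) :
    gamma k (N - (d : K)) = ∑ i ∈ range (d + 1),
      LambdaOps.lam i N * (if i ≤ k then (-1 : K) ^ (k - i) * ((d - i).choose (k - i) : K) else 0) := by
  rw [← coeff_gammaSeries, gammaSeries_sub_natCast h1 N d hN, map_sum]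
  refine Finset.sum_congr rfl fun i _ => ?_
  rw [PowerSeries.coeff_C_mul, PowerSeries.coeff_X_pow_mul']
  split_ifs with h
  · rw [coeff_one_sub_X_pow]
  · rfl

/-- `γ^k(N - d) = 0` for `k > d` when `λ^i(N) = 0` for `i > d`. -/
theorem gamma_sub_natCast_eq_zero (h1 : ∀ k : ℕ, 2 ≤ k → LambdaOps.lam k (1 : K) = 0)
    (N : K) (d : ℕ) (hN : ∀ i, d < i → LambdaOps.lam i N = 0) (k : ℕ) (hk : d < k) :
    gamma k (N - (d : K)) = 0 := by
  rw [coeff_gammaSeries_sub_natCast h1 N d hN]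
  refine Finset.sum_eq_zero fun i hi => ?_
  rw [Finset.mem_range] at hi
  rw [if_pos (by omega), Nat.choose_eq_zero_of_lt (by omega)]
  simp

/-- `γ^d(N - d) = (-1)^d λ_{-1}(N)`. -/
theorem gamma_sub_natCast_top (h1 : ∀ k : ℕ, 2 ≤ k → LambdaOps.lam k (1 : K) = 0)
    (N : K) (d : ℕ) (hN : ∀ i, d < i → LambdaOps.lam i N = 0) :
    gamma d (N - (d : K)) = (-1 : K) ^ d * ∑ i ∈ range (d + 1), (-1 : K) ^ i * LambdaOps.lam i N := by
  rw [coeff_gammaSeries_sub_natCast h1 N d hN, Finset.mul_sum]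
  refine Finset.sum_congr rfl fun i hi => ?_
  rw [Finset.mem_range] at hi
  rw [if_pos (by omega), Nat.choose_self, Nat.cast_one, mul_one]
  have e : (-1 : K) ^ d * (-1) ^ i = (-1) ^ (d - i) := by
    have : d + i = d - i + 2 * i := by omega
    rw [← pow_add, this, pow_add, pow_mul]
    simp
  rw [← mul_assoc, e, mul_comm]

theorem lamAlt_eq (h1 : ∀ k : ℕ, 2 ≤ k → LambdaOps.lam k (1 : K) = 0)
    (N : K) (d : ℕ) (hN : ∀ i, d < i → LambdaOps.lam i N = 0) :
    ∑ i ∈ range (d + 1), (-1 : K) ^ i * LambdaOps.lam i N = (-1 : K) ^ d * gamma d (N - (d : K)) := by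
  rw [gamma_sub_natCast_top h1 N d hN, ← mul_assoc, ← pow_add, ← two_mul, pow_mul]
  simp

end Rank

section TopFil
variable {B : Type v} [CommRing B]

theorem mulFil_top : MulFil (fun _ : ℕ => (⊤ : Ideal B)) := ⟨trivial, fun _ _ => trivial⟩

theorem antitone_top : Antitone (fun _ : ℕ => (⊤ : Ideal B)) := fun _ _ _ => le_rfl

end TopFil

section S8691
variable {K : Type u} [CommRing K] [LambdaOps K]

theorem lamAlt_dvd (hK : IsSpecial K) (d : ℕ) (N : K) (hN : ∀ i : ℕ, d < i → LambdaOps.lam i N = 0)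
    (p : ℕ) (hp : 1 ≤ p) (x : K) :
    (∑ i ∈ range (d + 1), (-1 : K) ^ i * LambdaOps.lam i N) ∣
      LambdaOps.lam p (x * ∑ i ∈ range (d + 1), (-1 : K) ^ i * LambdaOps.lam i N) := by
  rcases Nat.eq_zero_or_pos d with hd | hd
  · subst hd
    simp [LambdaOps.lam_zero]
  have h1 := hK.lam_one_eq_zero
  rw [lamAlt_eq h1 N d hN]
  set u := N - (d : K) with hu
  have hT : IsOp (σ := PUnit.{u + 1} ⊕ PUnit.{u + 1}) (fun A _ _ y =>
      LambdaOps.lam p (y (Sum.inr PUnit.unit) *
        ((((-1 : ℤ) ^ d : ℤ) : A) * gamma d (y (Sum.inl PUnit.unit))))) :=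
    ((isOp_var _).mul ((isOp_intCast _).mul ((isOp_var _).gamma d))).lam p
  obtain ⟨Γ, -, hΓ⟩ := hT.exists_gamma_mul (Sum.inl PUnit.unit) d hd 0
    (fun N' => by simp)
    (fun N' hN' => by
      beta_reduce
      rw [gamma_xM_eq_zero N' _ d (by omega), mul_zero, mul_zero, lam_zero_arg p hp])
    hK mulFil_top antitone_top (Sum.elim (fun _ => u) (fun _ => x))
    (fun _ _ => trivial)
    (fun k hk => gamma_sub_natCast_eq_zero h1 N d hN k hk)
  simp only [Sum.elim_inr, Sum.elim_inl] at hΓ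
  have e : (((-1 : ℤ) ^ d : ℤ) : K) = (-1 : K) ^ d := by push_cast; rfl
  rw [e] at hΓ
  rw [hΓ]
  refine ⟨(-1 : K) ^ d * Γ, ?_⟩
  have e2 : (-1 : K) ^ d * (-1 : K) ^ d = 1 := by
    rw [← pow_add, ← two_mul, pow_mul]; simp
  linear_combination (-(gamma d u * Γ)) * e2

end S8691

end Groth.Agent.Lib.Helper25.LSp
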