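import Groth.Agent.Lib.Helper25LamTransfer

/-!
# γ-filtration: basic lemmas and the universal principle (helper25)

`IsOp T`: the natural operation `T` on `σ`-tuples of elements of special λ-rings is given by a
universal polynomial in the `γ^k(x_s)`.  If `T` maps the model tuples into `m^w` then it maps tuples of
augmentation-zero elements of any special augmented λ-ring into `Fil^w`.
-/

set_option autoImplicit false
universe u v
open LambdaRing Finset MvPolynomial

namespace Groth.Agent.Lib.Helper25.LSp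

section Fil
variable {K : Type u} {A : Type v} [CommRing K] [CommRing A] [LambdaOps A] (ε : A →+* K)

theorem gammaFil_anti {m n : ℕ} (h : m ≤ n) : gammaFil ε n ≤ gammaFil ε m := by
  apply Ideal.span_mono
  rintro y ⟨l, hl, hn, rfl⟩
  exact ⟨l, hl, h.trans hn, rfl⟩

theorem one_mem_gammaFil_zero : (1 : A) ∈ gammaFil ε 0 :=
  Ideal.subset_span ⟨[], by simp, by simp, by simp⟩

theorem gammaFil_zero : gammaFil ε 0 = ⊤ := (Ideal.eq_top_iff_one _).mpr (one_mem_gammaFil_zero ε)

theorem gamma_mem_gammaFil {z : A} (hz : ε z = 0) (k : ℕ) : gamma k z ∈ gammaFil ε k :=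
  Ideal.subset_span ⟨[(k, z)], by simpa using hz, by simp, by simp⟩

theorem gammaFil_mul_le (a b : ℕ) : gammaFil ε a * gammaFil ε b ≤ gammaFil ε (a + b) := by
  rw [gammaFil, gammaFil, Ideal.span_mul_span]
  apply Ideal.span_mono
  rintro _ ⟨_, ⟨l₁, h₁, hn₁, rfl⟩, _, ⟨l₂, h₂, hn₂, rfl⟩, rfl⟩
  refine ⟨l₁ ++ l₂, ?_, ?_, ?_⟩
  · intro p hp
    rcases List.mem_append.mp hp with h | h
    · exact h₁ p h
    · exact h₂ p h
  · rw [List.map_append, List.sum_append]; omega
  · rw [List.map_append, List.prod_append]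

theorem mul_mem_gammaFil {a b : ℕ} {y z : A} (hy : y ∈ gammaFil ε a) (hz : z ∈ gammaFil ε b) :
    y * z ∈ gammaFil ε (a + b) :=
  gammaFil_mul_le ε a b (Ideal.mul_mem_mul hy hz)

theorem pow_mem_gammaFil {a : ℕ} {y : A} (hy : y ∈ gammaFil ε a) (k : ℕ) :
    y ^ k ∈ gammaFil ε (k * a) := by
  induction k with
  | zero => simpa using one_mem_gammaFil_zero ε
  | succ k ih =>
    rw [pow_succ, Nat.succ_mul]
    exact mul_mem_gammaFil ε ih hy

theorem prod_mem_gammaFil {ι : Type*} (s : Finset ι) (f : ι → A) (n : ι → ℕ)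
    (h : ∀ i ∈ s, f i ∈ gammaFil ε (n i)) : ∏ i ∈ s, f i ∈ gammaFil ε (∑ i ∈ s, n i) := by
  classical
  induction s using Finset.induction_on with
  | empty => simpa using one_mem_gammaFil_zero ε
  | insert a s ha ih =>
    rw [Finset.prod_insert ha, Finset.sum_insert ha]
    exact mul_mem_gammaFil ε (h a (Finset.mem_insert_self a s))
      (ih fun i hi => h i (Finset.mem_insert_of_mem hi))

end Fil

section EvFil
variable {K : Type u} {σ A : Type v} [CommRing K] [CommRing A] [LambdaOps A] (ε : A →+* K)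

/-- the γ-weight of a monomial of the universal ring -/
noncomputable abbrev gwt (d : σ × ℕ →₀ ℕ) : ℕ := Finsupp.weight (wL (fun _ : σ => (1 : ℕ))) d

theorem evG_mem_gammaFil (x : σ → A) (hx : ∀ s, ε (x s) = 0) (F : MvPolynomial (σ × ℕ) ℤ) (w : ℕ)
    (hF : ∀ d ∈ F.support, w ≤ gwt d) : evG x F ∈ gammaFil ε w := by
  rw [F.as_sum, map_sum]
  refine Ideal.sum_mem _ fun d hd => ?_
  rw [evG, aeval_monomial]
  refine Ideal.mul_mem_left _ _ (gammaFil_anti ε (hF d hd) ?_)
  rw [gwt, Finsupp.weight_apply, Finsupp.prod, Finsupp.sum]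
  refine prod_mem_gammaFil ε _ _ _ fun p _ => ?_
  have : d p • wL (fun _ : σ => (1 : ℕ)) p = d p * (p.2 + 1) := by simp [wL]
  rw [this]
  exact pow_mem_gammaFil ε (gamma_mem_gammaFil ε (hx p.1) _) _

/-- if `evG xN F ∈ m^w` in all split models then `evG x F ∈ Fil^w` for augmentation-zero `x`. -/
theorem evG_mem_gammaFil_of_model (F : MvPolynomial (σ × ℕ) ℤ) (w : ℕ)
    (hmodel : ∀ N, evG (xN σ N) F ∈ augIdeal (monoL (σ × Fin N)) ^ w)
    (x : σ → A) (hx : ∀ s, ε (x s) = 0) : evG x F ∈ gammaFil ε w := by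
  refine evG_mem_gammaFil ε x hx F w ?_
  refine transfer (fun _ : σ => (1 : ℕ)) (fun m => w ≤ m) F ?_
  intro N β hβ
  rw [← sh_evG] at hβ
  exact degree_le_of_mem_augIdeal_pow (hmodel N) β hβ

end EvFil

section Op
variable {σ : Type v}

/-- a natural operation on `σ`-tuples -/
abbrev NatOp (σ : Type v) := ∀ (A : Type v) [CommRing A] [LambdaOps A], (σ → A) → A

/-- `T` is given by a universal polynomial in the `γ^k(x_s)` on special λ-rings. -/
def IsOp (T : NatOp σ) : Prop :=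
  ∃ F : MvPolynomial (σ × ℕ) ℤ, ∀ (A : Type v) [CommRing A] [LambdaOps A], IsSpecial A →
    ∀ x : σ → A, T A x = evG x F

theorem isOp_var (s : σ) : IsOp (fun A _ _ x => x s) :=
  ⟨X (s, 0), fun A _ _ _ x => by rw [evG_X, gamma_one_idx]⟩

theorem isOp_intCast (a : ℤ) : IsOp (σ := σ) (fun A _ _ _ => (a : A)) :=
  ⟨C a, fun A _ _ _ x => by simp [evG]⟩

theorem isOp_one : IsOp (σ := σ) (fun A _ _ _ => (1 : A)) :=
  ⟨1, fun A _ _ _ x => by simp⟩

theorem IsOp.add {T T' : NatOp σ} (h : IsOp T) (h' : IsOp T') :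
    IsOp (fun A _ _ x => T A x + T' A x) := by
  obtain ⟨F, hF⟩ := h
  obtain ⟨F', hF'⟩ := h'
  exact ⟨F + F', fun A _ _ hA x => by beta_reduce; rw [map_add, hF A hA, hF' A hA]⟩

theorem IsOp.mul {T T' : NatOp σ} (h : IsOp T) (h' : IsOp T') :
    IsOp (fun A _ _ x => T A x * T' A x) := by
  obtain ⟨F, hF⟩ := h
  obtain ⟨F', hF'⟩ := h'
  exact ⟨F * F', fun A _ _ hA x => by beta_reduce; rw [map_mul, hF A hA, hF' A hA]⟩

theorem IsOp.neg {T : NatOp σ} (h : IsOp T) : IsOp (fun A _ _ x => -T A x) := by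
  obtain ⟨F, hF⟩ := h
  exact ⟨-F, fun A _ _ hA x => by beta_reduce; rw [map_neg, hF A hA]⟩

theorem IsOp.sub {T T' : NatOp σ} (h : IsOp T) (h' : IsOp T') :
    IsOp (fun A _ _ x => T A x - T' A x) := by
  obtain ⟨F, hF⟩ := h
  obtain ⟨F', hF'⟩ := h'
  exact ⟨F - F', fun A _ _ hA x => by beta_reduce; rw [map_sub, hF A hA, hF' A hA]⟩

theorem IsOp.gamma {T : NatOp σ} (h : IsOp T) (n : ℕ) :
    IsOp (fun A _ _ x => LambdaRing.gamma n (T A x)) := by
  obtain ⟨F, hF⟩ := h
  obtain ⟨F', hF'⟩ := exists_isRepG F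
  exact ⟨F' n, fun A _ _ hA x => by beta_reduce; rw [hF A hA, hF' A hA]⟩

theorem IsOp.lam {T : NatOp σ} (h : IsOp T) (n : ℕ) :
    IsOp (fun A _ _ x => LambdaOps.lam n (T A x)) := by
  obtain ⟨F, hF⟩ := h
  obtain ⟨F', hF'⟩ := exists_isRep (toLam F)
  exact ⟨toGam (F' n), fun A _ _ hA x => by beta_reduce; rw [hF A hA, evG_toGam, ← hF' A hA, evL_toLam]⟩

theorem IsOp.prod {ι : Type*} (s : Finset ι) (T : ι → NatOp σ) (h : ∀ i ∈ s, IsOp (T i)) :
    IsOp (fun A _ _ x => ∏ i ∈ s, T i A x) := by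
  classical
  induction s using Finset.induction_on with
  | empty => simpa using isOp_one (σ := σ)
  | insert a s ha ih =>
    have := (h a (Finset.mem_insert_self a s)).mul (ih fun i hi => h i (Finset.mem_insert_of_mem hi))
    simpa [Finset.prod_insert ha] using this

theorem IsOp.sum {ι : Type*} (s : Finset ι) (T : ι → NatOp σ) (h : ∀ i ∈ s, IsOp (T i)) :
    IsOp (fun A _ _ x => ∑ i ∈ s, T i A x) := by
  classical
  induction s using Finset.induction_on with
  | empty => simpa using isOp_intCast (σ := σ) 0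
  | insert a s ha ih =>
    have := (h a (Finset.mem_insert_self a s)).add (ih fun i hi => h i (Finset.mem_insert_of_mem hi))
    simpa [Finset.sum_insert ha] using this

/-- **the universal principle** for the γ-filtration. -/
theorem IsOp.mem_gammaFil {T : NatOp σ} (hT : IsOp T) (w : ℕ)
    (hmodel : ∀ N, T (MvPolynomial (σ × Fin N) ℤ) (xN σ N) ∈ augIdeal (monoL (σ × Fin N)) ^ w)
    {K : Type u} [CommRing K] {A : Type v} [CommRing A] [LambdaOps A] (hA : IsSpecial A)
    (ε : A →+* K) (x : σ → A) (hx : ∀ s, ε (x s) = 0) : T A x ∈ gammaFil ε w := by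
  obtain ⟨F, hF⟩ := hT
  rw [hF A hA]
  refine evG_mem_gammaFil_of_model ε F w (fun N => ?_) x hx
  rw [← hF _ isSpecial_sr]
  exact hmodel N

end Op

end Groth.Agent.Lib.Helper25.LSp
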