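import Groth.Agent.Lib.Helper25LamModel

/-!
# Injectivity of the substitution of elementary symmetric polynomials (helper25)

`PhiN σ N F = 0` and all variables `(s, k)` of `F` have `k < N` imply `F = 0`: evaluate at complex
points, every point being the vector of elementary symmetric functions of the roots of suitable monic
polynomials.
-/

set_option autoImplicit false
universe v
open LambdaRing Finset MvPolynomial

namespace Groth.Agent.Lib.Helper25.LSp

theorem exists_roots (N : ℕ) (c : ℕ → ℂ) :
    ∃ r : Fin N → ℂ, ∀ k, k < N → (Multiset.map r Finset.univ.val).esymm (k + 1) = c k := by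
  classical
  rcases Nat.eq_zero_or_pos N with hN | hN
  · subst hN
    exact ⟨Fin.elim0, fun k hk => absurd hk (Nat.not_lt_zero k)⟩
  set v : Fin N → ℂ := fun i => (-1 : ℂ) ^ (N - (i : ℕ)) * c (N - 1 - (i : ℕ)) with hv
  set q : Polynomial ℂ := Polynomial.X ^ N + Polynomial.ofFn N v with hq
  have hdeg : q.natDegree = N := by
    rw [hq, Polynomial.natDegree_add_eq_left_of_natDegree_lt]
    · exact Polynomial.natDegree_X_pow N
    · rw [Polynomial.natDegree_X_pow]
      exact Polynomial.ofFn_natDegree_lt hN v
  have hmonic : q.Monic := Polynomial.monic_X_pow_add (Polynomial.ofFn_degree_lt v)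
  have hcard : q.roots.card = q.natDegree :=
    Polynomial.splits_iff_card_roots.mp (IsAlgClosed.splits q)
  have hlen : q.roots.toList.length = N := by rw [Multiset.length_toList, hcard, hdeg]
  refine ⟨fun a => q.roots.toList.get (Fin.cast hlen.symm a), ?_⟩
  have hmap : Multiset.map (fun a => q.roots.toList.get (Fin.cast hlen.symm a)) Finset.univ.val =
      q.roots := by
    rw [Fin.univ_val_map]
    have := List.ofFn_congr hlen q.roots.toList.get
    rw [List.ofFn_get] at this
    rw [← this, Multiset.coe_toList]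
  intro k hk
  rw [hmap]
  have hi : N - 1 - k ≤ q.natDegree := by rw [hdeg]; omega
  have hvieta := Polynomial.coeff_eq_esymm_roots_of_card hcard hi
  rw [hmonic.leadingCoeff, one_mul, hdeg] at hvieta
  have hcoeff : q.coeff (N - 1 - k) = (-1 : ℂ) ^ (k + 1) * c k := by
    rw [hq, Polynomial.coeff_add, Polynomial.coeff_X_pow, if_neg (by omega), zero_add,
      Polynomial.ofFn_coeff_eq_val_of_lt v (by omega : N - 1 - k < N), hv]
    simp only
    congr 2 <;> omega
  have e : N - (N - 1 - k) = k + 1 := by omega
  rw [hcoeff, e] at hvieta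
  have hne : ((-1 : ℂ) ^ (k + 1)) ≠ 0 := pow_ne_zero _ (by norm_num)
  exact (mul_left_cancel₀ hne hvieta).symm

variable (σ : Type v) (N : ℕ)

theorem PhiN_injective_of_vars (F : MvPolynomial (σ × ℕ) ℤ) (hF : ∀ p ∈ F.vars, p.2 < N)
    (h : PhiN σ N F = 0) : F = 0 := by
  classical
  have hinj : Function.Injective
      (MvPolynomial.map (Int.castRingHom ℂ) : MvPolynomial (σ × ℕ) ℤ → MvPolynomial (σ × ℕ) ℂ) :=
    MvPolynomial.map_injective _ Int.cast_injective
  apply hinj
  rw [map_zero]
  apply MvPolynomial.funext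
  intro g
  rw [map_zero, eval_map]
  choose r hr using fun s : σ => exists_roots N (fun k => g (s, k))
  set r' : σ × Fin N → ℂ := fun t => r t.1 t.2 with hr'
  have hcomp : (eval₂Hom (Int.castRingHom ℂ) r').comp (PhiN σ N : MvPolynomial (σ × ℕ) ℤ →+* _) =
      eval₂Hom (Int.castRingHom ℂ)
        (fun p : σ × ℕ => (Multiset.map (r p.1) Finset.univ.val).esymm (p.2 + 1)) := by
    apply MvPolynomial.ringHom_ext
    · intro a
      simp
    · intro p
      simp only [RingHom.comp_apply, RingHom.coe_coe, PhiN, aeval_X, coe_eval₂Hom, eval₂_X]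
      rw [eval₂_rename]
      have := aeval_esymm_eq_multiset_esymm (Fin N) ℤ (p.2 + 1) (r p.1)
      rw [← this, aeval_def]
      rfl
  have h1 : eval₂ (Int.castRingHom ℂ) g F =
      eval₂Hom (Int.castRingHom ℂ)
        (fun p : σ × ℕ => (Multiset.map (r p.1) Finset.univ.val).esymm (p.2 + 1)) F := by
    rw [← coe_eval₂Hom]
    refine eval₂Hom_congr' rfl (fun p hp _ => ?_) rfl
    exact (hr p.1 p.2 (hF p hp)).symm
  rw [h1, ← hcomp, RingHom.comp_apply]
  change (eval₂Hom (Int.castRingHom ℂ) r') (PhiN σ N F) = 0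
  rw [h, map_zero]

end Groth.Agent.Lib.Helper25.LSp
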