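import Groth.Agent.Lib.Helper25LamSplit

/-!
# λ-rings additively generated by line elements (helper25)

`LineGen L`: `L` is a submonoid of line elements generating `R` additively, with
`λ^n(f l) = l^n λ^n(f)`.  Ideals generated by products of `(l - 1)` are stable under `λ^n`, `n ≥ 1`;
`γ^i` maps the augmentation ideal `m` into `m^i`; and `γ^w(y) ≡ (-1)^(w-1) (w-1)! y` mod `m^(w+1)` on `m^w`.
-/

set_option autoImplicit false
universe u
open PowerSeries LambdaRing Finset

namespace Groth.Agent.Lib.Helper25.LSp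

open Groth.Agent.Lib.Helper4

section Gamma
variable {R : Type u} [CommRing R] [LambdaOps R]

theorem gamma_succ (k : ℕ) (x : R) :
    gamma (k + 1) x = ∑ j ∈ range (k + 1), (Nat.choose k j : R) * LambdaOps.lam (j + 1) x := by
  rw [gamma, if_neg (Nat.succ_ne_zero k), Finset.sum_range_succ']
  simp

theorem lam_zero_arg (n : ℕ) (hn : 1 ≤ n) : LambdaOps.lam n (0 : R) = 0 := by
  have := congrArg (coeff n) (lamSeries_zero (K := R))
  rw [coeff_lamSeries, coeff_one, if_neg (by omega)] at this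
  exact this

theorem gamma_zero_arg (n : ℕ) (hn : 1 ≤ n) : gamma n (0 : R) = 0 := by
  have := congrArg (coeff n) (gammaSeries_zero (K := R))
  rw [coeff_gammaSeries, coeff_one, if_neg (by omega)] at this
  exact this

theorem gamma_zero_idx (x : R) : gamma 0 x = 1 := by rw [gamma, if_pos rfl]

theorem gamma_one_idx (x : R) : gamma 1 x = x := by
  rw [gamma_succ]; simp [LambdaOps.lam_one]

/-- if all `λ^n y`, `n ≥ 1`, lie in an ideal then so do all `γ^n y`, `n ≥ 1`. -/
theorem gamma_mem_of_lam_mem {J : Ideal R} {y : R} (h : ∀ n, 1 ≤ n → LambdaOps.lam n y ∈ J)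
    (n : ℕ) (hn : 1 ≤ n) : gamma n y ∈ J := by
  obtain ⟨k, rfl⟩ : ∃ k, n = k + 1 := ⟨n - 1, by omega⟩
  rw [gamma_succ]
  exact J.sum_mem fun j _ => J.mul_mem_left _ (h _ (by omega))

/-- the set of elements all of whose `λ^n`, `n ≥ 1`, lie in an ideal is an additive subgroup. -/
theorem lam_mem_add {J : Ideal R} {y z : R} (hy : ∀ n, 1 ≤ n → LambdaOps.lam n y ∈ J)
    (hz : ∀ n, 1 ≤ n → LambdaOps.lam n z ∈ J) (n : ℕ) (hn : 1 ≤ n) :
    LambdaOps.lam n (y + z) ∈ J := by
  rw [LambdaOps.lam_add]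
  refine J.sum_mem fun i hi => ?_
  rcases Nat.eq_zero_or_pos i with h0 | h0
  · subst h0
    exact J.mul_mem_left _ (hz _ (by simpa using hn))
  · exact J.mul_mem_right _ (hy _ h0)

theorem lam_mem_neg {J : Ideal R} {y : R} (hy : ∀ n, 1 ≤ n → LambdaOps.lam n y ∈ J) :
    ∀ n, 1 ≤ n → LambdaOps.lam n (-y) ∈ J := by
  intro n
  induction n using Nat.strong_induction_on with
  | _ n ih =>
    intro hn
    have h := LambdaOps.lam_add n (-y) y
    rw [neg_add_cancel, lam_zero_arg n hn, Finset.sum_range_succ, Nat.sub_self, LambdaOps.lam_zero,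
      mul_one] at h
    have : LambdaOps.lam n (-y) =
        -∑ i ∈ range n, LambdaOps.lam i (-y) * LambdaOps.lam (n - i) y := by
      linear_combination -h
    rw [this]
    refine J.neg_mem (J.sum_mem fun i hi => ?_)
    rw [Finset.mem_range] at hi
    exact J.mul_mem_left _ (hy _ (by omega))

end Gamma

section LineGen
variable {R : Type u} [CommRing R] [LambdaOps R]

/-- `L` is a submonoid of line elements generating `R` additively, and multiplication by `l ∈ L`
rescales `λ_t`. -/
structure LineGen (L : Submonoid R) : Prop where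
  line : ∀ l ∈ L, IsLineElt l
  lam_mul : ∀ l ∈ L, ∀ (n : ℕ) (f : R), LambdaOps.lam n (f * l) = l ^ n * LambdaOps.lam n f
  closure : AddSubgroup.closure (L : Set R) = ⊤

variable {L : Submonoid R} (hL : LineGen L)
include hL

theorem LineGen.lam_one_eq_zero (k : ℕ) (hk : 2 ≤ k) : LambdaOps.lam k (1 : R) = 0 :=
  (isLineElt_iff 1).mp (hL.line 1 L.one_mem) k hk

/-- the basic step: `λ^k(y (l - 1)) ∈ (l - 1) J` when all `λ^n y ∈ J`. -/
theorem lam_mul_sub_one_mem {l : R} (hl : l ∈ L) (y : R) (J : Ideal R)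
    (hJ : ∀ n, 1 ≤ n → LambdaOps.lam n y ∈ J) :
    ∀ k, 1 ≤ k → LambdaOps.lam k (y * (l - 1)) ∈ Ideal.span {l - 1} * J := by
  intro k
  induction k using Nat.strong_induction_on with
  | _ k ih =>
    intro hk
    obtain ⟨k', rfl⟩ : ∃ k', k = k' + 1 := ⟨k - 1, by omega⟩
    have h := LambdaOps.lam_add (k' + 1) (y * (l - 1)) y
    have e : y * (l - 1) + y = y * l := by ring
    rw [e, hL.lam_mul l hl, Finset.sum_range_succ, Nat.sub_self, LambdaOps.lam_zero, mul_one,
      Finset.sum_range_succ', LambdaOps.lam_zero, one_mul, Nat.sub_zero] at h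
    have : LambdaOps.lam (k' + 1) (y * (l - 1)) =
        (l ^ (k' + 1) - 1) * LambdaOps.lam (k' + 1) y -
          ∑ i ∈ range k', LambdaOps.lam (i + 1) (y * (l - 1)) * LambdaOps.lam (k' + 1 - (i + 1)) y := by
      linear_combination -h
    rw [this]
    refine Ideal.sub_mem _ ?_ (Ideal.sum_mem _ fun i hi => ?_)
    · obtain ⟨c, hc⟩ := sub_one_dvd_pow_sub_one l (k' + 1)
      rw [hc, mul_assoc]
      exact Ideal.mul_mem_mul (Ideal.mem_span_singleton_self _) (J.mul_mem_left _ (hJ _ (by omega)))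
    · rw [Finset.mem_range] at hi
      exact Ideal.mul_mem_right _ _ (ih (i + 1) (by omega) (by omega))

/-- products of `(l - 1)`, `l ∈ L`. -/
def LProd (L : Submonoid R) : Set R :=
  {g | ∃ ls : List R, (∀ l ∈ ls, l ∈ L) ∧ g = (ls.map fun l => l - 1).prod}

theorem lam_mul_lprod_mem (ls : List R) (hls : ∀ l ∈ ls, l ∈ L) (y : R) :
    ∀ k, 1 ≤ k → LambdaOps.lam k (y * (ls.map fun l => l - 1).prod) ∈
      Ideal.span {(ls.map fun l => l - 1).prod} := by
  induction ls generalizing y with
  | nil =>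
    intro k _
    simp
  | cons l ls ih =>
    intro k hk
    rw [List.map_cons, List.prod_cons]
    have e : y * ((l - 1) * (ls.map fun l => l - 1).prod) =
        (y * (ls.map fun l => l - 1).prod) * (l - 1) := by ring
    rw [e, ← Ideal.span_singleton_mul_span_singleton]
    exact lam_mul_sub_one_mem hL (hls l (by simp)) _ _
      (ih (fun l' hl' => hls l' (List.mem_cons_of_mem _ hl')) y) k hk

/-- an ideal generated by products of `(l - 1)` is the additive span of the `l' g`. -/
theorem mem_closure_of_mem_span {G : Set R} {y : R} (hy : y ∈ Ideal.span G) :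
    y ∈ AddSubgroup.closure {z | ∃ l' ∈ L, ∃ g ∈ G, z = l' * g} := by
  set T := AddSubgroup.closure {z | ∃ l' ∈ L, ∃ g ∈ G, z = l' * g} with hT
  have hmul : ∀ a x : R, x ∈ T → a * x ∈ T := by
    intro a x hx
    have ha : a ∈ AddSubgroup.closure (L : Set R) := by rw [hL.closure]; trivial
    induction ha using AddSubgroup.closure_induction with
    | mem a ha =>
      induction hx using AddSubgroup.closure_induction with
      | mem x hx =>
        obtain ⟨l', hl', g, hg, rfl⟩ := hx
        exact AddSubgroup.subset_closure ⟨a * l', L.mul_mem ha hl', g, hg, by ring⟩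
      | zero => rw [mul_zero]; exact T.zero_mem
      | add x y _ _ hx hy => rw [mul_add]; exact T.add_mem hx hy
      | neg x _ hx => rw [mul_neg]; exact T.neg_mem hx
    | zero => rw [zero_mul]; exact T.zero_mem
    | add a b _ _ ha hb => rw [add_mul]; exact T.add_mem ha hb
    | neg a _ ha => rw [neg_mul]; exact T.neg_mem ha
  induction hy using Submodule.span_induction with
  | mem x hx => exact AddSubgroup.subset_closure ⟨1, L.one_mem, x, hx, by ring⟩
  | zero => exact T.zero_mem
  | add x y _ _ hx hy => exact T.add_mem hx hy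
  | smul a x _ hx => exact hmul a x hx

/-- **λ-stability** of ideals generated by products of `(l - 1)`. -/
theorem lam_mem_of_mem_span {G : Set R} (hG : G ⊆ LProd L) {y : R} (hy : y ∈ Ideal.span G) :
    ∀ n, 1 ≤ n → LambdaOps.lam n y ∈ Ideal.span G := by
  have hy' := mem_closure_of_mem_span hL hy
  clear hy
  induction hy' using AddSubgroup.closure_induction with
  | mem x hx =>
    obtain ⟨l', hl', g, hg, rfl⟩ := hx
    obtain ⟨ls, hls, rfl⟩ := hG hg
    intro n hn
    have := lam_mul_lprod_mem hL ls hls l' n hn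
    exact (Ideal.span_mono (Set.singleton_subset_iff.mpr hg)) this
  | zero => intro n hn; rw [lam_zero_arg n hn]; exact Ideal.zero_mem _
  | add a b _ _ ha hb => exact lam_mem_add ha hb
  | neg a _ ha => exact lam_mem_neg ha

theorem gamma_mem_of_mem_span {G : Set R} (hG : G ⊆ LProd L) {y : R} (hy : y ∈ Ideal.span G)
    (n : ℕ) (hn : 1 ≤ n) : gamma n y ∈ Ideal.span G :=
  gamma_mem_of_lam_mem (lam_mem_of_mem_span hL hG hy) n hn

end LineGen

section Aug
variable {R : Type u} [CommRing R] [LambdaOps R]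

/-- the augmentation ideal generated by the `l - 1`, `l ∈ L`. -/
def augIdeal (L : Submonoid R) : Ideal R := Ideal.span ((fun l => l - 1) '' (L : Set R))

/-- products of exactly `w` factors `(l - 1)`. -/
def Gw (L : Submonoid R) (w : ℕ) : Set R :=
  {g | ∃ ls : List R, ls.length = w ∧ (∀ l ∈ ls, l ∈ L) ∧ g = (ls.map fun l => l - 1).prod}

theorem Gw_subset_LProd (L : Submonoid R) (w : ℕ) : Gw L w ⊆ LProd L := by
  rintro g ⟨ls, -, hls, rfl⟩
  exact ⟨ls, hls, rfl⟩

theorem image_subset_LProd (L : Submonoid R) : (fun l => l - 1) '' (L : Set R) ⊆ LProd L := by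
  rintro g ⟨l, hl, rfl⟩
  exact ⟨[l], by simpa using hl, by simp⟩

theorem augIdeal_pow (L : Submonoid R) (w : ℕ) : augIdeal L ^ w = Ideal.span (Gw L w) := by
  induction w with
  | zero =>
    rw [pow_zero, Ideal.one_eq_top, eq_comm, Ideal.eq_top_iff_one]
    exact Ideal.subset_span ⟨[], rfl, by simp, by simp⟩
  | succ w ih =>
    rw [pow_succ, ih, augIdeal, Ideal.span_mul_span]
    apply le_antisymm
    · apply Ideal.span_mono
      rintro x ⟨a, ⟨ls, hlen, hls, rfl⟩, b, ⟨l, hl, rfl⟩, rfl⟩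
      refine ⟨l :: ls, by simp [hlen], ?_, ?_⟩
      · intro l' hl'
        rcases List.mem_cons.mp hl' with rfl | h
        · exact hl
        · exact hls l' h
      · simp only [List.map_cons, List.prod_cons]; ring
    · apply Ideal.span_mono
      rintro x ⟨ls, hlen, hls, rfl⟩
      rcases ls with _ | ⟨l, ls⟩
      · simp at hlen
      · refine ⟨(ls.map fun l => l - 1).prod, ⟨ls, by simpa using hlen, ?_, rfl⟩, l - 1,
          ⟨l, hls l (by simp), rfl⟩, ?_⟩
        · exact fun l' hl' => hls l' (List.mem_cons_of_mem _ hl')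
        · simp only [List.map_cons, List.prod_cons]; ring

variable {L : Submonoid R} (hL : LineGen L)
include hL

theorem lam_mem_augIdeal_pow {w : ℕ} {y : R} (hy : y ∈ augIdeal L ^ w) (n : ℕ) (hn : 1 ≤ n) :
    LambdaOps.lam n y ∈ augIdeal L ^ w := by
  rw [augIdeal_pow] at hy ⊢
  exact lam_mem_of_mem_span hL (Gw_subset_LProd L w) hy n hn

theorem gamma_mem_augIdeal_pow' {w : ℕ} {y : R} (hy : y ∈ augIdeal L ^ w) (n : ℕ) (hn : 1 ≤ n) :
    gamma n y ∈ augIdeal L ^ w :=
  gamma_mem_of_lam_mem (lam_mem_augIdeal_pow hL hy) n hn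

theorem mem_closure_sub_one {z : R} (hz : z ∈ augIdeal L) :
    z ∈ AddSubgroup.closure ((fun l => l - 1) '' (L : Set R)) := by
  have h := mem_closure_of_mem_span hL hz
  refine (AddSubgroup.closure_le _).mpr ?_ h
  rintro x ⟨l', hl', g, ⟨l, hl, rfl⟩, rfl⟩
  have : l' * (l - 1) = (l' * l - 1) - (l' - 1) := by ring
  rw [this]
  exact AddSubgroup.sub_mem _ (AddSubgroup.subset_closure ⟨l' * l, L.mul_mem hl' hl, rfl⟩)
    (AddSubgroup.subset_closure ⟨l', hl', rfl⟩)

omit hL in
/-- series whose `i`-th coefficient lies in `I^i` -/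
def GoodI (I : Ideal R) (f : R⟦X⟧) : Prop := ∀ i, coeff i f ∈ I ^ i

omit hL in
theorem goodI_one (I : Ideal R) : GoodI I (1 : R⟦X⟧) := by
  intro i
  rw [coeff_one]
  split_ifs with h
  · subst h; simp
  · exact Ideal.zero_mem _

omit hL in
theorem goodI_mul {I : Ideal R} {f g : R⟦X⟧} (hf : GoodI I f) (hg : GoodI I g) :
    GoodI I (f * g) := by
  intro i
  rw [coeff_mul]
  refine Ideal.sum_mem _ ?_
  rintro ⟨p, q⟩ hpq
  have hpq' : p + q = i := by simpa using hpq
  rw [← hpq', pow_add]
  exact Ideal.mul_mem_mul (hf p) (hg q)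

omit hL in
theorem goodI_inv {I : Ideal R} {f g : R⟦X⟧} (hf : GoodI I f) (hf0 : coeff 0 f = 1)
    (h : g * f = 1) : GoodI I g := by
  intro i
  induction i using Nat.strong_induction_on with
  | _ i ih =>
    have hc := congrArg (coeff i) h
    rw [coeff_mul, Finset.Nat.sum_antidiagonal_eq_sum_range_succ_mk, Finset.sum_range_succ,
      Nat.sub_self, hf0, mul_one] at hc
    have : coeff i g = coeff i (1 : R⟦X⟧) - ∑ p ∈ range i, coeff p g * coeff (i - p) f := by
      rw [← hc]; ring
    rw [this]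
    refine Ideal.sub_mem _ (goodI_one I i) (Ideal.sum_mem _ fun p hp => ?_)
    rw [Finset.mem_range] at hp
    have := Ideal.mul_mem_mul (ih p hp) (hf (i - p))
    rwa [← pow_add, Nat.add_sub_cancel' hp.le] at this

/-- `γ^i` maps the augmentation ideal into its `i`-th power. -/
theorem gamma_mem_augIdeal_pow {z : R} (hz : z ∈ augIdeal L) (i : ℕ) :
    gamma i z ∈ augIdeal L ^ i := by
  suffices h : GoodI (augIdeal L) (gammaSeries z) by
    have := h i
    rwa [coeff_gammaSeries] at this
  have hz' := mem_closure_sub_one hL hz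
  clear hz
  induction hz' using AddSubgroup.closure_induction with
  | mem x hx =>
    obtain ⟨l, hl, rfl⟩ := hx
    rw [gammaSeries_sub_one hL.lam_one_eq_zero l ((isLineElt_iff l).mp (hL.line l hl))]
    intro i
    rcases i with _ | _ | i
    · simp
    · simp only [zero_add, map_add, coeff_one, one_ne_zero, if_false, zero_add, pow_one]
      rw [coeff_C_mul, coeff_one_X, mul_one]
      exact Ideal.subset_span ⟨l, hl, rfl⟩
    · have : coeff (i + 1 + 1) (1 + C (l - 1) * X : R⟦X⟧) = 0 := by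
        rw [map_add, coeff_one, if_neg (by omega), coeff_C_mul, coeff_X, if_neg (by omega)]
        simp
      rw [this]
      exact Ideal.zero_mem _
  | zero => rw [gammaSeries_zero]; exact goodI_one _
  | add a b _ _ ha hb => rw [gammaSeries_add]; exact goodI_mul ha hb
  | neg a _ ha =>
    refine goodI_inv ha ?_ (gammaSeries_neg_mul a)
    rw [coeff_zero_eq_constantCoeff_apply, constantCoeff_gammaSeries]

end Aug

section FirstOrder
variable {R : Type u} [CommRing R] [LambdaOps R]

theorem pow_sub_one_sub (l : R) (n : ℕ) : ∃ c : R, l ^ n - 1 - (n : R) * (l - 1) = (l - 1) ^ 2 * c := by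
  induction n with
  | zero => exact ⟨0, by simp⟩
  | succ n ih =>
    obtain ⟨c, hc⟩ := ih
    refine ⟨l * c + n, ?_⟩
    push_cast
    linear_combination l * hc

/-- `Σ_j C(k,j) (j+1) λ^{j+1} = (k+1) γ^{k+1} - k γ^k`. -/
theorem sum_choose_succ_mul_lam (k : ℕ) (y : R) :
    ∑ j ∈ range (k + 1), (Nat.choose k j : R) * ((j + 1 : ℕ) : R) * LambdaOps.lam (j + 1) y =
      ((k + 1 : ℕ) : R) * gamma (k + 1) y - (k : R) * gamma k y := by
  rcases k with _ | k
  · simp [gamma_succ]
  · rw [gamma_succ (k + 1), gamma_succ k, Finset.mul_sum, Finset.mul_sum]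
    have hext : ∑ j ∈ range (k + 1), ((k + 1 : ℕ) : R) * ((Nat.choose k j : R) * LambdaOps.lam (j + 1) y) =
        ∑ j ∈ range (k + 1 + 1), ((k + 1 : ℕ) : R) * ((Nat.choose k j : R) * LambdaOps.lam (j + 1) y) := by
      rw [Finset.sum_range_succ _ (k + 1), Nat.choose_succ_self]
      simp
    rw [hext, ← Finset.sum_sub_distrib]
    refine Finset.sum_congr rfl fun j hj => ?_
    rw [Finset.mem_range] at hj
    have hnat := Nat.choose_mul_succ_eq k j
    have hjk : j ≤ k + 1 := by omega
    have hcast : ((Nat.choose k j : ℕ) : R) * ((k + 1 : ℕ) : R) =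
        ((Nat.choose (k + 1) j : ℕ) : R) * (((k + 1 : ℕ) : R) - (j : R)) := by
      rw [← Nat.cast_mul, hnat, Nat.cast_mul, Nat.cast_sub hjk]
    push_cast at hcast ⊢
    linear_combination (LambdaOps.lam (j + 1) y) * hcast

variable {L : Submonoid R} (hL : LineGen L)
include hL

theorem gamma_mul_line_sub {l : R} (hl' : l ∈ L) (y : R) (k : ℕ) :
    gamma (k + 1) (y * l) - gamma (k + 1) y =
      ∑ j ∈ range (k + 1), (Nat.choose k j : R) * (l ^ (j + 1) - 1) * LambdaOps.lam (j + 1) y := by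
  rw [gamma_succ, gamma_succ, ← Finset.sum_sub_distrib]
  refine Finset.sum_congr rfl fun j _ => ?_
  rw [hL.lam_mul l hl']
  ring

/-- first-order expansion of `γ^k(y (l - 1))`. -/
theorem gamma_mul_sub_one_first_order {l : R} (hl : l ∈ L) (y : R) (J : Ideal R)
    (hJ : ∀ n, 1 ≤ n → LambdaOps.lam n y ∈ J) (k : ℕ) :
    gamma (k + 1) (y * (l - 1)) -
        (l - 1) * (((k + 1 : ℕ) : R) * gamma (k + 1) y - (k : R) * gamma k y) ∈
      Ideal.span {l - 1} ^ 2 * J ⊔ Ideal.span {l - 1} * J * J := by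
  have hγJ : ∀ n, 1 ≤ n → gamma n y ∈ J := gamma_mem_of_lam_mem hJ
  have hγ1 : ∀ n, 1 ≤ n → gamma n (y * (l - 1)) ∈ Ideal.span {l - 1} * J :=
    gamma_mem_of_lam_mem (lam_mul_sub_one_mem hL hl y J hJ)
  -- (e): expansion of γ^{k+1}(y l) via additivity
  have hadd := gamma_add (k + 1) (y * (l - 1)) y
  have e : y * (l - 1) + y = y * l := by ring
  rw [e, Finset.sum_range_succ, Nat.sub_self, gamma_zero_idx, mul_one, Finset.sum_range_succ',
    gamma_zero_idx, one_mul, Nat.sub_zero] at hadd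
  -- (d): first-order part of the difference
  have hD := gamma_mul_line_sub hL hl y k
  have hfo : gamma (k + 1) (y * l) - gamma (k + 1) y -
      (l - 1) * (((k + 1 : ℕ) : R) * gamma (k + 1) y - (k : R) * gamma k y) ∈
        Ideal.span {l - 1} ^ 2 * J := by
    rw [hD, ← sum_choose_succ_mul_lam, Finset.mul_sum, ← Finset.sum_sub_distrib]
    refine Ideal.sum_mem _ fun j _ => ?_
    obtain ⟨c, hc⟩ := pow_sub_one_sub l (j + 1)
    have : (Nat.choose k j : R) * (l ^ (j + 1) - 1) * LambdaOps.lam (j + 1) y -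
        (l - 1) * ((Nat.choose k j : R) * ((j + 1 : ℕ) : R) * LambdaOps.lam (j + 1) y) =
        (l - 1) ^ 2 * ((Nat.choose k j : R) * c * LambdaOps.lam (j + 1) y) := by
      linear_combination ((Nat.choose k j : R) * LambdaOps.lam (j + 1) y) * hc
    rw [this]
    refine Ideal.mul_mem_mul (Ideal.pow_mem_pow (Ideal.mem_span_singleton_self _) 2) ?_
    exact J.mul_mem_left _ (hJ _ (by omega))
  have hmid : ∑ i ∈ range k, gamma (i + 1) (y * (l - 1)) * gamma (k + 1 - (i + 1)) y ∈
      Ideal.span {l - 1} * J * J := by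
    refine Ideal.sum_mem _ fun i hi => ?_
    rw [Finset.mem_range] at hi
    exact Ideal.mul_mem_mul (hγ1 _ (by omega)) (hγJ _ (by omega))
  have : gamma (k + 1) (y * (l - 1)) -
      (l - 1) * (((k + 1 : ℕ) : R) * gamma (k + 1) y - (k : R) * gamma k y) =
      (gamma (k + 1) (y * l) - gamma (k + 1) y -
        (l - 1) * (((k + 1 : ℕ) : R) * gamma (k + 1) y - (k : R) * gamma k y)) -
      ∑ i ∈ range k, gamma (i + 1) (y * (l - 1)) * gamma (k + 1 - (i + 1)) y := by
    linear_combination -hadd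
  rw [this]
  exact Ideal.sub_mem _ (Ideal.mem_sup_left hfo) (Ideal.mem_sup_right hmid)

end FirstOrder

section G3
variable {R : Type u} [CommRing R] [LambdaOps R]

/-- `c_w = (-1)^(w-1) (w-1)!` -/
def cw (w : ℕ) : ℤ := (-1) ^ (w - 1) * ((w - 1).factorial : ℤ)

theorem cw_one : cw 1 = 1 := by simp [cw]

theorem cw_succ (w : ℕ) (hw : 1 ≤ w) : cw (w + 1) = -(w : ℤ) * cw w := by
  obtain ⟨v, rfl⟩ : ∃ v, w = v + 1 := ⟨w - 1, by omega⟩
  simp only [cw, Nat.add_sub_cancel, Nat.factorial_succ, pow_succ]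
  push_cast
  ring

variable {L : Submonoid R} (hL : LineGen L)
include hL

omit hL in
theorem span_sub_one_le {l : R} (hl : l ∈ L) : Ideal.span {l - 1} ≤ augIdeal L :=
  Ideal.span_mono (Set.singleton_subset_iff.mpr ⟨l, hl, rfl⟩)

omit hL in
theorem mul_prod_mem_pow (w : ℕ) (ls : List R) (hlen : ls.length = w) (hls : ∀ l ∈ ls, l ∈ L)
    (a : R) : a * (ls.map fun l => l - 1).prod ∈ augIdeal L ^ w := by
  rw [augIdeal_pow]
  exact Ideal.mul_mem_left _ _ (Ideal.subset_span ⟨ls, hlen, hls, rfl⟩)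

theorem gamma_gen_congr : ∀ (w : ℕ), 1 ≤ w → ∀ (ls : List R), ls.length = w →
    (∀ l ∈ ls, l ∈ L) → ∀ l' ∈ L,
    gamma w (l' * (ls.map fun l => l - 1).prod) - (cw w : R) * (l' * (ls.map fun l => l - 1).prod) ∈
      augIdeal L ^ (w + 1) := by
  intro w hw
  induction w, hw using Nat.le_induction with
  | base =>
    intro ls _ _ l' _
    rw [gamma_one_idx, cw_one]
    simp
  | succ w hw ih =>
    intro ls hlen hls l' hl'
    rcases ls with _ | ⟨l, ls⟩
    · simp at hlen
    have hlen' : ls.length = w := by simpa using hlen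
    have hl : l ∈ L := hls l (by simp)
    have hls' : ∀ x ∈ ls, x ∈ L := fun x hx => hls x (List.mem_cons_of_mem _ hx)
    set y := l' * (ls.map fun l => l - 1).prod with hy
    have hym : y ∈ augIdeal L ^ w := mul_prod_mem_pow w ls hlen' hls' l'
    have hy1 : y ∈ augIdeal L := Ideal.pow_le_self (by omega) hym
    have e : l' * ((l :: ls).map fun l => l - 1).prod = y * (l - 1) := by
      simp only [List.map_cons, List.prod_cons, hy]; ring
    rw [e]
    have hfo := gamma_mul_sub_one_first_order hL hl y (augIdeal L ^ w)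
      (fun n hn => lam_mem_augIdeal_pow hL hym n hn) w
    have hle : Ideal.span {l - 1} ^ 2 * augIdeal L ^ w ⊔
        Ideal.span {l - 1} * augIdeal L ^ w * augIdeal L ^ w ≤ augIdeal L ^ (w + 1 + 1) := by
      refine sup_le ?_ ?_
      · calc Ideal.span {l - 1} ^ 2 * augIdeal L ^ w ≤ augIdeal L ^ 2 * augIdeal L ^ w :=
            Ideal.mul_mono_left (Ideal.pow_right_mono (span_sub_one_le hl) 2)
          _ = augIdeal L ^ (w + 1 + 1) := by rw [← pow_add]; congr 1; omega
      · calc Ideal.span {l - 1} * augIdeal L ^ w * augIdeal L ^ w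
            ≤ augIdeal L * augIdeal L ^ w * augIdeal L ^ w :=
              Ideal.mul_mono_left (Ideal.mul_mono_left (span_sub_one_le hl))
          _ = augIdeal L ^ (1 + w + w) := by rw [pow_add, pow_add, pow_one]
          _ ≤ augIdeal L ^ (w + 1 + 1) := Ideal.pow_le_pow_right (by omega)
    have h1 : (l - 1) * (((w + 1 : ℕ) : R) * gamma (w + 1) y) ∈ augIdeal L ^ (w + 1 + 1) := by
      rw [pow_succ' (augIdeal L) (w + 1)]
      exact Ideal.mul_mem_mul (span_sub_one_le hl (Ideal.mem_span_singleton_self _))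
        (Ideal.mul_mem_left _ _ (gamma_mem_augIdeal_pow hL hy1 (w + 1)))
    have h2 : (l - 1) * ((w : R) * (gamma w y - (cw w : R) * y)) ∈ augIdeal L ^ (w + 1 + 1) := by
      rw [pow_succ' (augIdeal L) (w + 1)]
      exact Ideal.mul_mem_mul (span_sub_one_le hl (Ideal.mem_span_singleton_self _))
        (Ideal.mul_mem_left _ _ (ih ls hlen' hls' l' hl'))
    have hc : ((cw (w + 1) : ℤ) : R) = -(w : R) * (cw w : R) := by
      rw [cw_succ w hw]; push_cast; ring
    have : gamma (w + 1) (y * (l - 1)) - (cw (w + 1) : R) * (y * (l - 1)) =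
        (gamma (w + 1) (y * (l - 1)) -
          (l - 1) * (((w + 1 : ℕ) : R) * gamma (w + 1) y - (w : R) * gamma w y)) +
        (l - 1) * (((w + 1 : ℕ) : R) * gamma (w + 1) y) -
        (l - 1) * ((w : R) * (gamma w y - (cw w : R) * y)) := by
      rw [hc]; ring
    rw [this]
    exact Ideal.sub_mem _ (Ideal.add_mem _ (hle hfo) h1) h2

/-- **the leading term of `γ^w` on `m^w`**. -/
theorem gamma_congr_of_mem (w : ℕ) (hw : 1 ≤ w) {y : R} (hy : y ∈ augIdeal L ^ w) :
    gamma w y - (cw w : R) * y ∈ augIdeal L ^ (w + 1) := by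
  have hle : augIdeal L ^ (w + w) ≤ augIdeal L ^ (w + 1) := Ideal.pow_le_pow_right (by omega)
  have hy' : y ∈ AddSubgroup.closure {z | ∃ l' ∈ L, ∃ g ∈ Gw L w, z = l' * g} := by
    rw [augIdeal_pow] at hy
    exact mem_closure_of_mem_span hL hy
  clear hy
  suffices h : y ∈ augIdeal L ^ w ∧ gamma w y - (cw w : R) * y ∈ augIdeal L ^ (w + 1) from h.2
  obtain ⟨v, rfl⟩ : ∃ v, w = v + 1 := ⟨w - 1, by omega⟩
  induction hy' using AddSubgroup.closure_induction with
  | mem x hx =>
    obtain ⟨l', hl', g, ⟨ls, hlen, hls, rfl⟩, rfl⟩ := hx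
    exact ⟨mul_prod_mem_pow _ ls hlen hls l', gamma_gen_congr hL _ hw ls hlen hls l' hl'⟩
  | zero =>
    refine ⟨Ideal.zero_mem _, ?_⟩
    rw [gamma_zero_arg _ hw, mul_zero, sub_zero]
    exact Ideal.zero_mem _
  | add a b _ _ ha hb =>
    refine ⟨Ideal.add_mem _ ha.1 hb.1, ?_⟩
    have hadd := gamma_add (v + 1) a b
    rw [Finset.sum_range_succ, Nat.sub_self, gamma_zero_idx, mul_one, Finset.sum_range_succ',
      gamma_zero_idx, one_mul, Nat.sub_zero] at hadd
    have hmid : ∑ i ∈ range v, gamma (i + 1) a * gamma (v + 1 - (i + 1)) b ∈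
        augIdeal L ^ (v + 1 + 1) := by
      refine hle (Ideal.sum_mem _ fun i hi => ?_)
      rw [Finset.mem_range] at hi
      rw [pow_add]
      exact Ideal.mul_mem_mul (gamma_mem_augIdeal_pow' hL ha.1 _ (by omega))
        (gamma_mem_augIdeal_pow' hL hb.1 _ (by omega))
    have : gamma (v + 1) (a + b) - (cw (v + 1) : R) * (a + b) =
        (gamma (v + 1) a - (cw (v + 1) : R) * a) + (gamma (v + 1) b - (cw (v + 1) : R) * b) +
          ∑ i ∈ range v, gamma (i + 1) a * gamma (v + 1 - (i + 1)) b := by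
      rw [hadd]; ring
    rw [this]
    exact Ideal.add_mem _ (Ideal.add_mem _ ha.2 hb.2) hmid
  | neg a _ ha =>
    refine ⟨(Ideal.neg_mem_iff _).mpr ha.1, ?_⟩
    have hadd := gamma_add (v + 1) (-a) a
    rw [neg_add_cancel, gamma_zero_arg _ hw, Finset.sum_range_succ, Nat.sub_self, gamma_zero_idx,
      mul_one, Finset.sum_range_succ', gamma_zero_idx, one_mul, Nat.sub_zero] at hadd
    have hmid : ∑ i ∈ range v, gamma (i + 1) (-a) * gamma (v + 1 - (i + 1)) a ∈
        augIdeal L ^ (v + 1 + 1) := by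
      refine hle (Ideal.sum_mem _ fun i hi => ?_)
      rw [Finset.mem_range] at hi
      rw [pow_add]
      exact Ideal.mul_mem_mul (gamma_mem_augIdeal_pow' hL ((Ideal.neg_mem_iff _).mpr ha.1) _ (by omega))
        (gamma_mem_augIdeal_pow' hL ha.1 _ (by omega))
    have : gamma (v + 1) (-a) - (cw (v + 1) : R) * (-a) =
        -(gamma (v + 1) a - (cw (v + 1) : R) * a) -
          ∑ i ∈ range v, gamma (i + 1) (-a) * gamma (v + 1 - (i + 1)) a := by
      linear_combination -hadd
    rw [this]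
    exact Ideal.sub_mem _ ((Ideal.neg_mem_iff _).mpr ha.2) hmid

end G3

end Groth.Agent.Lib.Helper25.LSp
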