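import Groth.Agent.Lib.Helper25LamRep

/-!
# The split model `ℤ[σ × Fin N]` (helper25)

`monoL`: the monomials form a line-generating submonoid of the split ring.  The model family
`xN s = Σ_a (X_{s,a} - 1)`, the shift `sh : X ↦ X + 1`, and `sh (evG xN F) = PhiN F` where `PhiN`
substitutes the elementary symmetric polynomials.
-/

set_option autoImplicit false
universe v
open LambdaRing Finset MvPolynomial

namespace Groth.Agent.Lib.Helper25.LSp

open Groth.Agent.Lib.Helper4

section MonoL
variable (τ : Type v)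

/-- the submonoid of monomials -/
def monoL : Submonoid (MvPolynomial τ ℤ) where
  carrier := Set.range fun α : τ →₀ ℕ => (monomial α (1 : ℤ))
  one_mem' := ⟨0, rfl⟩
  mul_mem' := by
    rintro _ _ ⟨a, rfl⟩ ⟨b, rfl⟩
    exact ⟨a + b, by simp [monomial_mul]⟩

variable {τ}

theorem lamSeries_mul_monomial (α : τ →₀ ℕ) (f : MvPolynomial τ ℤ) :
    lamSeries (f * monomial α (1 : ℤ)) = PowerSeries.rescale (monomial α (1 : ℤ)) (lamSeries f) := by
  induction f using sr_induction with
  | h1 β =>
    have e : monomial β (1 : ℤ) * monomial α (1 : ℤ) = monomial (β + α) (1 : ℤ) := by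
      rw [monomial_mul, one_mul]
    rw [e, lamSeries_monomial_one, lamSeries_monomial_one, ← e]
    generalize monomial α (1 : ℤ) = m
    generalize monomial β (1 : ℤ) = b
    ext n
    rw [PowerSeries.coeff_rescale, map_add, map_add, PowerSeries.coeff_C_mul, PowerSeries.coeff_C_mul]
    rcases n with _ | _ | n
    · simp
    · simp [PowerSeries.coeff_X, mul_comm]
    · simp [PowerSeries.coeff_X, PowerSeries.coeff_one]
  | h0 => rw [zero_mul, lamSeries_zero, map_one]
  | hadd f g hf hg => rw [add_mul, lamSeries_add, lamSeries_add, hf, hg, map_mul]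
  | hneg f hf =>
    have hu := isUnit_lamSeries (f * monomial α (1 : ℤ))
    apply hu.mul_left_cancel
    rw [neg_mul, lamSeries_mul_neg, hf, ← map_mul, lamSeries_mul_neg, map_one]

theorem lam_mul_monomial (α : τ →₀ ℕ) (n : ℕ) (f : MvPolynomial τ ℤ) :
    LambdaOps.lam n (f * monomial α (1 : ℤ)) = (monomial α (1 : ℤ)) ^ n * LambdaOps.lam n f := by
  have := congrArg (PowerSeries.coeff n) (lamSeries_mul_monomial α f)
  rwa [coeff_lamSeries, PowerSeries.coeff_rescale, coeff_lamSeries] at this

theorem lineGen_monoL : LineGen (monoL τ) where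
  line := by rintro _ ⟨α, rfl⟩; exact isLineElt_monomial α
  lam_mul := by rintro _ ⟨α, rfl⟩ n f; exact lam_mul_monomial α n f
  closure := closure_monomials

theorem X_mem_monoL (t : τ) : (X t : MvPolynomial τ ℤ) ∈ monoL τ := ⟨Finsupp.single t 1, rfl⟩

theorem lam_one_eq_zero_sr (k : ℕ) (hk : 2 ≤ k) : LambdaOps.lam k (1 : MvPolynomial τ ℤ) = 0 :=
  (lineGen_monoL (τ := τ)).lam_one_eq_zero k hk

/-- the shift `X ↦ X + 1` -/
noncomputable def sh : MvPolynomial τ ℤ →ₐ[ℤ] MvPolynomial τ ℤ := aeval fun t => X t + 1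

@[simp] theorem sh_X (t : τ) : sh (X t : MvPolynomial τ ℤ) = X t + 1 := by simp [sh]

theorem sh_X_sub_one (t : τ) : sh ((X t : MvPolynomial τ ℤ) - 1) = X t := by simp

end MonoL

section Model
variable (σ : Type v) (N : ℕ)

/-- the model family `x_s = Σ_a (X_{s,a} - 1)` -/
noncomputable def xN : σ → MvPolynomial (σ × Fin N) ℤ := fun s => ∑ a : Fin N, (X (s, a) - 1)

/-- substitution of elementary symmetric polynomials -/
noncomputable def PhiN : MvPolynomial (σ × ℕ) ℤ →ₐ[ℤ] MvPolynomial (σ × Fin N) ℤ :=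
  aeval fun p : σ × ℕ => rename (fun a : Fin N => (p.1, a)) (esymm (Fin N) ℤ (p.2 + 1))

theorem gammaSeries_xN (s : σ) :
    gammaSeries (xN σ N s) = ∏ a : Fin N,
      (1 + PowerSeries.C ((X (s, a) : MvPolynomial (σ × Fin N) ℤ) - 1) * PowerSeries.X) := by
  rw [xN, gammaSeries_sum]
  refine Finset.prod_congr rfl fun a _ => ?_
  exact gammaSeries_sub_one lam_one_eq_zero_sr _
    ((isLineElt_iff _).mp (lineGen_monoL.line _ (X_mem_monoL (s, a))))

theorem gamma_xN (s : σ) (k : ℕ) :
    gamma k (xN σ N s) = ∑ t ∈ (univ : Finset (Fin N)).powersetCard k,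
      ∏ a ∈ t, ((X (s, a) : MvPolynomial (σ × Fin N) ℤ) - 1) := by
  classical
  rw [← coeff_gammaSeries, gammaSeries_xN, coeff_prod_one_add_C_mul_X]

theorem sh_evG (F : MvPolynomial (σ × ℕ) ℤ) : sh (evG (xN σ N) F) = PhiN σ N F := by
  induction F using MvPolynomial.induction_on with
  | C a => simp [evG, PhiN]
  | add p q hp hq => rw [map_add, map_add, map_add, hp, hq]
  | mul_X q p hq =>
    rw [map_mul, map_mul, map_mul, hq]
    congr 1
    rw [evG_X, PhiN, aeval_X, gamma_xN, map_sum, esymm, map_sum]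
    refine Finset.sum_congr rfl fun t _ => ?_
    rw [map_prod, map_prod]
    refine Finset.prod_congr rfl fun a _ => ?_
    rw [sh_X_sub_one, rename_X]

end Model

end Groth.Agent.Lib.Helper25.LSp
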