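import Groth.Agent.Lib.Helper25LamDiv

/-!
# Elements of rank `d`: the operations `γ^p(N, x)` and the γ-filtration (helper25)

`XG ε d u i x`: `γ^j(x γ^d(u)) = γ^d(u) Δ_j` with `Δ_j ∈ Fil^{max(j-d, i)}` and
`Δ_{d+i} ≡ (-1)^{d+i-1} (d+i-1)! x` modulo `Fil^{i+1}`.  Every `x ∈ Fil^i` is such (`XG_of_mem`).
`rank_core`: the common core of S8695 and S8696.
-/

set_option autoImplicit false
universe u v
open LambdaRing Finset MvPolynomial

namespace Groth.Agent.Lib.Helper25.LSp
open Groth.Agent.Lib.Helper4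

section XG
variable {K : Type u} [CommRing K] {A : Type v} [CommRing A] [LambdaOps A]

/-- `x` is good for division of `γ^j(x γ^d(u))` by `γ^d(u)` at level `i`. -/
def XG (ε : A →+* K) (d : ℕ) (u : A) (i : ℕ) (x : A) : Prop :=
  ∃ Δ : ℕ → A, (∀ j, 1 ≤ j → gamma j (x * gamma d u) = gamma d u * Δ j) ∧
    (∀ j, 1 ≤ j → Δ j ∈ gammaFil ε (max (j - d) i)) ∧
    Δ (d + i) - (cw (d + i) : A) * x ∈ gammaFil ε (i + 1)

variable (ε : A →+* K) (d : ℕ) (hd : 1 ≤ d) (u : A) (hu : ε u = 0) (i : ℕ)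

theorem XG_zero : XG ε d u i 0 := by
  refine ⟨fun _ => 0, fun j hj => ?_, fun j _ => Ideal.zero_mem _, by simp⟩
  rw [zero_mul, gamma_zero_arg j hj, mul_zero]

include hd hu in
theorem XG_add {x x' : A} (hx : XG ε d u i x) (hx' : XG ε d u i x') : XG ε d u i (x + x') := by
  obtain ⟨Δ, h1, h2, h3⟩ := hx
  obtain ⟨Δ', h1', h2', h3'⟩ := hx'
  have hg : gamma d u ∈ gammaFil ε d := gamma_mem_gammaFil ε hu d
  have hcross : ∀ j a, a + 1 < j →
      gamma d u * (Δ (a + 1) * Δ' (j - (a + 1))) ∈ gammaFil ε (d + (max (a + 1 - d) i +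
        max (j - (a + 1) - d) i)) := fun j a ha =>
    mul_mem_gammaFil ε hg (mul_mem_gammaFil ε (h2 _ (by omega)) (h2' _ (by omega)))
  refine ⟨fun j => Δ j + Δ' j + gamma d u * ∑ a ∈ range (j - 1), Δ (a + 1) * Δ' (j - (a + 1)),
    fun j hj => ?_, fun j hj => ?_, ?_⟩
  · obtain ⟨j', rfl⟩ : ∃ j', j = j' + 1 := ⟨j - 1, by omega⟩
    rw [add_mul, gamma_add, Finset.sum_range_succ, Nat.sub_self, gamma_zero_idx, mul_one,
      Finset.sum_range_succ', gamma_zero_idx, one_mul, Nat.sub_zero, h1 _ hj, h1' _ hj]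
    beta_reduce
    rw [Nat.add_sub_cancel, Finset.mul_sum]
    have : ∀ a ∈ range j', gamma (a + 1) (x * gamma d u) * gamma (j' + 1 - (a + 1)) (x' * gamma d u) =
        gamma d u * (gamma d u * (Δ (a + 1) * Δ' (j' + 1 - (a + 1)))) := by
      intro a ha
      rw [Finset.mem_range] at ha
      rw [h1 _ (by omega), h1' _ (by omega)]
      ring
    rw [Finset.sum_congr rfl this, ← Finset.mul_sum]
    ring
  · refine Ideal.add_mem _ (Ideal.add_mem _ (h2 j hj) (h2' j hj)) ?_
    rw [Finset.mul_sum]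
    refine Ideal.sum_mem _ fun a ha => ?_
    rw [Finset.mem_range] at ha
    exact gammaFil_anti ε (by omega) (hcross j a (by omega))
  · have : Δ (d + i) + Δ' (d + i) +
        gamma d u * ∑ a ∈ range (d + i - 1), Δ (a + 1) * Δ' (d + i - (a + 1)) -
        (cw (d + i) : A) * (x + x') =
        (Δ (d + i) - (cw (d + i) : A) * x) + (Δ' (d + i) - (cw (d + i) : A) * x') +
          gamma d u * ∑ a ∈ range (d + i - 1), Δ (a + 1) * Δ' (d + i - (a + 1)) := by ring
    beta_reduce
    rw [this]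
    refine Ideal.add_mem _ (Ideal.add_mem _ h3 h3') ?_
    rw [Finset.mul_sum]
    refine Ideal.sum_mem _ fun a ha => ?_
    rw [Finset.mem_range] at ha
    exact gammaFil_anti ε (by omega) (hcross (d + i) a (by omega))

end XG

section XGsmul
variable {K : Type u} [CommRing K] [LambdaOps K] [BinomialRing K]
variable {A : Type v} [CommRing A] [LambdaOps A] [Algebra K A]

theorem XG_smul (hKb : IsBinomial K) (hA : IsSpecial A) (hKA : IsLambdaAlg K A) (ε : A →+* K)
    (d : ℕ) (hd : 1 ≤ d) (u : A) (hu : ε u = 0) (i : ℕ) (c : K) {x : A}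
    (hx : XG ε d u i x) : XG ε d u i (algebraMap K A c * x) := by
  obtain ⟨Δ, h1, h2, h3⟩ := hx
  set g := gamma d u with hg
  have hgF : g ∈ gammaFil ε d := gamma_mem_gammaFil ε hu d
  set Δser : PowerSeries A := PowerSeries.mk fun j => if j = 0 then 0 else Δ j with hΔser
  have hcoeffΔ : ∀ b, PowerSeries.coeff b Δser = if b = 0 then 0 else Δ b := fun b => by
    rw [hΔser, PowerSeries.coeff_mk]
  have hser : gammaSeries (x * g) - 1 = PowerSeries.C g * Δser := by
    ext j
    rw [map_sub, coeff_gammaSeries, PowerSeries.coeff_one, PowerSeries.coeff_C_mul, hcoeffΔ]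
    rcases j with _ | j
    · simp [gamma_zero_idx]
    · rw [if_neg (by omega), if_neg (by omega), sub_zero, h1 _ (by omega)]
  have hgΔ : ∀ b, g * PowerSeries.coeff b Δser ∈ gammaFil ε (d + max (b - d) i) := by
    intro b
    rw [hcoeffΔ]
    split_ifs with hb
    · rw [mul_zero]; exact Ideal.zero_mem _
    · exact mul_mem_gammaFil ε hgF (h2 b (by omega))
  have hstep : ∀ k, (∀ a, g ^ k * PowerSeries.coeff a (Δser ^ (k + 1)) ∈ gammaFil ε (max (a - d) i)) →
      ∀ n, g ^ (k + 1) * PowerSeries.coeff n (Δser ^ (k + 1 + 1)) ∈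
        gammaFil ε (max (max (n - d) i) (i + 1)) := by
    intro k ih n
    rw [pow_succ Δser (k + 1), PowerSeries.coeff_mul, Finset.mul_sum]
    refine Ideal.sum_mem _ ?_
    rintro ⟨a, b⟩ hab
    have hab' : a + b = n := by simpa using hab
    have : g ^ (k + 1) * (PowerSeries.coeff a (Δser ^ (k + 1)) * PowerSeries.coeff b Δser) =
        (g ^ k * PowerSeries.coeff a (Δser ^ (k + 1))) * (g * PowerSeries.coeff b Δser) := by
      rw [pow_succ]; ring
    rw [this]
    exact gammaFil_anti ε (by omega) (mul_mem_gammaFil ε (ih a) (hgΔ b))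
  have hA1 : ∀ k a, g ^ k * PowerSeries.coeff a (Δser ^ (k + 1)) ∈ gammaFil ε (max (a - d) i) := by
    intro k
    induction k with
    | zero =>
      intro a
      rw [pow_zero, one_mul, zero_add, pow_one, hcoeffΔ]
      split_ifs with ha
      · exact Ideal.zero_mem _
      · exact h2 a (by omega)
    | succ k ih =>
      intro a
      exact gammaFil_anti ε (le_max_left _ _) (hstep k ih a)
  have hA2 : ∀ k n, g ^ (k + 1) * PowerSeries.coeff n (Δser ^ (k + 1 + 1)) ∈ gammaFil ε (i + 1) :=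
    fun k n => gammaFil_anti ε (le_max_right _ _) (hstep k (hA1 k) n)
  refine ⟨fun n => ∑ k ∈ range n, algebraMap K A (Ring.choose c (k + 1)) *
    (g ^ k * PowerSeries.coeff n (Δser ^ (k + 1))), fun n hn => ?_, fun n hn => ?_, ?_⟩
  · rw [mul_assoc, gamma_algebraMap_mul hKb hA hKA, Finset.sum_range_succ', pow_zero,
      PowerSeries.coeff_one, if_neg (by omega), mul_zero, add_zero, hser, Finset.mul_sum]
    refine Finset.sum_congr rfl fun k _ => ?_
    rw [mul_pow, ← map_pow, PowerSeries.coeff_C_mul, pow_succ]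
    ring
  · exact Ideal.sum_mem _ fun k _ => Ideal.mul_mem_left _ _ (hA1 k n)
  · obtain ⟨m, hm⟩ : ∃ m, d + i = m + 1 := ⟨d + i - 1, by omega⟩
    beta_reduce
    rw [hm, Finset.sum_range_succ', ← hm]
    have e0 : algebraMap K A (Ring.choose c (0 + 1)) *
        (g ^ 0 * PowerSeries.coeff (d + i) (Δser ^ (0 + 1))) = algebraMap K A c * Δ (d + i) := by
      rw [zero_add, Ring.choose_one_right, pow_zero, one_mul, pow_one, hcoeffΔ, if_neg (by omega)]
    rw [e0]
    have : ∑ k ∈ range m, algebraMap K A (Ring.choose c (k + 1 + 1)) *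
          (g ^ (k + 1) * PowerSeries.coeff (d + i) (Δser ^ (k + 1 + 1))) +
        algebraMap K A c * Δ (d + i) - (cw (d + i) : A) * (algebraMap K A c * x) =
        ∑ k ∈ range m, algebraMap K A (Ring.choose c (k + 1 + 1)) *
          (g ^ (k + 1) * PowerSeries.coeff (d + i) (Δser ^ (k + 1 + 1))) +
        algebraMap K A c * (Δ (d + i) - (cw (d + i) : A) * x) := by ring
    rw [this]
    refine Ideal.add_mem _ (Ideal.sum_mem _ fun k _ => Ideal.mul_mem_left _ _ (hA2 k _))
      (Ideal.mul_mem_left _ _ h3)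

end XGsmul

section XGgen
variable {K : Type u} [CommRing K] {A : Type v} [CommRing A] [LambdaOps A]

theorem XG_gen (hA : IsSpecial A) (ε : A →+* K) (d : ℕ) (hd : 1 ≤ d) (u : A) (hu : ε u = 0)
    (hγu : ∀ k, d < k → gamma k u = 0) (hnz : ∀ a, gamma d u * a = 0 → a = 0)
    (i : ℕ) (l : List (ℕ × A)) (hl : ∀ p ∈ l, ε p.2 = 0) (hw : i ≤ (l.map Prod.fst).sum) :
    XG ε d u i (l.map fun p => gamma p.1 p.2).prod := by
  classical
  set M := (l.map fun p => gamma p.1 p.2).prod with hM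
  set w₀ := (l.map Prod.fst).sum with hw₀
  set g := gamma d u with hg
  set i' : PUnit.{v + 1} ⊕ ULift.{v} (Fin l.length) → ℕ :=
    Sum.elim (fun _ => d) (fun s => (l.get s.down).1) with hi'
  set y : PUnit.{v + 1} ⊕ ULift.{v} (Fin l.length) → A :=
    Sum.elim (fun _ => u) (fun s => (l.get s.down).2) with hy
  have hsum : ∑ s, i' s = d + w₀ := by
    rw [Fintype.sum_sum_type, hw₀, list_sum_eq]
    simp [hi']
  have hprod : gmon i' A y = g * M := by
    rw [gmon, Fintype.prod_sum_type, hM, list_prod_eq_gmon, gmon]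
    simp [hi', hy, hg]
  have hyε : ∀ s, ε (y s) = 0 := by
    rintro (_ | s)
    · exact hu
    · exact hl _ (List.get_mem _ _)
  have hyW : ∀ s k, gamma (k + 1) (y s) ∈ gammaFil ε (k + 1) := fun s k =>
    gamma_mem_gammaFil ε (hyε s) _
  have hyu : ∀ k, d < k → gamma k (y (Sum.inl PUnit.unit)) = 0 := hγu
  have hmodel0 : ∀ N, gmon i' (MvPolynomial ((PUnit.{v + 1} ⊕ ULift.{v} (Fin l.length)) × Fin N) ℤ)
      (xN _ N) ∈ augIdeal (monoL _) ^ (d + w₀) := by
    intro N
    rw [← hsum]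
    exact gmon_model_mem i' N
  have hvan0 : ∀ N' : PUnit.{v + 1} ⊕ ULift.{v} (Fin l.length) → ℕ, N' (Sum.inl PUnit.unit) = d - 1 →
      gmon i' (MvPolynomial (Σ s, Fin (N' s)) ℤ) (xM N') = 0 := by
    intro N' hN'
    rw [gmon]
    refine Finset.prod_eq_zero (Finset.mem_univ (Sum.inl PUnit.unit)) ?_
    simp only [hi', Sum.elim_inl]
    exact gamma_xM_eq_zero N' _ d (by omega)
  have hΓ : ∀ j, 1 ≤ j → ∃ Γ ∈ gammaFil ε (max j (d + w₀) - d), gamma j (g * M) = g * Γ := by
    intro j hj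
    have := IsOp.exists_gamma_mul (T := fun A _ _ y => gamma j (gmon i' A y))
      ((isOp_gmon i').gamma j) (Sum.inl PUnit.unit) d hd (max j (d + w₀))
      (fun N => by
        beta_reduce
        rcases le_total j (d + w₀) with h | h
        · rw [max_eq_right h]
          exact gamma_mem_augIdeal_pow' lineGen_monoL (hmodel0 N) j hj
        · rw [max_eq_left h]
          exact gamma_mem_augIdeal_pow lineGen_monoL
            (Ideal.pow_le_self (by omega) (hmodel0 N)) j)
      (fun N' hN' => by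
        beta_reduce
        rw [hvan0 N' hN', gamma_zero_arg j hj])
      hA (mulFil_gammaFil ε) (antitone_gammaFil ε) y hyW hyu
    obtain ⟨Γ, h1, h2⟩ := this
    exact ⟨Γ, h1, by rw [← hprod]; exact h2⟩
  choose! Γ hΓ1 hΓ2 using hΓ
  refine ⟨Γ, fun j hj => ?_, fun j hj => ?_, ?_⟩
  · rw [mul_comm, hΓ2 j hj]
  · exact gammaFil_anti ε (by omega) (hΓ1 j hj)
  · have hMmem : M ∈ gammaFil ε w₀ := Ideal.subset_span ⟨l, hl, le_rfl, rfl⟩
    rcases Nat.lt_or_ge i w₀ with hlt | hge
    · refine Ideal.sub_mem _ (gammaFil_anti ε (by omega) (hΓ1 (d + i) (by omega)))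
        (Ideal.mul_mem_left _ _ (gammaFil_anti ε (by omega) hMmem))
    · have hwi : w₀ = i := le_antisymm hge hw
      have := IsOp.exists_gamma_mul
        (T := fun A _ _ y => gamma (d + i) (gmon i' A y) - ((cw (d + i) : ℤ) : A) * gmon i' A y)
        (((isOp_gmon i').gamma _).sub ((isOp_intCast _).mul (isOp_gmon i')))
        (Sum.inl PUnit.unit) d hd (d + i + 1)
        (fun N => by
          beta_reduce
          have h0 := hmodel0 N
          rw [hwi] at h0
          exact gamma_congr_of_mem lineGen_monoL (d + i) (by omega) h0)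
        (fun N' hN' => by
          beta_reduce
          rw [hvan0 N' hN', gamma_zero_arg _ (by omega), mul_zero, sub_zero])
        hA (mulFil_gammaFil ε) (antitone_gammaFil ε) y hyW hyu
      obtain ⟨Γ', hΓ'1, hΓ'2⟩ := this
      have hΓ'2' : gamma (d + i) (g * M) - (cw (d + i) : A) * (g * M) = g * Γ' := by
        rw [← hprod]; exact hΓ'2
      have hcancel : Γ (d + i) - (cw (d + i) : A) * M = Γ' := by
        rw [sub_eq_iff_eq_add]
        have h1 := hΓ2 (d + i) (by omega)
        have : g * (Γ (d + i) - (Γ' + (cw (d + i) : A) * M)) = 0 := by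
          linear_combination (-1 : A) * h1 + hΓ'2'
        exact sub_eq_zero.mp (hnz _ this)
      rw [hcancel]
      exact gammaFil_anti ε (by omega) hΓ'1

end XGgen

section XGmain
variable {K : Type u} [CommRing K] [LambdaOps K] [BinomialRing K]
variable {A : Type v} [CommRing A] [LambdaOps A] [Algebra K A]

theorem XG_of_mem (hKb : IsBinomial K) (hA : IsSpecial A) (ε : A →ₐ[K] K)
    (hε : IsAugLambdaAlg K A ε) (d : ℕ) (hd : 1 ≤ d) (u : A) (hu : ε u = 0)
    (hγu : ∀ k, d < k → gamma k u = 0) (hnz : ∀ a, gamma d u * a = 0 → a = 0)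
    (i : ℕ) {x : A} (hx : x ∈ gammaFil (ε : A →+* K) i) : XG (ε : A →+* K) d u i x := by
  suffices h : ∀ a : A, XG (ε : A →+* K) d u i (a * x) by simpa using h 1
  rw [gammaFil] at hx
  induction hx using Submodule.span_induction with
  | mem x hx =>
    obtain ⟨l, hl, hw, rfl⟩ := hx
    intro a
    set M := (l.map fun p => gamma p.1 p.2).prod with hM
    set a' := a - algebraMap K A (ε a) with ha'
    have hεa' : (ε : A →+* K) a' = 0 := by
      show ε a' = 0
      rw [ha', map_sub, AlgHom.commutes, Algebra.algebraMap_self_apply, sub_self]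
    have hsplit : a * M = algebraMap K A (ε a) * M + a' * M := by rw [ha']; ring
    have hl' : ∀ p ∈ (1, a') :: l, (ε : A →+* K) p.2 = 0 := by
      intro p hp
      rcases List.mem_cons.mp hp with rfl | h
      · exact hεa'
      · exact hl p h
    have e1 : (((1, a') :: l).map fun p => gamma p.1 p.2).prod = a' * M := by
      rw [List.map_cons, List.prod_cons, gamma_one_idx]
    have e2 : (((1, a') :: l).map Prod.fst).sum = 1 + (l.map Prod.fst).sum := by
      rw [List.map_cons, List.sum_cons]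
    rw [hsplit]
    refine XG_add (ε : A →+* K) d hd u hu i ?_ ?_
    · exact XG_smul hKb hA hε.isLambdaAlg (ε : A →+* K) d hd u hu i _
        (XG_gen hA (ε : A →+* K) d hd u hu hγu hnz i l hl hw)
    · rw [← e1]
      exact XG_gen hA (ε : A →+* K) d hd u hu hγu hnz i _ hl' (by rw [e2]; omega)
  | zero => intro a; rw [mul_zero]; exact XG_zero (ε : A →+* K) d u i
  | add x y _ _ hx hy =>
    intro a; rw [mul_add]; exact XG_add (ε : A →+* K) d hd u hu i (hx a) (hy a)
  | smul b x _ hx => intro a; rw [smul_eq_mul, ← mul_assoc]; exact hx (a * b)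

/-- common core of S8695 and S8696 -/
theorem rank_core (hKb : IsBinomial K) (hA : IsSpecial A) (ε : A →ₐ[K] K)
    (hε : IsAugLambdaAlg K A ε) (d : ℕ) (hd : 1 ≤ d) (N : A)
    (hN : ∀ k : ℕ, d < k → LambdaOps.lam k N = 0) (hNε : ε N = (d : K))
    (hnzd : (∑ j ∈ range (d + 1), (-1 : A) ^ j * LambdaOps.lam j N) ∈ nonZeroDivisors A)
    (i : ℕ) (x : A) (hx : x ∈ gammaFil (ε : A →+* K) i) (p : ℕ) (hp : 1 ≤ p) (y : A)
    (hy : y * (∑ j ∈ range (d + 1), (-1 : A) ^ j * LambdaOps.lam j N) =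
      gamma p (x * (∑ j ∈ range (d + 1), (-1 : A) ^ j * LambdaOps.lam j N))) :
    y ∈ gammaFil (ε : A →+* K) (max (p - d) i) ∧
      (p = d + i → y - (cw (d + i) : A) * x ∈ gammaFil (ε : A →+* K) (i + 1)) := by
  have h1 := hA.lam_one_eq_zero
  set u := N - (d : A) with hu'
  have hu : ε u = 0 := by rw [hu', map_sub, hNε, map_natCast, sub_self]
  have hγu : ∀ k, d < k → gamma k u = 0 := fun k hk => gamma_sub_natCast_eq_zero h1 N d hN k hk
  have hL := lamAlt_eq h1 N d hN
  rw [hL] at hy hnzd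
  have hsq : (-1 : A) ^ d * (-1 : A) ^ d = 1 := by
    rw [← pow_add, ← two_mul, pow_mul]; simp
  have hnz : ∀ a, gamma d u * a = 0 → a = 0 := by
    intro a ha
    refine (mul_left_mem_nonZeroDivisors_eq_zero_iff hnzd).mp ?_
    rw [mul_assoc, ha, mul_zero]
  have hx' : (-1 : A) ^ d * x ∈ gammaFil (ε : A →+* K) i := Ideal.mul_mem_left _ _ hx
  obtain ⟨Δ, hΔ1, hΔ2, hΔ3⟩ := XG_of_mem hKb hA ε hε d hd u hu hγu hnz i hx'
  have hyΔ : (-1 : A) ^ d * y = Δ p := by
    have h2 := hΔ1 p hp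
    have e : x * ((-1 : A) ^ d * gamma d u) = (-1 : A) ^ d * x * gamma d u := by ring
    rw [e, h2] at hy
    have : gamma d u * ((-1 : A) ^ d * y - Δ p) = 0 := by
      linear_combination hy
    exact sub_eq_zero.mp (hnz _ this)
  have hy_eq : y = (-1 : A) ^ d * Δ p := by
    rw [← hyΔ, ← mul_assoc, hsq, one_mul]
  refine ⟨?_, fun hpe => ?_⟩
  · rw [hy_eq]
    exact Ideal.mul_mem_left _ _ (hΔ2 p hp)
  · subst hpe
    have : y - (cw (d + i) : A) * x =
        (-1 : A) ^ d * (Δ (d + i) - (cw (d + i) : A) * ((-1 : A) ^ d * x)) := by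
      rw [hy_eq]
      linear_combination ((cw (d + i) : A) * x) * hsq
    rw [this]
    exact Ideal.mul_mem_left _ _ hΔ3

end XGmain

end Groth.Agent.Lib.Helper25.LSp
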