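import Groth.Agent.Lib.Helper25LamLine

/-!
# Universal representation of λ-operations on polynomials in the `λ^k(x_s)` (helper25)

For a family `x : σ → A` in a special λ-ring, `evL x : ℤ[X_{s,k}] → A` sends `X_{s,k} ↦ λ^{k+1}(x_s)`
and `evG x` sends it to `γ^{k+1}(x_s)`.  For every polynomial `F` there are polynomials `F' n`,
independent of `A` and `x`, with `λ^n(evL x F) = evL x (F' n)`; likewise for `γ`.
-/

set_option autoImplicit false
universe v
open LambdaRing Finset MvPolynomial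

namespace Groth.Agent.Lib.Helper25.LSp

section Binom
variable {R : Type v} [CommRing R]

/-- binomial transform -/
def binomT (a : ℕ → R) (k : ℕ) : R := ∑ j ∈ range (k + 1), (Nat.choose k j : R) * a j

/-- inverse binomial transform -/
def binomTinv (b : ℕ → R) (k : ℕ) : R :=
  ∑ j ∈ range (k + 1), (-1 : R) ^ (k + j) * (Nat.choose k j : R) * b j

theorem binomT_succ (a : ℕ → R) (k : ℕ) :
    binomT a (k + 1) - binomT a k = binomT (fun j => a (j + 1)) k := by
  unfold binomT
  rw [Finset.sum_range_succ' _ (k + 1)]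
  have h1 : ∑ j ∈ range (k + 1), ((k + 1).choose (j + 1) : R) * a (j + 1) =
      ∑ j ∈ range (k + 1), (k.choose j : R) * a (j + 1) +
        ∑ j ∈ range (k + 1), (k.choose (j + 1) : R) * a (j + 1) := by
    rw [← Finset.sum_add_distrib]
    refine Finset.sum_congr rfl fun j _ => ?_
    rw [Nat.choose_succ_succ]; push_cast; ring
  have h2 : ∑ j ∈ range (k + 1), (k.choose j : R) * a j =
      ∑ j ∈ range (k + 1), (k.choose (j + 1) : R) * a (j + 1) + a 0 := by
    have := Finset.sum_range_succ' (fun j => (k.choose j : R) * a j) (k + 1)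
    rw [Finset.sum_range_succ, Nat.choose_succ_self] at this
    simp only [Nat.cast_zero, zero_mul, add_zero, Nat.choose_zero_right, Nat.cast_one, one_mul] at this
    exact this
  rw [h1, h2]
  simp

theorem binomTinv_succ (b : ℕ → R) (k : ℕ) :
    binomTinv b (k + 1) = binomTinv (fun j => b (j + 1) - b j) k := by
  unfold binomTinv
  rw [Finset.sum_range_succ' _ (k + 1)]
  have h1 : ∑ j ∈ range (k + 1), (-1 : R) ^ (k + 1 + (j + 1)) * ((k + 1).choose (j + 1) : R) * b (j + 1) =
      ∑ j ∈ range (k + 1), (-1 : R) ^ (k + j) * (k.choose j : R) * b (j + 1) +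
        ∑ j ∈ range (k + 1), (-1 : R) ^ (k + j) * (k.choose (j + 1) : R) * b (j + 1) := by
    rw [← Finset.sum_add_distrib]
    refine Finset.sum_congr rfl fun j _ => ?_
    rw [Nat.choose_succ_succ]
    have : k + 1 + (j + 1) = (k + j) + 2 := by ring
    rw [this, pow_add]; push_cast; ring
  have h2 : ∑ j ∈ range (k + 1), (-1 : R) ^ (k + j) * (k.choose j : R) * b j =
      -∑ j ∈ range (k + 1), (-1 : R) ^ (k + j) * (k.choose (j + 1) : R) * b (j + 1) +
        (-1 : R) ^ k * b 0 := by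
    have := Finset.sum_range_succ' (fun j => (-1 : R) ^ (k + j) * (k.choose j : R) * b j) (k + 1)
    rw [Finset.sum_range_succ, Nat.choose_succ_self] at this
    simp only [Nat.cast_zero, mul_zero, zero_mul, add_zero, Nat.choose_zero_right, Nat.cast_one,
      mul_one] at this
    rw [this, ← Finset.sum_neg_distrib]
    congr 1
    refine Finset.sum_congr rfl fun j _ => ?_
    have : k + (j + 1) = (k + j) + 1 := by ring
    rw [this, pow_succ]; ring
  simp only [mul_sub, Finset.sum_sub_distrib]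
  rw [h1, h2]
  have : (-1 : R) ^ (k + 1 + 0) * ((k + 1).choose 0 : R) * b 0 = -((-1 : R) ^ k * b 0) := by
    simp [pow_succ]
  rw [this]
  ring

theorem binomTinv_binomT (a : ℕ → R) (k : ℕ) : binomTinv (binomT a) k = a k := by
  induction k generalizing a with
  | zero => simp [binomTinv, binomT]
  | succ k ih =>
    rw [binomTinv_succ]
    have : (fun j => binomT a (j + 1) - binomT a j) = binomT (fun j => a (j + 1)) := by
      funext j; exact binomT_succ a j
    rw [this, ih]

end Binom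

section GammaLam
variable {R : Type v} [CommRing R] [LambdaOps R]

theorem gamma_succ_eq_binomT (y : R) (k : ℕ) :
    gamma (k + 1) y = binomT (fun j => LambdaOps.lam (j + 1) y) k := gamma_succ k y

/-- binomial inversion: `λ^{k+1} = Σ_j (-1)^{k+j} C(k,j) γ^{j+1}`. -/
theorem lam_succ_eq_sum_gamma (y : R) (k : ℕ) :
    LambdaOps.lam (k + 1) y =
      ∑ j ∈ range (k + 1), (-1 : R) ^ (k + j) * (Nat.choose k j : R) * gamma (j + 1) y := by
  have := binomTinv_binomT (fun j => LambdaOps.lam (j + 1) y) k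
  rw [← this]
  unfold binomTinv
  refine Finset.sum_congr rfl fun j _ => ?_
  rw [gamma_succ_eq_binomT]

end GammaLam

section Ev
variable {σ : Type v}

/-- evaluation `X_{s,k} ↦ λ^{k+1}(x_s)` -/
noncomputable def evL {A : Type v} [CommRing A] [LambdaOps A] (x : σ → A) :
    MvPolynomial (σ × ℕ) ℤ →ₐ[ℤ] A :=
  aeval fun p : σ × ℕ => LambdaOps.lam (p.2 + 1) (x p.1)

/-- evaluation `X_{s,k} ↦ γ^{k+1}(x_s)` -/
noncomputable def evG {A : Type v} [CommRing A] [LambdaOps A] (x : σ → A) :
    MvPolynomial (σ × ℕ) ℤ →ₐ[ℤ] A :=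
  aeval fun p : σ × ℕ => gamma (p.2 + 1) (x p.1)

/-- change of coordinates `γ → λ` -/
noncomputable def toLam : MvPolynomial (σ × ℕ) ℤ →ₐ[ℤ] MvPolynomial (σ × ℕ) ℤ :=
  aeval fun p : σ × ℕ => ∑ j ∈ range (p.2 + 1), (Nat.choose p.2 j : MvPolynomial (σ × ℕ) ℤ) * X (p.1, j)

/-- change of coordinates `λ → γ` -/
noncomputable def toGam : MvPolynomial (σ × ℕ) ℤ →ₐ[ℤ] MvPolynomial (σ × ℕ) ℤ :=
  aeval fun p : σ × ℕ => ∑ j ∈ range (p.2 + 1),
    (-1 : MvPolynomial (σ × ℕ) ℤ) ^ (p.2 + j) * (Nat.choose p.2 j : MvPolynomial (σ × ℕ) ℤ) * X (p.1, j)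

variable {A : Type v} [CommRing A] [LambdaOps A] (x : σ → A)

@[simp] theorem evL_X (p : σ × ℕ) : evL x (X p) = LambdaOps.lam (p.2 + 1) (x p.1) := by
  simp [evL]

@[simp] theorem evG_X (p : σ × ℕ) : evG x (X p) = gamma (p.2 + 1) (x p.1) := by
  simp [evG]

theorem evL_toLam (F : MvPolynomial (σ × ℕ) ℤ) : evL x (toLam F) = evG x F := by
  rw [toLam, comp_aeval_apply, evG]
  congr 1
  apply MvPolynomial.algHom_ext
  intro p
  rw [aeval_X, aeval_X, map_sum, gamma_succ]
  refine Finset.sum_congr rfl fun j _ => ?_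
  rw [map_mul, evL_X, map_natCast]

theorem evG_toGam (F : MvPolynomial (σ × ℕ) ℤ) : evG x (toGam F) = evL x F := by
  rw [toGam, comp_aeval_apply, evL]
  congr 1
  apply MvPolynomial.algHom_ext
  intro p
  rw [aeval_X, aeval_X, map_sum, lam_succ_eq_sum_gamma]
  refine Finset.sum_congr rfl fun j _ => ?_
  rw [map_mul, map_mul, evG_X, map_natCast, map_pow, map_neg, map_one]

end Ev

section Rep
variable {σ : Type v}

open Groth.Agent.Lib.Helper4 in
theorem lam_neg_one {A : Type v} [CommRing A] [LambdaOps A] (hA : IsSpecial A) (n : ℕ) :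
    LambdaOps.lam n (-1 : A) = (-1) ^ n := by
  have h1 : lamSeries (1 : A) = 1 + PowerSeries.C (1 : A) * PowerSeries.X := by
    rw [lamSeries_one hA.lam_one_eq_zero]; simp
  have h2 : lamSeries (-1 : A) = PowerSeries.mk (fun k => (-1 : A) ^ k) := by
    have hu := isUnit_lamSeries (1 : A)
    apply hu.mul_left_cancel
    rw [lamSeries_mul_neg, h1, inv_line_series]
  have := congrArg (PowerSeries.coeff n) h2
  rwa [coeff_lamSeries, PowerSeries.coeff_mk] at this

/-- `F'` represents `λ^n ∘ F` universally. -/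
def IsRep (F : MvPolynomial (σ × ℕ) ℤ) (F' : ℕ → MvPolynomial (σ × ℕ) ℤ) : Prop :=
  ∀ (A : Type v) [CommRing A] [LambdaOps A], IsSpecial A → ∀ (x : σ → A) (n : ℕ),
    LambdaOps.lam n (evL x F) = evL x (F' n)

theorem isRep_zero : IsRep (0 : MvPolynomial (σ × ℕ) ℤ) (fun n => if n = 0 then 1 else 0) := by
  intro A _ _ hA x n
  beta_reduce
  rw [map_zero]
  split_ifs with h
  · subst h; rw [LambdaOps.lam_zero, map_one]
  · rw [lam_zero_arg n (by omega), map_zero]

theorem isRep_one : IsRep (1 : MvPolynomial (σ × ℕ) ℤ) (fun n => if n ≤ 1 then 1 else 0) := by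
  intro A _ _ hA x n
  beta_reduce
  rw [map_one]
  split_ifs with h
  · rw [map_one]
    rcases n with _ | _ | n
    · exact LambdaOps.lam_zero _
    · exact LambdaOps.lam_one _
    · omega
  · rw [map_zero]
    exact hA.lam_one_eq_zero n (by omega)

theorem isRep_neg_one : IsRep (-1 : MvPolynomial (σ × ℕ) ℤ) (fun n => (-1) ^ n) := by
  intro A _ _ hA x n
  rw [map_neg, map_one, lam_neg_one hA, map_pow, map_neg, map_one]

theorem isRep_add {F G : MvPolynomial (σ × ℕ) ℤ} {F' G' : ℕ → MvPolynomial (σ × ℕ) ℤ}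
    (hF : IsRep F F') (hG : IsRep G G') :
    IsRep (F + G) (fun n => ∑ i ∈ range (n + 1), F' i * G' (n - i)) := by
  intro A _ _ hA x n
  rw [map_add, LambdaOps.lam_add, map_sum]
  refine Finset.sum_congr rfl fun i _ => ?_
  rw [map_mul, hF A hA x i, hG A hA x (n - i)]

open Groth.Agent.Lib.Helper4.MulPoly in
/-- a choice of the universal polynomial `P_n`. -/
noncomputable def Pn (n : ℕ) : MvPolynomial (Fin n ⊕ Fin n) ℤ := (exists_isMulPoly (n := n)).choose

open Groth.Agent.Lib.Helper4.MulPoly in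
theorem Pn_spec (n : ℕ) : IsMulPoly n (Pn n) := (exists_isMulPoly (n := n)).choose_spec

open Groth.Agent.Lib.Helper4.SymPoly in
/-- a choice of the universal polynomial `Q_{i,j}`. -/
noncomputable def Qij (i j : ℕ) : MvPolynomial (Fin (i * j)) ℤ := (exists_isCompPoly i j).choose

open Groth.Agent.Lib.Helper4.SymPoly in
theorem Qij_spec (i j : ℕ) : IsCompPoly i j (Qij i j) := (exists_isCompPoly i j).choose_spec

theorem isRep_mul {F G : MvPolynomial (σ × ℕ) ℤ} {F' G' : ℕ → MvPolynomial (σ × ℕ) ℤ}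
    (hF : IsRep F F') (hG : IsRep G G') :
    IsRep (F * G) (fun n => aeval (Sum.elim (fun k : Fin n => F' ((k : ℕ) + 1))
      (fun k : Fin n => G' ((k : ℕ) + 1))) (Pn n)) := by
  intro A _ _ hA x n
  rw [map_mul, hA.lam_mul n (Pn n) (Pn_spec n), comp_aeval_apply]
  refine congrArg (fun f => aeval f (Pn n)) ?_
  funext i
  rcases i with k | k
  · simp only [Sum.elim_inl]; exact hF A hA x _
  · simp only [Sum.elim_inr]; exact hG A hA x _

theorem isRep_X (p : σ × ℕ) :
    IsRep (X p : MvPolynomial (σ × ℕ) ℤ)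
      (fun n => aeval (fun i : Fin ((p.2 + 1) * n) => (X (p.1, (i : ℕ)) : MvPolynomial (σ × ℕ) ℤ))
        (Qij (p.2 + 1) n)) := by
  intro A _ _ hA x n
  rw [evL_X, hA.lam_lam (p.2 + 1) n (Qij (p.2 + 1) n) (Qij_spec _ _), comp_aeval_apply]
  refine congrArg (fun f => aeval f (Qij (p.2 + 1) n)) ?_
  funext i
  rw [evL_X]

theorem exists_isRep (F : MvPolynomial (σ × ℕ) ℤ) : ∃ F', IsRep F F' := by
  induction F using MvPolynomial.induction_on with
  | C a =>
    induction a using Int.induction_on with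
    | zero =>
      rw [C_0]
      exact ⟨_, isRep_zero⟩
    | succ i ih =>
      obtain ⟨F', hF'⟩ := ih
      rw [C_add, C_1]
      exact ⟨_, isRep_add hF' isRep_one⟩
    | pred i ih =>
      obtain ⟨F', hF'⟩ := ih
      have e : (C (-(i : ℤ) - 1) : MvPolynomial (σ × ℕ) ℤ) = C (-(i : ℤ)) + (-1) := by
        rw [sub_eq_add_neg, C_add, C_neg (σ := σ × ℕ) (1 : ℤ), C_1]
      rw [e]
      exact ⟨_, isRep_add hF' isRep_neg_one⟩
  | add p q hp hq =>
    obtain ⟨p', hp'⟩ := hp
    obtain ⟨q', hq'⟩ := hq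
    exact ⟨_, isRep_add hp' hq'⟩
  | mul_X p i hp =>
    obtain ⟨p', hp'⟩ := hp
    exact ⟨_, isRep_mul hp' (isRep_X i)⟩

/-- γ-version: for every polynomial `F` in the `γ^k(x_s)` there are polynomials `F' n` with
`γ^n(evG x F) = evG x (F' n)` in every special λ-ring. -/
theorem exists_isRepG (F : MvPolynomial (σ × ℕ) ℤ) :
    ∃ F' : ℕ → MvPolynomial (σ × ℕ) ℤ, ∀ (A : Type v) [CommRing A] [LambdaOps A], IsSpecial A →
      ∀ (x : σ → A) (n : ℕ), gamma n (evG x F) = evG x (F' n) := by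
  obtain ⟨F₁, hF₁⟩ := exists_isRep (toLam F)
  refine ⟨fun n => if n = 0 then 1 else
    toGam (∑ j ∈ range n, (Nat.choose (n - 1) j : MvPolynomial (σ × ℕ) ℤ) * F₁ (j + 1)), ?_⟩
  intro A _ _ hA x n
  rcases n with _ | n
  · simp [gamma_zero_idx]
  · beta_reduce
    rw [if_neg (Nat.succ_ne_zero n), evG_toGam, ← evL_toLam, gamma_succ, map_sum]
    refine Finset.sum_congr rfl fun j _ => ?_
    rw [map_mul, map_natCast, hF₁ A hA x (j + 1)]
    simp

end Rep

end Groth.Agent.Lib.Helper25.LSp
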