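import Groth.Prelude.Def_LambdaRing
import Mathlib

/-!
# λ-rings: the series `λ_t`, `γ_t` (helper4)

Basic power-series calculus for the frozen definitions of `Def_LambdaRing`:
`lamSeries (x + y) = lamSeries x * lamSeries y`, `gammaSeries x = (lamSeries x).subst (X/(1-X))`,
`gammaSeries (x + y) = gammaSeries x * gammaSeries y`.
-/

namespace Groth.Agent.Lib.Helper4
open PowerSeries LambdaRing Finset

section Tau

variable (K : Type*) [CommRing K]

/-- The power series `X / (1 - X) = X + X^2 + ...`. -/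
noncomputable def tau : K⟦X⟧ := X * PowerSeries.mk 1

variable {K}

theorem hasSubst_tau : HasSubst (tau K) :=
  HasSubst.of_constantCoeff_zero' (by simp [tau])

theorem tau_mul_one_sub : tau K * (1 - X) = X := by
  rw [tau, mul_assoc, mk_one_mul_one_sub_eq_one, mul_one]

theorem one_add_tau_mul_one_sub : (1 + tau K) * (1 - X) = 1 := by
  rw [add_mul, tau_mul_one_sub]; ring

theorem coeff_tau_pow_succ (d k : ℕ) :
    coeff k ((tau K) ^ (d + 1)) = if k = 0 then 0 else ((k - 1).choose d : K) := by
  rw [tau, mul_pow, mk_one_pow_eq_mk_choose_add, coeff_X_pow_mul']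
  split_ifs with h1 h2 h2
  · omega
  · rw [coeff_mk]
    congr 2
    omega
  · rfl
  · symm
    have : (k - 1).choose d = 0 := Nat.choose_eq_zero_of_lt (by omega)
    simp [this]

end Tau

variable {K : Type*} [CommRing K] [LambdaOps K]

@[simp] theorem coeff_lamSeries (n : ℕ) (x : K) : coeff n (lamSeries x) = LambdaOps.lam n x := by
  simp [lamSeries]

theorem lamSeries_add (x y : K) : lamSeries (x + y) = lamSeries x * lamSeries y := by
  ext n
  rw [coeff_mul, coeff_lamSeries, LambdaOps.lam_add,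
    Finset.Nat.sum_antidiagonal_eq_sum_range_succ_mk]
  simp

@[simp] theorem constantCoeff_lamSeries (x : K) : constantCoeff (lamSeries x) = 1 := by
  rw [← coeff_zero_eq_constantCoeff_apply, coeff_lamSeries, LambdaOps.lam_zero]

theorem isUnit_lamSeries (x : K) : IsUnit (lamSeries x) := by
  rw [PowerSeries.isUnit_iff_constantCoeff]; simp

@[simp] theorem lamSeries_zero : lamSeries (0 : K) = 1 := by
  have h := lamSeries_add (0 : K) 0
  rw [add_zero] at h
  have hu := isUnit_lamSeries (0 : K)
  exact (hu.mul_left_cancel (by rw [← h, mul_one])).symm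

theorem lamSeries_neg_mul (x : K) : lamSeries (-x) * lamSeries x = 1 := by
  rw [← lamSeries_add, neg_add_cancel, lamSeries_zero]

theorem lamSeries_mul_neg (x : K) : lamSeries x * lamSeries (-x) = 1 := by
  rw [mul_comm, lamSeries_neg_mul]

theorem lamSeries_sub_mul (x y : K) : lamSeries (x - y) * lamSeries y = lamSeries x := by
  rw [← lamSeries_add, sub_add_cancel]

theorem lamSeries_sum {ι : Type*} (s : Finset ι) (f : ι → K) :
    lamSeries (∑ i ∈ s, f i) = ∏ i ∈ s, lamSeries (f i) := by
  classical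
  induction s using Finset.induction_on with
  | empty => simp
  | insert a s ha ih => rw [sum_insert ha, prod_insert ha, lamSeries_add, ih]

theorem lamSeries_multiset_sum (s : Multiset K) :
    lamSeries s.sum = (s.map lamSeries).prod := by
  induction s using Multiset.induction_on with
  | empty => simp
  | cons a s ih => rw [Multiset.sum_cons, Multiset.map_cons, Multiset.prod_cons, lamSeries_add, ih]

theorem lamSeries_one (h1 : ∀ k : ℕ, 2 ≤ k → LambdaOps.lam k (1 : K) = 0) :
    lamSeries (1 : K) = 1 + X := by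
  ext n
  rw [coeff_lamSeries]
  rcases n with _ | _ | n
  · simp [LambdaOps.lam_zero]
  · simp [LambdaOps.lam_one]
  · rw [h1 _ (by omega)]
    simp [coeff_one, coeff_X]

theorem lamSeries_natCast (h1 : ∀ k : ℕ, 2 ≤ k → LambdaOps.lam k (1 : K) = 0) (n : ℕ) :
    lamSeries (n : K) = (1 + X) ^ n := by
  induction n with
  | zero => simp
  | succ n ih => rw [Nat.cast_succ, lamSeries_add, ih, lamSeries_one h1, pow_succ]

theorem lamSeries_of_lam_eq_zero (y : K) (hy : ∀ j : ℕ, 2 ≤ j → LambdaOps.lam j y = 0) :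
    lamSeries y = 1 + C y * X := by
  ext n
  rw [coeff_lamSeries]
  rcases n with _ | _ | n
  · simp [LambdaOps.lam_zero]
  · simp [LambdaOps.lam_one]
  · rw [hy _ (by omega)]
    simp [coeff_one]

/-- The γ-series `γ_t(x) = Σ γ^k(x) t^k`. -/
def gammaSeries (x : K) : K⟦X⟧ := PowerSeries.mk fun k => gamma k x

@[simp] theorem coeff_gammaSeries (n : ℕ) (x : K) : coeff n (gammaSeries x) = gamma n x := by
  simp [gammaSeries]

theorem gammaSeries_eq_subst (x : K) : gammaSeries x = (lamSeries x).subst (tau K) := by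
  ext k
  rw [coeff_gammaSeries, coeff_subst' hasSubst_tau]
  rw [finsum_eq_sum_of_support_subset (s := range (k + 1))]
  · rcases k with _ | k
    · rw [gamma, if_pos rfl, sum_range_one]
      simp [LambdaOps.lam_zero]
    · rw [gamma, if_neg (by omega)]
      refine sum_congr rfl fun j hj => ?_
      rcases j with _ | j
      · simp
      · rw [coeff_tau_pow_succ, if_neg (by omega), if_neg (by omega), coeff_lamSeries, smul_eq_mul,
          mul_comm]
        simp
  · intro d hd
    simp only [Function.mem_support, ne_eq] at hd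
    simp only [coe_range, Set.mem_Iio]
    by_contra hlt
    apply hd
    rcases d with _ | d
    · omega
    · rw [coeff_tau_pow_succ]
      split_ifs with h
      · simp
      · have : (k - 1).choose d = 0 := Nat.choose_eq_zero_of_lt (by omega)
        simp [this]

theorem gammaSeries_add (x y : K) : gammaSeries (x + y) = gammaSeries x * gammaSeries y := by
  rw [gammaSeries_eq_subst, gammaSeries_eq_subst, gammaSeries_eq_subst, lamSeries_add,
    subst_mul hasSubst_tau]

@[simp] theorem constantCoeff_gammaSeries (x : K) : constantCoeff (gammaSeries x) = 1 := by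
  rw [← coeff_zero_eq_constantCoeff_apply, coeff_gammaSeries, gamma, if_pos rfl]

theorem isUnit_gammaSeries (x : K) : IsUnit (gammaSeries x) := by
  rw [PowerSeries.isUnit_iff_constantCoeff]; simp

@[simp] theorem gammaSeries_zero : gammaSeries (0 : K) = 1 := by
  rw [gammaSeries_eq_subst, lamSeries_zero]
  rw [← coe_substAlgHom hasSubst_tau, map_one]

theorem gammaSeries_neg_mul (x : K) : gammaSeries (-x) * gammaSeries x = 1 := by
  rw [← gammaSeries_add, neg_add_cancel, gammaSeries_zero]

theorem gammaSeries_sub_mul (x y : K) : gammaSeries (x - y) * gammaSeries y = gammaSeries x := by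
  rw [← gammaSeries_add, sub_add_cancel]

theorem gammaSeries_sum {ι : Type*} (s : Finset ι) (f : ι → K) :
    gammaSeries (∑ i ∈ s, f i) = ∏ i ∈ s, gammaSeries (f i) := by
  classical
  induction s using Finset.induction_on with
  | empty => simp
  | insert a s ha ih => rw [sum_insert ha, prod_insert ha, gammaSeries_add, ih]

theorem gamma_add (k : ℕ) (x y : K) :
    gamma k (x + y) = ∑ i ∈ range (k + 1), gamma i x * gamma (k - i) y := by
  rw [← coeff_gammaSeries, gammaSeries_add, coeff_mul,
    Finset.Nat.sum_antidiagonal_eq_sum_range_succ_mk]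
  simp

/-- `γ_t(y) = 1 + y τ` with `τ = X/(1-X)` when `λ^j y = 0` for `j ≥ 2`. -/
theorem gammaSeries_of_lam_eq_zero (y : K) (hy : ∀ j : ℕ, 2 ≤ j → LambdaOps.lam j y = 0) :
    gammaSeries y = 1 + C y * tau K := by
  rw [gammaSeries_eq_subst, lamSeries_of_lam_eq_zero y hy, subst_add hasSubst_tau,
    ← coe_substAlgHom hasSubst_tau, map_one, map_mul, substAlgHom_X]
  congr 2
  rw [coe_substAlgHom hasSubst_tau]
  exact subst_C y

/-- `γ_t(1) * (1 - X) = 1` when `λ_t(1) = 1 + t`. -/
theorem gammaSeries_one_mul (h1 : ∀ k : ℕ, 2 ≤ k → LambdaOps.lam k (1 : K) = 0) :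
    gammaSeries (1 : K) * (1 - X) = 1 := by
  rw [gammaSeries_of_lam_eq_zero 1 h1, map_one, one_mul, one_add_tau_mul_one_sub]

/-- `γ_t(y - 1) = 1 + (y - 1) t` when `λ_t(y) = 1 + y t` and `λ_t(1) = 1 + t`. -/
theorem gammaSeries_sub_one (h1 : ∀ k : ℕ, 2 ≤ k → LambdaOps.lam k (1 : K) = 0)
    (y : K) (hy : ∀ j : ℕ, 2 ≤ j → LambdaOps.lam j y = 0) :
    gammaSeries (y - 1) = 1 + C (y - 1) * X := by
  have h := gammaSeries_sub_mul y 1
  have hu := gammaSeries_one_mul h1
  have h2 : gammaSeries (y - 1) = gammaSeries y * (1 - X) := by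
    rw [← h, mul_assoc, hu, mul_one]
  rw [h2, gammaSeries_of_lam_eq_zero y hy, add_mul, one_mul, mul_assoc, tau_mul_one_sub, map_sub,
    map_one]
  ring

end Groth.Agent.Lib.Helper4

namespace Groth.Agent.Lib.Helper4
open PowerSeries LambdaRing Finset

theorem coeff_prod_one_add_C_mul_X {A : Type*} [CommRing A] {ι : Type*} [DecidableEq ι]
    (s : Finset ι) (a : ι → A) (k : ℕ) :
    coeff k (∏ i ∈ s, (1 + C (a i) * X : A⟦X⟧)) = ∑ t ∈ s.powersetCard k, ∏ i ∈ t, a i := by
  rw [prod_one_add, map_sum]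
  have : ∀ t ∈ s.powerset, coeff k (∏ i ∈ t, (C (a i) * X : A⟦X⟧)) =
      if t.card = k then ∏ i ∈ t, a i else 0 := by
    intro t _
    rw [prod_mul_distrib, prod_const, ← map_prod, coeff_C_mul, coeff_X_pow]
    split_ifs with h1 h2 h2
    · simp
    · exact absurd h1.symm h2
    · exact absurd h2.symm h1
    · simp
  rw [sum_congr rfl this, ← sum_filter]
  congr 1
  ext t
  simp [mem_powersetCard]

end Groth.Agent.Lib.Helper4

namespace Groth.Agent.Lib.Helper4
open PowerSeries LambdaRing Finset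

variable {K : Type*} [CommRing K]

theorem coeff_one_add_X_pow (m j : ℕ) : coeff j ((1 + X : K⟦X⟧) ^ m) = (m.choose j : K) := by
  have : ((1 + X : K⟦X⟧)) ^ m = (((1 + Polynomial.X : Polynomial K) ^ m : Polynomial K) : K⟦X⟧) := by
    simp
  rw [this, Polynomial.coeff_coe, Polynomial.coeff_one_add_X_pow]

variable [LambdaOps K]

theorem gamma_eq_lam_add (h1 : ∀ k : ℕ, 2 ≤ k → LambdaOps.lam k (1 : K) = 0) (m : ℕ) (x : K) :
    gamma (m + 1) x = LambdaOps.lam (m + 1) (x + (m : K)) := by
  rw [← coeff_lamSeries, lamSeries_add, lamSeries_natCast h1, coeff_mul,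
    Finset.Nat.sum_antidiagonal_eq_sum_range_succ_mk, gamma, if_neg (by omega)]
  refine sum_congr rfl fun j hj => ?_
  rw [mem_range] at hj
  rcases j with _ | j
  · rw [if_pos rfl, mul_zero, Nat.sub_zero, coeff_one_add_X_pow,
      Nat.choose_eq_zero_of_lt (by omega), Nat.cast_zero, mul_zero]
  · rw [if_neg (by omega), coeff_lamSeries, coeff_one_add_X_pow, mul_comm]
    congr 2
    have : m + 1 - (j + 1) = m - j := by omega
    rw [this, Nat.add_sub_cancel, Nat.add_sub_cancel, Nat.choose_symm (by omega)]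

end Groth.Agent.Lib.Helper4

namespace Groth.Agent.Lib.Helper4
open PowerSeries LambdaRing Finset

variable {K : Type*} [CommRing K]

theorem coeff_of_mul_one_add_X (f g : K⟦X⟧) (h : f * (1 + X) = g) (n : ℕ) :
    coeff n f = (-1 : K) ^ n * ∑ i ∈ range (n + 1), (-1 : K) ^ i * coeff i g := by
  induction n with
  | zero =>
    subst h
    simp
  | succ n ih =>
    have h2 : coeff (n + 1) g = coeff (n + 1) f + coeff n f := by
      subst h
      rw [mul_add, mul_one, map_add, coeff_succ_mul_X]
    rw [sum_range_succ, mul_add, ← mul_assoc, ← pow_add, ← two_mul, pow_mul]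
    have : coeff (n + 1) f = coeff (n + 1) g - coeff n f := by rw [h2]; ring
    rw [this, ih]
    simp only [neg_one_sq, one_pow, one_mul]
    ring

end Groth.Agent.Lib.Helper4

namespace Groth.Agent.Lib.Helper4
open PowerSeries LambdaRing Finset

variable {K : Type*} [CommRing K]

/-- truncated evaluation at `-1`. -/
noncomputable def evNeg (d : ℕ) (f : K⟦X⟧) : K := ∑ i ∈ range d, (-1 : K) ^ i * coeff i f

theorem evNeg_add (d : ℕ) (f g : K⟦X⟧) : evNeg d (f + g) = evNeg d f + evNeg d g := by
  simp only [evNeg, map_add, mul_add, sum_add_distrib]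

theorem evNeg_C_mul (d : ℕ) (a : K) (f : K⟦X⟧) : evNeg d (C a * f) = a * evNeg d f := by
  simp only [evNeg, coeff_C_mul, mul_sum]
  refine sum_congr rfl fun i _ => by ring

theorem evNeg_one_add_X_mul (d : ℕ) (Q : K⟦X⟧) :
    evNeg (d + 1) ((1 + X) * Q) = (-1 : K) ^ d * coeff d Q := by
  induction d with
  | zero => simp [evNeg]
  | succ d ih =>
    rw [evNeg, sum_range_succ, ← evNeg, ih, add_mul, one_mul, map_add, coeff_succ_X_mul]
    ring

variable [LambdaOps K]

theorem one_sub_dvd_evNeg_lamSeries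
    (h1 : ∀ k : ℕ, 2 ≤ k → LambdaOps.lam k (1 : K) = 0) (d : ℕ) (hd : 2 ≤ d) (F L N' : K)
    (hL : ∀ j : ℕ, 2 ≤ j → LambdaOps.lam j L = 0) (hN' : ∀ i : ℕ, d - 1 ≤ i → LambdaOps.lam i N' = 0)
    (hrel : F + L = N' + 2) :
    (1 - L) ∣ evNeg d (lamSeries F) := by
  have hG : lamSeries F * (1 + C L * X) = lamSeries N' * (1 + X) ^ 2 := by
    rw [← lamSeries_of_lam_eq_zero L hL, ← lamSeries_add, hrel, lamSeries_add]
    have := lamSeries_natCast h1 2
    rw [Nat.cast_ofNat] at this
    rw [this]
  have hinv : (1 + C L * X) * lamSeries (-L) = 1 := by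
    rw [← lamSeries_of_lam_eq_zero L hL, lamSeries_mul_neg]
  have hdecomp : lamSeries F = (1 + X) * lamSeries N' +
      C (1 - L) * (X * (1 + X) * lamSeries N' * lamSeries (-L)) := by
    have : lamSeries F = lamSeries N' * (1 + X) ^ 2 * lamSeries (-L) := by
      rw [← hG, mul_assoc, hinv, mul_one]
    rw [this]
    have e : (1 + X : K⟦X⟧) = (1 + C L * X) + C (1 - L) * X := by
      rw [map_sub, map_one]; ring
    calc lamSeries N' * (1 + X) ^ 2 * lamSeries (-L)
        = (1 + X) * lamSeries N' * ((1 + X) * lamSeries (-L)) := by ring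
      _ = (1 + X) * lamSeries N' * (((1 + C L * X) + C (1 - L) * X) * lamSeries (-L)) := by
          rw [← e]
      _ = (1 + X) * lamSeries N' * ((1 + C L * X) * lamSeries (-L))
            + C (1 - L) * (X * (1 + X) * lamSeries N' * lamSeries (-L)) := by ring
      _ = _ := by rw [hinv, mul_one]
  rw [hdecomp, evNeg_add, evNeg_C_mul]
  obtain ⟨d, rfl⟩ : ∃ d', d = d' + 1 := ⟨d - 1, by omega⟩
  rw [evNeg_one_add_X_mul, coeff_lamSeries, hN' d (by omega), mul_zero, zero_add]
  exact Dvd.intro _ rfl

end Groth.Agent.Lib.Helper4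

namespace Groth.Agent.Lib.Helper4
open PowerSeries LambdaRing Finset

variable {K : Type*} [CommRing K]

/-- `rev m f = Σ_{i ≤ m} f_i X^(m-i)` : the reversed truncation. -/
noncomputable def rev (m : ℕ) (f : K⟦X⟧) : Polynomial K :=
  ∑ i ∈ range (m + 1), Polynomial.C (coeff i f) * Polynomial.X ^ (m - i)

theorem rev_add (m : ℕ) (f g : K⟦X⟧) : rev m (f + g) = rev m f + rev m g := by
  simp only [rev, map_add, add_mul, sum_add_distrib]

theorem rev_sum (m : ℕ) {ι : Type*} (s : Finset ι) (f : ι → K⟦X⟧) :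
    rev m (∑ i ∈ s, f i) = ∑ i ∈ s, rev m (f i) := by
  classical
  induction s using Finset.induction_on with
  | empty => simp [rev]
  | insert a s ha ih => rw [sum_insert ha, sum_insert ha, rev_add, ih]

theorem rev_C_mul (m : ℕ) (a : K) (f : K⟦X⟧) : rev m (C a * f) = Polynomial.C a * rev m f := by
  simp only [rev, coeff_C_mul, mul_sum, map_mul, mul_assoc]

theorem rev_X_pow_mul (i n : ℕ) (g : K⟦X⟧) : rev (i + n) (X ^ i * g) = rev n g := by
  rw [rev, add_assoc, sum_range_add, rev]
  have h0 : ∑ x ∈ range i, Polynomial.C (coeff x (X ^ i * g)) * Polynomial.X ^ (i + n - x) = 0 := by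
    apply sum_eq_zero
    intro x hx
    rw [mem_range] at hx
    rw [coeff_X_pow_mul', if_neg (by omega), map_zero, zero_mul]
  rw [h0, zero_add]
  refine sum_congr rfl fun x _ => ?_
  rw [coeff_X_pow_mul', if_pos (by omega)]
  have e1 : i + x - i = x := by omega
  have e2 : i + n - (i + x) = n - x := by omega
  rw [e1, e2]

theorem coeff_one_sub_X_pow (n j : ℕ) :
    coeff j ((1 - X : K⟦X⟧) ^ n) = (-1 : K) ^ j * (n.choose j : K) := by
  have : (1 - X : K⟦X⟧) = rescale (-1 : K) (1 + X) := by
    rw [map_add, map_one, rescale_X]; simp [sub_eq_add_neg]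
  rw [this, ← map_pow, coeff_rescale, coeff_one_add_X_pow]

theorem rev_one_sub_X_pow (n : ℕ) :
    rev n ((1 - X : K⟦X⟧) ^ n) = (Polynomial.X - 1) ^ n := by
  have : (Polynomial.X - 1 : Polynomial K) = -1 + Polynomial.X := by ring
  rw [this, add_pow, rev]
  refine sum_congr rfl fun j _ => ?_
  rw [coeff_one_sub_X_pow]
  simp only [map_mul, map_pow, map_neg, map_one, map_natCast]
  ring

end Groth.Agent.Lib.Helper4

namespace Groth.Agent.Lib.Helper4
open PowerSeries LambdaRing Finset

variable {K : Type*} [CommRing K] [LambdaOps K]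

theorem lamSeries_eq_sum (e : K) (m : ℕ) (he : ∀ i, m < i → LambdaOps.lam i e = 0) :
    lamSeries e = ∑ i ∈ range (m + 1), C (LambdaOps.lam i e) * X ^ i := by
  ext n
  rw [coeff_lamSeries, map_sum]
  simp only [coeff_C_mul, coeff_X_pow]
  by_cases hn : n < m + 1
  · rw [sum_eq_single n]
    · simp
    · intro b _ hb; rw [if_neg (Ne.symm hb), mul_zero]
    · intro h; exact absurd (mem_range.2 hn) h
  · rw [he n (by omega)]
    symm
    apply sum_eq_zero
    intro i hi
    rw [mem_range] at hi
    rw [if_neg (by omega), mul_zero]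

theorem gammaSeries_eq_sum (e : K) (m : ℕ) (he : ∀ i, m < i → LambdaOps.lam i e = 0) :
    gammaSeries e = ∑ i ∈ range (m + 1), C (LambdaOps.lam i e) * tau K ^ i := by
  rw [gammaSeries_eq_subst, lamSeries_eq_sum e m he, ← coe_substAlgHom hasSubst_tau, map_sum]
  refine sum_congr rfl fun i _ => ?_
  rw [map_mul, map_pow, substAlgHom_X, coe_substAlgHom hasSubst_tau]
  congr 1
  exact subst_C _

theorem gammaSeries_natCast (n : ℕ) : gammaSeries (n : K) = gammaSeries (1 : K) ^ n := by
  induction n with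
  | zero => simp
  | succ n ih => rw [Nat.cast_succ, gammaSeries_add, ih, pow_succ]

theorem gammaSeries_sub_natCast (h1 : ∀ k : ℕ, 2 ≤ k → LambdaOps.lam k (1 : K) = 0)
    (e : K) (m : ℕ) (he : ∀ i, m < i → LambdaOps.lam i e = 0) :
    gammaSeries (e - (m : K)) =
      ∑ i ∈ range (m + 1), C (LambdaOps.lam i e) * (X ^ i * (1 - X) ^ (m - i)) := by
  have h := gammaSeries_sub_mul e (m : K)
  have hu := gammaSeries_one_mul h1
  have h2 : gammaSeries (e - (m : K)) = gammaSeries e * (1 - X) ^ m := by
    rw [← h, mul_assoc, gammaSeries_natCast, ← mul_pow, hu, one_pow, mul_one]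
  rw [h2, gammaSeries_eq_sum e m he, sum_mul]
  refine sum_congr rfl fun i hi => ?_
  rw [mem_range] at hi
  have : (1 - X : K⟦X⟧) ^ m = (1 - X) ^ i * (1 - X) ^ (m - i) := by
    rw [← pow_add]; congr 1; omega
  rw [this, mul_assoc, ← mul_assoc (tau K ^ i), ← mul_pow, tau_mul_one_sub]


theorem lam_one_eq_zero (P : PosStructure K) (k : ℕ) (hk : 2 ≤ k) : LambdaOps.lam k (1 : K) = 0 := by
  have h1 : (1 : K) ∈ P.pos := by
    have := P.natCast_mem 1 one_pos
    rwa [Nat.cast_one] at this
  apply P.lam_eq_zero 1 h1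
  rw [map_one]
  exact_mod_cast hk

theorem lam_eq_zero_of_pos (P : PosStructure K) (e : K) (he : e ∈ P.pos) (i : ℕ)
    (hi : (P.aug e).toNat < i) : LambdaOps.lam i e = 0 := by
  apply P.lam_eq_zero e he
  have := P.aug_pos e he
  omega

theorem rev_gammaSeries_sub_natCast (h1 : ∀ k : ℕ, 2 ≤ k → LambdaOps.lam k (1 : K) = 0)
    (e : K) (m : ℕ) (he : ∀ i, m < i → LambdaOps.lam i e = 0) :
    rev m (gammaSeries (e - (m : K))) =
      ∑ i ∈ range (m + 1), Polynomial.C (LambdaOps.lam i e) * (Polynomial.X - 1) ^ (m - i) := by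
  rw [gammaSeries_sub_natCast h1 e m he, rev_sum]
  refine sum_congr rfl fun i hi => ?_
  rw [mem_range] at hi
  rw [rev_C_mul]
  congr 1
  have hn : m - i + i = m := by omega
  generalize m - i = n at hn ⊢
  subst hn
  rw [add_comm n i, rev_X_pow_mul, rev_one_sub_X_pow]

end Groth.Agent.Lib.Helper4
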