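import Groth.Prelude.Def_LambdaSp
import Groth.Agent.Lib.Helper4Lambda
import Groth.Agent.Lib.Helper4LambdaUniv3
import Mathlib

/-!
# The split λ-ring `ℤ[τ]` (helper25)

On `MvPolynomial τ ℤ` we put the λ-structure in which every monomial is a line element:
`λ_t(Σ c_α u^α) = Π (1 + u^α t)^{c_α}`.  It is special (via helper4's Adams criterion).
-/

set_option autoImplicit false
universe u
open PowerSeries LambdaRing Finset

namespace Groth.Agent.Lib.Helper25.LSp

section LineUnit
variable {R : Type u} [CommRing R]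

/-- the unit `1 + m t` of `R⟦X⟧`. -/
noncomputable def lineUnit (m : R) : R⟦X⟧ˣ :=
  (PowerSeries.isUnit_iff_constantCoeff.mpr
    (by simp : IsUnit (constantCoeff (1 + C m * X : R⟦X⟧)))).unit

theorem lineUnit_val (m : R) : ((lineUnit m : R⟦X⟧ˣ) : R⟦X⟧) = 1 + C m * X := IsUnit.unit_spec _

end LineUnit

section Split
variable (τ : Type u)

/-- the additive-to-multiplicative map `f ↦ λ_t(f)` -/
noncomputable def lamHom : MvPolynomial τ ℤ →ₗ[ℤ] Additive ((MvPolynomial τ ℤ)⟦X⟧ˣ) :=
  (MvPolynomial.basisMonomials τ ℤ).constr ℤ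
    fun α => Additive.ofMul (lineUnit (MvPolynomial.monomial α (1 : ℤ)))

/-- `λ_t(f)` as a power series -/
noncomputable def lamS (f : MvPolynomial τ ℤ) : (MvPolynomial τ ℤ)⟦X⟧ :=
  ((Additive.toMul (lamHom τ f) : (MvPolynomial τ ℤ)⟦X⟧ˣ) : (MvPolynomial τ ℤ)⟦X⟧)

variable {τ}

theorem lamS_add (f g : MvPolynomial τ ℤ) : lamS τ (f + g) = lamS τ f * lamS τ g := by
  simp [lamS, map_add]

theorem lamS_zero : lamS τ (0 : MvPolynomial τ ℤ) = 1 := by
  simp [lamS]

theorem lamS_neg_mul (f : MvPolynomial τ ℤ) : lamS τ (-f) * lamS τ f = 1 := by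
  rw [← lamS_add, neg_add_cancel, lamS_zero]

theorem lamS_monomial_one (α : τ →₀ ℕ) :
    lamS τ (MvPolynomial.monomial α (1 : ℤ)) = 1 + C (MvPolynomial.monomial α (1 : ℤ)) * X := by
  have h : lamHom τ (MvPolynomial.monomial α (1 : ℤ)) =
      Additive.ofMul (lineUnit (MvPolynomial.monomial α (1 : ℤ))) := by
    have := (MvPolynomial.basisMonomials τ ℤ).constr_basis ℤ
      (fun α => Additive.ofMul (lineUnit (MvPolynomial.monomial α (1 : ℤ)))) α
    rwa [MvPolynomial.coe_basisMonomials] at this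
  rw [lamS, h, toMul_ofMul, lineUnit_val]

theorem closure_monomials :
    AddSubgroup.closure (Set.range fun α : τ →₀ ℕ => (MvPolynomial.monomial α (1 : ℤ))) = ⊤ := by
  rw [eq_top_iff]
  rintro f -
  induction f using MvPolynomial.induction_on' with
  | monomial u a =>
    have : MvPolynomial.monomial u a = a • MvPolynomial.monomial u (1 : ℤ) := by
      rw [MvPolynomial.smul_monomial, smul_eq_mul, mul_one]
    rw [this]
    exact AddSubgroup.zsmul_mem _ (AddSubgroup.subset_closure (Set.mem_range_self u)) a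
  | add p q hp hq => exact AddSubgroup.add_mem _ hp hq

/-- induction principle: a property of elements of `ℤ[τ]` holding for monomials and closed under
`0`, `+`, `-`. -/
theorem sr_induction {P : MvPolynomial τ ℤ → Prop}
    (h1 : ∀ α : τ →₀ ℕ, P (MvPolynomial.monomial α (1 : ℤ))) (h0 : P 0)
    (hadd : ∀ f g, P f → P g → P (f + g)) (hneg : ∀ f, P f → P (-f)) (f : MvPolynomial τ ℤ) :
    P f := by
  have hf : f ∈ AddSubgroup.closure
      (Set.range fun α : τ →₀ ℕ => (MvPolynomial.monomial α (1 : ℤ))) := by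
    rw [closure_monomials]; trivial
  induction hf using AddSubgroup.closure_induction with
  | mem x hx => obtain ⟨α, rfl⟩ := hx; exact h1 α
  | zero => exact h0
  | add a b _ _ ha hb => exact hadd a b ha hb
  | neg a _ ha => exact hneg a ha

theorem constantCoeff_lamS (f : MvPolynomial τ ℤ) : constantCoeff (lamS τ f) = 1 := by
  induction f using sr_induction with
  | h1 α => rw [lamS_monomial_one]; simp
  | h0 => rw [lamS_zero]; simp
  | hadd f g hf hg => rw [lamS_add, map_mul, hf, hg, one_mul]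
  | hneg f hf =>
    have := congrArg constantCoeff (lamS_neg_mul f)
    rwa [map_mul, hf, mul_one, map_one] at this

theorem coeff_one_lamS (f : MvPolynomial τ ℤ) : coeff 1 (lamS τ f) = f := by
  have hmul : ∀ a b : (MvPolynomial τ ℤ)⟦X⟧, constantCoeff a = 1 → constantCoeff b = 1 →
      coeff 1 (a * b) = coeff 1 a + coeff 1 b := by
    intro a b ha hb
    rw [coeff_mul, Finset.Nat.sum_antidiagonal_eq_sum_range_succ_mk]
    simp [Finset.sum_range_succ, ha, hb, add_comm]
  induction f using sr_induction with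
  | h1 α => rw [lamS_monomial_one]; simp
  | h0 => rw [lamS_zero]; simp
  | hadd f g hf hg =>
    rw [lamS_add, hmul _ _ (constantCoeff_lamS f) (constantCoeff_lamS g), hf, hg]
  | hneg f hf =>
    have := congrArg (coeff 1) (lamS_neg_mul f)
    rw [hmul _ _ (constantCoeff_lamS _) (constantCoeff_lamS f), hf] at this
    have h1 : coeff 1 (1 : (MvPolynomial τ ℤ)⟦X⟧) = 0 := by simp
    rw [h1] at this
    exact eq_neg_of_add_eq_zero_left this

variable (τ) in
/-- the split λ-structure on `ℤ[τ]` -/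
@[instance_reducible] noncomputable def srLambdaOps : LambdaOps (MvPolynomial τ ℤ) where
  lam n f := coeff n (lamS τ f)
  lam_zero f := by
    rw [coeff_zero_eq_constantCoeff_apply, constantCoeff_lamS]
  lam_one f := coeff_one_lamS f
  lam_add k f g := by
    rw [lamS_add, coeff_mul, Finset.Nat.sum_antidiagonal_eq_sum_range_succ_mk]

noncomputable scoped instance : LambdaOps (MvPolynomial τ ℤ) := srLambdaOps τ

theorem lamSeries_eq_lamS (f : MvPolynomial τ ℤ) : lamSeries f = lamS τ f := by
  ext n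
  rw [lamSeries, coeff_mk]
  rfl

theorem lamSeries_monomial_one (α : τ →₀ ℕ) :
    lamSeries (MvPolynomial.monomial α (1 : ℤ)) = 1 + C (MvPolynomial.monomial α (1 : ℤ)) * X := by
  rw [lamSeries_eq_lamS, lamS_monomial_one]

end Split

section Line
variable {R : Type u} [CommRing R] [LambdaOps R]

/-- `y` is a line element: `λ_t(y) = 1 + y t`. -/
def IsLineElt (y : R) : Prop := lamSeries y = 1 + C y * X

theorem isLineElt_iff (y : R) : IsLineElt y ↔ ∀ j : ℕ, 2 ≤ j → LambdaOps.lam j y = 0 := by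
  constructor
  · intro h j hj
    have := congrArg (coeff j) h
    rw [Groth.Agent.Lib.Helper4.coeff_lamSeries] at this
    rw [this]
    obtain ⟨i, rfl⟩ : ∃ i, j = i + 2 := ⟨j - 2, by omega⟩
    simp [coeff_one, coeff_succ_mul_X, coeff_X]
  · intro h
    exact Groth.Agent.Lib.Helper4.lamSeries_of_lam_eq_zero y h

theorem inv_line_series (y : R) :
    (1 + C y * X : R⟦X⟧) * PowerSeries.mk (fun k => (-y) ^ k) = 1 := by
  ext n
  rw [add_mul, one_mul, mul_assoc, map_add, coeff_C_mul]
  rcases n with _ | n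
  · simp
  · rw [coeff_succ_X_mul, coeff_mk, coeff_mk, coeff_one, if_neg (by omega)]
    ring

theorem adamsOp_of_isLineElt {y : R} (hy : IsLineElt y) (k : ℕ) : adamsOp (k + 1) y = y ^ (k + 1) := by
  have h1 : (lamSeries y).invOfUnit 1 = PowerSeries.mk (fun k => (-y) ^ k) := by
    have hu := Groth.Agent.Lib.Helper4.isUnit_lamSeries y
    apply hu.mul_left_cancel
    rw [Groth.Agent.Lib.Helper4.Newton.lamSeries_mul_invOfUnit, hy, inv_line_series]
  have h2 : derivative R (lamSeries y) = C y := by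
    rw [hy, map_add, Derivation.leibniz]
    simp
  rw [adamsOp, logDerivSeries, h1, h2, coeff_C_mul, coeff_mk]
  rw [neg_pow]
  have : ((-1 : R) ^ k) * ((-1 : R) ^ k) = 1 := by rw [← pow_add, ← two_mul, pow_mul]; simp
  linear_combination (y * y ^ k) * this

end Line

section Special
variable {τ : Type u}

theorem isLineElt_monomial (α : τ →₀ ℕ) : IsLineElt (MvPolynomial.monomial α (1 : ℤ)) :=
  lamSeries_monomial_one α

open Groth.Agent.Lib.Helper4.LUniv in
theorem adamsOp_eq_expand (k : ℕ) (f : MvPolynomial τ ℤ) :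
    adamsOp (k + 1) f = MvPolynomial.expand (k + 1) f := by
  induction f using sr_induction with
  | h1 α =>
    rw [adamsOp_of_isLineElt (isLineElt_monomial α), MvPolynomial.expand_monomial,
      MvPolynomial.monomial_pow, one_pow]
  | h0 => rw [adamsOp_zero_arg, map_zero]
  | hadd f g hf hg => rw [adamsOp_add, hf, hg, map_add]
  | hneg f hf =>
    have := adamsOp_add (k + 1) (-f) f
    rw [neg_add_cancel, adamsOp_zero_arg, hf] at this
    rw [map_neg]
    exact eq_neg_of_add_eq_zero_left this.symm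

open Groth.Agent.Lib.Helper4.LUniv in
theorem isSpecial_sr : IsSpecial (MvPolynomial τ ℤ) := by
  refine isSpecial_of_adamsOp' natCancel_of_isAddTorsionFree ?_ ?_ ?_
  · intro k hk
    obtain ⟨j, rfl⟩ : ∃ j, k = j + 1 := ⟨k - 1, by omega⟩
    rw [adamsOp_eq_expand, map_one]
  · intro k hk x y
    obtain ⟨j, rfl⟩ : ∃ j, k = j + 1 := ⟨k - 1, by omega⟩
    rw [adamsOp_eq_expand, adamsOp_eq_expand, adamsOp_eq_expand, map_mul]
  · intro k k' hk hk' x
    obtain ⟨j, rfl⟩ : ∃ j, k = j + 1 := ⟨k - 1, by omega⟩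
    obtain ⟨j', rfl⟩ : ∃ j', k' = j' + 1 := ⟨k' - 1, by omega⟩
    obtain ⟨c, hc⟩ : ∃ c, (j + 1) * (j' + 1) = c + 1 := ⟨(j + 1) * (j' + 1) - 1, by
      have : 0 < (j + 1) * (j' + 1) := Nat.mul_pos (Nat.succ_pos _) (Nat.succ_pos _)
      omega⟩
    rw [adamsOp_eq_expand, adamsOp_eq_expand, hc, adamsOp_eq_expand, ← hc, MvPolynomial.expand_mul]

end Special

end Groth.Agent.Lib.Helper25.LSp
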