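import Groth.Agent.Lib.Helper25LamInj

/-!
# Transfer: order in the split models ↔ γ-weight of universal polynomials (helper25)
-/

set_option autoImplicit false
universe v
open LambdaRing Finset MvPolynomial

namespace Groth.Agent.Lib.Helper25.LSp

section WHC
variable {σ' τ M : Type*} {R : Type*} [CommRing R] [AddCommMonoid M]

open Groth.Agent.Lib.Helper4.MulPoly in
/-- weighted homogeneous components commute with `aeval` at weighted homogeneous polynomials. -/
theorem whc_aeval (w : σ' → M) (v : τ → M) (E : σ' → MvPolynomial τ R)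
    (hE : ∀ k, IsWeightedHomogeneous v (E k) (w k)) (P : MvPolynomial σ' R) (m : M) :
    weightedHomogeneousComponent v m (aeval E P) = aeval E (weightedHomogeneousComponent w m P) := by
  classical
  have hsum := sum_weightedHomogeneousComponent w P
  rw [finsum_eq_sum _ (weightedHomogeneousComponent_finsupp P)] at hsum
  set s := (weightedHomogeneousComponent_finsupp (w := w) P).toFinset with hs
  have h1 : aeval E P = ∑ n ∈ s, aeval E (weightedHomogeneousComponent w n P) := by
    conv_lhs => rw [← hsum]
    rw [map_sum]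
  have h3 : ∀ n, weightedHomogeneousComponent v m (aeval E (weightedHomogeneousComponent w n P)) =
      if m = n then aeval E (weightedHomogeneousComponent w n P) else 0 := fun n =>
    weightedHomogeneousComponent_of_mem (isWeightedHomogeneous_aeval w v E hE
      (weightedHomogeneousComponent_isWeightedHomogeneous n P))
  rw [h1, map_sum]
  simp_rw [h3]
  rw [Finset.sum_ite_eq]
  split_ifs with hms
  · rfl
  · have : weightedHomogeneousComponent w m P = 0 := by
      by_contra hne
      apply hms
      rw [hs]
      exact (Set.Finite.mem_toFinset _).mpr hne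
    rw [this, map_zero]

end WHC

section Transfer
variable {σ : Type v} {M : Type*} [AddCommMonoid M] (ω : σ → M)

/-- weights on the split model -/
def wN (N : ℕ) : σ × Fin N → M := fun t => ω t.1

/-- weights on the universal ring: `X_{s,k}` has weight `(k+1) ω_s` -/
def wL : σ × ℕ → M := fun p => (p.2 + 1) • ω p.1

theorem isWH_esymm_rename (N : ℕ) (p : σ × ℕ) :
    IsWeightedHomogeneous (wN ω N)
      (rename (fun a : Fin N => (p.1, a)) (esymm (Fin N) ℤ (p.2 + 1))) (wL ω p) := by
  rw [esymm, map_sum]
  refine IsWeightedHomogeneous.sum _ _ _ fun t ht => ?_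
  rw [map_prod]
  have hcard : t.card = p.2 + 1 := (Finset.mem_powersetCard.mp ht).2
  have : wL ω p = ∑ a ∈ t, wN ω N (p.1, a) := by
    simp only [wN, wL, Finset.sum_const, hcard]
  rw [this]
  refine IsWeightedHomogeneous.prod _ _ _ fun a _ => ?_
  rw [rename_X]
  exact isWeightedHomogeneous_X ℤ _ _

theorem whc_PhiN (N : ℕ) (F : MvPolynomial (σ × ℕ) ℤ) (m : M) :
    weightedHomogeneousComponent (wN ω N) m (PhiN σ N F) =
      PhiN σ N (weightedHomogeneousComponent (wL ω) m F) :=
  whc_aeval (wL ω) (wN ω N) _ (isWH_esymm_rename ω N) F m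

/-- **Transfer**: a condition on the weights of all monomials of `PhiN σ N F`, for all `N`, holds
for the weights of all monomials of `F`. -/
theorem transfer (cond : M → Prop) (F : MvPolynomial (σ × ℕ) ℤ)
    (h : ∀ N, ∀ β ∈ (PhiN σ N F).support, cond (Finsupp.weight (wN ω N) β)) :
    ∀ d ∈ F.support, cond (Finsupp.weight (wL ω) d) := by
  classical
  intro d hd
  by_contra hc
  set μ := Finsupp.weight (wL ω) d with hμ
  set Fμ := weightedHomogeneousComponent (wL ω) μ F with hFμ
  have hne : Fμ ≠ 0 := by
    intro h0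
    have := congrArg (coeff d) h0
    rw [hFμ, coeff_weightedHomogeneousComponent, if_pos hμ.symm, coeff_zero] at this
    exact (mem_support_iff.mp hd) this
  set N := Fμ.vars.sup (fun p => p.2) + 1 with hN
  have hvars : ∀ p ∈ Fμ.vars, p.2 < N := by
    intro p hp
    have : p.2 ≤ Fμ.vars.sup (fun p => p.2) := Finset.le_sup (f := fun p : σ × ℕ => p.2) hp
    omega
  apply hne
  apply PhiN_injective_of_vars σ N Fμ hvars
  rw [hFμ, ← whc_PhiN]
  ext β
  rw [coeff_weightedHomogeneousComponent, coeff_zero]
  split_ifs with hw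
  · by_contra hcoef
    have hβ : β ∈ (PhiN σ N F).support := mem_support_iff.mpr hcoef
    have := h N β hβ
    rw [hw] at this
    exact hc this
  · rfl

end Transfer

section Shift
variable {τ : Type v}

theorem constantCoeff_sh (f : MvPolynomial τ ℤ) :
    constantCoeff (sh f) = eval (fun _ => (1 : ℤ)) f := by
  induction f using MvPolynomial.induction_on with
  | C a => simp [sh]
  | add p q hp hq => rw [map_add, map_add, map_add, hp, hq]
  | mul_X p t hp => rw [map_mul, map_mul, map_mul, hp, sh_X]; simp

theorem sh_sub_one_mem_idealOfVars (α : τ →₀ ℕ) :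
    sh (monomial α (1 : ℤ) - 1) ∈ idealOfVars τ ℤ := by
  have h : constantCoeff (sh (monomial α (1 : ℤ) - 1)) = 0 := by
    rw [constantCoeff_sh, map_sub, eval_monomial]
    simp
  have := (mem_pow_idealOfVars_iff' 1 (sh (monomial α (1 : ℤ) - 1))).mpr
  rw [pow_one] at this
  apply this
  intro x hx
  have hx0 : x = 0 := by
    have : Finsupp.degree x = 0 := by omega
    exact (Finsupp.degree_eq_zero_iff x).mp this
  rw [hx0]
  exact h

theorem map_sh_augIdeal_le : Ideal.map sh (augIdeal (monoL τ)) ≤ idealOfVars τ ℤ := by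
  rw [augIdeal, Ideal.map_span, Ideal.span_le]
  rintro _ ⟨_, ⟨_, ⟨α, rfl⟩, rfl⟩, rfl⟩
  exact sh_sub_one_mem_idealOfVars α

theorem sh_mem_idealOfVars_pow {y : MvPolynomial τ ℤ} {w : ℕ}
    (hy : y ∈ augIdeal (monoL τ) ^ w) : sh y ∈ idealOfVars τ ℤ ^ w := by
  have h1 : sh y ∈ Ideal.map sh (augIdeal (monoL τ) ^ w) := Ideal.mem_map_of_mem _ hy
  rw [Ideal.map_pow] at h1
  exact Ideal.pow_right_mono map_sh_augIdeal_le w h1

/-- elements of `m^w` have, after the shift, only monomials of degree `≥ w`. -/
theorem degree_le_of_mem_augIdeal_pow {y : MvPolynomial τ ℤ} {w : ℕ}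
    (hy : y ∈ augIdeal (monoL τ) ^ w) : ∀ β ∈ (sh y).support, w ≤ Finsupp.weight (fun _ : τ => (1 : ℕ)) β := by
  intro β hβ
  have := (mem_pow_idealOfVars_iff w (sh y)).mp (sh_mem_idealOfVars_pow hy) β hβ
  rwa [Finsupp.degree_eq_weight_one] at this

end Shift

end Groth.Agent.Lib.Helper25.LSp
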