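import Groth.Agent.Lib.Helper25LamChern

/-!
# The γ-filtration as a weight filtration (helper25)

`gamma_algebraMap_mul`: the binomial power formula for `γ_t`.
`MulFil`, `GamW`: multiplicative filtrations `W` and elements with `γ^i(z) ∈ W_i`.
`IsOp.mem_mulFil`: the universal principle for multiplicative filtrations.
`gammaFil_eq_Wfil`: the γ-filtration of `K[γ^1 x, …, γ^n x]` is the weight filtration.
-/

set_option autoImplicit false
universe u v
open LambdaRing Finset MvPolynomial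

namespace Groth.Agent.Lib.Helper25.LSp
open Groth.Agent.Lib.Helper4

section SubstTrunc
variable {A : Type v} [CommRing A]

/-- substitution of `τ = X/(1-X)` transports "binomial expansions". -/
theorem coeff_subst_tau_of_expansion (L ℓ : PowerSeries A) (a : ℕ → A)
    (hℓ : PowerSeries.constantCoeff ℓ = 0)
    (h : ∀ n, PowerSeries.coeff n L = ∑ k ∈ range (n + 1), a k * PowerSeries.coeff n (ℓ ^ k))
    (n : ℕ) :
    PowerSeries.coeff n (L.subst (tau A)) =
      ∑ k ∈ range (n + 1), a k * PowerSeries.coeff n ((ℓ.subst (tau A)) ^ k) := by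
  set Ln : PowerSeries A := ∑ k ∈ range (n + 1), PowerSeries.C (a k) * ℓ ^ k with hLn
  have hdvd : (PowerSeries.X : PowerSeries A) ^ (n + 1) ∣ L - Ln := by
    rw [PowerSeries.X_pow_dvd_iff]
    intro j hj
    rw [map_sub, h j, hLn, map_sum, sub_eq_zero]
    simp only [PowerSeries.coeff_C_mul]
    refine Finset.sum_subset (Finset.range_subset_range.mpr (by omega)) fun k _ hk => ?_
    rw [Finset.mem_range] at hk
    rw [coeff_pow_eq_zero_of_lt ℓ hℓ (by omega), mul_zero]
  obtain ⟨R, hR⟩ := hdvd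
  have hL : L = Ln + PowerSeries.X ^ (n + 1) * R := by rw [← hR]; ring
  have hτ : ((PowerSeries.X : PowerSeries A) ^ (n + 1) * R).subst (tau A) =
      PowerSeries.X ^ (n + 1) * ((PowerSeries.mk 1) ^ (n + 1) * R.subst (tau A)) := by
    rw [PowerSeries.subst_mul hasSubst_tau, PowerSeries.subst_pow hasSubst_tau,
      PowerSeries.subst_X hasSubst_tau, tau, mul_pow, mul_assoc]
  have hLn' : Ln.subst (tau A) = ∑ k ∈ range (n + 1), PowerSeries.C (a k) * (ℓ.subst (tau A)) ^ k := by
    rw [hLn, ← PowerSeries.coe_substAlgHom hasSubst_tau, map_sum]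
    refine Finset.sum_congr rfl fun k _ => ?_
    rw [map_mul, map_pow, PowerSeries.coe_substAlgHom hasSubst_tau]
    congr 1
    exact PowerSeries.subst_C (a k)
  rw [hL, PowerSeries.subst_add hasSubst_tau, hτ, map_add, PowerSeries.coeff_X_pow_mul',
    if_neg (by omega), add_zero, hLn', map_sum]
  simp only [PowerSeries.coeff_C_mul]

end SubstTrunc

section GammaU3
variable {K : Type u} [CommRing K] [LambdaOps K] [BinomialRing K]
variable {A : Type v} [CommRing A] [LambdaOps A] [Algebra K A]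

/-- **binomial power formula for `γ_t`**: `γ_t(c z) = γ_t(z)^c` -/
theorem gamma_algebraMap_mul (hKb : IsBinomial K) (hA : IsSpecial A) (hKA : IsLambdaAlg K A)
    (n : ℕ) (c : K) (g : A) :
    gamma n (algebraMap K A c * g) =
      ∑ k ∈ range (n + 1), algebraMap K A (Ring.choose c k) *
        PowerSeries.coeff n ((gammaSeries g - 1) ^ k) := by
  have h := coeff_subst_tau_of_expansion (lamSeries (algebraMap K A c * g)) (lamSeries g - 1)
    (fun k => algebraMap K A (Ring.choose c k)) (by simp)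
    (fun n => by rw [coeff_lamSeries]; exact lam_algebraMap_mul hKb hA hKA n c g) n
  rw [← gammaSeries_eq_subst, coeff_gammaSeries] at h
  rw [h]
  refine Finset.sum_congr rfl fun k _ => ?_
  rw [PowerSeries.subst_sub hasSubst_tau, ← gammaSeries_eq_subst]
  congr 4
  rw [← PowerSeries.coe_substAlgHom hasSubst_tau, map_one]

end GammaU3

section GoodW
variable {A : Type v} [CommRing A]

/-- a multiplicative decreasing-agnostic filtration -/
structure MulFil (W : ℕ → Ideal A) : Prop where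
  one_mem : (1 : A) ∈ W 0
  mul_mem : ∀ {a b : ℕ} {y z : A}, y ∈ W a → z ∈ W b → y * z ∈ W (a + b)

def GoodW (W : ℕ → Ideal A) (f : PowerSeries A) : Prop := ∀ i, PowerSeries.coeff i f ∈ W i

theorem goodW_one {W : ℕ → Ideal A} (hW : MulFil W) : GoodW W 1 := by
  intro i
  rw [PowerSeries.coeff_one]
  split_ifs with h
  · subst h; exact hW.one_mem
  · exact Ideal.zero_mem _

theorem goodW_mul {W : ℕ → Ideal A} (hW : MulFil W) {f g : PowerSeries A} (hf : GoodW W f)
    (hg : GoodW W g) : GoodW W (f * g) := by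
  intro i
  rw [PowerSeries.coeff_mul]
  refine Ideal.sum_mem _ ?_
  rintro ⟨p, q⟩ hpq
  have hpq' : p + q = i := by simpa using hpq
  rw [← hpq']
  exact hW.mul_mem (hf p) (hg q)

theorem goodW_pow {W : ℕ → Ideal A} (hW : MulFil W) {f : PowerSeries A} (hf : GoodW W f) (k : ℕ) :
    GoodW W (f ^ k) := by
  induction k with
  | zero => rw [pow_zero]; exact goodW_one hW
  | succ k ih => rw [pow_succ]; exact goodW_mul hW ih hf

variable [LambdaOps A]

/-- the set of `z` with `γ^i(z) ∈ W_i` for all `i` -/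
def GamW (W : ℕ → Ideal A) (z : A) : Prop := GoodW W (gammaSeries z)

theorem gamW_iff {W : ℕ → Ideal A} {z : A} : GamW W z ↔ ∀ i, gamma i z ∈ W i := by
  simp [GamW, GoodW]

theorem gamW_zero {W : ℕ → Ideal A} (hW : MulFil W) : GamW W 0 := by
  rw [GamW, gammaSeries_zero]; exact goodW_one hW

theorem gamW_add {W : ℕ → Ideal A} (hW : MulFil W) {y z : A} (hy : GamW W y) (hz : GamW W z) :
    GamW W (y + z) := by
  rw [GamW, gammaSeries_add]; exact goodW_mul hW hy hz

theorem gamW_sum {W : ℕ → Ideal A} (hW : MulFil W) {ι : Type*} (s : Finset ι) (f : ι → A)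
    (h : ∀ i ∈ s, GamW W (f i)) : GamW W (∑ i ∈ s, f i) := by
  classical
  induction s using Finset.induction_on with
  | empty => simpa using gamW_zero hW
  | insert a s ha ih =>
    rw [Finset.sum_insert ha]
    exact gamW_add hW (h a (Finset.mem_insert_self a s)) (ih fun i hi => h i (Finset.mem_insert_of_mem hi))

variable {K : Type u} [CommRing K] [LambdaOps K] [BinomialRing K] [Algebra K A]

theorem gamW_algebraMap_mul (hKb : IsBinomial K) (hA : IsSpecial A) (hKA : IsLambdaAlg K A)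
    {W : ℕ → Ideal A} (hW : MulFil W) (c : K) {g : A} (hg : GamW W g) :
    GamW W (algebraMap K A c * g) := by
  rw [gamW_iff]
  intro i
  rw [gamma_algebraMap_mul hKb hA hKA]
  refine Ideal.sum_mem _ fun k _ => Ideal.mul_mem_left _ _ ?_
  refine goodW_pow hW ?_ k i
  intro j
  rcases j with _ | j
  · simp
  · rw [map_sub, PowerSeries.coeff_one, if_neg (by omega), sub_zero]
    exact hg _

end GoodW

section MulFilLemmas
variable {A : Type v} [CommRing A] {W : ℕ → Ideal A} (hW : MulFil W)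
include hW

theorem MulFil.pow_mem {a : ℕ} {y : A} (hy : y ∈ W a) (k : ℕ) : y ^ k ∈ W (k * a) := by
  induction k with
  | zero => simpa using hW.one_mem
  | succ k ih =>
    rw [pow_succ, Nat.succ_mul]
    exact hW.mul_mem ih hy

theorem MulFil.prod_mem {ι : Type*} (s : Finset ι) (f : ι → A) (n : ι → ℕ)
    (h : ∀ i ∈ s, f i ∈ W (n i)) : ∏ i ∈ s, f i ∈ W (∑ i ∈ s, n i) := by
  classical
  induction s using Finset.induction_on with
  | empty => simpa using hW.one_mem
  | insert a s ha ih =>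
    rw [Finset.prod_insert ha, Finset.sum_insert ha]
    exact hW.mul_mem (h a (Finset.mem_insert_self a s))
      (ih fun i hi => h i (Finset.mem_insert_of_mem hi))

theorem MulFil.list_prod_mem (l : List (ℕ × A)) (f : ℕ × A → A) (h : ∀ p ∈ l, f p ∈ W p.1) :
    (l.map f).prod ∈ W (l.map Prod.fst).sum := by
  induction l with
  | nil => simpa using hW.one_mem
  | cons p l ih =>
    simp only [List.map_cons, List.prod_cons, List.sum_cons]
    exact hW.mul_mem (h p (by simp)) (ih fun q hq => h q (List.mem_cons_of_mem _ hq))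

end MulFilLemmas

theorem mulFil_gammaFil {K : Type u} {A : Type v} [CommRing K] [CommRing A] [LambdaOps A]
    (ε : A →+* K) : MulFil (gammaFil ε) :=
  ⟨one_mem_gammaFil_zero ε, fun hy hz => mul_mem_gammaFil ε hy hz⟩

theorem antitone_gammaFil {K : Type u} {A : Type v} [CommRing K] [CommRing A] [LambdaOps A]
    (ε : A →+* K) : Antitone (gammaFil ε) := fun _ _ h => gammaFil_anti ε h

section EvW
variable {σ B : Type v} [CommRing B] [LambdaOps B] {W : ℕ → Ideal B}

theorem evG_mem_of_mulFil (hW : MulFil W) (hWa : Antitone W) (x : σ → B)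
    (hx : ∀ s k, gamma (k + 1) (x s) ∈ W (k + 1)) (F : MvPolynomial (σ × ℕ) ℤ) (w : ℕ)
    (hF : ∀ d ∈ F.support, w ≤ gwt d) : evG x F ∈ W w := by
  rw [F.as_sum, map_sum]
  refine Ideal.sum_mem _ fun d hd => ?_
  rw [evG, aeval_monomial]
  refine Ideal.mul_mem_left _ _ (hWa (hF d hd) ?_)
  rw [gwt, Finsupp.weight_apply, Finsupp.prod, Finsupp.sum]
  refine hW.prod_mem _ _ _ fun p _ => ?_
  have : d p • wL (fun _ : σ => (1 : ℕ)) p = d p * (p.2 + 1) := by simp [wL]
  rw [this]
  exact hW.pow_mem (hx p.1 p.2) _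

/-- **the universal principle** for multiplicative filtrations. -/
theorem IsOp.mem_mulFil {T : NatOp σ} (hT : IsOp T) (w : ℕ)
    (hmodel : ∀ N, T (MvPolynomial (σ × Fin N) ℤ) (xN σ N) ∈ augIdeal (monoL (σ × Fin N)) ^ w)
    (hB : IsSpecial B) (hW : MulFil W) (hWa : Antitone W) (x : σ → B)
    (hx : ∀ s k, LambdaRing.gamma (k + 1) (x s) ∈ W (k + 1)) : T B x ∈ W w := by
  obtain ⟨F, hF⟩ := hT
  rw [hF B hB]
  refine evG_mem_of_mulFil hW hWa x hx F w ?_
  refine transfer (fun _ : σ => (1 : ℕ)) (fun m => w ≤ m) F ?_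
  intro N β hβ
  rw [← sh_evG] at hβ
  refine degree_le_of_mem_augIdeal_pow ?_ β hβ
  rw [← hF _ isSpecial_sr]
  exact hmodel N

theorem IsOp.pow {T : NatOp σ} (h : IsOp T) (n : ℕ) : IsOp (fun A _ _ x => T A x ^ n) := by
  induction n with
  | zero => simpa using isOp_one (σ := σ)
  | succ n ih =>
    have := ih.mul h
    simpa [pow_succ] using this

end EvW

section AugGamma
variable {K : Type u} [CommRing K] [LambdaOps K]
variable {A : Type v} [CommRing A] [LambdaOps A] [Algebra K A]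

theorem map_gamma_of_map_lam {R S : Type*} [CommRing R] [LambdaOps R] [CommRing S] [LambdaOps S]
    (f : R →+* S) (hf : ∀ n a, f (LambdaOps.lam n a) = LambdaOps.lam n (f a)) (n : ℕ) (a : R) :
    f (gamma n a) = gamma n (f a) := by
  rcases n with _ | n
  · rw [gamma_zero_idx, gamma_zero_idx, map_one]
  · rw [gamma_succ, gamma_succ, map_sum]
    refine Finset.sum_congr rfl fun j _ => ?_
    rw [map_mul, map_natCast, hf]

theorem eps_gamma (ε : A →ₐ[K] K) (hε : IsAugLambdaAlg K A ε) (n : ℕ) (a : A) :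
    ε (gamma n a) = gamma n (ε a) :=
  map_gamma_of_map_lam (ε : A →+* K) hε.map_lam n a

theorem eps_gamma_eq_zero (ε : A →ₐ[K] K) (hε : IsAugLambdaAlg K A ε) (n : ℕ) (hn : 1 ≤ n) (a : A)
    (ha : ε a = 0) : ε (gamma n a) = 0 := by
  rw [eps_gamma ε hε, ha, gamma_zero_arg n hn]

end AugGamma

section S8697
variable {K : Type u} [CommRing K] [LambdaOps K] [BinomialRing K]
variable {B : Type v} [CommRing B] [LambdaOps B] [Algebra K B]

/-- the weight filtration of S8697 -/
def Wfil (n : ℕ) (x : B) (k : ℕ) : Ideal B :=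
  Ideal.span {m : B | ∃ e : Fin n → ℕ, k ≤ ∑ j : Fin n, ((j : ℕ) + 1) * e j ∧
    m = ∏ j : Fin n, gamma ((j : ℕ) + 1) x ^ e j}

theorem mulFil_Wfil (n : ℕ) (x : B) : MulFil (Wfil n x) where
  one_mem := Ideal.subset_span ⟨fun _ => 0, by simp, by simp⟩
  mul_mem := by
    intro a b y z hy hz
    have : y * z ∈ Wfil n x a * Wfil n x b := Ideal.mul_mem_mul hy hz
    rw [Wfil, Wfil, Ideal.span_mul_span] at this
    refine Ideal.span_mono ?_ this
    rintro _ ⟨_, ⟨e₁, h₁, rfl⟩, _, ⟨e₂, h₂, rfl⟩, rfl⟩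
    refine ⟨e₁ + e₂, ?_, ?_⟩
    · simp only [Pi.add_apply, mul_add, Finset.sum_add_distrib]
      omega
    · show _ * _ = _
      rw [← Finset.prod_mul_distrib]
      refine Finset.prod_congr rfl fun j _ => ?_
      rw [Pi.add_apply, pow_add]

theorem antitone_Wfil (n : ℕ) (x : B) : Antitone (Wfil n x) := by
  intro a b hab
  apply Ideal.span_mono
  rintro _ ⟨e, he, rfl⟩
  exact ⟨e, hab.trans he, rfl⟩

theorem gamma_mem_Wfil (n : ℕ) (x : B) (hγ : ∀ k : ℕ, n < k → gamma k x = 0) (k : ℕ) :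
    gamma (k + 1) x ∈ Wfil n x (k + 1) := by
  classical
  rcases Nat.lt_or_ge k n with h | h
  · refine Ideal.subset_span ⟨Pi.single ⟨k, h⟩ 1, ?_, ?_⟩
    · rw [Finset.sum_eq_single ⟨k, h⟩]
      · simp
      · intro j _ hj; simp [Pi.single_eq_of_ne hj]
      · simp
    · rw [Finset.prod_eq_single ⟨k, h⟩]
      · simp
      · intro j _ hj; simp [Pi.single_eq_of_ne hj]
      · simp
  · rw [hγ _ (by omega)]
    exact Ideal.zero_mem _

theorem Wfil_le_gammaFil (ε : B →+* K) (n : ℕ) (x : B) (hx : ε x = 0) (k : ℕ) :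
    Wfil n x k ≤ gammaFil ε k := by
  apply Ideal.span_le.mpr
  rintro _ ⟨e, he, rfl⟩
  refine gammaFil_anti ε he ?_
  refine prod_mem_gammaFil ε _ _ _ fun j _ => ?_
  rw [mul_comm]
  exact pow_mem_gammaFil ε (gamma_mem_gammaFil ε hx _) _

/-- the monomial operation `x ↦ γ^i(Π_j γ^{j+1}(x)^{e_j})` -/
theorem gamW_monomial (hB : IsSpecial B) (n : ℕ) (x : B) (hγ : ∀ k : ℕ, n < k → gamma k x = 0)
    (e : Fin n → ℕ) (he : e ≠ 0) :
    GamW (Wfil n x) (∏ j : Fin n, gamma ((j : ℕ) + 1) x ^ e j) := by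
  rw [gamW_iff]
  intro i
  have hop : IsOp (σ := PUnit.{v + 1})
      (fun A _ _ y => ∏ j : Fin n, gamma ((j : ℕ) + 1) (y PUnit.unit) ^ e j) :=
    IsOp.prod univ (fun j : Fin n => fun A _ _ y => gamma ((j : ℕ) + 1) (y PUnit.unit) ^ e j)
      fun j _ => ((isOp_var PUnit.unit).gamma _).pow _
  refine IsOp.mem_mulFil (σ := PUnit.{v + 1})
    (T := fun A _ _ y => gamma i (∏ j : Fin n, gamma ((j : ℕ) + 1) (y PUnit.unit) ^ e j))
    (hop.gamma i) i ?_ hB (mulFil_Wfil n x) (antitone_Wfil n x) (fun _ => x)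
    (fun _ k => gamma_mem_Wfil n x hγ k)
  intro N
  refine gamma_mem_augIdeal_pow lineGen_monoL ?_ i
  obtain ⟨j₀, hj₀⟩ : ∃ j₀, e j₀ ≠ 0 := by
    by_contra hcon
    push Not at hcon
    exact he (funext hcon)
  rw [← Finset.mul_prod_erase univ _ (Finset.mem_univ j₀)]
  refine Ideal.mul_mem_right _ _ ?_
  obtain ⟨q, hq⟩ : ∃ q, e j₀ = q + 1 := ⟨e j₀ - 1, by omega⟩
  rw [hq, pow_succ]
  refine Ideal.mul_mem_left _ _ ?_
  have := gamma_mem_augIdeal_pow lineGen_monoL (xN_mem_augIdeal (σ := PUnit.{v + 1}) N PUnit.unit)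
    ((j₀ : ℕ) + 1)
  exact Ideal.pow_le_self (by omega) this

theorem gamW_of_eps_eq_zero (hKb : IsBinomial K) (hB : IsSpecial B) (ε : B →ₐ[K] K)
    (hε : IsAugLambdaAlg K B ε) (n : ℕ) (x : B) (hx : ε x = 0)
    (hγ : ∀ k : ℕ, n < k → gamma k x = 0)
    (hgen : Algebra.adjoin K (Set.range fun j : Fin n => gamma ((j : ℕ) + 1) x) = ⊤)
    (z : B) (hz : ε z = 0) : GamW (Wfil n x) z := by
  classical
  have hW := mulFil_Wfil n x
  have hzmem : z ∈ Algebra.adjoin K (Set.range fun j : Fin n => gamma ((j : ℕ) + 1) x) := by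
    rw [hgen]; trivial
  rw [Algebra.adjoin_range_eq_range_aeval, AlgHom.mem_range] at hzmem
  obtain ⟨p, rfl⟩ := hzmem
  have hεy : ∀ j : Fin n, ε (gamma ((j : ℕ) + 1) x) = 0 := fun j =>
    eps_gamma_eq_zero ε hε _ (by omega) x hx
  have hc0 : constantCoeff p = 0 := by
    have := hz
    rw [comp_aeval_apply] at this
    simp only [hεy] at this
    have h0 : (fun i : Fin n => (0 : K)) = 0 := rfl
    rw [h0, aeval_zero] at this
    simpa using this
  rw [p.as_sum, map_sum]
  refine gamW_sum hW _ _ fun d hd => ?_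
  rw [aeval_monomial]
  by_cases hd0 : d = 0
  · subst hd0
    have : coeff 0 p = 0 := hc0
    rw [this, map_zero, zero_mul]
    exact gamW_zero hW
  · refine gamW_algebraMap_mul hKb hB hε.isLambdaAlg hW _ ?_
    have hprod : (d.prod fun j k => gamma ((j : ℕ) + 1) x ^ k) =
        ∏ j : Fin n, gamma ((j : ℕ) + 1) x ^ d j := by
      rw [Finsupp.prod]
      refine Finset.prod_subset (Finset.subset_univ _) fun j _ hj => ?_
      rw [Finsupp.notMem_support_iff.mp hj, pow_zero]
    rw [hprod]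
    refine gamW_monomial hB n x hγ (fun j => d j) ?_
    intro h
    apply hd0
    ext j
    exact congrFun h j

theorem gammaFil_eq_Wfil (hKb : IsBinomial K) (hB : IsSpecial B) (ε : B →ₐ[K] K)
    (hε : IsAugLambdaAlg K B ε) (n : ℕ) (x : B) (hx : ε x = 0)
    (hγ : ∀ k : ℕ, n < k → gamma k x = 0)
    (hgen : Algebra.adjoin K (Set.range fun j : Fin n => gamma ((j : ℕ) + 1) x) = ⊤) (k : ℕ) :
    gammaFil (ε : B →+* K) k = Wfil n x k := by
  apply le_antisymm
  · apply Ideal.span_le.mpr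
    rintro _ ⟨l, hl, hk, rfl⟩
    refine antitone_Wfil n x hk ?_
    refine (mulFil_Wfil n x).list_prod_mem l _ fun p hp => ?_
    exact gamW_iff.mp (gamW_of_eps_eq_zero hKb hB ε hε n x hx hγ hgen p.2 (hl p hp)) p.1
  · exact Wfil_le_gammaFil (ε : B →+* K) n x hx k

end S8697

end Groth.Agent.Lib.Helper25.LSp
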