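import Groth.Agent.Lib.Helper25LamWeight

/-!
# S8698: the γ-filtration of the free λ-ring on one generator over an augmented λ-algebra (helper25)
-/


set_option autoImplicit false
universe u v w
open LambdaRing Finset MvPolynomial

namespace Groth.Agent.Lib.Helper25.LSp
open Groth.Agent.Lib.Helper4

section S8698
variable {K : Type u} [CommRing K] [LambdaOps K] [BinomialRing K]
variable {A : Type v} [CommRing A] [LambdaOps A] [Algebra K A]
variable {B : Type w} [CommRing B] [LambdaOps B] [Algebra K B] [Algebra A B] [IsScalarTower K A B]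

/-- the filtration of S8698 -/
def Vfil (εA : A →+* K) (x : B) (k : ℕ) : Ideal B :=
  Ideal.span {b : B | ∃ (e : ℕ →₀ ℕ) (a : A),
    a ∈ gammaFil εA (k - e.sum fun j n => (j + 1) * n) ∧
    b = algebraMap A B a * e.prod fun j n => gamma (j + 1) x ^ n}

theorem ewt_add (e₁ e₂ : ℕ →₀ ℕ) :
    ((e₁ + e₂).sum fun j n => (j + 1) * n) =
      (e₁.sum fun j n => (j + 1) * n) + e₂.sum fun j n => (j + 1) * n :=
  Finsupp.sum_add_index' (fun _ => by simp) fun _ _ _ => by ring

theorem ymon_add (x : B) (e₁ e₂ : ℕ →₀ ℕ) :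
    ((e₁ + e₂).prod fun j n => gamma (j + 1) x ^ n) =
      (e₁.prod fun j n => gamma (j + 1) x ^ n) * e₂.prod fun j n => gamma (j + 1) x ^ n :=
  Finsupp.prod_add_index' (fun _ => by simp) fun _ _ _ => by rw [pow_add]

theorem mulFil_Vfil (εA : A →+* K) (x : B) : MulFil (Vfil εA x) where
  one_mem := Ideal.subset_span ⟨0, 1, by simpa using one_mem_gammaFil_zero εA, by simp⟩
  mul_mem := by
    intro a b y z hy hz
    have : y * z ∈ Vfil εA x a * Vfil εA x b := Ideal.mul_mem_mul hy hz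
    rw [Vfil, Vfil, Ideal.span_mul_span] at this
    refine Ideal.span_mono ?_ this
    rintro _ ⟨_, ⟨e₁, a₁, h₁, rfl⟩, _, ⟨e₂, a₂, h₂, rfl⟩, rfl⟩
    refine ⟨e₁ + e₂, a₁ * a₂, ?_, ?_⟩
    · rw [ewt_add]
      exact gammaFil_anti εA (by omega) (mul_mem_gammaFil εA h₁ h₂)
    · show _ * _ = _
      rw [ymon_add, map_mul]
      ring

theorem antitone_Vfil (εA : A →+* K) (x : B) : Antitone (Vfil εA x) := by
  intro a b hab
  apply Ideal.span_mono
  rintro _ ⟨e, c, hc, rfl⟩
  exact ⟨e, c, gammaFil_anti εA (by omega) hc, rfl⟩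

theorem algebraMap_gamma (hAB : IsLambdaAlg A B) (n : ℕ) (a : A) :
    algebraMap A B (gamma n a) = gamma n (algebraMap A B a) :=
  map_gamma_of_map_lam (algebraMap A B) hAB n a

theorem map_gammaFil (hAB : IsLambdaAlg A B) (εA : A →+* K) (εB : B →+* K)
    (hεAB : ∀ a : A, εB (algebraMap A B a) = εA a) (j : ℕ) {a : A} (ha : a ∈ gammaFil εA j) :
    algebraMap A B a ∈ gammaFil εB j := by
  have h1 := Ideal.mem_map_of_mem (algebraMap A B) ha
  rw [gammaFil, Ideal.map_span] at h1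
  refine Ideal.span_mono ?_ h1
  rintro _ ⟨_, ⟨l, hl, hj, rfl⟩, rfl⟩
  refine ⟨l.map fun p => (p.1, algebraMap A B p.2), ?_, ?_, ?_⟩
  · intro q hq
    obtain ⟨p, hp, rfl⟩ := List.mem_map.mp hq
    show εB (algebraMap A B p.2) = 0
    rw [hεAB, hl p hp]
  · rw [List.map_map]
    exact hj
  · rw [map_list_prod, List.map_map, List.map_map]
    congr 1
    refine List.map_congr_left fun p _ => ?_
    exact algebraMap_gamma hAB p.1 p.2

theorem Vfil_le_gammaFil (hAB : IsLambdaAlg A B) (εA : A →+* K) (εB : B →+* K)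
    (hεAB : ∀ a : A, εB (algebraMap A B a) = εA a) (x : B) (hx : εB x = 0) (k : ℕ) :
    Vfil εA x k ≤ gammaFil εB k := by
  apply Ideal.span_le.mpr
  rintro _ ⟨e, a, ha, rfl⟩
  have h1 := map_gammaFil hAB εA εB hεAB _ ha
  have h2 : (e.prod fun j n => gamma (j + 1) x ^ n) ∈ gammaFil εB (e.sum fun j n => (j + 1) * n) := by
    rw [Finsupp.prod, Finsupp.sum]
    refine prod_mem_gammaFil εB _ _ _ fun j _ => ?_
    rw [mul_comm]
    exact pow_mem_gammaFil εB (gamma_mem_gammaFil εB hx _) _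
  exact gammaFil_anti εB (by omega) (mul_mem_gammaFil εB h1 h2)

theorem gamma_x_mem_Vfil (εA : A →+* K) (x : B) (k : ℕ) : gamma (k + 1) x ∈ Vfil εA x (k + 1) := by
  refine Ideal.subset_span ⟨Finsupp.single k 1, 1, ?_, ?_⟩
  · rw [Finsupp.sum_single_index (by simp)]
    simpa using one_mem_gammaFil_zero εA
  · rw [Finsupp.prod_single_index (by simp)]
    simp

theorem gamW_algebraMap_of_eps (hAB : IsLambdaAlg A B) (εA : A →+* K) (x : B) (a : A)
    (ha : εA a = 0) : GamW (Vfil εA x) (algebraMap A B a) := by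
  rw [gamW_iff]
  intro i
  refine Ideal.subset_span ⟨0, gamma i a, ?_, ?_⟩
  · simpa using gamma_mem_gammaFil εA ha i
  · rw [algebraMap_gamma hAB]; simp

/-- the two-variable operations -/
theorem gamW_two_var (hB : IsSpecial B) (hAB : IsLambdaAlg A B) (εA : A →+* K) (x : B) (a : A)
    (ha : εA a = 0) (T : NatOp (PUnit.{w + 1} ⊕ PUnit.{w + 1})) (hT : IsOp T)
    (hmodel : ∀ N, T (MvPolynomial ((PUnit.{w + 1} ⊕ PUnit.{w + 1}) × Fin N) ℤ)
      (xN (PUnit.{w + 1} ⊕ PUnit.{w + 1}) N) ∈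
        augIdeal (monoL ((PUnit.{w + 1} ⊕ PUnit.{w + 1}) × Fin N))) :
    GamW (Vfil εA x) (T B (Sum.elim (fun _ => algebraMap A B a) (fun _ => x))) := by
  rw [gamW_iff]
  intro i
  refine IsOp.mem_mulFil (T := fun A _ _ y => gamma i (T A y)) (hT.gamma i) i ?_ hB
    (mulFil_Vfil εA x) (antitone_Vfil εA x) _ ?_
  · intro N
    exact gamma_mem_augIdeal_pow lineGen_monoL (hmodel N) i
  · rintro (_ | _) k
    · exact gamW_iff.mp (gamW_algebraMap_of_eps hAB εA x a ha) (k + 1)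
    · exact gamma_x_mem_Vfil εA x k

theorem isOp_ymon (d : ℕ →₀ ℕ) : IsOp (σ := PUnit.{w + 1} ⊕ PUnit.{w + 1})
    (fun A _ _ y => d.prod fun j n => gamma (j + 1) (y (Sum.inr PUnit.unit)) ^ n) :=
  IsOp.prod d.support
    (fun j : ℕ => fun A _ _ y => gamma (j + 1) (y (Sum.inr PUnit.unit)) ^ d j)
    fun j _ => ((isOp_var _).gamma _).pow _

theorem ymon_model_mem (d : ℕ →₀ ℕ) (hd : d ≠ 0) (N : ℕ) :
    (d.prod fun j n => gamma (j + 1)
      (xN (PUnit.{w + 1} ⊕ PUnit.{w + 1}) N (Sum.inr PUnit.unit)) ^ n) ∈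
      augIdeal (monoL ((PUnit.{w + 1} ⊕ PUnit.{w + 1}) × Fin N)) := by
  obtain ⟨j₀, hj₀⟩ : ∃ j₀, j₀ ∈ d.support := by
    by_contra hcon
    push Not at hcon
    exact hd (Finsupp.support_eq_empty.mp (Finset.eq_empty_of_forall_notMem hcon))
  rw [Finsupp.prod, ← Finset.mul_prod_erase _ _ hj₀]
  refine Ideal.mul_mem_right _ _ ?_
  have hne : d j₀ ≠ 0 := Finsupp.mem_support_iff.mp hj₀
  obtain ⟨q, hq⟩ : ∃ q, d j₀ = q + 1 := ⟨d j₀ - 1, by omega⟩
  rw [hq, pow_succ]
  refine Ideal.mul_mem_left _ _ ?_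
  have := gamma_mem_augIdeal_pow lineGen_monoL
    (xN_mem_augIdeal (σ := PUnit.{w + 1} ⊕ PUnit.{w + 1}) N (Sum.inr PUnit.unit)) (j₀ + 1)
  exact Ideal.pow_le_self (by omega) this

theorem gamW_of_eps_eq_zero' (hKb : IsBinomial K) (hB : IsSpecial B) (hAB : IsLambdaAlg A B)
    (εA : A →ₐ[K] K) (εB : B →ₐ[K] K) (hεB : IsAugLambdaAlg K B εB)
    (hεAB : ∀ a : A, εB (algebraMap A B a) = εA a) (x : B) (hx : εB x = 0)
    (hgen : Algebra.adjoin A (Set.range fun j : ℕ => gamma (j + 1) x) = ⊤)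
    (z : B) (hz : εB z = 0) : GamW (Vfil (εA : A →+* K) x) z := by
  classical
  have hW := mulFil_Vfil (εA : A →+* K) x
  have hzmem : z ∈ Algebra.adjoin A (Set.range fun j : ℕ => gamma (j + 1) x) := by
    rw [hgen]; trivial
  rw [Algebra.adjoin_range_eq_range_aeval, AlgHom.mem_range] at hzmem
  obtain ⟨p, rfl⟩ := hzmem
  have hεy : ∀ j : ℕ, εB (gamma (j + 1) x) = 0 := fun j =>
    eps_gamma_eq_zero εB hεB _ (by omega) x hx
  have hcomp : ((εB : B →+* K).comp
      ((aeval fun j : ℕ => gamma (j + 1) x : MvPolynomial ℕ A →ₐ[A] B) : MvPolynomial ℕ A →+* B)) =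
      (εA : A →+* K).comp constantCoeff := by
    apply MvPolynomial.ringHom_ext
    · intro a
      simp [hεAB]
    · intro j
      simp [hεy]
  have hc0 : εA (constantCoeff p) = 0 := by
    have := congrArg (fun f => f p) hcomp
    simp only [RingHom.comp_apply, RingHom.coe_coe] at this
    rw [← this, hz]
  rw [p.as_sum, map_sum]
  refine gamW_sum hW _ _ fun d hd => ?_
  rw [aeval_monomial]
  by_cases hd0 : d = 0
  · subst hd0
    rw [Finsupp.prod_zero_index, mul_one]
    exact gamW_algebraMap_of_eps hAB (εA : A →+* K) x _ hc0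
  · set a := coeff d p with ha
    set a' := a - algebraMap K A (εA a) with ha'
    have hεa' : (εA : A →+* K) a' = 0 := by
      show εA a' = 0
      rw [ha', map_sub, AlgHom.commutes, Algebra.algebraMap_self_apply, sub_self]
    have hsplit : algebraMap A B a * (d.prod fun j n => gamma (j + 1) x ^ n) =
        algebraMap K B (εA a) * (d.prod fun j n => gamma (j + 1) x ^ n) +
          algebraMap A B a' * (d.prod fun j n => gamma (j + 1) x ^ n) := by
      rw [ha', map_sub, ← IsScalarTower.algebraMap_apply]; ring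
    rw [hsplit]
    refine gamW_add hW ?_ ?_
    · refine gamW_algebraMap_mul hKb hB hεB.isLambdaAlg hW _ ?_
      exact gamW_two_var hB hAB (εA : A →+* K) x 0 (map_zero _)
        (fun A _ _ y => d.prod fun j n => gamma (j + 1) (y (Sum.inr PUnit.unit)) ^ n)
        (isOp_ymon d) (ymon_model_mem d hd0)
    · exact gamW_two_var hB hAB (εA : A →+* K) x a' hεa'
        (fun A _ _ y => y (Sum.inl PUnit.unit) *
          d.prod fun j n => gamma (j + 1) (y (Sum.inr PUnit.unit)) ^ n)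
        ((isOp_var _).mul (isOp_ymon d))
        (fun N => Ideal.mul_mem_right _ _ (xN_mem_augIdeal N _))

theorem gammaFil_eq_Vfil (hKb : IsBinomial K) (hB : IsSpecial B) (hAB : IsLambdaAlg A B)
    (εA : A →ₐ[K] K) (εB : B →ₐ[K] K) (hεB : IsAugLambdaAlg K B εB)
    (hεAB : ∀ a : A, εB (algebraMap A B a) = εA a) (x : B) (hx : εB x = 0)
    (hgen : Algebra.adjoin A (Set.range fun j : ℕ => gamma (j + 1) x) = ⊤) (k : ℕ) :
    gammaFil (εB : B →+* K) k = Vfil (εA : A →+* K) x k := by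
  apply le_antisymm
  · apply Ideal.span_le.mpr
    rintro _ ⟨l, hl, hk, rfl⟩
    refine antitone_Vfil (εA : A →+* K) x hk ?_
    refine (mulFil_Vfil (εA : A →+* K) x).list_prod_mem l _ fun p hp => ?_
    exact gamW_iff.mp
      (gamW_of_eps_eq_zero' hKb hB hAB εA εB hεB hεAB x hx hgen p.2 (hl p hp)) p.1
  · exact Vfil_le_gammaFil hAB (εA : A →+* K) (εB : B →+* K) hεAB x hx k

end S8698

end Groth.Agent.Lib.Helper25.LSp
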