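import Groth.Agent.Lib.Helper25Antipode
import Groth.Prelude.Def_ComodSub

/-!
# Helper25LeftRight: passage between left and right comodules over a commutative Hopf algebra

`comodOfLComod l : Comod k A M` with coaction `ComodSub.rcoactOfLeft l`, and
`lcomodOfComod c : ComodSub.LComod k A M` with coaction `ComodSub.lcoactOfRight c`
(both rest on `comul_antipode`: the antipode reverses the comultiplication).
-/

set_option autoImplicit false
universe u v w w'

namespace Groth.Agent.Lib.Helper25

open TensorProduct HopfRep

section LeftRight

variable {k : Type u} [CommRing k] {A : Type v} [CommRing A] [HopfAlgebra k A]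
variable {M : Type w} [AddCommGroup M] [Module k M]

/-- `a ⊗ (b ⊗ m) ↦ (m ⊗ S b) ⊗ S a`. -/
noncomputable def flipS (k : Type u) [CommRing k] (A : Type v) [CommRing A] [HopfAlgebra k A]
    (M : Type w) [AddCommGroup M] [Module k M] : A ⊗[k] (A ⊗[k] M) →ₗ[k] (M ⊗[k] A) ⊗[k] A :=
  (TensorProduct.comm k A (M ⊗[k] A)).toLinearMap ∘ₗ
    TensorProduct.map (HopfAlgebra.antipode k)
      ((TensorProduct.comm k A M).toLinearMap ∘ₗ (HopfAlgebra.antipode k).rTensor M)

@[simp] theorem flipS_tmul (a b : A) (m : M) :
    flipS k A M (a ⊗ₜ[k] (b ⊗ₜ[k] m)) =
      (m ⊗ₜ[k] HopfAlgebra.antipode k b) ⊗ₜ[k] HopfAlgebra.antipode k a := by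
  simp [flipS]

theorem rTensor_rcoact (l : ComodSub.LComod k A M) (z : A ⊗[k] M) :
    (ComodSub.rcoactOfLeft l).rTensor A
      (TensorProduct.comm k A M ((HopfAlgebra.antipode k).rTensor M z)) =
      flipS k A M (l.coact.lTensor A z) := by
  induction z using TensorProduct.induction_on with
  | zero => simp
  | add x y hx hy => simp only [map_add, hx, hy]
  | tmul a m =>
    simp only [LinearMap.rTensor_tmul, TensorProduct.comm_tmul, LinearMap.lTensor_tmul,
      ComodSub.rcoactOfLeft_apply]
    generalize l.coact m = y
    induction y using TensorProduct.induction_on with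
    | zero => simp
    | add x y hx hy => simp only [map_add, hx, hy, TensorProduct.add_tmul, TensorProduct.tmul_add]
    | tmul b m' => simp

theorem assoc_flipS_assoc (z : A ⊗[k] M) :
    TensorProduct.assoc k M A A (flipS k A M (TensorProduct.assoc k A A M
      ((CoalgebraStruct.comul (R := k) (A := A)).rTensor M z))) =
      (CoalgebraStruct.comul (R := k) (A := A)).lTensor M
        (TensorProduct.comm k A M ((HopfAlgebra.antipode k).rTensor M z)) := by
  induction z using TensorProduct.induction_on with
  | zero => simp
  | add x y hx hy => simp only [map_add, hx, hy]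
  | tmul a m =>
    simp only [LinearMap.rTensor_tmul, TensorProduct.comm_tmul, LinearMap.lTensor_tmul]
    rw [comul_antipode]
    generalize CoalgebraStruct.comul (R := k) a = x
    induction x using TensorProduct.induction_on with
    | zero => simp
    | add x y hx hy => simp only [map_add, hx, hy, TensorProduct.add_tmul, TensorProduct.tmul_add]
    | tmul b c => simp

/-- The right comodule structure attached to a left one. -/
@[reducible] noncomputable def comodOfLComod (l : ComodSub.LComod k A M) : Comod k A M where
  coact := ComodSub.rcoactOfLeft l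
  coassoc := by
    apply LinearMap.ext
    intro m
    simp only [LinearMap.coe_comp, LinearEquiv.coe_coe, Function.comp_apply]
    have hl := LinearMap.congr_fun l.coassoc m
    simp only [LinearMap.coe_comp, LinearEquiv.coe_coe, Function.comp_apply] at hl
    rw [ComodSub.rcoactOfLeft_apply l m, rTensor_rcoact, hl, assoc_flipS_assoc]
  counit_comp := by
    apply LinearMap.ext
    intro m
    simp only [LinearMap.coe_comp, Function.comp_apply, LinearMap.flip_apply,
      TensorProduct.mk_apply]
    have hl := LinearMap.congr_fun l.counit_comp m
    simp only [LinearMap.coe_comp, Function.comp_apply, TensorProduct.mk_apply] at hl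
    rw [ComodSub.rcoactOfLeft_apply l m]
    have key : ∀ z : A ⊗[k] M, (CoalgebraStruct.counit (R := k) (A := A)).lTensor M
        (TensorProduct.comm k A M ((HopfAlgebra.antipode k).rTensor M z)) =
        TensorProduct.comm k k M ((CoalgebraStruct.counit (R := k) (A := A)).rTensor M z) := by
      intro z
      induction z using TensorProduct.induction_on with
      | zero => simp
      | add x y hx hy => simp only [map_add, hx, hy]
      | tmul a m' => simp
    rw [key, hl]
    simp

end LeftRight

section RightLeft

variable {k : Type u} [CommRing k] {A : Type v} [CommRing A] [HopfAlgebra k A]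
variable {M : Type w} [AddCommGroup M] [Module k M]

/-- `(m ⊗ b) ⊗ a ↦ S a ⊗ (S b ⊗ m)`. -/
noncomputable def flipS' (k : Type u) [CommRing k] (A : Type v) [CommRing A] [HopfAlgebra k A]
    (M : Type w) [AddCommGroup M] [Module k M] : (M ⊗[k] A) ⊗[k] A →ₗ[k] A ⊗[k] (A ⊗[k] M) :=
  (TensorProduct.comm k (A ⊗[k] M) A).toLinearMap ∘ₗ
    TensorProduct.map
      ((TensorProduct.comm k M A).toLinearMap ∘ₗ (HopfAlgebra.antipode k).lTensor M)
      (HopfAlgebra.antipode k)

@[simp] theorem flipS'_tmul (a b : A) (m : M) :
    flipS' k A M ((m ⊗ₜ[k] b) ⊗ₜ[k] a) =
      HopfAlgebra.antipode k a ⊗ₜ[k] (HopfAlgebra.antipode k b ⊗ₜ[k] m) := by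
  simp [flipS']

theorem lTensor_lcoact (c : Comod k A M) (z : M ⊗[k] A) :
    (ComodSub.lcoactOfRight c).lTensor A
      (TensorProduct.comm k M A ((HopfAlgebra.antipode k).lTensor M z)) =
      flipS' k A M (c.coact.rTensor A z) := by
  induction z using TensorProduct.induction_on with
  | zero => simp
  | add x y hx hy => simp only [map_add, hx, hy]
  | tmul m a =>
    simp only [LinearMap.rTensor_tmul, TensorProduct.comm_tmul, LinearMap.lTensor_tmul,
      ComodSub.lcoactOfRight_apply]
    generalize c.coact m = y
    induction y using TensorProduct.induction_on with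
    | zero => simp
    | add x y hx hy => simp only [map_add, hx, hy, TensorProduct.add_tmul, TensorProduct.tmul_add]
    | tmul m' b => simp

theorem assoc_flipS'_assoc (z : M ⊗[k] A) :
    (TensorProduct.assoc k A A M).symm (flipS' k A M ((TensorProduct.assoc k M A A).symm
      ((CoalgebraStruct.comul (R := k) (A := A)).lTensor M z))) =
      (CoalgebraStruct.comul (R := k) (A := A)).rTensor M
        (TensorProduct.comm k M A ((HopfAlgebra.antipode k).lTensor M z)) := by
  induction z using TensorProduct.induction_on with
  | zero => simp
  | add x y hx hy => simp only [map_add, hx, hy]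
  | tmul m a =>
    simp only [LinearMap.rTensor_tmul, TensorProduct.comm_tmul, LinearMap.lTensor_tmul]
    rw [comul_antipode]
    generalize CoalgebraStruct.comul (R := k) a = x
    induction x using TensorProduct.induction_on with
    | zero => simp
    | add x y hx hy => simp only [map_add, hx, hy, TensorProduct.add_tmul, TensorProduct.tmul_add]
    | tmul b c => simp

/-- The left comodule structure attached to a right one. -/
@[reducible] noncomputable def lcomodOfComod (c : Comod k A M) : ComodSub.LComod k A M where
  coact := ComodSub.lcoactOfRight c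
  coassoc := by
    apply LinearMap.ext
    intro m
    simp only [LinearMap.coe_comp, LinearEquiv.coe_coe, Function.comp_apply]
    have hl := LinearMap.congr_fun c.coassoc m
    simp only [LinearMap.coe_comp, LinearEquiv.coe_coe, Function.comp_apply] at hl
    rw [ComodSub.lcoactOfRight_apply c m, lTensor_lcoact, ← assoc_flipS'_assoc, ← hl]
    simp
  counit_comp := by
    apply LinearMap.ext
    intro m
    simp only [LinearMap.coe_comp, Function.comp_apply, TensorProduct.mk_apply]
    have hl := LinearMap.congr_fun c.counit_comp m
    simp only [LinearMap.coe_comp, Function.comp_apply, LinearMap.flip_apply,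
      TensorProduct.mk_apply] at hl
    rw [ComodSub.lcoactOfRight_apply c m]
    have key : ∀ z : M ⊗[k] A, (CoalgebraStruct.counit (R := k) (A := A)).rTensor M
        (TensorProduct.comm k M A ((HopfAlgebra.antipode k).lTensor M z)) =
        TensorProduct.comm k M k ((CoalgebraStruct.counit (R := k) (A := A)).lTensor M z) := by
      intro z
      induction z using TensorProduct.induction_on with
      | zero => simp
      | add x y hx hy => simp only [map_add, hx, hy]
      | tmul m' a => simp
    rw [key, hl]
    simp

end RightLeft

end Groth.Agent.Lib.Helper25
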