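import Groth.Statements.S8358

/-!
# Lie algebra of a diagonalisable group (helper25)

`Lie(D(M))(B) ≃ Hom(M, B)`, compatible with the rescaling action.
-/

set_option autoImplicit false
universe u
open CategoryTheory MonObj AlgebraicGeometry
open LieS

namespace Groth.Agent.Lib.Helper25.LieDiag

variable {R : Type u} [CommRing R] {A : Type u} [CommRing A] [HopfAlgebra R A]
  (B : Type u) [CommRing B] [Algebra R B]

/-- The affine group scheme `Spec A` over `Spec R`. -/
noncomputable abbrev GS (R : Type u) [CommRing R] (A : Type u) [CommRing A] [HopfAlgebra R A] :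
    Over (Spec (CommRingCat.of R)) :=
  (Spec (CommRingCat.of A)).asOver (Spec (CommRingCat.of R))

/-- The dual numbers over `Spec B`, as an object over `Spec R`. -/
noncomputable abbrev DP (R : Type u) [CommRing R] (B : Type u) [CommRing B] [Algebra R B] :
    Over (Spec (CommRingCat.of R)) :=
  dpt B (Spec.map (CommRingCat.ofHom (algebraMap R B)))

/-- Points of `Spec A` with values in the dual numbers over `B` are algebra maps `A → B[ε]`. -/
noncomputable def alpha : (DP R B ⟶ GS R A) ≃* WithConv (A →ₐ[R] DualNumber B) where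
  toFun v := Spec.mapMulEquiv.symm ((dptIso B).inv ≫ v)
  invFun a := (dptIso B).hom ≫ Spec.mapMulEquiv a
  left_inv v := by simp
  right_inv a := by simp
  map_mul' v w := by
    rw [MonObj.comp_mul]
    exact map_mul _ _ _

theorem alpha_apply (v : DP R B ⟶ GS R A) :
    alpha (A := A) B v = Spec.mapMulEquiv.symm ((dptIso B).inv ≫ v) := rfl

theorem alpha_symm_apply (a : WithConv (A →ₐ[R] DualNumber B)) :
    (alpha (A := A) B).symm a = (dptIso B).hom ≫ Spec.mapMulEquiv a := rfl

variable {R : Type u} [CommRing R] {A : Type u} [CommRing A] [HopfAlgebra R A]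
  (B : Type u) [CommRing B] [Algebra R B]

/-- The affine test scheme `Spec B` over `Spec R`. -/
noncomputable abbrev PT (R : Type u) [CommRing R] (B : Type u) [CommRing B] [Algebra R B] :
    Over (Spec (CommRingCat.of R)) :=
  LieS.pt B (Spec.map (CommRingCat.ofHom (algebraMap R B)))

/-- Points of `Spec A` with values in `B`. -/
noncomputable def beta : (PT R B ⟶ GS R A) ≃* WithConv (A →ₐ[R] B) :=
  (Spec.mapMulEquiv (R := R) (S := A) (T := B)).symm

theorem zeroSec_comp (a : WithConv (A →ₐ[R] DualNumber B)) :
    zeroSec B (Spec.map (CommRingCat.ofHom (algebraMap R B))) ≫ (alpha (A := A) B).symm a =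
      (beta (A := A) B).symm (WithConv.toConv ((TrivSqZeroExt.fstHom R B B).comp a.ofConv)) := by
  apply Over.OverMorphism.ext
  change Spec.map _ ≫ (𝟙 _ ≫ Spec.map _) = Spec.map _
  rw [Category.id_comp, LieS.specMap_comp]
  rfl

theorem mem_Lie_iff_alpha (v : DP R B ⟶ GS R A) :
    v ∈ LieR (GS R A) B ↔
      (TrivSqZeroExt.fstHom R B B).comp (alpha (A := A) B v).ofConv =
        (1 : WithConv (A →ₐ[R] B)).ofConv := by
  rw [LieS.mem_Lie_iff]
  have h1 : v = (alpha (A := A) B).symm (alpha (A := A) B v) := by simp
  conv_lhs => rw [h1, zeroSec_comp]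
  constructor
  · intro h
    have h2 : (beta (A := A) B).symm
        (WithConv.toConv ((TrivSqZeroExt.fstHom R B B).comp (alpha (A := A) B v).ofConv)) =
        (beta (A := A) B).symm 1 := by
      rw [h]
      exact (map_one _).symm
    have h3 := (beta (A := A) B).symm.injective h2
    exact congrArg WithConv.ofConv h3
  · intro h
    rw [h]
    exact map_one (beta (A := A) B).symm

section Alg

variable {R : Type u} [CommRing R] {M : Type} [AddCommGroup M]
  {B : Type u} [CommRing B] [Algebra R B]

local notation "AM" => MonoidAlgebra R (Multiplicative M)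

theorem algHom_self_ext {X : Type*} [Semiring X] [Algebra R X] (f g : R →ₐ[R] X) : f = g := by
  apply AlgHom.ext
  intro t
  rw [← _root_.mul_one t, ← smul_eq_mul, map_smul, map_smul, map_one, map_one]

theorem fst_apply_single (a : AM →ₐ[R] DualNumber B)
    (ha : (TrivSqZeroExt.fstHom R B B).comp a = (1 : WithConv (AM →ₐ[R] B)).ofConv)
    (x : Multiplicative M) : (a (MonoidAlgebra.single x 1)).fst = 1 := by
  have h := DFunLike.congr_fun ha (MonoidAlgebra.single x 1)
  rw [AlgHom.comp_apply] at h
  change (a (MonoidAlgebra.single x 1)).fst = _ at h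
  rw [h]
  change algebraMap R B (Coalgebra.counit (MonoidAlgebra.single x (1 : R))) = 1
  rw [MonoidAlgebra.counit_single]
  simp

/-- The additive map `m ↦ ε-coefficient of a(m)`. -/
noncomputable def dHom (a : AM →ₐ[R] DualNumber B)
    (ha : (TrivSqZeroExt.fstHom R B B).comp a = (1 : WithConv (AM →ₐ[R] B)).ofConv) :
    M →+ B where
  toFun m := (a (MonoidAlgebra.single (Multiplicative.ofAdd m) 1)).snd
  map_zero' := by
    change (a (MonoidAlgebra.single (1 : Multiplicative M) 1)).snd = 0
    rw [← MonoidAlgebra.one_def, map_one]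
    rfl
  map_add' m n := by
    have h1 : (MonoidAlgebra.single (Multiplicative.ofAdd (m + n)) (1 : R) : AM) =
        MonoidAlgebra.single (Multiplicative.ofAdd m) 1 *
          MonoidAlgebra.single (Multiplicative.ofAdd n) 1 := by
      rw [MonoidAlgebra.single_mul_single, _root_.mul_one]
      rfl
    rw [h1, map_mul, TrivSqZeroExt.snd_mul, fst_apply_single a ha, fst_apply_single a ha]
    simp [add_comm]

theorem dHom_apply (a : AM →ₐ[R] DualNumber B)
    (ha : (TrivSqZeroExt.fstHom R B B).comp a = (1 : WithConv (AM →ₐ[R] B)).ofConv) (m : M) :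
    dHom a ha m = (a (MonoidAlgebra.single (Multiplicative.ofAdd m) 1)).snd := rfl

/-- `x ↦ 1 + d(x) ε`. -/
noncomputable def expHom (d : M →+ B) : Multiplicative M →* DualNumber B where
  toFun x := TrivSqZeroExt.inl 1 + TrivSqZeroExt.inr (d (Multiplicative.toAdd x))
  map_one' := by
    simp
  map_mul' x y := by
    apply TrivSqZeroExt.ext
    · simp
    · simp [add_comm]

/-- The algebra map `R[M] → B[ε]` of an additive map `d`. -/
noncomputable def liftA (d : M →+ B) : AM →ₐ[R] DualNumber B :=
  MonoidAlgebra.lift R (DualNumber B) (Multiplicative M) (expHom d)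

theorem liftA_single (d : M →+ B) (x : Multiplicative M) :
    liftA (R := R) d (MonoidAlgebra.single x 1) =
      TrivSqZeroExt.inl 1 + TrivSqZeroExt.inr (d (Multiplicative.toAdd x)) := by
  rw [liftA, MonoidAlgebra.lift_single, one_smul]
  rfl

theorem liftA_fst (d : M →+ B) :
    (TrivSqZeroExt.fstHom R B B).comp (liftA (R := R) d) =
      (1 : WithConv (AM →ₐ[R] B)).ofConv := by
  apply MonoidAlgebra.algHom_ext
  · intro x
    rw [AlgHom.comp_apply, liftA_single]
    change (TrivSqZeroExt.inl 1 + TrivSqZeroExt.inr (d (Multiplicative.toAdd x)) :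
      DualNumber B).fst = algebraMap R B (Coalgebra.counit (MonoidAlgebra.single x (1 : R)))
    rw [MonoidAlgebra.counit_single]
    simp
  · exact algHom_self_ext _ _

theorem dHom_liftA (d : M →+ B) : dHom (liftA (R := R) d) (liftA_fst d) = d := by
  ext m
  rw [dHom_apply, liftA_single]
  simp

theorem liftA_dHom (a : AM →ₐ[R] DualNumber B)
    (ha : (TrivSqZeroExt.fstHom R B B).comp a = (1 : WithConv (AM →ₐ[R] B)).ofConv) :
    liftA (dHom a ha) = a := by
  apply MonoidAlgebra.algHom_ext
  · intro x
    rw [liftA_single]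
    apply TrivSqZeroExt.ext
    · rw [fst_apply_single a ha]
      simp
    · simp [dHom_apply]
  · exact algHom_self_ext _ _

theorem dHom_mul (a a' : AM →ₐ[R] DualNumber B)
    (ha : (TrivSqZeroExt.fstHom R B B).comp a = (1 : WithConv (AM →ₐ[R] B)).ofConv)
    (ha' : (TrivSqZeroExt.fstHom R B B).comp a' = (1 : WithConv (AM →ₐ[R] B)).ofConv)
    (haa' : (TrivSqZeroExt.fstHom R B B).comp (WithConv.toConv a * WithConv.toConv a').ofConv =
      (1 : WithConv (AM →ₐ[R] B)).ofConv) :
    dHom (WithConv.toConv a * WithConv.toConv a').ofConv haa' = dHom a ha + dHom a' ha' := by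
  ext m
  rw [AddMonoidHom.add_apply, dHom_apply, dHom_apply, dHom_apply]
  have h := MonoidAlgebra.convMul_algHom_single_one (WithConv.toConv a) (WithConv.toConv a')
    (Multiplicative.ofAdd m)
  change (WithConv.toConv a * WithConv.toConv a').ofConv
    (MonoidAlgebra.single (Multiplicative.ofAdd m) 1) = _ at h
  rw [h]
  change (a (MonoidAlgebra.single (Multiplicative.ofAdd m) 1) *
    a' (MonoidAlgebra.single (Multiplicative.ofAdd m) 1)).snd = _
  rw [TrivSqZeroExt.snd_mul, fst_apply_single a ha, fst_apply_single a' ha']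
  simp [add_comm]

end Alg

section Scale

variable {R : Type u} [CommRing R] {A : Type u} [CommRing A] [HopfAlgebra R A]
  (B : Type u) [CommRing B] [Algebra R B]

/-- The `R`-algebra version of `scaleHom`. -/
noncomputable def scaleAlg (b : B) : DualNumber B →ₐ[R] DualNumber B :=
  { scaleHom b with
    commutes' := fun r => by
      have h := DFunLike.congr_fun (scaleHom_comp_algebraMap b) (algebraMap R B r)
      rw [RingHom.comp_apply] at h
      have h2 : algebraMap R (DualNumber B) r = algebraMap B (DualNumber B) (algebraMap R B r) := by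
        rw [← LieS.algebraMap_comp_eq (R := R) B]
        rfl
      change scaleHom b (algebraMap R (DualNumber B) r) = algebraMap R (DualNumber B) r
      rw [h2]
      exact h }

theorem scaleAlg_apply (b : B) (x : DualNumber B) :
    scaleAlg (R := R) B b x = scaleHom b x := rfl

theorem snd_scaleHom (b : B) (x : DualNumber B) : (scaleHom b x).snd = b * x.snd := by
  simp [scaleHom, TrivSqZeroExt.algebraMap_eq_inl', mul_comm]

theorem scale_comp_alpha_symm (b : B) (a : WithConv (A →ₐ[R] DualNumber B)) :
    scale B (Spec.map (CommRingCat.ofHom (algebraMap R B))) b ≫ (alpha (A := A) B).symm a =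
      (alpha (A := A) B).symm (WithConv.toConv ((scaleAlg B b).comp a.ofConv)) := by
  apply Over.OverMorphism.ext
  change Spec.map _ ≫ (𝟙 _ ≫ Spec.map _) = 𝟙 _ ≫ Spec.map _
  rw [Category.id_comp, Category.id_comp, LieS.specMap_comp]
  rfl

theorem alpha_scale_comp (b : B) (v : DP R B ⟶ GS R A) :
    alpha (A := A) B (scale B (Spec.map (CommRingCat.ofHom (algebraMap R B))) b ≫ v) =
      WithConv.toConv ((scaleAlg B b).comp (alpha (A := A) B v).ofConv) := by
  have h1 : v = (alpha (A := A) B).symm (alpha (A := A) B v) := by simp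
  conv_lhs => rw [h1, scale_comp_alpha_symm]
  simp

end Scale

section Main

variable (R : Type u) [CommRing R] (M : Type) [AddCommGroup M]
  (B : Type u) [CommRing B] [Algebra R B]

local notation "AM" => MonoidAlgebra R (Multiplicative M)

theorem dHom_congr {a a' : AM →ₐ[R] DualNumber B} (h : a = a')
    (ha : (TrivSqZeroExt.fstHom R B B).comp a = (1 : WithConv (AM →ₐ[R] B)).ofConv)
    (ha' : (TrivSqZeroExt.fstHom R B B).comp a' = (1 : WithConv (AM →ₐ[R] B)).ofConv) :
    dHom a ha = dHom a' ha' := by
  subst h
  rfl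

/-- The point of the Lie algebra as an algebra map. -/
noncomputable def aOf (v : LieR (Red.diag R M) B) : AM →ₐ[R] DualNumber B :=
  (alpha (A := AM) B v.1).ofConv

theorem aOf_fst (v : LieR (Red.diag R M) B) :
    (TrivSqZeroExt.fstHom R B B).comp (aOf R M B v) = (1 : WithConv (AM →ₐ[R] B)).ofConv :=
  (mem_Lie_iff_alpha B v.1).mp v.2

theorem aOf_mul (v w : LieR (Red.diag R M) B) :
    aOf R M B (v * w) = (WithConv.toConv (aOf R M B v) * WithConv.toConv (aOf R M B w)).ofConv := by
  change (alpha (A := AM) B (v.1 * w.1)).ofConv = _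
  rw [map_mul]
  rfl

/-- The Lie algebra point of an additive map. -/
noncomputable def vOf (d : M →+ B) : LieR (Red.diag R M) B :=
  ⟨(alpha (A := AM) B).symm (WithConv.toConv (liftA d)), by
    rw [mem_Lie_iff_alpha, MulEquiv.apply_symm_apply]
    exact liftA_fst d⟩

theorem aOf_vOf (d : M →+ B) : aOf R M B (vOf R M B d) = liftA d := by
  change (alpha (A := AM) B ((alpha (A := AM) B).symm (WithConv.toConv (liftA d)))).ofConv = _
  rw [MulEquiv.apply_symm_apply]

/-- `Lie(D(M))(B) ≃ Hom(M, B)`. -/
noncomputable def eLie : LieR (Red.diag R M) B ≃* Multiplicative (M →+ B) where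
  toFun v := Multiplicative.ofAdd (dHom (aOf R M B v) (aOf_fst R M B v))
  invFun d := vOf R M B (Multiplicative.toAdd d)
  left_inv v := by
    apply Subtype.ext
    change (alpha (A := AM) B).symm (WithConv.toConv (liftA (dHom (aOf R M B v) (aOf_fst R M B v)))) = v.1
    rw [liftA_dHom]
    change (alpha (A := AM) B).symm (alpha (A := AM) B v.1) = v.1
    simp
  right_inv d := by
    change Multiplicative.ofAdd (dHom (aOf R M B (vOf R M B (Multiplicative.toAdd d))) _) = d
    rw [dHom_congr R M B (aOf_vOf R M B (Multiplicative.toAdd d)) _ (liftA_fst _), dHom_liftA]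
    rfl
  map_mul' v w := by
    change Multiplicative.ofAdd (dHom (aOf R M B (v * w)) _) =
      Multiplicative.ofAdd (dHom (aOf R M B v) _) * Multiplicative.ofAdd (dHom (aOf R M B w) _)
    rw [← ofAdd_add]
    congr 1
    have h := aOf_mul R M B v w
    rw [dHom_congr R M B h (aOf_fst R M B (v * w)) (h ▸ aOf_fst R M B (v * w))]
    exact dHom_mul _ _ _ _ _

theorem eLie_apply (v : LieR (Red.diag R M) B) (m : M) :
    Multiplicative.toAdd (eLie R M B v) m =
      (aOf R M B v (MonoidAlgebra.single (Multiplicative.ofAdd m) 1)).snd := rfl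

theorem aOf_smul (b : B) (v : LieR (Red.diag R M) B) :
    aOf R M B (b • v) = (scaleAlg B b).comp (aOf R M B v) := by
  change (alpha (A := AM) B (scale B _ b ≫ v.1)).ofConv = _
  rw [alpha_scale_comp]
  rfl

theorem eLie_smul (b : B) (v : LieR (Red.diag R M) B) :
    eLie R M B (b • v) = Multiplicative.ofAdd (b • Multiplicative.toAdd (eLie R M B v)) := by
  apply Multiplicative.toAdd.injective
  apply AddMonoidHom.ext
  intro m
  rw [eLie_apply, aOf_smul, toAdd_ofAdd, AddMonoidHom.smul_apply, eLie_apply, AlgHom.comp_apply,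
    scaleAlg_apply, snd_scaleHom]
  rfl

end Main

end Groth.Agent.Lib.Helper25.LieDiag
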