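import Groth.Agent.Lib.Helper25LieKolchin

/-!
# Helper25LieKolchin2: the derived group of a connected solvable group acts unipotently (S15601)
-/

set_option autoImplicit false
set_option linter.style.haveILetI false
set_option linter.unusedSectionVars false
universe u v w

open TensorProduct WithConv HopfRep
open scoped commutatorElement

namespace Groth.Agent.Lib.Helper25.LieKolchin


section Derived

variable {k : Type u} [Field k] [IsAlgClosed k] {A : Type v} [CommRing A] [HopfAlgebra k A]
  [Algebra.FiniteType k A] [IsReduced A]

/-- In a connected solvable group, the derived group acts unipotently. -/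
theorem isNilpotent_actHom_commutator_aux
    (hconn : ∀ e : A, IsIdempotentElem e → e = 0 ∨ e = 1)
    [Group.IsSolvable (WithConv (A →ₐ[k] k))] (n : ℕ) :
    ∀ (V : Type v) [AddCommGroup V] [Module k V] [Comod k A V], Module.Finite k V →
      Module.finrank k V = n → ∀ c ∈ commutator (WithConv (A →ₐ[k] k)),
        IsNilpotent (actHom (k := k) (A := A) V c - 1) := by
  induction n using Nat.strong_induction_on with
  | _ n ih =>
    intro V _ _ _ hfin hn c hc
    haveI := hfin
    by_cases hV : Subsingleton V
    · refine ⟨1, ?_⟩
      ext x
      exact Subsingleton.elim _ _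
    rw [not_subsingleton_iff_nontrivial] at hV
    haveI := hV
    obtain ⟨v, -, hv, heig⟩ := hasEig_top (k := k) (A := A) (V := V) hconn (⊤ : Submodule k V)
      top_ne_bot (fun _ _ _ _ => Submodule.mem_top)
    set L : Submodule k V := Submodule.span k {v} with hLdef
    have hL : IsSubcomod (k := k) (A := A) L := by
      apply isSubcomod_of_forall_point_mem
      intro g u hu
      obtain ⟨t, rfl⟩ := Submodule.mem_span_singleton.mp hu
      obtain ⟨c', hc'⟩ := heig (toConv g) (Subgroup.mem_top _)
      rw [actHom_apply] at hc'
      rw [map_smul, show T g.toLinearMap v = c' • v from hc']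
      exact Submodule.smul_mem _ _ (Submodule.smul_mem _ _ (Submodule.mem_span_singleton_self v))
    -- commutators fix v
    have hfix : ∀ c ∈ commutator (WithConv (A →ₐ[k] k)), actHom (k := k) (A := A) V c v = v := by
      let N : Subgroup (WithConv (A →ₐ[k] k)) :=
        { carrier := {g | actHom (k := k) (A := A) V g v = v}
          mul_mem' := by
            intro a b ha hb
            change actHom V (a * b) v = v
            rw [map_mul, Module.End.mul_apply, show actHom V b v = v from hb,
              show actHom V a v = v from ha]
          one_mem' := by
            change actHom V 1 v = v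
            rw [map_one, Module.End.one_apply]
          inv_mem' := by
            intro a ha
            change actHom V a⁻¹ v = v
            have := actHom_inv_apply a v
            rwa [show actHom V a v = v from ha] at this }
      have hle : commutator (WithConv (A →ₐ[k] k)) ≤ N := by
        rw [commutator_eq_closure, Subgroup.closure_le]
        rintro x ⟨g, h, rfl⟩
        change actHom V ⁅g, h⁆ v = v
        obtain ⟨a, ha⟩ := heig g (Subgroup.mem_top _)
        obtain ⟨b, hb⟩ := heig h (Subgroup.mem_top _)
        obtain ⟨a', ha'⟩ := heig g⁻¹ (Subgroup.mem_top _)
        obtain ⟨b', hb'⟩ := heig h⁻¹ (Subgroup.mem_top _)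
        have haa : a' * a = 1 := by
          have := actHom_inv_apply g v
          rw [ha, map_smul, ha', smul_smul] at this
          have h2 : (a * a' - 1) • v = 0 := by rw [sub_smul, this, one_smul, sub_self]
          rcases smul_eq_zero.mp h2 with h3 | h3
          · rw [mul_comm]; exact sub_eq_zero.mp h3
          · exact absurd h3 hv
        have hbb : b' * b = 1 := by
          have := actHom_inv_apply h v
          rw [hb, map_smul, hb', smul_smul] at this
          have h2 : (b * b' - 1) • v = 0 := by rw [sub_smul, this, one_smul, sub_self]
          rcases smul_eq_zero.mp h2 with h3 | h3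
          · rw [mul_comm]; exact sub_eq_zero.mp h3
          · exact absurd h3 hv
        rw [commutatorElement_def, map_mul, map_mul, map_mul, Module.End.mul_apply,
          Module.End.mul_apply, Module.End.mul_apply]
        simp only [hb', map_smul, ha', hb, ha, smul_smul]
        convert one_smul k v using 2
        linear_combination (b' * b) * haa + hbb
      intro c hc
      exact hle hc
    -- the quotient comodule
    letI := quotComod L hL
    have hmk := isComodHom_mkQ L hL
    have hlt : Module.finrank k (V ⧸ L) < n := by
      have h1 := Submodule.finrank_quotient_add_finrank L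
      have h2 : Module.finrank k L = 1 := finrank_span_singleton hv
      omega
    obtain ⟨m, hm⟩ := ih _ hlt (V ⧸ L) inferInstance rfl c hc
    refine ⟨m + 1, ?_⟩
    -- compatibility with mkQ
    have hcompat : ∀ x : V, L.mkQ ((actHom (k := k) (A := A) V c - 1) x) =
        (actHom (k := k) (A := A) (V ⧸ L) c - 1) (L.mkQ x) := by
      intro x
      simp only [LinearMap.sub_apply, Module.End.one_apply, map_sub]
      rw [actHom_apply, actHom_apply, map_T_of_isComodHom hmk]
    have hpow : ∀ (j : ℕ) (x : V), L.mkQ (((actHom (k := k) (A := A) V c - 1) ^ j) x) =
        ((actHom (k := k) (A := A) (V ⧸ L) c - 1) ^ j) (L.mkQ x) := by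
      intro j
      induction j with
      | zero => intro x; simp
      | succ j ihj =>
        intro x
        rw [pow_succ', Module.End.mul_apply, hcompat, ihj, pow_succ', Module.End.mul_apply]
    ext x
    rw [pow_succ', Module.End.mul_apply, LinearMap.zero_apply]
    have hxL : ((actHom (k := k) (A := A) V c - 1) ^ m) x ∈ L := by
      rw [← Submodule.Quotient.mk_eq_zero, ← Submodule.mkQ_apply, hpow, hm, LinearMap.zero_apply]
    obtain ⟨t, ht⟩ := Submodule.mem_span_singleton.mp hxL
    rw [← ht, map_smul, LinearMap.sub_apply, Module.End.one_apply, hfix c hc, sub_self, smul_zero]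

end Derived


end Groth.Agent.Lib.Helper25.LieKolchin
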