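import Groth.Agent.Lib.Helper25OrbCl
import Mathlib

/-!
# Linearisations of the trivial line bundle (helper25)
-/

set_option autoImplicit false
set_option linter.unusedSectionVars false
set_option linter.style.haveILetI false
universe u
open TensorProduct HopfRep

namespace Groth.Agent.Lib.Helper25.LineBdl

open Groth.Agent.Lib.Helper25

section Slices
variable {k : Type u} [Field k] {A : Type u} [CommRing A] [Algebra k A]
  {R : Type u} [CommRing R] [Algebra k R]

/-- left slice by a point as an algebra map. -/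
noncomputable def lsliceAlg (x : R →ₐ[k] k) : R ⊗[k] A →ₐ[k] A :=
  (Algebra.TensorProduct.lid k A).toAlgHom.comp (Algebra.TensorProduct.map x (AlgHom.id k A))

theorem lsliceAlg_apply (x : R →ₐ[k] k) (z : R ⊗[k] A) :
    lsliceAlg x z = lslice x.toLinearMap z := by
  induction z using TensorProduct.induction_on with
  | zero => simp
  | add a b ha hb => simp only [map_add, ha, hb]
  | tmul r a => simp [lsliceAlg]

/-- right slice by a point as an algebra map. -/
noncomputable def sliceAlg (g : A →ₐ[k] k) : R ⊗[k] A →ₐ[k] R :=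
  (Algebra.TensorProduct.rid k k R).toAlgHom.comp (Algebra.TensorProduct.map (AlgHom.id k R) g)

theorem sliceAlg_apply (g : A →ₐ[k] k) (z : R ⊗[k] A) :
    sliceAlg g z = slice R g.toLinearMap z := by
  induction z using TensorProduct.induction_on with
  | zero => simp
  | add a b ha hb => simp only [map_add, ha, hb]
  | tmul r a => simp [sliceAlg]

end Slices

section Tw
variable {k : Type u} [Field k] {A : Type u} [CommRing A] [HopfAlgebra k A]
  {R : Type u} [CommRing R] [Algebra k R] [HopfRep.Comod k A R] [GLin.IsCoactAlg k A R]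

/-- The twisted coaction `r ↦ ρ(r) θ`. -/
noncomputable def twCoact (θ : R ⊗[k] A) : R →ₗ[k] R ⊗[k] A :=
  (LinearMap.mulRight k θ) ∘ₗ HopfRep.Comod.coact (k := k) (A := A) (V := R)

theorem twCoact_apply (θ : R ⊗[k] A) (r : R) :
    twCoact θ r = Comod.coact (k := k) (A := A) r * θ := rfl

theorem twCoact_one (θ : R ⊗[k] A) : twCoact θ 1 = θ := by
  rw [twCoact_apply, GLin.IsCoactAlg.coact_one (k := k) (A := A) (R := R), one_mul]

variable (θ : R ⊗[k] A)
  (hassoc : (TensorProduct.assoc k R A A).toLinearMap ∘ₗ (twCoact θ).rTensor A ∘ₗ twCoact θ =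
      (CoalgebraStruct.comul (R := k) (A := A)).lTensor R ∘ₗ twCoact θ)
  (hcounit : (CoalgebraStruct.counit (R := k) (A := A)).lTensor R ∘ₗ twCoact θ =
      (TensorProduct.mk k R k).flip 1)

/-- The twisted comodule (never an instance). -/
@[reducible] noncomputable def twComod : Comod k A R where
  coact := twCoact θ
  coassoc := hassoc
  counit_comp := hcounit

include hassoc hcounit in
theorem comul_lslice (l : R →ₗ[k] k) :
    CoalgebraStruct.comul (R := k) (lslice l θ) = (lslice l ∘ₗ twCoact θ).rTensor A θ := by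
  have h := LinearMap.congr_fun
    (@isComodHom_coeffMap k _ A _ _ _ R _ _ (twComod θ hassoc hcounit) l) (1 : R)
  have h1 : twCoact θ 1 = θ := twCoact_one θ
  change CoalgebraStruct.comul (R := k) (lslice l (twCoact θ 1)) =
    (lslice l ∘ₗ twCoact θ).rTensor A (twCoact θ 1) at h
  rw [h1] at h
  exact h

include hassoc hcounit in
theorem counit_lslice (l : R →ₗ[k] k) :
    CoalgebraStruct.counit (R := k) (lslice l θ) = l 1 := by
  have h := @counit_coeffMap k _ A _ _ _ R _ _ (twComod θ hassoc hcounit) l (1 : R)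
  change CoalgebraStruct.counit (R := k) (lslice l (twCoact θ 1)) = l 1 at h
  rw [twCoact_one] at h
  exact h

theorem lslice_twCoact (x : R →ₐ[k] k) (r : R) :
    lslice x.toLinearMap (twCoact θ r) = GLin.orbitHom k A x r * lslice x.toLinearMap θ := by
  rw [twCoact_apply, ← lsliceAlg_apply, ← lsliceAlg_apply, map_mul]
  rfl

include hassoc hcounit in
theorem isUnit_lslice (x : R →ₐ[k] k) : IsUnit (lslice x.toLinearMap θ) := by
  set θx := lslice x.toLinearMap θ with hθx
  have h1 := comul_lslice θ hassoc hcounit x.toLinearMap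
  have h2 := HopfAlgebra.mul_antipode_lTensor_comul_apply (R := k) (A := A) θx
  rw [h1, counit_lslice θ hassoc hcounit x.toLinearMap] at h2
  let L' : R ⊗[k] A →ₗ[k] A := LinearMap.mul' k A ∘ₗ
    (HopfAlgebra.antipode k (A := A)).lTensor A ∘ₗ (GLin.orbitHom k A x).toLinearMap.rTensor A
  have key : ∀ t : R ⊗[k] A, LinearMap.mul' k A ((HopfAlgebra.antipode k (A := A)).lTensor A
      ((lslice x.toLinearMap ∘ₗ twCoact θ).rTensor A t)) = θx * L' t := by
    intro t
    induction t using TensorProduct.induction_on with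
    | zero => simp
    | add a b ha hb => simp only [map_add, ha, hb, mul_add]
    | tmul r a =>
      simp only [L', LinearMap.rTensor_tmul, LinearMap.lTensor_tmul, LinearMap.mul'_apply,
        LinearMap.comp_apply, AlgHom.toLinearMap_apply]
      rw [lslice_twCoact]
      ring
  rw [key] at h2
  have h3 : θx * L' θ = 1 := by
    rw [h2]
    simp
  exact IsUnit.of_mul_eq_one _ h3

theorem slice_twCoact (g : A →ₐ[k] k) (r : R) :
    slice R g.toLinearMap (twCoact θ r) = T g.toLinearMap r * slice R g.toLinearMap θ := by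
  rw [twCoact_apply, ← sliceAlg_apply, ← sliceAlg_apply, map_mul, sliceAlg_apply, sliceAlg_apply,
    T_apply]

include hassoc hcounit in
theorem isUnit_slice (g : A →ₐ[k] k) : IsUnit (slice R g.toLinearMap θ) := by
  set h : A →ₐ[k] k := g.comp (HopfAlgebra.antipodeAlgHom k A) with hh
  have hconv : conv g.toLinearMap h.toLinearMap = CoalgebraStruct.counit (R := k) (A := A) := by
    apply LinearMap.ext
    intro a
    rw [← convPt_apply, hh, convPt_antipode]
    rfl
  have h1 := @T_T k _ A _ _ _ R _ _ (twComod θ hassoc hcounit) g.toLinearMap h.toLinearMap (1 : R)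
  have h2 := @T_counit k _ A _ _ _ R _ _ (twComod θ hassoc hcounit) (1 : R)
  rw [hconv, h2] at h1
  change slice R g.toLinearMap (twCoact θ (slice R h.toLinearMap (twCoact θ 1))) = 1 at h1
  rw [twCoact_one, slice_twCoact] at h1
  exact IsUnit.of_mul_eq_one _ (by rw [mul_comm]; exact h1)

end Tw


section Main
variable {k : Type u} [Field k] [IsAlgClosed k] {A : Type u} [CommRing A] [HopfAlgebra k A]
  [IsReduced A]
  {R : Type u} [CommRing R] [IsReduced R] [Algebra k R] [Algebra.FiniteType k R]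
  [HopfRep.Comod k A R] [GLin.IsCoactAlg k A R]

variable (θ : R ⊗[k] A)
  (hassoc : (TensorProduct.assoc k R A A).toLinearMap ∘ₗ (twCoact θ).rTensor A ∘ₗ twCoact θ =
      (CoalgebraStruct.comul (R := k) (A := A)).lTensor R ∘ₗ twCoact θ)
  (hcounit : (CoalgebraStruct.counit (R := k) (A := A)).lTensor R ∘ₗ twCoact θ =
      (TensorProduct.mk k R k).flip 1)

omit [IsAlgClosed k] [IsReduced A] [IsReduced R] [Algebra.FiniteType k R] in
/-- if all right slices of `θ` are the constants `φ χ`, then `θ = 1 ⊗ χ`. -/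
theorem eq_one_tmul_of_slice (χ : A)
    (h : ∀ φ : A →ₗ[k] k, slice R φ θ = algebraMap k R (φ χ)) : θ = (1 : R) ⊗ₜ[k] χ := by
  apply eq_of_slice_eq
  intro φ
  rw [h φ, slice_tmul, Algebra.algebraMap_eq_smul_one]

omit [IsReduced A] in
theorem eq_of_forall_point_eq {a b : R} (h : ∀ x : R →ₐ[k] k, x a = x b) : a = b := by
  by_contra hne
  have hnil : ¬ IsNilpotent (a - b) := fun hn => hne (sub_eq_zero.mp hn.eq_zero)
  obtain ⟨x, hx⟩ := DensePts.exists_point_ne_zero_of_not_isNilpotent (k := k) _ hnil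
  apply hx
  rw [map_sub, h x, sub_self]

omit [IsReduced R] [Algebra.FiniteType k R] in
theorem eq_of_forall_algHom_eq {a b : A} (h : ∀ g : A →ₐ[k] k, g a = g b) : a = b := by
  by_contra hne
  have hnil : ¬ IsNilpotent (a - b) := fun hn => hne (sub_eq_zero.mp hn.eq_zero)
  obtain ⟨g, hg⟩ := DensePts.exists_algHom_ne_zero_of_not_isNilpotent (k := k) _ hnil
  apply hg
  rw [map_sub, h g, sub_self]

include hassoc hcounit in
omit [IsAlgClosed k] [IsReduced A] [IsReduced R] [Algebra.FiniteType k R] in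
theorem isGroupLikeElem_of_eq (x₀ : R →ₐ[k] k) (χ : A) (hχ : lslice x₀.toLinearMap θ = χ)
    (hθ : θ = (1 : R) ⊗ₜ[k] χ) : IsGroupLikeElem k χ := by
  refine ⟨?_, ?_⟩
  · rw [← hχ, counit_lslice θ hassoc hcounit, AlgHom.toLinearMap_apply, map_one]
  · have h1 := comul_lslice θ hassoc hcounit x₀.toLinearMap
    rw [hχ] at h1
    rw [h1]
    have hf1 : (lslice x₀.toLinearMap ∘ₗ twCoact θ) 1 = χ := by
      rw [LinearMap.comp_apply, twCoact_one, hχ]
    generalize lslice x₀.toLinearMap ∘ₗ twCoact θ = f at hf1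
    rw [hθ, LinearMap.rTensor_tmul, hf1]

include hassoc hcounit in
/-- Case of constant units on `X`. -/
theorem exists_of_units_scalar [Nontrivial R]
    (h : ∀ u : Rˣ, (u : R) ∈ Set.range (algebraMap k R)) :
    ∃ χ : A, IsGroupLikeElem k χ ∧ θ = (1 : R) ⊗ₜ[k] χ := by
  obtain ⟨x₀, -⟩ := exists_point_vanishing_on (k := k) (R := R) ⊥ bot_ne_top
  set χ := lslice x₀.toLinearMap θ with hχ
  have hconst : ∀ x : R →ₐ[k] k, lslice x.toLinearMap θ = χ := by
    intro x
    apply eq_of_forall_algHom_eq (k := k)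
    intro g
    obtain ⟨c, hc⟩ := h (isUnit_slice θ hassoc hcounit g).unit
    have hc' : slice R g.toLinearMap θ = algebraMap k R c := hc.symm
    have e1 := apply_lslice x.toLinearMap g.toLinearMap θ
    have e2 := apply_lslice x₀.toLinearMap g.toLinearMap θ
    rw [hc'] at e1 e2
    simp only [AlgHom.toLinearMap_apply, AlgHom.commutes] at e1 e2
    rw [e1, hχ, e2]
  have hθ : θ = (1 : R) ⊗ₜ[k] χ := by
    apply eq_one_tmul_of_slice
    intro φ
    apply eq_of_forall_point_eq (k := k)
    intro x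
    have e1 := apply_lslice x.toLinearMap φ θ
    rw [hconst x] at e1
    rw [AlgHom.commutes]
    exact e1.symm
  exact ⟨χ, isGroupLikeElem_of_eq θ hassoc hcounit x₀ χ rfl hθ, hθ⟩

include hassoc hcounit in
/-- Case where every unit of `A` is a scalar multiple of a character. -/
theorem exists_of_units_grouplike [ConnectedSpace (PrimeSpectrum R)]
    (h : ∀ u : Aˣ, ∃ (c : k) (χ : A), IsGroupLikeElem k χ ∧ (u : A) = c • χ) :
    ∃ χ : A, IsGroupLikeElem k χ ∧ θ = (1 : R) ⊗ₜ[k] χ := by
  classical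
  haveI : Nontrivial R := (PrimeSpectrum.nonempty_iff_nontrivial).mp inferInstance
  haveI : IsJacobsonRing R := isJacobsonRing_of_finiteType (A := k) (B := R)
  have hgl : ∀ x : R →ₐ[k] k, IsGroupLikeElem k (lslice x.toLinearMap θ) := by
    intro x
    obtain ⟨c, χ, hχ, hc⟩ := h (isUnit_lslice θ hassoc hcounit x).unit
    have hc' : lslice x.toLinearMap θ = c • χ := hc
    have h1 := counit_lslice θ hassoc hcounit x.toLinearMap
    rw [hc', map_smul, hχ.counit_eq_one, AlgHom.toLinearMap_apply, map_one, smul_eq_mul,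
      mul_one] at h1
    rw [hc', h1, one_smul]
    exact hχ
  obtain ⟨Sθ, hSθ⟩ := TensorProduct.exists_finset θ
  let W : Submodule k A := Submodule.span k ((Sθ.image Prod.snd : Finset A) : Set A)
  have hW : ∀ l : R →ₗ[k] k, lslice l θ ∈ W := by
    intro l
    rw [hSθ, map_sum]
    apply Submodule.sum_mem
    intro i hi
    rw [lslice_tmul]
    exact W.smul_mem _ (Submodule.subset_span (Finset.mem_image_of_mem _ hi))
  let Γ : Set A := {χ | IsGroupLikeElem k χ ∧ χ ∈ W}
  have hΓfin : Γ.Finite := by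
    haveI : Module.Finite k W := Module.Finite.span_of_finite k (Finset.finite_toSet _)
    have h0 : LinearIndepOn k id {a : A | IsGroupLikeElem k a} := linearIndepOn_isGroupLikeElem
    have h1 : LinearIndepOn k id Γ := h0.mono (fun a ha => ha.1)
    have hli : LinearIndependent k (fun χ : Γ => (⟨χ.1, χ.2.2⟩ : W)) := by
      apply LinearIndependent.of_comp W.subtype
      exact h1
    exact Set.finite_coe_iff.mp hli.finite
  let I : A → Ideal R := fun χ => Ideal.span
    (Set.range fun φ : A →ₗ[k] k => slice R φ θ - algebraMap k R (φ χ))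
  let Z : A → Set (PrimeSpectrum R) := fun χ => PrimeSpectrum.zeroLocus (I χ : Set R)
  have hZclosed : ∀ χ, IsClosed (Z χ) := fun χ => PrimeSpectrum.isClosed_zeroLocus _
  have hpt : ∀ x : R →ₐ[k] k,
      (⟨RingHom.ker x.toRingHom, RingHom.ker_isPrime _⟩ : PrimeSpectrum R) ∈
        Z (lslice x.toLinearMap θ) := by
    intro x
    rw [PrimeSpectrum.mem_zeroLocus, SetLike.coe_subset_coe]
    apply Ideal.span_le.mpr
    rintro _ ⟨φ, rfl⟩
    change _ ∈ RingHom.ker x.toRingHom
    rw [RingHom.mem_ker]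
    change x (slice R φ θ - algebraMap k R (φ (lslice x.toLinearMap θ))) = 0
    rw [map_sub, AlgHom.commutes, apply_lslice]
    simp
  have hdisj : ∀ χ χ', χ ≠ χ' → Disjoint (Z χ) (Z χ') := by
    intro χ χ' hne
    rw [Set.disjoint_left]
    intro p hp hp'
    obtain ⟨φ, hφ⟩ : ∃ φ : A →ₗ[k] k, φ χ ≠ φ χ' := by
      by_contra hall
      push Not at hall
      apply hne
      rw [← sub_eq_zero]
      exact (Module.forall_dual_apply_eq_zero_iff k _).mp
        (fun φ => by rw [map_sub, hall φ, sub_self])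
    have h1 : slice R φ θ - algebraMap k R (φ χ) ∈ p.asIdeal :=
      (PrimeSpectrum.mem_zeroLocus _ _).mp hp (Ideal.subset_span ⟨φ, rfl⟩)
    have h2 : slice R φ θ - algebraMap k R (φ χ') ∈ p.asIdeal :=
      (PrimeSpectrum.mem_zeroLocus _ _).mp hp' (Ideal.subset_span ⟨φ, rfl⟩)
    have h3 : algebraMap k R (φ χ - φ χ') ∈ p.asIdeal := by
      have := p.asIdeal.sub_mem h2 h1
      rw [map_sub]
      convert this using 1
      ring
    have hu : IsUnit (algebraMap k R (φ χ - φ χ')) :=
      (IsUnit.mk0 _ (sub_ne_zero.mpr hφ)).map _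
    exact p.isPrime.ne_top (Ideal.eq_top_of_isUnit_mem _ h3 hu)
  have hcover : ∀ p : PrimeSpectrum R, ∃ χ ∈ Γ, p ∈ Z χ := by
    by_contra hnot
    push Not at hnot
    obtain ⟨p, hp⟩ := hnot
    let U : Set (PrimeSpectrum R) := (⋃ χ ∈ Γ, Z χ)ᶜ
    have hUopen : IsOpen U := (hΓfin.isClosed_biUnion (fun χ _ => hZclosed χ)).isOpen_compl
    have hpU : p ∈ U := by
      intro hmem
      obtain ⟨χ, hχ, hpχ⟩ := Set.mem_iUnion₂.mp hmem
      exact hp χ hχ hpχ
    obtain ⟨q, hqU, hq⟩ := nonempty_inter_closedPoints (Z := U) ⟨p, hpU⟩ hUopen.isLocallyClosed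
    have hqmax := (PrimeSpectrum.isClosed_singleton_iff_isMaximal q).mp hq
    obtain ⟨x, hx⟩ := exists_point_vanishing_on (k := k) q.asIdeal hqmax.ne_top
    have hqx : q = ⟨RingHom.ker x.toRingHom, RingHom.ker_isPrime _⟩ :=
      PrimeSpectrum.ext (hqmax.eq_of_le (RingHom.ker_ne_top _) (fun f hf => hx f hf))
    apply hqU
    rw [hqx]
    exact Set.mem_biUnion (show lslice x.toLinearMap θ ∈ Γ from ⟨hgl x, hW _⟩) (hpt x)
  obtain ⟨x₀, -⟩ := exists_point_vanishing_on (k := k) (R := R) ⊥ bot_ne_top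
  set χ₀ := lslice x₀.toLinearMap θ with hχ₀
  have hclopen : IsClopen (Z χ₀) := by
    refine ⟨hZclosed χ₀, ?_⟩
    have hcompl : (Z χ₀)ᶜ = ⋃ χ ∈ (Γ \ {χ₀}), Z χ := by
      ext p
      constructor
      · intro hp
        obtain ⟨χ, hχ, hpχ⟩ := hcover p
        have hne : χ ≠ χ₀ := fun h => hp (h ▸ hpχ)
        exact Set.mem_biUnion (show χ ∈ Γ \ {χ₀} from ⟨hχ, hne⟩) hpχ
      · intro hp
        obtain ⟨χ, ⟨hχ, hne⟩, hpχ⟩ := Set.mem_iUnion₂.mp hp
        intro hp0
        exact (Set.disjoint_left.mp (hdisj χ χ₀ hne)) hpχ hp0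
    rw [← isClosed_compl_iff, hcompl]
    exact (hΓfin.subset Set.diff_subset).isClosed_biUnion (fun χ _ => hZclosed χ)
  have huniv : Z χ₀ = Set.univ := by
    rcases isClopen_iff.mp hclopen with h | h
    · have := hpt x₀
      rw [← hχ₀, h] at this
      exact absurd this (Set.notMem_empty _)
    · exact h
  have hI : I χ₀ = ⊥ := by
    rw [eq_bot_iff]
    intro f hf
    have hnil : f ∈ nilradical R := by
      rw [nilradical_eq_sInf, Ideal.mem_sInf]
      intro P hP
      have : (⟨P, hP⟩ : PrimeSpectrum R) ∈ Z χ₀ := by rw [huniv]; trivial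
      exact (PrimeSpectrum.mem_zeroLocus _ _).mp this hf
    rw [nilradical_eq_zero] at hnil
    exact hnil
  have hθ : θ = (1 : R) ⊗ₜ[k] χ₀ := eq_one_tmul_of_slice θ χ₀ (fun φ => by
    have : slice R φ θ - algebraMap k R (φ χ₀) ∈ I χ₀ := Ideal.subset_span ⟨φ, rfl⟩
    rw [hI] at this
    exact sub_eq_zero.mp this)
  exact ⟨χ₀, hgl x₀, hθ⟩

end Main

end Groth.Agent.Lib.Helper25.LineBdl
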