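import Groth.Agent.Lib.Helper25NilGLDiag
import Groth.Agent.Lib.Helper25MultBC

/-!
# Rigidity of homomorphisms into groups of multiplicative type over a local base, part A (helper25)

Convolution-algebra tools.

* `conv_mul_mem`: if the values of `f` lie in `I` and the values of `g` lie in `I'`, then the
  values of the convolution product `f * g` lie in `I * I'`.
* `cube_sub_of_commute`: for commuting idempotents `e f` of a ring, `(e - f)^3 = e - f`.
* `cf e m : A →ₗ[R] S`: the `m`-th coefficient functional `a ↦ (e (1 ⊗ a))_m` attached to a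
  bialgebra map `e : S ⊗[R] A →ₐc[S] S[M]`; `cf_conv_idem`: it is an idempotent of the
  convolution algebra.
-/

set_option autoImplicit false
universe u v w

namespace Groth.Agent.Lib.Helper25.LocRigid

open TensorProduct WithConv Groth.Agent.Lib.Helper25

section Conv

variable {R : Type u} [CommRing R] {C : Type v} [AddCommGroup C] [Module R C] [Coalgebra R C]
  {S : Type w} [CommRing S] [Algebra R S]

theorem conv_mul_mem (I I' : Ideal S) (f g : WithConv (C →ₗ[R] S))
    (hf : ∀ c, f c ∈ I) (hg : ∀ c, g c ∈ I') (c : C) : (f * g) c ∈ I * I' := by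
  rw [LinearMap.convMul_apply]
  generalize CoalgebraStruct.comul (R := R) c = z
  induction z using TensorProduct.induction_on with
  | zero => simp
  | tmul x y =>
    rw [TensorProduct.map_tmul, LinearMap.mul'_apply]
    exact Ideal.mul_mem_mul (hf x) (hg y)
  | add x y hx hy =>
    rw [map_add, map_add]
    exact Ideal.add_mem _ hx hy

theorem cube_sub_of_commute {T : Type*} [Ring T] {e f : T} (he : IsIdempotentElem e)
    (hf : IsIdempotentElem f) (hc : Commute e f) : (e - f) * (e - f) * (e - f) = e - f := by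
  have h1 : e * e = e := he
  have h2 : f * f = f := hf
  have h3 : f * e = e * f := hc.eq.symm
  have h4 : e * f * e = e * f := by rw [mul_assoc, h3, ← mul_assoc, h1]
  have h5 : e * f * f = e * f := by rw [mul_assoc, h2]
  simp only [mul_sub, sub_mul, h1, h2, h3, h4, h5]
  abel

end Conv

section Coeff

variable {R : Type u} [CommRing R] {S : Type v} [CommRing S] [Algebra R S]
  {A : Type w} [CommRing A] [Bialgebra R A] {M : Type*} [CommGroup M]

/-- The `m`-th coefficient functional attached to `e : S ⊗[R] A →ₐc[S] S[M]`. -/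
noncomputable def cf (e : (S ⊗[R] A) →ₐc[S] MonoidAlgebra S M) (m : M) : A →ₗ[R] S :=
  ((coeffFun S m).restrictScalars R) ∘ₗ ((e : (S ⊗[R] A) →ₗ[S] MonoidAlgebra S M).restrictScalars R) ∘ₗ
    (TensorProduct.mk R S A 1)

@[simp] theorem cf_apply (e : (S ⊗[R] A) →ₐc[S] MonoidAlgebra S M) (m : M) (a : A) :
    cf e m a = (e ((1 : S) ⊗ₜ[R] a)).coeff m := rfl

theorem cf_conv_idem (e : (S ⊗[R] A) →ₐc[S] MonoidAlgebra S M) (m : M) :
    toConv (cf e m) * toConv (cf e m) = toConv (cf e m) := by
  classical
  ext a
  rw [LinearMap.convMul_apply]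
  have key : ∀ z : A ⊗[R] A,
      LinearMap.mul' R S (TensorProduct.map (cf e m) (cf e m) z) =
        coeffPair S m m (TensorProduct.map (e : (S ⊗[R] A) →ₗ[S] MonoidAlgebra S M)
          (e : (S ⊗[R] A) →ₗ[S] MonoidAlgebra S M) (MRB.bcMap2 S A z)) := by
    intro z
    induction z using TensorProduct.induction_on with
    | zero => simp
    | tmul x y =>
      rw [MRB.bcMap2_tmul, TensorProduct.map_tmul, TensorProduct.map_tmul, LinearMap.mul'_apply]
      simp [coeffPair]
    | add x y hx hy => simp only [map_add, hx, hy]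
  simp only [ofConv_toConv]
  rw [key, ← MRB.comul_one_tmul]
  have h2 : TensorProduct.map (e : (S ⊗[R] A) →ₗ[S] MonoidAlgebra S M)
      (e : (S ⊗[R] A) →ₗ[S] MonoidAlgebra S M)
      (CoalgebraStruct.comul (R := S) ((1 : S) ⊗ₜ[R] a)) =
      CoalgebraStruct.comul (R := S) (e ((1 : S) ⊗ₜ[R] a)) := by
    have := CoalgHomClass.map_comp_comul_apply e ((1 : S) ⊗ₜ[R] a)
    exact this
  rw [h2, coeffPair_comul, if_pos rfl]
  rfl

end Coeff

end Groth.Agent.Lib.Helper25.LocRigid
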