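import Groth.Agent.Lib.Helper25LocRigidA

/-!
# Rigidity of homomorphisms into groups of multiplicative type over a local base, part B (helper25)

* `eq_of_diag_cover`: let `e : S ⊗[R] A ≃ₐc[S] S[M]`, `A → S ⊗ A` injective, `𝔪 S` inside the
  Jacobson radical of `S`; two bialgebra maps `φ ψ : C → A` congruent modulo `𝔪 A`, whose
  coefficient functionals commute for the convolution product and with `(φ c - ψ c)_c`
  generating a finitely generated ideal, are equal.
-/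

set_option autoImplicit false
universe u v w

namespace Groth.Agent.Lib.Helper25.LocRigid

open TensorProduct WithConv Groth.Agent.Lib.Helper25

section Idem

variable {R : Type u} [CommRing R] {C : Type v} [AddCommGroup C] [Module R C] [Coalgebra R C]
  {A : Type w} [AddCommGroup A] [Module R A] [Coalgebra R A]
  {S : Type*} [CommRing S] [Algebra R S]

theorem idem_comp {f : A →ₗ[R] S} (hf : toConv f * toConv f = toConv f) (h : C →ₗc[R] A) :
    toConv (f ∘ₗ h.toLinearMap) * toConv (f ∘ₗ h.toLinearMap) = toConv (f ∘ₗ h.toLinearMap) := by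
  have := LinearMap.convMul_comp_coalgHom_distrib (toConv f) (toConv f) h
  rw [hf] at this
  apply ofConv_injective
  rw [← this]

theorem cube_mem {P Q : WithConv (C →ₗ[R] S)} (hP : IsIdempotentElem P)
    (hQ : IsIdempotentElem Q) (hc : Commute P Q) (I : Ideal S) (h : ∀ c, (P - Q) c ∈ I) (c : C) :
    (P - Q) c ∈ I * I := by
  have hcube := cube_sub_of_commute hP hQ hc
  have h2 : ∀ c, ((P - Q) * (P - Q)) c ∈ I * I := conv_mul_mem I I (P - Q) (P - Q) h h
  have h3 : ((P - Q) * (P - Q) * (P - Q)) c ∈ I * I * I :=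
    conv_mul_mem (I * I) I ((P - Q) * (P - Q)) (P - Q) h2 h c
  rw [hcube] at h3
  exact (Ideal.mul_le_left (I := I * I) (J := I)) h3

end Idem

section Span

variable {S : Type u} [CommRing S] {A : Type v} [CommRing A] {B : Type w} [CommRing B]
  [Algebra S B]

theorem map_span_mem (E : A →+* B) (𝔟 : Ideal S) (G : Set A)
    (h : ∀ x ∈ G, E x ∈ 𝔟 • (⊤ : Submodule S B)) :
    ∀ x ∈ Ideal.span G, E x ∈ 𝔟 • (⊤ : Submodule S B) := by
  intro x hx
  induction hx using Submodule.span_induction with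
  | mem x hx => exact h x hx
  | zero => rw [map_zero]; exact zero_mem _
  | add x y _ _ hx hy => rw [map_add]; exact add_mem hx hy
  | smul a x _ hx =>
    rw [smul_eq_mul, map_mul]
    exact NilGL.mul_mem_smul_top 𝔟 (E a) hx

end Span

section Main

variable {R : Type u} [CommRing R] {S : Type v} [CommRing S] [Algebra R S]
  {A : Type w} [CommRing A] [Bialgebra R A] {M : Type*} [CommGroup M]
  {C : Type*} [CommRing C] [Bialgebra R C]

theorem one_tmul_mem_smul_top (𝔪 : Ideal R) {x : A} (hx : x ∈ 𝔪 • (⊤ : Submodule R A)) :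
    (1 : S) ⊗ₜ[R] x ∈ (𝔪.map (algebraMap R S)) • (⊤ : Submodule S (S ⊗[R] A)) := by
  refine Submodule.smul_induction_on hx ?_ ?_
  · intro r hr a _
    have : (1 : S) ⊗ₜ[R] (r • a) = algebraMap R S r • ((1 : S) ⊗ₜ[R] a) := by
      rw [TensorProduct.tmul_smul, TensorProduct.smul_tmul', TensorProduct.smul_tmul',
        Algebra.smul_def, mul_one, smul_eq_mul, mul_one]
    rw [this]
    exact Submodule.smul_mem_smul (Ideal.mem_map_of_mem _ hr) Submodule.mem_top
  · intro x y hx hy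
    rw [TensorProduct.tmul_add]
    exact add_mem hx hy

theorem eq_of_diag_cover (e : (S ⊗[R] A) ≃ₐc[S] MonoidAlgebra S M)
    (hinj : Function.Injective (fun a : A => (1 : S) ⊗ₜ[R] a))
    (𝔪 : Ideal R) (hrad : 𝔪.map (algebraMap R S) ≤ Ideal.jacobson ⊥)
    (φ ψ : C →ₐc[R] A)
    (hs : ∀ c, φ c - ψ c ∈ 𝔪 • (⊤ : Submodule R A))
    (hfg : (Ideal.span (Set.range fun c => φ c - ψ c)).FG)
    (hcomm : ∀ m, Commute (toConv (cf (e : (S ⊗[R] A) →ₐc[S] MonoidAlgebra S M) m ∘ₗ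
      (φ : C →ₗc[R] A).toLinearMap))
      (toConv (cf (e : (S ⊗[R] A) →ₐc[S] MonoidAlgebra S M) m ∘ₗ
      (ψ : C →ₗc[R] A).toLinearMap))) :
    φ = ψ := by
  classical
  set J : Ideal A := Ideal.span (Set.range fun c => φ c - ψ c) with hJ
  obtain ⟨t, ht⟩ := hfg
  let E : A →+* MonoidAlgebra S M :=
    ((e : (S ⊗[R] A) ≃ₐc[S] MonoidAlgebra S M) : (S ⊗[R] A) →+* MonoidAlgebra S M).comp
      (Algebra.TensorProduct.includeRight (R := R) (A := S) (B := A)).toRingHom
  have hE : ∀ a, E a = e ((1 : S) ⊗ₜ[R] a) := fun a => rfl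
  let gens : Finset S :=
    t.biUnion (fun x => (E x).coeff.support.image (fun m => (E x).coeff m))
  set 𝔞 : Ideal S := Ideal.span (gens : Set S) with h𝔞
  have hgen : ∀ x ∈ t, ∀ m, (E x).coeff m ∈ 𝔞 := by
    intro x hx m
    by_cases hm : (E x).coeff m = 0
    · rw [hm]; exact zero_mem _
    · apply Ideal.subset_span
      exact Finset.mem_coe.mpr (Finset.mem_biUnion.mpr
        ⟨x, hx, Finset.mem_image.mpr ⟨m, Finsupp.mem_support_iff.mpr hm, rfl⟩⟩)
  -- all elements of `J` have coefficients in `𝔞`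
  have h1 : ∀ x ∈ J, E x ∈ 𝔞 • (⊤ : Submodule S (MonoidAlgebra S M)) := by
    rw [← ht]
    exact map_span_mem E 𝔞 _ (fun x hx =>
      NilGL.mem_smul_top_of_coeff_mem 𝔞 (E x) (hgen x (Finset.mem_coe.mp hx)))
  have hmemJ : ∀ c, φ c - ψ c ∈ J := fun c => Ideal.subset_span ⟨c, rfl⟩
  -- the cubic identity
  have h3 : ∀ c m, (E (φ c - ψ c)).coeff m ∈ 𝔞 * 𝔞 := by
    intro c m
    set e' : (S ⊗[R] A) →ₐc[S] MonoidAlgebra S M := (e : (S ⊗[R] A) →ₐc[S] MonoidAlgebra S M)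
    set P := toConv (cf e' m ∘ₗ (φ : C →ₗc[R] A).toLinearMap) with hP
    set Q := toConv (cf e' m ∘ₗ (ψ : C →ₗc[R] A).toLinearMap) with hQ
    have hPi : IsIdempotentElem P := idem_comp (cf_conv_idem e' m) (φ : C →ₗc[R] A)
    have hQi : IsIdempotentElem Q := idem_comp (cf_conv_idem e' m) (ψ : C →ₗc[R] A)
    have hD : ∀ c, (P - Q) c = (E (φ c - ψ c)).coeff m := by
      intro c
      rw [hE, TensorProduct.tmul_sub, map_sub]
      rfl
    have hDmem : ∀ c, (P - Q) c ∈ 𝔞 := by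
      intro c
      rw [hD]
      exact NilGL.coeff_mem_of_mem_smul_top 𝔞 (h1 _ (hmemJ c)) m
    have := cube_mem hPi hQi (hcomm m) 𝔞 hDmem c
    rw [hD] at this
    exact this
  -- hence all elements of `J` have coefficients in `𝔞 * 𝔞`
  have h4 : ∀ x ∈ J, E x ∈ (𝔞 * 𝔞) • (⊤ : Submodule S (MonoidAlgebra S M)) := by
    refine map_span_mem E (𝔞 * 𝔞) _ ?_
    rintro _ ⟨c, rfl⟩
    exact NilGL.mem_smul_top_of_coeff_mem (𝔞 * 𝔞) _ (h3 c)
  have htJ : ∀ x ∈ t, x ∈ J := fun x hx => by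
    rw [← ht]; exact Ideal.subset_span (Finset.mem_coe.mpr hx)
  have h5 : 𝔞 ≤ 𝔞 • 𝔞 := by
    rw [h𝔞, Ideal.span_le]
    intro s hs'
    obtain ⟨x, hx, hs''⟩ := Finset.mem_biUnion.mp (Finset.mem_coe.mp hs')
    obtain ⟨m, -, rfl⟩ := Finset.mem_image.mp hs''
    rw [smul_eq_mul]
    exact NilGL.coeff_mem_of_mem_smul_top (𝔞 * 𝔞) (h4 x (htJ x hx)) m
  -- `𝔞 ≤ 𝔪 S`
  have h6 : 𝔞 ≤ 𝔪.map (algebraMap R S) := by
    rw [h𝔞, Ideal.span_le]
    intro s hs'
    obtain ⟨x, hx, hs''⟩ := Finset.mem_biUnion.mp (Finset.mem_coe.mp hs')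
    obtain ⟨m, -, rfl⟩ := Finset.mem_image.mp hs''
    have hxm : x ∈ 𝔪 • (⊤ : Submodule R A) := by
      have hJle : J ≤ 𝔪.map (algebraMap R A) := by
        rw [hJ, Ideal.span_le]
        rintro _ ⟨c, rfl⟩
        have := hs c
        rw [Ideal.smul_top_eq_map] at this
        exact this
      rw [Ideal.smul_top_eq_map]
      exact hJle (htJ x hx)
    have h7 : E x ∈ (𝔪.map (algebraMap R S)) • (⊤ : Submodule S (MonoidAlgebra S M)) := by
      rw [hE]
      exact MRB.map_mem_smul_top (e : (S ⊗[R] A) →ₗ[S] MonoidAlgebra S M) _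
        (one_tmul_mem_smul_top 𝔪 hxm)
    exact NilGL.coeff_mem_of_mem_smul_top _ h7 m
  have h8 : 𝔞 = ⊥ := Submodule.eq_bot_of_le_smul_of_le_jacobson_bot 𝔞 𝔞 ⟨gens, rfl⟩ h5
    (h6.trans hrad)
  ext c
  have h9 := h1 _ (hmemJ c)
  rw [h8, Submodule.bot_smul, Submodule.mem_bot, hE, EmbeddingLike.map_eq_zero_iff] at h9
  have h10 : φ c - ψ c = 0 := hinj (by simpa using h9)
  exact sub_eq_zero.mp h10

end Main

end Groth.Agent.Lib.Helper25.LocRigid
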