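import Groth.Agent.Lib.Helper25LocRigidC

/-!
# Rigidity over a local base, part D (helper25): Hopf algebras spanned by group-likes over a field

* `eq_zero_of_divisible`: a finitely generated abelian group which is divisible is trivial.
* `groupLike_trivial_of_field`: let `D` be a Hopf algebra over a field spanned by the group-like
  elements `ρ m` (`m` in a finitely generated commutative group `M`); if for all `n > 0` all
  `ρ m - 1` lie in the ideal generated by the `(ρ m')^n - 1`, then all `ρ m` are `1`.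
-/

set_option autoImplicit false
universe u v w

namespace Groth.Agent.Lib.Helper25.LocRigid

open TensorProduct

section Divisible

theorem eq_zero_of_divisible {N : Type*} [AddCommGroup N] [Module.Finite ℤ N]
    (h : ∀ n : ℕ, 0 < n → ∀ x : N, ∃ y : N, n • y = x) (x : N) : x = 0 := by
  have hle : (⊤ : Submodule ℤ N) ≤ (Ideal.span {(2 : ℤ)}) • (⊤ : Submodule ℤ N) := by
    intro x _
    obtain ⟨y, hy⟩ := h 2 (by norm_num) x
    rw [← hy]
    have : (2 : ℕ) • y = (2 : ℤ) • y := by
      rw [← natCast_zsmul]; rfl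
    rw [this]
    exact Submodule.smul_mem_smul (Ideal.mem_span_singleton_self 2) Submodule.mem_top
  obtain ⟨r, hr1, hr2⟩ := Submodule.exists_sub_one_mem_and_smul_eq_zero_of_fg_of_le_smul
    (Ideal.span {(2 : ℤ)}) (⊤ : Submodule ℤ N) Module.Finite.fg_top hle
  have hr0 : r ≠ 0 := by
    rintro rfl
    rw [Ideal.mem_span_singleton] at hr1
    omega
  have hk : 0 < r.natAbs := Int.natAbs_pos.mpr hr0
  obtain ⟨y, hy⟩ := h r.natAbs hk x
  rw [← hy]
  have h0 : r • y = 0 := hr2 y Submodule.mem_top
  rcases Int.natAbs_eq r with hr | hr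
  · rw [← natCast_zsmul, ← hr]
    exact h0
  · have : (r.natAbs : ℤ) = -r := by omega
    rw [← natCast_zsmul, this, neg_smul, h0, neg_zero]

theorem eq_one_of_divisible {G : Type*} [CommGroup G] (hG : Group.FG G)
    (h : ∀ n : ℕ, 0 < n → ∀ g : G, ∃ y : G, y ^ n = g) (g : G) : g = 1 := by
  haveI : AddGroup.FG (Additive G) := GroupFG.iff_add_fg.mp hG
  haveI : Module.Finite ℤ (Additive G) := Module.Finite.iff_addGroup_fg.mpr inferInstance
  have := eq_zero_of_divisible (N := Additive G) (fun n hn x => by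
    obtain ⟨y, hy⟩ := h n hn x.toMul
    exact ⟨Additive.ofMul y, by rw [← ofMul_pow, hy]; rfl⟩) (Additive.ofMul g)
  exact Additive.ofMul.injective this

end Divisible

section Field

variable {κ : Type u} [Field κ] {D : Type v} [CommRing D] [HopfAlgebra κ D]

theorem liftGroupLike_eq' (x : MonoidAlgebra κ (GroupLike κ D)) :
    (MonoidAlgebra.liftGroupLikeBialgHom : MonoidAlgebra κ (GroupLike κ D) →ₐc[κ] D) x =
      Finsupp.linearCombination κ (GroupLike.val (R := κ) (A := D)) x.coeff := by
  rw [MonoidAlgebra.liftGroupLikeBialgHom_apply, MonoidAlgebra.lift_apply,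
    Finsupp.linearCombination_apply]
  rfl

theorem liftGroupLike_injective' : Function.Injective
    (MonoidAlgebra.liftGroupLikeBialgHom : MonoidAlgebra κ (GroupLike κ D) →ₐc[κ] D) := by
  have hli : LinearIndependent κ (GroupLike.val (R := κ) (A := D)) := linearIndep_groupLikeVal
  intro x y hxy
  rw [liftGroupLike_eq', liftGroupLike_eq'] at hxy
  exact MonoidAlgebra.coeff_injective (hli hxy)

theorem liftGroupLike_single (g : GroupLike κ D) :
    (MonoidAlgebra.liftGroupLikeBialgHom : MonoidAlgebra κ (GroupLike κ D) →ₐc[κ] D)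
      (MonoidAlgebra.single g 1) = (g : D) := by
  rw [MonoidAlgebra.liftGroupLikeBialgHom_apply, MonoidAlgebra.lift_single, one_smul]
  rfl

variable {M : Type w} [CommGroup M]

theorem groupLike_trivial_of_field (hM : Group.FG M) (ρ : M →* GroupLike κ D)
    (hspan : Submodule.span κ (Set.range fun m => ((ρ m : GroupLike κ D) : D)) = ⊤)
    (hdiv : ∀ n : ℕ, 0 < n → ∀ m, ((ρ m : GroupLike κ D) : D) - 1 ∈
      Ideal.span (Set.range fun m' => ((ρ m' : GroupLike κ D) : D) ^ n - 1)) :
    ∀ m, ((ρ m : GroupLike κ D) : D) = 1 := by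
  classical
  -- `ρ` is surjective
  have hsurj : Function.Surjective ρ := by
    intro g
    by_contra hg
    have hg' : g ∉ Set.range ρ := hg
    have hli : LinearIndependent κ (GroupLike.val (R := κ) (A := D)) := linearIndep_groupLikeVal
    have := hli.notMem_span_image hg'
    apply this
    have himg : (GroupLike.val (R := κ) (A := D)) '' Set.range ρ =
        Set.range fun m => ((ρ m : GroupLike κ D) : D) := by
      ext x
      constructor
      · rintro ⟨_, ⟨m, rfl⟩, rfl⟩
        exact ⟨m, rfl⟩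
      · rintro ⟨m, rfl⟩
        exact ⟨ρ m, ⟨m, rfl⟩, rfl⟩
    rw [himg, hspan]
    trivial
  haveI : Group.FG M := hM
  have hGfg : Group.FG (GroupLike κ D) := Group.fg_of_surjective hsurj
  -- `D ≃ κ[G]`
  have hbij : Function.Bijective
      (MonoidAlgebra.liftGroupLikeBialgHom : MonoidAlgebra κ (GroupLike κ D) →ₐc[κ] D) := by
    refine ⟨liftGroupLike_injective', ?_⟩
    intro y
    have hy : y ∈ Submodule.span κ (Set.range fun m => ((ρ m : GroupLike κ D) : D)) := by
      rw [hspan]; trivial
    have hle : Submodule.span κ (Set.range fun m => ((ρ m : GroupLike κ D) : D)) ≤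
        LinearMap.range ((MonoidAlgebra.liftGroupLikeBialgHom :
          MonoidAlgebra κ (GroupLike κ D) →ₐc[κ] D) :
          MonoidAlgebra κ (GroupLike κ D) →ₗ[κ] D) := by
      rw [Submodule.span_le]
      rintro _ ⟨m, rfl⟩
      exact ⟨MonoidAlgebra.single (ρ m) 1, liftGroupLike_single (ρ m)⟩
    obtain ⟨x, hx⟩ := hle hy
    exact ⟨x, hx⟩
  let E : MonoidAlgebra κ (GroupLike κ D) ≃ₐ[κ] D :=
    AlgEquiv.ofBijective ((MonoidAlgebra.liftGroupLikeBialgHom :
      MonoidAlgebra κ (GroupLike κ D) →ₐc[κ] D) : MonoidAlgebra κ (GroupLike κ D) →ₐ[κ] D) hbij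
  have hE : ∀ g : GroupLike κ D, E.symm (g : D) = MonoidAlgebra.single g 1 := by
    intro g
    rw [AlgEquiv.symm_apply_eq]
    exact (liftGroupLike_single g).symm
  -- every element of `G` is an `n`-th power
  have hpow : ∀ n : ℕ, 0 < n → ∀ g : GroupLike κ D, ∃ y : GroupLike κ D, y ^ n = g := by
    intro n hn g
    obtain ⟨m, rfl⟩ := hsurj g
    set N : Subgroup (GroupLike κ D) := (powMonoidHom n : GroupLike κ D →* GroupLike κ D).range
      with hN
    let Ψ : D →ₐ[κ] MonoidAlgebra κ (GroupLike κ D ⧸ N) :=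
      (MonoidAlgebra.mapDomainAlgHom κ κ (QuotientGroup.mk' N)).comp E.symm.toAlgHom
    have hΨ : ∀ g : GroupLike κ D, Ψ (g : D) = MonoidAlgebra.single (QuotientGroup.mk' N g) 1 := by
      intro g
      show MonoidAlgebra.mapDomainAlgHom κ κ (QuotientGroup.mk' N) (E.symm (g : D)) = _
      rw [hE]
      simp
    have hker : Ideal.span (Set.range fun m' => ((ρ m' : GroupLike κ D) : D) ^ n - 1) ≤
        RingHom.ker (Ψ : D →+* MonoidAlgebra κ (GroupLike κ D ⧸ N)) := by
      rw [Ideal.span_le]
      rintro _ ⟨m', rfl⟩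
      show Ψ _ = 0
      have h1 : ((ρ m' : GroupLike κ D) : D) ^ n = (((ρ m') ^ n : GroupLike κ D) : D) := by
        simp
      rw [map_sub, map_one, h1, hΨ]
      have h2 : QuotientGroup.mk' N ((ρ m') ^ n) = 1 := by
        rw [QuotientGroup.mk'_apply, QuotientGroup.eq_one_iff]
        exact ⟨ρ m', rfl⟩
      rw [h2]
      exact sub_eq_zero.mpr rfl
    have h3 : Ψ (((ρ m : GroupLike κ D) : D) - 1) = 0 := hker (hdiv n hn m)
    rw [map_sub, map_one, hΨ, sub_eq_zero] at h3
    have h4 : QuotientGroup.mk' N (ρ m) = 1 := by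
      have := congrArg (fun x : MonoidAlgebra κ (GroupLike κ D ⧸ N) => x.coeff 1) h3
      by_contra hne
      simp only [MonoidAlgebra.coeff_single, MonoidAlgebra.one_def] at this
      rw [Finsupp.single_apply, Finsupp.single_apply, if_neg hne, if_pos rfl] at this
      exact zero_ne_one this
    rw [QuotientGroup.mk'_apply, QuotientGroup.eq_one_iff] at h4
    obtain ⟨y, hy⟩ := h4
    exact ⟨y, hy⟩
  intro m
  rw [eq_one_of_divisible hGfg hpow (ρ m)]
  rfl

end Field

end Groth.Agent.Lib.Helper25.LocRigid
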