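import Groth.Agent.Lib.Helper25LocRigidD

/-!
# Rigidity over a local base, part E (helper25): Hopf algebras spanned by group-likes with
trivial closed fibre

* `groupLike_trivial_of_radical`: let `C` be a Hopf algebra over `S` spanned by group-like
  elements `ρ m` (`m` in a finitely generated commutative group), `𝔫` an ideal of `S` inside the
  Jacobson radical. If all `ρ m - 1` lie in `𝔫 C`, then all `ρ m` are `1`.
-/

set_option autoImplicit false
set_option linter.style.haveILetI false
universe u v w

namespace Groth.Agent.Lib.Helper25.LocRigid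

open TensorProduct Groth.Agent.Lib.Helper25

section BC

variable {R : Type u} [CommRing R] {S : Type v} [CommRing S] [Algebra R S]
  {B : Type w} [CommRing B] [HopfAlgebra R B]

theorem isGroupLikeElem_one_tmul' {b : B} (hb : IsGroupLikeElem R b) :
    IsGroupLikeElem S ((1 : S) ⊗ₜ[R] b) where
  counit_eq_one := by
    rw [TensorProduct.counit_tmul]
    simp [hb.counit_eq_one]
  comul_eq_tmul_self := by
    rw [MRB.comul_one_tmul, hb.comul_eq_tmul_self, MRB.bcMap2_tmul]

/-- Base change of a family of group-like elements. -/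
noncomputable def bcGroupLike {M : Type*} [CommGroup M] (ρ : M →* GroupLike R B) :
    M →* GroupLike S (S ⊗[R] B) where
  toFun m := ⟨(1 : S) ⊗ₜ[R] ((ρ m : GroupLike R B) : B), isGroupLikeElem_one_tmul' (ρ m).2⟩
  map_one' := by
    apply GroupLike.val_injective
    simp [Algebra.TensorProduct.one_def]
  map_mul' a b := by
    apply GroupLike.val_injective
    simp [Algebra.TensorProduct.tmul_mul_tmul]

@[simp] theorem bcGroupLike_val {M : Type*} [CommGroup M] (ρ : M →* GroupLike R B) (m : M) :
    ((bcGroupLike (S := S) ρ m : GroupLike S (S ⊗[R] B)) : S ⊗[R] B) =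
      (1 : S) ⊗ₜ[R] ((ρ m : GroupLike R B) : B) := rfl

end BC

section Main

variable {S : Type u} [CommRing S] {C : Type u} [CommRing C] [HopfAlgebra S C]
  {M : Type w} [CommGroup M]

/-- `x - ε(x) 1` lies in any `S`-submodule containing all `ρ m - 1`. -/
theorem sub_counit_mem (ρ : M →* GroupLike S C)
    (hspan : Submodule.span S (Set.range fun m => ((ρ m : GroupLike S C) : C)) = ⊤)
    (W : Submodule S C) (hW : ∀ m, ((ρ m : GroupLike S C) : C) - 1 ∈ W) (x : C) :
    x - algebraMap S C (Coalgebra.counit x) ∈ W := by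
  have hx : x ∈ Submodule.span S (Set.range fun m => ((ρ m : GroupLike S C) : C)) := by
    rw [hspan]; trivial
  induction hx using Submodule.span_induction with
  | mem x hx =>
    obtain ⟨m, rfl⟩ := hx
    rw [(ρ m).2.counit_eq_one, map_one]
    exact hW m
  | zero => simp
  | add x y _ _ hx hy =>
    have : x + y - algebraMap S C (Coalgebra.counit (x + y)) =
        (x - algebraMap S C (Coalgebra.counit x)) + (y - algebraMap S C (Coalgebra.counit y)) := by
      rw [map_add, map_add]; ring
    rw [this]
    exact W.add_mem hx hy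
  | smul a x _ hx =>
    have : a • x - algebraMap S C (Coalgebra.counit (a • x)) =
        a • (x - algebraMap S C (Coalgebra.counit x)) := by
      rw [map_smul, smul_eq_mul, map_mul, smul_sub, Algebra.smul_def a (algebraMap S C _)]
    rw [this]
    exact W.smul_mem a hx

/-- Finite level: `ρ m - 1` lies in the ideal generated by the `(ρ m')^n - 1`. -/
theorem sub_one_mem_span_pow (𝔫 : Ideal S) (h𝔫 : 𝔫 ≤ Ideal.jacobson ⊥) (hM : Group.FG M)
    (ρ : M →* GroupLike S C)
    (hspan : Submodule.span S (Set.range fun m => ((ρ m : GroupLike S C) : C)) = ⊤)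
    (hmod : ∀ m, ((ρ m : GroupLike S C) : C) - 1 ∈ 𝔫 • (⊤ : Submodule S C))
    (n : ℕ) (hn : 0 < n) (m : M) :
    ((ρ m : GroupLike S C) : C) - 1 ∈
      Ideal.span (Set.range fun m' => ((ρ m' : GroupLike S C) : C) ^ n - 1) := by
  classical
  set L : Ideal C := Ideal.span (Set.range fun m' => ((ρ m' : GroupLike S C) : C) ^ n - 1) with hL
  let g : M → C := fun m => ((ρ m : GroupLike S C) : C)
  have hg1 : g 1 = 1 := by simp [g]
  have hgmul : ∀ a b, g (a * b) = g a * g b := fun a b => by simp [g]
  let mk : C →ₐ[S] C ⧸ L := Ideal.Quotient.mkₐ S L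
  have hmk : ∀ c, mk c = Ideal.Quotient.mk L c := fun c => rfl
  have hpow : ∀ m', mk (g m') ^ n = 1 := by
    intro m'
    rw [← map_pow, ← map_one mk, hmk, hmk, Ideal.Quotient.eq]
    exact Ideal.subset_span ⟨m', rfl⟩
  -- `C ⧸ L` is a finite `S`-module
  obtain ⟨F, hF⟩ := (Group.fg_iff_monoid_fg.mp hM).fg_top
  have hadj : Algebra.adjoin S ((fun m' => mk (g m')) '' (F : Set M)) = ⊤ := by
    rw [eq_top_iff]
    have h1 : ∀ m', mk (g m') ∈ Algebra.adjoin S ((fun m' => mk (g m')) '' (F : Set M)) := by
      intro m'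
      have hm' : m' ∈ Submonoid.closure (F : Set M) := by rw [hF]; trivial
      induction hm' using Submonoid.closure_induction with
      | mem x hx => exact Algebra.subset_adjoin ⟨x, hx, rfl⟩
      | one => rw [hg1, map_one]; exact Subalgebra.one_mem _
      | mul a b _ _ ha hb => rw [hgmul, map_mul]; exact Subalgebra.mul_mem _ ha hb
    rintro x -
    obtain ⟨c, rfl⟩ := Ideal.Quotient.mk_surjective x
    have hc : c ∈ Submodule.span S (Set.range fun m => ((ρ m : GroupLike S C) : C)) := by
      rw [hspan]; trivial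
    rw [← hmk]
    induction hc using Submodule.span_induction with
    | mem x hx =>
      obtain ⟨m', rfl⟩ := hx
      exact h1 m'
    | zero => rw [map_zero]; exact Subalgebra.zero_mem _
    | add x y _ _ hx hy => rw [map_add]; exact Subalgebra.add_mem _ hx hy
    | smul a x _ hx => rw [map_smul]; exact Subalgebra.smul_mem _ hx a
  have hfin : (⊤ : Submodule S (C ⧸ L)).FG := by
    have := fg_adjoin_of_finite (R := S) (A := C ⧸ L)
      (s := (fun m' => mk (g m')) '' (F : Set M)) (F.finite_toSet.image _) (by
        rintro _ ⟨m', -, rfl⟩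
        exact IsIntegral.of_pow hn (by rw [hpow]; exact isIntegral_one))
    rw [hadj, Algebra.top_toSubmodule] at this
    exact this
  -- Nakayama
  have hproj := sub_counit_mem ρ hspan (𝔫 • (⊤ : Submodule S C)) hmod
  have hNN : (⊤ : Submodule S (C ⧸ L)) ≤
      Submodule.span S {(1 : C ⧸ L)} ⊔ 𝔫 • (⊤ : Submodule S (C ⧸ L)) := by
    intro x _
    obtain ⟨c, rfl⟩ := Ideal.Quotient.mk_surjective x
    have : Ideal.Quotient.mk L c = mk (algebraMap S C (Coalgebra.counit c)) +
        mk (c - algebraMap S C (Coalgebra.counit c)) := by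
      rw [← map_add, hmk]; congr 1; ring
    rw [this]
    refine Submodule.add_mem_sup ?_ ?_
    · rw [AlgHom.commutes, Algebra.algebraMap_eq_smul_one]
      exact Submodule.smul_mem _ _ (Submodule.subset_span rfl)
    · exact MRB.map_mem_smul_top mk.toLinearMap 𝔫 (hproj c)
  have htop : (⊤ : Submodule S (C ⧸ L)) ≤ Submodule.span S {(1 : C ⧸ L)} :=
    Submodule.le_of_le_smul_of_le_jacobson_bot hfin h𝔫 hNN
  -- the counit on the quotient
  have hLker : ∀ a ∈ L, Bialgebra.counitAlgHom S C a = 0 := by
    intro a ha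
    have hle : L ≤ RingHom.ker (Bialgebra.counitAlgHom S C) := by
      rw [hL, Ideal.span_le]
      rintro _ ⟨m', rfl⟩
      show Bialgebra.counitAlgHom S C _ = 0
      rw [map_sub, map_pow, map_one]
      have : Bialgebra.counitAlgHom S C ((ρ m' : GroupLike S C) : C) = 1 :=
        (ρ m').2.counit_eq_one
      rw [this, one_pow, sub_self]
    exact hle ha
  let εb : C ⧸ L →ₐ[S] S := Ideal.Quotient.liftₐ L (Bialgebra.counitAlgHom S C) hLker
  have hεb : ∀ c, εb (mk c) = Coalgebra.counit c := fun c => rfl
  have hmem : mk (g m) ∈ Submodule.span S {(1 : C ⧸ L)} := htop Submodule.mem_top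
  obtain ⟨s, hs⟩ := Submodule.mem_span_singleton.mp hmem
  have hs1 : s = 1 := by
    have := congrArg εb hs
    rw [map_smul, map_one, smul_eq_mul, mul_one, hεb] at this
    rw [this]
    exact (ρ m).2.counit_eq_one
  rw [hs1, one_smul] at hs
  have : mk (g m) = mk 1 := by rw [← hs, map_one]
  rw [hmk, hmk, Ideal.Quotient.eq] at this
  exact this

end Main

end Groth.Agent.Lib.Helper25.LocRigid
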