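import Groth.Agent.Lib.Helper25LocRigidE

/-!
# Rigidity over a local base, part F (helper25)

* `algHom_groupLike_eq_one`: the fibre step: every point of `Spec C` with values in a field maps
  all `ρ m` to `1`.
* `groupLike_trivial_of_radical`: let `C` be a Hopf algebra over `S` spanned by group-like
  elements `ρ m` (`m` in a finitely generated commutative group), `𝔫` an ideal of `S` inside the
  Jacobson radical. If all `ρ m - 1` lie in `𝔫 C`, then all `ρ m` are `1`.
-/

set_option autoImplicit false
set_option linter.style.haveILetI false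
universe u v w

namespace Groth.Agent.Lib.Helper25.LocRigid

open TensorProduct Groth.Agent.Lib.Helper25

section Main

variable {S : Type u} [CommRing S] {C : Type u} [CommRing C] [HopfAlgebra S C]
  {M : Type w} [CommGroup M]

theorem algHom_groupLike_eq_one (𝔫 : Ideal S) (h𝔫 : 𝔫 ≤ Ideal.jacobson ⊥) (hM : Group.FG M)
    (ρ : M →* GroupLike S C)
    (hspan : Submodule.span S (Set.range fun m => ((ρ m : GroupLike S C) : C)) = ⊤)
    (hmod : ∀ m, ((ρ m : GroupLike S C) : C) - 1 ∈ 𝔫 • (⊤ : Submodule S C))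
    (κ : Type u) [Field κ] [Algebra S κ] (χ : C →ₐ[S] κ) (m : M) :
    χ ((ρ m : GroupLike S C) : C) = 1 := by
  have hspanκ : Submodule.span κ (Set.range fun m =>
      ((bcGroupLike (S := κ) ρ m : GroupLike κ (κ ⊗[S] C)) : κ ⊗[S] C)) = ⊤ := by
    have h1c : ∀ c : C, (1 : κ) ⊗ₜ[S] c ∈ Submodule.span κ (Set.range fun m =>
        ((bcGroupLike (S := κ) ρ m : GroupLike κ (κ ⊗[S] C)) : κ ⊗[S] C)) := by
      intro c
      have hc : c ∈ Submodule.span S (Set.range fun m => ((ρ m : GroupLike S C) : C)) := by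
        rw [hspan]; trivial
      induction hc using Submodule.span_induction with
      | mem x hx =>
        obtain ⟨m, rfl⟩ := hx
        exact Submodule.subset_span ⟨m, rfl⟩
      | zero => rw [TensorProduct.tmul_zero]; exact zero_mem _
      | add x y _ _ hx hy => rw [TensorProduct.tmul_add]; exact add_mem hx hy
      | smul a x _ hx =>
        have : (1 : κ) ⊗ₜ[S] (a • x) = (algebraMap S κ a) • ((1 : κ) ⊗ₜ[S] x) := by
          rw [TensorProduct.tmul_smul, TensorProduct.smul_tmul', TensorProduct.smul_tmul',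
            Algebra.smul_def, mul_one, smul_eq_mul, mul_one]
        rw [this]
        exact Submodule.smul_mem _ _ hx
    rw [eq_top_iff]
    rintro x -
    induction x using TensorProduct.induction_on with
    | zero => exact zero_mem _
    | tmul k c =>
      have : k ⊗ₜ[S] c = k • ((1 : κ) ⊗ₜ[S] c) := by
        rw [TensorProduct.smul_tmul', smul_eq_mul, mul_one]
      rw [this]
      exact Submodule.smul_mem _ _ (h1c c)
    | add x y hx hy => exact add_mem hx hy
  have hdivκ : ∀ n : ℕ, 0 < n → ∀ m,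
      ((bcGroupLike (S := κ) ρ m : GroupLike κ (κ ⊗[S] C)) : κ ⊗[S] C) - 1 ∈
      Ideal.span (Set.range fun m' =>
        ((bcGroupLike (S := κ) ρ m' : GroupLike κ (κ ⊗[S] C)) : κ ⊗[S] C) ^ n - 1) := by
    intro n hn m
    have h1 := sub_one_mem_span_pow 𝔫 h𝔫 hM ρ hspan hmod n hn m
    let ι : C →+* κ ⊗[S] C :=
      (Algebra.TensorProduct.includeRight (R := S) (A := κ) (B := C)).toRingHom
    have hι : ∀ c, ι c = (1 : κ) ⊗ₜ[S] c := fun c => rfl
    have h2 := Ideal.mem_map_of_mem ι h1
    rw [Ideal.map_span] at h2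
    have h3 : ι '' (Set.range fun m' => ((ρ m' : GroupLike S C) : C) ^ n - 1) =
        Set.range fun m' =>
          ((bcGroupLike (S := κ) ρ m' : GroupLike κ (κ ⊗[S] C)) : κ ⊗[S] C) ^ n - 1 := by
      ext x
      constructor
      · rintro ⟨_, ⟨m', rfl⟩, rfl⟩
        refine ⟨m', ?_⟩
        simp only [bcGroupLike_val]
        rw [map_sub, map_pow, map_one, hι]
      · rintro ⟨m', rfl⟩
        refine ⟨_, ⟨m', rfl⟩, ?_⟩
        simp only [bcGroupLike_val]
        rw [map_sub, map_pow, map_one, hι]
    rw [h3, map_sub, map_one, hι] at h2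
    exact h2
  have h4 := groupLike_trivial_of_field hM (bcGroupLike (S := κ) ρ) hspanκ hdivκ m
  rw [bcGroupLike_val] at h4
  let ev : κ ⊗[S] C →ₐ[κ] κ :=
    Algebra.TensorProduct.lift (Algebra.ofId κ κ) χ (fun _ _ => Commute.all _ _)
  have h5 := congrArg ev h4
  simpa [ev] using h5

theorem groupLike_trivial_of_radical (𝔫 : Ideal S) (h𝔫 : 𝔫 ≤ Ideal.jacobson ⊥) (hM : Group.FG M)
    (ρ : M →* GroupLike S C)
    (hspan : Submodule.span S (Set.range fun m => ((ρ m : GroupLike S C) : C)) = ⊤)
    (hmod : ∀ m, ((ρ m : GroupLike S C) : C) - 1 ∈ 𝔫 • (⊤ : Submodule S C)) (m : M) :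
    ((ρ m : GroupLike S C) : C) = 1 := by
  classical
  let g : M → C := fun m => ((ρ m : GroupLike S C) : C)
  have hg1 : g 1 = 1 := by simp [g]
  have hgmul : ∀ a b, g (a * b) = g a * g b := fun a b => by simp [g]
  have hgc : ∀ m, Coalgebra.counit (R := S) (g m) = 1 := fun m => (ρ m).2.counit_eq_one
  set I : Ideal C := RingHom.ker (Bialgebra.counitAlgHom S C) with hI
  have hgI : ∀ m, g m - 1 ∈ I := by
    intro m
    show Bialgebra.counitAlgHom S C (g m - 1) = 0
    rw [map_sub, map_one]
    exact sub_eq_zero.mpr (hgc m)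
  -- nilpotency from the fibre step
  have hnilg : ∀ m, g m - 1 ∈ nilradical C := by
    intro m
    rw [nilradical_eq_sInf, Ideal.mem_sInf]
    intro P hP
    haveI : P.IsPrime := hP
    have := algHom_groupLike_eq_one 𝔫 h𝔫 hM ρ hspan hmod P.ResidueField
      (IsScalarTower.toAlgHom S C P.ResidueField) m
    rw [IsScalarTower.coe_toAlgHom'] at this
    rw [← Ideal.algebraMap_residueField_eq_zero (I := P), map_sub, map_one, this, sub_self]
  have hnilI : ∀ x ∈ I, IsNilpotent x := by
    intro x hx
    have := sub_counit_mem ρ hspan ((nilradical C).restrictScalars S) hnilg x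
    have hx0 : Coalgebra.counit (R := S) x = 0 := hx
    rw [hx0, map_zero, sub_zero] at this
    exact mem_nilradical.mp this
  -- finite generation of the augmentation ideal
  obtain ⟨F, hF⟩ := (Group.fg_iff_monoid_fg.mp hM).fg_top
  set I₀ : Ideal C := Ideal.span ((fun m => g m - 1) '' (F : Set M)) with hI₀
  have hgI₀ : ∀ m, g m - 1 ∈ I₀ := by
    intro m
    have hm : m ∈ Submonoid.closure (F : Set M) := by rw [hF]; trivial
    induction hm using Submonoid.closure_induction with
    | mem x hx => exact Ideal.subset_span ⟨x, hx, rfl⟩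
    | one => rw [hg1, sub_self]; exact zero_mem _
    | mul a b _ _ ha hb =>
      have : g (a * b) - 1 = g a * (g b - 1) + (g a - 1) := by rw [hgmul]; ring
      rw [this]
      exact I₀.add_mem (I₀.mul_mem_left _ hb) ha
  have hII₀ : I = I₀ := by
    apply le_antisymm
    · intro x hx
      have := sub_counit_mem ρ hspan (I₀.restrictScalars S) hgI₀ x
      have hx0 : Coalgebra.counit (R := S) x = 0 := hx
      rw [hx0, map_zero, sub_zero] at this
      exact this
    · rw [hI₀, Ideal.span_le]
      rintro _ ⟨m, -, rfl⟩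
      exact hgI m
  have hfg : I.FG := by
    rw [hII₀]
    exact ⟨F.image fun m => g m - 1, by rw [Finset.coe_image]⟩
  -- `I ≤ 𝔫 C • I`
  let p : C →ₗ[S] C := LinearMap.id - (Algebra.linearMap S C) ∘ₗ (Coalgebra.counit (R := S) (A := C))
  have hp : ∀ c, p c = c - algebraMap S C (Coalgebra.counit c) := fun c => rfl
  have hpI : ∀ c, p c ∈ I := by
    intro c
    show Bialgebra.counitAlgHom S C (p c) = 0
    rw [hp, map_sub, AlgHom.commutes]
    exact sub_self _
  have hle : I ≤ (𝔫.map (algebraMap S C)) • I := by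
    rw [hII₀, hI₀, Ideal.span_le, ← hI₀, ← hII₀]
    rintro _ ⟨m, -, rfl⟩
    have h1 : p (g m - 1) ∈ Submodule.map p (𝔫 • (⊤ : Submodule S C)) :=
      ⟨_, hmod m, rfl⟩
    rw [Submodule.map_smul''] at h1
    have h2 : p (g m - 1) = g m - 1 := by
      rw [hp, map_sub, hgc]
      have : Coalgebra.counit (R := S) (1 : C) = 1 := Bialgebra.counit_one
      rw [this, sub_self, map_zero, sub_zero]
    rw [h2] at h1
    have h3 : ∀ y ∈ 𝔫 • Submodule.map p (⊤ : Submodule S C),
        y ∈ (𝔫.map (algebraMap S C)) • I := by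
      intro y hy
      refine Submodule.smul_induction_on hy ?_ ?_
      · rintro ν hν _ ⟨c, -, rfl⟩
        rw [← algebraMap_smul C ν (p c)]
        exact Submodule.smul_mem_smul (Ideal.mem_map_of_mem (algebraMap S C) hν) (hpI c)
      · intro x y hx hy
        exact add_mem hx hy
    exact h3 _ h1
  obtain ⟨r, hr1, hr2⟩ := Submodule.exists_sub_one_mem_and_smul_eq_zero_of_fg_of_le_smul
    (𝔫.map (algebraMap S C)) I hfg hle
  -- `r` is a unit
  have hru : IsUnit r := by
    have hr3 : r - 1 ∈ 𝔫 • (⊤ : Submodule S C) := by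
      rw [Ideal.smul_top_eq_map]
      exact hr1
    have hν : Coalgebra.counit (R := S) (r - 1) ∈ 𝔫 :=
      MRB.functional_mem_of_mem_smul_top (Coalgebra.counit (R := S) (A := C)) 𝔫 hr3
    have hu : IsUnit (Coalgebra.counit (R := S) r) := by
      have := Ideal.mem_jacobson_bot.mp (h𝔫 hν) 1
      have h1 : Coalgebra.counit (R := S) (1 : C) = 1 := Bialgebra.counit_one
      rw [mul_one, map_sub, h1, sub_add_cancel] at this
      exact this
    have hdec : r = algebraMap S C (Coalgebra.counit r) + p r := by rw [hp]; ring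
    rw [hdec]
    exact (hnilI _ (hpI r)).isUnit_add_left_of_commute (hu.map (algebraMap S C)) (Commute.all _ _)
  have h0 := hr2 (g m - 1) (hgI m)
  rw [smul_eq_mul] at h0
  have := hru.mul_right_eq_zero.mp h0
  exact sub_eq_zero.mp this

end Main

end Groth.Agent.Lib.Helper25.LocRigid
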