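import Groth.Agent.Lib.Helper25LocRigidF

/-!
# Rigidity over a local base, part G (helper25): closed subgroups with trivial closed fibre

* `exists_local_diag_cover'`: as `exists_local_diag_cover`, with faithful flatness as output.
* `glHom q`: the family of group-likes `q (single m 1)` attached to `q : S[M] →ₐc[S] C`.
* `hopfIdeal_eq_augIdeal`: over a local ring, a Hopf ideal `J` of a finite type Hopf algebra of
  multiplicative type with `J + 𝔪 A = Ker ε + 𝔪 A` is `Ker ε`.
-/

set_option autoImplicit false
set_option linter.style.haveILetI false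
universe u v w

namespace Groth.Agent.Lib.Helper25.LocRigid

open TensorProduct Groth.Agent.Lib.Helper25 SGA3b BCB

section Cover

variable (R : Type u) [CommRing R] [IsLocalRing R] (H : Type u) [CommRing H] [HopfAlgebra R H]

theorem exists_local_diag_cover' (h : IsMultType R H) :
    ∃ (S : Type u) (_ : CommRing S) (_ : Algebra R S),
      Module.FaithfullyFlat R S ∧
      (IsLocalRing.maximalIdeal R).map (algebraMap R S) ≤ Ideal.jacobson ⊥ ∧
      IsDiag S (S ⊗[R] H) := by
  obtain ⟨R', _, _, hff, hD⟩ := isMultTypeConst_of_isMultType_of_isLocalRing R H h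
  haveI := hff
  have hne : (IsLocalRing.maximalIdeal R).map (algebraMap R R') ≠ ⊤ := by
    have := hff.submodule_ne_top (IsLocalRing.maximalIdeal.isMaximal R)
    rw [Ideal.smul_top_eq_map] at this
    intro h'
    apply this
    rw [h']
    rfl
  obtain ⟨𝔫, h𝔫max, h𝔫le⟩ := Ideal.exists_le_maximal _ hne
  haveI := h𝔫max
  let S := Localization.AtPrime 𝔫
  haveI : Module.Flat R S := Module.Flat.trans R R' S
  have hmap : (IsLocalRing.maximalIdeal R).map (algebraMap R S) ≤ IsLocalRing.maximalIdeal S := by
    rw [Ideal.map_le_iff_le_comap]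
    intro x hx
    rw [Ideal.mem_comap, IsScalarTower.algebraMap_apply R R' S,
      IsLocalization.AtPrime.to_map_mem_maximal_iff S 𝔫]
    exact h𝔫le (Ideal.mem_map_of_mem _ hx)
  haveI : IsLocalHom (algebraMap R S) :=
    ((IsLocalRing.local_hom_TFAE (algebraMap R S)).out 0 2).mpr hmap
  haveI : Module.FaithfullyFlat R S := Module.FaithfullyFlat.of_flat_of_isLocalHom
  refine ⟨S, inferInstance, inferInstance, inferInstance, ?_,
    isDiag_baseChange_of_tower R H R' S hD⟩
  rw [IsLocalRing.jacobson_eq_maximalIdeal ⊥ bot_ne_top]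
  exact hmap

end Cover

section GLHom

variable {S : Type u} [CommRing S] {C : Type v} [CommRing C] [HopfAlgebra S C]
  {M : Type w} [CommGroup M]

/-- The family of group-likes `q (single m 1)`. -/
noncomputable def glHom (q : MonoidAlgebra S M →ₐc[S] C) : M →* GroupLike S C where
  toFun m := ⟨q (MonoidAlgebra.single m 1),
    (MonoidAlgebra.isGroupLikeElem_single_one (R := S) (A := S) m).map q⟩
  map_one' := by
    apply GroupLike.val_injective
    show q (MonoidAlgebra.single 1 1) = 1
    rw [← MonoidAlgebra.one_def, map_one]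
  map_mul' a b := by
    apply GroupLike.val_injective
    show q (MonoidAlgebra.single (a * b) 1) = q (MonoidAlgebra.single a 1) *
      q (MonoidAlgebra.single b 1)
    rw [← map_mul, MonoidAlgebra.single_mul_single, mul_one]

@[simp] theorem glHom_val (q : MonoidAlgebra S M →ₐc[S] C) (m : M) :
    ((glHom q m : GroupLike S C) : C) = q (MonoidAlgebra.single m 1) := rfl

theorem span_glHom (q : MonoidAlgebra S M →ₐc[S] C) (hq : Function.Surjective q) :
    Submodule.span S (Set.range fun m => ((glHom q m : GroupLike S C) : C)) = ⊤ := by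
  rw [eq_top_iff]
  rintro y -
  obtain ⟨x, rfl⟩ := hq y
  rw [NilGL.eq_sum_single x, map_sum]
  refine Submodule.sum_mem _ (fun m _ => ?_)
  have : MonoidAlgebra.single m (x.coeff m) = x.coeff m • MonoidAlgebra.single m (1 : S) := by
    rw [MonoidAlgebra.smul_single, smul_eq_mul, mul_one]
  rw [this, map_smul]
  exact Submodule.smul_mem _ _ (Submodule.subset_span ⟨m, rfl⟩)

end GLHom

end Groth.Agent.Lib.Helper25.LocRigid
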