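import Groth.Agent.Lib.Helper25LocRigidG

/-!
# Rigidity over a local base, part H (helper25): closed subgroups with trivial closed fibre

* `hopfIdeal_eq_augIdeal`: over a local ring, a Hopf ideal `J` of a finite type Hopf algebra of
  multiplicative type with `J + 𝔪 A = Ker ε + 𝔪 A` is `Ker ε`.
-/

set_option autoImplicit false
set_option linter.style.haveILetI false
universe u v w

namespace Groth.Agent.Lib.Helper25.LocRigid

open TensorProduct Groth.Agent.Lib.Helper25 SGA3b BCB

section Main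

variable (R : Type u) [CommRing R] [IsLocalRing R] (A : Type u) [CommRing A] [HopfAlgebra R A]

theorem hopfIdeal_eq_augIdeal (hft : Algebra.FiniteType R A) (hH : IsMultType R A)
    (J : Ideal A) [J.IsHopfIdeal R]
    (hs : J ⊔ Ideal.map (algebraMap R A) (IsLocalRing.maximalIdeal R) =
      RingHom.ker (Bialgebra.counitAlgHom R A) ⊔
        Ideal.map (algebraMap R A) (IsLocalRing.maximalIdeal R)) :
    J = RingHom.ker (Bialgebra.counitAlgHom R A) := by
  classical
  apply le_antisymm
  · intro x hx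
    have : x ∈ J.restrictScalars R := hx
    exact Submodule.IsCoideal.counit_eq_zero this
  obtain ⟨S, _, _, hff, hrad, M, _, ⟨e⟩⟩ := exists_local_diag_cover' R A hH
  haveI := hff
  haveI : Nontrivial S :=
    (FaithfulSMul.algebraMap_injective R S).nontrivial
  set 𝔪 := IsLocalRing.maximalIdeal R with h𝔪
  set 𝔫 : Ideal S := 𝔪.map (algebraMap R S) with h𝔫
  -- `M` is finitely generated
  have hM : Group.FG M := by
    haveI := hft
    haveI : Algebra.FiniteType S (S ⊗[R] A) := inferInstance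
    have : Algebra.FiniteType S (MonoidAlgebra S M) :=
      Algebra.FiniteType.equiv inferInstance (e : (S ⊗[R] A) ≃ₐ[S] MonoidAlgebra S M)
    exact MonoidAlgebra.finiteType_iff_group_fg.mp this
  let π : A →ₐc[R] A ⧸ J := Bialgebra.Quotient.mkBialgHom J
  have hπ : ∀ a, π a = Ideal.Quotient.mk J a := fun a => rfl
  let πS : (S ⊗[R] A) →ₐc[S] S ⊗[R] (A ⧸ J) := Bialgebra.TensorProduct.map (BialgHom.id S S) π
  have hπS : ∀ s a, πS (s ⊗ₜ[R] a) = s ⊗ₜ[R] π a := fun s a => rfl
  let q : MonoidAlgebra S M →ₐc[S] S ⊗[R] (A ⧸ J) := πS.comp (e.symm : MonoidAlgebra S M →ₐc[S] _)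
  have hq : ∀ x, q x = πS (e.symm x) := fun x => rfl
  have hπSsurj : Function.Surjective πS := by
    intro y
    induction y using TensorProduct.induction_on with
    | zero => exact ⟨0, map_zero _⟩
    | tmul s c =>
      obtain ⟨a, rfl⟩ := Ideal.Quotient.mk_surjective c
      exact ⟨s ⊗ₜ[R] a, rfl⟩
    | add x y hx hy =>
      obtain ⟨x', rfl⟩ := hx
      obtain ⟨y', rfl⟩ := hy
      exact ⟨x' + y', map_add _ _ _⟩
  have hqsurj : Function.Surjective q := by
    intro y
    obtain ⟨z, rfl⟩ := hπSsurj y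
    exact ⟨e z, by rw [hq, BialgEquiv.symm_apply_apply]⟩
  -- the closed fibre is trivial
  have h1 : ∀ a : A, π a - algebraMap R (A ⧸ J) (Coalgebra.counit a) ∈
      𝔪 • (⊤ : Submodule R (A ⧸ J)) := by
    intro a
    have ha : a - algebraMap R A (Coalgebra.counit a) ∈
        RingHom.ker (Bialgebra.counitAlgHom R A) := by
      show Bialgebra.counitAlgHom R A _ = 0
      rw [map_sub, AlgHom.commutes]
      exact sub_self _
    have ha' : a - algebraMap R A (Coalgebra.counit a) ∈
        J ⊔ Ideal.map (algebraMap R A) 𝔪 := by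
      rw [hs]
      exact Ideal.mem_sup_left ha
    obtain ⟨j, hj, z, hz, hjz⟩ := Submodule.mem_sup.mp ha'
    have h2 : π a - algebraMap R (A ⧸ J) (Coalgebra.counit a) = π z := by
      have : π a - algebraMap R (A ⧸ J) (Coalgebra.counit a) =
          π (a - algebraMap R A (Coalgebra.counit a)) := by
        rw [map_sub, AlgHomClass.commutes]
      rw [this, ← hjz, map_add, hπ j, Ideal.Quotient.eq_zero_iff_mem.mpr hj, zero_add]
    rw [h2]
    have hz' : z ∈ 𝔪 • (⊤ : Submodule R A) := by
      rw [Ideal.smul_top_eq_map]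
      exact hz
    exact MRB.map_mem_smul_top ((π : A →ₐ[R] A ⧸ J).toLinearMap) 𝔪 hz'
  have h2 : ∀ z : S ⊗[R] A, πS z - algebraMap S (S ⊗[R] (A ⧸ J)) (Coalgebra.counit z) ∈
      𝔫 • (⊤ : Submodule S (S ⊗[R] (A ⧸ J))) := by
    intro z
    induction z using TensorProduct.induction_on with
    | zero => simp
    | tmul s a =>
      have : πS (s ⊗ₜ[R] a) - algebraMap S (S ⊗[R] (A ⧸ J)) (Coalgebra.counit (s ⊗ₜ[R] a)) =
          s • ((1 : S) ⊗ₜ[R] (π a - algebraMap R (A ⧸ J) (Coalgebra.counit a))) := by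
        rw [hπS, TensorProduct.counit_tmul, TensorProduct.tmul_sub, smul_sub,
          TensorProduct.smul_tmul', smul_eq_mul, mul_one, Algebra.algebraMap_eq_smul_one,
          Algebra.algebraMap_eq_smul_one (R := R) (A := A ⧸ J), TensorProduct.tmul_smul,
          Algebra.TensorProduct.one_def, smul_comm]
        simp [TensorProduct.smul_tmul']
      rw [this]
      exact Submodule.smul_mem _ _ (one_tmul_mem_smul_top 𝔪 (h1 a))
    | add x y hx hy =>
      have : πS (x + y) - algebraMap S (S ⊗[R] (A ⧸ J)) (Coalgebra.counit (x + y)) =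
          (πS x - algebraMap S (S ⊗[R] (A ⧸ J)) (Coalgebra.counit x)) +
          (πS y - algebraMap S (S ⊗[R] (A ⧸ J)) (Coalgebra.counit y)) := by
        rw [map_add, map_add, map_add]; ring
      rw [this]
      exact add_mem hx hy
  have hmod : ∀ m, ((glHom q m : GroupLike S (S ⊗[R] (A ⧸ J))) : S ⊗[R] (A ⧸ J)) - 1 ∈
      𝔫 • (⊤ : Submodule S (S ⊗[R] (A ⧸ J))) := by
    intro m
    have := h2 (e.symm (MonoidAlgebra.single m 1))
    have hc : Coalgebra.counit (R := S) (e.symm (MonoidAlgebra.single m (1 : S))) = 1 := by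
      rw [CoalgHomClass.counit_comp_apply]
      simp
    rw [hc, map_one] at this
    exact this
  have htriv := groupLike_trivial_of_radical 𝔫 hrad hM (glHom q) (span_glHom q hqsurj) hmod
  -- hence `q` is the trivial homomorphism
  have hqtriv : (q : MonoidAlgebra S M →ₐ[S] S ⊗[R] (A ⧸ J)) =
      (Algebra.ofId S (S ⊗[R] (A ⧸ J))).comp (Bialgebra.counitAlgHom S (MonoidAlgebra S M)) := by
    apply MonoidAlgebra.algHom_ext
    · intro m
      have := htriv m
      rw [glHom_val] at this
      show q (MonoidAlgebra.single m 1) = _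
      rw [this]
      simp [Algebra.TensorProduct.one_def]
    · apply algHom_self_ext
  intro a ha
  have ha0 : Coalgebra.counit (R := R) a = 0 := ha
  have h3 : (1 : S) ⊗ₜ[R] π a = 0 := by
    have h4 : (1 : S) ⊗ₜ[R] π a = q (e ((1 : S) ⊗ₜ[R] a)) := by
      rw [hq, BialgEquiv.symm_apply_apply, hπS]
    rw [h4]
    have h5 := AlgHom.congr_fun hqtriv (e ((1 : S) ⊗ₜ[R] a))
    have h6 : q (e ((1 : S) ⊗ₜ[R] a)) =
        (q : MonoidAlgebra S M →ₐ[S] S ⊗[R] (A ⧸ J)) (e ((1 : S) ⊗ₜ[R] a)) := rfl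
    rw [h6, h5, AlgHom.comp_apply]
    have h7 : Bialgebra.counitAlgHom S (MonoidAlgebra S M) (e ((1 : S) ⊗ₜ[R] a)) =
        Coalgebra.counit (R := S) ((1 : S) ⊗ₜ[R] a) := by
      show Coalgebra.counit (R := S) (e ((1 : S) ⊗ₜ[R] a)) = _
      rw [CoalgHomClass.counit_comp_apply]
    rw [h7, TensorProduct.counit_tmul, ha0, zero_smul, map_zero]
  have hinj : Function.Injective (TensorProduct.mk R S (A ⧸ J) 1) :=
    Module.FaithfullyFlat.tensorProduct_mk_injective (A := R) (B := S) (A ⧸ J)
  have h8 : π a = 0 := hinj (by rw [TensorProduct.mk_apply, h3, map_zero])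
  rw [hπ] at h8
  exact Ideal.Quotient.eq_zero_iff_mem.mp h8

end Main

end Groth.Agent.Lib.Helper25.LocRigid
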