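import Groth.Agent.Lib.Helper25MTGlueK

/-!
# Group algebras of subgroups and factorisation (helper25)

* `incl H : L[H] → L[M]`, `restr H : L[M] → L[H]` (linear retraction, `L[H]`-linear).
* `coeff_eq_zero_of_qMap_trivial`: a bialgebra map `Ψ : C' → L[M]` whose composite with
  `L[M] → L[M/H]` is trivial takes values in `L[H]`.
* `factor Ψ hΨ : C' →ₐc[L] L[H]` with `incl ∘ factor = Ψ`.
-/

set_option autoImplicit false
set_option linter.style.haveILetI false
set_option linter.unusedSectionVars false
universe u v w

namespace Groth.Agent.Lib.Helper25.MTGlue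

open TensorProduct Coalgebra

section SubAlg

variable {L : Type u} [CommRing L] {M : Type u} [CommGroup M] (H : Subgroup M)

/-- `L[H] → L[M]`. -/
noncomputable def incl : MonoidAlgebra L ↥H →ₐc[L] MonoidAlgebra L M :=
  MonoidAlgebra.mapDomainBialgHom L H.subtype

theorem incl_single (h : H) (l : L) :
    incl H (MonoidAlgebra.single h l) = MonoidAlgebra.single (h : M) l :=
  MonoidAlgebra.mapDomainBialgHom_single _ _ _

theorem incl_eq_mapDomain (b : MonoidAlgebra L ↥H) :
    incl H b = MonoidAlgebra.mapDomain (H.subtype : ↥H → M) b := by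
  induction b using MonoidAlgebra.induction_linear with
  | zero => simp
  | add x y hx hy => rw [map_add, hx, hy, MonoidAlgebra.mapDomain_add]
  | single h l => rw [incl_single, MonoidAlgebra.mapDomain_single]; rfl

theorem incl_injective : Function.Injective (incl (L := L) H) := by
  intro x y hxy
  rw [incl_eq_mapDomain, incl_eq_mapDomain] at hxy
  exact MonoidAlgebra.mapDomain_injective H.subtype_injective hxy

/-- Restriction of the coefficients to `H`. -/
noncomputable def restr : MonoidAlgebra L M →ₗ[L] MonoidAlgebra L ↥H where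
  toFun := MonoidAlgebra.comapDomain (H.subtype : ↥H → M) H.subtype_injective
  map_add' x y := MonoidAlgebra.comapDomain_add _ _ _ _
  map_smul' l x := by
    apply MonoidAlgebra.coeff_injective
    ext h
    simp [MonoidAlgebra.coeff_comapDomain, Finsupp.comapDomain_apply]

theorem coeff_restr (x : MonoidAlgebra L M) (h : H) : (restr H x).coeff h = x.coeff (h : M) := by
  show (MonoidAlgebra.comapDomain (H.subtype : ↥H → M) H.subtype_injective x).coeff h = _
  rw [MonoidAlgebra.coeff_comapDomain, Finsupp.comapDomain_apply]
  rfl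

theorem restr_single_mem (m : M) (hm : m ∈ H) (l : L) :
    restr H (MonoidAlgebra.single m l) = MonoidAlgebra.single (⟨m, hm⟩ : H) l :=
  MonoidAlgebra.comapDomain_single_map (H.subtype : ↥H → M) H.subtype_injective ⟨m, hm⟩ l

theorem restr_single_not_mem (m : M) (hm : m ∉ H) (l : L) :
    restr H (MonoidAlgebra.single m l) = 0 := by
  refine MonoidAlgebra.comapDomain_single_of_not_mem_range (f := (H.subtype : ↥H → M)) ?_
    H.subtype_injective
  rintro ⟨h, rfl⟩
  exact hm h.2

theorem restr_incl (b : MonoidAlgebra L ↥H) : restr H (incl H b) = b := by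
  induction b using MonoidAlgebra.induction_linear with
  | zero => simp
  | add x y hx hy => rw [map_add, map_add, hx, hy]
  | single h l => rw [incl_single, restr_single_mem H (h : M) h.2]

theorem incl_restr (x : MonoidAlgebra L M) (hx : ∀ m, m ∉ H → x.coeff m = 0) :
    incl H (restr H x) = x := by
  rw [incl_eq_mapDomain]
  refine MonoidAlgebra.mapDomain_comapDomain ?_ H.subtype_injective
  intro m hm
  rw [Finset.mem_coe, Finsupp.mem_support_iff] at hm
  by_contra hcon
  apply hm
  apply hx
  intro hmH
  exact hcon ⟨⟨m, hmH⟩, rfl⟩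

/-- `restr` is `L[H]`-linear. -/
theorem restr_incl_mul (b : MonoidAlgebra L ↥H) (x : MonoidAlgebra L M) :
    restr H (incl H b * x) = b * restr H x := by
  induction b using MonoidAlgebra.induction_linear with
  | zero => simp
  | add b b' hb hb' => rw [map_add, add_mul, map_add, hb, hb', add_mul]
  | single h l =>
    induction x using MonoidAlgebra.induction_linear with
    | zero => simp
    | add x y hx hy => rw [mul_add, map_add, hx, hy, map_add, mul_add]
    | single m l' =>
      rw [incl_single, MonoidAlgebra.single_mul_single]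
      by_cases hm : m ∈ H
      · rw [restr_single_mem H _ (H.mul_mem h.2 hm), restr_single_mem H m hm,
          MonoidAlgebra.single_mul_single]
        rfl
      · have hm' : (h : M) * m ∉ H := fun hc => hm ((H.mul_mem_cancel_left h.2).mp hc)
        rw [restr_single_not_mem H _ hm', restr_single_not_mem H m hm, mul_zero]

/-- Membership in an extended ideal descends along the retraction. -/
theorem restr_mem_of_mem_map (J'' : Ideal (MonoidAlgebra L ↥H)) (y : MonoidAlgebra L M)
    (hy : y ∈ Ideal.map ((incl (L := L) H : MonoidAlgebra L ↥H →ₐc[L] MonoidAlgebra L M) :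
      MonoidAlgebra L ↥H →+* MonoidAlgebra L M) J'') :
    restr H y ∈ J'' := by
  have key : ∀ a : MonoidAlgebra L M, restr H (a * y) ∈ J'' := by
    unfold Ideal.map at hy
    induction hy using Submodule.span_induction with
    | mem y hy =>
      obtain ⟨j, hj, rfl⟩ := hy
      intro a
      have : a * ((incl (L := L) H : MonoidAlgebra L ↥H →ₐc[L] MonoidAlgebra L M) :
          MonoidAlgebra L ↥H →+* MonoidAlgebra L M) j = incl H j * a := mul_comm _ _
      rw [this, restr_incl_mul]
      exact J''.mul_mem_right _ hj
    | zero => intro a; rw [mul_zero, map_zero]; exact J''.zero_mem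
    | add y z _ _ hy hz => intro a; rw [mul_add, map_add]; exact J''.add_mem (hy a) (hz a)
    | smul b y _ hy =>
      intro a
      rw [smul_eq_mul, ← mul_assoc]
      exact hy (a * b)
  have := key 1
  rwa [one_mul] at this

end SubAlg

section Factor

variable {L : Type u} [CommRing L] {M : Type u} [CommGroup M] (H : Subgroup M)
  {C' : Type u} [CommRing C'] [HopfAlgebra L C'] (Ψ : C' →ₐc[L] MonoidAlgebra L M)

/-- If `L[M] → L[M/H]` kills `Ψ`, then `Ψ` takes values in `L[H]`. -/
theorem coeff_eq_zero_of_qMap_trivial
    (htriv : ∀ c, qMap L H (Ψ c) = algebraMap L _ (counit (R := L) c)) :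
    ∀ c m, m ∉ H → (Ψ c).coeff m = 0 := by
  classical
  intro c m hm
  have hm1 : (QuotientGroup.mk' H m) ≠ 1 := by
    rw [QuotientGroup.mk'_apply, ne_eq, QuotientGroup.eq_one_iff]
    exact hm
  -- the functional `a ⊗ b ↦ (qMap a)_[m] * b_m`
  let f1 : MonoidAlgebra L M →ₗ[L] L :=
    coeffFun L (QuotientGroup.mk' H m) ∘ₗ ((qMap L H : MonoidAlgebra L M →ₗc[L] MonoidAlgebra L (M ⧸ H)).toLinearMap)
  let f2 : MonoidAlgebra L M →ₗ[L] L := coeffFun L m
  let Λ : MonoidAlgebra L M ⊗[L] MonoidAlgebra L M →ₗ[L] L :=
    LinearMap.mul' L L ∘ₗ TensorProduct.map f1 f2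
  have h2 : ∀ x : MonoidAlgebra L M, Λ (comul (R := L) x) = x.coeff m := by
    intro x
    induction x using MonoidAlgebra.induction_linear with
    | zero => simp
    | add x y hx hy => rw [map_add, map_add, hx, hy, MonoidAlgebra.coeff_add, Finsupp.add_apply]
    | single m' l =>
      rw [MonoidAlgebra.comul_single]
      simp only [CommSemiring.comul_apply, TensorProduct.map_tmul, MonoidAlgebra.lsingle_apply]
      show (qMap L H (MonoidAlgebra.single m' 1)).coeff (QuotientGroup.mk' H m) *
        (MonoidAlgebra.single m' l).coeff m = _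
      rw [qMap_single]
      simp only [MonoidAlgebra.coeff_single, Finsupp.single_apply]
      by_cases h : m' = m
      · subst h
        simp
      · simp [h]
  have h1 : Λ (comul (R := L) (Ψ c)) = 0 := by
    have e : comul (R := L) (Ψ c) =
        TensorProduct.map (Ψ : C' →ₗc[L] MonoidAlgebra L M).toLinearMap (Ψ : C' →ₗc[L] MonoidAlgebra L M).toLinearMap
          (comul (R := L) c) := (CoalgHomClass.map_comp_comul_apply Ψ c).symm
    rw [e]
    have hz : f1 ∘ₗ (Ψ : C' →ₗc[L] MonoidAlgebra L M).toLinearMap = 0 := by
      ext c'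
      show (qMap L H (Ψ c')).coeff (QuotientGroup.mk' H m) = 0
      rw [htriv, Algebra.algebraMap_eq_smul_one, MonoidAlgebra.coeff_smul, Finsupp.smul_apply,
        MonoidAlgebra.one_def, MonoidAlgebra.coeff_single, Finsupp.single_apply,
        if_neg (Ne.symm hm1), smul_zero]
    show LinearMap.mul' L L (TensorProduct.map f1 f2 (TensorProduct.map _ _ _)) = 0
    rw [← LinearMap.comp_apply (TensorProduct.map f1 f2), ← TensorProduct.map_comp, hz,
      TensorProduct.map_zero_left, LinearMap.zero_apply, map_zero]
  rw [← h2, h1]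

variable (hΨ : ∀ c m, m ∉ H → (Ψ c).coeff m = 0)

/-- The factorisation through `L[H]`, as an algebra map. -/
noncomputable def factorAlgHom : C' →ₐ[L] MonoidAlgebra L ↥H where
  toFun c := restr H (Ψ c)
  map_one' := incl_injective H (by rw [incl_restr H _ (hΨ 1), map_one, map_one])
  map_mul' a b := incl_injective H (by
    rw [incl_restr H _ (hΨ (a * b)), map_mul (incl H), incl_restr H _ (hΨ a),
      incl_restr H _ (hΨ b), map_mul])
  map_zero' := by rw [map_zero, map_zero]
  map_add' a b := by rw [map_add, map_add]
  commutes' l := incl_injective H (by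
    rw [incl_restr H _ (hΨ _), AlgHomClass.commutes Ψ, AlgHomClass.commutes (incl H)])

theorem incl_factorAlgHom (c : C') : incl H (factorAlgHom H Ψ hΨ c) = Ψ c :=
  incl_restr H _ (hΨ c)

theorem map_incl_injective : Function.Injective
    (TensorProduct.map (incl (L := L) H : MonoidAlgebra L ↥H →ₗc[L] MonoidAlgebra L M).toLinearMap
      (incl (L := L) H : MonoidAlgebra L ↥H →ₗc[L] MonoidAlgebra L M).toLinearMap) := by
  have hli : (restr (L := L) H) ∘ₗ (incl (L := L) H : MonoidAlgebra L ↥H →ₗc[L] MonoidAlgebra L M).toLinearMap =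
      LinearMap.id := LinearMap.ext fun b => restr_incl H b
  apply Function.LeftInverse.injective (g := TensorProduct.map (restr H) (restr H))
  intro z
  rw [← LinearMap.comp_apply, ← TensorProduct.map_comp, hli, TensorProduct.map_id,
    LinearMap.id_apply]

/-- The factorisation through `L[H]`, as a bialgebra map. -/
noncomputable def factor : C' →ₐc[L] MonoidAlgebra L ↥H :=
  BialgHom.ofAlgHom (factorAlgHom H Ψ hΨ)
    (by
      apply AlgHom.ext
      intro c
      show counit (R := L) (factorAlgHom H Ψ hΨ c) = counit (R := L) c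
      rw [← CoalgHomClass.counit_comp_apply (incl H), incl_factorAlgHom,
        CoalgHomClass.counit_comp_apply])
    (by
      apply AlgHom.ext
      intro c
      apply map_incl_injective H
      show TensorProduct.map _ _ (TensorProduct.map (factorAlgHom H Ψ hΨ).toLinearMap
        (factorAlgHom H Ψ hΨ).toLinearMap (comul (R := L) c)) =
        TensorProduct.map _ _ (comul (R := L) (factorAlgHom H Ψ hΨ c))
      have e2 : TensorProduct.map
          (incl (L := L) H : MonoidAlgebra L ↥H →ₗc[L] MonoidAlgebra L M).toLinearMap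
          (incl (L := L) H : MonoidAlgebra L ↥H →ₗc[L] MonoidAlgebra L M).toLinearMap
          (comul (R := L) (factorAlgHom H Ψ hΨ c)) = comul (R := L) (incl H (factorAlgHom H Ψ hΨ c)) :=
        CoalgHomClass.map_comp_comul_apply (incl H) _
      rw [e2, incl_factorAlgHom, ← LinearMap.comp_apply, ← TensorProduct.map_comp]
      have e : (incl (L := L) H : MonoidAlgebra L ↥H →ₗc[L] MonoidAlgebra L M).toLinearMap ∘ₗ
          (factorAlgHom H Ψ hΨ).toLinearMap = (Ψ : C' →ₗc[L] MonoidAlgebra L M).toLinearMap := by
        exact LinearMap.ext fun c' => incl_factorAlgHom H Ψ hΨ c'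
      rw [e]
      exact CoalgHomClass.map_comp_comul_apply Ψ c)

theorem incl_factor (c : C') : incl H (factor H Ψ hΨ c) = Ψ c := incl_factorAlgHom H Ψ hΨ c

end Factor

end Groth.Agent.Lib.Helper25.MTGlue
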