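import Groth.Agent.Lib.Helper25MTGlueL
import Groth.Agent.Lib.Helper25LocRigidH

/-!
# The kernel over a local base, part 1 (helper25): the closed fibre

* `resKer εL J`: the subgroup of `M` of the characters trivial on the closed fibre of the kernel.
* `qMap_mem_map_maximalIdeal`: the ideal of the kernel dies in `κ[M/H]`.
-/

set_option autoImplicit false
set_option linter.style.haveILetI false
set_option linter.unusedSectionVars false
universe u v w

namespace Groth.Agent.Lib.Helper25.MTGlue

open TensorProduct Coalgebra SGA3b BCB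
open Groth.Agent.Lib.Helper25.SubDiag Groth.Agent.Lib.Helper25 Groth.Agent.Lib.Helper25.TorsQuot

section Field

variable {R : Type u} [CommRing R] {A : Type u} [CommRing A] [HopfAlgebra R A]
  (J : Ideal A) [J.IsHopfIdeal R]
  {κ : Type u} [Field κ] [Algebra R κ] {M : Type u} [CommGroup M]
  (ε : κ ⊗[R] A ≃ₐc[κ] MonoidAlgebra κ M)

theorem psiBar_injective_of_field {D : Type u} [CommRing D] [HopfAlgebra κ D]
    (ψ : MonoidAlgebra κ M →ₐc[κ] D) : Function.Injective (psiBar ψ) := by
  have h1 : Function.Injective (MonoidAlgebra.mapDomainBialgHom κ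
      (QuotientGroup.kerLift (toGL ψ))) := by
    intro x y hxy
    have e : ∀ z : MonoidAlgebra κ (M ⧸ (toGL ψ).ker),
        MonoidAlgebra.mapDomainBialgHom κ (QuotientGroup.kerLift (toGL ψ)) z =
          MonoidAlgebra.mapDomain (QuotientGroup.kerLift (toGL ψ)) z := by
      intro z
      induction z using MonoidAlgebra.induction_linear with
      | zero => simp
      | add x y hx hy => rw [map_add, hx, hy, MonoidAlgebra.mapDomain_add]
      | single h l =>
        rw [MonoidAlgebra.mapDomainBialgHom_single, MonoidAlgebra.mapDomain_single]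
    rw [e, e] at hxy
    exact MonoidAlgebra.mapDomain_injective (QuotientGroup.kerLift_injective (toGL ψ)) hxy
  intro x y hxy
  apply h1
  apply LocRigid.liftGroupLike_injective'
  exact hxy

/-- Over a field, the ideal of a closed subgroup of a diagonalisable group dies in `κ[M/H]`, `H` the
group of characters trivial on the subgroup. -/
theorem qMap_eq_zero_of_field (a : A) (ha : a ∈ J) :
    qMap κ (toGL (psi' ε J)).ker (ε ((1 : κ) ⊗ₜ[R] a)) = 0 := by
  apply psiBar_injective_of_field (psi' ε J)
  rw [map_zero]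
  have := psiBar_comp_mapDomain (psi' ε J) (ε ((1 : κ) ⊗ₜ[R] a))
  rw [show qMap κ (toGL (psi' ε J)).ker (ε ((1 : κ) ⊗ₜ[R] a)) =
    MonoidAlgebra.mapDomainBialgHom κ (QuotientGroup.mk' (toGL (psi' ε J)).ker)
      (ε ((1 : κ) ⊗ₜ[R] a)) from rfl, this, psi'_apply, BialgEquiv.symm_apply_apply, bcMk_tmul,
    Ideal.Quotient.eq_zero_iff_mem.mpr ha, TensorProduct.tmul_zero]

end Field

section Natural

variable {L : Type u} [CommRing L] {κ : Type u} [CommRing κ] (f : L →+* κ)
  {M : Type u} [CommGroup M] (H : Subgroup M)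

theorem mapRingHom_qMap (y : MonoidAlgebra L M) :
    MonoidAlgebra.mapRingHom (M ⧸ H) f (qMap L H y) =
      qMap κ H (MonoidAlgebra.mapRingHom M f y) := by
  induction y using MonoidAlgebra.induction_linear with
  | zero => simp
  | add x y hx hy => rw [map_add, map_add, hx, hy, map_add, map_add]
  | single m l =>
    rw [qMap_single, MonoidAlgebra.mapRingHom_single, MonoidAlgebra.mapRingHom_single, qMap_single]

end Natural

section Local

variable {R : Type u} [CommRing R] {A : Type u} [CommRing A] [HopfAlgebra R A]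
  (J : Ideal A) [J.IsHopfIdeal R]
  {L : Type u} [CommRing L] [IsLocalRing L] [Algebra R L] {M : Type u} [CommGroup M]
  (εL : L ⊗[R] A ≃ₐc[L] MonoidAlgebra L M)

/-- The group of characters of `D(M)` trivial on the closed fibre of the subgroup `V(J)`. -/
noncomputable def resKer : Subgroup M :=
  (toGL (psi' (bcDiag R L (IsLocalRing.ResidueField L) εL) J)).ker

theorem mem_resKer_iff (m : M) : m ∈ resKer J εL ↔
    bcMk J ((bcDiag R L (IsLocalRing.ResidueField L) εL).symm (MonoidAlgebra.single m 1)) = 1 := by
  unfold resKer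
  rw [MonoidHom.mem_ker]
  constructor
  · intro h
    have h2 := congrArg GroupLike.val h
    rw [toGL_val, psi'_apply, MonoidAlgebra.of_apply] at h2
    exact h2
  · intro h
    apply GroupLike.val_injective
    rw [toGL_val, psi'_apply, MonoidAlgebra.of_apply]
    exact h

/-- The ideal of the kernel dies in `κ[M/H]`. -/
theorem qMap_mem_map_maximalIdeal (a : A) (ha : a ∈ J) :
    qMap L (resKer J εL) (εL ((1 : L) ⊗ₜ[R] a)) ∈
      Ideal.map (algebraMap L (MonoidAlgebra L (M ⧸ resKer J εL))) (IsLocalRing.maximalIdeal L) := by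
  set H := resKer J εL with hH
  set y := qMap L H (εL ((1 : L) ⊗ₜ[R] a)) with hy
  have hcoeff : ∀ ξ, y.coeff ξ ∈ IsLocalRing.maximalIdeal L := by
    intro ξ
    rw [← IsLocalRing.residue_eq_zero_iff]
    have h1 : MonoidAlgebra.mapRingHom (M ⧸ H) (algebraMap L (IsLocalRing.ResidueField L)) y = 0 := by
      rw [hy, mapRingHom_qMap, ← bcDiag_one_tmul]
      exact qMap_eq_zero_of_field J (bcDiag R L (IsLocalRing.ResidueField L) εL) a ha
    have h2 := congrArg (fun z => z.coeff ξ) h1
    simp only [MonoidAlgebra.coeff_mapRingHom, MonoidAlgebra.coeff_zero, Finsupp.coe_zero,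
      Pi.zero_apply] at h2
    exact h2
  have h3 := NilGL.mem_smul_top_of_coeff_mem (IsLocalRing.maximalIdeal L) y hcoeff
  rw [Ideal.smul_top_eq_map] at h3
  exact h3

end Local

end Groth.Agent.Lib.Helper25.MTGlue
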