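import Groth.Agent.Lib.Helper25MTGlueM
import Groth.Agent.S5245

/-!
# The kernel over a local base, part 2 (helper25)

Over a local ring `L` with `L ⊗ A ≅ L[M]`, `M` finitely generated, and `φ : C → A` with `C` of
finite presentation, the ideal `J` of the kernel corresponds to the subgroup `H = resKer` of `M`:
`h1_local`, `h2_local`.
-/

set_option autoImplicit false
set_option linter.style.haveILetI false
set_option linter.unusedSectionVars false
universe u v w

namespace Groth.Agent.Lib.Helper25.MTGlue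

open TensorProduct Coalgebra SGA3b BCB
open Groth.Agent.Lib.Helper25.SubDiag Groth.Agent.Lib.Helper25 Groth.Agent.Lib.Helper25.TorsQuot

section Basics

theorem subgroup_fg_of_fg {M : Type*} [CommGroup M] (hM : Group.FG M) (H : Subgroup M) :
    Group.FG ↥H := by
  rw [Group.fg_iff_subgroup_fg, Subgroup.fg_iff_add_fg]
  haveI : AddGroup.FG (Additive M) := GroupFG.iff_add_fg.mp hM
  haveI : Module.Finite ℤ (Additive M) := Module.Finite.iff_addGroup_fg.mpr inferInstance
  haveI : IsNoetherian ℤ (Additive M) := isNoetherian_of_isNoetherianRing_of_finite ℤ _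
  have h := IsNoetherian.noetherian (AddSubgroup.toIntSubmodule H.toAddSubgroup)
  rw [Submodule.fg_iff_addSubgroup_fg, AddSubgroup.toIntSubmodule_toAddSubgroup] at h
  exact h

theorem isMultType_monoidAlgebra (S : Type u) [CommRing S] (Q : Type u) [CommGroup Q] :
    IsMultType S (MonoidAlgebra S Q) := by
  apply isMultType_of_isMultTypeConst
  exact ⟨S, inferInstance, inferInstance, inferInstance,
    isDiag_baseChange S ⟨Q, inferInstance, ⟨BialgEquiv.refl S _⟩⟩⟩

/-- The augmentation ideal of a group algebra is generated by the `g - 1`. -/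
theorem mem_of_counit_eq_zero {S : Type u} [CommRing S] {G : Type u} [CommGroup G]
    (𝔠 : Ideal (MonoidAlgebra S G)) (h : ∀ g : G, MonoidAlgebra.single g (1 : S) - 1 ∈ 𝔠)
    (x : MonoidAlgebra S G) (hx : counit (R := S) x = 0) : x ∈ 𝔠 := by
  have h1 : x = ∑ g ∈ x.coeff.support, x.coeff g • (MonoidAlgebra.single g (1 : S) - 1) := by
    have h2 : ∑ g ∈ x.coeff.support, x.coeff g • (1 : MonoidAlgebra S G) = 0 := by
      rw [← Finset.sum_smul, ← NilGL.counit_eq_sum, hx, zero_smul]
    have h3 : ∀ g ∈ x.coeff.support, x.coeff g • (MonoidAlgebra.single g (1 : S) - 1) =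
        MonoidAlgebra.single g (x.coeff g) - x.coeff g • (1 : MonoidAlgebra S G) := by
      intro g _
      rw [smul_sub, MonoidAlgebra.smul_single, smul_eq_mul, mul_one]
    rw [Finset.sum_congr rfl h3, Finset.sum_sub_distrib, h2, sub_zero]
    exact NilGL.eq_sum_single x
  rw [h1]
  refine 𝔠.sum_mem fun g _ => ?_
  rw [Algebra.smul_def]
  exact 𝔠.mul_mem_left _ (h g)

end Basics

section Local

variable {R : Type u} [CommRing R] {A C : Type u} [CommRing A] [HopfAlgebra R A]
  [CommRing C] [HopfAlgebra R C] (φ : C →ₐc[R] A) (J : Ideal A) [J.IsHopfIdeal R]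
  (hJ : J = Ideal.map φ (RingHom.ker (Bialgebra.counitAlgHom R C)))
  (hfp : Algebra.FinitePresentation R C)
  {L : Type u} [CommRing L] [IsLocalRing L] [Algebra R L] {M : Type u} [CommGroup M]
  (hM : Group.FG M) (εL : L ⊗[R] A ≃ₐc[L] MonoidAlgebra L M)

/-- `L ⊗ C → L ⊗ A ≅ L[M]`. -/
noncomputable def PsiL : L ⊗[R] C →ₐc[L] MonoidAlgebra L M := εL.toBialgHom.comp (bcPhi φ L)

theorem PsiL_tmul (l : L) (c : C) : PsiL φ εL (l ⊗ₜ[R] c) = εL (l ⊗ₜ[R] φ c) := rfl

include hJ in
theorem phi_sub_mem (c : C) : φ c - algebraMap R A (counit (R := R) c) ∈ J := by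
  have h1 : c - algebraMap R C (counit (R := R) c) ∈
      RingHom.ker (Bialgebra.counitAlgHom R C) := by
    rw [RingHom.mem_ker, map_sub, AlgHom.commutes]
    change counit (R := R) c - algebraMap R R (counit (R := R) c) = 0
    simp
  have h2 : φ (c - algebraMap R C (counit (R := R) c)) ∈ J := by
    rw [hJ]
    exact Ideal.mem_map_of_mem _ h1
  rw [map_sub] at h2
  have : φ (algebraMap R C (counit (R := R) c)) = algebraMap R A (counit (R := R) c) :=
    AlgHomClass.commutes φ _
  rwa [this] at h2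

theorem one_tmul_algebraMap (r : R) :
    εL ((1 : L) ⊗ₜ[R] algebraMap R A r) = algebraMap L (MonoidAlgebra L M) (algebraMap R L r) := by
  have : (1 : L) ⊗ₜ[R] algebraMap R A r = algebraMap L (L ⊗[R] A) (algebraMap R L r) := by
    rw [Algebra.algebraMap_eq_smul_one, TensorProduct.tmul_smul, TensorProduct.smul_tmul',
      ← Algebra.algebraMap_eq_smul_one, Algebra.TensorProduct.algebraMap_apply]
    rfl
  rw [this]
  exact AlgHomClass.commutes εL _

include hJ in
theorem PsiL_sub_mem (c' : L ⊗[R] C) :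
    (qMap L (resKer J εL)).comp (PsiL φ εL) c' -
      algebraMap L (MonoidAlgebra L (M ⧸ resKer J εL)) (counit (R := L) c') ∈
    Ideal.map (algebraMap L (MonoidAlgebra L (M ⧸ resKer J εL))) (IsLocalRing.maximalIdeal L) := by
  set H := resKer J εL with hH
  set 𝔞 := Ideal.map (algebraMap L (MonoidAlgebra L (M ⧸ H))) (IsLocalRing.maximalIdeal L)
  induction c' using TensorProduct.induction_on with
  | zero => rw [map_zero, map_zero, map_zero, sub_zero]; exact 𝔞.zero_mem
  | add x y hx hy =>
    rw [map_add, map_add, map_add, add_sub_add_comm]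
    exact 𝔞.add_mem hx hy
  | tmul l c =>
    have key : (qMap L H).comp (PsiL φ εL) (l ⊗ₜ[R] c) -
        algebraMap L (MonoidAlgebra L (M ⧸ H)) (counit (R := L) (l ⊗ₜ[R] c)) =
        l • qMap L H (εL ((1 : L) ⊗ₜ[R] (φ c - algebraMap R A (counit (R := R) c)))) := by
      rw [TensorProduct.tmul_sub, map_sub, map_sub, smul_sub, one_tmul_algebraMap,
        AlgHomClass.commutes (qMap L H), ← map_smul, ← map_smul, TensorProduct.smul_tmul',
        smul_eq_mul, mul_one, BialgHom.comp_apply, PsiL_tmul, TensorProduct.counit_tmul,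
        CommSemiring.counit_apply, Algebra.smul_def (counit (R := R) c) l,
        Algebra.smul_def l, ← map_mul, mul_comm l]
    rw [key, Algebra.smul_def]
    exact 𝔞.mul_mem_left _ (qMap_mem_map_maximalIdeal J εL _ (phi_sub_mem φ J hJ c))

include hJ hfp hM in
/-- The composite `L ⊗ C → L[M] → L[M/H]` is trivial (rigidity). -/
theorem PsiL_qMap_trivial (c' : L ⊗[R] C) :
    qMap L (resKer J εL) (PsiL φ εL c') =
      algebraMap L (MonoidAlgebra L (M ⧸ resKer J εL)) (counit (R := L) c') := by
  haveI : Group.FG (M ⧸ resKer J εL) := by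
    haveI := hM
    exact QuotientGroup.fg _
  have hft : Algebra.FiniteType L (MonoidAlgebra L (M ⧸ resKer J εL)) :=
    MonoidAlgebra.finiteType_iff_group_fg.mpr inferInstance
  haveI := hfp
  have hfp' : Algebra.FinitePresentation L (L ⊗[R] C) := inferInstance
  exact Groth.Agent.S5245.result L (MonoidAlgebra L (M ⧸ resKer J εL)) hft
    (isMultType_monoidAlgebra L _) (L ⊗[R] C) (Or.inr hfp')
    ((qMap L (resKer J εL)).comp (PsiL φ εL)) (PsiL_sub_mem φ J hJ εL) c'

include hJ hfp hM in
/-- The ideal of the kernel dies in `L[M/H]`. -/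
theorem h1_local (a : A) (ha : a ∈ J) :
    qMap L (resKer J εL) (εL ((1 : L) ⊗ₜ[R] a)) = 0 := by
  set H := resKer J εL with hH
  let g : A →+* MonoidAlgebra L (M ⧸ H) :=
    ((thetaH εL H : L ⊗[R] A →ₐ[L] MonoidAlgebra L (M ⧸ H)) : L ⊗[R] A →+*
      MonoidAlgebra L (M ⧸ H)).comp
      (Algebra.TensorProduct.includeRight : A →ₐ[R] L ⊗[R] A).toRingHom
  have hg : ∀ a, g a = qMap L H (εL ((1 : L) ⊗ₜ[R] a)) := fun a => rfl
  have hle : J ≤ RingHom.ker g := by
    rw [hJ]
    show Ideal.map (φ : C →+* A) _ ≤ _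
    rw [Ideal.map_le_iff_le_comap]
    intro c hc
    rw [Ideal.mem_comap, RingHom.mem_ker]
    show g (φ c) = 0
    rw [hg, ← PsiL_tmul, PsiL_qMap_trivial φ J hJ hfp hM εL]
    have h5 : counit (R := R) c = 0 := hc
    rw [TensorProduct.counit_tmul, h5, zero_smul, map_zero]
  have := hle ha
  rw [RingHom.mem_ker, hg] at this
  exact this

end Local

end Groth.Agent.Lib.Helper25.MTGlue
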