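import Groth.Agent.Lib.Helper25MTGlueN

/-!
# The kernel over a local base, part 3 (helper25)

`h2_local`: the characters in `H = resKer` are trivial on the kernel.
-/

set_option autoImplicit false
set_option linter.style.haveILetI false
set_option linter.unusedSectionVars false
universe u v w

namespace Groth.Agent.Lib.Helper25.MTGlue

open TensorProduct Coalgebra SGA3b BCB
open Groth.Agent.Lib.Helper25.SubDiag Groth.Agent.Lib.Helper25 Groth.Agent.Lib.Helper25.TorsQuot

section Local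

variable {R : Type u} [CommRing R] {A C : Type u} [CommRing A] [HopfAlgebra R A]
  [CommRing C] [HopfAlgebra R C] (φ : C →ₐc[R] A) (J : Ideal A) [J.IsHopfIdeal R]
  (hJ : J = Ideal.map φ (RingHom.ker (Bialgebra.counitAlgHom R C)))
  (hfp : Algebra.FinitePresentation R C)
  {L : Type u} [CommRing L] [IsLocalRing L] [Algebra R L] {M : Type u} [CommGroup M]
  (hM : Group.FG M) (εL : L ⊗[R] A ≃ₐc[L] MonoidAlgebra L M)

include hJ hfp hM in
theorem PsiL_coeff_eq_zero : ∀ c' m, m ∉ resKer J εL → (PsiL φ εL c').coeff m = 0 :=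
  coeff_eq_zero_of_qMap_trivial (resKer J εL) (PsiL φ εL) (PsiL_qMap_trivial φ J hJ hfp hM εL)

/-- The factorisation `L ⊗ C → L[H]`. -/
noncomputable def PsiH : L ⊗[R] C →ₐc[L] MonoidAlgebra L ↥(resKer J εL) :=
  factor (resKer J εL) (PsiL φ εL) (PsiL_coeff_eq_zero φ J hJ hfp hM εL)

theorem incl_PsiH (c' : L ⊗[R] C) :
    incl (resKer J εL) (PsiH φ J hJ hfp hM εL c') = PsiL φ εL c' :=
  incl_factor _ _ _ c'

/-- The ideal of the kernel of `D(H) → G`. -/
noncomputable def JH : Ideal (MonoidAlgebra L ↥(resKer J εL)) :=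
  Ideal.map ((PsiH φ J hJ hfp hM εL : L ⊗[R] C →ₐc[L] MonoidAlgebra L ↥(resKer J εL)) :
    L ⊗[R] C →+* MonoidAlgebra L ↥(resKer J εL))
    (RingHom.ker (Bialgebra.counitAlgHom L (L ⊗[R] C)))

theorem isHopfIdeal_JH : (JH φ J hJ hfp hM εL).IsHopfIdeal L :=
  isHopfIdeal_map_ker_counit' (PsiH φ J hJ hfp hM εL)

theorem one_tmul_mem_ker (c : C) (hc : c ∈ RingHom.ker (Bialgebra.counitAlgHom R C)) :
    (1 : L) ⊗ₜ[R] c ∈ RingHom.ker (Bialgebra.counitAlgHom L (L ⊗[R] C)) := by
  rw [RingHom.mem_ker]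
  show counit (R := L) ((1 : L) ⊗ₜ[R] c) = 0
  have h5 : counit (R := R) c = 0 := hc
  rw [TensorProduct.counit_tmul, h5, zero_smul]

/-- `1 ⊗ a` for `a ∈ J` lands in the extension of `JH`. -/
theorem eps_one_tmul_mem (a : A) (ha : a ∈ J) :
    εL ((1 : L) ⊗ₜ[R] a) ∈ Ideal.map ((incl (L := L) (resKer J εL) :
      MonoidAlgebra L ↥(resKer J εL) →ₐc[L] MonoidAlgebra L M) :
      MonoidAlgebra L ↥(resKer J εL) →+* MonoidAlgebra L M) (JH φ J hJ hfp hM εL) := by
  set 𝔟 := Ideal.map ((incl (L := L) (resKer J εL) :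
      MonoidAlgebra L ↥(resKer J εL) →ₐc[L] MonoidAlgebra L M) :
      MonoidAlgebra L ↥(resKer J εL) →+* MonoidAlgebra L M) (JH φ J hJ hfp hM εL) with h𝔟
  let g : A →+* MonoidAlgebra L M :=
    ((εL : L ⊗[R] A →ₐ[L] MonoidAlgebra L M) : L ⊗[R] A →+* MonoidAlgebra L M).comp
      (Algebra.TensorProduct.includeRight : A →ₐ[R] L ⊗[R] A).toRingHom
  have hg : ∀ a, g a = εL ((1 : L) ⊗ₜ[R] a) := fun a => rfl
  have hle : J ≤ Ideal.comap g 𝔟 := by
    rw [hJ]
    show Ideal.map (φ : C →+* A) _ ≤ _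
    rw [Ideal.map_le_iff_le_comap]
    intro c hc
    rw [Ideal.mem_comap, Ideal.mem_comap]
    show g (φ c) ∈ 𝔟
    rw [hg, ← PsiL_tmul, ← incl_PsiH φ J hJ hfp hM εL]
    apply Ideal.mem_map_of_mem
    exact Ideal.mem_map_of_mem _ (one_tmul_mem_ker c hc)
  exact hle ha

theorem bcMk_cancelBC (w : L ⊗[R] A) :
    bcMk J (cancelBC R L (IsLocalRing.ResidueField L) A
      ((1 : IsLocalRing.ResidueField L) ⊗ₜ[L] w)) =
    Algebra.TensorProduct.map (IsScalarTower.toAlgHom R L (IsLocalRing.ResidueField L))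
      (Ideal.Quotient.mkₐ R J) w := by
  induction w using TensorProduct.induction_on with
  | zero => simp
  | add x y hx hy => rw [TensorProduct.tmul_add, map_add, map_add, hx, hy, map_add]
  | tmul l a =>
    rw [cancelBC_tmul, bcMk_tmul, Algebra.TensorProduct.map_tmul, Algebra.smul_def, mul_one]
    rfl

/-- The fibre condition. -/
theorem single_sub_one_mem (h : ↥(resKer J εL)) :
    MonoidAlgebra.single h (1 : L) - 1 ∈ JH φ J hJ hfp hM εL ⊔
      Ideal.map (algebraMap L (MonoidAlgebra L ↥(resKer J εL))) (IsLocalRing.maximalIdeal L) := by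
  set 𝔪 := IsLocalRing.maximalIdeal L with h𝔪
  -- step 1: `z = εL⁻¹(h) - 1` dies in `κ ⊗ A/J`
  set z : L ⊗[R] A := εL.symm (MonoidAlgebra.single (h : M) 1) - 1 with hz
  have hz0 : Algebra.TensorProduct.map (IsScalarTower.toAlgHom R L (IsLocalRing.ResidueField L))
      (Ideal.Quotient.mkₐ R J) z = 0 := by
    have h1 := (mem_resKer_iff J εL (h : M)).mp h.2
    rw [bcDiag_symm_single, bcMk_cancelBC] at h1
    rw [hz, map_sub, h1, map_one, sub_self]
  -- step 2: the kernel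
  have hker : z ∈ (𝔪.map (Algebra.TensorProduct.includeLeft : L →ₐ[R] L ⊗[R] A)) ⊔
      (J.map (Algebra.TensorProduct.includeRight : A →ₐ[R] L ⊗[R] A)) := by
    have hk := Algebra.TensorProduct.map_ker
      (IsScalarTower.toAlgHom R L (IsLocalRing.ResidueField L)) (Ideal.Quotient.mkₐ R J)
      (by
        intro x
        obtain ⟨l, rfl⟩ := IsLocalRing.residue_surjective x
        exact ⟨l, rfl⟩)
      (Ideal.Quotient.mkₐ_surjective R J)
    have hk1 : RingHom.ker (IsScalarTower.toAlgHom R L (IsLocalRing.ResidueField L)) = 𝔪 :=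
      IsLocalRing.ker_residue (R := L)
    have hk2 : RingHom.ker (Ideal.Quotient.mkₐ R J) = J := Ideal.Quotient.mkₐ_ker R J
    rw [hk1, hk2] at hk
    rw [← hk, RingHom.mem_ker]
    exact hz0
  -- step 3: transport by `εL`
  set 𝔟 : Ideal (MonoidAlgebra L M) := Ideal.map ((incl (L := L) (resKer J εL) :
      MonoidAlgebra L ↥(resKer J εL) →ₐc[L] MonoidAlgebra L M) :
      MonoidAlgebra L ↥(resKer J εL) →+* MonoidAlgebra L M) (JH φ J hJ hfp hM εL) ⊔
      Ideal.map (algebraMap L (MonoidAlgebra L M)) 𝔪 with h𝔟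
  let e : L ⊗[R] A →+* MonoidAlgebra L M :=
    ((εL : L ⊗[R] A →ₐ[L] MonoidAlgebra L M) : L ⊗[R] A →+* MonoidAlgebra L M)
  have he : ∀ w, e w = εL w := fun w => rfl
  have hle : (𝔪.map (Algebra.TensorProduct.includeLeft : L →ₐ[R] L ⊗[R] A)) ⊔
      (J.map (Algebra.TensorProduct.includeRight : A →ₐ[R] L ⊗[R] A)) ≤ Ideal.comap e 𝔟 := by
    apply sup_le
    · show Ideal.map ((Algebra.TensorProduct.includeLeft : L →ₐ[R] L ⊗[R] A) : L →+* L ⊗[R] A) 𝔪
        ≤ _
      rw [Ideal.map_le_iff_le_comap]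
      intro l hl
      rw [Ideal.mem_comap, Ideal.mem_comap, he]
      have : εL ((Algebra.TensorProduct.includeLeft : L →ₐ[R] L ⊗[R] A) l) =
          algebraMap L (MonoidAlgebra L M) l := AlgHomClass.commutes εL l
      show εL ((Algebra.TensorProduct.includeLeft : L →ₐ[R] L ⊗[R] A) l) ∈ 𝔟
      rw [this]
      exact Ideal.mem_sup_right (Ideal.mem_map_of_mem _ hl)
    · show Ideal.map ((Algebra.TensorProduct.includeRight : A →ₐ[R] L ⊗[R] A) : A →+* L ⊗[R] A) J
        ≤ _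
      rw [Ideal.map_le_iff_le_comap]
      intro a ha
      rw [Ideal.mem_comap, Ideal.mem_comap, he]
      exact Ideal.mem_sup_left (eps_one_tmul_mem φ J hJ hfp hM εL a ha)
  have h3 : εL z ∈ 𝔟 := hle hker
  -- step 4: restrict to `H`
  obtain ⟨y₁, hy₁, y₂, hy₂, hsum⟩ := Submodule.mem_sup.mp h3
  have h4 : restr (resKer J εL) (εL z) = MonoidAlgebra.single h (1 : L) - 1 := by
    rw [hz, map_sub, BialgEquiv.apply_symm_apply, map_one, map_sub,
      restr_single_mem (resKer J εL) (h : M) h.2, MonoidAlgebra.one_def, restr_single_mem (resKer J εL) 1 (resKer J εL).one_mem]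
    rfl
  rw [← h4, ← hsum, map_add]
  refine Submodule.add_mem_sup (restr_mem_of_mem_map (resKer J εL) _ y₁ hy₁) ?_
  have h5 : y₂ ∈ 𝔪 • (⊤ : Submodule L (MonoidAlgebra L M)) := by
    rw [Ideal.smul_top_eq_map]
    exact hy₂
  have h6 := NilGL.mem_smul_top_of_coeff_mem 𝔪 (restr (resKer J εL) y₂) (fun h' => by
    rw [coeff_restr]
    exact NilGL.coeff_mem_of_mem_smul_top 𝔪 h5 _)
  rw [Ideal.smul_top_eq_map] at h6
  exact h6

include hM in
/-- The kernel of `D(H) → G` is trivial. -/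
theorem JH_eq_ker_counit :
    JH φ J hJ hfp hM εL =
      RingHom.ker (Bialgebra.counitAlgHom L (MonoidAlgebra L ↥(resKer J εL))) := by
  haveI := isHopfIdeal_JH φ J hJ hfp hM εL
  haveI : Group.FG ↥(resKer J εL) := subgroup_fg_of_fg hM _
  have hft : Algebra.FiniteType L (MonoidAlgebra L ↥(resKer J εL)) :=
    MonoidAlgebra.finiteType_iff_group_fg.mpr inferInstance
  apply LocRigid.hopfIdeal_eq_augIdeal L _ hft (isMultType_monoidAlgebra L _)
  have hle : JH φ J hJ hfp hM εL ≤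
      RingHom.ker (Bialgebra.counitAlgHom L (MonoidAlgebra L ↥(resKer J εL))) := by
    intro x hx
    have : x ∈ (JH φ J hJ hfp hM εL).restrictScalars L := hx
    exact Submodule.IsCoideal.counit_eq_zero this
  apply le_antisymm
  · exact sup_le (le_sup_of_le_left hle) le_sup_right
  · refine sup_le ?_ le_sup_right
    intro x hx
    exact mem_of_counit_eq_zero _ (single_sub_one_mem φ J hJ hfp hM εL) x hx

include hJ hfp hM in
/-- The characters in `H` are trivial on the kernel. -/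
theorem h2_local (m : M) (hm : m ∈ resKer J εL) :
    bcMk (S := L) J (εL.symm (MonoidAlgebra.single m 1)) = 1 := by
  set H := resKer J εL with hH
  let ρ : MonoidAlgebra L ↥H →+* L ⊗[R] (A ⧸ J) :=
    ((psi' εL J : MonoidAlgebra L M →ₐ[L] L ⊗[R] (A ⧸ J)) : MonoidAlgebra L M →+* _).comp
      ((incl (L := L) H : MonoidAlgebra L ↥H →ₐc[L] MonoidAlgebra L M) :
        MonoidAlgebra L ↥H →+* MonoidAlgebra L M)
  have hρ : ∀ b, ρ b = psi' εL J (incl H b) := fun b => rfl
  have hle : JH φ J hJ hfp hM εL ≤ RingHom.ker ρ := by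
    unfold JH
    rw [Ideal.map_le_iff_le_comap]
    intro c' hc'
    rw [Ideal.mem_comap, RingHom.mem_ker]
    show ρ (PsiH φ J hJ hfp hM εL c') = 0
    rw [hρ, incl_PsiH, psi'_apply]
    show bcMk J (εL.symm (εL (bcPhi φ L c'))) = 0
    rw [BialgEquiv.symm_apply_apply, bcMk_bcPhi φ J hJ]
    have : counit (R := L) c' = 0 := hc'
    rw [this, map_zero]
  have hx : MonoidAlgebra.single (⟨m, hm⟩ : ↥H) (1 : L) - 1 ∈ JH φ J hJ hfp hM εL := by
    rw [JH_eq_ker_counit φ J hJ hfp hM εL, RingHom.mem_ker, map_sub, map_one]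
    show counit (R := L) (MonoidAlgebra.single (⟨m, hm⟩ : ↥H) (1 : L)) - 1 = 0
    rw [MonoidAlgebra.counit_single]
    simp
  have h0 := hle hx
  rw [RingHom.mem_ker, map_sub, map_one, hρ, incl_single, psi'_apply, sub_eq_zero] at h0
  exact h0

end Local

end Groth.Agent.Lib.Helper25.MTGlue
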