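import Groth.Agent.Lib.Helper25MTGlueO
import Mathlib.RingTheory.Localization.BaseChange

/-!
# Spreading out the structure of the kernel (helper25)

`exists_away_diag`: if `T ⊗ A ≅ T[M]` with `M` finitely generated, then for every prime `𝔮` of `T`
there is `t ∉ 𝔮` such that `T_t ⊗ A/J` is diagonalisable.
-/

set_option autoImplicit false
set_option linter.style.haveILetI false
set_option linter.unusedSectionVars false
universe u v w

namespace Groth.Agent.Lib.Helper25.MTGlue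

open TensorProduct Coalgebra SGA3b BCB
open Groth.Agent.Lib.Helper25.SubDiag Groth.Agent.Lib.Helper25 Groth.Agent.Lib.Helper25.TorsQuot

section Generic

variable {T : Type u} [CommRing T] {Y : Type v} [AddCommGroup Y] [Module T Y]

theorem exists_smul_eq_zero_of_tmul (𝔮 : Ideal T) [𝔮.IsPrime] (y : Y)
    (h : (1 : Localization.AtPrime 𝔮) ⊗ₜ[T] y = 0) : ∃ s : T, s ∉ 𝔮 ∧ s • y = 0 := by
  have h' : TensorProduct.mk T (Localization.AtPrime 𝔮) Y 1 y = 0 := h
  obtain ⟨s, hs⟩ := (IsLocalizedModule.eq_zero_iff 𝔮.primeCompl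
    (TensorProduct.mk T (Localization.AtPrime 𝔮) Y 1)).mp h'
  exact ⟨s.1, s.2, hs⟩

theorem one_tmul_eq_zero_of_smul (t : T) (y : Y) (h : t • y = 0) :
    (1 : Localization.Away t) ⊗ₜ[T] y = 0 := by
  obtain ⟨u, hu⟩ : IsUnit (algebraMap T (Localization.Away t) t) :=
    IsLocalization.Away.algebraMap_isUnit t
  have h1 : (1 : Localization.Away t) ⊗ₜ[T] y =
      (↑u⁻¹ : Localization.Away t) • ((algebraMap T (Localization.Away t) t) ⊗ₜ[T] y) := by
    rw [TensorProduct.smul_tmul', smul_eq_mul, ← hu, Units.inv_mul]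
  rw [h1, Algebra.algebraMap_eq_smul_one, TensorProduct.smul_tmul, h, TensorProduct.tmul_zero,
    smul_zero]

theorem exists_common_smul {ι : Type*} (s : Finset ι) (𝔮 : Ideal T) [h𝔮 : 𝔮.IsPrime]
    (y : ι → Y) (h : ∀ i ∈ s, ∃ t : T, t ∉ 𝔮 ∧ t • y i = 0) :
    ∃ t : T, t ∉ 𝔮 ∧ ∀ i ∈ s, t • y i = 0 := by
  classical
  induction s using Finset.induction_on with
  | empty => exact ⟨1, (Ideal.ne_top_iff_one 𝔮).mp h𝔮.ne_top, by simp⟩
  | insert a s ha ih =>
    obtain ⟨t₁, ht₁, h₁⟩ := ih (fun i hi => h i (Finset.mem_insert_of_mem hi))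
    obtain ⟨t₂, ht₂, h₂⟩ := h a (Finset.mem_insert_self a s)
    refine ⟨t₁ * t₂, fun hc => (h𝔮.mem_or_mem hc).elim ht₁ ht₂, ?_⟩
    intro i hi
    rcases Finset.mem_insert.mp hi with rfl | hi
    · rw [mul_smul, h₂, smul_zero]
    · rw [mul_comm, mul_smul, h₁ i hi, smul_zero]

end Generic

section BC

variable {R : Type u} [CommRing R] {A C : Type u} [CommRing A] [HopfAlgebra R A]
  [CommRing C] [HopfAlgebra R C] (φ : C →ₐc[R] A) (J : Ideal A) [J.IsHopfIdeal R]
  (hJ : J = Ideal.map φ (RingHom.ker (Bialgebra.counitAlgHom R C)))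
  (T : Type u) [CommRing T] [Algebra R T] (T' : Type u) [CommRing T'] [Algebra R T']
  [Algebra T T'] [IsScalarTower R T T'] {M : Type u} [CommGroup M]
  (ε : T ⊗[R] A ≃ₐc[T] MonoidAlgebra T M) (H : Subgroup M)

theorem bcMk_cancelBC' (w : T ⊗[R] A) :
    bcMk J (cancelBC R T T' A ((1 : T') ⊗ₜ[T] w)) =
      cancelBC R T T' (A ⧸ J) ((1 : T') ⊗ₜ[T] bcMk J w) := by
  induction w using TensorProduct.induction_on with
  | zero => simp
  | add x y hx hy =>
    rw [TensorProduct.tmul_add, map_add, map_add, hx, hy, map_add, TensorProduct.tmul_add, map_add]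
  | tmul t a => rw [cancelBC_tmul, bcMk_tmul, bcMk_tmul, cancelBC_tmul]

/-- The element whose vanishing is the first condition. -/
noncomputable def yEl (c : C) : MonoidAlgebra T (M ⧸ H) := qMap T H (ε ((1 : T) ⊗ₜ[R] φ c))

/-- The element whose vanishing is the second condition. -/
noncomputable def zEl (m : M) : T ⊗[R] (A ⧸ J) := bcMk J (ε.symm (MonoidAlgebra.single m 1)) - 1

theorem steBialg_one_tmul_yEl (c : C) :
    steBialg T T' (M ⧸ H) ((1 : T') ⊗ₜ[T] yEl φ T ε H c) =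
      qMap T' H (bcDiag R T T' ε ((1 : T') ⊗ₜ[R] φ c)) := by
  rw [steBialg_one_tmul, yEl, mapRingHom_qMap, ← bcDiag_one_tmul]

theorem cancelBC_one_tmul_zEl (m : M) :
    cancelBC R T T' (A ⧸ J) ((1 : T') ⊗ₜ[T] zEl J T ε m) =
      bcMk J ((bcDiag R T T' ε).symm (MonoidAlgebra.single m 1)) - 1 := by
  rw [zEl, TensorProduct.tmul_sub, map_sub, ← bcMk_cancelBC', ← bcDiag_symm_single]
  congr 1
  rw [← Algebra.TensorProduct.one_def, map_one]

include hJ in
theorem h1_of_tmul_eq_zero (F : Set C)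
    (hF : Ideal.span F = RingHom.ker (Bialgebra.counitAlgHom R C))
    (hy : ∀ c ∈ F, (1 : T') ⊗ₜ[T] yEl φ T ε H c = 0) :
    ∀ a ∈ J, qMap T' H (bcDiag R T T' ε ((1 : T') ⊗ₜ[R] a)) = 0 := by
  let g : A →+* MonoidAlgebra T' (M ⧸ H) :=
    ((thetaH (bcDiag R T T' ε) H : T' ⊗[R] A →ₐ[T'] MonoidAlgebra T' (M ⧸ H)) : T' ⊗[R] A →+*
      MonoidAlgebra T' (M ⧸ H)).comp
      (Algebra.TensorProduct.includeRight : A →ₐ[R] T' ⊗[R] A).toRingHom
  have hg : ∀ a, g a = qMap T' H (bcDiag R T T' ε ((1 : T') ⊗ₜ[R] a)) := fun a => rfl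
  have hle : J ≤ RingHom.ker g := by
    rw [hJ, ← hF]
    show Ideal.map (φ : C →+* A) _ ≤ _
    rw [Ideal.map_span, Ideal.span_le]
    rintro _ ⟨c, hc, rfl⟩
    rw [SetLike.mem_coe, RingHom.mem_ker]
    show g (φ c) = 0
    rw [hg, ← steBialg_one_tmul_yEl, hy c hc, map_zero]
  intro a ha
  have := hle ha
  rw [RingHom.mem_ker, hg] at this
  exact this

theorem h2_of_closure {S' : Type u} [CommRing S'] [Algebra R S']
    (ε' : S' ⊗[R] A ≃ₐc[S'] MonoidAlgebra S' M) (s : Set M)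
    (h : ∀ m ∈ s, bcMk (S := S') J (ε'.symm (MonoidAlgebra.single m 1)) = 1) :
    ∀ m ∈ Subgroup.closure s, bcMk (S := S') J (ε'.symm (MonoidAlgebra.single m 1)) = 1 := by
  have hle : Subgroup.closure s ≤ (toGL (psi' ε' J)).ker := by
    rw [Subgroup.closure_le]
    intro m hm
    rw [SetLike.mem_coe, MonoidHom.mem_ker]
    apply GroupLike.val_injective
    show psi' ε' J (MonoidAlgebra.of S' M m) = 1
    rw [psi'_apply, MonoidAlgebra.of_apply]
    exact h m hm
  intro m hm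
  have := hle hm
  rw [MonoidHom.mem_ker] at this
  have h2 := congrArg GroupLike.val this
  rw [toGL_val, psi'_apply, MonoidAlgebra.of_apply] at h2
  exact h2

theorem h2_of_tmul_eq_zero (s : Set M)
    (hz : ∀ m ∈ s, (1 : T') ⊗ₜ[T] zEl J T ε m = 0) :
    ∀ m ∈ Subgroup.closure s,
      bcMk J ((bcDiag R T T' ε).symm (MonoidAlgebra.single m 1)) = 1 := by
  apply h2_of_closure
  intro m hm
  have := cancelBC_one_tmul_zEl J T T' ε m
  rw [hz m hm, map_zero] at this
  exact (sub_eq_zero.mp this.symm)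

end BC

end Groth.Agent.Lib.Helper25.MTGlue
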