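import Groth.Agent.Lib.Helper25MTGlueP

/-!
# Spreading out the structure of the kernel, part 2 (helper25)

`exists_away_diag`: if `T ⊗ A ≅ T[M]` with `M` finitely generated, then for every prime `𝔮` of `T`
there is `t ∉ 𝔮` such that `T_t ⊗ A/J` is diagonalisable.
-/

set_option autoImplicit false
set_option linter.style.haveILetI false
set_option linter.unusedSectionVars false
universe u v w

namespace Groth.Agent.Lib.Helper25.MTGlue

open TensorProduct Coalgebra SGA3b BCB
open Groth.Agent.Lib.Helper25.SubDiag Groth.Agent.Lib.Helper25 Groth.Agent.Lib.Helper25.TorsQuot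

section Spread

variable {R : Type u} [CommRing R] {A C : Type u} [CommRing A] [HopfAlgebra R A]
  [CommRing C] [HopfAlgebra R C] (φ : C →ₐc[R] A) (J : Ideal A) [J.IsHopfIdeal R]
  (hJ : J = Ideal.map φ (RingHom.ker (Bialgebra.counitAlgHom R C)))
  (hfp : Algebra.FinitePresentation R C)
  {T : Type u} [CommRing T] [Algebra R T] {M : Type u} [CommGroup M] (hM : Group.FG M)
  (ε : T ⊗[R] A ≃ₐc[T] MonoidAlgebra T M)

include hJ hfp hM ε in
theorem exists_away_diag (𝔮 : Ideal T) [h𝔮 : 𝔮.IsPrime] :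
    ∃ t : T, t ∉ 𝔮 ∧ ∃ (Q : Type u) (_ : CommGroup Q),
      Nonempty (Localization.Away t ⊗[R] (A ⧸ J) ≃ₐc[Localization.Away t]
        MonoidAlgebra (Localization.Away t) Q) := by
  classical
  set εL := bcDiag R T (Localization.AtPrime 𝔮) ε with hεL
  set H := resKer J εL with hH
  have h1L := h1_local φ J hJ hfp hM εL
  have h2L := h2_local φ J hJ hfp hM εL
  -- finite generation
  obtain ⟨FC, hFC⟩ : (RingHom.ker (Bialgebra.counitAlgHom R C)).FG := by
    haveI := hfp
    have hsurj : Function.Surjective (Bialgebra.counitAlgHom R C) := by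
      intro r
      exact ⟨algebraMap R C r, by simp⟩
    exact Algebra.FinitePresentation.ker_fG_of_surjective (Bialgebra.counitAlgHom R C) hsurj
  obtain ⟨SH, hSH⟩ := (Group.fg_iff_subgroup_fg H).mp (subgroup_fg_of_fg hM H)
  -- vanishing over the local ring
  have hyL : ∀ c ∈ FC, (1 : Localization.AtPrime 𝔮) ⊗ₜ[T] yEl φ T ε H c = 0 := by
    intro c hc
    have hφc : φ c ∈ J := by
      rw [hJ]
      apply Ideal.mem_map_of_mem
      rw [← hFC]
      exact Ideal.subset_span hc
    have h3 : steBialg T (Localization.AtPrime 𝔮) (M ⧸ H)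
        ((1 : Localization.AtPrime 𝔮) ⊗ₜ[T] yEl φ T ε H c) =
        steBialg T (Localization.AtPrime 𝔮) (M ⧸ H) 0 := by
      rw [steBialg_one_tmul_yEl, map_zero]
      exact h1L _ hφc
    exact (steBialg T (Localization.AtPrime 𝔮) (M ⧸ H)).injective h3
  have hzL : ∀ m ∈ SH, (1 : Localization.AtPrime 𝔮) ⊗ₜ[T] zEl J T ε m = 0 := by
    intro m hm
    have hmH : m ∈ H := by
      rw [← hSH]
      exact Subgroup.subset_closure hm
    have h3 : cancelBC R T (Localization.AtPrime 𝔮) (A ⧸ J)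
        ((1 : Localization.AtPrime 𝔮) ⊗ₜ[T] zEl J T ε m) =
        cancelBC R T (Localization.AtPrime 𝔮) (A ⧸ J) 0 := by
      rw [cancelBC_one_tmul_zEl, map_zero, sub_eq_zero]
      exact h2L m hmH
    exact (cancelBC R T (Localization.AtPrime 𝔮) (A ⧸ J)).injective h3
  -- common denominators
  obtain ⟨t₁, ht₁, h₁⟩ := exists_common_smul FC 𝔮 (yEl φ T ε H)
    (fun c hc => exists_smul_eq_zero_of_tmul 𝔮 _ (hyL c hc))
  obtain ⟨t₂, ht₂, h₂⟩ := exists_common_smul SH 𝔮 (zEl J T ε)
    (fun m hm => exists_smul_eq_zero_of_tmul 𝔮 _ (hzL m hm))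
  refine ⟨t₁ * t₂, fun hc => (h𝔮.mem_or_mem hc).elim ht₁ ht₂, M ⧸ H, inferInstance, ?_⟩
  have hy : ∀ c ∈ (FC : Set C),
      (1 : Localization.Away (t₁ * t₂)) ⊗ₜ[T] yEl φ T ε H c = 0 := by
    intro c hc
    apply one_tmul_eq_zero_of_smul
    rw [mul_comm, mul_smul, h₁ c hc, smul_zero]
  have hz : ∀ m ∈ (SH : Set M),
      (1 : Localization.Away (t₁ * t₂)) ⊗ₜ[T] zEl J T ε m = 0 := by
    intro m hm
    apply one_tmul_eq_zero_of_smul
    rw [mul_smul, h₂ m hm, smul_zero]
  have h1' := h1_of_tmul_eq_zero φ J hJ T (Localization.Away (t₁ * t₂)) ε H (FC : Set C) hFC hy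
  have h2' := h2_of_tmul_eq_zero J T (Localization.Away (t₁ * t₂)) ε (SH : Set M) hz
  rw [hSH] at h2'
  exact nonempty_bialgEquiv_quotient (bcDiag R T (Localization.Away (t₁ * t₂)) ε) H J h1' h2'

end Spread

end Groth.Agent.Lib.Helper25.MTGlue
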