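import Mathlib
import Groth.Agent.Lib.Helper25IdCompScheme

set_option autoImplicit false
set_option linter.unusedSectionVars false

namespace Groth.Agent.Lib.Helper25.MaxPt

universe u

section part0
open CategoryTheory CategoryTheory.Limits MonoidalCategory CartesianMonoidalCategory MonObj GrpObj AlgebraicGeometry

open Groth.Agent.Lib.Helper25.TopGrp Groth.Agent.Lib.Helper25.IdComp

section top
variable {X Y : Type*} [TopologicalSpace X] [TopologicalSpace Y]

/-- a maximal point: a point without proper generizations. -/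
def IsMaxPt (y : Y) : Prop := ∀ y' : Y, y' ⤳ y → y' = y

lemma IsMaxPt.map_of_generalizingMap {f : X → Y} (hf : GeneralizingMap f) {w : X} (hw : IsMaxPt w) :
    IsMaxPt (f w) := by
  intro y' hy'
  obtain ⟨w', hw', rfl⟩ := hf hy'
  rw [hw w' hw']

lemma IsMaxPt.map_homeomorph (e : X ≃ₜ Y) {w : X} (hw : IsMaxPt w) : IsMaxPt (e w) := by
  intro y' hy'
  have h1 : e.symm y' ⤳ w := by
    have := hy'.map e.symm.continuous
    rwa [e.symm_apply_apply] at this
  have := hw _ h1
  rw [← this, e.apply_symm_apply]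

lemma IsMaxPt.closure_mem_irreducibleComponents [QuasiSober Y] [T0Space Y] {y : Y} (hy : IsMaxPt y) :
    closure ({y} : Set Y) ∈ irreducibleComponents Y := by
  refine ⟨isIrreducible_singleton.closure, fun A hA hle => ?_⟩
  have hA' : IsIrreducible (closure A) := hA.closure
  let gp := hA'.genericPoint
  have hgp : IsGenericPoint gp (closure A) := hA'.isGenericPoint_genericPoint isClosed_closure
  have h1 : gp ⤳ y := hgp.specializes (subset_closure (hle (subset_closure rfl)))
  have h2 : gp = y := hy gp h1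
  rw [← h2, hgp.def]
  exact subset_closure

lemma exists_isMaxPt [QuasiSober Y] [T0Space Y] [Nonempty Y] : ∃ y : Y, IsMaxPt y := by
  obtain ⟨y₀⟩ : Nonempty Y := inferInstance
  let M := irreducibleComponent y₀
  have hM : M ∈ irreducibleComponents Y := irreducibleComponent_mem_irreducibleComponents y₀
  have hMcl := isClosed_of_mem_irreducibleComponents _ hM
  let gp := hM.1.genericPoint
  have hgp : IsGenericPoint gp M := hM.1.isGenericPoint_genericPoint hMcl
  refine ⟨gp, fun y' hy' => ?_⟩
  have h1 : M ⊆ closure ({y'} : Set Y) := by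
    rw [← hgp.def]; exact hy'.closure_subset
  have h2 : closure ({y'} : Set Y) ⊆ M := hM.2 isIrreducible_singleton.closure h1
  have h3 : IsGenericPoint y' M := le_antisymm h2 h1
  exact h3.eq hgp

end top

section grp
variable {k : Type u} [Field k] {G : Over (Spec (CommRingCat.of k))} [GrpObj G]

/-- every point of a group scheme over a field is a product of two maximal points. -/
theorem exists_mul_eq_of_maximal_points (x : G.left) :
    ∃ z : (G ⊗ G).left, μ[G].left z = x ∧ IsMaxPt ((fst G G).left z) ∧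
      IsMaxPt ((snd G G).left z) := by
  let P := ptObj x
  let T : Over (Spec (CommRingCat.of k)) := P ⊗ G
  let b : T ⟶ G := snd P G
  let x' : T ⟶ G := fst P G ≫ ptHom x
  have hx' : ∀ t : T.left, x'.left t = x := fun t => ptHom_left_apply x _
  let ψ : T ⟶ T := lift (fst P G) (x' * b⁻¹)
  let ψ' : T ⟶ T := lift (fst P G) (b⁻¹ * x')
  have hψx : ψ ≫ x' = x' := by simp only [ψ, x']; rw [← Category.assoc, lift_fst]
  have hψ'x : ψ' ≫ x' = x' := by simp only [ψ', x']; rw [← Category.assoc, lift_fst]
  have hψb : ψ ≫ b = x' * b⁻¹ := lift_snd _ _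
  have hψ'b : ψ' ≫ b = b⁻¹ * x' := lift_snd _ _
  have h1 : ψ ≫ ψ' = 𝟙 T := by
    apply CartesianMonoidalCategory.hom_ext
    · simp [ψ, ψ']
    · change (ψ ≫ ψ') ≫ b = 𝟙 T ≫ b
      rw [Category.assoc, hψ'b, MonObj.comp_mul, GrpObj.comp_inv, hψb, hψx, Category.id_comp]
      group
  have h2 : ψ' ≫ ψ = 𝟙 T := by
    apply CartesianMonoidalCategory.hom_ext
    · simp [ψ, ψ']
    · change (ψ' ≫ ψ) ≫ b = 𝟙 T ≫ b
      rw [Category.assoc, hψb, MonObj.comp_mul, GrpObj.comp_inv, hψ'b, hψ'x, Category.id_comp]
      group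
  have hiso : IsIso ψ.left :=
    ⟨ψ'.left, by rw [← Over.comp_left, h1]; rfl, by rw [← Over.comp_left, h2]; rfl⟩
  have hflat : Flat b.left := by
    rw [Over.snd_left]
    infer_instance
  have hgen : GeneralizingMap b.left := Flat.generalizingMap b.left
  have hne : Nonempty T.left := by
    obtain ⟨p₀⟩ : Nonempty P.left := inferInstance
    obtain ⟨t₀, -, -⟩ := exists_tensor_point P G p₀ (ePt G)
    exact ⟨t₀⟩
  obtain ⟨w, hw⟩ := exists_isMaxPt (Y := T.left)
  refine ⟨(lift (x' * b⁻¹) b).left w, ?_, ?_, ?_⟩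
  · change ((lift (x' * b⁻¹) b).left ≫ μ[G].left) w = x
    rw [← Over.comp_left, ← Hom.mul_def, inv_mul_cancel_right, hx']
  · change IsMaxPt (((lift (x' * b⁻¹) b).left ≫ (fst G G).left) w)
    rw [← Over.comp_left, lift_fst, ← hψb, Over.comp_left, Scheme.Hom.comp_apply]
    exact (hw.map_homeomorph ψ.left.homeomorph).map_of_generalizingMap hgen
  · change IsMaxPt (((lift (x' * b⁻¹) b).left ≫ (snd G G).left) w)
    rw [← Over.comp_left, lift_snd]
    exact hw.map_of_generalizingMap hgen

theorem exists_mul_eq_of_maximal_points' (x : G.left) :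
    ∃ z : (G ⊗ G).left, μ[G].left z = x ∧
      closure {(fst G G).left z} ∈ irreducibleComponents G.left ∧
      closure {(snd G G).left z} ∈ irreducibleComponents G.left := by
  obtain ⟨z, h1, h2, h3⟩ := exists_mul_eq_of_maximal_points x
  exact ⟨z, h1, h2.closure_mem_irreducibleComponents, h3.closure_mem_irreducibleComponents⟩

end grp

end part0

end Groth.Agent.Lib.Helper25.MaxPt
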