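import Groth.Agent.Lib.Helper25MultBC
import Groth.Agent.Lib.Helper25TakeuchiCor

/-!
# Monomorphisms from groups of multiplicative type are closed immersions (helper25)

* `IsMono φ`: the algebra map `φ : C → A` induces injections on `T`-points for all `T`.
* `surjective_of_isMono_monoidAlgebra`: a bialgebra map `φ : C → R[M]` that is a monomorphism of
  group schemes is surjective.  (The image is `⊕ J m • m` for ideals `J m`; if `J m₀ ≠ R`, take a
  maximal ideal `𝔭 ⊇ J m₀`, the subgroup `N = {n | J n ⊄ 𝔭}` and the two characters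
  `M → (R/𝔭)[M/N]`.)
* `IsMono.comp_equiv`, `IsMono.baseChange`, descent of surjectivity along faithfully flat maps
  and Zariski covers.
* `surjective_of_isMono_of_isMultType`.
-/

set_option autoImplicit false
set_option linter.style.haveILetI false
universe u v w

namespace Groth.Agent.Lib.Helper25.MonoMult

open TensorProduct Coalgebra

/-- `φ` is a monomorphism of affine `R`-schemes (on points with values in `R`-algebras of the
same universe). -/
def IsMono {R : Type u} [CommRing R] {C A : Type u} [CommRing C] [CommRing A] [Algebra R C]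
    [Algebra R A] (φ : C →ₐ[R] A) : Prop :=
  ∀ (T : Type u) [CommRing T] [Algebra R T],
    Function.Injective (fun x : A →ₐ[R] T => x.comp φ)

section Diag

variable {R : Type u} [CommRing R] {M : Type u} [CommGroup M] {C : Type u} [CommRing C]
  [HopfAlgebra R C] (φ : C →ₐc[R] MonoidAlgebra R M)

/-- The coefficient functional. -/
noncomputable def cf (R : Type u) [CommRing R] {M : Type u} (m : M) : MonoidAlgebra R M →ₗ[R] R :=
  Finsupp.lapply m ∘ₗ (MonoidAlgebra.coeffLinearEquiv R).toLinearMap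

@[simp] theorem cf_apply (m : M) (x : MonoidAlgebra R M) : cf R m x = x.coeff m := rfl

theorem rid_lTensor_cf_comul (m : M) (b : MonoidAlgebra R M) :
    TensorProduct.rid R _ ((cf R m).lTensor _ (comul (R := R) b)) =
      b.coeff m • MonoidAlgebra.of R M m := by
  classical
  induction b using MonoidAlgebra.induction_linear with
  | zero => simp
  | add x y hx hy =>
    rw [map_add, map_add, map_add, hx, hy, MonoidAlgebra.coeff_add, Finsupp.add_apply, add_smul]
  | single n r =>
    rw [MonoidAlgebra.comul_single]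
    simp only [CommSemiring.comul_apply, TensorProduct.map_tmul, LinearMap.lTensor_tmul,
      TensorProduct.rid_tmul, MonoidAlgebra.lsingle_apply, cf_apply, MonoidAlgebra.coeff_single,
      Finsupp.single_apply]
    by_cases h : n = m
    · subst h
      simp [MonoidAlgebra.of_apply]
    · simp [h]

theorem map_rid_lTensor (g : MonoidAlgebra R M →ₗ[R] R) (z : C ⊗[R] C) :
    φ (TensorProduct.rid R C ((g ∘ₗ (φ : C →ₗ[R] MonoidAlgebra R M)).lTensor C z)) =
      TensorProduct.rid R _ (g.lTensor _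
        (TensorProduct.map (φ : C →ₗ[R] MonoidAlgebra R M) (φ : C →ₗ[R] MonoidAlgebra R M) z)) := by
  induction z using TensorProduct.induction_on with
  | zero => simp
  | add x y hx hy => simp only [map_add, hx, hy]
  | tmul c d => simp

/-- The ideal of `r` with `r • m` in the image of `φ`. -/
def J (m : M) : Ideal R where
  carrier := {r | r • MonoidAlgebra.of R M m ∈ Set.range φ}
  add_mem' := by
    rintro a b ⟨c, hc⟩ ⟨d, hd⟩
    exact ⟨c + d, by rw [map_add, hc, hd, add_smul]⟩
  zero_mem' := ⟨0, by simp⟩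
  smul_mem' := by
    rintro a b ⟨c, hc⟩
    exact ⟨a • c, by rw [map_smul, hc, smul_eq_mul, mul_smul]⟩

theorem mem_J {m : M} {r : R} : r ∈ J φ m ↔ ∃ c, φ c = r • MonoidAlgebra.of R M m := Iff.rfl

theorem coeff_mem_J (c : C) (m : M) : (φ c).coeff m ∈ J φ m := by
  refine ⟨TensorProduct.rid R C (((cf R m) ∘ₗ (φ : C →ₗ[R] MonoidAlgebra R M)).lTensor C
    (comul (R := R) c)), ?_⟩
  rw [map_rid_lTensor, ← rid_lTensor_cf_comul]
  congr 2
  exact CoalgHomClass.map_comp_comul_apply φ c

theorem one_mem_J_one : (1 : R) ∈ J φ 1 := ⟨1, by simp [MonoidAlgebra.one_def]⟩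

theorem mul_mem_J {m n : M} {a b : R} (ha : a ∈ J φ m) (hb : b ∈ J φ n) : a * b ∈ J φ (m * n) := by
  obtain ⟨c, hc⟩ := ha
  obtain ⟨d, hd⟩ := hb
  refine ⟨c * d, ?_⟩
  rw [map_mul, hc, hd, map_mul, smul_mul_smul_comm]

theorem inv_mem_J {m : M} {a : R} (ha : a ∈ J φ m) : a ∈ J φ m⁻¹ := by
  obtain ⟨c, hc⟩ := ha
  refine ⟨HopfAlgebra.antipode R c, ?_⟩
  rw [Groth.Agent.Lib.Helper25.bialgHom_antipode, hc, map_smul, MonoidAlgebra.of_apply,
    MonoidAlgebra.antipode_single, MonoidAlgebra.of_apply]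
  simp

end Diag

open TensorProduct Coalgebra

section Diag

variable {R : Type u} [CommRing R] {M : Type u} [CommGroup M] {C : Type u} [CommRing C]
  [HopfAlgebra R C] (φ : C →ₐc[R] MonoidAlgebra R M)

/-- The subgroup of `n` with `J n ⊄ 𝔭`. -/
def subgrp (𝔭 : Ideal R) [𝔭.IsPrime] : Subgroup M where
  carrier := {n | ¬ J φ n ≤ 𝔭}
  one_mem' := by
    intro h
    exact (Ideal.IsPrime.ne_top inferInstance) ((Ideal.eq_top_iff_one 𝔭).mpr (h (one_mem_J_one φ)))
  mul_mem' := by
    intro m n hm hn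
    obtain ⟨a, ha, ha'⟩ := Set.not_subset.mp hm
    obtain ⟨b, hb, hb'⟩ := Set.not_subset.mp hn
    intro h
    rcases Ideal.IsPrime.mem_or_mem inferInstance (h (mul_mem_J φ ha hb)) with h' | h'
    · exact ha' h'
    · exact hb' h'
  inv_mem' := by
    intro m hm h
    apply hm
    intro a ha
    exact h (inv_mem_J φ ha)

theorem mem_subgrp {𝔭 : Ideal R} [𝔭.IsPrime] {n : M} : n ∈ subgrp φ 𝔭 ↔ ¬ J φ n ≤ 𝔭 := Iff.rfl

theorem one_mem_J_of_isMono (hmono : IsMono (φ : C →ₐ[R] MonoidAlgebra R M)) (m₀ : M) :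
    (1 : R) ∈ J φ m₀ := by
  classical
  by_contra h1
  have hne : J φ m₀ ≠ ⊤ := fun h => h1 ((Ideal.eq_top_iff_one _).mp h)
  obtain ⟨𝔭, h𝔭, hle⟩ := Ideal.exists_le_maximal _ hne
  haveI : 𝔭.IsPrime := h𝔭.isPrime
  let N : Subgroup M := subgrp φ 𝔭
  let x : MonoidAlgebra R M →ₐ[R] MonoidAlgebra (R ⧸ 𝔭) (M ⧸ N) :=
    MonoidAlgebra.lift R _ M ((MonoidAlgebra.of (R ⧸ 𝔭) (M ⧸ N)).comp (QuotientGroup.mk' N))
  let y : MonoidAlgebra R M →ₐ[R] MonoidAlgebra (R ⧸ 𝔭) (M ⧸ N) :=
    MonoidAlgebra.lift R _ M 1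
  have hzero : ∀ (r : R) (t : MonoidAlgebra (R ⧸ 𝔭) (M ⧸ N)), r ∈ 𝔭 → r • t = 0 := by
    intro r t hr
    rw [← algebraMap_smul (R ⧸ 𝔭) r t]
    have : algebraMap R (R ⧸ 𝔭) r = 0 := Ideal.Quotient.eq_zero_iff_mem.mpr hr
    rw [this, zero_smul]
  have hxy : x.comp (φ : C →ₐ[R] MonoidAlgebra R M) = y.comp (φ : C →ₐ[R] MonoidAlgebra R M) := by
    apply AlgHom.ext
    intro c
    simp only [AlgHom.comp_apply]
    change MonoidAlgebra.lift R (MonoidAlgebra (R ⧸ 𝔭) (M ⧸ N)) M _ (φ c) =
      MonoidAlgebra.lift R (MonoidAlgebra (R ⧸ 𝔭) (M ⧸ N)) M _ (φ c)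
    rw [MonoidAlgebra.lift_apply, MonoidAlgebra.lift_apply]
    apply Finsupp.sum_congr
    intro n _
    by_cases hnN : n ∈ N
    · have : (QuotientGroup.mk' N n) = 1 := (QuotientGroup.eq_one_iff n).mpr hnN
      simp only [MonoidHom.comp_apply, this, map_one, MonoidHom.one_apply]
    · have : (φ c).coeff n ∈ 𝔭 := (not_not.mp hnN) (coeff_mem_J φ c n)
      rw [hzero _ _ this, hzero _ _ this]
  have hxy' := hmono _ hxy
  have h2 := DFunLike.congr_fun hxy' (MonoidAlgebra.of R M m₀)
  simp only [x, y, MonoidAlgebra.lift_of, MonoidHom.comp_apply, MonoidHom.one_apply] at h2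
  have h3 : QuotientGroup.mk' N m₀ = 1 := by
    have := MonoidAlgebra.of_injective (R := R ⧸ 𝔭) (M := M ⧸ N)
    apply this
    rw [h2, map_one]
  have h4 : m₀ ∈ N := (QuotientGroup.eq_one_iff m₀).mp h3
  exact h4 hle

theorem surjective_of_isMono_monoidAlgebra
    (hmono : IsMono (φ : C →ₐ[R] MonoidAlgebra R M)) : Function.Surjective φ := by
  intro b
  induction b using MonoidAlgebra.induction_linear with
  | zero => exact ⟨0, map_zero _⟩
  | add x y hx hy =>
    obtain ⟨c, rfl⟩ := hx
    obtain ⟨d, rfl⟩ := hy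
    exact ⟨c + d, map_add _ _ _⟩
  | single n r =>
    obtain ⟨c, hc⟩ := one_mem_J_of_isMono φ hmono n
    refine ⟨r • c, ?_⟩
    rw [map_smul, hc, one_smul, MonoidAlgebra.of_apply, MonoidAlgebra.smul_single, smul_eq_mul,
      mul_one]

end Diag

open TensorProduct Coalgebra

section Transfer

variable {R : Type u} [CommRing R] {C A A' : Type u} [CommRing C] [CommRing A] [CommRing A']
  [Algebra R C] [Algebra R A] [Algebra R A']

theorem IsMono.of_eq {φ ψ : C →ₐ[R] A} (h : IsMono φ) (heq : ∀ c, ψ c = φ c) : IsMono ψ := by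
  have : ψ = φ := AlgHom.ext heq
  rw [this]; exact h

theorem IsMono.comp_equiv {φ : C →ₐ[R] A} (h : IsMono φ) (e : A ≃ₐ[R] A') :
    IsMono ((e : A →ₐ[R] A').comp φ) := by
  intro T _ _ x y hxy
  have h1 : (x.comp (e : A →ₐ[R] A')).comp φ = (y.comp (e : A →ₐ[R] A')).comp φ := by
    simpa [AlgHom.comp_assoc] using hxy
  have h2 := h T h1
  apply AlgHom.ext
  intro a'
  have := DFunLike.congr_fun h2 (e.symm a')
  simpa using this

theorem IsMono.baseChange {φ : C →ₐ[R] A} (h : IsMono φ) (S : Type u) [CommRing S]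
    [Algebra R S] : IsMono (Algebra.TensorProduct.map (AlgHom.id S S) φ) := by
  intro T _ _ x y hxy
  letI : Algebra R T := Algebra.compHom T (algebraMap R S)
  haveI : IsScalarTower R S T := IsScalarTower.of_algebraMap_eq fun _ => rfl
  let x' : A →ₐ[R] T := (x.restrictScalars R).comp Algebra.TensorProduct.includeRight
  let y' : A →ₐ[R] T := (y.restrictScalars R).comp Algebra.TensorProduct.includeRight
  have hxy' : x'.comp φ = y'.comp φ := by
    apply AlgHom.ext
    intro c
    have := DFunLike.congr_fun hxy ((1 : S) ⊗ₜ[R] c)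
    simpa [x', y'] using this
  have h2 := h T hxy'
  apply AlgHom.ext
  intro z
  induction z using TensorProduct.induction_on with
  | zero => simp
  | add a b ha hb => rw [map_add, map_add, ha, hb]
  | tmul s a =>
    have h3 : s ⊗ₜ[R] a = s • ((1 : S) ⊗ₜ[R] a) := by rw [smul_tmul', smul_eq_mul, mul_one]
    have h4 := DFunLike.congr_fun h2 a
    simp only [x', y', AlgHom.comp_apply, AlgHom.restrictScalars_apply,
      Algebra.TensorProduct.includeRight_apply] at h4
    rw [h3, map_smul, map_smul, h4]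

theorem lTensor_eq_algMap (S : Type u) [CommRing S] [Algebra R S] (φ : C →ₐ[R] A)
    (w : S ⊗[R] C) :
    (φ : C →ₗ[R] A).lTensor S w = Algebra.TensorProduct.map (AlgHom.id S S) φ w := by
  induction w using TensorProduct.induction_on with
  | zero => simp
  | add a b ha hb => rw [map_add, map_add, ha, hb]
  | tmul s c => simp

theorem surjective_of_faithfullyFlat (S : Type u) [CommRing S] [Algebra R S]
    [Module.FaithfullyFlat R S] (φ : C →ₐ[R] A)
    (h : Function.Surjective (Algebra.TensorProduct.map (AlgHom.id S S) φ)) :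
    Function.Surjective φ := by
  have h1 : Function.Surjective ((φ : C →ₗ[R] A).lTensor S) := by
    intro z
    obtain ⟨w, hw⟩ := h z
    refine ⟨w, ?_⟩
    rw [← hw, lTensor_eq_algMap]
  exact (Module.FaithfullyFlat.lTensor_surjective_iff_surjective R S _).mp h1

theorem surjective_of_span (s : Set R) (hs : Ideal.span s = ⊤) (φ : C →ₐ[R] A)
    (h : ∀ f ∈ s, Function.Surjective
      (Algebra.TensorProduct.map (AlgHom.id (Localization.Away f) (Localization.Away f)) φ)) :
    Function.Surjective φ := by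
  refine surjective_of_isLocalized_span s hs
    (fun r => Localization.Away r.1 ⊗[R] C)
    (fun r => TensorProduct.mk R (Localization.Away r.1) C 1)
    (fun r => Localization.Away r.1 ⊗[R] A)
    (fun r => TensorProduct.mk R (Localization.Away r.1) A 1) (φ : C →ₗ[R] A) ?_
  intro r
  have heq : IsLocalizedModule.map (.powers r.1)
      (TensorProduct.mk R (Localization.Away r.1) C 1)
      (TensorProduct.mk R (Localization.Away r.1) A 1) (φ : C →ₗ[R] A) =
      (φ : C →ₗ[R] A).lTensor (Localization.Away r.1) := by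
    apply IsLocalizedModule.linearMap_ext (.powers r.1)
      (TensorProduct.mk R (Localization.Away r.1) C 1)
      (TensorProduct.mk R (Localization.Away r.1) A 1)
    rw [IsLocalizedModule.map_comp]
    ext c
    simp
  rw [heq]
  intro z
  obtain ⟨w, hw⟩ := h r.1 r.2 z
  refine ⟨w, ?_⟩
  rw [← hw, lTensor_eq_algMap]

end Transfer

open TensorProduct Coalgebra SGA3b

section Main

variable {R : Type u} [CommRing R] {A : Type u} [CommRing A] [HopfAlgebra R A]
  {C : Type u} [CommRing C] [HopfAlgebra R C]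

theorem surjective_of_isMono_of_isDiag (h : IsDiag R A) (φ : C →ₐc[R] A)
    (hmono : IsMono (φ : C →ₐ[R] A)) : Function.Surjective φ := by
  obtain ⟨M, _, ⟨e⟩⟩ := h
  have h1 : IsMono ((e.toBialgHom.comp φ : C →ₐc[R] MonoidAlgebra R M) :
      C →ₐ[R] MonoidAlgebra R M) :=
    (hmono.comp_equiv e.toAlgEquiv).of_eq (fun c => rfl)
  have h2 := surjective_of_isMono_monoidAlgebra _ h1
  intro a
  obtain ⟨c, hc⟩ := h2 (e a)
  exact ⟨c, e.injective hc⟩

theorem surjective_of_isMono_of_isMultTypeConst (h : IsMultTypeConst R A) (φ : C →ₐc[R] A)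
    (hmono : IsMono (φ : C →ₐ[R] A)) : Function.Surjective φ := by
  obtain ⟨R', _, _, hff, hd⟩ := h
  have h1 : IsMono ((Bialgebra.TensorProduct.map (BialgHom.id R' R') φ :
      R' ⊗[R] C →ₐc[R'] R' ⊗[R] A) : R' ⊗[R] C →ₐ[R'] R' ⊗[R] A) :=
    (hmono.baseChange R').of_eq (fun c => rfl)
  have h2 := surjective_of_isMono_of_isDiag hd _ h1
  exact surjective_of_faithfullyFlat R' (φ : C →ₐ[R] A) h2

theorem surjective_of_isMono_of_isMultType (h : IsMultType R A) (φ : C →ₐc[R] A)
    (hmono : IsMono (φ : C →ₐ[R] A)) : Function.Surjective φ := by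
  obtain ⟨s, hs, hs'⟩ := h
  refine surjective_of_span s hs (φ : C →ₐ[R] A) ?_
  intro f hf
  have h1 : IsMono ((Bialgebra.TensorProduct.map
      (BialgHom.id (Localization.Away f) (Localization.Away f)) φ :
      Localization.Away f ⊗[R] C →ₐc[Localization.Away f] Localization.Away f ⊗[R] A) :
      Localization.Away f ⊗[R] C →ₐ[Localization.Away f] Localization.Away f ⊗[R] A) :=
    (hmono.baseChange (Localization.Away f)).of_eq (fun c => rfl)
  exact surjective_of_isMono_of_isMultTypeConst (hs' f hf) _ h1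

end Main

end Groth.Agent.Lib.Helper25.MonoMult
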