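import Groth.Prelude.Def_CartDual2
import Groth.Agent.Lib.Helper25EtConn
import Mathlib

/-!
# Helper25MuPart: homomorphisms of finite commutative group schemes respect the multiplicative part
(Hopf form)

`mul_eq_of_idempotent`, `invariant_transpose` (invariance of linear forms is transported by the
transpose of a bialgebra map), `quotAlgHom`, `quotBialgHom` (induced bialgebra map on quotients by
biideals).
-/

set_option autoImplicit false
set_option linter.unusedSectionVars false
set_option linter.unusedSimpArgs false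
universe u

open TensorProduct CartDual

namespace Groth.Agent.Lib.Helper25.MuPart


section -- MuA
section
variable {R : Type u} [CommRing R] [Nontrivial R]
  {A₀ B₀ : Type u} [CommRing A₀] [HopfAlgebra R A₀] [Coalgebra.IsCocomm R A₀]
  [Module.Finite R A₀] [Module.Projective R A₀]
  [CommRing B₀] [HopfAlgebra R B₀] [Coalgebra.IsCocomm R B₀]
  [Module.Finite R B₀] [Module.Projective R B₀]

/-- an idempotent with counit `1` becomes `1` modulo `1 - f` when the quotient is local -/
theorem mul_eq_of_idempotent {Λ : Type u} [CommRing Λ] [Bialgebra R Λ]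
    (f : Λ) (hf : IsIdempotentElem f) (hfε : Bialgebra.counitAlgHom R Λ f = 1)
    [IsLocalRing (Λ ⧸ Ideal.span ({1 - f} : Set Λ))]
    (g : Λ) (hg : IsIdempotentElem g) (hgε : Bialgebra.counitAlgHom R Λ g = 1) :
    f * g = f := by
  let εb : (Λ ⧸ Ideal.span ({1 - f} : Set Λ)) →ₐ[R] R :=
    Ideal.Quotient.liftₐ (Ideal.span ({1 - f} : Set Λ)) (Bialgebra.counitAlgHom R Λ) (by
      intro a ha
      have hle : Ideal.span ({1 - f} : Set Λ) ≤ RingHom.ker (Bialgebra.counitAlgHom R Λ) := by
        rw [Ideal.span_le]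
        rintro _ rfl
        change (1 - f) ∈ RingHom.ker (Bialgebra.counitAlgHom R Λ)
        rw [RingHom.mem_ker, map_sub, map_one, hfε, sub_self]
      exact hle ha)
  let q := Ideal.Quotient.mk (Ideal.span ({1 - f} : Set Λ)) g
  have hq : IsIdempotentElem q := hg.map _
  have hq1 : q = 1 := by
    rcases IsLocalRing.isUnit_or_isUnit_one_sub_self q with h | h
    · exact (IsUnit.mul_eq_right h).mp hq.eq
    · exfalso
      have h1 : 1 - q = 1 := (IsUnit.mul_eq_right h).mp hq.one_sub.eq
      have h0 : q = 0 := sub_eq_self.mp h1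
      have hε : εb q = 1 := hgε
      rw [h0, map_zero] at hε
      exact zero_ne_one hε
  have hmem : g - 1 ∈ Ideal.span ({1 - f} : Set Λ) := by
    rw [← Ideal.Quotient.eq, map_one]; exact hq1
  obtain ⟨r, hr⟩ := Ideal.mem_span_singleton'.mp hmem
  have : f * (g - 1) = 0 := by
    rw [← hr]
    have h2 : f * (1 - f) = 0 := by rw [mul_sub, mul_one, hf.eq, sub_self]
    calc f * (r * (1 - f)) = r * (f * (1 - f)) := by ring
      _ = 0 := by rw [h2, mul_zero]
  rw [mul_sub, mul_one, sub_eq_zero] at this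
  exact this

end

end

section -- MuB
section
variable {R : Type u} [CommRing R] [Nontrivial R]
  {A₀ B₀ : Type u} [CommRing A₀] [HopfAlgebra R A₀] [Coalgebra.IsCocomm R A₀]
  [Module.Finite R A₀] [Module.Projective R A₀]
  [CommRing B₀] [HopfAlgebra R B₀] [Coalgebra.IsCocomm R B₀]
  [Module.Finite R B₀] [Module.Projective R B₀]

theorem invariant_transpose (ψ₀ : B₀ →ₐc[R] A₀)
    (fA : D R A₀) (hfA : IsIdempotentElem fA)
    (hfAε : Bialgebra.counitAlgHom R (D R A₀) fA = 1)
    (fB : D R B₀) (hfB : IsIdempotentElem fB)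
    (hfBε : Bialgebra.counitAlgHom R (D R B₀) fB = 1)
    [IsLocalRing (D R B₀ ⧸ Ideal.span ({1 - fB} : Set (D R B₀)))]
    (x : D R A₀)
    (hx : LinearMap.lTensor (D R A₀) (LinearMap.mulLeft R fA) (Coalgebra.comul (R := R) x) =
      x ⊗ₜ[R] fA) :
    LinearMap.lTensor (D R B₀) (LinearMap.mulLeft R fB)
      (Coalgebra.comul (R := R) (transpose R ψ₀ x)) = transpose R ψ₀ x ⊗ₜ[R] fB := by
  set τ := transpose R ψ₀ with hτ
  have hg : IsIdempotentElem (τ fA) := hfA.map τ
  have hgε : Bialgebra.counitAlgHom R (D R B₀) (τ fA) = 1 := by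
    have := congrArg (fun f : D R A₀ →ₐ[R] R => f fA) (BialgHom.counitAlgHom_comp τ)
    simp only [AlgHom.comp_apply] at this
    rw [← hfAε]; exact this
  have hmul : fB * τ fA = fB := mul_eq_of_idempotent fB hfB hfBε (τ fA) hg hgε
  -- apply `τ ⊗ τ` to `hx`
  have key : ∀ z : D R A₀ ⊗[R] D R A₀,
      TensorProduct.map (τ : D R A₀ →ₗ[R] D R B₀) (τ : D R A₀ →ₗ[R] D R B₀)
        (LinearMap.lTensor (D R A₀) (LinearMap.mulLeft R fA) z) =
      LinearMap.lTensor (D R B₀) (LinearMap.mulLeft R (τ fA))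
        (TensorProduct.map (τ : D R A₀ →ₗ[R] D R B₀) (τ : D R A₀ →ₗ[R] D R B₀) z) := by
    intro z
    induction z with
    | zero => simp
    | add a b ha hb => simp only [map_add, ha, hb]
    | tmul a b =>
      simp only [LinearMap.lTensor_tmul, TensorProduct.map_tmul, LinearMap.mulLeft_apply]
      congr 1
      exact map_mul τ fA b
  have h1 := congrArg (TensorProduct.map (τ : D R A₀ →ₗ[R] D R B₀) (τ : D R A₀ →ₗ[R] D R B₀)) hx
  rw [key, TensorProduct.map_tmul] at h1
  have h2 : TensorProduct.map (τ : D R A₀ →ₗ[R] D R B₀) (τ : D R A₀ →ₗ[R] D R B₀)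
      (Coalgebra.comul (R := R) x) = Coalgebra.comul (R := R) (τ x) :=
    CoalgHomClass.map_comp_comul_apply τ x
  rw [h2] at h1
  -- multiply the second factor by `fB`
  have h3 := congrArg (LinearMap.lTensor (D R B₀) (LinearMap.mulLeft R fB)) h1
  have key2 : ∀ z : D R B₀ ⊗[R] D R B₀,
      LinearMap.lTensor (D R B₀) (LinearMap.mulLeft R fB)
        (LinearMap.lTensor (D R B₀) (LinearMap.mulLeft R (τ fA)) z) =
      LinearMap.lTensor (D R B₀) (LinearMap.mulLeft R (fB * τ fA)) z := by
    intro z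
    rw [← LinearMap.comp_apply, ← LinearMap.lTensor_comp]
    congr 2
    ext b
    simp [mul_assoc]
  rw [key2, hmul, LinearMap.lTensor_tmul] at h3
  simp only [LinearMap.mulLeft_apply] at h3
  change _ = τ x ⊗ₜ[R] (fB * τ fA) at h3
  rw [hmul] at h3
  exact h3

end

end

section -- MuC
section
variable {R : Type u} [CommRing R]
  {A B : Type u} [CommRing A] [Bialgebra R A] [CommRing B] [Bialgebra R B]
  (I : Ideal A) [(I.restrictScalars R).IsCoideal] (K : Ideal B) [(K.restrictScalars R).IsCoideal]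

/-- the algebra map induced on quotients -/
noncomputable def quotAlgHom (ψ : B →ₐc[R] A) (h : ∀ b ∈ K, ψ b ∈ I) : (B ⧸ K) →ₐ[R] (A ⧸ I) :=
  Ideal.Quotient.liftₐ K ((Ideal.Quotient.mkₐ R I).comp (ψ : B →ₐ[R] A)) (by
    intro b hb
    change Ideal.Quotient.mk I (ψ b) = 0
    exact Ideal.Quotient.eq_zero_iff_mem.mpr (h b hb))

lemma quotAlgHom_mk (ψ : B →ₐc[R] A) (h : ∀ b ∈ K, ψ b ∈ I) (b : B) :
    quotAlgHom I K ψ h (Ideal.Quotient.mk K b) = Ideal.Quotient.mk I (ψ b) := rfl

/-- the bialgebra map induced on quotients by biideals -/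
noncomputable def quotBialgHom (ψ : B →ₐc[R] A) (h : ∀ b ∈ K, ψ b ∈ I) : (B ⧸ K) →ₐc[R] (A ⧸ I) :=
  BialgHom.ofAlgHom (quotAlgHom I K ψ h)
    (by
      apply Ideal.Quotient.algHom_ext R
      ext b
      change Coalgebra.counit (R := R) (Ideal.Quotient.mk I (ψ b)) =
        Coalgebra.counit (R := R) (Ideal.Quotient.mk K b)
      rw [Bialgebra.Quotient.counit_mk, Bialgebra.Quotient.counit_mk]
      exact CoalgHomClass.counit_comp_apply ψ b)
    (by
      apply Ideal.Quotient.algHom_ext R
      ext b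
      have key : ∀ z : B ⊗[R] B,
          (Algebra.TensorProduct.map (quotAlgHom I K ψ h) (quotAlgHom I K ψ h))
            (TensorProduct.map (Ideal.Quotient.mkₐ R K).toLinearMap
              (Ideal.Quotient.mkₐ R K).toLinearMap z) =
          TensorProduct.map (Ideal.Quotient.mkₐ R I).toLinearMap
            (Ideal.Quotient.mkₐ R I).toLinearMap
            (TensorProduct.map (ψ : B →ₗ[R] A) (ψ : B →ₗ[R] A) z) := by
        intro z
        induction z with
        | zero => simp
        | add x y hx hy => simp only [map_add, hx, hy]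
        | tmul x y => rfl
      change (Algebra.TensorProduct.map (quotAlgHom I K ψ h) (quotAlgHom I K ψ h))
          (Coalgebra.comul (R := R) (Ideal.Quotient.mk K b)) =
        Coalgebra.comul (R := R) (Ideal.Quotient.mk I (ψ b))
      rw [Bialgebra.Quotient.comul_mk, Bialgebra.Quotient.comul_mk, key,
        CoalgHomClass.map_comp_comul_apply ψ b])

lemma quotBialgHom_mk (ψ : B →ₐc[R] A) (h : ∀ b ∈ K, ψ b ∈ I) (b : B) :
    quotBialgHom I K ψ h (Ideal.Quotient.mk K b) = Ideal.Quotient.mk I (ψ b) := rfl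

end

end

end Groth.Agent.Lib.Helper25.MuPart
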