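import Mathlib
import Groth.Prelude.Def_SGA3b

/-!
# Helper25MultRigid: rigidity of homomorphisms into groups of multiplicative type

`primDefect R A x = Δ x - x ⊗ 1 - 1 ⊗ x`; `NoPrimMod R A`: elements primitive modulo an ideal `K` of
the base lie in `K A`.  `noPrimMod_monoidAlgebra`, `NoPrimMod.of_equiv`, `NoPrimMod.of_faithfullyFlat`,
`NoPrimMod.of_span`, `noPrimMod_of_isMultType`.  `bialgHom_trivial_of_noPrimMod`: a bialgebra map
`C → A` which is trivial modulo a nilpotent ideal is trivial.
-/

set_option autoImplicit false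
universe u v w

namespace Groth.Agent.Lib.Helper25

open TensorProduct

section Prim

variable (R : Type u) [CommRing R] (A : Type v) [CommRing A] [Bialgebra R A]

/-- The defect of primitivity `Δ x - x ⊗ 1 - 1 ⊗ x`. -/
noncomputable def primDefect : A →ₗ[R] A ⊗[R] A :=
  CoalgebraStruct.comul (R := R) (A := A) - (TensorProduct.mk R A A).flip 1 - TensorProduct.mk R A A 1

theorem primDefect_apply (x : A) :
    primDefect R A x = CoalgebraStruct.comul (R := R) x - x ⊗ₜ[R] (1 : A) - (1 : A) ⊗ₜ[R] x := rfl

/-- Elements which are primitive modulo an ideal `K` of the base ring lie in `K A`. -/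
def NoPrimMod : Prop :=
  ∀ (K : Ideal R) (x : A), primDefect R A x ∈ K • (⊤ : Submodule R (A ⊗[R] A)) →
    x ∈ K • (⊤ : Submodule R A)

end Prim

section Functional

variable {R : Type u} [CommRing R] {N : Type v} [AddCommGroup N] [Module R N]
  {N' : Type w} [AddCommGroup N'] [Module R N']

theorem map_mem_smul_top (f : N →ₗ[R] N') (K : Ideal R) {z : N}
    (hz : z ∈ K • (⊤ : Submodule R N)) : f z ∈ K • (⊤ : Submodule R N') := by
  have : (K • (⊤ : Submodule R N)).map f ≤ K • (⊤ : Submodule R N') := by
    rw [Submodule.map_smul'']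
    exact Submodule.smul_mono le_rfl le_top
  exact this ⟨z, hz, rfl⟩

theorem functional_mem_of_mem_smul_top (f : N →ₗ[R] R) (K : Ideal R) {z : N}
    (hz : z ∈ K • (⊤ : Submodule R N)) : f z ∈ K := by
  refine Submodule.smul_induction_on hz ?_ ?_
  · intro r hr n _
    rw [map_smul, smul_eq_mul]
    exact K.mul_mem_right _ hr
  · intro x y hx hy
    rw [map_add]
    exact K.add_mem hx hy

end Functional

section Iso

variable {R : Type u} [CommRing R] {A : Type v} [CommRing A] [Bialgebra R A]
  {B : Type w} [CommRing B] [Bialgebra R B]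

theorem primDefect_map (e : A →ₐc[R] B) (x : A) :
    primDefect R B (e x) =
      TensorProduct.map (e : A →ₗ[R] B) (e : A →ₗ[R] B) (primDefect R A x) := by
  rw [primDefect_apply, primDefect_apply, map_sub, map_sub, TensorProduct.map_tmul,
    TensorProduct.map_tmul]
  have h1 : CoalgebraStruct.comul (R := R) (e x) =
      TensorProduct.map (e : A →ₗ[R] B) (e : A →ₗ[R] B) (CoalgebraStruct.comul (R := R) x) :=
    (CoalgHomClass.map_comp_comul_apply e x).symm
  rw [h1]
  simp

theorem NoPrimMod.of_equiv (e : A ≃ₐc[R] B) (h : NoPrimMod R B) : NoPrimMod R A := by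
  intro K x hx
  have h1 : primDefect R B (e x) ∈ K • (⊤ : Submodule R (B ⊗[R] B)) := by
    have := primDefect_map (e : A →ₐc[R] B) x
    change primDefect R B (e x) = _ at this
    rw [this]
    exact map_mem_smul_top _ K hx
  have h2 := h K (e x) h1
  have h3 := map_mem_smul_top (e.symm : B →ₐc[R] A).toLinearMap K h2
  have h4 : (e.symm : B →ₐc[R] A).toLinearMap (e x) = x := e.symm_apply_apply x
  rwa [h4] at h3

end Iso

section GroupAlg

variable (R : Type u) [CommRing R] (M : Type v) [CommGroup M]

theorem noPrimMod_monoidAlgebra : NoPrimMod R (MonoidAlgebra R M) := by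
  classical
  intro K x hx
  let c : M → (MonoidAlgebra R M →ₗ[R] R) := fun m =>
    Finsupp.lapply m ∘ₗ (MonoidAlgebra.coeffLinearEquiv R).toLinearMap
  have hc : ∀ m (y : MonoidAlgebra R M), c m y = y.coeff m := fun _ _ => rfl
  let cc : M → (MonoidAlgebra R M ⊗[R] MonoidAlgebra R M →ₗ[R] R) := fun m =>
    LinearMap.mul' R R ∘ₗ TensorProduct.map (c m) (c m)
  have hcc : ∀ m (y z : MonoidAlgebra R M), cc m (y ⊗ₜ[R] z) = y.coeff m * z.coeff m := by
    intro m y z
    simp [cc, hc]
  have hcomul : ∀ (m : M) (y : MonoidAlgebra R M),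
      cc m (CoalgebraStruct.comul (R := R) y) = y.coeff m := by
    intro m y
    induction y using MonoidAlgebra.induction_linear with
    | zero => simp
    | add y z hy hz => simp only [map_add, hy, hz, MonoidAlgebra.coeff_add, Finsupp.add_apply]
    | single g a =>
      rw [MonoidAlgebra.comul_single]
      simp only [CommSemiring.comul_apply, TensorProduct.map_tmul]
      change cc m (MonoidAlgebra.single g 1 ⊗ₜ[R] MonoidAlgebra.single g a) = _
      rw [hcc]
      by_cases hgm : g = m
      · subst hgm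
        simp
      · simp [hgm]
  have hone : ∀ m : M, (1 : MonoidAlgebra R M).coeff m = if m = 1 then 1 else 0 := by
    intro m
    rw [MonoidAlgebra.one_def, MonoidAlgebra.coeff_single, Finsupp.single_apply]
    simp [eq_comm]
  have hcoef : ∀ m : M, x.coeff m ∈ K := by
    intro m
    have h1 := functional_mem_of_mem_smul_top (cc m) K hx
    rw [primDefect_apply, map_sub, map_sub, hcomul, hcc, hcc, hone] at h1
    by_cases hm : m = 1
    · rw [if_pos hm, mul_one, one_mul, sub_self, zero_sub] at h1
      simpa using K.neg_mem h1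
    · rw [if_neg hm, mul_zero, zero_mul, sub_zero, sub_zero] at h1
      exact h1
  have hsum : x = ∑ m ∈ x.coeff.support, x.coeff m • MonoidAlgebra.single m (1 : R) := by
    conv_lhs => rw [← MonoidAlgebra.sum_coeff_single x]
    rw [Finsupp.sum]
    refine Finset.sum_congr rfl (fun m _ => ?_)
    rw [MonoidAlgebra.smul_single, smul_eq_mul, mul_one]
  rw [hsum]
  exact Submodule.sum_mem _ (fun m _ => Submodule.smul_mem_smul (hcoef m) Submodule.mem_top)

end GroupAlg

section BaseChange

variable {R : Type u} [CommRing R] (R' : Type v) [CommRing R'] [Algebra R R']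
  (A : Type w) [CommRing A] [Bialgebra R A]

/-- The natural map `A ⊗[R] A → (R' ⊗ A) ⊗[R'] (R' ⊗ A)`. -/
noncomputable def bcMap2 : A ⊗[R] A →ₗ[R] (R' ⊗[R] A) ⊗[R'] (R' ⊗[R] A) :=
  ((AlgebraTensorModule.tensorTensorTensorComm R R' R R' R' R' A A).toLinearMap.restrictScalars R) ∘ₗ
    (TensorProduct.mk R (R' ⊗[R'] R') (A ⊗[R] A) ((1 : R') ⊗ₜ[R'] (1 : R')))

theorem bcMap2_tmul (a b : A) :
    bcMap2 R' A (a ⊗ₜ[R] b) = ((1 : R') ⊗ₜ[R] a) ⊗ₜ[R'] ((1 : R') ⊗ₜ[R] b) := by
  simp [bcMap2]

theorem comul_one_tmul (x : A) :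
    CoalgebraStruct.comul (R := R') ((1 : R') ⊗ₜ[R] x) =
      bcMap2 R' A (CoalgebraStruct.comul (R := R) x) := by
  rw [TensorProduct.comul_tmul]
  rfl

theorem primDefect_one_tmul (x : A) :
    primDefect R' (R' ⊗[R] A) ((1 : R') ⊗ₜ[R] x) = bcMap2 R' A (primDefect R A x) := by
  rw [primDefect_apply, primDefect_apply, map_sub, map_sub, bcMap2_tmul, bcMap2_tmul,
    comul_one_tmul, Algebra.TensorProduct.one_def]

theorem bcMap2_mem_smul_top (K : Ideal R) {z : A ⊗[R] A}
    (hz : z ∈ K • (⊤ : Submodule R (A ⊗[R] A))) :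
    bcMap2 R' A z ∈ (K.map (algebraMap R R')) •
      (⊤ : Submodule R' ((R' ⊗[R] A) ⊗[R'] (R' ⊗[R] A))) := by
  refine Submodule.smul_induction_on hz ?_ ?_
  · intro r hr n _
    rw [map_smul, ← algebraMap_smul R' r]
    exact Submodule.smul_mem_smul (Ideal.mem_map_of_mem _ hr) Submodule.mem_top
  · intro x y hx hy
    rw [map_add]
    exact Submodule.add_mem _ hx hy

theorem map_smul_tensor_quot_eq_zero (K : Ideal R) (r' : R')
    (hr' : r' ∈ K.map (algebraMap R R'))
    (y : R' ⊗[R] (A ⧸ (K • (⊤ : Submodule R A)))) : r' • y = 0 := by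
  have hgen : ∀ k ∈ K, ∀ y : R' ⊗[R] (A ⧸ (K • (⊤ : Submodule R A))),
      (algebraMap R R' k) • y = 0 := by
    intro k hk y
    rw [algebraMap_smul]
    induction y using TensorProduct.induction_on with
    | zero => simp
    | add x y hx hy => rw [smul_add, hx, hy, add_zero]
    | tmul t q =>
      obtain ⟨a, rfl⟩ := Submodule.Quotient.mk_surjective _ q
      rw [← TensorProduct.tmul_smul, ← Submodule.Quotient.mk_smul,
        (Submodule.Quotient.mk_eq_zero _).mpr (Submodule.smul_mem_smul hk Submodule.mem_top),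
        TensorProduct.tmul_zero]
  unfold Ideal.map at hr'
  induction hr' using Submodule.span_induction generalizing y with
  | mem r hr =>
    obtain ⟨k, hk, rfl⟩ := hr
    exact hgen k hk y
  | zero => simp
  | add a b _ _ ha hb => rw [add_smul, ha, hb, add_zero]
  | smul c a _ ha => rw [smul_eq_mul, mul_smul, ha, smul_zero]

/-- Base change step: if `R' ⊗ A` has no primitives modulo ideals, an element of `A` primitive
modulo `K` dies in `R' ⊗ (A / K A)`. -/
theorem one_tmul_mkQ_eq_zero (hP : NoPrimMod R' (R' ⊗[R] A)) (K : Ideal R) (x : A)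
    (hx : primDefect R A x ∈ K • (⊤ : Submodule R (A ⊗[R] A))) :
    (1 : R') ⊗ₜ[R] ((K • (⊤ : Submodule R A)).mkQ x) = 0 := by
  have h1 : primDefect R' (R' ⊗[R] A) ((1 : R') ⊗ₜ[R] x) ∈ (K.map (algebraMap R R')) •
      (⊤ : Submodule R' ((R' ⊗[R] A) ⊗[R'] (R' ⊗[R] A))) := by
    rw [primDefect_one_tmul]
    exact bcMap2_mem_smul_top R' A K hx
  have h2 := hP _ _ h1
  have h3 : ∀ b ∈ (K.map (algebraMap R R')) • (⊤ : Submodule R' (R' ⊗[R] A)),
      LinearMap.baseChange R' ((K • (⊤ : Submodule R A)).mkQ) b = 0 := by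
    intro b hb
    refine Submodule.smul_induction_on hb ?_ ?_
    · intro r hr n _
      rw [map_smul]
      exact map_smul_tensor_quot_eq_zero R' A K r hr _
    · intro x y hx hy
      rw [map_add, hx, hy, add_zero]
  have := h3 _ h2
  rwa [LinearMap.baseChange_tmul] at this

theorem NoPrimMod.of_faithfullyFlat [Module.FaithfullyFlat R R']
    (hP : NoPrimMod R' (R' ⊗[R] A)) : NoPrimMod R A := by
  intro K x hx
  have h1 := one_tmul_mkQ_eq_zero R' A hP K x hx
  have h2 : TensorProduct.mk R R' (A ⧸ (K • (⊤ : Submodule R A))) 1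
      ((K • (⊤ : Submodule R A)).mkQ x) = TensorProduct.mk R R' _ 1 0 := by
    rw [TensorProduct.mk_apply, h1, map_zero]
  have h3 := Module.FaithfullyFlat.tensorProduct_mk_injective (A := R) (B := R')
    (A ⧸ (K • (⊤ : Submodule R A))) h2
  exact (Submodule.Quotient.mk_eq_zero _).mp h3

end BaseChange

section Zariski

variable {R : Type u} [CommRing R] (A : Type w) [CommRing A] [Bialgebra R A]

theorem NoPrimMod.of_span (s : Set R) (hs : Ideal.span s = ⊤)
    (hP : ∀ f ∈ s, NoPrimMod (Localization.Away f) (Localization.Away f ⊗[R] A)) :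
    NoPrimMod R A := by
  intro K x hx
  set Q := A ⧸ (K • (⊤ : Submodule R A)) with hQ
  have h0 : (K • (⊤ : Submodule R A)).mkQ x = 0 := by
    haveI : ∀ r : s, IsLocalizedModule.Away r.1
        (TensorProduct.mk R (Localization.Away r.1) Q 1) := fun r =>
      (isLocalizedModule_iff_isBaseChange (S := Submonoid.powers r.1)
        (A := Localization.Away r.1) _).mpr (TensorProduct.isBaseChange R Q _)
    refine Module.eq_zero_of_isLocalized_span s hs
      (fun r : s => Localization.Away r.1 ⊗[R] Q)
      (fun r : s => TensorProduct.mk R (Localization.Away r.1) Q 1) _ ?_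
    intro r
    exact one_tmul_mkQ_eq_zero (Localization.Away r.1) A (hP r.1 r.2) K x hx
  exact (Submodule.Quotient.mk_eq_zero _).mp h0

end Zariski

section MultType

variable (R : Type u) [CommRing R] (A : Type u) [CommRing A] [HopfAlgebra R A]

theorem noPrimMod_of_isDiag (h : SGA3b.IsDiag R A) : NoPrimMod R A := by
  obtain ⟨M, _, ⟨e⟩⟩ := h
  exact NoPrimMod.of_equiv e (noPrimMod_monoidAlgebra R M)

theorem noPrimMod_of_isMultTypeConst (h : SGA3b.IsMultTypeConst R A) : NoPrimMod R A := by
  obtain ⟨R', _, _, hff, hd⟩ := h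
  exact NoPrimMod.of_faithfullyFlat R' A (noPrimMod_of_isDiag R' (R' ⊗[R] A) hd)

theorem noPrimMod_of_isMultType (h : SGA3b.IsMultType R A) : NoPrimMod R A := by
  obtain ⟨s, hs, hf⟩ := h
  exact NoPrimMod.of_span A s hs (fun f hfs => noPrimMod_of_isMultTypeConst _ _ (hf f hfs))

end MultType

section Rigid

variable {R : Type u} [CommRing R] {A : Type v} [CommRing A] [Bialgebra R A]
  {C : Type w} [CommRing C] [Bialgebra R C]

theorem tmul_mem_smul_top {N N' : Type*} [AddCommGroup N] [Module R N] [AddCommGroup N']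
    [Module R N'] (K K' : Ideal R) {x : N} {y : N'}
    (hx : x ∈ K • (⊤ : Submodule R N)) (hy : y ∈ K' • (⊤ : Submodule R N')) :
    x ⊗ₜ[R] y ∈ (K * K') • (⊤ : Submodule R (N ⊗[R] N')) := by
  refine Submodule.smul_induction_on hx ?_ ?_
  · intro r hr n _
    refine Submodule.smul_induction_on hy ?_ ?_
    · intro r' hr' n' _
      rw [TensorProduct.smul_tmul_smul]
      exact Submodule.smul_mem_smul (Ideal.mul_mem_mul hr hr') Submodule.mem_top
    · intro a b ha hb
      rw [TensorProduct.tmul_add]
      exact Submodule.add_mem _ ha hb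
  · intro a b ha hb
    rw [TensorProduct.add_tmul]
    exact Submodule.add_mem _ ha hb

theorem map_mem_smul_top_of_forall {N N' P P' : Type*} [AddCommGroup N] [Module R N]
    [AddCommGroup N'] [Module R N'] [AddCommGroup P] [Module R P] [AddCommGroup P'] [Module R P']
    (K K' : Ideal R) (f : P →ₗ[R] N) (g : P' →ₗ[R] N')
    (hf : ∀ p, f p ∈ K • (⊤ : Submodule R N)) (hg : ∀ p, g p ∈ K' • (⊤ : Submodule R N'))
    (z : P ⊗[R] P') : TensorProduct.map f g z ∈ (K * K') • (⊤ : Submodule R (N ⊗[R] N')) := by
  induction z using TensorProduct.induction_on with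
  | zero => rw [map_zero]; exact Submodule.zero_mem _
  | add x y hx hy => rw [map_add]; exact Submodule.add_mem _ hx hy
  | tmul p p' =>
    rw [TensorProduct.map_tmul]
    exact tmul_mem_smul_top K K' (hf p) (hg p')

/-- The deviation of a bialgebra map from the trivial one has primitivity defect `(δ ⊗ δ) ∘ Δ`. -/
theorem primDefect_sub_counit (φ : C →ₐc[R] A) (c : C) :
    primDefect R A (φ c - algebraMap R A (CoalgebraStruct.counit (R := R) c)) =
      TensorProduct.map
        ((φ : C →ₗ[R] A) - Algebra.linearMap R A ∘ₗ CoalgebraStruct.counit (R := R) (A := C))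
        ((φ : C →ₗ[R] A) - Algebra.linearMap R A ∘ₗ CoalgebraStruct.counit (R := R) (A := C))
        (CoalgebraStruct.comul (R := R) c) := by
  set η : C →ₗ[R] A := Algebra.linearMap R A ∘ₗ CoalgebraStruct.counit (R := R) (A := C) with hη
  set δ : C →ₗ[R] A := (φ : C →ₗ[R] A) - η with hδ
  have hφ : (φ : C →ₗ[R] A) = δ + η := by rw [hδ]; abel
  have h1 : CoalgebraStruct.comul (R := R) (φ c) =
      TensorProduct.map (φ : C →ₗ[R] A) (φ : C →ₗ[R] A) (CoalgebraStruct.comul (R := R) c) :=
    (CoalgHomClass.map_comp_comul_apply φ c).symm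
  have h2 : TensorProduct.map δ η (CoalgebraStruct.comul (R := R) c) = δ c ⊗ₜ[R] (1 : A) := by
    have : TensorProduct.map δ η =
        TensorProduct.map δ (Algebra.linearMap R A) ∘ₗ
          (CoalgebraStruct.counit (R := R) (A := C)).lTensor C := by
      rw [LinearMap.lTensor, ← TensorProduct.map_comp, LinearMap.comp_id]
    rw [this, LinearMap.comp_apply, Coalgebra.lTensor_counit_comul, TensorProduct.map_tmul]
    simp
  have h3 : TensorProduct.map η δ (CoalgebraStruct.comul (R := R) c) = (1 : A) ⊗ₜ[R] δ c := by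
    have : TensorProduct.map η δ =
        TensorProduct.map (Algebra.linearMap R A) δ ∘ₗ
          (CoalgebraStruct.counit (R := R) (A := C)).rTensor C := by
      rw [LinearMap.rTensor, ← TensorProduct.map_comp, LinearMap.comp_id]
    rw [this, LinearMap.comp_apply, Coalgebra.rTensor_counit_comul, TensorProduct.map_tmul]
    simp
  have h4 : TensorProduct.map η η (CoalgebraStruct.comul (R := R) c) =
      CoalgebraStruct.comul (R := R) (algebraMap R A (CoalgebraStruct.counit (R := R) c)) := by
    have : TensorProduct.map η η =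
        TensorProduct.map (Algebra.linearMap R A) η ∘ₗ
          (CoalgebraStruct.counit (R := R) (A := C)).rTensor C := by
      rw [LinearMap.rTensor, ← TensorProduct.map_comp, LinearMap.comp_id]
    rw [this, LinearMap.comp_apply, Coalgebra.rTensor_counit_comul, TensorProduct.map_tmul]
    simp only [Algebra.linearMap_apply, map_one, hη, LinearMap.comp_apply]
    rw [Algebra.algebraMap_eq_smul_one, map_smul, Bialgebra.comul_one,
      Algebra.TensorProduct.one_def, TensorProduct.tmul_smul]
  have hδc : φ c - algebraMap R A (CoalgebraStruct.counit (R := R) c) = δ c := by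
    rw [hδ, hη]
    rfl
  rw [hδc]
  have h5 : δ c = φ c - algebraMap R A (CoalgebraStruct.counit (R := R) c) := hδc.symm
  have key : CoalgebraStruct.comul (R := R) (δ c) =
      TensorProduct.map δ δ (CoalgebraStruct.comul (R := R) c) + δ c ⊗ₜ[R] (1 : A) +
        (1 : A) ⊗ₜ[R] δ c := by
    calc CoalgebraStruct.comul (R := R) (δ c)
        = CoalgebraStruct.comul (R := R) (φ c) -
            CoalgebraStruct.comul (R := R)
              (algebraMap R A (CoalgebraStruct.counit (R := R) c)) := by rw [h5, map_sub]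
      _ = TensorProduct.map (δ + η) (δ + η) (CoalgebraStruct.comul (R := R) c) -
            CoalgebraStruct.comul (R := R)
              (algebraMap R A (CoalgebraStruct.counit (R := R) c)) := by rw [h1, hφ]
      _ = _ := by
        rw [TensorProduct.map_add_left, TensorProduct.map_add_right,
          TensorProduct.map_add_right]
        simp only [LinearMap.add_apply]
        rw [h2, h3, h4]
        abel
  rw [primDefect_apply, key]
  abel

/-- Rigidity: a bialgebra map into a bialgebra without primitives modulo ideals which is trivial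
modulo a nilpotent ideal is trivial. -/
theorem bialgHom_trivial_of_noPrimMod (hP : NoPrimMod R A) (I : Ideal R) (hI : IsNilpotent I)
    (φ : C →ₐc[R] A)
    (h0 : ∀ c : C, φ c - algebraMap R A (CoalgebraStruct.counit (R := R) c) ∈
      I • (⊤ : Submodule R A)) :
    ∀ c : C, φ c = algebraMap R A (CoalgebraStruct.counit (R := R) c) := by
  set δ : C →ₗ[R] A :=
    (φ : C →ₗ[R] A) - Algebra.linearMap R A ∘ₗ CoalgebraStruct.counit (R := R) (A := C) with hδ
  have hδc : ∀ c, δ c = φ c - algebraMap R A (CoalgebraStruct.counit (R := R) c) := fun _ => rfl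
  have hstep : ∀ m : ℕ, ∀ c : C, δ c ∈ (I ^ (m + 1)) • (⊤ : Submodule R A) := by
    intro m
    induction m with
    | zero =>
      intro c
      rw [zero_add, pow_one, hδc]
      exact h0 c
    | succ m ih =>
      intro c
      apply hP
      rw [hδc, primDefect_sub_counit]
      have h1 := map_mem_smul_top_of_forall (I ^ (m + 1)) (I ^ (m + 1)) δ δ ih ih
        (CoalgebraStruct.comul (R := R) c)
      have hle : I ^ (m + 1) * I ^ (m + 1) ≤ I ^ (m + 1 + 1) := by
        rw [← pow_add]
        exact Ideal.pow_le_pow_right (by omega)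
      exact Submodule.smul_mono hle le_rfl h1
  obtain ⟨N, hN⟩ := hI
  intro c
  have h1 := hstep N c
  have h2 : I ^ (N + 1) = ⊥ := by
    rw [pow_succ, hN]
    simp
  rw [h2, Submodule.bot_smul, Submodule.mem_bot, hδc, sub_eq_zero] at h1
  exact h1

end Rigid

end Groth.Agent.Lib.Helper25
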