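import Groth.Agent.Lib.Helper25MultRigid
import Groth.Agent.Lib.Helper25Antipode

/-!
# Helper25MultRigid2: rigidity for pairs of homomorphisms from a commutative group

`antipodeBialgHom` (antipode of a commutative cocommutative Hopf algebra as a bialgebra map),
`bialgHom_eq_of_noPrimMod`.
-/

set_option autoImplicit false
universe u v w

namespace Groth.Agent.Lib.Helper25

open TensorProduct WithConv

section Cocomm

variable {R : Type u} [CommRing R] {C : Type w} [CommRing C] [HopfAlgebra R C]
  [Coalgebra.IsCocomm R C]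

/-- The antipode of a commutative cocommutative Hopf algebra as a bialgebra map. -/
noncomputable def antipodeBialgHom : C →ₐc[R] C :=
  BialgHom.ofAlgHom (HopfAlgebra.antipodeAlgHom R C)
    (by
      apply AlgHom.ext
      intro c
      simp)
    (by
      apply AlgHom.ext
      intro c
      change TensorProduct.map (HopfAlgebra.antipode R) (HopfAlgebra.antipode R)
        (CoalgebraStruct.comul (R := R) c) =
        CoalgebraStruct.comul (R := R) (HopfAlgebra.antipode R c)
      rw [comul_antipode, Coalgebra.comm_comul])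

theorem antipodeBialgHom_apply (c : C) :
    (antipodeBialgHom : C →ₐc[R] C) c = HopfAlgebra.antipode R c := rfl

variable {A : Type v} [CommRing A] [Bialgebra R A]

/-- Rigidity, two maps: bialgebra maps from a cocommutative Hopf algebra which agree modulo a
nilpotent ideal agree. -/
theorem bialgHom_eq_of_noPrimMod (hP : NoPrimMod R A) (I : Ideal R) (hI : IsNilpotent I)
    (φ ψ : C →ₐc[R] A) (h0 : ∀ c : C, φ c - ψ c ∈ I • (⊤ : Submodule R A)) : φ = ψ := by
  set ψ' : C →ₐc[R] A := ψ.comp antipodeBialgHom with hψ'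
  set θ : C →ₐc[R] A := (toConv φ * toConv ψ').ofConv with hθ
  have hθa : toConv (θ : C →ₐ[R] A) =
      toConv (φ : C →ₐ[R] A) * (toConv (ψ : C →ₐ[R] A))⁻¹ := rfl
  have hinv : toConv (ψ : C →ₐ[R] A) * (toConv (ψ : C →ₐ[R] A))⁻¹ = 1 := mul_inv_cancel _
  have e1 : ∀ c, θ c = LinearMap.mul' R A (TensorProduct.map (φ : C →ₗ[R] A) (ψ' : C →ₗ[R] A)
      (CoalgebraStruct.comul (R := R) c)) := fun c => rfl
  have e2 : ∀ c, algebraMap R A (CoalgebraStruct.counit (R := R) c) =
      LinearMap.mul' R A (TensorProduct.map (ψ : C →ₗ[R] A) (ψ' : C →ₗ[R] A)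
      (CoalgebraStruct.comul (R := R) c)) := by
    intro c
    have := congrArg (fun f : WithConv (C →ₐ[R] A) => f.ofConv c) hinv
    exact this.symm
  have hθ1 : ∀ c, θ c = algebraMap R A (CoalgebraStruct.counit (R := R) c) := by
    apply bialgHom_trivial_of_noPrimMod hP I hI θ
    intro c
    have hsplit : TensorProduct.map (φ : C →ₗ[R] A) (ψ' : C →ₗ[R] A) =
        TensorProduct.map ((φ : C →ₗ[R] A) - (ψ : C →ₗ[R] A)) (ψ' : C →ₗ[R] A) +
          TensorProduct.map (ψ : C →ₗ[R] A) (ψ' : C →ₗ[R] A) := by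
      rw [← TensorProduct.map_add_left, sub_add_cancel]
    rw [e1, e2, hsplit, LinearMap.add_apply, map_add, add_sub_cancel_right]
    have h1 := map_mem_smul_top_of_forall I ⊤ ((φ : C →ₗ[R] A) - (ψ : C →ₗ[R] A))
      (ψ' : C →ₗ[R] A) (fun p => h0 p) (fun p => by
        rw [Submodule.top_smul]; exact Submodule.mem_top)
      (CoalgebraStruct.comul (R := R) c)
    rw [Ideal.mul_top] at h1
    exact map_mem_smul_top (LinearMap.mul' R A) I h1
  have h3 : toConv (φ : C →ₐ[R] A) * (toConv (ψ : C →ₐ[R] A))⁻¹ = 1 := by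
    rw [← hθa]
    apply WithConv.ofConv_injective
    apply AlgHom.ext
    intro c
    exact hθ1 c
  have h4 : toConv (φ : C →ₐ[R] A) = toConv (ψ : C →ₐ[R] A) := mul_inv_eq_one.mp h3
  have h5 : (φ : C →ₐ[R] A) = (ψ : C →ₐ[R] A) := WithConv.toConv_injective h4
  ext c
  exact congrArg (fun f : C →ₐ[R] A => f c) h5

end Cocomm

end Groth.Agent.Lib.Helper25
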