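import Groth.Agent.Lib.Helper25NilGLDiag
import Groth.Agent.Lib.Helper25SubDiag

/-!
# Maps of group algebras which are bijective modulo a nil ideal (helper25)

`bijective_of_bijective_mod`: a linear map `S[M] → S[N]` sending the basis elements `m` to
group-like elements, which is injective and surjective modulo a nil ideal `J`, is bijective.
-/

set_option autoImplicit false
set_option linter.unusedSectionVars false
universe u v w

namespace Groth.Agent.Lib.Helper25.NilBij

open TensorProduct Groth.Agent.Lib.Helper25 Groth.Agent.Lib.Helper25.NilGL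

section Main

variable {S : Type u} [CommRing S] {M : Type v} {N : Type w} [CommGroup M] [CommGroup N]

theorem eq_zero_of_idem_of_nilpotent {e : S} (he : IsIdempotentElem e) (hn : IsNilpotent e) :
    e = 0 := by
  obtain ⟨k, hk⟩ := hn
  rw [← he.pow_succ_eq k, pow_succ, hk, zero_mul]

theorem eq_sum_smul_single (y : MonoidAlgebra S M) :
    y = ∑ m ∈ y.coeff.support, y.coeff m • MonoidAlgebra.single m (1 : S) := by
  conv_lhs => rw [eq_sum_single y]
  refine Finset.sum_congr rfl (fun m _ => ?_)
  rw [MonoidAlgebra.smul_single, smul_eq_mul, mul_one]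

theorem coeff_map (Ψ : MonoidAlgebra S M →ₗ[S] MonoidAlgebra S N) (y : MonoidAlgebra S M) (n : N) :
    (Ψ y).coeff n =
      ∑ m ∈ y.coeff.support, y.coeff m * (Ψ (MonoidAlgebra.single m 1)).coeff n := by
  conv_lhs => rw [eq_sum_smul_single y]
  rw [map_sum, MonoidAlgebra.coeff_sum, Finsupp.finsetSum_apply]
  refine Finset.sum_congr rfl (fun m _ => ?_)
  rw [map_smul, MonoidAlgebra.coeff_smul, Finsupp.smul_apply, smul_eq_mul]

theorem bijective_of_bijective_mod (J : Ideal S) (hJ : ∀ x ∈ J, IsNilpotent x)
    (Ψ : MonoidAlgebra S M →ₗ[S] MonoidAlgebra S N)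
    (hgl : ∀ m, IsGroupLikeElem S (Ψ (MonoidAlgebra.single m 1)))
    (hinj : ∀ y, Ψ y ∈ J • (⊤ : Submodule S (MonoidAlgebra S N)) →
      y ∈ J • (⊤ : Submodule S (MonoidAlgebra S M)))
    (hsurj : ∀ z, ∃ y, Ψ y - z ∈ J • (⊤ : Submodule S (MonoidAlgebra S N))) :
    Function.Bijective Ψ := by
  classical
  set c : M → N → S := fun m n => (Ψ (MonoidAlgebra.single m 1)).coeff n with hcdef
  have hc : ∀ m n n', c m n * c m n' = if n = n' then c m n else 0 := fun m n n' =>
    SubDiag.coeff_mul_coeff (hgl m) n n'
  have hidem : ∀ m n, c m n * c m n = c m n := fun m n => by rw [hc, if_pos rfl]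
  have hΨ : ∀ y n, (Ψ y).coeff n = ∑ m ∈ y.coeff.support, y.coeff m * c m n := coeff_map Ψ
  -- orthogonality in `m`
  have hortho : ∀ n m m', m ≠ m' → c m n * c m' n = 0 := by
    intro n m m' hne
    set e := c m n * c m' n with he
    have he_idem : IsIdempotentElem e := by
      change e * e = e
      rw [he]
      calc c m n * c m' n * (c m n * c m' n) = (c m n * c m n) * (c m' n * c m' n) := by ring
        _ = c m n * c m' n := by rw [hidem, hidem]
    set y : MonoidAlgebra S M := MonoidAlgebra.single m e - MonoidAlgebra.single m' e with hy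
    have hy0 : Ψ y = 0 := by
      apply MonoidAlgebra.coeff_injective
      ext n''
      have h1 : MonoidAlgebra.single m e = e • MonoidAlgebra.single m (1 : S) := by
        rw [MonoidAlgebra.smul_single, smul_eq_mul, mul_one]
      have h2 : MonoidAlgebra.single m' e = e • MonoidAlgebra.single m' (1 : S) := by
        rw [MonoidAlgebra.smul_single, smul_eq_mul, mul_one]
      rw [hy, h1, h2, map_sub, map_smul, map_smul, MonoidAlgebra.coeff_sub, Finsupp.sub_apply,
        MonoidAlgebra.coeff_smul, MonoidAlgebra.coeff_smul, Finsupp.smul_apply, Finsupp.smul_apply,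
        smul_eq_mul, smul_eq_mul, MonoidAlgebra.coeff_zero, Finsupp.zero_apply]
      change e * c m n'' - e * c m' n'' = 0
      by_cases hn : n = n''
      · subst hn
        have e1 : e * c m n = e := by
          rw [he]
          calc c m n * c m' n * c m n = (c m n * c m n) * c m' n := by ring
            _ = c m n * c m' n := by rw [hidem]
        have e2 : e * c m' n = e := by
          rw [he, mul_assoc, hidem]
        rw [e1, e2, sub_self]
      · have e1 : e * c m n'' = 0 := by
          rw [he]
          calc c m n * c m' n * c m n'' = c m' n * (c m n * c m n'') := by ring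
            _ = 0 := by rw [hc, if_neg hn, mul_zero]
        have e2 : e * c m' n'' = 0 := by
          rw [he, mul_assoc, hc, if_neg hn, mul_zero]
        rw [e1, e2, sub_self]
    have hyJ := hinj y (by rw [hy0]; exact Submodule.zero_mem _)
    have hcoef := coeff_mem_of_mem_smul_top J hyJ m
    rw [hy, MonoidAlgebra.coeff_sub, Finsupp.sub_apply, MonoidAlgebra.coeff_single,
      MonoidAlgebra.coeff_single, Finsupp.single_eq_same,
      Finsupp.single_eq_of_ne hne, sub_zero] at hcoef
    exact eq_zero_of_idem_of_nilpotent he_idem (hJ e hcoef)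
  -- completeness in `m`
  have hcomplete : ∀ n, ∃ F : Finset M, ∑ m ∈ F, c m n = 1 := by
    intro n
    obtain ⟨y, hy⟩ := hsurj (MonoidAlgebra.single n 1)
    refine ⟨y.coeff.support, ?_⟩
    have hu := coeff_mem_of_mem_smul_top J hy n
    rw [MonoidAlgebra.coeff_sub, Finsupp.sub_apply, hΨ, MonoidAlgebra.coeff_single,
      Finsupp.single_eq_same] at hu
    set u := ∑ m ∈ y.coeff.support, y.coeff m * c m n with hudef
    set f := ∑ m ∈ y.coeff.support, c m n with hfdef
    have hcf : ∀ m ∈ y.coeff.support, c m n * f = c m n := by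
      intro m hm
      rw [hfdef, Finset.mul_sum, Finset.sum_eq_single m]
      · exact hidem m n
      · intro m' _ hne
        exact hortho n m m' (Ne.symm hne)
      · intro h
        exact absurd hm h
    have huf : u * f = u := by
      rw [hudef, Finset.sum_mul]
      refine Finset.sum_congr rfl (fun m hm => ?_)
      rw [mul_assoc, hcf m hm]
    have hunit : IsUnit u := by
      have : u = 1 + (u - 1) := by ring
      rw [this]
      exact (hJ _ hu).isUnit_one_add
    have h0 : u * (1 - f) = 0 := by rw [mul_sub, mul_one, huf, sub_self]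
    have h1 := (hunit.mul_right_eq_zero).mp h0
    exact (sub_eq_zero.mp h1).symm
  constructor
  · -- injective
    rw [← LinearMap.ker_eq_bot, eq_bot_iff]
    intro y hy
    rw [LinearMap.mem_ker] at hy
    rw [Submodule.mem_bot]
    apply MonoidAlgebra.coeff_injective
    ext m₀
    rw [MonoidAlgebra.coeff_zero, Finsupp.zero_apply]
    by_cases hm₀ : m₀ ∈ y.coeff.support
    · have hstep : ∀ n, y.coeff m₀ * c m₀ n = 0 := by
        intro n
        have h1 : (Ψ y).coeff n * c m₀ n = 0 := by rw [hy]; simp
        rw [hΨ, Finset.sum_mul, Finset.sum_eq_single m₀] at h1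
        · rw [mul_assoc, hidem] at h1
          exact h1
        · intro m _ hne
          rw [mul_assoc, hortho n m m₀ hne, mul_zero]
        · intro h
          exact absurd hm₀ h
      have hsum : ∑ n ∈ (Ψ (MonoidAlgebra.single m₀ 1)).coeff.support, c m₀ n = 1 := by
        rw [← counit_eq_sum]
        exact (hgl m₀).counit_eq_one
      calc y.coeff m₀ = y.coeff m₀ * 1 := (mul_one _).symm
        _ = y.coeff m₀ * ∑ n ∈ (Ψ (MonoidAlgebra.single m₀ 1)).coeff.support, c m₀ n := by
          rw [hsum]
        _ = ∑ n ∈ (Ψ (MonoidAlgebra.single m₀ 1)).coeff.support, y.coeff m₀ * c m₀ n :=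
          Finset.mul_sum _ _ _
        _ = 0 := Finset.sum_eq_zero (fun n _ => hstep n)
    · rw [Finsupp.mem_support_iff, not_not] at hm₀
      exact hm₀
  · -- surjective
    have hsingle : ∀ n, MonoidAlgebra.single n (1 : S) ∈ LinearMap.range Ψ := by
      intro n
      obtain ⟨F, hF⟩ := hcomplete n
      refine ⟨∑ m ∈ F, c m n • MonoidAlgebra.single m (1 : S), ?_⟩
      apply MonoidAlgebra.coeff_injective
      ext n'
      rw [map_sum, MonoidAlgebra.coeff_sum, Finsupp.finsetSum_apply, MonoidAlgebra.coeff_single]
      have : ∀ m ∈ F, (Ψ (c m n • MonoidAlgebra.single m (1 : S))).coeff n' =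
          if n = n' then c m n else 0 := by
        intro m _
        rw [map_smul, MonoidAlgebra.coeff_smul, Finsupp.smul_apply, smul_eq_mul]
        exact hc m n n'
      rw [Finset.sum_congr rfl this]
      by_cases hn : n = n'
      · subst hn
        simp only [if_true]
        rw [hF, Finsupp.single_eq_same]
      · simp only [if_neg hn, Finset.sum_const_zero]
        rw [Finsupp.single_eq_of_ne (Ne.symm hn)]
    intro z
    have hz : z ∈ LinearMap.range Ψ := by
      rw [eq_sum_smul_single z]
      exact Submodule.sum_mem _ (fun n _ => Submodule.smul_mem _ _ (hsingle n))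
    exact hz

end Main

end Groth.Agent.Lib.Helper25.NilBij
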