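import Groth.Agent.Lib.Helper25NilLift
import Groth.Agent.Lib.Helper25NilBij

/-!
# Diagonalisability modulo a nil ideal, global part (helper25)

For `A` of multiplicative type over `R`, `I` a nil ideal and `e : (R/I) ⊗ A ≃ (R/I)[M]`:
* `existsUnique_groupLike_lift`: group-like elements of `(R/I) ⊗ A` lift uniquely to `A`;
* `gamma : M →* GroupLike R A`, `Phi : R[M] →ₐc[R] A`;
* `PhiBar_bijective`: `Φ` is bijective modulo `I`.
-/

set_option autoImplicit false
set_option linter.unusedSectionVars false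
set_option linter.style.haveILetI false
universe u

namespace Groth.Agent.Lib.Helper25.NilDiag

open TensorProduct Groth.Agent.Lib.Helper25 Groth.Agent.Lib.Helper25.NilGL
  Groth.Agent.Lib.Helper25.NilLift

section Global

variable {R : Type u} [CommRing R] {A : Type u} [CommRing A] [HopfAlgebra R A]
  (D : DiagFam R A) (hNP : MRB.NoPrimMod R A) (I : Ideal R) (hI : ∀ x ∈ I, IsNilpotent x)

include D hNP hI in
theorem existsUnique_groupLike_lift (gbar : (R ⧸ I) ⊗[R] A)
    (hg : IsGroupLikeElem (R ⧸ I) gbar) :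
    ∃! g : A, IsGroupLikeElem R g ∧ (1 : R ⧸ I) ⊗ₜ[R] g = gbar := by
  obtain ⟨a, ha⟩ := Algebra.TensorProduct.includeRight_surjective (R := R) (S := R ⧸ I) A
    Ideal.Quotient.mk_surjective gbar
  have ha' : (1 : R ⧸ I) ⊗ₜ[R] a = gbar := ha
  have hGL : IsGLMod I a := by
    constructor
    · rw [← one_tmul_eq_zero_iff]
      apply one_tmul_eq_zero_of_bcMap2_eq_zero
      rw [map_sub, MRB.bcMap2_tmul, ← MRB.comul_one_tmul, ha', hg.comul_eq_tmul_self, sub_self]
    · have h1 := hg.counit_eq_one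
      rw [← ha', TensorProduct.counit_tmul, CommSemiring.counit_apply, Algebra.smul_def,
        mul_one] at h1
      rw [← Ideal.Quotient.eq_zero_iff_mem, map_sub, map_one, sub_eq_zero]
      exact h1
  obtain ⟨g, hgl, hga⟩ := exists_groupLike_lift D I hI a hGL
  refine ⟨g, ⟨hgl, ?_⟩, ?_⟩
  · rw [← ha', one_tmul_eq_one_tmul_iff]
    exact hga
  · rintro g' ⟨hgl', hg'⟩
    apply groupLike_eq_of_sub_mem hNP I hI hgl hgl'
    rw [← one_tmul_eq_one_tmul_iff, hg', ← ha', one_tmul_eq_one_tmul_iff]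
    have := Submodule.neg_mem _ hga
    rwa [neg_sub] at this

variable {M : Type u} [CommGroup M] (e : (R ⧸ I) ⊗[R] A ≃ₐc[R ⧸ I] MonoidAlgebra (R ⧸ I) M)

theorem isGroupLikeElem_symm_single (m : M) :
    IsGroupLikeElem (R ⧸ I) (e.symm (MonoidAlgebra.single m 1)) :=
  (MonoidAlgebra.isGroupLikeElem_single_one (R := R ⧸ I) (A := R ⧸ I) m).map e.symm

/-- The lifted group-like elements. -/
noncomputable def gammaFun (m : M) : A :=
  (existsUnique_groupLike_lift D hNP I hI _ (isGroupLikeElem_symm_single I e m)).exists.choose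

theorem gammaFun_spec (m : M) :
    IsGroupLikeElem R (gammaFun D hNP I hI e m) ∧
      (1 : R ⧸ I) ⊗ₜ[R] gammaFun D hNP I hI e m = e.symm (MonoidAlgebra.single m 1) :=
  (existsUnique_groupLike_lift D hNP I hI _ (isGroupLikeElem_symm_single I e m)).exists.choose_spec

theorem eq_gammaFun (m : M) (g : A) (hg : IsGroupLikeElem R g)
    (h : (1 : R ⧸ I) ⊗ₜ[R] g = e.symm (MonoidAlgebra.single m 1)) :
    g = gammaFun D hNP I hI e m :=
  (existsUnique_groupLike_lift D hNP I hI _ (isGroupLikeElem_symm_single I e m)).unique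
    ⟨hg, h⟩ (gammaFun_spec D hNP I hI e m)

/-- `m ↦ γ m` as a homomorphism to the group-like elements of `A`. -/
noncomputable def gamma : M →* GroupLike R A where
  toFun m := ⟨gammaFun D hNP I hI e m, (gammaFun_spec D hNP I hI e m).1⟩
  map_one' := by
    apply GroupLike.val_injective
    change gammaFun D hNP I hI e 1 = 1
    symm
    apply eq_gammaFun D hNP I hI e 1 1 IsGroupLikeElem.one
    rw [← MonoidAlgebra.one_def, map_one]
    rfl
  map_mul' := by
    intro m m'
    apply GroupLike.val_injective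
    change gammaFun D hNP I hI e (m * m') = gammaFun D hNP I hI e m * gammaFun D hNP I hI e m'
    symm
    apply eq_gammaFun D hNP I hI e (m * m') _
      ((gammaFun_spec D hNP I hI e m).1.mul (gammaFun_spec D hNP I hI e m').1)
    have h1 : (1 : R ⧸ I) ⊗ₜ[R] (gammaFun D hNP I hI e m * gammaFun D hNP I hI e m') =
        ((1 : R ⧸ I) ⊗ₜ[R] gammaFun D hNP I hI e m) *
          ((1 : R ⧸ I) ⊗ₜ[R] gammaFun D hNP I hI e m') := by
      rw [Algebra.TensorProduct.tmul_mul_tmul, mul_one]
    rw [h1, (gammaFun_spec D hNP I hI e m).2, (gammaFun_spec D hNP I hI e m').2, ← map_mul,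
      MonoidAlgebra.single_mul_single, mul_one]

@[simp] theorem gamma_val (m : M) : (gamma D hNP I hI e m).val = gammaFun D hNP I hI e m := rfl

/-- The bialgebra map `R[M] → A` lifting the trivialisation modulo `I`. -/
noncomputable def Phi : MonoidAlgebra R M →ₐc[R] A :=
  (MonoidAlgebra.liftGroupLikeBialgHom (R := R) (A := A)).comp
    (MonoidAlgebra.mapDomainBialgHom R (gamma D hNP I hI e))

theorem Phi_single (m : M) :
    Phi D hNP I hI e (MonoidAlgebra.single m 1) = gammaFun D hNP I hI e m := by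
  rw [Phi, BialgHom.comp_apply, MonoidAlgebra.mapDomainBialgHom_single,
    MonoidAlgebra.liftGroupLikeBialgHom_apply, MonoidAlgebra.lift_single, one_smul]
  rfl

theorem isGroupLikeElem_Phi_single (m : M) :
    IsGroupLikeElem R (Phi D hNP I hI e (MonoidAlgebra.single m 1)) := by
  rw [Phi_single]
  exact (gammaFun_spec D hNP I hI e m).1

/-- `Φ` modulo `I`. -/
noncomputable def PhiBar : (R ⧸ I) ⊗[R] MonoidAlgebra R M →ₗ[R ⧸ I] (R ⧸ I) ⊗[R] A :=
  (Phi D hNP I hI e : MonoidAlgebra R M →ₗ[R] A).baseChange (R ⧸ I)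

theorem PhiBar_one_tmul (y : MonoidAlgebra R M) :
    PhiBar D hNP I hI e ((1 : R ⧸ I) ⊗ₜ[R] y) = (1 : R ⧸ I) ⊗ₜ[R] Phi D hNP I hI e y := by
  rw [PhiBar, LinearMap.baseChange_tmul]
  rfl

theorem PhiBar_comp_ste_symm (x : MonoidAlgebra (R ⧸ I) M) :
    PhiBar D hNP I hI e ((BCB.steBialg R (R ⧸ I) M).symm x) = e.symm x := by
  have hgen : ∀ m : M, (BCB.steBialg R (R ⧸ I) M).symm (MonoidAlgebra.single m 1) =
      (1 : R ⧸ I) ⊗ₜ[R] MonoidAlgebra.single m (1 : R) := by
    intro m
    have h0 : BCB.steBialg R (R ⧸ I) M ((1 : R ⧸ I) ⊗ₜ[R] MonoidAlgebra.single m (1 : R)) =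
        MonoidAlgebra.single m 1 := by
      change MonoidAlgebra.scalarTensorEquiv (M := M) R (R ⧸ I) _ = _
      rw [MonoidAlgebra.scalarTensorEquiv_tmul]
      simp
    rw [← h0, BialgEquiv.symm_apply_apply]
  induction x using MonoidAlgebra.induction_linear with
  | zero => simp
  | add x y hx hy => rw [map_add, map_add, map_add, hx, hy]
  | single m r =>
    have h1 : (MonoidAlgebra.single m r : MonoidAlgebra (R ⧸ I) M) =
        r • MonoidAlgebra.single m (1 : R ⧸ I) := by
      rw [MonoidAlgebra.smul_single, smul_eq_mul, mul_one]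
    rw [h1, map_smul, map_smul, map_smul, hgen, PhiBar_one_tmul, Phi_single,
      (gammaFun_spec D hNP I hI e m).2]

theorem PhiBar_bijective : Function.Bijective (PhiBar D hNP I hI e) := by
  have h : ∀ z, PhiBar D hNP I hI e z = e.symm (BCB.steBialg R (R ⧸ I) M z) := by
    intro z
    rw [← PhiBar_comp_ste_symm, BialgEquiv.symm_apply_apply]
  have : (PhiBar D hNP I hI e : _ → _) = e.symm ∘ (BCB.steBialg R (R ⧸ I) M) := funext h
  rw [this]
  exact e.symm.bijective.comp (BCB.steBialg R (R ⧸ I) M).bijective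

end Global

end Groth.Agent.Lib.Helper25.NilDiag
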