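import Groth.Agent.Lib.Helper25Minors
import Groth.Agent.Lib.Helper25ComodMat
import Mathlib.RingTheory.HopfAlgebra.Basic
import Mathlib.RingTheory.Flat.EquationalCriterion
import Mathlib.RingTheory.Flat.FaithfullyFlat.Basic

/-!
# Helper25Takeuchi: a commutative Hopf algebra over a field is faithfully flat over every
Hopf subalgebra (helper25)

Proof via relative Hopf modules: for a finite-dimensional subcomodule `V ⊆ A` with basis `m` and a
costable `B`-submodule `N ⊆ A`, the determinantal (Fitting) ideals of the relation module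
`relK B m N = {c ∈ Bⁿ | Σ cᵢ mᵢ ∈ N}` are costable ideals of `B`
(`comul_mem_of_mem_minorIdeal`), a Hopf subalgebra has no nontrivial costable ideals
(`ideal_eq_bot_or_top_of_costable`), hence the relation module is a direct summand
(`exists_retraction_relK`).  Flatness follows from the equational criterion
(`flat_of_isHopfSubalgebra`) and faithfulness from `N = B` (`smul_top_ne_top_of_isHopfSubalgebra`);
`faithfullyFlat_of_isHopfSubalgebra`.
-/

set_option autoImplicit false
universe u v w w'

namespace Groth.Agent.Lib.Helper25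

open TensorProduct HopfRep Matrix

section TensorAlg

variable {k : Type u} [Field k] {A : Type v} [CommRing A] [Algebra k A]

theorem slice_tmul_one_mul (φ : A →ₗ[k] k) (m : A) (z : A ⊗[k] A) :
    slice A φ ((m ⊗ₜ[k] (1 : A)) * z) = m * slice A φ z := by
  induction z using TensorProduct.induction_on with
  | zero => simp
  | add x y hx hy => simp only [mul_add, map_add, hx, hy]
  | tmul x y =>
    rw [Algebra.TensorProduct.tmul_mul_tmul, one_mul, slice_tmul, slice_tmul, mul_smul_comm]

theorem det_tmul_row {p : ℕ} (x : Matrix (Fin p) (Fin p) A) (y : Fin p → A) :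
    (Matrix.of (fun s t => x s t ⊗ₜ[k] y s)).det = x.det ⊗ₜ[k] ∏ s, y s := by
  have h1 : (Matrix.of (fun s t => x s t ⊗ₜ[k] y s)) =
      Matrix.of (fun s t => ((1 : A) ⊗ₜ[k] y s) *
        ((Algebra.TensorProduct.includeLeft : A →ₐ[k] A ⊗[k] A).toRingHom.mapMatrix x) s t) := by
    ext s t
    simp [Algebra.TensorProduct.tmul_mul_tmul]
  rw [h1, Matrix.det_mul_column, ← RingHom.map_det]
  have h2 : ∏ s, ((1 : A) ⊗ₜ[k] y s) = (1 : A) ⊗ₜ[k] ∏ s, y s := by
    have := map_prod (Algebra.TensorProduct.includeRight : A →ₐ[k] A ⊗[k] A) y Finset.univ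
    simp only [Algebra.TensorProduct.includeRight_apply] at this
    exact this.symm
  rw [h2]
  simp [Algebra.TensorProduct.tmul_mul_tmul]

/-- Expansion of a finite family of tensors along a common finite part of a basis. -/
theorem exists_finset_eq_sum_slice {V : Type w} [AddCommGroup V] [Module k V]
    {ι : Type*} (b : Module.Basis ι k A) {ι' : Type*} [Fintype ι'] (x : ι' → V ⊗[k] A) :
    ∃ s : Finset ι, ∀ i', x i' = ∑ u ∈ s, slice V (b.coord u) (x i') ⊗ₜ[k] b u := by
  classical
  refine ⟨Finset.univ.biUnion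
    (fun i' => (TensorProduct.equivFinsuppOfBasisRight b (x i')).support), fun i' => ?_⟩
  have h := (TensorProduct.equivFinsuppOfBasisRight (M := V) b).symm_apply_apply (x i')
  rw [TensorProduct.equivFinsuppOfBasisRight_symm_apply, Finsupp.sum] at h
  conv_lhs => rw [← h]
  have hsub : (TensorProduct.equivFinsuppOfBasisRight b (x i')).support ⊆
      Finset.univ.biUnion (fun i' => (TensorProduct.equivFinsuppOfBasisRight b (x i')).support) :=
    Finset.subset_biUnion_of_mem
      (fun i' => (TensorProduct.equivFinsuppOfBasisRight b (x i')).support) (Finset.mem_univ i')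
  rw [Finset.sum_subset hsub]
  · refine Finset.sum_congr rfl (fun i _ => ?_)
    rw [TensorProduct.equivFinsuppOfBasisRight_apply]
    rfl
  · intro u _ hu
    rw [Finsupp.notMem_support_iff.mp hu, TensorProduct.zero_tmul]

/-- The `p × p` minor at the columns `τ` as a `k`-multilinear map of the rows. -/
noncomputable def minorMulti (k : Type u) [Field k] {R : Type w} [CommRing R] [Algebra k R]
    {p n : ℕ} (τ : Fin p → Fin n) : MultilinearMap k (fun _ : Fin p => (Fin n → R)) R :=
  ((Matrix.detRowAlternating (R := R) (n := Fin p)).toMultilinearMap.restrictScalars k).compLinearMap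
    (fun _ => LinearMap.funLeft k R τ)

theorem minorMulti_apply {R : Type w} [CommRing R] [Algebra k R]
    {p n : ℕ} (τ : Fin p → Fin n) (rows : Fin p → (Fin n → R)) :
    minorMulti k τ rows = (Matrix.of (fun s t => rows s (τ t))).det := rfl

end TensorAlg

section Costable

variable {k : Type u} [Field k] {A : Type v} [CommRing A] [HopfAlgebra k A] (B : Subalgebra k A)

/-- The image of an ideal of `B` in `A`, as a `k`-subspace. -/
def idealImage (I : Ideal ↥B) : Submodule k A :=
  Submodule.map B.val.toLinearMap (I.restrictScalars k)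

theorem mem_idealImage {I : Ideal ↥B} {x : A} :
    x ∈ idealImage B I ↔ ∃ b : ↥B, b ∈ I ∧ (b : A) = x := by
  simp [idealImage]

theorem coe_mem_idealImage {I : Ideal ↥B} {b : ↥B} (hb : b ∈ I) : (b : A) ∈ idealImage B I :=
  (mem_idealImage B).mpr ⟨b, hb, rfl⟩

/-- `B ⊗ A` inside `A ⊗ A`, as a subalgebra. -/
def subalgBA : Subalgebra k (A ⊗[k] A) :=
  (Algebra.TensorProduct.map B.val (AlgHom.id k A)).range

theorem coe_tmul_mem_subalgBA (b : ↥B) (a : A) : (b : A) ⊗ₜ[k] a ∈ subalgBA B :=
  ⟨b ⊗ₜ[k] a, by simp⟩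

theorem one_tmul_mem_subalgBA (a : A) : (1 : A) ⊗ₜ[k] a ∈ subalgBA B := by
  simpa using coe_tmul_mem_subalgBA B 1 a

theorem comul_mem_subalgBA
    (hB : ∀ b ∈ B, CoalgebraStruct.comul (R := k) b ∈
      LinearMap.range (TensorProduct.map B.val.toLinearMap B.val.toLinearMap))
    (b : ↥B) : CoalgebraStruct.comul (R := k) (b : A) ∈ subalgBA B := by
  obtain ⟨y, hy⟩ := hB b b.2
  rw [← hy]
  clear hy
  induction y using TensorProduct.induction_on with
  | zero => rw [map_zero]; exact zero_mem _
  | tmul x y => exact coe_tmul_mem_subalgBA B x y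
  | add x y hx hy => rw [map_add]; exact add_mem hx hy

theorem slice_mem_of_mem_subalgBA (φ : A →ₗ[k] k) {z : A ⊗[k] A} (hz : z ∈ subalgBA B) :
    slice A φ z ∈ B := by
  obtain ⟨y, rfl⟩ := hz
  induction y using TensorProduct.induction_on with
  | zero => simp
  | tmul b a =>
    simp only [AlgHom.toRingHom_eq_coe, RingHom.coe_coe, Algebra.TensorProduct.map_tmul,
      Subalgebra.coe_val, AlgHom.coe_id, id_eq, slice_tmul]
    exact Subalgebra.smul_mem _ b.2 _
  | add x y hx hy =>
    rw [map_add, map_add]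
    exact add_mem hx hy

/-- `I ⊗ A` (image in `A ⊗ A`) is stable under multiplication by `B ⊗ A`. -/
theorem mul_mem_range_rTensor_idealImage (I : Ideal ↥B) {y z : A ⊗[k] A} (hy : y ∈ subalgBA B)
    (hz : z ∈ LinearMap.range ((idealImage B I).subtype.rTensor A)) :
    y * z ∈ LinearMap.range ((idealImage B I).subtype.rTensor A) := by
  obtain ⟨y', rfl⟩ := hy
  obtain ⟨z', rfl⟩ := hz
  induction y' using TensorProduct.induction_on with
  | zero => simp
  | add x y hx hy =>
    rw [map_add, add_mul]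
    exact Submodule.add_mem _ hx hy
  | tmul b a =>
    induction z' using TensorProduct.induction_on with
    | zero => simp
    | add x y hx hy =>
      rw [map_add, mul_add]
      exact Submodule.add_mem _ hx hy
    | tmul w a' =>
      obtain ⟨b', hb', hw⟩ := (mem_idealImage B).mp w.2
      refine ⟨(⟨(b : A) * (w : A), ?_⟩ : idealImage B I) ⊗ₜ[k] (a * a'), ?_⟩
      · rw [← hw]
        exact (mem_idealImage B).mpr ⟨b * b', I.mul_mem_left b hb', rfl⟩
      · simp [Algebra.TensorProduct.tmul_mul_tmul]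

theorem tmul_mem_range_rTensor_idealImage (I : Ideal ↥B) {b : ↥B} (hb : b ∈ I) (a : A) :
    (b : A) ⊗ₜ[k] a ∈ LinearMap.range ((idealImage B I).subtype.rTensor A) :=
  ⟨(⟨(b : A), coe_mem_idealImage B hb⟩ : idealImage B I) ⊗ₜ[k] a, by simp⟩

variable {n : ℕ}

/-- The module of relations `c` with `Σ cᵢ mᵢ ∈ N`. -/
def relK (m : Fin n → A) (N : Submodule ↥B A) : Submodule ↥B (Fin n → ↥B) :=
  Submodule.comap (Fintype.linearCombination ↥B m) N

theorem mem_relK {m : Fin n → A} {N : Submodule ↥B A} {c : Fin n → ↥B} :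
    c ∈ relK B m N ↔ ∑ i, (c i : A) * m i ∈ N := by
  rw [relK, Submodule.mem_comap, Fintype.linearCombination_apply]
  simp only [Subalgebra.smul_def, smul_eq_mul]

end Costable

section Costable2

variable {k : Type u} [Field k] {A : Type v} [CommRing A] [HopfAlgebra k A] (B : Subalgebra k A)
variable {n : ℕ} (m : Fin n → A) (a : Matrix (Fin n) (Fin n) A)

/-- The twisted row `e(c)ᵢ = Σⱼ Δ(cⱼ)(1 ⊗ aᵢⱼ)`. -/
noncomputable def twistRow (c : Fin n → ↥B) : Fin n → A ⊗[k] A :=
  fun i => ∑ j, CoalgebraStruct.comul (R := k) ((c j : ↥B) : A) * ((1 : A) ⊗ₜ[k] a i j)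

theorem twistRow_mem_subalgBA
    (hB : ∀ b ∈ B, CoalgebraStruct.comul (R := k) b ∈
      LinearMap.range (TensorProduct.map B.val.toLinearMap B.val.toLinearMap))
    (c : Fin n → ↥B) (i : Fin n) : twistRow B a c i ∈ subalgBA B :=
  Subalgebra.sum_mem _ (fun j _ => Subalgebra.mul_mem _ (comul_mem_subalgBA B hB (c j))
    (one_tmul_mem_subalgBA B _))

theorem sum_tmul_one_mul_twistRow
    (hm : ∀ j, CoalgebraStruct.comul (R := k) (m j) = ∑ i, m i ⊗ₜ[k] a i j) (c : Fin n → ↥B) :
    ∑ i, (m i ⊗ₜ[k] (1 : A)) * twistRow B a c i =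
      CoalgebraStruct.comul (R := k) (∑ j, ((c j : ↥B) : A) * m j) := by
  unfold twistRow
  simp only [Finset.mul_sum]
  rw [Finset.sum_comm, map_sum]
  refine Finset.sum_congr rfl (fun j _ => ?_)
  rw [Bialgebra.comul_mul, hm j, Finset.mul_sum]
  refine Finset.sum_congr rfl (fun i _ => ?_)
  rw [mul_left_comm, Algebra.TensorProduct.tmul_mul_tmul, mul_one, one_mul]

/-- Rows of the form `κ ⊗ α` with `κ ∈ K`. -/
def pureRows (K : Submodule ↥B (Fin n → ↥B)) : Set (Fin n → A ⊗[k] A) :=
  {g | ∃ (κ : Fin n → ↥B) (α : A), κ ∈ K ∧ g = fun i => ((κ i : ↥B) : A) ⊗ₜ[k] α}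

theorem twistRow_mem_span
    (hB : ∀ b ∈ B, CoalgebraStruct.comul (R := k) b ∈
      LinearMap.range (TensorProduct.map B.val.toLinearMap B.val.toLinearMap))
    (hm : ∀ j, CoalgebraStruct.comul (R := k) (m j) = ∑ i, m i ⊗ₜ[k] a i j)
    (N : Submodule ↥B A)
    (hN : ∀ x ∈ N, CoalgebraStruct.comul (R := k) x ∈
      LinearMap.range ((N.restrictScalars k).subtype.rTensor A))
    (c : Fin n → ↥B) (hc : c ∈ relK B m N) :
    twistRow B a c ∈ Submodule.span k (pureRows B (relK B m N)) := by
  classical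
  set β := Module.Free.chooseBasis k A with hβ
  obtain ⟨s, hs⟩ := exists_finset_eq_sum_slice (V := A) β (twistRow B a c)
  have hmemB : ∀ u i, slice A (β.coord u) (twistRow B a c i) ∈ B := fun u i =>
    slice_mem_of_mem_subalgBA B _ (twistRow_mem_subalgBA B a hB c i)
  have hK : ∀ u, (fun i => (⟨slice A (β.coord u) (twistRow B a c i), hmemB u i⟩ : ↥B)) ∈
      relK B m N := by
    intro u
    rw [mem_relK]
    have h1 : ∑ i, slice A (β.coord u) (twistRow B a c i) * m i =
        slice A (β.coord u) (CoalgebraStruct.comul (R := k) (∑ j, ((c j : ↥B) : A) * m j)) := by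
      rw [← sum_tmul_one_mul_twistRow B m a hm c, map_sum]
      refine Finset.sum_congr rfl (fun i _ => ?_)
      rw [slice_tmul_one_mul, mul_comm]
    change ∑ i, slice A (β.coord u) (twistRow B a c i) * m i ∈ N
    rw [h1]
    obtain ⟨y, hy⟩ := hN _ ((mem_relK B).mp hc)
    rw [← hy, slice_rTensor]
    exact (slice _ (β.coord u) y).2
  have hrow : twistRow B a c =
      ∑ u ∈ s, (fun i => slice A (β.coord u) (twistRow B a c i) ⊗ₜ[k] β u) := by
    funext i
    rw [Finset.sum_apply]
    exact hs i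
  rw [hrow]
  refine Submodule.sum_mem _ (fun u _ => Submodule.subset_span ?_)
  exact ⟨fun i => ⟨_, hmemB u i⟩, β u, hK u, rfl⟩

theorem coe_rowMinor {p : ℕ} (κ : Fin p → (Fin n → ↥B)) (τ : Fin p → Fin n) :
    ((rowMinor κ τ : ↥B) : A) = (Matrix.of (fun s t => ((κ s (τ t) : ↥B) : A))).det := by
  unfold rowMinor
  exact RingHom.map_det (B.val : ↥B →ₐ[k] A).toRingHom (Matrix.of fun s t => κ s (τ t))

theorem minorMulti_mem_of_pureRows (K : Submodule ↥B (Fin n → ↥B)) {p : ℕ} (τ : Fin p → Fin n)
    (g : Fin p → (Fin n → A ⊗[k] A)) (hg : ∀ s, g s ∈ pureRows B K) :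
    minorMulti k τ g ∈
      LinearMap.range ((idealImage B (minorIdeal K p)).subtype.rTensor A) := by
  choose κ α hκ hgs using hg
  rw [minorMulti_apply]
  have h1 : (Matrix.of (fun s t => g s (τ t))) =
      Matrix.of (fun s t => (Matrix.of (fun s t => ((κ s (τ t) : ↥B) : A))) s t ⊗ₜ[k] α s) := by
    ext s t
    simp only [Matrix.of_apply]
    rw [hgs s]
  rw [h1, det_tmul_row, ← coe_rowMinor]
  have hmem : rowMinor κ τ ∈ minorIdeal K p := by
    apply Ideal.subset_span
    exact ⟨κ, τ, hκ, rfl⟩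
  exact tmul_mem_range_rTensor_idealImage B _ hmem _

end Costable2

section Costable3

variable {k : Type u} [Field k] {A : Type v} [CommRing A] [HopfAlgebra k A] (B : Subalgebra k A)
variable {n : ℕ} (m : Fin n → A) (a : Matrix (Fin n) (Fin n) A)

theorem comul_rowMinor_mem
    (hB : ∀ b ∈ B, CoalgebraStruct.comul (R := k) b ∈
      LinearMap.range (TensorProduct.map B.val.toLinearMap B.val.toLinearMap))
    (ha : IsComatrix (k := k) a)
    (hm : ∀ j, CoalgebraStruct.comul (R := k) (m j) = ∑ i, m i ⊗ₜ[k] a i j)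
    (N : Submodule ↥B A)
    (hN : ∀ x ∈ N, CoalgebraStruct.comul (R := k) x ∈
      LinearMap.range ((N.restrictScalars k).subtype.rTensor A))
    {p : ℕ} (c : Fin p → (Fin n → ↥B)) (hc : ∀ s, c s ∈ relK B m N) (σ : Fin p → Fin n) :
    CoalgebraStruct.comul (R := k) ((rowMinor c σ : ↥B) : A) ∈
      LinearMap.range ((idealImage B (minorIdeal (relK B m N) p)).subtype.rTensor A) := by
  classical
  have e2 : CoalgebraStruct.comul (R := k)
      ((Matrix.of (fun s t => ((c s (σ t) : ↥B) : A))).det) =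
      (Matrix.of (fun s t => CoalgebraStruct.comul (R := k) ((c s (σ t) : ↥B) : A))).det :=
    AlgHom.map_det (Bialgebra.comulAlgHom k A) (Matrix.of (fun s t => ((c s (σ t) : ↥B) : A)))
  set Cmat : Matrix (Fin p) (Fin n) (A ⊗[k] A) :=
    Matrix.of (fun s l => CoalgebraStruct.comul (R := k) ((c s l : ↥B) : A)) with hC
  set E : Matrix (Fin p) (Fin n) (A ⊗[k] A) := Matrix.of (fun s i => twistRow B a (c s) i) with hE
  set Z : Matrix (Fin n) (Fin n) (A ⊗[k] A) :=
    Matrix.of (fun i l => (1 : A) ⊗ₜ[k] HopfAlgebra.antipode k (a l i)) with hZ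
  have hEZ : E * Z = Cmat := by
    ext s l
    simp only [Matrix.mul_apply, hE, hZ, hC, Matrix.of_apply, twistRow, Finset.sum_mul]
    rw [Finset.sum_comm]
    have : ∀ j, ∑ i, CoalgebraStruct.comul (R := k) ((c s j : ↥B) : A) * ((1 : A) ⊗ₜ[k] a i j) *
        ((1 : A) ⊗ₜ[k] HopfAlgebra.antipode k (a l i)) =
        CoalgebraStruct.comul (R := k) ((c s j : ↥B) : A) *
          ((1 : A) ⊗ₜ[k] (if l = j then (1 : A) else 0)) := by
      intro j
      rw [← ha.antipode_mul l j, TensorProduct.tmul_sum, Finset.mul_sum]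
      refine Finset.sum_congr rfl (fun i _ => ?_)
      rw [mul_assoc, Algebra.TensorProduct.tmul_mul_tmul, one_mul, mul_comm (a i j)]
    rw [Finset.sum_congr rfl (fun j _ => this j), Finset.sum_eq_single l]
    · rw [if_pos rfl]
      change _ * (1 : A ⊗[k] A) = _
      rw [mul_one]
    · intro j _ hj
      rw [if_neg (Ne.symm hj), TensorProduct.tmul_zero, mul_zero]
    · intro h
      exact absurd (Finset.mem_univ l) h
  have e3 : (Matrix.of (fun s t => CoalgebraStruct.comul (R := k) ((c s (σ t) : ↥B) : A))).det =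
      ((E * Z).submatrix id σ).det := by
    rw [hEZ]
    rfl
  rw [coe_rowMinor, e2, e3, det_submatrix_mul_eq_sum]
  refine Submodule.sum_mem _ (fun τ _ => mul_mem_range_rTensor_idealImage B _ ?_ ?_)
  · exact Subalgebra.prod_mem _ (fun t _ => one_tmul_mem_subalgBA B _)
  · change minorMulti k τ (fun s => twistRow B a (c s)) ∈ _
    exact MultilinearMap.map_mem_of_span (minorMulti k τ) _ (pureRows B (relK B m N))
      (fun g hg => minorMulti_mem_of_pureRows B _ τ g hg) _
      (fun s => twistRow_mem_span B m a hB hm N hN (c s) (hc s))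

/-- The minor ideals of the relation module are costable. -/
theorem comul_mem_of_mem_minorIdeal
    (hB : ∀ b ∈ B, CoalgebraStruct.comul (R := k) b ∈
      LinearMap.range (TensorProduct.map B.val.toLinearMap B.val.toLinearMap))
    (ha : IsComatrix (k := k) a)
    (hm : ∀ j, CoalgebraStruct.comul (R := k) (m j) = ∑ i, m i ⊗ₜ[k] a i j)
    (N : Submodule ↥B A)
    (hN : ∀ x ∈ N, CoalgebraStruct.comul (R := k) x ∈
      LinearMap.range ((N.restrictScalars k).subtype.rTensor A))
    (p : ℕ) (x : ↥B) (hx : x ∈ minorIdeal (relK B m N) p) :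
    CoalgebraStruct.comul (R := k) (x : A) ∈
      LinearMap.range ((idealImage B (minorIdeal (relK B m N) p)).subtype.rTensor A) := by
  unfold minorIdeal at hx
  induction hx using Submodule.span_induction with
  | mem x hx =>
    obtain ⟨c, σ, hc, rfl⟩ := hx
    exact comul_rowMinor_mem B m a hB ha hm N hN c hc σ
  | zero =>
    rw [ZeroMemClass.coe_zero, map_zero]
    exact Submodule.zero_mem _
  | add x y _ _ hx hy =>
    rw [AddMemClass.coe_add, map_add]
    exact Submodule.add_mem _ hx hy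
  | smul b x _ hx =>
    rw [smul_eq_mul, MulMemClass.coe_mul, Bialgebra.comul_mul]
    exact mul_mem_range_rTensor_idealImage B _ (comul_mem_subalgBA B hB b) hx

end Costable3

section Simple

variable {k : Type u} [Field k] {A : Type v} [CommRing A] [HopfAlgebra k A] (B : Subalgebra k A)

/-- Expansion of `Δ x` for `x` in a costable ideal of a Hopf subalgebra. -/
theorem exists_comul_eq_sum_of_costable
    (hB : ∀ b ∈ B, CoalgebraStruct.comul (R := k) b ∈
      LinearMap.range (TensorProduct.map B.val.toLinearMap B.val.toLinearMap))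
    (I : Ideal ↥B)
    (hI : ∀ x ∈ I, CoalgebraStruct.comul (R := k) (x : A) ∈
      LinearMap.range ((idealImage B I).subtype.rTensor A))
    (x : ↥B) (hx : x ∈ I) :
    ∃ (ι : Type v) (s : Finset ι) (w β : ι → ↥B), (∀ u, w u ∈ I) ∧
      CoalgebraStruct.comul (R := k) (x : A) = ∑ u ∈ s, ((w u : ↥B) : A) ⊗ₜ[k] ((β u : ↥B) : A) := by
  classical
  obtain ⟨y, hy⟩ := hB x x.2
  set β := Module.Free.chooseBasis k ↥B with hβ
  obtain ⟨s, hs⟩ := eq_sum_slice (V := ↥B) β y
  obtain ⟨g, hg⟩ := LinearMap.exists_leftInverse_of_injective B.val.toLinearMap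
    (LinearMap.ker_eq_bot.mpr Subtype.val_injective)
  refine ⟨_, s, fun u => slice ↥B (β.coord u) y, fun u => β u, ?_, ?_⟩
  · intro u
    change slice ↥B (β.coord u) y ∈ I
    have h1 : ((slice ↥B (β.coord u) y : ↥B) : A) =
        slice A ((β.coord u) ∘ₗ g) (CoalgebraStruct.comul (R := k) (x : A)) := by
      rw [← hy, slice_map]
      have : ((β.coord u) ∘ₗ g) ∘ₗ B.val.toLinearMap = β.coord u := by
        rw [LinearMap.comp_assoc, hg, LinearMap.comp_id]
      rw [this]
      rfl
    obtain ⟨z, hz⟩ := hI x hx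
    rw [← hz, slice_rTensor] at h1
    obtain ⟨b', hb', hb'eq⟩ := (mem_idealImage B).mp (slice _ ((β.coord u) ∘ₗ g) z).2
    have : slice ↥B (β.coord u) y = b' := by
      apply Subtype.val_injective
      rw [h1]
      exact hb'eq.symm
    rw [this]
    exact hb'
  · rw [← hy]
    conv_lhs => rw [hs]
    rw [map_sum]
    refine Finset.sum_congr rfl (fun u _ => ?_)
    rw [TensorProduct.map_tmul]
    rfl

/-- A Hopf subalgebra has no nontrivial costable ideals. -/
theorem ideal_eq_bot_or_top_of_costable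
    (hB : ∀ b ∈ B, CoalgebraStruct.comul (R := k) b ∈
      LinearMap.range (TensorProduct.map B.val.toLinearMap B.val.toLinearMap))
    (hS : ∀ b ∈ B, HopfAlgebra.antipode k b ∈ B)
    (I : Ideal ↥B)
    (hI : ∀ x ∈ I, CoalgebraStruct.comul (R := k) (x : A) ∈
      LinearMap.range ((idealImage B I).subtype.rTensor A)) :
    I = ⊥ ∨ I = ⊤ := by
  classical
  have hcounit : ∀ x ∈ I, algebraMap k ↥B (CoalgebraStruct.counit (R := k) (x : A)) ∈ I := by
    intro x hx
    obtain ⟨ι, s, w, β, hw, hexp⟩ := exists_comul_eq_sum_of_costable B hB I hI x hx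
    have h1 := HopfAlgebra.mul_antipode_lTensor_comul_apply (R := k) (x : A)
    rw [hexp, map_sum, map_sum] at h1
    simp only [LinearMap.lTensor_tmul, LinearMap.mul'_apply] at h1
    have h2 : algebraMap k ↥B (CoalgebraStruct.counit (R := k) (x : A)) =
        ∑ u ∈ s, w u * ⟨HopfAlgebra.antipode k ((β u : ↥B) : A), hS _ (β u).2⟩ := by
      apply Subtype.val_injective
      rw [AddSubmonoidClass.coe_finset_sum]
      simp only [MulMemClass.coe_mul]
      rw [h1]
      rfl
    rw [h2]
    exact I.sum_mem (fun u _ => I.mul_mem_right _ (hw u))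
  by_cases h : ∃ x ∈ I, CoalgebraStruct.counit (R := k) ((x : ↥B) : A) ≠ 0
  · right
    obtain ⟨x, hx, hne⟩ := h
    exact Ideal.eq_top_of_isUnit_mem I (hcounit x hx) ((Ne.isUnit hne).map (algebraMap k ↥B))
  · left
    push_neg at h
    rw [eq_bot_iff]
    intro x hx
    rw [Ideal.mem_bot]
    obtain ⟨ι, s, w, β, hw, hexp⟩ := exists_comul_eq_sum_of_costable B hB I hI x hx
    have h1 := Coalgebra.rTensor_counit_comul (R := k) (x : A)
    rw [hexp, map_sum] at h1
    simp only [LinearMap.rTensor_tmul, h _ (hw _), TensorProduct.zero_tmul,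
      Finset.sum_const_zero] at h1
    have h2 := congrArg (TensorProduct.lid k A) h1
    rw [map_zero, TensorProduct.lid_tmul, one_smul] at h2
    exact Subtype.val_injective h2.symm

end Simple

section Assembly

variable {k : Type u} [Field k] {A : Type v} [CommRing A] [HopfAlgebra k A] (B : Subalgebra k A)

/-- The relation module of a finite comatrix family modulo a costable `B`-submodule is a direct
summand. -/
theorem exists_retraction_relK
    (hB : ∀ b ∈ B, CoalgebraStruct.comul (R := k) b ∈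
      LinearMap.range (TensorProduct.map B.val.toLinearMap B.val.toLinearMap))
    (hS : ∀ b ∈ B, HopfAlgebra.antipode k b ∈ B)
    {n : ℕ} (m : Fin n → A) (a : Matrix (Fin n) (Fin n) A)
    (ha : IsComatrix (k := k) a)
    (hm : ∀ j, CoalgebraStruct.comul (R := k) (m j) = ∑ i, m i ⊗ₜ[k] a i j)
    (N : Submodule ↥B A)
    (hN : ∀ x ∈ N, CoalgebraStruct.comul (R := k) x ∈
      LinearMap.range ((N.restrictScalars k).subtype.rTensor A)) :
    ∃ r : (Fin n → ↥B) →ₗ[↥B] (Fin n → ↥B), (∀ v, r v ∈ relK B m N) ∧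
      ∀ c ∈ relK B m N, r c = c :=
  exists_retraction_of_minorIdeal_trivial _ (fun p =>
    ideal_eq_bot_or_top_of_costable B hB hS _
      (comul_mem_of_mem_minorIdeal B m a hB ha hm N hN p))

/-- A finitely generated subcomodule of the regular comodule has a basis with a comatrix. -/
theorem exists_comatrix_of_fg_subcomod (V : Submodule k A)
    (hV : IsSubcomod (k := k) (A := A) V) (hfg : V.FG) :
    ∃ (n : ℕ) (m : Fin n → A) (a : Matrix (Fin n) (Fin n) A), IsComatrix (k := k) a ∧
      (∀ j, CoalgebraStruct.comul (R := k) (m j) = ∑ i, m i ⊗ₜ[k] a i j) ∧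
      ∀ v ∈ V, ∃ g : Fin n → k, v = ∑ j, g j • m j := by
  classical
  haveI : Module.Finite k V := Module.Finite.iff_fg.mpr hfg
  letI : Comod k A V := subComod V hV
  set b := Module.finBasis k V with hb
  refine ⟨_, fun j => (b j : A), comatrix (A := A) b, isComatrix_comatrix b, ?_, ?_⟩
  · intro j
    have h1 := rTensor_subtype_subCoact V hV (b j)
    have h2 := coact_basis (A := A) b j
    change subCoact V hV (b j) = _ at h2
    rw [h2, map_sum] at h1
    simp only [LinearMap.rTensor_tmul, Submodule.subtype_apply] at h1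
    exact h1.symm
  · intro v hv
    refine ⟨fun j => b.repr ⟨v, hv⟩ j, ?_⟩
    have := congrArg Subtype.val (b.sum_repr ⟨v, hv⟩)
    rw [AddSubmonoidClass.coe_finset_sum] at this
    simpa using this.symm

theorem flat_of_isHopfSubalgebra
    (hB : ∀ b ∈ B, CoalgebraStruct.comul (R := k) b ∈
      LinearMap.range (TensorProduct.map B.val.toLinearMap B.val.toLinearMap))
    (hS : ∀ b ∈ B, HopfAlgebra.antipode k b ∈ B) : Module.Flat ↥B A := by
  classical
  apply Module.Flat.of_forall_isTrivialRelation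
  intro l f x hfx
  obtain ⟨V, hVfg, hV, hle⟩ := exists_fg_subcomod_ge (k := k) (A := A) (V := A)
    (Submodule.span k (Set.range x)) (Submodule.fg_span (Set.finite_range x))
  obtain ⟨n, m, a, ha, hm, hspan⟩ := exists_comatrix_of_fg_subcomod V hV hVfg
  have hx : ∀ i, ∃ g : Fin n → k, x i = ∑ j, g j • m j := fun i =>
    hspan _ (hle (Submodule.subset_span ⟨i, rfl⟩))
  choose g hg using hx
  obtain ⟨r, hr1, hr2⟩ := exists_retraction_relK B hB hS m a ha hm ⊥ (by
    intro x hx
    rw [(Submodule.mem_bot _).mp hx, map_zero]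
    exact Submodule.zero_mem _)
  set G : Fin l → (Fin n → ↥B) := fun i j => algebraMap k ↥B (g i j) with hG
  have hπG : ∀ i, ∑ j, ((G i j : ↥B) : A) * m j = x i := by
    intro i
    rw [hg i]
    refine Finset.sum_congr rfl (fun j _ => ?_)
    rw [hG, Algebra.smul_def]
    rfl
  refine ⟨n, fun i j => G i j - r (G i) j, m, ?_, ?_⟩
  · intro i
    have h0 : ∑ j, ((r (G i) j : ↥B) : A) * m j = 0 := by
      have := hr1 (G i)
      rwa [mem_relK, Submodule.mem_bot] at this
    simp only [sub_smul, Finset.sum_sub_distrib, Subalgebra.smul_def, smul_eq_mul]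
    rw [h0, sub_zero, hπG]
  · intro j
    set c : Fin n → ↥B := ∑ i, f i • G i with hc
    have hcK : c ∈ relK B m ⊥ := by
      rw [mem_relK, Submodule.mem_bot, ← hfx]
      simp only [hc, Finset.sum_apply, Pi.smul_apply, smul_eq_mul, AddSubmonoidClass.coe_finset_sum,
        MulMemClass.coe_mul, Finset.sum_mul]
      rw [Finset.sum_comm]
      refine Finset.sum_congr rfl (fun i _ => ?_)
      rw [← hπG i, Subalgebra.smul_def, smul_eq_mul, Finset.mul_sum]
      refine Finset.sum_congr rfl (fun j _ => ?_)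
      rw [mul_assoc]
    have hrc := hr2 c hcK
    have h1 : ∑ i, f i * (G i j - r (G i) j) = c j - r c j := by
      rw [hc, map_sum]
      simp only [map_smul, Finset.sum_apply, Pi.smul_apply, smul_eq_mul, mul_sub,
        Finset.sum_sub_distrib]
    rw [h1, hrc, sub_self]

theorem smul_top_ne_top_of_isHopfSubalgebra
    (hB : ∀ b ∈ B, CoalgebraStruct.comul (R := k) b ∈
      LinearMap.range (TensorProduct.map B.val.toLinearMap B.val.toLinearMap))
    (hS : ∀ b ∈ B, HopfAlgebra.antipode k b ∈ B) (𝔪 : Ideal ↥B) (h𝔪 : 𝔪 ≠ ⊤) :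
    𝔪 • (⊤ : Submodule ↥B A) ≠ ⊤ := by
  classical
  intro htop
  have h1 : (1 : A) ∈ 𝔪 • (⊤ : Submodule ↥B A) := by rw [htop]; trivial
  have htop' : (⊤ : Submodule ↥B A) = Submodule.span ↥B (Set.range (id : A → A)) := by simp
  rw [htop', Submodule.mem_ideal_smul_span_iff_exists_sum] at h1
  obtain ⟨c, hc, hsum⟩ := h1
  rw [Finsupp.sum] at hsum
  obtain ⟨V, hVfg, hV, hle⟩ := exists_fg_subcomod_ge (k := k) (A := A) (V := A)
    (Submodule.span k (c.support : Set A)) (Submodule.fg_span (Finset.finite_toSet _))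
  obtain ⟨n, m, a, ha, hm, hspan⟩ := exists_comatrix_of_fg_subcomod V hV hVfg
  have hi : ∀ i ∈ c.support, ∃ g : Fin n → k, i = ∑ j, g j • m j := fun i hi =>
    hspan i (hle (Submodule.subset_span hi))
  choose! g hg using hi
  set N : Submodule ↥B A := Submodule.span ↥B {(1 : A)} with hNdef
  have hNmem : ∀ b : ↥B, (b : A) ∈ N := by
    intro b
    rw [hNdef, Submodule.mem_span_singleton]
    exact ⟨b, by rw [Subalgebra.smul_def, smul_eq_mul, mul_one]⟩
  have hN : ∀ x ∈ N, CoalgebraStruct.comul (R := k) x ∈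
      LinearMap.range ((N.restrictScalars k).subtype.rTensor A) := by
    intro x hx
    obtain ⟨b, rfl⟩ := Submodule.mem_span_singleton.mp hx
    rw [Subalgebra.smul_def, smul_eq_mul, mul_one]
    obtain ⟨y, hy⟩ := hB b b.2
    rw [← hy]
    clear hy
    induction y using TensorProduct.induction_on with
    | zero => rw [map_zero]; exact Submodule.zero_mem _
    | add x y hx hy => rw [map_add]; exact Submodule.add_mem _ hx hy
    | tmul b1 b2 =>
      exact ⟨(⟨(b1 : A), hNmem b1⟩ : N.restrictScalars k) ⊗ₜ[k] (b2 : A), by simp⟩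
  obtain ⟨r, hr1, hr2⟩ := exists_retraction_relK B hB hS m a ha hm N hN
  set π : (Fin n → ↥B) →ₗ[↥B] A := Fintype.linearCombination ↥B m with hπ
  set G : A → (Fin n → ↥B) := fun i j => algebraMap k ↥B (g i j) with hG
  have hπG : ∀ i ∈ c.support, π (G i) = i := by
    intro i hi
    conv_rhs => rw [hg i hi]
    rw [hπ, Fintype.linearCombination_apply]
    refine Finset.sum_congr rfl (fun j _ => ?_)
    rw [hG, algebraMap_smul]
  set c' : Fin n → ↥B := ∑ i ∈ c.support, c i • G i with hc'
  have hπc' : π c' = 1 := by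
    rw [hc', map_sum, ← hsum]
    refine Finset.sum_congr rfl (fun i hi => ?_)
    rw [map_smul, hπG i hi, id]
  have hc'K : c' ∈ relK B m N := by
    change π c' ∈ N
    rw [hπc']
    simpa using hNmem 1
  have hc'm : c' ∈ 𝔪 • (⊤ : Submodule ↥B (Fin n → ↥B)) :=
    Submodule.sum_mem _ (fun i _ => Submodule.smul_mem_smul (hc i) trivial)
  have hrange : Submodule.map (π ∘ₗ r) ⊤ ≤ N := by
    rintro _ ⟨v, -, rfl⟩
    exact hr1 v
  have key : (π ∘ₗ r) c' ∈ 𝔪 • N := by
    have h2 : (π ∘ₗ r) c' ∈ Submodule.map (π ∘ₗ r) (𝔪 • (⊤ : Submodule ↥B (Fin n → ↥B))) :=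
      Submodule.mem_map_of_mem hc'm
    rw [Submodule.map_smul''] at h2
    exact Submodule.smul_mono le_rfl hrange h2
  rw [LinearMap.comp_apply, hr2 c' hc'K, hπc', hNdef] at key
  obtain ⟨y, hy, hy1⟩ := Submodule.mem_smul_span_singleton.mp key
  rw [Subalgebra.smul_def, smul_eq_mul, mul_one] at hy1
  have : y = 1 := Subtype.val_injective hy1
  rw [this] at hy
  exact h𝔪 ((Ideal.eq_top_iff_one _).mpr hy)

theorem faithfullyFlat_of_isHopfSubalgebra
    (hB : ∀ b ∈ B, CoalgebraStruct.comul (R := k) b ∈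
      LinearMap.range (TensorProduct.map B.val.toLinearMap B.val.toLinearMap))
    (hS : ∀ b ∈ B, HopfAlgebra.antipode k b ∈ B) : Module.FaithfullyFlat ↥B A :=
  haveI := flat_of_isHopfSubalgebra B hB hS
  ⟨fun 𝔪 h𝔪 => smul_top_ne_top_of_isHopfSubalgebra B hB hS 𝔪 h𝔪.ne_top⟩

end Assembly

end Groth.Agent.Lib.Helper25
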