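import Groth.Agent.Lib.Helper25Coconn
import Groth.Agent.Lib.Helper25KrullGrp
import Groth.Agent.Lib.Helper25PointsNilp
import Groth.Agent.Lib.Helper25PrimExt
import Groth.Agent.Lib.Helper25Takeuchi
import Groth.Agent.Lib.Helper25CoeffFin
import Groth.Prelude.Def_Lie2
import Groth.Prelude.Def_GLin
import Mathlib.RingTheory.Algebraic.Basic

/-!
# helper25 library: unipotent groups in characteristic zero are determined by their Lie algebra

For a finitely generated commutative unipotent Hopf algebra `A` over a field of characteristic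
zero, a function all of whose iterated invariant derivatives vanish at the identity is zero
(`Ninf_eq_bot`).

* `IsEpsDer`, `T_mul_of_isEpsDer`: `ε`-derivations `ξ : A → k` and the invariant derivations
  `T ξ = (id ⊗ ξ) ∘ Δ`; `Ninf k A`: functions killed at the identity by all composites of these.
* Euler operator argument (`euler`, `Ninf_le_augInf`): `Ninf ⊆ ⋂ Iⁿ` in characteristic zero, using a
  dual family for the cotangent space `I/I²` (`exists_dual_family`).
* `transcendental_of_isPrim`, `eq_zero_of_isPrim_mul`: a nonzero primitive element in characteristic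
  zero is transcendental and (by flatness over the Hopf subalgebra it generates) a nonzerodivisor.
* `eq_zero_of_isPrim_of_mem_Ninf`: a primitive element with vanishing differential is zero
  (Krull intersection).
* `eq_zero_of_T_eq_zero_of_mem_Cp`, `Ninf_eq_bot`, `eq_smul_one_of_T_eq_zero`: induction along the
  coradical filtration.
* Comodule consequences: `coact_eq_of_T_eq_zero` (Lie-invariant vectors are invariant),
  `isSubcomod_of_T_mem` (Lie-stable subspaces are subcomodules), `coact_comm_of_T_comm`
  (Lie-equivariant maps are comodule maps), and their forms for `LieHopf.Lie`.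
-/

set_option autoImplicit false
universe u v w w'

namespace Groth.Agent.Lib.Helper25.UL

open TensorProduct HopfRep Polynomial

section EpsDer

variable {k : Type u} [Field k] {A : Type v} [CommRing A] [Bialgebra k A]

/-- `ε`-derivations `A → k` (elements of the Lie algebra), as linear functionals. -/
def IsEpsDer (ξ : A →ₗ[k] k) : Prop :=
  ∀ a b : A, ξ (a * b) =
    CoalgebraStruct.counit (R := k) a * ξ b + ξ a * CoalgebraStruct.counit (R := k) b

theorem IsEpsDer.map_one {ξ : A →ₗ[k] k} (h : IsEpsDer ξ) : ξ 1 = 0 := by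
  have h1 := h 1 1
  rw [mul_one, Bialgebra.counit_one, one_mul, mul_one] at h1
  exact left_eq_add.mp h1

omit [Bialgebra k A] in
theorem slice_mul [Algebra k A] (φ ψ χ : A →ₗ[k] k)
    (h : ∀ a b : A, χ (a * b) = φ a * ψ b + ψ a * φ b) (z w : A ⊗[k] A) :
    slice A χ (z * w) = slice A φ z * slice A ψ w + slice A ψ z * slice A φ w := by
  induction z using TensorProduct.induction_on with
  | zero => simp
  | add x y hx hy => rw [add_mul, map_add, hx, hy, map_add, map_add]; ring
  | tmul a a' =>
    induction w using TensorProduct.induction_on with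
    | zero => simp
    | add x y hx hy => rw [mul_add, map_add, hx, hy, map_add, map_add]; ring
    | tmul b b' =>
      rw [Algebra.TensorProduct.tmul_mul_tmul, slice_tmul, slice_tmul, slice_tmul, slice_tmul,
        slice_tmul, h]
      simp only [smul_eq_mul, Algebra.smul_mul_assoc, Algebra.mul_smul_comm, smul_smul, add_smul]
      rw [mul_comm (ψ b') (φ a'), mul_comm (φ b') (ψ a')]

/-- `T ξ` is a derivation of `A` for an `ε`-derivation `ξ`. -/
theorem T_mul_of_isEpsDer {ξ : A →ₗ[k] k} (h : IsEpsDer ξ) (a b : A) :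
    T (V := A) ξ (a * b) = a * T (V := A) ξ b + T (V := A) ξ a * b := by
  have e := slice_mul (A := A) (CoalgebraStruct.counit (R := k) (A := A)) ξ ξ
    (fun a b => by rw [h a b])
    (CoalgebraStruct.comul (R := k) a) (CoalgebraStruct.comul (R := k) b)
  rw [← Bialgebra.comul_mul] at e
  change T (V := A) ξ (a * b) = T (V := A) (CoalgebraStruct.counit (R := k) (A := A)) a *
    T (V := A) ξ b + T (V := A) ξ a * T (V := A) (CoalgebraStruct.counit (R := k) (A := A)) b at e
  rw [T_counit, T_counit] at e
  exact e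

theorem T_one_of_isEpsDer {ξ : A →ₗ[k] k} (h : IsEpsDer ξ) : T (V := A) ξ (1 : A) = 0 := by
  rw [T_one, h.map_one, zero_smul]

/-- Idempotents are killed by derivations. -/
theorem T_idem_of_isEpsDer {ξ : A →ₗ[k] k} (h : IsEpsDer ξ) {e : A} (he : e * e = e) :
    T (V := A) ξ e = 0 := by
  have h1 := T_mul_of_isEpsDer h e e
  rw [he] at h1
  -- D e = e D e + D e e = 2 e D e
  set d := T (V := A) ξ e with hd
  have h2 : e * d = 0 := by
    have h3 : e * d = e * (e * d + d * e) := by rw [← h1]
    have h4 : e * (e * d + d * e) = e * d + e * d := by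
      calc e * (e * d + d * e) = (e * e) * d + (e * e) * d := by ring
        _ = e * d + e * d := by rw [he]
    rw [h4] at h3
    exact left_eq_add.mp h3
  rw [h1, mul_comm d e, h2, add_zero]

/-- The composite of the operators `T ξ` along a list. -/
noncomputable def iterT (l : List (A →ₗ[k] k)) : A →ₗ[k] A :=
  (l.map (fun ξ => T (V := A) ξ)).foldr (fun f g => f ∘ₗ g) LinearMap.id

@[simp] theorem iterT_nil : iterT (k := k) (A := A) [] = LinearMap.id := rfl

@[simp] theorem iterT_cons (ξ : A →ₗ[k] k) (l : List (A →ₗ[k] k)) :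
    iterT (ξ :: l) = T (V := A) ξ ∘ₗ iterT l := rfl

theorem iterT_append (l l' : List (A →ₗ[k] k)) (a : A) :
    iterT (l ++ l') a = iterT l (iterT l' a) := by
  induction l with
  | nil => rfl
  | cons ξ l ih => simp only [List.cons_append, iterT_cons, LinearMap.comp_apply, ih]

/-- Elements all of whose iterated invariant derivatives vanish at the identity. -/
def Ninf (k : Type u) [Field k] (A : Type v) [CommRing A] [Bialgebra k A] : Submodule k A where
  carrier := {b | ∀ l : List (A →ₗ[k] k), (∀ ξ ∈ l, IsEpsDer ξ) →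
    CoalgebraStruct.counit (R := k) (iterT l b) = 0}
  zero_mem' := by intro l _; simp
  add_mem' := by
    intro a b ha hb l hl
    rw [map_add, map_add, ha l hl, hb l hl, add_zero]
  smul_mem' := by
    intro c a ha l hl
    rw [map_smul, map_smul, ha l hl, smul_zero]

theorem mem_Ninf {b : A} : b ∈ Ninf k A ↔ ∀ l : List (A →ₗ[k] k), (∀ ξ ∈ l, IsEpsDer ξ) →
    CoalgebraStruct.counit (R := k) (iterT l b) = 0 := Iff.rfl

theorem counit_of_mem_Ninf {b : A} (hb : b ∈ Ninf k A) :
    CoalgebraStruct.counit (R := k) b = 0 := by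
  have := hb [] (by simp)
  simpa using this

theorem T_mem_Ninf {ξ : A →ₗ[k] k} (h : IsEpsDer ξ) {b : A} (hb : b ∈ Ninf k A) :
    T (V := A) ξ b ∈ Ninf k A := by
  intro l hl
  have := hb (l ++ [ξ]) (by
    intro η hη
    rcases List.mem_append.mp hη with h1 | h1
    · exact hl η h1
    · rw [List.mem_singleton] at h1
      rw [h1]
      exact h)
  rw [iterT_append] at this
  simpa using this

end EpsDer

section Euler

variable {k : Type u} [Field k] {A : Type v} [CommRing A] [Bialgebra k A]
variable {n : ℕ} (x : Fin n → A) (ξ : Fin n → (A →ₗ[k] k))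

/-- The Euler operator `Σ xᵢ Dᵢ`. -/
noncomputable def eulerOp : A →ₗ[k] A :=
  ∑ i, (LinearMap.mulLeft k (x i)) ∘ₗ T (V := A) (ξ i)

theorem eulerOp_apply (b : A) : eulerOp x ξ b = ∑ i, x i * T (V := A) (ξ i) b := by
  simp [eulerOp, LinearMap.sum_apply]

variable (hx : ∀ i, x i ∈ augI k A) (hξ : ∀ i, IsEpsDer (ξ i))

include hξ in
theorem eulerOp_mul (a b : A) :
    eulerOp x ξ (a * b) = a * eulerOp x ξ b + eulerOp x ξ a * b := by
  simp only [eulerOp_apply]
  rw [Finset.mul_sum, Finset.sum_mul, ← Finset.sum_add_distrib]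
  refine Finset.sum_congr rfl (fun i _ => ?_)
  rw [T_mul_of_isEpsDer (hξ i)]
  ring

omit x ξ in
theorem counit_T_regular' (φ : A →ₗ[k] k) (a : A) :
    CoalgebraStruct.counit (R := k) (A := A) (T (V := A) φ a) = φ a := by
  have key : ∀ x : A ⊗[k] A, CoalgebraStruct.counit (R := k) (A := A) (slice A φ x) =
      φ (TensorProduct.lid k A ((CoalgebraStruct.counit (R := k) (A := A)).rTensor A x)) := by
    intro x
    induction x using TensorProduct.induction_on with
    | zero => simp
    | add x y hx hy => simp only [map_add, hx, hy]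
    | tmul a b => simp [mul_comm]
  rw [T_apply, key]
  change φ (TensorProduct.lid k A ((CoalgebraStruct.counit (R := k) (A := A)).rTensor A
    (CoalgebraStruct.comul (R := k) a))) = φ a
  rw [Coalgebra.rTensor_counit_comul]
  simp

omit x ξ in
theorem T_sub_mem_augI (η : A →ₗ[k] k) (b : A) :
    T (V := A) η b - η b • (1 : A) ∈ augI k A := by
  change Bialgebra.counitAlgHom k A _ = 0
  have h1 := counit_T_regular' (k := k) (A := A) η b
  rw [map_sub, map_smul, map_one, Bialgebra.counitAlgHom_apply, h1]
  simp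

include hx in
theorem eulerOp_mem_augI (b : A) : eulerOp x ξ b ∈ augI k A := by
  rw [eulerOp_apply]
  exact Ideal.sum_mem _ (fun i _ => Ideal.mul_mem_right _ _ (hx i))

variable (hdual : ∀ b ∈ augI k A, b - ∑ i, ξ i b • x i ∈ augI k A ^ 2)

include hx hdual in
theorem euler_one (b : A) (hb : b ∈ augI k A) : eulerOp x ξ b - b ∈ augI k A ^ 2 := by
  have h1 : eulerOp x ξ b - b =
      ∑ i, x i * (T (V := A) (ξ i) b - ξ i b • (1 : A)) - (b - ∑ i, ξ i b • x i) := by
    rw [eulerOp_apply]
    simp only [mul_sub, Finset.sum_sub_distrib, mul_smul_comm, mul_one]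
    ring
  rw [h1]
  refine Ideal.sub_mem _ (Ideal.sum_mem _ (fun i _ => ?_)) (hdual b hb)
  rw [pow_two]
  exact Ideal.mul_mem_mul (hx i) (T_sub_mem_augI (ξ i) b)

include hx hξ hdual in
theorem euler (m : ℕ) (b : A) (hb : b ∈ augI k A ^ m) :
    eulerOp x ξ b - m • b ∈ augI k A ^ (m + 1) := by
  induction m generalizing b with
  | zero =>
    rw [zero_smul, sub_zero, zero_add, pow_one]
    exact eulerOp_mem_augI x ξ hx b
  | succ m ih =>
    rw [pow_succ] at hb
    refine Submodule.mul_induction_on hb ?_ ?_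
    · intro y hy z hz
      have e : eulerOp x ξ (y * z) - (m + 1) • (y * z) =
          y * (eulerOp x ξ z - z) + (eulerOp x ξ y - m • y) * z := by
        rw [eulerOp_mul x ξ hξ, succ_nsmul]
        simp only [nsmul_eq_mul]
        ring
      rw [e]
      refine Ideal.add_mem _ ?_ ?_
      · have h1 := Ideal.mul_mem_mul hy (euler_one x ξ hx hdual z hz)
        rw [← pow_add] at h1
        exact h1
      · have h1 := Ideal.mul_mem_mul (ih y hy) hz
        rw [← pow_succ] at h1
        exact h1
    · intro y z hy hz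
      have e : eulerOp x ξ (y + z) - (m + 1) • (y + z) =
          (eulerOp x ξ y - (m + 1) • y) + (eulerOp x ξ z - (m + 1) • z) := by
        rw [map_add, smul_add]
        ring
      rw [e]
      exact Ideal.add_mem _ hy hz

include hx hξ hdual in
theorem Ninf_le_pow [CharZero k] (m : ℕ) : ∀ b ∈ Ninf k A, b ∈ augI k A ^ m := by
  induction m with
  | zero =>
    intro b _
    rw [pow_zero, Ideal.one_eq_top]
    trivial
  | succ m ih =>
    intro b hb
    rcases Nat.eq_zero_or_pos m with hm | hm
    · subst hm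
      rw [zero_add, pow_one]
      exact counit_of_mem_Ninf hb
    · have h1 : eulerOp x ξ b ∈ augI k A ^ (m + 1) := by
        rw [eulerOp_apply]
        refine Ideal.sum_mem _ (fun i _ => ?_)
        rw [pow_succ']
        exact Ideal.mul_mem_mul (hx i) (ih _ (T_mem_Ninf (hξ i) hb))
      have h2 := euler x ξ hx hξ hdual m b (ih b hb)
      have h3 : m • b ∈ augI k A ^ (m + 1) := by
        have := Ideal.sub_mem _ h1 h2
        rwa [sub_sub_cancel] at this
      have hm0 : (m : k) ≠ 0 := Nat.cast_ne_zero.mpr (by omega)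
      have h4 : b = ((m : k)⁻¹) • (m • b) := by
        rw [← Nat.cast_smul_eq_nsmul k m b, smul_smul, inv_mul_cancel₀ hm0, one_smul]
      rw [h4]
      exact Submodule.smul_of_tower_mem _ _ h3

include hx hξ hdual in
theorem Ninf_le_augInf [CharZero k] : ∀ b ∈ Ninf k A, b ∈ augInf k A := by
  intro b hb
  rw [augInf, Ideal.mem_iInf]
  intro m
  exact Ninf_le_pow x ξ hx hξ hdual m b hb

end Euler

section Dual

variable {k : Type u} [Field k] {A : Type v} [CommRing A] [Bialgebra k A]

variable (k A) in
/-- The `k`-submodule `k·1 + I²`. -/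
noncomputable def Nsq : Submodule k A :=
  Submodule.span k {(1 : A)} ⊔ ((augI k A) ^ 2).restrictScalars k

theorem mem_augI_iff (a : A) : a ∈ augI k A ↔ CoalgebraStruct.counit (R := k) a = 0 := Iff.rfl

theorem sub_counit_mem_augI (a : A) :
    a - (CoalgebraStruct.counit (R := k) a) • (1 : A) ∈ augI k A := by
  rw [mem_augI_iff, map_sub, map_smul, Bialgebra.counit_one]
  simp

/-- The cotangent projection `A → A/(k + I²)`. -/
noncomputable def cotL : A →ₗ[k] (A ⧸ Nsq k A) := (Nsq k A).mkQ

theorem cotL_one : cotL (k := k) (A := A) 1 = 0 := by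
  rw [cotL, Submodule.mkQ_apply, Submodule.Quotient.mk_eq_zero]
  exact Submodule.mem_sup_left (Submodule.mem_span_singleton_self _)

theorem cotL_sq {a : A} (ha : a ∈ augI k A ^ 2) : cotL (k := k) (A := A) a = 0 := by
  rw [cotL, Submodule.mkQ_apply, Submodule.Quotient.mk_eq_zero]
  exact Submodule.mem_sup_right ha

theorem cotL_mul (a b : A) : cotL (k := k) (a * b) =
    CoalgebraStruct.counit (R := k) a • cotL (k := k) b +
      CoalgebraStruct.counit (R := k) b • cotL (k := k) a := by
  have e : a * b = (a - (CoalgebraStruct.counit (R := k) a) • (1 : A)) *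
      (b - (CoalgebraStruct.counit (R := k) b) • (1 : A)) +
      (CoalgebraStruct.counit (R := k) a • b + CoalgebraStruct.counit (R := k) b • a -
        (CoalgebraStruct.counit (R := k) a * CoalgebraStruct.counit (R := k) b) • (1 : A)) := by
    simp only [Algebra.smul_def, mul_one, map_mul]
    ring
  have h1 : cotL (k := k) ((a - (CoalgebraStruct.counit (R := k) a) • (1 : A)) *
      (b - (CoalgebraStruct.counit (R := k) b) • (1 : A))) = 0 := by
    apply cotL_sq
    rw [pow_two]
    exact Ideal.mul_mem_mul (sub_counit_mem_augI a) (sub_counit_mem_augI b)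
  conv_lhs => rw [e]
  rw [map_add, h1, zero_add, map_sub, map_add, map_smul, map_smul, map_smul, cotL_one, smul_zero,
    sub_zero]

theorem mem_sq_of_cotL_eq_zero {z : A} (hz : z ∈ augI k A) (h : cotL (k := k) z = 0) :
    z ∈ augI k A ^ 2 := by
  rw [cotL, Submodule.mkQ_apply, Submodule.Quotient.mk_eq_zero] at h
  obtain ⟨y, hy, w, hw, rfl⟩ := Submodule.mem_sup.mp h
  obtain ⟨c, rfl⟩ := Submodule.mem_span_singleton.mp hy
  have hw' : w ∈ augI k A ^ 2 := hw
  have hw1 : w ∈ augI k A := Ideal.pow_le_self (by norm_num) hw'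
  have hc : c = 0 := by
    have h2 := (mem_augI_iff _).mp hz
    rw [map_add, map_smul, Bialgebra.counit_one, (mem_augI_iff _).mp hw1] at h2
    simpa using h2
  rw [hc, zero_smul, zero_add]
  exact hw'

theorem cotL_finite [IsNoetherianRing A] : Module.Finite k (A ⧸ Nsq k A) := by
  classical
  obtain ⟨S, hS⟩ := (IsNoetherian.noetherian (augI k A) : (augI k A).FG)
  have key : ∀ a ∈ augI k A, cotL (k := k) a ∈
      Submodule.span k ((cotL (k := k) (A := A)) '' (S : Set A)) := by
    intro a ha
    rw [← hS] at ha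
    have hle : Ideal.span (S : Set A) ≤ augI k A := hS.le
    refine Submodule.span_induction (p := fun a _ => cotL (k := k) a ∈
      Submodule.span k ((cotL (k := k) (A := A)) '' (S : Set A))) ?_ ?_ ?_ ?_ ha
    · intro s hs
      exact Submodule.subset_span ⟨s, hs, rfl⟩
    · rw [map_zero]; exact Submodule.zero_mem _
    · intro y z _ _ hy hz
      rw [map_add]; exact Submodule.add_mem _ hy hz
    · intro r y hy hy'
      rw [smul_eq_mul, cotL_mul, (mem_augI_iff y).mp (hle hy), zero_smul, add_zero]
      exact Submodule.smul_mem _ _ hy'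
  refine ⟨⟨S.image (cotL (k := k) (A := A)), ?_⟩⟩
  rw [Finset.coe_image, eq_top_iff]
  intro v _
  obtain ⟨a, rfl⟩ := Submodule.mkQ_surjective (Nsq k A) v
  have h1 : cotL (k := k) a = cotL (k := k) (a - (CoalgebraStruct.counit (R := k) a) • (1 : A)) := by
    rw [map_sub, map_smul, cotL_one, smul_zero, sub_zero]
  change cotL (k := k) a ∈ _
  rw [h1]
  exact key _ (sub_counit_mem_augI a)

theorem exists_dual_family [IsNoetherianRing A] :
    ∃ (n : ℕ) (x : Fin n → A) (ξ : Fin n → (A →ₗ[k] k)),
      (∀ i, x i ∈ augI k A) ∧ (∀ i, IsEpsDer (ξ i)) ∧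
        ∀ b ∈ augI k A, b - ∑ i, ξ i b • x i ∈ augI k A ^ 2 := by
  have := cotL_finite (k := k) (A := A)
  let bs := Module.finBasis k (A ⧸ Nsq k A)
  have hy : ∀ i, ∃ y : A, cotL (k := k) y = bs i := fun i =>
    Submodule.mkQ_surjective (Nsq k A) (bs i)
  choose y hy using hy
  refine ⟨_, fun i => y i - (CoalgebraStruct.counit (R := k) (y i)) • (1 : A),
    fun i => bs.coord i ∘ₗ cotL (k := k) (A := A), fun i => sub_counit_mem_augI _, ?_, ?_⟩
  · intro i a b
    rw [LinearMap.comp_apply, cotL_mul, map_add, map_smul, map_smul]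
    simp only [LinearMap.comp_apply, smul_eq_mul]
    ring
  · intro b hb
    apply mem_sq_of_cotL_eq_zero
    · refine Ideal.sub_mem _ hb (Ideal.sum_mem _ (fun i _ => ?_))
      exact Submodule.smul_of_tower_mem _ _ (sub_counit_mem_augI _)
    · rw [map_sub, map_sum, sub_eq_zero]
      have h2 : ∀ i, cotL (k := k) ((bs.coord i ∘ₗ cotL (k := k) (A := A)) b •
          (y i - (CoalgebraStruct.counit (R := k) (y i)) • (1 : A))) =
          bs.repr (cotL (k := k) b) i • bs i := by
        intro i
        rw [map_smul, map_sub, map_smul, cotL_one, smul_zero, sub_zero, hy]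
        rfl
      rw [Finset.sum_congr rfl (fun i _ => h2 i)]
      exact (bs.sum_repr _).symm

end Dual

section Prim

variable {k : Type u} [Field k] {A : Type v} [CommRing A] [HopfAlgebra k A]

theorem slice_one_tmul_mul (φ : A →ₗ[k] k) (m : A) (z : A ⊗[k] A) :
    slice A φ (((1 : A) ⊗ₜ[k] m) * z) = slice A (φ ∘ₗ LinearMap.mulLeft k m) z := by
  induction z using TensorProduct.induction_on with
  | zero => simp
  | add x y hx hy => simp only [mul_add, map_add, hx, hy]
  | tmul x y =>
    rw [Algebra.TensorProduct.tmul_mul_tmul, one_mul, slice_tmul, slice_tmul]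
    rfl

theorem T_prim_mul {x : A} (hx : IsPrim (k := k) x) (ψ : A →ₗ[k] k) (a : A) :
    T (V := A) ψ (x * a) =
      x * T (V := A) ψ a + T (V := A) (ψ ∘ₗ LinearMap.mulLeft k x) a := by
  rw [T_apply, T_apply, T_apply]
  change slice A ψ (CoalgebraStruct.comul (R := k) (x * a)) =
    x * slice A ψ (CoalgebraStruct.comul (R := k) a) +
      slice A (ψ ∘ₗ LinearMap.mulLeft k x) (CoalgebraStruct.comul (R := k) a)
  have hx' : CoalgebraStruct.comul (R := k) x = x ⊗ₜ[k] (1 : A) + (1 : A) ⊗ₜ[k] x := hx
  rw [Bialgebra.comul_mul, hx', add_mul, map_add, slice_tmul_one_mul, slice_one_tmul_mul]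

theorem T_prim {x : A} (hx : IsPrim (k := k) x) (ψ : A →ₗ[k] k) :
    T (V := A) ψ x = ψ 1 • x + ψ x • (1 : A) := by
  rw [T_apply]
  change slice A ψ (CoalgebraStruct.comul (R := k) x) = _
  have hx' : CoalgebraStruct.comul (R := k) x = x ⊗ₜ[k] (1 : A) + (1 : A) ⊗ₜ[k] x := hx
  rw [hx', map_add, slice_tmul, slice_tmul]

variable (k) in
/-- The span of the powers `x^i`, `i < j`. -/
def powLT (x : A) (j : ℕ) : Submodule k A :=
  Submodule.span k {a | ∃ i < j, a = x ^ i}

theorem pow_mem_powLT (x : A) {i j : ℕ} (h : i < j) : x ^ i ∈ powLT k x j :=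
  Submodule.subset_span ⟨i, h, rfl⟩

theorem powLT_mono (x : A) {i j : ℕ} (h : i ≤ j) : powLT k x i ≤ powLT k x j := by
  apply Submodule.span_mono
  rintro a ⟨l, hl, rfl⟩
  exact ⟨l, lt_of_lt_of_le hl h, rfl⟩

theorem mul_mem_powLT (x : A) {j : ℕ} {a : A} (ha : a ∈ powLT k x j) :
    x * a ∈ powLT k x (j + 1) := by
  refine Submodule.span_induction (p := fun a _ => x * a ∈ powLT k x (j + 1)) ?_ ?_ ?_ ?_ ha
  · rintro _ ⟨i, hi, rfl⟩
    rw [← pow_succ']
    exact pow_mem_powLT x (by omega)
  · rw [mul_zero]; exact Submodule.zero_mem _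
  · intro y z _ _ hy hz
    rw [mul_add]; exact Submodule.add_mem _ hy hz
  · intro c y _ hy
    rw [mul_smul_comm]; exact Submodule.smul_mem _ _ hy

theorem T_pow_sub_mem_powLT {x : A} (hx : IsPrim (k := k) x) (j : ℕ) :
    ∀ ψ : A →ₗ[k] k, T (V := A) ψ (x ^ j) - ψ 1 • x ^ j ∈ powLT k x j := by
  induction j with
  | zero =>
    intro ψ
    rw [pow_zero, T_one, sub_self]
    exact Submodule.zero_mem _
  | succ j ih =>
    intro ψ
    have e : T (V := A) ψ (x ^ (j + 1)) - ψ 1 • x ^ (j + 1) =
        x * (T (V := A) ψ (x ^ j) - ψ 1 • x ^ j) +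
          ((T (V := A) (ψ ∘ₗ LinearMap.mulLeft k x) (x ^ j) -
            (ψ ∘ₗ LinearMap.mulLeft k x) 1 • x ^ j) +
            (ψ ∘ₗ LinearMap.mulLeft k x) 1 • x ^ j) := by
      rw [pow_succ', T_prim_mul hx, mul_sub, mul_smul_comm]
      abel
    rw [e]
    refine Submodule.add_mem _ (mul_mem_powLT x (ih ψ)) (Submodule.add_mem _ ?_ ?_)
    · exact powLT_mono x (Nat.le_succ j) (ih _)
    · exact Submodule.smul_mem _ _ (pow_mem_powLT x (Nat.lt_succ_self j))

theorem T_pow_succ_sub_mem_powLT {x : A} (hx : IsPrim (k := k) x) (φ : A →ₗ[k] k)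
    (h1 : φ 1 = 0) (hφx : φ x = 1) (j : ℕ) :
    T (V := A) φ (x ^ (j + 1)) - ((j + 1 : ℕ) : k) • x ^ j ∈ powLT k x j := by
  induction j with
  | zero =>
    rw [zero_add, pow_one, T_prim hx, h1, hφx, zero_smul, zero_add, pow_zero, Nat.cast_one,
      sub_self]
    exact Submodule.zero_mem _
  | succ j ih =>
    have hM : (φ ∘ₗ LinearMap.mulLeft k x) 1 = 1 := by
      rw [LinearMap.comp_apply, LinearMap.mulLeft_apply, mul_one, hφx]
    have e : T (V := A) φ (x ^ (j + 1 + 1)) - ((j + 1 + 1 : ℕ) : k) • x ^ (j + 1) =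
        x * (T (V := A) φ (x ^ (j + 1)) - ((j + 1 : ℕ) : k) • x ^ j) +
          (T (V := A) (φ ∘ₗ LinearMap.mulLeft k x) (x ^ (j + 1)) -
            (φ ∘ₗ LinearMap.mulLeft k x) 1 • x ^ (j + 1)) := by
      rw [pow_succ' x (j + 1), T_prim_mul hx, mul_sub, mul_smul_comm, ← pow_succ' x j, hM]
      rw [Nat.cast_succ (j + 1), add_smul, one_smul]
      abel
    rw [e]
    exact Submodule.add_mem _ (mul_mem_powLT x ih) (T_pow_sub_mem_powLT hx (j + 1) _)

theorem one_notMem_span_of_isPrim {x : A} (hx : IsPrim (k := k) x) (h0 : x ≠ 0) :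
    x ∉ Submodule.span k {(1 : A)} := by
  intro h
  obtain ⟨c, rfl⟩ := Submodule.mem_span_singleton.mp h
  have h1 := hx.counit_eq_zero
  rw [map_smul, Bialgebra.counit_one, smul_eq_mul, mul_one] at h1
  apply h0
  rw [h1, zero_smul]

theorem pow_notMem_powLT [CharZero k] {x : A} (hx : IsPrim (k := k) x) (h0 : x ≠ 0) (j : ℕ) :
    x ^ j ∉ powLT k x j := by
  obtain ⟨f, hfx, hf0⟩ := Submodule.exists_le_ker_of_notMem (one_notMem_span_of_isPrim hx h0)
  set φ : A →ₗ[k] k := (f x)⁻¹ • f with hφ
  have h1 : φ 1 = 0 := by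
    have : f 1 = 0 := hf0 (Submodule.mem_span_singleton_self _)
    rw [hφ, LinearMap.smul_apply, this, smul_zero]
  have hφx : φ x = 1 := by
    rw [hφ, LinearMap.smul_apply, smul_eq_mul, inv_mul_cancel₀ hfx]
  induction j with
  | zero =>
    intro h
    have hbot : powLT k x 0 = ⊥ := by
      rw [powLT, Submodule.span_eq_bot]
      rintro a ⟨i, hi, _⟩
      omega
    rw [hbot, Submodule.mem_bot, pow_zero] at h
    have h2 := congrArg (CoalgebraStruct.counit (R := k) (A := A)) h
    rw [Bialgebra.counit_one, map_zero] at h2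
    exact one_ne_zero h2
  | succ j ih =>
    intro h
    apply ih
    have hmap : ∀ a ∈ powLT k x (j + 1), T (V := A) φ a ∈ powLT k x j := by
      intro a ha
      refine Submodule.span_induction (p := fun a _ => T (V := A) φ a ∈ powLT k x j)
        ?_ ?_ ?_ ?_ ha
      · rintro _ ⟨i, hi, rfl⟩
        have := T_pow_sub_mem_powLT hx i φ
        rw [h1, zero_smul, sub_zero] at this
        exact powLT_mono x (by omega) this
      · rw [map_zero]; exact Submodule.zero_mem _
      · intro y z _ _ hy hz
        rw [map_add]; exact Submodule.add_mem _ hy hz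
      · intro c y _ hy
        rw [map_smul]; exact Submodule.smul_mem _ _ hy
    have h2 := hmap _ h
    have h3 := T_pow_succ_sub_mem_powLT hx φ h1 hφx j
    have h4 : ((j + 1 : ℕ) : k) • x ^ j ∈ powLT k x j := by
      have := Submodule.sub_mem _ h2 h3
      rwa [sub_sub_cancel] at this
    have hne : ((j + 1 : ℕ) : k) ≠ 0 := Nat.cast_ne_zero.mpr (Nat.succ_ne_zero j)
    have h5 : x ^ j = (((j + 1 : ℕ) : k))⁻¹ • (((j + 1 : ℕ) : k) • x ^ j) := by
      rw [smul_smul, inv_mul_cancel₀ hne, one_smul]
    rw [h5]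
    exact Submodule.smul_mem _ _ h4

theorem transcendental_of_isPrim [CharZero k] {x : A} (hx : IsPrim (k := k) x) (h0 : x ≠ 0) :
    Transcendental k x := by
  rw [transcendental_iff]
  intro q hq
  by_contra hne
  apply pow_notMem_powLT hx h0 q.natDegree
  rw [Polynomial.aeval_eq_sum_range, Finset.sum_range_succ] at hq
  have hlead : q.coeff q.natDegree ≠ 0 := by
    rw [Polynomial.coeff_natDegree]
    exact Polynomial.leadingCoeff_ne_zero.mpr hne
  have h1 : q.coeff q.natDegree • x ^ q.natDegree =
      -∑ i ∈ Finset.range q.natDegree, q.coeff i • x ^ i := eq_neg_of_add_eq_zero_right hq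
  have h2 : x ^ q.natDegree = (q.coeff q.natDegree)⁻¹ •
      (q.coeff q.natDegree • x ^ q.natDegree) := by
    rw [smul_smul, inv_mul_cancel₀ hlead, one_smul]
  rw [h2, h1]
  refine Submodule.smul_mem _ _ (Submodule.neg_mem _ (Submodule.sum_mem _ (fun i hi => ?_)))
  exact Submodule.smul_mem _ _ (pow_mem_powLT x (Finset.mem_range.mp hi))

/-- A nonzero primitive element of a commutative Hopf algebra over a field of characteristic
zero is a non-zero-divisor. -/
theorem eq_zero_of_isPrim_mul [CharZero k] {x : A} (hx : IsPrim (k := k) x) (h0 : x ≠ 0)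
    (a : A) (ha : x * a = 0) : a = 0 := by
  have htr := transcendental_of_isPrim hx h0
  haveI : Module.Flat ↥(Algebra.adjoin k {x}) A :=
    flat_of_isHopfSubalgebra (Algebra.adjoin k {x}) (comul_mem_adjoin_of_isPrim hx)
      (antipode_mem_adjoin_of_isPrim hx)
  let e := Polynomial.algEquivOfTranscendental k x htr
  haveI : IsDomain ↥(Algebra.adjoin k {x}) := e.symm.toMulEquiv.isDomain k[X]
  set xB : ↥(Algebra.adjoin k {x}) := ⟨x, Algebra.subset_adjoin rfl⟩ with hxB
  have hxB0 : xB ≠ 0 := by
    intro h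
    apply h0
    exact congrArg Subtype.val h
  have hreg : IsSMulRegular ↥(Algebra.adjoin k {x}) xB :=
    (isRegular_of_ne_zero hxB0).left.isSMulRegular
  have h2 : IsSMulRegular A (algebraMap ↥(Algebra.adjoin k {x}) A xB) :=
    IsSMulRegular.of_flat hreg
  apply h2
  change x * a = x * 0
  rw [ha, mul_zero]

end Prim

section CT

variable {k : Type u} [Field k] [CharZero k] {A : Type v} [CommRing A] [HopfAlgebra k A]

/-- Lemma 1: a primitive element whose differential vanishes is zero (characteristic zero). -/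
theorem eq_zero_of_isPrim_of_mem_Ninf [IsNoetherianRing A] {x : A} (hx : IsPrim (k := k) x)
    (hN : x ∈ Ninf k A) : x = 0 := by
  obtain ⟨n, xs, ξs, hxs, hξs, hdual⟩ := exists_dual_family (k := k) (A := A)
  have h1 := Ninf_le_augInf xs ξs hxs hξs hdual x hN
  obtain ⟨r, hr, hrx⟩ := exists_mul_eq_self_of_mem_augInf x h1
  by_contra h0
  have h2 : x * (r - 1) = 0 := by rw [mul_sub, mul_one, mul_comm, hrx, sub_self]
  have h3 := eq_zero_of_isPrim_mul hx h0 _ h2
  have h4 : r = 1 := sub_eq_zero.mp h3
  rw [h4] at hr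
  have : CoalgebraStruct.counit (R := k) (1 : A) = 0 := hr
  rw [Bialgebra.counit_one] at this
  exact one_ne_zero this

omit [CharZero k] in
theorem iterT_eq_zero_of_T_eq_zero {b : A}
    (h : ∀ ξ : A →ₗ[k] k, IsEpsDer ξ → T (V := A) ξ b = 0) (l : List (A →ₗ[k] k))
    (hl : ∀ ξ ∈ l, IsEpsDer ξ) (hne : l ≠ []) : iterT l b = 0 := by
  rcases List.eq_nil_or_concat l with h1 | ⟨L, ξ, rfl⟩
  · exact absurd h1 hne
  · rw [List.concat_eq_append, iterT_append]
    have : iterT [ξ] b = 0 := by
      rw [iterT_cons, iterT_nil, LinearMap.comp_apply, LinearMap.id_apply]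
      exact h ξ (hl ξ (by simp))
    rw [this, map_zero]

omit [CharZero k] in
theorem mem_Ninf_of_T_eq_zero {b : A}
    (h : ∀ ξ : A →ₗ[k] k, IsEpsDer ξ → T (V := A) ξ b = 0)
    (hε : CoalgebraStruct.counit (R := k) b = 0) : b ∈ Ninf k A := by
  intro l hl
  by_cases hne : l = []
  · subst hne
    simpa using hε
  · rw [iterT_eq_zero_of_T_eq_zero h l hl hne, map_zero]

/-- A function killed by all invariant derivations and vanishing at the identity is zero on a
unipotent group in characteristic zero (filtration step). -/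
theorem eq_zero_of_T_eq_zero_of_mem_Cp [IsNoetherianRing A] (n : ℕ) :
    ∀ b ∈ Cp k A n, (∀ ξ : A →ₗ[k] k, IsEpsDer ξ → T (V := A) ξ b = 0) →
      CoalgebraStruct.counit (R := k) b = 0 → b = 0 := by
  induction n with
  | zero =>
    intro b hb _ _
    simpa [Cp] using hb
  | succ n ih =>
    intro b hb hT hε
    have key : ∀ u : A →ₗ[k] k, u 1 = 0 → coeffMap (A := A) u b = u b • (1 : A) := by
      intro u hu
      have hc : coeffMap (A := A) u b ∈ Cp k A n := by
        apply coeffMap_mem_Cp 1 n (by rw [add_comm]; exact hb) u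
        rw [Cp_one, Submodule.span_le, Set.singleton_subset_iff]
        exact hu
      have hc' : coeffMap (A := A) u b - u b • (1 : A) ∈ Cp k A n := by
        cases n with
        | zero =>
          have h0 : coeffMap (A := A) u b = 0 := by simpa [Cp] using hc
          have h1 : u b = 0 := by rw [← counit_coeffMap (A := A) u b, h0, map_zero]
          rw [h0, h1, zero_smul, sub_zero]
          exact Submodule.zero_mem _
        | succ n =>
          refine Submodule.sub_mem _ hc (Submodule.smul_mem _ _ ?_)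
          apply Cp_mono (Nat.succ_le_succ (Nat.zero_le n))
          rw [Cp_one]
          exact Submodule.mem_span_singleton_self _
      have h2 : coeffMap (A := A) u b - u b • (1 : A) = 0 := by
        apply ih _ hc'
        · intro ξ hξ
          rw [map_sub, map_smul, T_one_of_isEpsDer hξ, smul_zero, sub_zero, T_coeffMap, hT ξ hξ,
            map_zero]
        · rw [map_sub, map_smul, counit_coeffMap, Bialgebra.counit_one, smul_eq_mul, mul_one,
            sub_self]
      exact sub_eq_zero.mp h2
    have hcε : coeffMap (A := A) (CoalgebraStruct.counit (R := k) (A := A)) b = b := by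
      rw [coeffMap_apply]
      change lslice (CoalgebraStruct.counit (R := k) (A := A))
        (CoalgebraStruct.comul (R := k) b) = b
      have := Coalgebra.rTensor_counit_comul (R := k) b
      rw [lslice, LinearMap.comp_apply, this]
      simp
    have hprim : IsPrim (k := k) b := by
      have hz : CoalgebraStruct.comul (R := k) b - (b ⊗ₜ[k] (1 : A) + (1 : A) ⊗ₜ[k] b) = 0 := by
        apply eq_zero_of_lslice_eq_zero
        intro l
        have hu : (l - l 1 • CoalgebraStruct.counit (R := k) (A := A)) 1 = 0 := by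
          simp [Bialgebra.counit_one]
        have h1 := key _ hu
        have h2 : l = (l - l 1 • CoalgebraStruct.counit (R := k) (A := A)) +
            l 1 • CoalgebraStruct.counit (R := k) (A := A) := by abel
        have h3 : coeffMap (A := A) l b = l b • (1 : A) + l 1 • b := by
          conv_lhs => rw [h2]
          rw [coeffMap_add, LinearMap.add_apply, h1, coeffMap_smul, LinearMap.smul_apply, hcε]
          simp [hε]
        rw [map_sub, map_add, lslice_tmul, lslice_tmul]
        change coeffMap (A := A) l b - _ = 0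
        rw [h3, sub_self]
      exact sub_eq_zero.mp hz
    exact eq_zero_of_isPrim_of_mem_Ninf hprim (mem_Ninf_of_T_eq_zero hT hε)

/-- Core theorem: on a finitely generated unipotent Hopf algebra over a field of
characteristic zero, the iterated invariant derivatives at the identity separate functions. -/
theorem Ninf_eq_bot [IsNoetherianRing A] (hU : IsUnipotent k A) : Ninf k A = ⊥ := by
  rw [eq_bot_iff]
  have key : ∀ n : ℕ, ∀ b ∈ Cp k A n, b ∈ Ninf k A → b = 0 := by
    intro n
    induction n with
    | zero =>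
      intro b hb _
      simpa [Cp] using hb
    | succ n ih =>
      intro b hb hN
      apply eq_zero_of_T_eq_zero_of_mem_Cp (n + 1) b hb
      · intro ξ hξ
        apply ih
        · rw [mem_Cp_succ] at hb
          exact hb ξ hξ.map_one
        · exact T_mem_Ninf hξ hN
      · exact counit_of_mem_Ninf hN
  intro b hb
  obtain ⟨m, hm⟩ := mem_Cp_of_trivFlag hU b
  rw [Submodule.mem_bot]
  exact key m b hm hb

/-- Consequence: a function killed by all invariant derivations is constant. -/
theorem eq_smul_one_of_T_eq_zero [IsNoetherianRing A] (hU : IsUnipotent k A) (b : A)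
    (hT : ∀ ξ : A →ₗ[k] k, IsEpsDer ξ → T (V := A) ξ b = 0) :
    b = CoalgebraStruct.counit (R := k) b • (1 : A) := by
  have h1 : b - CoalgebraStruct.counit (R := k) b • (1 : A) ∈ Ninf k A := by
    apply mem_Ninf_of_T_eq_zero
    · intro ξ hξ
      rw [map_sub, map_smul, hT ξ hξ, T_one_of_isEpsDer hξ, smul_zero, sub_zero]
    · rw [map_sub, map_smul, Bialgebra.counit_one, smul_eq_mul, mul_one, sub_self]
  rw [Ninf_eq_bot hU, Submodule.mem_bot] at h1
  exact sub_eq_zero.mp h1

end CT

section ComodIter

variable {k : Type u} [Field k] {A : Type v} [CommRing A] [Bialgebra k A]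
variable (V : Type w) [AddCommGroup V] [Module k V] [Comod k A V]

/-- The composite of the operators `T ξ` on a comodule along a list. -/
noncomputable def iterTV (l : List (A →ₗ[k] k)) : V →ₗ[k] V :=
  (l.map (fun ξ => T (V := V) ξ)).foldr (fun f g => f ∘ₗ g) LinearMap.id

@[simp] theorem iterTV_nil : iterTV (k := k) (A := A) V [] = LinearMap.id := rfl

@[simp] theorem iterTV_cons (ξ : A →ₗ[k] k) (l : List (A →ₗ[k] k)) :
    iterTV V (ξ :: l) = T (V := V) ξ ∘ₗ iterTV V l := rfl

variable {V}

theorem iterT_coeffMap (u : V →ₗ[k] k) (l : List (A →ₗ[k] k)) (v : V) :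
    iterT l (coeffMap (A := A) u v) = coeffMap (A := A) u (iterTV V l v) := by
  induction l with
  | nil => rfl
  | cons ξ l ih =>
    rw [iterT_cons, LinearMap.comp_apply, ih, T_coeffMap, iterTV_cons, LinearMap.comp_apply]

theorem iterTV_mem {W : Submodule k V}
    (hW : ∀ ξ : A →ₗ[k] k, IsEpsDer ξ → ∀ w ∈ W, T (V := V) ξ w ∈ W)
    (l : List (A →ₗ[k] k)) (hl : ∀ ξ ∈ l, IsEpsDer ξ) {w : V} (hw : w ∈ W) :
    iterTV V l w ∈ W := by
  induction l with
  | nil => exact hw
  | cons ξ l ih =>
    rw [iterTV_cons, LinearMap.comp_apply]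
    exact hW ξ (hl ξ (by simp)) _ (ih (fun η hη => hl η (by simp [hη])))

end ComodIter

section ComodCT

variable {k : Type u} [Field k] [CharZero k] {A : Type v} [CommRing A] [HopfAlgebra k A]
variable [IsNoetherianRing A]
variable {V : Type w} [AddCommGroup V] [Module k V] [Comod k A V]

/-- A matrix coefficient all of whose iterated derivatives vanish at the identity is zero. -/
theorem coeffMap_eq_zero_of_iter (hU : IsUnipotent k A) (u : V →ₗ[k] k) (v : V)
    (h : ∀ l : List (A →ₗ[k] k), (∀ ξ ∈ l, IsEpsDer ξ) → u (iterTV V l v) = 0) :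
    coeffMap (A := A) u v = 0 := by
  have h1 : coeffMap (A := A) u v ∈ Ninf k A := by
    intro l hl
    rw [iterT_coeffMap, counit_coeffMap]
    exact h l hl
  rw [Ninf_eq_bot hU, Submodule.mem_bot] at h1
  exact h1

/-- A vector killed by the Lie algebra is invariant. -/
theorem coact_eq_of_T_eq_zero (hU : IsUnipotent k A) (v : V)
    (h : ∀ ξ : A →ₗ[k] k, IsEpsDer ξ → T (V := V) ξ v = 0) :
    Comod.coact (k := k) (A := A) v = v ⊗ₜ[k] (1 : A) := by
  have hz : Comod.coact (k := k) (A := A) v - v ⊗ₜ[k] (1 : A) = 0 := by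
    apply eq_zero_of_lslice_eq_zero
    intro u
    have h1 : coeffMap (A := A) u v = u v • (1 : A) := by
      have := eq_smul_one_of_T_eq_zero hU (coeffMap (A := A) u v) (fun ξ hξ => by
        rw [T_coeffMap, h ξ hξ, map_zero])
      rw [counit_coeffMap] at this
      exact this
    rw [map_sub, lslice_tmul, ← coeffMap_apply, h1, sub_self]
  exact sub_eq_zero.mp hz

/-- A subspace stable under the Lie algebra is a subcomodule. -/
theorem isSubcomod_of_T_mem (hU : IsUnipotent k A) (W : Submodule k V)
    (hW : ∀ ξ : A →ₗ[k] k, IsEpsDer ξ → ∀ w ∈ W, T (V := V) ξ w ∈ W) :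
    IsSubcomod (k := k) (A := A) W := by
  rw [isSubcomod_iff]
  intro φ w hw
  by_contra hn
  obtain ⟨u, hux, hu0⟩ := Submodule.exists_le_ker_of_notMem hn
  apply hux
  have h1 : coeffMap (A := A) u w = 0 := by
    apply coeffMap_eq_zero_of_iter hU
    intro l hl
    exact hu0 (iterTV_mem hW l hl hw)
  rw [T_apply, ← apply_lslice, ← coeffMap_apply, h1, map_zero]

variable {V' : Type w'} [AddCommGroup V'] [Module k V'] [Comod k A V']

/-- A linear map intertwining the Lie algebra actions is a comodule map. -/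
theorem coact_comm_of_T_comm (hU : IsUnipotent k A) (e : V →ₗ[k] V')
    (h : ∀ ξ : A →ₗ[k] k, IsEpsDer ξ → ∀ f : V, T (V := V') ξ (e f) = e (T (V := V) ξ f))
    (f : V) :
    Comod.coact (k := k) (A := A) (e f) = e.rTensor A (Comod.coact (k := k) (A := A) f) := by
  have hiter : ∀ l : List (A →ₗ[k] k), (∀ ξ ∈ l, IsEpsDer ξ) →
      iterTV V' l (e f) = e (iterTV V l f) := by
    intro l hl
    induction l with
    | nil => rfl
    | cons ξ l ih =>
      rw [iterTV_cons, LinearMap.comp_apply, ih (fun η hη => hl η (by simp [hη])),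
        h ξ (hl ξ (by simp)), iterTV_cons, LinearMap.comp_apply]
  have hz : Comod.coact (k := k) (A := A) (e f) -
      e.rTensor A (Comod.coact (k := k) (A := A) f) = 0 := by
    apply eq_zero_of_lslice_eq_zero
    intro u
    rw [map_sub, lslice_rTensor, ← coeffMap_apply, ← coeffMap_apply]
    have h1 : coeffMap (A := A) u (e f) - coeffMap (A := A) (u ∘ₗ e) f ∈ Ninf k A := by
      intro l hl
      rw [map_sub, map_sub, iterT_coeffMap, iterT_coeffMap, counit_coeffMap, counit_coeffMap,
        hiter l hl, LinearMap.comp_apply, sub_self]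
    rw [Ninf_eq_bot hU, Submodule.mem_bot] at h1
    exact h1
  exact sub_eq_zero.mp hz

end ComodCT

section LieConv

variable {k : Type u} [Field k] {A : Type u} [CommRing A] [HopfAlgebra k A]

/-- The functional underlying an element of the Lie algebra. -/
def lieFun (ξ : LieHopf.Lie k A) : A →ₗ[k] k := ξ.toLinearMap.restrictScalars k

theorem lieFun_apply (ξ : LieHopf.Lie k A) (a : A) : lieFun ξ a = (ξ a : LieHopf.K k A) := rfl

theorem isEpsDer_lieFun (ξ : LieHopf.Lie k A) : IsEpsDer (lieFun ξ) := by
  intro a b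
  have h := ξ.leibniz a b
  rw [LieHopf.smul_def, LieHopf.smul_def] at h
  change lieFun ξ (a * b) = (Bialgebra.counitAlgHom k A a : k) * lieFun ξ b +
    lieFun ξ a * (Bialgebra.counitAlgHom k A b : k)
  rw [mul_comm (lieFun ξ a)]
  exact h

/-- The Lie algebra element attached to an `ε`-derivation functional. -/
def lieOf (η : A →ₗ[k] k) (h : IsEpsDer η) : LieHopf.Lie k A where
  toLinearMap := (η : A →ₗ[k] LieHopf.K k A)
  map_one_eq_zero' := h.map_one
  leibniz' := by
    intro a b
    rw [LieHopf.smul_def, LieHopf.smul_def]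
    change η (a * b) = (Bialgebra.counitAlgHom k A a : k) * η b +
      (Bialgebra.counitAlgHom k A b : k) * η a
    rw [h a b, mul_comm (η a)]
    rfl

theorem lieFun_lieOf (η : A →ₗ[k] k) (h : IsEpsDer η) : lieFun (lieOf η h) = η := rfl

variable {V : Type w} [AddCommGroup V] [Module k V]

theorem rid_lTensor_lie (ξ : LieHopf.Lie k A) (z : V ⊗[k] A) :
    TensorProduct.rid k V
      (show V ⊗[k] k from LinearMap.lTensor V (ξ.toLinearMap.restrictScalars k) z) =
      slice V (lieFun ξ) z := rfl

theorem lTensor_lie_eq_zero_iff (ξ : LieHopf.Lie k A) (z : V ⊗[k] A) :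
    LinearMap.lTensor V (ξ.toLinearMap.restrictScalars k) z = 0 ↔ slice V (lieFun ξ) z = 0 := by
  rw [← rid_lTensor_lie]
  exact (LinearEquiv.map_eq_zero_iff (TensorProduct.rid k V)).symm

theorem rid_rTensor {V' : Type w'} [AddCommGroup V'] [Module k V'] (e : V →ₗ[k] V')
    (y : V ⊗[k] k) : TensorProduct.rid k V' (e.rTensor k y) = e (TensorProduct.rid k V y) := by
  induction y using TensorProduct.induction_on with
  | zero => simp
  | add x y hx hy => simp only [map_add, hx, hy]
  | tmul v c => simp

theorem mem_range_rTensor_base_iff (W : Submodule k V) (y : V ⊗[k] k) :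
    y ∈ LinearMap.range (W.subtype.rTensor k) ↔ TensorProduct.rid k V y ∈ W := by
  constructor
  · rintro ⟨w, rfl⟩
    rw [rid_rTensor]
    exact (TensorProduct.rid k W w).2
  · intro h
    refine ⟨(⟨TensorProduct.rid k V y, h⟩ : W) ⊗ₜ[k] (1 : k), ?_⟩
    apply (TensorProduct.rid k V).injective
    rw [rid_rTensor]
    simp

end LieConv

section LieThms

variable {k : Type u} [Field k] [CharZero k] {A : Type u} [CommRing A] [HopfAlgebra k A]
variable [IsNoetherianRing A]
variable {V : Type u} [AddCommGroup V] [Module k V] [Comod k A V]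

theorem coact_eq_iff_lie (hU : IsUnipotent k A) (f : V) :
    Comod.coact (k := k) (A := A) f = f ⊗ₜ[k] (1 : A) ↔
      ∀ ξ : LieHopf.Lie k A,
        LinearMap.lTensor V (ξ.toLinearMap.restrictScalars k)
          (Comod.coact (k := k) (A := A) f) = 0 := by
  constructor
  · intro h ξ
    rw [lTensor_lie_eq_zero_iff, h, slice_tmul, (isEpsDer_lieFun ξ).map_one, zero_smul]
  · intro h
    apply coact_eq_of_T_eq_zero hU
    intro η hη
    have := (lTensor_lie_eq_zero_iff (lieOf η hη) _).mp (h (lieOf η hη))
    rw [lieFun_lieOf] at this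
    rw [T_apply]
    exact this

theorem isSubcomod_iff_lie (hU : IsUnipotent k A) (W : Submodule k V) :
    IsSubcomod (k := k) (A := A) W ↔
      ∀ (ξ : LieHopf.Lie k A) (v : V), v ∈ W →
        LinearMap.lTensor V (ξ.toLinearMap.restrictScalars k)
          (Comod.coact (k := k) (A := A) v) ∈
          LinearMap.range (LinearMap.rTensor (LieHopf.K k A) W.subtype) := by
  constructor
  · intro h ξ v hv
    have h1 := (isSubcomod_iff W).mp h (lieFun ξ) v hv
    rw [T_apply, ← rid_lTensor_lie] at h1
    exact (mem_range_rTensor_base_iff W _).mpr h1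
  · intro h
    apply isSubcomod_of_T_mem hU
    intro η hη w hw
    have h1 := h (lieOf η hη) w hw
    have h2 := (mem_range_rTensor_base_iff W _).mp h1
    rw [rid_lTensor_lie, lieFun_lieOf] at h2
    rw [T_apply]
    exact h2

variable {V' : Type u} [AddCommGroup V'] [Module k V'] [Comod k A V']

theorem coact_comm_of_lie (hU : IsUnipotent k A) (e : V →ₗ[k] V')
    (h : ∀ (ξ : LieHopf.Lie k A) (f : V),
      LinearMap.lTensor V' (ξ.toLinearMap.restrictScalars k)
          (Comod.coact (k := k) (A := A) (e f)) =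
        LinearMap.rTensor (LieHopf.K k A) e
          (LinearMap.lTensor V (ξ.toLinearMap.restrictScalars k)
            (Comod.coact (k := k) (A := A) f)))
    (f : V) :
    Comod.coact (k := k) (A := A) (e f) = e.rTensor A (Comod.coact (k := k) (A := A) f) := by
  apply coact_comm_of_T_comm hU e
  intro η hη g
  have h1 := h (lieOf η hη) g
  have h2 := congrArg (fun y : V' ⊗[k] k => TensorProduct.rid k V' y) h1
  beta_reduce at h2
  rw [rid_lTensor_lie] at h2
  erw [rid_rTensor, rid_lTensor_lie] at h2
  rw [lieFun_lieOf] at h2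
  rw [T_apply, T_apply]
  exact h2

end LieThms

end Groth.Agent.Lib.Helper25.UL
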