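import Mathlib

/-!
# A converse of Zariski's main theorem: quasi-finiteness from local integrality data (helper25)

* `quasiFinite_away_of_isIntegral`: if `s` is integral over `S₀` and `s ^ n * y` is integral over
  `S₀` for generators `y` of `R₀`, then `R₀[1/s]` is quasi-finite over `S₀`.
* `quasiFinite_of_span_eq_top`: the global version for a family of such `s` spanning the unit ideal.
* `isIntegral_of_aeval_mem`, `exists_monic_aeval_mem_ker`.
-/

set_option autoImplicit false
set_option linter.unusedSectionVars false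
set_option linter.style.haveILetI false
universe u v w

namespace Groth.Agent.Lib.Helper25.QFConv

section Sat
variable {S₀ : Type u} {R₀ : Type u} [CommRing S₀] [CommRing R₀] [Algebra S₀ R₀]

/-- saturation: if `s ∈ C` and `s ^ n * y ∈ C` for generators `y`, then every element is
multiplied into `C` by a power of `s`. -/
theorem exists_pow_mul_mem (C : Subalgebra S₀ R₀) (Y : Set R₀) (hY : Algebra.adjoin S₀ Y = ⊤)
    (s : R₀) (hs : s ∈ C) (hsY : ∀ y ∈ Y, ∃ n : ℕ, s ^ n * y ∈ C) (a : R₀) :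
    ∃ m : ℕ, s ^ m * a ∈ C := by
  let D : Subalgebra S₀ R₀ :=
    { carrier := {x | ∃ n : ℕ, s ^ n * x ∈ C}
      mul_mem' := by
        rintro x y ⟨n, h⟩ ⟨n', h'⟩
        refine ⟨n + n', ?_⟩
        rw [pow_add, mul_mul_mul_comm]
        exact C.mul_mem h h'
      add_mem' := by
        rintro x y ⟨n, h⟩ ⟨n', h'⟩
        refine ⟨n + n', ?_⟩
        have : s ^ (n + n') * (x + y) = s ^ n' * (s ^ n * x) + s ^ n * (s ^ n' * y) := by ring
        rw [this]
        exact C.add_mem (C.mul_mem (pow_mem hs n') h) (C.mul_mem (pow_mem hs n) h')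
      algebraMap_mem' := fun c => ⟨0, by simp⟩ }
  have hYD : Y ⊆ D := fun y hy => hsY y hy
  have hD : D = ⊤ := top_le_iff.mp (hY ▸ Algebra.adjoin_le hYD)
  have : a ∈ D := by rw [hD]; exact Algebra.mem_top
  exact this

theorem quasiFinite_away_of_isIntegral (Y : Finset R₀) (hY : Algebra.adjoin S₀ (Y : Set R₀) = ⊤)
    (s : R₀) (hs : IsIntegral S₀ s) (hsY : ∀ y ∈ Y, ∃ n : ℕ, IsIntegral S₀ (s ^ n * y)) :
    Algebra.QuasiFinite S₀ (Localization.Away s) := by
  classical
  choose! n hn using hsY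
  let G : Finset R₀ := insert s (Y.image (fun y => s ^ n y * y))
  let C := Algebra.adjoin S₀ (G : Set R₀)
  have hGint : ∀ x ∈ (G : Set R₀), IsIntegral S₀ x := by
    intro x hx
    rcases Finset.mem_insert.mp hx with rfl | hx
    · exact hs
    · obtain ⟨y, hy, rfl⟩ := Finset.mem_image.mp hx
      exact hn y hy
  haveI : Module.Finite S₀ C :=
    ⟨(Submodule.fg_top _).mpr (fg_adjoin_of_finite G.finite_toSet hGint)⟩
  have hsC : s ∈ C := Algebra.subset_adjoin (Finset.mem_insert_self _ _)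
  have hsat : ∀ a : R₀, ∃ m : ℕ, s ^ m * a ∈ C :=
    exists_pow_mul_mem C (Y : Set R₀) hY s hsC (fun y hy => ⟨n y, Algebra.subset_adjoin
      (Finset.mem_insert_of_mem (Finset.mem_image.mpr ⟨y, hy, rfl⟩))⟩)
  let f : C →ₐ[S₀] Localization.Away s :=
    (IsScalarTower.toAlgHom S₀ R₀ (Localization.Away s)).comp C.val
  apply Algebra.QuasiFinite.of_forall_exists_mul_mem_range f
  intro x
  obtain ⟨a, ⟨_, m, rfl⟩, rfl⟩ := IsLocalization.exists_mk'_eq (Submonoid.powers s) x
  obtain ⟨m', hm'⟩ := hsat a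
  have hunit : IsUnit (algebraMap R₀ (Localization.Away s) s) :=
    IsLocalization.Away.algebraMap_isUnit s
  refine ⟨⟨s, hsC⟩ ^ (m + m'), ?_, ⟨⟨s ^ m' * a, hm'⟩, ?_⟩⟩
  · rw [map_pow]
    exact (show IsUnit (f ⟨s, hsC⟩) from hunit).pow _
  · change algebraMap R₀ (Localization.Away s) (s ^ m' * a) = _
    rw [map_pow]
    change _ = IsLocalization.mk' (Localization.Away s) a
      (⟨s ^ m, ⟨m, rfl⟩⟩ : Submonoid.powers s) *
      (algebraMap R₀ (Localization.Away s) s) ^ (m + m')
    rw [pow_add, ← mul_assoc, ← map_pow, ← map_pow]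
    have h1 : IsLocalization.mk' (Localization.Away s) a
        (⟨s ^ m, ⟨m, rfl⟩⟩ : Submonoid.powers s) * algebraMap R₀ (Localization.Away s) (s ^ m) =
        algebraMap R₀ (Localization.Away s) a :=
      IsLocalization.mk'_spec (Localization.Away s) a (⟨s ^ m, ⟨m, rfl⟩⟩ : Submonoid.powers s)
    rw [h1, ← map_mul, mul_comm]

theorem quasiFinite_of_span_eq_top (Y : Finset R₀) (hY : Algebra.adjoin S₀ (Y : Set R₀) = ⊤)
    (Sg : Set R₀) (hSg : Ideal.span Sg = ⊤)
    (h : ∀ s ∈ Sg, IsIntegral S₀ s ∧ ∀ y ∈ Y, ∃ n : ℕ, IsIntegral S₀ (s ^ n * y)) :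
    Algebra.QuasiFinite S₀ R₀ := by
  rw [← RingHom.quasiFinite_algebraMap]
  refine RingHom.QuasiFinite.ofLocalizationSpanTarget (algebraMap S₀ R₀) Sg hSg ?_
  rintro ⟨s, hs⟩
  have := quasiFinite_away_of_isIntegral Y hY s (h s hs).1 (h s hs).2
  rw [← IsScalarTower.algebraMap_eq]
  exact RingHom.quasiFinite_algebraMap.mpr this

end Sat


section Int

theorem isIntegral_of_aeval_mem {k : Type u} {S' : Type v} {R' : Type w} [CommRing k] [CommRing S']
    [CommRing R'] [Algebra k R'] [Algebra S' R'] (B : Subalgebra k R')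
    (hSB : ∀ s : S', algebraMap S' R' s ∈ B) (Q : Polynomial S') (hQ : Q.Monic)
    (hdeg : Q.natDegree ≠ 0) (x : R') (hx : Polynomial.aeval x Q ∈ B) : IsIntegral B x := by
  rcases subsingleton_or_nontrivial B with hB | hB
  · have h1 : (1 : R') = 0 := by
      have := Subsingleton.elim (1 : B) 0
      exact congrArg Subtype.val this
    have : x = 0 := by rw [← mul_one x, h1, mul_zero]
    rw [this]
    exact isIntegral_zero
  · let ι : S' →+* B := (algebraMap S' R').codRestrict B hSB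
    apply IsIntegral.of_aeval_monic (hQ.map ι) (by rwa [hQ.natDegree_map])
    have h1 : (algebraMap B R').comp ι = algebraMap S' R' := by
      apply RingHom.ext
      intro s
      rfl
    have : Polynomial.aeval x (Q.map ι) = algebraMap B R' ⟨Polynomial.aeval x Q, hx⟩ := by
      rw [Polynomial.aeval_def, Polynomial.eval₂_map, h1]
      rfl
    rw [this]
    exact isIntegral_algebraMap

theorem exists_monic_aeval_mem_ker {S : Type u} {S' : Type v} {R : Type w} {R' : Type*}
    [CommRing S] [CommRing S'] [Nontrivial S'] [CommRing R] [CommRing R'] [Algebra S' R']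
    [Algebra S R] (pS : S' →+* S) (hpS : Function.Surjective pS) (π : R' →+* R)
    (hcomm : π.comp (algebraMap S' R') = (algebraMap S R).comp pS)
    (x : R') (hx : IsIntegral S (π x)) :
    ∃ Q : Polynomial S', Q.Monic ∧ Q.natDegree ≠ 0 ∧ π (Polynomial.aeval x Q) = 0 := by
  obtain ⟨Q₀, hQ₀m, hQ₀⟩ := hx
  obtain ⟨Q₀', hmap, -, hQ₀'m⟩ := Polynomial.lifts_and_natDegree_eq_and_monic
    ((Polynomial.mem_lifts _).mpr (Polynomial.map_surjective pS hpS Q₀)) hQ₀m
  refine ⟨Q₀' * Polynomial.X, hQ₀'m.mul Polynomial.monic_X, ?_, ?_⟩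
  · rw [Polynomial.natDegree_mul_X hQ₀'m.ne_zero]
    exact Nat.succ_ne_zero _
  · rw [Polynomial.aeval_def, Polynomial.hom_eval₂, hcomm, ← Polynomial.eval₂_map,
      Polynomial.map_mul, hmap, Polynomial.map_X, Polynomial.eval₂_mul, hQ₀, zero_mul]

end Int

end Groth.Agent.Lib.Helper25.QFConv
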