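import Groth.Agent.Lib.Helper25EqZMT
import Groth.Agent.Lib.Helper25QFConverse
import Groth.Agent.Lib.Helper25PolyComod
import Mathlib

/-!
# Embedding a quasi-finite equivariant map into one between normal integral models (helper25)
-/

set_option autoImplicit false
set_option linter.unusedSectionVars false
set_option linter.style.haveILetI false
universe u
open TensorProduct HopfRep

namespace Groth.Agent.Lib.Helper25.NormalModel

open Groth.Agent.Lib.Helper25 Groth.Agent.Lib.Helper25.SubAlg Groth.Agent.Lib.Helper25.EqZMT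
  Groth.Agent.Lib.Helper25.QFConv

section Pres
variable {k : Type u} [Field k] {H : Type u} [CommRing H] [HopfAlgebra k H]
variable {A₀ : Type u} [CommRing A₀] [Algebra k A₀] [Comod k H A₀] [GLin.IsCoactAlg k H A₀]
variable {R : Type u} [CommRing R] [Algebra k R] [Algebra A₀ R] [IsScalarTower k A₀ R]
  [Comod k H R] [GLin.IsCoactAlg k H R]

/-- An equivariant presentation of a finite type coaction algebra over a base. -/
theorem exists_equivariant_presentation [Algebra.FiniteType A₀ R] :
    ∃ (n : ℕ) (a : Matrix (Fin n) (Fin n) H) (_ : IsComatrix (k := k) a) (v : Fin n → R),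
      (∀ j, Comod.coact (k := k) (A := H) (v j) = ∑ i, v i ⊗ₜ[k] a i j) ∧
      Function.Surjective (MvPolynomial.aeval v : MvPolynomial (Fin n) A₀ →ₐ[A₀] R) := by
  classical
  obtain ⟨t, ht⟩ := (Algebra.FiniteType.out : (⊤ : Subalgebra A₀ R).FG)
  obtain ⟨V, hVfg, hV, htV⟩ := exists_fg_subcomod_ge (k := k) (A := H) (Submodule.span k (t : Set R))
    (Submodule.fg_span t.finite_toSet)
  letI cV : Comod k H V := subComod V hV
  haveI : Module.Finite k V := Module.Finite.iff_fg.mpr hVfg
  let b := Module.finBasis k V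
  set a : Matrix (Fin (Module.finrank k V)) (Fin (Module.finrank k V)) H := comatrix (A := H) b
    with hadef
  have ha : IsComatrix (k := k) a := isComatrix_comatrix b
  let v : Fin (Module.finrank k V) → R := fun j => (b j : R)
  have hv : ∀ j, Comod.coact (k := k) (A := H) (v j) = ∑ i, v i ⊗ₜ[k] a i j := by
    intro j
    have h1 := isComodHom_apply (isComodHom_subtype V hV) (b j)
    have h2 : Comod.coact (k := k) (A := H) (b j) = ∑ i, b i ⊗ₜ[k] a i j := coact_basis b j
    rw [h2, map_sum] at h1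
    simpa using h1
  refine ⟨_, a, ha, v, hv, ?_⟩
  set π : MvPolynomial (Fin (Module.finrank k V)) A₀ →ₐ[A₀] R := MvPolynomial.aeval v with hπ
  rw [← AlgHom.range_eq_top, eq_top_iff, ← ht]
  apply Algebra.adjoin_le
  intro x hx
  have hxV : x ∈ V := htV (Submodule.subset_span hx)
  have : (⟨x, hxV⟩ : V) ∈ Submodule.span k (Set.range b) := by
    rw [b.span_eq]; exact Submodule.mem_top
  have h2 : x ∈ Submodule.map V.subtype (Submodule.span k (Set.range b)) := ⟨_, this, rfl⟩
  rw [Submodule.map_span] at h2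
  have h3 : Submodule.span k (V.subtype '' Set.range b) ≤ (π.range.toSubmodule).restrictScalars k := by
    apply Submodule.span_le.mpr
    rintro _ ⟨_, ⟨j, rfl⟩, rfl⟩
    exact ⟨MvPolynomial.X j, by simp [hπ, v]⟩
  exact h3 h2

end Pres


section StageA
variable {k : Type u} [Field k] {A : Type u} [CommRing A] [HopfAlgebra k A]
  {S : Type u} [CommRing S] [Algebra k S] [HopfRep.Comod k A S] [GLin.IsCoactAlg k A S]
  {R : Type u} [CommRing R] [Algebra k R] [Algebra.FiniteType k R]
  [HopfRep.Comod k A R] [GLin.IsCoactAlg k A R]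
  [Algebra S R] [IsScalarTower k S R] [Algebra.QuasiFinite S R]
  {S' : Type u} [CommRing S'] [Nontrivial S'] [Algebra k S'] [Algebra.FiniteType k S']
  [HopfRep.Comod k A S'] [GLin.IsCoactAlg k A S']
  {R' : Type u} [CommRing R'] [Algebra k R'] [HopfRep.Comod k A R'] [GLin.IsCoactAlg k A R']
  [Algebra S' R'] [IsScalarTower k S' R']

theorem exists_quasiFinite_subalgebra
    (hequiv' : ∀ s : S', Comod.coact (k := k) (A := A) (algebraMap S' R' s) =
      Algebra.TensorProduct.map (IsScalarTower.toAlgHom k S' R') (AlgHom.id k A)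
        (Comod.coact (k := k) (A := A) s))
    (pS₀ : S' →ₐ[k] S) (hpS : Function.Surjective pS₀)
    (π : R' →ₐ[k] R) (hπsurj : Function.Surjective π) (hπ : Hoch.IsComodHom A π.toLinearMap)
    (hcomm : ∀ s : S', π (algebraMap S' R' s) = algebraMap S R (pS₀ s))
    (Y : Finset R') (hY : Algebra.adjoin S' (Y : Set R') = ⊤) :
    ∃ B : Subalgebra k R',
      (∀ b ∈ B, Comod.coact (k := k) (A := A) b ∈ (inclT (A := A) B).range) ∧
      B.FG ∧ (∀ s : S', algebraMap S' R' s ∈ B) ∧
      (∀ b ∈ B, π b ∈ Set.range (algebraMap S R)) ∧ Algebra.QuasiFinite B R' := by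
  classical
  haveI : Algebra.FiniteType S R := Algebra.FiniteType.of_restrictScalars_finiteType k S R
  obtain ⟨t, ht, htprop⟩ := exists_finset_zmt (S := S) (R := R)
  choose rl hrl using hπsurj
  choose! e he using fun r (hr : r ∈ t) => (htprop r hr).2
  have hcommR : π.toRingHom.comp (algebraMap S' R') = (algebraMap S R).comp pS₀.toRingHom :=
    RingHom.ext hcomm
  have h1 : ∀ r ∈ t, ∃ Q : Polynomial S', Q.Monic ∧ Q.natDegree ≠ 0 ∧
      π (Polynomial.aeval (rl r) Q) = 0 := fun r hr =>
    exists_monic_aeval_mem_ker pS₀.toRingHom hpS π.toRingHom hcommR (rl r)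
      (by change IsIntegral S (π (rl r)); rw [hrl]; exact (htprop r hr).1)
  choose! Q1 hQ1m hQ1d hQ1k using h1
  have h2 : ∀ r ∈ t, ∀ y ∈ Y, ∃ Q : Polynomial S', Q.Monic ∧ Q.natDegree ≠ 0 ∧
      π (Polynomial.aeval (rl r ^ e r (π y) * y) Q) = 0 := fun r hr y _ =>
    exists_monic_aeval_mem_ker pS₀.toRingHom hpS π.toRingHom hcommR (rl r ^ e r (π y) * y)
      (by
        change IsIntegral S (π (rl r ^ e r (π y) * y))
        rw [map_mul, map_pow, hrl]
        exact he r hr (π y))
  choose! Q2 hQ2m hQ2d hQ2k using h2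
  have h1mem : (1 : R) ∈ Ideal.span (t : Set R) := by rw [ht]; exact Submodule.mem_top
  obtain ⟨c, -, hc⟩ := Submodule.mem_span_finset.mp h1mem
  let z : R' := 1 - ∑ r ∈ t, rl (c r) * rl r
  have hz : π z = 0 := by
    simp only [z, map_sub, map_one, map_sum, map_mul, hrl]
    rw [sub_eq_zero, ← hc]
    simp [smul_eq_mul]
  let G : Finset R' := ((t.image (fun r => Polynomial.aeval (rl r) (Q1 r))) ∪
    ((t ×ˢ Y).image (fun p => Polynomial.aeval (rl p.1 ^ e p.1 (π p.2) * p.2) (Q2 p.1 p.2)))) ∪
    (insert z (Y.image (fun y => z * y)))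
  have hG1 : ∀ r ∈ t, Polynomial.aeval (rl r) (Q1 r) ∈ G := fun r hr =>
    Finset.mem_union_left _ (Finset.mem_union_left _ (Finset.mem_image.mpr ⟨r, hr, rfl⟩))
  have hG2 : ∀ r ∈ t, ∀ y ∈ Y, Polynomial.aeval (rl r ^ e r (π y) * y) (Q2 r y) ∈ G :=
    fun r hr y hy => Finset.mem_union_left _ (Finset.mem_union_right _
      (Finset.mem_image.mpr ⟨(r, y), Finset.mem_product.mpr ⟨hr, hy⟩, rfl⟩))
  have hG3 : z ∈ G := Finset.mem_union_right _ (Finset.mem_insert_self _ _)
  have hG4 : ∀ y ∈ Y, z * y ∈ G := fun y hy =>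
    Finset.mem_union_right _ (Finset.mem_insert_of_mem (Finset.mem_image.mpr ⟨y, hy, rfl⟩))
  have hGK : ∀ g ∈ G, π g = 0 := by
    intro g hg
    rcases Finset.mem_union.mp hg with hg | hg
    · rcases Finset.mem_union.mp hg with hg | hg
      · obtain ⟨r, hr, rfl⟩ := Finset.mem_image.mp hg
        exact hQ1k r hr
      · obtain ⟨p, hp, rfl⟩ := Finset.mem_image.mp hg
        exact hQ2k p.1 (Finset.mem_product.mp hp).1 p.2 (Finset.mem_product.mp hp).2
    · rcases Finset.mem_insert.mp hg with rfl | hg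
      · exact hz
      · obtain ⟨y, hy, rfl⟩ := Finset.mem_image.mp hg
        rw [map_mul, hz, zero_mul]
  set K : Submodule k R' := LinearMap.ker π.toLinearMap with hKdef
  have hK : IsSubcomod (k := k) (A := A) K := isSubcomod_ker hπ
  have hGK' : Submodule.span k (G : Set R') ≤ K :=
    Submodule.span_le.mpr (fun g hg => hGK g hg)
  obtain ⟨N, hNfg, hN, hGN, hNK⟩ := exists_fg_subcomod_between _ K
    (Submodule.fg_span G.finite_toSet) hK hGK'
  set B := Algebra.adjoin k (Set.range (algebraMap S' R') ∪ (N : Set R')) with hBdef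
  have hSB : ∀ s : S', algebraMap S' R' s ∈ B := fun s => Algebra.subset_adjoin (Or.inl ⟨s, rfl⟩)
  have hNB : N ≤ Subalgebra.toSubmodule B := fun v hv => Algebra.subset_adjoin (Or.inr hv)
  have hGB : ∀ g ∈ G, g ∈ B := fun g hg => hNB (hGN (Submodule.subset_span hg))
  refine ⟨B, ?_, ?_, hSB, ?_, ?_⟩
  · apply forall_mem_range_adjoin
    rintro x (⟨s, rfl⟩ | hx)
    · let ψ : S' →ₐ[k] B := (IsScalarTower.toAlgHom k S' R').codRestrict B hSB
      refine ⟨Algebra.TensorProduct.map ψ (AlgHom.id k A) (Comod.coact (k := k) (A := A) s), ?_⟩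
      rw [hequiv' s]
      change inclT (A := A) B (Algebra.TensorProduct.map ψ (AlgHom.id k A) _) = _
      generalize Comod.coact (k := k) (A := A) s = z
      induction z using TensorProduct.induction_on with
      | zero => simp
      | add x y hx hy => simp only [map_add, hx, hy]
      | tmul r a => simp [ψ]
    · exact coact_mem_range_of_isSubcomod hN hNB hx
  · obtain ⟨F', hF'⟩ := hNfg
    obtain ⟨Y', hY'⟩ := (Algebra.FiniteType.out : (⊤ : Subalgebra k S').FG)
    have h1 : Set.range (algebraMap S' R') =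
        (((⊤ : Subalgebra k S').map (IsScalarTower.toAlgHom k S' R') : Subalgebra k R') : Set R') := by
      ext x
      simp
    rw [hBdef, Algebra.adjoin_union, h1, Algebra.adjoin_eq, ← hF', Algebra.adjoin_span]
    exact (Subalgebra.FG.map _ (⟨Y', hY'⟩ : (⊤ : Subalgebra k S').FG)).sup
      (Subalgebra.fg_adjoin_finset F')
  · have hle : B ≤ (IsScalarTower.toAlgHom k S R).range.comap π := by
      apply Algebra.adjoin_le
      rintro x (⟨s, rfl⟩ | hx)
      · exact ⟨pS₀ s, (hcomm s).symm⟩
      · have : π x = 0 := hNK hx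
        exact ⟨0, by
          change (IsScalarTower.toAlgHom k S R) 0 = π x
          rw [this, map_zero]⟩
    intro b hb
    obtain ⟨s, hs⟩ := hle hb
    exact ⟨s, hs⟩
  · have hY' : Algebra.adjoin B (Y : Set R') = ⊤ := by
      rw [eq_top_iff]
      intro x _
      clear * - hY hSB
      have hx : x ∈ Algebra.adjoin S' (Y : Set R') := by rw [hY]; exact Algebra.mem_top
      induction hx using Algebra.adjoin_induction with
      | mem y hy => exact Algebra.subset_adjoin hy
      | algebraMap s => exact Subalgebra.algebraMap_mem _ (⟨_, hSB s⟩ : B)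
      | add x y _ _ hx hy => exact Subalgebra.add_mem _ hx hy
      | mul x y _ _ hx hy => exact Subalgebra.mul_mem _ hx hy
    refine quasiFinite_of_span_eq_top (S₀ := B) (R₀ := R') Y hY'
      (((fun r => rl r) '' (t : Set R)) ∪ {z}) ?_ ?_
    · rw [Ideal.eq_top_iff_one]
      have h1 : (1 : R') = z + ∑ r ∈ t, rl (c r) * rl r := by simp [z]
      rw [h1]
      apply Ideal.add_mem
      · exact Ideal.subset_span (Or.inr rfl)
      · apply Ideal.sum_mem
        intro r hr
        exact Ideal.mul_mem_left _ _ (Ideal.subset_span (Or.inl ⟨r, hr, rfl⟩))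
    · rintro s (⟨r, hr, rfl⟩ | rfl)
      · refine ⟨isIntegral_of_aeval_mem B hSB (Q1 r) (hQ1m r hr) (hQ1d r hr) (rl r)
          (hGB _ (hG1 r hr)), fun y hy => ⟨e r (π y), ?_⟩⟩
        exact isIntegral_of_aeval_mem B hSB (Q2 r y) (hQ2m r hr y hy) (hQ2d r hr y hy) _
          (hGB _ (hG2 r hr y hy))
      · refine ⟨?_, fun y hy => ⟨1, ?_⟩⟩
        · exact isIntegral_algebraMap (x := (⟨z, hGB _ hG3⟩ : B))
        · rw [pow_one]
          exact isIntegral_algebraMap (x := (⟨z * y, hGB _ (hG4 y hy)⟩ : B))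

end StageA


section StageB
variable {k : Type u} [Field k] {A : Type u} [CommRing A] [HopfAlgebra k A]
  {S : Type u} [CommRing S] [Algebra k S] [Algebra.FiniteType k S]
  [HopfRep.Comod k A S] [GLin.IsCoactAlg k A S]
  {R : Type u} [CommRing R] [Algebra k R] [Algebra.FiniteType k R]
  [HopfRep.Comod k A R] [GLin.IsCoactAlg k A R]
  [Algebra S R] [IsScalarTower k S R] [Algebra.QuasiFinite S R]

theorem isCoactAlg_trivial' : @GLin.IsCoactAlg k _ A _ _ k _ _ (Comod.trivial k A k) :=
  @GLin.IsCoactAlg.mk k _ A _ _ k _ _ (Comod.trivial k A k) rfl (fun f g => by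
    change (f * g) ⊗ₜ[k] (1 : A) = (f ⊗ₜ[k] (1 : A)) * (g ⊗ₜ[k] (1 : A))
    rw [Algebra.TensorProduct.tmul_mul_tmul, mul_one])

theorem isComodHom_algebraMap_trivial' :
    @Hoch.IsComodHom k _ A _ _ _ k _ _ (Comod.trivial k A k) S _ _ _
      (IsScalarTower.toAlgHom k k S).toLinearMap := by
  letI : Comod k A k := Comod.trivial k A k
  apply LinearMap.ext
  intro c
  change HopfRep.Comod.coact (k := k) (A := A) (algebraMap k S c) =
    (IsScalarTower.toAlgHom k k S).toLinearMap.rTensor A (c ⊗ₜ[k] (1 : A))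
  rw [LinearMap.rTensor_tmul, Algebra.algebraMap_eq_smul_one, map_smul,
    GLin.IsCoactAlg.coact_one (k := k) (A := A) (R := S),
    Algebra.TensorProduct.one_def, TensorProduct.smul_tmul']
  congr 1
  simp [Algebra.algebraMap_eq_smul_one]

theorem isComodHom_toAlgHom_of_hequiv
    (hequiv : ∀ s : S, Comod.coact (k := k) (A := A) (algebraMap S R s) =
      Algebra.TensorProduct.map (IsScalarTower.toAlgHom k S R) (AlgHom.id k A)
        (Comod.coact (k := k) (A := A) s)) :
    Hoch.IsComodHom A (IsScalarTower.toAlgHom k S R).toLinearMap := by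
  apply LinearMap.ext
  intro s
  simp only [LinearMap.comp_apply, AlgHom.toLinearMap_apply]
  rw [← map_eq_rTensor]
  exact hequiv s

theorem map_eq_rTensor' {S₁ R₁ : Type u} [CommRing S₁] [Algebra k S₁] [CommRing R₁] [Algebra k R₁]
    (φ : S₁ →ₐ[k] R₁) (z : S₁ ⊗[k] A) :
    Algebra.TensorProduct.map φ (AlgHom.id k A) z = φ.toLinearMap.rTensor A z := by
  induction z using TensorProduct.induction_on with
  | zero => simp
  | add x y hx hy => simp only [map_add, hx, hy]
  | tmul r a => simp

theorem coact_map_of_isComodHom {S₁ R₁ : Type u} [CommRing S₁] [Algebra k S₁]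
    [HopfRep.Comod k A S₁] [CommRing R₁] [Algebra k R₁] [HopfRep.Comod k A R₁]
    (f : S₁ →ₐ[k] R₁) (hf : Hoch.IsComodHom A f.toLinearMap) (s : S₁) :
    Comod.coact (k := k) (A := A) (f s) =
      Algebra.TensorProduct.map f (AlgHom.id k A) (Comod.coact (k := k) (A := A) s) := by
  rw [map_eq_rTensor']
  exact LinearMap.congr_fun hf s

theorem exists_normal_model (hinj : Function.Injective (algebraMap S R))
    (hequiv : ∀ s : S, Comod.coact (k := k) (A := A) (algebraMap S R s) =
      Algebra.TensorProduct.map (IsScalarTower.toAlgHom k S R) (AlgHom.id k A)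
        (Comod.coact (k := k) (A := A) s)) :
    ∃ (R' : Type u) (_ : CommRing R') (_ : IsDomain R') (_ : IsIntegrallyClosed R')
      (_ : Algebra k R') (_ : HopfRep.Comod k A R') (_ : GLin.IsCoactAlg k A R')
      (S' : Type u) (_ : CommRing S') (_ : IsDomain S') (_ : Algebra k S')
      (_ : HopfRep.Comod k A S') (_ : GLin.IsCoactAlg k A S'),
      Algebra.FiniteType k R' ∧ Algebra.FiniteType k S' ∧
      ∃ (pR : R' →ₐ[k] R) (pS : S' →ₐ[k] S) (φ' : S' →ₐ[k] R'),
        Function.Surjective pR ∧ Function.Surjective pS ∧ Function.Injective φ' ∧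
        φ'.toRingHom.QuasiFinite ∧
        (∀ s : R', HopfRep.Comod.coact (k := k) (A := A) (pR s) =
          Algebra.TensorProduct.map pR (AlgHom.id k A) (HopfRep.Comod.coact (k := k) (A := A) s)) ∧
        (∀ s : S', HopfRep.Comod.coact (k := k) (A := A) (pS s) =
          Algebra.TensorProduct.map pS (AlgHom.id k A) (HopfRep.Comod.coact (k := k) (A := A) s)) ∧
        (∀ s : S', HopfRep.Comod.coact (k := k) (A := A) (φ' s) =
          Algebra.TensorProduct.map φ' (AlgHom.id k A) (HopfRep.Comod.coact (k := k) (A := A) s)) ∧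
        pR.comp φ' = (IsScalarTower.toAlgHom k S R).comp pS := by
  classical
  letI ck : Comod k A k := Comod.trivial k A k
  haveI ik : GLin.IsCoactAlg k A k := isCoactAlg_trivial'
  have hACk : Hoch.IsComodHom A (IsScalarTower.toAlgHom k k S).toLinearMap :=
    isComodHom_algebraMap_trivial'
  obtain ⟨n₁, a₁, ha₁, v₁, hv₁, hsurj₁⟩ :=
    exists_equivariant_presentation (k := k) (H := A) (A₀ := k) (R := S)
  letI cP : Comod k A (MvPolynomial (Fin n₁) k) := polyComod (A₀ := k) a₁ ha₁
  haveI iP : GLin.IsCoactAlg k A (MvPolynomial (Fin n₁) k) := polyComod_isCoactAlg (A₀ := k) a₁ ha₁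
  set pS₀ : MvPolynomial (Fin n₁) k →ₐ[k] S := MvPolynomial.aeval v₁ with hpS₀def
  have hpS₀ : Hoch.IsComodHom A pS₀.toLinearMap := isComodHom_aeval a₁ ha₁ hACk v₁ hv₁
  have hpS₀surj : Function.Surjective pS₀ := hsurj₁
  -- `R` as an algebra over the polynomial ring
  let φS : S →ₐ[k] R := IsScalarTower.toAlgHom k S R
  letI algPR : Algebra (MvPolynomial (Fin n₁) k) R := (φS.comp pS₀).toRingHom.toAlgebra
  haveI towPR : IsScalarTower k (MvPolynomial (Fin n₁) k) R :=
    IsScalarTower.of_algebraMap_eq (fun c => ((φS.comp pS₀).commutes c).symm)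
  haveI ftPR : Algebra.FiniteType (MvPolynomial (Fin n₁) k) R :=
    Algebra.FiniteType.of_restrictScalars_finiteType k (MvPolynomial (Fin n₁) k) R
  have hAC : Hoch.IsComodHom A (IsScalarTower.toAlgHom k (MvPolynomial (Fin n₁) k) R).toLinearMap := by
    have h1 : (IsScalarTower.toAlgHom k (MvPolynomial (Fin n₁) k) R) = φS.comp pS₀ := by
      apply AlgHom.ext
      intro p
      rfl
    rw [h1]
    apply LinearMap.ext
    intro p
    have e1 := coact_map_of_isComodHom pS₀ hpS₀ p
    simp only [LinearMap.comp_apply, AlgHom.toLinearMap_apply, AlgHom.comp_apply]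
    rw [show φS (pS₀ p) = algebraMap S R (pS₀ p) from rfl, hequiv, e1, ← map_eq_rTensor',
      ← AlgHom.comp_apply, ← Algebra.TensorProduct.map_comp]
    rfl
  obtain ⟨n₂, a₂, ha₂, v₂, hv₂, hsurj₂⟩ :=
    exists_equivariant_presentation (k := k) (H := A) (A₀ := MvPolynomial (Fin n₁) k) (R := R)
  letI cQ : Comod k A (MvPolynomial (Fin n₂) (MvPolynomial (Fin n₁) k)) :=
    polyComod (A₀ := MvPolynomial (Fin n₁) k) a₂ ha₂
  haveI iQ : GLin.IsCoactAlg k A (MvPolynomial (Fin n₂) (MvPolynomial (Fin n₁) k)) :=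
    polyComod_isCoactAlg (A₀ := MvPolynomial (Fin n₁) k) a₂ ha₂
  set π : MvPolynomial (Fin n₂) (MvPolynomial (Fin n₁) k) →ₐ[k] R :=
    (MvPolynomial.aeval v₂ : MvPolynomial (Fin n₂) (MvPolynomial (Fin n₁) k) →ₐ[
      MvPolynomial (Fin n₁) k] R).restrictScalars k with hπdef
  have hπ : Hoch.IsComodHom A π.toLinearMap := isComodHom_aeval a₂ ha₂ hAC v₂ hv₂
  have hπsurj : Function.Surjective π := hsurj₂
  have hequiv' : ∀ s : MvPolynomial (Fin n₁) k, Comod.coact (k := k) (A := A)
      (algebraMap (MvPolynomial (Fin n₁) k) (MvPolynomial (Fin n₂) (MvPolynomial (Fin n₁) k)) s) =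
      Algebra.TensorProduct.map (IsScalarTower.toAlgHom k (MvPolynomial (Fin n₁) k)
        (MvPolynomial (Fin n₂) (MvPolynomial (Fin n₁) k))) (AlgHom.id k A)
        (Comod.coact (k := k) (A := A) s) := by
    intro s
    rw [MvPolynomial.algebraMap_eq, polyComod_coact, polyCoactHom_C, polyCoactC_apply]
  have hcomm : ∀ s : MvPolynomial (Fin n₁) k,
      π (algebraMap (MvPolynomial (Fin n₁) k) (MvPolynomial (Fin n₂) (MvPolynomial (Fin n₁) k)) s) =
        algebraMap S R (pS₀ s) := by
    intro s
    rw [MvPolynomial.algebraMap_eq]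
    change MvPolynomial.aeval v₂ (MvPolynomial.C s) = _
    rw [MvPolynomial.aeval_C]
    rfl
  let Y : Finset (MvPolynomial (Fin n₂) (MvPolynomial (Fin n₁) k)) :=
    Finset.univ.image MvPolynomial.X
  have hY : Algebra.adjoin (MvPolynomial (Fin n₁) k) (Y : Set (MvPolynomial (Fin n₂)
      (MvPolynomial (Fin n₁) k))) = ⊤ := by
    have : (Y : Set (MvPolynomial (Fin n₂) (MvPolynomial (Fin n₁) k))) =
        Set.range MvPolynomial.X := by
      simp [Y]
    rw [this, MvPolynomial.adjoin_range_X]
  obtain ⟨B, hB, hFG, hSB, hBπ, hQF⟩ := exists_quasiFinite_subalgebra (k := k) (A := A)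
    (S := S) (R := R) hequiv' pS₀ hpS₀surj π hπsurj hπ hcomm Y hY
  letI cB : HopfRep.Comod k A B := subalgComod B hB
  haveI iB : GLin.IsCoactAlg k A B := subalg_isCoactAlg B hB
  have hφSinj : Function.Injective φS := hinj
  have hBπ' : ∀ b : B, (π.comp B.val) b ∈ φS.range := fun b => by
    obtain ⟨s, hs⟩ := hBπ b.1 b.2
    exact ⟨s, hs⟩
  let pS : B →ₐ[k] S :=
    ((AlgEquiv.ofInjective φS hφSinj).symm : φS.range →ₐ[k] S).comp
      ((π.comp B.val).codRestrict φS.range hBπ')
  have hpS : ∀ b : B, φS (pS b) = π b := by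
    intro b
    have := (AlgEquiv.ofInjective φS hφSinj).apply_symm_apply
      (((π.comp B.val).codRestrict φS.range hBπ') b)
    exact congrArg Subtype.val this
  have hFTB : Algebra.FiniteType k B := (Subalgebra.fg_iff_finiteType B).mp hFG
  have hFTQ : Algebra.FiniteType k (MvPolynomial (Fin n₂) (MvPolynomial (Fin n₁) k)) :=
    Algebra.FiniteType.trans (inferInstance : Algebra.FiniteType k (MvPolynomial (Fin n₁) k))
      inferInstance
  refine ⟨MvPolynomial (Fin n₂) (MvPolynomial (Fin n₁) k), inferInstance, inferInstance,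
    inferInstance, inferInstance, cQ, iQ, B, inferInstance, inferInstance, inferInstance, cB, iB,
    hFTQ, hFTB, π, pS, B.val, hπsurj, ?_, Subtype.val_injective, ?_, ?_, ?_, ?_, ?_⟩
  · intro s
    obtain ⟨p, rfl⟩ := hpS₀surj s
    refine ⟨⟨_, hSB p⟩, ?_⟩
    apply hφSinj
    rw [hpS]
    exact hcomm p
  · exact RingHom.quasiFinite_algebraMap.mpr hQF
  · exact fun s => coact_map_of_isComodHom π hπ s
  · intro b
    have hinjT : Function.Injective (Algebra.TensorProduct.map φS (AlgHom.id k A)) := by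
      have h := Module.Flat.rTensor_preserves_injective_linearMap (M := A) φS.toLinearMap hφSinj
      intro x y hxy
      apply h
      rw [← map_eq_rTensor', ← map_eq_rTensor']
      exact hxy
    apply hinjT
    have e1 := hequiv (pS b)
    change Comod.coact (k := k) (A := A) (φS (pS b)) = _ at e1
    rw [← e1, hpS, coact_map_of_isComodHom π hπ (b : MvPolynomial (Fin n₂) (MvPolynomial (Fin n₁) k))]
    have e2 := subalg_coact_val B hB b
    change Comod.coact (k := k) (A := A) (b : MvPolynomial (Fin n₂) (MvPolynomial (Fin n₁) k)) = _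
      at e2
    rw [e2]
    generalize (subalgComod B hB).coact b = z
    induction z using TensorProduct.induction_on with
    | zero => simp
    | add x y hx hy => simp only [map_add, hx, hy]
    | tmul r a =>
      simp only [Algebra.TensorProduct.map_tmul, AlgHom.id_apply]
      rw [hpS]
      rfl
  · exact fun b => subalg_coact_val B hB b
  · apply AlgHom.ext
    intro b
    exact (hpS b).symm

end StageB

end Groth.Agent.Lib.Helper25.NormalModel
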