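import Groth.Agent.Lib.Helper25QuotLemma
import Groth.Agent.Lib.Helper25Chevalley

/-!
# Helper25NormalTriv: a normal subgroup with only constant invariant functions is everything
(helper25)

* `map_convMul_comatrix`, `minorL`, `convMul_minorL`: points act multiplicatively on comatrices;
  minors of the left columns of a block comatrix are right semi-invariants for points killing the
  lower-left block.
* `IsSemiChar`, `IsSemiChar.conj_eq`: if the coinvariants of `Q` under `Q/J` are trivial, then every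
  semi-character is invariant under conjugation.
* `eq_bot_of_coinvSub_trivial`: a normal Hopf ideal `J` of a commutative Hopf algebra `Q` over a
  field whose algebra of coinvariants consists of scalars is zero.
-/

set_option autoImplicit false
universe u v w w'

namespace Groth.Agent.Lib.Helper25

open TensorProduct HopfRep WithConv

section PointsMatrix

variable {k : Type u} [CommRing k] {A : Type v} [CommRing A] [HopfAlgebra k A]
variable {R : Type w} [CommRing R] [Algebra k R]
variable {ι : Type*} [Fintype ι] [DecidableEq ι]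

/-- Points act on a comatrix multiplicatively. -/
theorem map_convMul_comatrix {a : Matrix ι ι A} (ha : IsComatrix (k := k) a)
    (f g : WithConv (A →ₐ[k] R)) :
    a.map (f * g).ofConv = a.map f.ofConv * a.map g.ofConv := by
  ext i j
  rw [Matrix.map_apply, Matrix.mul_apply,
    convMul_apply_of_comul_eq Finset.univ (a i j) (fun l => a i l) (fun l => a l j)
      (ha.comul i j) f g]
  rfl

variable {d n : ℕ}

/-- The `d × d` minor of the left `d` columns of a block matrix with rows `r`. -/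
noncomputable def minorL (a : Matrix (Fin d ⊕ Fin n) (Fin d ⊕ Fin n) A)
    (r : Fin d → Fin d ⊕ Fin n) : A :=
  (a.submatrix r Sum.inl).det

/-- Right semi-invariance of the minors of the left columns under points killing the lower-left
block. -/
theorem convMul_minorL {a : Matrix (Fin d ⊕ Fin n) (Fin d ⊕ Fin n) A}
    (ha : IsComatrix (k := k) a) (g m : WithConv (A →ₐ[k] R))
    (hm : ∀ i j, m.ofConv (a (Sum.inr i) (Sum.inl j)) = 0) (r : Fin d → Fin d ⊕ Fin n) :
    (g * m).ofConv (minorL a r) = g.ofConv (minorL a r) * m.ofConv (minorL a Sum.inl) := by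
  unfold minorL
  rw [AlgHom.map_det, AlgHom.map_det, AlgHom.map_det, ← Matrix.det_mul]
  congr 1
  ext p q
  have h := congrFun (congrFun (map_convMul_comatrix ha g m) (r p)) (Sum.inl q)
  rw [Matrix.mul_apply, Fintype.sum_sum_type] at h
  simp only [AlgHom.mapMatrix_apply, Matrix.map_apply, Matrix.submatrix_apply, Matrix.mul_apply]
  simp only [Matrix.map_apply] at h
  rw [h]
  have : ∑ x : Fin n, g.ofConv (a (r p) (Sum.inr x)) * m.ofConv (a (Sum.inr x) (Sum.inl q)) = 0 := by
    apply Finset.sum_eq_zero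
    intro x _
    rw [hm, mul_zero]
  rw [this, add_zero]

theorem counit_minorL_inl {a : Matrix (Fin d ⊕ Fin n) (Fin d ⊕ Fin n) A}
    (ha : IsComatrix (k := k) a) :
    CoalgebraStruct.counit (R := k) (minorL a Sum.inl) = 1 := by
  unfold minorL
  have h := AlgHom.map_det (Bialgebra.counitAlgHom k A) (a.submatrix Sum.inl Sum.inl)
  change CoalgebraStruct.counit (R := k) _ = _ at h
  rw [h]
  have : (Bialgebra.counitAlgHom k A).mapMatrix (a.submatrix Sum.inl Sum.inl) =
      (1 : Matrix (Fin d) (Fin d) k) := by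
    ext p q
    simp only [AlgHom.mapMatrix_apply, Matrix.map_apply, Matrix.submatrix_apply,
      Bialgebra.counitAlgHom_apply, ha.counit, Matrix.one_apply, Sum.inl.injEq]
  rw [this, Matrix.det_one]

theorem counit_minorL_update {a : Matrix (Fin d ⊕ Fin n) (Fin d ⊕ Fin n) A}
    (ha : IsComatrix (k := k) a) (m₀ : Fin d) (i : Fin n) :
    CoalgebraStruct.counit (R := k) (minorL a (Function.update Sum.inl m₀ (Sum.inr i))) = 0 := by
  unfold minorL
  have h := AlgHom.map_det (Bialgebra.counitAlgHom k A)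
    (a.submatrix (Function.update Sum.inl m₀ (Sum.inr i)) Sum.inl)
  change CoalgebraStruct.counit (R := k) _ = _ at h
  rw [h]
  apply Matrix.det_eq_zero_of_row_eq_zero m₀
  intro q
  simp only [AlgHom.mapMatrix_apply, Matrix.map_apply, Matrix.submatrix_apply,
    Bialgebra.counitAlgHom_apply, ha.counit, Function.update_self]
  rw [if_neg Sum.inr_ne_inl]

end PointsMatrix

section ConjInv

variable {k Q : Type u} [Field k] [CommRing Q] [HopfAlgebra k Q]
variable (J : Ideal Q) [J.IsHopfIdeal k]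

/-- An element which is multiplicative with respect to right translation by the subgroup. -/
def IsSemiChar (δ : Q) : Prop :=
  CoalgebraStruct.counit (R := k) δ = 1 ∧
  ∀ (R : Type u) [CommRing R] [Algebra k R] (g n : WithConv (Q →ₐ[k] R)), Kills J n →
    (g * n).ofConv δ = g.ofConv δ * n.ofConv δ

variable {J}

theorem IsSemiChar.inv_mul_self {δ : Q} (hδ : IsSemiChar (k := k) J δ) {R : Type u} [CommRing R]
    [Algebra k R] (n : WithConv (Q →ₐ[k] R)) (hn : Kills J n) :
    (n⁻¹).ofConv δ * n.ofConv δ = 1 := by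
  rw [← hδ.2 R n⁻¹ n hn, inv_mul_cancel, convOne_apply', hδ.1, map_one]

theorem IsSemiChar.self_mul_inv {δ : Q} (hδ : IsSemiChar (k := k) J δ) {R : Type u} [CommRing R]
    [Algebra k R] (n : WithConv (Q →ₐ[k] R)) (hn : Kills J n) :
    n.ofConv δ * (n⁻¹).ofConv δ = 1 := by
  rw [mul_comm]
  exact hδ.inv_mul_self n hn

/-- Claim 1: the conjugate `g⁻¹ n g` evaluated at a semi-character only depends on `g` modulo
the subgroup. -/
theorem IsSemiChar.conj_mul {δ : Q} (hδ : IsSemiChar (k := k) J δ)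
    (hJ : SGA3.IsNormalHopfIdeal k Q J) {R : Type u} [CommRing R]
    [Algebra k R] (g n n₁ : WithConv (Q →ₐ[k] R)) (hn : Kills J n) (hn₁ : Kills J n₁) :
    ((g * n₁)⁻¹ * n * (g * n₁)).ofConv δ = (g⁻¹ * n * g).ofConv δ := by
  have hG : ∀ (G : Type u) [Group G] (g n n₁ : G),
      (g * n₁)⁻¹ * n * (g * n₁) = n₁⁻¹ * (g⁻¹ * n * g) * n₁ := by
    intro G _ g n n₁
    group
  have e := hG _ g n n₁
  rw [e]
  have hm : Kills J (g⁻¹ * n * g) := Kills.conj' J hJ hn g
  rw [hδ.2 R _ n₁ hn₁, hδ.2 R _ _ hm, mul_comm ((n₁⁻¹).ofConv δ), mul_assoc,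
    hδ.inv_mul_self n₁ hn₁, mul_one]

end ConjInv

section ConjInv2

variable {k Q : Type u} [Field k] [CommRing Q] [Algebra k Q]

theorem algMap_id_eq_lTensor' {R : Type u} [CommRing R] [Algebra k R] {C : Type u} [CommRing C]
    [Algebra k C] {D : Type u} [CommRing D]
    [Algebra k D] (f : C →ₐ[k] D) (z : R ⊗[k] C) :
    Algebra.TensorProduct.map (AlgHom.id k R) f z = f.toLinearMap.lTensor R z := by
  induction z using TensorProduct.induction_on with
  | zero => simp
  | add x y hx hy => simp only [map_add, hx, hy]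
  | tmul a b => simp

/-- Elements of `R ⊗ Q` which are equalised by `id ⊗ ρ` and `id ⊗ ι` are of the form `y' ⊗ 1`
when the equaliser of `ρ` and `ι` consists of scalars. -/
theorem exists_eq_tmul_one_of_map_eq {T : Type u} [CommRing T] [Algebra k T] (ι ρ : Q →ₐ[k] T)
    (hker : ∀ x, ρ x = ι x → ∃ c : k, x = algebraMap k Q c)
    {R : Type u} [CommRing R] [Algebra k R] (y : R ⊗[k] Q)
    (hy : Algebra.TensorProduct.map (AlgHom.id k R) ρ y =
      Algebra.TensorProduct.map (AlgHom.id k R) ι y) :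
    ∃ y' : R, y = y' ⊗ₜ[k] (1 : Q) := by
  have h1 : y ∈ LinearMap.range
      ((Subalgebra.toSubmodule (AlgHom.equalizer ρ ι)).subtype.lTensor R) := by
    rw [mem_range_lTensor_subtype_iff]
    intro l
    change lslice l y ∈ AlgHom.equalizer ρ ι
    rw [AlgHom.mem_equalizer]
    have e1 := lslice_lTensor l ρ.toLinearMap y
    have e2 := lslice_lTensor l ι.toLinearMap y
    rw [← algMap_id_eq_lTensor'] at e1 e2
    rw [hy, e2] at e1
    exact e1.symm
  obtain ⟨w, rfl⟩ := h1
  clear hy
  induction w using TensorProduct.induction_on with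
  | zero => exact ⟨0, by simp⟩
  | add x y hx hy =>
    obtain ⟨a, ha⟩ := hx
    obtain ⟨b, hb⟩ := hy
    exact ⟨a + b, by rw [map_add, ha, hb, TensorProduct.add_tmul]⟩
  | tmul r c =>
    obtain ⟨t, ht⟩ := hker (c : Q) ((AlgHom.mem_equalizer ρ ι _).mp c.2)
    refine ⟨t • r, ?_⟩
    rw [LinearMap.lTensor_tmul, Submodule.subtype_apply, ht, Algebra.algebraMap_eq_smul_one,
      TensorProduct.tmul_smul, TensorProduct.smul_tmul']

end ConjInv2

section ConjInv3

variable {k Q : Type u} [Field k] [CommRing Q] [HopfAlgebra k Q]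
variable {J : Ideal Q} [J.IsHopfIdeal k]

/-- Conjugation invariance of semi-characters, generic form. -/
theorem IsSemiChar.conj_eq_aux {δ : Q} (hδ : IsSemiChar (k := k) J δ)
    (hJ : SGA3.IsNormalHopfIdeal k Q J)
    {T : Type u} [CommRing T] [Algebra k T] (ι ρ ν : Q →ₐ[k] T)
    (hconv : ρ = (toConv ι * toConv ν : WithConv (Q →ₐ[k] T)).ofConv)
    (hν : ∀ a ∈ J, ν a = 0)
    (hker : ∀ x, ρ x = ι x → ∃ c : k, x = algebraMap k Q c)
    {R : Type u} [CommRing R] [Algebra k R] (g' n' : WithConv (Q →ₐ[k] R)) (hn' : Kills J n') :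
    (g'⁻¹ * n' * g').ofConv δ = n'.ofConv δ := by
  set n : WithConv (Q →ₐ[k] R ⊗[k] Q) :=
    toConv ((Algebra.TensorProduct.includeLeft : R →ₐ[k] R ⊗[k] Q).comp n'.ofConv) with hn
  set g : WithConv (Q →ₐ[k] R ⊗[k] Q) :=
    toConv (Algebra.TensorProduct.includeRight : Q →ₐ[k] R ⊗[k] Q) with hg
  set y : R ⊗[k] Q := (g⁻¹ * n * g).ofConv δ with hy
  -- the two maps to `R ⊗ T`
  set Ψ : R ⊗[k] Q →ₐ[k] R ⊗[k] T :=
    Algebra.TensorProduct.map (AlgHom.id k R) ρ with hΨ
  set Φ : R ⊗[k] Q →ₐ[k] R ⊗[k] T :=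
    Algebra.TensorProduct.map (AlgHom.id k R) ι with hΦ
  have hcomp : ∀ (F : R ⊗[k] Q →ₐ[k] R ⊗[k] T), F y =
      ((toConv (F.comp g.ofConv))⁻¹ * toConv (F.comp n.ofConv) *
        toConv (F.comp g.ofConv)).ofConv δ := by
    intro F
    have e : toConv (F.comp (g⁻¹ * n * g).ofConv) =
        (toConv (F.comp g.ofConv))⁻¹ * toConv (F.comp n.ofConv) * toConv (F.comp g.ofConv) := by
      rw [comp_convMul, comp_convMul, comp_convInv]
    rw [← e]
    rfl
  set n₂ : WithConv (Q →ₐ[k] R ⊗[k] T) :=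
    toConv ((Algebra.TensorProduct.includeLeft : R →ₐ[k] R ⊗[k] T).comp
      n'.ofConv) with hn₂
  set g₂ : WithConv (Q →ₐ[k] R ⊗[k] T) :=
    toConv ((Algebra.TensorProduct.includeRight : T →ₐ[k] R ⊗[k] T).comp ι) with hg₂
  set ν₂ : WithConv (Q →ₐ[k] R ⊗[k] T) :=
    toConv ((Algebra.TensorProduct.includeRight : T →ₐ[k] R ⊗[k] T).comp ν) with hν₂
  have hΨn : toConv (Ψ.comp n.ofConv) = n₂ := by
    apply ofConv_injective
    apply AlgHom.ext
    intro q
    simp [hΨ, hn, hn₂]
  have hΦn : toConv (Φ.comp n.ofConv) = n₂ := by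
    apply ofConv_injective
    apply AlgHom.ext
    intro q
    simp [hΦ, hn, hn₂]
  have hΦg : toConv (Φ.comp g.ofConv) = g₂ := by
    apply ofConv_injective
    apply AlgHom.ext
    intro q
    simp [hΦ, hg, hg₂]
  have hΨg : toConv (Ψ.comp g.ofConv) = g₂ * ν₂ := by
    have e1 : Ψ.comp g.ofConv = (Algebra.TensorProduct.includeRight :
        T →ₐ[k] R ⊗[k] T).comp ρ := by
      apply AlgHom.ext
      intro q
      simp [hΨ, hg]
    rw [e1, hconv, comp_convMul]
  have hkn₂ : Kills J n₂ := by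
    intro a ha
    simp only [hn₂, ofConv_toConv, AlgHom.comp_apply]
    rw [hn' a ha, map_zero]
  have hkν : Kills J ν₂ := by
    intro a ha
    simp only [hν₂, ofConv_toConv, AlgHom.comp_apply]
    rw [hν a ha, map_zero]
  have hA : Ψ y = Φ y := by
    rw [hcomp Ψ, hcomp Φ, hΨn, hΦn, hΨg, hΦg]
    exact hδ.conj_mul hJ g₂ n₂ ν₂ hkn₂ hkν
  obtain ⟨y', hy'⟩ := exists_eq_tmul_one_of_map_eq ι ρ hker y hA
  -- specialise
  set Λ : R ⊗[k] Q →ₐ[k] R :=
    Algebra.TensorProduct.lift (AlgHom.id k R) g'.ofConv (fun _ _ => .all ..) with hΛ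
  set E : R ⊗[k] Q →ₐ[k] R :=
    Algebra.TensorProduct.lift (AlgHom.id k R) (1 : WithConv (Q →ₐ[k] R)).ofConv
      (fun _ _ => .all ..) with hE
  have hcomp' : ∀ (F : R ⊗[k] Q →ₐ[k] R), F y =
      ((toConv (F.comp g.ofConv))⁻¹ * toConv (F.comp n.ofConv) *
        toConv (F.comp g.ofConv)).ofConv δ := by
    intro F
    have e : toConv (F.comp (g⁻¹ * n * g).ofConv) =
        (toConv (F.comp g.ofConv))⁻¹ * toConv (F.comp n.ofConv) * toConv (F.comp g.ofConv) := by
      rw [comp_convMul, comp_convMul, comp_convInv]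
    rw [← e]
    rfl
  have hΛn : toConv (Λ.comp n.ofConv) = n' := by
    apply ofConv_injective
    apply AlgHom.ext
    intro q
    simp [hΛ, hn]
  have hΛg : toConv (Λ.comp g.ofConv) = g' := by
    apply ofConv_injective
    apply AlgHom.ext
    intro q
    simp [hΛ, hg]
  have hEn : toConv (E.comp n.ofConv) = n' := by
    apply ofConv_injective
    apply AlgHom.ext
    intro q
    simp [hE, hn]
  have hEg : toConv (E.comp g.ofConv) = 1 := by
    apply ofConv_injective
    apply AlgHom.ext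
    intro q
    simp [hE, hg]
  have h1 := hcomp' Λ
  have h2 := hcomp' E
  rw [hΛn, hΛg] at h1
  rw [hEn, hEg, inv_one, one_mul, mul_one] at h2
  rw [← h1, ← h2, hy']
  simp [hΛ, hE]

/-- Conjugation invariance of semi-characters when the coinvariants are trivial. -/
theorem IsSemiChar.conj_eq {δ : Q} (hδ : IsSemiChar (k := k) J δ)
    (hJ : SGA3.IsNormalHopfIdeal k Q J)
    (hco : ∀ x ∈ coinvSub k J, ∃ c : k, x = algebraMap k Q c)
    {R : Type u} [CommRing R] [Algebra k R] (g' n' : WithConv (Q →ₐ[k] R)) (hn' : Kills J n') :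
    (g'⁻¹ * n' * g').ofConv δ = n'.ofConv δ := by
  refine hδ.conj_eq_aux hJ (T := Q ⊗[k] (Q ⧸ J)) Algebra.TensorProduct.includeLeft (rhoR k J)
    ((Algebra.TensorProduct.includeRight : (Q ⧸ J) →ₐ[k] Q ⊗[k] (Q ⧸ J)).comp
      (Ideal.Quotient.mkₐ k J)) (univ_convMul_eq_rhoR J).symm ?_ ?_ g' n' hn'
  · intro a ha
    rw [AlgHom.comp_apply, Ideal.Quotient.mkₐ_eq_mk, Ideal.Quotient.eq_zero_iff_mem.mpr ha,
      map_zero]
  · intro x hx
    apply hco
    unfold coinvSub
    rw [AlgHom.mem_equalizer]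
    exact hx

end ConjInv3

section BlockLemmas

variable {k : Type u} [Field k] {A : Type u} [CommRing A] [HopfAlgebra k A]
variable {V : Type v} [AddCommGroup V] [Module k V] [Comod k A V]
variable {ι : Type w} [Fintype ι] [DecidableEq ι]

/-- Elements of a finite-dimensional subcomodule `j : V → A` whose coordinates outside `S` vanish
lie in the ideal generated by the block `(Sᶜ, S)` of the comatrix, if `ε (j b_i) = 0` for
`i ∈ S`. -/
theorem mem_span_block_of_repr_eq_zero
    (j : V →ₗ[k] A) (hj : Hoch.IsComodHom A j)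
    (b : Module.Basis ι k V) (S : Set ι)
    (hb1 : ∀ i ∈ S, CoalgebraStruct.counit (R := k) (A := A) (j (b i)) = 0)
    (x : V) (hb2 : ∀ i ∉ S, b.repr x i = 0) :
    j x ∈ Ideal.span {y | ∃ i ∉ S, ∃ m ∈ S, y = comatrix (A := A) b i m} := by
  have h1 : j x = ∑ i, CoalgebraStruct.counit (R := k) (A := A) (j (b i)) •
      vecCoeff (A := A) b x i := by
    conv_lhs => rw [eq_coeffMap_of_isComodHom hj]
    rw [coeffMap_apply, coact_eq_sum b x, map_sum]
    refine Finset.sum_congr rfl (fun i _ => ?_)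
    rw [lslice_tmul]
    rfl
  rw [h1]
  refine Ideal.sum_mem _ (fun i _ => ?_)
  by_cases hi : i ∈ S
  · rw [hb1 i hi, zero_smul]
    exact Ideal.zero_mem _
  · rw [Algebra.smul_def]
    refine Ideal.mul_mem_left _ _ ?_
    unfold vecCoeff
    refine Ideal.sum_mem _ (fun m _ => ?_)
    by_cases hm : m ∈ S
    · rw [Algebra.smul_def]
      exact Ideal.mul_mem_left _ _ (Ideal.subset_span ⟨i, hi, m, hm, rfl⟩)
    · rw [hb2 m hm, zero_smul]
      exact Ideal.zero_mem _

/-- The block `(Sᶜ, S)` of the comatrix lies in a `T`-stable ideal `I` to which the basis is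
adapted. -/
theorem block_mem_of_T_stable (I : Ideal A)
    (hT : ∀ φ : A →ₗ[k] k, (∀ x ∈ I, φ x = 0) → ∀ x ∈ I, T φ x ∈ I)
    (j : V →ₗ[k] A) (hj : Hoch.IsComodHom A j)
    (b : Module.Basis ι k V) (S : Set ι) (hb1 : ∀ i ∈ S, j (b i) ∈ I)
    (hb2 : ∀ x, j x ∈ I → ∀ i ∉ S, b.repr x i = 0) :
    ∀ i ∉ S, ∀ m ∈ S, comatrix (A := A) b i m ∈ I := by
  intro i hi m hm
  by_contra hnot
  obtain ⟨φ, hφ1, hφ2⟩ := Submodule.exists_le_ker_of_notMem
    (p := I.restrictScalars k) (v := comatrix (A := A) b i m) hnot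
  apply hφ1
  rw [comatrix_apply, coeffMap_apply, apply_lslice]
  change b.repr (T φ (b m)) i = 0
  apply hb2 _ _ i hi
  rw [map_T_of_isComodHom hj]
  exact hT φ (fun x hx => hφ2 hx) _ (hb1 m hm)

end BlockLemmas

section Cramer

variable {R : Type*} [CommRing R] {d : ℕ}

theorem eq_zero_of_det_updateRow_eq_zero (P : Matrix (Fin d) (Fin d) R) (hP : IsUnit P.det)
    (v : Fin d → R) (h : ∀ m, (P.updateRow m v).det = 0) : v = 0 := by
  have h1 : Matrix.cramer P.transpose v = 0 := by
    funext m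
    rw [Matrix.cramer_transpose_apply, h m]
    rfl
  have h2 := Matrix.mulVec_cramer P.transpose v
  rw [h1, Matrix.mulVec_zero, Matrix.det_transpose] at h2
  obtain ⟨u, hu⟩ := hP
  funext m
  have h3 := congrFun h2 m
  rw [Pi.zero_apply, Pi.smul_apply, smul_eq_mul, ← hu] at h3
  have := congrArg (fun t => (↑u⁻¹ : R) * t) h3
  simp only [mul_zero, ← mul_assoc, Units.inv_mul, one_mul] at this
  rw [Pi.zero_apply]
  exact this.symm

end Cramer

section TheoremX

variable {k Q : Type u} [Field k] [CommRing Q] [HopfAlgebra k Q]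

/-- A normal closed subgroup whose quotient has only constant functions is the whole group. -/
theorem eq_bot_of_coinvSub_trivial (J : Ideal Q) [J.IsHopfIdeal k]
    (hJ : SGA3.IsNormalHopfIdeal k Q J)
    (hco : ∀ x ∈ coinvSub k J, ∃ c : k, x = algebraMap k Q c) : J = ⊥ := by
  classical
  rw [eq_bot_iff]
  intro x hx
  rw [Ideal.mem_bot]
  obtain ⟨U, hUfg, hUsub, hxU⟩ := exists_fg_subcomod_mem (k := k) (A := Q) (V := Q) x
  letI := subComod U hUsub
  haveI : Module.Finite k U := Module.Finite.iff_fg.mpr hUfg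
  have hj := isComodHom_subtype U hUsub
  obtain ⟨d, n, b, hb1, hb2⟩ :=
    exists_adapted_basis (Submodule.comap U.subtype (J.restrictScalars k))
  have ha := isComatrix_comatrix (A := Q) b
  set a := comatrix (A := Q) b with ha_def
  have hcoid : (J.restrictScalars k).IsCoideal := inferInstance
  -- the lower-left block lies in `J`
  have hR : ∀ i m, a (Sum.inr i) (Sum.inl m) ∈ J := by
    intro i m
    refine block_mem_of_T_stable J (fun φ hφ x hx => T_mem_of_isCoideal J φ hφ x hx)
      U.subtype hj b (Set.range Sum.inl) ?_ ?_ (Sum.inr i) ?_ (Sum.inl m) ⟨m, rfl⟩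
    · rintro _ ⟨m, rfl⟩
      exact hb1 m
    · intro x hx i hi
      cases i with
      | inl m => exact absurd ⟨m, rfl⟩ hi
      | inr j => exact hb2 x hx j
    · rintro ⟨m', hm'⟩
      exact Sum.inl_ne_inr hm'
  set δ := minorL a Sum.inl with hδ_def
  have hδ : IsSemiChar (k := k) J δ :=
    ⟨counit_minorL_inl ha, fun R _ _ g n hn =>
      convMul_minorL ha g n (fun i j => hn _ (hR i j)) Sum.inl⟩
  have hconj := fun (R : Type u) [CommRing R] [Algebra k R] (g' n' : WithConv (Q →ₐ[k] R))
    (hn' : Kills J n') => hδ.conj_eq hJ hco g' n' hn'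
  -- the products `D_r · S δ` are coinvariant
  have hE : ∀ r : Fin d → Fin d ⊕ Fin n,
      minorL a r * HopfAlgebra.antipode k δ ∈ coinvSub k J := by
    intro r
    apply mem_coinvSub_of_forall
    intro g m hm
    rw [map_mul, map_mul, convMul_minorL ha g m (fun i j => hm _ (hR i j)) r]
    have h1 : (g * m).ofConv (HopfAlgebra.antipode k δ) = ((g * m)⁻¹).ofConv δ := rfl
    have hG : ∀ (G : Type u) [Group G] (g n : G),
        (g * n)⁻¹ = g⁻¹ * ((g⁻¹)⁻¹ * n⁻¹ * g⁻¹) := by
      intro G _ g n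
      group
    have h2 : g.ofConv (HopfAlgebra.antipode k δ) = (g⁻¹).ofConv δ := rfl
    have e := hG _ g m
    rw [h1, e, hδ.2 _ g⁻¹ _ (Kills.conj' J hJ (Kills.inv J hm) g⁻¹),
      hconj _ g⁻¹ m⁻¹ (Kills.inv J hm), h2]
    have h3 := hδ.self_mul_inv m hm
    calc g.ofConv (minorL a r) * m.ofConv (minorL a Sum.inl) *
          ((g⁻¹).ofConv δ * (m⁻¹).ofConv δ)
        = g.ofConv (minorL a r) * (g⁻¹).ofConv δ * (m.ofConv δ * (m⁻¹).ofConv δ) := by ring
      _ = g.ofConv (minorL a r) * (g⁻¹).ofConv δ := by rw [h3, mul_one]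
  have hEval : ∀ r : Fin d → Fin d ⊕ Fin n, minorL a r * HopfAlgebra.antipode k δ =
      algebraMap k Q (CoalgebraStruct.counit (R := k) (minorL a r)) := by
    intro r
    obtain ⟨c, hc⟩ := hco _ (hE r)
    have h1 := congrArg (CoalgebraStruct.counit (R := k) (A := Q)) hc
    rw [Bialgebra.counit_mul, HopfAlgebra.counit_antipode, hδ.1, mul_one,
      Bialgebra.counit_algebraMap] at h1
    rw [hc, h1]
  have hunit : δ * HopfAlgebra.antipode k δ = 1 := by
    have := hEval Sum.inl
    rw [hδ.1, map_one] at this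
    exact this
  have hD : ∀ (m₀ : Fin d) (i : Fin n),
      minorL a (Function.update Sum.inl m₀ (Sum.inr i)) = 0 := by
    intro m₀ i
    have h1 := hEval (Function.update Sum.inl m₀ (Sum.inr i))
    rw [counit_minorL_update ha, map_zero] at h1
    calc minorL a (Function.update Sum.inl m₀ (Sum.inr i))
        = minorL a (Function.update Sum.inl m₀ (Sum.inr i)) *
            (δ * HopfAlgebra.antipode k δ) := by rw [hunit, mul_one]
      _ = (minorL a (Function.update Sum.inl m₀ (Sum.inr i)) * HopfAlgebra.antipode k δ) * δ := by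
          ring
      _ = 0 := by rw [h1, zero_mul]
  -- Cramer: the lower-left block vanishes
  have hR0 : ∀ i m, a (Sum.inr i) (Sum.inl m) = 0 := by
    intro i m
    have hP : IsUnit (a.submatrix Sum.inl Sum.inl).det :=
      IsUnit.of_mul_eq_one _ hunit
    have := eq_zero_of_det_updateRow_eq_zero (a.submatrix Sum.inl Sum.inl) hP
      (fun m => a (Sum.inr i) (Sum.inl m)) (by
        intro m₀
        have h1 := hD m₀ i
        unfold minorL at h1
        rw [← h1]
        congr 1
        ext p q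
        by_cases hp : p = m₀
        · subst hp
          simp
        · simp [Matrix.updateRow_ne hp, Function.update_of_ne hp])
    exact congrFun this m
  -- conclusion
  have hmem := mem_span_block_of_repr_eq_zero (A := Q) U.subtype hj b (Set.range Sum.inl)
    (by
      rintro _ ⟨m, rfl⟩
      exact hcoid.counit_eq_zero (hb1 m))
    ⟨x, hxU⟩ (by
      intro i hi
      cases i with
      | inl m => exact absurd ⟨m, rfl⟩ hi
      | inr j => exact hb2 ⟨x, hxU⟩ hx j)
  have hle : Ideal.span {y | ∃ i ∉ Set.range (Sum.inl : Fin d → Fin d ⊕ Fin n),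
      ∃ m ∈ Set.range (Sum.inl : Fin d → Fin d ⊕ Fin n), y = comatrix (A := Q) b i m} ≤ ⊥ := by
    rw [Ideal.span_le]
    rintro _ ⟨i, hi, _, ⟨m, rfl⟩, rfl⟩
    cases i with
    | inl m' => exact absurd ⟨m', rfl⟩ hi
    | inr i' => exact hR0 i' m
  exact hle hmem

end TheoremX

end Groth.Agent.Lib.Helper25
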