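import Mathlib

/-!
# Helper25ObsA: convolution-ring calculus for obstruction theory

`push L u` (post-composition of a linear map `C → B` with `L : B → B'`), the "ideal" `IsJ J`
of maps with values in `J • ⊤`, and elementary facts.
-/

set_option autoImplicit false
universe u v
open TensorProduct WithConv Coalgebra

namespace Groth.Agent.Lib.Helper25.Obs

section Push
variable {R : Type*} [CommRing R] {C : Type*} [AddCommGroup C] [Module R C] [Coalgebra R C]
variable {B B' B'' : Type*} [CommRing B] [Algebra R B] [CommRing B'] [Algebra R B']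
  [CommRing B''] [Algebra R B'']

/-- post-composition. -/
noncomputable def push (L : B →ₗ[R] B') (u : WithConv (C →ₗ[R] B)) : WithConv (C →ₗ[R] B') :=
  toConv (L ∘ₗ u.ofConv)

@[simp] theorem push_apply (L : B →ₗ[R] B') (u : WithConv (C →ₗ[R] B)) (c : C) :
    push L u c = L (u c) := rfl

theorem push_add (L : B →ₗ[R] B') (u v : WithConv (C →ₗ[R] B)) :
    push L (u + v) = push L u + push L v := by
  ext c; simp [push]

theorem push_sub (L : B →ₗ[R] B') (u v : WithConv (C →ₗ[R] B)) :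
    push L (u - v) = push L u - push L v := by
  ext c; simp [push]

theorem push_zero (L : B →ₗ[R] B') : push L (0 : WithConv (C →ₗ[R] B)) = 0 := by
  ext c; simp [push]

theorem push_push (L' : B' →ₗ[R] B'') (L : B →ₗ[R] B') (u : WithConv (C →ₗ[R] B)) :
    push L' (push L u) = push (L' ∘ₗ L) u := rfl

theorem push_id (u : WithConv (C →ₗ[R] B)) : push LinearMap.id u = u := rfl

theorem push_one (L : B →ₐ[R] B') :
    push L.toLinearMap (1 : WithConv (C →ₗ[R] B)) = 1 := by
  ext c; simp [push]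

theorem push_mul (L : B →ₐ[R] B') (u v : WithConv (C →ₗ[R] B)) :
    push L.toLinearMap (u * v) = push L.toLinearMap u * push L.toLinearMap v := by
  apply WithConv.ext
  exact LinearMap.algHom_comp_convMul_distrib L u v

theorem conv_apply_repr (u v : WithConv (C →ₗ[R] B)) (c : C) :
    (u * v) c = ∑ i ∈ (ℛ R c).index, u ((ℛ R c).left i) * v ((ℛ R c).right i) :=
  (ℛ R c).convMul_apply u v

/-- module-linearity of a pushforward, left version. -/
theorem push_mul_left (L : B' →ₗ[R] B) (ι : B →ₐ[R] B')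
    (hL : ∀ y z, L (ι y * z) = y * L z)
    (g : WithConv (C →ₗ[R] B)) (u : WithConv (C →ₗ[R] B')) :
    push L (push ι.toLinearMap g * u) = g * push L u := by
  ext c
  rw [push_apply, conv_apply_repr, conv_apply_repr, map_sum]
  refine Finset.sum_congr rfl fun i _ => ?_
  rw [push_apply, push_apply]
  exact hL _ _

theorem push_mul_right (L : B' →ₗ[R] B) (ι : B →ₐ[R] B')
    (hL : ∀ y z, L (ι y * z) = y * L z)
    (g : WithConv (C →ₗ[R] B)) (u : WithConv (C →ₗ[R] B')) :
    push L (u * push ι.toLinearMap g) = push L u * g := by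
  ext c
  rw [push_apply, conv_apply_repr, conv_apply_repr, map_sum]
  refine Finset.sum_congr rfl fun i _ => ?_
  rw [push_apply, push_apply, mul_comm, mul_comm (L _)]
  exact hL _ _

/-- the maps with values in `J • ⊤`. -/
def IsJ (J : Ideal R) (u : WithConv (C →ₗ[R] B)) : Prop :=
  ∀ c : C, u c ∈ J • (⊤ : Submodule R B)

theorem smulTop_mul_mem (J : Ideal R) {x : B} (hx : x ∈ J • (⊤ : Submodule R B)) (b : B) :
    x * b ∈ J • (⊤ : Submodule R B) := by
  refine Submodule.smul_induction_on hx (fun r hr y _ => ?_) (fun x y hx hy => ?_)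
  · rw [smul_mul_assoc]; exact Submodule.smul_mem_smul hr trivial
  · rw [add_mul]; exact add_mem hx hy

theorem map_mem_smulTop (J : Ideal R) (L : B →ₗ[R] B') {x : B}
    (hx : x ∈ J • (⊤ : Submodule R B)) : L x ∈ J • (⊤ : Submodule R B') := by
  refine Submodule.smul_induction_on hx (fun r hr y _ => ?_) (fun x y hx hy => ?_)
  · rw [map_smul]; exact Submodule.smul_mem_smul hr trivial
  · rw [map_add]; exact add_mem hx hy

theorem smulTop_mul_eq_zero (J : Ideal R) (hJ : ∀ r ∈ J, ∀ s ∈ J, algebraMap R B (r * s) = 0)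
    {x y : B} (hx : x ∈ J • (⊤ : Submodule R B)) (hy : y ∈ J • (⊤ : Submodule R B)) :
    x * y = 0 := by
  refine Submodule.smul_induction_on hx (fun r hr a _ => ?_) (fun x x' hx hx' => ?_)
  · refine Submodule.smul_induction_on hy (fun s hs b _ => ?_) (fun y y' hy hy' => ?_)
    · rw [smul_mul_smul_comm, Algebra.smul_def, hJ r hr s hs, zero_mul]
    · rw [mul_add, hy, hy', add_zero]
  · rw [add_mul, hx, hx', add_zero]

theorem IsJ.push {J : Ideal R} {u : WithConv (C →ₗ[R] B)} (hu : IsJ J u) (L : B →ₗ[R] B') :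
    IsJ J (push L u) := fun c => map_mem_smulTop J L (hu c)

theorem IsJ.add {J : Ideal R} {u v : WithConv (C →ₗ[R] B)} (hu : IsJ J u) (hv : IsJ J v) :
    IsJ J (u + v) := fun c => add_mem (hu c) (hv c)

theorem IsJ.sub {J : Ideal R} {u v : WithConv (C →ₗ[R] B)} (hu : IsJ J u) (hv : IsJ J v) :
    IsJ J (u - v) := fun c => sub_mem (hu c) (hv c)

theorem IsJ.mul_right {J : Ideal R} {u : WithConv (C →ₗ[R] B)} (hu : IsJ J u)
    (v : WithConv (C →ₗ[R] B)) : IsJ J (u * v) := by
  intro c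
  rw [conv_apply_repr]
  exact Submodule.sum_mem _ fun i _ => smulTop_mul_mem J (hu _) _

theorem IsJ.mul_left {J : Ideal R} {u : WithConv (C →ₗ[R] B)} (hu : IsJ J u)
    (v : WithConv (C →ₗ[R] B)) : IsJ J (v * u) := by
  intro c
  rw [conv_apply_repr]
  refine Submodule.sum_mem _ fun i _ => ?_
  rw [mul_comm]
  exact smulTop_mul_mem J (hu _) _

theorem IsJ.mul_eq_zero {J : Ideal R} (hJ : ∀ r ∈ J, ∀ s ∈ J, algebraMap R B (r * s) = 0)
    {u v : WithConv (C →ₗ[R] B)} (hu : IsJ J u) (hv : IsJ J v) : u * v = 0 := by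
  ext c
  rw [conv_apply_repr]
  exact Finset.sum_eq_zero fun i _ => smulTop_mul_eq_zero J hJ (hu _) (hv _)

end Push

section AlgElts
variable {R : Type*} [CommRing R] {C : Type*} [CommRing C] [HopfAlgebra R C]
variable {B B' : Type*} [CommRing B] [Algebra R B] [CommRing B'] [Algebra R B']

/-- an algebra hom as an element of the convolution ring. -/
noncomputable def ofAlg (g : C →ₐ[R] B) : WithConv (C →ₗ[R] B) := toConv g.toLinearMap

/-- the convolution inverse of an algebra hom. -/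
noncomputable def invAlg (g : C →ₐ[R] B) : WithConv (C →ₗ[R] B) :=
  toConv (g.toLinearMap ∘ₗ HopfAlgebra.antipode R)

@[simp] theorem ofAlg_apply (g : C →ₐ[R] B) (c : C) : ofAlg g c = g c := rfl

@[simp] theorem invAlg_apply (g : C →ₐ[R] B) (c : C) :
    invAlg g c = g (HopfAlgebra.antipode R c) := rfl

theorem push_ofAlg (L : B →ₐ[R] B') (g : C →ₐ[R] B) :
    push L.toLinearMap (ofAlg g) = ofAlg (L.comp g) := rfl

theorem push_invAlg (L : B →ₐ[R] B') (g : C →ₐ[R] B) :
    push L.toLinearMap (invAlg g) = invAlg (L.comp g) := rfl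

theorem ofAlg_mul_invAlg (g : C →ₐ[R] B) : ofAlg g * invAlg g = 1 := by
  have h1 : ofAlg g = push g.toLinearMap (toConv (LinearMap.id : C →ₗ[R] C)) := rfl
  have h2 : invAlg g = push g.toLinearMap (toConv (HopfAlgebra.antipode R (A := C))) := rfl
  rw [h1, h2, ← push_mul, LinearMap.id_mul_antipode, push_one]

theorem invAlg_mul_ofAlg (g : C →ₐ[R] B) : invAlg g * ofAlg g = 1 := by
  have h1 : ofAlg g = push g.toLinearMap (toConv (LinearMap.id : C →ₗ[R] C)) := rfl
  have h2 : invAlg g = push g.toLinearMap (toConv (HopfAlgebra.antipode R (A := C))) := rfl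
  rw [h1, h2, ← push_mul, LinearMap.antipode_mul_id, push_one]

theorem ofAlg_convMul (g h : C →ₐ[R] B) :
    ofAlg ((toConv g * toConv h : WithConv (C →ₐ[R] B)).ofConv) = ofAlg g * ofAlg h := rfl

theorem ofAlg_one : ofAlg ((1 : WithConv (C →ₐ[R] B)).ofConv) = 1 := rfl

end AlgElts

section Integ
variable {R : Type*} [CommRing R] {A : Type*} [CommRing A] [Algebra R A] (I0 : A →ₗ[R] R)
variable (B : Type*) [CommRing B] [Algebra R B] {B' : Type*} [CommRing B'] [Algebra R B']

/-- integration along the last factor: `y ⊗ a ↦ I0 a • y`. -/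
noncomputable def integ : B ⊗[R] A →ₗ[R] B :=
  (TensorProduct.rid R B).toLinearMap ∘ₗ LinearMap.lTensor B I0

@[simp] theorem integ_tmul (y : B) (a : A) : integ I0 B (y ⊗ₜ[R] a) = I0 a • y := by
  simp [integ]

theorem integ_mul (y : B) (z : B ⊗[R] A) :
    integ I0 B ((Algebra.TensorProduct.includeLeft : B →ₐ[R] B ⊗[R] A) y * z) = y * integ I0 B z := by
  induction z using TensorProduct.induction_on with
  | zero => simp
  | tmul y' a =>
    rw [Algebra.TensorProduct.includeLeft_apply, Algebra.TensorProduct.tmul_mul_tmul, one_mul,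
      integ_tmul, integ_tmul, mul_smul_comm]
  | add z z' hz hz' => rw [mul_add, map_add, hz, hz', map_add, mul_add]

theorem integ_includeLeft (h1 : I0 1 = 1) (y : B) : integ I0 B (y ⊗ₜ[R] 1) = y := by
  rw [integ_tmul, h1, one_smul]

theorem integ_map (f : B →ₐ[R] B') (z : B ⊗[R] A) :
    integ I0 B' (Algebra.TensorProduct.map f (AlgHom.id R A) z) = f (integ I0 B z) := by
  induction z using TensorProduct.induction_on with
  | zero => simp
  | tmul y a => simp
  | add z z' hz hz' => rw [map_add, map_add, hz, hz', map_add, map_add]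

theorem integ_assoc_symm (y : B) (w : A ⊗[R] A) :
    integ I0 (B ⊗[R] A) ((TensorProduct.assoc R B A A).symm (y ⊗ₜ[R] w)) =
      y ⊗ₜ[R] integ I0 A w := by
  induction w using TensorProduct.induction_on with
  | zero => simp
  | tmul a b => simp [TensorProduct.tmul_smul, TensorProduct.smul_tmul']
  | add w w' hw hw' => rw [TensorProduct.tmul_add, map_add, map_add, hw, hw', map_add, TensorProduct.tmul_add]

end Integ

section Maps
variable (R : Type*) [CommRing R] (A : Type*) [CommRing A] [HopfAlgebra R A]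

/-- comultiplication `h ↦ (h₁h₂)`. -/
noncomputable def cΔ : A →ₐ[R] A ⊗[R] A := Bialgebra.comulAlgHom R A
/-- first projection. -/
noncomputable def i1 : A →ₐ[R] A ⊗[R] A := Algebra.TensorProduct.includeLeft
/-- second projection. -/
noncomputable def i2 : A →ₐ[R] A ⊗[R] A := Algebra.TensorProduct.includeRight
/-- `(h₁,h₂,x) ↦ (h₁h₂,x)`. -/
noncomputable def d1 : A ⊗[R] A →ₐ[R] (A ⊗[R] A) ⊗[R] A :=
  Algebra.TensorProduct.map (cΔ R A) (AlgHom.id R A)
/-- `(h₁,h₂,x) ↦ (h₁,h₂x)`. -/
noncomputable def d2 : A ⊗[R] A →ₐ[R] (A ⊗[R] A) ⊗[R] A :=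
  ((Algebra.TensorProduct.assoc R R R A A A).symm : A ⊗[R] (A ⊗[R] A) →ₐ[R] (A ⊗[R] A) ⊗[R] A).comp
    (Algebra.TensorProduct.map (AlgHom.id R A) (cΔ R A))
/-- `(h₁,h₂,x) ↦ (h₁,h₂)`. -/
noncomputable def i12 : A ⊗[R] A →ₐ[R] (A ⊗[R] A) ⊗[R] A := Algebra.TensorProduct.includeLeft
/-- `(h₁,h₂,x) ↦ (h₂,x)`. -/
noncomputable def i23 : A ⊗[R] A →ₐ[R] (A ⊗[R] A) ⊗[R] A :=
  Algebra.TensorProduct.map (i2 R A) (AlgHom.id R A)
/-- `(h₁,h₂,x) ↦ x`. -/
noncomputable def j3 : A →ₐ[R] (A ⊗[R] A) ⊗[R] A := Algebra.TensorProduct.includeRight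

theorem d1_tmul (a b : A) : d1 R A (a ⊗ₜ[R] b) = Coalgebra.comul (R := R) a ⊗ₜ[R] b := by
  simp [d1, cΔ]

theorem d2_tmul (a b : A) : d2 R A (a ⊗ₜ[R] b) =
    (TensorProduct.assoc R A A A).symm (a ⊗ₜ[R] Coalgebra.comul (R := R) b) := by
  simp [d2, cΔ]
  rfl

theorem r1 : (d1 R A).comp (cΔ R A) = (d2 R A).comp (cΔ R A) := by
  ext a
  have h := Coalgebra.coassoc_symm_apply (R := R) a
  have e1 : (d1 R A) (cΔ R A a) = LinearMap.rTensor A (Coalgebra.comul (R := R)) (Coalgebra.comul (R := R) a) := by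
    change (d1 R A) (Coalgebra.comul (R := R) a) = _
    generalize Coalgebra.comul (R := R) a = z
    induction z using TensorProduct.induction_on with
    | zero => simp
    | tmul x y => rw [d1_tmul]; rfl
    | add z z' hz hz' => rw [map_add, map_add, hz, hz']
  have e2 : (d2 R A) (cΔ R A a) = (TensorProduct.assoc R A A A).symm
      (LinearMap.lTensor A (Coalgebra.comul (R := R)) (Coalgebra.comul (R := R) a)) := by
    change (d2 R A) (Coalgebra.comul (R := R) a) = _
    generalize Coalgebra.comul (R := R) a = z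
    induction z using TensorProduct.induction_on with
    | zero => simp
    | tmul x y => rw [d2_tmul]; rfl
    | add z z' hz hz' => rw [map_add, map_add, map_add, hz, hz']
  change (d1 R A) (cΔ R A a) = (d2 R A) (cΔ R A a)
  rw [e1, e2, h]

theorem r2 : (d1 R A).comp (i1 R A) = (i12 R A).comp (cΔ R A) := by
  ext a; simp [d1, i1, i12, cΔ]

theorem r3 : (d1 R A).comp (i2 R A) = j3 R A := by
  ext a; simp [d1, i2, j3, cΔ]

theorem r4 : (d2 R A).comp (i1 R A) = (i12 R A).comp (i1 R A) := by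
  ext a
  change d2 R A (a ⊗ₜ[R] 1) = (a ⊗ₜ[R] 1) ⊗ₜ[R] 1
  rw [d2_tmul, Bialgebra.comul_one]
  rfl

theorem r5 : (d2 R A).comp (i2 R A) = (i23 R A).comp (cΔ R A) := by
  ext a
  change d2 R A (1 ⊗ₜ[R] a) = i23 R A (Coalgebra.comul (R := R) a)
  rw [d2_tmul]
  generalize Coalgebra.comul (R := R) a = z
  induction z using TensorProduct.induction_on with
  | zero => simp
  | tmul x y => simp [i23, i2]
  | add z z' hz hz' => rw [TensorProduct.tmul_add, map_add, map_add, hz, hz']

theorem r6 : (i23 R A).comp (i1 R A) = (i12 R A).comp (i2 R A) := by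
  ext a; simp [i23, i1, i12, i2]

theorem r7 : (i23 R A).comp (i2 R A) = j3 R A := by
  ext a; simp [i23, i2, j3]

end Maps

section Key
variable {R : Type*} [CommRing R] {A : Type*} [CommRing A] [HopfAlgebra R A]
variable {C : Type*} [CommRing C] [HopfAlgebra R C]
variable (I0 : A →ₗ[R] R)

theorem Pb : (integ I0 (A ⊗[R] A)) ∘ₗ (d1 R A).toLinearMap =
    (cΔ R A).toLinearMap ∘ₗ integ I0 A :=
  LinearMap.ext fun z => integ_map I0 A (cΔ R A) z

theorem Pd : (integ I0 (A ⊗[R] A)) ∘ₗ (i23 R A).toLinearMap =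
    (i2 R A).toLinearMap ∘ₗ integ I0 A :=
  LinearMap.ext fun z => integ_map I0 A (i2 R A) z

theorem Pc (hinv : ∀ a : A, integ I0 A (Coalgebra.comul (R := R) a) = I0 a • (1 : A)) :
    (integ I0 (A ⊗[R] A)) ∘ₗ (d2 R A).toLinearMap =
    (i1 R A).toLinearMap ∘ₗ integ I0 A := by
  refine TensorProduct.ext' fun a b => ?_
  change integ I0 (A ⊗[R] A) (d2 R A (a ⊗ₜ[R] b)) = i1 R A (integ I0 A (a ⊗ₜ[R] b))
  rw [d2_tmul, integ_assoc_symm, hinv, integ_tmul]
  change a ⊗ₜ[R] (I0 b • (1 : A)) = (I0 b • a) ⊗ₜ[R] (1 : A)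
  rw [TensorProduct.tmul_smul, TensorProduct.smul_tmul']

theorem Pa (h1 : I0 1 = 1) : (integ I0 (A ⊗[R] A)) ∘ₗ (i12 R A).toLinearMap = LinearMap.id :=
  LinearMap.ext fun z => integ_includeLeft I0 (A ⊗[R] A) h1 z

theorem hL3 (y z) : integ I0 (A ⊗[R] A) ((i12 R A) y * z) = y * integ I0 (A ⊗[R] A) z :=
  integ_mul I0 (A ⊗[R] A) y z

/-- **Key lifting lemma** (vanishing of the Hochschild `H²` through an invariant integral):
an algebra map `ψ : C → A` which is comultiplicative modulo a square-zero ideal `J` can be corrected,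
modulo `J`, to a comultiplicative algebra map. -/
theorem key_lift (J : Ideal R) (hJ : J ^ 2 = ⊥) (h1 : I0 1 = 1)
    (hinv : ∀ a : A, integ I0 A (Coalgebra.comul (R := R) a) = I0 a • (1 : A))
    (ψ : C →ₐ[R] A)
    (hψ : ∀ c : C, Coalgebra.comul (R := R) (ψ c) -
      Algebra.TensorProduct.map ψ ψ (Coalgebra.comul (R := R) c) ∈
        J • (⊤ : Submodule R (A ⊗[R] A))) :
    ∃ φ : C →ₐ[R] A,
      (∀ c, Coalgebra.comul (R := R) (φ c) =
        Algebra.TensorProduct.map φ φ (Coalgebra.comul (R := R) c)) ∧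
      ∀ c, φ c - ψ c ∈ J • (⊤ : Submodule R A) := by
  classical
  have hJ' : ∀ (B : Type _) [CommRing B] [Algebra R B], ∀ r ∈ J, ∀ s ∈ J,
      algebraMap R B (r * s) = 0 := by
    intro B _ _ r hr s hs
    have : r * s ∈ J ^ 2 := by rw [pow_two]; exact Ideal.mul_mem_mul hr hs
    rw [hJ] at this
    rw [(Ideal.mem_bot).1 this, map_zero]
  -- the algebra-hom valued cocycle
  let S : C →ₐ[R] C := HopfAlgebra.antipodeAlgHom R C
  let cA : C →ₐ[R] A ⊗[R] A :=
    (toConv ((cΔ R A).comp ψ) * toConv (((i2 R A).comp ψ).comp S) *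
      toConv (((i1 R A).comp ψ).comp S) : WithConv (C →ₐ[R] A ⊗[R] A)).ofConv
  -- elements of the convolution rings
  let F : WithConv (C →ₗ[R] A) := ofAlg ψ
  let F₁ : WithConv (C →ₗ[R] A ⊗[R] A) := ofAlg ((i1 R A).comp ψ)
  let F₂ : WithConv (C →ₗ[R] A ⊗[R] A) := ofAlg ((i2 R A).comp ψ)
  let F₁₂ : WithConv (C →ₗ[R] A ⊗[R] A) := ofAlg ((cΔ R A).comp ψ)
  let F₁' : WithConv (C →ₗ[R] A ⊗[R] A) := invAlg ((i1 R A).comp ψ)
  let F₂' : WithConv (C →ₗ[R] A ⊗[R] A) := invAlg ((i2 R A).comp ψ)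
  let c : WithConv (C →ₗ[R] A ⊗[R] A) := ofAlg cA
  have hc : c = F₁₂ * F₂' * F₁' := rfl
  have E0 : F₁₂ = c * F₁ * F₂ := by
    rw [hc, mul_assoc (F₁₂ * F₂'), invAlg_mul_ofAlg, mul_one, mul_assoc, invAlg_mul_ofAlg, mul_one]
  let ξ : WithConv (C →ₗ[R] A ⊗[R] A) := c - 1
  have hcξ : c = 1 + ξ := by simp [ξ]
  -- ξ ∈ 𝓙
  have hF12 : IsJ J (F₁₂ - F₁ * F₂) := by
    intro x
    have e : (F₁ * F₂) x = Algebra.TensorProduct.map ψ ψ (Coalgebra.comul (R := R) x) := by
      rw [conv_apply_repr]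
      conv_rhs => rw [← (ℛ R x).eq, map_sum]
      refine Finset.sum_congr rfl fun i _ => ?_
      simp [F₁, F₂, i1, i2]
    change F₁₂ x - (F₁ * F₂) x ∈ _
    rw [e]
    exact hψ x
  have hξ : IsJ J ξ := by
    have : ξ = (F₁₂ - F₁ * F₂) * F₂' * F₁' := by
      rw [sub_mul, sub_mul, ← hc, mul_assoc F₁, ofAlg_mul_invAlg, mul_one, ofAlg_mul_invAlg]
    rw [this]
    exact (hF12.mul_right _).mul_right _
  -- the correction
  let κ : WithConv (C →ₗ[R] A) := push (integ I0 A) ξ
  have hκ : IsJ J κ := hξ.push _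
  -- the cocycle identity
  have hpush1 : ∀ {B B' : Type _} [CommRing B] [Algebra R B] [CommRing B'] [Algebra R B']
      (L : B →ₐ[R] B') (u : WithConv (C →ₗ[R] B)), push L.toLinearMap (1 + u) =
        1 + push L.toLinearMap u := by
    intro B B' _ _ _ _ L u
    rw [push_add, push_one]
  let G : WithConv (C →ₗ[R] (A ⊗[R] A) ⊗[R] A) := push (i12 R A).toLinearMap F₁
  let U : WithConv (C →ₗ[R] (A ⊗[R] A) ⊗[R] A) :=
    push (i12 R A).toLinearMap F₂ * push (j3 R A).toLinearMap F
  let U' : WithConv (C →ₗ[R] (A ⊗[R] A) ⊗[R] A) :=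
    invAlg ((j3 R A).comp ψ) * invAlg ((i12 R A).comp ((i2 R A).comp ψ))
  have hUU' : U * U' = 1 := by
    change ofAlg ((i12 R A).comp ((i2 R A).comp ψ)) * ofAlg ((j3 R A).comp ψ) *
      (invAlg ((j3 R A).comp ψ) * invAlg ((i12 R A).comp ((i2 R A).comp ψ))) = 1
    rw [mul_assoc, ← mul_assoc (ofAlg ((j3 R A).comp ψ)), ofAlg_mul_invAlg, one_mul,
      ofAlg_mul_invAlg]
  have e1 : push (d1 R A).toLinearMap F₁₂ =
      push (d1 R A).toLinearMap c * push (i12 R A).toLinearMap c * G * U := by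
    rw [E0, push_mul, push_mul]
    have a1 : push (d1 R A).toLinearMap F₁ = push (i12 R A).toLinearMap F₁₂ := by
      change ofAlg ((d1 R A).comp ((i1 R A).comp ψ)) = ofAlg ((i12 R A).comp ((cΔ R A).comp ψ))
      rw [← AlgHom.comp_assoc, r2, AlgHom.comp_assoc]
    have a2 : push (d1 R A).toLinearMap F₂ = push (j3 R A).toLinearMap F := by
      change ofAlg ((d1 R A).comp ((i2 R A).comp ψ)) = ofAlg ((j3 R A).comp ψ)
      rw [← AlgHom.comp_assoc, r3]
    rw [a1, a2]
    conv_lhs => rw [E0, push_mul, push_mul]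
    simp only [G, U, mul_assoc]
  have e2 : push (d2 R A).toLinearMap F₁₂ =
      push (d2 R A).toLinearMap c * G * push (i23 R A).toLinearMap c * U := by
    rw [E0, push_mul, push_mul]
    have a1 : push (d2 R A).toLinearMap F₁ = G := by
      change ofAlg ((d2 R A).comp ((i1 R A).comp ψ)) = ofAlg ((i12 R A).comp ((i1 R A).comp ψ))
      rw [← AlgHom.comp_assoc, r4, AlgHom.comp_assoc]
    have a2 : push (d2 R A).toLinearMap F₂ = push (i23 R A).toLinearMap F₁₂ := by
      change ofAlg ((d2 R A).comp ((i2 R A).comp ψ)) = ofAlg ((i23 R A).comp ((cΔ R A).comp ψ))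
      rw [← AlgHom.comp_assoc, r5, AlgHom.comp_assoc]
    have a3 : push (i23 R A).toLinearMap F₁ = push (i12 R A).toLinearMap F₂ := by
      change ofAlg ((i23 R A).comp ((i1 R A).comp ψ)) = ofAlg ((i12 R A).comp ((i2 R A).comp ψ))
      rw [← AlgHom.comp_assoc, r6, AlgHom.comp_assoc]
    have a4 : push (i23 R A).toLinearMap F₂ = push (j3 R A).toLinearMap F := by
      change ofAlg ((i23 R A).comp ((i2 R A).comp ψ)) = ofAlg ((j3 R A).comp ψ)
      rw [← AlgHom.comp_assoc, r7]
    rw [a1, a2]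
    conv_lhs => rw [E0, push_mul, push_mul, a3, a4]
    simp only [U, mul_assoc]
  have e12 : push (d1 R A).toLinearMap F₁₂ = push (d2 R A).toLinearMap F₁₂ := by
    change ofAlg ((d1 R A).comp ((cΔ R A).comp ψ)) = ofAlg ((d2 R A).comp ((cΔ R A).comp ψ))
    rw [← AlgHom.comp_assoc, r1, AlgHom.comp_assoc]
  have E1 : push (d1 R A).toLinearMap c * push (i12 R A).toLinearMap c * G =
      push (d2 R A).toLinearMap c * G * push (i23 R A).toLinearMap c := by
    have := e12
    rw [e1, e2] at this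
    have h2 := congrArg (· * U') this
    change push (d1 R A).toLinearMap c * push (i12 R A).toLinearMap c * G * U * U' =
      push (d2 R A).toLinearMap c * G * push (i23 R A).toLinearMap c * U * U' at h2
    have h3 : ∀ X : WithConv (C →ₗ[R] (A ⊗[R] A) ⊗[R] A), X * 1 = X := fun X => mul_one X
    rw [mul_assoc _ U U', mul_assoc _ U U', hUU', h3, h3] at h2
    exact h2
  -- expand
  let ξ₁ := push (d1 R A).toLinearMap ξ
  let ξ₀ := push (i12 R A).toLinearMap ξ
  let ξ₂ := push (d2 R A).toLinearMap ξ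
  let ξ₃ := push (i23 R A).toLinearMap ξ
  have hz : ∀ {B : Type _} [CommRing B] [Algebra R B] {u v : WithConv (C →ₗ[R] B)},
      IsJ J u → IsJ J v → u * v = 0 := by
    intro B _ _ u v hu hv
    exact IsJ.mul_eq_zero (hJ' B) hu hv
  have star : (ξ₁ + ξ₀) * G = ξ₂ * G + G * ξ₃ := by
    have h := E1
    rw [hcξ, hpush1, hpush1, hpush1, hpush1] at h
    change (1 + ξ₁) * (1 + ξ₀) * G = (1 + ξ₂) * G * (1 + ξ₃) at h
    have z1 : ξ₁ * ξ₀ = 0 := hz (hξ.push _) (hξ.push _)
    have z2 : ξ₂ * G * ξ₃ = 0 := hz ((hξ.push _).mul_right _) (hξ.push _)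
    have hl : (1 + ξ₁) * (1 + ξ₀) * G = G + (ξ₁ + ξ₀) * G := by
      rw [add_mul 1 ξ₁, one_mul, mul_add ξ₁, mul_one, z1, add_zero, add_mul, add_mul,
        one_mul, add_mul]
      abel
    have hr : (1 + ξ₂) * G * (1 + ξ₃) = G + (ξ₂ * G + G * ξ₃) := by
      rw [add_mul 1 ξ₂, one_mul, mul_add, mul_one, add_mul, z2, add_zero]
      abel
    rw [hl, hr] at h
    exact add_left_cancel h
  -- integrate
  have star2 : (push (cΔ R A).toLinearMap κ + ξ) * F₁ =
      push (i1 R A).toLinearMap κ * F₁ + F₁ * push (i2 R A).toLinearMap κ := by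
    have h := congrArg (push (integ I0 (A ⊗[R] A))) star
    rw [push_add, add_mul, push_add] at h
    have t1 : push (integ I0 (A ⊗[R] A)) (ξ₁ * G) = push (cΔ R A).toLinearMap κ * F₁ := by
      rw [push_mul_right _ (i12 R A) (hL3 I0)]
      change push (integ I0 (A ⊗[R] A) ∘ₗ (d1 R A).toLinearMap) ξ * F₁ = _
      rw [Pb]
      rfl
    have t0 : push (integ I0 (A ⊗[R] A)) (ξ₀ * G) = ξ * F₁ := by
      rw [push_mul_right _ (i12 R A) (hL3 I0)]
      change push (integ I0 (A ⊗[R] A) ∘ₗ (i12 R A).toLinearMap) ξ * F₁ = _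
      rw [Pa I0 h1]
      rfl
    have t2 : push (integ I0 (A ⊗[R] A)) (ξ₂ * G) = push (i1 R A).toLinearMap κ * F₁ := by
      rw [push_mul_right _ (i12 R A) (hL3 I0)]
      change push (integ I0 (A ⊗[R] A) ∘ₗ (d2 R A).toLinearMap) ξ * F₁ = _
      rw [Pc I0 hinv]
      rfl
    have t3 : push (integ I0 (A ⊗[R] A)) (G * ξ₃) = F₁ * push (i2 R A).toLinearMap κ := by
      rw [push_mul_left _ (i12 R A) (hL3 I0)]
      change F₁ * push (integ I0 (A ⊗[R] A) ∘ₗ (i23 R A).toLinearMap) ξ = _
      rw [Pd]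
      rfl
    rw [t1, t0, t2, t3] at h
    rw [add_mul]
    exact h
  -- the corrected map, as a linear map
  let f' : WithConv (C →ₗ[R] A) := (1 + κ) * F
  have hcomul : push (cΔ R A).toLinearMap f' =
      push (i1 R A).toLinearMap f' * push (i2 R A).toLinearMap f' := by
    change push (cΔ R A).toLinearMap ((1 + κ) * F) =
      push (i1 R A).toLinearMap ((1 + κ) * F) * push (i2 R A).toLinearMap ((1 + κ) * F)
    rw [push_mul, push_mul, push_mul, hpush1, hpush1, hpush1]
    change (1 + push (cΔ R A).toLinearMap κ) * F₁₂ =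
      (1 + push (i1 R A).toLinearMap κ) * F₁ * ((1 + push (i2 R A).toLinearMap κ) * F₂)
    have z1 : push (cΔ R A).toLinearMap κ * ξ = 0 := hz (hκ.push _) hξ
    have z2 : push (i1 R A).toLinearMap κ * F₁ * push (i2 R A).toLinearMap κ = 0 :=
      hz ((hκ.push _).mul_right _) (hκ.push _)
    have hl : (1 + push (cΔ R A).toLinearMap κ) * F₁₂ =
        (F₁ + (push (cΔ R A).toLinearMap κ + ξ) * F₁) * F₂ := by
      rw [E0, hcξ, ← mul_assoc, ← mul_assoc]
      congr 1
      rw [add_mul 1, one_mul, mul_add, mul_one, z1, add_zero, add_mul, add_mul, one_mul, add_mul]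
      abel
    have hr : (1 + push (i1 R A).toLinearMap κ) * F₁ * ((1 + push (i2 R A).toLinearMap κ) * F₂) =
        (F₁ + (push (i1 R A).toLinearMap κ * F₁ + F₁ * push (i2 R A).toLinearMap κ)) * F₂ := by
      rw [← mul_assoc]
      congr 1
      rw [add_mul 1, one_mul, mul_add, mul_one, add_mul, z2, add_zero]
      abel
    rw [hl, hr, star2]
  -- `1 + κ` is an algebra hom
  have hk1 : (1 + κ : WithConv (C →ₗ[R] A)) = push (integ I0 A) c := by
    rw [hcξ, push_add]
    congr 1
    ext x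
    simp [h1, Algebra.TensorProduct.one_def, Algebra.algebraMap_eq_smul_one]
  have hξmul : ∀ x y : C, ξ (x * y) = Coalgebra.counit (R := R) x • ξ y +
      Coalgebra.counit (R := R) y • ξ x := by
    intro x y
    have hx : c x = algebraMap R _ (Coalgebra.counit (R := R) x) + ξ x := by
      rw [hcξ]; rfl
    have hy : c y = algebraMap R _ (Coalgebra.counit (R := R) y) + ξ y := by
      rw [hcξ]; rfl
    have hxy : c (x * y) = algebraMap R _ (Coalgebra.counit (R := R) (x * y)) + ξ (x * y) := by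
      rw [hcξ]; rfl
    have hm : c (x * y) = c x * c y := map_mul cA x y
    have z : ξ x * ξ y = 0 := smulTop_mul_eq_zero J (hJ' _) (hξ x) (hξ y)
    rw [hxy, hx, hy, Bialgebra.counit_mul, map_mul] at hm
    have : ξ (x * y) = algebraMap R (A ⊗[R] A) (Coalgebra.counit (R := R) x) * ξ y +
        ξ x * algebraMap R (A ⊗[R] A) (Coalgebra.counit (R := R) y) + ξ x * ξ y := by
      have := hm
      rw [add_mul, mul_add, mul_add] at this
      linear_combination this
    rw [this, z, add_zero, Algebra.smul_def, Algebra.smul_def, mul_comm (ξ x)]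
  have hκmul : ∀ x y : C, κ (x * y) = Coalgebra.counit (R := R) x • κ y +
      Coalgebra.counit (R := R) y • κ x := by
    intro x y
    change integ I0 A (ξ (x * y)) = _ • integ I0 A (ξ y) + _ • integ I0 A (ξ x)
    rw [hξmul, map_add, map_smul, map_smul]
  let kLin : C →ₗ[R] A := (1 + κ : WithConv (C →ₗ[R] A)).ofConv
  have hkone : kLin 1 = 1 := by
    change (1 + κ : WithConv (C →ₗ[R] A)) 1 = 1
    rw [hk1]
    change integ I0 A (cA 1) = 1
    rw [map_one, Algebra.TensorProduct.one_def, integ_tmul, h1, one_smul]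
  have hkmul : ∀ x y, kLin (x * y) = kLin x * kLin y := by
    intro x y
    have e : ∀ w : C, kLin w = algebraMap R A (Coalgebra.counit (R := R) w) + κ w := fun w => rfl
    have z : κ x * κ y = 0 := smulTop_mul_eq_zero J (hJ' _) (hκ x) (hκ y)
    rw [e, e, e, hκmul, Bialgebra.counit_mul, map_mul, add_mul, mul_add, mul_add, z, add_zero,
      Algebra.smul_def, Algebra.smul_def]
    ring
  let kAlg : C →ₐ[R] A := AlgHom.ofLinearMap kLin hkone hkmul
  let φ : C →ₐ[R] A := (toConv kAlg * toConv ψ : WithConv (C →ₐ[R] A)).ofConv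
  have hφ : ofAlg φ = f' := rfl
  refine ⟨φ, fun x => ?_, fun x => ?_⟩
  · have h := congrArg (fun u : WithConv (C →ₗ[R] A ⊗[R] A) => u x) hcomul
    change Coalgebra.comul (R := R) (f' x) = (push (i1 R A).toLinearMap f' *
      push (i2 R A).toLinearMap f') x at h
    have e : (push (i1 R A).toLinearMap f' * push (i2 R A).toLinearMap f') x =
        Algebra.TensorProduct.map φ φ (Coalgebra.comul (R := R) x) := by
      rw [conv_apply_repr]
      conv_rhs => rw [← (ℛ R x).eq, map_sum]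
      refine Finset.sum_congr rfl fun i _ => ?_
      rw [← hφ]
      simp [i1, i2]
    rw [e] at h
    exact h
  · have : φ x - ψ x = (κ * F) x := by
      change f' x - F x = _
      change ((1 + κ) * F) x - F x = _
      rw [add_mul, one_mul]
      simp
    rw [this]
    exact (hκ.mul_right F) x

end Key

section Counit
variable {R : Type*} [CommRing R] {A : Type*} [CommRing A] [HopfAlgebra R A]
variable {C : Type*} [CommRing C] [HopfAlgebra R C]

/-- a comultiplicative algebra map between commutative Hopf algebras preserves the counit. -/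
theorem counit_of_comul (φ : C →ₐ[R] A)
    (hφ : ∀ c, Coalgebra.comul (R := R) (φ c) =
      Algebra.TensorProduct.map φ φ (Coalgebra.comul (R := R) c)) (x : C) :
    Coalgebra.counit (R := R) (φ x) = Coalgebra.counit (R := R) x := by
  classical
  let e : C →ₐ[R] R := (Bialgebra.counitAlgHom R A).comp φ
  let E : WithConv (C →ₗ[R] R) := ofAlg e
  have hEE : E * E = E := by
    ext y
    rw [conv_apply_repr]
    change ∑ i ∈ (ℛ R y).index, Coalgebra.counit (R := R) (φ ((ℛ R y).left i)) *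
      Coalgebra.counit (R := R) (φ ((ℛ R y).right i)) = Coalgebra.counit (R := R) (φ y)
    have h1 : Coalgebra.comul (R := R) (φ y) =
        ∑ i ∈ (ℛ R y).index, φ ((ℛ R y).left i) ⊗ₜ[R] φ ((ℛ R y).right i) := by
      rw [hφ]
      conv_lhs => rw [← (ℛ R y).eq, map_sum]
      rfl
    have h2 := Coalgebra.rTensor_counit_comul (R := R) (φ y)
    rw [h1, map_sum] at h2
    have h3 := congrArg (fun z => Coalgebra.counit (R := R) (TensorProduct.lid R A z)) h2
    simp only [LinearMap.rTensor_tmul, map_sum, TensorProduct.lid_tmul, map_smul, smul_eq_mul,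
      one_smul] at h3
    exact h3
  have hE1 : E = 1 := by
    have : E * invAlg e = 1 := ofAlg_mul_invAlg e
    calc E = E * (E * invAlg e) := by rw [this, mul_one]
      _ = (E * E) * invAlg e := by rw [mul_assoc]
      _ = 1 := by rw [hEE, this]
  have := congrArg (fun u : WithConv (C →ₗ[R] R) => u x) hE1
  simpa [E, e] using this

/-- a comultiplicative algebra map between commutative Hopf algebras is a bialgebra map. -/
theorem exists_bialgHom_of_comul (φ : C →ₐ[R] A)
    (hφ : ∀ c, Coalgebra.comul (R := R) (φ c) =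
      Algebra.TensorProduct.map φ φ (Coalgebra.comul (R := R) c)) :
    ∃ Φ : C →ₐc[R] A, ∀ c, Φ c = φ c := by
  refine ⟨BialgHom.ofAlgHom φ ?_ ?_, fun c => rfl⟩
  · ext x
    exact counit_of_comul φ hφ x
  · ext x
    exact (hφ x).symm

end Counit

end Groth.Agent.Lib.Helper25.Obs
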