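import Groth.Agent.Lib.Helper25ObsA
import Groth.Agent.Lib.Helper25NilLift
import Groth.Agent.Lib.Helper25AdicA
import Groth.Agent.Lib.Helper25MultRigidB

/-!
# Helper25ObsB: the invariant integral of a group of multiplicative type

`IsInt l` : `l : A → S` is a normalised two-sided invariant `S`-valued integral of the Hopf
algebra `A` over `R`.  Uniqueness; existence for group algebras; descent along a jointly
faithfully flat family; existence for multiplicative type.
-/

set_option autoImplicit false
set_option linter.unusedSectionVars false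
set_option linter.style.haveILetI false
universe u v w
open TensorProduct

namespace Groth.Agent.Lib.Helper25.Obs

section Def
variable {R : Type*} [CommRing R] {A : Type*} [CommRing A] [Bialgebra R A]
variable {S : Type*} [CommRing S] [Algebra R S] {T : Type*} [CommRing T] [Algebra R T]

/-- normalised two-sided invariant integral with values in `S`. -/
structure IsInt (l : A →ₗ[R] S) : Prop where
  one : l 1 = 1
  left : ∀ a : A, LinearMap.lTensor A l (Coalgebra.comul (R := R) a) = (1 : A) ⊗ₜ[R] l a
  right : ∀ a : A, LinearMap.rTensor A l (Coalgebra.comul (R := R) a) = l a ⊗ₜ[R] (1 : A)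

theorem IsInt.comp {l : A →ₗ[R] S} (h : IsInt l) (g : S →ₐ[R] T) :
    IsInt (g.toLinearMap ∘ₗ l) where
  one := by simp [h.one]
  left a := by
    rw [LinearMap.lTensor_comp, LinearMap.comp_apply, h.left]
    rfl
  right a := by
    rw [LinearMap.rTensor_comp, LinearMap.comp_apply, h.right]
    rfl

theorem IsInt.unique {l l' : A →ₗ[R] S} (h : IsInt l) (h' : IsInt l') : l = l' := by
  ext a
  have e1 : LinearMap.mul' R S (TensorProduct.map l' l (Coalgebra.comul (R := R) a)) = l a := by
    have : TensorProduct.map l' l = LinearMap.rTensor S l' ∘ₗ LinearMap.lTensor A l := by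
      rw [LinearMap.rTensor_comp_lTensor]
    rw [this, LinearMap.comp_apply, h.left, LinearMap.rTensor_tmul, LinearMap.mul'_apply, h'.one,
      one_mul]
  have e2 : LinearMap.mul' R S (TensorProduct.map l' l (Coalgebra.comul (R := R) a)) = l' a := by
    have : TensorProduct.map l' l = LinearMap.lTensor S l ∘ₗ LinearMap.rTensor A l' := by
      rw [LinearMap.lTensor_comp_rTensor]
    rw [this, LinearMap.comp_apply, h'.right, LinearMap.lTensor_tmul, LinearMap.mul'_apply, h.one,
      mul_one]
  rw [← e1, e2]

theorem IsInt.integ_comul {l : A →ₗ[R] R} (h : IsInt l) (a : A) :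
    integ l A (Coalgebra.comul (R := R) a) = l a • (1 : A) := by
  change TensorProduct.rid R A (LinearMap.lTensor A l (Coalgebra.comul (R := R) a)) = _
  rw [h.left, TensorProduct.rid_tmul]

end Def

section GroupAlg
variable (S : Type u) [CommRing S] (M : Type u) [CommGroup M]

open Groth.Agent.Lib.Helper25.Adic in
theorem isInt_coeff : IsInt (coeffL S (1 : M)) where
  one := by
    rw [coeffL_apply, MonoidAlgebra.one_def, MonoidAlgebra.coeff_single, Finsupp.single_eq_same]
  left x := by
    classical
    induction x using MonoidAlgebra.induction_linear with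
    | zero => simp
    | add y z hy hz => rw [map_add, map_add, hy, hz, map_add, TensorProduct.tmul_add]
    | single g t =>
      rw [comul_single', LinearMap.lTensor_tmul, coeffL_apply,
        MonoidAlgebra.coeff_single, Finsupp.single_apply]
      by_cases hg : g = 1
      · subst hg
        rw [if_pos rfl, MonoidAlgebra.one_def]
      · rw [if_neg hg, TensorProduct.tmul_zero, TensorProduct.tmul_zero]
  right x := by
    classical
    induction x using MonoidAlgebra.induction_linear with
    | zero => simp
    | add y z hy hz => rw [map_add, map_add, hy, hz, map_add, TensorProduct.add_tmul]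
    | single g t =>
      rw [comul_single', LinearMap.rTensor_tmul]
      simp only [coeffL_apply, MonoidAlgebra.coeff_single, Finsupp.single_apply]
      by_cases hg : g = 1
      · subst hg
        rw [if_pos rfl, if_pos rfl]
        have : (MonoidAlgebra.single (1 : M) t : MonoidAlgebra S M) = t • (1 : MonoidAlgebra S M) := by
          rw [MonoidAlgebra.one_def, MonoidAlgebra.smul_single', mul_one]
        rw [this, TensorProduct.tmul_smul, TensorProduct.smul_tmul', smul_eq_mul, mul_one]
      · rw [if_neg hg, if_neg hg, TensorProduct.zero_tmul, TensorProduct.zero_tmul]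

end GroupAlg

section Equiv
variable {R : Type*} [CommRing R] {D D' : Type*} [CommRing D] [Bialgebra R D]
  [CommRing D'] [Bialgebra R D'] {T : Type*} [CommRing T] [Algebra R T]

theorem IsInt.of_equiv (e : D ≃ₐc[R] D') {l : D' →ₗ[R] T} (h : IsInt l) :
    IsInt (l ∘ₗ (e : D →ₗ[R] D')) where
  one := by
    rw [LinearMap.comp_apply]
    change l (e 1) = 1
    rw [map_one, h.one]
  left d := by
    have h1 : LinearMap.lTensor D (l ∘ₗ (e : D →ₗ[R] D')) =
        LinearMap.rTensor T (e.symm : D' →ₗ[R] D) ∘ₗ LinearMap.lTensor D' l ∘ₗ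
          TensorProduct.map (e : D →ₗ[R] D') (e : D →ₗ[R] D') := by
      refine TensorProduct.ext' fun a b => ?_
      simp
    have h2 : TensorProduct.map (e : D →ₗ[R] D') (e : D →ₗ[R] D') (Coalgebra.comul (R := R) d) =
        Coalgebra.comul (R := R) (e d) := CoalgHomClass.map_comp_comul_apply e d
    rw [h1, LinearMap.comp_apply, LinearMap.comp_apply, h2, h.left, LinearMap.rTensor_tmul]
    change e.symm 1 ⊗ₜ[R] l (e d) = _
    rw [map_one]
    rfl
  right d := by
    have h1 : LinearMap.rTensor D (l ∘ₗ (e : D →ₗ[R] D')) =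
        LinearMap.lTensor T (e.symm : D' →ₗ[R] D) ∘ₗ LinearMap.rTensor D' l ∘ₗ
          TensorProduct.map (e : D →ₗ[R] D') (e : D →ₗ[R] D') := by
      refine TensorProduct.ext' fun a b => ?_
      simp
    have h2 : TensorProduct.map (e : D →ₗ[R] D') (e : D →ₗ[R] D') (Coalgebra.comul (R := R) d) =
        Coalgebra.comul (R := R) (e d) := CoalgHomClass.map_comp_comul_apply e d
    rw [h1, LinearMap.comp_apply, LinearMap.comp_apply, h2, h.right, LinearMap.lTensor_tmul]
    change l (e d) ⊗ₜ[R] e.symm 1 = _
    rw [map_one]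
    rfl

end Equiv

section BaseChange
variable {R : Type u} [CommRing R] (S : Type v) [CommRing S] [Algebra R S]
  (A : Type w) [CommRing A] [Bialgebra R A]

/-- the `R`-linear `S`-valued functional of an `S`-linear functional on `S ⊗ A`. -/
noncomputable def restr (L : S ⊗[R] A →ₗ[S] S) : A →ₗ[R] S :=
  (L.restrictScalars R) ∘ₗ (TensorProduct.mk R S A 1)

@[simp] theorem restr_apply (L : S ⊗[R] A →ₗ[S] S) (a : A) : restr S A L a = L (1 ⊗ₜ[R] a) := rfl

theorem isInt_restr {L : S ⊗[R] A →ₗ[S] S} (h : IsInt L) : IsInt (restr S A L) where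
  one := by
    rw [restr_apply, ← Algebra.TensorProduct.one_def, h.one]
  left a := by
    let θ : (S ⊗[R] A) ⊗[S] S →ₗ[R] A ⊗[R] S :=
      (TensorProduct.comm R S A).toLinearMap ∘ₗ
        ((TensorProduct.rid S (S ⊗[R] A)).toLinearMap.restrictScalars R)
    have hθ : ∀ x, θ x = TensorProduct.comm R S A (TensorProduct.rid S (S ⊗[R] A) x) :=
      fun x => rfl
    have key : ∀ z : A ⊗[R] A, θ (LinearMap.lTensor (S ⊗[R] A) L (MRB.bcMap2 S A z)) =
        LinearMap.lTensor A (restr S A L) z := by
      intro z
      induction z using TensorProduct.induction_on with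
      | zero => simp
      | tmul a b =>
        rw [MRB.bcMap2_tmul, LinearMap.lTensor_tmul, LinearMap.lTensor_tmul, restr_apply, hθ]
        rw [TensorProduct.rid_tmul, TensorProduct.smul_tmul', smul_eq_mul, mul_one,
          TensorProduct.comm_tmul]
      | add z z' hz hz' => simp only [map_add, hz, hz']
    rw [← key, ← MRB.comul_one_tmul, h.left, hθ]
    rw [TensorProduct.rid_tmul, Algebra.TensorProduct.one_def, TensorProduct.smul_tmul',
      smul_eq_mul, mul_one, TensorProduct.comm_tmul, restr_apply]
  right a := by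
    let θ : S ⊗[S] (S ⊗[R] A) →ₗ[R] S ⊗[R] A :=
        ((TensorProduct.lid S (S ⊗[R] A)).toLinearMap.restrictScalars R)
    have hθ : ∀ x, θ x = TensorProduct.lid S (S ⊗[R] A) x := fun x => rfl
    have key : ∀ z : A ⊗[R] A, θ (LinearMap.rTensor (S ⊗[R] A) L (MRB.bcMap2 S A z)) =
        LinearMap.rTensor A (restr S A L) z := by
      intro z
      induction z using TensorProduct.induction_on with
      | zero => simp
      | tmul a b =>
        rw [MRB.bcMap2_tmul, LinearMap.rTensor_tmul, LinearMap.rTensor_tmul, restr_apply, hθ]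
        rw [TensorProduct.lid_tmul, TensorProduct.smul_tmul', smul_eq_mul, mul_one]
      | add z z' hz hz' => simp only [map_add, hz, hz']
    rw [← key, ← MRB.comul_one_tmul, h.right, hθ]
    rw [TensorProduct.lid_tmul, Algebra.TensorProduct.one_def, TensorProduct.smul_tmul',
      smul_eq_mul, mul_one, restr_apply]

end BaseChange

section Descent
variable {R : Type u} [CommRing R] {A : Type u} [CommRing A] [Bialgebra R A]
  {ι : Type u} [Fintype ι] [DecidableEq ι] (S : ι → Type u) [∀ i, CommRing (S i)]
  [∀ i, Algebra R (S i)] [Module.FaithfullyFlat R (∀ i, S i)]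

theorem eq_zero_of_forall_algebraMap (x : R) (h : ∀ i, algebraMap R (S i) x = 0) : x = 0 := by
  apply FamDesc.eq_zero_of_forall_one_tmul (R := R) S R x
  intro i
  have : (1 : S i) ⊗ₜ[R] x = (algebraMap R (S i) x) ⊗ₜ[R] (1 : R) := by
    rw [Algebra.algebraMap_eq_smul_one, TensorProduct.smul_tmul, smul_eq_mul, mul_one]
  rw [this, h, TensorProduct.zero_tmul]

theorem exists_isInt_of_family (l : ∀ i, A →ₗ[R] S i) (hl : ∀ i, IsInt (l i)) :
    ∃ l₀ : A →ₗ[R] R, IsInt l₀ := by
  classical
  have key : ∀ a : A, ∃ r : R, ∀ i, l i a = algebraMap R (S i) r := by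
    intro a
    have hcond : ∀ i j, LinearMap.rTensor R
        (Algebra.TensorProduct.includeLeft : S i →ₐ[R] S i ⊗[R] S j).toLinearMap
          (l i a ⊗ₜ[R] (1 : R)) =
        LinearMap.rTensor R
          (Algebra.TensorProduct.includeRight : S j →ₐ[R] S i ⊗[R] S j).toLinearMap
          (l j a ⊗ₜ[R] (1 : R)) := by
      intro i j
      have hu := IsInt.unique ((hl i).comp
        (Algebra.TensorProduct.includeLeft : S i →ₐ[R] S i ⊗[R] S j))
        ((hl j).comp (Algebra.TensorProduct.includeRight : S j →ₐ[R] S i ⊗[R] S j))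
      have hua := LinearMap.congr_fun hu a
      rw [LinearMap.rTensor_tmul, LinearMap.rTensor_tmul]
      exact congrArg (· ⊗ₜ[R] (1 : R)) hua
    obtain ⟨r, hr⟩ := FamDesc.exists_forall_eq_one_tmul S R (fun i => l i a ⊗ₜ[R] (1 : R)) hcond
    refine ⟨r, fun i => ?_⟩
    have h1 := congrArg (TensorProduct.rid R (S i)) (hr i)
    rw [TensorProduct.rid_tmul, TensorProduct.rid_tmul, one_smul] at h1
    rw [h1, Algebra.algebraMap_eq_smul_one]
  choose r hr using key
  have hinj := eq_zero_of_forall_algebraMap (R := R) S
  let l₀ : A →ₗ[R] R :=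
    { toFun := r
      map_add' := fun a b => by
        rw [← sub_eq_zero]
        apply hinj
        intro i
        rw [map_sub, map_add, ← hr, ← hr, ← hr, map_add, sub_self]
      map_smul' := fun c a => by
        rw [← sub_eq_zero]
        apply hinj
        intro i
        rw [map_sub, RingHom.id_apply, smul_eq_mul, map_mul, ← hr, ← hr, map_smul,
          Algebra.smul_def, sub_self] }
  have hl₀ : ∀ i, (Algebra.linearMap R (S i)) ∘ₗ l₀ = l i := by
    intro i
    ext a
    exact (hr a i).symm
  have hl₀' : ∀ i a, algebraMap R (S i) (l₀ a) = l i a := fun i a => (hr a i).symm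
  refine ⟨l₀, ?_, ?_, ?_⟩
  · change r 1 = 1
    rw [← sub_eq_zero]
    apply hinj
    intro i
    rw [map_sub, ← hr, (hl i).one, map_one, sub_self]
  · intro a
    rw [← sub_eq_zero]
    set n : A ⊗[R] R := LinearMap.lTensor A l₀ (Coalgebra.comul (R := R) a) - 1 ⊗ₜ[R] l₀ a with hn
    have hρ : ∀ (i : ι) (z : A ⊗[R] R), TensorProduct.comm R A (S i)
        (LinearMap.lTensor A (Algebra.linearMap R (S i)) z) =
          (1 : S i) ⊗ₜ[R] (TensorProduct.rid R A z) := by
      intro i z
      induction z using TensorProduct.induction_on with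
      | zero => simp
      | tmul a x =>
        rw [LinearMap.lTensor_tmul, TensorProduct.comm_tmul, TensorProduct.rid_tmul,
          Algebra.linearMap_apply, Algebra.algebraMap_eq_smul_one, TensorProduct.smul_tmul]
      | add z z' hz hz' => simp only [map_add, hz, hz', TensorProduct.tmul_add]
    have h0 : TensorProduct.rid R A n = 0 := by
      apply FamDesc.eq_zero_of_forall_one_tmul (R := R) S A
      intro i
      rw [← hρ, hn, map_sub, ← LinearMap.comp_apply, ← LinearMap.lTensor_comp, hl₀,
        (hl i).left, LinearMap.lTensor_tmul, Algebra.linearMap_apply, hl₀', sub_self, map_zero]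
    exact (TensorProduct.rid R A).injective (by rw [h0, map_zero])
  · intro a
    rw [← sub_eq_zero]
    set n : R ⊗[R] A := LinearMap.rTensor A l₀ (Coalgebra.comul (R := R) a) - l₀ a ⊗ₜ[R] 1 with hn
    have hρ : ∀ (i : ι) (z : R ⊗[R] A),
        (LinearMap.rTensor A (Algebra.linearMap R (S i)) z) =
          (1 : S i) ⊗ₜ[R] (TensorProduct.lid R A z) := by
      intro i z
      induction z using TensorProduct.induction_on with
      | zero => simp
      | tmul x a =>
        rw [LinearMap.rTensor_tmul, TensorProduct.lid_tmul,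
          Algebra.linearMap_apply, Algebra.algebraMap_eq_smul_one, TensorProduct.smul_tmul]
      | add z z' hz hz' => simp only [map_add, hz, hz', TensorProduct.tmul_add]
    have h0 : TensorProduct.lid R A n = 0 := by
      apply FamDesc.eq_zero_of_forall_one_tmul (R := R) S A
      intro i
      rw [← hρ, hn, map_sub, ← LinearMap.comp_apply, ← LinearMap.rTensor_comp, hl₀,
        (hl i).right, LinearMap.rTensor_tmul, Algebra.linearMap_apply, hl₀', sub_self]
    exact (TensorProduct.lid R A).injective (by rw [h0, map_zero])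

end Descent

section MultType
open SGA3b
variable (R : Type u) [CommRing R] (A : Type u) [CommRing A] [HopfAlgebra R A]

theorem exists_isInt_of_isDiag (h : IsDiag R A) : ∃ l : A →ₗ[R] R, IsInt l := by
  obtain ⟨M, _, ⟨e⟩⟩ := h
  exact ⟨_, (isInt_coeff R M).of_equiv e⟩

/-- a Hopf algebra of multiplicative type has a normalised two-sided invariant integral. -/
theorem exists_isInt_of_isMultType (h : IsMultType R A) : ∃ l : A →ₗ[R] R, IsInt l := by
  classical
  obtain ⟨F⟩ := NilLift.nonempty_diagFam (SubDiag.hasDiagCover_of_isMultType h)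
  have hex : ∀ i, ∃ l : A →ₗ[R] F.S i, IsInt l := by
    intro i
    obtain ⟨L, hL⟩ := exists_isInt_of_isDiag (F.S i) (F.S i ⊗[R] A) (F.diag i)
    exact ⟨restr (F.S i) A L, isInt_restr (F.S i) A hL⟩
  choose l hl using hex
  haveI := F.ff
  exact exists_isInt_of_family F.S l hl

end MultType

end Groth.Agent.Lib.Helper25.Obs
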