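import Groth.Agent.Lib.Helper25ObsB
import Groth.Agent.Lib.Helper25EtNilC
import Groth.Agent.Lib.Helper25HomLiftB
import Groth.Agent.Lib.Helper25NilGL

/-!
# Helper25ObsC: lifting homomorphisms from a group of multiplicative type to a smooth affine
group modulo a nilpotent ideal.
-/

set_option autoImplicit false
set_option linter.unusedSectionVars false
set_option linter.style.haveILetI false
universe u
open TensorProduct SGA3b

namespace Groth.Agent.Lib.Helper25.Obs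

section Basic
variable {R : Type u} [CommRing R] {A : Type u} [CommRing A] [HopfAlgebra R A]
  {C : Type u} [CommRing C] [HopfAlgebra R C]

/-- `ψ` is comultiplicative modulo `I`. -/
def IsBialgMod (I : Ideal R) (ψ : C →ₐ[R] A) : Prop :=
  ∀ c : C, Coalgebra.comul (R := R) (ψ c) -
    Algebra.TensorProduct.map ψ ψ (Coalgebra.comul (R := R) c) ∈
      I • (⊤ : Submodule R (A ⊗[R] A))

theorem one_tmul_eq_zero_of_bcMap2 (P : Type u) [CommRing P] [Algebra R P] (z : A ⊗[R] A)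
    (h : MRB.bcMap2 (R := R) P A z = 0) : (1 : P) ⊗ₜ[R] z = 0 := by
  have h1 : ((1 : P) ⊗ₜ[P] (1 : P)) ⊗ₜ[R] z = 0 := by
    apply (AlgebraTensorModule.tensorTensorTensorComm R P R P P P A A).injective
    rw [map_zero]
    exact h
  have h2 := congrArg (LinearMap.rTensor (A ⊗[R] A)
    ((TensorProduct.lid P P).toLinearMap.restrictScalars R)) h1
  rw [LinearMap.rTensor_tmul, map_zero] at h2
  have h3 : ((TensorProduct.lid P P).toLinearMap.restrictScalars R) ((1 : P) ⊗ₜ[P] (1 : P)) = 1 := by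
    change (TensorProduct.lid P P) ((1 : P) ⊗ₜ[P] (1 : P)) = 1
    rw [TensorProduct.lid_tmul, one_smul]
  rw [h3] at h2
  exact h2

theorem mem_smulTop_of_bcMap2 (J : Ideal R) (z : A ⊗[R] A)
    (h : MRB.bcMap2 (R := R) (R ⧸ J) A z = 0) : z ∈ J • (⊤ : Submodule R (A ⊗[R] A)) :=
  (NilGL.one_tmul_eq_zero_iff J z).1 (one_tmul_eq_zero_of_bcMap2 (R ⧸ J) z h)

/-- naturality of `bcMap2`. -/
theorem bcMap2_map (P : Type u) [CommRing P] [Algebra R P] (ψ : C →ₐ[R] A)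
    (Ψ : P ⊗[R] C →ₐ[P] P ⊗[R] A) (hΨ : ∀ c, Ψ ((1 : P) ⊗ₜ[R] c) = (1 : P) ⊗ₜ[R] ψ c)
    (z : C ⊗[R] C) :
    Algebra.TensorProduct.map Ψ Ψ (MRB.bcMap2 (R := R) P C z) =
      MRB.bcMap2 (R := R) P A (Algebra.TensorProduct.map ψ ψ z) := by
  induction z using TensorProduct.induction_on with
  | zero => simp
  | tmul a b =>
    rw [MRB.bcMap2_tmul, Algebra.TensorProduct.map_tmul, Algebra.TensorProduct.map_tmul,
      MRB.bcMap2_tmul, hΨ, hΨ]
  | add z z' hz hz' => simp only [map_add, hz, hz']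

end Basic

section LemmaL
variable {R : Type u} [CommRing R] {A : Type u} [CommRing A] [HopfAlgebra R A]
  {C : Type u} [CommRing C] [HopfAlgebra R C]

theorem isBialgMod_of_lift (J : Ideal R) (ψ : C →ₐ[R] A)
    (Φ : (R ⧸ J) ⊗[R] C →ₐc[R ⧸ J] (R ⧸ J) ⊗[R] A)
    (hΦ : ∀ c, Φ ((1 : R ⧸ J) ⊗ₜ[R] c) = (1 : R ⧸ J) ⊗ₜ[R] ψ c) : IsBialgMod J ψ := by
  intro c
  apply mem_smulTop_of_bcMap2
  rw [map_sub, ← MRB.comul_one_tmul, ← hΦ,
    ← bcMap2_map (R ⧸ J) ψ (Φ : (R ⧸ J) ⊗[R] C →ₐ[R ⧸ J] (R ⧸ J) ⊗[R] A) hΦ,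
    ← MRB.comul_one_tmul, sub_eq_zero]
  exact (CoalgHomClass.map_comp_comul_apply Φ _).symm

theorem exists_algHom_lift (J : Ideal R) (hJ : IsNilpotent J) [Algebra.FormallySmooth R C]
    (Φ : (R ⧸ J) ⊗[R] C →ₐc[R ⧸ J] (R ⧸ J) ⊗[R] A) :
    ∃ ψ : C →ₐ[R] A, (∀ c, Φ ((1 : R ⧸ J) ⊗ₜ[R] c) = (1 : R ⧸ J) ⊗ₜ[R] ψ c) ∧
      IsBialgMod J ψ := by
  let π : A →ₐ[R] (R ⧸ J) ⊗[R] A := Algebra.TensorProduct.includeRight
  let g₀ : C →ₐ[R] (R ⧸ J) ⊗[R] A :=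
    ((Φ : (R ⧸ J) ⊗[R] C →ₐ[R ⧸ J] (R ⧸ J) ⊗[R] A).restrictScalars R).comp
      Algebra.TensorProduct.includeRight
  have hsurj : Function.Surjective π := by
    intro w
    obtain ⟨b, rfl⟩ := HomLift.exists_eq_one_tmul_quot J A w
    exact ⟨b, rfl⟩
  have hker : RingHom.ker (π : A →+* (R ⧸ J) ⊗[R] A) = J.map (algebraMap R A) := by
    ext x
    rw [RingHom.mem_ker]
    change (1 : R ⧸ J) ⊗ₜ[R] x = 0 ↔ _
    rw [NilGL.one_tmul_eq_zero_iff, Ideal.smul_top_eq_map, Submodule.restrictScalars_mem]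
  have hnil : IsNilpotent (RingHom.ker (π : A →+* (R ⧸ J) ⊗[R] A)) := by
    rw [hker]
    obtain ⟨n, hn⟩ := hJ
    refine ⟨n, ?_⟩
    rw [← Ideal.map_pow, hn, Ideal.zero_eq_bot, Ideal.map_bot]
    rfl
  let ψ : C →ₐ[R] A := Algebra.FormallySmooth.liftOfSurjective g₀ π hsurj hnil
  have hψ : ∀ c, Φ ((1 : R ⧸ J) ⊗ₜ[R] c) = (1 : R ⧸ J) ⊗ₜ[R] ψ c := by
    intro c
    exact (Algebra.FormallySmooth.liftOfSurjective_apply g₀ π hsurj hnil c).symm
  exact ⟨ψ, hψ, isBialgMod_of_lift J ψ Φ hψ⟩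

end LemmaL

section Induction

theorem exists_eq_one_tmul {R : Type u} [CommRing R] (J : Ideal R) (N : Type u) [AddCommGroup N]
    [Module R N] (w : (R ⧸ J) ⊗[R] N) : ∃ b : N, w = (1 : R ⧸ J) ⊗ₜ[R] b := by
  induction w using TensorProduct.induction_on with
  | zero => exact ⟨0, (TensorProduct.tmul_zero _ _).symm⟩
  | add x y hx hy =>
    obtain ⟨b, rfl⟩ := hx
    obtain ⟨b', rfl⟩ := hy
    exact ⟨b + b', (TensorProduct.tmul_add _ _ _).symm⟩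
  | tmul q b =>
    obtain ⟨r, rfl⟩ := Ideal.Quotient.mk_surjective q
    refine ⟨r • b, ?_⟩
    rw [TensorProduct.tmul_smul, TensorProduct.smul_tmul', Algebra.smul_def, mul_one]
    rfl

/-- elements of `Ib (R̄ ⊗ A)` are of the form `1 ⊗ a` with `a ∈ I A`. -/
theorem exists_one_tmul_of_mem_map_smulTop {R : Type u} [CommRing R] (J I : Ideal R)
    (A : Type u) [CommRing A] [Algebra R A] (w : (R ⧸ J) ⊗[R] A)
    (hw : w ∈ (I.map (algebraMap R (R ⧸ J))) • (⊤ : Submodule (R ⧸ J) ((R ⧸ J) ⊗[R] A))) :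
    ∃ a ∈ I • (⊤ : Submodule R A), w = (1 : R ⧸ J) ⊗ₜ[R] a := by
  refine Submodule.smul_induction_on hw ?_ ?_
  · intro rb hrb w _
    rw [Ideal.Quotient.algebraMap_eq] at hrb
    obtain ⟨r, hr, rfl⟩ := (Ideal.mem_map_iff_of_surjective _ Ideal.Quotient.mk_surjective).1 hrb
    obtain ⟨a, rfl⟩ := exists_eq_one_tmul J A w
    refine ⟨r • a, Submodule.smul_mem_smul hr trivial, ?_⟩
    rw [TensorProduct.tmul_smul, TensorProduct.smul_tmul', TensorProduct.smul_tmul',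
      smul_eq_mul, mul_one, Algebra.smul_def, mul_one]
    rfl
  · rintro x y ⟨a, ha, rfl⟩ ⟨b, hb, rfl⟩
    exact ⟨a + b, add_mem ha hb, (TensorProduct.tmul_add _ _ _).symm⟩

theorem mem_smulTop_of_one_tmul_mem {R : Type u} [CommRing R] (J I : Ideal R) (hJI : J ≤ I)
    (A : Type u) [CommRing A] [Algebra R A] (a : A)
    (hw : (1 : R ⧸ J) ⊗ₜ[R] a ∈
      (I.map (algebraMap R (R ⧸ J))) • (⊤ : Submodule (R ⧸ J) ((R ⧸ J) ⊗[R] A))) :
    a ∈ I • (⊤ : Submodule R A) := by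
  obtain ⟨a', ha', h⟩ := exists_one_tmul_of_mem_map_smulTop J I A _ hw
  have h1 := (NilGL.one_tmul_eq_one_tmul_iff J a a').1 h
  have h2 : a - a' ∈ I • (⊤ : Submodule R A) := Submodule.smul_mono_left hJI h1
  have : a = (a - a') + a' := by ring
  rw [this]
  exact add_mem h2 ha'

theorem liftQ : ∀ (n : ℕ) (R : Type u) [CommRing R] (I : Ideal R), I ^ (n + 1) = ⊥ →
    ∀ (A : Type u) [CommRing A] [HopfAlgebra R A], IsMultType R A →
    ∀ (C : Type u) [CommRing C] [HopfAlgebra R C] [Algebra.FormallySmooth R C]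
      (ψ : C →ₐ[R] A), IsBialgMod I ψ →
      ∃ φ : C →ₐc[R] A, ∀ c, φ c - ψ c ∈ I • (⊤ : Submodule R A) := by
  intro n
  induction n with
  | zero =>
    intro R _ I hI A _ _ _ C _ _ _ ψ hψ
    rw [zero_add, pow_one] at hI
    subst hI
    have hcomul : ∀ c, Coalgebra.comul (R := R) (ψ c) =
        Algebra.TensorProduct.map ψ ψ (Coalgebra.comul (R := R) c) := by
      intro c
      have := hψ c
      rw [Submodule.bot_smul, Submodule.mem_bot, sub_eq_zero] at this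
      exact this
    obtain ⟨Φ, hΦ⟩ := exists_bialgHom_of_comul ψ hcomul
    refine ⟨Φ, fun c => ?_⟩
    rw [hΦ, sub_self]
    exact zero_mem _
  | succ n ih =>
    intro R _ I hI A _ _ hA C _ _ _ ψ hψ
    -- the square-zero ideal
    set J : Ideal R := I ^ (n + 1) with hJdef
    have hJ2 : J ^ 2 = ⊥ := by
      rw [hJdef, ← pow_mul, ← le_bot_iff, ← hI]
      exact Ideal.pow_le_pow_right (by omega)
    have hJI : J ≤ I := by
      rw [hJdef]
      exact Ideal.pow_le_self (by omega)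
    have hJnil : IsNilpotent J := ⟨2, by rw [hJ2]; rfl⟩
    -- base change to R/J
    let Ib : Ideal (R ⧸ J) := I.map (algebraMap R (R ⧸ J))
    have hIb : Ib ^ (n + 1) = ⊥ := by
      change (I.map (algebraMap R (R ⧸ J))) ^ (n + 1) = ⊥
      rw [← Ideal.map_pow, Ideal.Quotient.algebraMap_eq, ← hJdef, Ideal.map_quotient_self]
    have hAb : IsMultType (R ⧸ J) ((R ⧸ J) ⊗[R] A) := EtNil.isMultType_baseChange R A (R ⧸ J) hA
    let ψb : (R ⧸ J) ⊗[R] C →ₐ[R ⧸ J] (R ⧸ J) ⊗[R] A :=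
      Algebra.TensorProduct.map (AlgHom.id (R ⧸ J) (R ⧸ J)) ψ
    have hψb1 : ∀ c, ψb ((1 : R ⧸ J) ⊗ₜ[R] c) = (1 : R ⧸ J) ⊗ₜ[R] ψ c := fun c => by
      simp [ψb]
    have hψb : IsBialgMod Ib ψb := by
      intro x
      obtain ⟨c, rfl⟩ := HomLift.exists_eq_one_tmul_quot J C x
      rw [hψb1, MRB.comul_one_tmul, MRB.comul_one_tmul, bcMap2_map (R ⧸ J) ψ ψb hψb1, ← map_sub]
      exact MRB.bcMap2_mem_smul_top (R ⧸ J) A I (hψ c)
    obtain ⟨φb, hφb⟩ := ih (R ⧸ J) Ib hIb ((R ⧸ J) ⊗[R] A) hAb ((R ⧸ J) ⊗[R] C) ψb hψb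
    -- lift to an algebra map
    obtain ⟨ψ', hψ'1, hψ'2⟩ := exists_algHom_lift J hJnil φb
    have hψ'ψ : ∀ c, ψ' c - ψ c ∈ I • (⊤ : Submodule R A) := by
      intro c
      apply mem_smulTop_of_one_tmul_mem J I hJI A
      rw [TensorProduct.tmul_sub, ← hψ'1, ← hψb1]
      exact hφb _
    -- the square-zero step
    obtain ⟨l, hl⟩ := exists_isInt_of_isMultType R A hA
    obtain ⟨φ₁, hφ₁c, hφ₁⟩ := key_lift l J hJ2 hl.one hl.integ_comul ψ' hψ'2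
    obtain ⟨Φ, hΦ⟩ := exists_bialgHom_of_comul φ₁ hφ₁c
    refine ⟨Φ, fun c => ?_⟩
    have : Φ c - ψ c = (φ₁ c - ψ' c) + (ψ' c - ψ c) := by rw [hΦ]; ring
    rw [this]
    exact add_mem (Submodule.smul_mono_left hJI (hφ₁ c)) (hψ'ψ c)

/-- **Lifting modulo a nilpotent ideal** of homomorphisms from a group of multiplicative type
to a smooth affine group. -/
theorem exists_bialgHom_lift_nilpotent (R : Type u) [CommRing R] (I : Ideal R)
    (hI : IsNilpotent I)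
    (A : Type u) [CommRing A] [HopfAlgebra R A] (hH : IsMultType R A)
    (C : Type u) [CommRing C] [HopfAlgebra R C] [Algebra.FormallySmooth R C]
    (φ₀ : ((R ⧸ I) ⊗[R] C) →ₐc[R ⧸ I] ((R ⧸ I) ⊗[R] A)) :
    ∃ φ : C →ₐc[R] A, ∀ c : C,
      φ₀ ((1 : R ⧸ I) ⊗ₜ[R] c) = (1 : R ⧸ I) ⊗ₜ[R] (φ c) := by
  obtain ⟨ψ, hψ1, hψ2⟩ := exists_algHom_lift I hI φ₀
  obtain ⟨n, hn⟩ := hI
  have hn' : I ^ (n + 1) = ⊥ := by
    rw [pow_succ, hn, Ideal.zero_eq_bot, Ideal.bot_mul]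
  obtain ⟨φ, hφ⟩ := liftQ n R I hn' A hH C ψ hψ2
  refine ⟨φ, fun c => ?_⟩
  rw [hψ1, NilGL.one_tmul_eq_one_tmul_iff]
  have := hφ c
  rw [← neg_sub] 
  exact neg_mem this

end Induction

end Groth.Agent.Lib.Helper25.Obs
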