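import Groth.Agent.Lib.Helper25ObsC

/-!
# Helper25ObsD: conjugacy of liftings (vanishing of `H¹`) and the relative lifting statement.
-/

set_option autoImplicit false
set_option linter.unusedSectionVars false
set_option linter.style.haveILetI false
universe u
open TensorProduct SGA3b WithConv Coalgebra

namespace Groth.Agent.Lib.Helper25.Obs

section General
variable {R : Type*} [CommRing R] {C : Type*} [CommRing C] [HopfAlgebra R C]
variable {A : Type*} [CommRing A] [HopfAlgebra R A]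
variable {B B' : Type*} [CommRing B] [Algebra R B] [CommRing B'] [Algebra R B']

theorem sqZero_algebraMap (J : Ideal R) (hJ : J ^ 2 = ⊥) (B : Type*) [CommRing B] [Algebra R B] :
    ∀ r ∈ J, ∀ s ∈ J, algebraMap R B (r * s) = 0 := by
  intro r hr s hs
  have : r * s ∈ J ^ 2 := by rw [pow_two]; exact Ideal.mul_mem_mul hr hs
  rw [hJ] at this
  rw [(Ideal.mem_bot).1 this, map_zero]

theorem conv_i1_i2 (φ ψ : C →ₐ[R] A) (x : C) :
    (push (i1 R A).toLinearMap (ofAlg φ) * push (i2 R A).toLinearMap (ofAlg ψ)) x =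
      Algebra.TensorProduct.map φ ψ (Coalgebra.comul (R := R) x) := by
  rw [conv_apply_repr]
  conv_rhs => rw [← (ℛ R x).eq, map_sum]
  refine Finset.sum_congr rfl fun i _ => ?_
  simp [i1, i2]

theorem comul_iff_push (φ : C →ₐ[R] A) :
    (∀ c, Coalgebra.comul (R := R) (φ c) =
      Algebra.TensorProduct.map φ φ (Coalgebra.comul (R := R) c)) ↔
    push (cΔ R A).toLinearMap (ofAlg φ) =
      push (i1 R A).toLinearMap (ofAlg φ) * push (i2 R A).toLinearMap (ofAlg φ) := by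
  constructor
  · intro h
    ext x
    rw [conv_i1_i2, ← h]
    rfl
  · intro h c
    have := congrArg (fun u : WithConv (C →ₗ[R] A ⊗[R] A) => u c) h
    simp only [conv_i1_i2] at this
    exact this

theorem push_comul_bialgHom (u : C →ₐc[R] A) :
    push (cΔ R A).toLinearMap (ofAlg (u : C →ₐ[R] A)) =
      push (i1 R A).toLinearMap (ofAlg (u : C →ₐ[R] A)) *
        push (i2 R A).toLinearMap (ofAlg (u : C →ₐ[R] A)) := by
  rw [← comul_iff_push]
  intro c
  exact (CoalgHomClass.map_comp_comul_apply u c).symm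

/-- pushing an algebra map `≡ ε mod J` along a unital linear map gives an algebra map. -/
theorem exists_algHom_push (J : Ideal R) (hJ : J ^ 2 = ⊥) (c : C →ₐ[R] B)
    (hc : IsJ J (ofAlg c - 1)) (L : B →ₗ[R] B') (hL : L 1 = 1) :
    ∃ k : C →ₐ[R] B', ofAlg k = push L (ofAlg c) := by
  set ξ : WithConv (C →ₗ[R] B) := ofAlg c - 1 with hξdef
  have hcξ : ofAlg c = 1 + ξ := by simp [ξ]
  set κ : WithConv (C →ₗ[R] B') := push L ξ with hκdef
  have hκ : IsJ J κ := hc.push L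
  have hξmul : ∀ x y : C, ξ (x * y) = Coalgebra.counit (R := R) x • ξ y +
      Coalgebra.counit (R := R) y • ξ x := by
    intro x y
    have hx : c x = algebraMap R _ (Coalgebra.counit (R := R) x) + ξ x := by
      change ofAlg c x = _; rw [hcξ]; rfl
    have hy : c y = algebraMap R _ (Coalgebra.counit (R := R) y) + ξ y := by
      change ofAlg c y = _; rw [hcξ]; rfl
    have hxy : c (x * y) = algebraMap R _ (Coalgebra.counit (R := R) (x * y)) + ξ (x * y) := by
      change ofAlg c (x * y) = _; rw [hcξ]; rfl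
    have hm : c (x * y) = c x * c y := map_mul c x y
    have z : ξ x * ξ y = 0 := smulTop_mul_eq_zero J (sqZero_algebraMap J hJ B) (hc x) (hc y)
    rw [hxy, hx, hy, Bialgebra.counit_mul, map_mul] at hm
    have : ξ (x * y) = algebraMap R B (Coalgebra.counit (R := R) x) * ξ y +
        ξ x * algebraMap R B (Coalgebra.counit (R := R) y) + ξ x * ξ y := by
      have := hm
      rw [add_mul, mul_add, mul_add] at this
      linear_combination this
    rw [this, z, add_zero, Algebra.smul_def, Algebra.smul_def, mul_comm (ξ x)]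
  have hκmul : ∀ x y : C, κ (x * y) = Coalgebra.counit (R := R) x • κ y +
      Coalgebra.counit (R := R) y • κ x := by
    intro x y
    change L (ξ (x * y)) = _ • L (ξ y) + _ • L (ξ x)
    rw [hξmul, map_add, map_smul, map_smul]
  let kLin : C →ₗ[R] B' := L ∘ₗ c.toLinearMap
  have hk : ∀ w : C, kLin w = algebraMap R B' (Coalgebra.counit (R := R) w) + κ w := by
    intro w
    change L (ofAlg c w) = _
    rw [hcξ]
    change L (algebraMap R B (Coalgebra.counit (R := R) w) + ξ w) = _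
    rw [map_add, Algebra.algebraMap_eq_smul_one, map_smul, hL, ← Algebra.algebraMap_eq_smul_one]
    rfl
  have hkone : kLin 1 = 1 := by
    change L (c 1) = 1
    rw [map_one, hL]
  have hkmul : ∀ x y, kLin (x * y) = kLin x * kLin y := by
    intro x y
    have z : κ x * κ y = 0 := smulTop_mul_eq_zero J (sqZero_algebraMap J hJ B') (hκ x) (hκ y)
    rw [hk, hk, hk, hκmul, Bialgebra.counit_mul, map_mul, add_mul, mul_add, mul_add, z, add_zero,
      Algebra.smul_def, Algebra.smul_def]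
    ring
  exact ⟨AlgHom.ofLinearMap kLin hkone hkmul, rfl⟩

theorem ofId_comp (L : B →ₐ[R] B') : L.comp (Algebra.ofId R B) = Algebra.ofId R B' := by
  ext

end General

section H1
variable {R : Type*} [CommRing R] {C : Type*} [CommRing C] [HopfAlgebra R C]
variable {A : Type*} [CommRing A] [HopfAlgebra R A]

/-- the point `η ∘ g` of `A` attached to a point `g` of `R`. -/
noncomputable abbrev pt (A : Type*) [CommRing A] [Algebra R A] (g : C →ₐ[R] R) : C →ₐ[R] A :=
  (Algebra.ofId R A).comp g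

theorem push_pt {B B' : Type*} [CommRing B] [Algebra R B] [CommRing B'] [Algebra R B']
    (L : B →ₐ[R] B') (g : C →ₐ[R] R) :
    push L.toLinearMap (ofAlg (pt B g)) = ofAlg (pt B' g) := by
  rw [push_ofAlg]
  congr 1
  change (L.comp (Algebra.ofId R B)).comp g = _
  rw [ofId_comp]

theorem push_inv_pt {B B' : Type*} [CommRing B] [Algebra R B] [CommRing B'] [Algebra R B']
    (L : B →ₐ[R] B') (g : C →ₐ[R] R) :
    push L.toLinearMap (invAlg (pt B g)) = invAlg (pt B' g) := by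
  rw [push_invAlg]
  congr 1
  change (L.comp (Algebra.ofId R B)).comp g = _
  rw [ofId_comp]

/-- **Conjugacy of liftings** (vanishing of `H¹` through the invariant integral). -/
theorem exists_conj_of_congr (I0 : A →ₗ[R] R) (h1 : I0 1 = 1)
    (hinv : ∀ a : A, integ I0 A (Coalgebra.comul (R := R) a) = I0 a • (1 : A))
    (J : Ideal R) (hJ : J ^ 2 = ⊥) (u v : C →ₐc[R] A)
    (huv : ∀ c, v c - u c ∈ J • (⊤ : Submodule R A)) :
    ∃ g : C →ₐ[R] R, IsJ J (ofAlg g - 1) ∧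
      ofAlg (v : C →ₐ[R] A) = ofAlg (pt A g) * ofAlg (u : C →ₐ[R] A) * invAlg (pt A g) := by
  classical
  have hz : ∀ {B : Type _} [CommRing B] [Algebra R B] {x y : WithConv (C →ₗ[R] B)},
      IsJ J x → IsJ J y → x * y = 0 := by
    intro B _ _ x y hx hy
    exact IsJ.mul_eq_zero (sqZero_algebraMap J hJ B) hx hy
  let U : WithConv (C →ₗ[R] A) := ofAlg (u : C →ₐ[R] A)
  let V : WithConv (C →ₗ[R] A) := ofAlg (v : C →ₐ[R] A)
  let U' : WithConv (C →ₗ[R] A) := invAlg (u : C →ₐ[R] A)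
  let S : C →ₐ[R] C := HopfAlgebra.antipodeAlgHom R C
  let kAlg : C →ₐ[R] A :=
    (toConv (v : C →ₐ[R] A) * toConv ((u : C →ₐ[R] A).comp S) : WithConv (C →ₐ[R] A)).ofConv
  let k : WithConv (C →ₗ[R] A) := ofAlg kAlg
  have hk : k = V * U' := rfl
  have hUU' : U * U' = 1 := ofAlg_mul_invAlg _
  have hU'U : U' * U = 1 := invAlg_mul_ofAlg _
  let κ : WithConv (C →ₗ[R] A) := k - 1
  have hkκ : k = 1 + κ := by simp [κ]
  have hκ : IsJ J κ := by
    have : κ = (V - U) * U' := by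
      rw [sub_mul, hUU', ← hk]
    rw [this]
    exact IsJ.mul_right (fun c => huv c) _
  have hkU : k * U = V := by rw [hk, mul_assoc, hU'U, mul_one]
  -- comultiplicativity
  let ι₁ := (i1 R A).toLinearMap
  let ι₂ := (i2 R A).toLinearMap
  let Δ := (cΔ R A).toLinearMap
  have hΔU : push Δ U = push ι₁ U * push ι₂ U := push_comul_bialgHom u
  have hΔV : push Δ V = push ι₁ V * push ι₂ V := push_comul_bialgHom v
  have hinv1 : push ι₁ U * push ι₁ U' = 1 := by
    rw [← push_mul, hUU', push_one]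
  have hinv2 : push ι₂ U * push ι₂ U' = 1 := by
    rw [← push_mul, hUU', push_one]
  have hΔU' : push Δ U' = push ι₂ U' * push ι₁ U' := by
    have e1 : push Δ U' * push Δ U = 1 := by rw [← push_mul, hU'U, push_one]
    have e2 : push Δ U * (push ι₂ U' * push ι₁ U') = 1 := by
      rw [hΔU, mul_assoc, ← mul_assoc (push ι₂ U), hinv2, one_mul, hinv1]
    calc push Δ U' = push Δ U' * (push Δ U * (push ι₂ U' * push ι₁ U')) := by rw [e2, mul_one]
      _ = (push Δ U' * push Δ U) * (push ι₂ U' * push ι₁ U') := by rw [mul_assoc]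
      _ = push ι₂ U' * push ι₁ U' := by rw [e1, one_mul]
  have hΔk : push Δ k = push ι₁ k * push ι₁ U * push ι₂ k * push ι₁ U' := by
    have e1 : push ι₁ k * push ι₁ U = push ι₁ V := by rw [← push_mul, hkU]
    have e2 : push ι₂ k = push ι₂ V * push ι₂ U' := by rw [hk, push_mul]
    rw [e1, e2, hk, push_mul, hΔV, hΔU']
    simp only [mul_assoc]
  have hpush1 : ∀ {B B' : Type _} [CommRing B] [Algebra R B] [CommRing B'] [Algebra R B']
      (L : B →ₐ[R] B') (x : WithConv (C →ₗ[R] B)), push L.toLinearMap (1 + x) =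
        1 + push L.toLinearMap x := by
    intro B B' _ _ _ _ L x
    rw [push_add, push_one]
  have spade : push Δ κ = push ι₁ κ + push ι₁ U * push ι₂ κ * push ι₁ U' := by
    have h := hΔk
    rw [hkκ] at h
    change push (cΔ R A).toLinearMap (1 + κ) = push (i1 R A).toLinearMap (1 + κ) * push ι₁ U *
      push (i2 R A).toLinearMap (1 + κ) * push ι₁ U' at h
    rw [hpush1, hpush1, hpush1] at h
    change 1 + push Δ κ = (1 + push ι₁ κ) * push ι₁ U * (1 + push ι₂ κ) * push ι₁ U' at h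
    have z : push ι₁ κ * push ι₁ U * push ι₂ κ = 0 :=
      hz ((hκ.push _).mul_right _) (hκ.push _)
    have hr : (1 + push ι₁ κ) * push ι₁ U * (1 + push ι₂ κ) * push ι₁ U' =
        1 + (push ι₁ κ + push ι₁ U * push ι₂ κ * push ι₁ U') := by
      have e : (1 + push ι₁ κ) * push ι₁ U * (1 + push ι₂ κ) =
          push ι₁ U + push ι₁ κ * push ι₁ U + push ι₁ U * push ι₂ κ := by
        rw [add_mul 1, one_mul, mul_add, mul_one, add_mul, z, add_zero]
      rw [e, add_mul, add_mul, hinv1, mul_assoc (push ι₁ κ), hinv1, mul_one]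
      abel
    rw [hr] at h
    exact add_left_cancel h
  -- integrate
  let P₂ := integ I0 A
  let η : R →ₗ[R] A := (Algebra.ofId R A).toLinearMap
  have hP2Δ : P₂ ∘ₗ Δ = η ∘ₗ I0 := by
    ext a
    change integ I0 A (Coalgebra.comul (R := R) a) = algebraMap R A (I0 a)
    rw [hinv, Algebra.algebraMap_eq_smul_one]
  have hP2ι₁ : P₂ ∘ₗ ι₁ = LinearMap.id := by
    ext a
    exact integ_includeLeft I0 A h1 a
  have hP2ι₂ : P₂ ∘ₗ ι₂ = η ∘ₗ I0 := by
    ext a
    change integ I0 A ((1 : A) ⊗ₜ[R] a) = algebraMap R A (I0 a)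
    rw [integ_tmul, Algebra.algebraMap_eq_smul_one]
  let gκ : WithConv (C →ₗ[R] R) := push I0 κ
  let ĝκ : WithConv (C →ₗ[R] A) := push η gκ
  have hĝκ : IsJ J ĝκ := (hκ.push _).push _
  have spade2 : ĝκ = κ + U * ĝκ * U' := by
    have h := congrArg (push P₂) spade
    rw [push_add, push_push, push_push, hP2Δ, hP2ι₁, push_id,
      push_mul_right P₂ (i1 R A) (integ_mul I0 A), push_mul_left P₂ (i1 R A) (integ_mul I0 A),
      push_push, hP2ι₂] at h
    exact h
  have hcomm : ĝκ * U = κ * U + U * ĝκ := by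
    have h := congrArg (· * U) spade2
    simp only [add_mul] at h
    rw [mul_assoc (U * ĝκ), hU'U, mul_one] at h
    exact h
  -- the point g
  obtain ⟨g, hg⟩ := exists_algHom_push J hJ kAlg hκ I0 h1
  have hg1 : ofAlg g = 1 + gκ := by
    rw [hg]
    change push I0 k = _
    rw [hkκ, push_add]
    congr 1
    ext x
    simp [h1, Algebra.algebraMap_eq_smul_one]
  have hĝ : ofAlg (pt A g) = 1 + ĝκ := by
    have : ofAlg (pt A g) = push (Algebra.ofId R A).toLinearMap (ofAlg g) := rfl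
    rw [this, hg1, push_add, push_one]
  refine ⟨g, ?_, ?_⟩
  · rw [hg1, add_sub_cancel_left]
    exact hκ.push _
  · have hVĝ : V * ofAlg (pt A g) = ofAlg (pt A g) * U := by
      have hV : V = U + ĝκ * U - U * ĝκ := by
        rw [← hkU, hkκ, add_mul, one_mul, hcomm]
        abel
      have z1 : ĝκ * U * ĝκ = 0 := hz (hĝκ.mul_right _) hĝκ
      have z2 : U * ĝκ * ĝκ = 0 := hz (hĝκ.mul_left _) hĝκ
      rw [hĝ, hV, mul_add, mul_one, sub_mul, add_mul, z1, z2, add_mul, one_mul]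
      abel
    calc V = V * (ofAlg (pt A g) * invAlg (pt A g)) := by rw [ofAlg_mul_invAlg, mul_one]
      _ = (V * ofAlg (pt A g)) * invAlg (pt A g) := by rw [mul_assoc]
      _ = ofAlg (pt A g) * U * invAlg (pt A g) := by rw [hVĝ]

/-- conjugating a bialgebra map by a point of the base gives a bialgebra map. -/
theorem exists_conj_bialgHom (g : C →ₐ[R] R) (γ : C →ₐc[R] A) :
    ∃ γ' : C →ₐc[R] A, ofAlg (γ' : C →ₐ[R] A) =
      ofAlg (pt A g) * ofAlg (γ : C →ₐ[R] A) * invAlg (pt A g) := by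
  let S : C →ₐ[R] C := HopfAlgebra.antipodeAlgHom R C
  let φ : C →ₐ[R] A :=
    (toConv (pt A g) * toConv (γ : C →ₐ[R] A) * toConv ((pt A g).comp S) :
      WithConv (C →ₐ[R] A)).ofConv
  have hφ : ofAlg φ = ofAlg (pt A g) * ofAlg (γ : C →ₐ[R] A) * invAlg (pt A g) := rfl
  have hc : push (cΔ R A).toLinearMap (ofAlg φ) =
      push (i1 R A).toLinearMap (ofAlg φ) * push (i2 R A).toLinearMap (ofAlg φ) := by
    rw [hφ, push_mul, push_mul, push_mul, push_mul, push_mul, push_mul, push_pt, push_pt, push_pt,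
      push_inv_pt, push_inv_pt, push_inv_pt, push_comul_bialgHom γ]
    set G := ofAlg (pt (A ⊗[R] A) g)
    set G' := invAlg (pt (A ⊗[R] A) g)
    have hG : G' * G = 1 := invAlg_mul_ofAlg _
    set X := push (i1 R A).toLinearMap (ofAlg (γ : C →ₐ[R] A))
    set Y := push (i2 R A).toLinearMap (ofAlg (γ : C →ₐ[R] A))
    calc G * (X * Y) * G' = G * X * (1 * (Y * G')) := by simp only [mul_assoc, one_mul]
      _ = G * X * ((G' * G) * (Y * G')) := by rw [hG]
      _ = G * X * G' * (G * Y * G') := by simp only [mul_assoc]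
  obtain ⟨Φ, hΦ⟩ := exists_bialgHom_of_comul φ ((comul_iff_push φ).2 hc)
  refine ⟨Φ, ?_⟩
  rw [← hφ]
  congr 1
  exact AlgHom.ext hΦ

end H1

section Relative

theorem one_tmul_mem_map_smulTop {R : Type u} [CommRing R] (J I : Ideal R)
    (A : Type u) [CommRing A] [Algebra R A] {a : A} (ha : a ∈ I • (⊤ : Submodule R A)) :
    (1 : R ⧸ J) ⊗ₜ[R] a ∈
      (I.map (algebraMap R (R ⧸ J))) • (⊤ : Submodule (R ⧸ J) ((R ⧸ J) ⊗[R] A)) := by
  refine Submodule.smul_induction_on ha ?_ ?_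
  · intro r hr b _
    have : (1 : R ⧸ J) ⊗ₜ[R] (r • b) = (algebraMap R (R ⧸ J) r) • ((1 : R ⧸ J) ⊗ₜ[R] b) := by
      rw [TensorProduct.tmul_smul, TensorProduct.smul_tmul', TensorProduct.smul_tmul',
        smul_eq_mul, mul_one, Algebra.smul_def, mul_one]
    rw [this]
    exact Submodule.smul_mem_smul (Ideal.mem_map_of_mem _ hr) trivial
  · intro x y hx hy
    rw [TensorProduct.tmul_add]
    exact add_mem hx hy

theorem conj_sub_mem {R : Type*} [CommRing R] {C : Type*} [CommRing C] [HopfAlgebra R C]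
    {A : Type*} [CommRing A] [HopfAlgebra R A] (J : Ideal R) (g : C →ₐ[R] R)
    (hg : IsJ J (ofAlg g - 1)) (X : WithConv (C →ₗ[R] A)) :
    IsJ J (ofAlg (pt A g) * X * invAlg (pt A g) - X) := by
  set G := ofAlg (pt A g)
  set G' := invAlg (pt A g)
  have hGG' : G * G' = 1 := ofAlg_mul_invAlg _
  have hG1 : IsJ J (G - 1) := by
    have : G - 1 = push (Algebra.ofId R A).toLinearMap (ofAlg g - 1) := by
      rw [push_sub, push_one]
      rfl
    rw [this]
    exact hg.push _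
  have : G * X * G' - X = ((G - 1) * X - X * (G - 1)) * G' := by
    symm
    calc ((G - 1) * X - X * (G - 1)) * G' = (G * X - X * G) * G' := by
          congr 1
          rw [sub_mul, mul_sub, one_mul, mul_one]
          abel
      _ = G * X * G' - X * (G * G') := by rw [sub_mul, mul_assoc X]
      _ = G * X * G' - X := by rw [hGG', mul_one]
  rw [this]
  exact ((hG1.mul_right _).sub (hG1.mul_left _)).mul_right _

theorem liftQ_rel : ∀ (n : ℕ) (R : Type u) [CommRing R] (I : Ideal R), I ^ (n + 1) = ⊥ →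
    ∀ (A₁ : Type u) [CommRing A₁] [HopfAlgebra R A₁], IsMultType R A₁ →
    ∀ (A₂ : Type u) [CommRing A₂] [HopfAlgebra R A₂], IsMultType R A₂ → ∀ (α : A₂ →ₐc[R] A₁)
      (C : Type u) [CommRing C] [HopfAlgebra R C] [Algebra.FormallySmooth R C] (β : C →ₐc[R] A₁)
      (ψ : C →ₐ[R] A₂), IsBialgMod I ψ → (∀ c, α (ψ c) - β c ∈ I • (⊤ : Submodule R A₁)) →
      ∃ γ : C →ₐc[R] A₂, (∀ c, γ c - ψ c ∈ I • (⊤ : Submodule R A₂)) ∧ ∀ c, α (γ c) = β c := by
  intro n
  induction n with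
  | zero =>
    intro R _ I hI A₁ _ _ _ A₂ _ _ _ α C _ _ _ β ψ hψ hαβ
    rw [zero_add, pow_one] at hI
    subst hI
    have hcomul : ∀ c, Coalgebra.comul (R := R) (ψ c) =
        Algebra.TensorProduct.map ψ ψ (Coalgebra.comul (R := R) c) := by
      intro c
      have := hψ c
      rw [Submodule.bot_smul, Submodule.mem_bot, sub_eq_zero] at this
      exact this
    obtain ⟨Φ, hΦ⟩ := exists_bialgHom_of_comul ψ hcomul
    refine ⟨Φ, fun c => ?_, fun c => ?_⟩
    · rw [hΦ, sub_self]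
      exact zero_mem _
    · have := hαβ c
      rw [Submodule.bot_smul, Submodule.mem_bot, sub_eq_zero] at this
      rw [hΦ, this]
  | succ n ih =>
    intro R _ I hI A₁ _ _ hA₁ A₂ _ _ hA₂ α C _ _ _ β ψ hψ hαβ
    set J : Ideal R := I ^ (n + 1) with hJdef
    have hJ2 : J ^ 2 = ⊥ := by
      rw [hJdef, ← pow_mul, ← le_bot_iff, ← hI]
      exact Ideal.pow_le_pow_right (by omega)
    have hJI : J ≤ I := by
      rw [hJdef]
      exact Ideal.pow_le_self (by omega)
    have hJnil : IsNilpotent J := ⟨2, by rw [hJ2]; rfl⟩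
    let Ib : Ideal (R ⧸ J) := I.map (algebraMap R (R ⧸ J))
    have hIb : Ib ^ (n + 1) = ⊥ := by
      change (I.map (algebraMap R (R ⧸ J))) ^ (n + 1) = ⊥
      rw [← Ideal.map_pow, Ideal.Quotient.algebraMap_eq, ← hJdef, Ideal.map_quotient_self]
    have hAb₁ : IsMultType (R ⧸ J) ((R ⧸ J) ⊗[R] A₁) :=
      EtNil.isMultType_baseChange R A₁ (R ⧸ J) hA₁
    have hAb₂ : IsMultType (R ⧸ J) ((R ⧸ J) ⊗[R] A₂) :=
      EtNil.isMultType_baseChange R A₂ (R ⧸ J) hA₂
    let αb := HomLift.bcOf (R ⧸ J) α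
    let βb := HomLift.bcOf (R ⧸ J) β
    let ψb : (R ⧸ J) ⊗[R] C →ₐ[R ⧸ J] (R ⧸ J) ⊗[R] A₂ :=
      Algebra.TensorProduct.map (AlgHom.id (R ⧸ J) (R ⧸ J)) ψ
    have hψb1 : ∀ c, ψb ((1 : R ⧸ J) ⊗ₜ[R] c) = (1 : R ⧸ J) ⊗ₜ[R] ψ c := fun c => by
      simp [ψb]
    have hψb : IsBialgMod Ib ψb := by
      intro x
      obtain ⟨c, rfl⟩ := exists_eq_one_tmul J C x
      rw [hψb1, MRB.comul_one_tmul, MRB.comul_one_tmul, bcMap2_map (R ⧸ J) ψ ψb hψb1, ← map_sub]
      exact MRB.bcMap2_mem_smul_top (R ⧸ J) A₂ I (hψ c)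
    have hαβb : ∀ x, αb (ψb x) - βb x ∈
        Ib • (⊤ : Submodule (R ⧸ J) ((R ⧸ J) ⊗[R] A₁)) := by
      intro x
      obtain ⟨c, rfl⟩ := exists_eq_one_tmul J C x
      rw [hψb1]
      change (1 : R ⧸ J) ⊗ₜ[R] α (ψ c) - (1 : R ⧸ J) ⊗ₜ[R] β c ∈ _
      rw [← TensorProduct.tmul_sub]
      exact one_tmul_mem_map_smulTop J I A₁ (hαβ c)
    obtain ⟨γb, hγb1, hγb2⟩ := ih (R ⧸ J) Ib hIb ((R ⧸ J) ⊗[R] A₁) hAb₁ ((R ⧸ J) ⊗[R] A₂) hAb₂
      αb ((R ⧸ J) ⊗[R] C) βb ψb hψb hαβb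
    obtain ⟨ψ', hψ'1, hψ'2⟩ := exists_algHom_lift J hJnil γb
    have hψ'ψ : ∀ c, ψ' c - ψ c ∈ I • (⊤ : Submodule R A₂) := by
      intro c
      apply mem_smulTop_of_one_tmul_mem J I hJI A₂
      rw [TensorProduct.tmul_sub, ← hψ'1, ← hψb1]
      exact hγb1 _
    have hαψ' : ∀ c, α (ψ' c) - β c ∈ J • (⊤ : Submodule R A₁) := by
      intro c
      rw [← NilGL.one_tmul_eq_one_tmul_iff]
      have h1 : (1 : R ⧸ J) ⊗ₜ[R] α (ψ' c) = αb ((1 : R ⧸ J) ⊗ₜ[R] ψ' c) := rfl
      have h2 : (1 : R ⧸ J) ⊗ₜ[R] β c = βb ((1 : R ⧸ J) ⊗ₜ[R] c) := rfl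
      rw [h1, h2, ← hψ'1, hγb2]
    -- square-zero step: existence
    obtain ⟨l₂, hl₂⟩ := exists_isInt_of_isMultType R A₂ hA₂
    obtain ⟨φ₁, hφ₁c, hφ₁⟩ := key_lift l₂ J hJ2 hl₂.one hl₂.integ_comul ψ' hψ'2
    obtain ⟨Φ₁, hΦ₁⟩ := exists_bialgHom_of_comul φ₁ hφ₁c
    -- conjugacy
    obtain ⟨l₁, hl₁⟩ := exists_isInt_of_isMultType R A₁ hA₁
    have huv : ∀ c, β c - (α.comp Φ₁) c ∈ J • (⊤ : Submodule R A₁) := by
      intro c
      have e : β c - (α.comp Φ₁) c =
          -((α : A₂ →ₗ[R] A₁) (φ₁ c - ψ' c) + (α (ψ' c) - β c)) := by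
        change β c - α (Φ₁ c) = -(α (φ₁ c - ψ' c) + (α (ψ' c) - β c))
        rw [hΦ₁, map_sub]
        ring
      rw [e]
      exact neg_mem (add_mem (map_mem_smulTop J _ (hφ₁ c)) (hαψ' c))
    obtain ⟨g, hg, hconj⟩ := exists_conj_of_congr l₁ hl₁.one hl₁.integ_comul J hJ2
      (α.comp Φ₁) β huv
    obtain ⟨γ, hγ⟩ := exists_conj_bialgHom g Φ₁
    have hγJ : ∀ c, γ c - Φ₁ c ∈ J • (⊤ : Submodule R A₂) := by
      intro c
      have := conj_sub_mem J g hg (ofAlg (Φ₁ : C →ₐ[R] A₂)) c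
      rw [← hγ] at this
      exact this
    refine ⟨γ, fun c => ?_, fun c => ?_⟩
    · have e : γ c - ψ c = (γ c - Φ₁ c) + ((φ₁ c - ψ' c) + (ψ' c - ψ c)) := by
        rw [hΦ₁]; ring
      rw [e]
      exact add_mem (Submodule.smul_mono_left hJI (hγJ c))
        (add_mem (Submodule.smul_mono_left hJI (hφ₁ c)) (hψ'ψ c))
    · have h1 : push (α : A₂ →ₐ[R] A₁).toLinearMap (ofAlg (γ : C →ₐ[R] A₂)) =
          ofAlg (β : C →ₐ[R] A₁) := by
        rw [hγ, push_mul, push_mul, push_pt, push_inv_pt, hconj]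
        rfl
      exact congrArg (fun u : WithConv (C →ₗ[R] A₁) => u c) h1

/-- **Relative lifting** modulo a nilpotent ideal. -/
theorem exists_bialgHom_lift_relative (R : Type u) [CommRing R] (I : Ideal R)
    (hI : IsNilpotent I)
    (A₁ : Type u) [CommRing A₁] [HopfAlgebra R A₁] (h₁ : IsMultType R A₁)
    (A₂ : Type u) [CommRing A₂] [HopfAlgebra R A₂] (h₂ : IsMultType R A₂) (α : A₂ →ₐc[R] A₁)
    (C : Type u) [CommRing C] [HopfAlgebra R C] [Algebra.FormallySmooth R C] (β : C →ₐc[R] A₁)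
    (γ₀ : ((R ⧸ I) ⊗[R] C) →ₐc[R ⧸ I] ((R ⧸ I) ⊗[R] A₂))
    (h0 : ∀ c : C, Algebra.TensorProduct.map (AlgHom.id (R ⧸ I) (R ⧸ I)) (α : A₂ →ₐ[R] A₁)
      (γ₀ ((1 : R ⧸ I) ⊗ₜ[R] c)) = (1 : R ⧸ I) ⊗ₜ[R] (β c)) :
    ∃ γ : C →ₐc[R] A₂, (∀ c : C, γ₀ ((1 : R ⧸ I) ⊗ₜ[R] c) = (1 : R ⧸ I) ⊗ₜ[R] (γ c)) ∧
      ∀ c : C, α (γ c) = β c := by
  obtain ⟨ψ, hψ1, hψ2⟩ := exists_algHom_lift I hI γ₀
  obtain ⟨n, hn⟩ := hI
  have hn' : I ^ (n + 1) = ⊥ := by
    rw [pow_succ, hn, Ideal.zero_eq_bot, Ideal.bot_mul]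
  have hαβ : ∀ c, α (ψ c) - β c ∈ I • (⊤ : Submodule R A₁) := by
    intro c
    rw [← NilGL.one_tmul_eq_one_tmul_iff, ← h0, hψ1]
    simp
  obtain ⟨γ, hγ1, hγ2⟩ := liftQ_rel n R I hn' A₁ h₁ A₂ h₂ α C β ψ hψ2 hαβ
  refine ⟨γ, fun c => ?_, hγ2⟩
  rw [hψ1, NilGL.one_tmul_eq_one_tmul_iff, ← neg_sub]
  exact neg_mem (hγ1 c)

end Relative

end Groth.Agent.Lib.Helper25.Obs
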