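import Groth.Agent.Lib.Helper25ObsD
import Groth.Agent.Lib.Helper25AdicN

/-!
# Helper25ObsE: lifting over a complete Noetherian base to a smooth affine group.
-/

set_option autoImplicit false
set_option linter.unusedSectionVars false
set_option linter.style.haveILetI false
universe u
open TensorProduct SGA3b

namespace Groth.Agent.Lib.Helper25.Obs

open Groth.Agent.Lib.Helper25 BCB HomLift Adic

section Abstract
variable {R : Type u} [CommRing R] {R₀ : Type u} [CommRing R₀] [Algebra R R₀]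
  {A : Type u} [CommRing A] [HopfAlgebra R A] {C : Type u} [CommRing C] [HopfAlgebra R C]

theorem one_tmul_eq_zero_of_mem_ker_smulTop {N : Type u} [AddCommGroup N] [Module R N] {x : N}
    (hx : x ∈ RingHom.ker (algebraMap R R₀) • (⊤ : Submodule R N)) : (1 : R₀) ⊗ₜ[R] x = 0 := by
  refine Submodule.smul_induction_on hx ?_ ?_
  · intro r hr n _
    rw [TensorProduct.tmul_smul, TensorProduct.smul_tmul', Algebra.smul_def, mul_one,
      (RingHom.mem_ker).1 hr, TensorProduct.zero_tmul]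
  · intro x y hx hy
    rw [TensorProduct.tmul_add, hx, hy, add_zero]

theorem isBialgMod_of_lift' (hsurj : Function.Surjective (algebraMap R R₀)) (ψ : C →ₐ[R] A)
    (Φ : R₀ ⊗[R] C →ₐc[R₀] R₀ ⊗[R] A)
    (hΦ : ∀ c, Φ ((1 : R₀) ⊗ₜ[R] c) = (1 : R₀) ⊗ₜ[R] ψ c) :
    IsBialgMod (RingHom.ker (algebraMap R R₀)) ψ := by
  intro c
  apply mem_smul_top_of_one_tmul_eq_zero hsurj
  apply one_tmul_eq_zero_of_bcMap2 R₀
  rw [map_sub, ← MRB.comul_one_tmul, ← hΦ,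
    ← bcMap2_map R₀ ψ (Φ : R₀ ⊗[R] C →ₐ[R₀] R₀ ⊗[R] A) hΦ,
    ← MRB.comul_one_tmul, sub_eq_zero]
  exact (CoalgHomClass.map_comp_comul_apply Φ _).symm

/-- lifting modulo a nilpotent ideal, abstract quotient form. -/
theorem exists_bialgHom_lift_nilpotent' (hsurj : Function.Surjective (algebraMap R R₀))
    (hnil : IsNilpotent (RingHom.ker (algebraMap R R₀))) (hH : IsMultType R A)
    [Algebra.FormallySmooth R C] (φ₀ : R₀ ⊗[R] C →ₐc[R₀] R₀ ⊗[R] A) :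
    ∃ φ : C →ₐc[R] A, ∀ c : C, φ₀ ((1 : R₀) ⊗ₜ[R] c) = (1 : R₀) ⊗ₜ[R] (φ c) := by
  set K := RingHom.ker (algebraMap R R₀) with hK
  let π : A →ₐ[R] R₀ ⊗[R] A := Algebra.TensorProduct.includeRight
  let g₀ : C →ₐ[R] R₀ ⊗[R] A :=
    ((φ₀ : R₀ ⊗[R] C →ₐ[R₀] R₀ ⊗[R] A).restrictScalars R).comp
      Algebra.TensorProduct.includeRight
  have hπs : Function.Surjective π := by
    intro w
    obtain ⟨b, rfl⟩ := exists_eq_one_tmul_of_surjective hsurj w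
    exact ⟨b, rfl⟩
  have hker : RingHom.ker (π : A →+* R₀ ⊗[R] A) = K.map (algebraMap R A) := by
    ext x
    rw [RingHom.mem_ker]
    change (1 : R₀) ⊗ₜ[R] x = 0 ↔ _
    constructor
    · intro h
      have := mem_smul_top_of_one_tmul_eq_zero hsurj x h
      rwa [Ideal.smul_top_eq_map, Submodule.restrictScalars_mem] at this
    · intro h
      apply one_tmul_eq_zero_of_mem_ker_smulTop
      rwa [Ideal.smul_top_eq_map, Submodule.restrictScalars_mem]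
  have hnil' : IsNilpotent (RingHom.ker (π : A →+* R₀ ⊗[R] A)) := by
    rw [hker]
    obtain ⟨n, hn⟩ := hnil
    refine ⟨n, ?_⟩
    rw [← Ideal.map_pow, hn, Ideal.zero_eq_bot, Ideal.map_bot]
    rfl
  let ψ : C →ₐ[R] A := Algebra.FormallySmooth.liftOfSurjective g₀ π hπs hnil'
  have hψ : ∀ c, φ₀ ((1 : R₀) ⊗ₜ[R] c) = (1 : R₀) ⊗ₜ[R] ψ c := by
    intro c
    exact (Algebra.FormallySmooth.liftOfSurjective_apply g₀ π hπs hnil' c).symm
  have hψ2 : IsBialgMod K ψ := isBialgMod_of_lift' hsurj ψ φ₀ hψ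
  obtain ⟨n, hn⟩ := hnil
  have hn' : K ^ (n + 1) = ⊥ := by
    rw [pow_succ, hn, Ideal.zero_eq_bot, Ideal.bot_mul]
  obtain ⟨φ, hφ⟩ := liftQ n R K hn' A hH C ψ hψ2
  refine ⟨φ, fun c => ?_⟩
  rw [hψ, ← sub_eq_zero, ← TensorProduct.tmul_sub]
  apply one_tmul_eq_zero_of_mem_ker_smulTop
  rw [← neg_sub]
  exact neg_mem (hφ c)

end Abstract

section Level
variable (R : Type u) [CommRing R] (B : Type u) [CommRing B] [HopfAlgebra R B]
  (C : Type u) [CommRing C] [HopfAlgebra R C] [Algebra.FormallySmooth R C]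
  {S T : Type u} [CommRing S] [CommRing T] [Algebra R S] [Algebra R T]

/-- lifting a homomorphism along a surjection with nilpotent kernel of `R`-algebras. -/
theorem slevel_exists (hB : IsMultType R B) (j : S →ₐ[R] T) (hj : Function.Surjective j)
    (hnil : IsNilpotent (RingHom.ker (j : S →+* T)))
    (g : T ⊗[R] C →ₐc[T] T ⊗[R] B) :
    ∃ f : S ⊗[R] C →ₐc[S] S ⊗[R] B, IsBC j f g := by
  letI : Algebra S T := j.toRingHom.toAlgebra
  haveI : IsScalarTower R S T := IsScalarTower.of_algebraMap_eq (fun r => (j.commutes r).symm)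
  have hsurj : Function.Surjective (algebraMap S T) := hj
  have hnil' : IsNilpotent (RingHom.ker (algebraMap S T)) := hnil
  let φ₀ : T ⊗[S] (S ⊗[R] C) →ₐc[T] T ⊗[S] (S ⊗[R] B) :=
    ((cancelBC R S T B).symm : T ⊗[R] B →ₐc[T] T ⊗[S] (S ⊗[R] B)).comp
      (g.comp (cancelBC R S T C : T ⊗[S] (S ⊗[R] C) →ₐc[T] T ⊗[R] C))
  have hSB : IsMultType S (S ⊗[R] B) := EtNil.isMultType_baseChange R B S hB
  obtain ⟨f, hf⟩ := exists_bialgHom_lift_nilpotent' (R := S) (R₀ := T) (A := S ⊗[R] B)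
    (C := S ⊗[R] C) hsurj hnil' hSB φ₀
  refine ⟨f, fun c => ?_⟩
  have h1 := hf ((1 : S) ⊗ₜ[R] c)
  have h2 : φ₀ ((1 : T) ⊗ₜ[S] ((1 : S) ⊗ₜ[R] c)) =
      (cancelBC R S T B).symm (g (cancelBC R S T C ((1 : T) ⊗ₜ[S] ((1 : S) ⊗ₜ[R] c)))) := rfl
  rw [h2, cancelBC_tmul, one_smul] at h1
  have h3 := congrArg (cancelBC R S T B) h1
  rw [BialgEquiv.apply_symm_apply, HensDiag.cancelBC_one_tmul] at h3
  rw [h3]
  congr 2

end Level

section System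
variable (A : Type u) [CommRing A] (I : Ideal A) (B : Type u) [CommRing B] [HopfAlgebra A B]
  (C : Type u) [CommRing C] [HopfAlgebra A C]

/-- transition maps `A/I^(n+2) → A/I^(n+1)`. -/
noncomputable def fac (n : ℕ) : A ⧸ I ^ (n + 1 + 1) →ₐ[A] A ⧸ I ^ (n + 1) :=
  Ideal.Quotient.factorₐ A (Ideal.pow_le_pow_right (Nat.le_succ (n + 1)))

theorem fac_surjective (n : ℕ) : Function.Surjective (fac A I n) :=
  Ideal.Quotient.factor_surjective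
    (Ideal.pow_le_pow_right (Nat.le_succ (n + 1)) : I ^ (n + 1 + 1) ≤ I ^ (n + 1))

theorem isNilpotent_ker_fac (n : ℕ) :
    IsNilpotent (RingHom.ker (fac A I n : A ⧸ I ^ (n + 1 + 1) →+* A ⧸ I ^ (n + 1))) := by
  refine ⟨2, ?_⟩
  change RingHom.ker (Ideal.Quotient.factor
    (Ideal.pow_le_pow_right (Nat.le_succ (n + 1)) : I ^ (n + 1 + 1) ≤ I ^ (n + 1))) ^ 2 = ⊥
  rw [Ideal.Quotient.factor_ker, ← Ideal.map_pow, ← pow_mul, Ideal.map_eq_bot_iff_le_ker,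
    Ideal.mk_ker]
  exact Ideal.pow_le_pow_right (by omega)

/-- the initial map `A/I → A/I^(0+1)`. -/
noncomputable def ini : A ⧸ I →ₐ[A] A ⧸ I ^ (0 + 1) :=
  Ideal.Quotient.factorₐ A (by rw [zero_add, pow_one])

variable {A I B C}

/-- the recursive construction of the compatible system of liftings. -/
noncomputable def sysAux [Algebra.FormallySmooth A C] (hB : IsMultType A B)
    (φ0 : (A ⧸ I ^ (0 + 1)) ⊗[A] C →ₐc[A ⧸ I ^ (0 + 1)] (A ⧸ I ^ (0 + 1)) ⊗[A] B) :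
    ∀ n : ℕ, (A ⧸ I ^ (n + 1)) ⊗[A] C →ₐc[A ⧸ I ^ (n + 1)] (A ⧸ I ^ (n + 1)) ⊗[A] B
  | 0 => φ0
  | n + 1 => Classical.choose (slevel_exists A B C hB (fac A I n) (fac_surjective A I n)
      (isNilpotent_ker_fac A I n) (sysAux hB φ0 n))

theorem sysAux_spec [Algebra.FormallySmooth A C] (hB : IsMultType A B)
    (φ0 : (A ⧸ I ^ (0 + 1)) ⊗[A] C →ₐc[A ⧸ I ^ (0 + 1)] (A ⧸ I ^ (0 + 1)) ⊗[A] B) (n : ℕ) :
    IsBC (fac A I n) (sysAux hB φ0 (n + 1)) (sysAux hB φ0 n) :=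
  Classical.choose_spec (slevel_exists A B C hB (fac A I n) (fac_surjective A I n)
      (isNilpotent_ker_fac A I n) (sysAux hB φ0 n))

theorem exists_system [Algebra.FormallySmooth A C] (hB : IsMultType A B)
    (φ₀ : (A ⧸ I) ⊗[A] C →ₐc[A ⧸ I] (A ⧸ I) ⊗[A] B) :
    ∃ φ : ∀ n : ℕ, (A ⧸ I ^ (n + 1)) ⊗[A] C →ₐc[A ⧸ I ^ (n + 1)] (A ⧸ I ^ (n + 1)) ⊗[A] B,
      IsBC (ini A I) φ₀ (φ 0) ∧ ∀ n, IsBC (fac A I n) (φ (n + 1)) (φ n) := by
  obtain ⟨φ0, hφ0⟩ := exists_isBC (ini A I) φ₀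
  exact ⟨sysAux hB φ0, hφ0, sysAux_spec hB φ0⟩

end System

section Algz
variable (A : Type u) [CommRing A] (I : Ideal A) {B : Type u} [CommRing B] [HopfAlgebra A B]
  {C : Type u} [CommRing C] [HopfAlgebra A C]
  (T : Type u) [CommRing T] [Algebra A T]

/-- the structure map of levels `A/I^(n+1) → T/(IT)^(n+1)`. -/
noncomputable def lvl (n : ℕ) :
    A ⧸ I ^ (n + 1) →ₐ[A] T ⧸ (I.map (algebraMap A T)) ^ (n + 1) :=
  Ideal.Quotient.liftₐ (I ^ (n + 1)) (Algebra.ofId A _) (by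
    intro r hr
    rw [Algebra.ofId_apply,
      IsScalarTower.algebraMap_apply A T (T ⧸ (I.map (algebraMap A T)) ^ (n + 1)),
      Ideal.Quotient.algebraMap_eq, Ideal.Quotient.eq_zero_iff_mem, ← Ideal.map_pow]
    exact Ideal.mem_map_of_mem _ hr)

/-- the projection `T → T/(IT)^(n+1)`. -/
noncomputable abbrev prj (n : ℕ) : T →ₐ[A] T ⧸ (I.map (algebraMap A T)) ^ (n + 1) :=
  IsScalarTower.toAlgHom A T (T ⧸ (I.map (algebraMap A T)) ^ (n + 1))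

/-- `f'` algebraizes the system `φ` over `T`. -/
def IsAlgz (φ : ∀ n : ℕ, (A ⧸ I ^ (n + 1)) ⊗[A] C →ₐc[A ⧸ I ^ (n + 1)] (A ⧸ I ^ (n + 1)) ⊗[A] B)
    (f' : T ⊗[A] C →ₐc[T] T ⊗[A] B) : Prop :=
  ∀ (n : ℕ) (c : C), Algebra.TensorProduct.map (prj A I T n) (AlgHom.id A B)
      (f' ((1 : T) ⊗ₜ[A] c)) =
    Algebra.TensorProduct.map (lvl A I T n) (AlgHom.id A B) (φ n ((1 : A ⧸ I ^ (n + 1)) ⊗ₜ[A] c))

variable {A I T}

theorem IsAlgz.unique [IsNoetherianRing A] [IsAdicComplete I A] [Module.Finite A T]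
    {N : Type u} [CommGroup N] (εT : T ⊗[A] B ≃ₐc[T] MonoidAlgebra T N)
    {φ : ∀ n : ℕ, (A ⧸ I ^ (n + 1)) ⊗[A] C →ₐc[A ⧸ I ^ (n + 1)] (A ⧸ I ^ (n + 1)) ⊗[A] B}
    {f' f'' : T ⊗[A] C →ₐc[T] T ⊗[A] B} (h' : IsAlgz A I T φ f') (h'' : IsAlgz A I T φ f'') :
    f' = f'' := by
  haveI : IsNoetherianRing T := IsNoetherianRing.of_finite A T
  haveI : IsAdicComplete (I.map (algebraMap A T)) T := isAdicComplete_of_finite A I T
  apply bialgHom_ext_one_tmul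
  intro c
  have h0 : εT (f' ((1 : T) ⊗ₜ[A] c)) = εT (f'' ((1 : T) ⊗ₜ[A] c)) := by
    rw [← sub_eq_zero]
    apply monoidAlgebra_eq_zero_of_forall_map (I.map (algebraMap A T))
    intro n
    rw [map_sub, sub_eq_zero]
    have key : ∀ w : T ⊗[A] B, MonoidAlgebra.mapRingHom N
        (Ideal.Quotient.mk ((I.map (algebraMap A T)) ^ (n + 1))) (εT w) =
        MTGlue.bcDiag A T (T ⧸ (I.map (algebraMap A T)) ^ (n + 1)) εT
          (Algebra.TensorProduct.map (prj A I T n) (AlgHom.id A B) w) := by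
      intro w
      rw [bcDiag_map]
      rfl
    rw [key, key, h' n c, h'' n c]
  exact εT.injective h0

theorem IsAlgz.of_isBC {T' : Type u} [CommRing T'] [Algebra A T'] (h : T →ₐ[A] T')
    {φ : ∀ n : ℕ, (A ⧸ I ^ (n + 1)) ⊗[A] C →ₐc[A ⧸ I ^ (n + 1)] (A ⧸ I ^ (n + 1)) ⊗[A] B}
    {f' : T ⊗[A] C →ₐc[T] T ⊗[A] B} {g : T' ⊗[A] C →ₐc[T'] T' ⊗[A] B}
    (hf' : IsAlgz A I T φ f') (hg : IsBC h f' g) : IsAlgz A I T' φ g := by
  intro n c
  have hle : (I.map (algebraMap A T)) ^ (n + 1) ≤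
      ((I.map (algebraMap A T')) ^ (n + 1)).comap (h : T →+* T') := by
    rw [← Ideal.map_le_iff_le_comap, Ideal.map_pow, Ideal.map_map]
    have : (h : T →+* T').comp (algebraMap A T) = algebraMap A T' := by
      ext r
      exact h.commutes r
    rw [this]
  let hn : T ⧸ (I.map (algebraMap A T)) ^ (n + 1) →ₐ[A] T' ⧸ (I.map (algebraMap A T')) ^ (n + 1) :=
    Ideal.quotientMapₐ ((I.map (algebraMap A T')) ^ (n + 1)) h hle
  have e1 : (prj A I T' n).comp h = hn.comp (prj A I T n) := by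
    apply AlgHom.ext
    intro t
    rfl
  have e2 : hn.comp (lvl A I T n) = lvl A I T' n := algHom_quot_ext _ _ _
  rw [hg c, map_map', e1, ← map_map', hf' n c, map_map', e2]

theorem IsAlgz.exists [IsNoetherianRing A] [IsAdicComplete I A] [Module.Finite A T]
    {N : Type u} [CommGroup N] (εT : T ⊗[A] B ≃ₐc[T] MonoidAlgebra T N)
    (φ : ∀ n : ℕ, (A ⧸ I ^ (n + 1)) ⊗[A] C →ₐc[A ⧸ I ^ (n + 1)] (A ⧸ I ^ (n + 1)) ⊗[A] B)
    (hφ : ∀ n, IsBC (fac A I n) (φ (n + 1)) (φ n)) :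
    ∃ f' : T ⊗[A] C →ₐc[T] T ⊗[A] B, IsAlgz A I T φ f' := by
  haveI : IsNoetherianRing T := IsNoetherianRing.of_finite A T
  haveI : IsAdicComplete (I.map (algebraMap A T)) T := isAdicComplete_of_finite A I T
  set J : Ideal T := I.map (algebraMap A T) with hJ
  choose φ' hφ' using fun n => exists_isBC (lvl A I T n) (φ n)
  let ε : ∀ n : ℕ, (T ⧸ J ^ (n + 1)) ⊗[A] B ≃ₐc[T ⧸ J ^ (n + 1)] MonoidAlgebra (T ⧸ J ^ (n + 1)) N :=
    fun n => MTGlue.bcDiag A T (T ⧸ J ^ (n + 1)) εT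
  let f : ∀ n : ℕ, (T ⧸ J ^ (n + 1)) ⊗[T] (T ⊗[A] C) →ₐc[T ⧸ J ^ (n + 1)]
      MonoidAlgebra (T ⧸ J ^ (n + 1)) N := fun n =>
    ((ε n : (T ⧸ J ^ (n + 1)) ⊗[A] B →ₐc[T ⧸ J ^ (n + 1)] MonoidAlgebra (T ⧸ J ^ (n + 1)) N)).comp
      ((φ' n).comp (cancelBC A T (T ⧸ J ^ (n + 1)) C :
        (T ⧸ J ^ (n + 1)) ⊗[T] (T ⊗[A] C) →ₐc[T ⧸ J ^ (n + 1)] (T ⧸ J ^ (n + 1)) ⊗[A] C))
  have hf1 : ∀ n c, f n ((1 : T ⧸ J ^ (n + 1)) ⊗ₜ[T] ((1 : T) ⊗ₜ[A] c)) =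
      ε n (Algebra.TensorProduct.map (lvl A I T n) (AlgHom.id A B)
        (φ n ((1 : A ⧸ I ^ (n + 1)) ⊗ₜ[A] c))) := by
    intro n c
    change ε n (φ' n (cancelBC A T (T ⧸ J ^ (n + 1)) C
      ((1 : T ⧸ J ^ (n + 1)) ⊗ₜ[T] ((1 : T) ⊗ₜ[A] c)))) = _
    rw [cancelBC_tmul, one_smul, hφ' n c]
  have hK : ∀ n c (b : B), φ n ((1 : A ⧸ I ^ (n + 1)) ⊗ₜ[A] c) = (1 : A ⧸ I ^ (n + 1)) ⊗ₜ[A] b →
      f n ((1 : T ⧸ J ^ (n + 1)) ⊗ₜ[T] ((1 : T) ⊗ₜ[A] c)) =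
        MonoidAlgebra.mapRingHom N (algebraMap T (T ⧸ J ^ (n + 1))) (εT ((1 : T) ⊗ₜ[A] b)) := by
    intro n c b hb
    rw [hf1, hb, Algebra.TensorProduct.map_tmul, map_one]
    exact MTGlue.bcDiag_one_tmul A T (T ⧸ J ^ (n + 1)) εT b
  have hfac : ∀ n, (Ideal.Quotient.factor
      (Ideal.pow_le_pow_right (Nat.le_succ (n + 1)) : J ^ (n + 1 + 1) ≤ J ^ (n + 1))).comp
        (algebraMap T (T ⧸ J ^ (n + 1 + 1))) = algebraMap T (T ⧸ J ^ (n + 1)) := by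
    intro n
    ext t
    rfl
  have hf : ∀ n (z : T ⊗[A] C), MonoidAlgebra.mapRingHom N
      (Ideal.Quotient.factor (Ideal.pow_le_pow_right (Nat.le_succ (n + 1))))
      (f (n + 1) ((1 : T ⧸ J ^ (n + 1 + 1)) ⊗ₜ[T] z)) = f n ((1 : T ⧸ J ^ (n + 1)) ⊗ₜ[T] z) := by
    intro n z
    induction z using TensorProduct.induction_on with
    | zero => simp
    | add x y hx hy => rw [TensorProduct.tmul_add, TensorProduct.tmul_add, map_add, map_add,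
        map_add, hx, hy]
    | tmul t c =>
      have h1 : t ⊗ₜ[A] c = t • ((1 : T) ⊗ₜ[A] c) := by
        rw [TensorProduct.smul_tmul', smul_eq_mul, mul_one]
      have h2 : ∀ k : ℕ, (1 : T ⧸ J ^ (k + 1)) ⊗ₜ[T] (t • ((1 : T) ⊗ₜ[A] c)) =
          (algebraMap T (T ⧸ J ^ (k + 1)) t) •
            ((1 : T ⧸ J ^ (k + 1)) ⊗ₜ[T] ((1 : T) ⊗ₜ[A] c)) := by
        intro k
        rw [TensorProduct.tmul_smul, TensorProduct.smul_tmul', TensorProduct.smul_tmul',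
          smul_eq_mul, mul_one, Algebra.smul_def, mul_one]
      have hg : ∀ (k : ℕ) (s : T ⧸ J ^ (k + 1)) (w : (T ⧸ J ^ (k + 1)) ⊗[T] (T ⊗[A] C)),
          f k (s • w) = s • f k w := fun k s w => map_smul (f k) s w
      obtain ⟨b, hb⟩ := exists_eq_one_tmul_quot (I ^ (n + 1 + 1)) B
        (φ (n + 1) ((1 : A ⧸ I ^ (n + 1 + 1)) ⊗ₜ[A] c))
      have hb' : φ n ((1 : A ⧸ I ^ (n + 1)) ⊗ₜ[A] c) = (1 : A ⧸ I ^ (n + 1)) ⊗ₜ[A] b := by
        rw [hφ n c, hb, Algebra.TensorProduct.map_tmul, map_one]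
        rfl
      rw [h1, h2, h2, hg, hg, mapRingHom_smul, hK (n + 1) c b hb, hK n c b hb',
        mapRingHom_mapRingHom, hfac]
      rfl
  obtain ⟨F, hF⟩ := exists_algebraization' J f hf
  refine ⟨(εT.symm : MonoidAlgebra T N →ₐc[T] T ⊗[A] B).comp F, ?_⟩
  intro n c
  have h0 : ε n (Algebra.TensorProduct.map (prj A I T n) (AlgHom.id A B)
      (εT.symm (F ((1 : T) ⊗ₜ[A] c)))) =
      ε n (Algebra.TensorProduct.map (lvl A I T n) (AlgHom.id A B)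
        (φ n ((1 : A ⧸ I ^ (n + 1)) ⊗ₜ[A] c))) := by
    rw [← hf1, ← hF n ((1 : T) ⊗ₜ[A] c)]
    have := bcDiag_map (T' := T ⧸ J ^ (n + 1)) εT (εT.symm (F ((1 : T) ⊗ₜ[A] c)))
    rw [BialgEquiv.apply_symm_apply] at this
    exact this
  exact (ε n).injective h0

end Algz

section Main

/-- **Lifting over a complete Noetherian base** of homomorphisms from an isotrivial group of
multiplicative type to a smooth affine group. -/
theorem exists_bialgHom_lift_adic_smooth (A : Type u) [CommRing A] [IsNoetherianRing A]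
    (I : Ideal A) [IsAdicComplete I A]
    (B : Type u) [CommRing B] [HopfAlgebra A B] (hH : IsIsotrivial A B)
    (C : Type u) [CommRing C] [HopfAlgebra A C] [Algebra.FormallySmooth A C]
    (φ₀ : ((A ⧸ I) ⊗[A] C) →ₐc[A ⧸ I] ((A ⧸ I) ⊗[A] B)) :
    ∃ φ : C →ₐc[A] B, ∀ c : C,
      φ₀ ((1 : A ⧸ I) ⊗ₜ[A] c) = (1 : A ⧸ I) ⊗ₜ[A] (φ c) := by
  obtain ⟨P, _, _, hetP, hfinP, hffP, N, _, ⟨εB⟩⟩ := hH
  haveI := hfinP
  haveI := hffP
  have hB : IsMultType A B :=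
    isMultType_of_isMultTypeConst A B ⟨P, inferInstance, inferInstance, hffP, N, inferInstance, ⟨εB⟩⟩
  obtain ⟨φ, hφ0, hφ⟩ := exists_system hB φ₀
  obtain ⟨f', hf'⟩ := IsAlgz.exists (T := P) εB φ hφ
  obtain ⟨g₁, hg₁⟩ := exists_isBC (Algebra.TensorProduct.includeLeft : P →ₐ[A] P ⊗[A] P) f'
  obtain ⟨g₂, hg₂⟩ := exists_isBC (Algebra.TensorProduct.includeRight : P →ₐ[A] P ⊗[A] P) f'
  have a₁ := hf'.of_isBC _ hg₁
  have a₂ := hf'.of_isBC _ hg₂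
  have hgg : g₁ = g₂ :=
    IsAlgz.unique (T := P ⊗[A] P) (MTGlue.bcDiag A P (P ⊗[A] P) εB) a₁ a₂
  rw [← hgg] at hg₂
  obtain ⟨φ', hφ'⟩ := exists_bialgHom_of_isBC_eq P f' g₁ hg₁ hg₂
  refine ⟨φ', fun c => ?_⟩
  obtain ⟨b, hb⟩ := exists_eq_one_tmul_quot I B
    (φ₀ ((1 : A ⧸ I) ⊗ₜ[A] c) - (1 : A ⧸ I) ⊗ₜ[A] φ' c)
  rw [← sub_eq_zero, hb]
  apply one_tmul_quot_eq_zero_of_baseChange I B P
  -- level zero
  let k : A ⧸ I →ₐ[A] P ⧸ (I.map (algebraMap A P)) ^ (0 + 1) := (lvl A I P 0).comp (ini A I)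
  let fct : P ⧸ (I.map (algebraMap A P)) ^ (0 + 1) →ₐ[A] P ⧸ I.map (algebraMap A P) :=
    Ideal.Quotient.factorₐ A (by rw [zero_add, pow_one])
  have h1 : Algebra.TensorProduct.map k (AlgHom.id A B)
      (φ₀ ((1 : A ⧸ I) ⊗ₜ[A] c) - (1 : A ⧸ I) ⊗ₜ[A] φ' c) = 0 := by
    have h2 := hf' 0 c
    rw [hφ' c, hφ0 c, map_map', Algebra.TensorProduct.map_tmul, map_one] at h2
    rw [map_sub, Algebra.TensorProduct.map_tmul, map_one, sub_eq_zero]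
    exact h2.symm
  rw [hb, Algebra.TensorProduct.map_tmul, map_one] at h1
  have h3 := congrArg (Algebra.TensorProduct.map fct (AlgHom.id A B)) h1
  rw [Algebra.TensorProduct.map_tmul, map_one, map_zero] at h3
  exact h3

end Main

end Groth.Agent.Lib.Helper25.Obs
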