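import Mathlib
set_option autoImplicit false
set_option linter.style.haveILetI false
universe u
open AlgebraicGeometry CategoryTheory

namespace Groth.Agent.Lib.Helper25.EqZMT

theorem isOpenImmersion_Spec_of_cover {B R : Type u} [CommRing B] [CommRing R] (i : B →+* R)
    (hi : Function.Injective i) (t : Set B) (ht : Ideal.span (i '' t) = ⊤)
    (hsat : ∀ r ∈ t, ∀ x : R, ∃ n : ℕ, ∃ b : B, i b = i r ^ n * x) :
    IsOpenImmersion (Spec.map (CommRingCat.ofHom i)) := by
  have hex : ∀ x : PrimeSpectrum R, ∃ r ∈ t, i r ∉ x.asIdeal := by
    intro x
    by_contra h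
    push Not at h
    have : Ideal.span (i '' t) ≤ x.asIdeal := Ideal.span_le.mpr (by
      rintro _ ⟨r, hr, rfl⟩
      exact h r hr)
    rw [ht] at this
    exact x.isPrime.ne_top (top_le_iff.mp this)
  apply IsOpenImmersion.of_forall_source_exists
  · intro x y hxy
    rw [Spec.map_apply, Spec.map_apply] at hxy
    have key : ∀ x y : PrimeSpectrum R, PrimeSpectrum.comap i x = PrimeSpectrum.comap i y →
        x.asIdeal ≤ y.asIdeal := by
      intro x y hxy a ha
      obtain ⟨r, hr, hrx⟩ := hex x
      have hry : i r ∉ y.asIdeal := by
        intro h
        have : r ∈ (PrimeSpectrum.comap i y).asIdeal := h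
        rw [← hxy] at this
        exact hrx this
      obtain ⟨n, b, hb⟩ := hsat r hr a
      have hbx : b ∈ (PrimeSpectrum.comap i x).asIdeal := by
        change i b ∈ x.asIdeal
        rw [hb]
        exact x.asIdeal.mul_mem_left _ ha
      rw [hxy] at hbx
      have hby : i r ^ n * a ∈ y.asIdeal := by rw [← hb]; exact hbx
      rcases y.isPrime.mem_or_mem hby with h | h
      · exact absurd (y.isPrime.mem_of_pow_mem n h) hry
      · exact h
    exact PrimeSpectrum.ext (le_antisymm (key x y hxy) (key y x hxy.symm))
  · intro x
    obtain ⟨r, hr, hrx⟩ := hex x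
    refine ⟨Spec (CommRingCat.of (Localization.Away (i r))),
      Spec.map (CommRingCat.ofHom (algebraMap R (Localization.Away (i r)))),
      IsOpenImmersion.of_isLocalization (i r), ?_, ?_⟩
    · rw [← SetLike.mem_coe, Scheme.Hom.coe_opensRange]
      have h1 := PrimeSpectrum.localization_away_comap_range (Localization.Away (i r)) (i r)
      have h2 : x ∈ (PrimeSpectrum.basicOpen (i r) : Set (PrimeSpectrum R)) := hrx
      rw [← h1] at h2
      exact h2
    · have hbij : Function.Bijective (Localization.awayMap i r) := by
        refine ⟨Localization.awayMap_injective_iff.mpr ?_, Localization.awayMap_surjective_iff.mpr ?_⟩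
        · intro a ha
          refine ⟨0, ?_⟩
          rw [pow_zero, one_mul]
          exact hi (ha.trans (map_zero i).symm)
        · intro a
          obtain ⟨n, b, hb⟩ := hsat r hr a
          exact ⟨b, n, hb⟩
      have hcomm : (algebraMap R (Localization.Away (i r))).comp i =
          (Localization.awayMap i r).comp (algebraMap B (Localization.Away r)) := by
        apply RingHom.ext
        intro b
        simp [Localization.awayMap, IsLocalization.Away.map]
      have heq : Spec.map (CommRingCat.ofHom (algebraMap R (Localization.Away (i r)))) ≫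
          Spec.map (CommRingCat.ofHom i) =
          Spec.map (CommRingCat.ofHom (Localization.awayMap i r)) ≫
            Spec.map (CommRingCat.ofHom (algebraMap B (Localization.Away r))) := by
        rw [← Spec.map_comp, ← Spec.map_comp, ← CommRingCat.ofHom_comp, ← CommRingCat.ofHom_comp,
          hcomm]
      rw [heq]
      haveI : IsIso (CommRingCat.ofHom (Localization.awayMap i r)) :=
        (ConcreteCategory.isIso_iff_bijective _).mpr hbij
      haveI : IsOpenImmersion (Spec.map (CommRingCat.ofHom (algebraMap B (Localization.Away r)))) :=
        IsOpenImmersion.of_isLocalization r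
      infer_instance

end Groth.Agent.Lib.Helper25.EqZMT
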