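import Groth.Agent.Lib.Helper25CoidealFlat
import Groth.Agent.Lib.Helper25OrbCl
import Groth.Agent.Lib.Helper25Shear

/-!
# Helper25OrbitFlat: a Hopf algebra is faithfully flat over the coordinate ring of a closed orbit
(helper25)

For a rational point `x` of `Spec R` (an affine scheme with an action of `G = Spec A`), the image
`B = orbitSub x` of the orbit map `R → A` is a right coideal subalgebra of `A`.  If the orbit is
closed (`k` algebraically closed, `A` reduced of finite type), `B` has no nontrivial costable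
ideals, hence `A` is faithfully flat over `B` (`faithfullyFlat_orbitSub`).  Consequently a
group-like element congruent to `1` modulo the stabilizer ideal lies in `B`
(`mem_orbitSub_of_sub_one_mem_stabIdeal`), and for a linearly reductive group it is the image of a
semi-invariant (`exists_eigen_of_sub_one_mem_stabIdeal`).
-/

set_option autoImplicit false
set_option linter.unusedSectionVars false
universe u
open TensorProduct HopfRep

namespace Groth.Agent.Lib.Helper25.OrbitFlat

open Groth.Agent.Lib.Helper25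

section Basic

variable {k : Type u} [Field k] {A : Type u} [CommRing A] [HopfAlgebra k A]
  {R : Type u} [CommRing R] [Algebra k R] [HopfRep.Comod k A R] [GLin.IsCoactAlg k A R]

theorem isComodHom_orbitHom (x : R →ₐ[k] k) :
    Hoch.IsComodHom A (GLin.orbitHom k A x).toLinearMap := by
  have : (GLin.orbitHom k A x).toLinearMap = coeffMap (A := A) x.toLinearMap := by
    apply LinearMap.ext
    intro f
    exact orbitHom_eq_coeffMap x f
  rw [this]
  exact isComodHom_coeffMap _

theorem comul_orbitHom (x : R →ₐ[k] k) (f : R) :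
    CoalgebraStruct.comul (R := k) (GLin.orbitHom k A x f) =
      (GLin.orbitHom k A x).toLinearMap.rTensor A (HopfRep.Comod.coact (k := k) (A := A) f) :=
  LinearMap.congr_fun (isComodHom_orbitHom x) f

/-- The coordinate ring of the orbit closure of `x`, as a subalgebra of `A`. -/
abbrev orbitSub (x : R →ₐ[k] k) : Subalgebra k A := (GLin.orbitHom k A x).range

theorem orbitHom_mem_orbitSub (x : R →ₐ[k] k) (f : R) :
    GLin.orbitHom k A x f ∈ orbitSub (A := A) x := ⟨f, rfl⟩

/-- The orbit subalgebra is a right coideal. -/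
theorem comul_mem_subalgBA (x : R →ₐ[k] k) :
    ∀ b ∈ orbitSub (A := A) x,
      CoalgebraStruct.comul (R := k) b ∈ subalgBA (orbitSub (A := A) x) := by
  rintro _ ⟨f, rfl⟩
  change CoalgebraStruct.comul (R := k) (GLin.orbitHom k A x f) ∈ _
  rw [comul_orbitHom]
  generalize HopfRep.Comod.coact (k := k) (A := A) f = z
  induction z using TensorProduct.induction_on with
  | zero => rw [map_zero]; exact zero_mem _
  | add a b ha hb => rw [map_add]; exact add_mem ha hb
  | tmul r a =>
    rw [LinearMap.rTensor_tmul]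
    exact coe_tmul_mem_subalgBA (orbitSub (A := A) x) ⟨_, orbitHom_mem_orbitSub x r⟩ a

end Basic

section Closed

variable {k : Type u} [Field k] [IsAlgClosed k] {A : Type u} [CommRing A] [HopfAlgebra k A]
  [Algebra.FiniteType k A] [IsReduced A]
  {R : Type u} [CommRing R] [Algebra k R] [Algebra.FiniteType k R]
  [HopfRep.Comod k A R] [GLin.IsCoactAlg k A R]

instance finiteType_orbitSub (x : R →ₐ[k] k) : Algebra.FiniteType k ↥(orbitSub (A := A) x) :=
  Algebra.FiniteType.of_surjective (GLin.orbitHom k A x).rangeRestrict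
    (GLin.orbitHom k A x).rangeRestrict_surjective

/-- Every rational point of the closure of a closed orbit comes from a point of the group. -/
theorem exists_point_restrict_eq {x : R →ₐ[k] k} (hcl : GLin.IsClosedOrbit k A x)
    (y : ↥(orbitSub (A := A) x) →ₐ[k] k) :
    ∃ g : A →ₐ[k] k, ∀ b : ↥(orbitSub (A := A) x), g (b : A) = y b := by
  set z : R →ₐ[k] k := y.comp (GLin.orbitHom k A x).rangeRestrict with hz
  have hzc : GLin.InOrbitClosure k A x z := by
    intro f hf
    rw [RingHom.mem_ker] at hf ⊢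
    change y ((GLin.orbitHom k A x).rangeRestrict f) = 0
    have h0 : (GLin.orbitHom k A x).rangeRestrict f = 0 := by
      apply Subtype.ext
      exact hf
    rw [h0]
    exact map_zero y
  obtain ⟨g, hg⟩ := exists_actPt_eq_of_isClosedOrbit hcl hzc
  refine ⟨g, ?_⟩
  rintro ⟨_, f, rfl⟩
  have h1 := congrArg (fun φ : R →ₐ[k] k => φ f) hg
  change y ((GLin.orbitHom k A x).rangeRestrict f) = g (GLin.orbitHom k A x f) at h1
  exact h1.symm

/-- The coordinate ring of a closed orbit has no nontrivial costable ideals. -/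
theorem eq_bot_or_eq_top_of_costable {x : R →ₐ[k] k} (hcl : GLin.IsClosedOrbit k A x)
    (I : Ideal ↥(orbitSub (A := A) x))
    (hI : ∀ b ∈ I, CoalgebraStruct.comul (R := k) ((b : ↥(orbitSub (A := A) x)) : A) ∈
      LinearMap.range ((idealImage (orbitSub (A := A) x) I).subtype.rTensor A)) :
    I = ⊥ ∨ I = ⊤ := by
  by_cases htop : I = ⊤
  · exact Or.inr htop
  refine Or.inl ?_
  rw [eq_bot_iff]
  intro b hb
  rw [Ideal.mem_bot]
  by_contra hne
  have hbA : ¬ IsNilpotent ((b : ↥(orbitSub (A := A) x)) : A) := by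
    intro hn
    exact hne (Subtype.ext hn.eq_zero)
  obtain ⟨g, hg⟩ := DensePts.exists_point_ne_zero_of_not_isNilpotent (k := k) _ hbA
  obtain ⟨y₀, hy₀⟩ := exists_point_vanishing_on (k := k) I htop
  obtain ⟨g₀, hg₀⟩ := exists_point_restrict_eq hcl y₀
  set G₀ : WithConv (A →ₐ[k] k) := WithConv.toConv g₀ with hG₀
  set G : WithConv (A →ₐ[k] k) := WithConv.toConv g with hG
  have hmul : G = G₀ * (G₀⁻¹ * G) := (mul_inv_cancel_left G₀ G).symm
  have h1 : g (b : A) = (G₀ * (G₀⁻¹ * G)).ofConv (b : A) := by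
    rw [← hmul]
  apply hg
  rw [h1]
  have h2 := AlgHom.convMul_apply G₀ (G₀⁻¹ * G) (b : A)
  change (G₀ * (G₀⁻¹ * G)).ofConv (b : A) = _ at h2
  rw [h2]
  obtain ⟨w, hw⟩ := hI b hb
  rw [← hw]
  clear hw h2 h1
  induction w using TensorProduct.induction_on with
  | zero => simp
  | add a c ha hc => rw [map_add, map_add, ha, hc, add_zero]
  | tmul i a =>
    rw [LinearMap.rTensor_tmul, Submodule.subtype_apply, Algebra.TensorProduct.lift_tmul]
    obtain ⟨b', hb', hb'eq⟩ := (mem_idealImage _).mp i.2
    have : G₀.ofConv (i : A) = 0 := by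
      rw [← hb'eq]
      change g₀ (b' : A) = 0
      rw [hg₀ b', hy₀ b' hb']
    rw [this, zero_mul]

/-- A commutative Hopf algebra is faithfully flat over the coordinate ring of a closed orbit. -/
theorem faithfullyFlat_orbitSub {x : R →ₐ[k] k} (hcl : GLin.IsClosedOrbit k A x) :
    Module.FaithfullyFlat ↥(orbitSub (A := A) x) A :=
  CoidealFlat.faithfullyFlat_of_isCoidealSubalgebra (orbitSub (A := A) x) (comul_mem_subalgBA x)
    (fun I hI => eq_bot_or_eq_top_of_costable hcl I hI)

end Closed

section Descent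

variable {k : Type u} [Field k] {A : Type u} [CommRing A] [HopfAlgebra k A] (B : Subalgebra k A)

/-- The algebra map `a ↦ Σ a₁ ⊗_B S(a₂)`. -/
noncomputable def psi : A →ₐ[k] A ⊗[↥B] A :=
  (toTensorOver B).comp
    ((Algebra.TensorProduct.map (AlgHom.id k A) (HopfAlgebra.antipodeAlgHom k A)).comp
      (Bialgebra.comulAlgHom k A))

theorem toTensorOver_map_antipode_of_mem (z : A ⊗[k] A) (hz : z ∈ subalgBA B) :
    toTensorOver B (Algebra.TensorProduct.map (AlgHom.id k A) (HopfAlgebra.antipodeAlgHom k A) z) =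
      (1 : A) ⊗ₜ[↥B] (LinearMap.mul' k A (LinearMap.lTensor A (HopfAlgebra.antipode k) z)) := by
  obtain ⟨y, rfl⟩ := hz
  induction y using TensorProduct.induction_on with
  | zero => simp
  | add a c ha hc =>
    simp only [map_add, TensorProduct.tmul_add] at ha hc ⊢
    rw [ha, hc]
  | tmul b a =>
    simp only [AlgHom.toRingHom_eq_coe, RingHom.coe_coe, Algebra.TensorProduct.map_tmul,
      Subalgebra.coe_val, AlgHom.coe_id, id_eq, toTensorOver_tmul, LinearMap.lTensor_tmul,
      LinearMap.mul'_apply]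
    have e : (b : A) = b • (1 : A) := by rw [Subalgebra.smul_def, smul_eq_mul, mul_one]
    conv_lhs => rw [e]
    rw [TensorProduct.smul_tmul, Subalgebra.smul_def, smul_eq_mul]
    rfl

theorem psi_of_mem (hB : ∀ b ∈ B, CoalgebraStruct.comul (R := k) b ∈ subalgBA B) (b : A)
    (hb : b ∈ B) :
    psi B b = algebraMap k (A ⊗[↥B] A) (CoalgebraStruct.counit (R := k) b) := by
  change toTensorOver B (Algebra.TensorProduct.map (AlgHom.id k A) (HopfAlgebra.antipodeAlgHom k A)
    (CoalgebraStruct.comul (R := k) b)) = _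
  rw [toTensorOver_map_antipode_of_mem B _ (hB b hb),
    HopfAlgebra.mul_antipode_lTensor_comul_apply, Algebra.algebraMap_eq_smul_one,
    TensorProduct.tmul_smul, Algebra.algebraMap_eq_smul_one, Algebra.TensorProduct.one_def]

end Descent

section Character

variable {k : Type u} [Field k] [IsAlgClosed k] {A : Type u} [CommRing A] [HopfAlgebra k A]
  [Algebra.FiniteType k A] [IsReduced A]
  {R : Type u} [CommRing R] [Algebra k R] [Algebra.FiniteType k R]
  [HopfRep.Comod k A R] [GLin.IsCoactAlg k A R]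

theorem psi_eq_zero_of_mem_stabIdeal (x : R →ₐ[k] k) (j : A) (hj : j ∈ GLin.stabIdeal k A x) :
    psi (orbitSub (A := A) x) j = 0 := by
  have hle : GLin.stabIdeal k A x ≤ RingHom.ker (psi (orbitSub (A := A) x)).toRingHom := by
    unfold GLin.stabIdeal
    rw [Ideal.map_le_iff_le_comap]
    intro r hr
    rw [Ideal.mem_comap, RingHom.mem_ker]
    change psi (orbitSub (A := A) x) (GLin.orbitHom k A x r) = 0
    rw [psi_of_mem _ (comul_mem_subalgBA x) _ (orbitHom_mem_orbitSub x r), counit_orbitHom,
      (RingHom.mem_ker).mp hr, map_zero]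
  exact hle hj

/-- A character which is trivial on the stabilizer of a point with closed orbit is a function on
the orbit. -/
theorem mem_orbitSub_of_sub_one_mem_stabIdeal {x : R →ₐ[k] k} (hcl : GLin.IsClosedOrbit k A x)
    {χ : A} (hχ : IsGroupLikeElem k χ) (h : χ - 1 ∈ GLin.stabIdeal k A x) :
    χ ∈ orbitSub (A := A) x := by
  have hff := faithfullyFlat_orbitSub hcl
  set B := orbitSub (A := A) x with hB
  have h1 := psi_eq_zero_of_mem_stabIdeal x _ h
  rw [map_sub, map_one, sub_eq_zero] at h1
  have h2 : psi B χ = χ ⊗ₜ[↥B] HopfAlgebra.antipode k χ := by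
    change toTensorOver B (Algebra.TensorProduct.map (AlgHom.id k A)
      (HopfAlgebra.antipodeAlgHom k A) (CoalgebraStruct.comul (R := k) χ)) = _
    rw [hχ.comul_eq_tmul_self, Algebra.TensorProduct.map_tmul, toTensorOver_tmul]
    rfl
  rw [h2] at h1
  have h3 : χ ⊗ₜ[↥B] (1 : A) = (1 : A) ⊗ₜ[↥B] χ := by
    have := congrArg (fun t => t * ((1 : A) ⊗ₜ[↥B] χ)) h1
    simp only [Algebra.TensorProduct.tmul_mul_tmul, mul_one, one_mul,
      hχ.antipode_mul_cancel] at this
    exact this
  obtain ⟨r, hr⟩ := mem_range_algebraMap_of_tmul_eq ↥B A χ h3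
  rw [← hr]
  exact r.2

end Character

section Lift

variable {k : Type u} [Field k] {A : Type u} [CommRing A] [HopfAlgebra k A]
  {R : Type u} [CommRing R] [Algebra k R] [HopfRep.Comod k A R] [GLin.IsCoactAlg k A R]

/-- For a linearly reductive group, a character which is a function on the orbit closure of `x`
lifts to a semi-invariant function taking the value `1` at `x`. -/
theorem exists_eigen_of_mem_orbitSub (hG : IsLinearlyReductive k A) (x : R →ₐ[k] k) {χ : A}
    (hχ : IsGroupLikeElem k χ) (hmem : χ ∈ orbitSub (A := A) x) :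
    ∃ F : R, HopfRep.Comod.coact (k := k) (A := A) F = F ⊗ₜ[k] χ ∧ x F = 1 := by
  have hss : IsSemisimpleComod k A R := isSemisimpleComod_of_isLinearlyReductive hG R
  set o : R →ₗ[k] A := (GLin.orbitHom k A x).toLinearMap with ho
  have hoc : Hoch.IsComodHom A o := isComodHom_orbitHom x
  have hW : IsSubcomod (k := k) (A := A) (LinearMap.ker o) := isSubcomod_ker hoc
  obtain ⟨W', hW', hc⟩ := hss _ hW
  obtain ⟨r₀, hr₀⟩ := hmem
  have hr₀' : o r₀ = χ := hr₀
  have htop : r₀ ∈ LinearMap.ker o ⊔ W' := by rw [hc.sup_eq_top]; trivial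
  obtain ⟨w, hw, F, hF, hsum⟩ := Submodule.mem_sup.mp htop
  have hoF : o F = χ := by
    rw [← hr₀', ← hsum, map_add, (LinearMap.mem_ker).mp hw, zero_add]
  have hχsub : IsSubcomod (k := k) (A := A) (Submodule.span k {χ}) := by
    intro y hy
    obtain ⟨c, rfl⟩ := Submodule.mem_span_singleton.mp hy
    rw [map_smul]
    change c • CoalgebraStruct.comul (R := k) χ ∈ _
    rw [hχ.comul_eq_tmul_self]
    exact ⟨(c • ⟨χ, Submodule.mem_span_singleton_self χ⟩ : Submodule.span k {χ}) ⊗ₜ[k] χ,
      by simp [TensorProduct.smul_tmul']⟩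
  set L : Submodule k R := (Submodule.span k {χ}).comap o ⊓ W' with hL
  have hLsub : IsSubcomod (k := k) (A := A) L := isSubcomod_inf (isSubcomod_comap hoc hχsub) hW'
  have hFL : F ∈ L := by
    refine ⟨?_, hF⟩
    change o F ∈ Submodule.span k {χ}
    rw [hoF]
    exact Submodule.mem_span_singleton_self χ
  have hLF : ∀ r ∈ L, ∃ c : k, r = c • F := by
    intro r hr
    obtain ⟨c, hcr⟩ := Submodule.mem_span_singleton.mp (Submodule.mem_comap.mp hr.1)
    refine ⟨c, ?_⟩
    have h1 : r - c • F ∈ LinearMap.ker o ⊓ W' := by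
      refine ⟨?_, W'.sub_mem hr.2 (W'.smul_mem c hF)⟩
      change o (r - c • F) = 0
      rw [map_sub, map_smul, hoF, hcr, sub_self]
    rw [hc.inf_eq_bot, Submodule.mem_bot, sub_eq_zero] at h1
    exact h1
  obtain ⟨z, hz⟩ := hLsub F hFL
  have hza : ∃ a : A, (L.subtype.rTensor A) z = F ⊗ₜ[k] a := by
    clear hz
    induction z using TensorProduct.induction_on with
    | zero => exact ⟨0, by simp⟩
    | add z₁ z₂ h₁ h₂ =>
      obtain ⟨a₁, ha₁⟩ := h₁
      obtain ⟨a₂, ha₂⟩ := h₂
      exact ⟨a₁ + a₂, by rw [map_add, ha₁, ha₂, TensorProduct.tmul_add]⟩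
    | tmul l a =>
      obtain ⟨c, hcl⟩ := hLF l l.2
      refine ⟨c • a, ?_⟩
      rw [LinearMap.rTensor_tmul, Submodule.subtype_apply, hcl, TensorProduct.smul_tmul]
  obtain ⟨a, ha⟩ := hza
  rw [hz] at ha
  have h2 : CoalgebraStruct.comul (R := k) (o F) = o.rTensor A
      (HopfRep.Comod.coact (k := k) (A := A) F) := LinearMap.congr_fun hoc F
  rw [ha, LinearMap.rTensor_tmul, hoF, hχ.comul_eq_tmul_self] at h2
  have h3 := congrArg (fun t => TensorProduct.lid k A
    ((CoalgebraStruct.counit (R := k) (A := A)).rTensor A t)) h2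
  simp only [LinearMap.rTensor_tmul, TensorProduct.lid_tmul, hχ.counit_eq_one, one_smul] at h3
  refine ⟨F, by rw [ha, h3], ?_⟩
  rw [← counit_orbitHom (A := A) x F]
  change CoalgebraStruct.counit (R := k) (o F) = 1
  rw [hoF, hχ.counit_eq_one]

end Lift

end Groth.Agent.Lib.Helper25.OrbitFlat
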