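import Groth.Agent.Lib.Helper25Cosemisimple
import Groth.Agent.Lib.Helper25CoeffSimple
import Groth.Prelude.Def_ComodTens

/-!
# Embedding a comodule in a finite power of another one (helper25)

If all finite-dimensional comodules are semisimple and the coefficient space of `V` is contained in
that of `X`, then `V` is a direct summand (as a comodule) of a finite direct sum of copies of `X`.
-/

set_option autoImplicit false
universe u v w w'

namespace Groth.Agent.Lib.Helper25

open TensorProduct HopfRep

section RMod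

variable {R : Type*} [Ring R] {V X M : Type*} [AddCommGroup V] [Module R V]
  [AddCommGroup X] [Module R X] [AddCommGroup M] [Module R M]

theorem exists_hom_apply_ne_zero [IsSemisimpleModule R X] {ι : Type*} (f : ι → X →ₗ[R] M)
    (g : V →ₗ[R] M) (hg : LinearMap.range g ≤ ⨆ i, LinearMap.range (f i)) (v : V)
    (hv : g v ≠ 0) : ∃ h : V →ₗ[R] X, h v ≠ 0 := by
  classical
  let Ψ : (ι →₀ X) →ₗ[R] M := Finsupp.lsum ℕ f
  have hΨ : (⨆ i, LinearMap.range (f i)) ≤ LinearMap.range Ψ := by
    apply iSup_le
    rintro i _ ⟨x, rfl⟩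
    exact ⟨Finsupp.single i x, Finsupp.lsum_single _ _ _ _⟩
  have hg' : ∀ x, g x ∈ LinearMap.range Ψ := fun x => hΨ (hg ⟨x, rfl⟩)
  obtain ⟨h, hh⟩ := IsSemisimpleModule.lifting_property Ψ.rangeRestrict
    Ψ.surjective_rangeRestrict (g.codRestrict _ hg')
  have h1 : Ψ (h v) = g v := by
    have := LinearMap.congr_fun hh v
    exact congrArg Subtype.val this
  have h2 : h v ≠ 0 := fun h0 => hv (by rw [← h1, h0, map_zero])
  obtain ⟨i, hi⟩ : ∃ i, h v i ≠ 0 := by
    by_contra hcon
    push_neg at hcon
    exact h2 (Finsupp.ext hcon)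
  exact ⟨Finsupp.lapply i ∘ₗ h, hi⟩

end RMod

section PiComod

variable {k : Type u} [Field k] {A : Type v} [AddCommGroup A] [Module k A] [Coalgebra k A]
variable {ι : Type} [Fintype ι] [DecidableEq ι] {X : ι → Type w} [∀ i, AddCommGroup (X i)]
  [∀ i, Module k (X i)] [c : ∀ i, Comod k A (X i)]

theorem T_pi (φ : A →ₗ[k] k) (f : ∀ i, X i) :
    @T k _ A _ _ _ (∀ i, X i) _ _ (ComodTens.Comod.pi c) φ f = fun i => T φ (f i) := by
  letI := ComodTens.Comod.pi c
  rw [T_apply]
  have h1 : Comod.coact (k := k) (A := A) f =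
      ∑ i, (LinearMap.single k X i).rTensor A ((c i).coact (f i)) := ComodTens.pi_coact c f
  rw [h1, map_sum]
  funext j
  rw [Finset.sum_apply]
  simp only [slice_rTensor]
  rw [Finset.sum_eq_single j]
  · simp only [LinearMap.coe_single, Pi.single_eq_same]
    rfl
  · intro i _ hij
    simp only [LinearMap.coe_single]
    exact Pi.single_eq_of_ne' hij _
  · intro hj
    exact absurd (Finset.mem_univ j) hj

theorem isComodHom_pi {V : Type w'} [AddCommGroup V] [Module k V] [Comod k A V]
    (g : ∀ i, V →ₗ[k] X i) (hg : ∀ i, Hoch.IsComodHom A (g i)) :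
    @Hoch.IsComodHom k _ A _ _ _ V _ _ _ (∀ i, X i) _ _ (ComodTens.Comod.pi c)
      (LinearMap.pi g) := by
  letI := ComodTens.Comod.pi c
  rw [isComodHom_iff]
  intro φ v
  rw [T_pi]
  funext i
  exact map_T_of_isComodHom (hg i) φ v

theorem isComodHom_proj (i : ι) :
    @Hoch.IsComodHom k _ A _ _ _ (∀ i, X i) _ _ (ComodTens.Comod.pi c) (X i) _ _ _
      (LinearMap.proj i) := by
  letI := ComodTens.Comod.pi c
  rw [isComodHom_iff]
  intro φ f
  rw [T_pi]
  rfl

end PiComod

section Embed

variable {k : Type u} [Field k] {A : Type v} [AddCommGroup A] [Module k A] [Coalgebra k A]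
variable {V : Type w} [AddCommGroup V] [Module k V] [Comod k A V] [Module.Finite k V]
variable {X : Type w} [AddCommGroup X] [Module k X] [cX : Comod k A X] [Module.Finite k X]

theorem exists_comodHom_apply_ne_zero (hX : IsSemisimpleComod k A X)
    (hle : coeffSpace k A V ≤ coeffSpace k A X) (v : V) (hv : v ≠ 0) :
    ∃ f : V →ₗ[k] X, Hoch.IsComodHom A f ∧ f v ≠ 0 := by
  classical
  letI := dualModule k A V
  letI := dualModule k A X
  letI := dualModule k A A
  haveI : IsSemisimpleModule (DualAlg k A) X := isSemisimpleComod_iff.mp hX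
  obtain ⟨l, hl⟩ : ∃ l : V →ₗ[k] k, l v ≠ 0 := by
    by_contra hcon
    push_neg at hcon
    exact hv ((Module.forall_dual_apply_eq_zero_iff k v).mp hcon)
  have hne : coeffMap (A := A) l v ≠ 0 := fun h0 =>
    hl (by rw [← counit_coeffMap (A := A) l v, h0, map_zero])
  obtain ⟨h, hh⟩ := exists_hom_apply_ne_zero (R := DualAlg k A)
    (fun l' : X →ₗ[k] k => toDualLinear (A := A) (coeffMap (A := A) l') (isComodHom_coeffMap l'))
    (toDualLinear (A := A) (coeffMap (A := A) l) (isComodHom_coeffMap l)) (by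
      rintro _ ⟨x, rfl⟩
      have : coeffMap (A := A) l x ∈ coeffSpace k A X := hle (coeffMap_mem_coeffSpace l x)
      rw [coeffSpace_eq_ofDualSub] at this
      exact this) v hne
  exact ⟨ofDualLinear h, isComodHom_ofDualLinear h, hh⟩

theorem exists_pi_embedding
    (hss : ∀ (M : Type w) [AddCommGroup M] [Module k M] [Comod k A M],
      Module.Finite k M → IsSemisimpleComod k A M)
    (hle : coeffSpace k A V ≤ coeffSpace k A X) :
    ∃ (b : ℕ) (i : V →ₗ[k] (Fin b → X)) (p : (Fin b → X) →ₗ[k] V),
      p ∘ₗ i = LinearMap.id ∧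
      @Hoch.IsComodHom k _ A _ _ _ V _ _ _ (Fin b → X) _ _
        (ComodTens.Comod.pi fun _ => cX) i ∧
      @Hoch.IsComodHom k _ A _ _ _ (Fin b → X) _ _
        (ComodTens.Comod.pi fun _ => cX) V _ _ _ p := by
  classical
  have hsep := exists_comodHom_apply_ne_zero (V := V) (X := X) (hss X inferInstance) hle
  let H : Submodule k (V →ₗ[k] X) :=
    { carrier := {f | Hoch.IsComodHom A f}
      add_mem' := fun {f g} hf hg => isComodHom_add hf hg
      zero_mem' := isComodHom_zero
      smul_mem' := fun c f hf => isComodHom_smul c hf }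
  let β := Module.finBasis k H
  let i : V →ₗ[k] (Fin (Module.finrank k H) → X) :=
    LinearMap.pi (fun j => ((β j : H) : V →ₗ[k] X))
  letI cP : Comod k A (Fin (Module.finrank k H) → X) := ComodTens.Comod.pi fun _ => cX
  have hi : Hoch.IsComodHom A i := isComodHom_pi _ (fun j => (β j).2)
  have hinj : Function.Injective i := by
    rw [← LinearMap.ker_eq_bot, LinearMap.ker_eq_bot']
    intro v hv
    by_contra hv0
    obtain ⟨f, hf, hfv⟩ := hsep v hv0
    apply hfv
    have h1 : (⟨f, hf⟩ : H) = ∑ j, β.repr ⟨f, hf⟩ j • β j := (β.sum_repr _).symm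
    have hfe : f = ∑ j, β.repr ⟨f, hf⟩ j • ((β j : H) : V →ₗ[k] X) := by
      have h2 := congrArg (Submodule.subtype H) h1
      rw [map_sum] at h2
      simp only [map_smul, Submodule.subtype_apply] at h2
      exact h2
    rw [hfe, LinearMap.sum_apply]
    apply Finset.sum_eq_zero
    intro j _
    rw [LinearMap.smul_apply]
    have : ((β j : H) : V →ₗ[k] X) v = 0 := congrFun hv j
    rw [this, smul_zero]
  letI := dualModule k A V
  letI := dualModule k A (Fin (Module.finrank k H) → X)
  haveI : IsSemisimpleModule (DualAlg k A) (Fin (Module.finrank k H) → X) :=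
    isSemisimpleComod_iff.mp (hss (Fin (Module.finrank k H) → X) inferInstance)
  obtain ⟨p, hp⟩ := IsSemisimpleModule.extension_property (toDualLinear (A := A) i hi) hinj
    (LinearMap.id : V →ₗ[DualAlg k A] V)
  refine ⟨Module.finrank k H, i, ofDualLinear p, ?_, hi, isComodHom_ofDualLinear p⟩
  ext v
  exact LinearMap.congr_fun hp v

end Embed

end Groth.Agent.Lib.Helper25
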