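import Groth.Agent.Lib.Helper25PointsNilp
import Groth.Agent.Lib.Helper25Trig

/-!
# Helper25PointsSolv: solvability of the rational points of a trigonalizable group

`unipSubgroup`, `isSolvable_of_flag` (a group acting faithfully, preserving a finite flag and acting
by scalars on the graded pieces is solvable), `exists_scalar_of_finrank_succ`,
`isSolvable_points_of_isTrigonalizable`.
-/

set_option autoImplicit false
universe u v w w'

namespace Groth.Agent.Lib.Helper25

open TensorProduct HopfRep WithConv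

section FlagSolv

variable {k : Type u} [CommRing k] {V : Type w} [AddCommGroup V] [Module k V]
variable {Γ : Type w'} [Group Γ]

/-- The subgroup of elements acting trivially on the graded pieces of a stable flag. -/
def unipSubgroup (ρ : Γ →* Module.End k V) (F : ℕ → Submodule k V)
    (hstab : ∀ g i, ∀ v ∈ F i, ρ g v ∈ F i) : Subgroup Γ where
  carrier := {g | ∀ i, ∀ v ∈ F (i + 1), ρ g v - v ∈ F i}
  one_mem' := by
    intro i v _
    rw [map_one, Module.End.one_apply, sub_self]
    exact Submodule.zero_mem _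
  mul_mem' := by
    intro a b ha hb i v hv
    have h1 : ρ b v ∈ F (i + 1) := hstab b _ v hv
    have h2 : ρ (a * b) v - v = (ρ a (ρ b v) - ρ b v) + (ρ b v - v) := by
      rw [map_mul, Module.End.mul_apply]
      abel
    rw [h2]
    exact Submodule.add_mem _ (ha i _ h1) (hb i v hv)
  inv_mem' := by
    intro a ha i v hv
    have h1 : ρ a⁻¹ v ∈ F (i + 1) := hstab a⁻¹ _ v hv
    have h3 : ρ a (ρ a⁻¹ v) = v := by
      rw [← Module.End.mul_apply, ← map_mul, mul_inv_cancel, map_one, Module.End.one_apply]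
    have h2 : ρ a⁻¹ v - v = -(ρ a (ρ a⁻¹ v) - ρ a⁻¹ v) := by
      rw [h3]
      abel
    rw [h2]
    exact Submodule.neg_mem _ (ha i _ h1)

theorem mem_unipSubgroup (ρ : Γ →* Module.End k V) (F : ℕ → Submodule k V)
    (hstab : ∀ g i, ∀ v ∈ F i, ρ g v ∈ F i) (g : Γ) :
    g ∈ unipSubgroup ρ F hstab ↔ ∀ i, ∀ v ∈ F (i + 1), ρ g v - v ∈ F i :=
  Iff.rfl

/-- A group acting faithfully on a module, preserving a finite flag and acting by scalars on its
graded pieces, is solvable. -/
theorem isSolvable_of_flag (ρ : Γ →* Module.End k V) (hρ : Function.Injective ρ)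
    (m : ℕ) (F : ℕ → Submodule k V) (hmono : Monotone F) (h0 : F 0 = ⊥) (hm : F m = ⊤)
    (hstab : ∀ g i, ∀ v ∈ F i, ρ g v ∈ F i)
    (hscal : ∀ g i, ∃ c : k, ∀ v ∈ F (i + 1), ρ g v - c • v ∈ F i) : Group.IsSolvable Γ := by
  set N := unipSubgroup ρ F hstab with hN
  haveI : Group.IsNilpotent N := by
    refine isNilpotent_of_flag (ρ.comp N.subtype) ?_ m F hmono h0 hm ?_
    · intro a b hab
      exact Subtype.ext (hρ hab)
    · intro g i v hv
      exact g.2 i v hv
  refine Group.isSolvable_of_ker_le_range N.subtype (Abelianization.of (G := Γ)) ?_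
  rw [Abelianization.ker_of, Subgroup.range_subtype, commutator_def, Subgroup.commutator_le]
  intro g _ h _
  rw [hN, mem_unipSubgroup]
  intro i v hv
  rw [commutatorElement_def]
  obtain ⟨cg, hcg⟩ := hscal g i
  obtain ⟨ch, hch⟩ := hscal h i
  set w := ρ g⁻¹ (ρ h⁻¹ v) with hw
  have hwF : w ∈ F (i + 1) := hstab _ _ _ (hstab _ _ _ hv)
  have hv' : v = ρ h (ρ g w) := by
    rw [hw, ← Module.End.mul_apply, ← Module.End.mul_apply, ← Module.End.mul_apply,
      ← map_mul, ← map_mul, ← map_mul]
    simp
  have h1 : ρ (g * h * g⁻¹ * h⁻¹) v = ρ g (ρ h w) := by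
    rw [hw, ← Module.End.mul_apply, ← Module.End.mul_apply, ← Module.End.mul_apply,
      ← map_mul, ← map_mul, ← map_mul]
  have h2 : ρ (g * h * g⁻¹ * h⁻¹) v - v =
      (ρ g (ρ h w - ch • w) + ch • (ρ g w - cg • w)) -
        (ρ h (ρ g w - cg • w) + cg • (ρ h w - ch • w)) := by
    rw [h1]
    conv_lhs => rw [hv']
    simp only [map_sub, map_smul, smul_sub, smul_smul]
    rw [mul_comm cg ch]
    abel
  rw [h2]
  apply Submodule.sub_mem
  · exact Submodule.add_mem _ (hstab g i _ (hch w hwF)) (Submodule.smul_mem _ _ (hcg w hwF))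
  · exact Submodule.add_mem _ (hstab h i _ (hcg w hwF)) (Submodule.smul_mem _ _ (hch w hwF))

end FlagSolv

section DimFlag

variable {k : Type u} [Field k] {V : Type w} [AddCommGroup V] [Module k V]

/-- An endomorphism preserving two nested subspaces whose dimensions differ by one acts by a
scalar on the quotient. -/
theorem exists_scalar_of_finrank_succ [FiniteDimensional k V] (f : Module.End k V)
    (P Q : Submodule k V) (hPQ : P ≤ Q) (hdim : Module.finrank k Q = Module.finrank k P + 1)
    (hQ : ∀ v ∈ Q, f v ∈ Q) (hP : ∀ v ∈ P, f v ∈ P) :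
    ∃ c : k, ∀ v ∈ Q, f v - c • v ∈ P := by
  have hne : ¬ Q ≤ P := by
    intro h
    have := Submodule.finrank_mono h
    omega
  obtain ⟨v₀, hv₀Q, hv₀P⟩ := Set.not_subset.mp hne
  have hsup : P ⊔ Submodule.span k {v₀} = Q := by
    apply Submodule.eq_of_le_of_finrank_le
    · exact sup_le hPQ ((Submodule.span_singleton_le_iff_mem _ _).mpr hv₀Q)
    · have hlt : P < P ⊔ Submodule.span k {v₀} := by
        apply lt_of_le_of_ne le_sup_left
        intro h
        apply hv₀P
        rw [h]
        exact (le_sup_right : Submodule.span k {v₀} ≤ _) (Submodule.mem_span_singleton_self v₀)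
      have := Submodule.finrank_lt_finrank_of_lt hlt
      omega
  have hdecomp : ∀ v ∈ Q, ∃ u ∈ P, ∃ a : k, v = u + a • v₀ := by
    intro v hv
    rw [← hsup, Submodule.mem_sup] at hv
    obtain ⟨u, hu, z, hz, rfl⟩ := hv
    obtain ⟨a, rfl⟩ := Submodule.mem_span_singleton.mp hz
    exact ⟨u, hu, a, rfl⟩
  obtain ⟨u₀, hu₀, c, hc⟩ := hdecomp (f v₀) (hQ v₀ hv₀Q)
  refine ⟨c, ?_⟩
  intro v hv
  obtain ⟨u, hu, a, rfl⟩ := hdecomp v hv
  have : f (u + a • v₀) - c • (u + a • v₀) = f u - c • u + a • u₀ := by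
    rw [map_add, map_smul, hc, smul_add, smul_add, smul_smul, smul_smul, mul_comm a c]
    abel
  rw [this]
  exact Submodule.add_mem _ (Submodule.sub_mem _ (hP u hu) (Submodule.smul_mem _ _ hu))
    (Submodule.smul_mem _ _ hu₀)

end DimFlag

section Solv

variable {k : Type u} [Field k] {A : Type v} [CommRing A] [HopfAlgebra k A]

theorem isSolvable_points_of_isTrigonalizable [Algebra.FiniteType k A]
    (hT : IsTrigonalizable k A) : Group.IsSolvable (WithConv (A →ₐ[k] k)) := by
  obtain ⟨U, hUsub, hUfg, hinj⟩ := exists_faithful_subcomod (k := k) (A := A)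
  letI := subComod U hUsub
  haveI : Module.Finite k U := Module.Finite.iff_fg.mpr hUfg
  obtain ⟨F, hmono, hsub, hdim⟩ := exists_dimFlag_aux hT _ U inferInstance rfl
  set n := Module.finrank k U with hn
  set F' : ℕ → Submodule k U := fun i => F (min i n) with hF'
  have hF'mono : Monotone F' := fun a b hab => hmono (min_le_min_right n hab)
  have hF'0 : F' 0 = ⊥ := by
    change F (min 0 n) = ⊥
    rw [Nat.zero_min]
    exact Submodule.finrank_eq_zero.mp (hdim 0 (Nat.zero_le _))
  have hF'n : F' n = ⊤ := by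
    change F (min n n) = ⊤
    rw [min_self]
    exact Submodule.eq_top_of_finrank_eq (hdim n le_rfl)
  have hstab : ∀ (g : WithConv (A →ₐ[k] k)) (i : ℕ), ∀ v ∈ F' i,
      actHom (k := k) (A := A) U g v ∈ F' i := by
    intro g i v hv
    rw [actHom_apply]
    exact T_mem_of_isSubcomod (hsub _) _ hv
  refine isSolvable_of_flag (actHom (k := k) (A := A) U) hinj n F' hF'mono hF'0 hF'n hstab ?_
  intro g i
  by_cases hi : i < n
  · have e1 : F' i = F i := by change F (min i n) = F i; rw [min_eq_left hi.le]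
    have e2 : F' (i + 1) = F (i + 1) := by
      change F (min (i + 1) n) = F (i + 1); rw [min_eq_left hi]
    rw [e1, e2]
    have hs1 := hstab g i
    have hs2 := hstab g (i + 1)
    rw [e1] at hs1
    rw [e2] at hs2
    exact exists_scalar_of_finrank_succ _ (F i) (F (i + 1)) (hmono (Nat.le_succ i))
      (by rw [hdim i hi.le, hdim (i + 1) hi]) hs2 hs1
  · refine ⟨1, fun v _ => ?_⟩
    have e1 : F' i = ⊤ := by
      change F (min i n) = ⊤
      rw [min_eq_right (not_lt.mp hi)]
      exact Submodule.eq_top_of_finrank_eq (hdim n le_rfl)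
    rw [e1]
    exact Submodule.mem_top

end Solv

end Groth.Agent.Lib.Helper25
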