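import Groth.Prelude.Def_GLin
import Groth.Agent.Lib.Helper25CoactAlg

/-!
# Coactions on polynomial rings over a comodule algebra (helper25)
-/

set_option autoImplicit false
set_option linter.unusedSectionVars false
universe u v w
open TensorProduct HopfRep

namespace Groth.Agent.Lib.Helper25

section PolyCoact
variable {k : Type u} [CommRing k] {A : Type v} [CommRing A] [Bialgebra k A]
  {R : Type w} [CommRing R] [Algebra k R] [HopfRep.Comod k A R] [GLin.IsCoactAlg k A R]
  [HopfRep.Comod k A (Polynomial R)] [GLin.IsCoactAlg k A (Polynomial R)]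

/-- coefficient extraction on `R[t] ⊗ A` -/
noncomputable def coeffT (n : ℕ) : Polynomial R ⊗[k] A →ₗ[k] R ⊗[k] A :=
  ((Polynomial.lcoeff R n).restrictScalars k).rTensor A

omit [HopfRep.Comod k A R] [GLin.IsCoactAlg k A R] [HopfRep.Comod k A (Polynomial R)]
  [GLin.IsCoactAlg k A (Polynomial R)] in
@[simp] theorem coeffT_tmul (n : ℕ) (p : Polynomial R) (a : A) :
    coeffT (k := k) n (p ⊗ₜ[k] a) = p.coeff n ⊗ₜ[k] a := by
  simp [coeffT]

omit [HopfRep.Comod k A R] [GLin.IsCoactAlg k A R] [HopfRep.Comod k A (Polynomial R)]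
  [GLin.IsCoactAlg k A (Polynomial R)] in
theorem coeffT_map_C_mul (n r : ℕ) (y : R ⊗[k] A) (a : A) :
    coeffT (k := k) n (Algebra.TensorProduct.map (Polynomial.CAlgHom : R →ₐ[k] Polynomial R) (AlgHom.id k A) y *
      (((Polynomial.X : Polynomial R) ^ r) ⊗ₜ[k] a)) = if n = r then y * ((1 : R) ⊗ₜ[k] a) else 0 := by
  induction y using TensorProduct.induction_on with
  | zero => simp
  | add y z hy hz =>
    rw [map_add, add_mul, map_add, hy, hz]
    split_ifs
    · rw [add_mul]
    · rw [add_zero]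
  | tmul s b =>
    rw [Algebra.TensorProduct.map_tmul, Algebra.TensorProduct.tmul_mul_tmul, coeffT_tmul]
    simp only [Polynomial.CAlgHom_apply, AlgHom.id_apply, Polynomial.coeff_C_mul, Polynomial.coeff_X_pow]
    split_ifs with h
    · simp [Algebra.TensorProduct.tmul_mul_tmul]
    · simp

theorem coact_C_mul_X_pow {χ' : A}
    (hC : ∀ r : R, HopfRep.Comod.coact (k := k) (A := A) (Polynomial.C r) =
      Algebra.TensorProduct.map (Polynomial.CAlgHom : R →ₐ[k] Polynomial R) (AlgHom.id k A)
        (HopfRep.Comod.coact (k := k) (A := A) r))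
    (hX : HopfRep.Comod.coact (k := k) (A := A) (Polynomial.X : Polynomial R) = Polynomial.X ⊗ₜ[k] χ')
    (s : R) (r : ℕ) :
    HopfRep.Comod.coact (k := k) (A := A) (Polynomial.C s * Polynomial.X ^ r) =
      Algebra.TensorProduct.map (Polynomial.CAlgHom : R →ₐ[k] Polynomial R) (AlgHom.id k A)
        (HopfRep.Comod.coact (k := k) (A := A) s) * (((Polynomial.X : Polynomial R) ^ r) ⊗ₜ[k] (χ' ^ r)) := by
  rw [← GLin.coactAlgHom_apply, map_mul, map_pow, GLin.coactAlgHom_apply, GLin.coactAlgHom_apply, hC, hX,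
    Algebra.TensorProduct.tmul_pow]

theorem coeffT_coact {χ' : A}
    (hC : ∀ r : R, HopfRep.Comod.coact (k := k) (A := A) (Polynomial.C r) =
      Algebra.TensorProduct.map (Polynomial.CAlgHom : R →ₐ[k] Polynomial R) (AlgHom.id k A)
        (HopfRep.Comod.coact (k := k) (A := A) r))
    (hX : HopfRep.Comod.coact (k := k) (A := A) (Polynomial.X : Polynomial R) = Polynomial.X ⊗ₜ[k] χ')
    (g : Polynomial R) (n : ℕ) :
    coeffT (k := k) n (HopfRep.Comod.coact (k := k) (A := A) g) =
      HopfRep.Comod.coact (k := k) (A := A) (g.coeff n) * ((1 : R) ⊗ₜ[k] (χ' ^ n)) := by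
  induction g using Polynomial.induction_on' with
  | add p q hp hq => rw [map_add, map_add, hp, hq, Polynomial.coeff_add, map_add, add_mul]
  | monomial r s =>
    rw [← Polynomial.C_mul_X_pow_eq_monomial, coact_C_mul_X_pow hC hX, coeffT_map_C_mul]
    simp only [Polynomial.coeff_C_mul, Polynomial.coeff_X_pow]
    split_ifs with h
    · subst h; simp
    · simp

end PolyCoact

end Groth.Agent.Lib.Helper25
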