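import Groth.Agent.Lib.Helper25HSub
import Groth.Agent.Lib.Helper25Points
import Groth.Agent.Lib.Helper25TakeuchiCor
import Groth.Agent.Lib.Helper25FracFT
import Groth.Agent.Lib.Helper25CartierHopf
import Groth.Agent.Lib.Helper25Coconn

/-!
# Extension of rational points along sub-Hopf-algebras (helper25)

* `HSub.sup`: the subalgebra generated by two sub-Hopf-algebras.
* `exists_extend_step`, `exists_algHom_extend`: over an algebraically closed field, a `k`-point of
  a sub-Hopf-algebra of a commutative Hopf algebra extends to the whole Hopf algebra (faithful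
  flatness + Nullstellensatz + Zorn).
* `exists_point_ne_zero`, `eq_zero_of_forall_point`: in characteristic zero the rational points
  separate the elements of a commutative Hopf algebra (Cartier).
* `isSubcomod_of_stable`: a subspace stable under all rational points is a subcomodule.
-/

set_option autoImplicit false
set_option linter.style.haveILetI false
universe u v w

namespace Groth.Agent.Lib.Helper25.HopfSub


open TensorProduct

section Sup

variable {k : Type u} [Field k] {A : Type v} [CommRing A] [HopfAlgebra k A]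

theorem range_map_val_mono {S T : Subalgebra k A} (h : S ≤ T) :
    LinearMap.range (TensorProduct.map S.val.toLinearMap S.val.toLinearMap) ≤
      LinearMap.range (TensorProduct.map T.val.toLinearMap T.val.toLinearMap) := by
  rintro _ ⟨z, rfl⟩
  refine ⟨TensorProduct.map (Subalgebra.inclusion h).toLinearMap
    (Subalgebra.inclusion h).toLinearMap z, ?_⟩
  rw [← LinearMap.comp_apply, ← TensorProduct.map_comp]
  rfl

/-- The subalgebra generated by two sub-Hopf-algebras is a sub-Hopf-algebra. -/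
noncomputable def HSub.sup (C D : HSub k A) : HSub k A where
  S := C.S ⊔ D.S
  comul_mem := by
    let T := C.S ⊔ D.S
    let R : Subalgebra k (A ⊗[k] A) := (Algebra.TensorProduct.map T.val T.val).range
    have hle : T ≤ R.comap (Bialgebra.comulAlgHom k A) := by
      refine sup_le ?_ ?_
      · intro c hc
        obtain ⟨z, hz⟩ := range_map_val_mono (le_sup_left : C.S ≤ T) (C.comul_mem c hc)
        exact ⟨z, hz⟩
      · intro d hd
        obtain ⟨z, hz⟩ := range_map_val_mono (le_sup_right : D.S ≤ T) (D.comul_mem d hd)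
        exact ⟨z, hz⟩
    intro b hb
    obtain ⟨z, hz⟩ := hle hb
    exact ⟨z, hz⟩
  antipode_mem := by
    let T := C.S ⊔ D.S
    have hle : T ≤ T.comap (HopfAlgebra.antipodeAlgHom k A) := by
      refine sup_le ?_ ?_
      · intro c hc
        exact (le_sup_left : C.S ≤ T) (C.antipode_mem c hc)
      · intro d hd
        exact (le_sup_right : D.S ≤ T) (D.antipode_mem d hd)
    intro b hb
    exact hle hb

end Sup

section Step

variable {k : Type u} [Field k] [IsAlgClosed k] {A : Type v} [CommRing A] [HopfAlgebra k A]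

/-- One step of the extension of rational points: along a finitely generated extension of
sub-Hopf-algebras. -/
theorem exists_extend_step (C C' : HSub k A) (hle : C.S ≤ C'.S) (s : Finset A)
    (hs : C'.S = C.S ⊔ Algebra.adjoin k (s : Set A)) (h : ↥C.S →ₐ[k] k) :
    ∃ h' : ↥C'.S →ₐ[k] k, ∀ c : ↥C.S, h' ⟨c, hle c.2⟩ = h c := by
  classical
  let ψ : ↥C.S →ₐc[k] ↥C'.S := C'.codRestrict C.val (fun c => hle c.2)
  have hψ : Function.Injective ψ := by
    intro a b hab
    exact Subtype.ext (congrArg (fun z : ↥C'.S => (z : A)) hab)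
  have hff : (ψ : ↥C.S →+* ↥C'.S).FaithfullyFlat := faithfullyFlat_of_injective ψ hψ
  set 𝔪 : Ideal ↥C.S := RingHom.ker (h : ↥C.S →+* k) with h𝔪
  set 𝔪' : Ideal ↥C'.S := 𝔪.map (ψ : ↥C.S →+* ↥C'.S) with h𝔪'
  have h𝔪ne : 𝔪 ≠ ⊤ := RingHom.ker_ne_top _
  have h𝔪'ne : 𝔪' ≠ ⊤ := by
    intro htop
    letI : Algebra ↥C.S ↥C'.S := (ψ : ↥C.S →+* ↥C'.S).toAlgebra
    haveI : Module.FaithfullyFlat ↥C.S ↥C'.S := hff
    have h1 := Ideal.comap_map_eq_self_of_faithfullyFlat (B := ↥C'.S) 𝔪
    have h2 : 𝔪.map (algebraMap ↥C.S ↥C'.S) = ⊤ := htop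
    rw [h2, Ideal.comap_top] at h1
    exact h𝔪ne h1.symm
  -- the fibre ring
  haveI : Nontrivial (↥C'.S ⧸ 𝔪') := Ideal.Quotient.nontrivial_iff.mpr h𝔪'ne
  -- images of elements of `C` are scalars
  have hscal : ∀ c : ↥C.S, Ideal.Quotient.mk 𝔪' (ψ c) = algebraMap k (↥C'.S ⧸ 𝔪') (h c) := by
    intro c
    have h1 : c - algebraMap k ↥C.S (h c) ∈ 𝔪 := by
      rw [h𝔪, RingHom.mem_ker, map_sub]
      change h c - h (algebraMap k ↥C.S (h c)) = 0
      rw [AlgHom.commutes]
      simp
    have h2 : ψ (c - algebraMap k ↥C.S (h c)) ∈ 𝔪' := Ideal.mem_map_of_mem _ h1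
    rw [map_sub, AlgHomClass.commutes] at h2
    have h3 := Ideal.Quotient.eq_zero_iff_mem.mpr h2
    rw [map_sub, sub_eq_zero] at h3
    rw [h3]
    rfl
  -- finite type
  haveI : Algebra.FiniteType k (↥C'.S ⧸ 𝔪') := by
    have hsC' : ∀ a ∈ s, a ∈ C'.S := by
      intro a ha
      rw [hs]
      exact (le_sup_right : Algebra.adjoin k (s : Set A) ≤ _) (Algebra.subset_adjoin ha)
    let t : Finset (↥C'.S ⧸ 𝔪') :=
      s.attach.image (fun a => Ideal.Quotient.mk 𝔪' (⟨a.1, hsC' a.1 a.2⟩ : ↥C'.S))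
    refine ⟨⟨t, ?_⟩⟩
    set G : Subalgebra k (↥C'.S ⧸ 𝔪') := Algebra.adjoin k (t : Set (↥C'.S ⧸ 𝔪')) with hG
    let P : Subalgebra k ↥C'.S := G.comap (Ideal.Quotient.mkₐ k 𝔪')
    have hP : C'.S ≤ P.map C'.S.val := by
      refine (le_of_eq hs).trans (sup_le ?_ ?_)
      · intro c hc
        refine ⟨ψ ⟨c, hc⟩, ?_, rfl⟩
        change Ideal.Quotient.mk 𝔪' (ψ ⟨c, hc⟩) ∈ G
        rw [hscal]
        exact G.algebraMap_mem _
      · rw [Algebra.adjoin_le_iff]
        intro a ha
        refine ⟨⟨a, hsC' a ha⟩, ?_, rfl⟩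
        change Ideal.Quotient.mk 𝔪' (⟨a, hsC' a ha⟩ : ↥C'.S) ∈ G
        apply Algebra.subset_adjoin
        rw [Finset.mem_coe, Finset.mem_image]
        exact ⟨⟨a, ha⟩, Finset.mem_attach _ _, rfl⟩
    rw [eq_top_iff]
    intro q _
    obtain ⟨x, rfl⟩ := Ideal.Quotient.mk_surjective q
    obtain ⟨y, hy, hyx⟩ := hP x.2
    have : y = x := Subtype.ext hyx
    rw [← this]
    exact hy
  obtain ⟨x, -⟩ := exists_point_vanishing_on (k := k) (R := ↥C'.S ⧸ 𝔪') ⊥ bot_ne_top
  refine ⟨x.comp (Ideal.Quotient.mkₐ k 𝔪'), ?_⟩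
  intro c
  change x (Ideal.Quotient.mk 𝔪' (ψ c)) = h c
  rw [hscal, AlgHom.commutes]
  rfl

end Step



open TensorProduct

section Zorn

/-- Partially defined rational points: a sub-Hopf-algebra with a `k`-point. -/
structure PPt (k : Type u) [Field k] (A : Type v) [CommRing A] [HopfAlgebra k A] where
  C : HSub k A
  h : ↥C.S →ₐ[k] k

variable {k : Type u} [Field k] {A : Type v} [CommRing A] [HopfAlgebra k A]

instance : Preorder (PPt k A) where
  le P Q := ∃ hle : P.C.S ≤ Q.C.S, ∀ c : ↥P.C.S, Q.h (Subalgebra.inclusion hle c) = P.h c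
  le_refl P := ⟨le_rfl, fun c => rfl⟩
  le_trans P Q R := fun ⟨h1, e1⟩ ⟨h2, e2⟩ => ⟨h1.trans h2, fun c => by
    rw [← e1 c, ← e2]
    rfl⟩

theorem PPt.le_def {P Q : PPt k A} :
    P ≤ Q ↔ ∃ hle : P.C.S ≤ Q.C.S, ∀ c : ↥P.C.S, Q.h (Subalgebra.inclusion hle c) = P.h c :=
  Iff.rfl

theorem exists_ub (c : Set (PPt k A)) (hc : IsChain (· ≤ ·) c) (y : PPt k A) (hy : y ∈ c) :
    ∃ ub : PPt k A, ∀ z ∈ c, z ≤ ub := by
  classical
  haveI : Nonempty ↥c := ⟨⟨y, hy⟩⟩
  let K : ↥c → Subalgebra k A := fun P => P.1.C.S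
  have dir : Directed (· ≤ ·) K := by
    intro P Q
    rcases hc.total P.2 Q.2 with h | h
    · exact ⟨Q, h.1, le_rfl⟩
    · exact ⟨P, le_rfl, h.1⟩
  let f : ∀ i : ↥c, ↥(K i) →ₐ[k] k := fun P => P.1.h
  have hf : ∀ (i j : ↥c) (h : K i ≤ K j), f i = (f j).comp (Subalgebra.inclusion h) := by
    intro i j h
    rcases hc.total i.2 j.2 with hij | hji
    · obtain ⟨hle, e⟩ := hij
      apply AlgHom.ext
      intro x
      exact (e x).symm
    · obtain ⟨hle, e⟩ := hji
      apply AlgHom.ext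
      intro x
      have h1 := e (Subalgebra.inclusion h x)
      rw [AlgHom.comp_apply, ← h1]
      rfl
  let T : Subalgebra k A := iSup K
  have hmem : ∀ x : A, x ∈ T → ∃ i, x ∈ K i := by
    intro x hx
    have h1 : x ∈ ((iSup K : Subalgebra k A) : Set A) := hx
    rw [Subalgebra.coe_iSup_of_directed dir] at h1
    obtain ⟨i, hi⟩ := Set.mem_iUnion.mp h1
    exact ⟨i, hi⟩
  let TH : HSub k A :=
    { S := T
      comul_mem := by
        intro b hb
        obtain ⟨i, hi⟩ := hmem b hb
        exact range_map_val_mono (le_iSup K i) (i.1.C.comul_mem b hi)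
      antipode_mem := by
        intro b hb
        obtain ⟨i, hi⟩ := hmem b hb
        exact (le_iSup K i) (i.1.C.antipode_mem b hi) }
  refine ⟨⟨TH, Subalgebra.iSupLift K dir f hf T le_rfl⟩, ?_⟩
  intro z hz
  refine ⟨le_iSup K ⟨z, hz⟩, ?_⟩
  intro x
  change Subalgebra.iSupLift K dir f hf T le_rfl
    (Subalgebra.inclusion (le_iSup K ⟨z, hz⟩) x) = f ⟨z, hz⟩ x
  exact Subalgebra.iSupLift_inclusion (K := K) (dir := dir) (f := f) (hf := hf) (T := T)
    (hT := le_rfl) (i := ⟨z, hz⟩) x (le_iSup K ⟨z, hz⟩)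

variable [IsAlgClosed k]

/-- Rational points extend from a sub-Hopf-algebra to the whole Hopf algebra, over an
algebraically closed field. -/
theorem exists_algHom_extend (B₀ : HSub k A) (g₀ : ↥B₀.S →ₐ[k] k) :
    ∃ g : A →ₐ[k] k, ∀ b : ↥B₀.S, g (b : A) = g₀ b := by
  classical
  obtain ⟨m, hm0, hmax⟩ := zorn_le_nonempty_Ici₀ (⟨B₀, g₀⟩ : PPt k A)
    (fun c _ hc y hy => exists_ub c hc y hy) ⟨B₀, g₀⟩ le_rfl
  have htop : m.C.S = ⊤ := by
    by_contra hne
    obtain ⟨a, ha⟩ : ∃ a : A, a ∉ m.C.S := by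
      by_contra hall
      push Not at hall
      exact hne (eq_top_iff.mpr (fun x _ => hall x))
    obtain ⟨D, hDft, hDa, hDΔ, hDS⟩ := exists_finiteType_hopfSubalgebra_ge (k := k) ({a} : Finset A)
    have hDfg : D.FG := (Subalgebra.fg_iff_finiteType D).mpr hDft
    obtain ⟨s, hs⟩ := hDfg
    let DH : HSub k A := ⟨D, hDΔ, hDS⟩
    let C' : HSub k A := HSub.sup m.C DH
    have hle : m.C.S ≤ C'.S := le_sup_left
    obtain ⟨h', hh'⟩ := exists_extend_step m.C C' hle s (by
      change m.C.S ⊔ D = _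
      rw [hs]) m.h
    have h1 : m ≤ (⟨C', h'⟩ : PPt k A) := ⟨hle, fun c => hh' c⟩
    have h2 := hmax h1
    obtain ⟨hle2, -⟩ := h2
    apply ha
    apply hle2
    change a ∈ m.C.S ⊔ D
    exact (le_sup_right : D ≤ _) (hDa (by simp))
  obtain ⟨hle0, e0⟩ := hm0
  let ι : A →ₐ[k] ↥m.C.S := AlgHom.codRestrict (AlgHom.id k A) m.C.S (fun x => by
    rw [htop]; trivial)
  refine ⟨m.h.comp ι, ?_⟩
  intro b
  rw [← e0 b]
  rfl

end Zorn



open TensorProduct HopfRep

section Sep

/-- In a finitely generated reduced algebra over an algebraically closed field, rational points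
separate elements from zero. -/
theorem exists_point_ne_zero {k : Type u} [Field k] [IsAlgClosed k] {R : Type v} [CommRing R]
    [Algebra k R] [Algebra.FiniteType k R] [IsReduced R] (c : R) (hc : c ≠ 0) :
    ∃ x : R →ₐ[k] k, x c ≠ 0 := by
  let L := Localization.Away c
  haveI : Nontrivial L := by
    rw [← not_subsingleton_iff_nontrivial,
      IsLocalization.subsingleton_iff (M := Submonoid.powers c) (S := L)]
    rintro ⟨n, hn⟩
    exact hc (IsReduced.eq_zero c ⟨n, hn⟩)
  haveI : Algebra.FinitePresentation R L := IsLocalization.Away.finitePresentation (S := L) c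
  haveI : Algebra.FiniteType R L := Algebra.FiniteType.of_finitePresentation
  haveI : Algebra.FiniteType k L :=
    Algebra.FiniteType.trans (R := k) (S := R) (A := L) inferInstance inferInstance
  obtain ⟨x, -⟩ := exists_point_vanishing_on (k := k) (R := L) ⊥ bot_ne_top
  refine ⟨x.comp (IsScalarTower.toAlgHom k R L), ?_⟩
  intro h
  have hu : IsUnit (algebraMap R L c) := IsLocalization.Away.algebraMap_isUnit c
  have h2 := hu.map x
  rw [show x (algebraMap R L c) = 0 from h] at h2
  exact not_isUnit_zero h2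

end Sep

section Main

variable {k : Type u} [Field k] [IsAlgClosed k] [CharZero k] {A : Type v} [CommRing A]
  [HopfAlgebra k A]

/-- Over an algebraically closed field of characteristic zero, an element of a commutative Hopf
algebra killed by all rational points vanishes. -/
theorem eq_zero_of_forall_point (c : A) (h : ∀ g : A →ₐ[k] k, g c = 0) : c = 0 := by
  classical
  by_contra hc
  obtain ⟨D, hDft, hDc, hDΔ, hDS⟩ := exists_finiteType_hopfSubalgebra_ge (k := k) ({c} : Finset A)
  obtain ⟨DH, hDH⟩ : ∃ DH : HSub k A, DH.S = D := ⟨⟨D, hDΔ, hDS⟩, rfl⟩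
  subst hDH
  haveI : Algebra.FiniteType k ↥DH.S := hDft
  haveI : IsReduced ↥DH.S := CartH.isReduced_of_charZero_hopf (k := k) (A := ↥DH.S)
  have hcD : c ∈ DH.S := hDc (by simp)
  have hc' : (⟨c, hcD⟩ : ↥DH.S) ≠ 0 := by
    intro h0
    exact hc (congrArg Subtype.val h0)
  obtain ⟨x, hx⟩ := exists_point_ne_zero (k := k) (⟨c, hcD⟩ : ↥DH.S) hc'
  obtain ⟨g, hg⟩ := exists_algHom_extend DH x
  apply hx
  rw [← hg ⟨c, hcD⟩]
  exact h g

variable {V : Type w} [AddCommGroup V] [Module k V] [Comod k A V]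

theorem isSubcomod_of_stable (W : Submodule k V)
    (hW : ∀ g : A →ₐ[k] k, W.map (Comod.act k A V g) ≤ W) :
    IsSubcomod (k := k) (A := A) W := by
  intro w hw
  have h1 := mem_sup_of_lslice_mem W (⊥ : Submodule k A) (Comod.coact (k := k) (A := A) w) (by
    intro l hl
    rw [Submodule.mem_bot]
    apply eq_zero_of_forall_point (k := k)
    intro g
    have h2 := apply_lslice l g.toLinearMap (Comod.coact (k := k) (A := A) w)
    have h3 : slice V g.toLinearMap (Comod.coact (k := k) (A := A) w) ∈ W :=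
      hW g ⟨w, hw, rfl⟩
    have h4 := hl h3
    rw [LinearMap.mem_ker] at h4
    rw [h4] at h2
    exact h2)
  have h5 : LinearMap.range ((⊥ : Submodule k A).subtype.lTensor V) = ⊥ := by
    rw [eq_bot_iff]
    rintro _ ⟨z, rfl⟩
    have : z = 0 := Subsingleton.elim _ _
    rw [this, map_zero]
    exact Submodule.zero_mem _
  rwa [h5, sup_bot_eq] at h1

end Main


end Groth.Agent.Lib.Helper25.HopfSub
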