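import Groth.Agent.Lib.Helper25TowerBC

/-!
# Homomorphisms between groups of multiplicative type and purely inseparable extensions (helper25)

For `k'/k` purely inseparable, `K` an algebraically closed extension of `k`, and `A`, `B`
bialgebras over `k` which become spanned by group-likes over `K`: every `k'`-coalgebra map
`k' ⊗ B → k' ⊗ A` maps `1 ⊗ B` into `1 ⊗ A` (`exists_eq_one_tmul`).
-/

set_option autoImplicit false
universe u v w w'

namespace Groth.Agent.Lib.Helper25.PurInsep

open TensorProduct Coalgebra Groth.Agent.Lib.Helper25 Groth.Agent.Lib.Helper25.TowerBC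

section Connected

variable {k : Type u} [Field k] {k' : Type v} [Field k'] [Algebra k k'] [IsPurelyInseparable k k']
  {K : Type w} [Field K] [Algebra k K]

/-- Every element of `K ⊗ k'` has a `q^n`-th power in `K`, for `k'/k` purely inseparable. -/
theorem exists_pow_mem_range (q : ℕ) [ExpChar k q] (x : K ⊗[k] k') :
    ∃ n : ℕ, x ^ q ^ n ∈ (algebraMap K (K ⊗[k] k')).range := by
  have : ExpChar (K ⊗[k] k') q :=
    expChar_of_injective_algebraMap (algebraMap k (K ⊗[k] k')).injective q
  have hmono : ∀ (y : K ⊗[k] k') (n m : ℕ), n ≤ m →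
      y ^ q ^ n ∈ (algebraMap K (K ⊗[k] k')).range →
      y ^ q ^ m ∈ (algebraMap K (K ⊗[k] k')).range := by
    intro y n m hnm hy
    obtain ⟨d, rfl⟩ := Nat.exists_eq_add_of_le hnm
    rw [pow_add, pow_mul]
    exact Subring.pow_mem _ hy _
  induction x using TensorProduct.induction_on with
  | zero =>
    refine ⟨0, ?_⟩
    have hq : q ^ 0 ≠ 0 := by simp
    rw [zero_pow hq]
    exact Subring.zero_mem _
  | add x y hx hy =>
    obtain ⟨n, hn⟩ := hx
    obtain ⟨m, hm⟩ := hy
    refine ⟨max n m, ?_⟩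
    rw [add_pow_expChar_pow]
    exact Subring.add_mem _ (hmono x n _ (le_max_left _ _) hn) (hmono y m _ (le_max_right _ _) hm)
  | tmul a c =>
    obtain ⟨n, d, hd⟩ := IsPurelyInseparable.pow_mem k q c
    refine ⟨n, (algebraMap k K d) * a ^ q ^ n, ?_⟩
    rw [Algebra.TensorProduct.tmul_pow, ← hd, Algebra.TensorProduct.algebraMap_apply,
      Algebra.algebraMap_eq_smul_one d (A := k'), TensorProduct.tmul_smul,
      Algebra.algebraMap_self, RingHom.id_apply, ← Algebra.smul_def, TensorProduct.smul_tmul']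

/-- `K ⊗ k'` has only trivial idempotents, for `k'/k` purely inseparable. -/
theorem idempotent_trivial (e : K ⊗[k] k') (he : IsIdempotentElem e) : e = 0 ∨ e = 1 := by
  obtain ⟨q, hq⟩ := ExpChar.exists k
  obtain ⟨n, a, ha⟩ := exists_pow_mem_range (K := K) (k' := k') q e
  have hpos : q ^ n ≠ 0 := pow_ne_zero _ (expChar_pos k q).ne'
  rw [he.pow_eq hpos] at ha
  have hinj : Function.Injective (algebraMap K (K ⊗[k] k')) := (algebraMap K (K ⊗[k] k')).injective
  have hida : a * a = a := by
    apply hinj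
    rw [map_mul, ha]
    exact he
  have : a = 0 ∨ a = 1 := by
    have h : a * (a - 1) = 0 := by rw [mul_sub, hida, mul_one, sub_self]
    rcases mul_eq_zero.mp h with h | h
    · exact Or.inl h
    · exact Or.inr (sub_eq_zero.mp h)
  rcases this with h | h
  · left; rw [← ha, h, map_zero]
  · right; rw [← ha, h, map_one]

end Connected

section Equalizer

variable {k : Type u} [Field k] {k' : Type v} [Field k'] [Algebra k k']
  {K : Type w} [Field K] [Algebra k K]

/-- The equalizer of the two maps `k' → K ⊗ k'` is `k`. -/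
theorem mem_range_of_tmul_eq (j : k' →ₐ[k] K) (c : k')
    (h : (j c) ⊗ₜ[k] (1 : k') = (1 : K) ⊗ₜ[k] c) : c ∈ (algebraMap k k').range := by
  by_contra hc
  set p : Submodule k k' := LinearMap.range (Algebra.linearMap k k') with hp
  have hcp : c ∉ p := by
    rintro ⟨d, hd⟩
    exact hc ⟨d, hd⟩
  obtain ⟨f, hfc, hfp⟩ := Submodule.exists_dual_map_eq_bot_of_notMem hcp inferInstance
  have hf1 : f 1 = 0 := by
    have : f 1 ∈ Submodule.map f p := ⟨1, ⟨1, by simp⟩, rfl⟩
    rw [hfp] at this
    exact this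
  have h2 := congrArg (fun z => TensorProduct.rid k K (LinearMap.lTensor K f z)) h
  simp only [LinearMap.lTensor_tmul, TensorProduct.rid_tmul, hf1, zero_smul] at h2
  apply hfc
  have h3 : (f c) • (1 : K) = 0 := h2.symm
  rcases smul_eq_zero.mp h3 with h4 | h4
  · exact h4
  · exact absurd h4 one_ne_zero

end Equalizer

section Coordinates

variable {R : Type u} [Field R] {S : Type v} [CommRing S] [Algebra R S]
  {T : Type w} [CommRing T] [Algebra R T] (u₁ u₂ : S →ₐ[R] T)
  {A : Type w'} [CommRing A] [Bialgebra R A]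

theorem basis_repr_thetaMap {ι : Type*} (bA : Module.Basis ι R A) (u : S →ₐ[R] T)
    (z : S ⊗[R] A) (r : ι) :
    (Algebra.TensorProduct.basis T bA).repr (thetaMap u A z) r =
      u ((Algebra.TensorProduct.basis S bA).repr z r) := by
  induction z using TensorProduct.induction_on with
  | zero => simp
  | add x y hx hy => simp only [map_add, Finsupp.coe_add, Pi.add_apply, hx, hy]
  | tmul s a =>
    rw [thetaMap_tmul, Algebra.TensorProduct.basis_repr_tmul,
      Algebra.TensorProduct.basis_repr_tmul]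
    simp

/-- An element of `S ⊗ A` whose images under `u₁ ⊗ id` and `u₂ ⊗ id` agree comes from `A`,
provided the equalizer of `u₁` and `u₂` is `R`. -/
theorem exists_eq_one_tmul_of_thetaMap_eq
    (hS : ∀ c : S, u₁ c = u₂ c → c ∈ (algebraMap R S).range)
    (z : S ⊗[R] A) (h : thetaMap u₁ A z = thetaMap u₂ A z) : ∃ a : A, z = (1 : S) ⊗ₜ[R] a := by
  classical
  let bA := Module.Free.chooseBasis R A
  set bS := Algebra.TensorProduct.basis S bA with hbS
  set c := bS.repr z with hc
  have hcr : ∀ r, c r ∈ (algebraMap R S).range := by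
    intro r
    apply hS
    rw [hc, hbS, ← basis_repr_thetaMap bA u₁, ← basis_repr_thetaMap bA u₂, h]
  choose d hd using hcr
  refine ⟨∑ r ∈ c.support, d r • bA r, ?_⟩
  conv_lhs => rw [← bS.linearCombination_repr z]
  rw [Finsupp.linearCombination_apply, Finsupp.sum, TensorProduct.tmul_sum]
  refine Finset.sum_congr rfl (fun r _ => ?_)
  rw [← hc, ← hd r, hbS, Algebra.TensorProduct.basis_apply, TensorProduct.tmul_smul,
    algebraMap_smul]

end Coordinates

section Main

variable {k : Type u} [Field k] {k' : Type v} [Field k'] [Algebra k k'] [IsPurelyInseparable k k']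
  {K : Type w} [Field K] [Algebra k K] [IsAlgClosed K]
  {A : Type w'} [CommRing A] [Bialgebra k A] {B : Type w'} [CommRing B] [Bialgebra k B]

/-- The `T`-linear extension of `θ_u ∘ φ ∘ (1 ⊗ ·)`. -/
noncomputable def extMap {T : Type*} [CommRing T] [Algebra k T] (u : k' →ₐ[k] T)
    (φ : k' ⊗[k] B →ₗ[k'] k' ⊗[k] A) : T ⊗[k] B →ₗ[T] T ⊗[k] A :=
  LinearMap.liftBaseChange T ((thetaMap u A).toLinearMap ∘ₗ (φ.restrictScalars k) ∘ₗ
    (TensorProduct.mk k k' B 1))

omit [IsPurelyInseparable k k'] in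
theorem extMap_tmul {T : Type*} [CommRing T] [Algebra k T] (u : k' →ₐ[k] T)
    (φ : k' ⊗[k] B →ₗ[k'] k' ⊗[k] A) (t : T) (b : B) :
    extMap u φ (t ⊗ₜ[k] b) = t • thetaMap u A (φ ((1 : k') ⊗ₜ[k] b)) := by
  simp [extMap]

omit [IsPurelyInseparable k k'] in
theorem extMap_thetaMap {T : Type*} [CommRing T] [Algebra k T] (u : k' →ₐ[k] T)
    (φ : k' ⊗[k] B →ₗ[k'] k' ⊗[k] A) (x : k' ⊗[k] B) :
    extMap u φ (thetaMap u B x) = thetaMap u A (φ x) := by
  induction x using TensorProduct.induction_on with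
  | zero => simp
  | add x y hx hy => rw [map_add, map_add, hx, hy, map_add, map_add]
  | tmul c b =>
    have e1 : c ⊗ₜ[k] b = c • ((1 : k') ⊗ₜ[k] b) := by
      rw [TensorProduct.smul_tmul', smul_eq_mul, mul_one]
    rw [thetaMap_tmul, extMap_tmul, e1, map_smul, thetaMap_smul]

omit [IsPurelyInseparable k k'] in
theorem thetaMap_extMap {T T' : Type*} [CommRing T] [Algebra k T] [CommRing T'] [Algebra k T']
    (u : k' →ₐ[k] T) (π : T →ₐ[k] T')
    (φ : k' ⊗[k] B →ₗ[k'] k' ⊗[k] A) (t : T) (b : B) :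
    thetaMap π A (extMap u φ (t ⊗ₜ[k] b)) =
      π t • thetaMap (π.comp u) A (φ ((1 : k') ⊗ₜ[k] b)) := by
  rw [extMap_tmul, thetaMap_smul, thetaMap_comp]

/-- A coalgebra map `k' ⊗ B → k' ⊗ A` between base changes of geometrically diagonalizable
bialgebras along a purely inseparable extension maps `1 ⊗ B` into `1 ⊗ A`. -/
theorem exists_eq_one_tmul (hA : HopfRep.IsDiagonalizable K (K ⊗[k] A))
    (hB : HopfRep.IsDiagonalizable K (K ⊗[k] B))
    (φ : k' ⊗[k] B →ₗ[k'] k' ⊗[k] A)
    (hφΔ : ∀ x, CoalgebraStruct.comul (R := k') (φ x) =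
      TensorProduct.map φ φ (CoalgebraStruct.comul (R := k') x))
    (hφε : ∀ x, CoalgebraStruct.counit (R := k') (φ x) = CoalgebraStruct.counit (R := k') x)
    (b : B) : ∃ a : A, φ ((1 : k') ⊗ₜ[k] b) = (1 : k') ⊗ₜ[k] a := by
  -- the embedding of `k'` in `K`
  let j : k' →ₐ[k] K := IsAlgClosed.lift
  -- the ring `T = K ⊗ k'` and the maps
  let jT : K →ₐ[k] K ⊗[k] k' := IsScalarTower.toAlgHom k K (K ⊗[k] k')
  let u₁ : k' →ₐ[k] K ⊗[k] k' := jT.comp j
  let u₂ : k' →ₐ[k] K ⊗[k] k' := Algebra.TensorProduct.includeRight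
  let π : K ⊗[k] k' →ₐ[k] K :=
    (Algebra.TensorProduct.productLeftAlgHom (AlgHom.id K K) j).restrictScalars k
  have hπ1 : π.comp u₁ = j := by
    ext c
    simp [π, u₁, jT, Algebra.TensorProduct.algebraMap_apply]
  have hπ2 : π.comp u₂ = j := by
    ext c
    simp [π, u₂]
  have hπj : π.comp jT = AlgHom.id k K := by
    ext c
    simp [π, jT, Algebra.TensorProduct.algebraMap_apply]
  -- bases of group-likes
  obtain ⟨eA, heA⟩ := exists_basis_thetaMap_groupLike (T := K ⊗[k] k') hA
  obtain ⟨eB, heB⟩ := exists_basis_thetaMap_groupLike (T := K ⊗[k] k') hB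
  have heAg : ∀ i, IsGroupLikeElem (K ⊗[k] k') (eA i) := fun i => by
    rw [heA]
    exact isGroupLikeElem_thetaMap _ A i.2
  have heBg : ∀ i, IsGroupLikeElem (K ⊗[k] k') (eB i) := fun i => by
    rw [heB]
    exact isGroupLikeElem_thetaMap _ B i.2
  -- the two extensions agree
  have hΨ : extMap u₁ φ = extMap u₂ φ := by
    apply eB.ext
    intro i
    have hg1 := isGroupLikeElem_of_thetaMap_comm u₁ φ (extMap u₁ φ) hφΔ hφε
      (extMap_thetaMap u₁ φ) (heBg i)
    have hg2 := isGroupLikeElem_of_thetaMap_comm u₂ φ (extMap u₂ φ) hφΔ hφε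
      (extMap_thetaMap u₂ φ) (heBg i)
    obtain ⟨i₁, h1⟩ := exists_eq_basis_of_isGroupLikeElem
      (idempotent_trivial (k := k) (k' := k') (K := K)) eA heAg hg1
    obtain ⟨i₂, h2⟩ := exists_eq_basis_of_isGroupLikeElem
      (idempotent_trivial (k := k) (k' := k') (K := K)) eA heAg hg2
    have hπΨ : ∀ y : (K ⊗[k] k') ⊗[k] B,
        thetaMap π A (extMap u₁ φ y) = thetaMap π A (extMap u₂ φ y) := by
      intro y
      induction y using TensorProduct.induction_on with
      | zero => simp
      | add x y hx hy => simp only [map_add, hx, hy]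
      | tmul t b => rw [thetaMap_extMap, thetaMap_extMap, hπ1, hπ2]
    have h3 := hπΨ (eB i)
    rw [h1, h2, heA, heA, thetaMap_comp, thetaMap_comp] at h3
    have h4 : (i₁ : K ⊗[k] A) = i₂ := by
      have e : π.comp (IsScalarTower.toAlgHom k K (K ⊗[k] k')) = AlgHom.id k K := hπj
      rw [e, thetaMap_id, thetaMap_id] at h3
      exact h3
    rw [h1, h2, Subtype.ext h4]
  -- conclude
  apply exists_eq_one_tmul_of_thetaMap_eq u₁ u₂
  · intro c hc
    apply mem_range_of_tmul_eq j c
    have : u₁ c = (j c) ⊗ₜ[k] (1 : k') := by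
      simp [u₁, jT, Algebra.TensorProduct.algebraMap_apply]
    rw [← this, hc]
    rfl
  · have h5 := congrArg (fun Ψ => Ψ ((1 : K ⊗[k] k') ⊗ₜ[k] b)) hΨ
    simp only [extMap_tmul, one_smul] at h5
    exact h5

end Main

end Groth.Agent.Lib.Helper25.PurInsep
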