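import Groth.Agent.Lib.Helper25FinHopf
import Groth.Prelude.Def_SGA3b

/-!
# The defect `θ_n = [n] - η ε` of the `n`-th power endomorphism (helper25)

For a commutative Hopf algebra `C` over `R`, `theta R C n : C →ₗ[R] C` is the difference between
the `n`-th power endomorphism `powConv R C n` and the trivial endomorphism `c ↦ ε(c) · 1`.
Key identity: `θ_{m n} = θ_m ∘ θ_n`.
-/

set_option autoImplicit false
universe u v w

namespace Groth.Agent.Lib.Helper25.QFKill

open TensorProduct WithConv SGA3b Groth.Agent.Lib.Helper25.FinHopf

section Theta

variable (R : Type u) [CommRing R] (C : Type u) [CommRing C] [HopfAlgebra R C]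

theorem powConv_apply (n : ℕ) (c : C) :
    powConv R C n c =
      ((toConv (LinearMap.id : C →ₗ[R] C)) ^ n : WithConv (C →ₗ[R] C)) c := by
  have h := AlgHom.toLinearMap_convPow (toConv (AlgHom.id R C)) n
  have h' := congrArg (fun f : WithConv (C →ₗ[R] C) => f c) h
  exact h'

theorem powConv_mul (m n : ℕ) :
    powConv R C (m * n) = (powConv R C m).comp (powConv R C n) := by
  unfold powConv
  rw [comp_convPow, AlgHom.comp_id, toConv_ofConv, pow_mul]

theorem powConv_one : powConv R C 1 = AlgHom.id R C := by
  unfold powConv
  rw [pow_one, ofConv_toConv]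

theorem counit_powConv (n : ℕ) (c : C) :
    Coalgebra.counit (R := R) (powConv R C n c) = Coalgebra.counit (R := R) c := by
  have h := comp_convPow (Bialgebra.counitAlgHom R C) (toConv (AlgHom.id R C)) n
  rw [ofConv_toConv, AlgHom.comp_id] at h
  have h1 : toConv (Bialgebra.counitAlgHom R C) = (1 : WithConv (C →ₐ[R] R)) := by
    apply WithConv.ofConv_injective
    apply AlgHom.ext
    intro x
    rfl
  rw [h1, one_pow] at h
  have h2 := congrArg (fun f : C →ₐ[R] R => f c) h
  exact h2

/-- The defect of the `n`-th power endomorphism. -/
noncomputable def theta (n : ℕ) : C →ₗ[R] C :=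
  (powConv R C n).toLinearMap - (Algebra.linearMap R C).comp (Coalgebra.counit (R := R) (A := C))

theorem theta_apply (n : ℕ) (c : C) :
    theta R C n c = powConv R C n c - algebraMap R C (Coalgebra.counit (R := R) c) := rfl

theorem counit_theta (n : ℕ) (c : C) : Coalgebra.counit (R := R) (theta R C n c) = 0 := by
  rw [theta_apply, map_sub, counit_powConv]
  have : Coalgebra.counit (R := R) (algebraMap R C (Coalgebra.counit (R := R) c)) =
      Coalgebra.counit (R := R) c := by
    rw [Algebra.algebraMap_eq_smul_one, map_smul, Bialgebra.counit_one, smul_eq_mul, mul_one]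
  rw [this, sub_self]

theorem theta_mul (m n : ℕ) (c : C) : theta R C (m * n) c = theta R C m (theta R C n c) := by
  have h1 : powConv R C n c = algebraMap R C (Coalgebra.counit (R := R) c) + theta R C n c := by
    rw [theta_apply]; ring
  rw [theta_apply R C (m * n), powConv_mul, AlgHom.comp_apply, h1, map_add, AlgHom.commutes,
    theta_apply R C m (theta R C n c), counit_theta, map_zero, sub_zero]
  ring

theorem theta_prod (n : ℕ) (c c' : C) :
    theta R C n (c * c') =
      powConv R C n c * theta R C n c' + Coalgebra.counit (R := R) c' • theta R C n c := by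
  rw [theta_apply, theta_apply, theta_apply, map_mul, Bialgebra.counit_mul, map_mul,
    Algebra.smul_def]
  ring

theorem theta_algebraMap (n : ℕ) (r : R) : theta R C n (algebraMap R C r) = 0 := by
  rw [theta_apply, AlgHom.commutes]
  have : Coalgebra.counit (R := R) (algebraMap R C r) = r := by
    rw [Algebra.algebraMap_eq_smul_one, map_smul, Bialgebra.counit_one, smul_eq_mul, mul_one]
  rw [this, sub_self]

theorem theta_one_eq (c : C) : theta R C 1 c = c - algebraMap R C (Coalgebra.counit (R := R) c) := by
  rw [theta_apply, powConv_one, AlgHom.id_apply]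

end Theta

end Groth.Agent.Lib.Helper25.QFKill
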