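import Groth.Agent.Lib.Helper25QFKillA
import Mathlib.RingTheory.Noetherian.Basic

/-!
# Noetherian induction for killing a group by an integer (helper25)

`exists_theta_eq_zero`: let `Λ` be a Noetherian ring, `R` a `Λ`-algebra and `C` a commutative Hopf
algebra over `R`.  If for every prime `p` of `Λ` there are `n > 0` and `f ∉ p` such that
`f • θ_n(C) ⊆ p C`, then some `θ_n`, `n > 0`, vanishes.
-/

set_option autoImplicit false
universe u v w

namespace Groth.Agent.Lib.Helper25.QFKill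

open TensorProduct WithConv SGA3b

section Kills

variable (R : Type u) [CommRing R] (C : Type u) [CommRing C] [HopfAlgebra R C]

/-- The `n`-th power map of `Spec C` is trivial modulo the ideal `𝔞` of the base. -/
def Kills (n : ℕ) (𝔞 : Ideal R) : Prop :=
  ∀ c : C, theta R C n c ∈ 𝔞 • (⊤ : Submodule R C)

variable {R C}

theorem Kills.mono {n : ℕ} {𝔞 𝔟 : Ideal R} (h : Kills R C n 𝔞) (hab : 𝔞 ≤ 𝔟) : Kills R C n 𝔟 :=
  fun c => Submodule.smul_mono_left hab (h c)

theorem theta_mem_smul_of_mem (n : ℕ) (𝔞 : Ideal R) (N : Submodule R C)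
    (hN : ∀ c, theta R C n c ∈ N) {x : C} (hx : x ∈ 𝔞 • (⊤ : Submodule R C)) :
    theta R C n x ∈ 𝔞 • N := by
  refine Submodule.smul_induction_on hx ?_ ?_
  · intro a ha y _
    rw [map_smul]
    exact Submodule.smul_mem_smul ha (hN y)
  · intro x y hx hy
    rw [map_add]
    exact Submodule.add_mem _ hx hy

theorem Kills.mul {m n : ℕ} {𝔞 𝔟 : Ideal R} (hm : Kills R C m 𝔟) (hn : Kills R C n 𝔞) :
    Kills R C (m * n) (𝔞 * 𝔟) := by
  intro c
  rw [theta_mul, Submodule.mul_smul]
  exact theta_mem_smul_of_mem m 𝔞 _ hm (hn c)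

theorem kills_one_top : Kills R C 1 ⊤ := by
  intro c
  rw [Submodule.top_smul]
  exact Submodule.mem_top

end Kills

section Induction

variable (Λ : Type u) [CommRing Λ] [IsNoetherianRing Λ] (R : Type u) [CommRing R] [Algebra Λ R]
  (C : Type u) [CommRing C] [HopfAlgebra R C]

theorem exists_kills_of_generic
    (hG : ∀ p : Ideal Λ, p.IsPrime → ∃ n : ℕ, 0 < n ∧ ∃ f : Λ, f ∉ p ∧ ∀ c : C,
      algebraMap Λ R f • theta R C n c ∈ (p.map (algebraMap Λ R)) • (⊤ : Submodule R C))
    (I : Ideal Λ) : ∃ n : ℕ, 0 < n ∧ Kills R C n (I.map (algebraMap Λ R)) := by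
  refine IsNoetherian.induction (P := fun I : Ideal Λ => ∃ n : ℕ, 0 < n ∧
    Kills R C n (I.map (algebraMap Λ R))) ?_ I
  intro (I : Ideal Λ) ih
  · by_cases htop : I = ⊤
    · refine ⟨1, Nat.one_pos, ?_⟩
      rw [htop, Ideal.map_top]
      exact kills_one_top
    by_cases hp : Ideal.IsPrime I
    · obtain ⟨n, hn, f, hf, hfc⟩ := hG I hp
      have hlt : I < I ⊔ Ideal.span {f} := by
        refine lt_of_le_of_ne le_sup_left ?_
        intro heq
        apply hf
        rw [heq]
        exact Ideal.mem_sup_right (Ideal.subset_span rfl)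
      obtain ⟨n₁, hn₁, hk⟩ := ih _ hlt
      refine ⟨n * n₁, Nat.mul_pos hn hn₁, ?_⟩
      intro c
      rw [theta_mul]
      have h1 := hk c
      rw [Ideal.map_sup, Submodule.sup_smul, Ideal.map_span, Set.image_singleton] at h1
      obtain ⟨y, hy, z, hz, hyz⟩ := Submodule.mem_sup.mp h1
      rw [← hyz, map_add]
      refine Submodule.add_mem _ ?_ ?_
      · exact theta_mem_smul_of_mem n _ ⊤ (fun _ => Submodule.mem_top) hy
      · rw [Submodule.ideal_span_singleton_smul] at hz
        obtain ⟨w, -, rfl⟩ := (Submodule.mem_smul_pointwise_iff_exists _ _ _).mp hz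
        rw [map_smul]
        exact hfc w
    · obtain ⟨x, hx, y, hy, hxy⟩ := (Ideal.not_isPrime_iff.mp hp).resolve_left htop
      have hlt₁ : I < I ⊔ Ideal.span {x} := by
        refine lt_of_le_of_ne le_sup_left ?_
        intro heq
        apply hx
        rw [heq]
        exact Ideal.mem_sup_right (Ideal.subset_span rfl)
      have hlt₂ : I < I ⊔ Ideal.span {y} := by
        refine lt_of_le_of_ne le_sup_left ?_
        intro heq
        apply hy
        rw [heq]
        exact Ideal.mem_sup_right (Ideal.subset_span rfl)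
      obtain ⟨n₁, hn₁, hk₁⟩ := ih _ hlt₁
      obtain ⟨n₂, hn₂, hk₂⟩ := ih _ hlt₂
      refine ⟨n₂ * n₁, Nat.mul_pos hn₂ hn₁, ?_⟩
      refine (Kills.mul hk₂ hk₁).mono ?_
      rw [← Ideal.map_mul]
      apply Ideal.map_mono
      rw [Ideal.mul_le]
      intro a ha b hb
      obtain ⟨i, hi, r, hr, rfl⟩ := Submodule.mem_sup.mp ha
      obtain ⟨j, hj, s, hs, rfl⟩ := Submodule.mem_sup.mp hb
      obtain ⟨r', rfl⟩ := Ideal.mem_span_singleton'.mp hr
      obtain ⟨s', rfl⟩ := Ideal.mem_span_singleton'.mp hs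
      have : (i + r' * x) * (j + s' * y) = i * (j + s' * y) + j * (r' * x) + (r' * s') * (x * y) := by
        ring
      rw [this]
      exact Ideal.add_mem I (Ideal.add_mem I (Ideal.mul_mem_right _ I hi)
        (Ideal.mul_mem_right _ I hj)) (Ideal.mul_mem_left I _ hxy)

theorem exists_theta_eq_zero
    (hG : ∀ p : Ideal Λ, p.IsPrime → ∃ n : ℕ, 0 < n ∧ ∃ f : Λ, f ∉ p ∧ ∀ c : C,
      algebraMap Λ R f • theta R C n c ∈ (p.map (algebraMap Λ R)) • (⊤ : Submodule R C)) :
    ∃ n : ℕ, 0 < n ∧ ∀ c : C, theta R C n c = 0 := by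
  obtain ⟨n, hn, hk⟩ := exists_kills_of_generic Λ R C hG ⊥
  refine ⟨n, hn, fun c => ?_⟩
  have h := hk c
  rw [Ideal.map_bot, Submodule.bot_smul] at h
  exact (Submodule.mem_bot R).mp h

end Induction

end Groth.Agent.Lib.Helper25.QFKill
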