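import Groth.Agent.Lib.Helper25QFKillB
import Mathlib.RingTheory.LocalRing.ResidueField.Fiber
import Mathlib.RingTheory.LocalRing.ResidueField.Ideal

/-!
# The kernel of the map to a fibre (helper25)

`exists_smul_mem_of_tmul_eq_zero`: if `L` is a field over `Λ` with `ker (Λ → L) = p` and `x` is an
element of a `Λ`-algebra `S` with `1 ⊗ x = 0` in `L ⊗ S`, then `f x ∈ p S` for some `f ∉ p`.
-/

set_option autoImplicit false
universe u v w

namespace Groth.Agent.Lib.Helper25.QFKill

open TensorProduct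

section Kernel

variable (Λ : Type u) [CommRing Λ] (p : Ideal Λ) [p.IsPrime]
  (S : Type u) [CommRing S] [Algebra Λ S]

theorem exists_smul_mem_of_fiber_eq_zero (x : S)
    (hx : (1 : p.ResidueField) ⊗ₜ[Λ] x = (0 : p.ResidueField ⊗[Λ] S)) :
    ∃ f : Λ, f ∉ p ∧ f • x ∈ p.map (algebraMap Λ S) := by
  letI : Algebra S (p.Fiber S) := Algebra.TensorProduct.rightAlgebra
  let e := Ideal.Fiber.algEquivAux₁ (S := S) p
  have h1 : e ((1 : p.ResidueField) ⊗ₜ[Λ] x) = algebraMap S _ x := e.commutes x
  rw [hx, map_zero] at h1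
  have h2 : algebraMap S (Localization (Algebra.algebraMapSubmonoid S p.primeCompl)) x ∈
      (p.map (algebraMap Λ S)).map
        (algebraMap S (Localization (Algebra.algebraMapSubmonoid S p.primeCompl))) := by
    rw [← Ideal.Quotient.eq_zero_iff_mem]
    exact h1.symm
  rw [IsLocalization.algebraMap_mem_map_algebraMap_iff
    (Algebra.algebraMapSubmonoid S p.primeCompl)] at h2
  obtain ⟨m, ⟨f, hf, rfl⟩, hm⟩ := h2
  exact ⟨f, hf, by rw [Algebra.smul_def]; exact hm⟩

theorem exists_smul_mem_of_tmul_eq_zero (L : Type u) [Field L] [Algebra Λ L]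
    (hker : RingHom.ker (algebraMap Λ L) = p) (x : S)
    (hx : (1 : L) ⊗ₜ[Λ] x = (0 : L ⊗[Λ] S)) :
    ∃ f : Λ, f ∉ p ∧ f • x ∈ p.map (algebraMap Λ S) := by
  have hunit : p.primeCompl ≤ (IsUnit.submonoid L).comap (algebraMap Λ L) := by
    intro f hf
    change IsUnit (algebraMap Λ L f)
    rw [isUnit_iff_ne_zero]
    intro h0
    apply hf
    rw [← hker]
    exact h0
  let ι : p.ResidueField →+* L :=
    Ideal.ResidueField.lift p (algebraMap Λ L) (le_of_eq hker.symm) hunit
  letI : Algebra p.ResidueField L := ι.toAlgebra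
  haveI : IsScalarTower Λ p.ResidueField L := IsScalarTower.of_algebraMap_eq (fun a =>
    (Ideal.ResidueField.lift_algebraMap p (algebraMap Λ L) (le_of_eq hker.symm) hunit a).symm)
  obtain ⟨r, hr⟩ := LinearMap.exists_leftInverse_of_injective
    (Algebra.linearMap p.ResidueField L)
    (LinearMap.ker_eq_bot.mpr (algebraMap p.ResidueField L).injective)
  have hr1 : r 1 = 1 := by
    have := congrArg (fun g : p.ResidueField →ₗ[p.ResidueField] p.ResidueField => g 1) hr
    simpa using this
  apply exists_smul_mem_of_fiber_eq_zero Λ p S x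
  have h := congrArg ((r.restrictScalars Λ).rTensor S) hx
  rw [LinearMap.rTensor_tmul, map_zero] at h
  rw [← h]
  change _ = r 1 ⊗ₜ[Λ] x
  rw [hr1]

end Kernel

end Groth.Agent.Lib.Helper25.QFKill
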