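import Groth.Agent.Lib.Helper25QFKillC
import Mathlib.RingTheory.QuasiFinite.Basic

/-!
# Quasi-finite commutative groups are killed by an integer (helper25)

`exists_theta_eq_zero_of_model`: if `H` is a Hopf algebra of finite type over a Noetherian ring `Λ`
and `R` is a `Λ`-algebra with `R ⊗ H` quasi-finite over `R`, then some positive integer kills the
group `Spec (R ⊗ H)`.
-/

set_option autoImplicit false
set_option linter.style.haveILetI false
universe u v w

namespace Groth.Agent.Lib.Helper25.QFKill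

open TensorProduct WithConv SGA3b Groth.Agent.Lib.Helper25.FinHopf

section BaseChange

variable (Λ : Type u) [CommRing Λ] (K : Type u) [CommRing K] [Algebra Λ K]
  (H : Type u) [CommRing H] [HopfAlgebra Λ H]

theorem theta_one_tmul (n : ℕ) (h : H) :
    theta K (K ⊗[Λ] H) n ((1 : K) ⊗ₜ[Λ] h) = (1 : K) ⊗ₜ[Λ] theta Λ H n h := by
  rw [theta_apply, theta_apply, powConv_apply, powConv_apply, convPow_id_baseChange,
    TensorProduct.tmul_sub]
  congr 1
  have h0 := convPow_id_baseChange (k := Λ) (K := K) 0 h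
  rw [pow_zero, pow_zero, LinearMap.convOne_apply, LinearMap.convOne_apply] at h0
  exact h0

end BaseChange

section Ideal

variable {R : Type u} [CommRing R] {C : Type u} [CommRing C] [Algebra R C]

theorem mul_mem_smul_top (𝔞 : Ideal R) (c : C) {x : C} (hx : x ∈ 𝔞 • (⊤ : Submodule R C)) :
    c * x ∈ 𝔞 • (⊤ : Submodule R C) := by
  refine Submodule.smul_induction_on hx ?_ ?_
  · intro a ha y _
    rw [mul_smul_comm]
    exact Submodule.smul_mem_smul ha Submodule.mem_top
  · intro x y hx hy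
    rw [mul_add]
    exact Submodule.add_mem _ hx hy

end Ideal

section Generic

variable (Λ : Type u) [CommRing Λ] (R : Type u) [CommRing R] [Algebra Λ R]
  (H : Type u) [CommRing H] [HopfAlgebra Λ H]

theorem one_tmul_mem_of_mem_map (p : Ideal Λ) {y : H} (hy : y ∈ p.map (algebraMap Λ H)) :
    (1 : R) ⊗ₜ[Λ] y ∈ (p.map (algebraMap Λ R)) • (⊤ : Submodule R (R ⊗[Λ] H)) := by
  unfold Ideal.map at hy
  refine Submodule.span_induction ?_ ?_ ?_ ?_ hy
  · rintro _ ⟨a, ha, rfl⟩
    have : (1 : R) ⊗ₜ[Λ] (algebraMap Λ H a) =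
        algebraMap Λ R a • ((1 : R) ⊗ₜ[Λ] (1 : H)) := by
      rw [Algebra.algebraMap_eq_smul_one, TensorProduct.tmul_smul, TensorProduct.smul_tmul',
        TensorProduct.smul_tmul', Algebra.algebraMap_eq_smul_one, smul_eq_mul, mul_one]
    rw [this]
    exact Submodule.smul_mem_smul (Ideal.mem_map_of_mem _ ha) Submodule.mem_top
  · rw [TensorProduct.tmul_zero]
    exact Submodule.zero_mem _
  · intro x y _ _ hx hy
    rw [TensorProduct.tmul_add]
    exact Submodule.add_mem _ hx hy
  · intro h x _ hx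
    have : (1 : R) ⊗ₜ[Λ] (h • x) = ((1 : R) ⊗ₜ[Λ] h) * ((1 : R) ⊗ₜ[Λ] x) := by
      rw [Algebra.TensorProduct.tmul_mul_tmul, mul_one, smul_eq_mul]
    rw [this]
    exact mul_mem_smul_top _ _ hx

theorem exists_point_kill [Algebra.QuasiFinite R (R ⊗[Λ] H)]
    (L : Type u) [Field L] [Algebra R L] [Algebra Λ L] [IsScalarTower Λ R L]
    (p : Ideal Λ) [hp : p.IsPrime] (hker : RingHom.ker (algebraMap Λ L) = p) :
    ∃ n : ℕ, 0 < n ∧ ∀ h : H, ∃ f : Λ, f ∉ p ∧
      f • theta Λ H n h ∈ p.map (algebraMap Λ H) := by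
  haveI : Module.Finite L (L ⊗[R] (R ⊗[Λ] H)) := Module.Finite.of_quasiFinite
  haveI : Module.Finite L (L ⊗[Λ] H) :=
    Module.Finite.equiv (Algebra.TensorProduct.cancelBaseChange Λ R L L H).toLinearEquiv
  haveI : Nontrivial (L ⊗[Λ] H) :=
    RingHom.domain_nontrivial (Bialgebra.counitAlgHom L (L ⊗[Λ] H)).toRingHom
  have hn : 0 < Module.finrank L (L ⊗[Λ] H) := Module.finrank_pos
  have hD : (toConv (AlgHom.id L (L ⊗[Λ] H))) ^ Module.finrank L (L ⊗[Λ] H) = 1 :=
    convPow_id_finrank L (L ⊗[Λ] H)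
  have hθ : ∀ e : L ⊗[Λ] H, theta L (L ⊗[Λ] H) (Module.finrank L (L ⊗[Λ] H)) e = 0 := by
    intro e
    rw [theta_apply]
    unfold powConv
    rw [hD]
    exact sub_self _
  refine ⟨_, hn, fun h => ?_⟩
  apply exists_smul_mem_of_tmul_eq_zero Λ p H L hker
  rw [← theta_one_tmul, hθ]

theorem smul_theta_mem_of_generators (p : Ideal Λ) (f : Λ) (n : ℕ) (s : Set H)
    (hs : Algebra.adjoin Λ s = ⊤)
    (hgen : ∀ h ∈ s, f • theta Λ H n h ∈ p.map (algebraMap Λ H)) (c : R ⊗[Λ] H) :
    algebraMap Λ R f • theta R (R ⊗[Λ] H) n c ∈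
      (p.map (algebraMap Λ R)) • (⊤ : Submodule R (R ⊗[Λ] H)) := by
  let T : Subalgebra Λ H :=
    { carrier := {h | algebraMap Λ R f • theta R (R ⊗[Λ] H) n ((1 : R) ⊗ₜ[Λ] h) ∈
          (p.map (algebraMap Λ R)) • (⊤ : Submodule R (R ⊗[Λ] H))}
      mul_mem' := by
        intro a b ha hb
        simp only [Set.mem_ofPred_eq] at ha hb ⊢
        have : (1 : R) ⊗ₜ[Λ] (a * b) = ((1 : R) ⊗ₜ[Λ] a) * ((1 : R) ⊗ₜ[Λ] b) := by
          rw [Algebra.TensorProduct.tmul_mul_tmul, mul_one]
        rw [this, theta_prod, smul_add, ← mul_smul_comm, smul_comm]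
        exact Submodule.add_mem _ (mul_mem_smul_top _ _ hb) (Submodule.smul_mem _ _ ha)
      add_mem' := by
        intro a b ha hb
        simp only [Set.mem_ofPred_eq] at ha hb ⊢
        rw [TensorProduct.tmul_add, map_add, smul_add]
        exact Submodule.add_mem _ ha hb
      algebraMap_mem' := by
        intro a
        simp only [Set.mem_ofPred_eq]
        have : (1 : R) ⊗ₜ[Λ] (algebraMap Λ H a) =
            algebraMap R (R ⊗[Λ] H) (algebraMap Λ R a) := by
          rw [Algebra.TensorProduct.algebraMap_apply, Algebra.algebraMap_eq_smul_one,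
            Algebra.algebraMap_eq_smul_one (R := Λ) (A := R), TensorProduct.tmul_smul,
            TensorProduct.smul_tmul', Algebra.algebraMap_self, RingHom.id_apply]
        rw [this, theta_algebraMap, smul_zero]
        exact Submodule.zero_mem _ }
  have hT : T = ⊤ := by
    rw [eq_top_iff, ← hs, Algebra.adjoin_le_iff]
    intro h hh
    have hmem : ∀ h, h ∈ T ↔ algebraMap Λ R f • theta R (R ⊗[Λ] H) n ((1 : R) ⊗ₜ[Λ] h) ∈
        (p.map (algebraMap Λ R)) • (⊤ : Submodule R (R ⊗[Λ] H)) := fun _ => Iff.rfl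
    refine (hmem h).mpr ?_
    rw [theta_one_tmul]
    have h1 : algebraMap Λ R f • ((1 : R) ⊗ₜ[Λ] theta Λ H n h) =
        (1 : R) ⊗ₜ[Λ] (f • theta Λ H n h) := by
      rw [TensorProduct.smul_tmul', Algebra.algebraMap_eq_smul_one, smul_eq_mul, mul_one,
        TensorProduct.smul_tmul]
    rw [h1]
    exact one_tmul_mem_of_mem_map Λ R H p (hgen h hh)
  induction c using TensorProduct.induction_on with
  | zero =>
    rw [map_zero, smul_zero]
    exact Submodule.zero_mem _
  | tmul r h =>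
    have h1 : r ⊗ₜ[Λ] h = r • ((1 : R) ⊗ₜ[Λ] h) := by
      rw [TensorProduct.smul_tmul', smul_eq_mul, mul_one]
    rw [h1, map_smul, smul_comm]
    have h2 : h ∈ T := hT ▸ Algebra.mem_top
    exact Submodule.smul_mem _ _ h2
  | add x y hx hy =>
    rw [map_add, smul_add]
    exact Submodule.add_mem _ hx hy

theorem generic_step [Algebra.FiniteType Λ H] [Algebra.QuasiFinite R (R ⊗[Λ] H)]
    (p : Ideal Λ) [hp : p.IsPrime] :
    ∃ n : ℕ, 0 < n ∧ ∃ f : Λ, f ∉ p ∧ ∀ c : R ⊗[Λ] H,
      algebraMap Λ R f • theta R (R ⊗[Λ] H) n c ∈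
        (p.map (algebraMap Λ R)) • (⊤ : Submodule R (R ⊗[Λ] H)) := by
  classical
  by_cases hex : ∃ ξ : Ideal R, ξ.IsPrime ∧ ξ.comap (algebraMap Λ R) = p
  · obtain ⟨ξ, hξ, hξp⟩ := hex
    haveI := hξ
    letI : Algebra Λ ξ.ResidueField :=
      ((algebraMap R ξ.ResidueField).comp (algebraMap Λ R)).toAlgebra
    haveI : IsScalarTower Λ R ξ.ResidueField := IsScalarTower.of_algebraMap_eq (fun _ => rfl)
    have hker : RingHom.ker (algebraMap Λ ξ.ResidueField) = p := by
      change RingHom.ker ((algebraMap R ξ.ResidueField).comp (algebraMap Λ R)) = p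
      rw [← RingHom.comap_ker, Ideal.ker_algebraMap_residueField, hξp]
    obtain ⟨n, hn, hpt⟩ := exists_point_kill Λ R H ξ.ResidueField p hker
    choose F hFp hFm using hpt
    obtain ⟨s, hs⟩ := (Algebra.FiniteType.out : (⊤ : Subalgebra Λ H).FG)
    refine ⟨n, hn, ∏ h ∈ s, F h, ?_, ?_⟩
    · rw [Ideal.IsPrime.prod_mem_iff]
      rintro ⟨h, -, hh⟩
      exact hFp h hh
    · apply smul_theta_mem_of_generators Λ R H p _ n (s : Set H) hs
      intro h hh
      rw [← Finset.mul_prod_erase s F (Finset.mem_coe.mp hh), mul_comm, mul_smul,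
        Algebra.smul_def]
      exact Ideal.mul_mem_left _ _ (hFm h)
  · have hne : (p.map (algebraMap Λ R)).comap (algebraMap Λ R) ≠ p := by
      intro h
      exact hex ((Ideal.comap_map_eq_self_iff_of_isPrime p).mp h)
    have hlt : p < (p.map (algebraMap Λ R)).comap (algebraMap Λ R) :=
      lt_of_le_of_ne Ideal.le_comap_map (Ne.symm hne)
    obtain ⟨f, hf, hfp⟩ := SetLike.exists_of_lt hlt
    refine ⟨1, Nat.one_pos, f, hfp, fun c => ?_⟩
    exact Submodule.smul_mem_smul hf Submodule.mem_top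

/-- A group with a model of finite type over a Noetherian ring which is quasi-finite is killed by
a positive integer. -/
theorem exists_theta_eq_zero_of_model [IsNoetherianRing Λ] [Algebra.FiniteType Λ H]
    [Algebra.QuasiFinite R (R ⊗[Λ] H)] :
    ∃ n : ℕ, 0 < n ∧ ∀ c : R ⊗[Λ] H, theta R (R ⊗[Λ] H) n c = 0 :=
  exists_theta_eq_zero Λ R (R ⊗[Λ] H) (fun p hp => by
    haveI := hp
    exact generic_step Λ R H p)

end Generic

section Transport

variable {R : Type u} [CommRing R] {C D : Type u} [CommRing C] [HopfAlgebra R C]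
  [CommRing D] [HopfAlgebra R D]

theorem powConv_bialgHom (φ : C →ₐc[R] D) (n : ℕ) (c : C) :
    powConv R D n (φ c) = φ (powConv R C n c) := by
  have h1 := convPow_comp_bialgHom (A := D) φ (toConv (AlgHom.id R D)) n
  have h2 := comp_convPow (C := C) (φ : C →ₐ[R] D) (toConv (AlgHom.id R C)) n
  rw [ofConv_toConv, AlgHom.id_comp] at h1
  rw [ofConv_toConv, AlgHom.comp_id] at h2
  have h3 := h1.trans h2.symm
  exact congrArg (fun g : C →ₐ[R] D => g c) h3

theorem theta_bialgHom (φ : C →ₐc[R] D) (n : ℕ) (c : C) :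
    theta R D n (φ c) = φ (theta R C n c) := by
  rw [theta_apply, theta_apply, powConv_bialgHom, map_sub, CoalgHomClass.counit_comp_apply]
  congr 1
  exact ((φ : C →ₐ[R] D).commutes _).symm

end Transport

end Groth.Agent.Lib.Helper25.QFKill
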