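import Groth.Agent.Lib.Helper25HensDiagF

/-!
# Quasi-isotriviality, part A: diagonalisation from group-like lifts with prescribed values
(helper25)

`GLifts.nonempty_equiv`: over any base, if the generators of `M` have lifts in `A` which are
group-like modulo `n`-torsion and whose values at all primes of the trivialising family are given
by a finite set `F` of automorphisms of `M` which is separated modulo `n` (together with its
translates by the values of the transition maps), then `A ≃ R[M]`.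
-/

set_option autoImplicit false
set_option linter.unusedSectionVars false
set_option linter.style.haveILetI false
universe u

namespace Groth.Agent.Lib.Helper25.HensDiag

open TensorProduct SGA3b Groth.Agent.Lib.Helper25 DescGL Tors LCVal DescLift

namespace CTriv

variable {R : Type u} [CommRing R] {A : Type u} [CommRing A] [HopfAlgebra R A]
  {M : Type u} [CommGroup M] (V : CTriv R A M)

/-- Elements of `A` which are group-like modulo `n`-torsion. -/
structure GLifts (n : ℕ) (S : Finset M) where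
  a : S → A
  gl : ∀ i s, IsGroupLikeElem (V.Q i)
    (quotMap (V.Q i) M n (V.ε i ((1 : V.Q i) ⊗ₜ[R] a s)))

namespace GLifts

variable {V} {n : ℕ} {S : Finset M} (L : V.GLifts n S)

/-- The reductions of the trivialised lifts. -/
noncomputable abbrev w (i : V.ι) (s : S) : MonoidAlgebra (V.Q i) (M ⧸ powSub M n) :=
  quotMap (V.Q i) M n (V.ε i ((1 : V.Q i) ⊗ₜ[R] L.a s))

theorem val1 (i j : V.ι) (s : S) (z : Ideal (V.T i j)) [z.IsPrime] :
    val (L.gl i s) (z.comap (V.iL i j).toRingHom) =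
      sig (LCVal.red n (V.Psi i j)) z (val (L.gl j s) (z.comap (V.iR i j).toRingHom)) :=
  val_eq_sig_val (LCVal.red n (V.Psi i j)) (V.iL i j).toRingHom (V.iR i j).toRingHom (L.gl i s)
    (L.gl j s) (V.rel1 n (L.a s) i j) z

include L in
/-- The main step: correct the trivialisations by locally constant automorphisms. -/
theorem nonempty_equiv [Group.FG M] (F₀ : Set (M ≃* M)) (hF₀ : F₀.Finite)
    (hK₀ : ∀ (i : V.ι) (x : Ideal (V.Q i)) [x.IsPrime], ∃ φ ∈ F₀, ∀ s : S,
      val (L.gl i s) x = QuotientGroup.mk' (powSub M n) (φ (s : M)))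
    (hsep : ∀ φ ∈ F₀ ∪ Set.image2 (fun φ σ => φ.trans σ) F₀ V.SigSet,
      ∀ φ' ∈ F₀ ∪ Set.image2 (fun φ σ => φ.trans σ) F₀ V.SigSet,
      (∀ s : S, QuotientGroup.mk' (powSub M n) (φ (s : M)) =
        QuotientGroup.mk' (powSub M n) (φ' (s : M))) → φ = φ') :
    Nonempty (A ≃ₐc[R] MonoidAlgebra R M) := by
  classical
  set F : Finset (M ≃* M) := hF₀.toFinset with hFdef
  have hF : ∀ φ, φ ∈ F ↔ φ ∈ F₀ := fun φ => Set.Finite.mem_toFinset _
  have hFG : ∀ φ, φ ∈ F → φ ∈ F₀ ∪ Set.image2 (fun φ σ => φ.trans σ) F₀ V.SigSet :=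
    fun φ h => Or.inl ((hF φ).mp h)
  have hsepF : ∀ φ ∈ F, ∀ φ' ∈ F, (∀ s : S, QuotientGroup.mk' (powSub M n) (φ (s : M)) =
      QuotientGroup.mk' (powSub M n) (φ' (s : M))) → φ = φ' :=
    fun φ hφ φ' hφ' h => hsep φ (hFG φ hφ) φ' (hFG φ' hφ') h
  have hK : ∀ (i : V.ι) (x : Ideal (V.Q i)) [x.IsPrime], ∃ φ ∈ F, ∀ s : S,
      val (L.gl i s) x = QuotientGroup.mk' (powSub M n) (φ (s : M)) := by
    intro i x _
    obtain ⟨φ, hφ, h⟩ := hK₀ i x
    exact ⟨φ, (hF φ).mpr hφ, h⟩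
  have hcoi : ∀ i, IsCOI F (cIdem n S (L.w i)) :=
    fun i => isCOI_cIdem n S F (L.w i) (L.gl i) hsepF (hK i)
  -- the correcting automorphisms
  let β : ∀ i, MonoidAlgebra (V.Q i) M →ₐc[V.Q i] MonoidAlgebra (V.Q i) M :=
    fun i => lcHom (hcoi i) (fun φ => φ.symm.toMonoidHom)
  let α : ∀ i, MonoidAlgebra (V.Q i) M ≃ₐc[V.Q i] MonoidAlgebra (V.Q i) M :=
    fun i => lcEquiv (hcoi i) (fun φ => φ)
  have hαβ : ∀ i u, (α i).symm u = β i u := fun i u => rfl
  -- the relation between the values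
  have hrho : ∀ (i j : V.ι) (z : Ideal (V.T i j)) [z.IsPrime] (φ : M ≃* M) (_ : φ ∈ F)
      (_ : cIdem n S (L.w i) φ ∉ z.comap (V.iL i j).toRingHom) (φ' : M ≃* M) (_ : φ' ∈ F)
      (_ : cIdem n S (L.w j) φ' ∉ z.comap (V.iR i j).toRingHom),
      φ = φ'.trans (V.sigZ i j z) := by
    intro i j z _ φ hφ hc φ' hφ' hc'
    apply hsep φ (hFG φ hφ) (φ'.trans (V.sigZ i j z))
      (Or.inr ⟨φ', (hF φ').mp hφ', _, V.sigZ_mem i j z, rfl⟩)
    intro s
    have h1 := (cIdem_notMem_iff n S (L.w i) (L.gl i) _ φ).mp hc s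
    have h2 := (cIdem_notMem_iff n S (L.w j) (L.gl j) _ φ').mp hc' s
    rw [← h1, L.val1 i j s z, h2, sig_red_mk]
    rfl
  have hkey : ∀ i j : V.ι, bcHom (V.iR i j).toRingHom (β j) =
      (bcHom (V.iL i j).toRingHom (β i)).comp (V.Psi i j) := by
    intro i j
    apply ext_of_sig
    intro z _
    obtain ⟨φ, hφ, hc⟩ := (hcoi i).exists_notMem (z.comap (V.iL i j).toRingHom)
    obtain ⟨φ', hφ', hc'⟩ := (hcoi j).exists_notMem (z.comap (V.iR i j).toRingHom)
    have hrel := hrho i j z φ hφ hc φ' hφ' hc'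
    rw [sig_comp, sig_bcHom, sig_bcHom, sig_lcHom (hcoi j) _ _ hφ' hc',
      sig_lcHom (hcoi i) _ _ hφ hc]
    ext m
    rw [MonoidHom.comp_apply, hrel]
    change φ'.symm m = φ'.symm ((V.sigZ i j z).symm (sig (V.Psi i j) z m))
    rw [← V.sigZ_apply, MulEquiv.symm_apply_apply]
  apply V.nonempty_equiv_of_compat (fun i => (V.ε i).trans (α i).symm)
  intro a i j
  change MonoidAlgebra.mapRingHom M (V.iR i j).toRingHom
      ((α j).symm (V.ε j ((1 : V.Q j) ⊗ₜ[R] a))) =
    MonoidAlgebra.mapRingHom M (V.iL i j).toRingHom ((α i).symm (V.ε i ((1 : V.Q i) ⊗ₜ[R] a)))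
  rw [hαβ, hαβ, ← bcHom_mapRingHom, ← bcHom_mapRingHom, hkey, BialgHom.comp_apply, V.Psi_apply]

end GLifts

end CTriv

end Groth.Agent.Lib.Helper25.HensDiag
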