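import Groth.Agent.Lib.Helper25QIsoA

/-!
# Quasi-isotriviality, part B: the comparison with a trivialisation over a field (helper25)

`K` is a field over `R`, `e₀ : K ⊗ A ≃ K[M]`.  A `KData` gives rings `Qb j` receiving `K` and
`V.Q j` (e.g. `K ⊗ V.Q j`).  The comparison maps `tau j` over `Qb j`, their values, and the local
statement: the values of group-like lifts which reduce to the generators over `K` are given by
`FSet` at all primes lying over generisations of `ker (R → K)`; hence (idempotent trick) at all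
primes not containing some `g ∉ ker (R → K)`.
-/

set_option autoImplicit false
set_option linter.unusedSectionVars false
set_option linter.style.haveILetI false
universe u

namespace Groth.Agent.Lib.Helper25.HensDiag

open TensorProduct SGA3b Groth.Agent.Lib.Helper25 DescGL Tors LCVal DescLift

section LocalVanishing

variable {R T : Type u} [CommRing R] [CommRing T] [Algebra R T]

/-- An idempotent lying in all primes over generisations of `𝔮` is killed by some `g ∉ 𝔮`. -/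
theorem exists_mul_eq_zero_of_forall_mem (𝔮 : Ideal R) [𝔮.IsPrime] (ε : T)
    (hε : IsIdempotentElem ε)
    (h : ∀ (x : Ideal T) [x.IsPrime], x.comap (algebraMap R T) ≤ 𝔮 → ε ∈ x) :
    ∃ g : R, g ∉ 𝔮 ∧ algebraMap R T g * ε = 0 := by
  let S' : Submonoid T := Submonoid.map (algebraMap R T) 𝔮.primeCompl
  have h0 : algebraMap T (Localization S') ε = 0 := by
    have hid : IsIdempotentElem (algebraMap T (Localization S') ε) := hε.map _
    apply hid.eq_zero_of_isNilpotent
    rw [← mem_nilradical, nilradical_eq_sInf, Ideal.mem_sInf]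
    intro P hP
    haveI : P.IsPrime := hP
    have hx := h (P.comap (algebraMap T (Localization S'))) (by
      intro r hr
      by_contra hrq
      have hu : IsUnit (algebraMap T (Localization S') (algebraMap R T r)) :=
        IsLocalization.map_units (Localization S')
          (⟨algebraMap R T r, ⟨r, hrq, rfl⟩⟩ : S')
      exact hP.ne_top (Ideal.eq_top_of_isUnit_mem _ hr hu))
    exact hx
  obtain ⟨⟨m, ⟨g, hg, rfl⟩⟩, hm⟩ := (IsLocalization.map_eq_zero_iff S' (Localization S') ε).mp h0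
  exact ⟨g, hg, hm⟩

end LocalVanishing

section SumIdem

variable {T : Type u} [CommRing T] {M : Type u} [CommGroup M] (n : ℕ) (S : Finset M)
  (F : Finset (M ≃* M)) (w : S → MonoidAlgebra T (M ⧸ powSub M n))
  (hw : ∀ s, IsGroupLikeElem T (w s))
  (hsep : ∀ φ ∈ F, ∀ φ' ∈ F, (∀ s : S, QuotientGroup.mk' (powSub M n) (φ (s : M)) =
    QuotientGroup.mk' (powSub M n) (φ' (s : M))) → φ = φ')

include hw hsep in
theorem sum_cIdem_mul (φ₀ : M ≃* M) (hφ₀ : φ₀ ∈ F) :
    (∑ φ ∈ F, cIdem n S w φ) * cIdem n S w φ₀ = cIdem n S w φ₀ := by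
  classical
  rw [Finset.sum_mul, Finset.sum_eq_single φ₀]
  · exact cIdem_idem n S w hw φ₀
  · intro φ hφ hne
    exact cIdem_orth n S F w hw hsep φ hφ φ₀ hφ₀ hne
  · intro h
    exact absurd hφ₀ h

include hw hsep in
theorem isIdempotentElem_sum_cIdem : IsIdempotentElem (∑ φ ∈ F, cIdem n S w φ) := by
  classical
  change (∑ φ ∈ F, cIdem n S w φ) * (∑ φ ∈ F, cIdem n S w φ) = ∑ φ ∈ F, cIdem n S w φ
  conv_lhs => rw [Finset.mul_sum]
  refine Finset.sum_congr rfl (fun φ hφ => ?_)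
  exact sum_cIdem_mul n S F w hw hsep φ hφ

end SumIdem

namespace CTriv

variable {R : Type u} [CommRing R] {A : Type u} [CommRing A] [HopfAlgebra R A]
  {M : Type u} [CommGroup M] (V : CTriv R A M) (K : Type u) [Field K] [Algebra R K]

/-- Rings receiving `K` and the members of the family. -/
structure KData where
  Qb : V.ι → Type u
  [cr : ∀ j, CommRing (Qb j)]
  [alg : ∀ j, Algebra R (Qb j)]
  mK : ∀ j, K →ₐ[R] Qb j
  mQ : ∀ j, V.Q j →ₐ[R] Qb j

attribute [instance] KData.cr KData.alg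

namespace KData

variable {V K} (D : V.KData K) (e₀ : K ⊗[R] A ≃ₐc[K] MonoidAlgebra K M)

/-- The trivialisation over `K`, base changed to `Qb j`. -/
noncomputable def bcE (j : V.ι) : D.Qb j ⊗[R] A ≃ₐc[D.Qb j] MonoidAlgebra (D.Qb j) M :=
  letI : Algebra K (D.Qb j) := (D.mK j).toRingHom.toAlgebra
  haveI : IsScalarTower R K (D.Qb j) :=
    IsScalarTower.of_algebraMap_eq (fun r => ((D.mK j).commutes r).symm)
  MTGlue.bcDiag R K (D.Qb j) e₀

theorem bcE_one_tmul (j : V.ι) (a : A) :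
    D.bcE e₀ j ((1 : D.Qb j) ⊗ₜ[R] a) =
      MonoidAlgebra.mapRingHom M (D.mK j).toRingHom (e₀ ((1 : K) ⊗ₜ[R] a)) := by
  letI : Algebra K (D.Qb j) := (D.mK j).toRingHom.toAlgebra
  haveI : IsScalarTower R K (D.Qb j) :=
    IsScalarTower.of_algebraMap_eq (fun r => ((D.mK j).commutes r).symm)
  exact MTGlue.bcDiag_one_tmul R K (D.Qb j) e₀ a

/-- The comparison between the given trivialisation and the one over `K`. -/
noncomputable def tau (j : V.ι) :
    MonoidAlgebra (D.Qb j) M →ₐc[D.Qb j] MonoidAlgebra (D.Qb j) M :=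
  (V.toTriv.bcε j (D.Qb j) (D.mQ j)).toBialgHom.comp (D.bcE e₀ j).symm.toBialgHom

noncomputable def tauInv (j : V.ι) :
    MonoidAlgebra (D.Qb j) M →ₐc[D.Qb j] MonoidAlgebra (D.Qb j) M :=
  (D.bcE e₀ j).toBialgHom.comp (V.toTriv.bcε j (D.Qb j) (D.mQ j)).symm.toBialgHom

theorem tauInv_comp_tau (j : V.ι) :
    (D.tauInv e₀ j).comp (D.tau e₀ j) = BialgHom.id _ _ := by
  apply BialgHom.ext
  intro y
  have h1 : ∀ w, D.tau e₀ j w =
      (V.toTriv.bcε j (D.Qb j) (D.mQ j)) ((D.bcE e₀ j).symm w) := fun _ => rfl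
  have h2 : ∀ w, D.tauInv e₀ j w =
      D.bcE e₀ j ((V.toTriv.bcε j (D.Qb j) (D.mQ j)).symm w) := fun _ => rfl
  rw [BialgHom.comp_apply, h1, h2, BialgEquiv.symm_apply_apply, BialgEquiv.apply_symm_apply]
  rfl

theorem tau_comp_tauInv (j : V.ι) :
    (D.tau e₀ j).comp (D.tauInv e₀ j) = BialgHom.id _ _ := by
  apply BialgHom.ext
  intro y
  have h1 : ∀ w, D.tau e₀ j w =
      (V.toTriv.bcε j (D.Qb j) (D.mQ j)) ((D.bcE e₀ j).symm w) := fun _ => rfl
  have h2 : ∀ w, D.tauInv e₀ j w =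
      D.bcE e₀ j ((V.toTriv.bcε j (D.Qb j) (D.mQ j)).symm w) := fun _ => rfl
  rw [BialgHom.comp_apply, h1, h2, BialgEquiv.symm_apply_apply, BialgEquiv.apply_symm_apply]
  rfl

theorem tau_apply (j : V.ι) (a : A) :
    D.tau e₀ j (MonoidAlgebra.mapRingHom M (D.mK j).toRingHom (e₀ ((1 : K) ⊗ₜ[R] a))) =
      MonoidAlgebra.mapRingHom M (D.mQ j).toRingHom (V.ε j ((1 : V.Q j) ⊗ₜ[R] a)) := by
  rw [← bcE_one_tmul]
  change (V.toTriv.bcε j (D.Qb j) (D.mQ j)) ((D.bcE e₀ j).symm
    (D.bcE e₀ j ((1 : D.Qb j) ⊗ₜ[R] a))) = _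
  rw [BialgEquiv.symm_apply_apply]
  exact V.toTriv.bcε_one_tmul j (D.Qb j) (D.mQ j) a

theorem rel2 (n : ℕ) (a : A) (j : V.ι) :
    MonoidAlgebra.mapRingHom (M ⧸ powSub M n) (D.mQ j).toRingHom
        (quotMap (V.Q j) M n (V.ε j ((1 : V.Q j) ⊗ₜ[R] a))) =
      LCVal.red n (D.tau e₀ j) (MonoidAlgebra.mapRingHom (M ⧸ powSub M n) (D.mK j).toRingHom
        (quotMap K M n (e₀ ((1 : K) ⊗ₜ[R] a)))) := by
  rw [← quotMap_mapRingHom, ← quotMap_mapRingHom, red_quotMap, tau_apply]

/-- The value of the comparison map at a prime. -/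
noncomputable def tauY (j : V.ι) (y : Ideal (D.Qb j)) [y.IsPrime] : M ≃* M :=
  sigEquiv (D.tau e₀ j) (D.tauInv e₀ j) (D.tauInv_comp_tau e₀ j) (D.tau_comp_tauInv e₀ j) y

theorem tauY_apply (j : V.ι) (y : Ideal (D.Qb j)) [y.IsPrime] (m : M) :
    D.tauY e₀ j y m = sig (D.tau e₀ j) y m := rfl

/-- The finite set of values of the comparison maps. -/
def Sig0Set : Set (M ≃* M) :=
  ⋃ (j : V.ι), Set.range (fun y : PrimeSpectrum (D.Qb j) => D.tauY e₀ j y.asIdeal)

theorem finite_Sig0Set [Group.FG M] : (D.Sig0Set e₀).Finite :=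
  Set.finite_iUnion (fun _ => finite_range_sigEquiv _ _ _ _)

theorem tauY_mem (j : V.ι) (y : Ideal (D.Qb j)) [hy : y.IsPrime] :
    D.tauY e₀ j y ∈ D.Sig0Set e₀ := by
  simp only [Sig0Set, Set.mem_iUnion, Set.mem_range]
  exact ⟨j, ⟨y, hy⟩, rfl⟩

/-- The possible values of the group-like lifts. -/
def FSet : Set (M ≃* M) :=
  Set.image2 (fun τ σ => τ.trans σ) (D.Sig0Set e₀) V.SigSet

/-- The set on which the exponent must separate. -/
def GSet : Set (M ≃* M) :=
  D.FSet e₀ ∪ Set.image2 (fun φ σ => φ.trans σ) (D.FSet e₀) V.SigSet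

theorem finite_FSet [Group.FG M] : (D.FSet e₀).Finite :=
  (D.finite_Sig0Set e₀).image2 _ V.finite_SigSet

theorem finite_GSet [Group.FG M] : (D.GSet e₀).Finite :=
  (D.finite_FSet e₀).union ((D.finite_FSet e₀).image2 _ V.finite_SigSet)

variable {n : ℕ} {S : Finset M} (L : V.GLifts n S)
  (hred : ∀ s : S, quotMap K M n (e₀ ((1 : K) ⊗ₜ[R] L.a s)) =
    MonoidAlgebra.single (QuotientGroup.mk' (powSub M n) (s : M)) 1)

include hred in
theorem val2 (j : V.ι) (s : S) (y : Ideal (D.Qb j)) [y.IsPrime] :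
    val (L.gl j s) (y.comap (D.mQ j).toRingHom) =
      QuotientGroup.mk' (powSub M n) (sig (D.tau e₀ j) y (s : M)) := by
  have h := D.rel2 e₀ n (L.a s) j
  rw [hred s, MonoidAlgebra.mapRingHom_single, map_one] at h
  have h2 := val_eq_sig_val (LCVal.red n (D.tau e₀ j)) (D.mQ j).toRingHom (D.mK j).toRingHom
    (L.gl j s) (isGroupLikeElem_single (T := K) (QuotientGroup.mk' (powSub M n) (s : M)))
    (by rw [MonoidAlgebra.mapRingHom_single, map_one]; exact h) y
  rw [h2, val_single, sig_red_mk]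

include hred in
/-- The values of the lifts at primes over generisations of `ker (R → K)`. -/
theorem exists_phi_of_le (hne : ∃ j, Nontrivial (D.Qb j)) (i : V.ι) (x : Ideal (V.Q i))
    [hx : x.IsPrime]
    (hxq : x.comap (algebraMap R (V.Q i)) ≤ RingHom.ker (algebraMap R K)) :
    ∃ φ ∈ D.FSet e₀, ∀ s : S,
      val (L.gl i s) x = QuotientGroup.mk' (powSub M n) (φ (s : M)) := by
  haveI := V.flat
  haveI := V.ff
  obtain ⟨j, hj⟩ := hne
  obtain ⟨yb, hyb⟩ := Ideal.exists_maximal (D.Qb j)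
  haveI hybp : yb.IsPrime := hyb.isPrime
  haveI hyp : (yb.comap (D.mQ j).toRingHom).IsPrime := Ideal.IsPrime.comap _
  haveI hqp : (RingHom.ker (algebraMap R K)).IsPrime := RingHom.ker_isPrime _
  have hy𝔮 : (yb.comap (D.mQ j).toRingHom).comap (algebraMap R (V.Q j)) =
      RingHom.ker (algebraMap R K) := by
    ext r
    rw [Ideal.mem_comap, Ideal.mem_comap, RingHom.mem_ker]
    have h1 : (D.mQ j).toRingHom (algebraMap R (V.Q j) r) = (D.mK j) (algebraMap R K r) := by
      change (D.mQ j) (algebraMap R (V.Q j) r) = _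
      rw [AlgHom.commutes, AlgHom.commutes]
    rw [h1]
    constructor
    · intro h
      by_contra hk
      have hu : IsUnit (algebraMap R K r) := IsUnit.mk0 _ hk
      exact hybp.ne_top (Ideal.eq_top_of_isUnit_mem _ h (hu.map (D.mK j)))
    · intro h
      rw [h, map_zero]
      exact yb.zero_mem
  haveI : (yb.comap (D.mQ j).toRingHom).LiesOver (RingHom.ker (algebraMap R K)) :=
    ⟨hy𝔮.symm⟩
  haveI hp : (x.comap (algebraMap R (V.Q i))).IsPrime := Ideal.IsPrime.comap _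
  obtain ⟨x', hx'y, hx'p, hx'over⟩ :=
    Ideal.exists_ideal_le_liesOver_of_le (p := x.comap (algebraMap R (V.Q i)))
      (q := RingHom.ker (algebraMap R K)) (yb.comap (D.mQ j).toRingHom) hxq
  haveI := hx'p
  have hcomap : x.comap (algebraMap R (V.Q i)) = x'.comap (algebraMap R (V.Q j)) :=
    hx'over.over
  obtain ⟨z, hz, hzl, hzr⟩ := HPoints.exists_prime_tensor x x' hcomap
  haveI := hz
  subst hzl
  subst hzr
  refine ⟨(D.tauY e₀ j yb).trans (V.sigZ i j z),
    ⟨_, D.tauY_mem e₀ j yb, _, V.sigZ_mem i j z, rfl⟩, fun s => ?_⟩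
  rw [L.val1 i j s z, val_of_le (L.gl j s) hx'y, D.val2 e₀ L hred j s yb, sig_red_mk]
  rfl

include hred in
/-- The values of the lifts are given by `FSet` at all primes not containing some `g` which is
nonzero in `K`. -/
theorem exists_good [Group.FG M] (hne : ∃ j, Nontrivial (D.Qb j))
    (hsep : ∀ φ ∈ D.FSet e₀, ∀ φ' ∈ D.FSet e₀,
      (∀ s : S, QuotientGroup.mk' (powSub M n) (φ (s : M)) =
        QuotientGroup.mk' (powSub M n) (φ' (s : M))) → φ = φ') :
    ∃ g : R, algebraMap R K g ≠ 0 ∧ ∀ (i : V.ι) (x : Ideal (V.Q i)) [x.IsPrime],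
      algebraMap R (V.Q i) g ∉ x → ∃ φ ∈ D.FSet e₀, ∀ s : S,
        val (L.gl i s) x = QuotientGroup.mk' (powSub M n) (φ (s : M)) := by
  classical
  set F : Finset (M ≃* M) := (D.finite_FSet e₀).toFinset with hFdef
  have hF : ∀ φ, φ ∈ F ↔ φ ∈ D.FSet e₀ := fun φ => Set.Finite.mem_toFinset _
  have hsepF : ∀ φ ∈ F, ∀ φ' ∈ F, (∀ s : S, QuotientGroup.mk' (powSub M n) (φ (s : M)) =
      QuotientGroup.mk' (powSub M n) (φ' (s : M))) → φ = φ' :=
    fun φ hφ φ' hφ' h => hsep φ ((hF φ).mp hφ) φ' ((hF φ').mp hφ') h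
  haveI hqp : (RingHom.ker (algebraMap R K)).IsPrime := RingHom.ker_isPrime _
  have key : ∀ i : V.ι, ∃ g : R, g ∉ RingHom.ker (algebraMap R K) ∧
      algebraMap R (V.Q i) g * (1 - ∑ φ ∈ F, cIdem n S (L.w i) φ) = 0 := by
    intro i
    apply exists_mul_eq_zero_of_forall_mem (RingHom.ker (algebraMap R K))
    · exact IsIdempotentElem.one_sub
        (isIdempotentElem_sum_cIdem n S F (L.w i) (L.gl i) hsepF)
    · intro x _ hxq
      obtain ⟨φ₀, hφ₀, hv⟩ := D.exists_phi_of_le e₀ L hred hne i x hxq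
      have h1 : cIdem n S (L.w i) φ₀ ∉ x := (cIdem_notMem_iff n S (L.w i) (L.gl i) x φ₀).mpr hv
      have h2 : (1 - ∑ φ ∈ F, cIdem n S (L.w i) φ) * cIdem n S (L.w i) φ₀ ∈ x := by
        rw [sub_mul, one_mul, sum_cIdem_mul n S F (L.w i) (L.gl i) hsepF φ₀ ((hF φ₀).mpr hφ₀),
          sub_self]
        exact x.zero_mem
      exact (‹x.IsPrime›.mem_or_mem h2).resolve_right h1
  choose g hg hg0 using key
  refine ⟨∏ i, g i, ?_, ?_⟩
  · intro h0
    have : ∏ i, g i ∈ RingHom.ker (algebraMap R K) := RingHom.mem_ker.mpr h0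
    rw [Ideal.IsPrime.prod_mem_iff] at this
    obtain ⟨i, -, hi⟩ := this
    exact hg i hi
  · intro i x hx hgx
    have h1 : algebraMap R (V.Q i) (g i) ∉ x := by
      intro hmem
      apply hgx
      rw [map_prod]
      exact Ideal.prod_mem x (Finset.mem_univ i) hmem
    have h2 : (1 - ∑ φ ∈ F, cIdem n S (L.w i) φ) ∈ x := by
      have h3 : algebraMap R (V.Q i) (g i) * (1 - ∑ φ ∈ F, cIdem n S (L.w i) φ) ∈ x := by
        rw [hg0 i]
        exact x.zero_mem
      exact (hx.mem_or_mem h3).resolve_left h1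
    have h4 : ∃ φ ∈ F, cIdem n S (L.w i) φ ∉ x := by
      by_contra hcon
      push Not at hcon
      have h5 : (∑ φ ∈ F, cIdem n S (L.w i) φ) ∈ x := Ideal.sum_mem _ hcon
      have h6 : (1 : V.Q i) ∈ x := by
        have := x.add_mem h2 h5
        rwa [sub_add_cancel] at this
      exact hx.ne_top ((Ideal.eq_top_iff_one _).mpr h6)
    obtain ⟨φ, hφ, hc⟩ := h4
    exact ⟨φ, (hF φ).mp hφ, (cIdem_notMem_iff n S (L.w i) (L.gl i) x φ).mp hc⟩

end KData

end CTriv

end Groth.Agent.Lib.Helper25.HensDiag
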