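import Groth.Agent.Lib.Helper25QIsoB

/-!
# Quasi-isotriviality, part C: base change of a constant trivialisation (helper25)
-/

set_option autoImplicit false
set_option linter.unusedSectionVars false
set_option linter.style.haveILetI false
universe u

namespace Groth.Agent.Lib.Helper25.HensDiag

open TensorProduct SGA3b Groth.Agent.Lib.Helper25 DescGL Tors LCVal DescLift BCB

section ExtBC

variable {R : Type u} [CommRing R] (R₁ : Type u) [CommRing R₁] [Algebra R R₁]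
  (T : Type u) [CommRing T] [Algebra R₁ T] [Algebra R T] [IsScalarTower R R₁ T]
  {A : Type u} [CommRing A] [Algebra R A]

/-- Linear maps out of `T ⊗[R₁] (R₁ ⊗[R] A)` are determined on `1 ⊗ (1 ⊗ a)`. -/
theorem ext_bc {X : Type u} [AddCommGroup X] [Module T X]
    {f f' : T ⊗[R₁] (R₁ ⊗[R] A) →ₗ[T] X}
    (h : ∀ a : A, f ((1 : T) ⊗ₜ[R₁] ((1 : R₁) ⊗ₜ[R] a)) = f' ((1 : T) ⊗ₜ[R₁] ((1 : R₁) ⊗ₜ[R] a))) :
    f = f' := by
  apply LinearMap.ext
  intro z
  induction z using TensorProduct.induction_on with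
  | zero => rw [map_zero, map_zero]
  | add x y hx hy => rw [map_add, map_add, hx, hy]
  | tmul t y =>
    induction y using TensorProduct.induction_on with
    | zero => rw [TensorProduct.tmul_zero, map_zero, map_zero]
    | add x y hx hy => rw [TensorProduct.tmul_add, map_add, map_add, hx, hy]
    | tmul r a =>
      have h1 : t ⊗ₜ[R₁] (r ⊗ₜ[R] a) =
          (t * algebraMap R₁ T r) • ((1 : T) ⊗ₜ[R₁] ((1 : R₁) ⊗ₜ[R] a)) := by
        rw [TensorProduct.smul_tmul', smul_eq_mul, mul_one]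
        have h2 : r ⊗ₜ[R] a = r • ((1 : R₁) ⊗ₜ[R] a) := by
          rw [TensorProduct.smul_tmul', smul_eq_mul, mul_one]
        rw [h2, TensorProduct.tmul_smul, TensorProduct.smul_tmul', Algebra.smul_def, mul_comm]
      rw [h1, map_smul, map_smul, h]

end ExtBC

theorem mapRingHom_mapRingHom {T T' T'' : Type u} [Semiring T] [Semiring T'] [Semiring T'']
    {M : Type u} [Monoid M] (φ : T →+* T') (ψ : T' →+* T'') (x : MonoidAlgebra T M) :
    MonoidAlgebra.mapRingHom M ψ (MonoidAlgebra.mapRingHom M φ x) =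
      MonoidAlgebra.mapRingHom M (ψ.comp φ) x := by
  apply MonoidAlgebra.coeff_injective
  ext m
  simp only [MonoidAlgebra.coeff_mapRingHom, RingHom.comp_apply]

namespace CTriv

variable {R : Type u} [CommRing R] {A : Type u} [CommRing A] [HopfAlgebra R A]
  {M : Type u} [CommGroup M] (V : CTriv R A M)
  (R₁ : Type u) [CommRing R₁] [Algebra R R₁]

/-- Base change of a constant trivialisation. -/
@[reducible] noncomputable def bc : CTriv R₁ (R₁ ⊗[R] A) M where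
  ι := V.ι
  Q := fun i => R₁ ⊗[R] V.Q i
  flat := fun i => by
    haveI := V.flat i
    infer_instance
  ff := by
    haveI := V.ff
    exact Module.FaithfullyFlat.of_linearEquiv R₁ (R₁ ⊗[R] (∀ i, V.Q i))
      (TensorProduct.piRight R R₁ R₁ V.Q).symm
  ε := fun i => (cancelBC R R₁ (R₁ ⊗[R] V.Q i) A).trans
    (V.toTriv.bcε i (R₁ ⊗[R] V.Q i) Algebra.TensorProduct.includeRight)

/-- The structure maps `V.Q i → (V.bc R₁).Q i`. -/
abbrev inc (i : V.ι) : V.Q i →ₐ[R] R₁ ⊗[R] V.Q i := Algebra.TensorProduct.includeRight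

theorem bc_ε_apply (i : V.ι) (z : (R₁ ⊗[R] V.Q i) ⊗[R₁] (R₁ ⊗[R] A)) :
    (V.bc R₁).ε i z = V.toTriv.bcε i (R₁ ⊗[R] V.Q i) (V.inc R₁ i)
      (cancelBC R R₁ (R₁ ⊗[R] V.Q i) A z) := rfl

theorem bc_ε_one_tmul (i : V.ι) (a : A) :
    (V.bc R₁).ε i ((1 : R₁ ⊗[R] V.Q i) ⊗ₜ[R₁] ((1 : R₁) ⊗ₜ[R] a)) =
      MonoidAlgebra.mapRingHom M (V.inc R₁ i).toRingHom (V.ε i ((1 : V.Q i) ⊗ₜ[R] a)) := by
  rw [bc_ε_apply, cancelBC_tmul, one_smul]
  exact V.toTriv.bcε_one_tmul i (R₁ ⊗[R] V.Q i) (V.inc R₁ i) a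

section Compare

variable (T : Type u) [CommRing T] [Algebra R₁ T] [Algebra R T] [IsScalarTower R R₁ T]

/-- The point of `V` induced by a point of `V.bc R₁`. -/
noncomputable abbrev pt (i : V.ι) (a₁ : R₁ ⊗[R] V.Q i →ₐ[R₁] T) : V.Q i →ₐ[R] T :=
  (a₁.restrictScalars R).comp (V.inc R₁ i)

theorem bc_bcε (i : V.ι) (a₁ : R₁ ⊗[R] V.Q i →ₐ[R₁] T) (z : T ⊗[R₁] (R₁ ⊗[R] A)) :
    (V.bc R₁).toTriv.bcε i T a₁ z =
      V.toTriv.bcε i T (V.pt R₁ T i a₁) (cancelBC R R₁ T A z) := by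
  have h : ((V.bc R₁).toTriv.bcε i T a₁ : T ⊗[R₁] (R₁ ⊗[R] A) →ₐc[T] MonoidAlgebra T M).toCoalgHom.toLinearMap =
      ((cancelBC R R₁ T A).trans (V.toTriv.bcε i T (V.pt R₁ T i a₁)) :
        T ⊗[R₁] (R₁ ⊗[R] A) →ₐc[T] MonoidAlgebra T M).toCoalgHom.toLinearMap := by
    apply ext_bc
    intro a
    change (V.bc R₁).toTriv.bcε i T a₁ ((1 : T) ⊗ₜ[R₁] ((1 : R₁) ⊗ₜ[R] a)) =
      V.toTriv.bcε i T (V.pt R₁ T i a₁) (cancelBC R R₁ T A ((1 : T) ⊗ₜ[R₁] ((1 : R₁) ⊗ₜ[R] a)))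
    rw [cancelBC_tmul, one_smul, Desc.Triv.bcε_one_tmul, Desc.Triv.bcε_one_tmul]
    change MonoidAlgebra.mapRingHom M a₁.toRingHom
      ((V.bc R₁).ε i ((1 : R₁ ⊗[R] V.Q i) ⊗ₜ[R₁] ((1 : R₁) ⊗ₜ[R] a))) = _
    rw [bc_ε_one_tmul, mapRingHom_mapRingHom]
    rfl
  exact congrArg (fun F => F z) h

theorem bc_trans (i j : V.ι) (a₁ : R₁ ⊗[R] V.Q i →ₐ[R₁] T) (b₁ : R₁ ⊗[R] V.Q j →ₐ[R₁] T) :
    (V.bc R₁).toTriv.trans i j T a₁ b₁ =
      V.toTriv.trans i j T (V.pt R₁ T i a₁) (V.pt R₁ T j b₁) := by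
  apply BialgHom.ext
  intro y
  obtain ⟨z, rfl⟩ : ∃ z, (V.bc R₁).toTriv.bcε j T b₁ z = y :=
    ⟨((V.bc R₁).toTriv.bcε j T b₁).symm y, BialgEquiv.apply_symm_apply _ y⟩
  rw [Desc.Triv.trans_bcε, bc_bcε, bc_bcε, Desc.Triv.trans_bcε]

end Compare

section PsiCompare

/-- The comparison map between the double overlaps. -/
noncomputable def uT (i j : V.ι) : V.T i j →ₐ[R] (V.bc R₁).T i j :=
  Algebra.TensorProduct.productMap
    (V.pt R₁ ((V.bc R₁).T i j) i ((V.bc R₁).iL i j))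
    (V.pt R₁ ((V.bc R₁).T i j) j ((V.bc R₁).iR i j))

theorem bc_Psi (i j : V.ι) :
    (V.bc R₁).Psi i j = bcHom (V.uT R₁ i j).toRingHom (V.Psi i j) := by
  have h1 : (V.bc R₁).Psi i j =
      V.toTriv.trans i j ((V.bc R₁).T i j) (V.pt R₁ ((V.bc R₁).T i j) i ((V.bc R₁).iL i j))
        (V.pt R₁ ((V.bc R₁).T i j) j ((V.bc R₁).iR i j)) :=
    V.bc_trans R₁ ((V.bc R₁).T i j) i j ((V.bc R₁).iL i j) ((V.bc R₁).iR i j)
  have h2 := V.toTriv.datum.nat i j (V.T i j) ((V.bc R₁).T i j) (V.uT R₁ i j) (V.iL i j) (V.iR i j)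
  have h3 : (V.uT R₁ i j).comp (V.iL i j) = V.pt R₁ ((V.bc R₁).T i j) i ((V.bc R₁).iL i j) :=
    Algebra.TensorProduct.productMap_left _ _
  have h4 : (V.uT R₁ i j).comp (V.iR i j) = V.pt R₁ ((V.bc R₁).T i j) j ((V.bc R₁).iR i j) :=
    Algebra.TensorProduct.productMap_right _ _
  rw [h3, h4] at h2
  rw [h1]
  exact h2.symm

theorem sigSet_bc_subset : (V.bc R₁).SigSet ⊆ V.SigSet := by
  intro σ hσ
  simp only [SigSet, Set.mem_iUnion, Set.mem_range] at hσ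
  obtain ⟨i, j, z, rfl⟩ := hσ
  haveI : (z.asIdeal.comap (V.uT R₁ i j).toRingHom).IsPrime := Ideal.IsPrime.comap _
  have h : (V.bc R₁).sigZ i j z.asIdeal = V.sigZ i j (z.asIdeal.comap (V.uT R₁ i j).toRingHom) := by
    apply MulEquiv.toMonoidHom_injective
    change sig ((V.bc R₁).Psi i j) z.asIdeal = sig (V.Psi i j) _
    rw [bc_Psi, sig_bcHom]
  rw [h]
  exact V.sigZ_mem i j _

end PsiCompare

namespace GLifts

variable {V} {n : ℕ} {S : Finset M} (L : V.GLifts n S)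

theorem bc_w (i : V.ι) (s : S) :
    quotMap (R₁ ⊗[R] V.Q i) M n
        ((V.bc R₁).ε i ((1 : R₁ ⊗[R] V.Q i) ⊗ₜ[R₁] ((1 : R₁) ⊗ₜ[R] L.a s))) =
      MonoidAlgebra.mapRingHom (M ⧸ powSub M n) (V.inc R₁ i).toRingHom (L.w i s) := by
  rw [bc_ε_one_tmul, quotMap_mapRingHom]

/-- Base change of group-like lifts. -/
noncomputable def bc : (V.bc R₁).GLifts n S where
  a := fun s => (1 : R₁) ⊗ₜ[R] L.a s
  gl := fun i s => by
    rw [L.bc_w R₁ i s]
    exact isGroupLikeElem_mapRingHom _ (L.gl i s)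

theorem val_bc (i : V.ι) (s : S) (x₁ : Ideal (R₁ ⊗[R] V.Q i)) [x₁.IsPrime] :
    val ((L.bc R₁).gl i s) x₁ = val (L.gl i s) (x₁.comap (V.inc R₁ i).toRingHom) := by
  rw [← val_mapRingHom (V.inc R₁ i).toRingHom (L.gl i s) x₁]
  exact val_congr _ _ (L.bc_w R₁ i s) x₁

include L in
/-- Diagonalisation over a basic open subset on which the values are under control. -/
theorem nonempty_equiv_away [Group.FG M] (F₀ : Set (M ≃* M)) (hF₀ : F₀.Finite) (g : R)
    (hK₀ : ∀ (i : V.ι) (x : Ideal (V.Q i)) [x.IsPrime], algebraMap R (V.Q i) g ∉ x →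
      ∃ φ ∈ F₀, ∀ s : S, val (L.gl i s) x = QuotientGroup.mk' (powSub M n) (φ (s : M)))
    (hsep : ∀ φ ∈ F₀ ∪ Set.image2 (fun φ σ => φ.trans σ) F₀ V.SigSet,
      ∀ φ' ∈ F₀ ∪ Set.image2 (fun φ σ => φ.trans σ) F₀ V.SigSet,
      (∀ s : S, QuotientGroup.mk' (powSub M n) (φ (s : M)) =
        QuotientGroup.mk' (powSub M n) (φ' (s : M))) → φ = φ') :
    Nonempty (Localization.Away g ⊗[R] A ≃ₐc[Localization.Away g]
      MonoidAlgebra (Localization.Away g) M) := by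
  apply (L.bc (Localization.Away g)).nonempty_equiv F₀ hF₀
  · intro i x₁ hx₁
    haveI : (x₁.comap (V.inc (Localization.Away g) i).toRingHom).IsPrime := Ideal.IsPrime.comap _
    suffices hnot : algebraMap R (V.Q i) g ∉ x₁.comap (V.inc (Localization.Away g) i).toRingHom by
      obtain ⟨φ, hφ, h⟩ := hK₀ i (x₁.comap (V.inc (Localization.Away g) i).toRingHom) hnot
      exact ⟨φ, hφ, fun s => by rw [L.val_bc (Localization.Away g) i s x₁]; exact h s⟩
    intro hmem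
    rw [Ideal.mem_comap] at hmem
    have h1 : (V.inc (Localization.Away g) i).toRingHom (algebraMap R (V.Q i) g) =
        algebraMap (Localization.Away g) (Localization.Away g ⊗[R] V.Q i)
          (algebraMap R (Localization.Away g) g) := by
      change (V.inc (Localization.Away g) i) (algebraMap R (V.Q i) g) = _
      rw [AlgHom.commutes, ← IsScalarTower.algebraMap_apply]
    rw [h1] at hmem
    have hu : IsUnit (algebraMap (Localization.Away g) (Localization.Away g ⊗[R] V.Q i)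
        (algebraMap R (Localization.Away g) g)) :=
      (IsLocalization.Away.algebraMap_isUnit g).map _
    exact hx₁.ne_top (Ideal.eq_top_of_isUnit_mem _ hmem hu)
  · have hsub : F₀ ∪ Set.image2 (fun φ σ => φ.trans σ) F₀ (V.bc (Localization.Away g)).SigSet ⊆
        F₀ ∪ Set.image2 (fun φ σ => φ.trans σ) F₀ V.SigSet :=
      Set.union_subset_union_right _
        (Set.image2_subset_left (V.sigSet_bc_subset (Localization.Away g)))
    intro φ hφ φ' hφ' h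
    exact hsep φ (hsub hφ) φ' (hsub hφ') h

end GLifts

namespace KData

variable {V} {K : Type u} [Field K] [Algebra R K] (D : V.KData K)
  (e₀ : K ⊗[R] A ≃ₐc[K] MonoidAlgebra K M) {n : ℕ} {S : Finset M} (L : V.GLifts n S)
  (hred : ∀ s : S, quotMap K M n (e₀ ((1 : K) ⊗ₜ[R] L.a s)) =
    MonoidAlgebra.single (QuotientGroup.mk' (powSub M n) (s : M)) 1)

include hred in
/-- Diagonalisation in a neighbourhood of the point `R → K`. -/
theorem nonempty_equiv_away [Group.FG M] (hne : ∃ j, Nontrivial (D.Qb j))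
    (hsep : ∀ φ ∈ D.GSet e₀, ∀ φ' ∈ D.GSet e₀,
      (∀ s : S, QuotientGroup.mk' (powSub M n) (φ (s : M)) =
        QuotientGroup.mk' (powSub M n) (φ' (s : M))) → φ = φ') :
    ∃ g : R, algebraMap R K g ≠ 0 ∧ Nonempty (Localization.Away g ⊗[R] A ≃ₐc[Localization.Away g]
      MonoidAlgebra (Localization.Away g) M) := by
  obtain ⟨g, hg, hK⟩ := D.exists_good e₀ L hred hne
    (fun φ hφ φ' hφ' h => hsep φ (Or.inl hφ) φ' (Or.inl hφ') h)
  exact ⟨g, hg, L.nonempty_equiv_away (D.FSet e₀) (D.finite_FSet e₀) g hK hsep⟩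

end KData

end CTriv

end Groth.Agent.Lib.Helper25.HensDiag
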