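import Groth.Agent.Lib.Helper25QIsoC

/-!
# Quasi-isotriviality, part D: the standard `K`-data and its base change (helper25)
-/

set_option autoImplicit false
set_option linter.unusedSectionVars false
set_option linter.style.haveILetI false
universe u

namespace Groth.Agent.Lib.Helper25.HensDiag

open TensorProduct SGA3b Groth.Agent.Lib.Helper25 DescGL Tors LCVal DescLift BCB

namespace CTriv

variable {R : Type u} [CommRing R] {A : Type u} [CommRing A] [HopfAlgebra R A]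
  {M : Type u} [CommGroup M] (V : CTriv R A M) (K : Type u) [Field K] [Algebra R K]
  (e₀ : K ⊗[R] A ≃ₐc[K] MonoidAlgebra K M)

/-- The standard `K`-data: `Qb j = K ⊗ Q j`. -/
@[reducible] noncomputable def stdK : V.KData K where
  Qb := fun j => K ⊗[R] V.Q j
  mK := fun _ => Algebra.TensorProduct.includeLeft
  mQ := fun _ => Algebra.TensorProduct.includeRight

theorem stdK_nontrivial [Nonempty V.ι] : ∃ j, Nontrivial ((V.stdK K).Qb j) := by
  haveI := V.ff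
  haveI : Nontrivial (K ⊗[R] (∀ i, V.Q i)) := Module.FaithfullyFlat.rTensor_nontrivial R _ K
  by_contra hcon
  push Not at hcon
  have hsub : ∀ j, Subsingleton (K ⊗[R] V.Q j) := fun j => hcon j
  haveI : Subsingleton (∀ j, K ⊗[R] V.Q j) := inferInstance
  have := (TensorProduct.piRight R K K V.Q).toEquiv.subsingleton
  exact not_subsingleton (K ⊗[R] (∀ i, V.Q i)) this

section BC

variable (C : Type u) [CommRing C] [Algebra R C] [Algebra C K] [IsScalarTower R C K]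

/-- The trivialisation over `K` of the base change to `C`. -/
noncomputable def e₀C : K ⊗[C] (C ⊗[R] A) ≃ₐc[K] MonoidAlgebra K M :=
  (cancelBC R C K A).trans e₀

theorem e₀C_apply (z : K ⊗[C] (C ⊗[R] A)) : e₀C K e₀ C z = e₀ (cancelBC R C K A z) := rfl

/-- The `K`-data of the base change to `C`, with the same rings `K ⊗[R] Q j`. -/
@[reducible] noncomputable def bcK : (V.bc C).KData K where
  Qb := fun j => K ⊗[R] V.Q j
  mK := fun _ => Algebra.TensorProduct.includeLeft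
  mQ := fun j => Algebra.TensorProduct.map (IsScalarTower.toAlgHom C C K) (AlgHom.id R (V.Q j))

theorem bcK_bcE (j : V.ι) (z : (K ⊗[R] V.Q j) ⊗[C] (C ⊗[R] A)) :
    (V.bcK K C).bcE (e₀C K e₀ C) j z =
      (V.stdK K).bcE e₀ j (cancelBC R C (K ⊗[R] V.Q j) A z) := by
  have h : ((V.bcK K C).bcE (e₀C K e₀ C) j :
      (K ⊗[R] V.Q j) ⊗[C] (C ⊗[R] A) →ₐc[K ⊗[R] V.Q j]
        MonoidAlgebra (K ⊗[R] V.Q j) M).toCoalgHom.toLinearMap =
      ((cancelBC R C (K ⊗[R] V.Q j) A).trans ((V.stdK K).bcE e₀ j) :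
        (K ⊗[R] V.Q j) ⊗[C] (C ⊗[R] A) →ₐc[K ⊗[R] V.Q j]
          MonoidAlgebra (K ⊗[R] V.Q j) M).toCoalgHom.toLinearMap := by
    apply ext_bc
    intro a
    change (V.bcK K C).bcE (e₀C K e₀ C) j ((1 : K ⊗[R] V.Q j) ⊗ₜ[C] ((1 : C) ⊗ₜ[R] a)) =
      (V.stdK K).bcE e₀ j (cancelBC R C (K ⊗[R] V.Q j) A
        ((1 : K ⊗[R] V.Q j) ⊗ₜ[C] ((1 : C) ⊗ₜ[R] a)))
    rw [cancelBC_tmul, one_smul, KData.bcE_one_tmul, KData.bcE_one_tmul, e₀C_apply,
      cancelBC_tmul, one_smul]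
    rfl
  exact congrArg (fun F => F z) h

theorem bcK_bcε (j : V.ι) (z : (K ⊗[R] V.Q j) ⊗[C] (C ⊗[R] A)) :
    (V.bc C).toTriv.bcε j (K ⊗[R] V.Q j) ((V.bcK K C).mQ j) z =
      V.toTriv.bcε j (K ⊗[R] V.Q j) ((V.stdK K).mQ j)
        (cancelBC R C (K ⊗[R] V.Q j) A z) := by
  rw [V.bc_bcε C (K ⊗[R] V.Q j) j ((V.bcK K C).mQ j) z]
  have hpt : V.pt C (K ⊗[R] V.Q j) j ((V.bcK K C).mQ j) = (V.stdK K).mQ j := by
    apply AlgHom.ext
    intro q
    change (Algebra.TensorProduct.map (IsScalarTower.toAlgHom C C K) (AlgHom.id R (V.Q j)))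
      ((1 : C) ⊗ₜ[R] q) = (1 : K) ⊗ₜ[R] q
    rw [Algebra.TensorProduct.map_tmul, map_one]
    rfl
  rw [hpt]

theorem bcK_tau (j : V.ι) :
    (V.bcK K C).tau (e₀C K e₀ C) j = (V.stdK K).tau e₀ j := by
  apply BialgHom.ext
  intro y
  have h1 : ∀ w, (V.bcK K C).tau (e₀C K e₀ C) j w =
      ((V.bc C).toTriv.bcε j (K ⊗[R] V.Q j) ((V.bcK K C).mQ j))
        (((V.bcK K C).bcE (e₀C K e₀ C) j).symm w) := fun _ => rfl
  have h2 : ∀ w, (V.stdK K).tau e₀ j w =
      (V.toTriv.bcε j (K ⊗[R] V.Q j) ((V.stdK K).mQ j))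
        (((V.stdK K).bcE e₀ j).symm w) := fun _ => rfl
  rw [h1, h2, bcK_bcε]
  congr 1
  have h3 : (V.stdK K).bcE e₀ j (cancelBC R C (K ⊗[R] V.Q j) A
      (((V.bcK K C).bcE (e₀C K e₀ C) j).symm y)) = y := by
    rw [← bcK_bcE, BialgEquiv.apply_symm_apply]
  calc cancelBC R C (K ⊗[R] V.Q j) A (((V.bcK K C).bcE (e₀C K e₀ C) j).symm y)
      = ((V.stdK K).bcE e₀ j).symm ((V.stdK K).bcE e₀ j (cancelBC R C (K ⊗[R] V.Q j) A
          (((V.bcK K C).bcE (e₀C K e₀ C) j).symm y))) := (BialgEquiv.symm_apply_apply _ _).symm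
    _ = ((V.stdK K).bcE e₀ j).symm y := by rw [h3]

theorem bcK_sig0Set_subset :
    (V.bcK K C).Sig0Set (e₀C K e₀ C) ⊆ (V.stdK K).Sig0Set e₀ := by
  intro τ hτ
  simp only [KData.Sig0Set, Set.mem_iUnion, Set.mem_range] at hτ
  obtain ⟨j, y, rfl⟩ := hτ
  have h : (V.bcK K C).tauY (e₀C K e₀ C) j y.asIdeal = (V.stdK K).tauY e₀ j y.asIdeal := by
    apply MulEquiv.toMonoidHom_injective
    change sig ((V.bcK K C).tau (e₀C K e₀ C) j) y.asIdeal = sig ((V.stdK K).tau e₀ j) y.asIdeal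
    rw [bcK_tau]
  rw [h]
  exact (V.stdK K).tauY_mem e₀ j y.asIdeal

theorem bcK_fSet_subset :
    (V.bcK K C).FSet (e₀C K e₀ C) ⊆ (V.stdK K).FSet e₀ :=
  Set.image2_subset (V.bcK_sig0Set_subset K e₀ C) (V.sigSet_bc_subset C)

theorem bcK_gSet_subset :
    (V.bcK K C).GSet (e₀C K e₀ C) ⊆ (V.stdK K).GSet e₀ :=
  Set.union_subset_union (V.bcK_fSet_subset K e₀ C)
    (Set.image2_subset (V.bcK_fSet_subset K e₀ C) (V.sigSet_bc_subset C))

/-- Diagonalisation in a neighbourhood of the point `C → K`, from group-like lifts over `C`. -/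
theorem nonempty_equiv_away_bc [Group.FG M] [Nonempty V.ι] {n : ℕ} {S : Finset M}
    (LC : (V.bc C).GLifts n S)
    (hred : ∀ s : S, quotMap K M n (e₀C K e₀ C ((1 : K) ⊗ₜ[C] LC.a s)) =
      MonoidAlgebra.single (QuotientGroup.mk' (powSub M n) (s : M)) 1)
    (hsep : ∀ φ ∈ (V.stdK K).GSet e₀, ∀ φ' ∈ (V.stdK K).GSet e₀,
      (∀ s : S, QuotientGroup.mk' (powSub M n) (φ (s : M)) =
        QuotientGroup.mk' (powSub M n) (φ' (s : M))) → φ = φ') :
    ∃ g : C, algebraMap C K g ≠ 0 ∧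
      Nonempty (Localization.Away g ⊗[C] (C ⊗[R] A) ≃ₐc[Localization.Away g]
        MonoidAlgebra (Localization.Away g) M) :=
  (V.bcK K C).nonempty_equiv_away (e₀C K e₀ C) LC hred (V.stdK_nontrivial K)
    (fun φ hφ φ' hφ' h => hsep φ (V.bcK_gSet_subset K e₀ C hφ) φ' (V.bcK_gSet_subset K e₀ C hφ') h)

end BC

end CTriv

end Groth.Agent.Lib.Helper25.HensDiag
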