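import Groth.Agent.Lib.Helper25CartLift
import Mathlib.RingTheory.Etale.Pi
import Mathlib.RingTheory.Etale.Descent

/-!
# Quasi-isotriviality, part E: points of the dual algebra and group-like elements (helper25)

For a cocommutative bialgebra `B` with a finite dual basis and its dual algebra `E = Hom_R(B, R)`:
* `glOfPt χ`: the group-like element of `S ⊗ B` attached to an algebra map `χ : E → S`;
* `glOfPt_pt`: every group-like element of `S ⊗ B` arises in this way;
* `etale_E`: `E` is étale if `B` is a form of a group algebra of a finite group.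
-/

set_option autoImplicit false
set_option linter.unusedSectionVars false
set_option linter.style.haveILetI false
universe u

namespace Groth.Agent.Lib.Helper25.CartLift

open TensorProduct WithConv Coalgebra Groth.Agent.Lib.Helper25

section Gen

variable {S N : Type u} [CommRing S] [AddCommGroup N] [Module S N] {ι : Type} [Fintype ι]
  (n : ι → N) (ν : ι → N →ₗ[S] S)

include n ν in
theorem tensor_eq_sum_gen (h : ∀ x : N, x = ∑ k, ν k x • n k) (z : N ⊗[S] N) :
    z = ∑ k, ∑ k', LinearMap.mul' S S (TensorProduct.map (ν k) (ν k') z) • (n k ⊗ₜ[S] n k') := by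
  induction z using TensorProduct.induction_on with
  | zero => simp
  | tmul a a' =>
    conv_lhs => rw [h a, h a', TensorProduct.sum_tmul]
    apply Finset.sum_congr rfl
    intro k _
    rw [TensorProduct.tmul_sum]
    apply Finset.sum_congr rfl
    intro k' _
    rw [TensorProduct.map_tmul, LinearMap.mul'_apply, TensorProduct.smul_tmul_smul]
  | add z z' hz hz' =>
    conv_lhs => rw [hz, hz']
    rw [← Finset.sum_add_distrib]
    apply Finset.sum_congr rfl
    intro k _
    rw [← Finset.sum_add_distrib]
    apply Finset.sum_congr rfl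
    intro k' _
    rw [map_add, map_add, add_smul]

end Gen

section Pt

variable {R : Type u} [CommRing R] {B : Type u} [CommRing B] [Bialgebra R B]
  [Coalgebra.IsCocomm R B] {ι : Type} [Fintype ι] (b : ι → B) (β : ι → B →ₗ[R] R)
  (hb : ∀ x : B, x = ∑ k, β k x • b k)
  {S : Type u} [CommRing S] [Algebra R S]

include b β hb in
/-- The base-changed dual basis. -/
theorem bc_eq_sum' (z : S ⊗[R] B) :
    z = ∑ k, ev S (β k) z • ((1 : S) ⊗ₜ[R] b k) := by
  induction z using TensorProduct.induction_on with
  | zero => simp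
  | tmul s a =>
    conv_lhs => rw [hb a, TensorProduct.tmul_sum]
    apply Finset.sum_congr rfl
    intro k _
    rw [ev_tmul, TensorProduct.tmul_smul, TensorProduct.smul_tmul', TensorProduct.smul_tmul',
      smul_eq_mul, _root_.mul_one]
  | add z z' hz hz' =>
    conv_lhs => rw [hz, hz']
    rw [← Finset.sum_add_distrib]
    apply Finset.sum_congr rfl
    intro k _
    rw [map_add, add_smul]

/-- The group-like element attached to a point of the dual algebra. -/
noncomputable def glOfPt (χ : E R B →ₐ[R] S) : S ⊗[R] B :=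
  ∑ k, χ (toConv (β k)) • ((1 : S) ⊗ₜ[R] b k)

include hb in
theorem ev_glOfPt (χ : E R B →ₐ[R] S) (ψ : E R B) :
    ev S ψ.ofConv (glOfPt b β χ) = χ ψ := by
  conv_rhs => rw [eq_sum_dual b β hb ψ, map_sum]
  rw [glOfPt, map_sum]
  apply Finset.sum_congr rfl
  intro k _
  rw [map_smul, ev_tmul, map_smul, smul_eq_mul, Algebra.smul_def, _root_.mul_one,
    Algebra.smul_def, mul_comm]

include hb in
theorem isGroupLikeElem_glOfPt (χ : E R B →ₐ[R] S) : IsGroupLikeElem S (glOfPt b β χ) := by
  refine ⟨?_, ?_⟩
  · rw [← ev_one_apply, ev_glOfPt b β hb, map_one]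
  · rw [← sub_eq_zero, tensor_eq_sum_gen (fun k => (1 : S) ⊗ₜ[R] b k) (fun k => ev S (β k))
      (bc_eq_sum' b β hb) (comul (R := S) (glOfPt b β χ) - glOfPt b β χ ⊗ₜ[S] glOfPt b β χ)]
    apply Finset.sum_eq_zero
    intro k _
    apply Finset.sum_eq_zero
    intro k' _
    have h1 : LinearMap.mul' S S (TensorProduct.map (ev S (β k)) (ev S (β k'))
        (comul (R := S) (glOfPt b β χ))) = χ (toConv (β k) * toConv (β k')) := by
      rw [← ev_glOfPt b β hb χ (toConv (β k) * toConv (β k')), ev_mul_apply,
        WithConv.ofConv_toConv, WithConv.ofConv_toConv]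
    have h2 : ∀ k, ev S (β k) (glOfPt b β χ) = χ (toConv (β k)) := by
      intro k
      have := ev_glOfPt b β hb χ (toConv (β k))
      rwa [WithConv.ofConv_toConv] at this
    rw [map_sub, map_sub, h1, TensorProduct.map_tmul, LinearMap.mul'_apply, h2, h2, map_mul,
      sub_self, zero_smul]

include hb in
/-- Every group-like element comes from its point. -/
theorem glOfPt_pt (G : S ⊗[R] B) (hG : IsGroupLikeElem S G) : glOfPt b β (pt G hG) = G := by
  conv_rhs => rw [bc_eq_sum' b β hb G]
  rfl

/-- Naturality of `glOfPt`. -/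
theorem map_glOfPt {S' : Type u} [CommRing S'] [Algebra R S'] (f : S →ₐ[R] S')
    (χ : E R B →ₐ[R] S) :
    Algebra.TensorProduct.map f (AlgHom.id R B) (glOfPt b β χ) = glOfPt b β (f.comp χ) := by
  rw [glOfPt, glOfPt, map_sum]
  apply Finset.sum_congr rfl
  intro k _
  rw [smul_tmul', smul_tmul', Algebra.TensorProduct.map_tmul, smul_eq_mul, _root_.mul_one,
    smul_eq_mul, _root_.mul_one]
  rfl

end Pt

section Etale

variable {R : Type u} [CommRing R] {B : Type u} [CommRing B] [Bialgebra R B]
  [Coalgebra.IsCocomm R B] {ι : Type} [Fintype ι] (b : ι → B) (β : ι → B →ₗ[R] R)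
  (hb : ∀ x : B, x = ∑ k, β k x • b k)
  (R' : Type u) [CommRing R'] [Algebra R R']

/-- `φ ↦ ev R' φ`, as a linear map. -/
noncomputable def evLin : E R B →ₗ[R] (R' ⊗[R] B →ₗ[R'] R') where
  toFun φ := ev R' φ.ofConv
  map_add' φ ψ := by
    apply LinearMap.ext
    intro z
    exact ev_add_apply φ.ofConv ψ.ofConv z
  map_smul' c φ := by
    apply LinearMap.ext
    intro z
    exact ev_smul_apply c φ.ofConv z

/-- The pairing `(R' ⊗ E) × (R' ⊗ B) → R'`. -/
noncomputable def pair : R' ⊗[R] E R B →ₗ[R'] (R' ⊗[R] B →ₗ[R'] R') :=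
  TensorProduct.AlgebraTensorModule.lift
    (LinearMap.smulRight (LinearMap.id : R' →ₗ[R'] R') (evLin (B := B) R'))

theorem pair_tmul (r : R') (φ : E R B) (y : R' ⊗[R] B) :
    pair R' (r ⊗ₜ[R] φ) y = r * ev R' φ.ofConv y := rfl

include b β hb in
theorem eq_sum_pair (z : R' ⊗[R] E R B) :
    z = ∑ k, (pair R' z ((1 : R') ⊗ₜ[R] b k)) ⊗ₜ[R] toConv (β k) := by
  induction z using TensorProduct.induction_on with
  | zero => simp
  | tmul r φ =>
    conv_lhs => rw [eq_sum_dual b β hb φ, TensorProduct.tmul_sum]
    apply Finset.sum_congr rfl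
    intro k _
    rw [pair_tmul, ev_tmul, TensorProduct.tmul_smul, TensorProduct.smul_tmul']
    congr 1
    rw [Algebra.smul_def, Algebra.smul_def, _root_.mul_one, mul_comm]
  | add z z' hz hz' =>
    conv_lhs => rw [hz, hz']
    rw [← Finset.sum_add_distrib]
    apply Finset.sum_congr rfl
    intro k _
    rw [map_add, LinearMap.add_apply, TensorProduct.add_tmul]

variable {L : Type u} [CommGroup L] (ε' : R' ⊗[R] B ≃ₐc[R'] MonoidAlgebra R' L)

/-- The group-like elements of `R' ⊗ B` given by the trivialisation. -/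
noncomputable def G' (l : L) : R' ⊗[R] B := ε'.symm (MonoidAlgebra.single l 1)

theorem isGroupLikeElem_G' (l : L) : IsGroupLikeElem R' (G' R' ε' l) :=
  (MonoidAlgebra.isGroupLikeElem_single_one (R := R') (A := R') l).map ε'.symm

theorem map_eq_zero_of_forall_G' (Ψ : R' ⊗[R] B →ₗ[R'] R') (h : ∀ l, Ψ (G' R' ε' l) = 0)
    (y : R' ⊗[R] B) : Ψ y = 0 := by
  obtain ⟨w, rfl⟩ : ∃ w, ε'.symm w = y := ⟨ε' y, ε'.symm_apply_apply y⟩
  induction w using MonoidAlgebra.induction_linear with
  | zero => rw [map_zero, map_zero]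
  | add w w' hw hw' => rw [map_add, map_add, hw, hw', add_zero]
  | single l r =>
    have h1 : (MonoidAlgebra.single l r : MonoidAlgebra R' L) =
        r • MonoidAlgebra.single l (1 : R') := by
      rw [MonoidAlgebra.smul_single, smul_eq_mul, _root_.mul_one]
    rw [h1, map_smul, map_smul]
    have := h l
    rw [G'] at this
    rw [this, smul_zero]

/-- The comparison map `R' ⊗ E → (L → R')`. -/
noncomputable def Phi : R' ⊗[R] E R B →ₐ[R'] (L → R') :=
  Algebra.TensorProduct.lift (Algebra.ofId R' (L → R'))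
    (AlgHom.pi (fun l => pt (G' R' ε' l) (isGroupLikeElem_G' R' ε' l)))
    (fun _ _ => Commute.all _ _)

theorem Phi_apply (z : R' ⊗[R] E R B) (l : L) :
    Phi R' ε' z l = pair R' z (G' R' ε' l) := by
  induction z using TensorProduct.induction_on with
  | zero => simp
  | tmul r φ =>
    rw [Phi, Algebra.TensorProduct.lift_tmul, pair_tmul, Pi.mul_apply]
    rfl
  | add z z' hz hz' => rw [map_add, Pi.add_apply, hz, hz', map_add, LinearMap.add_apply]

include b β hb in
theorem Phi_bijective [Finite L] : Function.Bijective (Phi (B := B) R' ε') := by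
  classical
  haveI : Fintype L := Fintype.ofFinite L
  constructor
  · rw [injective_iff_map_eq_zero]
    intro z hz
    have h1 : ∀ y, pair R' z y = 0 := by
      apply map_eq_zero_of_forall_G' R' ε'
      intro l
      rw [← Phi_apply, hz]
      rfl
    rw [eq_sum_pair b β hb R' z]
    apply Finset.sum_eq_zero
    intro k _
    rw [h1, TensorProduct.zero_tmul]
  · intro f
    let Ψ : R' ⊗[R] B →ₗ[R'] R' :=
      { toFun := fun y => ∑ l, f l * (ε' y).coeff l
        map_add' := fun y y' => by
          rw [← Finset.sum_add_distrib]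
          apply Finset.sum_congr rfl
          intro l _
          rw [map_add, MonoidAlgebra.coeff_add, Finsupp.add_apply, mul_add]
        map_smul' := fun c y => by
          rw [RingHom.id_apply, Finset.smul_sum]
          apply Finset.sum_congr rfl
          intro l _
          rw [map_smul, MonoidAlgebra.coeff_smul, Finsupp.smul_apply, smul_eq_mul, smul_eq_mul]
          ring }
    have hΨ : ∀ y, Ψ y = ∑ l, f l * (ε' y).coeff l := fun _ => rfl
    refine ⟨∑ k, (Ψ ((1 : R') ⊗ₜ[R] b k)) ⊗ₜ[R] toConv (β k), ?_⟩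
    funext l
    rw [Phi_apply, map_sum, LinearMap.sum_apply]
    have h2 : ∀ k, pair R' ((Ψ ((1 : R') ⊗ₜ[R] b k)) ⊗ₜ[R] toConv (β k)) (G' R' ε' l) =
        Ψ (ev R' (β k) (G' R' ε' l) • ((1 : R') ⊗ₜ[R] b k)) := by
      intro k
      rw [pair_tmul, WithConv.ofConv_toConv, map_smul, smul_eq_mul, mul_comm]
    rw [Finset.sum_congr rfl (fun k _ => h2 k), ← map_sum, ← bc_eq_sum' b β hb, hΨ, G',
      BialgEquiv.apply_symm_apply]
    rw [Finset.sum_eq_single l]
    · rw [MonoidAlgebra.coeff_single, Finsupp.single_apply, if_pos rfl, _root_.mul_one]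
    · intro l' _ hne
      rw [MonoidAlgebra.coeff_single, Finsupp.single_apply, if_neg (Ne.symm hne), mul_zero]
    · intro h
      exact absurd (Finset.mem_univ l) h

include b β hb ε' in
/-- The dual algebra of a form of the group algebra of a finite group is étale. -/
theorem etale_E [Module.FaithfullyFlat R R'] [Finite L] : Algebra.Etale R (E R B) := by
  haveI : Algebra.Etale R' (L → R') := inferInstance
  let e : R' ⊗[R] E R B ≃ₐ[R'] (L → R') := AlgEquiv.ofBijective _ (Phi_bijective b β hb R' ε')
  haveI : Algebra.Etale R' (R' ⊗[R] E R B) := Algebra.Etale.of_equiv e.symm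
  exact Algebra.Etale.of_etale_tensorProduct_of_faithfullyFlat R'

end Etale

end Groth.Agent.Lib.Helper25.CartLift
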