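import Groth.Agent.Lib.Helper25QIsoE

/-!
# Quasi-isotriviality, part F: an étale neighbourhood carrying group-like lifts (helper25)

Given finitely many group-like elements `G s` of `K ⊗ B` (`B` with finite dual basis and étale dual
algebra), there is an étale `R`-algebra `C` with a point `π : C → K` and group-like elements of
`C ⊗ B` mapping to the `G s`.
-/

set_option autoImplicit false
set_option linter.unusedSectionVars false
set_option linter.style.haveILetI false
universe u

namespace Groth.Agent.Lib.Helper25.CartLift

open TensorProduct WithConv Coalgebra Groth.Agent.Lib.Helper25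

section Nbhd

variable {R : Type u} [CommRing R] {B : Type u} [CommRing B] [Bialgebra R B]
  [Coalgebra.IsCocomm R B] {ι : Type} [Fintype ι] (b : ι → B) (β : ι → B →ₗ[R] R)
  (hb : ∀ x : B, x = ∑ k, β k x • b k)

include b β hb in
/-- Base change of a group-like element along an algebra map. -/
theorem isGroupLikeElem_map {S S' : Type u} [CommRing S] [Algebra R S] [CommRing S']
    [Algebra R S'] (f : S →ₐ[R] S') {G : S ⊗[R] B} (hG : IsGroupLikeElem S G) :
    IsGroupLikeElem S' (Algebra.TensorProduct.map f (AlgHom.id R B) G) := by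
  rw [← glOfPt_pt b β hb G hG, map_glOfPt]
  exact isGroupLikeElem_glOfPt b β hb _

theorem map_map {S S' S'' : Type u} [CommRing S] [Algebra R S] [CommRing S'] [Algebra R S']
    [CommRing S''] [Algebra R S''] (f : S →ₐ[R] S') (f' : S' →ₐ[R] S'') (z : S ⊗[R] B) :
    Algebra.TensorProduct.map f' (AlgHom.id R B) (Algebra.TensorProduct.map f (AlgHom.id R B) z) =
      Algebra.TensorProduct.map (f'.comp f) (AlgHom.id R B) z := by
  induction z using TensorProduct.induction_on with
  | zero => simp
  | tmul s x => rfl
  | add x y hx hy => rw [map_add, map_add, map_add, hx, hy]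

theorem map_productMap_includeLeft {C E' K : Type u} [CommRing C] [Algebra R C] [CommRing E']
    [Algebra R E'] [CommRing K] [Algebra R K] (π : C →ₐ[R] K) (ρ : E' →ₐ[R] K) (z : C ⊗[R] B) :
    Algebra.TensorProduct.map (Algebra.TensorProduct.productMap π ρ) (AlgHom.id R B)
      (Algebra.TensorProduct.map
        (Algebra.TensorProduct.includeLeft : C →ₐ[R] C ⊗[R] E') (AlgHom.id R B) z) =
      Algebra.TensorProduct.map π (AlgHom.id R B) z := by
  rw [map_map, Algebra.TensorProduct.productMap_left]

theorem map_productMap_includeRight {C E' K : Type u} [CommRing C] [Algebra R C] [CommRing E']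
    [Algebra R E'] [CommRing K] [Algebra R K] (π : C →ₐ[R] K) (ρ : E' →ₐ[R] K) (z : E' ⊗[R] B) :
    Algebra.TensorProduct.map (Algebra.TensorProduct.productMap π ρ) (AlgHom.id R B)
      (Algebra.TensorProduct.map
        (Algebra.TensorProduct.includeRight : E' →ₐ[R] C ⊗[R] E') (AlgHom.id R B) z) =
      Algebra.TensorProduct.map ρ (AlgHom.id R B) z := by
  rw [map_map, Algebra.TensorProduct.productMap_right]

include b β hb in
/-- One step: enlarge an étale neighbourhood `C` by an étale algebra `E'` carrying a group-like
element `u` with prescribed image. -/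
theorem exists_etale_nbhd_step {C E' K : Type u} [CommRing C] [Algebra R C] [CommRing E']
    [Algebra R E'] [CommRing K] [Algebra R K] [Algebra.Etale R C] [Algebra.Etale R E']
    (π : C →ₐ[R] K) (ρ : E' →ₐ[R] K) (u : E' ⊗[R] B) (hu : IsGroupLikeElem E' u) :
    ∃ (C' : Type u) (_ : CommRing C') (_ : Algebra R C') (π' : C' →ₐ[R] K) (j : C →ₐ[R] C')
      (u' : C' ⊗[R] B), Algebra.Etale R C' ∧ π'.comp j = π ∧ IsGroupLikeElem C' u' ∧
        Algebra.TensorProduct.map π' (AlgHom.id R B) u' =
          Algebra.TensorProduct.map ρ (AlgHom.id R B) u := by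
  haveI : Algebra.Etale C (C ⊗[R] E') := inferInstance
  have het' : Algebra.Etale R (C ⊗[R] E') := Algebra.Etale.comp R C (C ⊗[R] E')
  refine ⟨C ⊗[R] E', inferInstance, inferInstance, Algebra.TensorProduct.productMap π ρ,
    Algebra.TensorProduct.includeLeft,
    Algebra.TensorProduct.map (Algebra.TensorProduct.includeRight : E' →ₐ[R] C ⊗[R] E')
      (AlgHom.id R B) u, het', Algebra.TensorProduct.productMap_left _ _,
    isGroupLikeElem_map b β hb _ hu, map_productMap_includeRight π ρ u⟩

include b β hb in
theorem exists_etale_nbhd [Algebra.Etale R (E R B)] {M : Type u} (K : Type u) [CommRing K]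
    [Algebra R K] (G : M → K ⊗[R] B) (S : Finset M) (hG : ∀ s ∈ S, IsGroupLikeElem K (G s)) :
    ∃ (C : Type u) (_ : CommRing C) (_ : Algebra R C) (π : C →ₐ[R] K) (g : M → C ⊗[R] B),
      Algebra.Etale R C ∧ ∀ s ∈ S, IsGroupLikeElem C (g s) ∧
        Algebra.TensorProduct.map π (AlgHom.id R B) (g s) = G s := by
  classical
  induction S using Finset.induction_on with
  | empty =>
    exact ⟨R, inferInstance, inferInstance, Algebra.ofId R K, fun _ => 0, inferInstance,
      fun s hs => absurd hs (Finset.notMem_empty s)⟩
  | insert s S' hs ih =>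
    obtain ⟨C, _, _, π, g, het, hg⟩ := ih (fun t ht => hG t (Finset.mem_insert_of_mem ht))
    haveI := het
    have hGs : IsGroupLikeElem K (G s) := hG s (Finset.mem_insert_self s S')
    obtain ⟨C', _, _, π', j, u', het', hj, hu', hu''⟩ :=
      exists_etale_nbhd_step b β hb π (pt (G s) hGs)
        (glOfPt b β (AlgHom.id R (E R B))) (isGroupLikeElem_glOfPt b β hb _)
    rw [map_glOfPt, AlgHom.comp_id, glOfPt_pt b β hb] at hu''
    refine ⟨C', inferInstance, inferInstance, π',
      fun m => if m = s then u' else Algebra.TensorProduct.map j (AlgHom.id R B) (g m),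
      het', ?_⟩
    intro t ht
    by_cases hts : t = s
    · subst hts
      dsimp only
      rw [if_pos rfl]
      exact ⟨hu', hu''⟩
    · dsimp only
      rw [if_neg hts]
      have htS : t ∈ S' := (Finset.mem_insert.mp ht).resolve_left hts
      obtain ⟨h1, h2⟩ := hg t htS
      refine ⟨isGroupLikeElem_map b β hb j h1, ?_⟩
      rw [map_map, hj, h2]

end Nbhd

end Groth.Agent.Lib.Helper25.CartLift
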