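import Groth.Agent.Lib.Helper25QIsoD
import Groth.Agent.Lib.Helper25QIsoF

/-!
# Quasi-isotriviality, part G: étale-local diagonalisation at a point (helper25)

`exists_etale_nbhd_diag`: if `A` is diagonalisable of constant type `M` over a faithfully flat
`R'` and over a field `K` over `R`, then there is an étale `R`-algebra `C'` with a point
`C' → K` over which `A` is diagonalisable.
-/

set_option autoImplicit false
set_option linter.unusedSectionVars false
set_option linter.style.haveILetI false
universe u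

namespace Groth.Agent.Lib.Helper25.HensDiag

open TensorProduct SGA3b Groth.Agent.Lib.Helper25 DescGL Tors LCVal DescLift BCB

section Aux

variable {R : Type u} [CommRing R] {A : Type u} [CommRing A] [HopfAlgebra R A]
  {S : Type u} [CommRing S] [Algebra R S] {M : Type u} [CommGroup M]
  (ε : S ⊗[R] A ≃ₐc[S] MonoidAlgebra S M) (n : ℕ) (J : Ideal A) [J.IsHopfIdeal R]
  (hJ : J = torsionIdeal R A n)

theorem redE_map_mk (z : S ⊗[R] A) :
    redE ε n J hJ (Algebra.TensorProduct.map (AlgHom.id S S) (Ideal.Quotient.mkₐ R J) z) =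
      quotMap S M n (ε z) := by
  induction z using TensorProduct.induction_on with
  | zero => simp
  | add x y hx hy => rw [map_add, map_add, hx, map_add, map_add, hy]
  | tmul s a =>
    have h1 : s ⊗ₜ[R] a = s • ((1 : S) ⊗ₜ[R] a) := by
      rw [TensorProduct.smul_tmul', smul_eq_mul, mul_one]
    rw [h1, map_smul, map_smul, map_smul, map_smul]
    congr 1
    exact redE_one_tmul_mk ε n J hJ a

end Aux

section Aux2

variable {R : Type u} [CommRing R] {A : Type u} [CommRing A] [HopfAlgebra R A]
  (C T : Type u) [CommRing C] [Algebra R C] [CommRing T] [Algebra C T] [Algebra R T]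
  [IsScalarTower R C T]

theorem cancelBC_one_tmul (y : C ⊗[R] A) :
    cancelBC R C T A ((1 : T) ⊗ₜ[C] y) =
      Algebra.TensorProduct.map (IsScalarTower.toAlgHom R C T) (AlgHom.id R A) y := by
  induction y using TensorProduct.induction_on with
  | zero => simp
  | add x y hx hy => rw [TensorProduct.tmul_add, map_add, hx, hy, map_add]
  | tmul c a =>
    rw [cancelBC_tmul, Algebra.TensorProduct.map_tmul, IsScalarTower.coe_toAlgHom',
      Algebra.algebraMap_eq_smul_one]
    rfl

theorem map_mk_comm (J : Ideal A) (f : C →ₐ[R] T) (y : C ⊗[R] A) :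
    Algebra.TensorProduct.map (AlgHom.id T T) (Ideal.Quotient.mkₐ R J)
      (Algebra.TensorProduct.map f (AlgHom.id R A) y) =
    Algebra.TensorProduct.map f (AlgHom.id R (A ⧸ J))
      (Algebra.TensorProduct.map (AlgHom.id C C) (Ideal.Quotient.mkₐ R J) y) := by
  induction y using TensorProduct.induction_on with
  | zero => simp
  | add x y hx hy => rw [map_add, map_add, hx, hy, map_add, map_add]
  | tmul c a => rfl

theorem map_mk_surjective (J : Ideal A) :
    Function.Surjective
      (Algebra.TensorProduct.map (AlgHom.id C C) (Ideal.Quotient.mkₐ R J)) := by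
  intro z
  induction z using TensorProduct.induction_on with
  | zero => exact ⟨0, map_zero _⟩
  | add x y hx hy =>
    obtain ⟨x', rfl⟩ := hx
    obtain ⟨y', rfl⟩ := hy
    exact ⟨x' + y', map_add _ _ _⟩
  | tmul c q =>
    obtain ⟨a, rfl⟩ := Ideal.Quotient.mk_surjective q
    exact ⟨c ⊗ₜ[R] a, rfl⟩

end Aux2

namespace CTriv

section Lifts

variable {R : Type u} [CommRing R] {A : Type u} [CommRing A] [HopfAlgebra R A]
  {M : Type u} [CommGroup M] (V : CTriv R A M) (K : Type u) [Field K] [Algebra R K]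
  (e₀ : K ⊗[R] A ≃ₐc[K] MonoidAlgebra K M)
  (n : ℕ) (J : Ideal A) [J.IsHopfIdeal R] (hJ : J = torsionIdeal R A n)
  (C : Type u) [CommRing C] [Algebra R C] [Algebra C K] [IsScalarTower R C K]
  [Coalgebra.IsCocomm R (A ⧸ J)] {ι : Type} [Fintype ι] (b : ι → A ⧸ J)
  (β : ι → (A ⧸ J) →ₗ[R] R) (hb : ∀ x : A ⧸ J, x = ∑ k, β k x • b k)

include b β hb hJ in
/-- Diagonalisation near the point `C → K` from lifts which are group-like modulo `n`-torsion. -/
theorem nonempty_equiv_away_of_lifts [Group.FG M] [Nonempty V.ι] {S : Finset M}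
    (a : S → C ⊗[R] A)
    (hgl : ∀ s, IsGroupLikeElem C
      (Algebra.TensorProduct.map (AlgHom.id C C) (Ideal.Quotient.mkₐ R J) (a s)))
    (hval : ∀ s : S, redE e₀ n J hJ
      (Algebra.TensorProduct.map (IsScalarTower.toAlgHom R C K) (AlgHom.id R (A ⧸ J))
        (Algebra.TensorProduct.map (AlgHom.id C C) (Ideal.Quotient.mkₐ R J) (a s))) =
      MonoidAlgebra.single (QuotientGroup.mk' (powSub M n) (s : M)) 1)
    (hsep : ∀ φ ∈ (V.stdK K).GSet e₀, ∀ φ' ∈ (V.stdK K).GSet e₀,
      (∀ s : S, QuotientGroup.mk' (powSub M n) (φ (s : M)) =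
        QuotientGroup.mk' (powSub M n) (φ' (s : M))) → φ = φ') :
    ∃ g : C, algebraMap C K g ≠ 0 ∧
      Nonempty (Localization.Away g ⊗[C] (C ⊗[R] A) ≃ₐc[Localization.Away g]
        MonoidAlgebra (Localization.Away g) M) := by
  let LC : (V.bc C).GLifts n S :=
    { a := a
      gl := by
        intro i s
        have h1 : (V.bc C).ε i ((1 : (V.bc C).Q i) ⊗ₜ[C] a s) =
            V.toTriv.bcε i (C ⊗[R] V.Q i) (V.inc C i)
              (Algebra.TensorProduct.map (IsScalarTower.toAlgHom R C (C ⊗[R] V.Q i))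
                (AlgHom.id R A) (a s)) := by
          rw [bc_ε_apply, cancelBC_one_tmul]
        rw [h1, ← redE_map_mk (V.toTriv.bcε i (C ⊗[R] V.Q i) (V.inc C i)) n J hJ, map_mk_comm]
        exact (CartLift.isGroupLikeElem_map b β hb _ (hgl s)).map
          (redE (V.toTriv.bcε i (C ⊗[R] V.Q i) (V.inc C i)) n J hJ) }
  refine V.nonempty_equiv_away_bc K e₀ C LC ?_ hsep
  intro s
  change quotMap K M n (e₀C K e₀ C ((1 : K) ⊗ₜ[C] a s)) = _
  rw [e₀C_apply, cancelBC_one_tmul, ← redE_map_mk e₀ n J hJ, map_mk_comm]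
  exact hval s

end Lifts

end CTriv

section Main

variable {R : Type u} [CommRing R] {A : Type u} [CommRing A] [HopfAlgebra R A]
  {M : Type u} [CommGroup M]

/-- **Theorem QG.** Étale-local diagonalisation at a point: if `A` has constant type `M` over a
faithfully flat `R'` and is diagonalisable of type `M` over a field `K` over `R`, then `A` is
diagonalisable over an étale `R`-algebra with a point in `K`. -/
theorem exists_etale_nbhd_diag [Group.FG M]
    (R' : Type u) [CommRing R'] [Algebra R R'] [Module.FaithfullyFlat R R']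
    (ε : R' ⊗[R] A ≃ₐc[R'] MonoidAlgebra R' M)
    (K : Type u) [Field K] [Algebra R K] (e₀ : K ⊗[R] A ≃ₐc[K] MonoidAlgebra K M) :
    ∃ (C' : Type u) (_ : CommRing C') (_ : Algebra R C'), Algebra.Etale R C' ∧
      Nonempty (C' →ₐ[R] K) ∧ Nonempty (C' ⊗[R] A ≃ₐc[C'] MonoidAlgebra C' M) := by
  classical
  let V : CTriv R A M :=
    { ι := PUnit.{u + 1}
      Q := fun _ => R'
      flat := fun _ => inferInstance
      ff := by
        apply FamDesc.faithfullyFlat_pi
        intro m hm
        exact ⟨PUnit.unit, Module.FaithfullyFlat.submodule_ne_top hm⟩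
      ε := fun _ => ε }
  haveI : Nonempty V.ι := ⟨PUnit.unit⟩
  obtain ⟨S, n, hn, hsep⟩ := exists_sep ((V.stdK K).GSet e₀) ((V.stdK K).finite_GSet e₀)
  haveI := V.isCocomm
  haveI : (torsionIdeal R A n).IsHopfIdeal R := TorsHopf.isHopfIdeal_torsionIdeal R A n
  haveI : Coalgebra.IsCocomm R (A ⧸ torsionIdeal R A n) := isCocomm_quot _
  obtain ⟨hfin, hproj⟩ := finite_projective_quot V n (torsionIdeal R A n) rfl hn
  haveI := hfin
  haveI := hproj
  obtain ⟨k, b, β, hb⟩ := exists_dual_basis (R := R) (A ⧸ torsionIdeal R A n)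
  haveI : Finite (M ⧸ powSub M n) := finite_quot_powSub M n hn
  haveI : Algebra.Etale R (CartLift.E R (A ⧸ torsionIdeal R A n)) :=
    CartLift.etale_E b β hb R' (redE ε n (torsionIdeal R A n) rfl)
  let G : M → K ⊗[R] (A ⧸ torsionIdeal R A n) := fun m =>
    (redE e₀ n (torsionIdeal R A n) rfl).symm
      (MonoidAlgebra.single (QuotientGroup.mk' (powSub M n) m) 1)
  have hG : ∀ m, IsGroupLikeElem K (G m) := fun m =>
    (MonoidAlgebra.isGroupLikeElem_single_one _).map (redE e₀ n (torsionIdeal R A n) rfl).symm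
  obtain ⟨C, _, _, π, g, hetC, hg⟩ := CartLift.exists_etale_nbhd b β hb K G S (fun s _ => hG s)
  letI : Algebra C K := π.toRingHom.toAlgebra
  haveI : IsScalarTower R C K := IsScalarTower.of_algebraMap_eq (fun r => (π.commutes r).symm)
  have hπ : IsScalarTower.toAlgHom R C K = π := AlgHom.ext (fun _ => rfl)
  have hlift : ∀ s : S, ∃ a : C ⊗[R] A, Algebra.TensorProduct.map (AlgHom.id C C)
      (Ideal.Quotient.mkₐ R (torsionIdeal R A n)) a = g s :=
    fun s => map_mk_surjective C _ (g s)
  choose a ha using hlift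
  obtain ⟨g₀, hg₀, ⟨E⟩⟩ := V.nonempty_equiv_away_of_lifts K e₀ n (torsionIdeal R A n) rfl C
    b β hb a
    (fun s => by rw [ha]; exact (hg s s.2).1)
    (fun s => by rw [ha, hπ, (hg s s.2).2]; exact BialgEquiv.apply_symm_apply _ _) hsep
  haveI := hetC
  refine ⟨Localization.Away g₀, inferInstance, inferInstance, inferInstance, ⟨?_⟩,
    ⟨(cancelBC R C (Localization.Away g₀) A).symm.trans E⟩⟩
  refine IsLocalization.liftAlgHom (M := Submonoid.powers g₀) (f := π) ?_
  rintro ⟨y, j, rfl⟩
  rw [map_pow]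
  exact (IsUnit.mk0 _ hg₀).pow j

end Main

end Groth.Agent.Lib.Helper25.HensDiag
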