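import Groth.Agent.Lib.Helper25NormalTriv

/-!
# Helper25QuotNormal: quotients by normal subgroups (helper25)

* `isHopfIdeal_map_mk`, `isNormalHopfIdeal_map_mk`: the image of a (normal) Hopf ideal in a
  quotient Hopf algebra.
* `eq_augIdealSpan_coinvSub`: a normal Hopf ideal `I` of a commutative Hopf algebra over a field is
  generated by the augmentation ideal of its algebra of coinvariants `A^{co A/I}`.
* `eq_augIdealSpan_iff`: the correspondence between sub-Hopf-algebras and normal Hopf ideals.
* `exists_comod_kernel_eq`: a normal algebraic subgroup is the kernel of a finite-dimensional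
  representation.
-/

set_option autoImplicit false
universe u v w w'

namespace Groth.Agent.Lib.Helper25

open TensorProduct HopfRep WithConv

section Transfer

variable {k A : Type u} [Field k] [CommRing A] [HopfAlgebra k A]
variable (I' I : Ideal A) [I'.IsHopfIdeal k] [I.IsHopfIdeal k]

theorem mem_map_mk_iff (hle : I' ≤ I) (a : A) :
    Ideal.Quotient.mk I' a ∈ I.map (Ideal.Quotient.mk I') ↔ a ∈ I :=
  Ideal.mem_quotient_iff_mem hle

theorem isHopfIdeal_map_mk : (I.map (Ideal.Quotient.mk I')).IsHopfIdeal k := by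
  have hco : (I.restrictScalars k).IsCoideal := inferInstance
  change (Ideal.span ((Ideal.Quotient.mk I') '' (I : Set A))).IsHopfIdeal k
  apply isHopfIdeal_span_of
  · rintro _ ⟨a, ha, rfl⟩
    rw [Bialgebra.Quotient.counit_mk]
    exact hco.counit_eq_zero ha
  · rintro _ ⟨a, ha, rfl⟩
    rw [Bialgebra.Quotient.comul_mk]
    have h := ((Submodule.isCoideal_iff_comul_mem (I.restrictScalars k)).mp hco).2 a ha
    obtain ⟨y, hy, z, hz, hyz⟩ := Submodule.mem_sup.mp h
    rw [← hyz, map_add]
    clear hyz h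
    refine Submodule.add_mem _ (Submodule.mem_sup_left ?_) (Submodule.mem_sup_right ?_)
    · obtain ⟨y', rfl⟩ := hy
      induction y' using TensorProduct.induction_on with
      | zero => simp
      | add x y hx hy => rw [map_add, map_add]; exact Submodule.add_mem _ hx hy
      | tmul a' i =>
        refine ⟨(Ideal.Quotient.mk I' a') ⊗ₜ[k] ⟨Ideal.Quotient.mk I' (i : A), ?_⟩, ?_⟩
        · exact Ideal.subset_span ⟨(i : A), i.2, rfl⟩
        · simp
    · obtain ⟨z', rfl⟩ := hz
      induction z' using TensorProduct.induction_on with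
      | zero => simp
      | add x y hx hy => rw [map_add, map_add]; exact Submodule.add_mem _ hx hy
      | tmul i a' =>
        refine ⟨⟨Ideal.Quotient.mk I' (i : A), ?_⟩ ⊗ₜ[k] (Ideal.Quotient.mk I' a'), ?_⟩
        · exact Ideal.subset_span ⟨(i : A), i.2, rfl⟩
        · simp
  · rintro _ ⟨a, ha, rfl⟩
    rw [HopfAlgebra.Quotient.antipode_mk]
    exact Ideal.subset_span ⟨_, Ideal.IsHopfIdeal.antipode_mem (R := k) ha, rfl⟩

end Transfer

section Transfer2

variable {k A : Type u} [Field k] [CommRing A] [HopfAlgebra k A]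
variable (I' I : Ideal A) [I'.IsHopfIdeal k] [I.IsHopfIdeal k]
variable {R : Type u} [CommRing R] [Algebra k R]

/-- Pulling back a product of points along the quotient map. -/
theorem convMul_comp_mk (f g : WithConv ((A ⧸ I') →ₐ[k] R)) :
    toConv ((f * g).ofConv.comp (Ideal.Quotient.mkₐ k I')) =
      toConv (f.ofConv.comp (Ideal.Quotient.mkₐ k I')) *
        toConv (g.ofConv.comp (Ideal.Quotient.mkₐ k I')) := by
  have := AlgHom.convMul_comp_bialgHom_distrib f g (Bialgebra.Quotient.mkBialgHom (R := k) I')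
  apply ofConv_injective
  exact this

theorem antipode_comp_mk (g : (A ⧸ I') →ₐ[k] R) :
    (g.comp (HopfAlgebra.antipodeAlgHom k (A ⧸ I'))).comp (Ideal.Quotient.mkₐ k I') =
      (g.comp (Ideal.Quotient.mkₐ k I')).comp (HopfAlgebra.antipodeAlgHom k A) := by
  apply AlgHom.ext
  intro a
  rfl

theorem isNormalHopfIdeal_map_mk (hle : I' ≤ I) (hI : SGA3.IsNormalHopfIdeal k A I) :
    SGA3.IsNormalHopfIdeal k (A ⧸ I') (I.map (Ideal.Quotient.mk I')) := by
  intro R _ _ g h hh q hq
  obtain ⟨a, rfl⟩ := Ideal.Quotient.mk_surjective q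
  have ha : a ∈ I := (mem_map_mk_iff I' I hle a).mp hq
  have key := hI R (g.comp (Ideal.Quotient.mkₐ k I')) (h.comp (Ideal.Quotient.mkₐ k I'))
    (fun a ha => hh _ ((mem_map_mk_iff I' I hle a).mpr ha)) a ha
  rw [conv3_eq] at key ⊢
  have e : toConv ((toConv g * toConv h *
      toConv (g.comp (HopfAlgebra.antipodeAlgHom k (A ⧸ I')))).ofConv.comp
        (Ideal.Quotient.mkₐ k I')) =
      toConv (g.comp (Ideal.Quotient.mkₐ k I')) * toConv (h.comp (Ideal.Quotient.mkₐ k I')) *
        toConv ((g.comp (Ideal.Quotient.mkₐ k I')).comp (HopfAlgebra.antipodeAlgHom k A)) := by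
    rw [convMul_comp_mk, convMul_comp_mk]
    simp only [ofConv_toConv]
    rw [antipode_comp_mk]
  rw [← e] at key
  exact key

/-- Coinvariants in the quotient `A ⧸ I'` under the image of `I` satisfy the invariance
hypothesis of the quotient lemma. -/
theorem apply_convMul_of_mk_mem_coinvSub (hle : I' ≤ I)
    [hJ : (I.map (Ideal.Quotient.mk I')).IsHopfIdeal k] (x : A)
    (hx : Ideal.Quotient.mk I' x ∈ coinvSub k (I.map (Ideal.Quotient.mk I')))
    (g n : WithConv (A →ₐ[k] R)) (hg : ∀ a ∈ I', g.ofConv a = 0) (hn : Kills I n) :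
    (g * n).ofConv x = g.ofConv x := by
  set g' : WithConv ((A ⧸ I') →ₐ[k] R) := toConv (Ideal.Quotient.liftₐ I' g.ofConv hg) with hg'
  set n' : WithConv ((A ⧸ I') →ₐ[k] R) :=
    toConv (Ideal.Quotient.liftₐ I' n.ofConv (fun a ha => hn a (hle ha))) with hn'
  have e1 : toConv (g'.ofConv.comp (Ideal.Quotient.mkₐ k I')) = g := by
    apply ofConv_injective
    apply AlgHom.ext
    intro a
    simp [hg']
  have e2 : toConv (n'.ofConv.comp (Ideal.Quotient.mkₐ k I')) = n := by
    apply ofConv_injective
    apply AlgHom.ext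
    intro a
    simp [hn']
  have hkn : Kills (I.map (Ideal.Quotient.mk I')) n' := by
    intro q hq
    obtain ⟨a, rfl⟩ := Ideal.Quotient.mk_surjective q
    have ha : a ∈ I := (mem_map_mk_iff I' I hle a).mp hq
    simp only [hn', ofConv_toConv]
    have : (Ideal.Quotient.liftₐ I' n.ofConv (fun a ha => hn a (hle ha)))
        (Ideal.Quotient.mk I' a) = n.ofConv a := by simp
    rw [this]
    exact hn a ha
  have key := convMul_apply_of_mem_coinvSub (I.map (Ideal.Quotient.mk I')) hx g' n' hkn
  have e3 := convMul_comp_mk I' g' n'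
  rw [e1, e2] at e3
  rw [← e3]
  simp only [ofConv_toConv, AlgHom.comp_apply, Ideal.Quotient.mkₐ_eq_mk]
  rw [key]
  simp [hg']

end Transfer2

section Main

variable {k A : Type u} [Field k] [CommRing A] [HopfAlgebra k A]
variable (I : Ideal A) [I.IsHopfIdeal k]

theorem mk_eq_counit_of_mem_coinvSub {c : A} (hc : c ∈ coinvSub k I) :
    Ideal.Quotient.mk I c = algebraMap k (A ⧸ I) (CoalgebraStruct.counit (R := k) c) := by
  have h := (mem_coinvSub (k := k) I).mp hc
  have h1 := congrArg (lslice (CoalgebraStruct.counit (R := k) (A := A))) h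
  rw [lslice_lTensor, lslice_tmul] at h1
  have h2 : lslice (CoalgebraStruct.counit (R := k) (A := A))
      (CoalgebraStruct.comul (R := k) c) = c := by
    unfold lslice
    rw [LinearMap.comp_apply, Coalgebra.rTensor_counit_comul]
    simp
  rw [h2] at h1
  rw [Algebra.algebraMap_eq_smul_one, ← h1]
  rfl

theorem augIdealSpan_coinvSub_le : SGA3.augIdealSpan k A (coinvSub k I) ≤ I := by
  unfold SGA3.augIdealSpan
  rw [Ideal.span_le]
  rintro c ⟨hc, hε⟩
  have := mk_eq_counit_of_mem_coinvSub (k := k) I hc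
  rw [hε, map_zero] at this
  exact Ideal.Quotient.eq_zero_iff_mem.mp this

/-- A normal Hopf ideal is generated by the augmentation ideal of its algebra of
coinvariants. -/
theorem eq_augIdealSpan_coinvSub (hI : SGA3.IsNormalHopfIdeal k A I) :
    I = SGA3.augIdealSpan k A (coinvSub k I) := by
  apply le_antisymm _ (augIdealSpan_coinvSub_le (k := k) I)
  have hC := isHopfSubalgebra_coinvSub I hI
  haveI hI' : (SGA3.augIdealSpan k A (coinvSub k I)).IsHopfIdeal k :=
    isHopfIdeal_augIdealSpan _ hC
  have hle := augIdealSpan_coinvSub_le (k := k) I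
  haveI hJ := isHopfIdeal_map_mk (k := k) (SGA3.augIdealSpan k A (coinvSub k I)) I
  have hJn := isNormalHopfIdeal_map_mk (SGA3.augIdealSpan k A (coinvSub k I)) I hle hI
  have hbot := eq_bot_of_coinvSub_trivial
    (I.map (Ideal.Quotient.mk (SGA3.augIdealSpan k A (coinvSub k I)))) hJn (by
      intro q hq
      obtain ⟨x, rfl⟩ := Ideal.Quotient.mk_surjective q
      refine ⟨CoalgebraStruct.counit (R := k) x, ?_⟩
      have h1 := sub_counit_mem_of_forall I hI x (fun R _ _ g n hg hn =>
        apply_convMul_of_mk_mem_coinvSub (SGA3.augIdealSpan k A (coinvSub k I)) I hle x hq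
          g n hg hn)
      have h2 := Ideal.Quotient.eq_zero_iff_mem.mpr h1
      rw [map_sub, sub_eq_zero] at h2
      rw [h2]
      rfl)
  intro a ha
  have h1 : Ideal.Quotient.mk (SGA3.augIdealSpan k A (coinvSub k I)) a ∈
      I.map (Ideal.Quotient.mk (SGA3.augIdealSpan k A (coinvSub k I))) :=
    Ideal.mem_map_of_mem _ ha
  rw [hbot, Ideal.mem_bot] at h1
  exact Ideal.Quotient.eq_zero_iff_mem.mp h1

end Main

section Corr

variable {k A : Type u} [Field k] [CommRing A] [HopfAlgebra k A]

theorem mem_coinvSub_iff_comul_sub_mem (J : Ideal A) [J.IsHopfIdeal k] (x : A) :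
    x ∈ coinvSub k J ↔ CoalgebraStruct.comul (R := k) x - x ⊗ₜ[k] (1 : A) ∈
      LinearMap.range (LinearMap.lTensor A (J.restrictScalars k).subtype) := by
  rw [range_lTensor_eq_ker, LinearMap.mem_ker, map_sub, sub_eq_zero, mem_coinvSub,
    LinearMap.lTensor_tmul]
  simp

/-- The correspondence between sub-Hopf-algebras and normal Hopf ideals. -/
theorem eq_augIdealSpan_iff (B : Subalgebra k A) (hB : SGA3.IsHopfSubalgebra k A B)
    (J : Ideal A) [J.IsHopfIdeal k] (hJ : SGA3.IsNormalHopfIdeal k A J) :
    J = SGA3.augIdealSpan k A B ↔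
      (B : Set A) = {x : A | CoalgebraStruct.comul (R := k) (A := A) x - x ⊗ₜ[k] (1 : A) ∈
        LinearMap.range (LinearMap.lTensor A (J.restrictScalars k).subtype)} := by
  constructor
  · intro h
    ext x
    simp only [SetLike.mem_coe, Set.mem_setOf_eq]
    subst h
    exact ⟨fun hx => comul_sub_mem_of_mem B hB.1 x hx,
      fun hx => mem_of_comul_sub_mem B hB.1 hB.2 x hx⟩
  · intro h
    have hBC : B = coinvSub k J := by
      apply SetLike.ext'
      rw [h]
      ext x
      simp only [SetLike.mem_coe, Set.mem_setOf_eq]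
      exact (mem_coinvSub_iff_comul_sub_mem J x).symm
    rw [hBC]
    exact eq_augIdealSpan_coinvSub J hJ

end Corr

section KernelRep

variable {k A : Type u} [Field k] [CommRing A] [HopfAlgebra k A]

theorem isSubcomod_coinvSub (I : Ideal A) [I.IsHopfIdeal k] (hI : SGA3.IsNormalHopfIdeal k A I) :
    IsSubcomod (k := k) (A := A) (V := A) (Subalgebra.toSubmodule (coinvSub k I)) := by
  intro c hc
  obtain ⟨y, hy⟩ := comul_mem_of_mem_coinvSub I hI hc
  refine ⟨(coinvSub k I).val.toLinearMap.lTensor _ y, ?_⟩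
  change _ = CoalgebraStruct.comul (R := k) c
  rw [← hy, ← LinearMap.comp_apply, LinearMap.rTensor_comp_lTensor]
  rfl

/-- For an element `c` with `(id ⊗ π_J)(Δ c) = c ⊗ 1`, `π_J c = ε c`. -/
theorem mk_eq_counit_of_lTensor_eq (J : Ideal A) {c : A}
    (h : (Ideal.Quotient.mkₐ k J).toLinearMap.lTensor A (CoalgebraStruct.comul (R := k) c) =
      c ⊗ₜ[k] (1 : A ⧸ J)) :
    Ideal.Quotient.mk J c = algebraMap k (A ⧸ J) (CoalgebraStruct.counit (R := k) c) := by
  have h1 := congrArg (lslice (CoalgebraStruct.counit (R := k) (A := A))) h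
  rw [lslice_lTensor, lslice_tmul] at h1
  have h2 : lslice (CoalgebraStruct.counit (R := k) (A := A))
      (CoalgebraStruct.comul (R := k) c) = c := by
    unfold lslice
    rw [LinearMap.comp_apply, Coalgebra.rTensor_counit_comul]
    simp
  rw [h2] at h1
  rw [Algebra.algebraMap_eq_smul_one, ← h1]
  rfl

/-- A normal algebraic subgroup is the kernel of a finite-dimensional representation. -/
theorem exists_comod_kernel_eq [Algebra.FiniteType k A] (I : Ideal A) [I.IsHopfIdeal k]
    (hI : SGA3.IsNormalHopfIdeal k A I) :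
    ∃ (V : Type u) (_ : AddCommGroup V) (_ : Module k V) (_ : HopfRep.Comod k A V),
      Module.Finite k V ∧
      ∀ J : Ideal A, I ≤ J ↔ ∀ v : V,
        LinearMap.lTensor V (Ideal.Quotient.mkₐ k J).toLinearMap
          (HopfRep.Comod.coact (k := k) (A := A) v) = v ⊗ₜ[k] (1 : A ⧸ J) := by
  classical
  have hIeq := eq_augIdealSpan_coinvSub I hI
  haveI : IsNoetherianRing A := Algebra.FiniteType.isNoetherianRing k A
  have hfg : I.FG := IsNoetherian.noetherian I
  rw [hIeq] at hfg
  unfold SGA3.augIdealSpan at hfg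
  obtain ⟨s, hs_sub, hs_eq⟩ := (Submodule.fg_span_iff_fg_span_finset_subset _).mp hfg
  have hle : Submodule.span k (s : Set A) ≤ Subalgebra.toSubmodule (coinvSub k I) := by
    rw [Submodule.span_le]
    intro c hc
    exact (hs_sub hc).1
  obtain ⟨U, hUfg, hUsub, hsU, hUC⟩ := exists_fg_subcomod_between (k := k) (A := A) (V := A)
    (Submodule.span k (s : Set A)) (Subalgebra.toSubmodule (coinvSub k I))
    (Submodule.fg_span s.finite_toSet) (isSubcomod_coinvSub I hI) hle
  letI := subComod U hUsub
  refine ⟨U, inferInstance, inferInstance, subComod U hUsub, Module.Finite.iff_fg.mpr hUfg, ?_⟩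
  intro J
  have hinj : Function.Injective (U.subtype.rTensor (A ⧸ J)) :=
    Module.Flat.rTensor_preserves_injective_linearMap _ U.subtype_injective
  have hkey : ∀ v : U, U.subtype.rTensor (A ⧸ J)
      (LinearMap.lTensor U (Ideal.Quotient.mkₐ k J).toLinearMap
        (HopfRep.Comod.coact (k := k) (A := A) v)) =
      (Ideal.Quotient.mkₐ k J).toLinearMap.lTensor A (CoalgebraStruct.comul (R := k) (v : A)) := by
    intro v
    rw [← LinearMap.comp_apply, LinearMap.rTensor_comp_lTensor, ← LinearMap.lTensor_comp_rTensor,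
      LinearMap.comp_apply]
    have := rTensor_subtype_subCoact U hUsub v
    change U.subtype.rTensor A (HopfRep.Comod.coact (k := k) (A := A) v) = _ at this
    rw [this]
    rfl
  constructor
  · intro hIJ v
    apply hinj
    rw [hkey, LinearMap.rTensor_tmul, Submodule.subtype_apply]
    have hv : (v : A) ∈ coinvSub k I := hUC v.2
    have h1 := (mem_coinvSub (k := k) I).mp hv
    have e : (Ideal.Quotient.mkₐ k J).toLinearMap =
        (Ideal.Quotient.factorₐ k hIJ).toLinearMap ∘ₗ (Ideal.Quotient.mkₐ k I).toLinearMap := by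
      ext a
      rfl
    rw [e, LinearMap.lTensor_comp, LinearMap.comp_apply, h1, LinearMap.lTensor_tmul]
    simp
  · intro h
    rw [hIeq]
    unfold SGA3.augIdealSpan
    change Submodule.span A _ ≤ J
    rw [hs_eq]
    change Ideal.span _ ≤ J
    rw [Ideal.span_le]
    intro c hc
    have hcU : c ∈ U := hsU (Submodule.subset_span hc)
    obtain ⟨-, hcε⟩ := hs_sub hc
    have h1 := congrArg (U.subtype.rTensor (A ⧸ J)) (h ⟨c, hcU⟩)
    rw [hkey, LinearMap.rTensor_tmul, Submodule.subtype_apply] at h1
    have h2 := mk_eq_counit_of_lTensor_eq J h1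
    rw [hcε, map_zero] at h2
    exact Ideal.Quotient.eq_zero_iff_mem.mp h2

end KernelRep

end Groth.Agent.Lib.Helper25
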