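import Mathlib
import Groth.Prelude.Def_RootCh
import Groth.Prelude.Def_RootCh2

/-!
# Root chambers (Behrend): bases, chambers, fundamental weights — part 1
-/

set_option autoImplicit false

namespace Groth.Agent.Lib.Helper25.RC

open RootCh Module Submodule IsAddIndecomposable

variable {ι : Type*} {R : Type*} {M : Type*} {N : Type*}
  [Field R] [LinearOrder R] [IsStrictOrderedRing R]
  [AddCommGroup M] [Module R M] [AddCommGroup N] [Module R N] [Finite ι]

section Regular

/-- A regular vector `y ∈ N` (pairing nontrivially with all roots) determines a base whose simple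
roots are all positive on `y`. -/
theorem exists_base_of_regular' (Q : RootPairing ι R M N) [Q.IsRootSystem] [Q.IsCrystallographic]
    [Q.IsReduced] (y : N) (h : ∀ k, Q.root' k y ≠ 0) :
    ∃ b : Q.Base, ∀ i ∈ b.support, 0 < Q.root' i y := by
  classical
  let f : Module.Dual R M := Q.toLinearMap.flip y
  have hf : ∀ i, f (Q.root i) ≠ 0 := fun i => h i
  let _i := Q.indexNeg
  have hli := Q.linearIndepOn_root_baseOf' (S := R) f hf
  have hsp : ∀ i, Q.root i ∈ AddSubmonoid.closure (Q.root '' baseOf Q.root (f : M →+ R)) ∨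
      -Q.root i ∈ AddSubmonoid.closure (Q.root '' baseOf Q.root (f : M →+ R)) :=
    fun i => mem_or_neg_mem_closure_baseOf Q.root (f : M →+ R) i (hf i) (by simp)
  refine ⟨RootPairing.Base.mk' Q (baseOf Q.root (f : M →+ R)) hli hsp, fun i hi => ?_⟩
  have hi' : i ∈ baseOf Q.root (f : M →+ R) := by
    simpa [RootPairing.Base.mk'] using hi
  exact baseOf_subset_pos Q.root (f : M →+ R) hi'

variable {P : RootPairing ι R M N} [P.IsRootSystem] [P.IsCrystallographic] [P.IsReduced]

/-- A regular vector of `M` lies in the open chamber of some base. -/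
theorem exists_base_of_regular (ξ : M) (h : ∀ k, P.coroot' k ξ ≠ 0) :
    ∃ b : P.Base, ξ ∈ openChamber b := by
  obtain ⟨b', hb'⟩ := exists_base_of_regular' P.flip ξ (fun k => h k)
  exact ⟨b'.flip, fun i hi => hb' i hi⟩

end Regular


section Expansion

variable {P : RootPairing ι R M N} [P.IsRootSystem] (b : P.Base)

/-- Vectors of `M` are determined by their pairings with the simple coroots. -/
lemma eq_of_forall_coroot'_eq {ξ ζ : M} (h : ∀ i : b.support, P.coroot' i ξ = P.coroot' i ζ) :
    ξ = ζ := by
  apply P.toLinearMap.toPerfPair.injective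
  apply b.toCoweightBasis.ext
  intro i
  simpa using h i

lemma coroot'_fundWeight [DecidableEq ι] (i j : b.support) :
    P.coroot' j (fundWeight b i) = if j = i then 1 else 0 := by
  split_ifs with h
  · subst h; exact coroot'_fundWeight_self b j
  · exact coroot'_fundWeight_of_ne b i j h

lemma fundWeight_expansion (ξ : M) :
    ξ = ∑ i : b.support, P.coroot' i ξ • fundWeight b i := by
  classical
  apply eq_of_forall_coroot'_eq b
  intro j
  rw [map_sum]
  simp only [map_smul, smul_eq_mul, coroot'_fundWeight, mul_ite, mul_one, mul_zero]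
  rw [Finset.sum_ite_eq]
  simp

lemma fundWeight_ne_zero [Nontrivial R] (i : b.support) : fundWeight b i ≠ 0 := by
  intro h
  have := coroot'_fundWeight_self b i
  rw [h, map_zero] at this
  exact zero_ne_one this

lemma linearIndependent_fundWeight : LinearIndependent R (fundWeight b) := by
  classical
  rw [Fintype.linearIndependent_iff]
  intro g hg j
  have := congrArg (P.coroot' j) hg
  rw [map_sum, map_zero] at this
  simp only [map_smul, smul_eq_mul, coroot'_fundWeight, mul_ite, mul_one, mul_zero] at this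
  rw [Finset.sum_ite_eq] at this
  simpa using this

lemma fundWeight_injective [Nontrivial R] : Function.Injective (fundWeight b) :=
  (linearIndependent_fundWeight b).injective

/-- `ρ_b`, the sum of the fundamental weights. -/
noncomputable def rho : M := ∑ i : b.support, fundWeight b i

lemma coroot'_rho (j : b.support) : P.coroot' j (rho b) = 1 := by
  classical
  unfold rho
  rw [map_sum]
  simp only [coroot'_fundWeight]
  rw [Finset.sum_ite_eq]
  simp

end Expansion


section Signs

variable {P : RootPairing ι R M N} [P.IsRootSystem] (b : P.Base)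

/-- Every coroot is `±` a natural combination of the simple coroots. -/
lemma exists_coroot_eq (k : ι) : ∃ (n : b.support → ℕ) (ε : R), (ε = 1 ∨ ε = -1) ∧
    (∃ i, n i ≠ 0) ∧
    ∀ ξ : M, P.coroot' k ξ = ε * ∑ i : b.support, (n i : R) * P.coroot' i ξ := by
  classical
  obtain ⟨f, -, hf⟩ := b.flip.exists_root_eq_sum_nat_or_neg k
  have hne : ∃ i : b.support, f i ≠ 0 := by
    by_contra hcon
    push Not at hcon
    have h0 : ∑ j ∈ b.support, f j • P.flip.root j = 0 := by
      apply Finset.sum_eq_zero
      intro j hj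
      have := hcon ⟨j, hj⟩
      simp only at this
      rw [this, zero_smul]
    have hk : P.flip.root k = 0 := by
      rcases hf with hf | hf
      · rw [hf]; exact h0
      · rw [hf, RootPairing.Base.flip_support] at *
        rw [h0, neg_zero]
    exact P.flip.ne_zero k hk
  have hsum : ∀ ξ : M, P.toLinearMap ξ (∑ j ∈ b.support, f j • P.coroot j)
      = ∑ i : b.support, (f i : R) * P.coroot' i ξ := by
    intro ξ
    rw [map_sum, ← Finset.sum_coe_sort]
    refine Finset.sum_congr rfl fun i _ => ?_
    rw [← Nat.cast_smul_eq_nsmul R, map_smul, smul_eq_mul]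
    rfl
  rcases hf with hf | hf
  · refine ⟨fun i => f i, 1, Or.inl rfl, hne, fun ξ => ?_⟩
    rw [one_mul, ← hsum]
    show P.toLinearMap ξ (P.coroot k) = _
    congr 1
  · refine ⟨fun i => f i, -1, Or.inr rfl, hne, fun ξ => ?_⟩
    rw [← hsum, neg_one_mul, ← map_neg]
    show P.toLinearMap ξ (P.coroot k) = _
    congr 1


lemma mem_closedChamber_iff {ξ : M} :
    ξ ∈ closedChamber b ↔ ∀ i : b.support, 0 ≤ P.coroot' i ξ :=
  ⟨fun h i => h i i.2, fun h i hi => h ⟨i, hi⟩⟩

lemma mem_openChamber_iff {ξ : M} :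
    ξ ∈ openChamber b ↔ ∀ i : b.support, 0 < P.coroot' i ξ :=
  ⟨fun h i => h i i.2, fun h i hi => h ⟨i, hi⟩⟩

lemma openChamber_subset_closedChamber : openChamber b ⊆ closedChamber b :=
  fun _ h i hi => (h i hi).le

lemma rho_mem_openChamber : rho b ∈ openChamber b := by
  rw [mem_openChamber_iff]
  intro i
  rw [coroot'_rho]
  exact zero_lt_one

lemma fundWeight_mem_closedChamber (i : b.support) : fundWeight b i ∈ closedChamber b := by
  classical
  rw [mem_closedChamber_iff]
  intro j
  rw [coroot'_fundWeight]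
  split_ifs <;> simp

/-- The sign pattern of a vector of the closed chamber only depends on which simple coroots
vanish on it. -/
lemma sgnVec_eq_of_closedChamber {ξ ζ : M} (hξ : ξ ∈ closedChamber b) (hζ : ζ ∈ closedChamber b)
    (h : ∀ i : b.support, P.coroot' i ξ = 0 ↔ P.coroot' i ζ = 0) : sgnVec P ξ = sgnVec P ζ := by
  classical
  rw [mem_closedChamber_iff] at hξ hζ
  ext k
  obtain ⟨n, ε, -, -, hk⟩ := exists_coroot_eq b k
  unfold sgnVec
  rw [hk ξ, hk ζ, sign_mul, sign_mul]
  congr 1
  have hnn : ∀ (η : M), (∀ i : b.support, 0 ≤ P.coroot' i η) →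
      ∀ i ∈ (Finset.univ : Finset b.support), 0 ≤ (n i : R) * P.coroot' i η :=
    fun η hη i _ => mul_nonneg (Nat.cast_nonneg _) (hη i)
  have hz : ∀ (η : M), (∀ i : b.support, 0 ≤ P.coroot' i η) →
      ((∑ i : b.support, (n i : R) * P.coroot' i η = 0) ↔
        ∀ i : b.support, n i = 0 ∨ P.coroot' i η = 0) := by
    intro η hη
    rw [Finset.sum_eq_zero_iff_of_nonneg (hnn η hη)]
    constructor
    · intro h' i
      have := h' i (Finset.mem_univ i)
      rcases mul_eq_zero.mp this with h1 | h1
      · left; exact_mod_cast h1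
      · right; exact h1
    · intro h' i _
      rcases h' i with h1 | h1
      · rw [h1]; simp
      · rw [h1]; simp
  have hiff : (∑ i : b.support, (n i : R) * P.coroot' i ξ = 0) ↔
      (∑ i : b.support, (n i : R) * P.coroot' i ζ = 0) := by
    rw [hz ξ hξ, hz ζ hζ]
    exact forall_congr' fun i => or_congr Iff.rfl (h i)
  have hξ0 : 0 ≤ ∑ i : b.support, (n i : R) * P.coroot' i ξ := Finset.sum_nonneg (hnn ξ hξ)
  have hζ0 : 0 ≤ ∑ i : b.support, (n i : R) * P.coroot' i ζ := Finset.sum_nonneg (hnn ζ hζ)
  by_cases h0 : ∑ i : b.support, (n i : R) * P.coroot' i ξ = 0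
  · rw [h0, hiff.mp h0]
  · have h0' : ∑ i : b.support, (n i : R) * P.coroot' i ζ ≠ 0 := fun h' => h0 (hiff.mpr h')
    rw [sign_pos (lt_of_le_of_ne hξ0 (Ne.symm h0)), sign_pos (lt_of_le_of_ne hζ0 (Ne.symm h0'))]

lemma sgnVec_closedChamber_cases {ξ : M} (hξ : ξ ∈ closedChamber b) (k : ι) :
    sgnVec P ξ k = 0 ∨ sgnVec P ξ k = sgnVec P (rho b) k := by
  classical
  rw [mem_closedChamber_iff] at hξ
  obtain ⟨n, ε, -, ⟨i0, hi0⟩, hk⟩ := exists_coroot_eq b k
  unfold sgnVec
  rw [hk ξ, hk (rho b), sign_mul, sign_mul]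
  have h1 : 0 ≤ ∑ i : b.support, (n i : R) * P.coroot' i ξ :=
    Finset.sum_nonneg fun i _ => mul_nonneg (Nat.cast_nonneg _) (hξ i)
  have h2 : 0 < ∑ i : b.support, (n i : R) * P.coroot' i (rho b) := by
    simp only [coroot'_rho, mul_one]
    have : 0 < (n i0 : R) := by exact_mod_cast Nat.pos_of_ne_zero hi0
    exact lt_of_lt_of_le this
      (Finset.single_le_sum (f := fun i => (n i : R)) (fun i _ => Nat.cast_nonneg _)
        (Finset.mem_univ i0))
  rw [sign_pos h2, mul_one]
  rcases h1.eq_or_lt with h0 | h0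
  · left; rw [← h0]; simp
  · right; rw [sign_pos h0, mul_one]

lemma sgnVec_eq_of_mem_openChamber {ξ : M} (hξ : ξ ∈ openChamber b) :
    sgnVec P ξ = sgnVec P (rho b) := by
  apply sgnVec_eq_of_closedChamber b (openChamber_subset_closedChamber b hξ)
    (openChamber_subset_closedChamber b (rho_mem_openChamber b))
  intro i
  rw [mem_openChamber_iff] at hξ
  have h1 := (hξ i).ne'
  have h2 : P.coroot' i (rho b) ≠ 0 := by rw [coroot'_rho]; exact one_ne_zero
  exact ⟨fun h => absurd h h1, fun h => absurd h h2⟩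

lemma sgnVec_rho_ne_zero (k : ι) : sgnVec P (rho b) k ≠ 0 := by
  classical
  obtain ⟨n, ε, hε, ⟨i0, hi0⟩, hk⟩ := exists_coroot_eq b k
  unfold sgnVec
  rw [hk (rho b)]
  simp only [coroot'_rho, mul_one]
  have h2 : 0 < ∑ i : b.support, (n i : R) := by
    have : 0 < (n i0 : R) := by exact_mod_cast Nat.pos_of_ne_zero hi0
    exact lt_of_lt_of_le this
      (Finset.single_le_sum (f := fun i => (n i : R)) (fun i _ => Nat.cast_nonneg _)
        (Finset.mem_univ i0))
  rw [sign_mul, sign_pos h2, mul_one]
  rcases hε with rfl | rfl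
  · simp
  · simp

end Signs

end Groth.Agent.Lib.Helper25.RC
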