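import Mathlib
import Groth.Agent.Lib.Helper25RCBase

/-!
# Root chambers (Behrend), part 2: every vector lies in a closed chamber; facets and chambers
-/

set_option autoImplicit false

namespace Groth.Agent.Lib.Helper25.RC

open RootCh Module Submodule

variable {ι : Type*} {R : Type*} {M : Type*} {N : Type*}
  [Field R] [LinearOrder R] [IsStrictOrderedRing R]
  [AddCommGroup M] [Module R M] [AddCommGroup N] [Module R N] [Finite ι]

lemma exists_pos_lt_finset {α : Type*} (s : Finset α) (f : α → R) (hf : ∀ a ∈ s, 0 < f a) :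
    ∃ ε : R, 0 < ε ∧ ∀ a ∈ s, ε < f a := by
  classical
  induction s using Finset.induction_on with
  | empty => exact ⟨1, one_pos, by simp⟩
  | insert a s ha ih =>
    obtain ⟨ε, hε, hε'⟩ := ih (fun x hx => hf x (Finset.mem_insert_of_mem hx))
    have hfa := hf a (Finset.mem_insert_self a s)
    refine ⟨min ε (f a / 2), lt_min hε (half_pos hfa), ?_⟩
    intro x hx
    rcases Finset.mem_insert.mp hx with rfl | hx
    · exact lt_of_le_of_lt (min_le_right _ _) (half_lt_self hfa)
    · exact lt_of_le_of_lt (min_le_left _ _) (hε' x hx)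

lemma sign_eq_zero_iff' {a : R} : SignType.sign a = 0 ↔ a = 0 := sign_eq_zero_iff

section Chambers

variable {P : RootPairing ι R M N} [P.IsRootSystem] [P.IsCrystallographic] [P.IsReduced]

/-- Every vector lies in the closed chamber of some base. -/
theorem exists_base_mem_closedChamber (ξ : M) : ∃ b : P.Base, ξ ∈ closedChamber b := by
  classical
  have : Fintype ι := Fintype.ofFinite ι
  obtain ⟨b₀⟩ := P.nonempty_base
  set ρ := rho b₀ with hρ
  have hr : ∀ k, P.coroot' k ρ ≠ 0 := by
    intro k h0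
    have := sgnVec_rho_ne_zero b₀ k
    apply this
    unfold sgnVec
    rw [h0]; simp
  let a : ι → R := fun k => P.coroot' k ξ
  let r : ι → R := fun k => P.coroot' k ρ
  obtain ⟨ε, hε, hε'⟩ := exists_pos_lt_finset (Finset.univ.filter fun k => a k ≠ 0)
    (fun k => |a k| / |r k|)
    (fun k hk => div_pos (abs_pos.mpr (Finset.mem_filter.mp hk).2) (abs_pos.mpr (hr k)))
  have hsmall : ∀ k, a k ≠ 0 → |ε * r k| < |a k| := by
    intro k hk
    have := hε' k (Finset.mem_filter.mpr ⟨Finset.mem_univ k, hk⟩)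
    rw [lt_div_iff₀ (abs_pos.mpr (hr k))] at this
    rwa [abs_mul, abs_of_pos hε]
  set ξ' := ξ + ε • ρ with hξ'
  have hval : ∀ k, P.coroot' k ξ' = a k + ε * r k := by
    intro k
    rw [hξ', map_add, map_smul, smul_eq_mul]
  have hreg : ∀ k, P.coroot' k ξ' ≠ 0 := by
    intro k
    rw [hval]
    by_cases hk : a k = 0
    · rw [hk, zero_add]
      exact mul_ne_zero hε.ne' (hr k)
    · intro h0
      have h1 := hsmall k hk
      have h2 : a k = -(ε * r k) := by linarith
      rw [h2, abs_neg] at h1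
      exact lt_irrefl _ h1
  obtain ⟨b, hb⟩ := exists_base_of_regular ξ' hreg
  refine ⟨b, fun i hi => ?_⟩
  have hpos := hb i hi
  rw [hval] at hpos
  by_contra hneg
  rw [not_le] at hneg
  have hne : a i ≠ 0 := hneg.ne
  have h1 := hsmall i hne
  have h2 : ε * r i ≤ |ε * r i| := le_abs_self _
  have h3 : |a i| = -a i := abs_of_neg hneg
  change P.coroot' i ξ < 0 at hneg
  linarith


omit [P.IsCrystallographic] [P.IsReduced] in
lemma coroot'_nonneg_of_sgnVec {ξ : M} {k : ι} (h : sgnVec P ξ k = 0 ∨ sgnVec P ξ k = 1) :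
    0 ≤ P.coroot' k ξ := by
  rcases h with h | h
  · exact (sign_eq_zero_iff.mp h).ge
  · exact (sign_eq_one_iff.mp h).le

omit [P.IsCrystallographic] [P.IsReduced] in
/-- If one point of a facet lies in the closed chamber of `b`, the whole facet does. -/
lemma mem_cham_of_mem {F : Facet P} {b : P.Base} {ξ : M} (hξ : ξ ∈ F.carrier)
    (hb : ξ ∈ closedChamber b) : b ∈ F.cham := by
  intro ζ hζ i hi
  have h1 : sgnVec P ζ i = sgnVec P ξ i := by
    rw [show sgnVec P ζ = F.sgn from hζ, show sgnVec P ξ = F.sgn from hξ]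
  have h2 : 0 ≤ P.coroot' i ξ := hb i hi
  have h3 : 0 ≤ SignType.sign (P.coroot' i ξ) := sign_nonneg_iff.mpr h2
  have h4 : 0 ≤ SignType.sign (P.coroot' i ζ) := by
    have : SignType.sign (P.coroot' i ζ) = SignType.sign (P.coroot' i ξ) := h1
    rw [this]; exact h3
  exact sign_nonneg_iff.mp h4

omit [P.IsRootSystem] [P.IsCrystallographic] [P.IsReduced] in
lemma carrier_nonempty (F : Facet P) : F.carrier.Nonempty := F.exists_sgnVec_eq

lemma cham_nonempty (F : Facet P) : F.cham.Nonempty := by
  obtain ⟨ξ, hξ⟩ := carrier_nonempty F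
  obtain ⟨b, hb⟩ := exists_base_mem_closedChamber (P := P) ξ
  exact ⟨b, mem_cham_of_mem hξ hb⟩

omit [P.IsCrystallographic] [P.IsReduced] in
lemma sgn_simple_cases {F : Facet P} {b : P.Base} (hb : b ∈ F.cham) (i : b.support) :
    F.sgn i = 0 ∨ F.sgn i = 1 := by
  obtain ⟨ξ, hξ⟩ := carrier_nonempty F
  have h1 : 0 ≤ P.coroot' i ξ := hb hξ i i.2
  have h2 : F.sgn i = SignType.sign (P.coroot' i ξ) := by
    have : sgnVec P ξ = F.sgn := hξ
    rw [← this]; rfl
  rw [h2]
  rcases h1.eq_or_lt with h | h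
  · left; rw [← h]; simp
  · right; exact sign_pos h

omit [P.IsCrystallographic] [P.IsReduced] in
/-- Membership in a facet can be tested on the simple coroots of an adjacent chamber. -/
lemma mem_carrier_iff_of_cham {F : Facet P} {b : P.Base} (hb : b ∈ F.cham) {ξ : M} :
    ξ ∈ F.carrier ↔ ∀ i : b.support, sgnVec P ξ i = F.sgn i := by
  constructor
  · intro h i
    have : sgnVec P ξ = F.sgn := h
    rw [this]
  · intro h
    obtain ⟨ζ, hζ⟩ := carrier_nonempty F
    have hζ' : sgnVec P ζ = F.sgn := hζ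
    have hζc : ζ ∈ closedChamber b := hb hζ
    have hξc : ξ ∈ closedChamber b := by
      intro i hi
      apply coroot'_nonneg_of_sgnVec
      rw [h ⟨i, hi⟩]
      exact sgn_simple_cases hb ⟨i, hi⟩
    show sgnVec P ξ = F.sgn
    rw [← hζ']
    apply sgnVec_eq_of_closedChamber b hξc hζc
    intro i
    have h1 : sgnVec P ξ i = sgnVec P ζ i := by rw [h i, hζ']
    unfold sgnVec at h1
    rw [← sign_eq_zero_iff, ← sign_eq_zero_iff (a := P.coroot' i ζ), h1]

omit [P.IsCrystallographic] [P.IsReduced] in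
/-- The facet attached to a set of simple indices of a base. -/
lemma sgnVec_sum_fundWeight [DecidableEq ι] (b : P.Base) (J : Finset b.support) (c : b.support → R)
    (hc : ∀ i ∈ J, 0 < c i) (i : b.support) :
    sgnVec P (∑ j ∈ J, c j • fundWeight b j) i = if i ∈ J then 1 else 0 := by
  unfold sgnVec
  rw [map_sum]
  simp only [map_smul, smul_eq_mul, coroot'_fundWeight, mul_ite, mul_one, mul_zero]
  rw [Finset.sum_ite_eq]
  split_ifs with h
  · exact sign_pos (hc i h)
  · simp

end Chambers

end Groth.Agent.Lib.Helper25.RC
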