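import Mathlib
import Groth.Agent.Lib.Helper25RCChamber

/-!
# Root chambers (Behrend), part 3: compatibility of root and coroot expansions; positive systems
-/

set_option autoImplicit false
set_option linter.unusedSectionVars false

namespace Groth.Agent.Lib.Helper25.RC

open RootCh Module Submodule

variable {ι : Type*} {R : Type*} {M : Type*} {N : Type*}
  [Field R] [LinearOrder R] [IsStrictOrderedRing R]
  [AddCommGroup M] [Module R M] [AddCommGroup N] [Module R N] [Finite ι]

section Len

/-- Squared length of a root for the canonical invariant form. -/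
noncomputable def rlen (P : RootPairing ι R M N) (k : ι) : R :=
  letI := Fintype.ofFinite ι
  P.RootForm (P.root k) (P.root k)

variable (P : RootPairing ι R M N)

lemma rlen_pos (k : ι) : 0 < rlen P k := by
  letI := Fintype.ofFinite ι
  exact P.rootForm_pos_of_ne_zero (Submodule.subset_span ⟨k, rfl⟩) (P.ne_zero k)

lemma rlen_smul_coroot (k : ι) :
    letI := Fintype.ofFinite ι
    rlen P k • P.coroot k = (2 : R) • P.Polarization (P.root k) := by
  letI := Fintype.ofFinite ι
  have := P.rootForm_self_smul_coroot k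
  rw [show rlen P k = P.RootForm (P.root k) (P.root k) from rfl, this]
  exact (ofNat_smul_eq_nsmul R 2 _).symm

end Len

variable {P : RootPairing ι R M N} [P.IsRootSystem] [P.IsCrystallographic] [P.IsReduced]

/-- Joint expansion of a root and its coroot in the simple (co)roots of a base. -/
lemma exists_nat_expansion (b : P.Base) (k : ι) :
    ∃ (f : b.support → ℕ) (ε : R), ((ε = 1 ∧ b.IsPos k) ∨ (ε = -1 ∧ ¬ b.IsPos k)) ∧
      (∃ i, f i ≠ 0) ∧
      P.root k = ε • ∑ i : b.support, (f i : R) • P.root i ∧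
      rlen P k • P.coroot k = ε • ∑ i : b.support, ((f i : R) * rlen P i) • P.coroot i := by
  classical
  letI := Fintype.ofFinite ι
  obtain ⟨f, -, hf⟩ := b.exists_root_eq_sum_nat_or_neg k
  have hne : ∃ i : b.support, f i ≠ 0 := by
    by_contra hcon
    push Not at hcon
    have h0 : ∑ j ∈ b.support, f j • P.root j = 0 := by
      apply Finset.sum_eq_zero
      intro j hj
      have := hcon ⟨j, hj⟩
      simp only at this
      rw [this, zero_smul]
    have hk : P.root k = 0 := by
      rcases hf with hf | hf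
      · rw [hf]; exact h0
      · rw [hf, h0, neg_zero]
    exact P.ne_zero k hk
  have hsum : ∑ j ∈ b.support, f j • P.root j = ∑ i : b.support, (f i : R) • P.root i := by
    rw [← Finset.sum_coe_sort]
    refine Finset.sum_congr rfl fun i _ => ?_
    rw [Nat.cast_smul_eq_nsmul]
  have hco : ∀ ε : R, P.root k = ε • ∑ i : b.support, (f i : R) • P.root i →
      rlen P k • P.coroot k = ε • ∑ i : b.support, ((f i : R) * rlen P i) • P.coroot i := by
    intro ε h
    rw [rlen_smul_coroot, h, map_smul, map_sum, smul_comm, Finset.smul_sum]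
    congr 1
    refine Finset.sum_congr rfl fun i _ => ?_
    rw [map_smul, mul_smul, rlen_smul_coroot, smul_comm]
  rcases hf with hf | hf
  · have h1 : P.root k = (1 : R) • ∑ i : b.support, (f i : R) • P.root i := by
      rw [one_smul, ← hsum]; exact hf
    refine ⟨fun i => f i, 1, Or.inl ⟨rfl, ?_⟩, hne, h1, hco 1 h1⟩
    rw [RootPairing.Base.isPos_iff']
    have hz : P.root k = ∑ j ∈ b.support, ((fun j => (f j : ℤ)) j) • P.root j := by
      rw [hf]
      refine Finset.sum_congr rfl fun j _ => ?_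
      rw [natCast_zsmul]
    rw [RootPairing.Base.height_eq_sum hz]
    exact Finset.sum_nonneg fun j _ => Int.natCast_nonneg _
  · have h1 : P.root k = (-1 : R) • ∑ i : b.support, (f i : R) • P.root i := by
      rw [neg_one_smul, ← hsum]; exact hf
    refine ⟨fun i => f i, -1, Or.inr ⟨rfl, ?_⟩, hne, h1, hco (-1) h1⟩
    rw [RootPairing.Base.isPos_iff, not_lt]
    have hz : P.root k = ∑ j ∈ b.support, ((fun j => -(f j : ℤ)) j) • P.root j := by
      rw [hf, ← Finset.sum_neg_distrib]
      refine Finset.sum_congr rfl fun j _ => ?_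
      rw [neg_smul, natCast_zsmul]
    rw [RootPairing.Base.height_eq_sum hz]
    exact Finset.sum_nonpos fun j _ => neg_nonpos.mpr (Int.natCast_nonneg _)


section API

omit [P.IsCrystallographic] [P.IsReduced] in
lemma flip_coroot' (k : ι) : P.flip.coroot' k = P.root' k := rfl

omit [P.IsCrystallographic] [P.IsReduced] in
lemma flip_root' (k : ι) : P.flip.root' k = P.coroot' k := rfl

variable (b : P.Base)

omit [P.IsCrystallographic] [P.IsReduced] in
lemma root'_fundCoweight [DecidableEq ι] (i j : b.support) :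
    P.root' j (fundCoweight b i) = if j = i then 1 else 0 :=
  coroot'_fundWeight (P := P.flip) b.flip i j

omit [P.IsCrystallographic] [P.IsReduced] in
/-- Expansion of a vector of `N` in the fundamental coweights. -/
lemma fundCoweight_expansion (x : N) :
    x = ∑ i : b.support, P.root' i x • fundCoweight b i :=
  fundWeight_expansion (P := P.flip) b.flip x

omit [P.IsCrystallographic] [P.IsReduced] in
lemma eq_of_forall_root'_eq {x y : N} (h : ∀ i : b.support, P.root' i x = P.root' i y) : x = y :=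
  eq_of_forall_coroot'_eq (P := P.flip) b.flip h

/-- Pairing form of the joint expansion. -/
lemma exists_coeffs (k : ι) :
    ∃ (f : b.support → ℕ) (ε : R), ((ε = 1 ∧ b.IsPos k) ∨ (ε = -1 ∧ ¬ b.IsPos k)) ∧
      (∃ i, f i ≠ 0) ∧
      (∀ x : N, P.root' k x = ε * ∑ i : b.support, (f i : R) * P.root' i x) ∧
      (∀ ξ : M, rlen P k * P.coroot' k ξ =
        ε * ∑ i : b.support, ((f i : R) * rlen P i) * P.coroot' i ξ) := by
  obtain ⟨f, ε, hε, hne, h1, h2⟩ := exists_nat_expansion b k
  refine ⟨f, ε, hε, hne, fun x => ?_, fun ξ => ?_⟩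
  · have := congrArg (fun m => P.toLinearMap m x) h1
    simp only [map_smul, map_sum, LinearMap.smul_apply, LinearMap.sum_apply, smul_eq_mul] at this
    exact this
  · have := congrArg (fun n => P.toLinearMap ξ n) h2
    simp only [map_smul, map_sum, smul_eq_mul] at this
    exact this

/-- Pairing form of the joint expansion, with the coefficients identified. -/
lemma exists_coeffs' (k : ι) :
    ∃ (f : b.support → ℕ) (ε : R), ((ε = 1 ∧ b.IsPos k) ∨ (ε = -1 ∧ ¬ b.IsPos k)) ∧
      (∃ i, f i ≠ 0) ∧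
      (∀ j, P.root' k (fundCoweight b j) = ε * f j) ∧
      (∀ j, rlen P k * P.coroot' k (fundWeight b j) = ε * f j * rlen P j) ∧
      (∀ x : N, P.root' k x = ε * ∑ i : b.support, (f i : R) * P.root' i x) ∧
      (∀ ξ : M, rlen P k * P.coroot' k ξ =
        ε * ∑ i : b.support, ((f i : R) * rlen P i) * P.coroot' i ξ) := by
  classical
  obtain ⟨f, ε, hε, hne, h1, h2⟩ := exists_coeffs b k
  refine ⟨f, ε, hε, hne, fun j => ?_, fun j => ?_, h1, h2⟩
  · rw [h1]
    simp only [root'_fundCoweight, mul_ite, mul_one, mul_zero]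
    rw [Finset.sum_ite_eq']
    simp
  · rw [h2]
    simp only [coroot'_fundWeight, mul_ite, mul_one, mul_zero]
    rw [Finset.sum_ite_eq']
    simp [mul_assoc]

lemma sum_nonneg_eq_zero_iff {α : Type*} [Fintype α] (w a : α → R) (hw : ∀ i, 0 ≤ w i)
    (ha : ∀ i, 0 ≤ a i) : ∑ i, w i * a i = 0 ↔ ∀ i, w i = 0 ∨ a i = 0 := by
  rw [Finset.sum_eq_zero_iff_of_nonneg (fun i _ => mul_nonneg (hw i) (ha i))]
  simp only [Finset.mem_univ, forall_true_left, mul_eq_zero]

/-- Signs of coroot pairings on the closed chamber. -/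
lemma coroot'_sign_of_mem_closedChamber {ξ : M} (hξ : ξ ∈ closedChamber b) (k : ι) :
    (b.IsPos k → 0 ≤ P.coroot' k ξ) ∧ (¬ b.IsPos k → P.coroot' k ξ ≤ 0) ∧
    (P.coroot' k ξ = 0 ↔
      ∀ i : b.support, P.root' k (fundCoweight b i) = 0 ∨ P.coroot' i ξ = 0) := by
  rw [mem_closedChamber_iff] at hξ
  obtain ⟨f, ε, hε, -, hrc, -, -, h2⟩ := exists_coeffs' b k
  have hk := rlen_pos P k
  have hS : 0 ≤ ∑ i : b.support, ((f i : R) * rlen P i) * P.coroot' i ξ :=
    Finset.sum_nonneg fun i _ => mul_nonneg (mul_nonneg (Nat.cast_nonneg _) (rlen_pos P i).le) (hξ i)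
  have hz : (∑ i : b.support, ((f i : R) * rlen P i) * P.coroot' i ξ = 0) ↔
      ∀ i : b.support, P.root' k (fundCoweight b i) = 0 ∨ P.coroot' i ξ = 0 := by
    rw [sum_nonneg_eq_zero_iff (fun i : b.support => (f i : R) * rlen P i)
      (fun i : b.support => P.coroot' i ξ)
      (fun i => mul_nonneg (Nat.cast_nonneg _) (rlen_pos P i).le) hξ]
    refine forall_congr' fun i => or_congr ?_ Iff.rfl
    rw [hrc i, mul_eq_zero, mul_eq_zero]
    have h1 : rlen P i ≠ 0 := (rlen_pos P i).ne'
    have h2 : ε ≠ 0 := by rcases hε with ⟨h, -⟩ | ⟨h, -⟩ <;> rw [h] <;> norm_num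
    simp [h1, h2]
  have hε0 : ε ≠ 0 := by rcases hε with ⟨h, -⟩ | ⟨h, -⟩ <;> rw [h] <;> norm_num
  have hzero : P.coroot' k ξ = 0 ↔
      ∑ i : b.support, ((f i : R) * rlen P i) * P.coroot' i ξ = 0 := by
    constructor
    · intro h
      have := h2 ξ
      rw [h, mul_zero] at this
      exact (mul_eq_zero.mp this.symm).resolve_left hε0
    · intro h
      have := h2 ξ
      rw [h, mul_zero] at this
      exact (mul_eq_zero.mp this).resolve_left hk.ne'
  refine ⟨fun hp => ?_, fun hp => ?_, hzero.trans hz⟩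
  · rcases hε with ⟨h, -⟩ | ⟨-, h⟩
    · have := h2 ξ
      rw [h, one_mul] at this
      by_contra hneg
      rw [not_le] at hneg
      have : rlen P k * P.coroot' k ξ < 0 := mul_neg_of_pos_of_neg hk hneg
      linarith
    · exact absurd hp h
  · rcases hε with ⟨-, h⟩ | ⟨h, -⟩
    · exact absurd h hp
    · have := h2 ξ
      rw [h, neg_one_mul] at this
      by_contra hneg
      rw [not_le] at hneg
      have : 0 < rlen P k * P.coroot' k ξ := mul_pos hk hneg
      linarith

/-- Signs of root pairings on the closed dual chamber. -/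
lemma root'_sign_of_nonneg {x : N} (hx : ∀ i : b.support, 0 ≤ P.root' i x) (k : ι) :
    (b.IsPos k → 0 ≤ P.root' k x) ∧ (¬ b.IsPos k → P.root' k x ≤ 0) ∧
    (P.root' k x = 0 ↔
      ∀ i : b.support, P.root' k (fundCoweight b i) = 0 ∨ P.root' i x = 0) := by
  obtain ⟨f, ε, hε, -, hrc, -, h1, -⟩ := exists_coeffs' b k
  have hS : 0 ≤ ∑ i : b.support, (f i : R) * P.root' i x :=
    Finset.sum_nonneg fun i _ => mul_nonneg (Nat.cast_nonneg _) (hx i)
  have hε0 : ε ≠ 0 := by rcases hε with ⟨h, -⟩ | ⟨h, -⟩ <;> rw [h] <;> norm_num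
  have hz : (∑ i : b.support, (f i : R) * P.root' i x = 0) ↔
      ∀ i : b.support, P.root' k (fundCoweight b i) = 0 ∨ P.root' i x = 0 := by
    rw [sum_nonneg_eq_zero_iff (fun i : b.support => (f i : R))
      (fun i : b.support => P.root' i x) (fun i => Nat.cast_nonneg _) hx]
    refine forall_congr' fun i => or_congr ?_ Iff.rfl
    rw [hrc i, mul_eq_zero]
    simp [hε0]
  have hzero : P.root' k x = 0 ↔ ∑ i : b.support, (f i : R) * P.root' i x = 0 := by
    rw [h1 x, mul_eq_zero]
    simp [hε0]
  refine ⟨fun hp => ?_, fun hp => ?_, hzero.trans hz⟩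
  · rcases hε with ⟨h, -⟩ | ⟨-, h⟩
    · rw [h1 x, h, one_mul]; exact hS
    · exact absurd hp h
  · rcases hε with ⟨-, h⟩ | ⟨h, -⟩
    · exact absurd h hp
    · rw [h1 x, h, neg_one_mul]; exact neg_nonpos.mpr hS

/-- **Compatibility**: a dominant vector and a dominant covector with the same zero pattern on the
simple (co)roots have the same sign vector. -/
theorem sgnVec_eq_cosgnVec {ξ : M} {x : N} (hξ : ξ ∈ closedChamber b)
    (hx : ∀ i : b.support, 0 ≤ P.root' i x)
    (h : ∀ i : b.support, P.coroot' i ξ = 0 ↔ P.root' i x = 0) : sgnVec P ξ = cosgnVec P x := by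
  ext k
  obtain ⟨a1, a2, a3⟩ := coroot'_sign_of_mem_closedChamber b hξ k
  obtain ⟨b1, b2, b3⟩ := root'_sign_of_nonneg b hx k
  have hiff : P.coroot' k ξ = 0 ↔ P.root' k x = 0 := by
    rw [a3, b3]
    exact forall_congr' fun i => or_congr Iff.rfl (h i)
  unfold sgnVec cosgnVec
  by_cases h0 : P.coroot' k ξ = 0
  · rw [h0, hiff.mp h0]
  · have h0' : P.root' k x ≠ 0 := fun h' => h0 (hiff.mpr h')
    by_cases hp : b.IsPos k
    · rw [sign_pos (lt_of_le_of_ne (a1 hp) (Ne.symm h0)),
        sign_pos (lt_of_le_of_ne (b1 hp) (Ne.symm h0'))]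
    · rw [sign_neg (lt_of_le_of_ne (a2 hp) h0), sign_neg (lt_of_le_of_ne (b2 hp) h0')]

end API

end Groth.Agent.Lib.Helper25.RC
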