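import Mathlib
import Groth.Agent.Lib.Helper25RCCompat

/-!
# Root chambers (Behrend), part 4: corners of chambers, facets relative to an adjacent chamber
-/

set_option autoImplicit false
set_option linter.unusedSectionVars false

namespace Groth.Agent.Lib.Helper25.RC

open RootCh Module Submodule

variable {ι : Type*} {R : Type*} {M : Type*} {N : Type*}
  [Field R] [LinearOrder R] [IsStrictOrderedRing R]
  [AddCommGroup M] [Module R M] [AddCommGroup N] [Module R N] [Finite ι]

variable {P : RootPairing ι R M N} [P.IsRootSystem] [P.IsCrystallographic] [P.IsReduced]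

omit [P.IsCrystallographic] [P.IsReduced] in
lemma sgnVec_fundWeight [DecidableEq ι] (b : P.Base) (i j : b.support) :
    sgnVec P (fundWeight b i) j = if j = i then 1 else 0 := by
  unfold sgnVec
  rw [coroot'_fundWeight]
  split_ifs <;> simp

/-- A fundamental weight (of any base) lying in the closed chamber of `b` is a fundamental weight
of `b`. -/
theorem fundWeight_mem_closedChamber_eq (b b' : P.Base) (i' : b'.support)
    (hw : fundWeight b' i' ∈ closedChamber b) : ∃ j : b.support, fundWeight b' i' = fundWeight b j := by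
  classical
  set w := fundWeight b' i' with hwdef
  have hw0 : w ≠ 0 := fundWeight_ne_zero b' i'
  have hc : ∀ i : b.support, 0 ≤ P.coroot' i w := (mem_closedChamber_iff b).mp hw
  -- some coefficient is positive
  obtain ⟨j1, hj1⟩ : ∃ j1 : b.support, 0 < P.coroot' j1 w := by
    by_contra hcon
    push Not at hcon
    apply hw0
    apply eq_of_forall_coroot'_eq b
    intro i
    rw [map_zero]
    exact le_antisymm (hcon i) (hc i)
  set c := P.coroot' j1 w with hcdef
  let F : Facet P := Facet.ofVec P w
  have hwF : w ∈ F.carrier := rfl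
  have hbF : b ∈ F.cham := mem_cham_of_mem hwF hw
  have hb'F : b' ∈ F.cham := mem_cham_of_mem hwF (fundWeight_mem_closedChamber b' i')
  -- the perturbed vector
  set ξ := w + fundWeight b j1 with hξdef
  have hξF : ξ ∈ F.carrier := by
    rw [mem_carrier_iff_of_cham hbF]
    intro i
    show sgnVec P ξ i = sgnVec P w i
    unfold sgnVec
    rw [hξdef, map_add, coroot'_fundWeight]
    split_ifs with h
    · subst h
      rw [sign_pos hj1, sign_pos (by linarith)]
    · rw [add_zero]
  have hξ' : ∀ j : b'.support, sgnVec P ξ j = if j = i' then 1 else 0 := by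
    intro j
    have := (mem_carrier_iff_of_cham hb'F).mp hξF j
    rw [this]
    show sgnVec P w j = _
    exact sgnVec_fundWeight b' i' j
  set t := P.coroot' i' ξ with htdef
  have ht : 0 < t := by
    have := hξ' i'
    rw [if_pos rfl] at this
    exact sign_eq_one_iff.mp this
  have hξw : ξ = t • w := by
    apply eq_of_forall_coroot'_eq b'
    intro j
    rw [map_smul, smul_eq_mul, hwdef, coroot'_fundWeight]
    split_ifs with h
    · subst h; rw [mul_one]
    · have := hξ' j
      rw [if_neg h] at this
      rw [mul_zero]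
      exact sign_eq_zero_iff.mp this
  -- hence `λ_{j1} = (t - 1) • w`
  have h1 : fundWeight b j1 = (t - 1) • w := by
    have : w + fundWeight b j1 = t • w := hξw
    rw [sub_smul, one_smul, ← this]; abel
  have h2 : (1 : R) = (t - 1) * c := by
    have := congrArg (P.coroot' j1) h1
    rw [coroot'_fundWeight_self, map_smul, smul_eq_mul] at this
    exact this
  have hwc : w = c • fundWeight b j1 := by
    rw [h1, smul_smul, mul_comm, ← h2, one_smul]
  -- integrality: `c = 1`
  obtain ⟨n, ε, hε, -, hk⟩ := exists_coroot_eq b (i' : ι)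
  obtain ⟨n', ε', hε', -, hk'⟩ := exists_coroot_eq b' (j1 : ι)
  have e1 : (1 : R) = ε * ((n j1 : R) * c) := by
    have := hk w
    rw [show P.coroot' (i' : ι) w = 1 from coroot'_fundWeight_self b' i'] at this
    rw [this]
    congr 1
    rw [Finset.sum_eq_single j1]
    · intro i _ hi
      rw [hwc, map_smul, smul_eq_mul, coroot'_fundWeight, if_neg hi, mul_zero, mul_zero]
    · intro h; exact absurd (Finset.mem_univ _) h
  have e2 : c = ε' * (n' i' : R) := by
    have := hk' w
    rw [← hcdef] at this
    rw [this]
    congr 1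
    rw [Finset.sum_eq_single i']
    · rw [hwdef, coroot'_fundWeight_self, mul_one]
    · intro i _ hi
      rw [hwdef, coroot'_fundWeight, if_neg hi, mul_zero]
    · intro h; exact absurd (Finset.mem_univ _) h
  have hc1 : c = 1 := by
    have hnn : ((n j1 * n' i' : ℕ) : R) = 1 ∨ ((n j1 * n' i' : ℕ) : R) = -1 := by
      rw [e2] at e1
      push_cast
      rcases hε with rfl | rfl <;> rcases hε' with rfl | rfl
      · left; linarith
      · right; linarith
      · right; linarith
      · left; linarith
    have hnat : n j1 * n' i' = 1 := by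
      rcases hnn with h | h
      · exact_mod_cast h
      · exfalso
        have : (0 : R) ≤ ((n j1 * n' i' : ℕ) : R) := Nat.cast_nonneg _
        rw [h] at this
        linarith
    have hn' : n' i' = 1 := Nat.eq_one_of_mul_eq_one_left hnat
    rw [e2, hn'] at hj1 ⊢
    rcases hε' with rfl | rfl
    · simp
    · simp at hj1
      linarith
  exact ⟨j1, by rw [hwc, hc1, one_smul]⟩

/-- S14227: the corners of the chamber of `b` are exactly the fundamental weights of `b`. -/
theorem baseCorners_eq (b : P.Base) : baseCorners b = Set.range (fundWeight b) := by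
  ext w
  constructor
  · rintro ⟨⟨b', i', rfl⟩, hw⟩
    obtain ⟨j, hj⟩ := fundWeight_mem_closedChamber_eq b b' i' hw
    exact ⟨j, hj.symm⟩
  · rintro ⟨j, rfl⟩
    exact ⟨⟨b, j, rfl⟩, fundWeight_mem_closedChamber b j⟩


section FacetBase

variable {F : Facet P} {b : P.Base}

/-- The simple indices of `b` on which the facet `F` is positive. -/
noncomputable def Jset (F : Facet P) (b : P.Base) : Finset b.support := by
  classical exact Finset.univ.filter (fun i : b.support => F.sgn i = 1)

omit [P.IsRootSystem] [P.IsCrystallographic] [P.IsReduced] in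
lemma mem_Jset {i : b.support} : i ∈ Jset F b ↔ F.sgn i = 1 := by
  classical
  simp [Jset]

omit [P.IsCrystallographic] [P.IsReduced] in
lemma sgn_of_notMem_Jset (hb : b ∈ F.cham) {i : b.support} (hi : i ∉ Jset F b) : F.sgn i = 0 := by
  rcases sgn_simple_cases hb i with h | h
  · exact h
  · exact absurd (mem_Jset.mpr h) hi

omit [P.IsCrystallographic] [P.IsReduced] in
lemma mem_carrier_iff (hb : b ∈ F.cham) {ξ : M} :
    ξ ∈ F.carrier ↔ ∀ i : b.support,
      (i ∈ Jset F b → 0 < P.coroot' i ξ) ∧ (i ∉ Jset F b → P.coroot' i ξ = 0) := by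
  rw [mem_carrier_iff_of_cham hb]
  refine forall_congr' fun i => ?_
  by_cases hi : i ∈ Jset F b
  · have h1 : F.sgn i = 1 := mem_Jset.mp hi
    simp only [hi, forall_true_left, not_true_eq_false, false_imp_iff, and_true]
    rw [h1]
    exact sign_eq_one_iff
  · have h0 : F.sgn i = 0 := sgn_of_notMem_Jset hb hi
    simp only [hi, false_imp_iff, not_false_eq_true, forall_true_left, true_and]
    rw [h0]
    exact sign_eq_zero_iff

omit [P.IsCrystallographic] [P.IsReduced] in
lemma closure_subset_closedChamber (hb : b ∈ F.cham) : F.closure ⊆ closedChamber b := by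
  intro ξ hξ i hi
  apply coroot'_nonneg_of_sgnVec
  rcases hξ i with h | h
  · exact Or.inl h
  · rcases sgn_simple_cases hb ⟨i, hi⟩ with h' | h'
    · left; rw [h]; exact h'
    · right; rw [h]; exact h'

lemma mem_closure_iff (hb : b ∈ F.cham) {ξ : M} :
    ξ ∈ F.closure ↔ ∀ i : b.support,
      (i ∈ Jset F b → 0 ≤ P.coroot' i ξ) ∧ (i ∉ Jset F b → P.coroot' i ξ = 0) := by
  constructor
  · intro hξ i
    refine ⟨fun _ => closure_subset_closedChamber hb hξ i i.2, fun hi => ?_⟩
    have h0 : F.sgn i = 0 := sgn_of_notMem_Jset hb hi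
    have : sgnVec P ξ i = 0 := by
      rcases hξ i with h | h
      · exact h
      · rw [h, h0]
    exact sign_eq_zero_iff.mp this
  · intro h k
    have hξc : ξ ∈ closedChamber b := by
      rw [mem_closedChamber_iff]
      intro i
      by_cases hi : i ∈ Jset F b
      · exact (h i).1 hi
      · exact ((h i).2 hi).ge
    obtain ⟨ζ, hζ⟩ := carrier_nonempty F
    have hζc : ζ ∈ closedChamber b := hb hζ
    have hζ' := (mem_carrier_iff hb).mp hζ
    obtain ⟨a1, a2, a3⟩ := coroot'_sign_of_mem_closedChamber b hξc k
    obtain ⟨c1, c2, c3⟩ := coroot'_sign_of_mem_closedChamber b hζc k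
    have hFk : F.sgn k = sgnVec P ζ k := by rw [show sgnVec P ζ = F.sgn from hζ]
    by_cases h0 : P.coroot' k ξ = 0
    · left; unfold sgnVec; rw [h0]; simp
    · right
      have hne : P.coroot' k ζ ≠ 0 := by
        intro hz
        apply h0
        rw [a3]
        intro i
        rcases (c3.mp hz) i with h1 | h1
        · exact Or.inl h1
        · right
          by_cases hi : i ∈ Jset F b
          · exact absurd h1 ((hζ' i).1 hi).ne'
          · exact (h i).2 hi
      rw [hFk]
      unfold sgnVec
      by_cases hp : b.IsPos k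
      · rw [sign_pos (lt_of_le_of_ne (a1 hp) (Ne.symm h0)),
          sign_pos (lt_of_le_of_ne (c1 hp) (Ne.symm hne))]
      · rw [sign_neg (lt_of_le_of_ne (a2 hp) h0), sign_neg (lt_of_le_of_ne (c2 hp) hne)]

/-- The corners of a facet are the fundamental weights of an adjacent chamber at the indices where
the facet is positive. -/
theorem corners_eq (hb : b ∈ F.cham) :
    F.corners = fundWeight b '' (Jset F b : Set b.support) := by
  classical
  ext w
  constructor
  · rintro ⟨hw1, hw2⟩
    have hwb : w ∈ baseCorners b := ⟨hw1, closure_subset_closedChamber hb hw2⟩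
    rw [baseCorners_eq] at hwb
    obtain ⟨j, rfl⟩ := hwb
    refine ⟨j, ?_, rfl⟩
    by_contra hj
    have := ((mem_closure_iff hb).mp hw2 j).2 hj
    rw [coroot'_fundWeight_self] at this
    exact one_ne_zero this
  · rintro ⟨j, hj, rfl⟩
    refine ⟨⟨b, j, rfl⟩, ?_⟩
    rw [mem_closure_iff hb]
    intro i
    refine ⟨fun _ => ?_, fun hi => ?_⟩
    · rw [coroot'_fundWeight]; split_ifs <;> simp
    · have : i ≠ j := fun h => hi (h ▸ hj)
      rw [coroot'_fundWeight, if_neg this]

/-- The facet attached to a set of simple indices of a base. -/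
noncomputable def facetOf (b : P.Base) (J : Finset b.support) : Facet P :=
  Facet.ofVec P (∑ j ∈ J, fundWeight b j)

omit [P.IsCrystallographic] [P.IsReduced] in
lemma coroot'_sum_fundWeight [DecidableEq ι] (J : Finset b.support) (i : b.support) :
    P.coroot' i (∑ j ∈ J, fundWeight b j) = if i ∈ J then 1 else 0 := by
  rw [map_sum]
  simp only [coroot'_fundWeight]
  rw [Finset.sum_ite_eq]

omit [P.IsCrystallographic] [P.IsReduced] in
lemma sum_fundWeight_mem_closedChamber (J : Finset b.support) :
    (∑ j ∈ J, fundWeight b j) ∈ closedChamber b := by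
  classical
  rw [mem_closedChamber_iff]
  intro i
  rw [coroot'_sum_fundWeight]
  split_ifs <;> simp

omit [P.IsCrystallographic] [P.IsReduced] in
lemma mem_cham_facetOf (J : Finset b.support) : b ∈ (facetOf b J).cham :=
  mem_cham_of_mem (F := facetOf b J) (ξ := ∑ j ∈ J, fundWeight b j) rfl
    (sum_fundWeight_mem_closedChamber J)

omit [P.IsCrystallographic] [P.IsReduced] in
lemma Jset_facetOf (J : Finset b.support) : Jset (facetOf b J) b = J := by
  classical
  ext i
  rw [mem_Jset]
  show sgnVec P (∑ j ∈ J, fundWeight b j) i = 1 ↔ _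
  unfold sgnVec
  rw [coroot'_sum_fundWeight]
  split_ifs with h <;> simp [h]

omit [P.IsCrystallographic] [P.IsReduced] in
lemma sum_Jset_mem_carrier (hb : b ∈ F.cham) : (∑ j ∈ Jset F b, fundWeight b j) ∈ F.carrier := by
  classical
  rw [mem_carrier_iff hb]
  intro i
  rw [coroot'_sum_fundWeight]
  refine ⟨fun hi => ?_, fun hi => ?_⟩
  · rw [if_pos hi]; exact one_pos
  · rw [if_neg hi]

omit [P.IsCrystallographic] [P.IsReduced] in
lemma eq_facetOf (hb : b ∈ F.cham) : F = facetOf b (Jset F b) := by
  apply Facet.ext
  exact (sum_Jset_mem_carrier hb).symm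

theorem corners_facetOf (J : Finset b.support) :
    (facetOf b J).corners = fundWeight b '' (J : Set b.support) := by
  rw [corners_eq (mem_cham_facetOf J), Jset_facetOf]

end FacetBase

end Groth.Agent.Lib.Helper25.RC
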