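import Mathlib
import Groth.Agent.Lib.Helper25RCFacet

/-!
# Root chambers (Behrend), part 5: first rows on corners of facets
-/

set_option autoImplicit false
set_option linter.unusedSectionVars false

namespace Groth.Agent.Lib.Helper25.RC

open RootCh Module Submodule

variable {ι : Type*} {R : Type*} {M : Type*} {N : Type*}
  [Field R] [LinearOrder R] [IsStrictOrderedRing R]
  [AddCommGroup M] [Module R M] [AddCommGroup N] [Module R N] [Finite ι]

variable {P : RootPairing ι R M N} [P.IsRootSystem] [P.IsCrystallographic] [P.IsReduced]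

/-- S14228 -/
theorem corners_linearIndepOn (F : Facet P) : LinearIndepOn R (fun m : M => m) F.corners := by
  obtain ⟨b, hb⟩ := cham_nonempty F
  rw [corners_eq hb]
  exact ((linearIndependent_fundWeight b).linearIndepOn (s := (Jset F b : Set b.support))).id_image

/-- vectors of a facet expand in the corners -/
lemma carrier_expansion {F : Facet P} {b : P.Base} (hb : b ∈ F.cham) {ξ : M} (hξ : ξ ∈ F.carrier) :
    ξ = ∑ j ∈ Jset F b, P.coroot' j ξ • fundWeight b j := by
  classical
  have h := (mem_carrier_iff hb).mp hξ
  conv_lhs => rw [fundWeight_expansion b ξ]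
  symm
  apply Finset.sum_subset (Finset.subset_univ _)
  intro i _ hi
  rw [(h i).2 hi, zero_smul]

/-- S14229 -/
theorem span_carrier_eq (F : Facet P) : Submodule.span R F.carrier = Submodule.span R F.corners := by
  classical
  obtain ⟨b, hb⟩ := cham_nonempty F
  rw [corners_eq hb]
  apply le_antisymm
  · rw [Submodule.span_le]
    intro ξ hξ
    rw [carrier_expansion hb hξ]
    apply Submodule.sum_mem
    intro j hj
    exact Submodule.smul_mem _ _ (Submodule.subset_span ⟨j, hj, rfl⟩)
  · rw [Submodule.span_le]
    rintro _ ⟨j, hj, rfl⟩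
    have h1 := sum_Jset_mem_carrier hb
    have h2 : (∑ i ∈ Jset F b, fundWeight b i) + fundWeight b j ∈ F.carrier := by
      rw [mem_carrier_iff hb]
      intro i
      rw [map_add, coroot'_sum_fundWeight, coroot'_fundWeight]
      refine ⟨fun hi => ?_, fun hi => ?_⟩
      · rw [if_pos hi]
        split_ifs <;> norm_num
      · have : i ≠ j := fun h => hi (h ▸ hj)
        rw [if_neg hi, if_neg this, add_zero]
    have : fundWeight b j = ((∑ i ∈ Jset F b, fundWeight b i) + fundWeight b j) -
        ∑ i ∈ Jset F b, fundWeight b i := by abel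
    rw [SetLike.mem_coe, this]
    exact Submodule.sub_mem _ (Submodule.subset_span h2) (Submodule.subset_span h1)

/-- S14230 -/
theorem carrier_eq_pos_comb (F : Facet P) :
    F.carrier = {ξ : M | ∃ c : M →₀ R, (c.support : Set M) ⊆ F.corners ∧
      (∀ m ∈ F.corners, 0 < c m) ∧ c.sum (fun m r => r • m) = ξ} := by
  classical
  obtain ⟨b, hb⟩ := cham_nonempty F
  have hinj : Function.Injective (fundWeight b) := fundWeight_injective b
  have hcor := corners_eq hb
  ext ξ
  constructor
  · intro hξ
    have h := (mem_carrier_iff hb).mp hξ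
    let c0 : b.support →₀ R :=
      Finsupp.equivFunOnFinite.symm (fun j => if j ∈ Jset F b then P.coroot' j ξ else 0)
    have hc0 : ∀ j, c0 j = if j ∈ Jset F b then P.coroot' j ξ else 0 := fun j => rfl
    refine ⟨c0.mapDomain (fundWeight b), ?_, ?_, ?_⟩
    · intro m hm
      have := Finsupp.mapDomain_support hm
      rw [Finset.mem_image] at this
      obtain ⟨j, hj, rfl⟩ := this
      rw [hcor]
      refine ⟨j, ?_, rfl⟩
      rw [Finsupp.mem_support_iff, hc0] at hj
      rw [Finset.mem_coe]
      by_contra hj'
      rw [if_neg hj'] at hj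
      exact hj rfl
    · intro m hm
      rw [hcor] at hm
      obtain ⟨j, hj, rfl⟩ := hm
      rw [Finset.mem_coe] at hj
      rw [Finsupp.mapDomain_apply hinj, hc0, if_pos hj]
      exact (h j).1 hj
    · rw [Finsupp.sum_mapDomain_index (h := fun (m : M) (r : R) => r • m)
        (fun _ => zero_smul _ _) (fun _ _ _ => add_smul _ _ _)]
      rw [Finsupp.sum_fintype c0 (fun a m => m • fundWeight b a) (fun _ => zero_smul _ _)]
      conv_rhs => rw [carrier_expansion hb hξ]
      rw [← Finset.sum_subset (Finset.subset_univ (Jset F b))]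
      · refine Finset.sum_congr rfl fun j hj => ?_
        rw [hc0, if_pos hj]
      · intro j _ hj
        rw [hc0, if_neg hj, zero_smul]
  · rintro ⟨c, hsupp, hpos, rfl⟩
    have hsub : c.support ⊆ (Jset F b).image (fundWeight b) := by
      intro m hm
      have := hsupp hm
      rw [hcor] at this
      obtain ⟨j, hj, rfl⟩ := this
      exact Finset.mem_image_of_mem _ hj
    have hsum : c.sum (fun m r => r • m) = ∑ j ∈ Jset F b, c (fundWeight b j) • fundWeight b j := by
      rw [Finsupp.sum_of_support_subset c hsub (fun m r => r • m) (fun _ _ => zero_smul _ _)]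
      rw [Finset.sum_image (fun x _ y _ h => hinj h)]
    rw [hsum, mem_carrier_iff hb]
    intro i
    rw [map_sum]
    simp only [map_smul, smul_eq_mul, coroot'_fundWeight, mul_ite, mul_one, mul_zero]
    rw [Finset.sum_ite_eq]
    refine ⟨fun hi => ?_, fun hi => ?_⟩
    · rw [if_pos hi]
      apply hpos
      rw [hcor]
      exact ⟨i, hi, rfl⟩
    · rw [if_neg hi]

/-- S14232 -/
theorem exists_facet_insert (F : Facet P) (m : M) (hm : m ∈ F.corners') :
    ∃ G : Facet P, G.corners = insert m F.corners := by
  classical
  simp only [Facet.corners', Set.mem_iUnion] at hm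
  obtain ⟨b, hb, hmb⟩ := hm
  rw [baseCorners_eq] at hmb
  obtain ⟨i, rfl⟩ := hmb
  refine ⟨facetOf b (insert i (Jset F b)), ?_⟩
  rw [corners_facetOf, corners_eq hb]
  push_cast
  rw [Set.image_insert_eq]

/-- S14233 -/
theorem exists_facet_erase (F : Facet P) (m : M) (hm : m ∈ F.corners) :
    ∃ G : Facet P, G.corners = F.corners \ {m} := by
  classical
  obtain ⟨b, hb⟩ := cham_nonempty F
  have hcor := corners_eq hb
  rw [hcor] at hm
  obtain ⟨i, hi, rfl⟩ := hm
  refine ⟨facetOf b ((Jset F b).erase i), ?_⟩
  rw [corners_facetOf, hcor]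
  push_cast
  rw [Set.image_sdiff (fundWeight_injective b), Set.image_singleton]

end Groth.Agent.Lib.Helper25.RC
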