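import Mathlib
import Groth.Agent.Lib.Helper25RCRows1

/-!
# Root chambers (Behrend), part 6: negation of roots, dual corners, corners through parabolic sets
-/

set_option autoImplicit false
set_option linter.unusedSectionVars false

namespace Groth.Agent.Lib.Helper25.RC

open RootCh Module Submodule

variable {ι : Type*} {R : Type*} {M : Type*} {N : Type*}
  [Field R] [LinearOrder R] [IsStrictOrderedRing R]
  [AddCommGroup M] [Module R M] [AddCommGroup N] [Module R N] [Finite ι]

section Neg

variable (P : RootPairing ι R M N)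

/-- index of the opposite root -/
def nidx (k : ι) : ι := P.reflectionPerm k k

lemma root_nidx (k : ι) : P.root (nidx P k) = - P.root k := by
  unfold nidx
  rw [P.root_reflectionPerm, P.reflection_apply_self]

lemma coroot_nidx (k : ι) : P.coroot (nidx P k) = - P.coroot k := by
  unfold nidx
  rw [P.coroot_reflectionPerm, P.coreflection_apply_self]

lemma nidx_nidx (k : ι) : nidx P (nidx P k) = k := by
  apply P.root.injective
  rw [root_nidx, root_nidx, neg_neg]

lemma nidx_ne (k : ι) : nidx P k ≠ k := by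
  intro h
  have := root_nidx P k
  rw [h] at this
  have h2 : (2 : R) • P.root k = 0 := by
    rw [two_smul]
    nth_rewrite 1 [this]
    exact neg_add_cancel _
  rcases smul_eq_zero.mp h2 with h3 | h3
  · exact two_ne_zero h3
  · exact P.ne_zero k h3

lemma coroot'_nidx (k : ι) (ξ : M) : P.coroot' (nidx P k) ξ = - P.coroot' k ξ := by
  show P.toLinearMap ξ (P.coroot (nidx P k)) = - P.toLinearMap ξ (P.coroot k)
  rw [coroot_nidx, map_neg]

lemma root'_nidx (k : ι) (x : N) : P.root' (nidx P k) x = - P.root' k x := by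
  show P.toLinearMap (P.root (nidx P k)) x = - P.toLinearMap (P.root k) x
  rw [root_nidx, map_neg, LinearMap.neg_apply]

lemma sgnVec_nidx (k : ι) (ξ : M) : sgnVec P ξ (nidx P k) = - sgnVec P ξ k := by
  unfold sgnVec
  rw [coroot'_nidx, Left.sign_neg]

lemma cosgnVec_nidx (k : ι) (x : N) : cosgnVec P x (nidx P k) = - cosgnVec P x k := by
  unfold cosgnVec
  rw [root'_nidx, Left.sign_neg]

variable {P}

lemma sgn_nidx (F : Facet P) (k : ι) : F.sgn (nidx P k) = - F.sgn k := by
  obtain ⟨ξ, hξ⟩ := F.exists_sgnVec_eq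
  rw [← hξ, sgnVec_nidx]

end Neg

variable {P : RootPairing ι R M N} [P.IsRootSystem] [P.IsCrystallographic] [P.IsReduced]

/-- A fundamental weight and the corresponding fundamental coweight have the same sign vector. -/
theorem sgnVec_fundWeight_eq_cosgnVec (b : P.Base) (i : b.support) :
    sgnVec P (fundWeight b i) = cosgnVec P (fundCoweight b i) := by
  classical
  apply sgnVec_eq_cosgnVec b (fundWeight_mem_closedChamber b i)
  · intro j
    rw [root'_fundCoweight]; split_ifs <;> simp
  · intro j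
    rw [root'_fundCoweight, coroot'_fundWeight]

omit [P.IsCrystallographic] [P.IsReduced] in
lemma fundCoweights_eq :
    fundCoweights P = {y | ∃ (b : P.Base) (i : b.support), fundCoweight b i = y} := by
  ext y
  constructor
  · rintro ⟨b'', i, rfl⟩
    exact ⟨(b''.flip : P.Base), i, rfl⟩
  · rintro ⟨b, i, rfl⟩
    exact ⟨b.flip, i, rfl⟩

/-- S14231 -/
theorem dualCorners_eq (F : Facet P) :
    F.dualCorners = {y : N | ∃ m ∈ F.corners, Corr P m y} := by
  ext y
  constructor
  · rintro ⟨hy1, hy2⟩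
    rw [fundCoweights_eq] at hy1
    obtain ⟨b, i, rfl⟩ := hy1
    refine ⟨fundWeight b i, ⟨⟨b, i, rfl⟩, ?_⟩, ⟨b, i, rfl, rfl⟩⟩
    intro k
    rw [sgnVec_fundWeight_eq_cosgnVec]
    exact hy2 k
  · rintro ⟨m, ⟨-, hm2⟩, ⟨b, i, rfl, rfl⟩⟩
    refine ⟨?_, ?_⟩
    · rw [fundCoweights_eq]; exact ⟨b, i, rfl⟩
    · intro k
      rw [← sgnVec_fundWeight_eq_cosgnVec]
      exact hm2 k

/-- S14234 -/
theorem corners_eq_parab (F : Facet P) :
    F.corners = {m : M | m ∈ fundWeights P ∧
      ∀ y : N, Corr P m y → ∀ i ∈ F.parab, 0 ≤ P.root' i y} := by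
  ext m
  constructor
  · rintro ⟨hm1, hm2⟩
    refine ⟨hm1, ?_⟩
    rintro y ⟨b, i, rfl, rfl⟩ k hk
    have h1 : cosgnVec P (fundCoweight b i) k = 0 ∨ cosgnVec P (fundCoweight b i) k = F.sgn k := by
      rw [← sgnVec_fundWeight_eq_cosgnVec]; exact hm2 k
    have hk' : F.sgn k ≠ -1 := hk
    have h2 : 0 ≤ cosgnVec P (fundCoweight b i) k := by
      rcases h1 with h | h
      · rw [h]
      · rw [h]
        revert hk'
        cases F.sgn k <;> decide
    exact sign_nonneg_iff.mp h2
  · rintro ⟨⟨b, i, rfl⟩, h⟩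
    refine ⟨⟨b, i, rfl⟩, ?_⟩
    have h' := h (fundCoweight b i) ⟨b, i, rfl, rfl⟩
    have key : ∀ k, F.sgn k ≠ -1 → 0 ≤ sgnVec P (fundWeight b i) k := by
      intro k hk
      rw [sgnVec_fundWeight_eq_cosgnVec]
      exact sign_nonneg_iff.mpr (h' k hk)
    intro k
    have h1 := key k
    have h2 := key (nidx P k)
    rw [sgn_nidx, sgnVec_nidx] at h2
    revert h1 h2
    generalize sgnVec P (fundWeight b i) k = s
    generalize F.sgn k = t
    cases s <;> cases t <;> decide

end Groth.Agent.Lib.Helper25.RC
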