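import Mathlib

/-!
# Farkas' lemma over an ordered field (Bartl's algebraic proof) and separation of a point from a
finitely generated convex hull
-/

set_option autoImplicit false
set_option linter.unusedSectionVars false

namespace Groth.Agent.Lib.Helper25.RC

variable {R : Type*} [Field R] [LinearOrder R] [IsStrictOrderedRing R]

/-- **Farkas' lemma** (Bartl): if a linear form `γ` is non-negative wherever the finitely many forms
`α k`, `k ∈ s`, are non-negative, then `γ` is a non-negative combination of them. -/
theorem farkas {W : Type*} [AddCommGroup W] [Module R W] {κ : Type*} [DecidableEq κ]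
    (s : Finset κ) :
    ∀ (α : κ → Module.Dual R W) (γ : Module.Dual R W),
      (∀ x, (∀ k ∈ s, 0 ≤ α k x) → 0 ≤ γ x) →
      ∃ c : κ → R, (∀ k ∈ s, 0 ≤ c k) ∧ γ = ∑ k ∈ s, c k • α k := by
  induction s using Finset.induction_on with
  | empty =>
    intro α γ h
    refine ⟨fun _ => 0, by simp, ?_⟩
    rw [Finset.sum_empty]
    ext x
    have h1 := h x (by simp)
    have h2 := h (-x) (by simp)
    rw [map_neg] at h2
    rw [LinearMap.zero_apply]
    linarith
  | insert a s ha ih =>
    intro α γ h
    by_cases h' : ∀ x, (∀ k ∈ s, 0 ≤ α k x) → 0 ≤ γ x
    · obtain ⟨c, hc, hγ⟩ := ih α γ h'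
      refine ⟨Function.update c a 0, ?_, ?_⟩
      · intro k hk
        by_cases hka : k = a
        · subst hka; simp
        · rw [Function.update_of_ne hka]
          exact hc k (Finset.mem_of_mem_insert_of_ne hk hka)
      · rw [Finset.sum_insert ha, Function.update_self, zero_smul, zero_add, hγ]
        refine Finset.sum_congr rfl fun k hk => ?_
        have : k ≠ a := fun h => ha (h ▸ hk)
        rw [Function.update_of_ne this]
    · push Not at h'
      obtain ⟨x1, hx1, hγ1⟩ := h'
      have ha1 : α a x1 < 0 := by
        by_contra hcon
        rw [not_lt] at hcon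
        have := h x1 (by
          intro k hk
          rcases Finset.mem_insert.mp hk with rfl | hk
          · exact hcon
          · exact hx1 k hk)
        linarith
      -- normalise
      set r : R := -(α a x1)⁻¹ with hr
      have hrpos : 0 < r := by
        rw [hr, neg_pos]
        exact inv_lt_zero.mpr ha1
      set x0 : W := r • x1 with hx0
      have ha0 : α a x0 = -1 := by
        rw [hx0, map_smul, smul_eq_mul, hr, neg_mul, inv_mul_cancel₀ ha1.ne]
      have hk0 : ∀ k ∈ s, 0 ≤ α k x0 := by
        intro k hk
        rw [hx0, map_smul, smul_eq_mul]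
        exact mul_nonneg hrpos.le (hx1 k hk)
      have hγ0 : γ x0 < 0 := by
        rw [hx0, map_smul, smul_eq_mul]
        exact mul_neg_of_pos_of_neg hrpos hγ1
      -- modified forms
      obtain ⟨c, hc, hγ'⟩ := ih (fun k => α k + (α k x0) • α a) (γ + (γ x0) • α a) (by
        intro x hx
        have hx' := h (x + (α a x) • x0) (by
          intro k hk
          rcases Finset.mem_insert.mp hk with rfl | hk
          · rw [map_add, map_smul, smul_eq_mul, ha0]
            linarith
          · have := hx k hk
            simp only [LinearMap.add_apply, LinearMap.smul_apply, smul_eq_mul] at this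
            rw [map_add, map_smul, smul_eq_mul]
            linarith)
        simp only [LinearMap.add_apply, LinearMap.smul_apply, smul_eq_mul]
        rw [map_add, map_smul, smul_eq_mul] at hx'
        linarith)
      set ca : R := ∑ k ∈ s, c k * α k x0 - γ x0 with hca
      have hca0 : 0 ≤ ca := by
        have : 0 ≤ ∑ k ∈ s, c k * α k x0 :=
          Finset.sum_nonneg fun k hk => mul_nonneg (hc k hk) (hk0 k hk)
        rw [hca]; linarith
      refine ⟨Function.update c a ca, ?_, ?_⟩
      · intro k hk
        by_cases hka : k = a
        · subst hka; rw [Function.update_self]; exact hca0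
        · rw [Function.update_of_ne hka]
          exact hc k (Finset.mem_of_mem_insert_of_ne hk hka)
      · rw [Finset.sum_insert ha, Function.update_self]
        have hsum : ∑ k ∈ s, Function.update c a ca k • α k = ∑ k ∈ s, c k • α k := by
          refine Finset.sum_congr rfl fun k hk => ?_
          have : k ≠ a := fun h => ha (h ▸ hk)
          rw [Function.update_of_ne this]
        rw [hsum]
        have h3 : γ = (∑ k ∈ s, c k • (α k + (α k x0) • α a)) - (γ x0) • α a := by
          rw [← hγ']; abel
        rw [h3]
        simp only [smul_add, Finset.sum_add_distrib, smul_smul]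
        rw [← Finset.sum_smul, hca]
        module

open Set in
/-- Separation of a point from the convex hull of finitely many points by a functional coming
from a separating pairing. -/
theorem exists_separation {V W : Type*} [AddCommGroup V] [Module R V] [AddCommGroup W] [Module R W]
    (B : V →ₗ[R] W →ₗ[R] R) (hB : ∀ w : W, (∀ v, B v w = 0) → w = 0)
    {κ : Type*} [Finite κ] (p : κ → W) (y : W) (hy : y ∉ convexHull R (Set.range p)) :
    ∃ v : V, ∀ k, B v y < B v (p k) := by
  classical
  letI := Fintype.ofFinite κ
  -- forms on `V × R`
  let α : κ → Module.Dual R (V × R) := fun k =>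
    (B.flip (p k)).comp (LinearMap.fst R V R) + LinearMap.snd R V R
  let γ : Module.Dual R (V × R) := (B.flip y).comp (LinearMap.fst R V R) + LinearMap.snd R V R
  have hα : ∀ k (x : V × R), α k x = B x.1 (p k) + x.2 := fun k x => rfl
  have hγ : ∀ x : V × R, γ x = B x.1 y + x.2 := fun x => rfl
  by_contra hcon
  push Not at hcon
  apply hy
  obtain ⟨c, hc, hcγ⟩ := farkas (Finset.univ : Finset κ) α γ (by
    intro x hx
    by_contra hneg
    rw [not_le] at hneg
    obtain ⟨k, hk⟩ := hcon x.1
    have h1 := hx k (Finset.mem_univ k)
    rw [hα] at h1
    rw [hγ] at hneg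
    linarith)
  have hsum1 : ∑ k, c k = 1 := by
    have := LinearMap.congr_fun hcγ ((0 : V), (1 : R))
    rw [hγ] at this
    simp only [LinearMap.sum_apply, LinearMap.smul_apply, hα, map_zero, LinearMap.zero_apply,
      zero_add, smul_eq_mul, mul_one] at this
    exact this.symm
  have hy' : y = ∑ k, c k • p k := by
    rw [← sub_eq_zero]
    apply hB
    intro v
    have := LinearMap.congr_fun hcγ (v, (0 : R))
    rw [hγ] at this
    simp only [LinearMap.sum_apply, LinearMap.smul_apply, hα, add_zero, smul_eq_mul] at this
    rw [map_sub, map_sum, this, sub_eq_zero]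
    refine Finset.sum_congr rfl fun k _ => ?_
    rw [map_smul, smul_eq_mul]
  rw [hy']
  exact mem_convexHull_of_exists_fintype c p (fun k => hc k (Finset.mem_univ k)) hsum1
    (fun k => Set.mem_range_self k) rfl

end Groth.Agent.Lib.Helper25.RC
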