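import Mathlib
import Groth.Agent.Lib.Helper25RCDual

/-!
# Root chambers (Behrend), part 7: positive systems, chambers through positive roots,
the reflected base
-/

set_option autoImplicit false
set_option linter.unusedSectionVars false

namespace Groth.Agent.Lib.Helper25.RC

open RootCh Module Submodule

variable {ι : Type*} {R : Type*} {M : Type*} {N : Type*}
  [Field R] [LinearOrder R] [IsStrictOrderedRing R]
  [AddCommGroup M] [Module R M] [AddCommGroup N] [Module R N] [Finite ι]

variable {P : RootPairing ι R M N} [P.IsRootSystem] [P.IsCrystallographic] [P.IsReduced]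

lemma exists_rc_ne_zero (b : P.Base) (k : ι) :
    ∃ i : b.support, P.root' k (fundCoweight b i) ≠ 0 := by
  obtain ⟨f, ε, hε, ⟨i, hi⟩, hrc, -⟩ := exists_coeffs' b k
  refine ⟨i, ?_⟩
  rw [hrc i]
  have hε0 : ε ≠ 0 := by rcases hε with ⟨h, -⟩ | ⟨h, -⟩ <;> rw [h] <;> norm_num
  exact mul_ne_zero hε0 (by exact_mod_cast hi)

lemma coroot'_ne_zero_of_mem_openChamber {b : P.Base} {ξ : M} (hξ : ξ ∈ openChamber b) (k : ι) :
    P.coroot' k ξ ≠ 0 := by
  obtain ⟨-, -, a3⟩ :=
    coroot'_sign_of_mem_closedChamber b (openChamber_subset_closedChamber b hξ) k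
  intro h0
  obtain ⟨i, hi⟩ := exists_rc_ne_zero b k
  rcases (a3.mp h0) i with h | h
  · exact hi h
  · exact ((mem_openChamber_iff b).mp hξ i).ne' h

lemma isPos_iff_of_mem_openChamber {b : P.Base} {ξ : M} (hξ : ξ ∈ openChamber b) (k : ι) :
    b.IsPos k ↔ 0 < P.coroot' k ξ := by
  obtain ⟨a1, a2, -⟩ :=
    coroot'_sign_of_mem_closedChamber b (openChamber_subset_closedChamber b hξ) k
  have hne := coroot'_ne_zero_of_mem_openChamber hξ k
  constructor
  · intro hp
    exact lt_of_le_of_ne (a1 hp) (Ne.symm hne)
  · intro h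
    by_contra hp
    exact absurd (a2 hp) (not_le.mpr h)

lemma isPos_iff_rho (b : P.Base) (k : ι) : b.IsPos k ↔ 0 < P.coroot' k (rho b) :=
  isPos_iff_of_mem_openChamber (rho_mem_openChamber b) k

lemma mem_closedChamber_iff_isPos (b : P.Base) {ξ : M} :
    ξ ∈ closedChamber b ↔ ∀ k, b.IsPos k → 0 ≤ P.coroot' k ξ := by
  constructor
  · intro hξ k hk
    exact (coroot'_sign_of_mem_closedChamber b hξ k).1 hk
  · intro h i hi
    exact h i (RootPairing.Base.isPos_of_mem_support hi)

lemma isPos_nidx_iff (b : P.Base) (k : ι) : b.IsPos (nidx P k) ↔ ¬ b.IsPos k :=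
  RootPairing.Base.IsPos.neg_iff_not b k

/-- Every regular vector determines a base whose positive roots are those positive on it. -/
lemma exists_base_isPos_iff (ξ : M) (h : ∀ k, P.coroot' k ξ ≠ 0) :
    ∃ b : P.Base, ξ ∈ openChamber b ∧ ∀ k, b.IsPos k ↔ 0 < P.coroot' k ξ := by
  obtain ⟨b, hb⟩ := exists_base_of_regular ξ h
  exact ⟨b, hb, fun k => isPos_iff_of_mem_openChamber hb k⟩

/-- The base obtained by reflecting `b` in one of its simple roots. -/
lemma exists_reflBase (b : P.Base) (i : ι) :
    ∃ b' : P.Base, ∀ k, b'.IsPos k ↔ b.IsPos (P.reflectionPerm i k) := by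
  have hreg : ∀ k, P.coroot' k (P.reflection i (rho b)) ≠ 0 := by
    intro k
    rw [P.coroot'_reflection]
    exact coroot'_ne_zero_of_mem_openChamber (rho_mem_openChamber b) _
  obtain ⟨b', -, hb'⟩ := exists_base_isPos_iff (P.reflection i (rho b)) hreg
  refine ⟨b', fun k => ?_⟩
  rw [hb' k, P.coroot'_reflection, ← isPos_iff_rho]

lemma isPos_reflectionPerm_iff (b : P.Base) {i : ι} (hi : i ∈ b.support) (k : ι) :
    b.IsPos (P.reflectionPerm i k) ↔ (b.IsPos k ∧ k ≠ i) ∨ k = nidx P i := by
  constructor
  · intro h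
    by_cases hk : P.reflectionPerm i k = i
    · right
      have : k = P.reflectionPerm i (P.reflectionPerm i k) := (P.reflectionPerm_self i k).symm
      rw [this, hk]; rfl
    · left
      have h1 := h.reflectionPerm hi hk
      rw [P.reflectionPerm_self] at h1
      refine ⟨h1, ?_⟩
      rintro rfl
      have : ¬ b.IsPos k := (isPos_nidx_iff b k).mp h
      exact this h1
  · rintro (⟨h1, h2⟩ | rfl)
    · exact h1.reflectionPerm hi h2
    · show b.IsPos (P.reflectionPerm i (P.reflectionPerm i i))
      rw [P.reflectionPerm_self]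
      exact RootPairing.Base.isPos_of_mem_support hi

/-- closed chamber of a base in terms of a base with the reflected positive system -/
lemma mem_closedChamber_refl {b b' : P.Base} {i : ι}
    (hb' : ∀ k, b'.IsPos k ↔ b.IsPos (P.reflectionPerm i k)) {ξ : M} :
    ξ ∈ closedChamber b' ↔ P.reflection i ξ ∈ closedChamber b := by
  rw [mem_closedChamber_iff_isPos, mem_closedChamber_iff_isPos]
  constructor
  · intro h k hk
    rw [P.coroot'_reflection]
    apply h
    rw [hb', P.reflectionPerm_self]
    exact hk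
  · intro h k hk
    have := h _ ((hb' k).mp hk)
    rwa [P.coroot'_reflection, P.reflectionPerm_self] at this

omit [P.IsCrystallographic] [P.IsReduced] in
lemma reflection_fundWeight_of_ne (b : P.Base) {i j : b.support} (h : i ≠ j) :
    P.reflection i (fundWeight b j) = fundWeight b j := by
  classical
  rw [P.reflection_apply]
  rw [coroot'_fundWeight, if_neg h, zero_smul, sub_zero]

/-- Bases with the same positive roots have the same closed chamber. -/
lemma closedChamber_eq_of_isPos_iff {b b' : P.Base} (h : ∀ k, b.IsPos k ↔ b'.IsPos k) :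
    closedChamber b = closedChamber b' := by
  ext ξ
  rw [mem_closedChamber_iff_isPos, mem_closedChamber_iff_isPos]
  exact forall_congr' fun k => by rw [h k]

end Groth.Agent.Lib.Helper25.RC
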