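import Mathlib
import Groth.Agent.Lib.Helper25RCRefl

/-!
# Root chambers (Behrend), part 8: the sum of the roots of the parabolic set of a facet
-/

set_option autoImplicit false
set_option linter.unusedSectionVars false

namespace Groth.Agent.Lib.Helper25.RC

open RootCh Module Submodule

variable {ι : Type*} {R : Type*} {M : Type*} {N : Type*}
  [Field R] [LinearOrder R] [IsStrictOrderedRing R]
  [AddCommGroup M] [Module R M] [AddCommGroup N] [Module R N] [Finite ι]

section General

variable (P : RootPairing ι R M N)

lemma pairing_mul_rlen (i j : ι) : P.pairing j i * rlen P i = P.pairing i j * rlen P j := by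
  letI := Fintype.ofFinite ι
  exact (P.toInvariantForm).pairing_mul_eq_pairing_mul_swap i j

lemma pairing_neg_swap {i k : ι} (h : P.pairing k i < 0) : P.pairing i k < 0 := by
  have h1 := pairing_mul_rlen P i k
  have h2 : P.pairing k i * rlen P i < 0 := mul_neg_of_neg_of_pos h (rlen_pos P i)
  rw [h1] at h2
  by_contra hcon
  rw [not_lt] at hcon
  have := mul_nonneg hcon (rlen_pos P k).le
  linarith

lemma coroot'_reflectionPerm_apply (i k : ι) (ξ : M) :
    P.coroot' (P.reflectionPerm i k) ξ = P.coroot' k ξ - P.coroot' i ξ * P.pairing i k := by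
  rw [← P.coroot'_reflection, P.reflection_apply, map_sub, map_smul, smul_eq_mul,
    P.root_coroot'_eq_pairing]

lemma pairing_reflectionPerm_left (i k : ι) :
    P.pairing (P.reflectionPerm i k) i = - P.pairing k i := by
  rw [← P.root_coroot'_eq_pairing, P.root_reflectionPerm, P.coroot'_reflection]
  show P.coroot' (nidx P i) (P.root k) = _
  rw [coroot'_nidx, P.root_coroot'_eq_pairing]

lemma root'_reflectionPerm_apply (i k : ι) (x : N) :
    P.root' (P.reflectionPerm i k) x = P.root' k x - P.pairing k i * P.root' i x := by
  show P.toLinearMap (P.root (P.reflectionPerm i k)) x = _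
  rw [P.root_reflectionPerm, P.reflection_apply, map_sub, map_smul, LinearMap.sub_apply,
    LinearMap.smul_apply, smul_eq_mul, P.root_coroot'_eq_pairing]

end General

variable {P : RootPairing ι R M N} [P.IsRootSystem] [P.IsCrystallographic] [P.IsReduced]

omit [P.IsRootSystem] [P.IsCrystallographic] [P.IsReduced] in
/-- the Levi part sums to zero -/
lemma sum_levi_eq_zero [Fintype ι] [DecidableEq ι] (F : Facet P) :
    ∑ k ∈ Finset.univ.filter (fun k => F.sgn k = 0), P.root k = 0 := by
  apply Finset.sum_involution (fun k _ => nidx P k)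
  · intro k _
    rw [root_nidx, add_neg_cancel]
  · intro k _ _
    exact nidx_ne P k
  · intro k hk
    rw [Finset.mem_filter] at hk ⊢
    refine ⟨Finset.mem_univ _, ?_⟩
    rw [sgn_nidx, hk.2]; rfl
  · intro k _
    exact nidx_nidx P k

omit [P.IsRootSystem] [P.IsCrystallographic] [P.IsReduced] in
lemma sum_parab_eq [Fintype ι] [DecidableEq ι] (F : Facet P) :
    (∑ k ∈ (Set.toFinite F.parab).toFinset, P.root k) =
      ∑ k ∈ Finset.univ.filter (fun k => F.sgn k = 1), P.root k := by
  have hS : (Set.toFinite F.parab).toFinset =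
      Finset.univ.filter (fun k => F.sgn k = 0) ∪ Finset.univ.filter (fun k => F.sgn k = 1) := by
    ext k
    simp only [Set.Finite.mem_toFinset, Finset.mem_union, Finset.mem_filter, Finset.mem_univ,
      true_and]
    show F.sgn k ≠ -1 ↔ _
    cases F.sgn k <;> decide
  have hd : Disjoint (Finset.univ.filter (fun k => F.sgn k = 0))
      (Finset.univ.filter (fun k => F.sgn k = 1)) := by
    rw [Finset.disjoint_filter]
    intro k _ h0 h1
    rw [h0] at h1
    exact absurd h1 (by decide)
  rw [hS, Finset.sum_union hd, sum_levi_eq_zero, zero_add]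

/-- S14237: the sum of the roots of the parabolic set of `F` lies in `F`. -/
theorem sum_parab_mem_carrier (F : Facet P) :
    (∑ i ∈ (Set.toFinite F.parab).toFinset, P.root i) ∈ F.carrier := by
  classical
  letI := Fintype.ofFinite ι
  obtain ⟨b, hb⟩ := cham_nonempty F
  obtain ⟨ξ, hξ⟩ := carrier_nonempty F
  have hξs : ∀ k, F.sgn k = SignType.sign (P.coroot' k ξ) := by
    intro k
    have : sgnVec P ξ = F.sgn := hξ
    rw [← this]; rfl
  have hξ' := (mem_carrier_iff hb).mp hξ
  rw [sum_parab_eq, mem_carrier_iff hb]
  set U := Finset.univ.filter (fun k => F.sgn k = 1) with hU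
  have hmemU : ∀ k, k ∈ U ↔ 0 < P.coroot' k ξ := by
    intro k
    rw [hU, Finset.mem_filter, hξs k, sign_eq_one_iff]
    simp
  intro i
  have hsum : P.coroot' i (∑ k ∈ U, P.root k) = ∑ k ∈ U, P.pairing k i := by
    rw [map_sum]
    rfl
  rw [hsum]
  refine ⟨fun hi => ?_, fun hi => ?_⟩
  · -- positive case
    have hai : 0 < P.coroot' i ξ := (hξ' i).1 hi
    have hiU : (i : ι) ∈ U := (hmemU i).mpr hai
    rw [← Finset.add_sum_erase U _ hiU, P.pairing_same]
    set U' := U.erase (i : ι) with hU'
    suffices h : 0 ≤ ∑ k ∈ U', P.pairing k i by linarith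
    -- the stable part
    set V := U'.filter (fun k => P.reflectionPerm i k ∈ U') with hV
    have hV0 : ∑ k ∈ V, P.pairing k i = 0 := by
      apply Finset.sum_involution (fun k _ => P.reflectionPerm i k)
      · intro k _
        rw [pairing_reflectionPerm_left, add_neg_cancel]
      · intro k _ hk hfix
        apply hk
        have := pairing_reflectionPerm_left P i k
        rw [hfix] at this
        linarith
      · intro k hk
        rw [hV, Finset.mem_filter] at hk ⊢
        refine ⟨hk.2, ?_⟩
        rw [P.reflectionPerm_self]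
        exact hk.1
      · intro k _
        exact P.reflectionPerm_self i k
    have hsplit : ∑ k ∈ U', P.pairing k i =
        ∑ k ∈ V, P.pairing k i + ∑ k ∈ U'.filter (fun k => ¬ P.reflectionPerm i k ∈ U'),
          P.pairing k i := by
      rw [hV, Finset.sum_filter_add_sum_filter_not]
    rw [hsplit, hV0, zero_add]
    apply Finset.sum_nonneg
    intro k hk
    rw [Finset.mem_filter] at hk
    obtain ⟨hkU', hk2⟩ := hk
    by_contra hneg
    rw [not_le] at hneg
    apply hk2
    have hkU : k ∈ U := Finset.mem_of_mem_erase hkU'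
    have hk0 : 0 < P.coroot' k ξ := (hmemU k).mp hkU
    have hswap : P.pairing i k < 0 := pairing_neg_swap P hneg
    rw [hU', Finset.mem_erase]
    constructor
    · intro heq
      -- `s_i k = i` forces `k = -i`
      have : k = nidx P i := by
        have h1 : k = P.reflectionPerm i (P.reflectionPerm i k) := (P.reflectionPerm_self i k).symm
        rw [h1, heq]; rfl
      rw [this, coroot'_nidx] at hk0
      linarith
    · rw [hmemU, coroot'_reflectionPerm_apply]
      have : P.coroot' i ξ * P.pairing i k < 0 := mul_neg_of_pos_of_neg hai hswap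
      linarith
  · -- Levi case
    have hai : P.coroot' i ξ = 0 := (hξ' i).2 hi
    have hperm : ∀ k, k ∈ U ↔ P.reflectionPerm i k ∈ U := by
      intro k
      rw [hmemU, hmemU, coroot'_reflectionPerm_apply, hai, zero_mul, sub_zero]
    have h1 : ∑ k ∈ U, P.pairing (P.reflectionPerm i k) i = ∑ k ∈ U, P.pairing k i :=
      Finset.sum_equiv (P.reflectionPerm i) hperm (fun k _ => rfl)
    have h2 : ∑ k ∈ U, P.pairing (P.reflectionPerm i k) i = - ∑ k ∈ U, P.pairing k i := by
      rw [← Finset.sum_neg_distrib]
      exact Finset.sum_congr rfl fun k _ => pairing_reflectionPerm_left P i k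
    rw [h1] at h2
    linarith

end Groth.Agent.Lib.Helper25.RC
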