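import Mathlib
import Groth.Agent.Lib.Helper25RCSigma

/-!
# Root chambers (Behrend), part 9: the correspondence weight ↔ coweight is a function;
elementary sets of roots
-/

set_option autoImplicit false
set_option linter.unusedSectionVars false

namespace Groth.Agent.Lib.Helper25.RC

open RootCh Module Submodule

variable {ι : Type*} {R : Type*} {M : Type*} {N : Type*}
  [Field R] [LinearOrder R] [IsStrictOrderedRing R]
  [AddCommGroup M] [Module R M] [AddCommGroup N] [Module R N] [Finite ι]

variable {P : RootPairing ι R M N} [P.IsRootSystem] [P.IsCrystallographic] [P.IsReduced]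

/-- If a fundamental weight of `b'` equals a fundamental weight of `b`, the corresponding
fundamental coweights agree. -/
theorem fundCoweight_eq_of_fundWeight_eq (b b' : P.Base) (i : b.support) (i' : b'.support)
    (h : fundWeight b' i' = fundWeight b i) : fundCoweight b' i' = fundCoweight b i := by
  classical
  have hs : cosgnVec P (fundCoweight b' i') = cosgnVec P (fundCoweight b i) := by
    rw [← sgnVec_fundWeight_eq_cosgnVec, ← sgnVec_fundWeight_eq_cosgnVec, h]
  have hmem : fundWeight (P := P.flip) b'.flip i' ∈ closedChamber (P := P.flip) b.flip := by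
    intro j hj
    have h1 : cosgnVec P (fundCoweight b' i') j = cosgnVec P (fundCoweight b i) j := by rw [hs]
    have h2 : 0 ≤ cosgnVec P (fundCoweight b i) j := by
      apply sign_nonneg_iff.mpr
      rw [root'_fundCoweight b i ⟨j, hj⟩]
      split_ifs <;> simp
    rw [← h1] at h2
    exact sign_nonneg_iff.mp h2
  obtain ⟨j, hj⟩ := fundWeight_mem_closedChamber_eq (P := P.flip) b.flip b'.flip i' hmem
  have hj' : fundCoweight b' i' = fundCoweight b j := hj
  rw [hj']
  congr 1
  rw [hj'] at hs
  have h1 : cosgnVec P (fundCoweight b j) i = cosgnVec P (fundCoweight b i) i := by rw [hs]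
  unfold cosgnVec at h1
  rw [root'_fundCoweight, root'_fundCoweight, if_pos rfl] at h1
  by_contra hne
  rw [if_neg (Ne.symm hne)] at h1
  simp at h1

/-- `Corr` is functional. -/
theorem corr_unique {m : M} {x x' : N} (h : Corr P m x) (h' : Corr P m x') : x = x' := by
  obtain ⟨b, i, rfl, rfl⟩ := h
  obtain ⟨b', i', hm, rfl⟩ := h'
  exact (fundCoweight_eq_of_fundWeight_eq b b' i i' hm).symm

lemma corr_fundWeight (b : P.Base) (i : b.support) {x : N} :
    Corr P (fundWeight b i) x ↔ x = fundCoweight b i :=
  ⟨fun h => corr_unique h ⟨b, i, rfl, rfl⟩, fun h => ⟨b, i, rfl, h.symm⟩⟩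

/-- Description of the elementary set of roots relative to an adjacent chamber. -/
lemma mem_Psi_iff {F : Facet P} {b : P.Base} (hb : b ∈ F.cham) (j0 : b.support) (k : ι) :
    k ∈ F.Psi (fundWeight b j0) ↔ P.root' k (fundCoweight b j0) = 1 ∧
      ∀ j ∈ Jset F b, j ≠ j0 → P.root' k (fundCoweight b j) = 0 := by
  constructor
  · rintro ⟨h1, h2⟩
    refine ⟨h1 _ ⟨b, j0, rfl, rfl⟩, fun j hj hne => ?_⟩
    apply h2 (fundWeight b j)
    · rw [corners_eq hb]; exact ⟨j, hj, rfl⟩
    · intro h; exact hne (fundWeight_injective b h)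
    · exact ⟨b, j, rfl, rfl⟩
  · rintro ⟨h1, h2⟩
    refine ⟨fun x hx => ?_, fun w' hw' hne x hx => ?_⟩
    · rw [(corr_fundWeight b j0).mp hx]; exact h1
    · rw [corners_eq hb] at hw'
      obtain ⟨j, hj, rfl⟩ := hw'
      rw [(corr_fundWeight b j).mp hx]
      apply h2 j hj
      rintro rfl
      exact hne rfl

/-- membership in the span of the corners -/
lemma mem_span_corners_iff {F : Facet P} {b : P.Base} (hb : b ∈ F.cham) {ξ : M} :
    ξ ∈ Submodule.span R F.corners ↔ ∀ i : b.support, i ∉ Jset F b → P.coroot' i ξ = 0 := by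
  classical
  rw [corners_eq hb]
  constructor
  · intro h i hi
    induction h using Submodule.span_induction with
    | mem x hx =>
      obtain ⟨j, hj, rfl⟩ := hx
      have : i ≠ j := fun h => hi (h ▸ hj)
      rw [coroot'_fundWeight, if_neg this]
    | zero => rw [map_zero]
    | add x y _ _ hx hy => rw [map_add, hx, hy, add_zero]
    | smul a x _ hx => rw [map_smul, hx, smul_zero]
  · intro h
    rw [fundWeight_expansion b ξ]
    apply Submodule.sum_mem
    intro j _
    by_cases hj : j ∈ Jset F b
    · exact Submodule.smul_mem _ _ (Submodule.subset_span ⟨j, hj, rfl⟩)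
    · rw [h j hj, zero_smul]
      exact Submodule.zero_mem _

/-- S14242 -/
theorem sum_Psi_mem_span (F : Facet P) (m : M) (hm : m ∈ F.corners) :
    (∑ i ∈ (Set.toFinite (F.Psi m)).toFinset, P.root i) ∈ Submodule.span R F.corners := by
  classical
  obtain ⟨b, hb⟩ := cham_nonempty F
  have hm' := hm
  rw [corners_eq hb] at hm'
  obtain ⟨j0, hj0, rfl⟩ := hm'
  rw [mem_span_corners_iff hb]
  intro i hi
  set U := (Set.toFinite (F.Psi (fundWeight b j0))).toFinset with hU
  have hsum : P.coroot' i (∑ k ∈ U, P.root k) = ∑ k ∈ U, P.pairing k i := by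
    rw [map_sum]
    rfl
  rw [hsum]
  have hperm : ∀ k, k ∈ U ↔ P.reflectionPerm i k ∈ U := by
    intro k
    rw [hU, Set.Finite.mem_toFinset, Set.Finite.mem_toFinset, mem_Psi_iff hb, mem_Psi_iff hb]
    have key : ∀ j ∈ Jset F b,
        P.root' (P.reflectionPerm i k) (fundCoweight b j) = P.root' k (fundCoweight b j) := by
      intro j hj
      have : i ≠ j := fun h => hi (h ▸ hj)
      rw [root'_reflectionPerm_apply, root'_fundCoweight, if_neg this, mul_zero, sub_zero]
    rw [key j0 hj0]
    constructor
    · rintro ⟨h1, h2⟩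
      exact ⟨h1, fun j hj hne => by rw [key j hj]; exact h2 j hj hne⟩
    · rintro ⟨h1, h2⟩
      exact ⟨h1, fun j hj hne => by rw [← key j hj]; exact h2 j hj hne⟩
  have h1 : ∑ k ∈ U, P.pairing (P.reflectionPerm i k) i = ∑ k ∈ U, P.pairing k i :=
    Finset.sum_equiv (P.reflectionPerm i) hperm (fun k _ => rfl)
  have h2 : ∑ k ∈ U, P.pairing (P.reflectionPerm i k) i = - ∑ k ∈ U, P.pairing k i := by
    rw [← Finset.sum_neg_distrib]
    exact Finset.sum_congr rfl fun k _ => pairing_reflectionPerm_left P i k
  rw [h1] at h2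
  linarith

end Groth.Agent.Lib.Helper25.RC
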