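import Mathlib
import Groth.Agent.Lib.Helper25RCPsi

/-!
# Root chambers (Behrend), part 10: complementary convex solids — crossing a wall, galleries
-/

set_option autoImplicit false
set_option linter.unusedSectionVars false

namespace Groth.Agent.Lib.Helper25.RC

open RootCh Module Submodule

variable {ι : Type*} {R : Type*} {M : Type*} {N : Type*}
  [Field R] [LinearOrder R] [IsStrictOrderedRing R]
  [AddCommGroup M] [Module R M] [AddCommGroup N] [Module R N] [Finite ι]

variable {P : RootPairing ι R M N} [P.IsRootSystem]

omit [LinearOrder R] [IsStrictOrderedRing R] [Finite ι] in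
lemma toLinearMap_fundWeight (b : P.Base) (j : b.support) (y : N) :
    P.toLinearMap (fundWeight b j) y = b.toCoweightBasis.coord j y := by
  have h : P.toLinearMap (P.toPerfPair.symm (b.toCoweightBasis.coord j)) =
      b.toCoweightBasis.coord j :=
    P.toLinearMap.apply_symm_toPerfPair_self _
  rw [fundWeight, h]

omit [LinearOrder R] [IsStrictOrderedRing R] [Finite ι] in
/-- Expansion of a vector of `N` in the simple coroots. -/
lemma coroot_expansion (b : P.Base) (y : N) :
    y = ∑ j : b.support, P.toLinearMap (fundWeight b j) y • P.coroot j := by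
  conv_lhs => rw [← b.toCoweightBasis.sum_repr y]
  refine Finset.sum_congr rfl fun j _ => ?_
  rw [toLinearMap_fundWeight, b.toCoweightBasis_apply]
  rfl

omit [LinearOrder R] [IsStrictOrderedRing R] [Finite ι] in
/-- vectors of `N` are determined by their pairings with the fundamental weights of a base -/
lemma eq_of_forall_fundWeight_eq (b : P.Base) {y z : N}
    (h : ∀ j : b.support, P.toLinearMap (fundWeight b j) y = P.toLinearMap (fundWeight b j) z) :
    y = z := by
  rw [coroot_expansion b y, coroot_expansion b z]
  exact Finset.sum_congr rfl fun j _ => by rw [h j]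

variable [P.IsCrystallographic] [P.IsReduced]

instance : Finite P.Base := by
  have hinj : Function.Injective (fun b : P.Base => b.support) := by
    intro b b' h
    cases b; cases b'
    simp only at h
    subst h
    rfl
  exact Finite.of_injective _ hinj

/-- Crossing the wall of the simple root `i`: the two values of `d` differ by a non-positive
multiple of the simple coroot. -/
theorem ccs_step {d : P.Base → N} (hd : IsCCS d) (b b' : P.Base) {i : ι} (hi : i ∈ b.support)
    (hb' : ∀ k, b'.IsPos k ↔ b.IsPos (P.reflectionPerm i k)) :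
    ∃ t : R, t ≤ 0 ∧ d b - d b' = t • P.coroot i := by
  classical
  set i0 : b.support := ⟨i, hi⟩ with hi0
  -- common corners
  have hcommon : baseCorners b ∩ baseCorners b' =
      fundWeight b '' ((Finset.univ.erase i0 : Finset b.support) : Set b.support) := by
    ext w
    constructor
    · rintro ⟨h1, h2⟩
      rw [baseCorners_eq] at h1
      obtain ⟨j, rfl⟩ := h1
      refine ⟨j, ?_, rfl⟩
      rw [Finset.mem_coe, Finset.mem_erase]
      refine ⟨?_, Finset.mem_univ _⟩
      rintro rfl
      have h3 := (mem_closedChamber_refl hb').mp h2.2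
      have h4 := h3 i hi
      rw [P.reflection_apply, map_sub, map_smul, smul_eq_mul, P.root_coroot'_eq_pairing,
        P.pairing_same] at h4
      have h5 : P.coroot' i (fundWeight b i0) = 1 := coroot'_fundWeight_self b i0
      rw [h5] at h4
      linarith
    · rintro ⟨j, hj, rfl⟩
      rw [Finset.mem_coe, Finset.mem_erase] at hj
      refine ⟨⟨⟨b, j, rfl⟩, fundWeight_mem_closedChamber b j⟩, ⟨⟨b, j, rfl⟩, ?_⟩⟩
      rw [mem_closedChamber_refl hb']
      have : i0 ≠ j := fun h => hj.1 h.symm
      have h6 := reflection_fundWeight_of_ne b this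
      rw [show ((i0 : b.support) : ι) = i from rfl] at h6
      rw [h6]
      exact fundWeight_mem_closedChamber b j
  have hcard : (baseCorners b ∩ baseCorners b').ncard + 1 = b.support.card := by
    rw [hcommon, Set.ncard_image_of_injective _ (fundWeight_injective b), Set.ncard_coe_finset,
      Finset.card_erase_add_one (Finset.mem_univ i0), Finset.card_univ, Fintype.card_coe]
  have hwall : ∀ j : ι, (b.IsPos j ∧ ¬ b'.IsPos j) ↔ j = i := by
    intro j
    rw [hb', isPos_reflectionPerm_iff b hi]
    constructor
    · rintro ⟨h1, h2⟩
      by_contra hne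
      apply h2
      exact Or.inl ⟨h1, hne⟩
    · rintro rfl
      refine ⟨RootPairing.Base.isPos_of_mem_support hi, ?_⟩
      rintro (⟨-, h⟩ | h)
      · exact h rfl
      · exact nidx_ne P j h.symm
  have hB2 := hd.wall_le b b' i hcard hwall
  have hB1 : ∀ j : b.support, j ≠ i0 →
      P.toLinearMap (fundWeight b j) (d b) = P.toLinearMap (fundWeight b j) (d b') := by
    intro j hj
    have hmem : fundWeight b j ∈ baseCorners b ∩ baseCorners b' := by
      rw [hcommon]
      refine ⟨j, ?_, rfl⟩
      rw [Finset.mem_coe, Finset.mem_erase]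
      exact ⟨hj, Finset.mem_univ _⟩
    exact hd.corner_eq b b' _ hmem.1 hmem.2
  set t := P.toLinearMap (fundWeight b i0) (d b - d b') with ht
  have hexp : d b - d b' = t • P.coroot i := by
    rw [coroot_expansion b (d b - d b')]
    rw [Finset.sum_eq_single i0]
    · intro j _ hj
      rw [map_sub, hB1 j hj, sub_self, zero_smul]
    · intro h; exact absurd (Finset.mem_univ _) h
  refine ⟨t, ?_, hexp⟩
  have h7 : P.root' i (d b - d b') ≤ 0 := by
    rw [map_sub]; linarith
  rw [hexp, map_smul, smul_eq_mul] at h7
  have h8 : P.root' i (P.coroot i) = 2 := by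
    rw [P.root'_coroot_eq_pairing, P.pairing_same]
  rw [h8] at h7
  linarith

/-- **Gallery lemma**: a corner `m` of the chamber `C` pairs at least as much with `d D`, for any
chamber `D`, as with `d C`. -/
theorem gallery {d : P.Base → N} (hd : IsCCS d) (C : P.Base) {m : M} (hm : m ∈ baseCorners C) :
    ∀ D : P.Base, P.toLinearMap m (d C) ≤ P.toLinearMap m (d D) := by
  classical
  suffices h : ∀ (n : ℕ) (D : P.Base),
      ({k | D.IsPos k ∧ P.coroot' k m < 0} : Set ι).ncard = n →
      P.toLinearMap m (d C) ≤ P.toLinearMap m (d D) from fun D => h _ D rfl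
  intro n
  induction n using Nat.strong_induction_on with
  | _ n ih =>
    intro D hn
    by_cases hmD : m ∈ closedChamber D
    · exact (hd.corner_eq C D m hm ⟨hm.1, hmD⟩).le
    · have : ∃ i ∈ D.support, P.coroot' i m < 0 := by
        by_contra hcon
        push Not at hcon
        exact hmD hcon
      obtain ⟨i, hi, hneg⟩ := this
      obtain ⟨D', hD'⟩ := exists_reflBase D i
      obtain ⟨t, ht, hstep⟩ := ccs_step hd D D' hi hD'
      have hsub : ({k | D'.IsPos k ∧ P.coroot' k m < 0} : Set ι) ⊂
          {k | D.IsPos k ∧ P.coroot' k m < 0} := by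
        rw [Set.ssubset_iff_of_subset]
        · refine ⟨i, ⟨RootPairing.Base.isPos_of_mem_support hi, hneg⟩, ?_⟩
          rintro ⟨h1, -⟩
          rw [hD', isPos_reflectionPerm_iff D hi] at h1
          rcases h1 with ⟨-, h⟩ | h
          · exact h rfl
          · exact nidx_ne P i h.symm
        · rintro k ⟨h1, h2⟩
          rw [hD', isPos_reflectionPerm_iff D hi] at h1
          rcases h1 with ⟨h, -⟩ | rfl
          · exact ⟨h, h2⟩
          · rw [coroot'_nidx] at h2
            linarith
      have hlt := Set.ncard_lt_ncard hsub (Set.toFinite _)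
      rw [hn] at hlt
      have h1 := ih _ hlt D' rfl
      have h2 : P.toLinearMap m (d D) - P.toLinearMap m (d D') = t * P.coroot' i m := by
        rw [← map_sub, hstep, map_smul, smul_eq_mul]
        rfl
      have h3 : 0 ≤ t * P.coroot' i m := mul_nonneg_of_nonpos_of_nonpos ht hneg.le
      linarith

end Groth.Agent.Lib.Helper25.RC
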