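import Mathlib
import Groth.Agent.Lib.Helper25RCGallery
import Groth.Agent.Lib.Helper25RCFarkas

/-!
# Root chambers (Behrend), part 11: description of the dual solids by half-spaces
-/

set_option autoImplicit false
set_option linter.unusedSectionVars false

namespace Groth.Agent.Lib.Helper25.RC

open RootCh Module Submodule

variable {ι : Type*} {R : Type*} {M : Type*} {N : Type*}
  [Field R] [LinearOrder R] [IsStrictOrderedRing R]
  [AddCommGroup M] [Module R M] [AddCommGroup N] [Module R N] [Finite ι]

variable {P : RootPairing ι R M N} [P.IsRootSystem]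

omit [Finite ι] in
lemma convex_hyper (d : P.Base → N) (m : M) : Convex R (hyper d m) := by
  intro x hx y hy a c _ _ hac b hb
  rw [map_add, map_smul, map_smul, hx b hb, hy b hb, ← add_smul, hac, one_smul]

omit [Finite ι] in
lemma convex_halfClosed (d : P.Base → N) (m : M) : Convex R (halfClosed d m) := by
  intro x hx y hy a c ha hc hac b hb
  rw [map_add, map_smul, map_smul, smul_eq_mul, smul_eq_mul]
  have h1 := hx b hb
  have h2 := hy b hb
  calc P.toLinearMap m (d b) = a * P.toLinearMap m (d b) + c * P.toLinearMap m (d b) := by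
        rw [← add_mul, hac, one_mul]
    _ ≤ a * P.toLinearMap m x + c * P.toLinearMap m y :=
        add_le_add (mul_le_mul_of_nonneg_left h1 ha) (mul_le_mul_of_nonneg_left h2 hc)

variable [P.IsCrystallographic] [P.IsReduced]

/-- Small perturbations of a point of a facet stay in a chamber adjacent to the facet. -/
lemma exists_perturb (F : Facet P) {ζ : M} (hζ : ζ ∈ F.carrier) (ξ : M) :
    ∃ t : R, 0 < t ∧ ∃ b₀ ∈ F.cham, ζ + t • ξ ∈ closedChamber b₀ := by
  classical
  letI := Fintype.ofFinite ι
  let a : ι → R := fun k => P.coroot' k ζ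
  let r : ι → R := fun k => P.coroot' k ξ
  obtain ⟨t, ht, ht'⟩ := exists_pos_lt_finset (Finset.univ.filter fun k => a k ≠ 0 ∧ r k ≠ 0)
    (fun k => |a k| / |r k|)
    (fun k hk => div_pos (abs_pos.mpr (Finset.mem_filter.mp hk).2.1)
      (abs_pos.mpr (Finset.mem_filter.mp hk).2.2))
  have hsmall : ∀ k, a k ≠ 0 → |t * r k| < |a k| := by
    intro k hk
    by_cases hr : r k = 0
    · rw [hr, mul_zero, abs_zero]; exact abs_pos.mpr hk
    · have := ht' k (Finset.mem_filter.mpr ⟨Finset.mem_univ k, hk, hr⟩)
      rw [lt_div_iff₀ (abs_pos.mpr hr)] at this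
      rwa [abs_mul, abs_of_pos ht]
  obtain ⟨b₀, hb₀⟩ := exists_base_mem_closedChamber (P := P) (ζ + t • ξ)
  refine ⟨t, ht, b₀, ?_, hb₀⟩
  apply mem_cham_of_mem hζ
  intro i hi
  have h1 : 0 ≤ a i + t * r i := by
    have := hb₀ i hi
    rwa [map_add, map_smul, smul_eq_mul] at this
  by_contra hneg
  rw [not_le] at hneg
  have hneg' : a i < 0 := hneg
  have h2 := hsmall i hneg'.ne
  rw [abs_of_neg hneg'] at h2
  have h3 : t * r i ≤ |t * r i| := le_abs_self _
  linarith

/-- S14238: the dual solid of a facet is cut out by the hyperplanes of its corners and the closed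
half-spaces of the corners of the adjacent chambers. -/
theorem dualSolid_eq {d : P.Base → N} (hd : IsCCS d) (F : Facet P) :
    dualSolid d F = (⋂ m ∈ F.corners, hyper d m) ∩ ⋂ m ∈ F.corners', halfClosed d m := by
  classical
  apply Set.Subset.antisymm
  · apply convexHull_min
    · rintro _ ⟨D, hD, rfl⟩
      refine ⟨?_, ?_⟩
      · simp only [Set.mem_iInter]
        intro m hm b hmb
        have hmD : m ∈ baseCorners D := ⟨hm.1, closure_subset_closedChamber hD hm.2⟩
        exact hd.corner_eq D b m hmD hmb
      · simp only [Set.mem_iInter]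
        intro m _ b hmb
        exact gallery hd b hmb D
    · apply Convex.inter
      · exact convex_iInter₂ fun m _ => convex_hyper d m
      · exact convex_iInter₂ fun m _ => convex_halfClosed d m
  · rintro y ⟨hy1, hy2⟩
    simp only [Set.mem_iInter] at hy1 hy2
    by_contra hcon
    obtain ⟨b1, hb1⟩ := cham_nonempty F
    have hrange : d '' F.cham = Set.range (fun b : F.cham => d b) := by
      ext z; simp
    have hfin : Finite F.cham := Subtype.finite
    unfold dualSolid at hcon
    rw [hrange] at hcon
    obtain ⟨ξ, hξ⟩ := exists_separation (V := M) (W := N) P.toLinearMap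
      (fun w hw => by
        apply eq_of_forall_fundWeight_eq b1
        intro j
        rw [hw, map_zero]) (fun b : F.cham => d b) y hcon
    obtain ⟨ζ, hζ⟩ := carrier_nonempty F
    obtain ⟨t, ht, b₀, hb₀, hmem⟩ := exists_perturb F hζ ξ
    have hsep := hξ ⟨b₀, hb₀⟩
    simp only at hsep
    have hζ' := (mem_carrier_iff hb₀).mp hζ
    have hc : ∀ i : b₀.support, 0 ≤ P.coroot' i (ζ + t • ξ) := (mem_closedChamber_iff b₀).mp hmem
    -- pairings of the fundamental weights of `b₀` with `y - d b₀`
    have hJ : ∀ i ∈ Jset F b₀, P.toLinearMap (fundWeight b₀ i) (y - d b₀) = 0 := by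
      intro i hi
      have hcor : fundWeight b₀ i ∈ F.corners := by
        rw [corners_eq hb₀]; exact ⟨i, hi, rfl⟩
      rw [map_sub, hy1 _ hcor b₀ ⟨⟨b₀, i, rfl⟩, fundWeight_mem_closedChamber b₀ i⟩, sub_self]
    have hall : ∀ i : b₀.support, 0 ≤ P.toLinearMap (fundWeight b₀ i) (y - d b₀) := by
      intro i
      have hcor' : fundWeight b₀ i ∈ F.corners' := by
        simp only [Facet.corners', Set.mem_iUnion]
        exact ⟨b₀, hb₀, ⟨⟨b₀, i, rfl⟩, fundWeight_mem_closedChamber b₀ i⟩⟩
      have := hy2 _ hcor' b₀ ⟨⟨b₀, i, rfl⟩, fundWeight_mem_closedChamber b₀ i⟩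
      rw [map_sub]; linarith
    have h1 : 0 ≤ P.toLinearMap (ζ + t • ξ) (y - d b₀) := by
      rw [fundWeight_expansion b₀ (ζ + t • ξ), map_sum, LinearMap.sum_apply]
      apply Finset.sum_nonneg
      intro i _
      rw [map_smul, LinearMap.smul_apply, smul_eq_mul]
      exact mul_nonneg (hc i) (hall i)
    have h2 : P.toLinearMap ζ (y - d b₀) = 0 := by
      rw [fundWeight_expansion b₀ ζ, map_sum, LinearMap.sum_apply]
      apply Finset.sum_eq_zero
      intro i _
      rw [map_smul, LinearMap.smul_apply, smul_eq_mul]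
      by_cases hi : i ∈ Jset F b₀
      · rw [hJ i hi, mul_zero]
      · rw [(hζ' i).2 hi, zero_mul]
    rw [map_add, LinearMap.add_apply, h2, zero_add, map_smul, LinearMap.smul_apply, smul_eq_mul,
      map_sub] at h1
    have h3 : 0 ≤ P.toLinearMap ξ y - P.toLinearMap ξ (d b₀) := by
      by_contra hneg
      rw [not_le] at hneg
      have := mul_neg_of_pos_of_neg ht hneg
      linarith
    linarith

end Groth.Agent.Lib.Helper25.RC
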