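import Mathlib
import Groth.Agent.Lib.Helper25RCSolid

/-!
# Root chambers (Behrend), part 12: semistability criteria, independence of degree and numerical
invariants of the adjacent chamber
-/

set_option autoImplicit false
set_option linter.unusedSectionVars false

namespace Groth.Agent.Lib.Helper25.RC

open RootCh Module Submodule

variable {ι : Type*} {R : Type*} {M : Type*} {N : Type*}
  [Field R] [LinearOrder R] [IsStrictOrderedRing R]
  [AddCommGroup M] [Module R M] [AddCommGroup N] [Module R N] [Finite ι]

variable {P : RootPairing ι R M N} [P.IsRootSystem] [P.IsCrystallographic] [P.IsReduced]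

omit [P.IsRootSystem] [P.IsCrystallographic] [P.IsReduced] in
lemma origin_carrier : (Facet.origin P).carrier = {ξ | ∀ k, P.coroot' k ξ = 0} := by
  ext ξ
  show sgnVec P ξ = sgnVec P 0 ↔ _
  constructor
  · intro h k
    have := congrFun h k
    unfold sgnVec at this
    rw [map_zero, sign_zero] at this
    exact sign_eq_zero_iff.mp this
  · intro h
    ext k
    unfold sgnVec
    rw [h k]
    simp

omit [P.IsRootSystem] [P.IsCrystallographic] [P.IsReduced] in
lemma origin_cham (b : P.Base) : b ∈ (Facet.origin P).cham := by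
  intro ξ hξ i _
  rw [origin_carrier] at hξ
  exact (hξ i).ge

omit [P.IsCrystallographic] [P.IsReduced] in
lemma origin_corners : (Facet.origin P).corners = ∅ := by
  ext m
  simp only [Set.mem_empty_iff_false, iff_false]
  rintro ⟨⟨b, i, rfl⟩, h2⟩
  have := h2 i
  have h0 : sgnVec P (0 : M) i = 0 := by unfold sgnVec; rw [map_zero, sign_zero]
  have h3 : sgnVec P (fundWeight b i) i = 0 := by
    rcases this with h | h
    · exact h
    · rw [h]; exact h0
  unfold sgnVec at h3
  rw [coroot'_fundWeight_self, sign_one] at h3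
  exact absurd h3 (by decide)

omit [P.IsCrystallographic] [P.IsReduced] in
lemma origin_corners' : (Facet.origin P).corners' = ⋃ b : P.Base, baseCorners b := by
  ext m
  simp only [Facet.corners', Set.mem_iUnion]
  constructor
  · rintro ⟨b, -, h⟩; exact ⟨b, h⟩
  · rintro ⟨b, h⟩; exact ⟨b, origin_cham b, h⟩

omit [P.IsCrystallographic] [P.IsReduced] in
lemma solid_eq_dualSolid_origin (d : P.Base → N) : solid d = dualSolid d (Facet.origin P) := by
  unfold solid dualSolid
  congr 1
  ext z
  simp only [Set.mem_range, Set.mem_image]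
  constructor
  · rintro ⟨b, rfl⟩; exact ⟨b, origin_cham b, rfl⟩
  · rintro ⟨b, -, rfl⟩; exact ⟨b, rfl⟩

/-- the solid itself is the intersection of the closed half-spaces of all fundamental weights -/
theorem mem_solid_iff {d : P.Base → N} (hd : IsCCS d) (y : N) :
    y ∈ solid d ↔ ∀ (b : P.Base), ∀ m ∈ baseCorners b,
      P.toLinearMap m (d b) ≤ P.toLinearMap m y := by
  rw [solid_eq_dualSolid_origin, dualSolid_eq hd, origin_corners, origin_corners']
  simp only [Set.mem_empty_iff_false, Set.iInter_of_empty, Set.iInter_univ, Set.univ_inter,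
    Set.mem_iInter, Set.mem_iUnion, forall_exists_index]
  constructor
  · intro h b m hm
    exact h m b hm b hm
  · intro h m _ _ b hm
    exact h b m hm

/-- S14241 -/
theorem semistable_iff_corners {d : P.Base → N} (hd : IsCCS d) :
    (∀ (b : P.Base), ∀ m ∈ baseCorners b, P.toLinearMap m (d b) ≤ 0) ↔ IsSemistable d := by
  unfold IsSemistable
  rw [mem_solid_iff hd]
  simp only [map_zero]

omit [P.IsRootSystem] [P.IsCrystallographic] [P.IsReduced] in
lemma deg_eq (d : P.Base → N) (F : Facet P) (b : P.Base) :
    F.deg d b = P.toLinearMap (∑ i ∈ (Set.toFinite F.parab).toFinset, P.root i) (d b) := by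
  unfold Facet.deg
  rw [map_sum, LinearMap.sum_apply]

omit [P.IsCrystallographic] [P.IsReduced] in
lemma numInv_eq (d : P.Base → N) (F : Facet P) (m : M) (b : P.Base) :
    F.numInv d m b = P.toLinearMap (∑ i ∈ (Set.toFinite (F.Psi m)).toFinset, P.root i) (d b) := by
  unfold Facet.numInv
  rw [map_sum, LinearMap.sum_apply]

/-- the degree as a positive combination over the corners -/
lemma deg_expansion (d : P.Base → N) {F : Facet P} {b : P.Base} (hb : b ∈ F.cham) :
    ∃ c : b.support → R, (∀ j ∈ Jset F b, 0 < c j) ∧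
      ∀ y : N, P.toLinearMap (∑ i ∈ (Set.toFinite F.parab).toFinset, P.root i) y =
        ∑ j ∈ Jset F b, c j * P.toLinearMap (fundWeight b j) y := by
  have hσ := sum_parab_mem_carrier F
  set σ := ∑ i ∈ (Set.toFinite F.parab).toFinset, P.root i with hσdef
  refine ⟨fun j => P.coroot' j σ, fun j hj => ((mem_carrier_iff hb).mp hσ j).1 hj, fun y => ?_⟩
  conv_lhs => rw [carrier_expansion hb hσ]
  rw [map_sum, LinearMap.sum_apply]
  refine Finset.sum_congr rfl fun j _ => ?_
  rw [map_smul, LinearMap.smul_apply, smul_eq_mul]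

/-- S14239 -/
theorem semistable_iff_deg {d : P.Base → N} (hd : IsCCS d) :
    (∀ (F : Facet P) (b : P.Base), b ∈ F.cham → F.deg d b ≤ 0) ↔ IsSemistable d := by
  classical
  rw [← semistable_iff_corners hd]
  constructor
  · intro h b m hm
    rw [baseCorners_eq] at hm
    obtain ⟨j, rfl⟩ := hm
    have hb := mem_cham_facetOf (b := b) {j}
    have h1 := h (facetOf b {j}) b hb
    obtain ⟨c, hc, hexp⟩ := deg_expansion d hb
    rw [deg_eq, hexp, Jset_facetOf, Finset.sum_singleton] at h1
    have hcj : 0 < c j := hc j (by rw [Jset_facetOf]; exact Finset.mem_singleton_self j)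
    by_contra hcon
    rw [not_le] at hcon
    have := mul_pos hcj hcon
    linarith
  · intro h F b hb
    obtain ⟨c, hc, hexp⟩ := deg_expansion d hb
    rw [deg_eq, hexp]
    apply Finset.sum_nonpos
    intro j hj
    apply mul_nonpos_of_nonneg_of_nonpos (hc j hj).le
    exact h b _ ⟨⟨b, j, rfl⟩, fundWeight_mem_closedChamber b j⟩

lemma dim_facetOf_singleton (b : P.Base) (j : b.support) : (facetOf b {j}).dim = 1 := by
  classical
  unfold Facet.dim
  rw [span_carrier_eq, corners_facetOf, Finset.coe_singleton, Set.image_singleton]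
  exact finrank_span_singleton (fundWeight_ne_zero b j)

/-- S14240 -/
theorem semistable_iff_deg_one {d : P.Base → N} (hd : IsCCS d) :
    (∀ (F : Facet P) (b : P.Base), F.dim = 1 → b ∈ F.cham → F.deg d b ≤ 0) ↔
      IsSemistable d := by
  classical
  constructor
  · intro h
    rw [← semistable_iff_corners hd]
    intro b m hm
    rw [baseCorners_eq] at hm
    obtain ⟨j, rfl⟩ := hm
    have hb := mem_cham_facetOf (b := b) {j}
    have h1 := h (facetOf b {j}) b (dim_facetOf_singleton b j) hb
    obtain ⟨c, hc, hexp⟩ := deg_expansion d hb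
    rw [deg_eq, hexp, Jset_facetOf, Finset.sum_singleton] at h1
    have hcj : 0 < c j := hc j (by rw [Jset_facetOf]; exact Finset.mem_singleton_self j)
    by_contra hcon
    rw [not_le] at hcon
    have := mul_pos hcj hcon
    linarith
  · intro h F b _ hb
    exact (semistable_iff_deg hd).mpr h F b hb

/-- Vectors in the span of the corners of `F` pair equally with `d b` for all adjacent `b`. -/
theorem pairing_eq_of_mem_span_corners {d : P.Base → N} (hd : IsCCS d) {F : Facet P}
    {b b' : P.Base} (hb : b ∈ F.cham) (hb' : b' ∈ F.cham) {ξ : M}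
    (hξ : ξ ∈ Submodule.span R F.corners) :
    P.toLinearMap ξ (d b) = P.toLinearMap ξ (d b') := by
  induction hξ using Submodule.span_induction with
  | mem x hx =>
    exact hd.corner_eq b b' x ⟨hx.1, closure_subset_closedChamber hb hx.2⟩
      ⟨hx.1, closure_subset_closedChamber hb' hx.2⟩
  | zero => simp
  | add x y _ _ hx hy => rw [map_add, LinearMap.add_apply, LinearMap.add_apply, hx, hy]
  | smul a x _ hx => rw [map_smul, LinearMap.smul_apply, LinearMap.smul_apply, hx]

/-- S14249 -/
theorem deg_indep {d : P.Base → N} (hd : IsCCS d) (F : Facet P) (b b' : P.Base)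
    (hb : b ∈ F.cham) (hb' : b' ∈ F.cham) : F.deg d b = F.deg d b' := by
  rw [deg_eq, deg_eq]
  apply pairing_eq_of_mem_span_corners hd hb hb'
  rw [← span_carrier_eq]
  exact Submodule.subset_span (sum_parab_mem_carrier F)

/-- S14250 -/
theorem numInv_indep {d : P.Base → N} (hd : IsCCS d) (F : Facet P) (m : M) (hm : m ∈ F.corners)
    (b b' : P.Base) (hb : b ∈ F.cham) (hb' : b' ∈ F.cham) :
    F.numInv d m b = F.numInv d m b' := by
  rw [numInv_eq, numInv_eq]
  exact pairing_eq_of_mem_span_corners hd hb hb' (sum_Psi_mem_span F m hm)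

end Groth.Agent.Lib.Helper25.RC
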