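import Mathlib
import Groth.Agent.Lib.Helper25RCSemi

/-!
# Root chambers (Behrend), part 13: dual facets relative to an adjacent chamber, the point `y(F)`,
special facets
-/

set_option autoImplicit false
set_option linter.unusedSectionVars false

namespace Groth.Agent.Lib.Helper25.RC

open RootCh Module Submodule

variable {ι : Type*} {R : Type*} {M : Type*} {N : Type*}
  [Field R] [LinearOrder R] [IsStrictOrderedRing R]
  [AddCommGroup M] [Module R M] [AddCommGroup N] [Module R N] [Finite ι]

variable {P : RootPairing ι R M N} [P.IsRootSystem] [P.IsCrystallographic] [P.IsReduced]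

section DualFacet

variable {F : Facet P} {b : P.Base}

/-- Membership in the dual facet, tested on the simple roots of an adjacent chamber. -/
lemma mem_dualCarrier_iff (hb : b ∈ F.cham) {x : N} :
    x ∈ F.dualCarrier ↔ ∀ i : b.support,
      (i ∈ Jset F b → 0 < P.root' i x) ∧ (i ∉ Jset F b → P.root' i x = 0) := by
  constructor
  · intro hx i
    have hs : SignType.sign (P.root' i x) = F.sgn i := congrFun hx i
    refine ⟨fun hi => ?_, fun hi => ?_⟩
    · rw [mem_Jset.mp hi] at hs
      exact sign_eq_one_iff.mp hs
    · rw [sgn_of_notMem_Jset hb hi] at hs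
      exact sign_eq_zero_iff.mp hs
  · intro h
    obtain ⟨ζ, hζ⟩ := carrier_nonempty F
    have hζ' := (mem_carrier_iff hb).mp hζ
    show cosgnVec P x = F.sgn
    rw [← show sgnVec P ζ = F.sgn from hζ]
    symm
    apply sgnVec_eq_cosgnVec b (hb hζ)
    · intro i
      by_cases hi : i ∈ Jset F b
      · exact ((h i).1 hi).le
      · exact ((h i).2 hi).ge
    · intro i
      by_cases hi : i ∈ Jset F b
      · exact ⟨fun h0 => absurd h0 ((hζ' i).1 hi).ne', fun h0 => absurd h0 ((h i).1 hi).ne'⟩
      · exact ⟨fun _ => (h i).2 hi, fun _ => (hζ' i).2 hi⟩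

omit [P.IsRootSystem] [P.IsCrystallographic] [P.IsReduced] in
/-- Roots of the Levi part vanish on the span of the dual facet. -/
lemma root'_eq_zero_of_mem_span_dualCarrier {z : N}
    (hz : z ∈ Submodule.span R F.dualCarrier) {k : ι} (hk : F.sgn k = 0) : P.root' k z = 0 := by
  induction hz using Submodule.span_induction with
  | mem x hx =>
    have hs : SignType.sign (P.root' k x) = F.sgn k := congrFun hx k
    rw [hk] at hs
    exact sign_eq_zero_iff.mp hs
  | zero => rw [map_zero]
  | add x y _ _ hx hy => rw [map_add, hx, hy, add_zero]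
  | smul a x _ hx => rw [map_smul, hx, smul_zero]

omit [P.IsCrystallographic] [P.IsReduced] in
lemma root'_simple_eq_zero_of_mem_span_dualCarrier (hb : b ∈ F.cham) {z : N}
    (hz : z ∈ Submodule.span R F.dualCarrier) {i : b.support} (hi : i ∉ Jset F b) :
    P.root' i z = 0 :=
  root'_eq_zero_of_mem_span_dualCarrier hz (sgn_of_notMem_Jset hb hi)

end DualFacet

section Polarization

omit [P.IsRootSystem] [P.IsCrystallographic] [P.IsReduced] in
lemma rootForm_root_right [Fintype ι] (ξ : M) (i : ι) :
    2 * P.RootForm (P.root i) ξ = rlen P i * P.coroot' i ξ := by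
  have h := congrArg (fun n => P.toLinearMap ξ n) (rlen_smul_coroot P i)
  simp only [map_smul, smul_eq_mul] at h
  have hinst : (Fintype.ofFinite ι) = ‹Fintype ι› := Subsingleton.elim _ _
  rw [hinst] at h
  rw [P.toLinearMap_apply_apply_Polarization] at h
  exact h.symm

omit [P.IsCrystallographic] [P.IsReduced] in
lemma polarization_fundWeight [Fintype ι] (b : P.Base) (j : b.support) :
    P.Polarization (fundWeight b j) = (rlen P j / 2) • fundCoweight b j := by
  classical
  apply eq_of_forall_root'_eq b
  intro i
  show P.toLinearMap (P.root i) (P.Polarization (fundWeight b j)) = _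
  rw [P.toLinearMap_apply_apply_Polarization, ← P.rootForm_symmetric.eq, RingHom.id_apply]
  have h := rootForm_root_right (P := P) (fundWeight b j) i
  rw [map_smul, smul_eq_mul, root'_fundCoweight, coroot'_fundWeight] at *
  split_ifs at h ⊢ with hij
  · subst hij
    linarith
  · linarith

/-- **Uniqueness lemma**: a vector of `N` killed by the simple roots outside `J` and by the
fundamental weights in `J` vanishes. -/
theorem eq_zero_of_root'_of_fundWeight (b : P.Base) (J : Finset b.support) {z : N}
    (h1 : ∀ i : b.support, i ∉ J → P.root' i z = 0)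
    (h2 : ∀ j ∈ J, P.toLinearMap (fundWeight b j) z = 0) : z = 0 := by
  classical
  letI := Fintype.ofFinite ι
  set ξ : M := ∑ j ∈ J, (2 * P.root' j z / rlen P j) • fundWeight b j with hξ
  have hpol : P.Polarization ξ = z := by
    rw [hξ, map_sum]
    conv_rhs => rw [fundCoweight_expansion b z]
    rw [← Finset.sum_subset (Finset.subset_univ J)]
    · refine Finset.sum_congr rfl fun j _ => ?_
      rw [map_smul, polarization_fundWeight, smul_smul]
      congr 1
      have := (rlen_pos P j).ne'
      field_simp
    · intro i _ hi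
      rw [h1 i hi, zero_smul]
  have hform : P.RootForm ξ ξ = 0 := by
    rw [← P.toLinearMap_apply_apply_Polarization, hpol, hξ, map_sum, LinearMap.sum_apply]
    apply Finset.sum_eq_zero
    intro j hj
    rw [map_smul, LinearMap.smul_apply, h2 j hj, smul_zero]
  have hξ0 : ξ = 0 := P.rootForm_anisotropic ξ hform
  rw [← hpol, hξ0, map_zero]

end Polarization

section YLocus

variable {F : Facet P} {b : P.Base}

/-- points of `⋂ H_m` pair with the span of the corners like `d b` -/
lemma pairing_eq_of_mem_hyper {d : P.Base → N} (hb : b ∈ F.cham) {y : N}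
    (hy : y ∈ ⋂ m ∈ F.corners, hyper d m) {ξ : M} (hξ : ξ ∈ Submodule.span R F.corners) :
    P.toLinearMap ξ y = P.toLinearMap ξ (d b) := by
  simp only [Set.mem_iInter] at hy
  induction hξ using Submodule.span_induction with
  | mem x hx =>
    exact hy x hx b ⟨hx.1, closure_subset_closedChamber hb hx.2⟩
  | zero => simp
  | add x y _ _ hx hy => rw [map_add, LinearMap.add_apply, LinearMap.add_apply, hx, hy]
  | smul a x _ hx => rw [map_smul, LinearMap.smul_apply, LinearMap.smul_apply, hx]

/-- The locus `y(F)` has at most one point. -/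
theorem yLocus_subsingleton {d : P.Base → N} (F : Facet P) {y y' : N}
    (hy : y ∈ yLocus d F) (hy' : y' ∈ yLocus d F) : y = y' := by
  obtain ⟨b, hb⟩ := cham_nonempty F
  rw [← sub_eq_zero]
  apply eq_zero_of_root'_of_fundWeight b (Jset F b)
  · intro i hi
    exact root'_simple_eq_zero_of_mem_span_dualCarrier hb (Submodule.sub_mem _ hy.2 hy'.2) hi
  · intro j hj
    have hcor : fundWeight b j ∈ Submodule.span R F.corners := by
      apply Submodule.subset_span
      rw [corners_eq hb]; exact ⟨j, hj, rfl⟩
    rw [map_sub, pairing_eq_of_mem_hyper hb hy.1 hcor, pairing_eq_of_mem_hyper hb hy'.1 hcor,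
      sub_self]

lemma dualSolid_subset_hyper {d : P.Base → N} (hd : IsCCS d) (F : Facet P) :
    dualSolid d F ⊆ ⋂ m ∈ F.corners, hyper d m := by
  rw [dualSolid_eq hd]
  exact Set.inter_subset_left

/-- S14251 -/
theorem special_point {d : P.Base → N} (hd : IsCCS d) (F : Facet P) (hF : IsSpecial d F) :
    ∃ y₀ : N, yLocus d F = {y₀} ∧ F.dualCarrier ∩ dualSolid d F = {y₀} := by
  obtain ⟨y₀, hy1, hy2⟩ := hF
  have hsub : F.dualCarrier ∩ dualSolid d F ⊆ yLocus d F := by
    rintro y ⟨h1, h2⟩
    exact ⟨dualSolid_subset_hyper hd F h2, Submodule.subset_span h1⟩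
  have hy₀ : y₀ ∈ yLocus d F := hsub ⟨hy1, hy2⟩
  refine ⟨y₀, ?_, ?_⟩
  · ext y
    simp only [Set.mem_singleton_iff]
    exact ⟨fun h => yLocus_subsingleton F h hy₀, fun h => h ▸ hy₀⟩
  · ext y
    simp only [Set.mem_singleton_iff]
    exact ⟨fun h => yLocus_subsingleton F (hsub h) hy₀, fun h => h ▸ ⟨hy1, hy2⟩⟩

end YLocus

end Groth.Agent.Lib.Helper25.RC
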