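import Mathlib
import Groth.Agent.Lib.Helper25RCSpecial

/-!
# Root chambers (Behrend), part 14: the point of the solid closest to the origin
-/

set_option autoImplicit false
set_option linter.unusedSectionVars false

namespace Groth.Agent.Lib.Helper25.RC

open RootCh Module Submodule

variable {ι : Type*} {R : Type*} {M : Type*} {N : Type*}
  [Field R] [LinearOrder R] [IsStrictOrderedRing R]
  [AddCommGroup M] [Module R M] [AddCommGroup N] [Module R N] [Finite ι]

variable {P : RootPairing ι R M N} [P.IsRootSystem]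

section Invariant

variable (B : LinearMap.BilinForm R N)
  (hBi : ∀ (i : ι) (y z : N), B (P.coreflection i y) (P.coreflection i z) = B y z)

include hBi in
omit [LinearOrder R] [IsStrictOrderedRing R] [Finite ι] [P.IsRootSystem] in
lemma two_mul_B_coroot (i : ι) (y : N) :
    2 * B y (P.coroot i) = P.root' i y * B (P.coroot i) (P.coroot i) := by
  have h := hBi i y (P.coroot i)
  rw [P.coreflection_apply_self, P.coreflection_apply, map_neg, map_sub, LinearMap.sub_apply,
    map_smul, LinearMap.smul_apply, smul_eq_mul] at h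
  linear_combination -h

include hBi in
omit [LinearOrder R] [IsStrictOrderedRing R] [Finite ι] in
lemma two_mul_B_eq (b : P.Base) (y z : N) :
    2 * B y z = ∑ j : b.support,
      P.toLinearMap (fundWeight b j) z * (P.root' j y * B (P.coroot j) (P.coroot j)) := by
  conv_lhs => rw [coroot_expansion b z]
  rw [map_sum, Finset.mul_sum]
  refine Finset.sum_congr rfl fun j _ => ?_
  rw [map_smul, smul_eq_mul, ← two_mul_B_coroot B hBi j y]
  ring

end Invariant

variable [P.IsCrystallographic] [P.IsReduced]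

omit [P.IsRootSystem] [P.IsCrystallographic] [P.IsReduced] in
lemma dualSolid_subset_solid (d : P.Base → N) (F : Facet P) : dualSolid d F ⊆ solid d := by
  apply convexHull_mono
  rintro _ ⟨b, -, rfl⟩
  exact ⟨b, rfl⟩

/-- For `y₀` in the dual facet of `F`, `2 B(y₀, z)` is a positive combination of the pairings of
`z` with the corners of `F`. -/
lemma two_mul_B_dualCarrier (B : LinearMap.BilinForm R N)
    (hBi : ∀ (i : ι) (y z : N), B (P.coreflection i y) (P.coreflection i z) = B y z)
    {F : Facet P} {b : P.Base} (hb : b ∈ F.cham) {y₀ : N} (hy₀ : y₀ ∈ F.dualCarrier) (z : N) :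
    2 * B y₀ z = ∑ j ∈ Jset F b,
      P.toLinearMap (fundWeight b j) z * (P.root' j y₀ * B (P.coroot j) (P.coroot j)) := by
  classical
  rw [two_mul_B_eq B hBi b y₀ z]
  symm
  apply Finset.sum_subset (Finset.subset_univ _)
  intro i _ hi
  rw [((mem_dualCarrier_iff hb).mp hy₀ i).2 hi, zero_mul, mul_zero]

/-- S14244 -/
theorem special_min_norm {d : P.Base → N} (hd : IsCCS d)
    (B : LinearMap.BilinForm R N) (hBs : ∀ y z : N, B y z = B z y)
    (hBp : ∀ y : N, y ≠ 0 → 0 < B y y)
    (hBi : ∀ (i : ι) (y z : N), B (P.coreflection i y) (P.coreflection i z) = B y z)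
    (F : Facet P) (hF : IsSpecial d F) :
    ∃ y₀ : N, yLocus d F = {y₀} ∧ y₀ ∈ solid d ∧
      ∀ y ∈ solid d, y ≠ y₀ → B y₀ y₀ < B y y := by
  obtain ⟨y₀, hyL, hyS⟩ := special_point hd F hF
  have hmem : y₀ ∈ F.dualCarrier ∩ dualSolid d F := by rw [hyS]; rfl
  obtain ⟨hy1, hy2⟩ := hmem
  obtain ⟨b, hb⟩ := cham_nonempty F
  refine ⟨y₀, hyL, dualSolid_subset_solid d F hy2, ?_⟩
  intro y hy hne
  have hy₀' := (mem_dualCarrier_iff hb).mp hy1
  have hkey : 0 ≤ 2 * B y₀ (y - y₀) := by
    rw [two_mul_B_dualCarrier B hBi hb hy1]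
    apply Finset.sum_nonneg
    intro j hj
    apply mul_nonneg
    · have hcor : fundWeight b j ∈ Submodule.span R F.corners := by
        apply Submodule.subset_span
        rw [corners_eq hb]; exact ⟨j, hj, rfl⟩
      rw [map_sub, pairing_eq_of_mem_hyper hb (dualSolid_subset_hyper hd F hy2) hcor]
      have := (mem_solid_iff hd y).mp hy b _ ⟨⟨b, j, rfl⟩, fundWeight_mem_closedChamber b j⟩
      linarith
    · apply mul_nonneg ((hy₀' j).1 hj).le
      by_cases h0 : P.coroot j = 0
      · rw [h0]; simp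
      · exact (hBp _ h0).le
  have hpos : 0 < B (y - y₀) (y - y₀) := hBp _ (sub_ne_zero.mpr hne)
  have hexp : B y y = B y₀ y₀ + 2 * B y₀ (y - y₀) + B (y - y₀) (y - y₀) := by
    simp only [map_sub, LinearMap.sub_apply]
    rw [hBs y y₀]
    ring
  linarith

/-- S14245 -/
theorem min_norm_special {d : P.Base → N} (hd : IsCCS d)
    (B : LinearMap.BilinForm R N) (hBs : ∀ y z : N, B y z = B z y)
    (hBp : ∀ y : N, y ≠ 0 → 0 < B y y)
    (hBi : ∀ (i : ι) (y z : N), B (P.coreflection i y) (P.coreflection i z) = B y z)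
    (y₀ : N) (hy₀ : y₀ ∈ solid d) (hmin : ∀ y ∈ solid d, B y₀ y₀ ≤ B y y)
    (F : Facet P) (hF : y₀ ∈ F.dualCarrier) :
    IsSpecial d F ∧ yLocus d F = {y₀} := by
  classical
  obtain ⟨b, hb⟩ := cham_nonempty F
  have hy₀' := (mem_dualCarrier_iff hb).mp hF
  -- Step 1: variational inequality
  have hvar : ∀ y ∈ solid d, 0 ≤ B y₀ (y - y₀) := by
    intro y hy
    by_contra hneg
    rw [not_le] at hneg
    set w := y - y₀ with hw
    set a := B y₀ w with ha
    have hw0 : w ≠ 0 := by
      intro h0
      rw [ha, h0, map_zero] at hneg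
      exact lt_irrefl _ hneg
    set c := B w w with hc
    have hcpos : 0 < c := hBp w hw0
    set t := min 1 (-a / c) with ht
    have ht0 : 0 < t := lt_min one_pos (div_pos (neg_pos.mpr hneg) hcpos)
    have ht1 : t ≤ 1 := min_le_left _ _
    have ht2 : t * c ≤ -a := by
      have : t ≤ -a / c := min_le_right _ _
      calc t * c ≤ (-a / c) * c := mul_le_mul_of_nonneg_right this hcpos.le
        _ = -a := div_mul_cancel₀ _ hcpos.ne'
    have hyt : y₀ + t • w ∈ solid d := by
      have hconv : Convex R (solid d) := convex_convexHull R _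
      have := hconv hy₀ hy (sub_nonneg.mpr ht1) ht0.le (by ring)
      convert this using 1
      rw [hw]; module
    have hnorm := hmin _ hyt
    have hexp : B (y₀ + t • w) (y₀ + t • w) = B y₀ y₀ + 2 * t * a + t * (t * c) := by
      simp only [map_add, LinearMap.add_apply, map_smul, LinearMap.smul_apply, smul_eq_mul]
      rw [hBs w y₀]
      ring
    rw [hexp] at hnorm
    have h1 : t * (t * c) ≤ t * (-a) := mul_le_mul_of_nonneg_left ht2 ht0.le
    have h2 : t * a < 0 := mul_neg_of_pos_of_neg ht0 hneg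
    nlinarith
  -- Step 2: equality on the corners of `F`
  have hdb : d b ∈ solid d := subset_convexHull R _ ⟨b, rfl⟩
  have hsolid := (mem_solid_iff hd y₀).mp hy₀
  have hterm : ∀ j ∈ Jset F b, P.toLinearMap (fundWeight b j) (d b - y₀) *
      (P.root' j y₀ * B (P.coroot j) (P.coroot j)) ≤ 0 := by
    intro j hj
    apply mul_nonpos_of_nonpos_of_nonneg
    · rw [map_sub]
      have := hsolid b _ ⟨⟨b, j, rfl⟩, fundWeight_mem_closedChamber b j⟩
      linarith
    · apply mul_nonneg ((hy₀' j).1 hj).le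
      by_cases h0 : P.coroot j = 0
      · rw [h0]; simp
      · exact (hBp _ h0).le
  have hsum0 : ∑ j ∈ Jset F b, P.toLinearMap (fundWeight b j) (d b - y₀) *
      (P.root' j y₀ * B (P.coroot j) (P.coroot j)) = 0 := by
    apply le_antisymm (Finset.sum_nonpos hterm)
    rw [← two_mul_B_dualCarrier B hBi hb hF]
    have := hvar _ hdb
    linarith
  have heq : ∀ j ∈ Jset F b,
      P.toLinearMap (fundWeight b j) y₀ = P.toLinearMap (fundWeight b j) (d b) := by
    intro j hj
    have h1 := (Finset.sum_eq_zero_iff_of_nonpos hterm).mp hsum0 j hj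
    have hcpos : 0 < P.root' j y₀ * B (P.coroot j) (P.coroot j) := by
      apply mul_pos ((hy₀' j).1 hj)
      exact hBp _ (P.ne_zero' j)
    have h2 := (mul_eq_zero.mp h1).resolve_right hcpos.ne'
    rw [map_sub, sub_eq_zero] at h2
    exact h2.symm
  -- Step 3: `y₀` lies in the dual solid of `F`
  have hyH : y₀ ∈ ⋂ m ∈ F.corners, hyper d m := by
    simp only [Set.mem_iInter]
    intro m hm b' hmb'
    have hm' := hm
    rw [corners_eq hb] at hm'
    obtain ⟨j, hj, rfl⟩ := hm'
    rw [heq j hj]
    exact hd.corner_eq b b' _ ⟨⟨b, j, rfl⟩, fundWeight_mem_closedChamber b j⟩ hmb'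
  have hyD : y₀ ∈ dualSolid d F := by
    rw [dualSolid_eq hd]
    refine ⟨hyH, ?_⟩
    simp only [Set.mem_iInter]
    intro m _ b' hmb'
    exact hsolid b' m hmb'
  have hyL : y₀ ∈ yLocus d F := ⟨hyH, Submodule.subset_span hF⟩
  refine ⟨⟨y₀, hF, hyD⟩, ?_⟩
  ext y
  simp only [Set.mem_singleton_iff]
  exact ⟨fun h => yLocus_subsingleton F h hyL, fun h => h ▸ hyL⟩

end Groth.Agent.Lib.Helper25.RC
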