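import Mathlib
import Groth.Agent.Lib.Helper25RCNorm

/-!
# Root chambers (Behrend), part 15: special facets — numerical invariants, maximal degree
-/

set_option autoImplicit false
set_option linter.unusedSectionVars false

namespace Groth.Agent.Lib.Helper25.RC

open RootCh Module Submodule

variable {ι : Type*} {R : Type*} {M : Type*} {N : Type*}
  [Field R] [LinearOrder R] [IsStrictOrderedRing R]
  [AddCommGroup M] [Module R M] [AddCommGroup N] [Module R N] [Finite ι]

variable {P : RootPairing ι R M N} [P.IsRootSystem] [P.IsCrystallographic] [P.IsReduced]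

omit [P.IsCrystallographic] [P.IsReduced] in
/-- expansion of a root pairing through the coefficients of the root -/
lemma root'_eq_sum (b : P.Base) (k : ι) (y : N) :
    P.root' k y = ∑ i : b.support, P.root' k (fundCoweight b i) * P.root' i y := by
  conv_lhs => rw [fundCoweight_expansion b y]
  rw [map_sum]
  refine Finset.sum_congr rfl fun i _ => ?_
  rw [map_smul, smul_eq_mul, mul_comm]

/-- On the span of the dual facet, the roots of an elementary set all take the value of the simple
root. -/
lemma root'_of_mem_Psi {F : Facet P} {b : P.Base} (hb : b ∈ F.cham) {j0 : b.support}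
    (hj0 : j0 ∈ Jset F b) {y : N} (hy : y ∈ Submodule.span R F.dualCarrier) {k : ι}
    (hk : k ∈ F.Psi (fundWeight b j0)) : P.root' k y = P.root' j0 y := by
  classical
  rw [mem_Psi_iff hb] at hk
  rw [root'_eq_sum b k y, Finset.sum_eq_single j0]
  · rw [hk.1, one_mul]
  · intro i _ hi
    by_cases hiJ : i ∈ Jset F b
    · rw [hk.2 i hiJ hi, zero_mul]
    · rw [root'_simple_eq_zero_of_mem_span_dualCarrier hb hy hiJ, mul_zero]
  · intro h; exact absurd (Finset.mem_univ _) h

lemma self_mem_Psi {F : Facet P} {b : P.Base} (hb : b ∈ F.cham) (j0 : b.support) :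
    (j0 : ι) ∈ F.Psi (fundWeight b j0) := by
  classical
  rw [mem_Psi_iff hb]
  refine ⟨?_, fun j _ hj => ?_⟩
  · rw [root'_fundCoweight, if_pos rfl]
  · rw [root'_fundCoweight, if_neg (Ne.symm hj)]

/-- The numerical invariant is a positive multiple of the value of the simple root at `y(F)`. -/
lemma numInv_eq_card_mul {d : P.Base → N} {F : Facet P} {b : P.Base} (hb : b ∈ F.cham)
    {j0 : b.support} (hj0 : j0 ∈ Jset F b) {y : N} (hy : y ∈ yLocus d F) :
    F.numInv d (fundWeight b j0) b =
      ((Set.toFinite (F.Psi (fundWeight b j0))).toFinset.card : R) * P.root' j0 y := by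
  have hm : fundWeight b j0 ∈ F.corners := by
    rw [corners_eq hb]; exact ⟨j0, hj0, rfl⟩
  rw [numInv_eq, ← pairing_eq_of_mem_hyper hb hy.1 (sum_Psi_mem_span F _ hm), map_sum,
    LinearMap.sum_apply]
  rw [Finset.sum_congr rfl (fun k hk => root'_of_mem_Psi hb hj0 hy.2
    ((Set.Finite.mem_toFinset _).mp hk))]
  rw [Finset.sum_const, nsmul_eq_mul]

lemma card_Psi_pos {F : Facet P} {b : P.Base} (hb : b ∈ F.cham) (j0 : b.support) :
    (0 : R) < ((Set.toFinite (F.Psi (fundWeight b j0))).toFinset.card : R) := by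
  rw [Nat.cast_pos, Finset.card_pos]
  exact ⟨j0, (Set.Finite.mem_toFinset _).mpr (self_mem_Psi hb j0)⟩

/-- S14243 -/
theorem special_iff {d : P.Base → N} (hd : IsCCS d) (F : Facet P) :
    ((∀ m ∈ F.corners, ∀ b ∈ F.cham, 0 < F.numInv d m b) ∧
        (dualSolid d F ∩ (Submodule.span R F.dualCarrier : Set N)).Nonempty) ↔
      IsSpecial d F := by
  constructor
  · rintro ⟨h1, ⟨y, hy1, hy2⟩⟩
    obtain ⟨b, hb⟩ := cham_nonempty F
    have hyL : y ∈ yLocus d F := ⟨dualSolid_subset_hyper hd F hy1, hy2⟩
    refine ⟨y, ?_, hy1⟩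
    rw [mem_dualCarrier_iff hb]
    intro i
    refine ⟨fun hi => ?_, fun hi => root'_simple_eq_zero_of_mem_span_dualCarrier hb hy2 hi⟩
    have hm : fundWeight b i ∈ F.corners := by
      rw [corners_eq hb]; exact ⟨i, hi, rfl⟩
    have := h1 _ hm b hb
    rw [numInv_eq_card_mul hb hi hyL] at this
    exact (pos_iff_pos_of_mul_pos this).mp (card_Psi_pos hb i)
  · rintro ⟨y, hy1, hy2⟩
    have hyL : y ∈ yLocus d F := ⟨dualSolid_subset_hyper hd F hy2, Submodule.subset_span hy1⟩
    refine ⟨fun m hm b hb => ?_, ⟨y, hy2, Submodule.subset_span hy1⟩⟩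
    have hm' := hm
    rw [corners_eq hb] at hm'
    obtain ⟨j, hj, rfl⟩ := hm'
    rw [numInv_eq_card_mul hb hj hyL]
    exact mul_pos (card_Psi_pos hb j) (((mem_dualCarrier_iff hb).mp hy1 j).1 hj)

omit [P.IsRootSystem] [P.IsCrystallographic] [P.IsReduced] in
lemma sum_parab_pairing (F : Facet P) (y : N) :
    P.toLinearMap (∑ i ∈ (Set.toFinite F.parab).toFinset, P.root i) y =
      ∑ i ∈ (Set.toFinite F.parab).toFinset, P.root' i y := by
  rw [map_sum, LinearMap.sum_apply]

/-- the degree is bounded by the pairing of the sum of the parabolic roots with any point of the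
solid -/
lemma deg_le_of_mem_solid {d : P.Base → N} (hd : IsCCS d) {G : Facet P} {c : P.Base}
    (hc : c ∈ G.cham) {y : N} (hy : y ∈ solid d) :
    G.deg d c ≤ ∑ i ∈ (Set.toFinite G.parab).toFinset, P.root' i y := by
  obtain ⟨a, ha, hexp⟩ := deg_expansion d hc
  rw [deg_eq, ← sum_parab_pairing, hexp, hexp]
  apply Finset.sum_le_sum
  intro j hj
  apply mul_le_mul_of_nonneg_left _ (ha j hj).le
  exact (mem_solid_iff hd y).mp hy c _ ⟨⟨c, j, rfl⟩, fundWeight_mem_closedChamber c j⟩

/-- S14248 -/
theorem special_max_deg {d : P.Base → N} (hd : IsCCS d) (F : Facet P) (b : P.Base)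
    (hb : b ∈ F.cham) (hF : IsSpecial d F) :
    (∀ (G : Facet P) (c : P.Base), c ∈ G.cham → G.deg d c ≤ F.deg d b) ∧
      ∀ (G : Facet P) (c : P.Base), c ∈ G.cham → G.deg d c = F.deg d b → G ≤ F := by
  classical
  letI := Fintype.ofFinite ι
  obtain ⟨y₀, hy1, hy2⟩ := hF
  have hys : y₀ ∈ solid d := dualSolid_subset_solid d F hy2
  set v : ι → R := fun k => P.root' k y₀ with hv
  have hsgn : ∀ k, SignType.sign (v k) = F.sgn k := fun k => congrFun hy1 k
  -- degree of `F`
  have hdegF : F.deg d b = ∑ k ∈ (Set.toFinite F.parab).toFinset, v k := by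
    rw [deg_eq, ← pairing_eq_of_mem_hyper hb (dualSolid_subset_hyper hd F hy2), sum_parab_pairing]
    rw [← span_carrier_eq]
    exact Submodule.subset_span (sum_parab_mem_carrier F)
  have hmemF : ∀ k, k ∈ (Set.toFinite F.parab).toFinset ↔ 0 ≤ v k := by
    intro k
    rw [Set.Finite.mem_toFinset]
    show F.sgn k ≠ -1 ↔ _
    rw [← hsgn k, ← sign_nonneg_iff]
    cases SignType.sign (v k) <;> decide
  -- termwise comparison
  have hterm : ∀ (G : Facet P) (k : ι),
      (if k ∈ (Set.toFinite G.parab).toFinset then v k else 0) ≤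
        (if k ∈ (Set.toFinite F.parab).toFinset then v k else 0) := by
    intro G k
    by_cases hkF : k ∈ (Set.toFinite F.parab).toFinset
    · rw [if_pos hkF]
      have := (hmemF k).mp hkF
      split_ifs <;> linarith
    · rw [if_neg hkF]
      have : v k < 0 := by
        rw [hmemF] at hkF
        exact not_le.mp hkF
      split_ifs <;> linarith
  have hind : ∀ (s : Finset ι), ∑ k ∈ s, v k = ∑ k, if k ∈ s then v k else 0 := by
    intro s
    rw [Finset.sum_ite_mem, Finset.univ_inter]
  have hle : ∀ (G : Facet P), ∑ k ∈ (Set.toFinite G.parab).toFinset, v k ≤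
      ∑ k ∈ (Set.toFinite F.parab).toFinset, v k := by
    intro G
    rw [hind, hind (Set.toFinite F.parab).toFinset]
    exact Finset.sum_le_sum (fun k _ => hterm G k)
  refine ⟨fun G c hc => ?_, fun G c hc heq => ?_⟩
  · rw [hdegF]
    exact (deg_le_of_mem_solid hd hc hys).trans (hle G)
  · have h1 := deg_le_of_mem_solid hd hc hys
    have h2 := hle G
    have hsum : ∑ k ∈ (Set.toFinite G.parab).toFinset, v k =
        ∑ k ∈ (Set.toFinite F.parab).toFinset, v k := by
      apply le_antisymm h2
      rw [← hdegF, ← heq]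
      exact h1
    rw [hind, hind (Set.toFinite F.parab).toFinset] at hsum
    have hall := (Finset.sum_eq_sum_iff_of_le (fun k _ => hterm G k)).mp hsum
    have hsub : ∀ k, G.sgn k ≠ -1 → F.sgn k ≠ -1 := by
      intro k hk
      have hkG : k ∈ (Set.toFinite G.parab).toFinset := (Set.Finite.mem_toFinset _).mpr hk
      have := hall k (Finset.mem_univ k)
      rw [if_pos hkG] at this
      by_contra hkF
      have hkF' : k ∉ (Set.toFinite F.parab).toFinset := by
        rw [Set.Finite.mem_toFinset]
        exact fun h => h hkF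
      rw [if_neg hkF'] at this
      rw [hmemF, this] at hkF'
      exact hkF' le_rfl
    intro i
    have h3 := hsub i
    have h4 := hsub (nidx P i)
    rw [sgn_nidx, sgn_nidx] at h4
    revert h3 h4
    generalize F.sgn i = s
    generalize G.sgn i = t
    cases s <;> cases t <;> decide

end Groth.Agent.Lib.Helper25.RC
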