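import Mathlib
import Groth.Agent.Lib.Helper25RCSpecial2

/-!
# Root chambers (Behrend), part 16: existence of `y(F)`; a maximal facet of maximal degree is
special; existence and uniqueness of the special facet
-/

set_option autoImplicit false
set_option linter.unusedSectionVars false

namespace Groth.Agent.Lib.Helper25.RC

open RootCh Module Submodule

variable {ι : Type*} {R : Type*} {M : Type*} {N : Type*}
  [Field R] [LinearOrder R] [IsStrictOrderedRing R]
  [AddCommGroup M] [Module R M] [AddCommGroup N] [Module R N] [Finite ι]

variable {P : RootPairing ι R M N} [P.IsRootSystem] [P.IsCrystallographic] [P.IsReduced]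

omit [P.IsCrystallographic] [P.IsReduced] in
lemma linearIndependent_fundCoweight (b : P.Base) : LinearIndependent R (fundCoweight b) :=
  linearIndependent_fundWeight (P := P.flip) b.flip

omit [P.IsCrystallographic] [P.IsReduced] in
lemma root'_sum_fundCoweight [DecidableEq ι] {b : P.Base} (J : Finset b.support) (i : b.support) :
    P.root' i (∑ j ∈ J, fundCoweight b j) = if i ∈ J then 1 else 0 := by
  rw [map_sum]
  simp only [root'_fundCoweight]
  rw [Finset.sum_ite_eq]

/-- the fundamental coweights of the corners lie in the span of the dual facet -/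
lemma fundCoweight_mem_span_dualCarrier {F : Facet P} {b : P.Base} (hb : b ∈ F.cham)
    {j : b.support} (hj : j ∈ Jset F b) :
    fundCoweight b j ∈ Submodule.span R F.dualCarrier := by
  classical
  have h1 : (∑ i ∈ Jset F b, fundCoweight b i) ∈ F.dualCarrier := by
    rw [mem_dualCarrier_iff hb]
    intro i
    rw [root'_sum_fundCoweight]
    refine ⟨fun hi => ?_, fun hi => ?_⟩
    · rw [if_pos hi]; exact one_pos
    · rw [if_neg hi]
  have h2 : (∑ i ∈ Jset F b, fundCoweight b i) + fundCoweight b j ∈ F.dualCarrier := by
    rw [mem_dualCarrier_iff hb]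
    intro i
    rw [map_add, root'_sum_fundCoweight, root'_fundCoweight]
    refine ⟨fun hi => ?_, fun hi => ?_⟩
    · rw [if_pos hi]
      split_ifs <;> norm_num
    · have : i ≠ j := fun h => hi (h ▸ hj)
      rw [if_neg hi, if_neg this, add_zero]
  have : fundCoweight b j = ((∑ i ∈ Jset F b, fundCoweight b i) + fundCoweight b j) -
      ∑ i ∈ Jset F b, fundCoweight b i := by abel
  rw [this]
  exact Submodule.sub_mem _ (Submodule.subset_span h2) (Submodule.subset_span h1)

/-- **Existence of `y(F)`.** -/
theorem exists_mem_yLocus {d : P.Base → N} (hd : IsCCS d) (F : Facet P) :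
    ∃ y, y ∈ yLocus d F := by
  classical
  obtain ⟨b, hb⟩ := cham_nonempty F
  set J := Jset F b with hJ
  let fam : {j // j ∈ J} → N := fun j => fundCoweight b j
  have hli : LinearIndependent R fam :=
    (linearIndependent_fundCoweight b).comp Subtype.val Subtype.val_injective
  let S : Submodule R N := Submodule.span R (Set.range fam)
  have hfin : finrank R S = Fintype.card {j // j ∈ J} := finrank_span_eq_card hli
  haveI : FiniteDimensional R S := FiniteDimensional.span_of_finite R (Set.finite_range fam)
  let T : S →ₗ[R] ({j // j ∈ J} → R) :=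
    LinearMap.pi (fun j => (P.toLinearMap (fundWeight b j)).comp S.subtype)
  have hT : ∀ (s : S) (j : {j // j ∈ J}), T s j = P.toLinearMap (fundWeight b j) (s : N) :=
    fun s j => rfl
  have hSle : S ≤ Submodule.span R F.dualCarrier := by
    rw [Submodule.span_le]
    rintro _ ⟨j, rfl⟩
    exact fundCoweight_mem_span_dualCarrier hb j.2
  have hinj : Function.Injective T := by
    rw [← LinearMap.ker_eq_bot, LinearMap.ker_eq_bot']
    intro s hs
    apply Subtype.ext
    rw [Submodule.coe_zero]
    apply eq_zero_of_root'_of_fundWeight b J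
    · intro i hi
      exact root'_simple_eq_zero_of_mem_span_dualCarrier hb (hSle s.2) hi
    · intro j hj
      have := congrFun hs ⟨j, hj⟩
      rw [hT] at this
      exact this
  have hsurj : Function.Surjective T := by
    have hfr : finrank R S = finrank R ({j // j ∈ J} → R) := by
      rw [hfin, Module.finrank_fintype_fun_eq_card]
    exact (LinearMap.injective_iff_surjective_of_finrank_eq_finrank hfr).mp hinj
  obtain ⟨s, hs⟩ := hsurj (fun j => P.toLinearMap (fundWeight b j) (d b))
  refine ⟨(s : N), ?_, hSle s.2⟩
  simp only [Set.mem_iInter]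
  intro m hm b' hmb'
  have hm' := hm
  rw [corners_eq hb] at hm'
  obtain ⟨j, hj, rfl⟩ := hm'
  have := congrFun hs ⟨j, hj⟩
  rw [hT] at this
  simp only at this
  rw [this]
  exact hd.corner_eq b b' _ ⟨⟨b, j, rfl⟩, fundWeight_mem_closedChamber b j⟩ hmb'

omit [P.IsRootSystem] [P.IsCrystallographic] [P.IsReduced] in
lemma le_of_mem_closure {F G : Facet P} {ζ : M} (h1 : ζ ∈ G.carrier) (h2 : ζ ∈ F.closure) :
    F ≤ G := by
  intro i
  have : sgnVec P ζ = G.sgn := h1
  rw [← this]
  exact h2 i

omit [P.IsRootSystem] [P.IsCrystallographic] [P.IsReduced] in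
lemma parab_subset_of_le {F G : Facet P} (h : F ≤ G) : F.parab ⊆ G.parab := by
  intro k hk
  have hk' : F.sgn k ≠ -1 := hk
  show G.sgn k ≠ -1
  rcases h k with h0 | h0
  · rw [h0]; decide
  · rw [h0]; exact hk'

/-- pairing of the sum of the parabolic roots of `G` with a point of `⋂ H_m` of `F`, when the
corners of `G` are corners of `F` -/
lemma deg_eq_sum_of_corners_subset {d : P.Base → N} {F G : Facet P} {b : P.Base}
    (hbF : b ∈ F.cham) (hsub : G.corners ⊆ F.corners) {y : N}
    (hy : y ∈ ⋂ m ∈ F.corners, hyper d m) :
    G.deg d b = ∑ k ∈ (Set.toFinite G.parab).toFinset, P.root' k y := by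
  rw [deg_eq, ← sum_parab_pairing, pairing_eq_of_mem_hyper hbF hy]
  apply Submodule.span_mono hsub
  rw [← span_carrier_eq]
  exact Submodule.subset_span (sum_parab_mem_carrier G)

/-- S14247 -/
theorem special_of_max {d : P.Base → N} (hd : IsCCS d)
    (F : Facet P) (b : P.Base) (hb : b ∈ F.cham)
    (hmax : ∀ (G : Facet P) (c : P.Base), c ∈ G.cham → G.deg d c ≤ F.deg d b)
    (hmaxl : ∀ (G : Facet P) (c : P.Base), c ∈ G.cham → G.deg d c = F.deg d b → F ≤ G → G = F) :
    IsSpecial d F := by
  classical
  letI := Fintype.ofFinite ι
  obtain ⟨y, hy⟩ := exists_mem_yLocus hd F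
  set v : ι → R := fun k => P.root' k y with hv
  -- (S1): `y` lies in the dual facet
  have hS1 : y ∈ F.dualCarrier := by
    rw [mem_dualCarrier_iff hb]
    intro j0
    refine ⟨fun hj0 => ?_, fun hj0 => root'_simple_eq_zero_of_mem_span_dualCarrier hb hy.2 hj0⟩
    by_contra hneg
    rw [not_lt] at hneg
    set G := facetOf b ((Jset F b).erase j0) with hG
    have hbG : b ∈ G.cham := mem_cham_facetOf _
    have hζG : (∑ j ∈ (Jset F b).erase j0, fundWeight b j) ∈ G.carrier := rfl
    have hFG : F ≤ G := by
      apply le_of_mem_closure hζG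
      rw [mem_closure_iff hb]
      intro i
      rw [coroot'_sum_fundWeight]
      refine ⟨fun _ => ?_, fun hi => ?_⟩
      · split_ifs <;> simp
      · have : i ∉ (Jset F b).erase j0 := fun h => hi (Finset.mem_of_mem_erase h)
        rw [if_neg this]
    have hne : G ≠ F := by
      intro h
      have h1 : Jset G b = (Jset F b).erase j0 := Jset_facetOf _
      rw [h] at h1
      have : j0 ∈ (Jset F b).erase j0 := by rw [← h1]; exact hj0
      exact (Finset.notMem_erase j0 _) this
    have hlt : G.deg d b < F.deg d b := by
      apply lt_of_le_of_ne (hmax G b hbG)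
      intro h
      exact hne (hmaxl G b hbG h hFG)
    have hcorG : G.corners ⊆ F.corners := by
      rw [corners_facetOf, corners_eq hb]
      apply Set.image_mono
      intro j hj
      exact Finset.mem_of_mem_erase hj
    have hdegG := deg_eq_sum_of_corners_subset hb hcorG hy.1
    have hdegF := deg_eq_sum_of_corners_subset hb (le_refl F.corners) hy.1
    have hpsub : (Set.toFinite F.parab).toFinset ⊆ (Set.toFinite G.parab).toFinset := by
      intro k hk
      rw [Set.Finite.mem_toFinset] at hk ⊢
      exact parab_subset_of_le hFG hk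
    have hdiff : 0 ≤ ∑ k ∈ (Set.toFinite G.parab).toFinset \ (Set.toFinite F.parab).toFinset,
        P.root' k y := by
      apply Finset.sum_nonneg
      intro k hk
      rw [Finset.mem_sdiff, Set.Finite.mem_toFinset, Set.Finite.mem_toFinset] at hk
      obtain ⟨hkG, hkF⟩ := hk
      have hkF' : F.sgn k = -1 := by
        by_contra h; exact hkF h
      have hkG' : G.sgn k = 0 := by
        rcases hFG k with h | h
        · exact h
        · exact absurd (h.trans hkF') hkG
      -- coefficients of `k` at the other corners vanish
      have hζc : (∑ j ∈ (Jset F b).erase j0, fundWeight b j) ∈ closedChamber b :=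
        sum_fundWeight_mem_closedChamber _
      obtain ⟨-, -, a3⟩ := coroot'_sign_of_mem_closedChamber b hζc k
      have hz : P.coroot' k (∑ j ∈ (Jset F b).erase j0, fundWeight b j) = 0 :=
        sign_eq_zero_iff.mp hkG'
      have hrc : ∀ i ∈ (Jset F b).erase j0, P.root' k (fundCoweight b i) = 0 := by
        intro i hi
        rcases (a3.mp hz) i with h | h
        · exact h
        · rw [coroot'_sum_fundWeight, if_pos hi] at h
          exact absurd h one_ne_zero
      have hvk : P.root' k y = P.root' k (fundCoweight b j0) * P.root' j0 y := by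
        rw [root'_eq_sum b k y, Finset.sum_eq_single j0]
        · intro i _ hi
          by_cases hiJ : i ∈ Jset F b
          · rw [hrc i (Finset.mem_erase.mpr ⟨hi, hiJ⟩), zero_mul]
          · rw [root'_simple_eq_zero_of_mem_span_dualCarrier hb hy.2 hiJ, mul_zero]
        · intro h; exact absurd (Finset.mem_univ _) h
      -- `k` is negative for `b`
      have hnotpos : ¬ b.IsPos k := by
        intro hp
        obtain ⟨ζ, hζ⟩ := carrier_nonempty F
        have := (coroot'_sign_of_mem_closedChamber b (hb hζ) k).1 hp
        have h2 : F.sgn k = SignType.sign (P.coroot' k ζ) := by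
          rw [← show sgnVec P ζ = F.sgn from hζ]; rfl
        rw [hkF'] at h2
        have h3 : P.coroot' k ζ < 0 := sign_eq_neg_one_iff.mp h2.symm
        linarith
      have hrc0 : P.root' k (fundCoweight b j0) ≤ 0 := by
        refine (root'_sign_of_nonneg b (x := fundCoweight b j0) ?_ k).2.1 hnotpos
        intro i
        rw [root'_fundCoweight]; split_ifs <;> simp
      rw [hvk]
      exact mul_nonneg_of_nonpos_of_nonpos hrc0 hneg
    rw [hdegG, hdegF, ← Finset.sum_sdiff hpsub] at hlt
    linarith
  -- (S2): `y` lies in the dual solid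
  have hS2 : y ∈ dualSolid d F := by
    rw [dualSolid_eq hd]
    refine ⟨hy.1, ?_⟩
    simp only [Set.mem_iInter]
    intro m hm b' hmb'
    simp only [Facet.corners', Set.mem_iUnion] at hm
    obtain ⟨c, hc, hmc⟩ := hm
    rw [hd.corner_eq b' c m hmb' hmc]
    have hmc' := hmc
    rw [baseCorners_eq] at hmc'
    obtain ⟨i, rfl⟩ := hmc'
    by_cases hiJ : i ∈ Jset F c
    · have hcor : fundWeight c i ∈ Submodule.span R F.corners := by
        apply Submodule.subset_span
        rw [corners_eq hc]; exact ⟨i, hiJ, rfl⟩
      rw [pairing_eq_of_mem_hyper hc hy.1 hcor]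
    · set G := facetOf c (insert i (Jset F c)) with hG
      have hcG : c ∈ G.cham := mem_cham_facetOf _
      have hJG : Jset G c = insert i (Jset F c) := Jset_facetOf _
      have hGF : G ≤ F := by
        apply le_of_mem_closure (sum_Jset_mem_carrier hc)
        rw [mem_closure_iff hcG, hJG]
        intro j
        rw [coroot'_sum_fundWeight]
        refine ⟨fun _ => ?_, fun hj => ?_⟩
        · split_ifs <;> simp
        · have : j ∉ Jset F c := fun h => hj (Finset.mem_insert_of_mem h)
          rw [if_neg this]
      have hdeg : G.deg d c ≤ F.deg d c := by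
        rw [← deg_indep hd F b c hb hc]; exact hmax G c hcG
      set σG := ∑ k ∈ (Set.toFinite G.parab).toFinset, P.root k with hσG
      set σF := ∑ k ∈ (Set.toFinite F.parab).toFinset, P.root k with hσF
      have hσGc : σG ∈ G.carrier := sum_parab_mem_carrier G
      have hσFc : σF ∈ F.carrier := sum_parab_mem_carrier F
      -- `⟨σG - σF, y⟩ = 0`
      have hpsub : (Set.toFinite G.parab).toFinset ⊆ (Set.toFinite F.parab).toFinset := by
        intro k hk
        rw [Set.Finite.mem_toFinset] at hk ⊢
        exact parab_subset_of_le hGF hk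
      have hτy : P.toLinearMap (σG - σF) y = 0 := by
        rw [map_sub, LinearMap.sub_apply, hσG, hσF, sum_parab_pairing, sum_parab_pairing,
          ← Finset.sum_sdiff hpsub]
        have : ∑ k ∈ (Set.toFinite F.parab).toFinset \ (Set.toFinite G.parab).toFinset,
            P.root' k y = 0 := by
          apply Finset.sum_eq_zero
          intro k hk
          rw [Finset.mem_sdiff, Set.Finite.mem_toFinset, Set.Finite.mem_toFinset] at hk
          obtain ⟨hkF, hkG⟩ := hk
          have hkG' : G.sgn k = -1 := by
            by_contra h; exact hkG h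
          have hkF' : F.sgn k = 0 := by
            rcases hGF k with h | h
            · exact h
            · exact absurd (h.trans hkG') hkF
          exact root'_eq_zero_of_mem_span_dualCarrier hy.2 hkF'
        rw [this]; ring
      -- expansion of `σG - σF` in the fundamental weights of `c`
      have hcoef : ∀ j : c.support, j ≠ i → j ∉ Jset F c → P.coroot' j (σG - σF) = 0 := by
        intro j hji hjJ
        have hjG : j ∉ Jset G c := by
          rw [hJG, Finset.mem_insert]; push Not; exact ⟨hji, hjJ⟩
        rw [map_sub, ((mem_carrier_iff hcG).mp hσGc j).2 hjG,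
          ((mem_carrier_iff hc).mp hσFc j).2 hjJ, sub_zero]
      have hcoefi : 0 < P.coroot' i (σG - σF) := by
        have hiG : i ∈ Jset G c := by rw [hJG]; exact Finset.mem_insert_self _ _
        rw [map_sub, ((mem_carrier_iff hc).mp hσFc i).2 hiJ, sub_zero]
        exact ((mem_carrier_iff hcG).mp hσGc i).1 hiG
      have hpair : P.toLinearMap (σG - σF) (d c - y) =
          P.coroot' i (σG - σF) * P.toLinearMap (fundWeight c i) (d c - y) := by
        conv_lhs => rw [fundWeight_expansion c (σG - σF)]
        rw [map_sum, LinearMap.sum_apply, Finset.sum_eq_single i]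
        · rw [map_smul, LinearMap.smul_apply, smul_eq_mul]
        · intro j _ hji
          rw [map_smul, LinearMap.smul_apply, smul_eq_mul]
          by_cases hjJ : j ∈ Jset F c
          · have hcor : fundWeight c j ∈ Submodule.span R F.corners := by
              apply Submodule.subset_span
              rw [corners_eq hc]; exact ⟨j, hjJ, rfl⟩
            have h0 : P.toLinearMap (fundWeight c j) (d c - y) = 0 := by
              rw [map_sub, pairing_eq_of_mem_hyper hc hy.1 hcor, sub_self]
            rw [h0, mul_zero]
          · rw [hcoef j hji hjJ, zero_mul]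
        · intro h; exact absurd (Finset.mem_univ _) h
      have hle : P.toLinearMap (σG - σF) (d c - y) ≤ 0 := by
        rw [map_sub, hτy, sub_zero, map_sub, LinearMap.sub_apply, ← deg_eq, ← deg_eq]
        linarith
      rw [hpair] at hle
      have h5 : P.toLinearMap (fundWeight c i) (d c - y) ≤ 0 := by
        by_contra hpos
        rw [not_le] at hpos
        have := mul_pos hcoefi hpos
        linarith
      rw [map_sub] at h5
      linarith
  exact ⟨y, hS1, hS2⟩

omit [P.IsRootSystem] [P.IsCrystallographic] [P.IsReduced] in
instance : Finite (Facet P) := by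
  have hinj : Function.Injective (fun F : Facet P => F.sgn) := fun F G h => Facet.ext h
  exact Finite.of_injective _ hinj

/-- S14246: there is exactly one special facet. -/
theorem existsUnique_special {d : P.Base → N} (hd : IsCCS d) :
    ∃! F : Facet P, IsSpecial d F := by
  classical
  -- a degree function on facets
  have hch : ∀ F : Facet P, ∃ b, b ∈ F.cham := fun F => cham_nonempty F
  choose β hβ using hch
  let D : Facet P → R := fun F => F.deg d (β F)
  have hD : ∀ (F : Facet P) (b : P.Base), b ∈ F.cham → F.deg d b = D F :=
    fun F b hb => deg_indep hd F b (β F) hb (hβ F)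
  haveI : Nonempty (Facet P) := ⟨Facet.origin P⟩
  obtain ⟨F0, hF0⟩ := Finite.exists_max D
  obtain ⟨F, hFmax⟩ := Set.Finite.exists_maximal (Set.toFinite {G : Facet P | D G = D F0})
    ⟨F0, rfl⟩
  have hFS : D F = D F0 := hFmax.1
  have hspecial : IsSpecial d F := by
    apply special_of_max hd F (β F) (hβ F)
    · intro G c hc
      rw [hD G c hc, hD F (β F) (hβ F), hFS]
      exact hF0 G
    · intro G c hc hdeg hFG
      rw [hD G c hc, hD F (β F) (hβ F)] at hdeg
      have hGS : D G = D F0 := hdeg.trans hFS
      exact le_antisymm (hFmax.2 hGS hFG) hFG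
  refine ⟨F, hspecial, fun F' hF' => ?_⟩
  obtain ⟨h1, h2⟩ := special_max_deg hd F (β F) (hβ F) hspecial
  obtain ⟨h1', h2'⟩ := special_max_deg hd F' (β F') (hβ F') hF'
  have heq : F'.deg d (β F') = F.deg d (β F) :=
    le_antisymm (h1 F' (β F') (hβ F')) (h1' F (β F) (hβ F))
  exact le_antisymm (h2 F' (β F') (hβ F') heq) (h2' F (β F) (hβ F) heq.symm)

end Groth.Agent.Lib.Helper25.RC
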