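import Mathlib
import Groth.Agent.Lib.Helper25RCSpecial3

/-!
# Root chambers (Behrend), part 17: parabolic sets of roots and facets
-/

set_option autoImplicit false
set_option linter.unusedSectionVars false

namespace Groth.Agent.Lib.Helper25.RC

open RootCh Module Submodule

variable {ι : Type*} {R : Type*} {M : Type*} {N : Type*}
  [Field R] [LinearOrder R] [IsStrictOrderedRing R]
  [AddCommGroup M] [Module R M] [AddCommGroup N] [Module R N] [Finite ι]

section General

variable {P : RootPairing ι R M N}

lemma le_of_parab_subset {F G : Facet P} (h : F.parab ⊆ G.parab) : F ≤ G := by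
  have hsub : ∀ k, F.sgn k ≠ -1 → G.sgn k ≠ -1 := fun k hk => h hk
  intro i
  have h3 := hsub i
  have h4 := hsub (nidx P i)
  rw [sgn_nidx, sgn_nidx] at h4
  revert h3 h4
  generalize F.sgn i = s
  generalize G.sgn i = t
  cases s <;> cases t <;> decide

lemma le_iff_parab_subset {F G : Facet P} : F ≤ G ↔ F.parab ⊆ G.parab :=
  ⟨parab_subset_of_le, le_of_parab_subset⟩

lemma parab_injective {F G : Facet P} (h : F.parab = G.parab) : F = G :=
  le_antisymm (le_of_parab_subset h.le) (le_of_parab_subset h.ge)

/-- coroot of a sum of two roots -/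
lemma rlen_smul_coroot_add {i j k : ι} (h : P.root k = P.root i + P.root j) :
    rlen P k • P.coroot k = rlen P i • P.coroot i + rlen P j • P.coroot j := by
  letI := Fintype.ofFinite ι
  rw [rlen_smul_coroot, rlen_smul_coroot, rlen_smul_coroot, h, map_add, smul_add]

/-- the parabolic set of a facet is parabolic -/
lemma parab_isParabolic (F : Facet P) : IsParabolicSubset P F.parab := by
  obtain ⟨ξ, hξ⟩ := F.exists_sgnVec_eq
  have hs : ∀ k, F.sgn k = SignType.sign (P.coroot' k ξ) := fun k => by rw [← hξ]; rfl
  have hmem : ∀ k, k ∈ F.parab ↔ 0 ≤ P.coroot' k ξ := by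
    intro k
    show F.sgn k ≠ -1 ↔ _
    rw [hs k, ← sign_nonneg_iff]
    cases SignType.sign (P.coroot' k ξ) <;> decide
  refine ⟨fun i j k hi hj hk => ?_, fun i => ?_⟩
  · rw [hmem] at hi hj ⊢
    have h := congrArg (fun n => P.toLinearMap ξ n) (rlen_smul_coroot_add hk)
    simp only [map_add, map_smul, smul_eq_mul] at h
    have h1 : 0 ≤ rlen P k * P.coroot' k ξ := by
      have e1 : rlen P k * P.coroot' k ξ = rlen P i * P.coroot' i ξ + rlen P j * P.coroot' j ξ := h
      rw [e1]
      exact add_nonneg (mul_nonneg (rlen_pos P i).le hi) (mul_nonneg (rlen_pos P j).le hj)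
    by_contra hneg
    rw [not_le] at hneg
    have := mul_neg_of_pos_of_neg (rlen_pos P k) hneg
    linarith
  · show i ∈ F.parab ∨ nidx P i ∈ F.parab
    rw [hmem, hmem, coroot'_nidx]
    rcases le_total 0 (P.coroot' i ξ) with h | h
    · exact Or.inl h
    · exact Or.inr (neg_nonneg.mpr h)

end General

variable {P : RootPairing ι R M N} [P.IsRootSystem] [P.IsCrystallographic] [P.IsReduced]

/-- A parabolic set contains the positive roots of some base. -/
theorem exists_base_pos_subset {S : Set ι} (hS : IsParabolicSubset P S) :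
    ∃ b : P.Base, ∀ k, b.IsPos k → k ∈ S := by
  classical
  haveI : Nonempty P.Base := P.nonempty_base
  obtain ⟨b, hb⟩ := Finite.exists_max (fun b : P.Base => ({k | b.IsPos k ∧ k ∈ S} : Set ι).ncard)
  refine ⟨b, ?_⟩
  by_contra hcon
  push Not at hcon
  obtain ⟨k0, hk0, hk0S⟩ := hcon
  -- some simple root is not in `S`
  have hsimple : ∃ i ∈ b.support, i ∉ S := by
    by_contra hall
    push Not at hall
    apply hk0S
    refine hk0.induction_on_add (p := fun k => k ∈ S) hall ?_
    intro i j k hk hi hj
    exact hS.1 i j k hi (hall j hj) hk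
  obtain ⟨i, hi, hiS⟩ := hsimple
  have hnS : nidx P i ∈ S := (hS.2 i).resolve_left hiS
  obtain ⟨b', hb'⟩ := exists_reflBase b i
  have hsub : ({k | b.IsPos k ∧ k ∈ S} : Set ι) ⊂ {k | b'.IsPos k ∧ k ∈ S} := by
    rw [Set.ssubset_iff_of_subset]
    · refine ⟨nidx P i, ⟨?_, hnS⟩, ?_⟩
      · rw [hb', isPos_reflectionPerm_iff b hi]
        exact Or.inr rfl
      · rintro ⟨h, -⟩
        exact (isPos_nidx_iff b i).mp h (RootPairing.Base.isPos_of_mem_support hi)
    · rintro k ⟨h1, h2⟩
      refine ⟨?_, h2⟩
      rw [hb', isPos_reflectionPerm_iff b hi]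
      left
      refine ⟨h1, ?_⟩
      rintro rfl
      exact hiS h2
  have := Set.ncard_lt_ncard hsub (Set.toFinite _)
  exact absurd (hb b') (not_le.mpr this)

omit [P.IsCrystallographic] [P.IsReduced] in
lemma root'_add {i j k : ι} (h : P.root k = P.root i + P.root j) (x : N) :
    P.root' k x = P.root' i x + P.root' j x := by
  show P.toLinearMap (P.root k) x = P.toLinearMap (P.root i) x + P.toLinearMap (P.root j) x
  rw [h, map_add, LinearMap.add_apply]

/-- S ∋ -k (k positive) iff all simple roots in the support of k have their negatives in S -/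
lemma neg_mem_iff_support {S : Set ι} (hS : IsParabolicSubset P S) {b : P.Base}
    (hb : ∀ k, b.IsPos k → k ∈ S) {k : ι} (hk : b.IsPos k) :
    nidx P k ∈ S ↔ ∀ l : b.support, P.root' k (fundCoweight b l) ≠ 0 → nidx P l ∈ S := by
  classical
  have hnn : ∀ {i : ι}, b.IsPos i → ∀ l : b.support, 0 ≤ P.root' i (fundCoweight b l) := by
    intro i hi l
    refine (root'_sign_of_nonneg b (x := fundCoweight b l) ?_ i).1 hi
    intro j
    rw [root'_fundCoweight]; split_ifs <;> simp
  have hnegadd : ∀ {i j k : ι}, P.root k = P.root i + P.root j →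
      P.root (nidx P k) = P.root (nidx P i) + P.root (nidx P j) := by
    intro i j k h
    rw [root_nidx, root_nidx, root_nidx, h, neg_add]
  constructor
  · -- forward direction, by induction
    have key : b.IsPos k ∧ (nidx P k ∈ S →
        ∀ l : b.support, P.root' k (fundCoweight b l) ≠ 0 → nidx P l ∈ S) := by
      refine hk.induction_on_add (p := fun k => b.IsPos k ∧ (nidx P k ∈ S →
        ∀ l : b.support, P.root' k (fundCoweight b l) ≠ 0 → nidx P l ∈ S)) ?_ ?_
      · intro i hi
        refine ⟨RootPairing.Base.isPos_of_mem_support hi, fun hiS l hl => ?_⟩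
        rw [root'_fundCoweight b l ⟨i, hi⟩] at hl
        by_cases h : (⟨i, hi⟩ : b.support) = l
        · rw [← h]; exact hiS
        · rw [if_neg h] at hl; exact absurd rfl hl
      · rintro i j k hkij ⟨hipos, hi⟩ hj
        have hjpos := RootPairing.Base.isPos_of_mem_support hj
        refine ⟨hipos.add hjpos hkij, fun hkS l hl => ?_⟩
        -- `-i = -k + j` and `-j = -k + i`
        have hniS : nidx P i ∈ S := by
          apply hS.1 (nidx P k) j (nidx P i) hkS (hb j hjpos)
          rw [root_nidx, root_nidx, hkij]; abel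
        have hnjS : nidx P j ∈ S := by
          apply hS.1 (nidx P k) i (nidx P j) hkS (hb i hipos)
          rw [root_nidx, root_nidx, hkij]; abel
        rw [root'_add hkij] at hl
        by_cases hli : P.root' i (fundCoweight b l) = 0
        · rw [hli, zero_add, root'_fundCoweight b l ⟨j, hj⟩] at hl
          by_cases h : (⟨j, hj⟩ : b.support) = l
          · rw [← h]; exact hnjS
          · rw [if_neg h] at hl; exact absurd rfl hl
        · exact hi hniS l hli
    exact key.2
  · have key : b.IsPos k ∧ ((∀ l : b.support, P.root' k (fundCoweight b l) ≠ 0 → nidx P l ∈ S) →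
        nidx P k ∈ S) := by
      refine hk.induction_on_add (p := fun k => b.IsPos k ∧
        ((∀ l : b.support, P.root' k (fundCoweight b l) ≠ 0 → nidx P l ∈ S) → nidx P k ∈ S)) ?_ ?_
      · intro i hi
        refine ⟨RootPairing.Base.isPos_of_mem_support hi, fun h => ?_⟩
        apply h ⟨i, hi⟩
        rw [root'_fundCoweight b ⟨i, hi⟩ ⟨i, hi⟩, if_pos rfl]
        exact one_ne_zero
      · rintro i j k hkij ⟨hipos, hi⟩ hj
        have hjpos := RootPairing.Base.isPos_of_mem_support hj
        refine ⟨hipos.add hjpos hkij, fun h => ?_⟩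
        have hi' : nidx P i ∈ S := by
          apply hi
          intro l hl
          apply h l
          rw [root'_add hkij]
          have h1 := hnn hipos l
          have h2 := hnn hjpos l
          have : 0 < P.root' i (fundCoweight b l) := lt_of_le_of_ne h1 (Ne.symm hl)
          linarith
        have hj' : nidx P j ∈ S := by
          apply h ⟨j, hj⟩
          rw [root'_add hkij]
          have h1 := hnn hipos ⟨j, hj⟩
          have h2 : P.root' j (fundCoweight b ⟨j, hj⟩) = 1 := by
            rw [root'_fundCoweight b ⟨j, hj⟩ ⟨j, hj⟩, if_pos rfl]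
          linarith
        exact hS.1 _ _ _ hi' hj' (hnegadd hkij)
    exact key.2

/-- Every parabolic set is the parabolic set of a facet. -/
theorem exists_facet_parab_eq {S : Set ι} (hS : IsParabolicSubset P S) :
    ∃ F : Facet P, F.parab = S := by
  classical
  obtain ⟨b, hb⟩ := exists_base_pos_subset hS
  set J : Finset b.support := Finset.univ.filter (fun i : b.support => nidx P (i : ι) ∉ S) with hJ
  refine ⟨facetOf b J, ?_⟩
  set ζ := ∑ j ∈ J, fundWeight b j with hζ
  have hζc : ζ ∈ closedChamber b := sum_fundWeight_mem_closedChamber J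
  have hsgn : ∀ k, (facetOf b J).sgn k = SignType.sign (P.coroot' k ζ) := fun k => rfl
  -- for positive `k`: the pairing with `ζ` vanishes iff `-k ∈ S`
  have hposzero : ∀ k, b.IsPos k → (P.coroot' k ζ = 0 ↔ nidx P k ∈ S) := by
    intro k hk
    rw [(coroot'_sign_of_mem_closedChamber b hζc k).2.2, neg_mem_iff_support hS hb hk]
    refine forall_congr' fun l => ?_
    rw [hζ, coroot'_sum_fundWeight]
    by_cases hl : l ∈ J
    · rw [if_pos hl]
      have hlS : nidx P (l : ι) ∉ S := (Finset.mem_filter.mp hl).2
      constructor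
      · rintro (h | h)
        · intro h'; exact absurd h h'
        · exact absurd h one_ne_zero
      · intro h
        left
        by_contra h'
        exact hlS (h h')
    · rw [if_neg hl]
      have hlS : nidx P (l : ι) ∈ S := by
        by_contra h
        exact hl (Finset.mem_filter.mpr ⟨Finset.mem_univ _, h⟩)
      exact ⟨fun _ _ => hlS, fun _ => Or.inr rfl⟩
  ext k
  show (facetOf b J).sgn k ≠ -1 ↔ k ∈ S
  rw [hsgn]
  by_cases hk : b.IsPos k
  · have h1 : 0 ≤ P.coroot' k ζ := (coroot'_sign_of_mem_closedChamber b hζc k).1 hk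
    have h2 : SignType.sign (P.coroot' k ζ) ≠ -1 := by
      intro h
      have := sign_eq_neg_one_iff.mp h
      linarith
    exact ⟨fun _ => hb k hk, fun _ => h2⟩
  · have hk' : b.IsPos (nidx P k) := (isPos_nidx_iff b k).mpr hk
    have h1 : P.coroot' k ζ ≤ 0 := (coroot'_sign_of_mem_closedChamber b hζc k).2.1 hk
    have h2 := hposzero (nidx P k) hk'
    rw [nidx_nidx, coroot'_nidx, neg_eq_zero] at h2
    rw [← h2]
    constructor
    · intro h
      by_contra hne
      apply h
      exact sign_eq_neg_one_iff.mpr (lt_of_le_of_ne h1 hne)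
    · intro h
      rw [h, sign_zero]
      decide

/-- S14236 -/
theorem parab_bijection :
    (∀ S : Set ι, IsParabolicSubset P S ↔ ∃! F : Facet P, F.parab = S) ∧
      ∀ F G : Facet P, F ≤ G ↔ F.parab ⊆ G.parab := by
  refine ⟨fun S => ⟨fun hS => ?_, ?_⟩, fun F G => le_iff_parab_subset⟩
  · obtain ⟨F, hF⟩ := exists_facet_parab_eq hS
    exact ⟨F, hF, fun G hG => parab_injective (hG.trans hF.symm)⟩
  · rintro ⟨F, rfl, -⟩
    exact parab_isParabolic F

/-- a facet is determined by its corners -/
lemma eq_of_corners_eq {F G : Facet P} (h : G.corners = F.corners) : G = F := by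
  have hc : G.carrier = F.carrier := by
    rw [carrier_eq_pos_comb G, carrier_eq_pos_comb F, h]
  obtain ⟨ξ, hξ⟩ := carrier_nonempty G
  have hξ' : ξ ∈ F.carrier := hc ▸ hξ
  apply Facet.ext
  exact (show sgnVec P ξ = G.sgn from hξ).symm.trans hξ'

/-- S14235 -/
theorem parab_facet (S : Set ι) (hS : IsParabolicSubset P S) :
    ∃ F : Facet P,
      (F.corners = {m : M | m ∈ fundWeights P ∧
          ∀ y : N, Corr P m y → ∀ i ∈ S, 0 ≤ P.root' i y} ∧ F.parab = S) ∧
      ∀ G : Facet P,
        G.corners = {m : M | m ∈ fundWeights P ∧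
          ∀ y : N, Corr P m y → ∀ i ∈ S, 0 ≤ P.root' i y} → G = F := by
  obtain ⟨F, hF⟩ := exists_facet_parab_eq hS
  have hcor : F.corners = {m : M | m ∈ fundWeights P ∧
      ∀ y : N, Corr P m y → ∀ i ∈ S, 0 ≤ P.root' i y} := by
    rw [corners_eq_parab F, hF]
  exact ⟨F, ⟨hcor, hF⟩, fun G hG => eq_of_corners_eq (hG.trans hcor.symm)⟩

end Groth.Agent.Lib.Helper25.RC
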