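import Mathlib
import Groth.Prelude.Def_PLie
import Groth.Prelude.Def_CartDual
import Groth.Agent.Lib.Helper11ResPBWF
import Groth.Agent.Lib.Helper25Struct

/-!
# helper25 library: restricted Lie algebras and infinitesimal group schemes of height one

* `antipode_axioms_of_adjoin`: the antipode axioms may be checked on algebra generators.
* `instBialgebraU`, `instHopfAlgebraU`, `instIsCocommU`: the universal enveloping algebra of a Lie
  algebra is a cocommutative Hopf algebra (`Δ x = x ⊗ 1 + 1 ⊗ x`, `S x = -x`).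
* `resIdeal`, `ResEnv`: the restricted enveloping algebra `u(L) = U(L)/(x^p - x^[p])` of a
  restricted Lie algebra as a quotient Hopf algebra; `ιH`, `ιH_injective`, `finrank_resEnv_le`
  (using helper11's restricted PBW library).
* `pow_char_eq_zero_of_counit`: the dual of a cocommutative Hopf algebra generated by primitives has
  height at most one.
* `rtr`, `rder`, `comul_rtr`, `eq_of_leftInv`: left-invariant derivations of the dual.
* `exists_eq_evLin_of_mem_PDer`: dimension count identifying the primitive elements.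
* `main_generic`: the restricted Lie algebra is the Lie algebra of the height-one group scheme
  `Spec u(L)^*`.
-/

set_option autoImplicit false
universe u v w

namespace Groth.Agent.Lib.Helper25.ResLie

open TensorProduct Groth.Agent.Lib.Helper11ResPBW Groth.Agent.Lib.Helper11PBWRing

attribute [local instance 100] LieRing.ofAssociativeRing

section AntipodeGen

variable {R : Type u} [CommRing R] {A : Type v} [Ring A] [Bialgebra R A]

theorem mul'_rTensor_mul_tmul (S : A →ₗ[R] A) (hSmul : ∀ a b, S (a * b) = S b * S a)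
    (t : A ⊗[R] A) (c d : A) :
    LinearMap.mul' R A (S.rTensor A (t * (c ⊗ₜ[R] d))) =
      S c * LinearMap.mul' R A (S.rTensor A t) * d := by
  induction t using TensorProduct.induction_on with
  | zero => simp
  | tmul a b =>
    rw [Algebra.TensorProduct.tmul_mul_tmul, LinearMap.rTensor_tmul, LinearMap.rTensor_tmul,
      LinearMap.mul'_apply, LinearMap.mul'_apply, hSmul]
    simp only [mul_assoc]
  | add t₁ t₂ h₁ h₂ =>
    rw [add_mul, map_add, map_add, h₁, h₂, map_add, map_add, mul_add, add_mul]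

theorem mul'_rTensor_mul_of_scalar (S : A →ₗ[R] A) (hSmul : ∀ a b, S (a * b) = S b * S a)
    (t t' : A ⊗[R] A) (r : R)
    (ht : LinearMap.mul' R A (S.rTensor A t) = algebraMap R A r) :
    LinearMap.mul' R A (S.rTensor A (t * t')) = r • LinearMap.mul' R A (S.rTensor A t') := by
  induction t' using TensorProduct.induction_on with
  | zero => simp
  | tmul c d =>
    rw [mul'_rTensor_mul_tmul S hSmul, ht, LinearMap.rTensor_tmul, LinearMap.mul'_apply,
      ← Algebra.commutes, mul_assoc, Algebra.smul_def]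
  | add t₁ t₂ h₁ h₂ =>
    rw [mul_add, map_add, map_add, h₁, h₂, map_add, map_add, smul_add]

theorem mul'_lTensor_tmul_mul (S : A →ₗ[R] A) (hSmul : ∀ a b, S (a * b) = S b * S a)
    (a b : A) (t : A ⊗[R] A) :
    LinearMap.mul' R A (S.lTensor A ((a ⊗ₜ[R] b) * t)) =
      a * LinearMap.mul' R A (S.lTensor A t) * S b := by
  induction t using TensorProduct.induction_on with
  | zero => simp
  | tmul c d =>
    rw [Algebra.TensorProduct.tmul_mul_tmul, LinearMap.lTensor_tmul, LinearMap.lTensor_tmul,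
      LinearMap.mul'_apply, LinearMap.mul'_apply, hSmul]
    simp only [mul_assoc]
  | add t₁ t₂ h₁ h₂ =>
    rw [mul_add, map_add, map_add, h₁, h₂, map_add, map_add, mul_add, add_mul]

theorem mul'_lTensor_mul_of_scalar (S : A →ₗ[R] A) (hSmul : ∀ a b, S (a * b) = S b * S a)
    (t t' : A ⊗[R] A) (r : R)
    (ht : LinearMap.mul' R A (S.lTensor A t') = algebraMap R A r) :
    LinearMap.mul' R A (S.lTensor A (t * t')) = r • LinearMap.mul' R A (S.lTensor A t) := by
  induction t using TensorProduct.induction_on with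
  | zero => simp
  | tmul a b =>
    rw [mul'_lTensor_tmul_mul S hSmul, ht, LinearMap.lTensor_tmul, LinearMap.mul'_apply,
      ← Algebra.commutes, mul_assoc, Algebra.smul_def]
  | add t₁ t₂ h₁ h₂ =>
    rw [add_mul, map_add, map_add, h₁, h₂, map_add, map_add, smul_add]

/-- The antipode axioms for an anti-multiplicative linear map follow from their validity on a set
of algebra generators. -/
theorem antipode_axioms_of_adjoin (S : A →ₗ[R] A) (hS1 : S 1 = 1)
    (hSmul : ∀ a b, S (a * b) = S b * S a) (G : Set A) (hG : Algebra.adjoin R G = ⊤)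
    (hr : ∀ g ∈ G, LinearMap.mul' R A (S.rTensor A (CoalgebraStruct.comul (R := R) g)) =
      algebraMap R A (CoalgebraStruct.counit (R := R) g))
    (hl : ∀ g ∈ G, LinearMap.mul' R A (S.lTensor A (CoalgebraStruct.comul (R := R) g)) =
      algebraMap R A (CoalgebraStruct.counit (R := R) g)) :
    (∀ a, LinearMap.mul' R A (S.rTensor A (CoalgebraStruct.comul (R := R) a)) =
      algebraMap R A (CoalgebraStruct.counit (R := R) a)) ∧
    (∀ a, LinearMap.mul' R A (S.lTensor A (CoalgebraStruct.comul (R := R) a)) =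
      algebraMap R A (CoalgebraStruct.counit (R := R) a)) := by
  have key : ∀ a ∈ Algebra.adjoin R G,
      LinearMap.mul' R A (S.rTensor A (CoalgebraStruct.comul (R := R) a)) =
        algebraMap R A (CoalgebraStruct.counit (R := R) a) ∧
      LinearMap.mul' R A (S.lTensor A (CoalgebraStruct.comul (R := R) a)) =
        algebraMap R A (CoalgebraStruct.counit (R := R) a) := by
    intro a ha
    induction ha using Algebra.adjoin_induction with
    | mem g hg => exact ⟨hr g hg, hl g hg⟩
    | algebraMap r =>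
      rw [Bialgebra.comul_algebraMap, Bialgebra.counit_algebraMap,
        Algebra.TensorProduct.algebraMap_apply, LinearMap.rTensor_tmul, LinearMap.lTensor_tmul,
        LinearMap.mul'_apply, LinearMap.mul'_apply, hS1, mul_one]
      constructor
      · rw [Algebra.algebraMap_eq_smul_one, map_smul, hS1]
      · rw [mul_one]
    | add a b _ _ ha hb =>
      constructor
      · rw [map_add, map_add, map_add, map_add, map_add, ha.1, hb.1]
      · rw [map_add, map_add, map_add, map_add, map_add, ha.2, hb.2]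
    | mul a b _ _ ha hb =>
      rw [Bialgebra.comul_mul, Bialgebra.counit_mul]
      constructor
      · rw [mul'_rTensor_mul_of_scalar S hSmul _ _ _ ha.1, hb.1, Algebra.smul_def, ← map_mul]
      · rw [mul'_lTensor_mul_of_scalar S hSmul _ _ _ hb.2, ha.2, Algebra.smul_def, ← map_mul,
          mul_comm]
  have htop : ∀ a : A, a ∈ Algebra.adjoin R G := fun a => by rw [hG]; exact Algebra.mem_top
  exact ⟨fun a => (key a (htop a)).1, fun a => (key a (htop a)).2⟩

end AntipodeGen

section UHopf

variable (R : Type u) [CommRing R] (L : Type v) [LieRing L] [LieAlgebra R L]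

local notation "𝓤" => UniversalEnvelopingAlgebra R L
local notation "ιU" => UniversalEnvelopingAlgebra.ι R (L := L)

/-- `x ↦ x ⊗ 1 + 1 ⊗ x` as a Lie algebra map into `U ⊗ U`. -/
noncomputable def comulLie : L →ₗ⁅R⁆ 𝓤 ⊗[R] 𝓤 where
  toFun x := ιU x ⊗ₜ[R] (1 : 𝓤) + (1 : 𝓤) ⊗ₜ[R] ιU x
  map_add' x y := by
    simp only [map_add, TensorProduct.add_tmul, TensorProduct.tmul_add]
    abel
  map_smul' c x := by
    simp only [map_smul, RingHom.id_apply, smul_add, TensorProduct.smul_tmul', TensorProduct.tmul_smul]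
  map_lie' := by
    intro x y
    simp only [LieHom.map_lie, Ring.lie_def, add_mul, mul_add, Algebra.TensorProduct.tmul_mul_tmul,
      mul_one, one_mul, TensorProduct.sub_tmul, TensorProduct.tmul_sub]
    abel

theorem comulLie_apply (x : L) :
    comulLie R L x = ιU x ⊗ₜ[R] (1 : 𝓤) + (1 : 𝓤) ⊗ₜ[R] ιU x := rfl

/-- The zero map as a Lie algebra map into `R`. -/
noncomputable def counitLie : L →ₗ⁅R⁆ R where
  toFun _ := 0
  map_add' _ _ := by simp
  map_smul' _ _ := by simp
  map_lie' := by
    intro x y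
    simp

/-- Comultiplication on the enveloping algebra. -/
noncomputable def comulU : 𝓤 →ₐ[R] 𝓤 ⊗[R] 𝓤 := UniversalEnvelopingAlgebra.lift R (comulLie R L)

/-- Counit on the enveloping algebra. -/
noncomputable def counitU : 𝓤 →ₐ[R] R := UniversalEnvelopingAlgebra.lift R (counitLie R L)

@[simp] theorem comulU_ι (x : L) :
    comulU R L (ιU x) = ιU x ⊗ₜ[R] (1 : 𝓤) + (1 : 𝓤) ⊗ₜ[R] ιU x :=
  UniversalEnvelopingAlgebra.lift_ι_apply R _ x

@[simp] theorem counitU_ι (x : L) : counitU R L (ιU x) = 0 :=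
  UniversalEnvelopingAlgebra.lift_ι_apply R _ x

noncomputable instance instBialgebraU : Bialgebra R 𝓤 :=
  Bialgebra.ofAlgHom (comulU R L) (counitU R L)
    (by
      apply UniversalEnvelopingAlgebra.hom_ext
      apply LieHom.ext
      intro x
      simp only [LieHom.coe_comp, Function.comp_apply, AlgHom.coe_toLieHom, AlgHom.coe_comp,
        comulU_ι, map_add, Algebra.TensorProduct.map_tmul, map_one, AlgHom.coe_id, id_eq,
        AlgEquiv.toAlgHom_eq_coe, AlgHom.coe_coe, Algebra.TensorProduct.one_def,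
        TensorProduct.add_tmul, TensorProduct.tmul_add, Algebra.TensorProduct.assoc_tmul]
      abel)
    (by
      apply UniversalEnvelopingAlgebra.hom_ext
      refine DFunLike.ext _ _ (fun x => ?_)
      simp only [LieHom.coe_comp, Function.comp_apply, AlgHom.coe_toLieHom, AlgHom.coe_comp,
        comulU_ι, map_add, Algebra.TensorProduct.map_tmul, map_one, AlgHom.coe_id, id_eq,
        counitU_ι, TensorProduct.zero_tmul, zero_add]
      rfl)
    (by
      apply UniversalEnvelopingAlgebra.hom_ext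
      refine DFunLike.ext _ _ (fun x => ?_)
      simp only [LieHom.coe_comp, Function.comp_apply, AlgHom.coe_toLieHom, AlgHom.coe_comp,
        comulU_ι, map_add, Algebra.TensorProduct.map_tmul, map_one, AlgHom.coe_id, id_eq,
        counitU_ι, TensorProduct.tmul_zero, add_zero]
      rfl)

theorem comul_ι (x : L) :
    CoalgebraStruct.comul (R := R) (ιU x) = ιU x ⊗ₜ[R] (1 : 𝓤) + (1 : 𝓤) ⊗ₜ[R] ιU x :=
  comulU_ι R L x

theorem counit_ι (x : L) : CoalgebraStruct.counit (R := R) (ιU x) = 0 :=
  counitU_ι R L x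

end UHopf

section UAntipode

variable (R : Type u) [CommRing R] (L : Type v) [LieRing L] [LieAlgebra R L]

local notation "𝓤" => UniversalEnvelopingAlgebra R L
local notation "ιU" => UniversalEnvelopingAlgebra.ι R (L := L)

/-- `x ↦ op (-x)` as a Lie algebra map into `Uᵐᵒᵖ`. -/
noncomputable def antiLie : L →ₗ⁅R⁆ 𝓤ᵐᵒᵖ where
  toFun x := MulOpposite.op (-(ιU x))
  map_add' x y := by
    rw [map_add, neg_add, MulOpposite.op_add]
  map_smul' c x := by
    rw [map_smul, RingHom.id_apply, ← smul_neg, MulOpposite.op_smul]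
  map_lie' := by
    intro x y
    rw [Ring.lie_def, ← MulOpposite.op_mul, ← MulOpposite.op_mul, ← MulOpposite.op_sub,
      LieHom.map_lie, Ring.lie_def]
    congr 1
    noncomm_ring

/-- The antipode as an algebra map into the opposite algebra. -/
noncomputable def antiHom : 𝓤 →ₐ[R] 𝓤ᵐᵒᵖ := UniversalEnvelopingAlgebra.lift R (antiLie R L)

/-- The antipode of the enveloping algebra. -/
noncomputable def antipodeU : 𝓤 →ₗ[R] 𝓤 :=
  (MulOpposite.opLinearEquiv R).symm.toLinearMap ∘ₗ (antiHom R L).toLinearMap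

theorem antipodeU_apply (u : 𝓤) : antipodeU R L u = MulOpposite.unop (antiHom R L u) := rfl

@[simp] theorem antipodeU_ι (x : L) : antipodeU R L (ιU x) = -(ιU x) := by
  rw [antipodeU_apply, antiHom, UniversalEnvelopingAlgebra.lift_ι_apply]
  rfl

theorem antipodeU_one : antipodeU R L 1 = 1 := by
  rw [antipodeU_apply, map_one, MulOpposite.unop_one]

theorem antipodeU_mul (a b : 𝓤) : antipodeU R L (a * b) = antipodeU R L b * antipodeU R L a := by
  rw [antipodeU_apply, map_mul, MulOpposite.unop_mul]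
  rfl

theorem antipodeU_pow (a : 𝓤) (n : ℕ) : antipodeU R L (a ^ n) = antipodeU R L a ^ n := by
  induction n with
  | zero => rw [pow_zero, pow_zero, antipodeU_one]
  | succ n ih => rw [pow_succ, antipodeU_mul, ih, ← pow_succ']

theorem adjoin_range_ι : Algebra.adjoin R (Set.range ιU) = ⊤ := by
  rw [eq_top_iff]
  rintro u -
  induction u using Groth.Agent.Lib.Helper11PBWRing.U_induction with
  | halg r => exact Subalgebra.algebraMap_mem _ r
  | hι x => exact Algebra.subset_adjoin ⟨x, rfl⟩
  | hmul a b ha hb => exact Subalgebra.mul_mem _ ha hb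
  | hadd a b ha hb => exact Subalgebra.add_mem _ ha hb

noncomputable instance instHopfAlgebraU : HopfAlgebra R 𝓤 := by
  have h := antipode_axioms_of_adjoin (R := R) (A := 𝓤) (antipodeU R L) (antipodeU_one R L)
    (antipodeU_mul R L) (Set.range ιU) (adjoin_range_ι R L)
    (by
      rintro _ ⟨x, rfl⟩
      rw [comul_ι, counit_ι, map_add, LinearMap.rTensor_tmul, LinearMap.rTensor_tmul, map_add,
        LinearMap.mul'_apply, LinearMap.mul'_apply, antipodeU_ι, antipodeU_one, map_zero]
      simp)
    (by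
      rintro _ ⟨x, rfl⟩
      rw [comul_ι, counit_ι, map_add, LinearMap.lTensor_tmul, LinearMap.lTensor_tmul, map_add,
        LinearMap.mul'_apply, LinearMap.mul'_apply, antipodeU_ι, antipodeU_one, map_zero]
      simp)
  exact
    { antipode := antipodeU R L
      mul_antipode_rTensor_comul := by
        apply LinearMap.ext
        intro a
        exact h.1 a
      mul_antipode_lTensor_comul := by
        apply LinearMap.ext
        intro a
        exact h.2 a }

theorem antipode_eq (u : 𝓤) : HopfAlgebra.antipode R u = antipodeU R L u := rfl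

/-- The enveloping algebra is cocommutative. -/
instance instIsCocommU : Coalgebra.IsCocomm R 𝓤 where
  comm_comp_comul := by
    have h : (Algebra.TensorProduct.comm R 𝓤 𝓤).toAlgHom.comp (Bialgebra.comulAlgHom R 𝓤) =
        Bialgebra.comulAlgHom R 𝓤 := by
      apply UniversalEnvelopingAlgebra.hom_ext
      refine DFunLike.ext _ _ (fun x => ?_)
      simp only [LieHom.coe_comp, Function.comp_apply, AlgHom.coe_toLieHom, AlgHom.coe_comp,
        Bialgebra.comulAlgHom_apply, comul_ι, map_add]
      have e1 : ∀ a b : 𝓤, ((Algebra.TensorProduct.comm R 𝓤 𝓤 : 𝓤 ⊗[R] 𝓤 ≃ₐ[R] 𝓤 ⊗[R] 𝓤) :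
          𝓤 ⊗[R] 𝓤 →ₐ[R] 𝓤 ⊗[R] 𝓤) (a ⊗ₜ[R] b) = b ⊗ₜ[R] a := fun a b => rfl
      rw [e1, e1]
      abel
    apply LinearMap.ext
    intro a
    exact congrArg (fun f : 𝓤 →ₐ[R] 𝓤 ⊗[R] 𝓤 => f a) h

end UAntipode

section ResIdeal

variable {k : Type u} [Field k] {p : ℕ} [hp : Fact p.Prime] [CharP k p]
  {L : Type v} [LieRing L] [LieAlgebra k L] (φ : PLie.PMap k p L)

local notation "𝓤" => UniversalEnvelopingAlgebra k L
local notation "ιU" => UniversalEnvelopingAlgebra.ι k (L := L)

omit hp [CharP k p] in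
theorem nontrivial_U : Nontrivial 𝓤 :=
  (Bialgebra.counitAlgHom k 𝓤).toRingHom.domain_nontrivial

include hp in
theorem charP_U : CharP 𝓤 p := by
  haveI := nontrivial_U (k := k) (L := L)
  exact charP_of_injective_algebraMap (algebraMap k 𝓤).injective p

include hp in
theorem charP_UU : CharP (𝓤 ⊗[k] 𝓤) p := by
  haveI : Nontrivial (𝓤 ⊗[k] 𝓤) :=
    ((Algebra.TensorProduct.lmul' k (S := k)).comp
      (Algebra.TensorProduct.map (Bialgebra.counitAlgHom k 𝓤)
        (Bialgebra.counitAlgHom k 𝓤))).toRingHom.domain_nontrivial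
  exact charP_of_injective_algebraMap (algebraMap k (𝓤 ⊗[k] 𝓤)).injective p

/-- The two-sided ideal generated by the central elements `x ^ p - x^[p]`. -/
noncomputable def resIdeal : Ideal 𝓤 := Ideal.span (Set.range (xi φ))

theorem xi_mem_resIdeal (x : L) : xi φ x ∈ resIdeal φ := Ideal.subset_span ⟨x, rfl⟩

instance isTwoSided_resIdeal : (resIdeal φ).IsTwoSided := ⟨by
  intro a b ha
  induction ha using Submodule.span_induction with
  | mem a ha =>
    obtain ⟨x, rfl⟩ := ha
    rw [xi_central]
    exact Ideal.mul_mem_left _ _ (xi_mem_resIdeal φ x)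
  | zero => rw [zero_mul]; exact Ideal.zero_mem _
  | add a a' _ _ h h' => rw [add_mul]; exact Ideal.add_mem _ h h'
  | smul c a _ h => rw [smul_eq_mul, mul_assoc]; exact Ideal.mul_mem_left _ _ h⟩

theorem resIdeal_le_II : ∀ w ∈ resIdeal φ, w ∈ II φ := by
  intro w hw
  induction hw using Submodule.span_induction with
  | mem a ha =>
    obtain ⟨x, rfl⟩ := ha
    have := xi_mul_mem_II φ x 1
    rwa [mul_one] at this
  | zero => exact Submodule.zero_mem _
  | add a a' _ _ h h' => exact Submodule.add_mem _ h h'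
  | smul c a _ h =>
    have hle : II φ ≤ (II φ).comap (LinearMap.mulLeft k c) := by
      rw [II, Submodule.span_le]
      rintro _ ⟨x, u, rfl⟩
      simp only [Submodule.comap_coe, Set.mem_preimage, LinearMap.mulLeft_apply, SetLike.mem_coe]
      rw [← mul_assoc, ← xi_central φ x, mul_assoc]
      exact Submodule.subset_span ⟨x, _, rfl⟩
    exact hle h

theorem comul_xi (x : L) :
    CoalgebraStruct.comul (R := k) (xi φ x) = xi φ x ⊗ₜ[k] (1 : 𝓤) + (1 : 𝓤) ⊗ₜ[k] xi φ x := by
  haveI := charP_UU (k := k) (p := p) (L := L)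
  have hcomm : Commute (ιU x ⊗ₜ[k] (1 : 𝓤)) ((1 : 𝓤) ⊗ₜ[k] ιU x) := by
    simp only [Commute, SemiconjBy, Algebra.TensorProduct.tmul_mul_tmul, mul_one, one_mul]
  unfold xi
  rw [map_sub, ← Bialgebra.comulAlgHom_apply, map_pow, Bialgebra.comulAlgHom_apply, comul_ι,
    comul_ι, add_pow_char_of_commute p hcomm, Algebra.TensorProduct.tmul_pow,
    Algebra.TensorProduct.tmul_pow, one_pow, TensorProduct.sub_tmul, TensorProduct.tmul_sub]
  abel

theorem counit_xi (x : L) : CoalgebraStruct.counit (R := k) (xi φ x) = 0 := by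
  unfold xi
  rw [map_sub, ← Bialgebra.counitAlgHom_apply, map_pow, Bialgebra.counitAlgHom_apply, counit_ι,
    counit_ι, zero_pow hp.out.ne_zero, sub_zero]

theorem antipode_xi (x : L) : antipodeU k L (xi φ x) = - xi φ x := by
  haveI := charP_U (k := k) (p := p) (L := L)
  unfold xi
  rw [map_sub, antipodeU_pow, antipodeU_ι, antipodeU_ι, neg_pow, neg_one_pow_char 𝓤 p]
  noncomm_ring

instance isCoideal_resIdeal : ((resIdeal φ).restrictScalars k).IsCoideal where
  counit_eq_zero := by
    intro x hx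
    have hle : resIdeal φ ≤ RingHom.ker (Bialgebra.counitAlgHom k 𝓤) := by
      refine Ideal.span_le.mpr ?_
      rintro _ ⟨y, rfl⟩
      exact counit_xi φ y
    exact hle hx
  map_mkQ_comul_eq_zero := by
    intro x hx
    set g : 𝓤 →ₐ[k] (𝓤 ⧸ resIdeal φ) ⊗[k] (𝓤 ⧸ resIdeal φ) :=
      (Algebra.TensorProduct.map (Ideal.Quotient.mkₐ k (resIdeal φ))
        (Ideal.Quotient.mkₐ k (resIdeal φ))).comp (Bialgebra.comulAlgHom k 𝓤) with hg
    have hle : resIdeal φ ≤ RingHom.ker g := by
      refine Ideal.span_le.mpr ?_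
      rintro _ ⟨y, rfl⟩
      rw [SetLike.mem_coe, RingHom.mem_ker, hg, AlgHom.comp_apply, Bialgebra.comulAlgHom_apply,
        comul_xi, map_add, Algebra.TensorProduct.map_tmul, Algebra.TensorProduct.map_tmul]
      have h0 : Ideal.Quotient.mkₐ k (resIdeal φ) (xi φ y) = 0 :=
        Ideal.Quotient.eq_zero_iff_mem.mpr (xi_mem_resIdeal φ y)
      rw [h0, TensorProduct.zero_tmul, TensorProduct.tmul_zero, add_zero]
    exact hle hx

instance isHopfIdeal_resIdeal : (resIdeal φ).IsHopfIdeal k where
  antipode_mem := by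
    intro x hx
    rw [antipode_eq]
    induction hx using Submodule.span_induction with
    | mem a ha =>
      obtain ⟨y, rfl⟩ := ha
      rw [antipode_xi]
      exact Ideal.neg_mem_iff _ |>.mpr (xi_mem_resIdeal φ y)
    | zero => rw [map_zero]; exact Ideal.zero_mem _
    | add a a' _ _ h h' => rw [map_add]; exact Ideal.add_mem _ h h'
    | smul c a _ h =>
      rw [smul_eq_mul, antipodeU_mul]
      exact Ideal.mul_mem_right _ _ h

end ResIdeal

section ResEnv

variable {k : Type u} [Field k] {p : ℕ} [hp : Fact p.Prime] [CharP k p]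
  {L : Type v} [LieRing L] [LieAlgebra k L] (φ : PLie.PMap k p L)

local notation "𝓤" => UniversalEnvelopingAlgebra k L
local notation "ιU" => UniversalEnvelopingAlgebra.ι k (L := L)

/-- The restricted enveloping algebra `u(L) = U(L) / (x ^ p - x^[p])`. -/
abbrev ResEnv : Type (max u v) := 𝓤 ⧸ resIdeal φ

/-- The canonical map `L → u(L)`. -/
noncomputable def ιH : L →ₗ[k] ResEnv φ :=
  (Ideal.Quotient.mkₐ k (resIdeal φ)).toLinearMap ∘ₗ ((ιU : L →ₗ⁅k⁆ 𝓤) : L →ₗ[k] 𝓤)

theorem ιH_apply (x : L) : ιH φ x = Ideal.Quotient.mk (resIdeal φ) (ιU x) := rfl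

theorem ιH_lie (x y : L) : ιH φ ⁅x, y⁆ = ιH φ x * ιH φ y - ιH φ y * ιH φ x := by
  rw [ιH_apply, ιH_apply, ιH_apply, LieHom.map_lie, Ring.lie_def, map_sub, map_mul, map_mul]

theorem ιH_pow (x : L) : ιH φ x ^ p = ιH φ (φ x) := by
  rw [ιH_apply, ιH_apply, ← map_pow, ← sub_eq_zero, ← map_sub]
  exact Ideal.Quotient.eq_zero_iff_mem.mpr (xi_mem_resIdeal φ x)

theorem comul_ιH (x : L) : CoalgebraStruct.comul (R := k) (ιH φ x) =
    ιH φ x ⊗ₜ[k] (1 : ResEnv φ) + (1 : ResEnv φ) ⊗ₜ[k] ιH φ x := by
  rw [ιH_apply, Bialgebra.Quotient.comul_mk, comul_ι, map_add, TensorProduct.map_tmul,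
    TensorProduct.map_tmul]
  rfl

theorem counit_ιH (x : L) : CoalgebraStruct.counit (R := k) (ιH φ x) = 0 := by
  rw [ιH_apply, Bialgebra.Quotient.counit_mk, counit_ι]

theorem adjoin_range_ιH : Algebra.adjoin k (Set.range (ιH φ)) = ⊤ := by
  rw [eq_top_iff]
  rintro v -
  obtain ⟨u, rfl⟩ := Ideal.Quotient.mk_surjective v
  induction u using Groth.Agent.Lib.Helper11PBWRing.U_induction with
  | halg r => exact Subalgebra.algebraMap_mem _ r
  | hι x => exact Algebra.subset_adjoin ⟨x, rfl⟩
  | hmul a b ha hb => rw [map_mul]; exact Subalgebra.mul_mem _ ha hb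
  | hadd a b ha hb => rw [map_add]; exact Subalgebra.add_mem _ ha hb

/-- `u(L)` is cocommutative. -/
instance isCocomm_resEnv : Coalgebra.IsCocomm k (ResEnv φ) where
  comm_comp_comul := by
    apply LinearMap.ext
    intro v
    obtain ⟨u, rfl⟩ := Ideal.Quotient.mk_surjective v
    rw [LinearMap.comp_apply, Bialgebra.Quotient.comul_mk]
    have h := Coalgebra.comm_comul k u
    conv_rhs => rw [← h]
    generalize CoalgebraStruct.comul (R := k) u = t
    induction t using TensorProduct.induction_on with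
    | zero => simp
    | tmul a b => rfl
    | add t₁ t₂ h₁ h₂ => simp only [map_add, h₁, h₂]

section Basis

variable {ι : Type w} [LinearOrder ι] [Fintype ι] (b : Module.Basis ι k L)

include b in
theorem ιH_injective : Function.Injective (ιH φ) := by
  intro x y hxy
  have h0 : ιH φ (x - y) = 0 := by rw [map_sub, hxy, sub_self]
  rw [ιH_apply, Ideal.Quotient.eq_zero_iff_mem] at h0
  exact sub_eq_zero.mp (ι_mem_II φ b (resIdeal_le_II φ _ h0))

/-- The reduced monomials in `u(L)`. -/
noncomputable def rmon (a : {a : SL ι // Red p a}) : ResEnv φ :=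
  Ideal.Quotient.mk (resIdeal φ) (mon b a.1.1)

theorem span_rmon_eq_top : Submodule.span k (Set.range (rmon φ b)) = ⊤ := by
  rw [eq_top_iff]
  rintro v -
  obtain ⟨u, rfl⟩ := Ideal.Quotient.mk_surjective v
  have hu : u ∈ NN φ b := by rw [NN_eq_top]; exact Submodule.mem_top
  have hle : NN φ b ≤ (Submodule.span k (Set.range (rmon φ b))).comap
      (Ideal.Quotient.mkₐ k (resIdeal φ)).toLinearMap := by
    rw [NN, Submodule.span_le]
    rintro _ ⟨⟨js, a⟩, rfl⟩
    simp only [Submodule.comap_coe, Set.mem_preimage, SetLike.mem_coe, AlgHom.toLinearMap_apply,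
      Ideal.Quotient.mkₐ_eq_mk]
    rcases js with _ | ⟨j, js⟩
    · have : mm φ b [] a.1.1 = mon b a.1.1 := by simp [mm, zp]
      rw [this]
      exact Submodule.subset_span ⟨a, rfl⟩
    · rw [mm_cons]
      have : Ideal.Quotient.mk (resIdeal φ) (xi φ (b j) * mm φ b js a.1.1) = 0 := by
        rw [Ideal.Quotient.eq_zero_iff_mem]
        exact Ideal.mul_mem_right _ _ (xi_mem_resIdeal φ _)
      rw [this]
      exact Submodule.zero_mem _
  exact hle hu

noncomputable instance fintypeRed : Fintype {a : SL ι // Red p a} :=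
  (red_finite (ι := ι) p).fintype

theorem card_red_le : Fintype.card {a : SL ι // Red p a} ≤ p ^ Fintype.card ι := by
  classical
  have hinj : Function.Injective
      (fun (a : {a : SL ι // Red p a}) (i : ι) => (⟨a.1.1.count i, a.2 i⟩ : Fin p)) := by
    intro a a' h
    apply Subtype.ext
    apply SL_ext
    intro i
    have := congrFun h i
    exact Fin.mk.inj_iff.mp this
  have h1 := Fintype.card_le_of_injective _ hinj
  rwa [Fintype.card_fun, Fintype.card_fin] at h1

include b in
theorem finite_resEnv : Module.Finite k (ResEnv φ) := by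
  refine ⟨?_⟩
  rw [← span_rmon_eq_top φ b]
  exact Submodule.fg_span (Set.finite_range _)

include b in
theorem finrank_resEnv_le : Module.finrank k (ResEnv φ) ≤ p ^ Fintype.card ι := by
  have h1 := finrank_range_le_card (R := k) (rmon φ b)
  rw [Set.finrank, span_rmon_eq_top, finrank_top] at h1
  exact h1.trans (card_red_le (p := p))

end Basis

end ResEnv

section DualGeneric

variable {k : Type u} [Field k] (p : ℕ) [hp : Fact p.Prime] [CharP k p]
variable {H : Type v} [Ring H] [HopfAlgebra k H] [Coalgebra.IsCocomm k H] [Module.Finite k H]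

local notation "𝓐" => CartDual.D k H

omit [Module.Finite k H] [Coalgebra.IsCocomm k H] in
theorem conv_apply_one (f g : 𝓐) : (f * g) (1 : H) = f 1 * g 1 := by
  rw [LinearMap.convMul_apply, Bialgebra.comul_one, Algebra.TensorProduct.one_def,
    TensorProduct.map_tmul, LinearMap.mul'_apply]

omit [Module.Finite k H] [Coalgebra.IsCocomm k H] in
theorem conv_pow_apply_one (f : 𝓐) (n : ℕ) : (f ^ n) (1 : H) = (f 1) ^ n := by
  induction n with
  | zero =>
    rw [pow_zero, pow_zero, LinearMap.convOne_apply, Bialgebra.counit_one]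
    rfl
  | succ n ih => rw [pow_succ, conv_apply_one, ih, pow_succ]

omit [Module.Finite k H] [Coalgebra.IsCocomm k H] in
theorem conv_apply_prim (f g : 𝓐) (h : H)
    (hh : CoalgebraStruct.comul (R := k) h = h ⊗ₜ[k] (1 : H) + (1 : H) ⊗ₜ[k] h) :
    (f * g) h = f h * g 1 + f 1 * g h := by
  rw [LinearMap.convMul_apply, hh, map_add, TensorProduct.map_tmul, TensorProduct.map_tmul,
    map_add, LinearMap.mul'_apply, LinearMap.mul'_apply]

omit [Module.Finite k H] [Coalgebra.IsCocomm k H] in
theorem conv_pow_apply_prim (f : 𝓐) (h : H)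
    (hh : CoalgebraStruct.comul (R := k) h = h ⊗ₜ[k] (1 : H) + (1 : H) ⊗ₜ[k] h) (n : ℕ) :
    (f ^ (n + 1)) h = ((n + 1 : ℕ) : k) * (f 1) ^ n * f h := by
  induction n with
  | zero => simp
  | succ n ih =>
    rw [pow_succ, conv_apply_prim _ f h hh, ih, conv_pow_apply_one]
    push_cast
    ring

include hp in
omit [Module.Finite k H] [Coalgebra.IsCocomm k H] in
theorem conv_pow_char_apply_prim (f : 𝓐) (h : H)
    (hh : CoalgebraStruct.comul (R := k) h = h ⊗ₜ[k] (1 : H) + (1 : H) ⊗ₜ[k] h) :
    (f ^ p) h = 0 := by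
  obtain ⟨n, hn⟩ : ∃ n, p = n + 1 := ⟨p - 1, (Nat.succ_pred_eq_of_pos hp.out.pos).symm⟩
  have h1 := conv_pow_apply_prim f h hh n
  rw [← hn] at h1
  rw [h1, CharP.cast_eq_zero k p, zero_mul, zero_mul]

end DualGeneric

section DualHeight

variable {k : Type u} [Field k] (p : ℕ) [hp : Fact p.Prime] [CharP k p]
variable {H : Type v} [Ring H] [HopfAlgebra k H] [Coalgebra.IsCocomm k H] [Module.Finite k H]

local notation "𝓐" => CartDual.D k H

/-- The key multiplicativity step for the height-one property. -/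
theorem ev₂_pow_char (u v : H)
    (hu : ∀ g : 𝓐, (g ^ p) u = CoalgebraStruct.counit (R := k) u * (g 1) ^ p)
    (hv : ∀ g : 𝓐, (g ^ p) v = CoalgebraStruct.counit (R := k) v * (g 1) ^ p)
    (t : 𝓐 ⊗[k] 𝓐) :
    CartDual.ev₂ k H (t ^ p) (u ⊗ₜ[k] v) =
      CoalgebraStruct.counit (R := k) u * CoalgebraStruct.counit (R := k) v *
        (CartDual.ev₂ k H t ((1 : H) ⊗ₜ[k] (1 : H))) ^ p := by
  haveI : CharP (𝓐 ⊗[k] 𝓐) p := FinHopf.charP_hopf_tensor k p 𝓐
  induction t using TensorProduct.induction_on with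
  | zero =>
    rw [zero_pow (M₀ := 𝓐 ⊗[k] 𝓐) hp.out.ne_zero, map_zero, LinearMap.zero_apply,
      LinearMap.zero_apply, zero_pow hp.out.ne_zero, mul_zero]
  | tmul g h =>
    rw [Algebra.TensorProduct.tmul_pow, CartDual.ev₂_tmul, CartDual.ev₂_tmul, hu, hv]
    ring
  | add t₁ t₂ h₁ h₂ =>
    rw [add_pow_char (R := 𝓐 ⊗[k] 𝓐) t₁ t₂ p, map_add, LinearMap.add_apply, h₁, h₂, map_add,
      LinearMap.add_apply, add_pow_char]
    ring

/-- In the dual of a cocommutative Hopf algebra generated by primitive elements, `p`-th powers are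
constant: `g ^ p = g(1) ^ p · ε`. -/
theorem pow_char_apply {L : Type w} (j : L → H)
    (hprim : ∀ x, CoalgebraStruct.comul (R := k) (j x) = j x ⊗ₜ[k] (1 : H) + (1 : H) ⊗ₜ[k] j x)
    (hcounit : ∀ x, CoalgebraStruct.counit (R := k) (j x) = 0)
    (hgen : Algebra.adjoin k (Set.range j) = ⊤) (u : H) :
    ∀ g : 𝓐, (g ^ p) u = CoalgebraStruct.counit (R := k) u * (g 1) ^ p := by
  have hu : u ∈ Algebra.adjoin k (Set.range j) := by rw [hgen]; exact Algebra.mem_top
  induction hu using Algebra.adjoin_induction with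
  | mem u hu =>
    obtain ⟨x, rfl⟩ := hu
    intro g
    rw [conv_pow_char_apply_prim p g (j x) (hprim x), hcounit, zero_mul]
  | algebraMap r =>
    intro g
    rw [Algebra.algebraMap_eq_smul_one, CartDual.coe_apply, map_smul, ← CartDual.coe_apply,
      conv_pow_apply_one, ← Algebra.algebraMap_eq_smul_one, Bialgebra.counit_algebraMap,
      smul_eq_mul]
  | add u v _ _ hu hv =>
    intro g
    rw [CartDual.coe_apply, map_add, ← CartDual.coe_apply, ← CartDual.coe_apply, hu g, hv g,
      map_add, add_mul]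
  | mul u v _ _ hu hv =>
    intro g
    rw [← CartDual.ev₂_coalgebra_comul_tmul, ← Bialgebra.comulAlgHom_apply, map_pow,
      ev₂_pow_char p u v hu hv, Bialgebra.comulAlgHom_apply, CartDual.ev₂_coalgebra_comul_tmul,
      mul_one, Bialgebra.counit_mul]

/-- The dual of a cocommutative Hopf algebra generated by primitives has height at most one. -/
theorem pow_char_eq_zero_of_counit {L : Type w} (j : L → H)
    (hprim : ∀ x, CoalgebraStruct.comul (R := k) (j x) = j x ⊗ₜ[k] (1 : H) + (1 : H) ⊗ₜ[k] j x)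
    (hcounit : ∀ x, CoalgebraStruct.counit (R := k) (j x) = 0)
    (hgen : Algebra.adjoin k (Set.range j) = ⊤) (f : 𝓐)
    (hf : CoalgebraStruct.counit (R := k) f = 0) : f ^ p = 0 := by
  have hf1 : f 1 = 0 := hf
  apply WithConv.ext
  apply LinearMap.ext
  intro u
  have h1 := pow_char_apply p j hprim hcounit hgen u f
  rw [hf1, zero_pow hp.out.ne_zero, mul_zero] at h1
  exact h1

end DualHeight

section Deriv

variable {k : Type u} [Field k]
variable {H : Type v} [Ring H] [HopfAlgebra k H] [Coalgebra.IsCocomm k H] [Module.Finite k H]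

local notation "𝓐" => CartDual.D k H

/-- The transpose of right multiplication by `h`. -/
noncomputable def rtr (h : H) : 𝓐 →ₗ[k] 𝓐 :=
  (CartDual.toDual k H).symm.toLinearMap ∘ₗ (LinearMap.mulRight k h).dualMap ∘ₗ
    (CartDual.toDual k H).toLinearMap

omit [Module.Finite k H] [Coalgebra.IsCocomm k H] in
theorem rtr_apply (h : H) (f : 𝓐) (u : H) : rtr h f u = f (u * h) := rfl

omit [Module.Finite k H] [Coalgebra.IsCocomm k H] in
theorem rtr_add (h h' : H) : rtr (k := k) (h + h') = rtr h + rtr h' := by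
  apply LinearMap.ext; intro f
  apply WithConv.ext; apply LinearMap.ext; intro u
  change f (u * (h + h')) = f (u * h) + f (u * h')
  rw [mul_add, CartDual.coe_apply, map_add]

omit [Module.Finite k H] [Coalgebra.IsCocomm k H] in
theorem rtr_smul (c : k) (h : H) : rtr (k := k) (c • h) = c • rtr h := by
  apply LinearMap.ext; intro f
  apply WithConv.ext; apply LinearMap.ext; intro u
  change f (u * (c • h)) = c • f (u * h)
  rw [mul_smul_comm, CartDual.coe_apply, map_smul]

omit [Module.Finite k H] [Coalgebra.IsCocomm k H] in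
theorem rtr_sub (h h' : H) : rtr (k := k) (h - h') = rtr h - rtr h' := by
  apply LinearMap.ext; intro f
  apply WithConv.ext; apply LinearMap.ext; intro u
  change f (u * (h - h')) = f (u * h) - f (u * h')
  rw [mul_sub, CartDual.coe_apply, map_sub]

omit [Module.Finite k H] [Coalgebra.IsCocomm k H] in
theorem rtr_comp (h h' : H) : rtr (k := k) h ∘ₗ rtr h' = rtr (h * h') := by
  apply LinearMap.ext; intro f
  apply WithConv.ext; apply LinearMap.ext; intro u
  change f (u * h * h') = f (u * (h * h'))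
  rw [mul_assoc]

omit [Module.Finite k H] [Coalgebra.IsCocomm k H] in
theorem rtr_one : rtr (k := k) (1 : H) = LinearMap.id := by
  apply LinearMap.ext; intro f
  apply WithConv.ext; apply LinearMap.ext; intro u
  change f (u * 1) = f u
  rw [mul_one]

omit [Module.Finite k H] [Coalgebra.IsCocomm k H] in
theorem rtr_pow (h : H) (n : ℕ) : (rtr (k := k) h) ^ n = rtr (h ^ n) := by
  induction n with
  | zero => rw [pow_zero, pow_zero, rtr_one]; rfl
  | succ n ih => rw [pow_succ, ih, Module.End.mul_eq_comp, rtr_comp, ← pow_succ]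

omit [Module.Finite k H] [Coalgebra.IsCocomm k H] in
theorem mul'_map_mul_prim (f g : 𝓐) (h : H) (t : H ⊗[k] H) :
    LinearMap.mul' k k (TensorProduct.map f.ofConv g.ofConv
      (t * (h ⊗ₜ[k] (1 : H) + (1 : H) ⊗ₜ[k] h))) =
    LinearMap.mul' k k (TensorProduct.map (rtr h f).ofConv g.ofConv t) +
      LinearMap.mul' k k (TensorProduct.map f.ofConv (rtr h g).ofConv t) := by
  induction t using TensorProduct.induction_on with
  | zero => simp
  | tmul a b =>
    rw [mul_add, Algebra.TensorProduct.tmul_mul_tmul, Algebra.TensorProduct.tmul_mul_tmul,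
      mul_one, mul_one, map_add, map_add, TensorProduct.map_tmul, TensorProduct.map_tmul,
      TensorProduct.map_tmul, TensorProduct.map_tmul, LinearMap.mul'_apply, LinearMap.mul'_apply,
      LinearMap.mul'_apply, LinearMap.mul'_apply]
    rfl
  | add t₁ t₂ h₁ h₂ =>
    rw [add_mul, map_add, map_add, h₁, h₂, map_add, map_add, map_add, map_add]
    abel

omit [Module.Finite k H] in
/-- The transpose of right multiplication by a primitive element is a derivation. -/
theorem rtr_leibniz (h : H)
    (hh : CoalgebraStruct.comul (R := k) h = h ⊗ₜ[k] (1 : H) + (1 : H) ⊗ₜ[k] h) (f g : 𝓐) :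
    rtr h (f * g) = f • rtr h g + g • rtr h f := by
  rw [smul_eq_mul, smul_eq_mul, mul_comm g]
  apply WithConv.ext; apply LinearMap.ext; intro u
  change (f * g) (u * h) = (f * rtr h g) u + (rtr h f * g) u
  rw [LinearMap.convMul_apply, LinearMap.convMul_apply, LinearMap.convMul_apply,
    Bialgebra.comul_mul, hh, mul'_map_mul_prim, add_comm]

/-- The derivation of the dual attached to a primitive element. -/
noncomputable def rder (h : H)
    (hh : CoalgebraStruct.comul (R := k) h = h ⊗ₜ[k] (1 : H) + (1 : H) ⊗ₜ[k] h) :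
    Derivation k 𝓐 𝓐 :=
  Derivation.mk' (rtr h) (rtr_leibniz h hh)

omit [Module.Finite k H] in
theorem rder_apply (h : H)
    (hh : CoalgebraStruct.comul (R := k) h = h ⊗ₜ[k] (1 : H) + (1 : H) ⊗ₜ[k] h) (f : 𝓐) :
    rder h hh f = rtr h f := rfl

omit [Coalgebra.IsCocomm k H] in
theorem ev₂_lTensor_rtr (h : H) (t : 𝓐 ⊗[k] 𝓐) (u v : H) :
    CartDual.ev₂ k H ((rtr h).lTensor 𝓐 t) (u ⊗ₜ[k] v) = CartDual.ev₂ k H t (u ⊗ₜ[k] (v * h)) := by
  induction t using TensorProduct.induction_on with
  | zero => simp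
  | tmul f g =>
    rw [LinearMap.lTensor_tmul, CartDual.ev₂_tmul, CartDual.ev₂_tmul, rtr_apply]
  | add t₁ t₂ h₁ h₂ =>
    rw [map_add, map_add, LinearMap.add_apply, h₁, h₂, map_add, LinearMap.add_apply]

omit [Coalgebra.IsCocomm k H] in
/-- Transposes of right multiplications are left-invariant. -/
theorem comul_rtr (h : H) :
    CoalgebraStruct.comul (R := k) (A := 𝓐) ∘ₗ rtr h =
      (rtr h).lTensor 𝓐 ∘ₗ CoalgebraStruct.comul (R := k) (A := 𝓐) := by
  apply LinearMap.ext; intro f
  apply (CartDual.ev₂ k H).injective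
  apply TensorProduct.ext'
  intro u v
  rw [LinearMap.comp_apply, LinearMap.comp_apply, ev₂_lTensor_rtr,
    CartDual.ev₂_coalgebra_comul_tmul, CartDual.ev₂_coalgebra_comul_tmul, rtr_apply, mul_assoc]

end Deriv

section LeftInv

variable {k : Type u} [Field k]
variable {H : Type v} [Ring H] [HopfAlgebra k H] [Coalgebra.IsCocomm k H] [Module.Finite k H]

local notation "𝓐" => CartDual.D k H

omit [Coalgebra.IsCocomm k H] in
theorem ev₂_lTensor_congr (D D' : 𝓐 →ₗ[k] 𝓐) (h : ∀ g : 𝓐, D g 1 = D' g 1) (t : 𝓐 ⊗[k] 𝓐)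
    (u : H) :
    CartDual.ev₂ k H (D.lTensor 𝓐 t) (u ⊗ₜ[k] (1 : H)) =
      CartDual.ev₂ k H (D'.lTensor 𝓐 t) (u ⊗ₜ[k] (1 : H)) := by
  induction t using TensorProduct.induction_on with
  | zero => simp
  | tmul f g =>
    rw [LinearMap.lTensor_tmul, LinearMap.lTensor_tmul, CartDual.ev₂_tmul, CartDual.ev₂_tmul, h]
  | add t₁ t₂ h₁ h₂ =>
    rw [map_add, map_add, map_add, map_add, LinearMap.add_apply, LinearMap.add_apply, h₁, h₂]

omit [Coalgebra.IsCocomm k H] in
/-- A left-invariant endomorphism of the dual is determined by its composite with the counit. -/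
theorem eq_of_leftInv (D D' : 𝓐 →ₗ[k] 𝓐)
    (hD : CoalgebraStruct.comul (R := k) (A := 𝓐) ∘ₗ D =
      D.lTensor 𝓐 ∘ₗ CoalgebraStruct.comul (R := k) (A := 𝓐))
    (hD' : CoalgebraStruct.comul (R := k) (A := 𝓐) ∘ₗ D' =
      D'.lTensor 𝓐 ∘ₗ CoalgebraStruct.comul (R := k) (A := 𝓐))
    (h : ∀ g : 𝓐, D g 1 = D' g 1) : D = D' := by
  apply LinearMap.ext; intro f
  apply WithConv.ext; apply LinearMap.ext; intro u
  have key : ∀ E : 𝓐 →ₗ[k] 𝓐, CoalgebraStruct.comul (R := k) (A := 𝓐) ∘ₗ E =
      E.lTensor 𝓐 ∘ₗ CoalgebraStruct.comul (R := k) (A := 𝓐) →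
      E f u = CartDual.ev₂ k H (E.lTensor 𝓐 (CoalgebraStruct.comul (R := k) f))
        (u ⊗ₜ[k] (1 : H)) := by
    intro E hE
    have h1 := congrArg (fun T : 𝓐 →ₗ[k] 𝓐 ⊗[k] 𝓐 => T f) hE
    simp only [LinearMap.comp_apply] at h1
    rw [← h1, CartDual.ev₂_coalgebra_comul_tmul, mul_one]
  change D f u = D' f u
  rw [key D hD, key D' hD', ev₂_lTensor_congr D D' h]

/-- The space of point derivations of the dual at the counit. -/
def PDer : Submodule k (Module.Dual k 𝓐) where
  carrier := {ξ | ∀ f g : 𝓐, ξ (f * g) = f 1 * ξ g + ξ f * g 1}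
  add_mem' := by
    intro ξ η hξ hη f g
    rw [LinearMap.add_apply, LinearMap.add_apply, LinearMap.add_apply, hξ, hη]
    ring
  zero_mem' := by
    intro f g
    simp
  smul_mem' := by
    intro c ξ hξ f g
    rw [LinearMap.smul_apply, LinearMap.smul_apply, LinearMap.smul_apply, hξ, smul_eq_mul,
      smul_eq_mul, smul_eq_mul]
    ring

omit [Module.Finite k H] [Coalgebra.IsCocomm k H] in
theorem mem_PDer {ξ : Module.Dual k 𝓐} :
    ξ ∈ PDer (k := k) (H := H) ↔ ∀ f g : 𝓐, ξ (f * g) = f 1 * ξ g + ξ f * g 1 := Iff.rfl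

/-- Evaluation at an element of `H`, as a linear form on the dual. -/
noncomputable def evAt (h : H) : Module.Dual k 𝓐 :=
  LinearMap.applyₗ h ∘ₗ (CartDual.toDual k H).toLinearMap

omit [Module.Finite k H] [Coalgebra.IsCocomm k H] in
theorem evAt_apply (h : H) (f : 𝓐) : evAt h f = f h := rfl

omit [Module.Finite k H] [Coalgebra.IsCocomm k H] in
theorem evAt_mem_PDer (h : H)
    (hh : CoalgebraStruct.comul (R := k) h = h ⊗ₜ[k] (1 : H) + (1 : H) ⊗ₜ[k] h) :
    evAt h ∈ PDer (k := k) (H := H) := by
  intro f g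
  rw [evAt_apply, evAt_apply, evAt_apply, conv_apply_prim f g h hh]
  ring

omit [Module.Finite k H] [Coalgebra.IsCocomm k H] in
theorem PDer_one {ξ : Module.Dual k 𝓐} (hξ : ξ ∈ PDer (k := k) (H := H)) : ξ 1 = 0 := by
  have h1 := hξ 1 1
  have h2 : (1 : 𝓐) (1 : H) = 1 := by
    rw [LinearMap.convOne_apply, Bialgebra.counit_one]
    rfl
  rw [mul_one, h2, one_mul, mul_one] at h1
  have h3 : ξ 1 + ξ 1 = ξ 1 + 0 := by rw [add_zero]; exact h1.symm
  exact add_left_cancel h3

theorem PDer_sq {ξ : Module.Dual k 𝓐} (hξ : ξ ∈ PDer (k := k) (H := H)) (f : 𝓐)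
    (hf : f ∈ RingHom.ker (Bialgebra.counitAlgHom k 𝓐) ^ 2) : ξ f = 0 := by
  rw [pow_two] at hf
  refine Submodule.mul_induction_on hf ?_ ?_
  · intro a ha b hb
    have ha1 : a 1 = 0 := ha
    have hb1 : b 1 = 0 := hb
    rw [hξ, ha1, hb1, zero_mul, mul_zero, add_zero]
  · intro x y hx hy
    rw [map_add, hx, hy, add_zero]

end LeftInv

section Count

variable {k : Type u} [Field k] (p : ℕ) [hp : Fact p.Prime] [CharP k p]
variable {H : Type v} [Ring H] [HopfAlgebra k H] [Coalgebra.IsCocomm k H] [Module.Finite k H]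

local notation "𝓐" => CartDual.D k H

/-- In height one, the dimension of the dual is `p ^ t` with `t` bounding the dimension of the space
of point derivations. -/
theorem exists_finrank_eq_pow_and_PDer_le
    (hht : ∀ f : 𝓐, CoalgebraStruct.counit (R := k) f = 0 → f ^ p = 0) :
    ∃ t : ℕ, Module.finrank k 𝓐 = p ^ t ∧ Module.finrank k (PDer (k := k) (H := H)) ≤ t := by
  classical
  have : IsNoetherianRing 𝓐 := IsNoetherianRing.of_finite k 𝓐
  set e := Bialgebra.counitAlgHom k 𝓐 with he
  obtain ⟨t, z, hzS, hzind, hzgen⟩ :=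
    Struct.exists_cot_family e ((RingHom.ker e).restrictScalars k) (fun a ha => ha)
  have hgen : Struct.CotGen e z := fun a ha => hzgen a ha
  have hfin := Struct.finrank_eq_pow_card_of_height_one (k := k) p hht z hzS hzind hgen
  rw [Fintype.card_fin] at hfin
  refine ⟨t, hfin, ?_⟩
  let Φ : PDer (k := k) (H := H) →ₗ[k] (Fin t → k) :=
    LinearMap.pi (fun l => LinearMap.applyₗ (z l) ∘ₗ (PDer (k := k) (H := H)).subtype)
  have hΦ : ∀ (ξ : PDer (k := k) (H := H)) (l : Fin t), Φ ξ l = ξ.1 (z l) := fun ξ l => rfl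
  have key : ∀ ζ : Module.Dual k 𝓐, ζ ∈ PDer (k := k) (H := H) → (∀ l, ζ (z l) = 0) →
      ζ = 0 := by
    intro ζ hζ hz0
    apply LinearMap.ext
    intro f
    have hf' : f - (e f) • (1 : 𝓐) ∈ RingHom.ker e := Cart.sub_apply_mem_ker e f
    obtain ⟨d, hd⟩ := hzgen _ hf'
    have h1 := PDer_sq hζ _ hd
    rw [map_sub, map_sub, map_smul, PDer_one hζ, smul_zero, sub_zero, map_sum] at h1
    have h2 : ∑ l, ζ (d l • z l) = 0 := by
      refine Finset.sum_eq_zero (fun l _ => ?_)
      rw [map_smul, hz0, smul_zero]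
    rw [h2, sub_zero] at h1
    exact h1
  have hinj : Function.Injective Φ := by
    intro ξ η h
    apply Subtype.ext
    have h0 := key (ξ.1 - η.1) ((PDer (k := k) (H := H)).sub_mem ξ.2 η.2) (fun l => by
      rw [LinearMap.sub_apply, sub_eq_zero]
      exact congrFun h l)
    exact sub_eq_zero.mp h0
  have h3 := LinearMap.finrank_le_finrank_of_injective hinj
  rwa [Module.finrank_fin_fun] at h3

/-- Evaluation `H → (H^*)^*`. -/
noncomputable def evLin : H →ₗ[k] Module.Dual k 𝓐 :=
  (CartDual.toDual k H).toLinearMap.dualMap ∘ₗ Module.Dual.eval k H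

omit [Module.Finite k H] [Coalgebra.IsCocomm k H] in
theorem evLin_apply (h : H) (f : 𝓐) : evLin h f = f h := rfl

omit [Coalgebra.IsCocomm k H] in
theorem evLin_injective : Function.Injective (evLin (k := k) (H := H)) := by
  intro h h' hh
  apply sub_eq_zero.mp
  rw [← Module.forall_dual_apply_eq_zero_iff k]
  intro ψ
  have := congrArg (fun ξ : Module.Dual k 𝓐 => ξ ((CartDual.toDual k H).symm ψ)) hh
  rw [map_sub, sub_eq_zero]
  exact this

variable {L : Type w} [AddCommGroup L] [Module k L] [Module.Finite k L]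

omit [Module.Finite k L] in
/-- The dimension count: every point derivation of the dual is evaluation at an element of `L`. -/
theorem exists_eq_evLin_of_mem_PDer (j : L →ₗ[k] H) (hj : Function.Injective j)
    (hprim : ∀ x, CoalgebraStruct.comul (R := k) (j x) = j x ⊗ₜ[k] (1 : H) + (1 : H) ⊗ₜ[k] j x)
    (hcounit : ∀ x, CoalgebraStruct.counit (R := k) (j x) = 0)
    (hgen : Algebra.adjoin k (Set.range j) = ⊤)
    (hdim : Module.finrank k H ≤ p ^ Module.finrank k L)
    (ξ : Module.Dual k 𝓐) (hξ : ξ ∈ PDer (k := k) (H := H)) :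
    ∃ x : L, ∀ f : 𝓐, ξ f = f (j x) := by
  obtain ⟨t, ht, hPt⟩ := exists_finrank_eq_pow_and_PDer_le (k := k) (H := H) p
    (pow_char_eq_zero_of_counit p j hprim hcounit hgen)
  have hAH : Module.finrank k 𝓐 = Module.finrank k H := by
    rw [(CartDual.toDual k H).finrank_eq, Subspace.dual_finrank_eq]
  have htn : t ≤ Module.finrank k L := by
    rw [hAH] at ht
    rw [ht] at hdim
    exact (Nat.pow_le_pow_iff_right hp.out.one_lt).mp hdim
  set evL : L →ₗ[k] Module.Dual k 𝓐 := evLin ∘ₗ j with hevLdef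
  have hevL : Function.Injective evL := fun x y hxy => hj (evLin_injective hxy)
  have hle : LinearMap.range evL ≤ PDer (k := k) (H := H) := by
    rintro _ ⟨x, rfl⟩
    exact evAt_mem_PDer (j x) (hprim x)
  have h1 : Module.finrank k (LinearMap.range evL) = Module.finrank k L :=
    LinearMap.finrank_range_of_inj hevL
  have heq : LinearMap.range evL = PDer (k := k) (H := H) := by
    apply Submodule.eq_of_le_of_finrank_le hle
    rw [h1]
    exact hPt.trans htn
  have hξ' : ξ ∈ LinearMap.range evL := by rw [heq]; exact hξ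
  obtain ⟨x, hx⟩ := hξ'
  refine ⟨x, fun f => ?_⟩
  rw [← hx]
  rfl

end Count

section Final

variable {k : Type u} [Field k] (p : ℕ) [hp : Fact p.Prime] [CharP k p]
variable {H : Type v} [Ring H] [HopfAlgebra k H] [Coalgebra.IsCocomm k H] [Module.Finite k H]

local notation "𝓐" => CartDual.D k H

variable {L : Type w} [LieRing L] [LieAlgebra k L]

/-- The family of derivations attached to a linear map into the primitive elements. -/
noncomputable def derMap (j : L →ₗ[k] H)
    (hprim : ∀ x, CoalgebraStruct.comul (R := k) (j x) = j x ⊗ₜ[k] (1 : H) + (1 : H) ⊗ₜ[k] j x) :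
    L →ₗ[k] Derivation k 𝓐 𝓐 where
  toFun x := rder (j x) (hprim x)
  map_add' x y := by
    apply Derivation.ext
    intro f
    rw [Derivation.add_apply, rder_apply, rder_apply, rder_apply, map_add, rtr_add]
    rfl
  map_smul' c x := by
    apply Derivation.ext
    intro f
    rw [RingHom.id_apply, Derivation.smul_apply, rder_apply, rder_apply, map_smul, rtr_smul]
    rfl

omit [Module.Finite k H] in
theorem derMap_apply (j : L →ₗ[k] H)
    (hprim : ∀ x, CoalgebraStruct.comul (R := k) (j x) = j x ⊗ₜ[k] (1 : H) + (1 : H) ⊗ₜ[k] j x)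
    (x : L) (f : 𝓐) : derMap j hprim x f = rtr (j x) f := rfl

/-- The generic form of the theorem: the dual of a finite-dimensional cocommutative Hopf algebra
generated by a Lie algebra of primitive elements of the right dimension. -/
theorem main_generic (φ : L → L) (j : L →ₗ[k] H) (hj : Function.Injective j)
    (hprim : ∀ x, CoalgebraStruct.comul (R := k) (j x) = j x ⊗ₜ[k] (1 : H) + (1 : H) ⊗ₜ[k] j x)
    (hcounit : ∀ x, CoalgebraStruct.counit (R := k) (j x) = 0)
    (hgen : Algebra.adjoin k (Set.range j) = ⊤)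
    (hdim : Module.finrank k H ≤ p ^ Module.finrank k L)
    (hlie : ∀ x y, j ⁅x, y⁆ = j x * j y - j y * j x)
    (hpow : ∀ x, j x ^ p = j (φ x)) :
    (∀ f : 𝓐, Bialgebra.counitAlgHom k 𝓐 f = 0 → f ^ p = 0) ∧
      ∃ e : L →ₗ[k] Derivation k 𝓐 𝓐, Function.Injective e ∧
        Set.range e = {D : Derivation k 𝓐 𝓐 |
          CoalgebraStruct.comul (R := k) (A := 𝓐) ∘ₗ D.toLinearMap =
            LinearMap.lTensor 𝓐 D.toLinearMap ∘ₗ CoalgebraStruct.comul (R := k) (A := 𝓐)} ∧
        (∀ x y : L, e ⁅x, y⁆ = ⁅e x, e y⁆) ∧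
        (∀ x : L, (e (φ x)).toLinearMap = (e x).toLinearMap ^ p) := by
  refine ⟨fun f hf => pow_char_eq_zero_of_counit p j hprim hcounit hgen f hf,
    derMap j hprim, ?_, ?_, ?_, ?_⟩
  · -- injectivity
    intro x y hxy
    apply hj
    apply evLin_injective (k := k) (H := H)
    apply LinearMap.ext
    intro f
    have h1 := congrArg (fun D : Derivation k 𝓐 𝓐 => D f (1 : H)) hxy
    simp only [derMap_apply, rtr_apply, one_mul] at h1
    exact h1
  · -- the image is the set of left-invariant derivations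
    ext D
    constructor
    · rintro ⟨x, rfl⟩
      exact comul_rtr (j x)
    · intro hD
      have hD' : CoalgebraStruct.comul (R := k) (A := 𝓐) ∘ₗ D.toLinearMap =
          LinearMap.lTensor 𝓐 D.toLinearMap ∘ₗ CoalgebraStruct.comul (R := k) (A := 𝓐) := hD
      set ξ : Module.Dual k 𝓐 := evAt (1 : H) ∘ₗ D.toLinearMap with hξdef
      have hξ : ξ ∈ PDer (k := k) (H := H) := by
        intro f g
        change (D (f * g)) (1 : H) = f 1 * (D g) 1 + (D f) 1 * g 1
        rw [Derivation.leibniz, smul_eq_mul, smul_eq_mul, CartDual.coe_apply,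
          WithConv.ofConv_add, LinearMap.add_apply, ← CartDual.coe_apply, ← CartDual.coe_apply,
          conv_apply_one, conv_apply_one]
        ring
      obtain ⟨x, hx⟩ := exists_eq_evLin_of_mem_PDer p j hj hprim hcounit hgen hdim ξ hξ
      refine ⟨x, ?_⟩
      apply Derivation.ext
      intro f
      have h2 : rtr (j x) = D.toLinearMap := by
        apply eq_of_leftInv _ _ (comul_rtr (j x)) hD'
        intro g
        rw [rtr_apply, one_mul, ← hx g]
        rfl
      rw [derMap_apply, h2]
      rfl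
  · -- brackets
    intro x y
    apply Derivation.ext
    intro f
    rw [Derivation.commutator_apply, derMap_apply, derMap_apply, derMap_apply, derMap_apply,
      derMap_apply, hlie, rtr_sub, LinearMap.sub_apply, ← rtr_comp, ← rtr_comp]
    rfl
  · -- p-th powers
    intro x
    have h1 : (derMap j hprim x).toLinearMap = rtr (j x) := rfl
    have h2 : (derMap j hprim (φ x)).toLinearMap = rtr (j (φ x)) := rfl
    rw [h1, h2, rtr_pow, hpow]

end Final

end Groth.Agent.Lib.Helper25.ResLie
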