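import Groth.Agent.Lib.Helper25ResPropAlg
import Groth.Agent.Lib.Helper25Serre
import Groth.Agent.Lib.Helper25ComodInd

/-!
# The equivariant resolution property over regular rings of dimension at most two (helper25)

For a flat coalgebra `C` over a Noetherian ring `R` of global dimension at most two, every
`C`-comodule which is finitely generated over `R` is a quotient of a comodule which is finitely
generated projective over `R` (Serre / Thomason).
-/

set_option autoImplicit false
set_option linter.style.haveILetI false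
universe u

namespace Groth.Agent.Lib.Helper25.ResProp

open TensorProduct HopfRep Groth.Agent.Lib.Helper25

section Defect

variable {R : Type u} [CommRing R] {C : Type u} [AddCommGroup C] [Module R C] [Coalgebra R C]
variable {P : Type u} [AddCommGroup P] [Module R P] [Comod R C P]
variable {F : Type u} [AddCommGroup F] [Module R F] [Comod R C F]

/-- The defect of a linear map between comodules from being a comodule map. -/
noncomputable def defect (ψ : P →ₗ[R] F) : P →ₗ[R] F ⊗[R] C :=
  ψ.rTensor C ∘ₗ Comod.coact (k := R) (A := C) - Comod.coact (k := R) (A := C) ∘ₗ ψ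

theorem defect_apply (ψ : P →ₗ[R] F) (y : P) :
    defect (C := C) ψ y = ψ.rTensor C (Comod.coact (k := R) (A := C) y) -
      Comod.coact (k := R) (A := C) (ψ y) := rfl

theorem mem_ker_defect (ψ : P →ₗ[R] F) (y : P) :
    y ∈ LinearMap.ker (defect (C := C) ψ) ↔
      ψ.rTensor C (Comod.coact (k := R) (A := C) y) = Comod.coact (k := R) (A := C) (ψ y) := by
  rw [LinearMap.mem_ker, defect_apply, sub_eq_zero]

/-- The kernel of the defect is a subcomodule (for flat `C`). -/
theorem isSubcomod_ker_defect [Module.Flat R C] (ψ : P →ₗ[R] F) :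
    IsSubcomod (k := R) (A := C) (LinearMap.ker (defect (C := C) ψ)) := by
  intro y hy
  have hy' := (mem_ker_defect ψ y).mp hy
  have hex : Function.Exact ((LinearMap.ker (defect (C := C) ψ)).subtype.rTensor C)
      ((defect (C := C) ψ).rTensor C) :=
    Module.Flat.rTensor_exact C (LinearMap.exact_subtype_ker_map (defect (C := C) ψ))
  apply (hex _).mp
  unfold defect
  rw [LinearMap.rTensor_sub, LinearMap.sub_apply, LinearMap.rTensor_comp, LinearMap.rTensor_comp,
    LinearMap.comp_apply, LinearMap.comp_apply, coassoc_apply, ← assoc_symm_rTensor,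
    ← lTensor_rTensor_comm', hy', ← coassoc_apply, sub_self]

/-- On the kernel of the defect, `ψ` is a comodule map. -/
theorem isComodHom_comp_subtype_ker_defect [Module.Flat R C] (ψ : P →ₗ[R] F) :
    @Hoch.IsComodHom R _ C _ _ _ (LinearMap.ker (defect (C := C) ψ)) _ _
      (subComod _ (isSubcomod_ker_defect ψ)) F _ _ _
      (ψ ∘ₗ (LinearMap.ker (defect (C := C) ψ)).subtype) := by
  letI := subComod _ (isSubcomod_ker_defect (C := C) ψ)
  apply LinearMap.ext
  intro y
  have hy' := (mem_ker_defect ψ y.1).mp y.2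
  rw [LinearMap.comp_apply, LinearMap.comp_apply, LinearMap.rTensor_comp, LinearMap.comp_apply,
    LinearMap.comp_apply, Submodule.subtype_apply, ← hy']
  congr 1
  exact (rTensor_subtype_subCoact _ (isSubcomod_ker_defect (C := C) ψ) y).symm

end Defect

section IndCover

variable {R : Type u} [CommRing R] {C : Type u} [AddCommGroup C] [Module R C] [Coalgebra R C]
variable (M : Type u) [AddCommGroup M] [Module R M]
variable {F : Type u} [AddCommGroup F] [Module R F] [Comod R C F]

/-- The induced comodule structure on `M ⊗ C` (on the plain tensor product). -/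
@[reducible] noncomputable def indComod : Comod R C (M ⊗[R] C) where
  coact := Hoch.Ind.coactAux R C M
  coassoc := (Hoch.Ind.comod R C M).coassoc
  counit_comp := (Hoch.Ind.comod R C M).counit_comp

/-- `id ⊗ ε : M ⊗ C → M`. -/
noncomputable def indCounit : M ⊗[R] C →ₗ[R] M :=
  (TensorProduct.rid R M).toLinearMap ∘ₗ (CoalgebraStruct.counit (R := R) (A := C)).lTensor M

variable {M}

@[simp] theorem indCounit_tmul (m : M) (c : C) :
    indCounit (C := C) M (m ⊗ₜ[R] c) = CoalgebraStruct.counit (R := R) c • m := by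
  simp [indCounit]

theorem rTensor_counit_assoc_symm (p : M →ₗ[R] F) (m : M) (z : C ⊗[R] C) :
    (p ∘ₗ indCounit (C := C) M).rTensor C ((TensorProduct.assoc R M C C).symm (m ⊗ₜ z)) =
      p m ⊗ₜ[R] (TensorProduct.lid R C
        ((CoalgebraStruct.counit (R := R) (A := C)).rTensor C z)) := by
  induction z using TensorProduct.induction_on with
  | zero => simp
  | add x y hx hy => simp only [TensorProduct.tmul_add, map_add, hx, hy]
  | tmul a b =>
    rw [TensorProduct.assoc_symm_tmul, LinearMap.rTensor_tmul, LinearMap.rTensor_tmul,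
      TensorProduct.lid_tmul, LinearMap.comp_apply, indCounit_tmul, map_smul,
      TensorProduct.smul_tmul]

theorem rTensor_counit_coact (p : M →ₗ[R] F) (y : M ⊗[R] C) :
    (p ∘ₗ indCounit (C := C) M).rTensor C (Hoch.Ind.coactAux R C M y) = p.rTensor C y := by
  induction y using TensorProduct.induction_on with
  | zero => simp
  | add x y hx hy => simp only [map_add, hx, hy]
  | tmul m c =>
    rw [Hoch.Ind.coactAux_tmul, rTensor_counit_assoc_symm, Coalgebra.rTensor_counit_comul,
      TensorProduct.lid_tmul, one_smul, LinearMap.rTensor_tmul]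

theorem comp_indCounit_apply (p : M →ₗ[R] F) (y : M ⊗[R] C) :
    p (indCounit (C := C) M y) = TensorProduct.rid R F
      ((CoalgebraStruct.counit (R := R) (A := C)).lTensor F (p.rTensor C y)) := by
  induction y using TensorProduct.induction_on with
  | zero => simp
  | add x y hx hy => simp only [map_add, hx, hy]
  | tmul m c => simp

end IndCover

section Cover

variable {R : Type u} [CommRing R] [IsNoetherianRing R]
variable {C : Type u} [AddCommGroup C] [Module R C] [Coalgebra R C] [Module.Flat R C]

theorem exists_cover_aux (F : Type u) [AddCommGroup F] [Module R F] [Comod R C F]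
    [Module.Finite R F] (M : Type u) [AddCommGroup M] [Module R M] [Module.Flat R M]
    (p : M →ₗ[R] F) (hp : Function.Surjective p) :
    ∃ (P : Type u) (_ : AddCommGroup P) (_ : Module R P) (_ : Comod R C P) (_ : Module.Flat R P)
      (ψ : P →ₗ[R] F)
      (N : Type u) (_ : AddCommGroup N) (_ : Module R N) (_ : Comod R C N) (_ : Module.Finite R N)
      (ι : N →ₗ[R] P), Function.Injective ι ∧ Hoch.IsComodHom C ι ∧
        defect (C := C) ψ ∘ₗ ι = 0 ∧ Function.Surjective (ψ ∘ₗ ι) := by
  classical
  letI cP : Comod R C (M ⊗[R] C) := indComod M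
  let ψ : M ⊗[R] C →ₗ[R] F := p ∘ₗ indCounit (C := C) M
  have hψ : ∀ y : M ⊗[R] C,
      ψ.rTensor C (Comod.coact (k := R) (A := C) y) = p.rTensor C y :=
    fun y => rTensor_counit_coact p y
  obtain ⟨E, hEdef⟩ : ∃ E : Submodule R (M ⊗[R] C),
    E = LinearMap.ker (defect (C := C) ψ) := ⟨_, rfl⟩
  have hE : IsSubcomod (k := R) (A := C) E := hEdef ▸ isSubcomod_ker_defect ψ
  have hEmem : ∀ y : M ⊗[R] C, y ∈ E ↔ defect (C := C) ψ y = 0 := by
    intro y
    rw [hEdef, LinearMap.mem_ker]
  letI cE : Comod R C E := subComod E hE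
  have hιE : @Hoch.IsComodHom R _ C _ _ _ E _ _ cE _ _ _ cP E.subtype := isComodHom_subtype E hE
  -- surjectivity of `ψ` on `E`
  have hsurj : ∀ f : F, ∃ y : E, ψ y = f := by
    intro f
    obtain ⟨y, hy⟩ := LinearMap.rTensor_surjective C hp (Comod.coact (k := R) (A := C) f)
    have h1 : ψ y = f := by
      change p (indCounit (C := C) M y) = f
      rw [comp_indCounit_apply, hy, counit_apply]
      simp
    refine ⟨⟨y, ?_⟩, h1⟩
    rw [hEdef, mem_ker_defect, hψ, hy, h1]
  choose g hg using hsurj
  obtain ⟨s, hs⟩ := (Module.Finite.fg_top : (⊤ : Submodule R F).FG)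
  obtain ⟨W, hW, hMW, hWfg⟩ := exists_fg_subcomod_ge_noeth (k := R) (A := C) (V := E)
    (Submodule.span R (g '' (s : Set F)))
    (Submodule.fg_span (Set.Finite.image _ s.finite_toSet))
  letI cW : Comod R C W := subComod W hW
  haveI : Module.Finite R W := Module.Finite.iff_fg.mpr hWfg
  have hιW : @Hoch.IsComodHom R _ C _ _ _ W _ _ cW _ _ _ cE W.subtype := isComodHom_subtype W hW
  refine ⟨M ⊗[R] C, inferInstance, inferInstance, cP, inferInstance, ψ,
    W, inferInstance, inferInstance, cW, inferInstance, E.subtype ∘ₗ W.subtype, ?_, ?_, ?_, ?_⟩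
  · exact (E.subtype_injective).comp W.subtype_injective
  · exact isComodHom_comp hιW hιE
  · apply LinearMap.ext
    intro w
    exact (hEmem _).mp (w : E).2
  · rw [← LinearMap.range_eq_top, eq_top_iff, ← hs, Submodule.span_le]
    intro f hf
    refine ⟨⟨g f, hMW (Submodule.subset_span ⟨f, hf, rfl⟩)⟩, ?_⟩
    exact hg f

/-- Every finitely generated comodule is covered by a finitely generated subcomodule of a flat
comodule, through a linear map defined on the whole flat comodule. -/
theorem exists_cover (F : Type u) [AddCommGroup F] [Module R F] [Comod R C F]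
    [Module.Finite R F] :
    ∃ (P : Type u) (_ : AddCommGroup P) (_ : Module R P) (_ : Comod R C P) (_ : Module.Flat R P)
      (ψ : P →ₗ[R] F)
      (N : Type u) (_ : AddCommGroup N) (_ : Module R N) (_ : Comod R C N) (_ : Module.Finite R N)
      (ι : N →ₗ[R] P), Function.Injective ι ∧ Hoch.IsComodHom C ι ∧
        defect (C := C) ψ ∘ₗ ι = 0 ∧ Function.Surjective (ψ ∘ₗ ι) := by
  obtain ⟨n, p, hp⟩ := Module.Finite.exists_fin' R F
  exact exists_cover_aux F (Fin n → R) p hp

end Cover

section Epi

variable {k : Type u} [CommRing k] {A : Type u} [AddCommGroup A] [Module k A] [Coalgebra k A]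
variable {V : Type u} [AddCommGroup V] [Module k V]
variable {W : Type u} [AddCommGroup W] [Module k W]

/-- Transport of a comodule structure along an intertwining map which is an epimorphism with
respect to maps into `W ⊗ (A ⊗ A)` and `W ⊗ k`. -/
@[reducible] noncomputable def comodOfEpi (c : Comod k A V) (ρ : W →ₗ[k] W ⊗[k] A)
    (f : V →ₗ[k] W)
    (hf2 : ∀ g₁ g₂ : W →ₗ[k] W ⊗[k] (A ⊗[k] A), g₁ ∘ₗ f = g₂ ∘ₗ f → g₁ = g₂)
    (hf1 : ∀ g₁ g₂ : W →ₗ[k] W ⊗[k] k, g₁ ∘ₗ f = g₂ ∘ₗ f → g₁ = g₂)
    (h : ρ ∘ₗ f = f.rTensor A ∘ₗ c.coact) :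
    Comod k A W where
  coact := ρ
  coassoc := by
    apply hf2
    apply LinearMap.ext
    intro v
    have hfv : ρ (f v) = f.rTensor A (c.coact v) := LinearMap.congr_fun h v
    have hc := LinearMap.congr_fun c.coassoc v
    simp only [LinearMap.coe_comp, Function.comp_apply, LinearEquiv.coe_coe] at hc ⊢
    rw [hfv, ← LinearMap.comp_apply (ρ.rTensor A) (f.rTensor A), ← LinearMap.rTensor_comp, h,
      LinearMap.rTensor_comp, LinearMap.comp_apply, assoc_rTensor_rTensor', hc,
      lTensor_rTensor_comm']
  counit_comp := by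
    apply hf1
    apply LinearMap.ext
    intro v
    have hfv : ρ (f v) = f.rTensor A (c.coact v) := LinearMap.congr_fun h v
    have hc := LinearMap.congr_fun c.counit_comp v
    simp only [LinearMap.coe_comp, Function.comp_apply, LinearMap.flip_apply,
      TensorProduct.mk_apply] at hc ⊢
    rw [hfv, lTensor_rTensor_comm', hc, LinearMap.rTensor_tmul]

end Epi

section DD

variable {R : Type u} [CommRing R] [IsNoetherianRing R]
variable {C : Type u} [AddCommGroup C] [Module R C] [Coalgebra R C] [Module.Flat R C]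
variable (N : Type u) [AddCommGroup N] [Module R N] [Comod R C N] [Module.Finite R N]

theorem dd_finite_projective (hgl : GlDimLE2 R) :
    Module.Finite R (Module.Dual R (Module.Dual R N)) ∧
      Module.Projective R (Module.Dual R (Module.Dual R N)) := by
  obtain ⟨hfin1, _⟩ := dual_finite_projective hgl N
  exact dual_finite_projective hgl (Module.Dual R N)

theorem exists_ddCoact (hgl : GlDimLE2 R) :
    ∃ ρ : Module.Dual R (Module.Dual R N) →ₗ[R] Module.Dual R (Module.Dual R N) ⊗[R] C,
      ρ ∘ₗ Module.Dual.eval R N =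
        (Module.Dual.eval R N).rTensor C ∘ₗ Comod.coact (k := R) (A := C) := by
  obtain ⟨_, hproj⟩ := dd_finite_projective N hgl
  exact exists_ext N (Q := Module.Dual R (Module.Dual R N) ⊗[R] C)
    ((Module.Dual.eval R N).rTensor C ∘ₗ Comod.coact (k := R) (A := C))

/-- The coaction on the double dual. -/
noncomputable def ddCoact (hgl : GlDimLE2 R) :
    Module.Dual R (Module.Dual R N) →ₗ[R] Module.Dual R (Module.Dual R N) ⊗[R] C :=
  Classical.choose (exists_ddCoact (C := C) N hgl)

theorem ddCoact_comp_eval (hgl : GlDimLE2 R) :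
    ddCoact (C := C) N hgl ∘ₗ Module.Dual.eval R N =
      (Module.Dual.eval R N).rTensor C ∘ₗ Comod.coact (k := R) (A := C) :=
  Classical.choose_spec (exists_ddCoact (C := C) N hgl)

/-- The comodule structure on the double dual of a finitely generated comodule. -/
@[reducible] noncomputable def ddComod (hgl : GlDimLE2 R) :
    Comod R C (Module.Dual R (Module.Dual R N)) :=
  comodOfEpi (inferInstance : Comod R C N) (ddCoact (C := C) N hgl) (Module.Dual.eval R N)
    (by
      obtain ⟨_, hproj⟩ := dd_finite_projective N hgl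
      intro g₁ g₂ h
      exact ext_of_comp_eval_eq N (Q := Module.Dual R (Module.Dual R N) ⊗[R] (C ⊗[R] C)) hgl h)
    (by
      obtain ⟨_, hproj⟩ := dd_finite_projective N hgl
      intro g₁ g₂ h
      exact ext_of_comp_eval_eq N (Q := Module.Dual R (Module.Dual R N) ⊗[R] R) hgl h)
    (ddCoact_comp_eval N hgl)

theorem isComodHom_eval (hgl : GlDimLE2 R) :
    @Hoch.IsComodHom R _ C _ _ _ N _ _ _ (Module.Dual R (Module.Dual R N)) _ _ (ddComod N hgl)
      (Module.Dual.eval R N) :=
  ddCoact_comp_eval N hgl

end DD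

section Main

variable {R : Type u} [CommRing R] [IsNoetherianRing R]
variable {C : Type u} [AddCommGroup C] [Module R C] [Coalgebra R C] [Module.Flat R C]

/-- **The equivariant resolution property** for flat coalgebras over Noetherian rings of global
dimension at most two: every finitely generated comodule is a quotient of a finitely generated
projective comodule. -/
theorem resolution (hgl : GlDimLE2 R) (F : Type u) [AddCommGroup F] [Module R F] [Comod R C F]
    [Module.Finite R F] :
    ∃ (V : Type u) (_ : AddCommGroup V) (_ : Module R V) (_ : Comod R C V) (φ : V →ₗ[R] F),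
      Module.Finite R V ∧ Module.Projective R V ∧ Function.Surjective φ ∧
        Hoch.IsComodHom C φ := by
  obtain ⟨P₁, _, _, cP₁, flP₁, ψ₁, N₁, _, _, cN₁, finN₁, ι₁, hι₁inj, hι₁, hd₁, hs₁⟩ :=
    exists_cover (R := R) (C := C) F
  obtain ⟨P₂, _, _, cP₂, flP₂, ψ₂, N₂, _, _, cN₂, finN₂, ι₂, hι₂inj, hι₂, hd₂, hs₂⟩ :=
    exists_cover (R := R) (C := C) N₁
  obtain ⟨hfinV, hprojV⟩ := dd_finite_projective N₂ hgl
  letI cV : Comod R C (Module.Dual R (Module.Dual R N₂)) := ddComod N₂ hgl
  have hev : Hoch.IsComodHom C (Module.Dual.eval R N₂) := isComodHom_eval N₂ hgl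
  obtain ⟨ι', hι'⟩ := exists_ext N₂ ι₂
  -- `ι'` is a comodule map
  have hι'c : Hoch.IsComodHom C ι' := by
    unfold Hoch.IsComodHom
    apply ext_of_comp_eval_eq N₂ (Q := P₂ ⊗[R] C) hgl
    rw [LinearMap.comp_assoc, hι', LinearMap.comp_assoc, hev, ← LinearMap.comp_assoc,
      ← LinearMap.rTensor_comp, hι']
    exact hι₂
  -- the defect of `ψ₂` vanishes on the image of `ι'`
  have hD : defect (C := C) ψ₂ ∘ₗ ι' = 0 := by
    have h0 : (ι₁.rTensor C ∘ₗ defect (C := C) ψ₂ ∘ₗ ι') = 0 := by
      apply eq_zero_of_comp_eval_eq_zero N₂ (Q := P₁ ⊗[R] C) hgl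
      rw [LinearMap.comp_assoc, LinearMap.comp_assoc, hι', hd₂, LinearMap.comp_zero]
    have hinj : Function.Injective (ι₁.rTensor C) :=
      Module.Flat.rTensor_preserves_injective_linearMap _ hι₁inj
    apply LinearMap.ext
    intro v
    apply hinj
    rw [LinearMap.zero_apply, map_zero]
    exact LinearMap.congr_fun h0 v
  -- `ψ₂ ∘ ι'` is a comodule map
  have hφ₂ : Hoch.IsComodHom C (ψ₂ ∘ₗ ι') := by
    unfold Hoch.IsComodHom
    apply LinearMap.ext
    intro v
    have h1 := LinearMap.congr_fun hD v
    rw [LinearMap.comp_apply, defect_apply, LinearMap.zero_apply, sub_eq_zero] at h1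
    have h2 := isComodHom_apply hι'c v
    rw [LinearMap.comp_apply, LinearMap.comp_apply, LinearMap.comp_apply, ← h1, h2,
      LinearMap.rTensor_comp, LinearMap.comp_apply]
  -- `ψ₁ ∘ ι₁` is a comodule map
  have hπ₁ : Hoch.IsComodHom C (ψ₁ ∘ₗ ι₁) := by
    unfold Hoch.IsComodHom
    apply LinearMap.ext
    intro v
    have h1 := LinearMap.congr_fun hd₁ v
    rw [LinearMap.comp_apply, defect_apply, LinearMap.zero_apply, sub_eq_zero] at h1
    have h2 := isComodHom_apply hι₁ v
    rw [LinearMap.comp_apply, LinearMap.comp_apply, LinearMap.comp_apply, ← h1, h2,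
      LinearMap.rTensor_comp, LinearMap.comp_apply]
  refine ⟨Module.Dual R (Module.Dual R N₂), inferInstance, inferInstance, cV,
    (ψ₁ ∘ₗ ι₁) ∘ₗ (ψ₂ ∘ₗ ι'), hfinV, hprojV, ?_, isComodHom_comp hφ₂ hπ₁⟩
  rw [LinearMap.coe_comp]
  refine hs₁.comp ?_
  intro n₁
  obtain ⟨n₂, hn₂⟩ := hs₂ n₁
  refine ⟨Module.Dual.eval R N₂ n₂, ?_⟩
  rw [LinearMap.comp_apply, ← LinearMap.comp_apply ι', hι']
  exact hn₂

end Main

end Groth.Agent.Lib.Helper25.ResProp
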