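import Mathlib

/-!
# Duals and double duals over rings of global dimension at most two (helper25)

* `projective_ker`: the kernel of a map between projective modules is projective when the cokernel
  has projective dimension at most two (second syzygies).
* `dual_finite`, `dual_projective`: over a Noetherian ring of global dimension at most two the dual
  of a finitely generated module is finitely generated projective.
* `existsUnique_ext`: the extension principle: every linear map from a finitely generated module
  `N` to a flat module extends uniquely along `N → N**`.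
-/

set_option autoImplicit false
set_option linter.style.haveILetI false
universe u

open CategoryTheory

namespace Groth.Agent.Lib.Helper25.ResProp

variable {R : Type u} [CommRing R]

/-- Global dimension at most two (for modules in the universe of `R`). -/
def GlDimLE2 (R : Type u) [CommRing R] : Prop :=
  ∀ (M : Type u) [AddCommGroup M] [Module R M], HasProjectiveDimensionLT (ModuleCat.of R M) 3

section Syzygy

variable {M₁ M₂ : Type u} [AddCommGroup M₁] [Module R M₁] [AddCommGroup M₂] [Module R M₂]

/-- Second syzygies are projective in global dimension at most two. -/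
theorem projective_ker (hgl : GlDimLE2 R) [Module.Projective R M₁] [Module.Projective R M₂]
    (Ψ : M₁ →ₗ[R] M₂) : Module.Projective R (LinearMap.ker Ψ) := by
  -- the two short exact sequences
  let S₂ := (LinearMap.range Ψ).mkQ.shortComplexKer
  have hS₂ : S₂.ShortExact := LinearMap.shortExact_shortComplexKer (Submodule.mkQ_surjective _)
  let S₁ := Ψ.rangeRestrict.shortComplexKer
  have hS₁ : S₁.ShortExact := LinearMap.shortExact_shortComplexKer Ψ.surjective_rangeRestrict
  have h3 : HasProjectiveDimensionLT S₂.X₃ 3 := hgl _
  have hp₂ : Projective S₂.X₂ := by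
    change Projective (ModuleCat.of R M₂)
    infer_instance
  have h2 : HasProjectiveDimensionLT S₂.X₁ 2 := (hS₂.hasProjectiveDimensionLT_X₃_iff 1 hp₂).mp h3
  -- identify `S₂.X₁ = ker mkQ` with `S₁.X₃ = range Ψ`
  have e : S₂.X₁ ≅ S₁.X₃ :=
    (LinearEquiv.ofEq _ _ (Submodule.ker_mkQ (LinearMap.range Ψ))).toModuleIso
  have h2' : HasProjectiveDimensionLT S₁.X₃ 2 := hasProjectiveDimensionLT_of_iso e 2
  have hp₁ : Projective S₁.X₂ := by
    change Projective (ModuleCat.of R M₁)
    infer_instance
  have h1 : HasProjectiveDimensionLT S₁.X₁ 1 := (hS₁.hasProjectiveDimensionLT_X₃_iff 0 hp₁).mp h2'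
  have hproj : Projective S₁.X₁ := projective_iff_hasProjectiveDimensionLT_one.mpr h1
  have e' : LinearMap.ker Ψ.rangeRestrict = LinearMap.ker Ψ := by
    ext x
    simp only [LinearMap.mem_ker]
    constructor
    · intro h
      exact congrArg Subtype.val h
    · intro h
      exact Subtype.ext h
  have hk : Module.Projective R (LinearMap.ker Ψ.rangeRestrict) :=
    (IsProjective.iff_projective _).mpr hproj
  exact Module.Projective.of_equiv (LinearEquiv.ofEq _ _ e')

end Syzygy

section Dual

variable [IsNoetherianRing R]

/-- Over a Noetherian ring of global dimension at most two, the dual of a finitely generated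
module is finitely generated and projective. -/
theorem dual_finite_projective (hgl : GlDimLE2 R) (N : Type u) [AddCommGroup N] [Module R N]
    [Module.Finite R N] :
    Module.Finite R (Module.Dual R N) ∧ Module.Projective R (Module.Dual R N) := by
  obtain ⟨b, p, hp⟩ := Module.Finite.exists_fin' R N
  let K : Submodule R (Fin b → R) := LinearMap.ker p
  haveI : Module.Finite R K := Module.Finite.iff_fg.mpr (IsNoetherian.noetherian K)
  obtain ⟨a, g, hg⟩ := Module.Finite.exists_fin' R K
  let Φ : (Fin a → R) →ₗ[R] (Fin b → R) := K.subtype ∘ₗ g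
  have hΦ : LinearMap.range Φ = K := by
    rw [LinearMap.range_comp, LinearMap.range_eq_top.mpr hg, Submodule.map_top,
      Submodule.range_subtype]
  let Ψ := Φ.dualMap
  have hker : LinearMap.ker Ψ = LinearMap.range p.dualMap := by
    rw [LinearMap.ker_dualMap_eq_dualAnnihilator_range, hΦ,
      LinearMap.range_dualMap_eq_dualAnnihilator_ker_of_surjective p hp]
  have hinj : Function.Injective p.dualMap := LinearMap.dualMap_injective_of_surjective hp
  let e : Module.Dual R N ≃ₗ[R] LinearMap.ker Ψ :=
    (LinearEquiv.ofInjective p.dualMap hinj).trans (LinearEquiv.ofEq _ _ hker.symm)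
  haveI : Module.Projective R (LinearMap.ker Ψ) := projective_ker hgl Ψ
  haveI : Module.Finite R (LinearMap.ker Ψ) :=
    Module.Finite.iff_fg.mpr (IsNoetherian.noetherian _)
  exact ⟨Module.Finite.equiv e.symm, Module.Projective.of_equiv e.symm⟩

end Dual

section Ext

variable [IsNoetherianRing R]
variable (N : Type u) [AddCommGroup N] [Module R N] [Module.Finite R N]
variable {Q : Type u} [AddCommGroup Q] [Module R Q] [Module.Flat R Q]

/-- Existence in the extension principle: a map from a finitely presented module to a flat module
extends along `N → N**`. -/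
theorem exists_ext (g : N →ₗ[R] Q) :
    ∃ h : Module.Dual R (Module.Dual R N) →ₗ[R] Q, h ∘ₗ Module.Dual.eval R N = g := by
  haveI : Module.FinitePresentation R N := Module.finitePresentation_of_finite R N
  obtain ⟨k, h₂, h₃, hg⟩ := Module.Flat.exists_factorization_of_finitePresentation g
  let lam : Fin k → Module.Dual R N := fun i => Finsupp.lapply i ∘ₗ h₂
  let h₂' : Module.Dual R (Module.Dual R N) →ₗ[R] (Fin k →₀ R) :=
    (Finsupp.linearEquivFunOnFinite R R (Fin k)).symm.toLinearMap ∘ₗ
      LinearMap.pi (fun i => LinearMap.applyₗ (lam i))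
  refine ⟨h₃ ∘ₗ h₂', ?_⟩
  rw [hg, LinearMap.comp_assoc]
  congr 1
  apply LinearMap.ext
  intro n
  apply Finsupp.ext
  intro i
  simp [h₂', lam]

/-- Uniqueness in the extension principle. -/
theorem eq_zero_of_comp_eval_eq_zero (hgl : GlDimLE2 R)
    (h : Module.Dual R (Module.Dual R N) →ₗ[R] Q) (h0 : h ∘ₗ Module.Dual.eval R N = 0) : h = 0 := by
  obtain ⟨hfin, hproj⟩ := dual_finite_projective hgl N
  obtain ⟨hfin2, hproj2⟩ := dual_finite_projective hgl (Module.Dual R N)
  let S : Submodule R (Module.Dual R (Module.Dual R N)) := LinearMap.range (Module.Dual.eval R N)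
  have hle : S ≤ LinearMap.ker h := by
    rintro _ ⟨n, rfl⟩
    exact LinearMap.congr_fun h0 n
  let hbar : (Module.Dual R (Module.Dual R N) ⧸ S) →ₗ[R] Q := S.liftQ h hle
  haveI : Module.Finite R (Module.Dual R (Module.Dual R N) ⧸ S) := inferInstance
  haveI : Module.FinitePresentation R (Module.Dual R (Module.Dual R N) ⧸ S) :=
    Module.finitePresentation_of_finite R _
  obtain ⟨k, a, y, hya⟩ := Module.Flat.exists_factorization_of_finitePresentation hbar
  have ha : a = 0 := by
    apply LinearMap.ext
    intro z
    apply Finsupp.ext
    intro i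
    obtain ⟨ξ, rfl⟩ := S.mkQ_surjective z
    -- the functional `μ = (a ∘ mkQ)_i` on `N**` vanishes on `N`, hence is zero
    let μ : Module.Dual R (Module.Dual R (Module.Dual R N)) := Finsupp.lapply i ∘ₗ a ∘ₗ S.mkQ
    obtain ⟨lam, hlam⟩ := (Module.bijective_dual_eval R (Module.Dual R N)).2 μ
    have hlam0 : lam = 0 := by
      apply LinearMap.ext
      intro n
      have h1 : μ (Module.Dual.eval R N n) = lam n := by
        rw [← hlam]
        rfl
      rw [← h1]
      change (a (S.mkQ (Module.Dual.eval R N n))) i = 0
      have : S.mkQ (Module.Dual.eval R N n) = 0 := by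
        rw [Submodule.mkQ_apply, Submodule.Quotient.mk_eq_zero]
        exact ⟨n, rfl⟩
      rw [this, map_zero]
      rfl
    have hμ : μ = 0 := by rw [← hlam, hlam0, map_zero]
    have := LinearMap.congr_fun hμ ξ
    exact this
  have hbar0 : hbar = 0 := by rw [hya, ha, LinearMap.comp_zero]
  apply LinearMap.ext
  intro ξ
  have := LinearMap.congr_fun hbar0 (S.mkQ ξ)
  simpa [hbar] using this

/-- The extension principle. -/
theorem ext_of_comp_eval_eq (hgl : GlDimLE2 R)
    {h h' : Module.Dual R (Module.Dual R N) →ₗ[R] Q}
    (hh : h ∘ₗ Module.Dual.eval R N = h' ∘ₗ Module.Dual.eval R N) : h = h' := by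
  rw [← sub_eq_zero]
  apply eq_zero_of_comp_eval_eq_zero N hgl
  rw [LinearMap.sub_comp, hh, sub_self]

end Ext

end Groth.Agent.Lib.Helper25.ResProp
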