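import Mathlib
import Groth.Agent.Lib.Helper25GrNat
import Groth.Agent.Lib.Helper25GrAlgIndep
import Groth.Agent.Lib.Helper5FGDim

/-!
# Dimension of the Segre product of two graded rings over a field (helper25)
-/

noncomputable section

namespace Groth.Agent.Lib.Helper25.SegreDim

open DirectSum MvPolynomial TensorProduct Groth.Agent.Lib.Helper25.GrDim
  Groth.Agent.Lib.Helper25.GrHsop Groth.Agent.Lib.Helper25.GrNat

universe u

section Mono

/-- a monomial substitution with injective exponent map is injective -/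
theorem aeval_monomial_injective {σ τ : Type*} {k : Type*} [CommSemiring k] (v : σ → (τ →₀ ℕ))
    (hL : Function.Injective (Finsupp.linearCombination ℕ v)) :
    Function.Injective (aeval (fun z => monomial (v z) (1 : k)) :
      MvPolynomial σ k → MvPolynomial τ k) := by
  have h : (aeval (fun z => monomial (v z) (1 : k)) : MvPolynomial σ k →ₐ[k] MvPolynomial τ k) =
      AddMonoidAlgebra.mapDomainAlgHom k k (Finsupp.linearCombination ℕ v).toAddMonoidHom := by
    apply MvPolynomial.algHom_ext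
    intro z
    rw [aeval_X]
    simp [MvPolynomial, X, monomial]
  rw [h]
  exact AddMonoidAlgebra.mapDomain_injective hL

/-- exponent vectors of the Segre monomials `x_i y_0`, `x_0 y_{j+1}` -/
def segV (r' s' : ℕ) : (Fin (r' + 1) ⊕ Fin s') → ((Fin (r' + 1) ⊕ Fin (s' + 1)) →₀ ℕ)
  | Sum.inl i => Finsupp.single (Sum.inl i) 1 + Finsupp.single (Sum.inr 0) 1
  | Sum.inr j => Finsupp.single (Sum.inl 0) 1 + Finsupp.single (Sum.inr j.succ) 1

theorem segV_lc_apply_inr (r' s' : ℕ) (γ : (Fin (r' + 1) ⊕ Fin s') →₀ ℕ) (j : Fin s') :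
    Finsupp.linearCombination ℕ (segV r' s') γ (Sum.inr j.succ) = γ (Sum.inr j) := by
  classical
  rw [Finsupp.linearCombination_apply, Finsupp.sum_fintype _ _ (fun i => by simp)]
  rw [Fintype.sum_sum_type]
  simp only [segV, Finsupp.coe_finsetSum, Finsupp.coe_smul, Finsupp.coe_add, Finset.sum_apply,
    Pi.smul_apply, Pi.add_apply, smul_eq_mul]
  simp [Finsupp.single_apply, Fin.succ_ne_zero]

theorem segV_lc_apply_inl (r' s' : ℕ) (γ : (Fin (r' + 1) ⊕ Fin s') →₀ ℕ) (i : Fin (r' + 1)) :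
    Finsupp.linearCombination ℕ (segV r' s') γ (Sum.inl i) =
      γ (Sum.inl i) + if i = 0 then ∑ j, γ (Sum.inr j) else 0 := by
  classical
  rw [Finsupp.linearCombination_apply, Finsupp.sum_fintype _ _ (fun i => by simp)]
  rw [Fintype.sum_sum_type]
  simp only [segV, Finsupp.coe_finsetSum, Finsupp.coe_smul, Finsupp.coe_add, Finset.sum_apply,
    Pi.smul_apply, Pi.add_apply, smul_eq_mul]
  simp [Finsupp.single_apply, eq_comm]

theorem segV_injective (r' s' : ℕ) :
    Function.Injective (Finsupp.linearCombination ℕ (segV r' s')) := by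
  intro γ γ' h
  have hr : ∀ j, γ (Sum.inr j) = γ' (Sum.inr j) := by
    intro j
    have := DFunLike.congr_fun h (Sum.inr j.succ)
    rwa [segV_lc_apply_inr, segV_lc_apply_inr] at this
  ext z
  rcases z with i | j
  · have := DFunLike.congr_fun h (Sum.inl i)
    rw [segV_lc_apply_inl, segV_lc_apply_inl] at this
    simp only [hr] at this
    exact Nat.add_right_cancel this
  · exact hr j

theorem monomial_pair {σ : Type*} {k : Type*} [CommSemiring k] (a b : σ) :
    monomial (Finsupp.single a 1 + Finsupp.single b 1) (1 : k) = X a * X b := by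
  rw [X, X, monomial_mul, mul_one]

/-- algebraically independent families in the two factors give an algebraically independent family
in the tensor product -/
theorem tensor_aeval_injective {k : Type*} [Field k] {R S : Type*} [CommRing R] [Algebra k R]
    [CommRing S] [Algebra k S] {σ τ : Type*} (x : σ → R) (y : τ → S)
    (hx : AlgebraicIndependent k x) (hy : AlgebraicIndependent k y) :
    Function.Injective (aeval (Sum.elim (fun i => x i ⊗ₜ[k] (1 : S)) (fun j => (1 : R) ⊗ₜ[k] y j)) :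
      MvPolynomial (σ ⊕ τ) k → R ⊗[k] S) := by
  have h : (aeval (Sum.elim (fun i => x i ⊗ₜ[k] (1 : S)) (fun j => (1 : R) ⊗ₜ[k] y j)) :
      MvPolynomial (σ ⊕ τ) k →ₐ[k] R ⊗[k] S) =
      (Algebra.TensorProduct.map (aeval x) (aeval y)).comp
        (tensorEquivSum k σ τ k).symm.toAlgHom := by
    apply MvPolynomial.algHom_ext
    rintro (i | j)
    · have : (tensorEquivSum k σ τ k).symm (X (Sum.inl i)) = X i ⊗ₜ 1 := by
        rw [AlgEquiv.symm_apply_eq, tensorEquivSum_X_tmul_one]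
      simp [this]
    · have : (tensorEquivSum k σ τ k).symm (X (Sum.inr j)) = 1 ⊗ₜ X j := by
        rw [AlgEquiv.symm_apply_eq, tensorEquivSum_one_tmul_X]
      simp [this]
  rw [h]
  have h2 : Function.Injective (Algebra.TensorProduct.map (aeval x : MvPolynomial σ k →ₐ[k] R)
      (aeval y : MvPolynomial τ k →ₐ[k] S)) :=
    TensorProduct.map_injective_of_flat_flat (aeval x : MvPolynomial σ k →ₐ[k] R).toLinearMap
        (aeval y : MvPolynomial τ k →ₐ[k] S).toLinearMap hx hy
  intro a b hab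
  exact (tensorEquivSum k σ τ k).symm.injective (h2 hab)

/-- the `r + s - 1` elements `x_i ⊗ y_0`, `x_0 ⊗ y_{j+1}` are algebraically independent -/
theorem segre_family_injective {k : Type*} [Field k] {R S : Type*} [CommRing R] [Algebra k R]
    [CommRing S] [Algebra k S] (r' s' : ℕ) (x : Fin (r' + 1) → R) (y : Fin (s' + 1) → S)
    (hx : AlgebraicIndependent k x) (hy : AlgebraicIndependent k y) :
    Function.Injective (aeval (Sum.elim (fun i => x i ⊗ₜ[k] y 0) (fun j => x 0 ⊗ₜ[k] y j.succ)) :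
      MvPolynomial (Fin (r' + 1) ⊕ Fin s') k → R ⊗[k] S) := by
  have h : (aeval (Sum.elim (fun i => x i ⊗ₜ[k] y 0) (fun j => x 0 ⊗ₜ[k] y j.succ)) :
      MvPolynomial (Fin (r' + 1) ⊕ Fin s') k →ₐ[k] R ⊗[k] S) =
     (aeval (Sum.elim (fun i => x i ⊗ₜ[k] (1 : S)) (fun j => (1 : R) ⊗ₜ[k] y j))).comp
      (aeval (fun z => monomial (segV r' s' z) (1 : k))) := by
    apply MvPolynomial.algHom_ext
    rintro (i | j)
    · simp [segV, monomial_pair]
    · simp [segV, monomial_pair]
  rw [h]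
  intro a b hab
  exact aeval_monomial_injective _ (segV_injective r' s') (tensor_aeval_injective x y hx hy hab)

end Mono

section Exchange

/-- from the relations `t_ij t_kl = t_il t_kj`, the `t_ij` lie in the radical of the ideal generated
by the antidiagonal sums -/
theorem mem_of_exchange {T : Type*} [CommRing T] {r s : ℕ} (t : Fin r → Fin s → T)
    (hexch : ∀ i j k l, t i j * t k l = t i l * t k j) (W : Ideal T) (hW : W.IsRadical)
    (hw : ∀ m : ℕ, (∑ p : Fin r × Fin s, if (p.1 : ℕ) + (p.2 : ℕ) = m then t p.1 p.2 else 0) ∈ W) :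
    ∀ i j, t i j ∈ W := by
  classical
  have key : ∀ m : ℕ, ∀ (i : Fin r) (j : Fin s), (i : ℕ) + (j : ℕ) = m → t i j ∈ W := by
    intro m
    induction m using Nat.strong_induction_on with
    | _ m ih =>
      intro i j hij
      have h1 : t i j * (∑ p : Fin r × Fin s, if (p.1 : ℕ) + (p.2 : ℕ) = m then t p.1 p.2 else 0)
          ∈ W := W.mul_mem_left _ (hw m)
      rw [Finset.mul_sum] at h1
      rw [← Finset.add_sum_erase Finset.univ _ (Finset.mem_univ (i, j))] at h1
      have h2 : (∑ p ∈ (Finset.univ : Finset (Fin r × Fin s)).erase (i, j),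
          t i j * (if (p.1 : ℕ) + (p.2 : ℕ) = m then t p.1 p.2 else 0)) ∈ W := by
        apply Ideal.sum_mem
        rintro ⟨k, l⟩ hp
        rw [Finset.mem_erase] at hp
        have hne : (k, l) ≠ (i, j) := hp.1
        by_cases hkl : (k : ℕ) + (l : ℕ) = m
        · simp only [hkl, if_true]
          have hki : k ≠ i := by
            intro h
            subst h
            apply hne
            have : (l : ℕ) = j := by omega
            rw [Fin.ext this]
          rw [hexch i j k l]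
          rcases lt_or_gt_of_ne hki with hlt | hgt
          · have : t k j ∈ W := ih ((k : ℕ) + (j : ℕ)) (by
              have : (k : ℕ) < i := hlt
              omega) k j rfl
            exact W.mul_mem_left _ this
          · have : t i l ∈ W := ih ((i : ℕ) + (l : ℕ)) (by
              have : (i : ℕ) < k := hgt
              omega) i l rfl
            exact W.mul_mem_right _ this
        · simp only [hkl, if_false, mul_zero]
          exact W.zero_mem
      have h3 := (Ideal.add_mem_iff_left W h2).mp h1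
      simp only [hij, if_true] at h3
      apply hW
      exact ⟨2, by rw [pow_two]; exact h3⟩
  intro i j
  exact key _ i j rfl

end Exchange

section Graded

variable {K : Type u} [Field K] {A : Type u} [CommRing A] [Algebra K A]

/-- coefficients of a homogeneous element in terms of homogeneous generators can be chosen
homogeneous -/
theorem exists_homogeneous_coeffs (𝒜 : ℤ → Submodule K A) [GradedAlgebra 𝒜] {d : ℕ}
    (x : Fin d → A) (D M : ℤ) (hx : ∀ i, x i ∈ 𝒜 D) (a : A) (ha : a ∈ 𝒜 M)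
    (hspan : a ∈ Ideal.span (Set.range x)) :
    ∃ a' : Fin d → A, (∀ i, a' i ∈ 𝒜 (M - D)) ∧ a = ∑ i, x i * a' i := by
  classical
  obtain ⟨c, hc⟩ := (Ideal.mem_span_range_iff_exists_fun).mp hspan
  refine ⟨fun i => (decompose 𝒜 (c i) (M - D) : A), fun i => SetLike.coe_mem _, ?_⟩
  have h1 : (decompose 𝒜 a M : A) = a := decompose_of_mem_same 𝒜 ha
  calc a = (decompose 𝒜 a M : A) := h1.symm
    _ = (decompose 𝒜 (∑ i, c i * x i) M : A) := by rw [hc]
    _ = ∑ i, (decompose 𝒜 (c i * x i) M : A) := by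
      rw [decompose_sum, DFinsupp.finsetSum_apply, AddSubmonoidClass.coe_finsetSum]
    _ = ∑ i, x i * (decompose 𝒜 (c i) (M - D) : A) := by
      apply Finset.sum_congr rfl
      intro i _
      have h2 : M = D + (M - D) := by ring
      conv_lhs => rw [h2, mul_comm]
      rw [coe_decompose_mul_add_of_left_mem 𝒜 (hx i)]

/-- a Noetherian graded ring with `A₀ = K` is of finite type over `K` -/
theorem finiteType_of_h0 (𝒜 : ℕ → Submodule K A) [GradedAlgebra 𝒜]
    (h0 : ∀ a ∈ 𝒜 0, ∃ c : K, algebraMap K A c = a) [IsNoetherianRing A] :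
    Algebra.FiniteType K A := by
  haveI : @IsScalarTower K (𝒜 0) A Algebra.toSMul Algebra.toSMul Algebra.toSMul :=
    IsScalarTower.of_algebraMap_eq (fun c => rfl)
  have h1 : Algebra.FiniteType (𝒜 0) A :=
    Groth.Agent.Lib.Helper14.finiteType_of_isNoetherianRing_graded 𝒜
  have h2 : Algebra.FiniteType K (𝒜 0) := by
    apply Algebra.FiniteType.of_surjective (Algebra.ofId K (𝒜 0))
    intro a
    obtain ⟨c, hc⟩ := h0 a a.2
    exact ⟨c, Subtype.ext hc⟩
  exact Algebra.FiniteType.trans h2 h1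

/-- homogeneous systems of parameters of a prescribed common degree -/
theorem exists_hsop_int (𝒜 : ℤ → Submodule K A) [GradedAlgebra 𝒜]
    (hpos : ∀ n : ℤ, n < 0 → 𝒜 n = ⊥) (h0 : 𝒜 0 = Submodule.span K {(1 : A)})
    [Algebra.FiniteType K A] (d : ℕ) (hd : ringKrullDim A = (d : WithBot ℕ∞)) :
    ∃ D : ℕ, 0 < D ∧ ∀ N : ℕ, 0 < N → ∃ x : Fin d → A, (∀ i, x i ∈ 𝒜 ((D * N : ℕ) : ℤ)) ∧
      (∀ n : ℤ, 0 < n → ∀ a ∈ 𝒜 n, a ∈ (Ideal.span (Set.range x)).radical) ∧
      AlgebraicIndependent K x := by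
  classical
  let _ : GradedAlgebra (natGrading 𝒜) := natGradedAlgebra 𝒜 hpos
  have h0' := h0_of_span 𝒜 h0
  have : Nontrivial A := by
    by_contra h
    rw [not_nontrivial_iff_subsingleton] at h
    rw [ringKrullDim_eq_bot_of_subsingleton] at hd
    exact WithBot.bot_ne_coe hd
  have : IsNoetherianRing A := Algebra.FiniteType.isNoetherianRing K A
  have hdim : ringKrullDim (A ⧸ (⊥ : Ideal A)) ≤ (d : WithBot ℕ∞) := by
    rw [ringKrullDim_eq_of_ringEquiv (RingEquiv.quotientBot A), hd]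
  obtain ⟨D, hD, hN⟩ := exists_hsop_same_degree (natGrading 𝒜) h0' d ⊥
    (Ideal.IsHomogeneous.bot _) bot_ne_top hdim
  refine ⟨D, hD, fun N hNpos => ?_⟩
  obtain ⟨x, hx, hrad⟩ := hN N hNpos
  rw [bot_sup_eq] at hrad
  refine ⟨x, hx, ?_, ?_⟩
  · intro n hn a ha
    apply hrad
    have hn' : n = ((n.toNat : ℕ) : ℤ) := (Int.toNat_of_nonneg hn.le).symm
    have ha' : a ∈ natGrading 𝒜 n.toNat := by rw [natGrading_apply, ← hn']; exact ha
    rw [mem_irr_iff, decompose_of_mem_ne (natGrading 𝒜) ha' (by omega)]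
  · exact algebraicIndependent_of_hsop (natGrading 𝒜) h0' (Nat.mul_pos hD hNpos) x hx hd hrad

end Graded

section Main

open Groth.Agent.Lib.Helper5.FGDim

/-- the Segre product of graded rings of dimensions `r' + 1` and `s' + 1` has dimension
`r' + s' + 1` -/
theorem segre_dim (k : Type u) [Field k] (R : Type u) [CommRing R] [Algebra k R]
    (𝒜 : ℤ → Submodule k R) [GradedAlgebra 𝒜] (hposR : ∀ n : ℤ, n < 0 → 𝒜 n = ⊥)
    (h0R : 𝒜 0 = Submodule.span k {(1 : R)}) [Algebra.FiniteType k R]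
    (S : Type u) [CommRing S] [Algebra k S] (ℬ : ℤ → Submodule k S) [GradedAlgebra ℬ]
    (hposS : ∀ n : ℤ, n < 0 → ℬ n = ⊥) (h0S : ℬ 0 = Submodule.span k {(1 : S)})
    [Algebra.FiniteType k S]
    (T : Type u) [CommRing T] [Algebra k T] (𝒯 : ℤ → Submodule k T) [GradedAlgebra 𝒯]
    [IsNoetherianRing T]
    (ψ : T →ₐ[k] R ⊗[k] S) (hψ : Function.Injective ψ)
    (hdegT : ∀ n : ℤ, (𝒯 n).map ψ.toLinearMap =
      Submodule.span k {x : R ⊗[k] S | ∃ a ∈ 𝒜 n, ∃ b ∈ ℬ n, x = a ⊗ₜ[k] b})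
    (r' s' : ℕ) (hr : ringKrullDim R = ((r' + 1 : ℕ) : WithBot ℕ∞))
    (hs : ringKrullDim S = ((s' + 1 : ℕ) : WithBot ℕ∞)) :
    ringKrullDim T = ((r' + s' + 1 : ℕ) : WithBot ℕ∞) := by
  classical
  -- lifting elementary tensors
  have hlift : ∀ (n : ℤ) (a : R) (b : S), a ∈ 𝒜 n → b ∈ ℬ n → ∃ τ ∈ 𝒯 n, ψ τ = a ⊗ₜ[k] b := by
    intro n a b ha hb
    have h1 : a ⊗ₜ[k] b ∈ (𝒯 n).map ψ.toLinearMap := by
      rw [hdegT n]
      exact Submodule.subset_span ⟨a, ha, b, hb, rfl⟩
    obtain ⟨τ, hτ, hτ'⟩ := h1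
    exact ⟨τ, hτ, hτ'⟩
  obtain ⟨DR, hDR, hR⟩ := exists_hsop_int 𝒜 hposR h0R (r' + 1) hr
  obtain ⟨DS, hDS, hS⟩ := exists_hsop_int ℬ hposS h0S (s' + 1) hs
  obtain ⟨x, hxdeg, hxrad, hxai⟩ := hR DS hDS
  obtain ⟨y, hydeg, hyrad, hyai⟩ := hS DR hDR
  have hydeg' : ∀ j, y j ∈ ℬ ((DR * DS : ℕ) : ℤ) := by
    intro j
    have := hydeg j
    rwa [Nat.mul_comm] at this
  have hDpos : 0 < DR * DS := Nat.mul_pos hDR hDS
  -- the elements `t_ij`
  choose t htdeg htψ using fun (i : Fin (r' + 1)) (j : Fin (s' + 1)) =>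
    hlift ((DR * DS : ℕ) : ℤ) (x i) (y j) (hxdeg i) (hydeg' j)
  have hexch : ∀ i j k l, t i j * t k l = t i l * t k j := by
    intro i j k l
    apply hψ
    rw [map_mul, map_mul, htψ, htψ, htψ, htψ, Algebra.TensorProduct.tmul_mul_tmul,
      Algebra.TensorProduct.tmul_mul_tmul, mul_comm (y j)]
  -- the algebraically independent family
  let f : MvPolynomial (Fin (r' + 1) ⊕ Fin s') k →ₐ[k] T :=
    aeval (Sum.elim (fun i => t i 0) (fun j => t 0 j.succ))
  have hf : Function.Injective f := by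
    have hcomp : ψ.comp f =
        aeval (Sum.elim (fun i => x i ⊗ₜ[k] y 0) (fun j => x 0 ⊗ₜ[k] y j.succ)) := by
      apply MvPolynomial.algHom_ext
      rintro (i | j)
      · simp [f, htψ]
      · simp [f, htψ]
    intro a b hab
    apply segre_family_injective r' s' x y hxai hyai
    rw [← hcomp, AlgHom.comp_apply, AlgHom.comp_apply, hab]
  have hTnt : Nontrivial T := hf.nontrivial
  -- the `ℕ`-grading of `T`
  have hposT : ∀ n : ℤ, n < 0 → 𝒯 n = ⊥ := by
    intro n hn
    rw [eq_bot_iff]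
    intro τ hτ
    have h1 : ψ τ ∈ (𝒯 n).map ψ.toLinearMap := Submodule.mem_map_of_mem hτ
    rw [hdegT n] at h1
    have h2 : Submodule.span k {x : R ⊗[k] S | ∃ a ∈ 𝒜 n, ∃ b ∈ ℬ n, x = a ⊗ₜ[k] b} ≤ ⊥ := by
      rw [Submodule.span_le]
      rintro _ ⟨a, ha, b, hb, rfl⟩
      rw [hposR n hn, Submodule.mem_bot] at ha
      rw [ha, TensorProduct.zero_tmul]
      exact Submodule.zero_mem _
    have h3 := h2 h1
    rw [Submodule.mem_bot] at h3 ⊢
    exact hψ (by rw [h3, map_zero])
  have h0T : ∀ τ ∈ 𝒯 0, ∃ c : k, algebraMap k T c = τ := by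
    intro τ hτ
    have h1 : ψ τ ∈ (𝒯 0).map ψ.toLinearMap := Submodule.mem_map_of_mem hτ
    rw [hdegT 0] at h1
    have h2 : Submodule.span k {x : R ⊗[k] S | ∃ a ∈ 𝒜 0, ∃ b ∈ ℬ 0, x = a ⊗ₜ[k] b} ≤
        Submodule.span k {(1 : R ⊗[k] S)} := by
      rw [Submodule.span_le]
      rintro _ ⟨a, ha, b, hb, rfl⟩
      rw [h0R, Submodule.mem_span_singleton] at ha
      rw [h0S, Submodule.mem_span_singleton] at hb
      obtain ⟨c, rfl⟩ := ha
      obtain ⟨c', rfl⟩ := hb
      rw [SetLike.mem_coe, Submodule.mem_span_singleton]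
      exact ⟨c * c', by rw [TensorProduct.smul_tmul_smul]; rfl⟩
    obtain ⟨c, hc⟩ := Submodule.mem_span_singleton.mp (h2 h1)
    refine ⟨c, hψ ?_⟩
    rw [← hc, AlgHom.commutes, Algebra.algebraMap_eq_smul_one]
  letI : GradedAlgebra (natGrading 𝒯) := natGradedAlgebra 𝒯 hposT
  have h0T' : ∀ a ∈ natGrading 𝒯 0, ∃ c : k, algebraMap k T c = a := by
    intro a ha
    apply h0T a
    have : natGrading 𝒯 0 = 𝒯 0 := by rw [natGrading_apply, Nat.cast_zero]
    rwa [this] at ha
  have hTft : Algebra.FiniteType k T := finiteType_of_h0 (natGrading 𝒯) h0T'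
  -- the lower bound
  have hlow : ((r' + s' + 1 : ℕ) : WithBot ℕ∞) ≤ ringKrullDim T := by
    let e : Fin (r' + 1 + s') ≃ Fin (r' + 1) ⊕ Fin s' := finSumFinEquiv.symm
    have h1 := natCast_le_ringKrullDim_of_injective k T (r' + 1 + s') (f.comp (rename e))
      (hf.comp (rename_injective e e.injective))
    have h2 : r' + 1 + s' = r' + s' + 1 := by omega
    rw [h2] at h1
    exact h1
  -- the upper bound
  let w : ℕ → T := fun m => ∑ p : Fin (r' + 1) × Fin (s' + 1),
    if (p.1 : ℕ) + (p.2 : ℕ) = m then t p.1 p.2 else 0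
  let sw : Finset T := (Finset.range (r' + s' + 1)).image w
  set W : Ideal T := (Ideal.span (sw : Set T)).radical with hW
  have hWrad : W.IsRadical := Ideal.radical_isRadical _
  have hwW : ∀ m, w m ∈ W := by
    intro m
    by_cases hm : m < r' + s' + 1
    · exact Ideal.le_radical (Ideal.subset_span (Finset.mem_coe.mpr
        (Finset.mem_image_of_mem w (Finset.mem_range.mpr hm))))
    · have : w m = 0 := by
        apply Finset.sum_eq_zero
        rintro ⟨i, j⟩ _
        rw [if_neg]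
        have := i.2
        have := j.2
        simp only
        omega
      rw [this]
      exact W.zero_mem
  have htW : ∀ i j, t i j ∈ W := mem_of_exchange t hexch W hWrad hwW
  -- lifts of elementary tensors of positive degree lie in `W`
  have hJt : ∀ (n : ℤ), 0 < n → ∀ (a : R) (b : S), a ∈ 𝒜 n → b ∈ ℬ n → ∀ τ : T,
      ψ τ = a ⊗ₜ[k] b → τ ∈ W := by
    intro n hn a b ha hb τ hτ
    obtain ⟨N1, hN1⟩ := hxrad n hn a ha
    obtain ⟨N2, hN2⟩ := hyrad n hn b hb
    have haN : a ^ (N1 + N2) ∈ Ideal.span (Set.range x) := by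
      rw [pow_add]
      exact Ideal.mul_mem_right _ _ hN1
    have hbN : b ^ (N1 + N2) ∈ Ideal.span (Set.range y) := by
      rw [pow_add]
      exact Ideal.mul_mem_left _ _ hN2
    have haNdeg : a ^ (N1 + N2) ∈ 𝒜 ((N1 + N2) • n) := SetLike.pow_mem_graded (N1 + N2) ha
    have hbNdeg : b ^ (N1 + N2) ∈ ℬ ((N1 + N2) • n) := SetLike.pow_mem_graded (N1 + N2) hb
    obtain ⟨a', ha'deg, ha'⟩ := exists_homogeneous_coeffs 𝒜 x ((DR * DS : ℕ) : ℤ)
      ((N1 + N2) • n) hxdeg _ haNdeg haN
    obtain ⟨b', hb'deg, hb'⟩ := exists_homogeneous_coeffs ℬ y ((DR * DS : ℕ) : ℤ)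
      ((N1 + N2) • n) hydeg' _ hbNdeg hbN
    choose u hudeg huψ using fun i j =>
      hlift ((N1 + N2) • n - ((DR * DS : ℕ) : ℤ)) (a' i) (b' j) (ha'deg i) (hb'deg j)
    have hτN : τ ^ (N1 + N2) = ∑ i, ∑ j, t i j * u i j := by
      apply hψ
      rw [map_pow, hτ, Algebra.TensorProduct.tmul_pow, ha', hb', map_sum, TensorProduct.sum_tmul]
      apply Finset.sum_congr rfl
      intro i _
      rw [map_sum, TensorProduct.tmul_sum]
      apply Finset.sum_congr rfl
      intro j _
      rw [map_mul, htψ, huψ, Algebra.TensorProduct.tmul_mul_tmul]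
    have hmem : τ ^ (N1 + N2) ∈ W := by
      rw [hτN]
      exact Ideal.sum_mem _ (fun i _ => Ideal.sum_mem _ (fun j _ => W.mul_mem_right _ (htW i j)))
    exact hWrad ⟨N1 + N2, hmem⟩
  have hposW : ∀ n : ℕ, 0 < n → ∀ τ ∈ natGrading 𝒯 n, τ ∈ W := by
    intro n hn τ hτ
    have hn' : (0 : ℤ) < (n : ℤ) := by exact_mod_cast hn
    have h1 : ψ τ ∈ (𝒯 (n : ℤ)).map ψ.toLinearMap := Submodule.mem_map_of_mem hτ
    rw [hdegT] at h1
    have h2 : ∃ τ' ∈ W, ψ τ' = ψ τ := by
      refine Submodule.span_induction (p := fun z _ => ∃ τ' ∈ W, ψ τ' = z) ?_ ?_ ?_ ?_ h1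
      · rintro _ ⟨a, ha, b, hb, rfl⟩
        obtain ⟨τ', -, hτ'⟩ := hlift n a b ha hb
        exact ⟨τ', hJt n hn' a b ha hb τ' hτ', hτ'⟩
      · exact ⟨0, W.zero_mem, map_zero _⟩
      · rintro z1 z2 - - ⟨τ1, h1, rfl⟩ ⟨τ2, h2, rfl⟩
        exact ⟨τ1 + τ2, W.add_mem h1 h2, map_add _ _ _⟩
      · rintro c z - ⟨τ1, h1, rfl⟩
        exact ⟨c • τ1, Submodule.smul_of_tower_mem W c h1, map_smul _ _ _⟩
    obtain ⟨τ', hτ'W, hτ'⟩ := h2
    rw [← hψ hτ']
    exact hτ'W
  have hirrW : irr (natGrading 𝒯) ≤ W := irr_le_of_forall_pos _ W hposW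
  have hwirr : Ideal.span (sw : Set T) ≤ irr (natGrading 𝒯) := by
    rw [Ideal.span_le]
    intro z hz
    obtain ⟨m, -, rfl⟩ := Finset.mem_image.mp (Finset.mem_coe.mp hz)
    apply Ideal.sum_mem
    rintro ⟨i, j⟩ _
    split_ifs
    · show t i j ∈ irr (natGrading 𝒯)
      have h1 : t i j ∈ natGrading 𝒯 (DR * DS) := htdeg i j
      rw [mem_irr_iff, decompose_of_mem_ne (natGrading 𝒯) h1 hDpos.ne']
    · exact Ideal.zero_mem _
  have hmax := irr_isMaximal (natGrading 𝒯) h0T'
  have hmin : irr (natGrading 𝒯) ∈ (Ideal.span (sw : Set T)).minimalPrimes := by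
    refine ⟨⟨hmax.isPrime, hwirr⟩, ?_⟩
    rintro q ⟨hq, hJq⟩ _
    exact hirrW.trans (hq.radical_le_iff.mpr hJq)
  have hht := Ideal.height_le_card_of_mem_minimalPrimes_span_finset hmin
  have hcard : sw.card ≤ r' + s' + 1 := by
    have := Finset.card_image_le (s := Finset.range (r' + s' + 1)) (f := w)
    simpa using this
  have hup := ringKrullDim_le_height_irr (natGrading 𝒯) h0T'
  refine le_antisymm (hup.trans ?_) hlow
  have h5 : (irr (natGrading 𝒯)).height ≤ ((r' + s' + 1 : ℕ) : ℕ∞) :=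
    hht.trans (by exact_mod_cast hcard)
  exact WithBot.coe_le_coe.mpr h5

end Main

end Groth.Agent.Lib.Helper25.SegreDim
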