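import Groth.Agent.Lib.Helper25UnipPts
import Groth.Agent.Lib.Helper25Coeff
import Groth.Agent.Lib.Helper25FrobSplit
import Groth.Prelude.Def_SGA3

/-!
# Helper25SepHopf: separable elements of a Hopf algebra and the largest cocommutative Hopf
subalgebra (S18329)

`idempotent_mem_idemSpan_tensor` (idempotents of `R ⊗ R` for `R` reduced f.g. over alg. closed `k`),
`isSeparable_of_isIdempotentElem`, `isSeparable_map`, `mem_span_idempotents_of_isSeparable`
(Lagrange idempotents), `exists_isReduced_adjoin_pow` (Frobenius-power trick),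
`comul_idempotent_mem`, `isGreatest_inf`.
-/

set_option autoImplicit false
set_option linter.style.haveILetI false
universe u v w

open TensorProduct HopfRep Polynomial

namespace Groth.Agent.Lib.Helper25.SepHopf


section IdemTensor

variable {k : Type u} [Field k] [IsAlgClosed k] {R : Type v} [CommRing R] [Algebra k R]
  [Algebra.FiniteType k R] [IsReduced R]

/-- the span of the idempotents -/
def idemSpan (k : Type u) [Field k] (R : Type v) [CommRing R] [Algebra k R] : Submodule k R :=
  Submodule.span k {e : R | IsIdempotentElem e}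

omit [IsAlgClosed k] [Algebra.FiniteType k R] [IsReduced R] in
theorem lslice_algHom_isIdempotentElem (x : R →ₐ[k] k) {E : R ⊗[k] R} (hE : IsIdempotentElem E) :
    IsIdempotentElem (lslice x.toLinearMap E) := by
  have h : ∀ z : R ⊗[k] R, lslice x.toLinearMap z =
      Algebra.TensorProduct.lid k R (Algebra.TensorProduct.map x (AlgHom.id k R) z) := by
    intro z
    induction z using TensorProduct.induction_on with
    | zero => simp
    | add a b ha hb => simp only [map_add, ha, hb]
    | tmul a b => simp
  rw [h]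
  exact (hE.map _).map _

omit [IsAlgClosed k] [Algebra.FiniteType k R] [IsReduced R] in
theorem slice_algHom_isIdempotentElem (x : R →ₐ[k] k) {E : R ⊗[k] R} (hE : IsIdempotentElem E) :
    IsIdempotentElem (slice R x.toLinearMap E) := by
  have h : ∀ z : R ⊗[k] R, slice R x.toLinearMap z =
      Algebra.TensorProduct.rid k k R (Algebra.TensorProduct.map (AlgHom.id k R) x z) := by
    intro z
    induction z using TensorProduct.induction_on with
    | zero => simp
    | add a b ha hb => simp only [map_add, ha, hb]
    | tmul a b => simp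
  rw [h]
  exact (hE.map _).map _

/-- An idempotent of `R ⊗ R` (`R` reduced of finite type over an algebraically closed field) lies in
`P ⊗ P`, `P` the span of the idempotents of `R`. -/
theorem idempotent_mem_idemSpan_tensor {E : R ⊗[k] R} (hE : IsIdempotentElem E) :
    E ∈ LinearMap.range (TensorProduct.map (idemSpan k R).subtype (idemSpan k R).subtype) := by
  rw [mem_range_map_subtype_iff]
  constructor
  · intro φ
    by_contra hnot
    obtain ⟨ψ, hψ, hPψ⟩ := Submodule.exists_le_ker_of_notMem hnot
    -- w = lslice ψ E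
    have hw : lslice ψ E ≠ 0 := by
      intro h0
      apply hψ
      rw [← apply_lslice, h0, map_zero]
    obtain ⟨x, hx⟩ : ∃ x : R →ₐ[k] k, x (lslice ψ E) ≠ 0 := by
      by_contra hall
      push Not at hall
      exact hw (eq_zero_of_forall_point_eq_zero (k := k) _ hall)
    apply hx
    rw [← AlgHom.toLinearMap_apply, apply_lslice]
    exact hPψ (Submodule.subset_span (slice_algHom_isIdempotentElem x hE))
  · intro l
    by_contra hnot
    obtain ⟨ψ, hψ, hPψ⟩ := Submodule.exists_le_ker_of_notMem hnot
    have hw : slice R ψ E ≠ 0 := by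
      intro h0
      apply hψ
      rw [apply_lslice, h0, map_zero]
    obtain ⟨x, hx⟩ : ∃ x : R →ₐ[k] k, x (slice R ψ E) ≠ 0 := by
      by_contra hall
      push Not at hall
      exact hw (eq_zero_of_forall_point_eq_zero (k := k) _ hall)
    apply hx
    rw [← AlgHom.toLinearMap_apply, ← apply_lslice]
    exact hPψ (Submodule.subset_span (lslice_algHom_isIdempotentElem x hE))

end IdemTensor



section SepIdem

variable {k : Type u} [Field k] {A : Type v} [CommRing A] [Algebra k A]

theorem isSeparable_of_isIdempotentElem [Nontrivial A] {e : A} (he : IsIdempotentElem e) :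
    IsSeparable k e := by
  have h1 : aeval e (X ^ 2 - X : k[X]) = 0 := by
    simp only [map_sub, map_pow, aeval_X]
    rw [pow_two, he.eq, sub_self]
  have h2 : (X ^ 2 - X : k[X]).Separable := by
    have : (X ^ 2 - X : k[X]) = (X - C 0) * (X - C 1) := by
      simp only [map_zero, sub_zero, map_one]; ring
    rw [this]
    refine Separable.mul (separable_X_sub_C) (separable_X_sub_C) ?_
    have : IsCoprime (X - C (0 : k)) (X - C (1 : k)) :=
      isCoprime_X_sub_C_of_isUnit_sub (by simp)
    exact this
  exact h2.of_dvd (minpoly.dvd k e h1)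

theorem isSeparable_map {B : Type w} [CommRing B] [Algebra k B] [Nontrivial B] (f : A →ₐ[k] B) {b : A}
    (hb : IsSeparable k b) : IsSeparable k (f b) := by
  have h1 : aeval (f b) (minpoly k b) = 0 := by
    rw [aeval_algHom_apply, minpoly.aeval, map_zero]
  exact hb.of_dvd (minpoly.dvd k (f b) h1)

/-- A separable element over an algebraically closed field is a linear combination of idempotents
which are polynomials in it. -/
theorem mem_span_idempotents_of_isSeparable [IsAlgClosed k] {b : A} (hb : IsSeparable k b) :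
    b ∈ Submodule.span k {e : A | IsIdempotentElem e ∧ e ∈ Algebra.adjoin k {b}} := by
  classical
  set f := minpoly k b with hf
  have hf0 : f ≠ 0 := hb.ne_zero
  have hint : IsIntegral k b := by
    by_contra h
    exact hf0 (minpoly.eq_zero h)
  have hmonic : f.Monic := minpoly.monic hint
  have hsplit : f.Splits := IsAlgClosed.splits f
  have hnodup : f.roots.Nodup := nodup_roots hb
  set s : Finset k := f.roots.toFinset with hs
  -- divisibility criterion
  have hdvd : ∀ g : k[X], (∀ μ ∈ s, g.eval μ = 0) → aeval b g = 0 := by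
    intro g hg
    by_cases hg0 : g = 0
    · rw [hg0, map_zero]
    have h1 : f.roots ≤ g.roots := by
      rw [Multiset.le_iff_subset hnodup]
      intro μ hμ
      rw [mem_roots hg0]
      exact hg μ (Multiset.mem_toFinset.mpr hμ)
    have h2 : (f.roots.map fun a => X - C a).prod ∣ g :=
      (Multiset.prod_X_sub_C_dvd_iff_le_roots hg0 _).mpr h1
    have h3 : f = (f.roots.map fun a => X - C a).prod := by
      have := hsplit.eq_prod_roots
      rw [hmonic.leadingCoeff, map_one, one_mul] at this
      exact this
    rw [← h3] at h2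
    obtain ⟨q, rfl⟩ := h2
    rw [map_mul, hf, minpoly.aeval, zero_mul]
  have hinj : Set.InjOn (id : k → k) (s : Set k) := fun _ _ _ _ h => h
  set e : k → A := fun μ => aeval b (Lagrange.basis s id μ) with he
  have hidem : ∀ μ ∈ s, IsIdempotentElem (e μ) := by
    intro μ hμ
    have := hdvd (Lagrange.basis s id μ * Lagrange.basis s id μ - Lagrange.basis s id μ) (by
      intro ν hν
      rw [eval_sub, eval_mul]
      by_cases hμν : μ = ν
      · subst hμν
        have := Lagrange.eval_basis_self (v := id) hinj hμ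
        simp only [id] at this
        rw [this]; ring
      · have := Lagrange.eval_basis_of_ne (v := id) hμν hν
        simp only [id] at this
        rw [this]; ring)
    rw [map_sub, map_mul, sub_eq_zero] at this
    exact this
  have hsum : b = ∑ μ ∈ s, μ • e μ := by
    have := hdvd (X - ∑ μ ∈ s, C μ * Lagrange.basis s id μ) (by
      intro ν hν
      rw [eval_sub, eval_X, eval_finsetSum, Finset.sum_eq_single ν]
      · have := Lagrange.eval_basis_self (v := id) hinj hν
        simp only [id] at this
        rw [eval_mul, eval_C, this]; ring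
      · intro μ _ hμν
        have := Lagrange.eval_basis_of_ne (v := id) hμν hν
        simp only [id] at this
        rw [eval_mul, this, mul_zero]
      · intro h; exact absurd hν h)
    rw [map_sub, aeval_X, map_sum, sub_eq_zero] at this
    rw [this]
    apply Finset.sum_congr rfl
    intro μ _
    rw [map_mul, aeval_C, Algebra.smul_def]
  have hmem : ∀ μ ∈ s, e μ ∈
      Submodule.span k {e : A | IsIdempotentElem e ∧ e ∈ Algebra.adjoin k {b}} := by
    intro μ hμ
    apply Submodule.subset_span
    exact ⟨hidem μ hμ, aeval_mem_adjoin_singleton _ _⟩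
  generalize Submodule.span k {e : A | IsIdempotentElem e ∧ e ∈ Algebra.adjoin k {b}} = T at hmem ⊢
  rw [hsum]
  exact Submodule.sum_mem _ (fun μ hμ => Submodule.smul_mem _ _ (hmem μ hμ))

end SepIdem



section FrobRed

variable {k : Type u} [Field k] [PerfectField k] (p : ℕ) [Fact p.Prime] [CharP k p]
  {A : Type v} [CommRing A] [Algebra k A] [CharP A p]

/-- For a finite subset `S` of a `k`-algebra of characteristic `p` (`k` perfect), the subalgebra
generated by the `p ^ n`-th powers of the elements of `S` is reduced for a suitable `n`. -/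
theorem exists_isReduced_adjoin_pow (S : Finset A) :
    ∃ n : ℕ, IsReduced (Algebra.adjoin k ((fun s : A => s ^ p ^ n) '' (S : Set A))) := by
  haveI : ExpChar k p := ExpChar.prime Fact.out
  haveI : PerfectRing k p := PerfectField.toPerfectRing p
  set C' : Subalgebra k A := Algebra.adjoin k (S : Set A) with hC'
  haveI : Algebra.FiniteType k C' :=
    (Subalgebra.fg_iff_finiteType C').mp ⟨S, rfl⟩
  haveI : IsNoetherianRing C' := Algebra.FiniteType.isNoetherianRing k C'
  obtain ⟨m, hm⟩ := IsNoetherianRing.isNilpotent_nilradical C'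
  have hmle : m ≤ p ^ m := (Nat.lt_pow_self (Fact.out : p.Prime).one_lt).le
  refine ⟨m, ?_⟩
  set R : Subalgebra k A := Algebra.adjoin k ((fun s : A => s ^ p ^ m) '' (S : Set A)) with hR
  have claim1 : ∀ c ∈ R, ∃ d ∈ C', d ^ p ^ m = c := by
    intro c hc
    induction hc using Algebra.adjoin_induction with
    | mem x hx =>
      obtain ⟨s, hs, rfl⟩ := hx
      exact ⟨s, Algebra.subset_adjoin hs, rfl⟩
    | algebraMap r =>
      obtain ⟨r', hr'⟩ := (bijective_iterateFrobenius k p m).2 r
      rw [iterateFrobenius_def] at hr'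
      exact ⟨algebraMap k A r', Subalgebra.algebraMap_mem _ _, by rw [← map_pow, hr']⟩
    | add x y _ _ hx hy =>
      obtain ⟨d, hd, rfl⟩ := hx
      obtain ⟨d', hd', rfl⟩ := hy
      exact ⟨d + d', Subalgebra.add_mem _ hd hd', add_pow_char_pow d d' p m⟩
    | mul x y _ _ hx hy =>
      obtain ⟨d, hd, rfl⟩ := hx
      obtain ⟨d', hd', rfl⟩ := hy
      exact ⟨d * d', Subalgebra.mul_mem _ hd hd', mul_pow d d' _⟩
  refine ⟨fun x hx => ?_⟩
  obtain ⟨N, hN⟩ := hx
  obtain ⟨d, hd, hdx⟩ := claim1 x.1 x.2
  have hdnil : IsNilpotent (⟨d, hd⟩ : C') := by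
    refine ⟨p ^ m * N, ?_⟩
    apply Subtype.ext
    rw [Subalgebra.coe_pow, Subalgebra.coe_zero]
    change d ^ (p ^ m * N) = 0
    rw [pow_mul, hdx]
    have h2 := congrArg Subtype.val hN
    rw [Subalgebra.coe_pow, Subalgebra.coe_zero] at h2
    exact h2
  have h3 : (⟨d, hd⟩ : C') ^ m ∈ nilradical C' ^ m :=
    Ideal.pow_mem_pow (mem_nilradical.mpr hdnil) m
  rw [hm, Ideal.zero_eq_bot, Ideal.mem_bot] at h3
  have h4 : d ^ m = 0 := by
    have := congrArg Subtype.val h3
    rw [Subalgebra.coe_pow, Subalgebra.coe_zero] at this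
    exact this
  apply Subtype.ext
  change x.1 = 0
  rw [← hdx]
  exact pow_eq_zero_of_le hmle h4

end FrobRed



section Main

variable {k A : Type u} [Field k] [IsAlgClosed k] (p : ℕ) [Fact p.Prime] [CharP k p]
  [CommRing A] [HopfAlgebra k A]

include p in
/-- comultiplication of an idempotent of a Hopf subalgebra lands in the tensor square of any
submodule `D` containing all idempotents of `C`. -/
theorem comul_idempotent_mem (C : Subalgebra k A)
    (hC : ∀ b ∈ C, CoalgebraStruct.comul (R := k) (A := A) b ∈
      LinearMap.range (TensorProduct.map C.val.toLinearMap C.val.toLinearMap))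
    (D : Submodule k A) (hD : ∀ e ∈ C, IsIdempotentElem e → e ∈ D)
    (e : A) (heC : e ∈ C) (he : IsIdempotentElem e) :
    CoalgebraStruct.comul (R := k) (A := A) e ∈
      LinearMap.range (TensorProduct.map D.subtype D.subtype) := by
  classical
  haveI : CharP A p := FrobSplit.charP_of_bialg k p A
  haveI : CharP (A ⊗[k] A) p := FrobSplit.charP_tensor_of_bialg k p A
  haveI : ExpChar (A ⊗[k] A) p := ExpChar.prime Fact.out
  obtain ⟨y, hy⟩ := hC e heC
  obtain ⟨I, hI⟩ := TensorProduct.exists_finset y
  have hΔ : CoalgebraStruct.comul (R := k) (A := A) e =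
      ∑ i ∈ I, ((i.1 : C) : A) ⊗ₜ[k] ((i.2 : C) : A) := by
    rw [← hy, hI, map_sum]
    rfl
  have hidem : IsIdempotentElem (CoalgebraStruct.comul (R := k) (A := A) e) := by
    have := he.map (Bialgebra.comulAlgHom k A)
    exact this
  set S : Finset A := I.image (fun i => ((i.1 : C) : A)) ∪ I.image (fun i => ((i.2 : C) : A))
    with hS
  obtain ⟨n, hred⟩ := exists_isReduced_adjoin_pow (k := k) p S
  set q := p ^ n with hq
  have hqpos : q ≠ 0 := (pow_pos (Fact.out : p.Prime).pos n).ne'
  set R : Subalgebra k A := Algebra.adjoin k ((fun s : A => s ^ q) '' (S : Set A)) with hR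
  haveI := hred
  haveI : Algebra.FiniteType k R :=
    (Subalgebra.fg_iff_finiteType R).mp ⟨S.image (fun s : A => s ^ q), by
      rw [Finset.coe_image]⟩
  have hRC : R ≤ C := by
    apply Algebra.adjoin_le
    rintro _ ⟨s, hs, rfl⟩
    apply Subalgebra.pow_mem
    rw [Finset.mem_coe, hS, Finset.mem_union, Finset.mem_image, Finset.mem_image] at hs
    rcases hs with ⟨i, _, rfl⟩ | ⟨i, _, rfl⟩
    · exact i.1.2
    · exact i.2.2
  have hmemR1 : ∀ i ∈ I, ((i.1 : C) : A) ^ q ∈ R := by
    intro i hi
    apply Algebra.subset_adjoin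
    exact ⟨_, Finset.mem_coe.mpr (Finset.mem_union_left _ (Finset.mem_image_of_mem _ hi)), rfl⟩
  have hmemR2 : ∀ i ∈ I, ((i.2 : C) : A) ^ q ∈ R := by
    intro i hi
    apply Algebra.subset_adjoin
    exact ⟨_, Finset.mem_coe.mpr (Finset.mem_union_right _ (Finset.mem_image_of_mem _ hi)), rfl⟩
  -- the element of R ⊗ R
  set ER : R ⊗[k] R := ∑ i ∈ I.attach,
    (⟨((i.1.1 : C) : A) ^ q, hmemR1 i.1 i.2⟩ : R) ⊗ₜ[k] (⟨((i.1.2 : C) : A) ^ q, hmemR2 i.1 i.2⟩ : R)
    with hER
  have hmapER : Algebra.TensorProduct.map R.val R.val ER =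
      CoalgebraStruct.comul (R := k) (A := A) e := by
    rw [hER, map_sum]
    have h1 : CoalgebraStruct.comul (R := k) (A := A) e =
        (CoalgebraStruct.comul (R := k) (A := A) e) ^ q := (hidem.pow_eq hqpos).symm
    have h2 : (∑ i ∈ I, ((i.1 : C) : A) ⊗ₜ[k] ((i.2 : C) : A)) ^ q =
        ∑ i ∈ I, (((i.1 : C) : A) ⊗ₜ[k] ((i.2 : C) : A)) ^ q := by
      rw [hq]
      exact sum_pow_char_pow (p := p) (n := n) I _
    rw [h1, hΔ, h2]
    conv_rhs => rw [← Finset.sum_attach]
    apply Finset.sum_congr rfl
    intro i _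
    rw [Algebra.TensorProduct.map_tmul, Algebra.TensorProduct.tmul_pow]
    rfl
  have hinj : Function.Injective (Algebra.TensorProduct.map R.val R.val) := by
    have : Function.Injective (TensorProduct.map R.val.toLinearMap R.val.toLinearMap) :=
      TensorProduct.map_injective_of_flat_flat _ _ Subtype.val_injective Subtype.val_injective
    exact this
  have hERidem : IsIdempotentElem ER := by
    apply hinj
    rw [map_mul, hmapER]
    exact hidem.eq
  obtain ⟨z, hz⟩ := idempotent_mem_idemSpan_tensor (k := k) hERidem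
  -- transport to A ⊗ A
  have hP : ∀ f ∈ idemSpan k R, ((f : R) : A) ∈ D := by
    intro f hf
    have : idemSpan k R ≤ Submodule.comap R.val.toLinearMap D := by
      unfold idemSpan
      rw [Submodule.span_le]
      intro g hg
      change IsIdempotentElem g at hg
      exact hD _ (hRC g.2) (hg.map R.val)
    exact this hf
  let j : idemSpan k R →ₗ[k] D :=
    LinearMap.codRestrict D (R.val.toLinearMap ∘ₗ (idemSpan k R).subtype) (fun f => hP f.1 f.2)
  refine ⟨TensorProduct.map j j z, ?_⟩
  rw [← hmapER, ← hz, ← LinearMap.comp_apply, ← TensorProduct.map_comp]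
  have hcomp : D.subtype ∘ₗ j = R.val.toLinearMap ∘ₗ (idemSpan k R).subtype := by
    ext f
    rfl
  rw [hcomp, TensorProduct.map_comp, LinearMap.comp_apply]
  rfl

end Main



section Final

variable (k A : Type u) [Field k] [IsAlgClosed k] (p : ℕ) [Fact p.Prime] [CharP k p]
  [CommRing A] [HopfAlgebra k A]

include p in
theorem isGreatest_inf (B₀ : Subalgebra k A) (hB₀ : ∀ a : A, a ∈ B₀ ↔ IsSeparable k a)
    (C : Subalgebra k A) (hC : SGA3.IsHopfSubalgebra k A C)
    (hCc : ∀ c ∈ C, TensorProduct.comm k A A (Coalgebra.comul c) = Coalgebra.comul c)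
    (hCmax : ∀ D : Subalgebra k A, SGA3.IsHopfSubalgebra k A D →
      (∀ d ∈ D, TensorProduct.comm k A A (Coalgebra.comul d) = Coalgebra.comul d) → D ≤ C) :
    IsGreatest {D : Subalgebra k A | SGA3.IsHopfSubalgebra k A D ∧
      (∀ d ∈ D, TensorProduct.comm k A A (Coalgebra.comul d) = Coalgebra.comul d) ∧ D ≤ B₀}
      (B₀ ⊓ C) := by
  haveI : Nontrivial A := FrobSplit.nontrivial_of_bialg k A
  refine ⟨⟨⟨?_, ?_⟩, fun d hd => hCc d hd.2, inf_le_left⟩, ?_⟩
  · -- comultiplication
    intro b hb
    have hbsep : IsSeparable k b := (hB₀ b).mp hb.1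
    have hDidem : ∀ e ∈ C, IsIdempotentElem e → e ∈ Subalgebra.toSubmodule (B₀ ⊓ C) := by
      intro e heC he
      exact ⟨(hB₀ e).mpr (isSeparable_of_isIdempotentElem he), heC⟩
    have hspan := mem_span_idempotents_of_isSeparable hbsep
    have hle : Submodule.span k {e : A | IsIdempotentElem e ∧ e ∈ Algebra.adjoin k {b}} ≤
        Submodule.comap (CoalgebraStruct.comul (R := k) (A := A))
          (LinearMap.range (TensorProduct.map (Subalgebra.toSubmodule (B₀ ⊓ C)).subtype
            (Subalgebra.toSubmodule (B₀ ⊓ C)).subtype)) := by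
      rw [Submodule.span_le]
      rintro e ⟨he, hemem⟩
      have heC : e ∈ C := (Algebra.adjoin_le (Set.singleton_subset_iff.mpr hb.2)) hemem
      exact comul_idempotent_mem p C hC.1 _ hDidem e heC he
    exact hle hspan
  · -- antipode
    intro b hb
    refine ⟨?_, hC.2 b hb.2⟩
    exact (hB₀ _).mpr (isSeparable_map (HopfAlgebra.antipodeAlgHom k A) ((hB₀ b).mp hb.1))
  · rintro D ⟨hDH, hDc, hDB⟩
    exact le_inf hDB (hCmax D hDH hDc)

end Final


end Groth.Agent.Lib.Helper25.SepHopf
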