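import Groth.Agent.Lib.Helper25Serre
import Groth.Agent.Lib.Helper25BCComod
import Mathlib

/-!
# Helper25SerreDesc: Serre's smallest-subcomodule lemma, faithfully flat locally projective case

`isSubcomod_baseChange`, `isSubcomod_comap`, `exists_smallest_subcomod_of_faithfullyFlat`.
-/

set_option autoImplicit false
set_option linter.style.haveILetI false
universe u

namespace Groth.Agent.Lib.Helper25.SerreDesc

open TensorProduct HopfRep Groth.Agent.Lib.Helper25

section


variable (R : Type u) [CommRing R] (C : Type u) [AddCommGroup C] [Module R C] [Coalgebra R C]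
  (V : Type u) [AddCommGroup V] [Module R V] [Comod R C V]
  (S : Type u) [CommRing S] [Algebra R S]

/-- the base change of a subcomodule is a subcomodule. -/
theorem isSubcomod_baseChange (W : Submodule R V) (hW : IsSubcomod (k := R) (A := C) W) :
    @IsSubcomod S (S ⊗[R] C) _ _ _ _ (S ⊗[R] V) _ _ (CoactBr.Comod.baseChange R S C V)
      (W.baseChange S) := by
  letI := CoactBr.Comod.baseChange R S C V
  intro x hx
  rw [Submodule.baseChange_eq_span] at hx
  induction hx using Submodule.span_induction with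
  | mem x hx =>
    obtain ⟨w, hw, rfl⟩ := hx
    obtain ⟨y, hy⟩ := hW w hw
    change (CoactBr.Comod.baseChange R S C V).coact ((1 : S) ⊗ₜ[R] w) ∈ _
    rw [baseChange_coact_one_tmul', ← hy, bcMapG_rTensor]
    -- factor `W.subtype.baseChange S` through the inclusion of `W.baseChange S`
    have hfac : W.subtype.baseChange S =
        (W.baseChange S).subtype ∘ₗ (W.toBaseChange S) := by
      ext; rfl
    rw [hfac, LinearMap.rTensor_comp, LinearMap.comp_apply]
    exact ⟨_, rfl⟩
  | zero => rw [map_zero]; exact Submodule.zero_mem _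
  | add x y _ _ hx hy => rw [map_add]; exact Submodule.add_mem _ hx hy
  | smul c x _ hx => rw [map_smul]; exact Submodule.smul_mem _ c hx


end
section


variable (R : Type u) [CommRing R] (C : Type u) [AddCommGroup C] [Module R C] [Coalgebra R C]
  (V : Type u) [AddCommGroup V] [Module R V] [Comod R C V]
  (S : Type u) [CommRing S] [Algebra R S]

/-- Key descent step: if `W'` is an `S`-subcomodule of `S ⊗ V` and `C` is `R`-flat, then
`{v | 1 ⊗ v ∈ W'}` is a subcomodule of `V`. -/
theorem isSubcomod_comap [Module.Flat R C] (W' : Submodule S (S ⊗[R] V))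
    (hW' : @IsSubcomod S (S ⊗[R] C) _ _ _ _ (S ⊗[R] V) _ _ (CoactBr.Comod.baseChange R S C V) W') :
    IsSubcomod (k := R) (A := C)
      ((W'.restrictScalars R).comap (TensorProduct.mk R S V 1)) := by
  letI := CoactBr.Comod.baseChange R S C V
  set W : Submodule R V := (W'.restrictScalars R).comap (TensorProduct.mk R S V 1) with hWdef
  -- the map `q : V → (S ⊗ V) / W'`
  let q : V →ₗ[R] ((S ⊗[R] V) ⧸ W') :=
    (W'.mkQ.restrictScalars R) ∘ₗ (TensorProduct.mk R S V 1)
  have hker : LinearMap.ker q = W := by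
    ext v
    simp only [q, LinearMap.mem_ker, LinearMap.comp_apply, LinearMap.restrictScalars_apply,
      Submodule.mkQ_apply, Submodule.Quotient.mk_eq_zero, hWdef, Submodule.mem_comap,
      Submodule.restrictScalars_mem]
  -- `q` factors through an injection `V / W → (S ⊗ V) / W'`
  let j : (V ⧸ W) →ₗ[R] ((S ⊗[R] V) ⧸ W') := W.liftQ q (le_of_eq hker.symm)
  have hj : Function.Injective j := by
    rw [← LinearMap.ker_eq_bot]
    exact Submodule.ker_liftQ_eq_bot' _ _ hker.symm
  have hqj : q = j ∘ₗ W.mkQ := (Submodule.liftQ_mkQ _ _ _).symm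
  -- the comparison isomorphism
  let e : ((S ⊗[R] V) ⧸ W') ⊗[R] C ≃ₗ[S] ((S ⊗[R] V) ⧸ W') ⊗[S] (S ⊗[R] C) :=
    (AlgebraTensorModule.cancelBaseChange R S S ((S ⊗[R] V) ⧸ W') C).symm
  have hΘ : ∀ x : V ⊗[R] C,
      (W'.mkQ.rTensor (S ⊗[R] C)) (bcMapG R S C V x) = e (q.rTensor C x) := by
    intro x
    induction x using TensorProduct.induction_on with
    | zero => simp
    | add x y hx hy => simp only [map_add, hx, hy]
    | tmul v c =>
      rw [bcMapG_tmul, LinearMap.rTensor_tmul, LinearMap.rTensor_tmul]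
      simp only [e, AlgebraTensorModule.cancelBaseChange_symm_tmul]
      rfl
  intro w hw
  have hw' : (1 : S) ⊗ₜ[R] w ∈ W' := hw
  obtain ⟨y, hy⟩ := hW' _ hw'
  have h0 : (W'.mkQ.rTensor (S ⊗[R] C)) (bcMapG R S C V (Comod.coact (k := R) (A := C) w)) = 0 := by
    rw [← baseChange_coact_one_tmul']
    change (W'.mkQ.rTensor (S ⊗[R] C)) (Comod.coact (k := S) (A := S ⊗[R] C) ((1 : S) ⊗ₜ[R] w)) = 0
    rw [← hy, ← LinearMap.comp_apply, ← LinearMap.rTensor_comp]
    have : W'.mkQ ∘ₗ W'.subtype = 0 := by
      ext x; simp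
    rw [this, LinearMap.rTensor_zero, LinearMap.zero_apply]
  rw [hΘ] at h0
  have h1 : q.rTensor C (Comod.coact (k := R) (A := C) w) = 0 := by
    have := e.injective (h0.trans (map_zero e).symm)
    exact this
  rw [hqj, LinearMap.rTensor_comp, LinearMap.comp_apply] at h1
  have h2 : (W.mkQ.rTensor C) (Comod.coact (k := R) (A := C) w) = 0 :=
    (Module.Flat.rTensor_preserves_injective_linearMap j hj) (h1.trans (map_zero _).symm)
  have hex : Function.Exact (W.subtype.rTensor C) (W.mkQ.rTensor C) :=
    rTensor_exact C (LinearMap.exact_subtype_mkQ W) (Submodule.mkQ_surjective W)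
  exact (hex _).mp h2


end
section


/-- Serre's lemma for coalgebras that become projective after a faithfully flat base change. -/
theorem exists_smallest_subcomod_of_faithfullyFlat
    (R : Type u) [CommRing R] (C : Type u) [AddCommGroup C] [Module R C]
    [Coalgebra R C] (V : Type u) [AddCommGroup V] [Module R V] [HopfRep.Comod R C V]
    (M : Submodule R V)
    (S : Type u) [CommRing S] [Algebra R S] [Module.FaithfullyFlat R S]
    [Module.Projective S (S ⊗[R] C)] :
    ∃ W : Submodule R V, HopfRep.IsSubcomod (k := R) (A := C) W ∧ M ≤ W ∧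
      (∀ W' : Submodule R V, HopfRep.IsSubcomod (k := R) (A := C) W' → M ≤ W' → W ≤ W') ∧
      (M.FG → W.FG) := by
  classical
  letI := CoactBr.Comod.baseChange R S C V
  have hflat : Module.Flat R C := Module.Flat.of_flat_tensorProduct R C S
  obtain ⟨W', hW'sub, hMW', hW'min, hW'fg⟩ :=
    exists_smallest_subcomod (k := S) (A := S ⊗[R] C) (V := S ⊗[R] V) (M.baseChange S)
  set W : Submodule R V := (W'.restrictScalars R).comap (TensorProduct.mk R S V 1) with hWdef
  have hWsub : IsSubcomod (k := R) (A := C) W := isSubcomod_comap R C V S W' hW'sub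
  have hMW : M ≤ W := by
    intro m hm
    exact hMW' (Submodule.tmul_mem_baseChange_of_mem 1 hm)
  have hWW' : W.baseChange S ≤ W' := by
    rw [Submodule.baseChange_eq_span, Submodule.span_le]
    rintro _ ⟨w, hw, rfl⟩
    exact hw
  have hmin : ∀ W₁ : Submodule R V, IsSubcomod (k := R) (A := C) W₁ → M ≤ W₁ → W ≤ W₁ := by
    intro W₁ hW₁ hM₁
    have h1 : W' ≤ W₁.baseChange S :=
      hW'min _ (isSubcomod_baseChange R C V S W₁ hW₁) (Submodule.baseChange_mono S hM₁)
    rw [← Submodule.baseChange_le_iff (A := S)]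
    exact hWW'.trans h1
  refine ⟨W, hWsub, hMW, hmin, ?_⟩
  intro hMfg
  have hW'eq : W' = W.baseChange S :=
    le_antisymm (hW'min _ (isSubcomod_baseChange R C V S W hWsub) (Submodule.baseChange_mono S hMW))
      hWW'
  have hM'fg : (M.baseChange S).FG := by
    obtain ⟨T, hT⟩ := hMfg
    rw [← hT, Submodule.baseChange_span]
    exact Submodule.fg_span (T.finite_toSet.image _)
  obtain ⟨T, hT⟩ := hW'fg hM'fg
  -- each generator lies in the span of finitely many `1 ⊗ w`, `w ∈ W`
  have hgen : ∀ t ∈ T, ∃ F : Finset V, (F : Set V) ⊆ W ∧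
      t ∈ Submodule.span S (TensorProduct.mk R S V 1 '' (F : Set V)) := by
    intro t ht
    have ht' : t ∈ W.baseChange S := hW'eq ▸ (hT ▸ Submodule.subset_span ht)
    rw [Submodule.baseChange_eq_span] at ht'
    obtain ⟨F', hF', htF'⟩ := Submodule.mem_span_finite_of_mem_span ht'
    obtain ⟨F, hF, rfl⟩ := Finset.subset_set_image_iff.mp hF'
    exact ⟨F, hF, by simpa using htF'⟩
  choose! F hFW hFt using hgen
  let F₀ : Finset V := T.biUnion F
  have hF₀W : Submodule.span R (F₀ : Set V) ≤ W := by
    rw [Submodule.span_le]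
    intro v hv
    rw [Finset.coe_biUnion] at hv
    obtain ⟨t, ht, hv⟩ := Set.mem_iUnion₂.mp hv
    exact hFW t ht hv
  have hle : W.baseChange S ≤ (Submodule.span R (F₀ : Set V)).baseChange S := by
    rw [← hW'eq, ← hT, Submodule.span_le, Submodule.baseChange_span]
    intro t ht
    refine Submodule.span_mono (Set.image_mono ?_) (hFt t ht)
    intro v hv
    rw [Finset.coe_biUnion]
    exact Set.mem_iUnion₂.mpr ⟨t, ht, hv⟩
  rw [Submodule.baseChange_le_iff] at hle
  exact ⟨F₀, le_antisymm hF₀W hle⟩


end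

end Groth.Agent.Lib.Helper25.SerreDesc
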