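import Mathlib
import Groth.Agent.Lib.Helper25SmMonA

/-!
# Smooth monoid algebras of sharp monoids are polynomial algebras (helper25), part B
-/

set_option autoImplicit false
set_option linter.unusedSectionVars false
set_option linter.style.haveILetI false

open MvPolynomial TensorProduct

namespace Groth.Agent.Lib.Helper25.SmMon

section Alg

variable {k : Type*} [Field k] {N : Type*} [AddCommMonoid N] [IsCancelAdd N] [DecidableEq N]
  (hsharp : ∀ n : N, IsAddUnit n → n = 0)
  (S : Finset N) (hgen : AddSubmonoid.closure (S : Set N) = ⊤)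
  (hmin : ∀ S' : Finset N, AddSubmonoid.closure (S' : Set N) = ⊤ → S.card ≤ S'.card)

variable (k) in
/-- the presentation `k[x_s : s ∈ S] → k[N]` -/
noncomputable def phi : MvPolynomial S k →ₐ[k] AddMonoidAlgebra k N :=
  AddMonoidAlgebra.mapDomainAlgHom k k (phiMon S)

theorem phi_apply (p : MvPolynomial S k) (n : N) :
    (phi k S p).coeff n = ∑ α ∈ p.support, if phiMon S α = n then coeff α p else 0 := by
  change (Finsupp.mapDomain (phiMon S) (AddMonoidAlgebra.coeff p)) n = _
  rw [Finsupp.mapDomain, Finsupp.sum_apply, Finsupp.sum]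
  refine Finset.sum_congr rfl fun α _ => ?_
  rw [Finsupp.single_apply]
  rfl

include hgen in
theorem phi_surjective : Function.Surjective (phi k S) := by
  intro q
  obtain ⟨p, hp⟩ := Finsupp.mapDomain_surjective (phiMon_surjective S hgen) q.coeff
  refine ⟨AddMonoidAlgebra.ofCoeff p, ?_⟩
  change AddMonoidAlgebra.ofCoeff (Finsupp.mapDomain (phiMon S) p) = q
  rw [hp]

include hsharp hgen hmin in
theorem coeff_zero_of_mem_ker {p : MvPolynomial S k} (hp : phi k S p = 0) : coeff 0 p = 0 := by
  have h := phi_apply S p 0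
  rw [hp, AddMonoidAlgebra.coeff_zero, Finsupp.zero_apply] at h
  rw [Finset.sum_eq_single (0 : S →₀ ℕ)] at h
  · rw [if_pos (map_zero _)] at h
    exact h.symm
  · intro α _ hα
    rw [if_neg]
    intro h0
    exact hα (phiMon_eq_zero hsharp S hgen hmin h0)
  · intro h0
    rw [if_pos (map_zero _)]
    exact notMem_support_iff.mp h0

include hsharp hgen hmin in
theorem coeff_single_of_mem_ker {p : MvPolynomial S k} (hp : phi k S p = 0) (x : S) :
    coeff (Finsupp.single x 1) p = 0 := by
  have hx : phiMon S (Finsupp.single x 1) = x := by rw [phiMon_single, one_smul]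
  have h := phi_apply S p (x : N)
  rw [hp, AddMonoidAlgebra.coeff_zero, Finsupp.zero_apply] at h
  rw [Finset.sum_eq_single (Finsupp.single x 1 : S →₀ ℕ)] at h
  · rw [if_pos hx] at h
    exact h.symm
  · intro α _ hα
    rw [if_neg]
    intro h0
    exact hα (phiMon_eq_mem hsharp S hgen hmin x h0)
  · intro h0
    rw [if_pos hx]
    exact notMem_support_iff.mp h0

include hsharp hgen hmin in
theorem ker_le_sq : RingHom.ker (phi k S) ≤ idealOfVars S k ^ 2 := by
  intro p hp
  rw [RingHom.mem_ker] at hp
  rw [mem_pow_idealOfVars_iff']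
  intro x hx
  rcases eq_zero_or_single_of_degree_lt_two x hx with rfl | ⟨i, rfl⟩
  · exact coeff_zero_of_mem_ker hsharp S hgen hmin hp
  · exact coeff_single_of_mem_ker hsharp S hgen hmin hp i

theorem D_mem_smul_of_mem_sq {p : MvPolynomial S k} (hp : p ∈ idealOfVars S k ^ 2) :
    KaehlerDifferential.D k (MvPolynomial S k) p ∈
      idealOfVars S k • (⊤ : Submodule (MvPolynomial S k) (Ω[MvPolynomial S k⁄k])) := by
  rw [sq] at hp
  induction hp using Submodule.mul_induction_on' with
  | mem_mul_mem x hx y hy =>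
    rw [Derivation.leibniz]
    exact Submodule.add_mem _ (Submodule.smul_mem_smul hx Submodule.mem_top)
      (Submodule.smul_mem_smul hy Submodule.mem_top)
  | add x _ y _ hx hy =>
    rw [map_add]
    exact Submodule.add_mem _ hx hy

include hsharp hgen hmin in
theorem ker_le_smul_ker [Algebra.FormallySmooth k (AddMonoidAlgebra k N)] :
    RingHom.ker (phi k S) ≤ idealOfVars S k * RingHom.ker (phi k S) := by
  set P := MvPolynomial S k
  letI : Algebra P (AddMonoidAlgebra k N) := (phi k S).toRingHom.toAlgebra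
  haveI : IsScalarTower k P (AddMonoidAlgebra k N) :=
    IsScalarTower.of_algebraMap_eq (fun r => ((phi k S).commutes r).symm)
  have hsurj : Function.Surjective (algebraMap P (AddMonoidAlgebra k N)) := phi_surjective S hgen
  set 𝔟 : Ideal P := RingHom.ker (algebraMap P (AddMonoidAlgebra k N)) with h𝔟
  obtain ⟨l, hl⟩ := (Algebra.FormallySmooth.iff_split_injection (R := k) (P := P)
    (A := AddMonoidAlgebra k N) hsurj).mp inferInstance
  have h𝔟' : 𝔟 = RingHom.ker (phi k S) := rfl
  have hsq : 𝔟 ≤ idealOfVars S k ^ 2 := ker_le_sq hsharp S hgen hmin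
  have h𝔪 : 𝔟 ≤ idealOfVars S k := hsq.trans (Ideal.pow_le_self two_ne_zero)
  rw [← h𝔟']
  intro b hb
  -- the class of `b` in the cotangent space lies in `𝔪 • ⊤`
  have h1 : 𝔟.toCotangent ⟨b, hb⟩ ∈
      idealOfVars S k • (⊤ : Submodule P 𝔟.Cotangent) := by
    have h2 : 𝔟.toCotangent ⟨b, hb⟩ =
        l (KaehlerDifferential.kerCotangentToTensor k P (AddMonoidAlgebra k N)
          (𝔟.toCotangent ⟨b, hb⟩)) := by
      have := congrArg (fun f => f (𝔟.toCotangent ⟨b, hb⟩)) hl
      simp only [LinearMap.comp_apply, LinearMap.id_apply] at this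
      exact this.symm
    rw [h2, KaehlerDifferential.kerCotangentToTensor_toCotangent]
    have h3 : (1 : AddMonoidAlgebra k N) ⊗ₜ[P] KaehlerDifferential.D k P b ∈
        idealOfVars S k •
          (⊤ : Submodule P ((AddMonoidAlgebra k N) ⊗[P] (Ω[P⁄k]))) := by
      have h4 := D_mem_smul_of_mem_sq S (hsq hb)
      have h5 := Submodule.mem_map_of_mem
        (f := TensorProduct.mk P (AddMonoidAlgebra k N) (Ω[P⁄k]) 1) h4
      rw [Submodule.map_smul''] at h5
      exact Submodule.smul_mono le_rfl le_top h5
    have h6 := Submodule.mem_map_of_mem (f := l) h3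
    rw [Submodule.map_smul''] at h6
    exact Submodule.smul_mono le_rfl le_top h6
  -- pull back along `toCotangent`
  have h7 : idealOfVars S k • (⊤ : Submodule P 𝔟.Cotangent) =
      Submodule.map 𝔟.toCotangent (idealOfVars S k • (⊤ : Submodule P 𝔟)) := by
    rw [Submodule.map_smul'', Submodule.map_top,
      LinearMap.range_eq_top.mpr (Ideal.toCotangent_surjective 𝔟)]
  rw [h7] at h1
  obtain ⟨y, hy, hyx⟩ := h1
  have h8 : 𝔟.toCotangent (⟨b, hb⟩ - y) = 0 := by rw [map_sub, hyx, sub_self]
  rw [Ideal.toCotangent_eq_zero] at h8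
  have h9 : (y : P) ∈ idealOfVars S k * 𝔟 := by
    have h10 := Submodule.mem_map_of_mem (f := 𝔟.subtype) hy
    rw [Submodule.map_smul'', Submodule.map_top, Submodule.range_subtype] at h10
    exact h10
  have h11 : 𝔟 ^ 2 ≤ idealOfVars S k * 𝔟 := by
    rw [sq]
    exact Ideal.mul_mono_left h𝔪
  have h12 : b = ((⟨b, hb⟩ - y : 𝔟) : P) + (y : P) := by
    simp
  rw [h12]
  exact Ideal.add_mem _ (h11 h8) h9

include hsharp hgen hmin in
theorem phi_injective [Algebra.FormallySmooth k (AddMonoidAlgebra k N)] :
    Function.Injective (phi k S) := by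
  rw [injective_iff_map_eq_zero]
  intro p hp
  have hle := ker_le_smul_ker (k := k) hsharp S hgen hmin
  have hfg : (RingHom.ker (phi k S)).FG := IsNoetherian.noetherian _
  obtain ⟨r, hr1, hr⟩ := Submodule.exists_sub_one_mem_and_smul_eq_zero_of_fg_of_le_smul
    (idealOfVars S k) (RingHom.ker (phi k S)) hfg hle
  have hr0 : r ≠ 0 := by
    intro h0
    rw [h0, zero_sub] at hr1
    have h1 : (1 : MvPolynomial S k) ∈ idealOfVars S k := by
      have := (idealOfVars S k).neg_mem hr1
      rwa [neg_neg] at this
    have h2 : (C (1 : k) : MvPolynomial S k) ∈ idealOfVars S k ^ 1 := by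
      rw [pow_one, map_one]; exact h1
    rw [C_mem_pow_idealOfVars_iff] at h2
    rcases h2 with h2 | h2
    · exact one_ne_zero h2
    · exact one_ne_zero h2
  have := hr p (RingHom.mem_ker.mpr hp)
  rw [smul_eq_mul] at this
  exact (mul_eq_zero.mp this).resolve_left hr0

include hsharp hgen hmin in
theorem phiMon_injective [Algebra.FormallySmooth k (AddMonoidAlgebra k N)] :
    Function.Injective (phiMon S) := by
  intro α β h
  have h1 : phi k S (monomial α 1) = phi k S (monomial β 1) := by
    change AddMonoidAlgebra.mapDomain (phiMon S) (AddMonoidAlgebra.single α 1) =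
      AddMonoidAlgebra.mapDomain (phiMon S) (AddMonoidAlgebra.single β 1)
    rw [AddMonoidAlgebra.mapDomain_single, AddMonoidAlgebra.mapDomain_single, h]
  have h2 := phi_injective (k := k) hsharp S hgen hmin h1
  exact (monomial_left_injective (one_ne_zero (α := k))) h2

end Alg

end Groth.Agent.Lib.Helper25.SmMon
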