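import Mathlib
import Groth.Agent.Lib.Helper25SmMonB

/-!
# Smooth monoid algebras of sharp monoids are polynomial algebras (helper25), part C
-/

set_option autoImplicit false
set_option linter.unusedSectionVars false
set_option linter.style.haveILetI false

open MvPolynomial TensorProduct

namespace Groth.Agent.Lib.Helper25.SmMon

theorem exists_addEquiv_of_formallySmooth (k : Type*) [Field k] (N : Type*) [AddCommMonoid N]
    [AddMonoid.FG N] [IsCancelAdd N] (hsharp : ∀ n : N, IsAddUnit n → n = 0)
    [Algebra.FormallySmooth k (AddMonoidAlgebra k N)] :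
    ∃ S : Finset N, Nonempty ((S →₀ ℕ) ≃+ N) := by
  classical
  have hfg : (⊤ : AddSubmonoid N).FG := AddMonoid.fg_def.mp inferInstance
  let Pn : ℕ → Prop := fun n => ∃ S : Finset N, AddSubmonoid.closure (S : Set N) = ⊤ ∧ S.card = n
  have hex : ∃ n, Pn n := by
    obtain ⟨S, hS⟩ := hfg
    exact ⟨S.card, S, hS, rfl⟩
  obtain ⟨S, hgen, hcard⟩ := Nat.find_spec hex
  have hmin : ∀ S' : Finset N, AddSubmonoid.closure (S' : Set N) = ⊤ → S.card ≤ S'.card := by
    intro S' hS'
    rw [hcard]
    exact Nat.find_min' hex ⟨S', hS', rfl⟩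
  refine ⟨S, ⟨AddEquiv.ofBijective (phiMon S)
    ⟨phiMon_injective (k := k) hsharp S hgen hmin, phiMon_surjective S hgen⟩⟩⟩

universe u

theorem exists_symmetricAlgebra_equiv (R : Type u) [CommRing R] (N : Type)
    [AddCommMonoid N] [AddMonoid.FG N] [IsCancelAdd N] (hsharp : ∀ n : N, IsAddUnit n → n = 0)
    [Algebra.Smooth R (AddMonoidAlgebra R N)] :
    ∃ (P : Type u) (_ : AddCommGroup P) (_ : Module R P), Module.Finite R P ∧
      Module.Projective R P ∧ Nonempty (AddMonoidAlgebra R N ≃ₐ[R] SymmetricAlgebra R P) := by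
  classical
  by_cases hR : Nontrivial R
  · obtain ⟨m, hm⟩ := Ideal.exists_maximal R
    letI : Field (R ⧸ m) := Ideal.Quotient.field m
    haveI : Algebra.FormallySmooth R (AddMonoidAlgebra R N) := inferInstance
    haveI : Algebra.FormallySmooth (R ⧸ m) ((R ⧸ m) ⊗[R] AddMonoidAlgebra R N) := inferInstance
    haveI : Algebra.FormallySmooth (R ⧸ m) (AddMonoidAlgebra (R ⧸ m) N) :=
      Algebra.FormallySmooth.of_equiv (AddMonoidAlgebra.scalarTensorEquiv R (M := N) (R ⧸ m))
    obtain ⟨S, ⟨e⟩⟩ := exists_addEquiv_of_formallySmooth (R ⧸ m) N hsharp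
    refine ⟨S → R, inferInstance, inferInstance, inferInstance, inferInstance, ⟨?_⟩⟩
    exact (AddMonoidAlgebra.domCongr R R e.symm).trans
      (SymmetricAlgebra.equivMvPolynomial (Pi.basisFun R S)).symm
  · rw [not_nontrivial_iff_subsingleton] at hR
    haveI : Subsingleton (AddMonoidAlgebra R N) := Module.subsingleton R _
    haveI : Subsingleton (SymmetricAlgebra R PUnit.{u + 1}) := Module.subsingleton R _
    refine ⟨PUnit.{u + 1}, inferInstance, inferInstance, inferInstance, inferInstance, ⟨?_⟩⟩
    exact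
      { toFun := fun _ => 0
        invFun := fun _ => 0
        left_inv := fun _ => Subsingleton.elim _ _
        right_inv := fun _ => Subsingleton.elim _ _
        map_mul' := fun _ _ => Subsingleton.elim _ _
        map_add' := fun _ _ => Subsingleton.elim _ _
        commutes' := fun _ => Subsingleton.elim _ _ }

end Groth.Agent.Lib.Helper25.SmMon
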