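import Groth.Agent.Lib.Helper25Cartier
import Groth.Agent.Lib.Helper20SmoothDescSch
import Mathlib.RingTheory.Localization.BaseChange
import Mathlib.RingTheory.FiniteType
import Mathlib.AlgebraicGeometry.Morphisms.Smooth
import Mathlib.AlgebraicGeometry.Pullbacks

/-!
# Helper25SmUnit: a group scheme l.f.t. over a field whose unit stalk is "geometrically reduced
over a perfect extension" is smooth (SGA3 VI_A 1.3.1 over a field)

`exists_notMem_isReduced_away` (ring step), `strMap`, `fromSpec_hom`,
`exists_affine_nhd_tensor_isReduced`, `isReduced_pullback_of_tensor`, `nonempty_smoothLocus`,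
`mem_smoothLocus_pullback_snd`, `smooth_of_nonempty_smoothLocus_of_isAlgClosed` (adapted from
Mathlib's private `smooth_of_grpObj_of_isAlgClosed`), `smooth_of_nonempty_smoothLocus`,
`smooth_of_stalk_tensor_isReduced`.
Uses helper20's `formallySmooth_stalkMap_of_flat_baseChange`.
-/

set_option autoImplicit false
universe u
open scoped TensorProduct
open CategoryTheory CategoryTheory.Limits AlgebraicGeometry

namespace Groth.Agent.Lib.Helper25.SmUnit

section Ring

variable (k K B : Type u) [Field k] [Field K] [Algebra k K] [CommRing B] [Algebra k B]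
  [Algebra.FiniteType k B]

attribute [local instance] Algebra.TensorProduct.rightAlgebra in
/-- If `K ⊗ B_p` is reduced, then `K ⊗ B_t` is reduced for some `t ∉ p`. -/
theorem exists_notMem_isReduced_away (p : Ideal B) [p.IsPrime] (Bp : Type u) [CommRing Bp]
    [Algebra B Bp] [Algebra k Bp] [IsScalarTower k B Bp] [IsLocalization.AtPrime Bp p]
    (h : IsReduced (K ⊗[k] Bp)) :
    ∃ t : B, t ∉ p ∧ ∀ (Bt : Type u) [CommRing Bt] [Algebra B Bt] [Algebra k Bt]
      [IsScalarTower k B Bt] [IsLocalization.Away t Bt], IsReduced (Bt ⊗[k] K) := by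
  classical
  haveI : IsNoetherianRing (K ⊗[k] B) := Algebra.FiniteType.isNoetherianRing K (K ⊗[k] B)
  letI : Algebra (K ⊗[k] B) (K ⊗[k] Bp) :=
    (Algebra.TensorProduct.map (AlgHom.id k K) (IsScalarTower.toAlgHom k B Bp)).toAlgebra
  haveI : IsScalarTower K (K ⊗[k] B) (K ⊗[k] Bp) :=
    .of_algebraMap_eq <| by intro; simp [RingHom.algebraMap_toAlgebra]
  haveI hloc := IsLocalization.tensorProduct_tensorProduct_right k K p.primeCompl Bp
    (by ext; simp [RingHom.algebraMap_toAlgebra])
  -- the nilradical is finitely generated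
  obtain ⟨s, hs⟩ := (isNoetherianRing_iff_ideal_fg (K ⊗[k] B)).mp inferInstance
    (nilradical (K ⊗[k] B))
  -- each generator is killed by some `1 ⊗ t`
  have key : ∀ n ∈ s, ∃ t : B, t ∉ p ∧ ((1 : K) ⊗ₜ[k] t) * n = 0 := by
    intro n hn
    have hnil : IsNilpotent n := by
      have : n ∈ nilradical (K ⊗[k] B) := by
        rw [← hs]; exact Ideal.subset_span hn
      exact this
    have h0 : algebraMap (K ⊗[k] B) (K ⊗[k] Bp) n = 0 :=
      (hnil.map (algebraMap (K ⊗[k] B) (K ⊗[k] Bp))).eq_zero
    obtain ⟨⟨_, t, ht, rfl⟩, hm⟩ := (IsLocalization.map_eq_zero_iff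
      (p.primeCompl.map (Algebra.TensorProduct.includeRight (R := k) (A := K))) _ n).mp h0
    exact ⟨t, ht, hm⟩
  choose! tt htp htn using key
  refine ⟨∏ n ∈ s, tt n, ?_, ?_⟩
  · intro hmem
    obtain ⟨n, hn, hn'⟩ := (Ideal.IsPrime.prod_mem_iff).mp hmem
    exact htp n hn hn'
  · intro Bt _ _ _ _ _
    have hann : ∀ y ∈ nilradical (K ⊗[k] B), ((1 : K) ⊗ₜ[k] (∏ n ∈ s, tt n)) * y = 0 := by
      intro y hy
      rw [← hs] at hy
      refine Submodule.span_induction ?_ ?_ ?_ ?_ hy
      · intro n hn
        have : ((1 : K) ⊗ₜ[k] (∏ m ∈ s, tt m)) =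
            ((1 : K) ⊗ₜ[k] (∏ m ∈ s.erase n, tt m)) * ((1 : K) ⊗ₜ[k] tt n) := by
          rw [Algebra.TensorProduct.tmul_mul_tmul, _root_.mul_one, Finset.prod_erase_mul _ _ hn]
        rw [this, _root_.mul_assoc, htn n hn, mul_zero]
      · rw [mul_zero]
      · intro x y _ _ hx hy
        rw [mul_add, hx, hy, add_zero]
      · intro a x _ hx
        rw [smul_eq_mul, mul_left_comm, hx, mul_zero]
    have hred := Groth.Agent.Lib.Helper25.Cart.isReduced_away_of_annihilates _ hann
    have e := IsLocalization.Away.tensorProductEquivTMulRight k K (∏ n ∈ s, tt n) Bt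
    have hred2 : IsReduced (K ⊗[k] Bt) :=
      isReduced_of_injective e.toRingEquiv.toRingHom e.injective
    exact isReduced_of_injective (Algebra.TensorProduct.comm k Bt K).toRingEquiv.toRingHom
      (Algebra.TensorProduct.comm k Bt K).injective

end Ring

section Geom

variable {k : Type u} [Field k] (G : Over (Spec (CommRingCat.of k)))

/-- The structure map `k → Γ(G, V)`. -/
noncomputable def strMap (V : G.left.Opens) : CommRingCat.of k ⟶ Γ(G.left, V) :=
  (Scheme.ΓSpecIso (CommRingCat.of k)).inv ≫ G.hom.appTop ≫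
    G.left.presheaf.map (homOfLE (le_top : V ≤ ⊤)).op

theorem strMap_res {V W : G.left.Opens} (h : W ≤ V) :
    strMap G V ≫ G.left.presheaf.map (homOfLE h).op = strMap G W := by
  unfold strMap
  rw [Category.assoc, Category.assoc, ← Functor.map_comp]
  rfl

theorem fromSpec_hom {V : G.left.Opens} (hV : IsAffineOpen V) :
    hV.fromSpec ≫ G.hom = Spec.map (strMap G V) := by
  have h1 := IsAffineOpen.SpecMap_appLE_fromSpec G.hom (isAffineOpen_top (Spec (CommRingCat.of k)))
    hV (U := ⊤) (V := V) le_top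
  rw [← h1, IsAffineOpen.fromSpec_top, Scheme.isoSpec_Spec_inv, ← Spec.map_comp]
  rfl

end Geom

section Geom

variable {k : Type u} [Field k] (G : Over (Spec (CommRingCat.of k))) [LocallyOfFiniteType G.hom]
  (K : Type u) [Field K] [Algebra k K]

/-- If `K ⊗ O_{G,x}` is reduced, some affine open neighbourhood `V` of `x` has `K ⊗ Γ(V)`
reduced. -/
theorem exists_affine_nhd_tensor_isReduced (x : G.left)
    (h : letI := ((Scheme.ΓSpecIso (CommRingCat.of k)).inv ≫ G.hom.appTop ≫
        G.left.presheaf.germ ⊤ x trivial).hom.toAlgebra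
      IsReduced (TensorProduct k K (G.left.presheaf.stalk x))) :
    ∃ V : G.left.Opens, x ∈ V ∧ IsAffineOpen V ∧
      (letI := (strMap G V).hom.toAlgebra; IsReduced (Γ(G.left, V) ⊗[k] K)) := by
  obtain ⟨_, ⟨U, hU, rfl⟩, hxU, -⟩ :=
    G.left.isBasis_affineOpens.exists_subset_of_mem_open (Set.mem_univ x) isOpen_univ
  letI algB : Algebra k Γ(G.left, U) := (strMap G U).hom.toAlgebra
  letI algS : Algebra k (G.left.presheaf.stalk x) :=
    ((Scheme.ΓSpecIso (CommRingCat.of k)).inv ≫ G.hom.appTop ≫
        G.left.presheaf.germ ⊤ x trivial).hom.toAlgebra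
  letI algBS : Algebra Γ(G.left, U) (G.left.presheaf.stalk x) :=
    TopCat.Presheaf.algebra_section_stalk G.left.presheaf ⟨x, hxU⟩
  haveI : IsScalarTower k Γ(G.left, U) (G.left.presheaf.stalk x) := by
    apply IsScalarTower.of_algebraMap_eq'
    change ((Scheme.ΓSpecIso (CommRingCat.of k)).inv ≫ G.hom.appTop ≫
        G.left.presheaf.germ ⊤ x trivial).hom =
      (G.left.presheaf.germ U x hxU).hom.comp (strMap G U).hom
    rw [← CommRingCat.hom_comp]
    congr 1
    unfold strMap
    rw [Category.assoc, Category.assoc, TopCat.Presheaf.germ_res]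
  haveI : IsLocalization.AtPrime (G.left.presheaf.stalk x) (hU.primeIdealOf ⟨x, hxU⟩).asIdeal :=
    hU.isLocalization_stalk ⟨x, hxU⟩
  haveI : Algebra.FiniteType k Γ(G.left, U) := by
    have h1 : (G.hom.appLE ⊤ U le_top).hom.FiniteType :=
      LocallyOfFiniteType.finiteType_appLE G.hom (isAffineOpen_top _) hU le_top
    have h2 : (strMap G U).hom.FiniteType := by
      have : strMap G U = (Scheme.ΓSpecIso (CommRingCat.of k)).inv ≫ G.hom.appLE ⊤ U le_top := rfl
      rw [this, CommRingCat.hom_comp]
      exact h1.comp (RingHom.FiniteType.of_surjective _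
        (ConcreteCategory.bijective_of_isIso (Scheme.ΓSpecIso (CommRingCat.of k)).inv).2)
    exact h2
  obtain ⟨t, htp, ht⟩ := exists_notMem_isReduced_away k K Γ(G.left, U)
    (hU.primeIdealOf ⟨x, hxU⟩).asIdeal (G.left.presheaf.stalk x) h
  refine ⟨G.left.basicOpen t, ?_, hU.basicOpen t, ?_⟩
  · rw [Scheme.mem_basicOpen _ _ x hxU]
    exact IsLocalization.map_units (M := (hU.primeIdealOf ⟨x, hxU⟩).asIdeal.primeCompl)
      (G.left.presheaf.stalk x) ⟨t, htp⟩
  · letI algBt : Algebra k Γ(G.left, G.left.basicOpen t) :=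
      (strMap G (G.left.basicOpen t)).hom.toAlgebra
    haveI := hU.isLocalization_basicOpen t
    haveI : IsScalarTower k Γ(G.left, U) Γ(G.left, G.left.basicOpen t) := by
      apply IsScalarTower.of_algebraMap_eq'
      change (strMap G (G.left.basicOpen t)).hom =
        (G.left.presheaf.map (homOfLE (G.left.basicOpen_le t)).op).hom.comp (strMap G U).hom
      rw [← CommRingCat.hom_comp, strMap_res]
    exact ht Γ(G.left, G.left.basicOpen t)

end Geom

section Geom

variable {k : Type u} [Field k] (G : Over (Spec (CommRingCat.of k))) [LocallyOfFiniteType G.hom]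
  (K : Type u) [Field K] [Algebra k K]

/-- The base change to `K` of an affine open `V` with `Γ(V) ⊗ K` reduced is reduced. -/
theorem isReduced_pullback_of_tensor {V : G.left.Opens} (hV : IsAffineOpen V)
    (hred : letI := (strMap G V).hom.toAlgebra; IsReduced (Γ(G.left, V) ⊗[k] K)) :
    IsReduced (pullback (V.ι ≫ G.hom) (Spec.map (CommRingCat.ofHom (algebraMap k K)))) := by
  letI algV : Algebra k Γ(G.left, V) := (strMap G V).hom.toAlgebra
  have e1 : (V.ι ≫ G.hom) ≫ 𝟙 _ =
      hV.isoSpec.hom ≫ Spec.map (CommRingCat.ofHom (algebraMap k Γ(G.left, V))) := by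
    have : CommRingCat.ofHom (algebraMap k Γ(G.left, V)) = strMap G V := rfl
    rw [this, ← fromSpec_hom G hV, ← hV.isoSpec_inv_ι, Category.comp_id, Category.assoc,
      Iso.hom_inv_id_assoc]
  let a := pullback.map (V.ι ≫ G.hom) (Spec.map (CommRingCat.ofHom (algebraMap k K)))
    (Spec.map (CommRingCat.ofHom (algebraMap k Γ(G.left, V))))
    (Spec.map (CommRingCat.ofHom (algebraMap k K))) hV.isoSpec.hom (𝟙 _) (𝟙 _) e1 (by simp)
  haveI : IsIso a := inferInstance
  let j := a ≫ (pullbackSpecIso k Γ(G.left, V) K).hom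
  haveI : IsIso j := inferInstance
  haveI : IsReduced (Spec (CommRingCat.of (Γ(G.left, V) ⊗[k] K))) := by
    haveI : _root_.IsReduced (CommRingCat.of (Γ(G.left, V) ⊗[k] K)) := hred
    infer_instance
  exact isReduced_of_isOpenImmersion j

variable [PerfectField K]

/-- If `K ⊗ O_{G,x}` is reduced for a perfect extension `K` of `k`, the smooth locus of `G` is
nonempty. -/
theorem nonempty_smoothLocus (x : G.left)
    (h : letI := ((Scheme.ΓSpecIso (CommRingCat.of k)).inv ≫ G.hom.appTop ≫
        G.left.presheaf.germ ⊤ x trivial).hom.toAlgebra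
      IsReduced (TensorProduct k K (G.left.presheaf.stalk x))) :
    (G.hom.smoothLocus : Set G.left).Nonempty := by
  obtain ⟨V, hxV, hV, hred⟩ := exists_affine_nhd_tensor_isReduced G K x h
  have hP := isReduced_pullback_of_tensor G K hV hred
  let gK : Spec (CommRingCat.of K) ⟶ Spec (CommRingCat.of k) :=
    Spec.map (CommRingCat.ofHom (algebraMap k K))
  let f₀ := V.ι ≫ G.hom
  let f' := pullback.snd f₀ gK
  have hdense := f'.dense_smoothLocus_of_perfectField
  haveI : Surjective gK := by
    constructor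
    intro y
    refine ⟨IsLocalRing.closedPoint K, Subsingleton.elim (α := PrimeSpectrum k) _ _⟩
  obtain ⟨p, hp⟩ := (pullback.fst f₀ gK).surjective ⟨x, hxV⟩
  haveI : Nonempty ↑(pullback f₀ gK) := ⟨p⟩
  obtain ⟨w, hw⟩ := hdense.nonempty
  have h1 := Groth.Agent.Lib.Helper20.FlatDesc.formallySmooth_stalkMap_of_flat_baseChange f₀ gK w hw
  have h2 : pullback.fst f₀ gK w ∈ (V.ι ≫ G.hom).smoothLocus := h1
  rw [← Scheme.Hom.preimage_smoothLocus_eq] at h2
  exact ⟨_, h2⟩

end Geom

section BC

variable {X Y Y' : Scheme.{u}}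

/-- Points over the smooth locus lie in the smooth locus of the base change. -/
theorem mem_smoothLocus_pullback_snd (f : X ⟶ Y) [LocallyOfFinitePresentation f] (g : Y' ⟶ Y)
    (w : ↑(pullback f g)) (hw : pullback.fst f g w ∈ f.smoothLocus) :
    w ∈ (pullback.snd f g).smoothLocus := by
  obtain ⟨U, hxU, hU⟩ := Groth.Agent.Lib.Helper20.FlatDesc.exists_smooth_nbhd f _ hw
  have hE : Smooth (((pullback.fst f g) ⁻¹ᵁ U).ι ≫ pullback.snd f g) :=
    MorphismProperty.of_isPullback (P := @Smooth)
      ((isPullback_morphismRestrict (pullback.fst f g) U).paste_vert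
        (IsPullback.of_hasPullback f g)) hU
  exact Groth.Agent.Lib.Helper20.FlatDesc.formallySmooth_stalkMap_of_nbhd _ w
    ((pullback.fst f g) ⁻¹ᵁ U) hxU

end BC

section Homog

variable {K : Type u} [Field K] {G : Scheme.{u}} (f : G ⟶ Spec (.of K))
    [LocallyOfFiniteType f] [GrpObj (Over.mk f)]

set_option backward.defeqAttrib.useBackward true in
set_option backward.isDefEq.respectTransparency false in
open MonObj MonoidalCategory CartesianMonoidalCategory in
/-- A group scheme locally of finite type over an algebraically closed field with a smooth point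
is smooth (adapted from Mathlib's `smooth_of_grpObj_of_isAlgClosed`). -/
theorem smooth_of_nonempty_smoothLocus_of_isAlgClosed [IsAlgClosed K]
    (hne : (f.smoothLocus : Set G).Nonempty) : Smooth f := by
  have := LocallyOfFiniteType.jacobsonSpace f
  rw [← Scheme.Hom.smoothLocus_eq_top_iff, ← TopologicalSpace.Opens.coe_eq_univ,
    ← not_ne_iff, ← Set.nonempty_compl]
  intro H
  obtain ⟨x, hx, hxc⟩ :=
    nonempty_inter_closedPoints H f.smoothLocus.2.isClosed_compl.isLocallyClosed
  obtain ⟨y, hy : y ∈ f.smoothLocus, hyc⟩ := nonempty_inter_closedPoints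
    hne f.smoothLocus.2.isLocallyClosed
  let x' : 𝟙_ _ ⟶ Over.mk f := Over.homMk _ ((pointEquivClosedPoint f).symm ⟨x, hxc⟩).2
  let y' : 𝟙_ _ ⟶ Over.mk f := Over.homMk _ ((pointEquivClosedPoint f).symm ⟨y, hyc⟩).2
  let α := (GrpObj.mulRight (A := Over.mk f) x').symm ≪≫
    (GrpObj.mulRight (A := Over.mk f) y')
  have hα : x' ≫ α.hom = y' := by
    dsimp only [Iso.trans_hom, Iso.symm_hom, α]
    rw [← Category.assoc, ← Iso.eq_comp_inv]
    simp [comp_lift_assoc]
  have hα' : α.hom.left x = y := by
    simpa [x', y', pointEquivClosedPoint] using congr(($hα).left (IsLocalRing.closedPoint K))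
  rw! [← hα', ← α.hom.left.mem_preimage, Scheme.Hom.preimage_smoothLocus_eq,
    show α.hom.left ≫ f = f from α.hom.w] at hy
  exact hx hy

end Homog

section Final

open MonObj MonoidalCategory CartesianMonoidalCategory

variable {k : Type u} [Field k] (G : Over (Spec (CommRingCat.of k))) [GrpObj G]
  [LocallyOfFiniteType G.hom]

/-- A group scheme locally of finite type over a field with a smooth point is smooth. -/
theorem smooth_of_nonempty_smoothLocus (hne : (G.hom.smoothLocus : Set G.left).Nonempty) :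
    Smooth G.hom := by
  let Ω : Type u := AlgebraicClosure k
  let g : Spec (.of Ω) ⟶ Spec (.of k) := Spec.map (CommRingCat.ofHom <| algebraMap k Ω)
  apply MorphismProperty.of_pullback_snd_of_descendsAlong
    (Q := @Surjective ⊓ @Flat ⊓ @QuasiCompact) (g := g)
  · exact ⟨⟨inferInstance, inferInstance⟩, inferInstance⟩
  · letI : GrpObj (Over.mk G.hom) := ‹GrpObj G›
    letI : GrpObj (Over.mk (pullback.snd G.hom g)) := Over.grpObjMkPullbackSnd
    apply smooth_of_nonempty_smoothLocus_of_isAlgClosed
    obtain ⟨x, hx⟩ := hne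
    obtain ⟨w, hw⟩ := (pullback.fst G.hom g).surjective x
    exact ⟨w, mem_smoothLocus_pullback_snd G.hom g w (hw ▸ hx)⟩

/-- `S5388`: if `K ⊗ O_{G,e}` is reduced for a perfect extension `K` of `k` then `G` is smooth. -/
theorem smooth_of_stalk_tensor_isReduced (K : Type u) [Field K] [Algebra k K] [PerfectField K]
    (x : G.left)
    (h : letI := ((Scheme.ΓSpecIso (CommRingCat.of k)).inv ≫ G.hom.appTop ≫
        G.left.presheaf.germ ⊤ x trivial).hom.toAlgebra
      IsReduced (TensorProduct k K (G.left.presheaf.stalk x))) : Smooth G.hom :=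
  smooth_of_nonempty_smoothLocus G (nonempty_smoothLocus G K x h)

end Final

end Groth.Agent.Lib.Helper25.SmUnit
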