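import Groth.Agent.Lib.Helper25Specialize
import Groth.Agent.Lib.Helper25Trig
import Groth.Agent.Lib.Helper25TrigQuot

/-!
# Helper25SpecTrig: specialisation of trigonalizability for flat bialgebras over valuation rings

* `IsFlagged k A N`: the subcomodule `N` has a flag of subcomodules with quotients of dimension `≤ 1`.
* `exists_isFlagged_mem`: trigonalizable ⇒ every element of `A` lies in a flagged right coideal.
* `isTrigonalizable_of_forall_isFlagged`: the converse.
-/

set_option autoImplicit false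
universe u v w w'

namespace Groth.Agent.Lib.Helper25.Spec

open TensorProduct HopfRep Groth.Agent.Lib.Helper25

section Flagged

variable (k : Type u) [Field k] (A : Type v) [CommRing A] [Bialgebra k A]
variable {V : Type w} [AddCommGroup V] [Module k V] [Comod k A V]

/-- A subcomodule admitting a finite flag of subcomodules with successive quotients of
dimension at most one. -/
inductive IsFlagged : Submodule k V → Prop
  | bot : IsFlagged ⊥
  | step (N N' : Submodule k V) (e : V) : IsFlagged N → N ≤ N' →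
      IsSubcomod (k := k) (A := A) N' → e ∈ N' → (∀ x ∈ N', ∃ c : k, x - c • e ∈ N) → IsFlagged N'

variable {k A}

theorem exists_isFlagged_mem (hT : IsTrigonalizable k A) (x : A) :
    ∃ N : Submodule k A, IsFlagged k A N ∧ x ∈ N := by
  obtain ⟨U, hUfg, hUsub, hxU⟩ := exists_fg_subcomod_mem (k := k) (A := A) x
  letI := subComod U hUsub
  haveI : Module.Finite k U := Module.Finite.iff_fg.mpr hUfg
  obtain ⟨F, hmono, hsub, hdim⟩ := exists_dimFlag_aux hT (Module.finrank k U) U inferInstance rfl
  have hι : Hoch.IsComodHom A U.subtype := isComodHom_subtype U hUsub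
  have key : ∀ i, i ≤ Module.finrank k U → IsFlagged k A ((F i).map U.subtype) := by
    intro i
    induction i with
    | zero =>
      intro _
      have h0 : F 0 = ⊥ := by
        rw [← Submodule.finrank_eq_zero (R := k)]
        exact hdim 0 (Nat.zero_le _)
      rw [h0, Submodule.map_bot]
      exact IsFlagged.bot
    | succ i ih =>
      intro hi
      have hi' : i ≤ Module.finrank k U := by omega
      obtain ⟨v₀, hv₀, hdec⟩ := exists_decomp_of_finrank_succ (F i) (F (i + 1))
        (hmono (Nat.le_succ i)) (by rw [hdim i hi', hdim (i + 1) hi])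
      refine IsFlagged.step ((F i).map U.subtype) ((F (i + 1)).map U.subtype) (v₀ : A) (ih hi')
        (Submodule.map_mono (hmono (Nat.le_succ i))) (isSubcomod_map hι (hsub (i + 1)))
        ⟨v₀, hv₀, rfl⟩ ?_
      rintro _ ⟨v, hv, rfl⟩
      obtain ⟨u, hu, a, rfl⟩ := hdec v hv
      refine ⟨a, ⟨u, hu, ?_⟩⟩
      simp
  have htop : F (Module.finrank k U) = ⊤ :=
    Submodule.eq_top_of_finrank_eq (hdim _ le_rfl)
  refine ⟨_, key _ le_rfl, ?_⟩
  rw [htop]
  exact ⟨⟨x, hxU⟩, trivial, rfl⟩

theorem IsFlagged.isSubcomod {N : Submodule k V} (hN : IsFlagged k A N) :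
    IsSubcomod (k := k) (A := A) N := by
  cases hN with
  | bot => exact isSubcomod_bot
  | step N e _ _ h _ _ => assumption

theorem isTrigonalizable_of_forall_isFlagged
    (h : ∀ x : A, ∃ N : Submodule k A, IsFlagged k A N ∧ x ∈ N) : IsTrigonalizable k A := by
  intro V _ _ _ hfin hsimple
  haveI := hfin
  obtain ⟨hnt, hsimp⟩ := hsimple
  obtain ⟨v, hv⟩ := exists_ne (0 : V)
  obtain ⟨l, hl⟩ : ∃ l : V →ₗ[k] k, l v ≠ 0 := by
    by_contra hcon
    push_neg at hcon
    exact hv ((Module.forall_dual_apply_eq_zero_iff k v).mp hcon)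
  set c : V →ₗ[k] A := coeffMap (A := A) l with hc
  have hch : Hoch.IsComodHom A c := isComodHom_coeffMap l
  have hcv : c v ≠ 0 := by
    intro h0
    apply hl
    rw [← counit_coeffMap (A := A) l v, ← hc, h0, map_zero]
  have hker : LinearMap.ker c = ⊥ := by
    rcases hsimp _ (isSubcomod_ker hch) with h1 | h1
    · exact h1
    · exfalso
      apply hcv
      have : v ∈ LinearMap.ker c := by rw [h1]; trivial
      exact this
  have key : ∀ N : Submodule k A, IsFlagged k A N → N.comap c = ⊥ ∨ Module.finrank k V = 1 := by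
    intro N hN
    induction hN with
    | bot => left; exact hker
    | step N N' e hN hle hsub he hrk ih =>
      rcases ih with ih | ih
      · rcases hsimp _ (isSubcomod_comap hch hsub) with h1 | h1
        · left; exact h1
        · right
          have hmem : ∀ u : V, c u ∈ N' := by
            intro u
            have : u ∈ N'.comap c := by rw [h1]; trivial
            exact this
          obtain ⟨a, ha⟩ := hrk (c v) (hmem v)
          have ha0 : a ≠ 0 := by
            intro h0
            rw [h0, zero_smul, sub_zero] at ha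
            have : v ∈ N.comap c := ha
            rw [ih] at this
            exact hv ((Submodule.mem_bot k).mp this)
          apply le_antisymm
          · apply finrank_le_one v
            intro u
            obtain ⟨b, hb⟩ := hrk (c u) (hmem u)
            refine ⟨b / a, ?_⟩
            have h2 : a • u - b • v ∈ N.comap c := by
              rw [Submodule.mem_comap, map_sub, map_smul, map_smul]
              have e1 : a • c u - b • c v = a • (c u - b • e) - b • (c v - a • e) := by
                rw [smul_sub, smul_sub, smul_smul, smul_smul, mul_comm a b]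
                abel
              rw [e1]
              exact Submodule.sub_mem _ (Submodule.smul_mem _ _ hb) (Submodule.smul_mem _ _ ha)
            rw [ih, Submodule.mem_bot, sub_eq_zero] at h2
            rw [div_eq_mul_inv, mul_comm, ← smul_smul, ← h2, smul_smul, inv_mul_cancel₀ ha0,
              one_smul]
          · exact Module.finrank_pos
      · right; exact ih
  obtain ⟨N, hN, hxN⟩ := h (c v)
  rcases key N hN with h1 | h1
  · exfalso
    have : v ∈ N.comap c := hxN
    rw [h1] at this
    exact hv ((Submodule.mem_bot k).mp this)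
  · exact h1

end Flagged

section SpecSub

variable (R : Type u) [CommRing R] (K : Type u) [Field K] [Algebra R K]
  (κ : Type u) [Field κ] [Algebra R κ]
  (H : Type u) [CommRing H] [Bialgebra R H]

/-- The pullback of a `K`-subspace of `K ⊗ H` to `H`. -/
def pullSub (N : Submodule K (K ⊗[R] H)) : Submodule R H :=
  (LinearMap.range (N.subtype.restrictScalars R)).comap (TensorProduct.mk R K H 1)

variable {R K H}

theorem mem_pullSub {N : Submodule K (K ⊗[R] H)} {h : H} :
    h ∈ pullSub R K H N ↔ (1 : K) ⊗ₜ[R] h ∈ N := by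
  rw [pullSub, Submodule.mem_comap, LinearMap.mem_range]
  constructor
  · rintro ⟨y, hy⟩
    have : (y : K ⊗[R] H) = (1 : K) ⊗ₜ[R] h := hy
    rw [← this]
    exact y.2
  · intro hh
    exact ⟨⟨_, hh⟩, rfl⟩

variable (R K H)

/-- The specialisation of a `K`-subspace of `K ⊗ H` to `κ ⊗ H`. -/
def specSub (N : Submodule K (K ⊗[R] H)) : Submodule κ (κ ⊗[R] H) :=
  Submodule.span κ {x | ∃ h : H, (1 : K) ⊗ₜ[R] h ∈ N ∧ x = (1 : κ) ⊗ₜ[R] h}

variable {R K H}

theorem one_tmul_mem_specSub {N : Submodule K (K ⊗[R] H)} {h : H} (hh : (1 : K) ⊗ₜ[R] h ∈ N) :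
    (1 : κ) ⊗ₜ[R] h ∈ specSub R K κ H N :=
  Submodule.subset_span ⟨h, hh, rfl⟩

theorem specSub_mono {N N' : Submodule K (K ⊗[R] H)} (hle : N ≤ N') :
    specSub R K κ H N ≤ specSub R K κ H N' := by
  apply Submodule.span_mono
  rintro _ ⟨h, hh, rfl⟩
  exact ⟨h, hle hh, rfl⟩

theorem specSub_bot [Module.Flat R H] (hinj : Function.Injective (algebraMap R K)) :
    specSub R K κ H (⊥ : Submodule K (K ⊗[R] H)) = ⊥ := by
  rw [eq_bot_iff, specSub, Submodule.span_le]
  rintro _ ⟨h, hh, rfl⟩
  have hi := Algebra.TensorProduct.includeRight_injective (R := R) (A := K) (B := H) hinj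
  have h1 : h = 0 := by
    apply hi
    rw [map_zero]
    exact (Submodule.mem_bot K).mp hh
  rw [h1, TensorProduct.tmul_zero]
  exact Submodule.zero_mem _

/-- The comultiplication of an element of the pullback of a right coideal. -/
theorem comul_mem_of_isSubcomod [Module.Flat R H] {N : Submodule K (K ⊗[R] H)}
    (hN : IsSubcomod (k := K) (A := K ⊗[R] H) N) {h : H} (hh : (1 : K) ⊗ₜ[R] h ∈ N) :
    CoalgebraStruct.comul (R := R) h ∈
      LinearMap.range ((pullSub R K H N).subtype.rTensor H) := by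
  apply mem_range_rTensor_comap (TensorProduct.mk R K H 1) (N.subtype.restrictScalars R)
  obtain ⟨y, hy⟩ := hN _ hh
  refine ⟨(resIota R K H _).symm y, ?_⟩
  apply (resIota R K H (K ⊗[R] H)).injective
  rw [resIota_rTensor, LinearEquiv.apply_symm_apply, hy, resIota_mk_rTensor, ← comul_one_tmul']
  rfl

theorem isSubcomod_specSub [Module.Flat R H] {N : Submodule K (K ⊗[R] H)}
    (hN : IsSubcomod (k := K) (A := K ⊗[R] H) N) :
    IsSubcomod (k := κ) (A := κ ⊗[R] H) (specSub R K κ H N) := by
  intro x hx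
  induction hx using Submodule.span_induction with
  | mem x hx =>
    obtain ⟨h, hh, rfl⟩ := hx
    obtain ⟨w, hw⟩ := comul_mem_of_isSubcomod hN hh
    change CoalgebraStruct.comul (R := κ) ((1 : κ) ⊗ₜ[R] h) ∈ _
    rw [comul_one_tmul', ← hw]
    clear hw
    induction w using TensorProduct.induction_on with
    | zero => simp
    | add a b ha hb =>
      simp only [map_add]
      exact Submodule.add_mem _ ha hb
    | tmul c d =>
      rw [LinearMap.rTensor_tmul, bcMapG_tmul]
      refine ⟨(⟨(1 : κ) ⊗ₜ[R] (c : H), one_tmul_mem_specSub κ (mem_pullSub.mp c.2)⟩ :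
        specSub R K κ H N) ⊗ₜ[κ] ((1 : κ) ⊗ₜ[R] d), ?_⟩
      rw [LinearMap.rTensor_tmul]
      rfl
  | zero =>
    rw [map_zero]
    exact Submodule.zero_mem _
  | add x y _ _ hx hy =>
    rw [map_add]
    exact Submodule.add_mem _ hx hy
  | smul c x _ hx =>
    rw [map_smul]
    exact Submodule.smul_mem _ _ hx

end SpecSub

section SpecRank

variable {R : Type u} [CommRing R] [IsDomain R] [ValuationRing R]
  {K : Type u} [Field K] [Algebra R K] [IsFractionRing R K]
  (κ : Type u) [Field κ] [Algebra R κ]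
  {H : Type u} [CommRing H] [Bialgebra R H]

theorem one_tmul_smul_K (a : R) (m : H) :
    (1 : K) ⊗ₜ[R] (a • m) = (algebraMap R K a) • ((1 : K) ⊗ₜ[R] m) := by
  rw [TensorProduct.tmul_smul, algebraMap_smul]

theorem one_tmul_smul_kappa (a : R) (m : H) :
    (1 : κ) ⊗ₜ[R] (a • m) = (algebraMap R κ a) • ((1 : κ) ⊗ₜ[R] m) := by
  rw [TensorProduct.tmul_smul, algebraMap_smul]

/-- Over a valuation ring, two elements of the pullback of `N' = N + K e` are comparable
modulo the pullback of `N`. -/
theorem exists_sub_smul_mem_pullSub {N N' : Submodule K (K ⊗[R] H)} (e : K ⊗[R] H)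
    (hrk : ∀ x ∈ N', ∃ c : K, x - c • e ∈ N) {m m' : H} (hm : m ∈ pullSub R K H N')
    (hm' : m' ∈ pullSub R K H N') :
    ∃ a : R, m - a • m' ∈ pullSub R K H N ∨ m' - a • m ∈ pullSub R K H N := by
  rw [mem_pullSub] at hm hm'
  obtain ⟨c, hc⟩ := hrk _ hm
  obtain ⟨c', hc'⟩ := hrk _ hm'
  by_cases hc'0 : c' = 0
  · refine ⟨0, Or.inr ?_⟩
    rw [zero_smul, sub_zero, mem_pullSub]
    rw [hc'0, zero_smul, sub_zero] at hc'
    exact hc'
  · set t : K := c / c' with ht
    have htc : t * c' = c := by rw [ht, div_mul_cancel₀ _ hc'0]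
    have h1 : (1 : K) ⊗ₜ[R] m - t • ((1 : K) ⊗ₜ[R] m') ∈ N := by
      have e1 : (1 : K) ⊗ₜ[R] m - t • ((1 : K) ⊗ₜ[R] m') =
          ((1 : K) ⊗ₜ[R] m - c • e) - t • ((1 : K) ⊗ₜ[R] m' - c' • e) := by
        rw [smul_sub, smul_smul, htc]
        abel
      rw [e1]
      exact Submodule.sub_mem _ hc (Submodule.smul_mem _ _ hc')
    rcases ValuationRing.isInteger_or_isInteger R t with ⟨a, ha⟩ | ⟨a, ha⟩
    · refine ⟨a, Or.inl ?_⟩
      rw [mem_pullSub, TensorProduct.tmul_sub, one_tmul_smul_K, ha]
      exact h1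
    · by_cases ht0 : t = 0
      · refine ⟨0, Or.inl ?_⟩
        rw [zero_smul, sub_zero, mem_pullSub]
        rw [ht0, zero_smul, sub_zero] at h1
        exact h1
      · refine ⟨a, Or.inr ?_⟩
        rw [mem_pullSub, TensorProduct.tmul_sub, one_tmul_smul_K, ha]
        have e2 : (1 : K) ⊗ₜ[R] m' - t⁻¹ • ((1 : K) ⊗ₜ[R] m) =
            (-t⁻¹) • ((1 : K) ⊗ₜ[R] m - t • ((1 : K) ⊗ₜ[R] m')) := by
          rw [smul_sub, smul_smul, neg_mul, inv_mul_cancel₀ ht0]
          simp only [neg_smul, one_smul]
          abel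
        rw [e2]
        exact Submodule.smul_mem _ _ h1

theorem exists_gen_specSub {N N' : Submodule K (K ⊗[R] H)} (e : K ⊗[R] H)
    (hrk : ∀ x ∈ N', ∃ c : K, x - c • e ∈ N) :
    ∃ e' ∈ specSub R K κ H N', ∀ x ∈ specSub R K κ H N', ∃ c : κ,
      x - c • e' ∈ specSub R K κ H N := by
  by_cases hex : ∃ m₀ : H, m₀ ∈ pullSub R K H N' ∧ (1 : κ) ⊗ₜ[R] m₀ ∉ specSub R K κ H N
  · obtain ⟨m₀, hm₀, hm₀N⟩ := hex
    refine ⟨(1 : κ) ⊗ₜ[R] m₀, one_tmul_mem_specSub κ (mem_pullSub.mp hm₀), ?_⟩
    intro x hx
    induction hx using Submodule.span_induction with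
    | mem x hx =>
      obtain ⟨m, hm, rfl⟩ := hx
      obtain ⟨a, ha | ha⟩ := exists_sub_smul_mem_pullSub e hrk (mem_pullSub.mpr hm) hm₀
      · refine ⟨algebraMap R κ a, ?_⟩
        have := one_tmul_mem_specSub κ (mem_pullSub.mp ha)
        rw [TensorProduct.tmul_sub, one_tmul_smul_kappa] at this
        exact this
      · have h1 := one_tmul_mem_specSub κ (mem_pullSub.mp ha)
        rw [TensorProduct.tmul_sub, one_tmul_smul_kappa] at h1
        have ha0 : algebraMap R κ a ≠ 0 := by
          intro h0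
          rw [h0, zero_smul, sub_zero] at h1
          exact hm₀N h1
        refine ⟨(algebraMap R κ a)⁻¹, ?_⟩
        have e2 : (1 : κ) ⊗ₜ[R] m - (algebraMap R κ a)⁻¹ • ((1 : κ) ⊗ₜ[R] m₀) =
            (-(algebraMap R κ a)⁻¹) •
              ((1 : κ) ⊗ₜ[R] m₀ - (algebraMap R κ a) • ((1 : κ) ⊗ₜ[R] m)) := by
          rw [smul_sub, smul_smul, neg_mul, inv_mul_cancel₀ ha0]
          simp only [neg_smul, one_smul]
          abel
        rw [e2]
        exact Submodule.smul_mem _ _ h1
    | zero => exact ⟨0, by simp⟩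
    | add x y _ _ hx hy =>
      obtain ⟨c, hc⟩ := hx
      obtain ⟨c', hc'⟩ := hy
      refine ⟨c + c', ?_⟩
      have e3 : x + y - (c + c') • ((1 : κ) ⊗ₜ[R] m₀) =
          (x - c • ((1 : κ) ⊗ₜ[R] m₀)) + (y - c' • ((1 : κ) ⊗ₜ[R] m₀)) := by
        rw [add_smul]
        abel
      rw [e3]
      exact Submodule.add_mem _ hc hc'
    | smul r x _ hx =>
      obtain ⟨c, hc⟩ := hx
      refine ⟨r * c, ?_⟩
      have e4 : r • x - (r * c) • ((1 : κ) ⊗ₜ[R] m₀) = r • (x - c • ((1 : κ) ⊗ₜ[R] m₀)) := by
        rw [smul_sub, smul_smul]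
      rw [e4]
      exact Submodule.smul_mem _ _ hc
  · push_neg at hex
    refine ⟨0, Submodule.zero_mem _, ?_⟩
    intro x hx
    refine ⟨0, ?_⟩
    rw [zero_smul, sub_zero]
    have hle : specSub R K κ H N' ≤ specSub R K κ H N := by
      rw [specSub, Submodule.span_le]
      rintro _ ⟨h, hh, rfl⟩
      exact hex h (mem_pullSub.mpr hh)
    exact hle hx

theorem isFlagged_specSub [Module.Flat R H] {N : Submodule K (K ⊗[R] H)}
    (hN : IsFlagged K (K ⊗[R] H) N) : IsFlagged κ (κ ⊗[R] H) (specSub R K κ H N) := by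
  induction hN with
  | bot =>
    rw [specSub_bot κ (IsFractionRing.injective R K)]
    exact IsFlagged.bot
  | step N N' e hN hle hsub he hrk ih =>
    obtain ⟨e', he', hrk'⟩ := exists_gen_specSub κ e hrk
    exact IsFlagged.step _ _ e' ih (specSub_mono κ hle) (isSubcomod_specSub κ hsub) he' hrk'

/-- Trigonalizability specialises along flat bialgebras over valuation rings. -/
theorem isTrigonalizable_specialize [Module.Flat R H]
    (hsurj : Function.Surjective (algebraMap R κ))
    (hK : IsTrigonalizable K (K ⊗[R] H)) : IsTrigonalizable κ (κ ⊗[R] H) := by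
  apply isTrigonalizable_of_forall_isFlagged
  intro x
  obtain ⟨h, rfl⟩ : ∃ h : H, x = (1 : κ) ⊗ₜ[R] h := by
    induction x using TensorProduct.induction_on with
    | zero => exact ⟨0, by simp⟩
    | add x y hx hy =>
      obtain ⟨h, rfl⟩ := hx
      obtain ⟨h', rfl⟩ := hy
      exact ⟨h + h', by rw [TensorProduct.tmul_add]⟩
    | tmul c h =>
      obtain ⟨a, rfl⟩ := hsurj c
      refine ⟨a • h, ?_⟩
      rw [one_tmul_smul_kappa, TensorProduct.smul_tmul', smul_eq_mul, mul_one]
  obtain ⟨N, hN, hmem⟩ := exists_isFlagged_mem hK ((1 : K) ⊗ₜ[R] h)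
  exact ⟨specSub R K κ H N, isFlagged_specSub κ hN, one_tmul_mem_specSub κ hmem⟩

end SpecRank

end Groth.Agent.Lib.Helper25.Spec
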