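import Groth.Agent.Lib.Helper25ResComod
import Groth.Agent.Lib.Helper25Coconn

/-!
# Helper25Specialize: specialisation of unipotence for flat bialgebras (helper25)

* `mem_range_rTensor_comap`: saturation lemma for flat modules.
* `comul_sub_tmul_one_mem`: `a ∈ Cp (r+1)` implies `Δ a - a ⊗ 1 ∈ Cp r ⊗ A`.
* `one_tmul_mem_Cp`: the coradical-type filtration specialises.
* `isUnipotent_specialize`.
-/

set_option autoImplicit false
universe u v w w'

namespace Groth.Agent.Lib.Helper25.Spec

open TensorProduct HopfRep Groth.Agent.Lib.Helper25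

section Sat

variable {R : Type u} [CommRing R] {X : Type v} {Y : Type w} {F' : Type w'} {H : Type v}
  [AddCommGroup X] [Module R X] [AddCommGroup Y] [Module R Y] [AddCommGroup F'] [Module R F']
  [AddCommGroup H] [Module R H] [Module.Flat R H]

/-- Saturation: if `(ι ⊗ id) z` lies in `F ⊗ H` then `z` lies in `ι⁻¹(F) ⊗ H`, for flat `H`. -/
theorem mem_range_rTensor_comap (ι : X →ₗ[R] Y) (g : F' →ₗ[R] Y) (z : X ⊗[R] H)
    (hz : ι.rTensor H z ∈ LinearMap.range (g.rTensor H)) :
    z ∈ LinearMap.range (((LinearMap.range g).comap ι).subtype.rTensor H) := by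
  set F : Submodule R Y := LinearMap.range g with hF
  set M : Submodule R X := F.comap ι with hM
  have hz' : ι.rTensor H z ∈ LinearMap.range (F.subtype.rTensor H) := by
    rw [hF, ← LinearMap.rTensor_range]
    exact hz
  let j : (X ⧸ M) →ₗ[R] (Y ⧸ F) := M.mapQ F ι le_rfl
  have hj : Function.Injective j := by
    rw [← LinearMap.ker_eq_bot, Submodule.ker_mapQ, ← hM, Submodule.mkQ_map_self]
  have hj' : Function.Injective (j.rTensor H) :=
    Module.Flat.rTensor_preserves_injective_linearMap j hj
  have hexM := rTensor_exact H (LinearMap.exact_subtype_mkQ M) M.mkQ_surjective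
  have hexF := rTensor_exact H (LinearMap.exact_subtype_mkQ F) F.mkQ_surjective
  apply (hexM z).mp
  apply hj'
  rw [map_zero, ← LinearMap.comp_apply, ← LinearMap.rTensor_comp]
  have hcomm : j ∘ₗ M.mkQ = F.mkQ ∘ₗ ι := by
    ext x
    rfl
  rw [hcomm, LinearMap.rTensor_comp, LinearMap.comp_apply]
  exact (hexF _).mpr hz'

end Sat

section CpField

variable {k : Type u} [Field k] {A : Type v} [CommRing A] [Bialgebra k A]

/-- For `a ∈ Cp (r+1)`, `Δ a - a ⊗ 1 ∈ Cp r ⊗ A`. -/
theorem comul_sub_tmul_one_mem {r : ℕ} {a : A} (ha : a ∈ Cp k A (r + 1)) :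
    CoalgebraStruct.comul (R := k) a - a ⊗ₜ[k] (1 : A) ∈
      LinearMap.range ((Cp k A r).subtype.rTensor A) := by
  rw [mem_range_rTensor_iff]
  intro g
  rw [mem_Cp_succ] at ha
  have h2 : (g - g 1 • CoalgebraStruct.counit (R := k) (A := A)) 1 = 0 := by
    simp [Bialgebra.counit_one]
  have h3 := ha _ h2
  have h5 : g = (g - g 1 • CoalgebraStruct.counit (R := k) (A := A)) +
      g 1 • CoalgebraStruct.counit (R := k) (A := A) := by abel
  have h6 : slice A g (CoalgebraStruct.comul (R := k) a - a ⊗ₜ[k] (1 : A)) =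
      T (V := A) (g - g 1 • CoalgebraStruct.counit (R := k) (A := A)) a := by
    rw [map_sub, slice_tmul]
    have h7 : slice A g (CoalgebraStruct.comul (R := k) a) = T (V := A) g a := rfl
    rw [h7]
    conv_lhs => rw [h5]
    rw [T_add, T_smul, T_counit]
    simp
  rw [h6]
  exact h3

/-- A bialgebra all of whose elements lie in the filtration `Cp` is unipotent. -/
theorem isUnipotent_of_forall_mem_Cp (h : ∀ a : A, ∃ m, a ∈ Cp k A m) : IsUnipotent k A := by
  apply isUnipotent_of_exists_cofilt
  refine ⟨fun r => Cp k A (r + 1), fun x y hxy => Cp_mono (Nat.succ_le_succ hxy), Cp_one, ?_,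
    fun r => comul_Cp_le r⟩
  rw [eq_top_iff]
  intro a _
  obtain ⟨m, hm⟩ := h a
  exact Submodule.mem_iSup_of_mem m (Cp_le_succ m hm)

end CpField

section ResNat

variable (R : Type u) (K : Type v) (D : Type w) [CommRing R] [CommRing K] [Algebra R K]
  [AddCommGroup D] [Module R D] [Coalgebra R D]
  {W : Type w'} [AddCommGroup W] [Module R W] [Module K W] [IsScalarTower R K W]
  {W' : Type w'} [AddCommGroup W'] [Module R W'] [Module K W'] [IsScalarTower R K W']

theorem resIota_rTensor (g : W' →ₗ[K] W) (y : W' ⊗[R] D) :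
    resIota R K D W ((g.restrictScalars R).rTensor D y) =
      g.rTensor (K ⊗[R] D) (resIota R K D W' y) := by
  induction y using TensorProduct.induction_on with
  | zero => simp
  | add x y hx hy => simp only [map_add, hx, hy]
  | tmul c d =>
    rw [LinearMap.rTensor_tmul, resIota_tmul, resIota_tmul, LinearMap.rTensor_tmul]
    rfl

theorem resIota_mk_rTensor (z : D ⊗[R] D) :
    resIota R K D (K ⊗[R] D) ((TensorProduct.mk R K D 1).rTensor D z) = bcMapG R K D D z := by
  induction z using TensorProduct.induction_on with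
  | zero => simp
  | add x y hx hy => simp only [map_add, hx, hy]
  | tmul c d =>
    rw [LinearMap.rTensor_tmul, resIota_tmul, bcMapG_tmul]
    rfl

end ResNat

section Specialize

variable (R : Type u) [CommRing R] (K : Type u) [Field K] [Algebra R K]
  (κ : Type u) [Field κ] [Algebra R κ]
  (H : Type u) [CommRing H] [Bialgebra R H] [Module.Flat R H]

/-- The filtration `Cp` specialises: if `1 ⊗ h ∈ Cp m` over `K` then also over `κ`. -/
theorem one_tmul_mem_Cp (hinj : Function.Injective (algebraMap R K)) (m : ℕ) :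
    ∀ h : H, (1 : K) ⊗ₜ[R] h ∈ Cp K (K ⊗[R] H) m → (1 : κ) ⊗ₜ[R] h ∈ Cp κ (κ ⊗[R] H) m := by
  induction m with
  | zero =>
    intro h hh
    have h0 : (1 : K) ⊗ₜ[R] h = 0 := by simpa [Cp] using hh
    have hi := Algebra.TensorProduct.includeRight_injective (R := R) (A := K) (B := H) hinj
    have h1 : h = 0 := by
      apply hi
      rw [map_zero]
      exact h0
    rw [h1, TensorProduct.tmul_zero]
    exact Submodule.zero_mem _
  | succ m ih =>
    intro h hh
    set ιK : H →ₗ[R] K ⊗[R] H := TensorProduct.mk R K H 1 with hιK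
    set gK : ↥(Cp K (K ⊗[R] H) m) →ₗ[K] K ⊗[R] H := (Cp K (K ⊗[R] H) m).subtype with hgK
    set g : ↥(Cp K (K ⊗[R] H) m) →ₗ[R] K ⊗[R] H := gK.restrictScalars R with hg
    set z : H ⊗[R] H := CoalgebraStruct.comul (R := R) h - h ⊗ₜ[R] (1 : H) with hzdef
    have hz : ιK.rTensor H z ∈ LinearMap.range (g.rTensor H) := by
      obtain ⟨y, hy⟩ := comul_sub_tmul_one_mem hh
      refine ⟨(resIota R K H _).symm y, ?_⟩
      apply (resIota R K H (K ⊗[R] H)).injective
      rw [hg, resIota_rTensor, LinearEquiv.apply_symm_apply, hy, hιK, resIota_mk_rTensor, hzdef,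
        map_sub, ← comul_one_tmul', bcMapG_tmul]
      rfl
    set M : Submodule R H := (LinearMap.range g).comap ιK with hM
    have hzM : z ∈ LinearMap.range (M.subtype.rTensor H) := mem_range_rTensor_comap ιK g z hz
    obtain ⟨w, hw⟩ := hzM
    rw [mem_Cp_succ]
    intro f hf
    have key : ∀ w : ↥M ⊗[R] H,
        slice (κ ⊗[R] H) f (bcMapG R κ H H (M.subtype.rTensor H w)) ∈ Cp κ (κ ⊗[R] H) m := by
      intro w
      induction w using TensorProduct.induction_on with
      | zero => simp
      | add x y hx hy =>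
        simp only [map_add]
        exact Submodule.add_mem _ hx hy
      | tmul c d =>
        rw [LinearMap.rTensor_tmul, bcMapG_tmul, slice_tmul]
        apply Submodule.smul_mem
        apply ih
        obtain ⟨c', hc'⟩ := c.2
        have : (1 : K) ⊗ₜ[R] (c : H) = (c' : K ⊗[R] H) := hc'.symm
        rw [Submodule.subtype_apply, this]
        exact c'.2
    have hΔ : CoalgebraStruct.comul (R := κ) ((1 : κ) ⊗ₜ[R] h) =
        bcMapG R κ H H (M.subtype.rTensor H w) +
          ((1 : κ) ⊗ₜ[R] h) ⊗ₜ[κ] (1 : κ ⊗[R] H) := by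
      have hcomul : CoalgebraStruct.comul (R := R) h =
          M.subtype.rTensor H w + h ⊗ₜ[R] (1 : H) := by
        rw [hw, hzdef]
        abel
      rw [comul_one_tmul', hcomul, map_add, bcMapG_tmul, Algebra.TensorProduct.one_def]
    rw [T_apply]
    change slice (κ ⊗[R] H) f (CoalgebraStruct.comul (R := κ) ((1 : κ) ⊗ₜ[R] h)) ∈ _
    rw [hΔ, map_add, slice_tmul, hf, zero_smul, add_zero]
    exact key w

/-- Unipotence specialises along flat bialgebras. -/
theorem isUnipotent_specialize (hinj : Function.Injective (algebraMap R K))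
    (hK : IsUnipotent K (K ⊗[R] H)) : IsUnipotent κ (κ ⊗[R] H) := by
  apply isUnipotent_of_forall_mem_Cp
  intro x
  induction x using TensorProduct.induction_on with
  | zero => exact ⟨0, Submodule.zero_mem _⟩
  | add x y hx hy =>
    obtain ⟨m, hm⟩ := hx
    obtain ⟨m', hm'⟩ := hy
    exact ⟨max m m', Submodule.add_mem _ (Cp_mono (le_max_left _ _) hm)
      (Cp_mono (le_max_right _ _) hm')⟩
  | tmul c h =>
    obtain ⟨m, hm⟩ := mem_Cp_of_trivFlag hK ((1 : K) ⊗ₜ[R] h)
    refine ⟨m, ?_⟩
    have e : c ⊗ₜ[R] h = c • ((1 : κ) ⊗ₜ[R] h) := by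
      rw [TensorProduct.smul_tmul', smul_eq_mul, mul_one]
    rw [e]
    exact Submodule.smul_mem _ _ (one_tmul_mem_Cp R K κ H hinj m h hm)

end Specialize

end Groth.Agent.Lib.Helper25.Spec
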