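import Groth.Agent.Lib.Helper25SprA

/-!
# Algebra maps from finitely presented algebras and localisation (helper25)

`exists_away_algHom_lift`: a map from a finitely presented `B`-algebra to `T ⊗ N` (`T` a
localisation of `B` at `S`) lifts to `B_s ⊗ N` for some `s ∈ S`.
`exists_away_algHom_eq`: two maps from a finitely generated `B`-algebra to `B_s ⊗ N` which agree in
`T ⊗ N` agree in `B_{s'} ⊗ N`.
-/

set_option autoImplicit false
set_option linter.unusedSectionVars false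
set_option linter.style.haveILetI false
universe u

namespace Groth.Agent.Lib.Helper25.Spr

open TensorProduct

section L

variable {B : Type u} [CommRing B] (S : Submonoid B) (T : Type u) [CommRing T] [Algebra B T]
  [IsLocalization S T] (N : Type u) [CommRing N] [Algebra B N]

/-- base change of a `B`-algebra map `f : T₁ → T₂` to `T₁ ⊗ N → T₂ ⊗ N` -/
noncomputable abbrev tmap {T₁ T₂ : Type u} [CommRing T₁] [Algebra B T₁] [CommRing T₂] [Algebra B T₂]
    (f : T₁ →ₐ[B] T₂) : T₁ ⊗[B] N →ₐ[B] T₂ ⊗[B] N :=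
  Algebra.TensorProduct.map f (AlgHom.id B N)

theorem tmap_eq_rTensor {T₁ T₂ : Type u} [CommRing T₁] [Algebra B T₁] [CommRing T₂] [Algebra B T₂]
    (f : T₁ →ₐ[B] T₂) (x : T₁ ⊗[B] N) : tmap N f x = LinearMap.rTensor N f.toLinearMap x := rfl

theorem tmap_tmap {T₁ T₂ T₃ : Type u} [CommRing T₁] [Algebra B T₁] [CommRing T₂] [Algebra B T₂]
    [CommRing T₃] [Algebra B T₃] (f : T₁ →ₐ[B] T₂) (g : T₂ →ₐ[B] T₃) (x : T₁ ⊗[B] N) :
    tmap N g (tmap N f x) = tmap N (g.comp f) x := by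
  induction x using TensorProduct.induction_on with
  | zero => simp
  | add x y hx hy => simp only [map_add, hx, hy]
  | tmul s n => simp

theorem exists_away_mem_range' (u : T ⊗[B] N) :
    ∃ s ∈ S, ∀ s' ∈ S, s ∣ s' → ∀ σ : Localization.Away s' →ₐ[B] T,
      ∃ v : Localization.Away s' ⊗[B] N, tmap N σ v = u :=
  exists_away_mem_range S T N u

theorem exists_away_eq_zero' {s : B} (σ : Localization.Away s →ₐ[B] T)
    (d : Localization.Away s ⊗[B] N) (hd : tmap N σ d = 0) :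
    ∃ t ∈ S, ∀ s' ∈ S, t ∣ s' → ∀ τ : Localization.Away s →ₐ[B] Localization.Away s',
      tmap N τ d = 0 :=
  exists_away_eq_zero S T N σ d hd

/-- **L1: lifting to a finite stage.** -/
theorem exists_away_algHom_lift (X : Type u) [CommRing X] [Algebra B X]
    (hfp : Algebra.FinitePresentation B X) (φ : X →ₐ[B] T ⊗[B] N) :
    ∃ s ∈ S, ∀ s' ∈ S, s ∣ s' → ∀ σ : Localization.Away s' →ₐ[B] T,
      ∃ ψ : X →ₐ[B] Localization.Away s' ⊗[B] N, ∀ x, tmap N σ (ψ x) = φ x := by
  classical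
  obtain ⟨n, f, hf, r, hr⟩ := hfp.out
  -- lift the images of the variables
  obtain ⟨sa, hsa, h1⟩ := exists_forall_finset S (Finset.univ : Finset (Fin n))
    (fun j s' => ∀ σ : Localization.Away s' →ₐ[B] T,
      ∃ v : Localization.Away s' ⊗[B] N, tmap N σ v = φ (f (MvPolynomial.X j)))
    (fun j _ => by
      obtain ⟨s, hs, h⟩ := exists_away_mem_range' S T N (φ (f (MvPolynomial.X j)))
      exact ⟨s, hs, fun s' hs' hd σ => h s' hs' hd σ⟩)
  obtain ⟨σa⟩ := exists_awayHom sa T (IsLocalization.map_units T ⟨sa, hsa⟩)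
  have h1' : ∀ j : Fin n, ∃ y : Localization.Away sa ⊗[B] N,
      tmap N σa y = φ (f (MvPolynomial.X j)) :=
    fun j => h1 sa hsa dvd_rfl j (Finset.mem_univ j) σa
  choose y hy using h1'
  let ψ₀ : MvPolynomial (Fin n) B →ₐ[B] Localization.Away sa ⊗[B] N := MvPolynomial.aeval y
  have hψ₀ : ∀ p, tmap N σa (ψ₀ p) = φ (f p) := by
    intro p
    have : (tmap N σa).comp ψ₀ = φ.comp f := by
      apply MvPolynomial.algHom_ext
      intro j
      simp only [AlgHom.comp_apply, ψ₀, MvPolynomial.aeval_X]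
      exact hy j
    exact congrArg (fun F => F p) this
  -- kill the relations
  have hrker : ∀ q ∈ r, f q = 0 := by
    intro q hq
    have : q ∈ RingHom.ker f.toRingHom := hr ▸ Ideal.subset_span hq
    exact this
  obtain ⟨sb, hsb, h2⟩ := exists_forall_finset S r
    (fun q s' => ∀ τ : Localization.Away sa →ₐ[B] Localization.Away s', tmap N τ (ψ₀ q) = 0)
    (fun q hq => exists_away_eq_zero' S T N σa (ψ₀ q) (by rw [hψ₀, hrker q hq, map_zero]))
  refine ⟨sa * sb, S.mul_mem hsa hsb, fun s' hs' hdvd σ => ?_⟩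
  obtain ⟨τ⟩ := exists_awayHom_of_dvd (dvd_trans (dvd_mul_right sa sb) hdvd)
  let ψ₁ : MvPolynomial (Fin n) B →ₐ[B] Localization.Away s' ⊗[B] N := (tmap N τ).comp ψ₀
  have hkill : RingHom.ker f.toRingHom ≤ RingHom.ker ψ₁.toRingHom := by
    rw [← hr, Ideal.span_le]
    intro q hq
    exact h2 s' hs' (dvd_trans (dvd_mul_left sb sa) hdvd) q hq τ
  refine ⟨AlgHom.liftOfSurjective f hf ψ₁ hkill, fun b => ?_⟩
  obtain ⟨p, rfl⟩ := hf b
  rw [AlgHom.liftOfSurjective_apply]
  change tmap N σ (tmap N τ (ψ₀ p)) = _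
  rw [tmap_tmap, awayHom_eq (σ.comp τ) σa, hψ₀]

/-- **L2: equality at a finite stage.** -/
theorem exists_away_algHom_eq (X : Type u) [CommRing X] [Algebra B X]
    (hft : Algebra.FiniteType B X) {s : B} (σ : Localization.Away s →ₐ[B] T)
    (ψ₁ ψ₂ : X →ₐ[B] Localization.Away s ⊗[B] N)
    (h : ∀ x, tmap N σ (ψ₁ x) = tmap N σ (ψ₂ x)) :
    ∃ t ∈ S, ∀ s' ∈ S, t ∣ s' → ∀ τ : Localization.Away s →ₐ[B] Localization.Away s',
      ∀ x, tmap N τ (ψ₁ x) = tmap N τ (ψ₂ x) := by
  classical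
  obtain ⟨G, hG⟩ := hft.out
  obtain ⟨t, ht, h2⟩ := exists_forall_finset S G
    (fun g s' => ∀ τ : Localization.Away s →ₐ[B] Localization.Away s',
      tmap N τ (ψ₁ g - ψ₂ g) = 0)
    (fun g _ => exists_away_eq_zero' S T N σ (ψ₁ g - ψ₂ g) (by rw [map_sub, h g, sub_self]))
  refine ⟨t, ht, fun s' hs' hdvd τ => ?_⟩
  have : (tmap N τ).comp ψ₁ = (tmap N τ).comp ψ₂ := by
    apply AlgHom.ext_of_adjoin_eq_top hG
    intro g hg
    have := h2 s' hs' hdvd g hg τ
    rw [map_sub, sub_eq_zero] at this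
    exact this
  intro x
  exact congrArg (fun F => F x) this

end L

end Groth.Agent.Lib.Helper25.Spr
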