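import Groth.Agent.Lib.Helper25SprB
import Groth.Agent.Lib.Helper25HDescI

/-!
# Bialgebra maps `T ⊗ H₁ → T ⊗ H₂` in relative form (helper25)

A `T`-algebra map `T ⊗ H₁ → T ⊗ H₂` is given by a `B`-algebra map `ψ : H₁ → T ⊗ H₂`.  We express
compatibility with comultiplication and counit by equalities of `B`-algebra maps out of `H₁` with
values in `T ⊗ (H₂ ⊗ H₂)` and `T ⊗ B`, natural in `T`.
-/

set_option autoImplicit false
set_option linter.unusedSectionVars false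
set_option linter.style.haveILetI false
universe u

namespace Groth.Agent.Lib.Helper25.Spr

open TensorProduct Groth.Agent.Lib.Helper25.HDesc

section Rel

variable {B : Type u} [CommRing B] {H₁ H₂ : Type u} [CommRing H₁] [CommRing H₂]
  [HopfAlgebra B H₁] [HopfAlgebra B H₂]
  (T' : Type u) [CommRing T'] [Algebra B T']

/-- `t ⊗ h ↦ t ⊗ (h ⊗ 1)`. -/
noncomputable def ι₁ : T' ⊗[B] H₂ →ₐ[B] T' ⊗[B] (H₂ ⊗[B] H₂) :=
  Algebra.TensorProduct.map (AlgHom.id B T') Algebra.TensorProduct.includeLeft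

/-- `t ⊗ h ↦ t ⊗ (1 ⊗ h)`. -/
noncomputable def ι₂ : T' ⊗[B] H₂ →ₐ[B] T' ⊗[B] (H₂ ⊗[B] H₂) :=
  Algebra.TensorProduct.map (AlgHom.id B T') Algebra.TensorProduct.includeRight

@[simp] theorem ι₁_tmul (t : T') (h : H₂) :
    ι₁ (B := B) T' (t ⊗ₜ[B] h) = t ⊗ₜ[B] (h ⊗ₜ[B] (1 : H₂)) := by
  simp [ι₁]

@[simp] theorem ι₂_tmul (t : T') (h : H₂) :
    ι₂ (B := B) T' (t ⊗ₜ[B] h) = t ⊗ₜ[B] ((1 : H₂) ⊗ₜ[B] h) := by
  simp [ι₂]

/-- `a ⊗ b ↦ ψ a · ψ b` with values in `T ⊗ (H₂ ⊗ H₂)`. -/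
noncomputable def m₂ (ψ : H₁ →ₐ[B] T' ⊗[B] H₂) : H₁ ⊗[B] H₁ →ₐ[B] T' ⊗[B] (H₂ ⊗[B] H₂) :=
  Algebra.TensorProduct.productMap ((ι₁ T').comp ψ) ((ι₂ T').comp ψ)

theorem m₂_tmul (ψ : H₁ →ₐ[B] T' ⊗[B] H₂) (a b : H₁) :
    m₂ T' ψ (a ⊗ₜ[B] b) = ι₁ T' (ψ a) * ι₂ T' (ψ b) := by
  simp [m₂, Algebra.TensorProduct.productMap_apply_tmul]

/-- `id ⊗ Δ₂` -/
noncomputable def idΔ : T' ⊗[B] H₂ →ₐ[T'] T' ⊗[B] (H₂ ⊗[B] H₂) :=
  Algebra.TensorProduct.map (AlgHom.id T' T') (Bialgebra.comulAlgHom B H₂)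

/-- `id ⊗ ε₂` -/
noncomputable def idε : T' ⊗[B] H₂ →ₐ[T'] T' ⊗[B] B :=
  Algebra.TensorProduct.map (AlgHom.id T' T') (Bialgebra.counitAlgHom B H₂)

@[simp] theorem idΔ_tmul (t : T') (h : H₂) :
    idΔ (B := B) T' (t ⊗ₜ[B] h) = t ⊗ₜ[B] Coalgebra.comul (R := B) h := by
  simp [idΔ]

@[simp] theorem idε_tmul (t : T') (h : H₂) :
    idε (B := B) T' (t ⊗ₜ[B] h) = t ⊗ₜ[B] Coalgebra.counit (R := B) h := by
  simp [idε]

noncomputable def cL (ψ : H₁ →ₐ[B] T' ⊗[B] H₂) : H₁ →ₐ[B] T' ⊗[B] (H₂ ⊗[B] H₂) :=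
  ((idΔ (B := B) (H₂ := H₂) T').restrictScalars B).comp ψ

noncomputable def cR (ψ : H₁ →ₐ[B] T' ⊗[B] H₂) : H₁ →ₐ[B] T' ⊗[B] (H₂ ⊗[B] H₂) :=
  (m₂ T' ψ).comp (Bialgebra.comulAlgHom B H₁)

noncomputable def eL (ψ : H₁ →ₐ[B] T' ⊗[B] H₂) : H₁ →ₐ[B] T' ⊗[B] B :=
  ((idε (B := B) (H₂ := H₂) T').restrictScalars B).comp ψ

variable (H₁) in
noncomputable def eR : H₁ →ₐ[B] T' ⊗[B] B :=
  (Algebra.TensorProduct.includeRight).comp (Bialgebra.counitAlgHom B H₁)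

theorem cL_apply (ψ : H₁ →ₐ[B] T' ⊗[B] H₂) (a : H₁) : cL T' ψ a = idΔ T' (ψ a) := rfl
theorem cR_apply (ψ : H₁ →ₐ[B] T' ⊗[B] H₂) (a : H₁) :
    cR T' ψ a = m₂ T' ψ (Coalgebra.comul (R := B) a) := rfl
theorem eL_apply (ψ : H₁ →ₐ[B] T' ⊗[B] H₂) (a : H₁) : eL T' ψ a = idε T' (ψ a) := rfl
theorem eR_apply (a : H₁) :
    eR (B := B) H₁ T' a = (1 : T') ⊗ₜ[B] Coalgebra.counit (R := B) a := rfl

/-- `ψ` is compatible with comultiplications and counits. -/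
structure IsRel (ψ : H₁ →ₐ[B] T' ⊗[B] H₂) : Prop where
  comul : cL T' ψ = cR T' ψ
  counit : eL T' ψ = eR H₁ T'

/-- The `T`-algebra map `T ⊗ H₁ → T ⊗ H₂` defined by `ψ`. -/
noncomputable def bc (ψ : H₁ →ₐ[B] T' ⊗[B] H₂) : T' ⊗[B] H₁ →ₐ[T'] T' ⊗[B] H₂ :=
  Algebra.TensorProduct.lift (Algebra.ofId T' _) ψ (fun _ _ => Commute.all _ _)

theorem bc_tmul (ψ : H₁ →ₐ[B] T' ⊗[B] H₂) (t : T') (a : H₁) :
    bc T' ψ (t ⊗ₜ[B] a) = t • ψ a := by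
  change Algebra.TensorProduct.lift (Algebra.ofId T' _) ψ (fun _ _ => Commute.all _ _)
    (t ⊗ₜ[B] a) = _
  rw [Algebra.TensorProduct.lift_tmul, Algebra.smul_def]
  rfl

theorem bc_one_tmul (ψ : H₁ →ₐ[B] T' ⊗[B] H₂) (a : H₁) :
    bc T' ψ ((1 : T') ⊗ₜ[B] a) = ψ a := by
  rw [bc_tmul, one_smul]

end Rel

section Nat

variable {B : Type u} [CommRing B] {H₁ H₂ : Type u} [CommRing H₁] [CommRing H₂]
  [HopfAlgebra B H₁] [HopfAlgebra B H₂]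
  {T₁ T₂ : Type u} [CommRing T₁] [Algebra B T₁] [CommRing T₂] [Algebra B T₂] (τ : T₁ →ₐ[B] T₂)

theorem tmap_smul (N : Type u) [CommRing N] [Algebra B N] (t : T₁) (w : T₁ ⊗[B] N) :
    tmap N τ (t • w) = τ t • tmap N τ w := by
  induction w using TensorProduct.induction_on with
  | zero => simp
  | add x y hx hy => simp only [smul_add, map_add, hx, hy]
  | tmul s n =>
    rw [TensorProduct.smul_tmul', smul_eq_mul]
    simp only [tmap, Algebra.TensorProduct.map_tmul, map_mul, AlgHom.coe_id, id_eq]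
    rw [TensorProduct.smul_tmul', smul_eq_mul]

theorem tmap_idΔ (z : T₁ ⊗[B] H₂) :
    tmap (H₂ ⊗[B] H₂) τ (idΔ T₁ z) = idΔ T₂ (tmap H₂ τ z) := by
  induction z using TensorProduct.induction_on with
  | zero => simp
  | add x y hx hy => simp only [map_add, hx, hy]
  | tmul t h => simp [tmap]

theorem tmap_idε (z : T₁ ⊗[B] H₂) :
    tmap B τ (idε T₁ z) = idε T₂ (tmap H₂ τ z) := by
  induction z using TensorProduct.induction_on with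
  | zero => simp
  | add x y hx hy => simp only [map_add, hx, hy]
  | tmul t h => simp [tmap]

theorem tmap_ι₁ (z : T₁ ⊗[B] H₂) :
    tmap (H₂ ⊗[B] H₂) τ (ι₁ T₁ z) = ι₁ T₂ (tmap H₂ τ z) := by
  induction z using TensorProduct.induction_on with
  | zero => simp
  | add x y hx hy => simp only [map_add, hx, hy]
  | tmul t h => simp [tmap]

theorem tmap_ι₂ (z : T₁ ⊗[B] H₂) :
    tmap (H₂ ⊗[B] H₂) τ (ι₂ T₁ z) = ι₂ T₂ (tmap H₂ τ z) := by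
  induction z using TensorProduct.induction_on with
  | zero => simp
  | add x y hx hy => simp only [map_add, hx, hy]
  | tmul t h => simp [tmap]

variable (ψ : H₁ →ₐ[B] T₁ ⊗[B] H₂)

theorem tmap_m₂ (w : H₁ ⊗[B] H₁) :
    tmap (H₂ ⊗[B] H₂) τ (m₂ T₁ ψ w) = m₂ T₂ ((tmap H₂ τ).comp ψ) w := by
  induction w using TensorProduct.induction_on with
  | zero => simp
  | add x y hx hy => simp only [map_add, hx, hy]
  | tmul a b =>
    rw [m₂_tmul, m₂_tmul, map_mul, tmap_ι₁, tmap_ι₂]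
    rfl

theorem cL_comp : cL T₂ ((tmap H₂ τ).comp ψ) = (tmap (H₂ ⊗[B] H₂) τ).comp (cL T₁ ψ) := by
  apply AlgHom.ext
  intro a
  change idΔ T₂ (tmap H₂ τ (ψ a)) = tmap (H₂ ⊗[B] H₂) τ (idΔ T₁ (ψ a))
  rw [tmap_idΔ]

theorem cR_comp : cR T₂ ((tmap H₂ τ).comp ψ) = (tmap (H₂ ⊗[B] H₂) τ).comp (cR T₁ ψ) := by
  apply AlgHom.ext
  intro a
  change m₂ T₂ ((tmap H₂ τ).comp ψ) _ = tmap (H₂ ⊗[B] H₂) τ (m₂ T₁ ψ _)
  rw [tmap_m₂]

theorem eL_comp : eL T₂ ((tmap H₂ τ).comp ψ) = (tmap B τ).comp (eL T₁ ψ) := by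
  apply AlgHom.ext
  intro a
  change idε T₂ (tmap H₂ τ (ψ a)) = tmap B τ (idε T₁ (ψ a))
  rw [tmap_idε]

theorem eR_comp : eR (B := B) H₁ T₂ = (tmap B τ).comp (eR H₁ T₁) := by
  apply AlgHom.ext
  intro a
  change (1 : T₂) ⊗ₜ[B] _ = tmap B τ ((1 : T₁) ⊗ₜ[B] _)
  simp [tmap]

theorem isRel_comp (h : IsRel T₁ ψ) : IsRel T₂ ((tmap H₂ τ).comp ψ) where
  comul := by rw [cL_comp, cR_comp, h.comul]
  counit := by rw [eL_comp, eR_comp τ, h.counit]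

theorem tmap_bc (z : T₁ ⊗[B] H₁) :
    tmap H₂ τ (bc T₁ ψ z) = bc T₂ ((tmap H₂ τ).comp ψ) (tmap H₁ τ z) := by
  induction z using TensorProduct.induction_on with
  | zero => simp
  | add x y hx hy => simp only [map_add, hx, hy]
  | tmul t a =>
    rw [bc_tmul, tmap_smul]
    change _ = bc T₂ _ (τ t ⊗ₜ[B] a)
    rw [bc_tmul]
    rfl

end Nat

end Groth.Agent.Lib.Helper25.Spr
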