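import Groth.Agent.Lib.Helper25SprC

/-!
# Relative bialgebra maps versus bialgebra maps of base changes (helper25)
-/

set_option autoImplicit false
set_option linter.unusedSectionVars false
set_option linter.style.haveILetI false
universe u

namespace Groth.Agent.Lib.Helper25.Spr

open TensorProduct Groth.Agent.Lib.Helper25.HDesc

section Bridge

variable {B : Type u} [CommRing B] {H₁ H₂ : Type u} [CommRing H₁] [CommRing H₂]
  [HopfAlgebra B H₁] [HopfAlgebra B H₂]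
  (T' : Type u) [CommRing T'] [Algebra B T']

theorem L₂_tmul (t : T') (w : H₂ ⊗[B] H₂) :
    L₂ (K := B) (A := H₂) T' (t ⊗ₜ[B] w) = t • map₂ T' (inclR (K := B) (A := H₂) T') w := by
  rw [L₂_apply, Λ₂_tmul]

theorem L₂_injective : Function.Injective (L₂ (K := B) (A := H₂) T') := by
  have h := Λ₂_injective (K := B) (A := H₂) (T := T') (B := T' ⊗[B] H₂) AlgEquiv.refl
    (inclR T') (fun a => rfl)
  intro x y hxy
  rw [L₂_apply, L₂_apply] at hxy
  exact h hxy

theorem comul_eq_L₂ (z : T' ⊗[B] H₂) :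
    Coalgebra.comul (R := T') z = L₂ (K := B) (A := H₂) T' (idΔ (B := B) (H₂ := H₂) T' z) := by
  have key : Bialgebra.comulAlgHom T' (T' ⊗[B] H₂) =
      (L₂ (K := B) (A := H₂) T').comp (idΔ (B := B) (H₂ := H₂) T') := by
    apply algHom_ext_one_tmul
    intro h
    have h1 := (isHom_inclR_ofHopf B T' H₂).comul h
    change Coalgebra.comul (R := T') ((1 : T') ⊗ₜ[B] h) = L₂ T' (idΔ T' ((1 : T') ⊗ₜ[B] h))
    rw [idΔ_tmul, L₂_one_tmul]
    exact h1
  exact congrArg (fun F => F z) key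

theorem L₂_ι₁ (z : T' ⊗[B] H₂) :
    L₂ T' (ι₁ T' z) = z ⊗ₜ[T'] (1 : T' ⊗[B] H₂) := by
  induction z using TensorProduct.induction_on with
  | zero => simp
  | add x y hx hy => simp only [map_add, hx, hy, TensorProduct.add_tmul]
  | tmul t h =>
    rw [ι₁_tmul, L₂_tmul, map₂_tmul]
    change t • (((1 : T') ⊗ₜ[B] h) ⊗ₜ[T'] ((1 : T') ⊗ₜ[B] (1 : H₂))) = _
    rw [TensorProduct.smul_tmul', TensorProduct.smul_tmul', smul_eq_mul, mul_one]
    rfl

theorem L₂_ι₂ (z : T' ⊗[B] H₂) :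
    L₂ T' (ι₂ T' z) = (1 : T' ⊗[B] H₂) ⊗ₜ[T'] z := by
  induction z using TensorProduct.induction_on with
  | zero => simp
  | add x y hx hy => simp only [map_add, hx, hy, TensorProduct.tmul_add]
  | tmul t h =>
    rw [ι₂_tmul, L₂_tmul, map₂_tmul]
    change t • (((1 : T') ⊗ₜ[B] (1 : H₂)) ⊗ₜ[T'] ((1 : T') ⊗ₜ[B] h)) = _
    rw [← TensorProduct.tmul_smul, TensorProduct.smul_tmul', smul_eq_mul, mul_one]
    rfl

theorem L₂_m₂ (ψ : H₁ →ₐ[B] T' ⊗[B] H₂) (w : H₁ ⊗[B] H₁) :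
    L₂ T' (m₂ T' ψ w) = map₂ T' ψ w := by
  induction w using TensorProduct.induction_on with
  | zero => simp
  | add x y hx hy => simp only [map_add, hx, hy]
  | tmul a b =>
    rw [m₂_tmul, map_mul, L₂_ι₁, L₂_ι₂, Algebra.TensorProduct.tmul_mul_tmul, mul_one, one_mul,
      map₂_tmul]

theorem counit_eq_rid (z : T' ⊗[B] H₂) :
    Coalgebra.counit (R := T') z = Algebra.TensorProduct.rid B T' T' (idε T' z) := by
  induction z using TensorProduct.induction_on with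
  | zero => simp
  | add x y hx hy => simp only [map_add, hx, hy]
  | tmul t h =>
    rw [idε_tmul, Algebra.TensorProduct.rid_tmul, TensorProduct.counit_tmul,
      CommSemiring.counit_apply]

/-- Relative compatibility implies compatibility with the counits. -/
theorem bc_counit (ψ : H₁ →ₐ[B] T' ⊗[B] H₂) (h : IsRel T' ψ) :
    (Bialgebra.counitAlgHom T' (T' ⊗[B] H₂)).comp (bc T' ψ) =
      Bialgebra.counitAlgHom T' (T' ⊗[B] H₁) := by
  apply algHom_ext_one_tmul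
  intro a
  change Coalgebra.counit (R := T') (bc T' ψ ((1 : T') ⊗ₜ[B] a)) =
    Coalgebra.counit (R := T') ((1 : T') ⊗ₜ[B] a)
  rw [bc_one_tmul, counit_eq_rid, ← eL_apply, h.counit, eR_apply,
    Algebra.TensorProduct.rid_tmul, TensorProduct.counit_tmul, CommSemiring.counit_apply]

/-- Relative compatibility implies compatibility with the comultiplications. -/
theorem bc_comul (ψ : H₁ →ₐ[B] T' ⊗[B] H₂) (h : IsRel T' ψ) :
    (Algebra.TensorProduct.map (bc T' ψ) (bc T' ψ)).comp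
        (Bialgebra.comulAlgHom T' (T' ⊗[B] H₁)) =
      (Bialgebra.comulAlgHom T' (T' ⊗[B] H₂)).comp (bc T' ψ) := by
  apply algHom_ext_one_tmul
  intro a
  have h1 := (isHom_inclR_ofHopf B T' H₁).comul a
  change Algebra.TensorProduct.map (bc T' ψ) (bc T' ψ)
      (Coalgebra.comul (R := T') ((1 : T') ⊗ₜ[B] a)) =
    Coalgebra.comul (R := T') (bc T' ψ ((1 : T') ⊗ₜ[B] a))
  have h2 : Coalgebra.comul (R := T') ((1 : T') ⊗ₜ[B] a) =
      map₂ T' (inclR (K := B) (A := H₁) T') (Coalgebra.comul (R := B) a) := h1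
  rw [h2, ← map₂_self, map₂_comp (inclR (K := B) (A := H₁) T') ψ (bc T' ψ)
    (fun a => bc_one_tmul T' ψ a), bc_one_tmul, comul_eq_L₂, ← cL_apply, h.comul, cR_apply,
    L₂_m₂]

/-- The bialgebra isomorphism defined by relative data inverse to each other. -/
theorem nonempty_bialgEquiv_of_isRel (ψ : H₁ →ₐ[B] T' ⊗[B] H₂) (θ : H₂ →ₐ[B] T' ⊗[B] H₁)
    (h : IsRel T' ψ) (h₁ : ∀ a, bc T' θ (ψ a) = (1 : T') ⊗ₜ[B] a)
    (h₂ : ∀ b, bc T' ψ (θ b) = (1 : T') ⊗ₜ[B] b) :
    Nonempty (T' ⊗[B] H₁ ≃ₐc[T'] T' ⊗[B] H₂) := by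
  have e1 : (bc T' θ).comp (bc T' ψ) = AlgHom.id T' _ := by
    apply algHom_ext_one_tmul
    intro a
    change bc T' θ (bc T' ψ ((1 : T') ⊗ₜ[B] a)) = _
    rw [bc_one_tmul, h₁]
    rfl
  have e2 : (bc T' ψ).comp (bc T' θ) = AlgHom.id T' _ := by
    apply algHom_ext_one_tmul
    intro b
    change bc T' ψ (bc T' θ ((1 : T') ⊗ₜ[B] b)) = _
    rw [bc_one_tmul, h₂]
    rfl
  exact ⟨BialgEquiv.ofAlgEquiv (AlgEquiv.ofAlgHom (bc T' ψ) (bc T' θ) e2 e1)
    (bc_counit T' ψ h) (bc_comul T' ψ h)⟩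

/-- The relative datum of a bialgebra isomorphism. -/
noncomputable def relOf (e : T' ⊗[B] H₁ ≃ₐc[T'] T' ⊗[B] H₂) : H₁ →ₐ[B] T' ⊗[B] H₂ :=
  ((e.toAlgEquiv : T' ⊗[B] H₁ →ₐ[T'] T' ⊗[B] H₂).restrictScalars B).comp (inclR T')

theorem relOf_apply (e : T' ⊗[B] H₁ ≃ₐc[T'] T' ⊗[B] H₂) (a : H₁) :
    relOf T' e a = e ((1 : T') ⊗ₜ[B] a) := rfl

theorem bc_relOf (e : T' ⊗[B] H₁ ≃ₐc[T'] T' ⊗[B] H₂) (z : T' ⊗[B] H₁) :
    bc T' (relOf T' e) z = e z := by
  have : bc T' (relOf T' e) = (e.toAlgEquiv : T' ⊗[B] H₁ →ₐ[T'] T' ⊗[B] H₂) := by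
    apply algHom_ext_one_tmul
    intro a
    rw [bc_one_tmul]
    rfl
  exact congrArg (fun F => F z) this

theorem isRel_relOf (e : T' ⊗[B] H₁ ≃ₐc[T'] T' ⊗[B] H₂) : IsRel T' (relOf T' e) where
  comul := by
    apply AlgHom.ext
    intro a
    apply L₂_injective T'
    rw [cL_apply, ← comul_eq_L₂, cR_apply, L₂_m₂, relOf_apply]
    have h1 := (isHom_inclR_ofHopf B T' H₁).comul a
    have h2 : Coalgebra.comul (R := T') ((1 : T') ⊗ₜ[B] a) =
        map₂ T' (inclR (K := B) (A := H₁) T') (Coalgebra.comul (R := B) a) := h1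
    have h4 := CoalgHomClass.map_comp_comul_apply e ((1 : T') ⊗ₜ[B] a)
    rw [← h4, h2]
    generalize Coalgebra.comul (R := B) a = w
    induction w using TensorProduct.induction_on with
    | zero => simp
    | add x y hx hy => simp only [map_add, hx, hy]
    | tmul x y =>
      rw [map₂_tmul, map₂_tmul, TensorProduct.map_tmul]
      rfl
  counit := by
    apply AlgHom.ext
    intro a
    apply (Algebra.TensorProduct.rid B T' T').injective
    rw [eL_apply, ← counit_eq_rid, relOf_apply, CoalgHomClass.counit_comp_apply, eR_apply,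
      Algebra.TensorProduct.rid_tmul, TensorProduct.counit_tmul, CommSemiring.counit_apply]

end Bridge

end Groth.Agent.Lib.Helper25.Spr
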