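import Groth.Agent.Lib.Helper25SprD

/-!
# Descent of bialgebra isomorphisms from a localisation to a principal localisation (helper25)
-/

set_option autoImplicit false
set_option linter.unusedSectionVars false
set_option linter.style.haveILetI false
universe u

namespace Groth.Agent.Lib.Helper25.Spr

open TensorProduct Groth.Agent.Lib.Helper25.HDesc

section Main

variable {B : Type u} [CommRing B] (S : Submonoid B) (T : Type u) [CommRing T] [Algebra B T]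
  [IsLocalization S T]
  (H₁ H₂ : Type u) [CommRing H₁] [CommRing H₂] [HopfAlgebra B H₁] [HopfAlgebra B H₂]

theorem tmap_one_tmul {T₁ T₂ : Type u} [CommRing T₁] [Algebra B T₁] [CommRing T₂] [Algebra B T₂]
    (τ : T₁ →ₐ[B] T₂) (N : Type u) [CommRing N] [Algebra B N] (n : N) :
    tmap N τ ((1 : T₁) ⊗ₜ[B] n) = (1 : T₂) ⊗ₜ[B] n := by
  simp [tmap]

/-- **Descent of isomorphisms.** If two finitely presented Hopf algebras over `B` become isomorphic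
over the localisation `T = S⁻¹B`, they become isomorphic over `B_s` for some `s ∈ S`. -/
theorem exists_away_bialgEquiv (hfp₁ : Algebra.FinitePresentation B H₁)
    (hfp₂ : Algebra.FinitePresentation B H₂) (e : T ⊗[B] H₁ ≃ₐc[T] T ⊗[B] H₂) :
    ∃ s ∈ S, Nonempty (Localization.Away s ⊗[B] H₁ ≃ₐc[Localization.Away s]
      Localization.Away s ⊗[B] H₂) := by
  have hft₁ : Algebra.FiniteType B H₁ := inferInstance
  have hft₂ : Algebra.FiniteType B H₂ := inferInstance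
  let φ : H₁ →ₐ[B] T ⊗[B] H₂ := relOf T e
  let θ : H₂ →ₐ[B] T ⊗[B] H₁ := relOf T e.symm
  have hφ : IsRel T φ := isRel_relOf T e
  -- lift both maps
  obtain ⟨s₁, hs₁, L₁⟩ := exists_away_algHom_lift S T H₂ H₁ hfp₁ φ
  obtain ⟨s₂, hs₂, L₂'⟩ := exists_away_algHom_lift S T H₁ H₂ hfp₂ θ
  have hs₀ : s₁ * s₂ ∈ S := S.mul_mem hs₁ hs₂
  obtain ⟨σ₀⟩ := exists_awayHom (s₁ * s₂) T (IsLocalization.map_units T ⟨s₁ * s₂, hs₀⟩)
  obtain ⟨ψ₀, hψ₀⟩ := L₁ (s₁ * s₂) hs₀ (dvd_mul_right _ _) σ₀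
  obtain ⟨θ₀, hθ₀⟩ := L₂' (s₁ * s₂) hs₀ (dvd_mul_left _ _) σ₀
  have hψ₀' : (tmap H₂ σ₀).comp ψ₀ = φ := AlgHom.ext hψ₀
  have hθ₀' : (tmap H₁ σ₀).comp θ₀ = θ := AlgHom.ext hθ₀
  -- the four equations at the limit
  have E1 : ∀ a, tmap H₁ σ₀ (((bc _ θ₀).restrictScalars B).comp ψ₀ a) =
      tmap H₁ σ₀ ((inclR (K := B) (A := H₁) (Localization.Away (s₁ * s₂))) a) := by
    intro a
    change tmap H₁ σ₀ (bc _ θ₀ (ψ₀ a)) = tmap H₁ σ₀ ((1 : Localization.Away (s₁ * s₂)) ⊗ₜ[B] a)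
    rw [tmap_bc, hθ₀', hψ₀, tmap_one_tmul, bc_relOf, relOf_apply]
    exact e.symm_apply_apply _
  have E2 : ∀ b, tmap H₂ σ₀ (((bc _ ψ₀).restrictScalars B).comp θ₀ b) =
      tmap H₂ σ₀ ((inclR (K := B) (A := H₂) (Localization.Away (s₁ * s₂))) b) := by
    intro b
    change tmap H₂ σ₀ (bc _ ψ₀ (θ₀ b)) = tmap H₂ σ₀ ((1 : Localization.Away (s₁ * s₂)) ⊗ₜ[B] b)
    rw [tmap_bc, hψ₀', hθ₀, tmap_one_tmul, bc_relOf, relOf_apply]
    exact e.apply_symm_apply _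
  have E3 : ∀ a, tmap (H₂ ⊗[B] H₂) σ₀ (cL _ ψ₀ a) = tmap (H₂ ⊗[B] H₂) σ₀ (cR _ ψ₀ a) := by
    intro a
    have h1 := congrArg (fun F => F a) (cL_comp σ₀ ψ₀)
    have h2 := congrArg (fun F => F a) (cR_comp σ₀ ψ₀)
    simp only [AlgHom.comp_apply] at h1 h2
    rw [← h1, ← h2, hψ₀', hφ.comul]
  have E4 : ∀ a, tmap B σ₀ (eL _ ψ₀ a) = tmap B σ₀ (eR H₁ _ a) := by
    intro a
    have h1 := congrArg (fun F => F a) (eL_comp σ₀ ψ₀)
    have h2 := congrArg (fun F => F a) (eR_comp (H₁ := H₁) σ₀)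
    simp only [AlgHom.comp_apply] at h1 h2
    rw [← h1, ← h2, hψ₀', hφ.counit]
  obtain ⟨t₁, ht₁, K₁⟩ := exists_away_algHom_eq S T H₁ H₁ hft₁ σ₀ _ _ E1
  obtain ⟨t₂, ht₂, K₂⟩ := exists_away_algHom_eq S T H₂ H₂ hft₂ σ₀ _ _ E2
  obtain ⟨t₃, ht₃, K₃⟩ := exists_away_algHom_eq S T (H₂ ⊗[B] H₂) H₁ hft₁ σ₀ _ _ E3
  obtain ⟨t₄, ht₄, K₄⟩ := exists_away_algHom_eq S T B H₁ hft₁ σ₀ _ _ E4
  set s := (s₁ * s₂) * (t₁ * t₂ * (t₃ * t₄)) with hs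
  have hsS : s ∈ S := S.mul_mem hs₀ (S.mul_mem (S.mul_mem ht₁ ht₂) (S.mul_mem ht₃ ht₄))
  have d₀ : (s₁ * s₂) ∣ s := dvd_mul_right _ _
  have d₁ : t₁ ∣ s := dvd_mul_of_dvd_right (dvd_mul_of_dvd_left (dvd_mul_right _ _) _) _
  have d₂ : t₂ ∣ s := dvd_mul_of_dvd_right (dvd_mul_of_dvd_left (dvd_mul_left _ _) _) _
  have d₃ : t₃ ∣ s := dvd_mul_of_dvd_right (dvd_mul_of_dvd_right (dvd_mul_right _ _) _) _
  have d₄ : t₄ ∣ s := dvd_mul_of_dvd_right (dvd_mul_of_dvd_right (dvd_mul_left _ _) _) _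
  obtain ⟨τ⟩ := exists_awayHom_of_dvd d₀
  refine ⟨s, hsS, ?_⟩
  refine nonempty_bialgEquiv_of_isRel (Localization.Away s) ((tmap H₂ τ).comp ψ₀)
    ((tmap H₁ τ).comp θ₀) ⟨?_, ?_⟩ ?_ ?_
  · rw [cL_comp, cR_comp]
    exact AlgHom.ext (K₃ s hsS d₃ τ)
  · rw [eL_comp, eR_comp τ]
    exact AlgHom.ext (K₄ s hsS d₄ τ)
  · intro a
    have := K₁ s hsS d₁ τ a
    change tmap H₁ τ (bc _ θ₀ (ψ₀ a)) = tmap H₁ τ ((1 : Localization.Away (s₁ * s₂)) ⊗ₜ[B] a)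
      at this
    rw [tmap_bc, tmap_one_tmul] at this
    exact this
  · intro b
    have := K₂ s hsS d₂ τ b
    change tmap H₂ τ (bc _ ψ₀ (θ₀ b)) = tmap H₂ τ ((1 : Localization.Away (s₁ * s₂)) ⊗ₜ[B] b)
      at this
    rw [tmap_bc, tmap_one_tmul] at this
    exact this

end Main

end Groth.Agent.Lib.Helper25.Spr
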