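import Groth.Agent.Lib.Helper25SprF
import Groth.Agent.Lib.Helper25SprG
import Groth.Agent.Lib.Helper25QIsoH
import Groth.Agent.Lib.Helper25LocRigidC

/-!
# Spreading out diagonalisability: abstract step (helper25)
-/

set_option autoImplicit false
set_option linter.unusedSectionVars false
set_option linter.style.haveILetI false
universe u

namespace Groth.Agent.Lib.Helper25.Spr

open TensorProduct SGA3b Groth.Agent.Lib.Helper25.BCB

section H1

variable (R : Type u) [CommRing R] (C : Type u) [CommRing C] [HopfAlgebra R C]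
  (p : Ideal R) [p.IsPrime]

/-- If `C` becomes diagonalisable over a localisation `T` of an étale `R`-algebra `B₀`, and `T` has
a prime over `p`, then `C` becomes diagonalisable over an étale `R`-algebra with a prime over
`p`. -/
theorem exists_etale_isDiag_of_localization
    (B₀ : Type u) [CommRing B₀] [Algebra R B₀] [Algebra.Etale R B₀] (S₀ : Submonoid B₀)
    (T : Type u) [CommRing T] [Algebra B₀ T] [Algebra R T] [IsScalarTower R B₀ T]
    [IsLocalization S₀ T] (hfp : Algebra.FinitePresentation R C)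
    (Q : Ideal T) [hQ : Q.IsPrime] (hQp : Q.comap (algebraMap R T) = p)
    (hD : IsDiag T (T ⊗[R] C)) :
    ∃ (B' : Type u) (_ : CommRing B') (_ : Algebra R B'), Algebra.Etale R B' ∧
      (∃ q : Ideal B', q.IsPrime ∧ q.comap (algebraMap R B') = p) ∧ IsDiag B' (B' ⊗[R] C) := by
  haveI : Nontrivial T := by
    by_contra hT
    rw [not_nontrivial_iff_subsingleton] at hT
    exact hQ.ne_top (Subsingleton.elim _ _)
  obtain ⟨s, hs, hDs⟩ := exists_away_isDiag_base R C B₀ S₀ T hfp hD
  obtain ⟨j⟩ := exists_awayHom s T (IsLocalization.map_units T ⟨s, hs⟩)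
  haveI : Algebra.Etale R (Localization.Away s) := Algebra.Etale.comp R B₀ (Localization.Away s)
  refine ⟨Localization.Away s, inferInstance, inferInstance, inferInstance,
    ⟨Q.comap j.toRingHom, Ideal.comap_isPrime _ _, ?_⟩, hDs⟩
  rw [Ideal.comap_comap, ← hQp]
  congr 1
  ext r
  change j (algebraMap R (Localization.Away s) r) = algebraMap R T r
  rw [IsScalarTower.algebraMap_apply R B₀ (Localization.Away s), j.commutes,
    ← IsScalarTower.algebraMap_apply]

end H1

end Groth.Agent.Lib.Helper25.Spr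

namespace Groth.Agent.Lib.Helper25.Spr

open TensorProduct SGA3b Groth.Agent.Lib.Helper25.BCB

section H2

variable (R : Type u) [CommRing R] (C : Type u) [CommRing C] [HopfAlgebra R C]
  (p : Ideal R) [p.IsPrime]

/-- The same with `T = A ⊗[R'] B₀`, where `A` is a localisation of an étale `R`-algebra `R'` and
`B₀` is étale over `R'`. -/
theorem exists_etale_isDiag_of_tensor
    (R' : Type u) [CommRing R'] [Algebra R R'] [Algebra.Etale R R']
    (A : Type u) [CommRing A] [Algebra R A] [Algebra R' A] [IsScalarTower R R' A]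
    (S' : Submonoid R') [IsLocalization S' A]
    (B₀ : Type u) [CommRing B₀] [Algebra R' B₀] [Algebra.Etale R' B₀]
    (hfp : Algebra.FinitePresentation R C)
    (Q : Ideal (A ⊗[R'] B₀)) [hQ : Q.IsPrime]
    (hQp : Q.comap (algebraMap R (A ⊗[R'] B₀)) = p)
    (hD : IsDiag (A ⊗[R'] B₀) ((A ⊗[R'] B₀) ⊗[R] C)) :
    ∃ (B' : Type u) (_ : CommRing B') (_ : Algebra R B'), Algebra.Etale R B' ∧
      (∃ q : Ideal B', q.IsPrime ∧ q.comap (algebraMap R B') = p) ∧ IsDiag B' (B' ⊗[R] C) := by
  letI : Algebra R B₀ := ((algebraMap R' B₀).comp (algebraMap R R')).toAlgebra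
  haveI : IsScalarTower R R' B₀ := IsScalarTower.of_algebraMap_eq (fun _ => rfl)
  haveI : Algebra.Etale R B₀ := Algebra.Etale.comp R R' B₀
  letI : Algebra B₀ (A ⊗[R'] B₀) := Algebra.TensorProduct.rightAlgebra
  haveI : IsScalarTower R B₀ (A ⊗[R'] B₀) := by
    apply IsScalarTower.of_algebraMap_eq
    intro r
    change algebraMap R A r ⊗ₜ[R'] (1 : B₀) = (1 : A) ⊗ₜ[R'] (algebraMap R' B₀ (algebraMap R R' r))
    rw [Algebra.algebraMap_eq_smul_one (algebraMap R R' r), ← TensorProduct.smul_tmul,
      ← Algebra.algebraMap_eq_smul_one, ← IsScalarTower.algebraMap_apply]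
  haveI : IsLocalization (Algebra.algebraMapSubmonoid B₀ S') (A ⊗[R'] B₀) :=
    IsLocalization.tensorRight A S'
  exact exists_etale_isDiag_of_localization R C p B₀ (Algebra.algebraMapSubmonoid B₀ S')
    (A ⊗[R'] B₀) hfp Q hQp hD

end H2

end Groth.Agent.Lib.Helper25.Spr
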