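import Groth.Agent.Lib.Helper25SprH

/-!
# Spreading out multiplicative type from a local ring of the base (helper25)
-/

set_option autoImplicit false
set_option linter.unusedSectionVars false
set_option linter.style.haveILetI false
universe u

namespace Groth.Agent.Lib.Helper25.Spr

open TensorProduct SGA3b Groth.Agent.Lib.Helper25.BCB

section StdEt

/-- The tautological presentation of the standard étale algebra of a pair. -/
noncomputable def tautPres {R' : Type u} [CommRing R'] (P₀ : StandardEtalePair R') :
    StandardEtalePresentation R' P₀.Ring :=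
  ⟨P₀, P₀.X, P₀.hasMap_X, by
    simpa [StandardEtalePair.lift_X_left] using Function.bijective_id⟩

/-- Over a local ring, a Hopf algebra of multiplicative type and finite type is diagonalisable over
a standard étale algebra with a prime over the maximal ideal. -/
theorem exists_standardEtale_isDiag (A : Type u) [CommRing A] [IsLocalRing A]
    (H : Type u) [CommRing H] [HopfAlgebra A H] (hft : Algebra.FiniteType A H)
    (h : IsMultType A H) :
    ∃ (A₂ : Type u) (_ : CommRing A₂) (_ : Algebra A A₂), Algebra.IsStandardEtale A A₂ ∧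
      (∃ q : Ideal A₂, q.IsPrime ∧ q.comap (algebraMap A A₂) = IsLocalRing.maximalIdeal A) ∧
      IsDiag A₂ (A₂ ⊗[A] H) := by
  have hc : IsMultTypeConst A H := LocRigid.isMultTypeConst_of_isMultType_of_isLocalRing A H h
  obtain ⟨A₁, _, _, het, ⟨q₁, hq₁, hq₁m⟩, hD₁⟩ :=
    QIso.exists_etale_point_diag A H hft hc (IsLocalRing.maximalIdeal A)
  haveI := het
  haveI := hq₁
  haveI : Algebra.IsEtaleAt A q₁ := by
    change Algebra.FormallyEtale A (Localization.AtPrime q₁)
    haveI : Algebra.FormallyEtale A₁ (Localization.AtPrime q₁) :=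
      Algebra.FormallyEtale.of_isLocalization q₁.primeCompl
    exact Algebra.FormallyEtale.comp A A₁ (Localization.AtPrime q₁)
  obtain ⟨f, hfq, hstd⟩ := Algebra.IsEtaleAt.exists_isStandardEtale (R := A) q₁
  have hdisj : Disjoint (Submonoid.powers f : Set A₁) (q₁ : Set A₁) := by
    rw [Set.disjoint_left]
    rintro _ ⟨k, rfl⟩ hk
    exact hfq (hq₁.mem_of_pow_mem k hk)
  have hp₂ : (q₁.map (algebraMap A₁ (Localization.Away f))).IsPrime :=
    IsLocalization.isPrime_of_isPrime_disjoint (Submonoid.powers f) (Localization.Away f) q₁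
      hq₁ hdisj
  have hpp : (q₁.map (algebraMap A₁ (Localization.Away f))).comap
      (algebraMap A₁ (Localization.Away f)) = q₁ :=
    IsLocalization.comap_map_of_isPrime_disjoint (Submonoid.powers f) (Localization.Away f)
      hq₁ hdisj
  refine ⟨Localization.Away f, inferInstance, inferInstance, hstd,
    ⟨q₁.map (algebraMap A₁ (Localization.Away f)), hp₂, ?_⟩, ?_⟩
  · rw [IsScalarTower.algebraMap_eq A A₁ (Localization.Away f), ← Ideal.comap_comap, hpp, hq₁m]
  · exact isDiag_baseChange_of_tower A H A₁ (Localization.Away f) hD₁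

end StdEt

end Groth.Agent.Lib.Helper25.Spr

namespace Groth.Agent.Lib.Helper25.Spr

open TensorProduct SGA3b Groth.Agent.Lib.Helper25.BCB

section H3

variable (R : Type u) [CommRing R] (C : Type u) [CommRing C] [HopfAlgebra R C]
  (p : Ideal R) [p.IsPrime]

/-- **Spreading out.** If `C` is of multiplicative type over the local ring `R_p`, then it is
diagonalisable over an étale `R`-algebra with a prime over `p`. -/
theorem exists_etale_isDiag_of_atPrime (hfp : Algebra.FinitePresentation R C)
    (h : IsMultType (Localization.AtPrime p) (Localization.AtPrime p ⊗[R] C)) :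
    ∃ (B' : Type u) (_ : CommRing B') (_ : Algebra R B'), Algebra.Etale R B' ∧
      (∃ q : Ideal B', q.IsPrime ∧ q.comap (algebraMap R B') = p) ∧ IsDiag B' (B' ⊗[R] C) := by
  haveI := hfp
  have hft : Algebra.FiniteType (Localization.AtPrime p) (Localization.AtPrime p ⊗[R] C) :=
    inferInstance
  obtain ⟨A₂, _, _, hstd, ⟨q₂, hq₂, hq₂m⟩, hD₂⟩ :=
    exists_standardEtale_isDiag (Localization.AtPrime p) (Localization.AtPrime p ⊗[R] C) hft h
  obtain ⟨⟨P, x, hx, hbij⟩⟩ := hstd.nonempty_standardEtalePresentation
  obtain ⟨g, hg, ι, P₀, rfl⟩ := exists_away_pair p.primeCompl (Localization.AtPrime p) P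
  letI : Algebra (Localization.Away g) (Localization.AtPrime p) := ι.toRingHom.toAlgebra
  haveI : IsScalarTower R (Localization.Away g) (Localization.AtPrime p) :=
    IsScalarTower.of_algebraMap_eq (fun r => (ι.commutes r).symm)
  have hle : Submonoid.powers g ≤ p.primeCompl := by
    rintro _ ⟨k, rfl⟩
    exact p.primeCompl.pow_mem hg k
  haveI : IsLocalization (p.primeCompl.map (algebraMap R (Localization.Away g)))
      (Localization.AtPrime p) :=
    IsLocalization.isLocalization_of_submonoid_le (Localization.Away g) (Localization.AtPrime p)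
      (Submonoid.powers g) p.primeCompl hle
  -- the algebra isomorphism `T ≃ A₂`
  let pres : StandardEtalePresentation (Localization.AtPrime p)
      (Localization.AtPrime p ⊗[Localization.Away g] P₀.Ring) := (tautPres P₀).baseChange
  let e₂ : (P₀.map ι.toRingHom).Ring ≃ₐ[Localization.AtPrime p] A₂ := AlgEquiv.ofBijective _ hbij
  let eT : (Localization.AtPrime p ⊗[Localization.Away g] P₀.Ring) ≃ₐ[Localization.AtPrime p] A₂ :=
    pres.equivRing.trans e₂
  -- `R`-algebra structure on `A₂`
  letI : Algebra R A₂ :=
    ((algebraMap (Localization.AtPrime p) A₂).comp (algebraMap R (Localization.AtPrime p))).toAlgebra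
  haveI : IsScalarTower R (Localization.AtPrime p) A₂ :=
    IsScalarTower.of_algebraMap_eq (fun _ => rfl)
  have hD₂' : IsDiag A₂ (A₂ ⊗[R] C) :=
    isDiag_of_equiv (cancelBC R (Localization.AtPrime p) A₂ C).symm hD₂
  have hDT : IsDiag (Localization.AtPrime p ⊗[Localization.Away g] P₀.Ring)
      ((Localization.AtPrime p ⊗[Localization.Away g] P₀.Ring) ⊗[R] C) :=
    Desc.isDiag_of_algHom R C A₂ _
      ((eT.symm : A₂ →ₐ[Localization.AtPrime p] _).restrictScalars R) hD₂'
  refine exists_etale_isDiag_of_tensor R C p (Localization.Away g) (Localization.AtPrime p)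
    (p.primeCompl.map (algebraMap R (Localization.Away g))) P₀.Ring hfp
    (q₂.comap eT.toRingEquiv.toRingHom) ?_ hDT
  · haveI := hq₂
    have : (q₂.comap eT.toRingEquiv.toRingHom).comap
        (algebraMap R (Localization.AtPrime p ⊗[Localization.Away g] P₀.Ring)) =
        (q₂.comap (algebraMap (Localization.AtPrime p) A₂)).comap
          (algebraMap R (Localization.AtPrime p)) := by
      rw [Ideal.comap_comap, Ideal.comap_comap]
      congr 1
      ext r
      change eT (algebraMap R _ r) = algebraMap (Localization.AtPrime p) A₂ (algebraMap R _ r)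
      rw [IsScalarTower.algebraMap_apply R (Localization.AtPrime p)
        (Localization.AtPrime p ⊗[Localization.Away g] P₀.Ring), eT.commutes]
    rw [this, hq₂m]
    exact Localization.AtPrime.comap_maximalIdeal (I := p)

end H3

end Groth.Agent.Lib.Helper25.Spr
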