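import Groth.Agent.Lib.Helper25SprI

/-!
# Multiplicative type is a local property at the primes of the base (helper25)
-/

set_option autoImplicit false
set_option linter.unusedSectionVars false
set_option linter.style.haveILetI false
universe u

namespace Groth.Agent.Lib.Helper25.Spr

open TensorProduct SGA3b Groth.Agent.Lib.Helper25.BCB

section Glob

variable (R : Type u) [CommRing R] (C : Type u) [CommRing C] [HopfAlgebra R C]

theorem isMultTypeConst_of_isQuasiIsotrivialConst {R : Type u} [CommRing R] {C : Type u}
    [CommRing C] [HopfAlgebra R C] (h : IsQuasiIsotrivialConst R C) : IsMultTypeConst R C := by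
  obtain ⟨R', _, _, _, hff, hD⟩ := h
  exact ⟨R', inferInstance, inferInstance, hff, hD⟩

/-- If `C` is of multiplicative type over `R_p`, it is quasi-isotrivial of constant type over a
basic open neighbourhood of `p`. -/
theorem exists_away_of_atPrime (hfp : Algebra.FinitePresentation R C) (p : Ideal R) [p.IsPrime]
    (h : IsMultType (Localization.AtPrime p) (Localization.AtPrime p ⊗[R] C)) :
    ∃ g : R, g ∉ p ∧
      IsQuasiIsotrivialConst (Localization.Away g) (Localization.Away g ⊗[R] C) := by
  obtain ⟨B', _, _, het, hq, hD⟩ := exists_etale_isDiag_of_atPrime R C p hfp h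
  haveI := het
  exact QIso.exists_away_of_etale_point R C B' p hq hD

/-- **Multiplicative type is local at the primes of the base**, for finitely presented Hopf
algebras. -/
theorem isMultType_of_forall_atPrime (hfp : Algebra.FinitePresentation R C)
    (h : ∀ (p : Ideal R) [p.IsPrime],
      IsMultType (Localization.AtPrime p) (Localization.AtPrime p ⊗[R] C)) :
    IsMultType R C := by
  classical
  refine ⟨{g : R | IsMultTypeConst (Localization.Away g) (Localization.Away g ⊗[R] C)},
    ?_, fun g hg => hg⟩
  by_contra hne
  obtain ⟨m, hm, hle⟩ := Ideal.exists_le_maximal _ hne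
  haveI hmp : m.IsPrime := hm.isPrime
  obtain ⟨g, hgm, hg⟩ := exists_away_of_atPrime R C hfp m (h m)
  exact hgm (hle (Ideal.subset_span (isMultTypeConst_of_isQuasiIsotrivialConst hg)))

end Glob

end Groth.Agent.Lib.Helper25.Spr
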