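import Groth.Agent.Lib.Helper25SprJ
import Groth.Agent.Lib.Helper25HKillE
import Groth.Agent.Lib.Helper25HKillC

/-!
# Global criteria (b) and (c) for multiplicative type (helper25)
-/

set_option autoImplicit false
set_option linter.unusedSectionVars false
set_option linter.style.haveILetI false
universe u

namespace Groth.Agent.Lib.Helper25.Spr

open TensorProduct SGA3b Groth.Agent.Lib.Helper25.BCB

section Loc

variable (R : Type u) [CommRing R] (C : Type u) [CommRing C] [HopfAlgebra R C]
  (p : Ideal R) [p.IsPrime]

/-- The closed fibre of the localisation at `p` is the fibre at `p`. -/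
theorem isMultType_closedFibre_atPrime
    (hfib : IsMultType p.ResidueField (p.ResidueField ⊗[R] C)) :
    IsMultType (IsLocalRing.ResidueField (Localization.AtPrime p))
      (IsLocalRing.ResidueField (Localization.AtPrime p) ⊗[Localization.AtPrime p]
        (Localization.AtPrime p ⊗[R] C)) :=
  HC.isMultType_of_equiv (cancelBC R (Localization.AtPrime p) p.ResidueField C) hfib

/-- Flatness of the localisations of the base change. -/
theorem flat_atPrime_baseChange [Module.Flat R C]
    (q : Ideal (Localization.AtPrime p ⊗[R] C)) [q.IsPrime] :
    Module.Flat (Localization.AtPrime p) (Localization.AtPrime q) :=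
  Module.Flat.trans (Localization.AtPrime p) (Localization.AtPrime p ⊗[R] C)
    (Localization.AtPrime q)

end Loc

section B

variable (R : Type u) [CommRing R] (C : Type u) [CommRing C] [HopfAlgebra R C]

/-- **Criterion (b), global form.** -/
theorem isMultType_of_fibres_of_finite_torsion [Coalgebra.IsCocomm R C] [Module.Flat R C]
    (hfp : Algebra.FinitePresentation R C)
    (hfib : ∀ (p : Ideal R) [p.IsPrime], IsMultType p.ResidueField (p.ResidueField ⊗[R] C))
    (hfin : ∀ n : ℕ, 0 < n → Module.Finite R (C ⧸ torsionIdeal R C n)) :
    IsMultType R C := by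
  haveI := hfp
  apply isMultType_of_forall_atPrime R C hfp
  intro p _
  have hfp' : Algebra.FinitePresentation (Localization.AtPrime p) (Localization.AtPrime p ⊗[R] C) :=
    inferInstance
  exact HKill.isMultType_of_killsOpenSubgroups (Localization.AtPrime p)
    (Localization.AtPrime p ⊗[R] C)
    (HKill.killsOpenSubgroups_of_finite (Localization.AtPrime p) (Localization.AtPrime p ⊗[R] C)
      inferInstance
      (fun n hn => HKill.finite_torsion_baseChange R (Localization.AtPrime p) C n (hfin n hn)))
    hfp' (fun q _ _ => flat_atPrime_baseChange R C p q)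
    (isMultType_closedFibre_atPrime R C p (hfib p))

end B

end Groth.Agent.Lib.Helper25.Spr

namespace Groth.Agent.Lib.Helper25.Spr

open TensorProduct SGA3b Groth.Agent.Lib.Helper25.BCB

section Cc

variable (R : Type u) [CommRing R] (C : Type u) [CommRing C] [HopfAlgebra R C]

/-- Connectedness of the fibres passes to the localisations of the base. -/
theorem connected_fibres_atPrime
    (hconn : ∀ (p : Ideal R) [p.IsPrime], ConnectedSpace (PrimeSpectrum (p.ResidueField ⊗[R] C)))
    (p : Ideal R) [p.IsPrime] (P : Ideal (Localization.AtPrime p)) [P.IsPrime] :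
    ConnectedSpace (PrimeSpectrum (P.ResidueField ⊗[Localization.AtPrime p]
      (Localization.AtPrime p ⊗[R] C))) := by
  have h1 : ConnectedSpace (PrimeSpectrum (P.ResidueField ⊗[R] C)) :=
    HKill.connectedSpace_tensor_field R C (Bialgebra.counitAlgHom R C) hconn P.ResidueField
  exact ((PrimeSpectrum.homeomorphOfRingEquiv
    (Algebra.TensorProduct.cancelBaseChange R (Localization.AtPrime p) P.ResidueField
      P.ResidueField C).toRingEquiv).connectedSpace_iff).mpr h1

/-- **Criterion (c), global form.** -/
theorem isMultType_of_fibres_connected [Module.Flat R C]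
    (hfp : Algebra.FinitePresentation R C)
    (hfib : ∀ (p : Ideal R) [p.IsPrime], IsMultType p.ResidueField (p.ResidueField ⊗[R] C) ∧
      ConnectedSpace (PrimeSpectrum (p.ResidueField ⊗[R] C))) :
    IsMultType R C := by
  haveI := hfp
  apply isMultType_of_forall_atPrime R C hfp
  intro p _
  have hfp' : Algebra.FinitePresentation (Localization.AtPrime p) (Localization.AtPrime p ⊗[R] C) :=
    inferInstance
  exact HKill.isMultType_of_killsOpenSubgroups (Localization.AtPrime p)
    (Localization.AtPrime p ⊗[R] C)
    (HKill.killsOpenSubgroups_of_connected (Localization.AtPrime p) (Localization.AtPrime p ⊗[R] C)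
      (fun P _ => connected_fibres_atPrime R C (fun q _ => (hfib q).2) p P))
    hfp' (fun q _ _ => flat_atPrime_baseChange R C p q)
    (isMultType_closedFibre_atPrime R C p (hfib p).1)

end Cc

end Groth.Agent.Lib.Helper25.Spr
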