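import Groth.Prelude.Def_GLin
import Mathlib

/-!
# Strongly étale equivariant maps in coaction form: basic lemmas (helper25)
-/

set_option autoImplicit false
universe u v w

namespace Groth.Agent.Lib.Helper25.StrEtale

open TensorProduct HopfRep GLin

section Orbit

variable {k : Type u} [Field k] {A : Type v} [CommRing A] [Bialgebra k A]
  {S : Type w} [CommRing S] [Algebra k S] [HopfRep.Comod k A S] [GLin.IsCoactAlg k A S]
  {R : Type w} [CommRing R] [Algebra k R] [HopfRep.Comod k A R] [GLin.IsCoactAlg k A R]

/-- The orbit map of the image point under an equivariant map. -/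
theorem orbitHom_comp (ι : S →ₐ[k] R)
    (hequiv : ∀ s : S, HopfRep.Comod.coact (k := k) (A := A) (ι s) =
      Algebra.TensorProduct.map ι (AlgHom.id k A) (HopfRep.Comod.coact (k := k) (A := A) s))
    (x : R →ₐ[k] k) :
    orbitHom k A (x.comp ι) = (orbitHom k A x).comp ι := by
  apply AlgHom.ext
  intro s
  have h1 : (Algebra.TensorProduct.map x (AlgHom.id k A)).comp
      (Algebra.TensorProduct.map ι (AlgHom.id k A)) =
      Algebra.TensorProduct.map (x.comp ι) (AlgHom.id k A) := by
    ext <;> simp
  simp only [orbitHom, AlgHom.comp_apply, coactAlgHom_apply, hequiv s]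
  rw [← h1]
  rfl

theorem orbitHom_of_mem_invariants (x : R →ₐ[k] k) {f : R} (hf : f ∈ invariants k A R) :
    orbitHom k A x f = algebraMap k A (x f) := by
  rw [mem_invariants_iff] at hf
  simp only [orbitHom, AlgHom.comp_apply, coactAlgHom_apply, hf]
  simp [Algebra.algebraMap_eq_smul_one]

theorem actPt_of_mem_invariants (g : A →ₐ[k] k) (x : R →ₐ[k] k) {f : R}
    (hf : f ∈ invariants k A R) : actPt k g x f = x f := by
  simp only [actPt, AlgHom.comp_apply, orbitHom_of_mem_invariants x hf]
  simp

theorem actPt_comp (ι : S →ₐ[k] R)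
    (hequiv : ∀ s : S, HopfRep.Comod.coact (k := k) (A := A) (ι s) =
      Algebra.TensorProduct.map ι (AlgHom.id k A) (HopfRep.Comod.coact (k := k) (A := A) s))
    (g : A →ₐ[k] k) (x : R →ₐ[k] k) :
    actPt k g (x.comp ι) = (actPt k g x).comp ι := by
  simp only [actPt, orbitHom_comp ι hequiv x]
  rfl

end Orbit

end Groth.Agent.Lib.Helper25.StrEtale
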