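import Mathlib

/-!
# Restriction of a cartesian square of rings to a closed subscheme (helper25)

Pure commutative algebra behind "strongly étale maps restrict to closed invariant subschemes".
-/

set_option autoImplicit false
universe u

namespace Groth.Agent.Lib.Helper25.StrEtale2

open TensorProduct

variable {P₀ Q₀ P Q P₁ Q₁ Pb Qb : Type u} [CommRing P₀] [CommRing Q₀] [CommRing P] [CommRing Q]
  [CommRing P₁] [CommRing Q₁] [CommRing Pb] [CommRing Qb]
  [Algebra P₀ P] [Algebra P₀ Q₀] [Algebra Q₀ Q] [Algebra P Q] [Algebra P₀ Q]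
  [IsScalarTower P₀ P Q] [IsScalarTower P₀ Q₀ Q]
  [Algebra P₁ Pb] [Algebra P₁ Q₁] [Algebra Q₁ Qb] [Algebra Pb Qb] [Algebra P₁ Qb]
  [IsScalarTower P₁ Pb Qb] [IsScalarTower P₁ Q₁ Qb]
  (qP : P →+* Pb) (qQ : Q →+* Qb) (a : P₀ →+* P₁) (b : Q₀ →+* Q₁)

include qP qQ in
theorem b_comp_c
    (hsq : ∀ s, qQ (algebraMap P Q s) = algebraMap Pb Qb (qP s))
    (hC1 : ∀ s₀, algebraMap P₁ Pb (a s₀) = qP (algebraMap P₀ P s₀))
    (hC2 : ∀ r₀, algebraMap Q₁ Qb (b r₀) = qQ (algebraMap Q₀ Q r₀))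
    (hj₁ : Function.Injective (algebraMap Q₁ Qb)) (s₀ : P₀) :
    b (algebraMap P₀ Q₀ s₀) = algebraMap P₁ Q₁ (a s₀) := by
  apply hj₁
  rw [hC2, ← IsScalarTower.algebraMap_apply P₀ Q₀ Q, IsScalarTower.algebraMap_apply P₀ P Q, hsq,
    ← hC1, ← IsScalarTower.algebraMap_apply P₁ Pb Qb, IsScalarTower.algebraMap_apply P₁ Q₁ Qb]

include qP qQ in
/-- `Q₁` is the base change `P₁ ⊗[P₀] Q₀`, hence étale over `P₁` when `Q₀` is étale over `P₀`. -/
theorem etale_of_data [Algebra.Etale P₀ Q₀]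
    (hsq : ∀ s, qQ (algebraMap P Q s) = algebraMap Pb Qb (qP s))
    (hC1 : ∀ s₀, algebraMap P₁ Pb (a s₀) = qP (algebraMap P₀ P s₀))
    (hC2 : ∀ r₀, algebraMap Q₁ Qb (b r₀) = qQ (algebraMap Q₀ Q r₀))
    (hj₁ : Function.Injective (algebraMap Q₁ Qb))
    (ha : Function.Surjective a) (hb : Function.Surjective b)
    (H : ∀ r₀ : Q₀, qQ (algebraMap Q₀ Q r₀) = 0 →
      r₀ ∈ Ideal.map (algebraMap P₀ Q₀) (RingHom.ker a)) :
    Algebra.Etale P₁ Q₁ := by
  have hC3 := b_comp_c qP qQ a b hsq hC1 hC2 hj₁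
  letI : Algebra P₀ P₁ := a.toAlgebra
  letI : Algebra P₀ Q₁ := ((algebraMap P₁ Q₁).comp a).toAlgebra
  haveI : IsScalarTower P₀ P₁ Q₁ := IsScalarTower.of_algebraMap_eq (fun _ => rfl)
  let b' : Q₀ →ₐ[P₀] Q₁ := { b with commutes' := fun s₀ => hC3 s₀ }
  let f : P₁ ⊗[P₀] Q₀ →ₐ[P₁] Q₁ :=
    Algebra.TensorProduct.productLeftAlgHom (Algebra.ofId P₁ Q₁) b'
  have hf1 : ∀ r₀ : Q₀, f ((1 : P₁) ⊗ₜ[P₀] r₀) = b r₀ := by
    intro r₀
    change (Algebra.ofId P₁ Q₁) 1 * b r₀ = b r₀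
    rw [map_one, one_mul]
  have hrep : ∀ t : P₁ ⊗[P₀] Q₀, ∃ r₀ : Q₀, t = (1 : P₁) ⊗ₜ[P₀] r₀ := by
    intro t
    induction t using TensorProduct.induction_on with
    | zero => exact ⟨0, by simp⟩
    | tmul p r =>
      obtain ⟨s₀, rfl⟩ := ha p
      refine ⟨s₀ • r, ?_⟩
      have : a s₀ = s₀ • (1 : P₁) := by
        rw [Algebra.smul_def, mul_one]; rfl
      rw [this, TensorProduct.smul_tmul]
    | add x y hx hy =>
      obtain ⟨r, rfl⟩ := hx
      obtain ⟨r', rfl⟩ := hy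
      exact ⟨r + r', by rw [TensorProduct.tmul_add]⟩
  have hkerle : Ideal.map (algebraMap P₀ Q₀) (RingHom.ker a) ≤
      RingHom.ker (Algebra.TensorProduct.includeRight : Q₀ →ₐ[P₀] P₁ ⊗[P₀] Q₀) := by
    rw [Ideal.map_le_iff_le_comap]
    intro t ht
    rw [RingHom.mem_ker] at ht
    rw [Ideal.mem_comap, RingHom.mem_ker]
    change (1 : P₁) ⊗ₜ[P₀] (algebraMap P₀ Q₀ t) = 0
    rw [← Algebra.TensorProduct.tmul_one_eq_one_tmul]
    have : algebraMap P₀ P₁ t = 0 := ht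
    rw [this, TensorProduct.zero_tmul]
  have hf : Function.Bijective f := by
    constructor
    · rw [injective_iff_map_eq_zero]
      intro t ht
      obtain ⟨r₀, rfl⟩ := hrep t
      rw [hf1] at ht
      have h0 : qQ (algebraMap Q₀ Q r₀) = 0 := by rw [← hC2, ht, map_zero]
      have := hkerle (H r₀ h0)
      rw [RingHom.mem_ker] at this
      exact this
    · intro q₁
      obtain ⟨r₀, rfl⟩ := hb q₁
      exact ⟨(1 : P₁) ⊗ₜ[P₀] r₀, hf1 r₀⟩
  exact Algebra.Etale.of_equiv (AlgEquiv.ofBijective f hf)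

section Bij

variable (hqP : Function.Surjective qP)

include qP qQ a b in
/-- The restricted square is again cartesian. -/
theorem bijective_productMap_of_data
    (hqP : Function.Surjective qP) (hqQ : Function.Surjective qQ)
    (hker : RingHom.ker qQ = Ideal.map (algebraMap P Q) (RingHom.ker qP))
    (hsq : ∀ s, qQ (algebraMap P Q s) = algebraMap Pb Qb (qP s))
    (hC1 : ∀ s₀, algebraMap P₁ Pb (a s₀) = qP (algebraMap P₀ P s₀))
    (hC2 : ∀ r₀, algebraMap Q₁ Qb (b r₀) = qQ (algebraMap Q₀ Q r₀))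
    (hj₁ : Function.Injective (algebraMap Q₁ Qb))
    (hb : Function.Surjective b)
    (hcart : Function.Bijective (Algebra.TensorProduct.productMap
      (IsScalarTower.toAlgHom P₀ P Q) (IsScalarTower.toAlgHom P₀ Q₀ Q))) :
    Function.Bijective (Algebra.TensorProduct.productMap
      (IsScalarTower.toAlgHom P₁ Pb Qb) (IsScalarTower.toAlgHom P₁ Q₁ Qb)) := by
  have hC3 := b_comp_c qP qQ a b hsq hC1 hC2 hj₁
  set g := Algebra.TensorProduct.productMap
      (IsScalarTower.toAlgHom P₁ Pb Qb) (IsScalarTower.toAlgHom P₁ Q₁ Qb) with hg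
  set pm := Algebra.TensorProduct.productMap
      (IsScalarTower.toAlgHom P₀ P Q) (IsScalarTower.toAlgHom P₀ Q₀ Q) with hpm
  -- the `P₀`-module structure on the target
  letI : Module P₀ (Pb ⊗[P₁] Q₁) := Module.compHom _ a
  have hsmul : ∀ (s₀ : P₀) (z : Pb ⊗[P₁] Q₁), s₀ • z = a s₀ • z := fun _ _ => rfl
  -- the comparison map
  let Φ₂ : P →ₗ[P₀] Q₀ →ₗ[P₀] Pb ⊗[P₁] Q₁ :=
    LinearMap.mk₂ P₀ (fun s r => qP s ⊗ₜ[P₁] b r)
      (fun s s' r => by rw [map_add, TensorProduct.add_tmul])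
      (fun s₀ s r => by
        rw [hsmul, TensorProduct.smul_tmul', Algebra.smul_def, map_mul, ← hC1, ← Algebra.smul_def])
      (fun s r r' => by rw [map_add, TensorProduct.tmul_add])
      (fun s₀ s r => by
        rw [hsmul, Algebra.smul_def, map_mul, hC3, ← Algebra.smul_def, TensorProduct.tmul_smul])
  let Φ : P ⊗[P₀] Q₀ →ₗ[P₀] Pb ⊗[P₁] Q₁ := TensorProduct.lift Φ₂
  have hΦ : ∀ s r, Φ (s ⊗ₜ[P₀] r) = qP s ⊗ₜ[P₁] b r := fun s r => rfl
  -- (α) Φ is surjective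
  have hα : ∀ z : Pb ⊗[P₁] Q₁, ∃ t, Φ t = z := by
    intro z
    induction z using TensorProduct.induction_on with
    | zero => exact ⟨0, map_zero _⟩
    | tmul p q =>
      obtain ⟨s, rfl⟩ := hqP p
      obtain ⟨r, rfl⟩ := hb q
      exact ⟨s ⊗ₜ r, hΦ s r⟩
    | add x y hx hy =>
      obtain ⟨t, rfl⟩ := hx
      obtain ⟨t', rfl⟩ := hy
      exact ⟨t + t', map_add _ _ _⟩
  -- (β) compatibility
  have hβ : ∀ t, g (Φ t) = qQ (pm t) := by
    intro t
    induction t using TensorProduct.induction_on with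
    | zero => simp
    | tmul s r =>
      rw [hΦ, hg, hpm, Algebra.TensorProduct.productMap_apply_tmul,
        Algebra.TensorProduct.productMap_apply_tmul, map_mul]
      change algebraMap Pb Qb (qP s) * algebraMap Q₁ Qb (b r) =
        qQ (algebraMap P Q s) * qQ (algebraMap Q₀ Q r)
      rw [hsq, hC2]
    | add x y hx hy => rw [map_add, map_add, map_add, map_add, hx, hy]
  -- (γ) Φ kills the ideal generated by `ker qP`
  have hγ0 : ∀ (j : P), qP j = 0 → ∀ t' : P ⊗[P₀] Q₀, Φ (t' * (j ⊗ₜ[P₀] (1 : Q₀))) = 0 := by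
    intro j hj t'
    induction t' using TensorProduct.induction_on with
    | zero => simp
    | tmul s r =>
      rw [Algebra.TensorProduct.tmul_mul_tmul, hΦ, map_mul, hj, mul_zero, TensorProduct.zero_tmul]
    | add x y hx hy => rw [add_mul, map_add, hx, hy, add_zero]
  have hγ : ∀ t ∈ Ideal.map (Algebra.TensorProduct.includeLeft : P →ₐ[P₀] P ⊗[P₀] Q₀)
      (RingHom.ker qP), ∀ t' : P ⊗[P₀] Q₀, Φ (t' * t) = 0 := by
    intro t ht
    refine Submodule.span_induction (p := fun t _ => ∀ t' : P ⊗[P₀] Q₀, Φ (t' * t) = 0)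
      ?_ ?_ ?_ ?_ ht
    · rintro _ ⟨j, hj, rfl⟩ t'
      exact hγ0 j hj t'
    · intro t'; simp
    · intro x y _ _ hx hy t'
      rw [mul_add, map_add, hx, hy, add_zero]
    · intro c x _ hx t'
      rw [smul_eq_mul, ← mul_assoc]
      exact hx _
  -- membership transfer along the isomorphism `pm`
  let e : (P ⊗[P₀] Q₀) ≃+* Q := RingEquiv.ofBijective pm hcart
  have hmem : ∀ t, qQ (pm t) = 0 →
      t ∈ Ideal.map (Algebra.TensorProduct.includeLeft : P →ₐ[P₀] P ⊗[P₀] Q₀) (RingHom.ker qP) := by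
    intro t ht
    have h1 : pm t ∈ Ideal.map (algebraMap P Q) (RingHom.ker qP) := by
      rw [← hker]; exact ht
    have h2 : Ideal.map (algebraMap P Q) (RingHom.ker qP) =
        Ideal.map (e : (P ⊗[P₀] Q₀) →+* Q) (Ideal.map
          ((Algebra.TensorProduct.includeLeft : P →ₐ[P₀] P ⊗[P₀] Q₀) : P →+* P ⊗[P₀] Q₀)
            (RingHom.ker qP)) := by
      rw [Ideal.map_map]
      congr 1
      ext s
      change algebraMap P Q s = pm (s ⊗ₜ 1)
      rw [hpm, Algebra.TensorProduct.productMap_apply_tmul, map_one, mul_one]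
      rfl
    rw [h2] at h1
    obtain ⟨x, hx, hxt⟩ := (Ideal.mem_map_of_equiv e _).mp h1
    have : x = t := e.injective hxt
    rw [← this]
    exact hx
  constructor
  · rw [injective_iff_map_eq_zero]
    intro z hz
    obtain ⟨t, rfl⟩ := hα z
    rw [hβ] at hz
    have := hγ t (hmem t hz) 1
    rwa [one_mul] at this
  · intro q
    obtain ⟨r, rfl⟩ := hqQ q
    obtain ⟨t, rfl⟩ := hcart.2 r
    exact ⟨Φ t, hβ t⟩

end Bij

end Groth.Agent.Lib.Helper25.StrEtale2
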