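import Groth.Agent.Lib.Helper25Reynolds
import Groth.Agent.Lib.Helper25CoactAlg
import Groth.Agent.Lib.Helper25ComodInv
import Groth.Prelude.Def_GLin
import Mathlib

/-!
# Invariants of a closed invariant subscheme of a strongly étale cover (helper25)
-/

set_option autoImplicit false
universe u

namespace Groth.Agent.Lib.Helper25.StrEtale3

open TensorProduct HopfRep GLin Groth.Agent.Lib.Helper25

section General

variable {k : Type u} [Field k] {A : Type u} [CommRing A] [Bialgebra k A]
  {S : Type u} [CommRing S] [Algebra k S] [HopfRep.Comod k A S] [GLin.IsCoactAlg k A S]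
  {R : Type u} [CommRing R] [Algebra k R] [HopfRep.Comod k A R] [GLin.IsCoactAlg k A R]

theorem isComodHom_of_equivariant (f : S →ₐ[k] R)
    (h : ∀ s : S, HopfRep.Comod.coact (k := k) (A := A) (f s) =
      Algebra.TensorProduct.map f (AlgHom.id k A) (HopfRep.Comod.coact (k := k) (A := A) s)) :
    Hoch.IsComodHom A f.toLinearMap := by
  apply LinearMap.ext
  intro s
  change HopfRep.Comod.coact (k := k) (A := A) (f s) = _
  rw [h s]
  change _ = (f.toLinearMap.rTensor A) (HopfRep.Comod.coact (k := k) (A := A) s)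
  generalize HopfRep.Comod.coact (k := k) (A := A) s = z
  induction z using TensorProduct.induction_on with
  | zero => simp
  | tmul x y => simp
  | add x y hx hy => rw [map_add, map_add, hx, hy]

theorem map_mem_invariants (f : S →ₐ[k] R)
    (h : ∀ s : S, HopfRep.Comod.coact (k := k) (A := A) (f s) =
      Algebra.TensorProduct.map f (AlgHom.id k A) (HopfRep.Comod.coact (k := k) (A := A) s))
    {s : S} (hs : s ∈ invariants k A S) : f s ∈ invariants k A R := by
  rw [mem_invariants_iff] at hs ⊢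
  rw [h s, hs]
  simp

theorem exists_invariant_lift (hG : IsLinearlyReductive k A) (f : S →ₐ[k] R)
    (h : ∀ s : S, HopfRep.Comod.coact (k := k) (A := A) (f s) =
      Algebra.TensorProduct.map f (AlgHom.id k A) (HopfRep.Comod.coact (k := k) (A := A) s))
    (hf : Function.Surjective f) {r : R} (hr : r ∈ invariants k A R) :
    ∃ s ∈ invariants k A S, f s = r :=
  exists_fixedPts_map_eq_of_isLinearlyReductive hG S R f.toLinearMap
    (isComodHom_of_equivariant f h) hf r hr

end General

section Range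

variable {k X Y Z : Type u} [CommRing k] [CommRing X] [CommRing Y] [CommRing Z]
  [Algebra k X] [Algebra k Y] [Algebra k Z]

theorem exists_algHom_of_range (f : X →ₐ[k] Z) (g : Y →ₐ[k] Z) (hg : Function.Injective g)
    (h : ∀ x, f x ∈ g.range) : ∃ φ : X →ₐ[k] Y, ∀ x, g (φ x) = f x := by
  let e := AlgEquiv.ofInjective g hg
  refine ⟨e.symm.toAlgHom.comp (f.codRestrict g.range h), fun x => ?_⟩
  have : (e (e.symm (f.codRestrict g.range h x)) : Z) = f x := by
    rw [AlgEquiv.apply_symm_apply]; rfl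
  exact this

end Range

section Key

variable {k : Type u} [Field k] {A : Type u} [CommRing A] [Bialgebra k A]
  {S : Type u} [CommRing S] [Algebra k S] [HopfRep.Comod k A S] [GLin.IsCoactAlg k A S]
  {R : Type u} [CommRing R] [Algebra k R] [HopfRep.Comod k A R] [GLin.IsCoactAlg k A R]
  [Algebra S R] [IsScalarTower k S R]
  {S₀ : Type u} [CommRing S₀] [Algebra k S₀] [Algebra S₀ S] [IsScalarTower k S₀ S]
  {R₀ : Type u} [CommRing R₀] [Algebra k R₀] [Algebra R₀ R] [IsScalarTower k R₀ R]
  [Algebra S₀ R₀] [Algebra S₀ R] [IsScalarTower S₀ S R] [IsScalarTower S₀ R₀ R]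

/-- The invariants of `R` lying in `J R` come from the invariants of `S` lying in `J`. -/
theorem key_H (hG : IsLinearlyReductive k A)
    (hequiv : ∀ s : S, HopfRep.Comod.coact (k := k) (A := A) (algebraMap S R s) =
      Algebra.TensorProduct.map (IsScalarTower.toAlgHom k S R) (AlgHom.id k A)
        (HopfRep.Comod.coact (k := k) (A := A) s))
    (hS₀ : (IsScalarTower.toAlgHom k S₀ S).range = GLin.invariants k A S)
    (hR₀i : Function.Injective (algebraMap R₀ R))
    (hR₀ : (IsScalarTower.toAlgHom k R₀ R).range = GLin.invariants k A R)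
    (hgen : Function.Surjective (Algebra.TensorProduct.productMap
      (IsScalarTower.toAlgHom S₀ S R) (IsScalarTower.toAlgHom S₀ R₀ R)))
    (J : Ideal S) (hJ : HopfRep.IsSubcomod (k := k) (A := A) (J.restrictScalars k))
    (r₀ : R₀) (h : algebraMap R₀ R r₀ ∈ J.map (algebraMap S R)) :
    r₀ ∈ Ideal.map (algebraMap S₀ R₀) (Ideal.comap (algebraMap S₀ S) J) := by
  set ι : S →ₐ[k] R := IsScalarTower.toAlgHom k S R with hι
  have hιc : Hoch.IsComodHom A ι.toLinearMap := isComodHom_of_equivariant ι hequiv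
  have hssS := isSemisimpleComod_of_isLinearlyReductive hG S
  have hssR := isSemisimpleComod_of_isLinearlyReductive hG R
  obtain ⟨ES, hES, hES2, hESx⟩ := exists_reynolds hssS
  obtain ⟨ER, hER, hER2, hERx⟩ := exists_reynolds hssR
  have hcomm := reynolds_comm hssS hES hES2 hESx hER hER2 hERx hιc
  have hcomm' : ∀ s : S, ER (algebraMap S R s) = algebraMap S R (ES s) :=
    fun s => LinearMap.congr_fun hcomm s
  have hESfix : ∀ s, ES s ∈ fixedPts k A S := fun s => (hESx _).mp (LinearMap.congr_fun hES2 s)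
  have hinvR : ∀ r : R₀, algebraMap R₀ R r ∈ fixedPts k A R := by
    intro r
    change algebraMap R₀ R r ∈ GLin.invariants k A R
    rw [← hR₀]
    exact ⟨r, rfl⟩
  set 𝔟 : Ideal R₀ := Ideal.map (algebraMap S₀ R₀) (Ideal.comap (algebraMap S₀ S) J) with h𝔟
  -- generators
  have hgen0 : ∀ j₀ ∈ J, ∀ t : S ⊗[S₀] R₀, ∃ r ∈ 𝔟,
      ER (Algebra.TensorProduct.productMap
        (IsScalarTower.toAlgHom S₀ S R) (IsScalarTower.toAlgHom S₀ R₀ R) t * algebraMap S R j₀) =
        algebraMap R₀ R r := by
    intro j₀ hj₀ t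
    induction t using TensorProduct.induction_on with
    | zero => exact ⟨0, Ideal.zero_mem _, by simp⟩
    | tmul s r' =>
      have hmem : ES (s * j₀) ∈ J := by
        have : s * j₀ ∈ J.restrictScalars k := J.mul_mem_left s hj₀
        exact reynolds_mem_of_isSubcomod hssS hES hES2 hESx hJ this
      have hfix : ES (s * j₀) ∈ GLin.invariants k A S := hESfix _
      rw [← hS₀] at hfix
      obtain ⟨t₀, ht₀⟩ := hfix
      have ht₀' : algebraMap S₀ S t₀ = ES (s * j₀) := ht₀
      refine ⟨r' * algebraMap S₀ R₀ t₀, Ideal.mul_mem_left _ _ (Ideal.mem_map_of_mem _ ?_), ?_⟩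
      · rw [Ideal.mem_comap, ht₀']; exact hmem
      · rw [Algebra.TensorProduct.productMap_apply_tmul]
        change ER (algebraMap S R s * algebraMap R₀ R r' * algebraMap S R j₀) = _
        have e1 : algebraMap S R s * algebraMap R₀ R r' * algebraMap S R j₀ =
            algebraMap R₀ R r' * algebraMap S R (s * j₀) := by
          rw [map_mul]; ring
        rw [e1, reynolds_mul_of_mem_fixedPts hssR hER hER2 hERx (hinvR r'), hcomm', ← ht₀',
          map_mul, ← IsScalarTower.algebraMap_apply S₀ R₀ R, IsScalarTower.algebraMap_apply S₀ S R]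
    | add x y hx hy =>
      obtain ⟨r, hr, hxr⟩ := hx
      obtain ⟨r', hr', hyr⟩ := hy
      refine ⟨r + r', Ideal.add_mem _ hr hr', ?_⟩
      rw [map_add, add_mul, map_add, hxr, hyr, map_add]
  have hall : ∀ y ∈ J.map (algebraMap S R), ∀ r' : R, ∃ r ∈ 𝔟, ER (r' * y) = algebraMap R₀ R r := by
    intro y hy
    refine Submodule.span_induction
      (p := fun y _ => ∀ r' : R, ∃ r ∈ 𝔟, ER (r' * y) = algebraMap R₀ R r) ?_ ?_ ?_ ?_ hy
    · rintro _ ⟨j₀, hj₀, rfl⟩ r'
      obtain ⟨t, rfl⟩ := hgen r'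
      exact hgen0 j₀ hj₀ t
    · intro r'
      exact ⟨0, Ideal.zero_mem _, by simp⟩
    · intro x y _ _ hx hy r'
      obtain ⟨r, hr, hxr⟩ := hx r'
      obtain ⟨r₂, hr₂, hyr⟩ := hy r'
      exact ⟨r + r₂, Ideal.add_mem _ hr hr₂, by rw [mul_add, map_add, hxr, hyr, map_add]⟩
    · intro c x _ hx r'
      rw [smul_eq_mul, ← mul_assoc]
      exact hx _
  obtain ⟨r, hr, hrr⟩ := hall _ h 1
  rw [one_mul, (hERx _).mpr (hinvR r₀)] at hrr
  rw [hR₀i hrr]
  exact hr

end Key

end Groth.Agent.Lib.Helper25.StrEtale3
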