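import Groth.Agent.Lib.Helper25DensePts
import Groth.Agent.Lib.Helper25TakeuchiCor
import Mathlib

/-!
# Helper25SurjPts: surjective homomorphisms of affine group schemes over an algebraically closed
field are surjective on rational points

`isMonHom_of_map` (a map whose image under a fully faithful oplax monoidal functor is a monoid hom
is a monoid hom for the pulled-back structures), `bialgHomOfIsMonHom`, `XΓ`, `isoΓ`, `grpSpecΓ`,
`grpXΓ`, `instHopfΓ_eq`, `ψΓ`, `φΓ` (the bialgebra map on global sections induced by a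
homomorphism of affine group schemes), `exists_algHom_comp_eq` (Hopf-level lifting of points),
`exists_ptOf_eq`, `ptOf_comp`, `exists_point_lift`.
-/

set_option autoImplicit false
set_option linter.style.haveILetI false
set_option linter.unusedSectionVars false
universe u v w

open CategoryTheory CategoryTheory.Limits MonoidalCategory CartesianMonoidalCategory MonObj GrpObj AlgebraicGeometry

namespace Groth.Agent.Lib.Helper25.SurjPts

open Groth.Agent.Lib.Helper25 Groth.Agent.Lib.Helper25.DensePts Groth.Agent.Lib.Helper25.HopfSub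


section -- SurjA
section general
open Functor

variable {C D : Type*} [Category C] [MonoidalCategory C] [Category D] [MonoidalCategory D]
  (F : C ⥤ D) [F.OplaxMonoidal]

lemma isMonHom_of_map (hF : F.FullyFaithful) {X Y : C} [MonObj (F.obj X)] [MonObj (F.obj Y)]
    (ψ : X ⟶ Y) [IsMonHom (F.map ψ)] :
    letI := hF.monObj X; letI := hF.monObj Y; IsMonHom ψ := by
  letI := hF.monObj X; letI := hF.monObj Y
  refine { one_hom := hF.map_injective ?_, mul_hom := hF.map_injective ?_ }
  · simp [IsMonHom.one_hom]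
  · simp [IsMonHom.mul_hom, OplaxMonoidal.δ_natural_assoc]

end general

end

section -- SurjB
section alg
variable {R : Type u} [CommRing R]

/-- A morphism of monoid objects in `(CommAlgCat R)ᵒᵖ` gives a bialgebra hom -/
noncomputable def bialgHomOfIsMonHom {X Y : (CommAlgCat.{u} R)ᵒᵖ} [MonObj X] [MonObj Y]
    (ψ : X ⟶ Y) [IsMonHom ψ] : Y.unop →ₐc[R] X.unop :=
  .ofAlgHom ψ.unop.hom
    congr(($(IsMonHom.one_hom (f := ψ))).unop.hom)
    congr(($((IsMonHom.mul_hom (f := ψ)).symm)).unop.hom)

end alg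

section
variable (k : Type u) [Field k] (G : Over (Spec (CommRingCat.of k))) [IsAffine G.left]

attribute [local instance] instOver instAlgΓ

noncomputable abbrev XΓ : (CommAlgCat.{u} k)ᵒᵖ := Opposite.op (CommAlgCat.of k Γ(G.left, ⊤))

noncomputable def isoΓ : G ≅ (algSpec (CommRingCat.of k)).obj (XΓ k G) :=
  G.left.isoSpec.asOver (Spec (CommRingCat.of k))

end

end

section -- SurjC
section
variable (k : Type u) [Field k]

noncomputable abbrev instBraided : (algSpec (CommRingCat.of k)).Braided :=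
  braidedAlgSpec (R := CommRingCat.of k)

end

section
variable (k : Type u) [Field k] (G : Over (Spec (CommRingCat.of k))) [GrpObj G] [IsAffine G.left]

attribute [local instance] instOver instAlgΓ instBraided

noncomputable abbrev grpSpecΓ : GrpObj ((algSpec (CommRingCat.of k)).obj (XΓ k G)) :=
  .ofIso (isoΓ k G)

attribute [local instance] grpSpecΓ

noncomputable abbrev grpXΓ : GrpObj (XΓ k G) :=
  (algSpec.fullyFaithful (R := CommRingCat.of k)).grpObj _

attribute [local instance] grpXΓ

theorem instHopfΓ_eq : instHopfΓ k G = instHopfAlgebraCarrierUnopCommAlgCatOfGrpObjOpposite (XΓ k G) := rfl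

end

end

section -- SurjD
section
variable (k : Type u) [Field k] (G G' : Over (Spec (CommRingCat.of k))) [GrpObj G] [GrpObj G']
  [IsAffine G.left] [IsAffine G'.left] (h : G ⟶ G') 

attribute [local instance] instBraided grpSpecΓ grpXΓ

noncomputable def ψΓ : XΓ k G ⟶ XΓ k G' :=
  (algSpec.fullyFaithful (R := CommRingCat.of k)).preimage ((isoΓ k G).inv ≫ h ≫ (isoΓ k G').hom)

omit [GrpObj G] [GrpObj G'] in
lemma map_ψΓ : (algSpec (CommRingCat.of k)).map (ψΓ k G G' h) =
    (isoΓ k G).inv ≫ h ≫ (isoΓ k G').hom := by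
  rw [ψΓ, Functor.FullyFaithful.map_preimage]

variable [IsMonHom h]

instance isMonHom_map_ψΓ : IsMonHom ((algSpec (CommRingCat.of k)).map (ψΓ k G G' h)) := by
  rw [map_ψΓ]; infer_instance

instance isMonHom_ψΓ : IsMonHom (ψΓ k G G' h) :=
  isMonHom_of_map (algSpec (CommRingCat.of k)) algSpec.fullyFaithful _

noncomputable def φΓ :
    letI := instHopfΓ k G; letI := instHopfΓ k G'
    Γ(G'.left, ⊤) →ₐc[k] Γ(G.left, ⊤) := bialgHomOfIsMonHom (ψΓ k G G' h)

lemma φΓ_apply (a : Γ(G'.left, ⊤)) : 
    letI := instHopfΓ k G; letI := instHopfΓ k G'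
    φΓ k G G' h a = (ψΓ k G G' h).unop.hom a := rfl

end

end

section -- SurjE
/-- Over an algebraically closed field, a rational point of a commutative Hopf algebra `A'` killing
the kernel of a bialgebra map `φ : A' → A` lifts to a rational point of `A`. -/
theorem exists_algHom_comp_eq {k : Type u} [Field k] [IsAlgClosed k] {A' : Type v} {A : Type w}
    [CommRing A'] [CommRing A] [HopfAlgebra k A'] [HopfAlgebra k A]
    (φ : A' →ₐc[k] A) (x : A' →ₐ[k] k)
    (hker : ∀ a : A', φ a = 0 → x a = 0) :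
    ∃ g : A →ₐ[k] k, ∀ a, g (φ a) = x a := by
  let B : HSub k A :=
    ⟨(φ : A' →ₐ[k] A).range, comul_mem_of_mem_range φ, antipode_mem_of_mem_range φ⟩
  let xb : ↥B.S →ₐ[k] k :=
    AlgHom.liftOfSurjective (φ : A' →ₐ[k] A).rangeRestrict
      (AlgHom.rangeRestrict_surjective _) x (by
        intro a ha
        rw [RingHom.mem_ker] at ha ⊢
        apply hker a
        have := congrArg Subtype.val ha
        simpa using this)
  obtain ⟨g, hg⟩ := exists_algHom_extend B xb
  refine ⟨g, fun a => ?_⟩
  have h1 := hg ((φ : A' →ₐ[k] A).rangeRestrict a)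
  have h2 : xb ((φ : A' →ₐ[k] A).rangeRestrict a) = x a :=
    AlgHom.liftOfSurjective_apply _ _ _ _ a
  rw [h2] at h1
  exact h1

end

section -- SurjF
section
variable (k : Type u) [Field k] (G : Over (Spec (CommRingCat.of k))) [IsAffine G.left]
attribute [local instance] instOver instAlgΓ

/-- every rational point comes from an algebra hom -/
lemma exists_ptOf_eq (x : 𝟙_ (Over (Spec (CommRingCat.of k))) ⟶ G) :
    ∃ xs : Γ(G.left, ⊤) →ₐ[k] k, ptOf k G xs = x := by
  let r : Γ(G.left, ⊤) ⟶ CommRingCat.of k := Spec.preimage (x.left ≫ G.left.isoSpec.hom)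
  have hr : Spec.map r = x.left ≫ G.left.isoSpec.hom := Spec.map_preimage _
  have hcomm : ∀ c : k, r.hom (algebraMap k Γ(G.left, ⊤) c) = c := by
    have h1 : Spec.map (CommRingCat.ofHom (algebraMap k Γ(G.left, ⊤)) ≫ r) = Spec.map (𝟙 _) := by
      rw [Spec.map_comp, hr, Category.assoc, ← hom_eq k G, Spec.map_id]
      exact Over.w x
    have h2 := Spec.map_injective h1
    intro c
    exact congr($h2 c)
  refine ⟨⟨r.hom, hcomm⟩, ?_⟩
  ext : 1
  change Spec.map (CommRingCat.ofHom r.hom) ≫ G.left.isoSpec.inv = x.left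
  rw [show CommRingCat.ofHom r.hom = r from rfl, hr, Category.assoc, Iso.hom_inv_id,
    Category.comp_id]

end

end

section -- SurjG
section
variable (k : Type u) [Field k] (G G' : Over (Spec (CommRingCat.of k))) 
  [IsAffine G.left] [IsAffine G'.left] (h : G ⟶ G') 

attribute [local instance] instOver instAlgΓ

lemma spec_map_ψΓ : Spec.map (CommRingCat.ofHom (ψΓ k G G' h).unop.hom.toRingHom) =
    G.left.isoSpec.inv ≫ h.left ≫ G'.left.isoSpec.hom := by
  have h1 := congrArg (fun f => f.left) (map_ψΓ k G G' h)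
  exact h1

lemma ptOf_comp (gs : Γ(G.left, ⊤) →ₐ[k] k) :
    ptOf k G gs ≫ h = ptOf k G' (gs.comp (ψΓ k G G' h).unop.hom) := by
  ext : 1
  change (Spec.map (CommRingCat.ofHom gs.toRingHom) ≫ G.left.isoSpec.inv) ≫ h.left =
    Spec.map (CommRingCat.ofHom (gs.comp (ψΓ k G G' h).unop.hom).toRingHom) ≫ G'.left.isoSpec.inv
  have h2 : CommRingCat.ofHom (gs.comp (ψΓ k G G' h).unop.hom).toRingHom =
    CommRingCat.ofHom (ψΓ k G G' h).unop.hom.toRingHom ≫ CommRingCat.ofHom gs.toRingHom := rfl
  rw [h2, Spec.map_comp, spec_map_ψΓ]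
  simp

end

end

section -- SurjH
section
variable (k : Type u) [Field k] [IsAlgClosed k] (G G' : Over (Spec (CommRingCat.of k)))
  [GrpObj G] [GrpObj G'] [IsAffine G.left] [IsAffine G'.left] (h : G ⟶ G') [IsMonHom h]

attribute [local instance] instOver instAlgΓ

theorem exists_point_lift (hs : Surjective h.left)
    (x : 𝟙_ (Over (Spec (CommRingCat.of k))) ⟶ G') :
    ∃ g : 𝟙_ (Over (Spec (CommRingCat.of k))) ⟶ G, g ≫ h = x := by
  obtain ⟨xs, rfl⟩ := exists_ptOf_eq k G' x
  have hsurj : Function.Surjective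
      (Spec.map (CommRingCat.ofHom (ψΓ k G G' h).unop.hom.toRingHom)) := by
    rw [spec_map_ψΓ]
    intro p
    obtain ⟨q, hq⟩ := hs.surj (G'.left.isoSpec.inv p)
    refine ⟨G.left.isoSpec.hom q, ?_⟩
    rw [← Scheme.Hom.comp_apply, Iso.hom_inv_id_assoc, Scheme.Hom.comp_apply, hq,
      ← Scheme.Hom.comp_apply, Iso.inv_hom_id]
    rfl
  have hker : ∀ a : Γ(G'.left, ⊤), (ψΓ k G G' h).unop.hom a = 0 → xs a = 0 := by
    intro a ha
    let p : PrimeSpectrum Γ(G'.left, ⊤) :=
      ⟨RingHom.ker xs.toRingHom, RingHom.ker_isPrime _⟩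
    obtain ⟨q, hq⟩ := hsurj p
    have hq' : Ideal.comap (ψΓ k G G' h).unop.hom.toRingHom q.asIdeal = p.asIdeal :=
      congrArg PrimeSpectrum.asIdeal hq
    have : a ∈ p.asIdeal := by
      rw [← hq', Ideal.mem_comap]
      change (ψΓ k G G' h).unop.hom a ∈ q.asIdeal
      rw [ha]
      exact Submodule.zero_mem _
    exact this
  obtain ⟨gs, hgs⟩ : ∃ gs : Γ(G.left, ⊤) →ₐ[k] k,
      ∀ a, gs ((ψΓ k G G' h).unop.hom a) = xs a := by
    letI := instHopfΓ k G
    letI := instHopfΓ k G'
    exact exists_algHom_comp_eq (φΓ k G G' h) xs hker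
  refine ⟨ptOf k G gs, ?_⟩
  rw [ptOf_comp]
  congr 1
  ext a
  exact hgs a

end

end

end Groth.Agent.Lib.Helper25.SurjPts
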