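import Mathlib

/-!
# Tensor powers of Azumaya algebras (helper25), part A: multi-index matrices

`kron m` is the Kronecker product of a family `m : ι → Matrix d d S`, a matrix indexed by
multi-indices `ι → d`.  `asym` is the antisymmetrizer `ω ⊗ φ` on `(S^ι)^{⊗ ι}`.
-/

set_option autoImplicit false

open Matrix

namespace Groth.Agent.Lib.Helper25.TPow

section Kron

variable {S : Type*} [CommRing S] {ι d : Type*} [Fintype ι] [DecidableEq ι] [Fintype d]
  [DecidableEq d]

/-- the Kronecker product of a family of square matrices -/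
def kron (m : ι → Matrix d d S) : Matrix (ι → d) (ι → d) S :=
  Matrix.of fun I J => ∏ i, m i (I i) (J i)

theorem kron_apply (m : ι → Matrix d d S) (I J : ι → d) :
    kron m I J = ∏ i, m i (I i) (J i) := rfl

theorem kron_mul (m m' : ι → Matrix d d S) :
    kron (fun i => m i * m' i) = kron m * kron m' := by
  ext I J
  simp only [kron_apply, Matrix.mul_apply]
  rw [Finset.prod_univ_sum, Fintype.piFinset_univ]
  refine Finset.sum_congr rfl fun K _ => ?_
  rw [Finset.prod_mul_distrib]

theorem kron_one : kron (fun _ : ι => (1 : Matrix d d S)) = 1 := by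
  ext I J
  simp only [kron_apply, Matrix.one_apply]
  rw [Finset.prod_boole]
  simp only [Finset.mem_univ, forall_const]
  congr 1
  exact propext funext_iff.symm

/-- `kron` as a multilinear map -/
def kronMulti : MultilinearMap S (fun _ : ι => Matrix d d S) (Matrix (ι → d) (ι → d) S) :=
  MultilinearMap.pi fun I => MultilinearMap.pi fun J =>
    (MultilinearMap.mkPiAlgebra S ι S).compLinearMap fun i =>
      Matrix.entryLinearMap S S (I i) (J i)

theorem kronMulti_apply (m : ι → Matrix d d S) : kronMulti m = kron m := rfl

theorem kron_single (I J : ι → d) :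
    kron (fun i => Matrix.single (I i) (J i) (1 : S)) = Matrix.single I J 1 := by
  ext P Q
  simp only [kron_apply, Matrix.single_apply]
  rw [Finset.prod_boole]
  simp only [Finset.mem_univ, forall_const]
  congr 1
  apply propext
  constructor
  · intro h
    exact ⟨funext fun i => (h i).1, funext fun i => (h i).2⟩
  · rintro ⟨h1, h2⟩ i
    exact ⟨congrFun h1 i, congrFun h2 i⟩

theorem kron_map {S' : Type*} [CommRing S'] (f : S →+* S') (m : ι → Matrix d d S) :
    (kron m).map f = kron (fun i => (m i).map f) := by
  ext I J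
  simp [kron_apply, map_prod]

end Kron

section Asym

variable (S : Type*) [CommRing S] {ι : Type*} [Fintype ι] [DecidableEq ι]

/-- the sign of a multi-index (zero if it is not a permutation) -/
noncomputable def eps (I : ι → ι) : S :=
  open Classical in
  if h : Function.Bijective I then ((Equiv.Perm.sign (Equiv.ofBijective I h) : ℤ) : S) else 0

theorem eps_perm (σ : Equiv.Perm ι) : eps S (σ : ι → ι) = ((Equiv.Perm.sign σ : ℤ) : S) := by
  have h : Function.Bijective (σ : ι → ι) := σ.bijective
  rw [eps, dif_pos h]
  congr 3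
  ext i
  rfl

theorem eps_of_not_bijective {I : ι → ι} (h : ¬ Function.Bijective I) : eps S I = 0 := by
  rw [eps, dif_neg h]

theorem eps_id : eps S (id : ι → ι) = 1 := by
  have := eps_perm S (1 : Equiv.Perm ι)
  simpa using this

variable {S}

theorem sum_eps_mul (g : (ι → ι) → S) :
    ∑ K : ι → ι, eps S K * g K = ∑ σ : Equiv.Perm ι, ((Equiv.Perm.sign σ : ℤ) : S) * g σ := by
  symm
  refine Fintype.sum_of_injective (fun σ : Equiv.Perm ι => (σ : ι → ι))
    (fun σ τ h => Equiv.ext (congrFun h)) _ _ ?_ ?_
  · intro K hK
    rw [eps_of_not_bijective, zero_mul]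
    intro hb
    exact hK ⟨Equiv.ofBijective K hb, rfl⟩
  · intro σ
    rw [eps_perm]

theorem sum_eps_mul_prod_col (u : Matrix ι ι S) (J : ι → ι) :
    ∑ K : ι → ι, eps S K * ∏ i, u (K i) (J i) = eps S J * u.det := by
  rw [sum_eps_mul]
  have h1 : ∑ σ : Equiv.Perm ι, ((Equiv.Perm.sign σ : ℤ) : S) * ∏ i, u (σ i) (J i) =
      (u.submatrix id J).det := by
    rw [Matrix.det_apply']
    rfl
  rw [h1]
  by_cases hJ : Function.Bijective J
  · have h2 : J = (Equiv.ofBijective J hJ : ι → ι) := rfl
    rw [h2, eps_perm, Matrix.det_permute']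
  · rw [eps_of_not_bijective S hJ, zero_mul]
    have hinj : ¬ Function.Injective J := fun h => hJ (Finite.injective_iff_bijective.mp h)
    rw [Function.Injective] at hinj
    push Not at hinj
    obtain ⟨i, j, hij, hne⟩ := hinj
    apply Matrix.det_zero_of_column_eq hne
    intro k
    simp [hij]

theorem sum_eps_mul_prod_row (u : Matrix ι ι S) (I : ι → ι) :
    ∑ K : ι → ι, eps S K * ∏ i, u (I i) (K i) = eps S I * u.det := by
  have := sum_eps_mul_prod_col u.transpose I
  simpa [Matrix.det_transpose] using this

variable (S ι)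

/-- the antisymmetrizer -/
noncomputable def asym : Matrix (ι → ι) (ι → ι) S := Matrix.vecMulVec (eps S) (eps S)

variable {S ι}

theorem asym_apply (I J : ι → ι) : asym S ι I J = eps S I * eps S J := rfl

theorem asym_map {S' : Type*} [CommRing S'] (f : S →+* S') :
    (asym S ι).map f = asym S' ι := by
  ext I J
  simp only [Matrix.map_apply, asym_apply, map_mul]
  have h : ∀ K : ι → ι, f (eps S K) = eps S' K := by
    intro K
    by_cases hK : Function.Bijective K
    · have h2 : K = (Equiv.ofBijective K hK : ι → ι) := rfl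
      rw [h2, eps_perm, eps_perm]
      simp
    · rw [eps_of_not_bijective S hK, eps_of_not_bijective S' hK, map_zero]
  rw [h, h]

theorem kron_const_mul_asym (u : Matrix ι ι S) :
    kron (fun _ : ι => u) * asym S ι = u.det • asym S ι := by
  ext I J
  simp only [Matrix.mul_apply, kron_apply, asym_apply, Matrix.smul_apply, smul_eq_mul]
  have := sum_eps_mul_prod_row u I
  calc ∑ K : ι → ι, (∏ i, u (I i) (K i)) * (eps S K * eps S J)
      = (∑ K : ι → ι, eps S K * ∏ i, u (I i) (K i)) * eps S J := by
        rw [Finset.sum_mul]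
        refine Finset.sum_congr rfl fun K _ => ?_
        ring
    _ = u.det * (eps S I * eps S J) := by rw [this]; ring

theorem asym_mul_kron_const (u : Matrix ι ι S) :
    asym S ι * kron (fun _ : ι => u) = u.det • asym S ι := by
  ext I J
  simp only [Matrix.mul_apply, kron_apply, asym_apply, Matrix.smul_apply, smul_eq_mul]
  have := sum_eps_mul_prod_col u J
  calc ∑ K : ι → ι, eps S I * eps S K * ∏ i, u (K i) (J i)
      = eps S I * (∑ K : ι → ι, eps S K * ∏ i, u (K i) (J i)) := by
        rw [Finset.mul_sum]
        refine Finset.sum_congr rfl fun K _ => ?_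
        ring
    _ = u.det * (eps S I * eps S J) := by rw [this]; ring

theorem kron_const_commute_asym (u : Matrix ι ι S) :
    kron (fun _ : ι => u) * asym S ι = asym S ι * kron (fun _ : ι => u) := by
  rw [kron_const_mul_asym, asym_mul_kron_const]

/-- (iii): `asym M asym` is a multiple of `asym` -/
theorem asym_mul_mul_asym (M : Matrix (ι → ι) (ι → ι) S) :
    asym S ι * M * asym S ι = (eps S ⬝ᵥ (M *ᵥ eps S)) • asym S ι := by
  rw [asym, Matrix.mul_assoc, Matrix.mul_vecMulVec, Matrix.vecMulVec_mul_vecMulVec]
  rw [Matrix.vecMulVec_smul]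

/-- (i): `asym` is von Neumann regular -/
theorem asym_mul_single_mul_asym :
    asym S ι * Matrix.single (id : ι → ι) id 1 * asym S ι = asym S ι := by
  rw [asym_mul_mul_asym, Matrix.single_mulVec_eq, eps_id, mul_one, one_smul,
    dotProduct_single_one, eps_id, one_smul]

/-- (ii): `asym` generates the unit two-sided ideal -/
theorem sum_single_mul_asym_mul_single :
    ∑ I : ι → ι, Matrix.single I (id : ι → ι) (1 : S) * asym S ι * Matrix.single id I 1 = 1 := by
  simp only [Matrix.single_mul_mul_single, asym_apply, eps_id, mul_one]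
  ext P Q
  rw [Matrix.sum_apply]
  simp only [Matrix.single_apply, Matrix.one_apply]
  by_cases h : P = Q
  · subst h
    simp
  · simp only [h, if_false]
    apply Finset.sum_eq_zero
    intro I _
    rw [if_neg]
    rintro ⟨rfl, rfl⟩
    exact h rfl

end Asym

end Groth.Agent.Lib.Helper25.TPow
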