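import Mathlib

/-!
# Tensor powers of Azumaya algebras (helper25), part B: base change of `PiTensorProduct`

For a finitely generated projective `R`-module `M` the canonical map
`S ⊗[R] (⨂[R] _ : ι, M) → ⨂[S] _ : ι, (S ⊗[R] M)` is bijective, and `⨂[R] _ : ι, M` is projective.
-/

set_option autoImplicit false

open TensorProduct PiTensorProduct

namespace Groth.Agent.Lib.Helper25.TPow

section Beta

variable (R : Type*) [CommRing R] (S : Type*) [CommRing S] [Algebra R S]
  (ι : Type*) [Finite ι] (M : Type*) [AddCommGroup M] [Module R M]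

/-- the `R`-multilinear map `m ↦ ⨂ (1 ⊗ m i)` -/
noncomputable def betaMulti :
    MultilinearMap R (fun _ : ι => M) (⨂[S] _ : ι, (S ⊗[R] M)) :=
  ((PiTensorProduct.tprod S (s := fun _ : ι => S ⊗[R] M)).restrictScalars R).compLinearMap
    (fun _ => TensorProduct.mk R S M 1)

theorem betaMulti_apply (m : ι → M) :
    betaMulti R S ι M m = PiTensorProduct.tprod S (fun i => (1 : S) ⊗ₜ[R] m i) := rfl

/-- the base change comparison map for `PiTensorProduct` -/
noncomputable def beta : S ⊗[R] (⨂[R] _ : ι, M) →ₗ[S] ⨂[S] _ : ι, (S ⊗[R] M) :=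
  LinearMap.liftBaseChange S (PiTensorProduct.lift (betaMulti R S ι M))

theorem beta_tmul_tprod (c : S) (m : ι → M) :
    beta R S ι M (c ⊗ₜ[R] PiTensorProduct.tprod R m) =
      c • PiTensorProduct.tprod S (fun i => (1 : S) ⊗ₜ[R] m i) := by
  simp [beta, betaMulti_apply]

variable {R S ι M}

/-- two `S`-linear maps out of `S ⊗ ⨂ M` agreeing on `1 ⊗ tprod m` are equal -/
theorem ext_baseChange_pi {N : Type*} [AddCommGroup N] [Module S N]
    {f g : S ⊗[R] (⨂[R] _ : ι, M) →ₗ[S] N}
    (h : ∀ m : ι → M, f ((1 : S) ⊗ₜ[R] PiTensorProduct.tprod R m) =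
      g ((1 : S) ⊗ₜ[R] PiTensorProduct.tprod R m)) : f = g := by
  have key : ∀ y : ⨂[R] _ : ι, M, f ((1 : S) ⊗ₜ[R] y) = g ((1 : S) ⊗ₜ[R] y) := by
    intro y
    induction y using PiTensorProduct.induction_on with
    | smul_tprod r m =>
      have hr : (1 : S) ⊗ₜ[R] (r • PiTensorProduct.tprod R m) =
          algebraMap R S r • ((1 : S) ⊗ₜ[R] PiTensorProduct.tprod R m) := by
        rw [TensorProduct.tmul_smul, TensorProduct.smul_tmul', TensorProduct.smul_tmul',
          Algebra.smul_def, smul_eq_mul]
      rw [hr, map_smul, map_smul, h]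
    | add x y hx hy => rw [TensorProduct.tmul_add, map_add, map_add, hx, hy]
  apply LinearMap.ext
  intro x
  induction x using TensorProduct.induction_on with
  | zero => rw [map_zero, map_zero]
  | tmul c y =>
    have hc : c ⊗ₜ[R] y = c • ((1 : S) ⊗ₜ[R] y) := by
      rw [TensorProduct.smul_tmul', smul_eq_mul, mul_one]
    rw [hc, map_smul, map_smul, key]
  | add x y hx hy => rw [map_add, map_add, hx, hy]

/-- induction principle for `S ⊗ ⨂ M` -/
theorem baseChange_pi_induction {motive : S ⊗[R] (⨂[R] _ : ι, M) → Prop}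
    (zero : motive 0)
    (tmul_tprod : ∀ (c : S) (a : ι → M), motive (c ⊗ₜ[R] PiTensorProduct.tprod R a))
    (add : ∀ x y, motive x → motive y → motive (x + y)) (x : S ⊗[R] (⨂[R] _ : ι, M)) :
    motive x := by
  induction x using TensorProduct.induction_on with
  | zero => exact zero
  | add x y hx hy => exact add x y hx hy
  | tmul c y =>
    induction y using PiTensorProduct.induction_on with
    | smul_tprod r a =>
      rw [TensorProduct.tmul_smul, TensorProduct.smul_tmul']
      exact tmul_tprod _ _
    | add y z hy hz =>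
      rw [TensorProduct.tmul_add]
      exact add _ _ hy hz

variable (S ι) in
theorem beta_naturality {M' : Type*} [AddCommGroup M'] [Module R M'] (g : M →ₗ[R] M') :
    (beta R S ι M').comp ((PiTensorProduct.map (fun _ : ι => g)).baseChange S) =
      (PiTensorProduct.map (fun _ : ι => g.baseChange S)).comp (beta R S ι M) := by
  refine ext_baseChange_pi (R := R) (S := S) (ι := ι) (M := M)
    (N := ⨂[S] _ : ι, (S ⊗[R] M')) (fun m => ?_)
  simp [beta_tmul_tprod, PiTensorProduct.map_tprod]

variable (S ι) in
theorem beta_bijective_of_basis {κ : Type*} (b : Module.Basis κ R M) :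
    Function.Bijective (beta R S ι M) := by
  let B₁ : Module.Basis (ι → κ) S (S ⊗[R] (⨂[R] _ : ι, M)) :=
    Algebra.TensorProduct.basis S (_root_.Basis.piTensorProduct (fun _ : ι => b))
  let B₂ : Module.Basis (ι → κ) S (⨂[S] _ : ι, (S ⊗[R] M)) :=
    _root_.Basis.piTensorProduct (fun _ : ι => Algebra.TensorProduct.basis S b)
  have h : beta R S ι M = (B₁.equiv B₂ (Equiv.refl _)).toLinearMap := by
    apply B₁.ext
    intro K
    rw [LinearEquiv.coe_coe, Module.Basis.equiv_apply]
    simp only [B₁, B₂, Algebra.TensorProduct.basis_apply, _root_.Basis.piTensorProduct_apply,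
      beta_tmul_tprod, one_smul, Equiv.refl_apply]
  rw [h]
  exact (B₁.equiv B₂ (Equiv.refl _)).bijective

variable (S ι) in
theorem beta_bijective [Module.Finite R M] [Module.Projective R M] :
    Function.Bijective (beta R S ι M) := by
  obtain ⟨n, f, g, -, -, hfg⟩ := Module.Finite.exists_comp_eq_id_of_projective R M
  have hF := beta_bijective_of_basis S ι (Pi.basisFun R (Fin n))
  have hnat_g := beta_naturality S ι g
  have hnat_f := beta_naturality S ι f
  have hcomp1 : ((PiTensorProduct.map (fun _ : ι => f)).baseChange S).comp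
      ((PiTensorProduct.map (fun _ : ι => g)).baseChange S) = LinearMap.id := by
    rw [← LinearMap.baseChange_comp, ← PiTensorProduct.map_comp]
    simp only [hfg]
    rw [PiTensorProduct.map_id, LinearMap.baseChange_id]
  have hcomp2 : (PiTensorProduct.map (fun _ : ι => f.baseChange S)).comp
      (PiTensorProduct.map (fun _ : ι => g.baseChange S)) = LinearMap.id := by
    rw [← PiTensorProduct.map_comp]
    simp only [← LinearMap.baseChange_comp, hfg, LinearMap.baseChange_id]
    rw [PiTensorProduct.map_id]
  constructor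
  · rw [injective_iff_map_eq_zero]
    intro x hx
    have h1 : beta R S ι (Fin n → R) ((PiTensorProduct.map (fun _ : ι => g)).baseChange S x) = 0 := by
      have := congrArg (fun φ => φ x) hnat_g
      simp only [LinearMap.comp_apply] at this
      rw [this, hx, map_zero]
    have h2 := hF.1 (h1.trans (map_zero _).symm)
    have h3 := congrArg (fun φ => φ x) hcomp1
    simp only [LinearMap.comp_apply, LinearMap.id_apply] at h3
    rw [← h3, h2, map_zero]
  · intro y
    obtain ⟨z, hz⟩ := hF.2 (PiTensorProduct.map (fun _ : ι => g.baseChange S) y)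
    refine ⟨(PiTensorProduct.map (fun _ : ι => f)).baseChange S z, ?_⟩
    have := congrArg (fun φ => φ z) hnat_f
    simp only [LinearMap.comp_apply] at this
    rw [this, hz]
    have h3 := congrArg (fun φ => φ y) hcomp2
    simpa using h3

end Beta

section Proj

variable (R : Type*) [CommRing R] (ι : Type*) [Finite ι] (M : Type*) [AddCommGroup M] [Module R M]

theorem projective_piTensor [Module.Finite R M] [Module.Projective R M] :
    Module.Projective R (⨂[R] _ : ι, M) := by
  obtain ⟨n, f, g, -, -, hfg⟩ := Module.Finite.exists_comp_eq_id_of_projective R M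
  haveI : Module.Free R (⨂[R] _ : ι, (Fin n → R)) :=
    Module.Free.of_basis (_root_.Basis.piTensorProduct (fun _ : ι => Pi.basisFun R (Fin n)))
  refine Module.Projective.of_split (PiTensorProduct.map (fun _ : ι => g))
    (PiTensorProduct.map (fun _ : ι => f)) ?_
  rw [← PiTensorProduct.map_comp]
  simp only [hfg]
  rw [PiTensorProduct.map_id]

end Proj

end Groth.Agent.Lib.Helper25.TPow
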