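import Mathlib
import Groth.Agent.Lib.Helper25TPowA
import Groth.Agent.Lib.Helper25TPowB
import Groth.Agent.Lib.Helper19AzSplitB

/-!
# Tensor powers of Azumaya algebras (helper25), part C: the splitting of the tensor power

For an `R`-algebra homomorphism `ϑ : A → M_ι(S)` we construct the `S`-algebra homomorphism
`Psi ϑ : S ⊗[R] (⨂[R] _ : ι, A) → M_{ι → ι}(S)` and show that it is bijective when the induced
map `S ⊗[R] A → M_ι(S)` is bijective and `A` is finitely generated projective.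
-/

set_option autoImplicit false
set_option linter.unusedSectionVars false

open TensorProduct PiTensorProduct Matrix

namespace Groth.Agent.Lib.Helper25.TPow

section Psi

variable {R : Type*} [CommRing R] {A : Type*} [Ring A] [Algebra R A]
  {S : Type*} [CommRing S] [Algebra R S] {ι : Type*} [Fintype ι] [DecidableEq ι]

/-- the multilinear map `a ↦ kron (ϑ ∘ a)` -/
noncomputable def psiMulti (ϑ : A →ₐ[R] Matrix ι ι S) :
    MultilinearMap R (fun _ : ι => A) (Matrix (ι → ι) (ι → ι) S) :=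
  ((kronMulti (S := S) (ι := ι) (d := ι)).restrictScalars R).compLinearMap
    (fun _ => ϑ.toLinearMap)

theorem psiMulti_apply (ϑ : A →ₐ[R] Matrix ι ι S) (a : ι → A) :
    psiMulti ϑ a = kron (fun i => ϑ (a i)) := rfl

/-- the `R`-algebra homomorphism `⨂ A → M_{ι → ι}(S)` -/
noncomputable def psi (ϑ : A →ₐ[R] Matrix ι ι S) :
    (⨂[R] _ : ι, A) →ₐ[R] Matrix (ι → ι) (ι → ι) S :=
  PiTensorProduct.liftAlgHom (psiMulti ϑ)
    (by
      rw [psiMulti_apply]
      simp only [Pi.one_apply, map_one]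
      exact kron_one)
    (by
      intro x y
      rw [psiMulti_apply, psiMulti_apply, psiMulti_apply, ← kron_mul]
      simp only [Pi.mul_apply, map_mul])

theorem psi_tprod (ϑ : A →ₐ[R] Matrix ι ι S) (a : ι → A) :
    psi ϑ (PiTensorProduct.tprod R a) = kron (fun i => ϑ (a i)) := by
  simp [psi, psiMulti_apply]

/-- the `S`-algebra homomorphism `S ⊗ ⨂ A → M_{ι → ι}(S)` -/
noncomputable def Psi (ϑ : A →ₐ[R] Matrix ι ι S) :
    S ⊗[R] (⨂[R] _ : ι, A) →ₐ[S] Matrix (ι → ι) (ι → ι) S :=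
  Algebra.TensorProduct.lift (Algebra.ofId S _) (psi ϑ) (fun s t => Algebra.commutes s _)

theorem Psi_tmul (ϑ : A →ₐ[R] Matrix ι ι S) (c : S) (t : ⨂[R] _ : ι, A) :
    Psi ϑ (c ⊗ₜ[R] t) = c • psi ϑ t := by
  rw [Psi, Algebra.TensorProduct.lift_tmul, Algebra.ofId_apply, ← Algebra.smul_def]

theorem Psi_tmul_tprod (ϑ : A →ₐ[R] Matrix ι ι S) (c : S) (a : ι → A) :
    Psi ϑ (c ⊗ₜ[R] PiTensorProduct.tprod R a) = c • kron (fun i => ϑ (a i)) := by
  rw [Psi_tmul, psi_tprod]

/-- the `S`-algebra homomorphism `S ⊗ A → M_ι(S)` -/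
noncomputable def Theta (ϑ : A →ₐ[R] Matrix ι ι S) : S ⊗[R] A →ₐ[S] Matrix ι ι S :=
  Algebra.TensorProduct.lift (Algebra.ofId S _) ϑ (fun s t => Algebra.commutes s _)

theorem Theta_tmul (ϑ : A →ₐ[R] Matrix ι ι S) (c : S) (a : A) :
    Theta ϑ (c ⊗ₜ[R] a) = c • ϑ a := by
  rw [Theta, Algebra.TensorProduct.lift_tmul, Algebra.ofId_apply, ← Algebra.smul_def]

/-- `kron` as a linear map on the tensor power of the matrix algebra -/
noncomputable def kronLin : (⨂[S] _ : ι, Matrix ι ι S) →ₗ[S] Matrix (ι → ι) (ι → ι) S :=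
  PiTensorProduct.lift (kronMulti (S := S) (ι := ι) (d := ι))

theorem kronLin_tprod (m : ι → Matrix ι ι S) :
    kronLin (PiTensorProduct.tprod S m) = kron m := by
  simp [kronLin, kronMulti_apply]

theorem kronLin_bijective : Function.Bijective (kronLin (S := S) (ι := ι)) := by
  let B₁ : Module.Basis (ι → ι × ι) S (⨂[S] _ : ι, Matrix ι ι S) :=
    _root_.Basis.piTensorProduct (fun _ : ι => Matrix.stdBasis S ι ι)
  let B₂ : Module.Basis ((ι → ι) × (ι → ι)) S (Matrix (ι → ι) (ι → ι) S) :=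
    Matrix.stdBasis S (ι → ι) (ι → ι)
  let e : (ι → ι × ι) ≃ (ι → ι) × (ι → ι) := Equiv.arrowProdEquivProdArrow ι (fun _ => ι) (fun _ => ι)
  have h : kronLin (S := S) (ι := ι) = (B₁.equiv B₂ e).toLinearMap := by
    apply B₁.ext
    intro K
    rw [LinearEquiv.coe_coe, Module.Basis.equiv_apply]
    have hs : ∀ p : ι × ι, Matrix.stdBasis S ι ι p = Matrix.single p.1 p.2 (1 : S) :=
      fun p => Matrix.stdBasis_eq_single S p.1 p.2
    have hs' : ∀ p : (ι → ι) × (ι → ι),
        Matrix.stdBasis S (ι → ι) (ι → ι) p = Matrix.single p.1 p.2 (1 : S) :=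
      fun p => Matrix.stdBasis_eq_single S p.1 p.2
    simp only [B₁, B₂, _root_.Basis.piTensorProduct_apply, kronLin_tprod, hs, hs']
    exact kron_single (S := S) (fun i => (K i).1) (fun i => (K i).2)
  rw [h]
  exact (B₁.equiv B₂ e).bijective

theorem Psi_eq_comp (ϑ : A →ₐ[R] Matrix ι ι S) :
    (Psi ϑ).toLinearMap =
      kronLin.comp ((PiTensorProduct.map (fun _ : ι => (Theta ϑ).toLinearMap)).comp
        (beta R S ι A)) := by
  refine ext_baseChange_pi (R := R) (S := S) (ι := ι) (M := A)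
    (N := Matrix (ι → ι) (ι → ι) S) (fun a => ?_)
  rw [AlgHom.toLinearMap_apply, Psi_tmul_tprod, one_smul, LinearMap.comp_apply,
    LinearMap.comp_apply, beta_tmul_tprod, one_smul, PiTensorProduct.map_tprod, kronLin_tprod]
  congr 1
  funext i
  rw [AlgHom.toLinearMap_apply, Theta_tmul, one_smul]

theorem Psi_bijective [Module.Finite R A] [Module.Projective R A] (ϑ : A →ₐ[R] Matrix ι ι S)
    (hΘ : Function.Bijective (Theta ϑ)) : Function.Bijective (Psi ϑ) := by
  have h1 : Function.Bijective (PiTensorProduct.map (R := S)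
      (fun _ : ι => (Theta ϑ).toLinearMap)) := by
    let E : S ⊗[R] A ≃ₗ[S] Matrix ι ι S := LinearEquiv.ofBijective (Theta ϑ).toLinearMap hΘ
    have : PiTensorProduct.map (R := S) (fun _ : ι => (Theta ϑ).toLinearMap) =
        (PiTensorProduct.congr (fun _ : ι => E)).toLinearMap := rfl
    rw [this]
    exact (PiTensorProduct.congr (fun _ : ι => E)).bijective
  have h2 := beta_bijective (R := R) S ι (M := A)
  have h3 := kronLin_bijective (S := S) (ι := ι)
  have h := (h3.comp (h1.comp h2))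
  have heq : (Psi ϑ : S ⊗[R] (⨂[R] _ : ι, A) → Matrix (ι → ι) (ι → ι) S) =
      (kronLin (S := S) (ι := ι)) ∘ ((PiTensorProduct.map (R := S)
        (fun _ : ι => (Theta ϑ).toLinearMap)) ∘ (beta R S ι A)) := by
    funext x
    have := congrArg (fun φ => φ x) (Psi_eq_comp ϑ)
    exact this
  rw [heq]
  exact h

/-- naturality of `Psi` in `S` -/
theorem Psi_naturality {S' : Type*} [CommRing S'] [Algebra R S'] (f : S →ₐ[R] S')
    (ϑ : A →ₐ[R] Matrix ι ι S) (x : S ⊗[R] (⨂[R] _ : ι, A)) :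
    Psi ((f.mapMatrix (m := ι)).comp ϑ) (LinearMap.rTensor (⨂[R] _ : ι, A) f.toLinearMap x) =
      (Psi ϑ x).map f := by
  induction x using baseChange_pi_induction with
  | zero => simp
  | add x y hx hy =>
    rw [map_add, map_add, hx, hy, map_add, Matrix.map_add f (map_add f)]
  | tmul_tprod c a =>
    rw [LinearMap.rTensor_tmul, AlgHom.toLinearMap_apply, Psi_tmul_tprod, Psi_tmul_tprod]
    have h1 : (c • kron (fun i => ϑ (a i))).map f = f c • (kron (fun i => ϑ (a i))).map f := by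
      ext I J
      simp
    rw [h1, show (kron fun i => ϑ (a i)).map ⇑f = _ from kron_map (f : S →+* S') _]
    rfl

/-- conjugation equivariance of `Psi` -/
theorem Psi_conj (ϑ ϑ' : A →ₐ[R] Matrix ι ι S) (u v : Matrix ι ι S)
    (h : ∀ a, ϑ' a = u * ϑ a * v) (x : S ⊗[R] (⨂[R] _ : ι, A)) :
    Psi ϑ' x = kron (fun _ : ι => u) * Psi ϑ x * kron (fun _ : ι => v) := by
  induction x using baseChange_pi_induction with
  | zero => simp
  | add x y hx hy => rw [map_add, map_add, hx, hy, mul_add, add_mul]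
  | tmul_tprod c a =>
    rw [Psi_tmul_tprod, Psi_tmul_tprod]
    simp only [h]
    rw [kron_mul, kron_mul]
    simp only [Matrix.mul_smul, Matrix.smul_mul]

theorem Psi_conj_asym (ϑ ϑ' : A →ₐ[R] Matrix ι ι S) (u v : Matrix ι ι S) (huv : u * v = 1)
    (h : ∀ a, ϑ' a = u * ϑ a * v) (x : S ⊗[R] (⨂[R] _ : ι, A)) (hx : Psi ϑ x = asym S ι) :
    Psi ϑ' x = asym S ι := by
  rw [Psi_conj ϑ ϑ' u v h, hx, kron_const_commute_asym, Matrix.mul_assoc, ← kron_mul]
  simp only [huv]
  rw [kron_one, Matrix.mul_one]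

end Psi

end Groth.Agent.Lib.Helper25.TPow
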