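import Mathlib
import Groth.Agent.Lib.Helper25TPowC
import Groth.Agent.Lib.Helper25CliffU
import Groth.Agent.Lib.LeadAzumaya

/-!
# Tensor powers of Azumaya algebras (helper25), part D: independence of the splitting

For an Azumaya algebra `A` of degree `|ι|`, every `R`-algebra homomorphism `A → M_ι(S)` is a
splitting, and the preimage of the antisymmetrizer under `Psi ϑ` does not depend on `ϑ`.
-/

set_option autoImplicit false
set_option linter.unusedSectionVars false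
set_option linter.style.haveILetI false

open TensorProduct PiTensorProduct Matrix

namespace Groth.Agent.Lib.Helper25.TPow

section Az

variable {R : Type*} [CommRing R] {A : Type*} [Ring A] [Algebra R A] [IsAzumaya R A]
  {ι : Type*} [Fintype ι] [DecidableEq ι] [Nonempty ι]
  (hrk : ∀ p : PrimeSpectrum R, Module.rankAtStalk (R := R) A p = (Fintype.card ι) ^ 2)
  {S : Type*} [CommRing S] [Algebra R S]

include hrk

theorem Theta_bijective (ϑ : A →ₐ[R] Matrix ι ι S) : Function.Bijective (Theta ϑ) := by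
  haveI : IsAzumaya S (S ⊗[R] A) := Groth.Agent.Lib.LeadAzumaya.isAzumaya_baseChange S A
  haveI : IsAzumaya S (Matrix ι ι S) := IsAzumaya.matrix S ι
  apply Groth.Agent.Lib.Helper19AzSplit.bijective_of_isAzumaya
  intro p
  haveI : Nontrivial S := ⟨⟨0, 1, fun h => p.isPrime.ne_top ((Ideal.eq_top_iff_one _).mpr (h ▸ p.asIdeal.zero_mem))⟩⟩
  rw [Module.rankAtStalk_baseChange, hrk]
  have := congrFun (Module.rankAtStalk_eq_finrank_of_free (R := S) (M := Matrix ι ι S)) p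
  rw [this]
  simp [Module.finrank_matrix, sq]

theorem Psi_bijective' (ϑ : A →ₐ[R] Matrix ι ι S) : Function.Bijective (Psi ϑ) :=
  Psi_bijective ϑ (Theta_bijective hrk ϑ)

theorem exists_conj [IsLocalRing S] (ϑ ϑ' : A →ₐ[R] Matrix ι ι S) :
    ∃ u v : Matrix ι ι S, u * v = 1 ∧ ∀ a, ϑ' a = u * ϑ a * v := by
  let Θ : S ⊗[R] A ≃ₐ[S] Matrix ι ι S := AlgEquiv.ofBijective (Theta ϑ) (Theta_bijective hrk ϑ)
  let Θ' : S ⊗[R] A ≃ₐ[S] Matrix ι ι S := AlgEquiv.ofBijective (Theta ϑ') (Theta_bijective hrk ϑ')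
  let α : Matrix ι ι S ≃ₐ[S] Matrix ι ι S := Θ.symm.trans Θ'
  haveI : NeZero (Fintype.card ι) := ⟨Fintype.card_ne_zero⟩
  obtain ⟨θ, hθ⟩ := Groth.Agent.Lib.Helper25.Cliff.exists_unit_conj_of_algEquiv_matrix
    (Matrix.reindexAlgEquiv S S (Fintype.equivFin ι)) α
  refine ⟨θ, ↑θ⁻¹, θ.mul_inv, fun a => ?_⟩
  rw [← hθ]
  have h1 : ϑ a = Θ ((1 : S) ⊗ₜ[R] a) := by
    rw [AlgEquiv.ofBijective_apply, Theta_tmul, one_smul]
  have h2 : ϑ' a = Θ' ((1 : S) ⊗ₜ[R] a) := by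
    rw [AlgEquiv.ofBijective_apply, Theta_tmul, one_smul]
  rw [h1, h2]
  simp [α]

theorem Psi_indep_local [IsLocalRing S] (ϑ ϑ' : A →ₐ[R] Matrix ι ι S)
    (x : S ⊗[R] (⨂[R] _ : ι, A)) (hx : Psi ϑ x = asym S ι) : Psi ϑ' x = asym S ι := by
  obtain ⟨u, v, huv, h⟩ := exists_conj hrk ϑ ϑ'
  exact Psi_conj_asym ϑ ϑ' u v huv h x hx

theorem Psi_indep (ϑ ϑ' : A →ₐ[R] Matrix ι ι S)
    (x : S ⊗[R] (⨂[R] _ : ι, A)) (hx : Psi ϑ x = asym S ι) : Psi ϑ' x = asym S ι := by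
  ext I J
  rw [← sub_eq_zero]
  apply eq_zero_of_localization
  intro m hm
  let L := Localization.AtPrime m
  let f : S →ₐ[R] L := IsScalarTower.toAlgHom R S L
  have h1 := Psi_naturality f ϑ x
  have h2 := Psi_naturality f ϑ' x
  rw [hx, show (asym S ι).map ⇑f = asym L ι from asym_map (f : S →+* L)] at h1
  have h3 := Psi_indep_local hrk _ ((f.mapMatrix (m := ι)).comp ϑ') _ h1
  rw [h2] at h3
  have h4 := congrFun (congrFun h3 I) J
  rw [Matrix.map_apply] at h4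
  rw [map_sub, sub_eq_zero]
  change f _ = f _
  rw [h4]
  have h5 := congrFun (congrFun (asym_map (S := S) (ι := ι) (f : S →+* L)) I) J
  rw [Matrix.map_apply] at h5
  exact h5.symm

/-- the preimage of the antisymmetrizer does not depend on the splitting -/
theorem asymElt_unique (ϑ ϑ' : A →ₐ[R] Matrix ι ι S)
    (x x' : S ⊗[R] (⨂[R] _ : ι, A)) (hx : Psi ϑ x = asym S ι) (hx' : Psi ϑ' x' = asym S ι) :
    x = x' :=
  (Psi_bijective' hrk ϑ').1 ((Psi_indep hrk ϑ ϑ' x hx).trans hx'.symm)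

theorem exists_asymElt (ϑ : A →ₐ[R] Matrix ι ι S) :
    ∃ x : S ⊗[R] (⨂[R] _ : ι, A), Psi ϑ x = asym S ι :=
  (Psi_bijective' hrk ϑ).2 _

end Az

end Groth.Agent.Lib.Helper25.TPow
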