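import Mathlib
import Groth.Agent.Lib.Helper25TPowD

/-!
# Tensor powers of Azumaya algebras (helper25), part E: descent of the antisymmetrizer
-/

set_option autoImplicit false
set_option linter.unusedSectionVars false
set_option linter.style.haveILetI false

open TensorProduct PiTensorProduct Matrix

namespace Groth.Agent.Lib.Helper25.TPow

section GenDescent

variable {R : Type*} [CommRing R] {S : Type*} [CommRing S] [Algebra R S]
  [Module.FaithfullyFlat R S]

/-- membership in a submodule descends along a faithfully flat extension -/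
theorem mem_of_tmul_mem_span {N : Type*} [AddCommGroup N] [Module R N] (P : Submodule R N) (y : N)
    (h : (1 : S) ⊗ₜ[R] y ∈ Submodule.span S ((fun p : N => (1 : S) ⊗ₜ[R] p) '' (P : Set N))) :
    y ∈ P := by
  have h1 : (P.mkQ.baseChange S) ((1 : S) ⊗ₜ[R] y) = 0 := by
    have hle : Submodule.span S ((fun p : N => (1 : S) ⊗ₜ[R] p) '' (P : Set N)) ≤
        LinearMap.ker (P.mkQ.baseChange S) := by
      rw [Submodule.span_le]
      rintro _ ⟨p, hp, rfl⟩
      rw [SetLike.mem_coe, LinearMap.mem_ker, LinearMap.baseChange_tmul]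
      have : P.mkQ p = 0 := by
        rw [Submodule.mkQ_apply, Submodule.Quotient.mk_eq_zero]
        exact hp
      rw [this, TensorProduct.tmul_zero]
    exact hle h
  rw [LinearMap.baseChange_tmul] at h1
  have h2 : TensorProduct.mk R S (N ⧸ P) 1 (P.mkQ y) = TensorProduct.mk R S (N ⧸ P) 1 0 := by
    rw [TensorProduct.mk_apply, TensorProduct.mk_apply, h1, TensorProduct.tmul_zero]
  have h3 := Module.FaithfullyFlat.tensorProduct_mk_injective (A := R) (B := S) (N ⧸ P) h2
  rwa [Submodule.mkQ_apply, Submodule.Quotient.mk_eq_zero] at h3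

variable {T : Type*} [Ring T] [Algebra R T] (s : T)

/-- descent of von Neumann regularity -/
theorem descent_regular
    (h : ∃ z : S ⊗[R] T, ((1 : S) ⊗ₜ[R] s) * z * ((1 : S) ⊗ₜ[R] s) = (1 : S) ⊗ₜ[R] s) :
    ∃ a : T, s * a * s = s := by
  obtain ⟨z, hz⟩ := h
  let L : T →ₗ[R] T := (LinearMap.mulLeft R s).comp (LinearMap.mulRight R s)
  have hL : ∀ a, L a = s * (a * s) := fun a => rfl
  have key : ∀ z : S ⊗[R] T, ((1 : S) ⊗ₜ[R] s) * z * ((1 : S) ⊗ₜ[R] s) ∈
      Submodule.span S ((fun p : T => (1 : S) ⊗ₜ[R] p) '' (LinearMap.range L : Set T)) := by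
    intro z
    induction z using TensorProduct.induction_on with
    | zero => simp
    | add z w hz hw =>
      rw [mul_add, add_mul]
      exact Submodule.add_mem _ hz hw
    | tmul c t =>
      have : ((1 : S) ⊗ₜ[R] s) * (c ⊗ₜ[R] t) * ((1 : S) ⊗ₜ[R] s) =
          c • ((1 : S) ⊗ₜ[R] (s * (t * s))) := by
        simp only [Algebra.TensorProduct.tmul_mul_tmul, TensorProduct.smul_tmul', smul_eq_mul,
          one_mul, mul_one, mul_assoc]
      rw [this]
      exact Submodule.smul_mem _ _ (Submodule.subset_span ⟨_, ⟨t, hL t⟩, rfl⟩)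
  have h1 := mem_of_tmul_mem_span (S := S) (LinearMap.range L) s (hz ▸ key z)
  obtain ⟨a, ha⟩ := h1
  exact ⟨a, by rw [mul_assoc, ← hL, ha]⟩

/-- descent of fullness -/
theorem descent_full
    (h : ∃ (κ : Type) (_ : Fintype κ) (X Y : κ → S ⊗[R] T),
      ∑ k, X k * ((1 : S) ⊗ₜ[R] s) * Y k = 1) :
    ∃ (m : ℕ) (X Y : Fin m → T), ∑ k, X k * s * Y k = 1 := by
  obtain ⟨κ, _, X, Y, hXY⟩ := h
  let P : Submodule R T := Submodule.span R {y | ∃ t t' : T, y = t * s * t'}
  have key : ∀ z w : S ⊗[R] T, z * ((1 : S) ⊗ₜ[R] s) * w ∈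
      Submodule.span S ((fun p : T => (1 : S) ⊗ₜ[R] p) '' (P : Set T)) := by
    intro z w
    induction z using TensorProduct.induction_on with
    | zero => simp
    | add z z' hz hz' =>
      rw [add_mul, add_mul]
      exact Submodule.add_mem _ hz hz'
    | tmul c t =>
      induction w using TensorProduct.induction_on with
      | zero => simp
      | add w w' hw hw' =>
        rw [mul_add]
        exact Submodule.add_mem _ hw hw'
      | tmul c' t' =>
        have : (c ⊗ₜ[R] t) * ((1 : S) ⊗ₜ[R] s) * (c' ⊗ₜ[R] t') =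
            (c * c') • ((1 : S) ⊗ₜ[R] (t * s * t')) := by
          rw [Algebra.TensorProduct.tmul_mul_tmul, Algebra.TensorProduct.tmul_mul_tmul,
            TensorProduct.smul_tmul', smul_eq_mul, mul_one, mul_one]
        rw [this]
        exact Submodule.smul_mem _ _
          (Submodule.subset_span ⟨_, Submodule.subset_span ⟨t, t', rfl⟩, rfl⟩)
  have h1 : (1 : S) ⊗ₜ[R] (1 : T) ∈
      Submodule.span S ((fun p : T => (1 : S) ⊗ₜ[R] p) '' (P : Set T)) := by
    rw [← Algebra.TensorProduct.one_def, ← hXY]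
    exact Submodule.sum_mem _ fun k _ => key _ _
  have h2 := mem_of_tmul_mem_span (S := S) P 1 h1
  obtain ⟨m, f, g, hfg⟩ := Submodule.mem_span_set'.mp h2
  choose t t' ht using fun k => (g k).2
  refine ⟨m, fun k => f k • t k, t', ?_⟩
  rw [← hfg]
  refine Finset.sum_congr rfl fun k _ => ?_
  rw [ht k, smul_mul_assoc, smul_mul_assoc]

/-- descent of the rank one property -/
theorem descent_rankOne
    (h : ∀ z : S ⊗[R] T, ∃ r : S,
      ((1 : S) ⊗ₜ[R] s) * z * ((1 : S) ⊗ₜ[R] s) = r • ((1 : S) ⊗ₜ[R] s)) (t : T) :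
    ∃ r : R, s * t * s = r • s := by
  obtain ⟨r', hr'⟩ := h ((1 : S) ⊗ₜ[R] t)
  have h1 : (1 : S) ⊗ₜ[R] (s * t * s) ∈
      Submodule.span S ((fun p : T => (1 : S) ⊗ₜ[R] p) '' (Submodule.span R {s} : Set T)) := by
    have : (1 : S) ⊗ₜ[R] (s * t * s) =
        ((1 : S) ⊗ₜ[R] s) * ((1 : S) ⊗ₜ[R] t) * ((1 : S) ⊗ₜ[R] s) := by
      rw [Algebra.TensorProduct.tmul_mul_tmul, Algebra.TensorProduct.tmul_mul_tmul, mul_one,
        mul_one]
    rw [this, hr']
    exact Submodule.smul_mem _ _
      (Submodule.subset_span ⟨s, Submodule.subset_span rfl, rfl⟩)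
  have h2 := mem_of_tmul_mem_span (S := S) (Submodule.span R {s}) _ h1
  obtain ⟨r, hr⟩ := Submodule.mem_span_singleton.mp h2
  exact ⟨r, hr.symm⟩

end GenDescent

section AsymDescent

variable {R : Type*} [CommRing R] {A : Type*} [Ring A] [Algebra R A] [IsAzumaya R A]
  {ι : Type*} [Fintype ι] [DecidableEq ι] [Nonempty ι]
  (hrk : ∀ p : PrimeSpectrum R, Module.rankAtStalk (R := R) A p = (Fintype.card ι) ^ 2)
  {S : Type*} [CommRing S] [Algebra R S] [Module.FaithfullyFlat R S]

include hrk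

/-- the antisymmetrizer descends to the tensor power -/
theorem exists_descended_asym (ϑ : A →ₐ[R] Matrix ι ι S) :
    ∃ s : ⨂[R] _ : ι, A, Psi ϑ ((1 : S) ⊗ₜ[R] s) = asym S ι := by
  obtain ⟨x, hx⟩ := exists_asymElt hrk ϑ
  let T := ⨂[R] _ : ι, A
  let f₁ : S →ₐ[R] S ⊗[R] S := Algebra.TensorProduct.includeLeft
  let f₂ : S →ₐ[R] S ⊗[R] S := Algebra.TensorProduct.includeRight
  have h1 : Psi ((f₁.mapMatrix (m := ι)).comp ϑ) (LinearMap.rTensor T f₁.toLinearMap x) =
      asym (S ⊗[R] S) ι := by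
    rw [Psi_naturality, hx]
    exact asym_map (f₁ : S →+* S ⊗[R] S)
  have h2 : Psi ((f₂.mapMatrix (m := ι)).comp ϑ) (LinearMap.rTensor T f₂.toLinearMap x) =
      asym (S ⊗[R] S) ι := by
    rw [Psi_naturality, hx]
    exact asym_map (f₂ : S →+* S ⊗[R] S)
  have h3 := asymElt_unique hrk _ _ _ _ h1 h2
  haveI : Module.Projective R T := projective_piTensor R ι A
  have hex := Module.Flat.rTensor_exact T
    (Algebra.IsEffective.of_faithfullyFlat R S : Function.Exact _ _)
  have h4 : (Algebra.TensorProduct.includeLeftSubRight R S).rTensor T x = 0 := by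
    rw [Algebra.TensorProduct.includeLeftSubRight, LinearMap.rTensor_sub, LinearMap.sub_apply,
      sub_eq_zero]
    exact h3
  obtain ⟨y, hy⟩ := (hex x).mp h4
  refine ⟨TensorProduct.lid R T y, ?_⟩
  have h5 : (1 : S) ⊗ₜ[R] (TensorProduct.lid R T y) = x := by
    rw [← hy]
    have hlin : (TensorProduct.mk R S T 1).comp (TensorProduct.lid R T).toLinearMap =
        LinearMap.rTensor T (Algebra.linearMap R S) := by
      apply TensorProduct.ext'
      intro r t
      rw [LinearMap.comp_apply, LinearEquiv.coe_coe, TensorProduct.lid_tmul,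
        LinearMap.rTensor_tmul, Algebra.linearMap_apply, TensorProduct.mk_apply,
        TensorProduct.tmul_smul, TensorProduct.smul_tmul', Algebra.smul_def, mul_one]
    exact congrArg (fun φ => φ y) hlin
  rw [h5, hx]

/-- the descended antisymmetrizer and its three properties -/
theorem exists_asym_elt (ϑ : A →ₐ[R] Matrix ι ι S) :
    ∃ s : ⨂[R] _ : ι, A, (∃ a, s * a * s = s) ∧
      (∃ (m : ℕ) (X Y : Fin m → ⨂[R] _ : ι, A), ∑ k, X k * s * Y k = 1) ∧
      (∀ t, ∃ r : R, s * t * s = r • s) := by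
  obtain ⟨s, hs⟩ := exists_descended_asym hrk ϑ
  have hbij := Psi_bijective' hrk ϑ
  refine ⟨s, ?_, ?_, ?_⟩
  · apply descent_regular (R := R) (S := S)
    obtain ⟨z, hz⟩ := hbij.2 (Matrix.single (id : ι → ι) id 1)
    refine ⟨z, hbij.1 ?_⟩
    rw [map_mul, map_mul, hs, hz, asym_mul_single_mul_asym]
  · apply descent_full (R := R) (S := S)
    choose X hX using fun I : ι → ι => hbij.2 (Matrix.single I (id : ι → ι) 1)
    choose Y hY using fun I : ι → ι => hbij.2 (Matrix.single (id : ι → ι) I 1)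
    let e := Fintype.equivFin (ι → ι)
    refine ⟨Fin (Fintype.card (ι → ι)), inferInstance, fun k => X (e.symm k),
      fun k => Y (e.symm k), hbij.1 ?_⟩
    rw [map_sum, map_one]
    rw [← sum_single_mul_asym_mul_single (S := S) (ι := ι), ← Equiv.sum_comp e.symm]
    refine Finset.sum_congr rfl fun k _ => ?_
    rw [map_mul, map_mul, hs, hX, hY]
  · apply descent_rankOne (R := R) (S := S)
    intro z
    refine ⟨eps S ⬝ᵥ (Psi ϑ z *ᵥ eps S), hbij.1 ?_⟩
    rw [map_mul, map_mul, hs, map_smul, hs, asym_mul_mul_asym]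

end AsymDescent

end Groth.Agent.Lib.Helper25.TPow
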