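import Mathlib
import Groth.Agent.Lib.Helper25TPowE
import Groth.Agent.Lib.Helper19AzSplitM

/-!
# Tensor powers of Azumaya algebras (helper25), part F: Morita argument, ranks and assembly
-/

set_option autoImplicit false
set_option linter.unusedSectionVars false
set_option linter.style.haveILetI false

open TensorProduct PiTensorProduct Matrix

namespace Groth.Agent.Lib.Helper25.TPow

section Morita

variable {R : Type*} [CommRing R] {T : Type*} [Ring T] [Algebra R T] (e : T)

variable (R) in
/-- the left ideal `T e` as an `R`-submodule -/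
def leftIdeal : Submodule R T := LinearMap.range (LinearMap.mulRight R e)

theorem mem_leftIdeal_iff (he : e * e = e) (y : T) : y ∈ leftIdeal R e ↔ y * e = y := by
  constructor
  · rintro ⟨t, rfl⟩
    rw [LinearMap.mulRight_apply, mul_assoc, he]
  · intro h
    exact ⟨y, h⟩

theorem mul_mem_leftIdeal (t : T) {y : T} (hy : y ∈ leftIdeal R e) : t * y ∈ leftIdeal R e := by
  obtain ⟨z, rfl⟩ := hy
  exact ⟨t * z, by rw [LinearMap.mulRight_apply, LinearMap.mulRight_apply, mul_assoc]⟩

theorem mul_self_mem_leftIdeal (t : T) : t * e ∈ leftIdeal R e := ⟨t, rfl⟩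

/-- the action of `T` on the left ideal `T e` -/
noncomputable def leftAct : T →ₐ[R] Module.End R (leftIdeal R e) where
  toFun t := (LinearMap.mulLeft R t).restrict (fun y hy => mul_mem_leftIdeal e t hy)
  map_one' := by
    ext y
    simp
  map_mul' t t' := by
    ext y
    simp [mul_assoc]
  map_zero' := by
    ext y
    simp
  map_add' t t' := by
    ext y
    simp [add_mul]
  commutes' r := by
    ext y
    simp [Algebra.smul_def]

theorem leftAct_apply (t : T) (y : leftIdeal R e) : (leftAct e t y : T) = t * y := rfl

theorem leftAct_bijective (he : e * e = e) {m : ℕ} (X Y : Fin m → T)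
    (hXY : ∑ k, X k * e * Y k = 1) (hr : ∀ t, ∃ r : R, e * t * e = r • e) :
    Function.Bijective (leftAct (R := R) e) := by
  constructor
  · rw [injective_iff_map_eq_zero]
    intro t ht
    have h1 : ∀ y ∈ leftIdeal R e, t * y = 0 := by
      intro y hy
      have := congrArg (fun φ => ((φ ⟨y, hy⟩ : leftIdeal R e) : T)) ht
      simpa [leftAct_apply] using this
    calc t = t * ∑ k, X k * e * Y k := by rw [hXY, mul_one]
      _ = ∑ k, t * (X k * e) * Y k := by
        rw [Finset.mul_sum]
        refine Finset.sum_congr rfl fun k _ => ?_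
        simp only [mul_assoc]
      _ = 0 := by
        apply Finset.sum_eq_zero
        intro k _
        rw [h1 _ (mul_self_mem_leftIdeal e (X k)), zero_mul]
  · intro f
    let w : Fin m → leftIdeal R e := fun k => f ⟨X k * e, mul_self_mem_leftIdeal e (X k)⟩
    refine ⟨∑ k, (w k : T) * Y k, ?_⟩
    ext y
    rw [leftAct_apply]
    have hy : (y : T) * e = y := (mem_leftIdeal_iff e he _).mp y.2
    have hw : ∀ k, (w k : T) * e = w k := fun k => (mem_leftIdeal_iff e he _).mp (w k).2
    have hmem : ∀ k, X k * e * Y k * y ∈ leftIdeal R e := fun k => by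
      rw [mul_assoc]
      exact mul_mem_leftIdeal e _ (mul_mem_leftIdeal e _ y.2)
    -- each summand
    have hk : ∀ k, (w k : T) * Y k * y =
        ((f ⟨X k * e * Y k * y, hmem k⟩ : leftIdeal R e) : T) := by
      intro k
      obtain ⟨r, hr⟩ := hr (Y k * y)
      have h2 : (w k : T) * Y k * y = r • (w k : T) := by
        have h2a : (w k : T) * (e * (Y k * y) * e) = (w k : T) * Y k * y := by
          calc (w k : T) * (e * (Y k * y) * e) = ((w k : T) * e) * (Y k * ((y : T) * e)) := by
                simp only [mul_assoc]
            _ = (w k : T) * Y k * y := by rw [hw k, hy, mul_assoc]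
        rw [← h2a, hr, mul_smul_comm, hw k]
      rw [h2]
      have h3 : (⟨X k * e * Y k * y, hmem k⟩ : leftIdeal R e) =
          r • ⟨X k * e, mul_self_mem_leftIdeal e (X k)⟩ := by
        apply Subtype.ext
        change X k * e * Y k * y = r • (X k * e)
        have h3a : X k * (e * (Y k * y) * e) = X k * e * Y k * y := by
          calc X k * (e * (Y k * y) * e) = X k * e * (Y k * ((y : T) * e)) := by
                simp only [mul_assoc]
            _ = X k * e * Y k * y := by rw [hy]; simp only [mul_assoc]
        rw [← h3a, hr, mul_smul_comm]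
      rw [h3, map_smul]
      rfl
    rw [Finset.sum_mul]
    simp only [hk]
    rw [← Submodule.coe_sum, ← map_sum]
    congr 2
    apply Subtype.ext
    rw [Submodule.coe_sum]
    change ∑ k, X k * e * Y k * (y : T) = y
    rw [← Finset.sum_mul, hXY, one_mul]

theorem leftIdeal_projective (he : e * e = e) [Module.Projective R T] :
    Module.Projective R (leftIdeal R e) := by
  refine Module.Projective.of_split (leftIdeal R e).subtype
    ((LinearMap.mulRight R e).rangeRestrict) ?_
  ext y
  change (y : T) * e = y
  exact (mem_leftIdeal_iff e he _).mp y.2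

theorem leftIdeal_finite [Module.Finite R T] : Module.Finite R (leftIdeal R e) := by
  unfold leftIdeal
  infer_instance

end Morita

section Rank

variable {R : Type*} [CommRing R] (E : Type*) [AddCommGroup E] [Module R E] [Module.Finite R E]
  [Module.Projective R E]

theorem rankAtStalk_end (p : PrimeSpectrum R) :
    Module.rankAtStalk (R := R) (Module.End R E) p = (Module.rankAtStalk (R := R) E p) ^ 2 := by
  let L := Localization.AtPrime p.asIdeal
  rw [Module.rankAtStalk_eq_finrank_tensorProduct, Module.rankAtStalk_eq_finrank_tensorProduct]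
  let φ : L ⊗[R] Module.End R E ≃ₗ[L] Module.End L (L ⊗[R] E) :=
    LinearEquiv.ofBijective (LinearMap.tensorProductEnd R L E).toLinearMap
      (Groth.Agent.Lib.LeadAzumaya.tensorProductEnd_bijective L E)
  haveI : Module.Free L (L ⊗[R] E) := Module.free_of_flat_of_isLocalRing
  rw [φ.finrank_eq, Module.finrank_linearMap, sq]

end Rank

end Groth.Agent.Lib.Helper25.TPow
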