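import Mathlib
import Groth.Agent.Lib.Helper25TPowF
import Groth.Agent.Lib.Helper19AzSplitM

/-!
# Tensor powers of Azumaya algebras (helper25), part G: assembly

An Azumaya algebra `A` of constant rank `n²` (`n > 0`) satisfies `A^{⊗ n} ≅ End(E)` with `E`
finitely generated projective of rank `n^n`.
-/

set_option autoImplicit false
set_option linter.unusedSectionVars false
set_option linter.style.haveILetI false

open TensorProduct PiTensorProduct Matrix

namespace Groth.Agent.Lib.Helper25.TPow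

universe u

section Split

variable (R : Type u) [CommRing R] (A : Type u) [Ring A] [Algebra R A] [IsAzumaya R A]
  (n : ℕ) (hn : 0 < n)
  (hrk : ∀ p : PrimeSpectrum R, Module.rankAtStalk (R := R) A p = n ^ 2)

include hn hrk

/-- an Azumaya algebra of degree `n` is split by a faithfully flat extension -/
theorem exists_splitting :
    ∃ (S : Type u) (_ : CommRing S) (_ : Algebra R S), Module.FaithfullyFlat R S ∧
      Nonempty (A →ₐ[R] Matrix (Fin n) (Fin n) S) := by
  have hfix : RInv.IsFixedRing R R (AlgEquiv.refl : R ≃ₐ[R] R).toRingEquiv :=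
    ⟨Function.injective_id, fun r => ⟨fun _ => ⟨r, rfl⟩, fun _ => rfl⟩⟩
  obtain ⟨S', _, _, hEt, hFF, e, he⟩ :=
    Groth.Agent.Lib.Helper19AzSplit.exists_cover_of_good (S := R) (A := A) (n := n)
      (fun p _ => Groth.Agent.Lib.Helper19AzSplit.good_of_prime (S := R) (R := R)
        (AlgEquiv.refl : R ≃ₐ[R] R) (fun _ => rfl) hfix n hn hrk p)
  haveI : IsAzumaya S' (S' ⊗[R] A) := Groth.Agent.Lib.LeadAzumaya.isAzumaya_baseChange S' A
  have hrk' : ∀ p : PrimeSpectrum S', Module.rankAtStalk (R := S') (S' ⊗[R] A) p = n ^ 2 := by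
    intro p
    rw [Module.rankAtStalk_baseChange, hrk]
  let g : Matrix (Fin n) (Fin n) S' ≃ₐ[S'] S' ⊗[R] A :=
    AlgEquiv.ofBijective (Groth.Agent.Lib.Helper19AzSplit.matHom (R := S') e he)
      (Groth.Agent.Lib.Helper19AzSplit.bijective_matHom hn hrk' e he)
  exact ⟨S', inferInstance, inferInstance, hFF,
    ⟨(g.symm.toAlgHom.restrictScalars R).comp
      (Algebra.TensorProduct.includeRight : A →ₐ[R] S' ⊗[R] A)⟩⟩

end Split

section Main

variable (R : Type u) [CommRing R] (A : Type u) [Ring A] [Algebra R A] [IsAzumaya R A]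
  (n : ℕ) (hn : 0 < n)
  (hrk : ∀ p : PrimeSpectrum R, Module.rankAtStalk (R := R) A p = n ^ 2)

include hn hrk

theorem tensorPower_algEquiv_end :
    ∃ (E : Type u) (_ : AddCommGroup E) (_ : Module R E), Module.Finite R E ∧
      Module.Projective R E ∧
      (∀ p : PrimeSpectrum R, Module.rankAtStalk (R := R) E p = n ^ n) ∧
      Nonempty ((⨂[R] _ : Fin n, A) ≃ₐ[R] Module.End R E) := by
  haveI : Nonempty (Fin n) := ⟨⟨0, hn⟩⟩
  have hrk' : ∀ p : PrimeSpectrum R,
      Module.rankAtStalk (R := R) A p = (Fintype.card (Fin n)) ^ 2 := by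
    simpa using hrk
  obtain ⟨S, _, _, hFF, ⟨ϑ⟩⟩ := exists_splitting R A n hn hrk
  obtain ⟨s, ⟨a, ha⟩, ⟨m, X, Y, hXY⟩, hr⟩ := exists_asym_elt (S := S) hrk' ϑ
  let T := ⨂[R] _ : Fin n, A
  let e : T := a * s
  have hse : s * e = s := by
    change s * (a * s) = s
    rw [← mul_assoc, ha]
  have he : e * e = e := by
    change a * s * e = e
    rw [mul_assoc, hse]
  have hXY' : ∑ k, (X k * s) * e * Y k = 1 := by
    rw [← hXY]
    refine Finset.sum_congr rfl fun k _ => ?_
    rw [mul_assoc (X k) s e, hse]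
  have hr' : ∀ t : T, ∃ r : R, e * t * e = r • e := by
    intro t
    obtain ⟨r, hr⟩ := hr (t * a)
    refine ⟨r, ?_⟩
    change a * s * t * (a * s) = r • (a * s)
    calc a * s * t * (a * s) = a * (s * (t * a) * s) := by simp only [mul_assoc]
      _ = r • (a * s) := by rw [hr, mul_smul_comm]
  haveI : Module.Projective R T := projective_piTensor R (Fin n) A
  haveI : Module.Finite R T := inferInstance
  haveI hfin : Module.Finite R (leftIdeal R e) := leftIdeal_finite e
  haveI hproj : Module.Projective R (leftIdeal R e) := leftIdeal_projective e he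
  let Φ : T ≃ₐ[R] Module.End R (leftIdeal R e) :=
    AlgEquiv.ofBijective (leftAct e) (leftAct_bijective e he _ Y hXY' hr')
  refine ⟨leftIdeal R e, inferInstance, inferInstance, hfin, hproj, ?_, ⟨Φ⟩⟩
  intro p
  have h1 := rankAtStalk_end (leftIdeal R e) p
  have h2 : Module.rankAtStalk (R := R) T p =
      Module.rankAtStalk (R := R) (Module.End R (leftIdeal R e)) p :=
    congrFun (Module.rankAtStalk_eq_of_equiv Φ.toLinearEquiv) p
  have h3 : Module.rankAtStalk (R := R) T p = (n ^ n) ^ 2 := by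
    obtain ⟨q, hq⟩ := PrimeSpectrum.comap_surjective_of_faithfullyFlat (A := R) (B := S) p
    haveI : Nontrivial S :=
      ⟨⟨0, 1, fun h => q.isPrime.ne_top ((Ideal.eq_top_iff_one _).mpr (h ▸ q.asIdeal.zero_mem))⟩⟩
    rw [← hq, ← Module.rankAtStalk_baseChange]
    let Ψ : S ⊗[R] T ≃ₗ[S] Matrix (Fin n → Fin n) (Fin n → Fin n) S :=
      LinearEquiv.ofBijective (Psi ϑ).toLinearMap (Psi_bijective' hrk' ϑ)
    rw [congrFun (Module.rankAtStalk_eq_of_equiv Ψ) q,
      congrFun (Module.rankAtStalk_eq_finrank_of_free (R := S)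
        (M := Matrix (Fin n → Fin n) (Fin n → Fin n) S)) q]
    simp [Module.finrank_matrix, sq]
  rw [h2, h1] at h3
  exact Nat.pow_left_injective (by norm_num : (2 : ℕ) ≠ 0) h3

end Main

end Groth.Agent.Lib.Helper25.TPow
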