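import Groth.Agent.Lib.Helper25Weights
import Groth.Prelude.Def_GLin

/-!
# Helper25TorusGrade: the grading of a comodule algebra over a bialgebra with a multiplicative
basis of group-like elements (helper25)

`P b w = T (b.coord w)` is the projection onto the weight space of weight `w`.
* `P_mul_of_mem_eigenspace`: `P 0 (r * f) = P (-w) r * f` for `f` of weight `w`.
* `orbitHom_eq_sum`: the orbit map in terms of the weight components.
-/

set_option autoImplicit false
set_option linter.unusedSectionVars false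
set_option linter.unusedVariables false
universe u v w
open TensorProduct HopfRep

namespace Groth.Agent.Lib.Helper25.TorusGrade

open Groth.Agent.Lib.Helper25

section Grade

variable {k : Type u} [Field k] {A : Type v} [CommRing A] [Bialgebra k A]
  {R : Type w} [CommRing R] [Algebra k R] [HopfRep.Comod k A R] [GLin.IsCoactAlg k A R]
  {Λ : Type*} [AddCommGroup Λ] [DecidableEq Λ]
  (b : Module.Basis Λ k A)

/-- The weight-`j` component of `r` vanishes outside a finite set `s` over which the coaction of `r`
is expanded. -/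
theorem exists_coact_eq (r : R) :
    ∃ s : Finset Λ, HopfRep.Comod.coact (k := k) (A := A) r = ∑ i ∈ s, T (b.coord i) r ⊗ₜ[k] b i ∧
      ∀ j, j ∉ s → T (b.coord j) r = 0 := by
  obtain ⟨s, hs⟩ := coact_eq_sum_T_coord (V := R) b r
  refine ⟨s, hs, ?_⟩
  intro j hj
  have h1 := congrArg (slice R (b.coord j)) hs
  rw [← T_apply, map_sum] at h1
  rw [h1]
  apply Finset.sum_eq_zero
  intro i hi
  rw [slice_tmul, Module.Basis.coord_apply, Module.Basis.repr_self, Finsupp.single_apply]
  have : ¬ i = j := fun h => hj (h ▸ hi)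
  simp [this]

/-- `P_0 (r f) = P_{-w}(r) f` for `f` of weight `w`. -/
theorem T_coord_mul_of_mem_eigenspace (hmul : ∀ i j, b i * b j = b (i + j)) (r : R) {f : R} {w₀ : Λ}
    (hf : f ∈ HopfRep.eigenspace k A R (b w₀)) (j : Λ) :
    T (b.coord j) (r * f) = T (b.coord (j - w₀)) r * f := by
  obtain ⟨s, hs, hs0⟩ := exists_coact_eq b r
  have hf' : HopfRep.Comod.coact (k := k) (A := A) f = f ⊗ₜ[k] b w₀ := hf
  have h1 : HopfRep.Comod.coact (k := k) (A := A) (r * f) =
      ∑ i ∈ s, (T (b.coord i) r * f) ⊗ₜ[k] b (i + w₀) := by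
    rw [GLin.IsCoactAlg.coact_mul, hs, hf', Finset.sum_mul]
    apply Finset.sum_congr rfl
    intro i _
    rw [Algebra.TensorProduct.tmul_mul_tmul, hmul]
  rw [T_apply, h1, map_sum]
  simp only [slice_tmul, Module.Basis.coord_apply, Module.Basis.repr_self, Finsupp.single_apply]
  by_cases hj : j - w₀ ∈ s
  · rw [Finset.sum_eq_single (j - w₀)]
    · simp
    · intro i _ hi
      have : ¬ i + w₀ = j := by
        intro h
        apply hi
        rw [← h]
        abel
      simp [this]
    · intro h
      exact absurd hj h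
  · rw [hs0 _ hj, zero_mul]
    apply Finset.sum_eq_zero
    intro i hi
    have : ¬ i + w₀ = j := by
      intro h
      apply hj
      rw [← h]
      simpa using hi
    simp [this]

/-- The orbit map of a rational point in terms of weight components. -/
theorem orbitHom_eq_sum (hb : ∀ i, IsGroupLikeElem k (b i)) (x : R →ₐ[k] k) (r : R) :
    ∃ s : Finset Λ, GLin.orbitHom k A x r = ∑ i ∈ s, x (T (b.coord i) r) • b i ∧
      (r = ∑ i ∈ s, T (b.coord i) r) ∧ ∀ j, j ∉ s → T (b.coord j) r = 0 := by
  obtain ⟨s, hs, hs0⟩ := exists_coact_eq b r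
  refine ⟨s, ?_, ?_, hs0⟩
  · change (Algebra.TensorProduct.lid k A) ((Algebra.TensorProduct.map x (AlgHom.id k A))
      (HopfRep.Comod.coact (k := k) (A := A) r)) = _
    rw [hs, map_sum, map_sum]
    apply Finset.sum_congr rfl
    intro i _
    simp
  · have h1 := congrArg (slice R (CoalgebraStruct.counit (R := k) (A := A))) hs
    rw [← T_apply, T_counit, map_sum] at h1
    refine h1.trans ?_
    apply Finset.sum_congr rfl
    intro i _
    rw [slice_tmul, (hb i).counit_eq_one, one_smul]

end Grade

section Pos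

variable {k : Type u} [Field k] {A : Type v} [CommRing A] [Bialgebra k A]
  {R : Type w} [CommRing R] [Algebra k R] [HopfRep.Comod k A R] [GLin.IsCoactAlg k A R]
  {Λ : Type*} [AddCommGroup Λ] [DecidableEq Λ]
  (b : Module.Basis Λ k A)

/-- The ideal generated by the eigenvectors of nonzero weight. -/
def nzIdeal : Ideal R :=
  Ideal.span {f : R | ∃ w : Λ, w ≠ 0 ∧ f ∈ HopfRep.eigenspace k A R (b w)}

theorem T_coord_zero_mul_of_mem_nzIdeal (hb : ∀ i, IsGroupLikeElem k (b i))
    (hmul : ∀ i j, b i * b j = b (i + j))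
    (hpos : ∀ w : Λ, HopfRep.eigenspace k A R (b w) ≠ ⊥ →
      HopfRep.eigenspace k A R (b (-w)) ≠ ⊥ → w = 0) {x : R} (hx : x ∈ nzIdeal (R := R) b) :
    ∀ r : R, T (b.coord 0) (r * x) = 0 := by
  induction hx using Submodule.span_induction with
  | mem x hx =>
    obtain ⟨w₀, hw, hf⟩ := hx
    intro r
    rw [T_coord_mul_of_mem_eigenspace b hmul r hf 0, zero_sub]
    by_cases hx0 : x = 0
    · rw [hx0, mul_zero]
    · have h1 : HopfRep.eigenspace k A R (b w₀) ≠ ⊥ := by
        intro h
        rw [h] at hf
        exact hx0 ((Submodule.mem_bot k).mp hf)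
      by_contra hne
      have h2 : HopfRep.eigenspace k A R (b (-w₀)) ≠ ⊥ := by
        intro h
        have h3 := T_coord_mem_eigenspace b hb (-w₀) r
        rw [h] at h3
        apply hne
        rw [(Submodule.mem_bot k).mp h3, zero_mul]
      exact hw (hpos w₀ h1 h2)
  | zero =>
    intro r
    rw [mul_zero, map_zero]
  | add x y _ _ hx hy =>
    intro r
    rw [mul_add, map_add, hx, hy, add_zero]
  | smul a x _ hx =>
    intro r
    rw [smul_eq_mul, ← mul_assoc]
    exact hx (r * a)

theorem sub_T_coord_zero_mem_nzIdeal (hb : ∀ i, IsGroupLikeElem k (b i)) (r : R) :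
    r - T (b.coord 0) r ∈ nzIdeal (R := R) b := by
  obtain ⟨s, hr, hs0⟩ := eq_sum_T_coord (V := R) b hb r
  have hr' : r = ∑ i ∈ insert 0 s, T (b.coord i) r := by
    by_cases h0 : (0 : Λ) ∈ s
    · rw [Finset.insert_eq_of_mem h0]
      exact hr
    · rw [Finset.sum_insert h0, hs0 0 h0, zero_add]
      exact hr
  have h1 := Finset.add_sum_erase (insert 0 s) (fun i => T (b.coord i) r)
    (Finset.mem_insert_self 0 s)
  have h2 : r - T (b.coord 0) r = ∑ i ∈ (insert 0 s).erase 0, T (b.coord i) r := by
    rw [sub_eq_iff_eq_add, add_comm]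
    exact hr'.trans h1.symm
  rw [h2]
  apply Ideal.sum_mem
  intro i hi
  apply Ideal.subset_span
  exact ⟨i, (Finset.mem_erase.mp hi).1, T_coord_mem_eigenspace b hb i r⟩

theorem T_coord_zero_mem_invariants (hb : ∀ i, IsGroupLikeElem k (b i)) (h0 : b 0 = 1) (r : R) :
    T (b.coord 0) r ∈ GLin.invariants k A R := by
  have h := T_coord_mem_eigenspace b hb 0 r
  rw [h0] at h
  exact h

theorem T_coord_zero_of_mem_invariants (h0 : b 0 = 1) {g : R} (hg : g ∈ GLin.invariants k A R) :
    T (b.coord 0) g = g := by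
  have hg0 : g ∈ HopfRep.eigenspace k A R (b 0) := by
    rw [h0]
    exact hg
  rw [T_coord_of_mem_eigenspace b 0 0 hg0, if_pos rfl]

/-- Under positivity, the invariants map isomorphically onto the quotient by the ideal generated by
the eigenvectors of nonzero weight. -/
theorem bijective_invariants_to_quotient (hb : ∀ i, IsGroupLikeElem k (b i))
    (hmul : ∀ i j, b i * b j = b (i + j)) (h0 : b 0 = 1)
    (hpos : ∀ w : Λ, HopfRep.eigenspace k A R (b w) ≠ ⊥ →
      HopfRep.eigenspace k A R (b (-w)) ≠ ⊥ → w = 0) :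
    Function.Bijective ((Ideal.Quotient.mkₐ k (nzIdeal (R := R) b)).comp
      (GLin.invariants k A R).val) := by
  constructor
  · rw [injective_iff_map_eq_zero]
    intro g hg
    have hgI : (g : R) ∈ nzIdeal (R := R) b := by
      rw [← Ideal.Quotient.eq_zero_iff_mem]
      exact hg
    have h1 := T_coord_zero_mul_of_mem_nzIdeal b hb hmul hpos hgI 1
    rw [one_mul, T_coord_zero_of_mem_invariants b h0 g.2] at h1
    exact Subtype.ext h1
  · intro q
    obtain ⟨r, rfl⟩ := Ideal.Quotient.mk_surjective q
    refine ⟨⟨T (b.coord 0) r, T_coord_zero_mem_invariants b hb h0 r⟩, ?_⟩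
    change Ideal.Quotient.mk _ (T (b.coord 0) r) = Ideal.Quotient.mk _ r
    rw [eq_comm, Ideal.Quotient.eq]
    exact sub_T_coord_zero_mem_nzIdeal b hb r

theorem orbitHom_of_mem_eigenspace (x : R →ₐ[k] k) {f : R} {w₀ : Λ}
    (hf : f ∈ HopfRep.eigenspace k A R (b w₀)) : GLin.orbitHom k A x f = x f • b w₀ := by
  have hf' : HopfRep.Comod.coact (k := k) (A := A) f = f ⊗ₜ[k] b w₀ := hf
  change (Algebra.TensorProduct.lid k A) ((Algebra.TensorProduct.map x (AlgHom.id k A))
    (HopfRep.Comod.coact (k := k) (A := A) f)) = _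
  rw [hf']
  simp

theorem isFixedPt_iff (hb : ∀ i, IsGroupLikeElem k (b i)) (h0 : b 0 = 1) (x : R →ₐ[k] k) :
    GLin.IsFixedPt k A x ↔
      ∀ w₀ : Λ, w₀ ≠ 0 → ∀ f ∈ HopfRep.eigenspace k A R (b w₀), x f = 0 := by
  constructor
  · intro hfix w₀ hw f hf
    have h1 := orbitHom_of_mem_eigenspace b x hf
    rw [hfix] at h1
    have h2 : ((Algebra.ofId k A).comp x) f = x f • b 0 := by
      rw [h0, AlgHom.comp_apply, Algebra.ofId_apply, Algebra.algebraMap_eq_smul_one]
    rw [h2] at h1
    have h3 := congrArg (b.coord w₀) h1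
    simp only [map_smul, Module.Basis.coord_apply, Module.Basis.repr_self, Finsupp.single_apply,
      smul_eq_mul] at h3
    simp only [Ne.symm hw, if_false, if_true, mul_zero, mul_one] at h3
    simpa using h3.symm
  · intro h
    apply AlgHom.ext
    intro r
    obtain ⟨s, hs, hr, hs0⟩ := orbitHom_eq_sum b hb x r
    have hx : ∀ i ∈ s, i ≠ 0 → x (T (b.coord i) r) = 0 := by
      intro i _ hi
      exact h i hi _ (T_coord_mem_eigenspace b hb i r)
    have hxr : x r = x (T (b.coord 0) r) := by
      conv_lhs => rw [hr]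
      rw [map_sum]
      by_cases h0s : (0 : Λ) ∈ s
      · rw [Finset.sum_eq_single 0]
        · intro i hi hi0
          exact hx i hi hi0
        · intro h'
          exact absurd h0s h'
      · rw [hs0 0 h0s, map_zero]
        apply Finset.sum_eq_zero
        intro i hi
        apply hx i hi
        intro hi0
        exact h0s (hi0 ▸ hi)
    rw [hs, AlgHom.comp_apply, Algebra.ofId_apply, Algebra.algebraMap_eq_smul_one, hxr, ← h0]
    by_cases h0s : (0 : Λ) ∈ s
    · rw [Finset.sum_eq_single 0]
      · intro i hi hi0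
        rw [hx i hi hi0, zero_smul]
      · intro h'
        exact absurd h0s h'
    · rw [hs0 0 h0s, map_zero, zero_smul]
      apply Finset.sum_eq_zero
      intro i hi
      rw [hx i hi (fun hi0 => h0s (hi0 ▸ hi)), zero_smul]

/-- Under positivity, closed orbits are fixed points. -/
theorem isClosedOrbit_iff_isFixedPt (hb : ∀ i, IsGroupLikeElem k (b i))
    (hmul : ∀ i j, b i * b j = b (i + j)) (h0 : b 0 = 1)
    (hpos : ∀ w : Λ, HopfRep.eigenspace k A R (b w) ≠ ⊥ →
      HopfRep.eigenspace k A R (b (-w)) ≠ ⊥ → w = 0) (x : R →ₐ[k] k) :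
    GLin.IsClosedOrbit k A x ↔ GLin.IsFixedPt k A x := by
  constructor
  · intro hcl
    by_contra hnf
    rw [isFixedPt_iff b hb h0] at hnf
    push_neg at hnf
    obtain ⟨w₀, hw, f, hf, hxf⟩ := hnf
    -- the limit point
    let e := AlgEquiv.ofBijective _ (bijective_invariants_to_quotient (R := R) b hb hmul h0 hpos)
    let y : R →ₐ[k] k := ((x.comp (GLin.invariants k A R).val).comp e.symm.toAlgHom).comp
      (Ideal.Quotient.mkₐ k (nzIdeal (R := R) b))
    have hy : ∀ r : R, y r = x (T (b.coord 0) r) := by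
      intro r
      have h1 : e.symm (Ideal.Quotient.mkₐ k (nzIdeal (R := R) b) r) =
          ⟨T (b.coord 0) r, T_coord_zero_mem_invariants b hb h0 r⟩ := by
        rw [AlgEquiv.symm_apply_eq]
        change Ideal.Quotient.mk _ r = Ideal.Quotient.mk _ (T (b.coord 0) r)
        rw [Ideal.Quotient.eq]
        exact sub_T_coord_zero_mem_nzIdeal b hb r
      change x ((GLin.invariants k A R).val (e.symm (Ideal.Quotient.mkₐ k _ r))) = _
      rw [h1]
      rfl
    have hker : RingHom.ker (GLin.orbitHom k A x) ≤ RingHom.ker y := by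
      intro r hr
      rw [RingHom.mem_ker] at hr ⊢
      rw [hy]
      obtain ⟨s, hs, -, hs0⟩ := orbitHom_eq_sum b hb x r
      by_cases h0s : (0 : Λ) ∈ s
      · rw [hs] at hr
        have h3 := congrArg (b.coord 0) hr
        simp only [map_sum, map_smul, Module.Basis.coord_apply, Module.Basis.repr_self,
          Finsupp.single_apply, smul_eq_mul, map_zero, Finsupp.coe_zero, Pi.zero_apply] at h3
        rw [Finset.sum_eq_single 0] at h3
        · simpa using h3
        · intro i _ hi
          simp [hi]
        · intro h'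
          exact absurd h0s h'
      · rw [hs0 0 h0s, map_zero]
    have hmem : (⟨RingHom.ker y, RingHom.ker_isPrime y⟩ : PrimeSpectrum R) ∈
        closure (Set.range (PrimeSpectrum.comap (GLin.orbitHom k A x).toRingHom)) := by
      rw [PrimeSpectrum.closure_range_comap, PrimeSpectrum.mem_zeroLocus]
      exact hker
    rw [hcl.closure_eq] at hmem
    obtain ⟨P, hP⟩ := hmem
    have hfy : f ∈ RingHom.ker y := by
      rw [RingHom.mem_ker, hy, T_coord_of_mem_eigenspace b 0 w₀ hf, if_neg (Ne.symm hw), map_zero]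
    have hfP : GLin.orbitHom k A x f ∈ P.asIdeal := by
      have h1 : f ∈ (PrimeSpectrum.comap (GLin.orbitHom k A x).toRingHom P).asIdeal := by
        rw [hP]
        exact hfy
      exact h1
    rw [orbitHom_of_mem_eigenspace b x hf] at hfP
    apply P.isPrime.ne_top
    rw [Ideal.eq_top_iff_one]
    have h4 : (1 : A) = ((x f)⁻¹ • b (-w₀)) * (x f • b w₀) := by
      rw [smul_mul_smul_comm, inv_mul_cancel₀ hxf, one_smul, hmul, neg_add_cancel, h0]
    rw [h4]
    exact Ideal.mul_mem_left _ _ hfP
  · intro hfix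
    have hfix' : GLin.orbitHom k A x = (Algebra.ofId k A).comp x := hfix
    have hsub : Set.range (PrimeSpectrum.comap (GLin.orbitHom k A x).toRingHom) ⊆
        {(⟨RingHom.ker x, RingHom.ker_isPrime x⟩ : PrimeSpectrum R)} := by
      rintro _ ⟨P, rfl⟩
      rw [Set.mem_singleton_iff]
      apply PrimeSpectrum.ext
      ext r
      change GLin.orbitHom k A x r ∈ P.asIdeal ↔ x r = 0
      rw [hfix', AlgHom.comp_apply, Algebra.ofId_apply]
      constructor
      · intro h
        by_contra hne
        apply P.isPrime.ne_top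
        rw [Ideal.eq_top_iff_one]
        have h5 : (1 : A) = algebraMap k A (x r)⁻¹ * algebraMap k A (x r) := by
          rw [← map_mul, inv_mul_cancel₀ hne, map_one]
        rw [h5]
        exact Ideal.mul_mem_left _ _ h
      · intro h
        rw [h, map_zero]
        exact Ideal.zero_mem _
    rcases Set.subset_singleton_iff_eq.mp hsub with h | h
    · change IsClosed (Set.range (PrimeSpectrum.comap (GLin.orbitHom k A x).toRingHom))
      rw [h]
      exact isClosed_empty
    · change IsClosed (Set.range (PrimeSpectrum.comap (GLin.orbitHom k A x).toRingHom))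
      rw [h, PrimeSpectrum.isClosed_singleton_iff_isMaximal]
      exact RingHom.ker_isMaximal_of_surjective x.toRingHom
        (fun c => ⟨algebraMap k R c, by simp⟩)

end Pos

end Groth.Agent.Lib.Helper25.TorusGrade
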