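import Groth.Agent.Lib.Helper25Antipode
import Groth.Agent.Lib.Helper25Comod
import Groth.Prelude.Def_Hoch
import Groth.Prelude.Def_GLin

/-! # Total integrals and retractions of the coaction (helper25) -/

set_option autoImplicit false
universe u v w w'

namespace Groth.Agent.Lib.Helper25

open TensorProduct HopfRep WithConv

section KI

variable {k : Type u} [CommRing k] {A : Type v} [CommRing A] [HopfAlgebra k A]

/-- `Θ (c' ⊗ c'') = (1 ⊗ c') * Δ (S c'')`. -/
noncomputable def thetaAux (k : Type u) [CommRing k] (A : Type v) [CommRing A] [HopfAlgebra k A] :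
    A ⊗[k] A →ₐ[k] A ⊗[k] A :=
  Algebra.TensorProduct.lift (Algebra.TensorProduct.includeRight : A →ₐ[k] A ⊗[k] A)
    ((Bialgebra.comulAlgHom k A).comp (HopfAlgebra.antipodeAlgHom k A)) (fun _ _ => .all ..)

@[simp] theorem thetaAux_tmul (c c' : A) :
    thetaAux k A (c ⊗ₜ[k] c') =
      ((1 : A) ⊗ₜ[k] c) * CoalgebraStruct.comul (R := k) (HopfAlgebra.antipode k c') := by
  simp [thetaAux]

theorem thetaAux_comul (c : A) :
    thetaAux k A (CoalgebraStruct.comul (R := k) c) = HopfAlgebra.antipode k c ⊗ₜ[k] (1 : A) := by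
  let Δ' : WithConv (A →ₐ[k] A ⊗[k] A) := toConv (Bialgebra.comulAlgHom k A)
  let i1 : WithConv (A →ₐ[k] A ⊗[k] A) := toConv Algebra.TensorProduct.includeLeft
  let i2 : WithConv (A →ₐ[k] A ⊗[k] A) := toConv Algebra.TensorProduct.includeRight
  have h1 : Δ' = i1 * i2 := by
    apply WithConv.ofConv_injective
    ext b
    change CoalgebraStruct.comul (R := k) b = (i1 * i2) b
    rw [AlgHom.convMul_apply]
    simp [i1, i2]
  have e1 : (i1 * i2)⁻¹ = i2⁻¹ * i1⁻¹ := mul_inv_rev i1 i2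
  have e2 : i2 * (i2⁻¹ * i1⁻¹) = i1⁻¹ := mul_inv_cancel_left i2 i1⁻¹
  have h2 : i2 * Δ'⁻¹ = i1⁻¹ := by
    rw [h1]
    exact (congrArg (i2 * ·) e1).trans e2
  have h3 : (i2 * Δ'⁻¹) c = i1⁻¹ c := by rw [h2]
  rw [AlgHom.convMul_apply] at h3
  exact h3

end KI

section Lam

variable {k : Type u} [CommRing k] {A : Type v} [CommRing A] [HopfAlgebra k A]
variable {B : Type w} [CommRing B] [Algebra k B]

/-- `c ⊗ a ↦ S c * a`. -/
noncomputable def mS (k : Type u) [CommRing k] (A : Type v) [CommRing A] [HopfAlgebra k A] :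
    A ⊗[k] A →ₗ[k] A :=
  LinearMap.mul' k A ∘ₗ (HopfAlgebra.antipode k).rTensor A

@[simp] theorem mS_tmul (c a : A) : mS k A (c ⊗ₜ[k] a) = HopfAlgebra.antipode k c * a := by
  simp [mS]

/-- `b ⊗ a ↦ b * α a`. -/
noncomputable def mulAlpha (α : A →ₗ[k] B) : B ⊗[k] A →ₗ[k] B :=
  LinearMap.mul' k B ∘ₗ α.lTensor B

@[simp] theorem mulAlpha_tmul (α : A →ₗ[k] B) (b : B) (a : A) :
    mulAlpha α (b ⊗ₜ[k] a) = b * α a := by
  simp [mulAlpha]

/-- `(b ⊗ c) ⊗ a ↦ b * α (S c * a)`. -/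
noncomputable def phiAux (α : A →ₗ[k] B) : (B ⊗[k] A) ⊗[k] A →ₗ[k] B :=
  mulAlpha α ∘ₗ (mS k A).lTensor B ∘ₗ (TensorProduct.assoc k B A A).toLinearMap

@[simp] theorem phiAux_tmul (α : A →ₗ[k] B) (b : B) (c a : A) :
    phiAux α ((b ⊗ₜ[k] c) ⊗ₜ[k] a) = b * α (HopfAlgebra.antipode k c * a) := by
  simp [phiAux]

/-- `(w ⊗ c) ⊗ a ↦ w * (α ⊗ id) (Δ (S c * a))`. -/
noncomputable def phi2Aux (α : A →ₗ[k] B) : ((B ⊗[k] A) ⊗[k] A) ⊗[k] A →ₗ[k] B ⊗[k] A :=
  LinearMap.mul' k (B ⊗[k] A) ∘ₗ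
    (α.rTensor A ∘ₗ CoalgebraStruct.comul (R := k) (A := A) ∘ₗ mS k A).lTensor (B ⊗[k] A) ∘ₗ
      (TensorProduct.assoc k (B ⊗[k] A) A A).toLinearMap

@[simp] theorem phi2Aux_tmul (α : A →ₗ[k] B) (w : B ⊗[k] A) (c a : A) :
    phi2Aux α ((w ⊗ₜ[k] c) ⊗ₜ[k] a) =
      w * α.rTensor A (CoalgebraStruct.comul (R := k) (HopfAlgebra.antipode k c * a)) := by
  simp [phi2Aux]

theorem tmul_mul_rTensor (α : A →ₗ[k] B) (b : B) (c : A) (w : A ⊗[k] A) :
    (b ⊗ₜ[k] c) * α.rTensor A w = (b ⊗ₜ[k] (1 : A)) * α.rTensor A (((1 : A) ⊗ₜ[k] c) * w) := by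
  induction w using TensorProduct.induction_on with
  | zero => simp
  | add x y hx hy => simp only [map_add, mul_add, hx, hy]
  | tmul a a' => simp [Algebra.TensorProduct.tmul_mul_tmul]

variable [Comod k A B] [GLin.IsCoactAlg k A B]

theorem coact_phiAux (α : A →ₗ[k] B) (hα : Hoch.IsComodHom A α) (y : (B ⊗[k] A) ⊗[k] A) :
    Comod.coact (k := k) (A := A) (phiAux α y) =
      phi2Aux α (((Comod.coact (k := k) (A := A)).rTensor A).rTensor A y) := by
  induction y using TensorProduct.induction_on with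
  | zero => simp
  | add x y hx hy => simp only [map_add, hx, hy]
  | tmul z a =>
    induction z using TensorProduct.induction_on with
    | zero => simp
    | add x y hx hy => simp only [TensorProduct.add_tmul, map_add, hx, hy]
    | tmul b c =>
      simp only [LinearMap.rTensor_tmul, phiAux_tmul, phi2Aux_tmul]
      rw [GLin.IsCoactAlg.coact_mul, isComodHom_apply hα]
      rfl

omit [Comod k A B] [GLin.IsCoactAlg k A B] in
theorem phi2Aux_assoc_symm (α : A →ₗ[k] B) (b : B) (a : A) (u : A ⊗[k] A) :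
    phi2Aux α ((TensorProduct.assoc k B A A).symm (b ⊗ₜ[k] u) ⊗ₜ[k] a) =
      (b ⊗ₜ[k] (1 : A)) * α.rTensor A (thetaAux k A u * CoalgebraStruct.comul (R := k) a) := by
  induction u using TensorProduct.induction_on with
  | zero => simp
  | add x y hx hy => simp only [TensorProduct.tmul_add, TensorProduct.add_tmul, map_add, add_mul,
      mul_add, hx, hy]
  | tmul c c' =>
    rw [TensorProduct.assoc_symm_tmul, phi2Aux_tmul, tmul_mul_rTensor, thetaAux_tmul,
      Bialgebra.comul_mul, mul_assoc]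

omit [Comod k A B] [GLin.IsCoactAlg k A B] in
theorem phiAux_rTensor_assoc_symm (α : A →ₗ[k] B) (b : B) (c : A) (v : A ⊗[k] A) :
    (phiAux α).rTensor A ((TensorProduct.assoc k (B ⊗[k] A) A A).symm ((b ⊗ₜ[k] c) ⊗ₜ[k] v)) =
      (b ⊗ₜ[k] (1 : A)) * α.rTensor A ((HopfAlgebra.antipode k c ⊗ₜ[k] (1 : A)) * v) := by
  induction v using TensorProduct.induction_on with
  | zero => simp
  | add x y hx hy => simp only [TensorProduct.tmul_add, map_add, mul_add, hx, hy]
  | tmul a a' =>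
    simp [Algebra.TensorProduct.tmul_mul_tmul]

omit [Comod k A B] [GLin.IsCoactAlg k A B] in
theorem phi2Aux_eq (α : A →ₗ[k] B) (z : B ⊗[k] A) (a : A) :
    phi2Aux α ((TensorProduct.assoc k B A A).symm
        ((CoalgebraStruct.comul (R := k) (A := A)).lTensor B z) ⊗ₜ[k] a) =
      (phiAux α).rTensor A ((TensorProduct.assoc k (B ⊗[k] A) A A).symm
        (z ⊗ₜ[k] CoalgebraStruct.comul (R := k) a)) := by
  induction z using TensorProduct.induction_on with
  | zero => simp
  | add x y hx hy => simp only [map_add, TensorProduct.add_tmul, hx, hy]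
  | tmul b c =>
    rw [LinearMap.lTensor_tmul, phi2Aux_assoc_symm, thetaAux_comul, phiAux_rTensor_assoc_symm]

/-- `x ⊗ a ↦ Σ x₀ * α (S x₁ * a)` on the plain tensor product. -/
noncomputable def lamOf' (α : A →ₗ[k] B) : B ⊗[k] A →ₗ[k] B :=
  phiAux α ∘ₗ (Comod.coact (k := k) (A := A)).rTensor A

/-- The retraction of the coaction attached to a total integral `α`:
`x ⊗ a ↦ Σ x₀ * α (S x₁ * a)`. -/
noncomputable def lamOf (α : A →ₗ[k] B) : Hoch.Ind k A B →ₗ[k] B :=
  lamOf' α ∘ₗ (Hoch.Ind.equiv k A B).symm.toLinearMap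

omit [GLin.IsCoactAlg k A B] in
theorem lamOf'_tmul (α : A →ₗ[k] B) (x : B) (a : A) :
    lamOf' α (x ⊗ₜ[k] a) = phiAux α (Comod.coact (k := k) (A := A) x ⊗ₜ[k] a) := by
  simp [lamOf']

omit [Comod k A B] [GLin.IsCoactAlg k A B] in
theorem phiAux_assoc_symm (α : A →ₗ[k] B) (w : B ⊗[k] (A ⊗[k] A)) :
    phiAux α ((TensorProduct.assoc k B A A).symm w) = mulAlpha α ((mS k A).lTensor B w) := by
  simp [phiAux]

omit [GLin.IsCoactAlg k A B] in
theorem lamOf'_coact (α : A →ₗ[k] B) (hα1 : α 1 = 1) (b : B) :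
    lamOf' α (Comod.coact (k := k) (A := A) b) = b := by
  have h0 : lamOf' α (Comod.coact (k := k) (A := A) b) =
      phiAux α ((Comod.coact (k := k) (A := A)).rTensor A (Comod.coact (k := k) (A := A) b)) := rfl
  rw [h0, coassoc_apply, phiAux_assoc_symm, ← LinearMap.comp_apply (LinearMap.lTensor B _),
    ← LinearMap.lTensor_comp]
  have h1 : mS k A ∘ₗ CoalgebraStruct.comul (R := k) (A := A) =
      Algebra.linearMap k A ∘ₗ CoalgebraStruct.counit (R := k) (A := A) := by
    unfold mS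
    rw [LinearMap.comp_assoc]
    exact HopfAlgebra.mul_antipode_rTensor_comul
  rw [h1, LinearMap.lTensor_comp, LinearMap.comp_apply, counit_apply, LinearMap.lTensor_tmul,
    mulAlpha_tmul]
  simp [hα1]

omit [GLin.IsCoactAlg k A B] in
theorem lamOf_comp_toInd (α : A →ₗ[k] B) (hα1 : α 1 = 1) :
    lamOf α ∘ₗ Hoch.toInd k A B = LinearMap.id := by
  apply LinearMap.ext
  intro b
  exact lamOf'_coact α hα1 b

theorem coact_lamOf' (α : A →ₗ[k] B) (hα : Hoch.IsComodHom A α) (y : B ⊗[k] A) :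
    Comod.coact (k := k) (A := A) (lamOf' α y) =
      (lamOf' α).rTensor A (Hoch.Ind.coactAux k A B y) := by
  induction y using TensorProduct.induction_on with
  | zero => simp
  | add x y hx hy => simp only [map_add, hx, hy]
  | tmul x a =>
    rw [lamOf'_tmul, coact_phiAux α hα, LinearMap.rTensor_tmul, coassoc_apply, phi2Aux_eq,
      Hoch.Ind.coactAux_tmul]
    generalize CoalgebraStruct.comul (R := k) a = v
    induction v using TensorProduct.induction_on with
    | zero => simp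
    | add x y hx hy => simp only [TensorProduct.tmul_add, map_add, hx, hy]
    | tmul a' a'' =>
      rw [TensorProduct.assoc_symm_tmul, TensorProduct.assoc_symm_tmul, LinearMap.rTensor_tmul,
        LinearMap.rTensor_tmul, lamOf'_tmul]

theorem isComodHom_lamOf (α : A →ₗ[k] B) (hα : Hoch.IsComodHom A α) :
    Hoch.IsComodHom A (lamOf α) := by
  apply LinearMap.ext
  intro y
  exact coact_lamOf' α hα y

end Lam

end Groth.Agent.Lib.Helper25
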