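import Groth.Agent.Lib.Helper25WeitzRes
import Groth.Agent.Lib.Helper25GLnRed

/-!
# Functions on `GL_2` invariant under right translation by the unipotent subgroup (helper25)
-/

set_option autoImplicit false
universe u v w

namespace Groth.Agent.Lib.Helper25.Weitz

open TensorProduct HopfRep CoordGrp Groth.Agent.Lib.Helper25 Groth.Agent.Lib.Helper25.Schur

section Form

variable (k : Type u) [Field k] (n : ℕ)

theorem toGLn_det : Mat.toGLn n k (Mat.det n k) = (GLn.det : GLn n k) := by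
  have h : (Mat.toGLn n k : Mat n k →ₐ[k] GLn n k) (Mat.genMat n k).det =
      ((Mat.toGLn n k : Mat n k →ₐ[k] GLn n k).mapMatrix (Mat.genMat n k)).det :=
    AlgHom.map_det _ _
  rw [GLn.det_eq]
  change (Mat.toGLn n k : Mat n k →ₐ[k] GLn n k) (Mat.genMat n k).det = _
  rw [h]
  congr 1
  ext i j
  simp [Mat.genMat, GLn.genMat]

theorem toGLn_det_mul_Dinv : Mat.toGLn n k (Mat.det n k) * (GLn.Dinv : GLn n k) = 1 := by
  rw [toGLn_det]; exact GLn.det_mul_Dinv

/-- Every function on `GL_n` is a polynomial in the entries times a power of the inverse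
determinant. -/
theorem exists_toGLn_mul_Dinv_pow (h : GLn n k) :
    ∃ (q : Mat n k) (m : ℕ), h = Mat.toGLn n k q * (GLn.Dinv : GLn n k) ^ m := by
  obtain ⟨p, rfl⟩ := Ideal.Quotient.mk_surjective h
  change ∃ (q : Mat n k) (m : ℕ), mkP k n p = Mat.toGLn n k q * (GLn.Dinv : GLn n k) ^ m
  induction p using MvPolynomial.induction_on with
  | C a =>
    refine ⟨algebraMap k (Mat n k) a, 0, ?_⟩
    rw [pow_zero, mul_one]
    have h1 : mkP k n (MvPolynomial.C a) = algebraMap k (GLn n k) a := (mkP k n).commutes a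
    rw [h1]
    exact ((Mat.toGLn n k : Mat n k →ₐ[k] GLn n k).commutes a).symm
  | add p q hp hq =>
    obtain ⟨q₁, m₁, h₁⟩ := hp
    obtain ⟨q₂, m₂, h₂⟩ := hq
    refine ⟨q₁ * Mat.det n k ^ m₂ + q₂ * Mat.det n k ^ m₁, m₁ + m₂, ?_⟩
    rw [map_add, h₁, h₂, map_add, map_mul, map_mul, map_pow, map_pow, pow_add]
    have hd := toGLn_det_mul_Dinv k n
    have e1 : ∀ m : ℕ, Mat.toGLn n k (Mat.det n k) ^ m * (GLn.Dinv : GLn n k) ^ m = 1 := by
      intro m; rw [← mul_pow, hd, one_pow]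
    calc Mat.toGLn n k q₁ * GLn.Dinv ^ m₁ + Mat.toGLn n k q₂ * GLn.Dinv ^ m₂
        = Mat.toGLn n k q₁ * GLn.Dinv ^ m₁ * (Mat.toGLn n k (Mat.det n k) ^ m₂ * GLn.Dinv ^ m₂) +
          Mat.toGLn n k q₂ * GLn.Dinv ^ m₂ * (Mat.toGLn n k (Mat.det n k) ^ m₁ * GLn.Dinv ^ m₁) := by
          rw [e1, e1, mul_one, mul_one]
      _ = _ := by ring
  | mul_X p s hp =>
    obtain ⟨q, m, hq⟩ := hp
    rw [map_mul, hq]
    rcases s with ⟨i, j⟩ | ⟨⟩
    · refine ⟨q * Mat.X i j, m, ?_⟩
      rw [map_mul, Mat.toGLn_X]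
      have : mkP k n (MvPolynomial.X (Sum.inl (i, j))) = GLn.X i j := rfl
      rw [this]
      ring
    · refine ⟨q, m + 1, ?_⟩
      have : mkP k n (MvPolynomial.X (Sum.inr ())) = (GLn.Dinv : GLn n k) := rfl
      rw [this, pow_succ]
      ring

end Form

section Sat

variable (k : Type u) [Field k]

/-- The entries of the generic `2 × 2` matrix. -/
noncomputable def mA : Mat 2 k := Mat.X 0 0
noncomputable def mB : Mat 2 k := Mat.X 0 1
noncomputable def mC : Mat 2 k := Mat.X 1 0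
noncomputable def mD : Mat 2 k := Mat.X 1 1

theorem mat_det_two : Mat.det 2 k = mA k * mD k - mB k * mC k := by
  rw [Mat.det, Matrix.det_fin_two]; rfl

/-- The evaluation `k[X₀,X₁,X₂] → k[a,b,c,d]` at `(a, c, ad - bc)`. -/
noncomputable def evT : MvPolynomial (Fin 3) k →ₐ[k] Mat 2 k :=
  MvPolynomial.aeval ![mA k, mC k, Mat.det 2 k]

/-- Setting the first variable to zero. -/
noncomputable def zeta : MvPolynomial (Fin 3) k →ₐ[k] MvPolynomial (Fin 2) k :=
  MvPolynomial.aeval ![0, MvPolynomial.X 0, MvPolynomial.X 1]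

/-- The inclusion of the last two variables. -/
noncomputable def iota : MvPolynomial (Fin 2) k →ₐ[k] MvPolynomial (Fin 3) k :=
  MvPolynomial.aeval ![MvPolynomial.X 1, MvPolynomial.X 2]

theorem exists_eq_X_mul_add (F : MvPolynomial (Fin 3) k) :
    ∃ F', F = MvPolynomial.X 0 * F' + iota k (zeta k F) := by
  induction F using MvPolynomial.induction_on with
  | C r => exact ⟨0, by simp [zeta, iota]⟩
  | add p q hp hq =>
    obtain ⟨p', hp'⟩ := hp
    obtain ⟨q', hq'⟩ := hq
    refine ⟨p' + q', ?_⟩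
    rw [map_add, map_add]
    conv_lhs => rw [hp', hq']
    ring
  | mul_X p i hp =>
    obtain ⟨p', hp'⟩ := hp
    fin_cases i
    · refine ⟨p, ?_⟩
      have : zeta k (MvPolynomial.X 0) = 0 := by simp [zeta]
      simp only [Fin.zero_eta, map_mul, this, mul_zero, map_zero, add_zero]
      ring
    · refine ⟨p' * MvPolynomial.X 1, ?_⟩
      have : iota k (zeta k (MvPolynomial.X 1)) = MvPolynomial.X 1 := by simp [zeta, iota]
      simp only [Fin.mk_one, map_mul, this]
      conv_lhs => rw [hp']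
      ring
    · refine ⟨p' * MvPolynomial.X 2, ?_⟩
      have : iota k (zeta k (MvPolynomial.X 2)) = MvPolynomial.X 2 := by simp [zeta, iota]
      simp only [Fin.reduceFinMk, map_mul, this]
      conv_lhs => rw [hp']
      ring

/-- Reduction modulo `a`, followed by an embedding in a field. -/
noncomputable def nu : Mat 2 k →ₐ[k] FractionRing (MvPolynomial (Fin 2) k) :=
  Mat.aeval 2 k
    !![0, -(algebraMap (MvPolynomial (Fin 2) k) (FractionRing (MvPolynomial (Fin 2) k))
          (MvPolynomial.X 1)) /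
        (algebraMap (MvPolynomial (Fin 2) k) (FractionRing (MvPolynomial (Fin 2) k))
          (MvPolynomial.X 0));
      algebraMap (MvPolynomial (Fin 2) k) (FractionRing (MvPolynomial (Fin 2) k))
        (MvPolynomial.X 0), 0]

theorem nu_comp_evT : (nu k).comp (evT k) =
    (IsScalarTower.toAlgHom k (MvPolynomial (Fin 2) k)
      (FractionRing (MvPolynomial (Fin 2) k))).comp (zeta k) := by
  have hY : algebraMap (MvPolynomial (Fin 2) k) (FractionRing (MvPolynomial (Fin 2) k))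
      (MvPolynomial.X 0) ≠ 0 := by
    intro h
    exact MvPolynomial.X_ne_zero (0 : Fin 2)
      (IsFractionRing.injective (MvPolynomial (Fin 2) k) (FractionRing (MvPolynomial (Fin 2) k))
        (h.trans (map_zero _).symm))
  apply MvPolynomial.algHom_ext
  intro i
  fin_cases i
  · simp [nu, evT, zeta, mA]
  · simp [nu, evT, zeta, mC]
  · simp only [nu, evT, zeta, mat_det_two, mA, mB, mC, mD, AlgHom.comp_apply, Fin.reduceFinMk,
      MvPolynomial.aeval_X, map_sub, map_mul, Mat.aeval_X]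
    simp

theorem mA_ne_zero : mA k ≠ 0 := MvPolynomial.X_ne_zero _

/-- The subalgebra `k[a, c, ad - bc]` is saturated with respect to `a`. -/
theorem mem_range_evT_of_mul {g : Mat 2 k} (h : mA k * g ∈ (evT k).range) : g ∈ (evT k).range := by
  obtain ⟨F, hF⟩ := h
  replace hF : evT k F = mA k * g := hF
  have h1 : nu k (evT k F) = 0 := by
    rw [hF, map_mul]
    have : nu k (mA k) = 0 := by simp [nu, mA]
    rw [this, zero_mul]
  have h2 : zeta k F = 0 := by
    have := DFunLike.congr_fun (nu_comp_evT k) F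
    rw [AlgHom.comp_apply, h1, AlgHom.comp_apply] at this
    exact IsFractionRing.injective (MvPolynomial (Fin 2) k) (FractionRing (MvPolynomial (Fin 2) k))
      (this.symm.trans (map_zero _).symm)
  obtain ⟨F', hF'⟩ := exists_eq_X_mul_add k F
  rw [h2, map_zero, add_zero] at hF'
  refine ⟨F', ?_⟩
  have h3 : mA k * evT k F' = mA k * g := by
    rw [← hF, hF', map_mul]
    congr 1
    simp [evT]
  exact mul_left_cancel₀ (mA_ne_zero k) h3

theorem mem_range_evT_of_pow_mul (N : ℕ) {g : Mat 2 k} (h : mA k ^ N * g ∈ (evT k).range) :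
    g ∈ (evT k).range := by
  induction N with
  | zero => simpa using h
  | succ N ih =>
    apply ih
    apply mem_range_evT_of_mul
    rw [← mul_assoc, ← pow_succ']
    exact h

end Sat

section Frac

variable (k : Type u) [Field k]

local notation "K" => FractionRing (Mat 2 k)

/-- The embedding of the polynomial ring in its fraction field. -/
noncomputable def fr : Mat 2 k →ₐ[k] K := IsScalarTower.toAlgHom k (Mat 2 k) K

theorem fr_injective : Function.Injective (fr k) := IsFractionRing.injective (Mat 2 k) K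

theorem fr_mA_ne_zero : fr k (mA k) ≠ 0 := fun h =>
  mA_ne_zero k (fr_injective k (h.trans (map_zero _).symm))

theorem fr_det_ne_zero : fr k (Mat.det 2 k) ≠ 0 := fun h =>
  mat_det_ne_zero k 2 (fr_injective k (h.trans (map_zero _).symm))

/-- The point `s ↦ -b/a` of the additive group. -/
noncomputable def evS : SymmetricAlgebra k k →ₐ[k] K :=
  SymmetricAlgebra.lift (LinearMap.toSpanSingleton k K (-(fr k (mB k)) / fr k (mA k)))

theorem evS_gaS : evS k (gaS k) = -(fr k (mB k)) / fr k (mA k) := by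
  simp [evS, gaS]

/-- The map `O(GL_2) ⊗ O(G_a) → K`. -/
noncomputable def thetaK : GLn 2 k ⊗[k] SymmetricAlgebra k k →ₐ[k] K :=
  Algebra.TensorProduct.lift (glnToFrac k 2) (evS k) (fun _ _ => Commute.all _ _)

/-- The right translation coaction `O(GL_2) → O(GL_2) ⊗ O(G_a)`. -/
noncomputable def lam : GLn 2 k →ₐ[k] GLn 2 k ⊗[k] SymmetricAlgebra k k :=
  (Algebra.TensorProduct.map (AlgHom.id k (GLn 2 k))
    (resGa k : GLn 2 k →ₐ[k] SymmetricAlgebra k k)).comp (Bialgebra.comulAlgHom k (GLn 2 k))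

theorem lam_X (i j : Fin 2) : lam k (GLn.X i j) = ∑ l, GLn.X i l ⊗ₜ[k] gaMat k l j := by
  simp [lam, GLn.comul_X]

theorem lam_Dinv : lam k (GLn.Dinv : GLn 2 k) = GLn.Dinv ⊗ₜ[k] 1 := by
  simp [lam, GLn.comul_Dinv]

theorem lam_det : lam k (GLn.det : GLn 2 k) = GLn.det ⊗ₜ[k] 1 := by
  simp [lam, GLn.comul_det, resGa_det]

/-- The matrix `[[a, 0], [c, det / a]]`. -/
noncomputable def M0 : Matrix (Fin 2) (Fin 2) K :=
  !![fr k (mA k), 0; fr k (mC k), fr k (Mat.det 2 k) / fr k (mA k)]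

theorem M0_det : (M0 k).det * (fr k (Mat.det 2 k))⁻¹ = 1 := by
  have h1 := fr_mA_ne_zero k
  have h2 := fr_det_ne_zero k
  rw [M0, Matrix.det_fin_two]
  simp only [Matrix.of_apply, Matrix.cons_val', Matrix.cons_val_zero, Matrix.cons_val_one,
    Matrix.cons_val_fin_one]
  field_simp
  ring

noncomputable def pt0 : GLn 2 k →ₐ[k] K := GLn.pt 2 k (M0 k) (fr k (Mat.det 2 k))⁻¹ (M0_det k)

theorem glnToFrac_X (i j : Fin 2) : glnToFrac k 2 (GLn.X i j) = fr k (Mat.X i j) := by
  rw [glnToFrac, GLn.pt_X]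
  rfl

theorem glnToFrac_Dinv : glnToFrac k 2 (GLn.Dinv : GLn 2 k) = (fr k (Mat.det 2 k))⁻¹ := by
  rw [glnToFrac, GLn.pt_Dinv]
  rfl

theorem thetaK_comp_lam : (thetaK k).comp (lam k) = pt0 k := by
  have h1 := fr_mA_ne_zero k
  apply GLn.algHom_ext
  · intro i j
    rw [AlgHom.comp_apply, lam_X, map_sum, Fin.sum_univ_two, pt0, GLn.pt_X]
    simp only [thetaK, Algebra.TensorProduct.lift_tmul, glnToFrac_X]
    fin_cases i <;> fin_cases j
    · simp [gaMat, M0, mA]
    · simp only [gaMat, M0]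
      simp
      rw [evS_gaS]
      simp only [mA, mB] at h1 ⊢
      field_simp
      ring
    · simp [gaMat, M0, mC]
    · simp only [gaMat, M0, mat_det_two]
      simp
      rw [evS_gaS]
      simp only [mA, mB, mC, mD] at h1 ⊢
      field_simp
      ring
  · rw [AlgHom.comp_apply, lam_Dinv, pt0, GLn.pt_Dinv]
    simp [thetaK, glnToFrac_Dinv]

/-- The subalgebra of `K` generated by `a, c, det, a⁻¹`. -/
noncomputable def TK' : Subalgebra k K :=
  Algebra.adjoin k {fr k (mA k), fr k (mC k), fr k (Mat.det 2 k), (fr k (mA k))⁻¹}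

theorem pt0_toGLn_mem (q : Mat 2 k) : pt0 k (Mat.toGLn 2 k q) ∈ TK' k := by
  have h1 := fr_mA_ne_zero k
  have h : (pt0 k).comp (Mat.toGLn 2 k : Mat 2 k →ₐ[k] GLn 2 k) = Mat.aeval 2 k (M0 k) := by
    apply Mat.algHom_ext
    intro i j
    rw [AlgHom.comp_apply]
    change pt0 k (Mat.toGLn 2 k (Mat.X i j)) = _
    rw [Mat.toGLn_X, pt0, GLn.pt_X, Mat.aeval_X]
  have h' : pt0 k (Mat.toGLn 2 k q) = Mat.aeval 2 k (M0 k) q := DFunLike.congr_fun h q
  rw [h']
  have hmem : ∀ p : Fin 2 × Fin 2, M0 k p.1 p.2 ∈ TK' k := by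
    rintro ⟨i, j⟩
    fin_cases i <;> fin_cases j
    · exact Algebra.subset_adjoin (by simp [M0])
    · simp only [M0]
      exact Subalgebra.zero_mem _
    · exact Algebra.subset_adjoin (by simp [M0])
    · have : M0 k 1 1 = fr k (Mat.det 2 k) * (fr k (mA k))⁻¹ := by
        simp [M0, div_eq_mul_inv]
      change M0 k 1 1 ∈ TK' k
      rw [this]
      exact Subalgebra.mul_mem _ (Algebra.subset_adjoin (by simp))
        (Algebra.subset_adjoin (by simp))
  have hr : (MvPolynomial.aeval fun p : Fin 2 × Fin 2 => M0 k p.1 p.2 :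
      MvPolynomial (Fin 2 × Fin 2) k →ₐ[k] K).range ≤ TK' k := by
    rw [← Algebra.adjoin_range_eq_range_aeval]
    apply Algebra.adjoin_le
    rintro _ ⟨p, rfl⟩
    exact hmem p
  exact hr ⟨q, rfl⟩

theorem exists_pow_mul_mem_of_mem_TK' {y : K} (hy : y ∈ TK' k) :
    ∃ N : ℕ, fr k (mA k) ^ N * y ∈ (evT k).range.map (fr k) := by
  have h1 := fr_mA_ne_zero k
  have hA : fr k (mA k) ∈ (evT k).range.map (fr k) :=
    ⟨mA k, ⟨MvPolynomial.X 0, by simp [evT]⟩, rfl⟩
  have hC : fr k (mC k) ∈ (evT k).range.map (fr k) :=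
    ⟨mC k, ⟨MvPolynomial.X 1, by simp [evT]⟩, rfl⟩
  have hD : fr k (Mat.det 2 k) ∈ (evT k).range.map (fr k) :=
    ⟨Mat.det 2 k, ⟨MvPolynomial.X 2, by simp [evT]⟩, rfl⟩
  unfold TK' at hy
  induction hy using Algebra.adjoin_induction with
  | mem x hx =>
    simp only [Set.mem_insert_iff, Set.mem_singleton_iff] at hx
    rcases hx with rfl | rfl | rfl | rfl
    · exact ⟨0, by simpa using hA⟩
    · exact ⟨0, by simpa using hC⟩
    · exact ⟨0, by simpa using hD⟩
    · refine ⟨1, ?_⟩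
      rw [pow_one, mul_inv_cancel₀ h1]
      exact Subalgebra.one_mem _
  | algebraMap r => exact ⟨0, by simpa using Subalgebra.algebraMap_mem _ r⟩
  | add x y _ _ hx hy =>
    obtain ⟨N₁, h₁⟩ := hx
    obtain ⟨N₂, h₂⟩ := hy
    refine ⟨N₁ + N₂, ?_⟩
    have : fr k (mA k) ^ (N₁ + N₂) * (x + y) =
        fr k (mA k) ^ N₂ * (fr k (mA k) ^ N₁ * x) + fr k (mA k) ^ N₁ * (fr k (mA k) ^ N₂ * y) := by
      rw [pow_add]; ring
    rw [this]
    exact Subalgebra.add_mem _ (Subalgebra.mul_mem _ (Subalgebra.pow_mem _ hA _) h₁)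
      (Subalgebra.mul_mem _ (Subalgebra.pow_mem _ hA _) h₂)
  | mul x y _ _ hx hy =>
    obtain ⟨N₁, h₁⟩ := hx
    obtain ⟨N₂, h₂⟩ := hy
    refine ⟨N₁ + N₂, ?_⟩
    have : fr k (mA k) ^ (N₁ + N₂) * (x * y) =
        (fr k (mA k) ^ N₁ * x) * (fr k (mA k) ^ N₂ * y) := by
      rw [pow_add]; ring
    rw [this]
    exact Subalgebra.mul_mem _ h₁ h₂

/-- A polynomial in the entries that is invariant under right translation by the unipotent
subgroup is a polynomial in `a, c, det`. -/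
theorem mem_range_evT_of_lam_eq {q : Mat 2 k}
    (hq : lam k (Mat.toGLn 2 k q) = Mat.toGLn 2 k q ⊗ₜ[k] 1) : q ∈ (evT k).range := by
  have h1 : fr k q = pt0 k (Mat.toGLn 2 k q) := by
    rw [← thetaK_comp_lam, AlgHom.comp_apply, hq]
    simp only [thetaK, Algebra.TensorProduct.lift_tmul, map_one, mul_one]
    exact (glnToFrac_toGLn k 2 q).symm
  have h2 : fr k q ∈ TK' k := by rw [h1]; exact pt0_toGLn_mem k q
  obtain ⟨N, hN⟩ := exists_pow_mul_mem_of_mem_TK' k h2
  obtain ⟨t, ht, hteq⟩ := hN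
  apply mem_range_evT_of_pow_mul k N
  have : t = mA k ^ N * q := by
    apply fr_injective k
    change fr k t = _
    rw [map_mul, map_pow]
    exact hteq
  rw [← this]
  exact ht

/-- A function on `GL_2` that is invariant under right translation by the unipotent subgroup is
a polynomial in `a, c, det, det⁻¹`. -/
theorem mem_adjoin_of_lam_eq {h : GLn 2 k} (hh : lam k h = h ⊗ₜ[k] 1) :
    h ∈ Algebra.adjoin k ({GLn.X 0 0, GLn.X 1 0, GLn.det, GLn.Dinv} : Set (GLn 2 k)) := by
  obtain ⟨q, m, hqm⟩ := exists_toGLn_mul_Dinv_pow k 2 h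
  have hq : Mat.toGLn 2 k q = h * GLn.det ^ m := by
    rw [hqm, mul_assoc, ← mul_pow, GLn.Dinv_mul_det, one_pow, mul_one]
  have hlam : lam k (Mat.toGLn 2 k q) = Mat.toGLn 2 k q ⊗ₜ[k] 1 := by
    rw [hq, map_mul, map_pow, hh, lam_det, Algebra.TensorProduct.tmul_pow,
      Algebra.TensorProduct.tmul_mul_tmul, one_pow, one_mul]
  obtain ⟨F, hF⟩ := mem_range_evT_of_lam_eq k hlam
  replace hF : evT k F = q := hF
  have hcomp : (Mat.toGLn 2 k : Mat 2 k →ₐ[k] GLn 2 k).comp (evT k) =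
      MvPolynomial.aeval ![(GLn.X 0 0 : GLn 2 k), GLn.X 1 0, GLn.det] := by
    apply MvPolynomial.algHom_ext
    intro i
    fin_cases i
    · simp [evT, mA]
    · simp [evT, mC]
    · simp only [evT, AlgHom.comp_apply, Fin.reduceFinMk, MvPolynomial.aeval_X]
      exact toGLn_det k 2
  have h3 : Mat.toGLn 2 k q ∈
      Algebra.adjoin k ({GLn.X 0 0, GLn.X 1 0, GLn.det, GLn.Dinv} : Set (GLn 2 k)) := by
    rw [← hF]
    have : Mat.toGLn 2 k (evT k F) =
        MvPolynomial.aeval ![(GLn.X 0 0 : GLn 2 k), GLn.X 1 0, GLn.det] F :=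
      DFunLike.congr_fun hcomp F
    rw [this]
    have hr : (MvPolynomial.aeval ![(GLn.X 0 0 : GLn 2 k), GLn.X 1 0, GLn.det] :
        MvPolynomial (Fin 3) k →ₐ[k] GLn 2 k).range ≤
        Algebra.adjoin k ({GLn.X 0 0, GLn.X 1 0, GLn.det, GLn.Dinv} : Set (GLn 2 k)) := by
      rw [← Algebra.adjoin_range_eq_range_aeval]
      apply Algebra.adjoin_mono
      rintro _ ⟨i, rfl⟩
      fin_cases i <;> simp
    exact hr ⟨F, rfl⟩
  rw [hqm]
  exact Subalgebra.mul_mem _ h3 (Subalgebra.pow_mem _ (Algebra.subset_adjoin (by simp)) _)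

end Frac

end Groth.Agent.Lib.Helper25.Weitz
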