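import Mathlib.Algebra.Module.PID
import Mathlib.Algebra.Polynomial.Module.AEval
import Mathlib.LinearAlgebra.DFinsupp
import Mathlib.LinearAlgebra.Basis.Basic
import Mathlib.RingTheory.Polynomial.Basic
import Mathlib.LinearAlgebra.Finsupp.VectorSpace

/-!
# Jordan chains for a nilpotent endomorphism (helper25)
-/

set_option autoImplicit false
universe u v

namespace Groth.Agent.Lib.Helper25.Weitz

open Polynomial

section QuotBasis

variable (k : Type u) [Field k] (e : ℕ)

/-- The class of `X ^ t` in `k[X] / (X ^ e)`. -/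
noncomputable def qv (t : Fin e) : k[X] ⧸ Submodule.span k[X] {(X : k[X]) ^ e} :=
  Submodule.Quotient.mk ((X : k[X]) ^ (t : ℕ))

theorem qv_linearIndependent : LinearIndependent k (qv k e) := by
  rw [Fintype.linearIndependent_iff]
  intro c hc t
  have h1 : (∑ i, c i • qv k e i) =
      Submodule.Quotient.mk (p := Submodule.span k[X] {(X : k[X]) ^ e})
        (∑ i : Fin e, c i • (X : k[X]) ^ (i : ℕ)) := by
    change _ = (Submodule.span k[X] {(X : k[X]) ^ e}).mkQ _
    rw [map_sum]
    refine Finset.sum_congr rfl (fun i _ => ?_)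
    rfl
  rw [h1, Submodule.Quotient.mk_eq_zero, Submodule.mem_span_singleton] at hc
  obtain ⟨a, ha⟩ := hc
  have hdvd : (X : k[X]) ^ e ∣ ∑ i : Fin e, c i • (X : k[X]) ^ (i : ℕ) :=
    ⟨a, by rw [← ha, smul_eq_mul, mul_comm]⟩
  have hdeg : (∑ i : Fin e, c i • (X : k[X]) ^ (i : ℕ)).degree < ((X : k[X]) ^ e).degree := by
    rw [degree_X_pow]
    refine lt_of_le_of_lt (degree_sum_le _ _) ?_
    rw [Finset.sup_lt_iff (by exact WithBot.bot_lt_coe e)]
    intro i _
    refine lt_of_le_of_lt (degree_smul_le _ _) ?_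
    rw [degree_X_pow]
    exact_mod_cast i.2
  have hzero := eq_zero_of_dvd_of_degree_lt hdvd hdeg
  have := congrArg (fun p : k[X] => p.coeff (t : ℕ)) hzero
  simp only [finsetSum_coeff, coeff_smul, coeff_X_pow, smul_eq_mul, mul_ite, mul_one, mul_zero,
    coeff_zero] at this
  rw [Finset.sum_eq_single t] at this
  · simpa using this
  · intro i _ hi
    rw [if_neg]
    intro h
    exact hi (Fin.ext h.symm)
  · intro ht
    exact absurd (Finset.mem_univ t) ht

theorem qv_span : ⊤ ≤ Submodule.span k (Set.range (qv k e)) := by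
  intro q _
  obtain ⟨p, rfl⟩ := Submodule.Quotient.mk_surjective _ q
  clear * -
  induction p using Polynomial.induction_on' with
  | add p q hp hq =>
    rw [Submodule.Quotient.mk_add]
    exact Submodule.add_mem _ hp hq
  | monomial n a =>
    by_cases hn : n < e
    · have : (Submodule.Quotient.mk (monomial n a) :
          k[X] ⧸ Submodule.span k[X] {(X : k[X]) ^ e}) = a • qv k e ⟨n, hn⟩ := by
        rw [qv, ← Submodule.Quotient.mk_smul, smul_X_eq_monomial]
      rw [this]
      exact Submodule.smul_mem _ _ (Submodule.subset_span ⟨_, rfl⟩)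
    · have : (Submodule.Quotient.mk (monomial n a) :
          k[X] ⧸ Submodule.span k[X] {(X : k[X]) ^ e}) = 0 := by
        rw [Submodule.Quotient.mk_eq_zero, Submodule.mem_span_singleton]
        refine ⟨monomial (n - e) a, ?_⟩
        have hne : n - e + e = n := by omega
        rw [smul_eq_mul, ← monomial_one_right_eq_X_pow, monomial_mul_monomial, mul_one, hne]
      rw [this]
      exact Submodule.zero_mem _

/-- The basis `1, X, …, X^(e-1)` of `k[X] / (X ^ e)`. -/
noncomputable def qBasis : Module.Basis (Fin e) k (k[X] ⧸ Submodule.span k[X] {(X : k[X]) ^ e}) :=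
  Module.Basis.mk (qv_linearIndependent k e) (qv_span k e)

theorem qBasis_apply (t : Fin e) : qBasis k e t = qv k e t := by
  rw [qBasis, Module.Basis.mk_apply]

theorem X_smul_qv (t : Fin e) :
    (X : k[X]) • qv k e t = if h : (t : ℕ) + 1 < e then qv k e ⟨t + 1, h⟩ else 0 := by
  rw [qv, ← Submodule.Quotient.mk_smul, smul_eq_mul, ← pow_succ']
  split_ifs with h
  · rfl
  · rw [Submodule.Quotient.mk_eq_zero, Submodule.mem_span_singleton]
    have : (t : ℕ) + 1 = e := by have := t.2; omega
    exact ⟨1, by rw [this, one_smul]⟩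

end QuotBasis

section DFinsuppBasis

open Module

theorem dfinsupp_basis_repr {ι : Type*} [DecidableEq ι] {R : Type*} [Semiring R] {M : ι → Type*}
    [∀ i, AddCommMonoid (M i)] [∀ i, Module R (M i)] {η : ι → Type*}
    (b : ∀ i, Basis (η i) R (M i)) (x : Π₀ i, M i) (i : ι) (j : η i) :
    (DFinsupp.basis b).repr x ⟨i, j⟩ = (b i).repr (x i) j := by
  rfl

theorem dfinsupp_basis_apply {ι : Type*} [DecidableEq ι] {R : Type*} [Semiring R] {M : ι → Type*}
    [∀ i, AddCommMonoid (M i)] [∀ i, Module R (M i)] {η : ι → Type*}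
    (b : ∀ i, Basis (η i) R (M i)) (i : ι) (j : η i) :
    DFinsupp.basis b ⟨i, j⟩ = DFinsupp.single i (b i j) := by
  classical
  apply (DFinsupp.basis b).repr.injective
  rw [Basis.repr_self]
  ext ⟨i', j'⟩
  rw [dfinsupp_basis_repr]
  by_cases h : i = i'
  · subst h
    rw [DFinsupp.single_eq_same, Basis.repr_self]
    by_cases hj : j = j'
    · subst hj; simp
    · rw [Finsupp.single_eq_of_ne, Finsupp.single_eq_of_ne]
      · exact fun h => hj h.symm
      · intro h
        apply hj
        have := (Sigma.mk.inj_iff.mp h).2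
        exact (eq_of_heq this).symm
  · rw [DFinsupp.single_eq_of_ne (Ne.symm h), map_zero, Finsupp.single_eq_of_ne]
    · rfl
    · intro h'
      exact h (Sigma.mk.inj_iff.mp h').1.symm

end DFinsuppBasis

section Jordan

variable {k : Type u} [Field k] {V : Type v} [AddCommGroup V] [Module k V] [FiniteDimensional k V]

open Module

/-- A nilpotent endomorphism of a finite-dimensional vector space has a basis of Jordan chains. -/
theorem exists_jordan_basis (f : Module.End k V) (hf : IsNilpotent f) :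
    ∃ (m : ℕ) (e : Fin m → ℕ) (B : Basis (Σ i : Fin m, Fin (e i)) k V),
      ∀ (i : Fin m) (t : Fin (e i)),
        f (B ⟨i, t⟩) = if h : (t : ℕ) + 1 < e i then B ⟨i, ⟨t + 1, h⟩⟩ else 0 := by
  classical
  obtain ⟨n, hn⟩ := hf
  have hT : Module.IsTorsion' (AEval' f) (Submonoid.powers (X : k[X])) := by
    intro x
    refine ⟨⟨X ^ n, n, rfl⟩, ?_⟩
    obtain ⟨v, rfl⟩ := (AEval'.of f).surjective x
    change (X ^ n : k[X]) • AEval'.of f v = 0
    rw [AEval'.X_pow_smul_of, hn]
    simp
  obtain ⟨m, e, ⟨Ψ⟩⟩ := Module.torsion_by_prime_power_decomposition (R := k[X])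
    (M := AEval' f) (p := X) irreducible_X hT
  let b0 : Basis (Σ i : Fin m, Fin (e i)) k
      (Π₀ i : Fin m, k[X] ⧸ Submodule.span k[X] {(X : k[X]) ^ e i}) :=
    DFinsupp.basis (fun i => qBasis k (e i))
  let E : (Π₀ i : Fin m, k[X] ⧸ Submodule.span k[X] {(X : k[X]) ^ e i}) ≃ₗ[k] V :=
    (Ψ.restrictScalars k).symm ≪≫ₗ (AEval'.of f).symm
  refine ⟨m, e, b0.map E, ?_⟩
  intro i t
  have hB : ∀ (i : Fin m) (t : Fin (e i)), (b0.map E) ⟨i, t⟩ =
      (AEval'.of f).symm (Ψ.symm (DFinsupp.single i (qv k (e i) t))) := by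
    intro i t
    rw [Basis.map_apply, dfinsupp_basis_apply, qBasis_apply]
    rfl
  rw [hB, ← AEval'.of_symm_X_smul, ← map_smul, ← DFinsupp.single_smul, X_smul_qv]
  split_ifs with h
  · rw [hB]
  · rw [DFinsupp.single_zero, map_zero, map_zero]

end Jordan

end Groth.Agent.Lib.Helper25.Weitz
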