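import Groth.Agent.Lib.Helper25GaComod
import Groth.Agent.Lib.Helper25ComodMat
import Groth.Prelude.Def_GLin4
import Groth.Prelude.Def_GLin2
import Mathlib.RingTheory.Derivation.MapCoeffs
import Mathlib.Algebra.MvPolynomial.Derivation

/-!
# The unipotent subgroup `G_a ⊂ GL_2` and comodule algebras over `G_a` (helper25)
-/

set_option autoImplicit false
universe u v w

namespace Groth.Agent.Lib.Helper25.Weitz

open TensorProduct HopfRep CoordGrp Groth.Agent.Lib.Helper25

section Res

variable (k : Type u) [Field k]

/-- The matrix `[[1, s], [0, 1]]` over `k[s]`. -/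
noncomputable def gaMat : Matrix (Fin 2) (Fin 2) (SymmetricAlgebra k k) := !![1, gaS k; 0, 1]

theorem gaMat_det : (gaMat k).det * 1 = 1 := by
  simp [gaMat, Matrix.det_fin_two]

theorem comul_gaS : CoalgebraStruct.comul (R := k) (gaS k) =
    gaS k ⊗ₜ[k] (1 : SymmetricAlgebra k k) + (1 : SymmetricAlgebra k k) ⊗ₜ[k] gaS k :=
  SymmetricAlgebra.comul_ι k k 1

theorem counit_gaS : CoalgebraStruct.counit (R := k) (gaS k) = 0 :=
  SymmetricAlgebra.counit_ι k k 1

theorem isComatrix_gaMat : IsComatrix (k := k) (gaMat k) where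
  comul i j := by
    fin_cases i <;> fin_cases j <;>
      simp [gaMat, Fin.sum_univ_two, comul_gaS, Bialgebra.comul_one, Algebra.TensorProduct.one_def,
        add_comm]
  counit i j := by
    fin_cases i <;> fin_cases j <;> simp [gaMat, counit_gaS, Bialgebra.counit_one]

/-- The restriction map `O(GL_2) → O(G_a)` as an algebra map. -/
noncomputable def resAlg : GLn 2 k →ₐ[k] SymmetricAlgebra k k :=
  GLn.pt 2 k (gaMat k) 1 (gaMat_det k)

/-- The restriction map `O(GL_2) → O(G_a)` as a bialgebra map. -/
noncomputable def resGa : GLn 2 k →ₐc[k] SymmetricAlgebra k k :=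
  BialgHom.ofAlgHom (resAlg k)
    (by
      apply GLn.algHom_ext
      · intro i j
        simp only [AlgHom.comp_apply, resAlg, GLn.pt_X, Bialgebra.counitAlgHom_apply,
          (isComatrix_gaMat k).counit, GLn.counit_X]
      · simp only [AlgHom.comp_apply, resAlg, GLn.pt_Dinv, Bialgebra.counitAlgHom_apply,
          Bialgebra.counit_one, GLn.counit_Dinv])
    (by
      apply GLn.algHom_ext
      · intro i j
        simp only [AlgHom.comp_apply, resAlg, GLn.pt_X, Bialgebra.comulAlgHom_apply,
          (isComatrix_gaMat k).comul, GLn.comul_X, map_sum, Algebra.TensorProduct.map_tmul]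
      · simp only [AlgHom.comp_apply, resAlg, GLn.pt_Dinv, Bialgebra.comulAlgHom_apply,
          Bialgebra.comul_one, GLn.comul_Dinv, Algebra.TensorProduct.map_tmul,
          Algebra.TensorProduct.one_def])

@[simp] theorem resGa_X (i j : Fin 2) : resGa k (GLn.X i j) = gaMat k i j :=
  GLn.pt_X (gaMat k) 1 (gaMat_det k) i j

@[simp] theorem resGa_Dinv : resGa k (GLn.Dinv : GLn 2 k) = 1 :=
  GLn.pt_Dinv (gaMat k) 1 (gaMat_det k)

theorem resGa_det : resGa k (GLn.det : GLn 2 k) = 1 := by
  have h := GLn.pt_det (k := k) (gaMat k) 1 (gaMat_det k)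
  have h2 : (gaMat k).det = 1 := by simpa using gaMat_det k
  rw [h2] at h
  exact h

end Res

section Coord1

variable {k : Type u} [Field k]

/-- The coefficient of `s` is a derivation at the counit. -/
theorem gaCoord_one_mul (p q : SymmetricAlgebra k k) :
    (gaBasis k).coord 1 (p * q) =
      (gaBasis k).coord 1 p * CoalgebraStruct.counit (R := k) q +
        CoalgebraStruct.counit (R := k) p * (gaBasis k).coord 1 q := by
  classical
  have key : (LinearMap.mul k (SymmetricAlgebra k k)).compr₂ ((gaBasis k).coord 1) =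
      (LinearMap.mul k k).compl₁₂ ((gaBasis k).coord 1)
          (CoalgebraStruct.counit (R := k) (A := SymmetricAlgebra k k)) +
        (LinearMap.mul k k).compl₁₂ (CoalgebraStruct.counit (R := k) (A := SymmetricAlgebra k k))
          ((gaBasis k).coord 1) := by
    apply (gaBasis k).ext
    intro m
    apply (gaBasis k).ext
    intro n
    simp only [LinearMap.compr₂_apply, LinearMap.mul_apply', LinearMap.add_apply,
      LinearMap.compl₁₂_apply, gaBasis_apply, ← pow_add, gaBasis_coord_pow, counit_gaS_pow]
    by_cases hm : m = 0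
    · subst hm
      by_cases hn : n = 1
      · subst hn; simp
      · have : ¬ (0 + n = 1) := by omega
        simp [hn, this]
    · by_cases hn : n = 0
      · subst hn
        by_cases hm1 : m = 1
        · subst hm1; simp
        · have : ¬ (m + 0 = 1) := by omega
          simp [hm1, this]
      · have : ¬ (m + n = 1) := by omega
        simp [hm, hn, this]
  have := LinearMap.congr_fun (LinearMap.congr_fun key p) q
  simpa using this

theorem gaCoord_one_one : (gaBasis k).coord 1 (1 : SymmetricAlgebra k k) = 0 := by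
  classical
  have := gaBasis_coord_pow (k := k) 1 0
  simpa using this

end Coord1

section Deriv

variable {k : Type u} [Field k] [CharZero k]
variable {R : Type v} [CommRing R] [Algebra k R] [Comod k (SymmetricAlgebra k k) R]
  [GLin.IsCoactAlg k (SymmetricAlgebra k k) R]

omit [CharZero k] [Comod k (SymmetricAlgebra k k) R] [GLin.IsCoactAlg k (SymmetricAlgebra k k) R] in
theorem slice_coord_one_mul (x y : R ⊗[k] SymmetricAlgebra k k) :
    slice R ((gaBasis k).coord 1) (x * y) =
      slice R ((gaBasis k).coord 1) x * slice R (CoalgebraStruct.counit (R := k)) y +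
        slice R (CoalgebraStruct.counit (R := k)) x * slice R ((gaBasis k).coord 1) y := by
  induction x using TensorProduct.induction_on with
  | zero => simp
  | add x x' hx hx' => rw [add_mul, map_add, hx, hx', map_add, map_add]; ring
  | tmul r c =>
    induction y using TensorProduct.induction_on with
    | zero => simp
    | add y y' hy hy' => rw [mul_add, map_add, hy, hy', map_add, map_add]; ring
    | tmul r' c' =>
      rw [Algebra.TensorProduct.tmul_mul_tmul]
      simp only [slice_tmul, gaCoord_one_mul]
      rw [add_smul, smul_mul_smul_comm, smul_mul_smul_comm]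

theorem gaOp_one_mul (f g : R) :
    gaOp (k := k) 1 (f * g) = gaOp (k := k) 1 f * g + f * gaOp (k := k) 1 g := by
  have hf : slice R (CoalgebraStruct.counit (R := k)) (Comod.coact (k := k)
      (A := SymmetricAlgebra k k) f) = f := T_counit f
  have hg : slice R (CoalgebraStruct.counit (R := k)) (Comod.coact (k := k)
      (A := SymmetricAlgebra k k) g) = g := T_counit g
  unfold gaOp
  rw [T_apply, GLin.IsCoactAlg.coact_mul, slice_coord_one_mul, hf, hg]
  rfl

/-- The infinitesimal generator of a `G_a`-action on an algebra, as a derivation. -/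
noncomputable def gaDer : Derivation k R R :=
  Derivation.mk' (gaOp (k := k) 1) (fun f g => by
    rw [gaOp_one_mul, smul_eq_mul, smul_eq_mul]; ring)

theorem gaDer_apply (f : R) : gaDer (k := k) f = gaOp (k := k) 1 f := rfl

end Deriv

section Inv

variable {k : Type u} [Field k] [CharZero k]
variable {V : Type v} [AddCommGroup V] [Module k V] [Comod k (SymmetricAlgebra k k) V]

theorem gaOp_one_eq_zero_of_mem_fixedPts {v : V} (hv : v ∈ fixedPts k (SymmetricAlgebra k k) V) :
    gaOp (k := k) 1 v = 0 := by
  have h : Comod.coact (k := k) (A := SymmetricAlgebra k k) v = v ⊗ₜ[k] 1 := hv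
  unfold gaOp
  rw [T_apply, h, slice_tmul, gaCoord_one_one, zero_smul]

theorem mem_fixedPts_of_gaOp_one_eq_zero {v : V} (hv : gaOp (k := k) 1 v = 0) :
    v ∈ fixedPts k (SymmetricAlgebra k k) V := by
  classical
  obtain ⟨S, hS⟩ := eq_sum_slice (V := V) (gaBasis k)
    (Comod.coact (k := k) (A := SymmetricAlgebra k k) v)
  have hS' : Comod.coact (k := k) (A := SymmetricAlgebra k k) v =
      ∑ i ∈ S, gaOp (k := k) i v ⊗ₜ[k] (gaS k ^ i) := by
    conv_lhs => rw [hS]
    refine Finset.sum_congr rfl (fun i _ => ?_)
    rw [gaBasis_apply]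
    rfl
  have hpos : ∀ n, n ≠ 0 → gaOp (k := k) n v = 0 := by
    intro n hn
    have h1 := gaOp_one_pow (k := k) n v
    have h2 : ((gaOp (k := k) 1 : V →ₗ[k] V) ^ n) v = 0 := by
      obtain ⟨m, rfl⟩ := Nat.exists_eq_succ_of_ne_zero hn
      rw [pow_succ, Module.End.mul_apply, hv, map_zero]
    rw [h2] at h1
    have hfac : (n.factorial : k) ≠ 0 := Nat.cast_ne_zero.mpr (Nat.factorial_ne_zero n)
    exact ((smul_eq_zero.mp h1.symm).resolve_left hfac)
  have hout : ∀ n, n ∉ S → gaOp (k := k) n v = 0 := by
    intro n hn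
    unfold gaOp
    rw [T_apply, hS', map_sum]
    apply Finset.sum_eq_zero
    intro i hi
    rw [slice_tmul, gaBasis_coord_pow, if_neg (fun h : i = n => hn (h ▸ hi)), zero_smul]
  change Comod.coact (k := k) (A := SymmetricAlgebra k k) v = v ⊗ₜ[k] 1
  rw [hS']
  by_cases h0 : 0 ∈ S
  · rw [Finset.sum_eq_single_of_mem 0 h0 (fun i _ hi => by rw [hpos i hi, TensorProduct.zero_tmul]),
      gaOp_zero, pow_zero]
  · have hv0 : v = 0 := by rw [← gaOp_zero (k := k) v]; exact hout 0 h0
    rw [hv0]
    simp

theorem mem_fixedPts_iff_gaOp_one (v : V) :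
    v ∈ fixedPts k (SymmetricAlgebra k k) V ↔ gaOp (k := k) 1 v = 0 :=
  ⟨gaOp_one_eq_zero_of_mem_fixedPts, mem_fixedPts_of_gaOp_one_eq_zero⟩

end Inv

end Groth.Agent.Lib.Helper25.Weitz
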