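import Groth.Agent.Lib.Helper25WeitzTransfer
import Groth.Agent.Lib.Helper25WeitzJordan
import Groth.Prelude.Def_GLin6

/-!
# Symmetric powers of the standard representation of `GL_2`, restricted to the unipotent
subgroup (helper25)
-/

set_option autoImplicit false
set_option linter.unusedSectionVars false
universe u v w

namespace Groth.Agent.Lib.Helper25.Weitz

open TensorProduct HopfRep CoordGrp Groth.Agent.Lib.Helper25 Groth.Agent.Lib.Helper25.Schur

section Sym

variable (k : Type u) [Field k]

/-- The matrix coefficients of the `d`-th symmetric power, as functions on `GL_2`. -/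
noncomputable def symMat (d : ℕ) : Matrix (FormIdx 2 d) (FormIdx 2 d) (GLn 2 k) :=
  fun l m => Mat.toGLn 2 k (formCoeff k 2 d l m)

theorem isComatrix_formCoeff (d : ℕ) :
    IsComatrix (k := k) (fun l m => formCoeff k 2 d l m : Matrix (FormIdx 2 d) (FormIdx 2 d) (Mat 2 k)) :=
  ⟨fun l m => comul_formCoeff (k := k) (n := 2) d l m,
    fun l m => counit_formCoeff (k := k) (n := 2) d l m⟩

theorem isComatrix_symMat (d : ℕ) : IsComatrix (k := k) (symMat k d) :=
  IsComatrix.map_bialgHom (isComatrix_formCoeff k d) (Mat.toGLn 2 k)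

noncomputable local instance instTrivComodS (H : Type u) [CommRing H] [Bialgebra k H] :
    Comod k H k := Comod.trivial k H k

local instance instTrivCoactAlgS (H : Type u) [CommRing H] [Bialgebra k H] :
    GLin.IsCoactAlg k H k := isCoactAlg_trivial

/-- The generator of the action of the unipotent subgroup on binary forms: `x₀ ∂/∂x₁`. -/
noncomputable def symDer : Derivation k (MvPolynomial (Fin 2) k) (MvPolynomial (Fin 2) k) :=
  MvPolynomial.mkDerivation k ![0, MvPolynomial.X 0]

/-- The composite `Mat 2 k → O(GL_2) → O(G_a)`. -/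
noncomputable def rt : Mat 2 k →ₐ[k] SymmetricAlgebra k k :=
  (resGa k : GLn 2 k →ₐ[k] SymmetricAlgebra k k).comp (Mat.toGLn 2 k : Mat 2 k →ₐ[k] GLn 2 k)

theorem map_rt_comp_stdCoactAlg :
    (Algebra.TensorProduct.map (AlgHom.id k (MvPolynomial (Fin 2) k)) (rt k)).comp
      (stdCoactAlg 2 k) = polyCoactHom (k := k) (A₀ := k) (gaMat k) := by
  apply MvPolynomial.algHom_ext
  intro j
  simp only [AlgHom.comp_apply, stdCoactAlg_X, map_sum, Algebra.TensorProduct.map_tmul,
    AlgHom.id_apply, polyCoactHom_X, rt, Mat.toGLn_X]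
  refine Finset.sum_congr rfl (fun i _ => ?_)
  congr 1
  change resGa k (Mat.toGLn 2 k (Mat.X i j)) = _
  rw [Mat.toGLn_X, resGa_X]

theorem coord_one_res_symMat [CharZero k] (d : ℕ) (l m : FormIdx 2 d) :
    (gaBasis k).coord 1 (resGa k (symMat k d l m)) =
      MvPolynomial.coeff l.1 (symDer k (MvPolynomial.monomial m.1 1)) := by
  classical
  letI cW : Comod k (SymmetricAlgebra k k) (MvPolynomial (Fin 2) k) :=
    polyComod (A₀ := k) (gaMat k) (isComatrix_gaMat k)
  haveI iW : GLin.IsCoactAlg k (SymmetricAlgebra k k) (MvPolynomial (Fin 2) k) :=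
    polyComod_isCoactAlg (A₀ := k) (gaMat k) (isComatrix_gaMat k)
  have hD : gaDer (k := k) (R := MvPolynomial (Fin 2) k) = symDer k := by
    apply MvPolynomial.derivation_ext
    intro j
    rw [symDer, MvPolynomial.mkDerivation_X, gaDer_apply]
    unfold gaOp
    rw [T_apply]
    have h1 : Comod.coact (k := k) (A := SymmetricAlgebra k k)
        (MvPolynomial.X j : MvPolynomial (Fin 2) k) =
        ∑ i, (MvPolynomial.X i : MvPolynomial (Fin 2) k) ⊗ₜ[k] gaMat k i j :=
      polyCoactHom_X (k := k) (A₀ := k) (gaMat k) j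
    rw [h1, map_sum, Fin.sum_univ_two, slice_tmul, slice_tmul]
    have h11 : (gaBasis k).repr (1 : SymmetricAlgebra k k) 1 = 0 := gaCoord_one_one
    have hs : (gaBasis k).repr (gaS k) 1 = 1 := by
      have := gaBasis_coord_pow (k := k) 1 1
      simpa using this
    fin_cases j
    · simp [gaMat, h11]
    · simp [gaMat, h11, hs]
  have h2 : Comod.coact (k := k) (A := SymmetricAlgebra k k)
      (MvPolynomial.monomial m.1 (1 : k) : MvPolynomial (Fin 2) k) =
      ∑ l' : FormIdx 2 d, MvPolynomial.monomial l'.1 (1 : k) ⊗ₜ[k] resGa k (symMat k d l' m) := by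
    change polyCoactHom (k := k) (A₀ := k) (gaMat k) _ = _
    rw [← map_rt_comp_stdCoactAlg, AlgHom.comp_apply, stdCoactAlg_monomial_expand d m, map_sum]
    refine Finset.sum_congr rfl (fun l' _ => ?_)
    rw [Algebra.TensorProduct.map_tmul]
    rfl
  rw [← hD, gaDer_apply]
  unfold gaOp
  rw [T_apply, h2, map_sum, MvPolynomial.coeff_sum]
  simp only [slice_tmul, MvPolynomial.coeff_smul, MvPolynomial.coeff_monomial, smul_eq_mul]
  rw [Finset.sum_eq_single l]
  · simp
  · intro l' _ hl'
    rw [if_neg (fun h => hl' (Subtype.ext h)), mul_zero]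
  · intro hl
    exact absurd (Finset.mem_univ l) hl

theorem coeff_symDer_monomial (d : ℕ) (i' i : Fin (d + 1)) :
    MvPolynomial.coeff (binIdx d i').1 (symDer k (MvPolynomial.monomial (binIdx d i).1 1)) =
      if (i' : ℕ) + 1 = (i : ℕ) then ((i : ℕ) : k) else 0 := by
  classical
  rw [symDer, MvPolynomial.mkDerivation_monomial, one_smul,
    Finsupp.sum_fintype _ _ (by intro j; simp), Fin.sum_univ_two]
  simp only [Matrix.cons_val_zero, smul_zero, zero_add, Matrix.cons_val_one,
    Matrix.cons_val_fin_one, smul_eq_mul, binIdx_val_one]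
  have h1 : (MvPolynomial.monomial ((binIdx d i).1 - Finsupp.single 1 1) (((i : ℕ) : k)) *
      MvPolynomial.X 0 : MvPolynomial (Fin 2) k) =
      MvPolynomial.monomial ((binIdx d i).1 - Finsupp.single 1 1 + Finsupp.single 0 1)
        (((i : ℕ) : k)) := by
    rw [MvPolynomial.monomial_add_single, pow_one]
  rw [h1, mul_zero, zero_add, MvPolynomial.coeff_monomial]
  by_cases hi : (i' : ℕ) + 1 = (i : ℕ)
  · rw [if_pos hi, if_pos]
    ext j
    fin_cases j
    · simp only [Fin.zero_eta, Finsupp.coe_add, Finsupp.coe_tsub, Pi.add_apply, Pi.sub_apply,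
        binIdx_val_zero, Finsupp.single_apply]
      have := i.2
      simp
      omega
    · simp only [Fin.mk_one, Finsupp.coe_add, Finsupp.coe_tsub, Pi.add_apply, Pi.sub_apply,
        binIdx_val_one, Finsupp.single_apply]
      simp
      omega
  · rw [if_neg hi]
    by_cases h0 : (i : ℕ) = 0
    · rw [h0]
      simp
    · rw [if_neg]
      intro h
      apply hi
      have := DFunLike.congr_fun h 1
      simp only [Finsupp.coe_add, Finsupp.coe_tsub, Pi.add_apply, Pi.sub_apply, binIdx_val_one,
        Finsupp.single_apply] at this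
      simp at this
      omega

end Sym

section ComatrixOps

variable {k : Type u} [CommRing k] {H : Type v} [CommRing H] [Bialgebra k H]

theorem IsComatrix.submatrix {ι κ : Type*} [Fintype ι] [DecidableEq ι] [Fintype κ] [DecidableEq κ]
    {a : Matrix ι ι H} (ha : IsComatrix (k := k) a) (σ : κ ≃ ι) :
    IsComatrix (k := k) (a.submatrix σ σ) where
  comul i j := by
    simp only [Matrix.submatrix_apply]
    rw [ha.comul, ← Equiv.sum_comp σ]
  counit i j := by
    simp only [Matrix.submatrix_apply]
    rw [ha.counit]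
    by_cases h : i = j
    · subst h; simp
    · rw [if_neg h, if_neg (fun h' => h (σ.injective h'))]

theorem isComatrix_blockDiagonal' {o : Type*} [Fintype o] [DecidableEq o] {m' : o → Type*}
    [∀ i, Fintype (m' i)] [∀ i, DecidableEq (m' i)]
    {M : ∀ i, Matrix (m' i) (m' i) H} (hM : ∀ i, IsComatrix (k := k) (M i)) :
    IsComatrix (k := k) (Matrix.blockDiagonal' M) where
  comul := by
    rintro ⟨i, s⟩ ⟨j, t⟩
    rw [Fintype.sum_sigma]
    by_cases h : i = j
    · subst h
      rw [Matrix.blockDiagonal'_apply_eq, (hM i).comul, Finset.sum_eq_single i]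
      · simp only [Matrix.blockDiagonal'_apply_eq]
      · intro l _ hl
        apply Finset.sum_eq_zero
        intro u _
        rw [Matrix.blockDiagonal'_apply_ne _ _ _ (Ne.symm hl), TensorProduct.zero_tmul]
      · intro hi
        exact absurd (Finset.mem_univ i) hi
    · rw [Matrix.blockDiagonal'_apply_ne _ _ _ h, map_zero]
      symm
      apply Finset.sum_eq_zero
      intro l _
      apply Finset.sum_eq_zero
      intro u _
      by_cases hl : i = l
      · subst hl
        rw [Matrix.blockDiagonal'_apply_ne _ u t h, TensorProduct.tmul_zero]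
      · rw [Matrix.blockDiagonal'_apply_ne _ s u hl, TensorProduct.zero_tmul]
  counit := by
    rintro ⟨i, s⟩ ⟨j, t⟩
    by_cases h : i = j
    · subst h
      rw [Matrix.blockDiagonal'_apply_eq, (hM i).counit]
      by_cases hst : s = t
      · subst hst; simp
      · rw [if_neg hst, if_neg]
        intro h'
        exact hst (eq_of_heq (Sigma.mk.inj_iff.mp h').2)
    · rw [Matrix.blockDiagonal'_apply_ne _ _ _ h, map_zero, if_neg]
      intro h'
      exact h (Sigma.mk.inj_iff.mp h').1

end ComatrixOps

section Blocks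

variable (k : Type u) [Field k]

/-- The comatrix of the irreducible representation of dimension `e`, indexed by `Fin e`. -/
noncomputable def blockMat : (e : ℕ) → Matrix (Fin e) (Fin e) (GLn 2 k)
  | 0 => 0
  | (d + 1) => (symMat k d).submatrix (binEquiv d) (binEquiv d)

theorem isComatrix_blockMat (e : ℕ) : IsComatrix (k := k) (blockMat k e) := by
  cases e with
  | zero => exact ⟨fun i => i.elim0, fun i => i.elim0⟩
  | succ d => exact IsComatrix.submatrix (isComatrix_symMat k d) (binEquiv d)

theorem coord_one_res_blockMat [CharZero k] (e : ℕ) (i' i : Fin e) :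
    (gaBasis k).coord 1 (resGa k (blockMat k e i' i)) =
      if (i' : ℕ) + 1 = (i : ℕ) then ((i : ℕ) : k) else 0 := by
  cases e with
  | zero => exact i.elim0
  | succ d =>
    change (gaBasis k).coord 1 (resGa k (symMat k d (binEquiv d i') (binEquiv d i))) = _
    rw [binEquiv_apply, binEquiv_apply, coord_one_res_symMat, coeff_symDer_monomial]

end Blocks

section Assembly

variable (k : Type u) [Field k] [CharZero k]

open Module

/-- Every nilpotent matrix is the infinitesimal generator of the restriction to the unipotent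
subgroup of a representation of `GL_2`. -/
theorem exists_comatrix_of_nilpotent {n : ℕ} (M : Matrix (Fin n) (Fin n) k) (hM : IsNilpotent M) :
    ∃ b : Matrix (Fin n) (Fin n) (GLn 2 k), IsComatrix (k := k) b ∧
      ∀ i j, (gaBasis k).coord 1 (resGa k (b i j)) = M i j := by
  classical
  set f : Module.End k (Fin n → k) := Matrix.toLin' M with hfdef
  have hf : IsNilpotent f := by
    obtain ⟨N, hN⟩ := hM
    refine ⟨N, ?_⟩
    rw [hfdef, ← Matrix.toLin'_pow, hN, map_zero]
  obtain ⟨m, e, B, hB⟩ := exists_jordan_basis f hf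
  let σ : (Σ i : Fin m, Fin (e i)) ≃ (Σ i : Fin m, Fin (e i)) :=
    Equiv.sigmaCongrRight fun i => (Fin.revPerm : Equiv.Perm (Fin (e i)))
  let B₁ := B.reindex σ
  have hw : ∀ q : (Σ i : Fin m, Fin (e i)), IsUnit (((q.2 : ℕ).factorial : k)) :=
    fun q => IsUnit.mk0 _ (Nat.cast_ne_zero.mpr (Nat.factorial_ne_zero _))
  let B' := B₁.isUnitSMul hw
  have hB' : ∀ (i : Fin m) (t : Fin (e i)),
      B' ⟨i, t⟩ = ((t : ℕ).factorial : k) • B ⟨i, Fin.rev t⟩ := by
    intro i t
    rw [Basis.isUnitSMul_apply, Basis.reindex_apply]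
    rfl
  let φ : GLn 2 k →ₗ[k] k :=
    (gaBasis k).coord 1 ∘ₗ ((resGa k : GLn 2 k →ₐ[k] SymmetricAlgebra k k).toLinearMap)
  have hφ : ∀ x, φ x = (gaBasis k).coord 1 (resGa k x) := fun _ => rfl
  let A := Matrix.blockDiagonal' (fun i : Fin m => blockMat k (e i))
  have hA : IsComatrix (k := k) A :=
    isComatrix_blockDiagonal' (fun i => isComatrix_blockMat k (e i))
  have key : ∀ q, f (B' q) = ∑ p, φ (A p q) • B' p := by
    rintro ⟨i, t⟩
    rw [Fintype.sum_sigma, Finset.sum_eq_single i]
    · simp only [A, Matrix.blockDiagonal'_apply_eq, hφ, coord_one_res_blockMat]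
      rw [hB', map_smul, hB]
      by_cases ht : (t : ℕ) = 0
      · have h1 : ¬ ((Fin.rev t : Fin (e i)) : ℕ) + 1 < e i := by
          rw [Fin.val_rev]
          have := t.2
          omega
        rw [dif_neg h1, smul_zero]
        symm
        apply Finset.sum_eq_zero
        intro t' _
        rw [if_neg (by omega), zero_smul]
      · have h1 : ((Fin.rev t : Fin (e i)) : ℕ) + 1 < e i := by
          rw [Fin.val_rev]
          have := t.2
          omega
        rw [dif_pos h1]
        have ht' : (t : ℕ) - 1 < e i := by have := t.2; omega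
        rw [Finset.sum_eq_single (⟨(t : ℕ) - 1, ht'⟩ : Fin (e i))]
        · have h2 : ((⟨(t : ℕ) - 1, ht'⟩ : Fin (e i)) : ℕ) + 1 = (t : ℕ) := by
            simp only
            omega
          rw [if_pos h2, hB', smul_smul]
          have h3 : (⟨((Fin.rev t : Fin (e i)) : ℕ) + 1, h1⟩ : Fin (e i)) =
              Fin.rev (⟨(t : ℕ) - 1, ht'⟩ : Fin (e i)) := by
            apply Fin.ext
            simp only [Fin.val_rev]
            have := t.2
            omega
          rw [h3]
          congr 1
          have h4 : (t : ℕ) * ((t : ℕ) - 1).factorial = (t : ℕ).factorial :=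
            Nat.mul_factorial_pred ht
          rw [← h4, Nat.cast_mul]
        · intro t' _ ht'ne
          rw [if_neg, zero_smul]
          intro h
          apply ht'ne
          apply Fin.ext
          simp only
          omega
        · intro h
          exact absurd (Finset.mem_univ _) h
    · intro i' _ hi'
      apply Finset.sum_eq_zero
      intro t' _
      simp only [A]
      rw [Matrix.blockDiagonal'_apply_ne _ _ _ hi', map_zero, zero_smul]
    · intro h
      exact absurd (Finset.mem_univ _) h
  letI cV : Comod k (GLn 2 k) (Fin n → k) := comodOfComatrix B' A hA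
  have hT : (T (A := GLn 2 k) φ : (Fin n → k) →ₗ[k] (Fin n → k)) = f := by
    apply B'.ext
    intro q
    rw [key, T_apply]
    have : Comod.coact (k := k) (A := GLn 2 k) (B' q) = ∑ p, B' p ⊗ₜ[k] A p q :=
      matCoact_basis B' A q
    rw [this, map_sum]
    simp only [slice_tmul]
  refine ⟨comatrix (A := GLn 2 k) (Pi.basisFun k (Fin n)), isComatrix_comatrix _, ?_⟩
  intro i j
  have h1 := LinearMap.congr_fun hT (Pi.basisFun k (Fin n) j)
  rw [T_apply, coact_basis (A := GLn 2 k) (Pi.basisFun k (Fin n)) j, map_sum] at h1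
  simp only [slice_tmul] at h1
  have h2 := congrFun h1 i
  rw [hfdef, Matrix.toLin'_apply] at h2
  simp only [Pi.basisFun_apply, Finset.sum_apply, Pi.smul_apply, Pi.single_apply, smul_eq_mul,
    mul_ite, mul_one, mul_zero] at h2
  rw [Finset.sum_ite_eq, if_pos (Finset.mem_univ i)] at h2
  rw [← hφ, h2]
  simp [Matrix.mulVec, dotProduct, Pi.single_apply]

end Assembly

end Groth.Agent.Lib.Helper25.Weitz
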