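import Groth.Agent.Lib.Helper25WeitzInv
import Groth.Agent.Lib.Helper25PolyComod
import Groth.Agent.Lib.Helper25Reynolds
import Groth.Agent.Lib.Helper25GLnRed

/-!
# The transfer principle for the unipotent subgroup of `GL_2` (helper25)
-/

set_option autoImplicit false
set_option linter.unusedSectionVars false
universe u v w

namespace Groth.Agent.Lib.Helper25.Weitz

open TensorProduct HopfRep CoordGrp Groth.Agent.Lib.Helper25 Groth.Agent.Lib.Helper25.Schur

section Basics

variable {k : Type u} [CommRing k] {H : Type v} [CommRing H] [Bialgebra k H]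

theorem isCoactAlg_trivial : @GLin.IsCoactAlg k _ H _ _ k _ _ (Comod.trivial k H k) :=
  @GLin.IsCoactAlg.mk k _ H _ _ k _ _ (Comod.trivial k H k) rfl (fun f g => by
    change (f * g) ⊗ₜ[k] (1 : H) = (f ⊗ₜ[k] (1 : H)) * (g ⊗ₜ[k] (1 : H))
    rw [Algebra.TensorProduct.tmul_mul_tmul, mul_one])

instance isCoactAlg_regular : GLin.IsCoactAlg k H H :=
  ⟨Bialgebra.comul_one, fun f g => Bialgebra.comul_mul f g⟩

theorem isComodHom_algebraMap_trivial {R : Type w} [CommRing R] [Algebra k R] [Comod k H R]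
    [GLin.IsCoactAlg k H R] :
    @Hoch.IsComodHom k _ H _ _ _ k _ _ (Comod.trivial k H k) R _ _ _
      (IsScalarTower.toAlgHom k k R).toLinearMap := by
  letI : Comod k H k := Comod.trivial k H k
  apply LinearMap.ext
  intro c
  change HopfRep.Comod.coact (k := k) (A := H) (algebraMap k R c) =
    (IsScalarTower.toAlgHom k k R).toLinearMap.rTensor H (c ⊗ₜ[k] (1 : H))
  rw [LinearMap.rTensor_tmul, Algebra.algebraMap_eq_smul_one, map_smul,
    GLin.IsCoactAlg.coact_one (k := k) (A := H) (R := R),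
    Algebra.TensorProduct.one_def, TensorProduct.smul_tmul']
  congr 1
  simp [Algebra.algebraMap_eq_smul_one]

variable {α β : Type*} [Fintype α] [DecidableEq α] [Fintype β] [DecidableEq β]

theorem isComatrix_fromBlocks {A : Matrix α α H} {D : Matrix β β H}
    (hA : IsComatrix (k := k) A) (hD : IsComatrix (k := k) D) :
    IsComatrix (k := k) (Matrix.fromBlocks A 0 0 D) where
  comul i j := by
    rcases i with i | i <;> rcases j with j | j <;>
      simp [Fintype.sum_sum_type, hA.comul, hD.comul]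
  counit i j := by
    rcases i with i | i <;> rcases j with j | j <;>
      simp [hA.counit, hD.counit]

theorem isComatrix_diagonal {g : α → H} (hg : ∀ i, IsGroupLikeElem k (g i)) :
    IsComatrix (k := k) (Matrix.diagonal g) where
  comul i j := by
    by_cases h : i = j
    · subst h
      rw [Matrix.diagonal_apply_eq, (hg i).comul_eq_tmul_self, Finset.sum_eq_single i]
      · rw [Matrix.diagonal_apply_eq]
      · intro l _ hl
        rw [Matrix.diagonal_apply_ne _ (Ne.symm hl), TensorProduct.zero_tmul]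
      · intro hi
        exact absurd (Finset.mem_univ i) hi
    · rw [Matrix.diagonal_apply_ne _ h, map_zero]
      symm
      apply Finset.sum_eq_zero
      intro l _
      by_cases hl : i = l
      · subst hl
        rw [Matrix.diagonal_apply_ne _ h, TensorProduct.tmul_zero]
      · rw [Matrix.diagonal_apply_ne _ hl, TensorProduct.zero_tmul]
  counit i j := by
    by_cases h : i = j
    · subst h
      rw [Matrix.diagonal_apply_eq, (hg i).counit_eq_one, if_pos rfl]
    · rw [Matrix.diagonal_apply_ne _ h, map_zero, if_neg h]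

end Basics

section MapHom

variable {k : Type u} [CommRing k] {H : Type v} [CommRing H] [Bialgebra k H]
variable {A₀ : Type w} [CommRing A₀] [Algebra k A₀] [Comod k H A₀] [GLin.IsCoactAlg k H A₀]
variable {A₁ : Type w} [CommRing A₁] [Algebra k A₁] [Comod k H A₁] [GLin.IsCoactAlg k H A₁]
variable {ι : Type*} [Fintype ι] [DecidableEq ι]

theorem isComodHom_mapAlgHom (a : Matrix ι ι H) (ha : IsComatrix (k := k) a) (π : A₀ →ₐ[k] A₁)
    (hπ : Hoch.IsComodHom H π.toLinearMap) :
    @Hoch.IsComodHom k _ H _ _ _ (MvPolynomial ι A₀) _ _ (polyComod (A₀ := A₀) a ha)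
      (MvPolynomial ι A₁) _ _ (polyComod (A₀ := A₁) a ha)
      (MvPolynomial.mapAlgHom (σ := ι) π).toLinearMap := by
  letI := polyComod (A₀ := A₀) a ha
  letI := polyComod (A₀ := A₁) a ha
  have key : (polyCoactHom (k := k) (A₀ := A₁) a).comp (MvPolynomial.mapAlgHom (σ := ι) π) =
      (Algebra.TensorProduct.map (MvPolynomial.mapAlgHom (σ := ι) π) (AlgHom.id k H)).comp
        (polyCoactHom (k := k) (A₀ := A₀) a) := by
    apply MvPolynomial.algHom_ext'
    · apply AlgHom.ext
      intro r
      simp only [AlgHom.comp_apply]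
      have hC : (IsScalarTower.toAlgHom k A₀ (MvPolynomial ι A₀)) r = MvPolynomial.C r := rfl
      rw [hC, polyCoactHom_C, polyCoactC_apply, MvPolynomial.mapAlgHom_apply, MvPolynomial.map_C,
        polyCoactHom_C, polyCoactC_apply]
      have h2 := LinearMap.congr_fun hπ r
      change Comod.coact (k := k) (A := H) (π r) =
        π.toLinearMap.rTensor H (Comod.coact (k := k) (A := H) r) at h2
      change (Algebra.TensorProduct.map (IsScalarTower.toAlgHom k A₁ (MvPolynomial ι A₁))
        (AlgHom.id k H)) (Comod.coact (k := k) (A := H) (π r)) = _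
      rw [h2]
      generalize Comod.coact (k := k) (A := H) r = y
      induction y using TensorProduct.induction_on with
      | zero => simp
      | add x y hx hy => simp only [map_add, hx, hy]
      | tmul b h =>
        simp only [LinearMap.rTensor_tmul, Algebra.TensorProduct.map_tmul, AlgHom.toLinearMap_apply,
          AlgHom.id_apply]
        have hb : (IsScalarTower.toAlgHom k A₀ (MvPolynomial ι A₀)) b = MvPolynomial.C b := rfl
        have hb' : (IsScalarTower.toAlgHom k A₁ (MvPolynomial ι A₁)) (π b) = MvPolynomial.C (π b) :=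
          rfl
        rw [hb, hb', MvPolynomial.mapAlgHom_apply, MvPolynomial.map_C]
        rfl
    · intro j
      simp only [AlgHom.comp_apply, polyCoactHom_X, map_sum, Algebra.TensorProduct.map_tmul,
        AlgHom.id_apply, MvPolynomial.mapAlgHom_apply, MvPolynomial.map_X]
  apply LinearMap.ext
  intro p
  exact AlgHom.congr_fun key p

omit [Fintype ι] [DecidableEq ι] [Comod k H A₀] [GLin.IsCoactAlg k H A₀] [Comod k H A₁]
  [GLin.IsCoactAlg k H A₁] in
theorem mem_range_mapAlgHom_of_coeff (π : A₀ →ₐ[k] A₁) (p : MvPolynomial ι A₁)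
    (hp : ∀ m, MvPolynomial.coeff m p ∈ π.range) :
    p ∈ (MvPolynomial.mapAlgHom (σ := ι) π).range := by
  rw [MvPolynomial.as_sum p]
  apply Subalgebra.sum_mem
  intro m _
  obtain ⟨y, hy⟩ := hp m
  refine ⟨MvPolynomial.monomial m y, ?_⟩
  change MvPolynomial.mapAlgHom (σ := ι) π (MvPolynomial.monomial m y) = _
  rw [MvPolynomial.mapAlgHom_apply, MvPolynomial.map_monomial]
  congr 1

end MapHom

section ComatrixMap

variable {k : Type u} [CommRing k] {H : Type v} [CommRing H] [Bialgebra k H]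
  {C : Type w} [CommRing C] [Bialgebra k C]
variable {ι : Type*} [Fintype ι] [DecidableEq ι]

theorem IsComatrix.map_bialgHom {a : Matrix ι ι H} (ha : IsComatrix (k := k) a) (φ : H →ₐc[k] C) :
    IsComatrix (k := k) (a.map φ) where
  comul i j := by
    rw [Matrix.map_apply, ← CoalgHomClass.map_comp_comul_apply, ha.comul, map_sum]
    simp
  counit i j := by
    rw [Matrix.map_apply, CoalgHomClass.counit_comp_apply, ha.counit]

end ComatrixMap

section Objects

variable (k : Type u) [Field k]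

noncomputable local instance instTrivComod (H : Type u) [CommRing H] [Bialgebra k H] :
    Comod k H k := Comod.trivial k H k

local instance instTrivCoactAlg (H : Type u) [CommRing H] [Bialgebra k H] :
    GLin.IsCoactAlg k H k := isCoactAlg_trivial

/-- The comatrix of the auxiliary representation `(second row) ⊕ det⁻¹ ⊕ det`. -/
noncomputable def a0 : Matrix (Fin 2 ⊕ Fin 2) (Fin 2 ⊕ Fin 2) (GLn 2 k) :=
  Matrix.fromBlocks (GLn.genMat 2 k) 0 0 (Matrix.diagonal ![GLn.Dinv, GLn.det])

theorem isComatrix_genMat : IsComatrix (k := k) (GLn.genMat 2 k) :=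
  ⟨fun i j => GLn.comul_X i j, fun i j => GLn.counit_X i j⟩

theorem isComatrix_a0 : IsComatrix (k := k) (a0 k) :=
  isComatrix_fromBlocks (isComatrix_genMat k) (isComatrix_diagonal (fun i => by
    fin_cases i
    · exact ⟨GLn.counit_Dinv, GLn.comul_Dinv⟩
    · exact ⟨GLn.counit_det, GLn.comul_det⟩))

/-- The values of the generators of the auxiliary polynomial ring. -/
noncomputable def v0 : Fin 2 ⊕ Fin 2 → GLn 2 k :=
  Sum.elim (fun i => GLn.X 1 i) ![GLn.Dinv, GLn.det]

/-- The auxiliary polynomial ring maps to `O(GL_2)`. -/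
noncomputable def pi0 : MvPolynomial (Fin 2 ⊕ Fin 2) k →ₐ[k] GLn 2 k := MvPolynomial.aeval (v0 k)

theorem coact_v0 (j : Fin 2 ⊕ Fin 2) :
    CoalgebraStruct.comul (R := k) (v0 k j) = ∑ i, v0 k i ⊗ₜ[k] a0 k i j := by
  rcases j with j | j
  · simp [v0, a0, Fintype.sum_sum_type, GLn.comul_X, GLn.genMat]
  · fin_cases j
    · simp [v0, a0, Fintype.sum_sum_type, GLn.comul_Dinv]
    · simp [v0, a0, Fintype.sum_sum_type, GLn.comul_det]

theorem isComodHom_pi0 :
    @Hoch.IsComodHom k _ (GLn 2 k) _ _ _ (MvPolynomial (Fin 2 ⊕ Fin 2) k) _ _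
      (polyComod (A₀ := k) (a0 k) (isComatrix_a0 k)) (GLn 2 k) _ _ _ (pi0 k).toLinearMap :=
  isComodHom_aeval (A₀ := k) (R := GLn 2 k) (a0 k) (isComatrix_a0 k)
    isComodHom_algebraMap_trivial (v0 k) (coact_v0 k)

end Objects

section Transfer

variable (k : Type u) [Field k] {ι : Type} [Fintype ι] [DecidableEq ι]
  (a : Matrix ι ι (GLn 2 k))

noncomputable local instance instTrivComod' (H : Type u) [CommRing H] [Bialgebra k H] :
    Comod k H k := Comod.trivial k H k

local instance instTrivCoactAlg' (H : Type u) [CommRing H] [Bialgebra k H] :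
    GLin.IsCoactAlg k H k := isCoactAlg_trivial

noncomputable local instance instA0Comod :
    Comod k (GLn 2 k) (MvPolynomial (Fin 2 ⊕ Fin 2) k) :=
  polyComod (A₀ := k) (a0 k) (isComatrix_a0 k)

local instance instA0CoactAlg :
    GLin.IsCoactAlg k (GLn 2 k) (MvPolynomial (Fin 2 ⊕ Fin 2) k) :=
  polyComod_isCoactAlg (A₀ := k) (a0 k) (isComatrix_a0 k)

/-- The coaction of the unipotent subgroup on the polynomial ring. -/
noncomputable def rhoC :
    MvPolynomial ι k →ₐ[k] MvPolynomial ι k ⊗[k] SymmetricAlgebra k k :=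
  polyCoactHom (k := k) (A₀ := k) (a.map (resGa k))

/-- Evaluation of the auxiliary variables at the base point. -/
noncomputable def Psi : MvPolynomial ι (MvPolynomial (Fin 2 ⊕ Fin 2) k) →ₐ[k] MvPolynomial ι k :=
  MvPolynomial.mapAlgHom ((Bialgebra.counitAlgHom k (GLn 2 k)).comp (pi0 k))

theorem Psi_C_X (i : Fin 2 ⊕ Fin 2) :
    Psi k (ι := ι) (MvPolynomial.C (MvPolynomial.X i)) =
      MvPolynomial.C (CoalgebraStruct.counit (R := k) (v0 k i)) := by
  simp [Psi, pi0]

theorem Psi_X (j : ι) : Psi k (MvPolynomial.X j) = MvPolynomial.X j := by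
  simp [Psi]

theorem rhoC_C (c : k) : rhoC k a (MvPolynomial.C c) = (MvPolynomial.C c) ⊗ₜ[k] 1 := by
  rw [rhoC, polyCoactHom_C, polyCoactC_apply]
  change (Algebra.TensorProduct.map (IsScalarTower.toAlgHom k k (MvPolynomial ι k))
    (AlgHom.id k (SymmetricAlgebra k k))) (c ⊗ₜ[k] 1) = _
  rw [Algebra.TensorProduct.map_tmul]
  rfl

theorem rhoC_X (j : ι) : rhoC k a (MvPolynomial.X j) =
    ∑ i, (MvPolynomial.X i : MvPolynomial ι k) ⊗ₜ[k] resGa k (a i j) := by
  rw [rhoC, polyCoactHom_X]
  rfl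

theorem rhoC_comp_Psi :
    (rhoC k a).comp (Psi k) =
      (Algebra.TensorProduct.map (Psi k)
        (resGa k : GLn 2 k →ₐ[k] SymmetricAlgebra k k)).comp
        (polyCoactHom (k := k) (A₀ := MvPolynomial (Fin 2 ⊕ Fin 2) k) a) := by
  apply MvPolynomial.algHom_ext'
  · apply MvPolynomial.algHom_ext
    intro i
    simp only [AlgHom.comp_apply]
    have hC : (IsScalarTower.toAlgHom k (MvPolynomial (Fin 2 ⊕ Fin 2) k)
        (MvPolynomial ι (MvPolynomial (Fin 2 ⊕ Fin 2) k))) (MvPolynomial.X i) =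
        MvPolynomial.C (MvPolynomial.X i) := rfl
    rw [hC, Psi_C_X, rhoC_C, polyCoactHom_C, polyCoactC_apply]
    have h1 : Comod.coact (k := k) (A := GLn 2 k)
        (MvPolynomial.X i : MvPolynomial (Fin 2 ⊕ Fin 2) k) =
        ∑ l, (MvPolynomial.X l : MvPolynomial (Fin 2 ⊕ Fin 2) k) ⊗ₜ[k] a0 k l i :=
      polyCoactHom_X (k := k) (A₀ := k) (a0 k) i
    rw [h1, map_sum, map_sum]
    have h2 : ∀ l, (Algebra.TensorProduct.map (Psi k (ι := ι))
        (resGa k : GLn 2 k →ₐ[k] SymmetricAlgebra k k))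
        ((Algebra.TensorProduct.map (IsScalarTower.toAlgHom k (MvPolynomial (Fin 2 ⊕ Fin 2) k)
          (MvPolynomial ι (MvPolynomial (Fin 2 ⊕ Fin 2) k))) (AlgHom.id k (GLn 2 k)))
          ((MvPolynomial.X l : MvPolynomial (Fin 2 ⊕ Fin 2) k) ⊗ₜ[k] a0 k l i)) =
        (MvPolynomial.C (CoalgebraStruct.counit (R := k) (v0 k l)) : MvPolynomial ι k) ⊗ₜ[k]
          resGa k (a0 k l i) := by
      intro l
      rw [Algebra.TensorProduct.map_tmul, Algebra.TensorProduct.map_tmul]
      have : (IsScalarTower.toAlgHom k (MvPolynomial (Fin 2 ⊕ Fin 2) k)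
          (MvPolynomial ι (MvPolynomial (Fin 2 ⊕ Fin 2) k))) (MvPolynomial.X l) =
          MvPolynomial.C (MvPolynomial.X l) := rfl
      rw [this, Psi_C_X]
      rfl
    simp only [h2]
    rcases i with i | i
    · fin_cases i
      · simp [Fintype.sum_sum_type, v0, a0, GLn.genMat, GLn.counit_X, gaMat]
      · simp [Fintype.sum_sum_type, v0, a0, GLn.genMat, GLn.counit_X, gaMat]
    · fin_cases i
      · simp [Fintype.sum_sum_type, v0, a0, GLn.counit_Dinv, GLn.counit_det, resGa_det,
          Matrix.diagonal_apply]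
      · simp [Fintype.sum_sum_type, v0, a0, GLn.counit_Dinv, GLn.counit_det, resGa_det,
          Matrix.diagonal_apply]
  · intro j
    simp only [AlgHom.comp_apply, Psi_X, rhoC_X, polyCoactHom_X, map_sum,
      Algebra.TensorProduct.map_tmul]
    rfl

/-- The counit applied to coefficients. -/
noncomputable def Phi : MvPolynomial ι (GLn 2 k) →ₐ[k] MvPolynomial ι k :=
  MvPolynomial.mapAlgHom (Bialgebra.counitAlgHom k (GLn 2 k))

/-- The map on coefficients induced by `pi0`. -/
noncomputable def jj : MvPolynomial ι (MvPolynomial (Fin 2 ⊕ Fin 2) k) →ₐ[k]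
    MvPolynomial ι (GLn 2 k) :=
  MvPolynomial.mapAlgHom (pi0 k)

theorem Phi_jj (p : MvPolynomial ι (MvPolynomial (Fin 2 ⊕ Fin 2) k)) :
    Phi k (jj k p) = Psi k p := by
  simp only [Phi, jj, Psi, MvPolynomial.mapAlgHom_apply, MvPolynomial.map_map]
  rfl

/-- The coaction, with values in the polynomial ring over `O(GL_2)`. -/
noncomputable def rho' : MvPolynomial ι k →ₐ[k] MvPolynomial ι (GLn 2 k) :=
  MvPolynomial.aeval (fun j => ∑ i, MvPolynomial.C (a i j) * MvPolynomial.X i)

/-- The coaction twisted by the antipode. -/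
noncomputable def Theta : MvPolynomial ι k →ₐ[k] MvPolynomial ι (GLn 2 k) :=
  MvPolynomial.aeval (fun j => ∑ i,
    MvPolynomial.C (HopfAlgebra.antipode k (a i j)) * MvPolynomial.X i)

theorem Theta_eq : Theta k a =
    (MvPolynomial.mapAlgHom (HopfAlgebra.antipodeAlgHom k (GLn 2 k))).comp (rho' k a) := by
  apply MvPolynomial.algHom_ext
  intro j
  simp [Theta, rho', HopfAlgebra.antipodeAlgHom_apply]

variable {a}

theorem Phi_Theta (ha : IsComatrix (k := k) a) (r : MvPolynomial ι k) :
    Phi k (Theta k a r) = r := by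
  have h : (Phi k).comp (Theta k a) = AlgHom.id k (MvPolynomial ι k) := by
    apply MvPolynomial.algHom_ext
    intro j
    simp only [AlgHom.comp_apply, Theta, MvPolynomial.aeval_X, Phi, map_sum, map_mul,
      MvPolynomial.mapAlgHom_apply, MvPolynomial.map_C, MvPolynomial.map_X, AlgHom.id_apply]
    have : ∀ i, (Bialgebra.counitAlgHom k (GLn 2 k) : GLn 2 k →+* k)
        (HopfAlgebra.antipode k (a i j)) = if i = j then 1 else 0 := by
      intro i
      exact ha.counit_antipode i j
    simp only [this]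
    rw [Finset.sum_eq_single j]
    · simp
    · intro i _ hi
      simp [hi]
    · intro hj
      exact absurd (Finset.mem_univ j) hj
  exact DFunLike.congr_fun h r

theorem Theta_mem_fixedPts (ha : IsComatrix (k := k) a) (r : MvPolynomial ι k) :
    polyCoactHom (k := k) (A₀ := GLn 2 k) a (Theta k a r) = Theta k a r ⊗ₜ[k] 1 := by
  have h : (polyCoactHom (k := k) (A₀ := GLn 2 k) a).comp (Theta k a) =
      (Algebra.TensorProduct.includeLeft).comp (Theta k a) := by
    apply MvPolynomial.algHom_ext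
    intro j
    simp only [AlgHom.comp_apply, Theta, MvPolynomial.aeval_X, map_sum, map_mul,
      polyCoactHom_C, polyCoactHom_X, polyCoactC_apply, Algebra.TensorProduct.includeLeft_apply]
    have h1 : ∀ i, Comod.coact (k := k) (A := GLn 2 k) (HopfAlgebra.antipode k (a i j)) =
        ∑ m, HopfAlgebra.antipode k (a m j) ⊗ₜ[k] HopfAlgebra.antipode k (a i m) :=
      fun i => ha.comul_antipode i j
    simp only [h1, map_sum, Algebra.TensorProduct.map_tmul, AlgHom.id_apply]
    have hC : ∀ b : GLn 2 k, (IsScalarTower.toAlgHom k (GLn 2 k) (MvPolynomial ι (GLn 2 k))) b =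
        MvPolynomial.C b := fun _ => rfl
    simp only [hC, Finset.sum_mul, Finset.mul_sum, Algebra.TensorProduct.tmul_mul_tmul]
    rw [Finset.sum_comm]
    conv_lhs =>
      arg 2
      ext l
      rw [Finset.sum_comm]
    rw [Finset.sum_comm]
    refine Finset.sum_congr rfl (fun m _ => ?_)
    have h3 : ∀ l, ∑ i, HopfAlgebra.antipode k (a i m) * a l i = if l = m then 1 else 0 := by
      intro l
      rw [← ha.mul_antipode l m]
      exact Finset.sum_congr rfl (fun i _ => mul_comm _ _)
    simp only [← TensorProduct.tmul_sum, h3]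
    rw [Finset.sum_eq_single m]
    · rw [if_pos rfl, one_mul]
    · intro l _ hl
      rw [if_neg hl, TensorProduct.tmul_zero]
    · intro hm
      exact absurd (Finset.mem_univ m) hm
  exact DFunLike.congr_fun h r

variable (a)

/-- `rho'` followed by extension of the coefficients to `O(GL_2) ⊗ O(G_a)`, extended to
`k[x] ⊗ O(G_a)`. -/
noncomputable def extC : MvPolynomial ι k ⊗[k] SymmetricAlgebra k k →ₐ[k]
    MvPolynomial ι (GLn 2 k ⊗[k] SymmetricAlgebra k k) :=
  Algebra.TensorProduct.lift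
    ((MvPolynomial.mapAlgHom Algebra.TensorProduct.includeLeft).comp (rho' k a))
    ((IsScalarTower.toAlgHom k (GLn 2 k ⊗[k] SymmetricAlgebra k k)
      (MvPolynomial ι (GLn 2 k ⊗[k] SymmetricAlgebra k k))).comp
      Algebra.TensorProduct.includeRight)
    (fun _ _ => Commute.all _ _)

variable {a}

theorem extC_comp_rhoC (ha : IsComatrix (k := k) a) :
    (extC k a).comp (rhoC k a) = (MvPolynomial.mapAlgHom (lam k)).comp (rho' k a) := by
  apply MvPolynomial.algHom_ext
  intro j
  simp only [AlgHom.comp_apply, rhoC_X, map_sum, extC, Algebra.TensorProduct.lift_tmul, rho',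
    MvPolynomial.aeval_X, map_mul, MvPolynomial.mapAlgHom_apply, MvPolynomial.map_C,
    MvPolynomial.map_X]
  have hC : ∀ b : GLn 2 k ⊗[k] SymmetricAlgebra k k,
      (IsScalarTower.toAlgHom k (GLn 2 k ⊗[k] SymmetricAlgebra k k)
        (MvPolynomial ι (GLn 2 k ⊗[k] SymmetricAlgebra k k))) b = MvPolynomial.C b := fun _ => rfl
  have hlam : ∀ i, (lam k : GLn 2 k →+* GLn 2 k ⊗[k] SymmetricAlgebra k k) (a i j) =
      ∑ l, a i l ⊗ₜ[k] resGa k (a l j) := by
    intro i
    change lam k (a i j) = _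
    simp only [lam, AlgHom.comp_apply, Bialgebra.comulAlgHom_apply, ha.comul, map_sum,
      Algebra.TensorProduct.map_tmul, AlgHom.id_apply]
    rfl
  simp only [hC, hlam, map_sum, Finset.sum_mul]
  rw [Finset.sum_comm]
  refine Finset.sum_congr rfl (fun i _ => Finset.sum_congr rfl (fun l _ => ?_))
  have : (MvPolynomial.C (a i l ⊗ₜ[k] resGa k (a l j)) :
      MvPolynomial ι (GLn 2 k ⊗[k] SymmetricAlgebra k k)) =
      MvPolynomial.C ((Algebra.TensorProduct.includeLeft :
        GLn 2 k →ₐ[k] GLn 2 k ⊗[k] SymmetricAlgebra k k) (a i l)) *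
      MvPolynomial.C ((Algebra.TensorProduct.includeRight :
        SymmetricAlgebra k k →ₐ[k] GLn 2 k ⊗[k] SymmetricAlgebra k k) (resGa k (a l j))) := by
    rw [← MvPolynomial.C_mul]
    congr 1
    simp
  rw [this]
  simp only [RingHom.coe_coe]
  ring

/-- The coefficients of the coaction of an invariant of the unipotent subgroup are invariant
under right translation by the unipotent subgroup. -/
theorem lam_coeff_rho' (ha : IsComatrix (k := k) a) {r : MvPolynomial ι k}
    (hr : rhoC k a r = r ⊗ₜ[k] 1) (m : ι →₀ ℕ) :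
    lam k (MvPolynomial.coeff m (rho' k a r)) = MvPolynomial.coeff m (rho' k a r) ⊗ₜ[k] 1 := by
  have h1 := DFunLike.congr_fun (extC_comp_rhoC k ha) r
  rw [AlgHom.comp_apply, AlgHom.comp_apply, hr] at h1
  have h2 : extC k a (r ⊗ₜ[k] 1) =
      MvPolynomial.mapAlgHom (Algebra.TensorProduct.includeLeft :
        GLn 2 k →ₐ[k] GLn 2 k ⊗[k] SymmetricAlgebra k k) (rho' k a r) := by
    simp only [extC, Algebra.TensorProduct.lift_tmul, map_one, mul_one]
    rfl
  rw [h2] at h1
  have h3 := congrArg (MvPolynomial.coeff m) h1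
  rw [MvPolynomial.mapAlgHom_apply, MvPolynomial.mapAlgHom_apply, MvPolynomial.coeff_map,
    MvPolynomial.coeff_map] at h3
  exact h3.symm

theorem antipode_mem_range_pi0 {h : GLn 2 k}
    (hh : h ∈ Algebra.adjoin k ({GLn.X 0 0, GLn.X 1 0, GLn.det, GLn.Dinv} : Set (GLn 2 k))) :
    HopfAlgebra.antipode k h ∈ (pi0 k).range := by
  have h1 : HopfAlgebra.antipodeAlgHom k (GLn 2 k) h ∈
      (Algebra.adjoin k ({GLn.X 0 0, GLn.X 1 0, GLn.det, GLn.Dinv} : Set (GLn 2 k))).map
        (HopfAlgebra.antipodeAlgHom k (GLn 2 k)) := ⟨h, hh, rfl⟩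
  rw [AlgHom.map_adjoin] at h1
  have h2 : Algebra.adjoin k ((HopfAlgebra.antipodeAlgHom k (GLn 2 k)) ''
      ({GLn.X 0 0, GLn.X 1 0, GLn.det, GLn.Dinv} : Set (GLn 2 k))) ≤ (pi0 k).range := by
    apply Algebra.adjoin_le
    rintro _ ⟨x, hx, rfl⟩
    simp only [Set.mem_insert_iff, Set.mem_singleton_iff] at hx
    rcases hx with rfl | rfl | rfl | rfl
    · refine ⟨MvPolynomial.X (Sum.inr 0) * MvPolynomial.X (Sum.inl 1), ?_⟩
      change pi0 k _ = HopfAlgebra.antipode k (GLn.X 0 0 : GLn 2 k)
      rw [GLn.antipode_X, Matrix.adjugate_fin_two]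
      simp [pi0, v0, GLn.genMat]
    · refine ⟨MvPolynomial.X (Sum.inr 0) * (-MvPolynomial.X (Sum.inl 0)), ?_⟩
      change pi0 k _ = HopfAlgebra.antipode k (GLn.X 1 0 : GLn 2 k)
      rw [GLn.antipode_X, Matrix.adjugate_fin_two]
      simp [pi0, v0, GLn.genMat]
    · refine ⟨MvPolynomial.X (Sum.inr 0), ?_⟩
      change pi0 k _ = HopfAlgebra.antipode k (GLn.det : GLn 2 k)
      rw [GLn.antipode_det]
      simp [pi0, v0]
    · refine ⟨MvPolynomial.X (Sum.inr 1), ?_⟩
      change pi0 k _ = HopfAlgebra.antipode k (GLn.Dinv : GLn 2 k)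
      rw [GLn.antipode_Dinv]
      simp [pi0, v0]
  exact h2 h1

theorem Theta_mem_range_jj (ha : IsComatrix (k := k) a) {r : MvPolynomial ι k}
    (hr : rhoC k a r = r ⊗ₜ[k] 1) : Theta k a r ∈ (jj k (ι := ι)).range := by
  apply mem_range_mapAlgHom_of_coeff
  intro m
  rw [Theta_eq, AlgHom.comp_apply, MvPolynomial.mapAlgHom_apply, MvPolynomial.coeff_map]
  apply antipode_mem_range_pi0
  exact mem_adjoin_of_lam_eq k (lam_coeff_rho' k ha hr m)

/-- **Transfer principle** for the unipotent subgroup of `GL_2`: for a linear representation of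
`GL_2` on `k^ι`, the invariants of the unipotent subgroup in the polynomial ring form a finitely
generated algebra. -/
theorem exists_fg_subalgebra [CharZero k] (ha : IsComatrix (k := k) a) :
    ∃ S : Subalgebra k (MvPolynomial ι k), S.FG ∧
      ∀ f : MvPolynomial ι k, f ∈ S ↔ rhoC k a f = f ⊗ₜ[k] 1 := by
  classical
  letI cB : Comod k (GLn 2 k) (MvPolynomial ι (MvPolynomial (Fin 2 ⊕ Fin 2) k)) :=
    polyComod (A₀ := MvPolynomial (Fin 2 ⊕ Fin 2) k) a ha
  haveI iB : GLin.IsCoactAlg k (GLn 2 k) (MvPolynomial ι (MvPolynomial (Fin 2 ⊕ Fin 2) k)) :=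
    polyComod_isCoactAlg (A₀ := MvPolynomial (Fin 2 ⊕ Fin 2) k) a ha
  letI cHX : Comod k (GLn 2 k) (MvPolynomial ι (GLn 2 k)) := polyComod (A₀ := GLn 2 k) a ha
  have hG : IsLinearlyReductive k (GLn 2 k) := isLinearlyReductive_GLn k 2
  have hjj : Hoch.IsComodHom (GLn 2 k) (jj k (ι := ι)).toLinearMap :=
    isComodHom_mapAlgHom a ha (pi0 k) (isComodHom_pi0 k)
  have hssB := isSemisimpleComod_of_isLinearlyReductive hG
    (MvPolynomial ι (MvPolynomial (Fin 2 ⊕ Fin 2) k))
  have hssHX := isSemisimpleComod_of_isLinearlyReductive hG (MvPolynomial ι (GLn 2 k))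
  obtain ⟨EB, hEB, hEEB, hExB⟩ := exists_reynolds hssB
  obtain ⟨EH, hEH, hEEH, hExH⟩ := exists_reynolds hssHX
  have hcomm := reynolds_comm hssB hEB hEEB hExB hEH hEEH hExH hjj
  have hAC : Hoch.IsComodHom (GLn 2 k) (IsScalarTower.toAlgHom k k
      (MvPolynomial ι (MvPolynomial (Fin 2 ⊕ Fin 2) k))).toLinearMap :=
    isComodHom_algebraMap_trivial
  obtain ⟨s, hs⟩ := exists_finset_invariants_eq_adjoin (A₀ := k)
    (R := MvPolynomial ι (MvPolynomial (Fin 2 ⊕ Fin 2) k)) hG hAC
  refine ⟨(GLin.invariants k (GLn 2 k) (MvPolynomial ι (MvPolynomial (Fin 2 ⊕ Fin 2) k))).map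
    (Psi k), ?_, ?_⟩
  · apply Subalgebra.FG.map
    refine ⟨s, ?_⟩
    rw [hs]
    apply le_antisymm
    · apply Algebra.adjoin_mono
      exact Set.subset_union_right
    · apply Algebra.adjoin_le
      rintro g (⟨c, -, rfl⟩ | hg)
      · exact Subalgebra.algebraMap_mem _ c
      · exact Algebra.subset_adjoin hg
  · intro f
    constructor
    · rintro ⟨G, hG', rfl⟩
      have h1 := DFunLike.congr_fun (rhoC_comp_Psi k a) G
      rw [AlgHom.comp_apply, AlgHom.comp_apply] at h1
      have h2 : polyCoactHom (k := k) (A₀ := MvPolynomial (Fin 2 ⊕ Fin 2) k) a G =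
          G ⊗ₜ[k] 1 := hG'
      rw [h2, Algebra.TensorProduct.map_tmul, map_one] at h1
      exact h1
    · intro hf
      obtain ⟨G₀, hG₀⟩ := Theta_mem_range_jj k ha hf
      replace hG₀ : jj k G₀ = Theta k a f := hG₀
      refine ⟨EB G₀, ?_, ?_⟩
      · exact (hExB _).mp (LinearMap.congr_fun hEEB G₀)
      · have h1 : jj k (EB G₀) = EH (jj k G₀) := (LinearMap.congr_fun hcomm G₀).symm
        have h2 : EH (Theta k a f) = Theta k a f :=
          (hExH _).mpr (Theta_mem_fixedPts k ha f)
        change Psi k (EB G₀) = f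
        rw [← Phi_jj, h1, hG₀, h2, Phi_Theta k ha]

/-- Weitzenböck's theorem, given a representation of `GL_2` whose restriction to the unipotent
subgroup has the prescribed infinitesimal generator. -/
theorem exists_fg_ker_mkDerivation [CharZero k] {n : ℕ} (M : Matrix (Fin n) (Fin n) k)
    {b : Matrix (Fin n) (Fin n) (GLn 2 k)} (hb : IsComatrix (k := k) b)
    (hM : ∀ i j, (gaBasis k).coord 1 (resGa k (b i j)) = M i j) :
    ∃ S : Subalgebra k (MvPolynomial (Fin n) k), S.FG ∧
      ∀ f : MvPolynomial (Fin n) k, f ∈ S ↔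
        MvPolynomial.mkDerivation k (fun j : Fin n => ∑ i : Fin n,
          M i j • (MvPolynomial.X i : MvPolynomial (Fin n) k)) f = 0 := by
  classical
  obtain ⟨S, hS, hmem⟩ := exists_fg_subalgebra k hb
  refine ⟨S, hS, fun f => ?_⟩
  rw [hmem]
  letI cR : Comod k (SymmetricAlgebra k k) (MvPolynomial (Fin n) k) :=
    polyComod (A₀ := k) (b.map (resGa k)) (IsComatrix.map_bialgHom hb (resGa k))
  haveI iR : GLin.IsCoactAlg k (SymmetricAlgebra k k) (MvPolynomial (Fin n) k) :=
    polyComod_isCoactAlg (A₀ := k) (b.map (resGa k)) (IsComatrix.map_bialgHom hb (resGa k))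
  have hD : gaDer (k := k) (R := MvPolynomial (Fin n) k) =
      MvPolynomial.mkDerivation k (fun j : Fin n => ∑ i : Fin n,
        M i j • (MvPolynomial.X i : MvPolynomial (Fin n) k)) := by
    apply MvPolynomial.derivation_ext
    intro j
    rw [MvPolynomial.mkDerivation_X, gaDer_apply]
    unfold gaOp
    rw [T_apply]
    have h1 : Comod.coact (k := k) (A := SymmetricAlgebra k k)
        (MvPolynomial.X j : MvPolynomial (Fin n) k) =
        ∑ i, (MvPolynomial.X i : MvPolynomial (Fin n) k) ⊗ₜ[k] resGa k (b i j) := rhoC_X k b j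
    rw [h1, map_sum]
    refine Finset.sum_congr rfl (fun i _ => ?_)
    rw [slice_tmul, hM]
  have h2 : (rhoC k b f = f ⊗ₜ[k] 1) ↔
      f ∈ fixedPts k (SymmetricAlgebra k k) (MvPolynomial (Fin n) k) := Iff.rfl
  rw [h2, mem_fixedPts_iff_gaOp_one, ← hD, gaDer_apply]

end Transfer

end Groth.Agent.Lib.Helper25.Weitz
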