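import Mathlib.RingTheory.Ideal.Height
import Mathlib.RingTheory.Ideal.KrullsHeightTheorem
import Mathlib.RingTheory.Ideal.MinimalPrime.Noetherian

/-!
Arithmetic rank via prime avoidance: in a Noetherian ring, for every ideal `I` and `r` there are
`f_1, …, f_r ∈ I` such that every prime containing the `f_i` but not `I` has height `≥ r`.
-/

set_option autoImplicit false
universe u

namespace Groth.Agent.Lib.Helper26

theorem exists_fin_mem_height_ge (R : Type u) [CommRing R] [IsNoetherianRing R] (I : Ideal R)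
    (r : ℕ) :
    ∃ f : Fin r → R, (∀ i, f i ∈ I) ∧ ∀ (p : Ideal R) [p.IsPrime],
      Ideal.span (Set.range f) ≤ p → ¬ I ≤ p → (r : ℕ∞) ≤ p.height := by
  classical
  induction r with
  | zero => exact ⟨Fin.elim0, fun i => i.elim0, fun p _ _ _ => by simp⟩
  | succ r ih =>
    obtain ⟨f, hfI, hf⟩ := ih
    set J : Ideal R := Ideal.span (Set.range f) with hJ
    have hfin : J.minimalPrimes.Finite := Ideal.finite_minimalPrimes_of_isNoetherianRing R J
    obtain ⟨S, hSmem⟩ : ∃ S : Finset (Ideal R), ∀ q, q ∈ S ↔ q ∈ J.minimalPrimes ∧ ¬ I ≤ q :=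
      ⟨hfin.toFinset.filter (fun q => ¬ I ≤ q), fun q => by
        rw [Finset.mem_filter, hfin.mem_toFinset]⟩
    -- prime avoidance
    have hx : ∃ x ∈ I, ∀ q ∈ S, x ∉ q := by
      by_contra hcon
      push Not at hcon
      have hsub : (I : Set R) ⊆ ⋃ q ∈ (↑S : Set (Ideal R)), (q : Set R) := by
        intro x hx
        obtain ⟨q, hq, hxq⟩ := hcon x hx
        exact Set.mem_biUnion (Finset.mem_coe.mpr hq) hxq
      have hprime : ∀ q ∈ S, q ≠ (⊥ : Ideal R) → q ≠ (⊥ : Ideal R) → q.IsPrime := by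
        intro q hq _ _
        exact ((hSmem q).mp hq).1.1.1
      obtain ⟨q, hq, hIq⟩ := (Ideal.subset_union_prime (f := fun q : Ideal R => q) ⊥ ⊥ hprime).mp hsub
      exact ((hSmem q).mp hq).2 hIq
    obtain ⟨x, hxI, hxS⟩ := hx
    refine ⟨Fin.snoc f x, ?_, ?_⟩
    · intro i
      refine Fin.lastCases ?_ (fun j => ?_) i
      · simpa using hxI
      · simpa using hfI j
    · intro p _ hp hIp
      have hJp : J ≤ p := by
        rw [hJ, Ideal.span_le]
        rintro _ ⟨j, rfl⟩
        apply hp
        apply Ideal.subset_span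
        exact ⟨j.castSucc, by simp⟩
      have hxp : x ∈ p := by
        apply hp
        apply Ideal.subset_span
        exact ⟨Fin.last r, by simp⟩
      obtain ⟨q, hq, hqp⟩ := Ideal.exists_minimalPrimes_le hJp
      have : q.IsPrime := hq.1.1
      have hIq : ¬ I ≤ q := fun h => hIp (h.trans hqp)
      have hqS : q ∈ S := (hSmem q).mpr ⟨hq, hIq⟩
      have hne : q ≠ p := fun h => hxS q hqS (h ▸ hxp)
      have hlt : q < p := lt_of_le_of_ne hqp hne
      have h1 : (r : ℕ∞) ≤ q.height := hf q hq.1.2 hIq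
      have h2 : q.height < p.height := Ideal.height_strict_mono_of_isPrime hlt
      have h3 : (r : ℕ∞) + 1 ≤ p.height := Order.add_one_le_of_lt (lt_of_le_of_lt h1 h2)
      exact_mod_cast h3

end Groth.Agent.Lib.Helper26
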