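import Mathlib
import Groth.Prelude.Def_Red
import Groth.Prelude.Def_AlgGrp
import Groth.Agent.Lib.Helper27GaGm
import Groth.Agent.Lib.Helper11SubGrp
import Groth.Agent.Lib.Helper22LimBC2

/-!
Closed finitely presented subschemes of a group scheme which become (normal) subgroups over a
cofiltered limit of the base already are (normal) subgroups over some stage.
-/

universe u
open CategoryTheory MonoidalCategory CartesianMonoidalCategory MonObj GrpObj AlgebraicGeometry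
  CategoryTheory.Limits

namespace Groth.Agent.Lib.Helper26.SubGrpLim

open Groth.Agent.Lib.Helper27.GaGm

section points

variable {S₀ T' : Scheme.{u}} (t : T' ⟶ S₀)

/-- the adjunction bijection `Hom_{T'}(X, t^* Y) ≃ Hom_{S₀}(X, Y)`. -/
noncomputable def ψ (Y : Over S₀) (X : Over T') :
    (X ⟶ Red.bc t Y) ≃ ((Over.map t).obj X ⟶ Y) :=
  ((Over.mapPullbackAdj t).homEquiv X Y).symm

lemma ψ_left {Y : Over S₀} {X : Over T'} (x : X ⟶ Red.bc t Y) :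
    (ψ t Y X x).left = x.left ≫ pullback.fst Y.hom t := rfl

lemma ψ_comp_map {Y Y' : Over S₀} (u : Y ⟶ Y') {X : Over T'} (x : X ⟶ Red.bc t Y) :
    ψ t Y' X (x ≫ (Over.pullback t).map u) = ψ t Y X x ≫ u :=
  (Over.mapPullbackAdj t).homEquiv_naturality_right_symm x u

lemma ψ_symm_comp {Y Y' : Over S₀} (u : Y ⟶ Y') {X : Over T'} (z : (Over.map t).obj X ⟶ Y) :
    (ψ t Y' X).symm (z ≫ u) = (ψ t Y X).symm z ≫ (Over.pullback t).map u :=
  (Over.mapPullbackAdj t).homEquiv_naturality_right z u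

variable (G : Over S₀) [GrpObj G]

/-- the adjunction bijection is a group isomorphism for group objects. -/
noncomputable def Ψ (X : Over T') : (X ⟶ Red.bc t G) ≃* ((Over.map t).obj X ⟶ G) :=
  (MulEquiv.mk (adjEquiv t G X).symm (adjEquiv_symm_mul t G X)).symm

lemma Ψ_apply {X : Over T'} (x : X ⟶ Red.bc t G) : Ψ t G X x = ψ t G X x := rfl

lemma Ψ_symm_apply {X : Over T'} (z : (Over.map t).obj X ⟶ G) :
    (Ψ t G X).symm z = (ψ t G X).symm z := rfl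

end points

section fac

variable {S₀ : Scheme.{u}} {H₀ G₀ : Over S₀} (ι₀ : H₀ ⟶ G₀)

/-- the base change of `Q₀` along `t` maps into `H₀` compatibly with `φ₀ : Q₀ ⟶ G₀`. -/
def Fac (Q₀ : Over S₀) (φ₀ : Q₀ ⟶ G₀) {T' : Scheme.{u}} (t : T' ⟶ S₀) : Prop :=
  ∃ z' : pullback Q₀.hom t ⟶ H₀.left, z' ≫ ι₀.left = pullback.fst Q₀.hom t ≫ φ₀.left

variable {ι₀}

/-- points from the factorization -/
lemma Fac.exists_point {Q₀ : Over S₀} {φ₀ : Q₀ ⟶ G₀} {T' : Scheme.{u}} {t : T' ⟶ S₀}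
    (h : Fac ι₀ Q₀ φ₀ t) (T : Over T') (q : (Over.map t).obj T ⟶ Q₀) :
    ∃ z : (Over.map t).obj T ⟶ H₀, z ≫ ι₀ = q ≫ φ₀ := by
  obtain ⟨z', hz'⟩ := h
  have hq : q.left ≫ Q₀.hom = T.hom ≫ t := Over.w q
  let w : T.left ⟶ pullback Q₀.hom t := pullback.lift q.left T.hom hq
  have hw : w ≫ pullback.fst Q₀.hom t = q.left := pullback.lift_fst _ _ _
  have hι : ι₀.left ≫ G₀.hom = H₀.hom := Over.w ι₀
  have hφ : φ₀.left ≫ G₀.hom = Q₀.hom := Over.w φ₀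
  have hz : (w ≫ z') ≫ ι₀.left = q.left ≫ φ₀.left := by
    rw [Category.assoc, hz', reassoc_of% hw]
  refine ⟨Over.homMk (w ≫ z') ?_, ?_⟩
  · change (w ≫ z') ≫ H₀.hom = T.hom ≫ t
    rw [← hι, ← Category.assoc, hz, Category.assoc, hφ, hq]
  · apply Over.OverMorphism.ext
    exact hz

/-- the factorization from the universal point -/
lemma Fac.of_point {Q₀ : Over S₀} {φ₀ : Q₀ ⟶ G₀} {T' : Scheme.{u}} {t : T' ⟶ S₀}
    (z : (Over.map t).obj (Red.bc t Q₀) ⟶ H₀)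
    (hz : z ≫ ι₀ = ψ t Q₀ (Red.bc t Q₀) (𝟙 _) ≫ φ₀) : Fac ι₀ Q₀ φ₀ t := by
  refine ⟨z.left, ?_⟩
  have h1 : (z ≫ ι₀).left = (ψ t Q₀ (Red.bc t Q₀) (𝟙 _) ≫ φ₀).left := by rw [hz]
  have h2 : (ψ t Q₀ (Red.bc t Q₀) (𝟙 _)).left = pullback.fst Q₀.hom t := by
    rw [ψ_left]
    exact Category.id_comp _
  have h3 : z.left ≫ ι₀.left = (ψ t Q₀ (Red.bc t Q₀) (𝟙 _)).left ≫ φ₀.left := h1
  rw [h2] at h3
  exact h3

/-- the factorization is inherited by further base change -/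
lemma Fac.comp {Q₀ : Over S₀} {φ₀ : Q₀ ⟶ G₀} {T' T'' : Scheme.{u}} {t : T' ⟶ S₀}
    (h : Fac ι₀ Q₀ φ₀ t) (s : T'' ⟶ T') : Fac ι₀ Q₀ φ₀ (s ≫ t) := by
  obtain ⟨z', hz'⟩ := h
  let m : pullback Q₀.hom (s ≫ t) ⟶ pullback Q₀.hom t :=
    pullback.lift (pullback.fst _ _) (pullback.snd _ _ ≫ s)
      (by rw [Category.assoc, pullback.condition])
  have hm : m ≫ pullback.fst Q₀.hom t = pullback.fst Q₀.hom (s ≫ t) := pullback.lift_fst _ _ _
  exact ⟨m ≫ z', by rw [Category.assoc, hz', reassoc_of% hm]⟩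

lemma Fac.of_eq {Q₀ : Over S₀} {φ₀ : Q₀ ⟶ G₀} {T' : Scheme.{u}} {t t' : T' ⟶ S₀}
    (h : Fac ι₀ Q₀ φ₀ t) (e : t = t') : Fac ι₀ Q₀ φ₀ t' := e ▸ h

end fac

section descent

open Groth.Agent.Lib.Helper22.LimBC

variable {I : Type u} [SmallCategory I] [IsCofiltered I]
  (D : I ⥤ Scheme.{u}) (c : Cone D) (hc : IsLimit c)
  [∀ (i j : I) (a : i ⟶ j), IsAffineHom (D.map a)] (i₀ : I)
  {H₀ G₀ : Over (D.obj i₀)} (ι₀ : H₀ ⟶ G₀) [LocallyOfFinitePresentation ι₀.left]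

include hc in
/-- descent of the factorization condition to a finite stage. -/
theorem Fac.exists_stage (Q₀ : Over (D.obj i₀)) [CompactSpace Q₀.left] [QuasiSeparatedSpace Q₀.left]
    (φ₀ : Q₀ ⟶ G₀) (h : Fac ι₀ Q₀ φ₀ (c.π.app i₀)) :
    ∃ j : Over i₀, Fac ι₀ Q₀ φ₀ (D.map j.hom) := by
  obtain ⟨z', hz'⟩ := h
  have inst : ∀ {i j : I} (a : i ⟶ j), IsAffineHom (D.map a) := fun a => inferInstance
  let f' : pullback ι₀.left φ₀.left ⟶ Q₀.left := pullback.snd ι₀.left φ₀.left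
  have hf' : LocallyOfFinitePresentation f' := inferInstance
  have hP := IsPullback.of_hasPullback Q₀.hom (c.π.app i₀)
  let t' : bcDiagram D i₀ Q₀.hom ⟶ (Functor.const _).obj Q₀.left :=
    { app := fun j => dFst D i₀ Q₀.hom j
      naturality := fun j k f => by
        rw [map_dFst]
        exact (Category.comp_id _).symm }
  let a : (bcCone i₀ hP).pt ⟶ pullback ι₀.left φ₀.left :=
    pullback.lift z' (pullback.fst Q₀.hom (c.π.app i₀)) hz'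
  have ha : (bcCone i₀ hP).π ≫ t' = (Functor.const _).map (a ≫ f') := by
    ext j
    change bcπ i₀ hP j ≫ dFst D i₀ Q₀.hom j = a ≫ f'
    rw [bcπ_fst]
    exact (pullback.lift_snd _ _ _).symm
  obtain ⟨j, g, -, hg⟩ := Scheme.exists_π_app_comp_eq_of_locallyOfFinitePresentation
    (bcDiagram D i₀ Q₀.hom) t' f' (bcCone i₀ hP) (isLimitBcCone i₀ hP hc) a ha
  let g' : pullback Q₀.hom (D.map j.hom) ⟶ pullback ι₀.left φ₀.left := g
  have hg' : g' ≫ pullback.snd ι₀.left φ₀.left = pullback.fst Q₀.hom (D.map j.hom) := hg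
  refine ⟨j, g' ≫ pullback.fst ι₀.left φ₀.left, ?_⟩
  rw [Category.assoc, pullback.condition, ← Category.assoc, hg']

end descent

section group

variable {S₀ : Scheme.{u}} {H₀ G₀ : Over S₀} [GrpObj G₀] (ι₀ : H₀ ⟶ G₀)

/-- universal point for the unit -/
noncomputable abbrev oneφ : 𝟙_ (Over S₀) ⟶ G₀ := 1

/-- universal point for the multiplication -/
noncomputable abbrev mulφ : H₀ ⊗ H₀ ⟶ G₀ := (fst H₀ H₀ ≫ ι₀) * (snd H₀ H₀ ≫ ι₀)

/-- universal point for the inverse -/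
noncomputable abbrev invφ : H₀ ⟶ G₀ := ι₀⁻¹

/-- universal point for conjugation -/
noncomputable abbrev conjφ : G₀ ⊗ H₀ ⟶ G₀ :=
  fst G₀ H₀ * (snd G₀ H₀ ≫ ι₀) * (fst G₀ H₀)⁻¹

variable {T' : Scheme.{u}} (t : T' ⟶ S₀)

/-- the base change of `ι₀` -/
noncomputable abbrev nn : Red.bc t H₀ ⟶ Red.bc t G₀ := (Over.pullback t).map ι₀

lemma psi_comp_n {T : Over T'} (a : T ⟶ Red.bc t H₀) :
    ψ t H₀ T a ≫ ι₀ = Ψ t G₀ T (a ≫ nn ι₀ t) :=
  (ψ_comp_map t ι₀ a).symm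

lemma exists_of_psi {T : Over T'} (z' : (Over.map t).obj T ⟶ H₀) (x : T ⟶ Red.bc t G₀)
    (h : z' ≫ ι₀ = Ψ t G₀ T x) : ∃ z : T ⟶ Red.bc t H₀, z ≫ nn ι₀ t = x := by
  refine ⟨(ψ t H₀ T).symm z', ?_⟩
  have h1 : (ψ t H₀ T).symm z' ≫ nn ι₀ t = (ψ t G₀ T).symm (z' ≫ ι₀) :=
    (ψ_symm_comp t ι₀ z').symm
  rw [h1, h]
  exact (Ψ t G₀ T).symm_apply_apply x

lemma psi_map {Q₀ Y : Over S₀} (u : Q₀ ⟶ Y) :
    ψ t Y (Red.bc t Q₀) ((Over.pullback t).map u) = ψ t Q₀ (Red.bc t Q₀) (𝟙 _) ≫ u := by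
  have := ψ_comp_map t u (𝟙 (Red.bc t Q₀))
  rw [Category.id_comp] at this
  exact this

/-- the subgroup conditions at the stage `t` from the three factorizations. -/
theorem exists_grpObj_of_fac [Mono ι₀] (h1 : Fac ι₀ (𝟙_ (Over S₀)) (oneφ (G₀ := G₀)) t)
    (h2 : Fac ι₀ (H₀ ⊗ H₀) (mulφ ι₀) t) (h3 : Fac ι₀ H₀ (invφ ι₀) t) :
    ∃ (_ : GrpObj (Red.bc t H₀)), IsMonHom ((Over.pullback t).map ι₀) := by
  have : Mono (nn ι₀ t) := inferInstanceAs (Mono ((Over.pullback t).map ι₀))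
  refine Groth.Agent.Lib.Helper11SubGrp.exists_grpObj_of_points (nn ι₀ t) ?_ ?_ ?_
  · obtain ⟨z', hz'⟩ := h1.exists_point (𝟙_ (Over T')) (toUnit _)
    refine exists_of_psi ι₀ t z' 1 ?_
    rw [hz', MonObj.comp_one, map_one]
  · intro T a b
    obtain ⟨z', hz'⟩ := h2.exists_point T (lift (ψ t H₀ T a) (ψ t H₀ T b))
    refine exists_of_psi ι₀ t z' _ ?_
    rw [hz', MonObj.comp_mul, lift_fst_assoc, lift_snd_assoc, psi_comp_n, psi_comp_n, map_mul]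
  · intro T a
    obtain ⟨z', hz'⟩ := h3.exists_point T (ψ t H₀ T a)
    refine exists_of_psi ι₀ t z' _ ?_
    rw [hz', GrpObj.comp_inv, psi_comp_n, map_inv]

/-- normality at the stage `t` from the conjugation factorization. -/
theorem isNormalHom_of_fac [GrpObj (Red.bc t H₀)] (h4 : Fac ι₀ (G₀ ⊗ H₀) (conjφ ι₀) t) :
    AlgGrp.IsNormalHom ((Over.pullback t).map ι₀) := by
  intro T g h
  obtain ⟨z', hz'⟩ := h4.exists_point T (lift (Ψ t G₀ T g) (ψ t H₀ T h))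
  obtain ⟨h', hh'⟩ := exists_of_psi ι₀ t z' (g * (h ≫ nn ι₀ t) * g⁻¹) (by
    rw [hz', MonObj.comp_mul, MonObj.comp_mul, GrpObj.comp_inv, lift_fst, lift_snd_assoc,
      psi_comp_n, map_mul, map_mul, map_inv])
  exact ⟨h', hh'.symm⟩

/-- a point of `H₀` over the universal object whose image is `Ψ` of a point of `G_t`. -/
lemma fac_of_point' {Q₀ : Over S₀} {φ₀ : Q₀ ⟶ G₀} (x : Red.bc t Q₀ ⟶ Red.bc t H₀)
    (hx : Ψ t G₀ (Red.bc t Q₀) (x ≫ nn ι₀ t) = ψ t Q₀ (Red.bc t Q₀) (𝟙 _) ≫ φ₀) :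
    Fac ι₀ Q₀ φ₀ t :=
  Fac.of_point (ψ t H₀ (Red.bc t Q₀) x) (by rw [psi_comp_n, hx])

/-- the three factorizations at `t` if `H_t` is a subgroup of `G_t`. -/
theorem fac_of_grpObj [GrpObj (Red.bc t H₀)] [IsMonHom ((Over.pullback t).map ι₀)] :
    Fac ι₀ (𝟙_ (Over S₀)) (oneφ (G₀ := G₀)) t ∧ Fac ι₀ (H₀ ⊗ H₀) (mulφ ι₀) t ∧
      Fac ι₀ H₀ (invφ ι₀) t := by
  have : IsMonHom (nn ι₀ t) := ‹IsMonHom ((Over.pullback t).map ι₀)›
  refine ⟨?_, ?_, ?_⟩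
  · refine fac_of_point' ι₀ t (1 : Red.bc t (𝟙_ (Over S₀)) ⟶ Red.bc t H₀) ?_
    rw [MonObj.one_comp, map_one, MonObj.comp_one]
  · refine fac_of_point' ι₀ t
      ((Over.pullback t).map (fst H₀ H₀) * (Over.pullback t).map (snd H₀ H₀)) ?_
    rw [MonObj.mul_comp, map_mul, Ψ_apply, Ψ_apply, ← Functor.map_comp, ← Functor.map_comp,
      psi_map, psi_map, MonObj.comp_mul]
  · refine fac_of_point' ι₀ t ((𝟙 (Red.bc t H₀))⁻¹) ?_
    rw [GrpObj.inv_comp, map_inv, Category.id_comp, Ψ_apply, psi_map, GrpObj.comp_inv]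

/-- the conjugation factorization at `t` if `H_t` is normal in `G_t`. -/
theorem fac_conj_of_isNormalHom [GrpObj (Red.bc t H₀)]
    (hn : AlgGrp.IsNormalHom ((Over.pullback t).map ι₀)) :
    Fac ι₀ (G₀ ⊗ H₀) (conjφ ι₀) t := by
  obtain ⟨h', hh'⟩ := hn (Red.bc t (G₀ ⊗ H₀)) ((Over.pullback t).map (fst G₀ H₀))
    ((Over.pullback t).map (snd G₀ H₀))
  refine fac_of_point' ι₀ t h' ?_
  have hh'' : h' ≫ nn ι₀ t = (Over.pullback t).map (fst G₀ H₀) *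
      ((Over.pullback t).map (snd G₀ H₀) ≫ nn ι₀ t) * ((Over.pullback t).map (fst G₀ H₀))⁻¹ :=
    hh'.symm
  rw [hh'', map_mul, map_mul, map_inv, Ψ_apply, Ψ_apply, ← Functor.map_comp, psi_map, psi_map,
    MonObj.comp_mul, MonObj.comp_mul, GrpObj.comp_inv]

end group

section main

open Groth.Agent.Lib.Helper22.LimBC

variable {I : Type u} [SmallCategory I] [IsCofiltered I]
  (D : I ⥤ Scheme.{u}) (c : Cone D) (hc : IsLimit c)
  [∀ (i j : I) (a : i ⟶ j), IsAffineHom (D.map a)] (i₀ : I)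
  {H₀ G₀ : Over (D.obj i₀)} (ι₀ : H₀ ⟶ G₀)

omit [IsCofiltered I] [∀ (i j : I) (a : i ⟶ j), IsAffineHom (D.map a)] in
lemma Fac.of_over_hom {Q₀ : Over (D.obj i₀)} {φ₀ : Q₀ ⟶ G₀} {j k : Over i₀} (u : k ⟶ j)
    (h : Fac ι₀ Q₀ φ₀ (D.map j.hom)) : Fac ι₀ Q₀ φ₀ (D.map k.hom) :=
  (h.comp (D.map u.left)).of_eq (by rw [← D.map_comp, Over.w u])

variable [CompactSpace (D.obj i₀)] [QuasiSeparatedSpace (D.obj i₀)]
  [GrpObj G₀] [IsSeparated G₀.hom] [QuasiCompact G₀.hom]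
  [IsClosedImmersion ι₀.left] [LocallyOfFinitePresentation ι₀.left]

include hc in
theorem exists_stage_subgroup
    (hH : ∃ _ : GrpObj (Red.bc (c.π.app i₀) H₀), IsMonHom ((Over.pullback (c.π.app i₀)).map ι₀)) :
    ∃ (i : I) (a : i ⟶ i₀) (_ : GrpObj (Red.bc (D.map a) H₀)),
        IsMonHom ((Over.pullback (D.map a)).map ι₀) := by
  obtain ⟨inst, hmon⟩ := hH
  have hGc : CompactSpace G₀.left := QuasiCompact.compactSpace_of_compactSpace G₀.hom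
  have hGs : QuasiSeparatedSpace G₀.left := quasiSeparatedSpace_of_quasiSeparated G₀.hom
  have hHc : CompactSpace H₀.left := QuasiCompact.compactSpace_of_compactSpace ι₀.left
  have hHs : QuasiSeparatedSpace H₀.left := quasiSeparatedSpace_of_quasiSeparated ι₀.left
  have hHqc : QuasiCompact H₀.hom := by rw [← Over.w ι₀]; infer_instance
  have hHqs : QuasiSeparated H₀.hom := by rw [← Over.w ι₀]; infer_instance
  have hPc : CompactSpace (H₀ ⊗ H₀).left :=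
    QuasiCompact.compactSpace_of_compactSpace (pullback.fst H₀.hom H₀.hom)
  have hPs : QuasiSeparatedSpace (H₀ ⊗ H₀).left :=
    quasiSeparatedSpace_of_quasiSeparated (pullback.fst H₀.hom H₀.hom)
  have h1c : CompactSpace (𝟙_ (Over (D.obj i₀))).left := ‹CompactSpace (D.obj i₀)›
  have h1s : QuasiSeparatedSpace (𝟙_ (Over (D.obj i₀))).left := ‹QuasiSeparatedSpace (D.obj i₀)›
  have hmono : Mono ι₀ := Over.mono_of_mono_left ι₀
  obtain ⟨f1, f2, f3⟩ := fac_of_grpObj ι₀ (c.π.app i₀)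
  obtain ⟨j1, g1⟩ := Fac.exists_stage D c hc i₀ ι₀ _ _ f1
  obtain ⟨j2, g2⟩ := Fac.exists_stage D c hc i₀ ι₀ _ _ f2
  obtain ⟨j3, g3⟩ := Fac.exists_stage D c hc i₀ ι₀ _ _ f3
  let k : Over i₀ := IsCofiltered.min (IsCofiltered.min j1 j2) j3
  let u12 : k ⟶ IsCofiltered.min j1 j2 := IsCofiltered.minToLeft _ _
  have g1' := Fac.of_over_hom D i₀ ι₀ (u12 ≫ IsCofiltered.minToLeft j1 j2) g1
  have g2' := Fac.of_over_hom D i₀ ι₀ (u12 ≫ IsCofiltered.minToRight j1 j2) g2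
  have g3' := Fac.of_over_hom D i₀ ι₀ (IsCofiltered.minToRight (IsCofiltered.min j1 j2) j3) g3
  obtain ⟨inst', hmon'⟩ := exists_grpObj_of_fac ι₀ (D.map k.hom) g1' g2' g3'
  exact ⟨k.left, k.hom, inst', hmon'⟩

include hc in
theorem exists_stage_normal
    (hH : ∃ (_ : GrpObj (Red.bc (c.π.app i₀) H₀))
      (_ : IsMonHom ((Over.pullback (c.π.app i₀)).map ι₀)),
        AlgGrp.IsNormalHom ((Over.pullback (c.π.app i₀)).map ι₀)) :
    ∃ (i : I) (a : i ⟶ i₀) (_ : GrpObj (Red.bc (D.map a) H₀))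
        (_ : IsMonHom ((Over.pullback (D.map a)).map ι₀)),
        AlgGrp.IsNormalHom ((Over.pullback (D.map a)).map ι₀) := by
  obtain ⟨inst, hmon, hnorm⟩ := hH
  have hGc : CompactSpace G₀.left := QuasiCompact.compactSpace_of_compactSpace G₀.hom
  have hGs : QuasiSeparatedSpace G₀.left := quasiSeparatedSpace_of_quasiSeparated G₀.hom
  have hHc : CompactSpace H₀.left := QuasiCompact.compactSpace_of_compactSpace ι₀.left
  have hHs : QuasiSeparatedSpace H₀.left := quasiSeparatedSpace_of_quasiSeparated ι₀.left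
  have hHqc : QuasiCompact H₀.hom := by rw [← Over.w ι₀]; infer_instance
  have hHqs : QuasiSeparated H₀.hom := by rw [← Over.w ι₀]; infer_instance
  have hPc : CompactSpace (H₀ ⊗ H₀).left :=
    QuasiCompact.compactSpace_of_compactSpace (pullback.fst H₀.hom H₀.hom)
  have hPs : QuasiSeparatedSpace (H₀ ⊗ H₀).left :=
    quasiSeparatedSpace_of_quasiSeparated (pullback.fst H₀.hom H₀.hom)
  have hCc : CompactSpace (G₀ ⊗ H₀).left :=
    QuasiCompact.compactSpace_of_compactSpace (pullback.fst G₀.hom H₀.hom)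
  have hCs : QuasiSeparatedSpace (G₀ ⊗ H₀).left :=
    quasiSeparatedSpace_of_quasiSeparated (pullback.fst G₀.hom H₀.hom)
  have h1c : CompactSpace (𝟙_ (Over (D.obj i₀))).left := ‹CompactSpace (D.obj i₀)›
  have h1s : QuasiSeparatedSpace (𝟙_ (Over (D.obj i₀))).left := ‹QuasiSeparatedSpace (D.obj i₀)›
  have hmono : Mono ι₀ := Over.mono_of_mono_left ι₀
  obtain ⟨f1, f2, f3⟩ := fac_of_grpObj ι₀ (c.π.app i₀)
  have f4 := fac_conj_of_isNormalHom ι₀ (c.π.app i₀) hnorm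
  obtain ⟨j1, g1⟩ := Fac.exists_stage D c hc i₀ ι₀ _ _ f1
  obtain ⟨j2, g2⟩ := Fac.exists_stage D c hc i₀ ι₀ _ _ f2
  obtain ⟨j3, g3⟩ := Fac.exists_stage D c hc i₀ ι₀ _ _ f3
  obtain ⟨j4, g4⟩ := Fac.exists_stage D c hc i₀ ι₀ _ _ f4
  let k : Over i₀ := IsCofiltered.min (IsCofiltered.min j1 j2) (IsCofiltered.min j3 j4)
  let u12 : k ⟶ IsCofiltered.min j1 j2 := IsCofiltered.minToLeft _ _
  let u34 : k ⟶ IsCofiltered.min j3 j4 := IsCofiltered.minToRight _ _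
  have g1' := Fac.of_over_hom D i₀ ι₀ (u12 ≫ IsCofiltered.minToLeft j1 j2) g1
  have g2' := Fac.of_over_hom D i₀ ι₀ (u12 ≫ IsCofiltered.minToRight j1 j2) g2
  have g3' := Fac.of_over_hom D i₀ ι₀ (u34 ≫ IsCofiltered.minToLeft j3 j4) g3
  have g4' := Fac.of_over_hom D i₀ ι₀ (u34 ≫ IsCofiltered.minToRight j3 j4) g4
  obtain ⟨inst', hmon'⟩ := exists_grpObj_of_fac ι₀ (D.map k.hom) g1' g2' g3'
  exact ⟨k.left, k.hom, inst', hmon', isNormalHom_of_fac ι₀ (D.map k.hom) g4'⟩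

end main

end Groth.Agent.Lib.Helper26.SubGrpLim
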