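import Mathlib
import Groth.Prelude.Def_Red
import Groth.Prelude.Def_AlgGrp
import Groth.Agent.Lib.Helper26SubGrpLim
import Groth.Agent.S5366

/-!
Transport of closed subgroups along base change (helper26).

* `isMonHom_of_points`: a morphism of monoid objects which is multiplicative on points is a
  homomorphism.
* `bcCompIso r s G : Red.bc r (Red.bc s G) ≅ Red.bc (r ≫ s) G`, a homomorphism.
* `resHom r b G H j : Red.bc r H ⟶ Red.bc (r ≫ b) G` for `j : H ⟶ Red.bc b G`: base change of a
  (closed) subgroup; it is a homomorphism, a closed immersion if `j` is, normal if `j` is.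
* `Ser H b n`: the `n`-th term of the derived (`b = true`) / lower central (`b = false`) series of
  `H(X)` is trivial for all `X`; stable under base change.
-/

set_option autoImplicit false
universe v₁ u₁ u
open CategoryTheory MonoidalCategory CartesianMonoidalCategory MonObj GrpObj AlgebraicGeometry
  CategoryTheory.Limits

namespace Groth.Agent.Lib.Helper26.BcTrans

open Groth.Agent.Lib.Helper26.SubGrpLim (Ψ ψ ψ_left Ψ_apply ψ_comp_map)
open Groth.Agent.S5366 (ser ser_eq_bot_of_jointly_injective)

section points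

variable {C : Type u₁} [Category.{v₁} C] [CartesianMonoidalCategory C]

/-- a morphism multiplicative on points is a homomorphism. -/
theorem isMonHom_of_points {A B : C} [MonObj A] [MonObj B] (e : A ⟶ B)
    (h1 : (1 : 𝟙_ C ⟶ A) ≫ e = 1)
    (hm : ∀ (T : C) (x y : T ⟶ A), (x * y) ≫ e = (x ≫ e) * (y ≫ e)) : IsMonHom e where
  one_hom := by
    rw [MonObj.one_eq_one (M := A), h1, MonObj.one_eq_one (M := B)]
  mul_hom := by
    rw [MonObj.mul_eq_mul (M := A), hm, MonObj.mul_eq_mul (M := B), MonObj.comp_mul,
      tensorHom_fst, tensorHom_snd]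

end points

section comp

variable {S S' S'' : Scheme.{u}} (r : S'' ⟶ S') (s : S' ⟶ S) (G : Over S)

/-- transitivity of base change. -/
noncomputable def bcCompIso : Red.bc r (Red.bc s G) ≅ Red.bc (r ≫ s) G :=
  Over.isoMk (pullbackLeftPullbackSndIso G.hom s r) (by
    change (pullbackLeftPullbackSndIso G.hom s r).hom ≫ pullback.snd G.hom (r ≫ s) =
      pullback.snd (pullback.snd G.hom s) r
    exact pullbackLeftPullbackSndIso_hom_snd _ _ _)

lemma bcCompIso_hom_left_fst :
    (bcCompIso r s G).hom.left ≫ pullback.fst G.hom (r ≫ s) =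
      pullback.fst (pullback.snd G.hom s) r ≫ pullback.fst G.hom s := by
  change (pullbackLeftPullbackSndIso G.hom s r).hom ≫ _ = _
  exact pullbackLeftPullbackSndIso_hom_fst _ _ _

instance : IsIso (bcCompIso r s G).hom.left :=
  inferInstanceAs (IsIso (pullbackLeftPullbackSndIso G.hom s r).hom)

/-- comparison of the two ways of viewing an `S''`-scheme over `S`. -/
def w' (X : Over S'') : (Over.map (r ≫ s)).obj X ⟶ (Over.map s).obj ((Over.map r).obj X) :=
  Over.homMk (𝟙 X.left) (by
    change 𝟙 X.left ≫ (X.hom ≫ r) ≫ s = X.hom ≫ r ≫ s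
    rw [Category.id_comp, Category.assoc])

variable [GrpObj G]

lemma key {X : Over S''} (x : X ⟶ Red.bc r (Red.bc s G)) :
    Ψ (r ≫ s) G X (x ≫ (bcCompIso r s G).hom) =
      w' r s X ≫ Ψ s G ((Over.map r).obj X) (Ψ r (Red.bc s G) X x) := by
  ext1
  change (x.left ≫ (bcCompIso r s G).hom.left) ≫ pullback.fst G.hom (r ≫ s) =
    𝟙 X.left ≫ (x.left ≫ pullback.fst (pullback.snd G.hom s) r) ≫ pullback.fst G.hom s
  rw [Category.id_comp, Category.assoc, bcCompIso_hom_left_fst, Category.assoc]

instance isMonHom_bcCompIso : IsMonHom (bcCompIso r s G).hom := by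
  refine isMonHom_of_points _ ?_ ?_
  · apply (Ψ (r ≫ s) G _).injective
    rw [key]
    simp only [map_one, MonObj.comp_one]
  · intro T x y
    apply (Ψ (r ≫ s) G _).injective
    rw [key]
    simp only [map_mul, MonObj.comp_mul]
    rw [key, key]

end comp

section res

variable {S₁ S' S'' : Scheme.{u}} (r : S'' ⟶ S') (b : S' ⟶ S₁) (G : Over S₁) [GrpObj G]
  (H : Over S') [GrpObj H] (j : H ⟶ Red.bc b G)

/-- base change of a subgroup of `G ×_{S₁} S'` along `r : S'' ⟶ S'`. -/
noncomputable def resHom : Red.bc r H ⟶ Red.bc (r ≫ b) G :=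
  (Over.pullback r).map j ≫ (bcCompIso r b G).hom

lemma pullback_map_left_fst :
    ((Over.pullback r).map j).left ≫ pullback.fst (pullback.snd G.hom b) r =
      pullback.fst H.hom r ≫ j.left :=
  pullback.lift_fst _ _ _

lemma pullback_map_left_snd :
    ((Over.pullback r).map j).left ≫ pullback.snd (pullback.snd G.hom b) r =
      pullback.snd H.hom r :=
  pullback.lift_snd _ _ _

lemma resHom_left_fst :
    (resHom r b G H j).left ≫ pullback.fst G.hom (r ≫ b) =
      pullback.fst H.hom r ≫ j.left ≫ pullback.fst G.hom b := by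
  change (((Over.pullback r).map j).left ≫ (bcCompIso r b G).hom.left) ≫ _ = _
  rw [Category.assoc, bcCompIso_hom_left_fst, ← Category.assoc, pullback_map_left_fst,
    Category.assoc]

instance isMonHom_pullback_map [IsMonHom j] : IsMonHom ((Over.pullback r).map j) := by
  have hk : ∀ {X : Over S''} (x : X ⟶ Red.bc r H),
      Ψ r (Red.bc b G) X (x ≫ (Over.pullback r).map j) = Ψ r H X x ≫ j :=
    fun x => ψ_comp_map r j x
  refine isMonHom_of_points _ ?_ ?_
  · apply (Ψ r (Red.bc b G) _).injective
    rw [hk]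
    simp only [map_one, MonObj.one_comp]
  · intro T x y
    apply (Ψ r (Red.bc b G) _).injective
    rw [hk]
    simp only [map_mul, MonObj.mul_comp]
    rw [hk, hk]

instance isMonHom_resHom [IsMonHom j] : IsMonHom (resHom r b G H j) := by
  unfold resHom
  infer_instance

instance isClosedImmersion_pullback_map [IsClosedImmersion j.left] :
    IsClosedImmersion ((Over.pullback r).map j).left := by
  have hbig : IsPullback (pullback.fst H.hom r)
      (((Over.pullback r).map j).left ≫ pullback.snd (pullback.snd G.hom b) r)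
      (j.left ≫ pullback.snd G.hom b) r := by
    rw [pullback_map_left_snd]
    have hw : j.left ≫ pullback.snd G.hom b = H.hom := Over.w j
    rw [hw]
    exact IsPullback.of_hasPullback H.hom r
  have htop : IsPullback (pullback.fst H.hom r) ((Over.pullback r).map j).left j.left
      (pullback.fst (pullback.snd G.hom b) r) :=
    IsPullback.of_bot hbig (pullback_map_left_fst r b G H j).symm
      (IsPullback.of_hasPullback (pullback.snd G.hom b) r)
  exact MorphismProperty.of_isPullback (P := @IsClosedImmersion) htop inferInstance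

instance isClosedImmersion_resHom [IsClosedImmersion j.left] :
    IsClosedImmersion (resHom r b G H j).left := by
  change IsClosedImmersion (((Over.pullback r).map j).left ≫ (bcCompIso r b G).hom.left)
  infer_instance

/-- normality is preserved by base change. -/
theorem isNormalHom_resHom [IsMonHom j] (hn : AlgGrp.IsNormalHom j) :
    AlgGrp.IsNormalHom (resHom r b G H j) := by
  intro T g n
  obtain ⟨g', hg'⟩ : ∃ g' : T ⟶ Red.bc r (Red.bc b G), g' ≫ (bcCompIso r b G).hom = g :=
    ⟨g ≫ (bcCompIso r b G).inv, by rw [Category.assoc, Iso.inv_hom_id, Category.comp_id]⟩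
  obtain ⟨n₀', hn₀'⟩ := hn ((Over.map r).obj T) (Ψ r (Red.bc b G) T g') (Ψ r H T n)
  refine ⟨(Ψ r H T).symm n₀', ?_⟩
  have h1 : g' * (n ≫ (Over.pullback r).map j) * g'⁻¹ =
      (Ψ r H T).symm n₀' ≫ (Over.pullback r).map j := by
    apply (Ψ r (Red.bc b G) T).injective
    have hk : ∀ (x : T ⟶ Red.bc r H),
        Ψ r (Red.bc b G) T (x ≫ (Over.pullback r).map j) = Ψ r H T x ≫ j :=
      fun x => ψ_comp_map r j x
    rw [map_mul, map_mul, map_inv, hk, hk, MulEquiv.apply_symm_apply, hn₀']
  unfold resHom
  rw [← hg', ← Category.assoc, ← Category.assoc, ← h1, MonObj.mul_comp, MonObj.mul_comp,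
    GrpObj.inv_comp]

end res

section series

/-- triviality of the `n`-th term of the derived / lower central series on all points. -/
def Ser {S : Scheme.{u}} (H : Over S) [GrpObj H] (b : Bool) (n : ℕ) : Prop :=
  ∀ X : Over S, ser b (⊤ : Subgroup (X ⟶ H)) n = ⊥

theorem Ser.bc {S' S'' : Scheme.{u}} (r : S'' ⟶ S') (H : Over S') [GrpObj H] {b : Bool} {n : ℕ}
    (h : Ser H b n) : Ser (Red.bc r H) b n := by
  intro X
  refine ser_eq_bot_of_jointly_injective b n (fun _ : Unit => (Ψ r H X).toMonoidHom) ?_ (h _)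
  intro g hg
  exact (MulEquiv.map_eq_one_iff _).mp (hg ())

/-- transport along a homomorphism which is a monomorphism. -/
theorem Ser.of_mono {S : Scheme.{u}} {H H' : Over S} [GrpObj H] [GrpObj H'] (c : H ⟶ H')
    [IsMonHom c] [Mono c] {b : Bool} {n : ℕ} (h : Ser H' b n) : Ser H b n := by
  intro X
  refine ser_eq_bot_of_jointly_injective b n
    (fun _ : Unit => MonoidHom.mk' (fun x : X ⟶ H => x ≫ c) (fun x y => MonObj.mul_comp x y c))
    ?_ (h X)
  intro g hg
  have h1 : g ≫ c = 1 := hg ()
  rw [← cancel_mono c, h1, MonObj.one_comp]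

theorem ser_one_eq_bot_iff {Γ : Type*} [Group Γ] :
    ser false (⊤ : Subgroup Γ) 1 = ⊥ ↔ ∀ x y : Γ, x * y = y * x := by
  change ⁅(⊤ : Subgroup Γ), (⊤ : Subgroup Γ)⁆ = ⊥ ↔ _
  rw [Subgroup.commutator_eq_bot_iff_le_centralizer]
  constructor
  · intro h x y
    exact h (Subgroup.mem_top y) x (Subgroup.mem_top x)
  · intro h y _ x _
    exact h x y

theorem isCommMonObj_iff_ser {S : Scheme.{u}} (H : Over S) [GrpObj H] :
    IsCommMonObj H ↔ Ser H false 1 := by
  constructor
  · intro hc X
    rw [ser_one_eq_bot_iff]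
    intro x y
    letI := Hom.commMonoid (X := X) (M := H)
    exact mul_comm x y
  · intro h
    have h1 := (ser_one_eq_bot_iff.mp (h (H ⊗ H))) (fst H H) (snd H H)
    refine ⟨?_⟩
    rw [MonObj.mul_eq_mul, MonObj.comp_mul, braiding_hom_fst, braiding_hom_snd]
    exact h1.symm

end series

end Groth.Agent.Lib.Helper26.BcTrans
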