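import Mathlib.NumberTheory.ZetaValues
import Mathlib.Analysis.Polynomial.Basic

/-!
Signs of the even Bernoulli numbers (from the zeta-value formula), and eventual negativity of
polynomials with negative leading coefficient, for the MoretBailly.* Todd-integrand rows.
-/

set_option autoImplicit false

namespace Groth.Agent.Lib.Helper26

/-- `(-1)^(k+1) B_{2k} > 0` for `k ≥ 1`. -/
theorem neg_one_pow_mul_bernoulli_pos {k : ℕ} (hk : k ≠ 0) :
    0 < (-1 : ℚ) ^ (k + 1) * bernoulli (2 * k) := by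
  have hsum := hasSum_zeta_nat hk
  have h1 : (1 : ℝ) ≤ (-1 : ℝ) ^ (k + 1) * (2 : ℝ) ^ (2 * k - 1) * Real.pi ^ (2 * k) *
      bernoulli (2 * k) / (2 * k).factorial := by
    have := le_hasSum hsum 1 (fun j _ => by positivity)
    simpa using this
  have hpos : (0 : ℝ) < (2 : ℝ) ^ (2 * k - 1) * Real.pi ^ (2 * k) / (2 * k).factorial := by
    positivity
  have h2 : (0 : ℝ) < (-1 : ℝ) ^ (k + 1) * (bernoulli (2 * k) : ℝ) := by
    by_contra hneg
    push Not at hneg
    have : (-1 : ℝ) ^ (k + 1) * (2 : ℝ) ^ (2 * k - 1) * Real.pi ^ (2 * k) *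
        bernoulli (2 * k) / (2 * k).factorial =
        ((-1 : ℝ) ^ (k + 1) * (bernoulli (2 * k) : ℝ)) *
          ((2 : ℝ) ^ (2 * k - 1) * Real.pi ^ (2 * k) / (2 * k).factorial) := by ring
    rw [this] at h1
    have := mul_nonpos_of_nonpos_of_nonneg hneg hpos.le
    linarith
  have h3 : ((0 : ℚ) : ℝ) < (((-1 : ℚ) ^ (k + 1) * bernoulli (2 * k) : ℚ) : ℝ) := by
    push_cast
    exact h2
  exact_mod_cast h3

/-- `B'_{4j} < 0` for `j ≥ 1`. -/
theorem bernoulli'_four_mul_neg {j : ℕ} (hj : j ≠ 0) : bernoulli' (4 * j) < 0 := by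
  have h := neg_one_pow_mul_bernoulli_pos (k := 2 * j) (by omega)
  have e : 2 * (2 * j) = 4 * j := by ring
  rw [e, bernoulli_eq_bernoulli'_of_ne_one (by omega)] at h
  have hs : (-1 : ℚ) ^ (2 * j + 1) = -1 := by
    rw [pow_succ, pow_mul]; simp
  rw [hs] at h
  linarith

/-- `B'_{4j+2} > 0`. -/
theorem bernoulli'_four_mul_add_two_pos (j : ℕ) : 0 < bernoulli' (4 * j + 2) := by
  have h := neg_one_pow_mul_bernoulli_pos (k := 2 * j + 1) (by omega)
  have e : 2 * (2 * j + 1) = 4 * j + 2 := by ring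
  rw [e, bernoulli_eq_bernoulli'_of_ne_one (by omega)] at h
  have hs : (-1 : ℚ) ^ (2 * j + 1 + 1) = 1 := by
    rw [pow_succ, pow_succ, pow_mul]; simp
  rw [hs] at h
  linarith

open Polynomial in
/-- A polynomial function `a x^m + P(x)` with `a < 0`, `m > 0`, `deg P < m` is eventually negative
on the natural numbers. -/
theorem eventually_neg_of_leading_neg (a : ℚ) (ha : a < 0) (m : ℕ) (hm : 0 < m) (P : ℚ[X])
    (hP : P.natDegree < m) :
    ∃ N : ℕ, ∀ p : ℕ, N ≤ p → a * (p : ℚ) ^ m + P.eval (p : ℚ) < 0 := by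
  set Q : ℚ[X] := C a * X ^ m + P with hQ
  have hdegP : P.degree < (C a * X ^ m).degree := by
    rw [degree_C_mul_X_pow m ha.ne]
    exact lt_of_le_of_lt degree_le_natDegree (by exact_mod_cast hP)
  have hdeg : Q.degree = m := by
    rw [hQ, degree_add_eq_left_of_degree_lt hdegP, degree_C_mul_X_pow m ha.ne]
  have hlead : Q.leadingCoeff = a := by
    rw [hQ, leadingCoeff_add_of_degree_lt' hdegP, leadingCoeff_mul, leadingCoeff_C,
      leadingCoeff_X_pow, mul_one]
  have htend := Q.tendsto_atBot_of_leadingCoeff_nonpos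
    (by rw [hdeg]; exact_mod_cast hm) (by rw [hlead]; exact ha.le)
  have h2 := (htend.comp tendsto_natCast_atTop_atTop).eventually (Filter.eventually_lt_atBot 0)
  obtain ⟨N, hN⟩ := Filter.eventually_atTop.mp h2
  refine ⟨N, fun p hp => ?_⟩
  have := hN p hp
  simpa [hQ] using this

end Groth.Agent.Lib.Helper26
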