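import Mathlib
import Groth.Agent.Lib.Helper3GrpHomQF
import Groth.Agent.Lib.Helper3DomFibDim
import Groth.Agent.Lib.Helper3CompDim
import Groth.Agent.Lib.Helper11Homog
import Groth.Agent.S7798
import Groth.Agent.S5336

set_option autoImplicit false
set_option linter.style.haveILetI false
universe u
open CategoryTheory CategoryTheory.Limits MonoidalCategory CartesianMonoidalCategory MonObj GrpObj
  AlgebraicGeometry

namespace Groth.Agent.Lib.Helper3.AbHom

open Groth.Agent.Lib.Helper4.DimFormula Groth.Agent.Lib.Helper4.FibDim
  Groth.Agent.Lib.Helper4.VarDim Groth.Agent.Lib.Helper3.CompDim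
  Groth.Agent.Lib.Helper3.GrpHomQF Groth.Agent.Lib.Helper3.DomFibDim

section general

variable {S : Scheme.{u}} (G H : Over S) [GrpObj G] [GrpObj H] (u : G ⟶ H) [IsMonHom u]
  [LocallyOfFiniteType u.left]

/-- for a homomorphism of group schemes, the fibre dimension is constant along the fibres of
`G → S`. -/
theorem fibreDimAt_hom_eq_of_base_eq (x x' : G.left) (h : G.hom x = G.hom x') :
    FlatMor.fibreDimAt u.left x = FlatMor.fibreDimAt u.left x' := by
  rw [fibreDimAt_hom_eq_unitSec G H u x, fibreDimAt_hom_eq_unitSec G H u x', h]

/-- a homomorphism which has fibre dimension `≤ 0` at one point of each fibre of `G → S` is locally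
quasi-finite. -/
theorem locallyQuasiFinite_of_forall_exists
    (h : ∀ s : S, (∃ x : G.left, G.hom x = s) →
      ∃ x : G.left, G.hom x = s ∧ FlatMor.fibreDimAt u.left x ≤ 0) :
    LocallyQuasiFinite u.left := by
  rw [locallyQuasiFinite_iff_forall_fibreDimAt_le_zero]
  intro x
  obtain ⟨x', hx', hle⟩ := h (G.hom x) ⟨x, rfl⟩
  rw [fibreDimAt_hom_eq_of_base_eq G H u x x' hx'.symm]
  exact hle

end general

section field

/-- a dominant morphism between irreducible schemes of finite type over a field of the same dimension
has fibre dimension zero at the generic point. -/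
theorem fibreDimAt_genericPoint_eq_zero (k : Type u) [Field k] {X Y : Scheme.{u}}
    (qY : Y ⟶ Spec (CommRingCat.of k)) [LocallyOfFiniteType qY]
    [IrreducibleSpace X] [IrreducibleSpace Y] (f : X ⟶ Y) [LocallyOfFiniteType f] [IsDominant f]
    (hdim : topologicalKrullDim X = topologicalKrullDim Y) :
    FlatMor.fibreDimAt f (genericPoint X) = 0 := by
  have hX := Groth.Agent.S7798.dim_eq_ptTrdeg_genericPoint k (f ≫ qY)
  have hY := Groth.Agent.S7798.dim_eq_ptTrdeg_genericPoint k qY
  rw [ptTrdeg_comp f qY, map_genericPoint_of_isDominant f] at hX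
  rw [hX, hY] at hdim
  have h0 : ptTrdeg qY (genericPoint Y) + ptTrdeg f (genericPoint X) =
      ptTrdeg qY (genericPoint Y) := by exact_mod_cast hdim
  have h1 : ptTrdeg f (genericPoint X) = 0 := by omega
  have hmax : ∀ x' : X, f.base x' = f.base (genericPoint X) → x' ⤳ genericPoint X →
      x' = genericPoint X := fun x' _ hx' => (hx'.antisymm (genericPoint_specializes x')).eq
  rw [fibreDimAt_eq_ptTrdeg_of_maximal f _ hmax, h1]
  rfl


/-- every morphism to the spectrum of a field is flat. -/
theorem flat_of_isField {K : CommRingCat.{u}} (hK : IsField K) {X : Scheme.{u}} (q : X ⟶ Spec K) :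
    Flat q := by
  apply Flat.of_stalkMap
  intro x
  apply Groth.Agent.Lib.Helper11Homog.flat_of_isField_source
  rw [IsLocalRing.isField_iff_maximalIdeal_eq]
  exact maximalIdeal_stalk_eq_bot hK (q x)

variable (k : Type u) [Field k] (X Y : Over (Spec (CommRingCat.of k))) [GrpObj X] [GrpObj Y]
  (f : X ⟶ Y) [IsMonHom f]

/-- a dominant homomorphism between irreducible group schemes of finite type over a field of the
same dimension is locally quasi-finite. -/
theorem locallyQuasiFinite_of_isDominant [LocallyOfFiniteType X.hom] [LocallyOfFiniteType Y.hom]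
    [IrreducibleSpace X.left] [IrreducibleSpace Y.left] [IsDominant f.left]
    (hdim : topologicalKrullDim X.left = topologicalKrullDim Y.left) :
    LocallyQuasiFinite f.left := by
  haveI : LocallyOfFiniteType (f.left ≫ Y.hom) := by rw [Over.w f]; infer_instance
  haveI : LocallyOfFiniteType f.left := locallyOfFiniteType_of_comp f.left Y.hom
  haveI : Subsingleton ↥(Spec (CommRingCat.of k)) :=
    subsingleton_Spec_of_isField (Field.toIsField k)
  apply locallyQuasiFinite_of_forall_exists X Y f
  intro s _
  refine ⟨genericPoint X.left, Subsingleton.elim _ _, ?_⟩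
  rw [fibreDimAt_genericPoint_eq_zero k Y.hom f.left hdim]

/-- a dominant homomorphism from an irreducible group scheme locally of finite type over a field
to a reduced irreducible group scheme is flat. -/
theorem flat_of_isDominant [LocallyOfFiniteType X.hom]
    [IrreducibleSpace X.left] [IrreducibleSpace Y.left] [IsReduced Y.left] [IsDominant f.left] :
    Flat f.left := by
  haveI : Flat X.hom := flat_of_isField (Field.toIsField k) X.hom
  refine Groth.Agent.S5336.result k X Y f ⟨genericPoint X.left, ?_⟩
  apply Groth.Agent.Lib.Helper11Homog.flat_of_isField_source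
  apply Groth.Agent.Lib.Helper11Homog.isField_stalk_of_isMaxPt
  rw [map_genericPoint_of_isDominant f.left]
  intro y hy
  exact (hy.antisymm (genericPoint_specializes y)).eq

end field

end Groth.Agent.Lib.Helper3.AbHom
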