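import Mathlib
import Groth.Prelude.Def_Red
import Groth.Agent.S19964

/-!
Schematic closure of a closed subgroup of a "generic fibre", relative version
(generalizes `Groth.Agent.S19964.main_aux`): base `S₁`, a monomorphism `b : S₀ ⟶ S₁`,
a flat scheme-theoretically dominant monomorphism `t : T' ⟶ S₀`, a group `G` over `S₁`, a closed
subgroup `HK` of `G ×_{S₁} T'` and a flat closed subscheme `H` of `G ×_{S₁} S₀` in which `HK` is
scheme-theoretically dense: then `H` is a subgroup scheme with `H ×_{S₀} T' = HK`.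
-/

set_option autoImplicit false
universe u
open CategoryTheory MonoidalCategory CartesianMonoidalCategory MonObj GrpObj AlgebraicGeometry
  CategoryTheory.Limits

namespace Groth.Agent.Lib.Helper26.Closure

open Groth.Agent.Lib.Helper26.SubGrpLim (Ψ ψ ψ_left Ψ_apply)
open Groth.Agent.S19964 (tl factor factorOver isPullback_prod)

section closure

variable {S₁ S₀ T' : Scheme.{u}} (b : S₀ ⟶ S₁) (t : T' ⟶ S₀) (t₀ : T' ⟶ S₁) (ht : t ≫ b = t₀)
  (G : Over S₁) [GrpObj G] (HK : Over T') [GrpObj HK]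
  (i : HK ⟶ Red.bc t₀ G) [IsMonHom i] (H : Over S₀) (j : H ⟶ Red.bc b G) (φ : HK.left ⟶ H.left)
  (hφj : φ ≫ j.left ≫ pullback.fst G.hom b = i.left ≫ pullback.fst G.hom t₀)
  (hφH : φ ≫ H.hom = HK.hom ≫ t)

/-- comparison of the two ways of viewing a `T'`-scheme over `S₁`. -/
def w (X : Over T') : (Over.map b).obj ((Over.map t).obj X) ⟶ (Over.map t₀).obj X :=
  Over.homMk (𝟙 X.left) (by
    change 𝟙 X.left ≫ X.hom ≫ t₀ = (X.hom ≫ t) ≫ b
    rw [Category.id_comp, Category.assoc, ht])

include hφj in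
lemma key {X : Over T'} (x : X ⟶ HK) :
    Ψ b G ((Over.map t).obj X) (tl t HK H φ hφH x ≫ j) =
      w b t t₀ ht X ≫ Ψ t₀ G X (x ≫ i) := by
  ext1
  change ((x.left ≫ φ) ≫ j.left) ≫ pullback.fst G.hom b =
    𝟙 X.left ≫ (x.left ≫ i.left) ≫ pullback.fst G.hom t₀
  rw [Category.id_comp, Category.assoc, Category.assoc, hφj, Category.assoc]

include hφj ht in
lemma tl_one : tl t HK H φ hφH η[HK] ≫ j = 1 := by
  apply (Ψ b G _).injective
  rw [map_one, key b t t₀ ht G HK i H j φ hφj hφH, MonObj.one_eq_one, MonObj.one_comp, map_one,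
    MonObj.comp_one]

include hφj ht in
lemma tl_mul {X : Over T'} (x y : X ⟶ HK) :
    tl t HK H φ hφH (x * y) ≫ j = (tl t HK H φ hφH x ≫ j) * (tl t HK H φ hφH y ≫ j) := by
  apply (Ψ b G _).injective
  rw [map_mul, key b t t₀ ht G HK i H j φ hφj hφH, key b t t₀ ht G HK i H j φ hφj hφH,
    key b t t₀ ht G HK i H j φ hφj hφH, MonObj.mul_comp, map_mul, MonObj.comp_mul]

include hφj ht in
lemma tl_inv {X : Over T'} (x : X ⟶ HK) :
    tl t HK H φ hφH x⁻¹ ≫ j = (tl t HK H φ hφH x ≫ j)⁻¹ := by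
  apply (Ψ b G _).injective
  rw [map_inv, key b t t₀ ht G HK i H j φ hφj hφH, key b t t₀ ht G HK i H j φ hφj hφH,
    GrpObj.inv_comp, map_inv, GrpObj.comp_inv]

include hφj ht in
theorem exists_grpObj' [IsClosedImmersion j.left]
    (h1 : IsSchemeTheoreticallyDominant t) (h2 : IsSchemeTheoreticallyDominant φ)
    (h3 : IsSchemeTheoreticallyDominant
      (lift (tl t HK H φ hφH (fst HK HK)) (tl t HK H φ hφH (snd HK HK))).left) :
    ∃ (_ : GrpObj H), IsMonHom j := by
  haveI : Mono j := by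
    haveI : Mono ((Over.forget S₀).map j) := by
      change Mono j.left
      infer_instance
    exact (Over.forget S₀).mono_of_mono_map this
  have hone : ∃ z : 𝟙_ (Over S₀) ⟶ H, z ≫ j = 1 := by
    haveI : IsSchemeTheoreticallyDominant
        (toUnit ((Over.map t).obj (𝟙_ (Over T')))).left := by
      change IsSchemeTheoreticallyDominant (𝟙 T' ≫ t)
      infer_instance
    refine factorOver j (toUnit ((Over.map t).obj (𝟙_ (Over T')))) 1
      (tl t HK H φ hφH η[HK]) ?_
    rw [tl_one b t t₀ ht G HK i H j φ hφj hφH, MonObj.comp_one]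
  have hmul0 : ∃ z : H ⊗ H ⟶ H, z ≫ j = (fst H H ≫ j) * (snd H H ≫ j) := by
    haveI : IsSchemeTheoreticallyDominant
      (lift (tl t HK H φ hφH (fst HK HK)) (tl t HK H φ hφH (snd HK HK))).left := h3
    refine factorOver j (lift (tl t HK H φ hφH (fst HK HK)) (tl t HK H φ hφH (snd HK HK))) _
      (tl t HK H φ hφH (fst HK HK * snd HK HK)) ?_
    rw [tl_mul b t t₀ ht G HK i H j φ hφj hφH, MonObj.comp_mul]
    congr 1
    · rw [← Category.assoc, lift_fst]
    · rw [← Category.assoc, lift_snd]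
  have hinv0 : ∃ z : H ⟶ H, z ≫ j = j⁻¹ := by
    haveI : IsSchemeTheoreticallyDominant (tl t HK H φ hφH (𝟙 HK)).left := by
      change IsSchemeTheoreticallyDominant (𝟙 _ ≫ φ)
      infer_instance
    refine factorOver j (tl t HK H φ hφH (𝟙 HK)) _ (tl t HK H φ hφH (𝟙 HK)⁻¹) ?_
    rw [tl_inv b t t₀ ht G HK i H j φ hφj hφH, GrpObj.comp_inv]
  refine Groth.Agent.Lib.Helper11SubGrp.exists_grpObj_of_points j hone ?_ ?_
  · intro T a b
    obtain ⟨z, hz⟩ := hmul0
    refine ⟨lift a b ≫ z, ?_⟩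
    rw [Category.assoc, hz, MonObj.comp_mul, ← Category.assoc, lift_fst, ← Category.assoc,
      lift_snd]
  · intro T a
    obtain ⟨z, hz⟩ := hinv0
    exact ⟨a ≫ z, by rw [Category.assoc, hz, GrpObj.comp_inv]⟩

end closure

/-- relative schematic closure of a closed subgroup. -/
theorem main {S₁ S₀ T' : Scheme.{u}} (b : S₀ ⟶ S₁) [Mono b] (t : T' ⟶ S₀) (t₀ : T' ⟶ S₁)
    (ht : t ≫ b = t₀) [Flat t] [IsSchemeTheoreticallyDominant t] [Mono t] [QuasiCompact t]
    (G : Over S₁) [GrpObj G] (HK : Over T') [GrpObj HK]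
    (i : HK ⟶ Red.bc t₀ G) [IsMonHom i] [IsClosedImmersion i.left]
    (H : Over S₀) (j : H ⟶ Red.bc b G) [IsClosedImmersion j.left]
    (φ : HK.left ⟶ H.left) [IsSchemeTheoreticallyDominant φ] [QuasiCompact φ] [Flat H.hom]
    (hφj : φ ≫ j.left ≫ pullback.fst G.hom b = i.left ≫ pullback.fst G.hom t₀)
    (hφH : φ ≫ H.hom = HK.hom ≫ t) :
    (∃ (_ : GrpObj H), IsMonHom j) ∧ IsPullback φ HK.hom H.hom t := by
  have hjw : j.left ≫ pullback.snd G.hom b = H.hom := Over.w j
  -- the generic fibre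
  have hpb : IsPullback φ HK.hom H.hom t := by
    obtain ⟨c, hc⟩ : ∃ c : HK.left ⟶ pullback H.hom t,
      c = pullback.lift φ HK.hom hφH := ⟨_, rfl⟩
    have hc1 : c ≫ pullback.fst H.hom t = φ := by rw [hc, pullback.lift_fst]
    have hc2 : c ≫ pullback.snd H.hom t = HK.hom := by rw [hc, pullback.lift_snd]
    have hsq : IsPullback (𝟙 HK.left) c φ (pullback.fst H.hom t) := by
      refine ⟨⟨by rw [Category.id_comp, hc1]⟩, ⟨PullbackCone.IsLimit.mk _ (fun s => s.fst)
        (fun s => Category.comp_id _) (fun s => ?_)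
        (fun s m hm _ => by rw [← hm, Category.comp_id])⟩⟩
      rw [← cancel_mono (pullback.fst H.hom t), Category.assoc, hc1]
      exact s.condition
    haveI : IsSchemeTheoreticallyDominant c := IsSchemeTheoreticallyDominant.of_isPullback hsq
    have hcond : (pullback.fst H.hom t ≫ j.left ≫ pullback.fst G.hom b) ≫ G.hom =
        pullback.snd H.hom t ≫ t₀ := by
      rw [Category.assoc, Category.assoc, pullback.condition, ← Category.assoc j.left, hjw,
        ← Category.assoc, pullback.condition, Category.assoc, ht]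
    obtain ⟨jK, hjK⟩ : ∃ jK : pullback H.hom t ⟶ pullback G.hom t₀,
        jK = pullback.lift (pullback.fst H.hom t ≫ j.left ≫ pullback.fst G.hom b)
          (pullback.snd H.hom t) hcond := ⟨_, rfl⟩
    have hjK1 : jK ≫ pullback.fst G.hom t₀ =
        pullback.fst H.hom t ≫ j.left ≫ pullback.fst G.hom b := by rw [hjK, pullback.lift_fst]
    have hjK2 : jK ≫ pullback.snd G.hom t₀ = pullback.snd H.hom t := by
      rw [hjK, pullback.lift_snd]
    haveI : Mono (j.left ≫ pullback.fst G.hom b) := mono_comp _ _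
    haveI : Mono jK := by
      constructor
      intro Z a a' hab
      apply pullback.hom_ext
      · rw [← cancel_mono (j.left ≫ pullback.fst G.hom b), Category.assoc, Category.assoc,
          ← hjK1, ← Category.assoc, ← Category.assoc, hab]
      · rw [← hjK2, ← Category.assoc, ← Category.assoc, hab]
    have hcj : c ≫ jK = i.left := by
      apply pullback.hom_ext
      · rw [Category.assoc, hjK1, ← Category.assoc, hc1, hφj]
      · rw [Category.assoc, hjK2, hc2]
        exact (Over.w i).symm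
    haveI : IsClosedImmersion (c ≫ jK) := by rw [hcj]; infer_instance
    haveI : IsClosedImmersion c := IsClosedImmersion.of_comp c jK
    haveI : IsIso c := IsClosedImmersion.isIso_iff_ker_eq_bot.mpr c.ker_eq_bot
    exact IsPullback.of_iso_pullback ⟨hφH⟩ (asIso c) hc1 hc2
  refine ⟨?_, hpb⟩
  refine exists_grpObj' b t t₀ ht G HK i H j φ hφj hφH inferInstance inferInstance ?_
  have hW1 : (lift (tl t HK H φ hφH (fst HK HK))
      (tl t HK H φ hφH (snd HK HK))).left ≫ pullback.fst H.hom H.hom =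
      pullback.fst HK.hom HK.hom ≫ φ :=
    congrArg (fun m => m.left) (lift_fst (tl t HK H φ hφH (fst HK HK))
      (tl t HK H φ hφH (snd HK HK)))
  have hW2 : (lift (tl t HK H φ hφH (fst HK HK))
      (tl t HK H φ hφH (snd HK HK))).left ≫ pullback.snd H.hom H.hom =
      pullback.snd HK.hom HK.hom ≫ φ :=
    congrArg (fun m => m.left) (lift_snd (tl t HK H φ hφH (fst HK HK))
      (tl t HK H φ hφH (snd HK HK)))
  have hW := isPullback_prod hpb _ hW1 hW2
  haveI : Flat (pullback.fst H.hom H.hom ≫ H.hom) := inferInstance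
  exact IsSchemeTheoreticallyDominant.of_isPullback hW.flip

end Groth.Agent.Lib.Helper26.Closure
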