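import Mathlib
import Groth.Prelude.Def_Red
import Groth.Prelude.Def_AlgGrp
import Groth.Agent.Lib.Helper26Closure
import Groth.Agent.Lib.Helper26BcTrans

/-!
Further properties of the relative schematic closure of a closed subgroup
(`Groth.Agent.Lib.Helper26.Closure.main`), helper26:

* `cK : HK ≅ Red.bc t H`, the generic fibre of the closure, a homomorphism (`isMonHom_cK`);
* `isNormalHom_closure`: the closure of a normal subgroup is normal (for `G` and `H` flat).
-/

set_option autoImplicit false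
universe u
open CategoryTheory MonoidalCategory CartesianMonoidalCategory MonObj GrpObj AlgebraicGeometry
  CategoryTheory.Limits

namespace Groth.Agent.Lib.Helper26.Closure2

open Groth.Agent.Lib.Helper26.SubGrpLim (Ψ ψ ψ_left Ψ_apply)
open Groth.Agent.S19964 (tl factor factorOver)
open Groth.Agent.Lib.Helper26.BcTrans

/-- the fibre square of a product, two factors. -/
lemma isPullback_prod₂ {X₁ X₂ Z₁ Z₂ K S : Scheme.{u}} {a₁ : X₁ ⟶ K} {a₂ : X₂ ⟶ K}
    {h₁ : Z₁ ⟶ S} {h₂ : Z₂ ⟶ S} {φ₁ : X₁ ⟶ Z₁} {φ₂ : X₂ ⟶ Z₂} {t : K ⟶ S}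
    (hφ₁ : IsPullback φ₁ a₁ h₁ t) (hφ₂ : IsPullback φ₂ a₂ h₂ t)
    (W : pullback a₁ a₂ ⟶ pullback h₁ h₂)
    (hW1 : W ≫ pullback.fst h₁ h₂ = pullback.fst a₁ a₂ ≫ φ₁)
    (hW2 : W ≫ pullback.snd h₁ h₂ = pullback.snd a₁ a₂ ≫ φ₂) :
    IsPullback W (pullback.fst a₁ a₂ ≫ a₁) (pullback.fst h₁ h₂ ≫ h₁) t := by
  refine IsPullback.paste_vert ?_ hφ₁
  have key : ∀ s : PullbackCone (pullback.fst h₁ h₂) φ₁,
      (s.fst ≫ pullback.snd h₁ h₂) ≫ h₂ = (s.snd ≫ a₁) ≫ t := by
    intro s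
    calc (s.fst ≫ pullback.snd h₁ h₂) ≫ h₂ = s.fst ≫ pullback.fst h₁ h₂ ≫ h₁ := by
          rw [Category.assoc, pullback.condition]
      _ = (s.snd ≫ φ₁) ≫ h₁ := by rw [← s.condition, Category.assoc]
      _ = (s.snd ≫ a₁) ≫ t := by rw [Category.assoc, hφ₁.w, Category.assoc]
  have key2 : ∀ s : PullbackCone (pullback.fst h₁ h₂) φ₁,
      s.snd ≫ a₁ = hφ₂.lift (s.fst ≫ pullback.snd h₁ h₂) (s.snd ≫ a₁) (key s) ≫ a₂ := by
    intro s
    rw [hφ₂.lift_snd]
  refine ⟨⟨hW1⟩, ⟨PullbackCone.IsLimit.mk _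
    (fun s => pullback.lift s.snd
      (hφ₂.lift (s.fst ≫ pullback.snd h₁ h₂) (s.snd ≫ a₁) (key s)) (key2 s))
    ?_ ?_ ?_⟩⟩
  · intro s
    apply pullback.hom_ext
    · rw [Category.assoc, hW1, pullback.lift_fst_assoc, s.condition]
    · rw [Category.assoc, hW2, pullback.lift_snd_assoc, hφ₂.lift_fst]
  · intro s
    exact pullback.lift_fst _ _ _
  · intro s m hm1 hm2
    apply pullback.hom_ext
    · rw [pullback.lift_fst, hm2]
    · rw [pullback.lift_snd]
      apply hφ₂.hom_ext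
      · rw [hφ₂.lift_fst, Category.assoc, ← hW2, ← Category.assoc, hm1]
      · rw [hφ₂.lift_snd, Category.assoc, ← pullback.condition, ← Category.assoc, hm2]

/-- the generic fibre of the closure. -/
noncomputable def cK {S₀ T' : Scheme.{u}} (t : T' ⟶ S₀) (HK : Over T') (H : Over S₀)
    (φ : HK.left ⟶ H.left) (hpb : IsPullback φ HK.hom H.hom t) : HK ≅ Red.bc t H :=
  Over.isoMk hpb.isoPullback (by
    change hpb.isoPullback.hom ≫ pullback.snd H.hom t = HK.hom
    exact hpb.isoPullback_hom_snd)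

lemma cK_hom_left_fst {S₀ T' : Scheme.{u}} (t : T' ⟶ S₀) (HK : Over T') (H : Over S₀)
    (φ : HK.left ⟶ H.left) (hpb : IsPullback φ HK.hom H.hom t) :
    (cK t HK H φ hpb).hom.left ≫ pullback.fst H.hom t = φ := by
  change hpb.isoPullback.hom ≫ pullback.fst H.hom t = φ
  exact hpb.isoPullback_hom_fst

section closure

variable {S₁ S₀ T' : Scheme.{u}} (b : S₀ ⟶ S₁) (t : T' ⟶ S₀)
  (G : Over S₁) [GrpObj G] (HK : Over T') [GrpObj HK]
  (i : HK ⟶ Red.bc (t ≫ b) G) [IsMonHom i] (H : Over S₀) [GrpObj H] (j : H ⟶ Red.bc b G)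
  [IsMonHom j] (φ : HK.left ⟶ H.left)
  (hφj : φ ≫ j.left ≫ pullback.fst G.hom b = i.left ≫ pullback.fst G.hom (t ≫ b))
  (hpb : IsPullback φ HK.hom H.hom t)

include hφj in
lemma cK_hom_resHom : (cK t HK H φ hpb).hom ≫ resHom t b G H j = i := by
  ext1
  refine pullback.hom_ext (f := G.hom) (g := t ≫ b) ?_ ?_
  · change ((cK t HK H φ hpb).hom.left ≫ (resHom t b G H j).left) ≫
      pullback.fst G.hom (t ≫ b) = _
    rw [Category.assoc, resHom_left_fst, ← Category.assoc, cK_hom_left_fst, hφj]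
  · exact (Over.w ((cK t HK H φ hpb).hom ≫ resHom t b G H j)).trans (Over.w i).symm

include hφj in
theorem isMonHom_cK [IsClosedImmersion j.left] : IsMonHom (cK t HK H φ hpb).hom := by
  haveI : Mono (resHom t b G H j).left := inferInstance
  haveI : Mono (resHom t b G H j) := Over.mono_of_mono_left _
  have hc := cK_hom_resHom b t G HK i H j φ hφj hpb
  refine isMonHom_of_points _ ?_ ?_
  · rw [← cancel_mono (resHom t b G H j), Category.assoc, hc, MonObj.one_comp, MonObj.one_comp]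
  · intro T x y
    rw [← cancel_mono (resHom t b G H j), Category.assoc, hc, MonObj.mul_comp, MonObj.mul_comp,
      Category.assoc, Category.assoc, hc]

/-- transport of points of `G ×_{S₁} T'` to points of `G ×_{S₁} S₀`. -/
noncomputable def θ (X : Over T') :
    (X ⟶ Red.bc (t ≫ b) G) →* ((Over.map t).obj X ⟶ Red.bc b G) :=
  (Ψ t (Red.bc b G) X).toMonoidHom.comp
    (MonoidHom.mk' (fun x => x ≫ (bcCompIso t b G).inv)
      (fun x y => MonObj.mul_comp x y (bcCompIso t b G).inv))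

omit [GrpObj G] in
lemma w_comp_w' (X : Over T') :
    Closure.w b t (t ≫ b) rfl X ≫ w' t b X = 𝟙 _ := by
  ext1
  change 𝟙 X.left ≫ 𝟙 X.left = 𝟙 X.left
  rw [Category.comp_id]

include hφj in
lemma θ_comp {X : Over T'} (x : X ⟶ HK) :
    θ b t G X (x ≫ i) = tl t HK H φ hpb.w x ≫ j := by
  apply (Ψ b G _).injective
  have h1 : Ψ (t ≫ b) G X (x ≫ i) =
      w' t b X ≫ Ψ b G ((Over.map t).obj X) (θ b t G X (x ≫ i)) := by
    have := BcTrans.key t b G ((x ≫ i) ≫ (bcCompIso t b G).inv)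
    rwa [Category.assoc, Iso.inv_hom_id, Category.comp_id] at this
  have h2 := Closure.key b t (t ≫ b) rfl G HK i H j φ hφj hpb.w x
  rw [h2, h1, ← Category.assoc, w_comp_w', Category.id_comp]

include hφj hpb in
/-- the closure of a normal subgroup is normal. -/
theorem isNormalHom_closure [Flat G.hom] [Flat H.hom] [IsClosedImmersion j.left]
    [IsSchemeTheoreticallyDominant t] [QuasiCompact t] (hn : AlgGrp.IsNormalHom i) :
    AlgGrp.IsNormalHom j := by
  have hφH : φ ≫ H.hom = HK.hom ≫ t := hpb.w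
  obtain ⟨n₀, hn₀⟩ := hn (Red.bc (t ≫ b) G ⊗ HK) (fst _ _) (snd _ _)
  -- the dense map
  obtain ⟨w, hw⟩ : ∃ w : (Over.map t).obj (Red.bc (t ≫ b) G ⊗ HK) ⟶ Red.bc b G ⊗ H,
      w = lift (θ b t G _ (fst (Red.bc (t ≫ b) G) HK))
        (tl t HK H φ hφH (snd (Red.bc (t ≫ b) G) HK)) := ⟨_, rfl⟩
  have hw1 : w ≫ fst _ _ = θ b t G _ (fst (Red.bc (t ≫ b) G) HK) := by rw [hw, lift_fst]
  have hw2 : w ≫ snd _ _ = tl t HK H φ hφH (snd (Red.bc (t ≫ b) G) HK) := by
    rw [hw, lift_snd]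
  -- the square for `G`
  obtain ⟨pr, hpr⟩ : ∃ pr : (Red.bc (t ≫ b) G).left ⟶ (Red.bc b G).left,
      pr = (bcCompIso t b G).inv.left ≫ pullback.fst (Red.bc b G).hom t := ⟨_, rfl⟩
  have hprpb : IsPullback pr (Red.bc (t ≫ b) G).hom (Red.bc b G).hom t := by
    rw [hpr]
    refine IsPullback.of_iso_pullback ⟨?_⟩ ((Over.forget _).mapIso (bcCompIso t b G).symm) ?_ ?_
    · rw [Category.assoc, pullback.condition, ← Category.assoc]
      congr 1
      exact Over.w (bcCompIso t b G).inv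
    · rfl
    · exact Over.w (bcCompIso t b G).inv
  have hW1 : w.left ≫ pullback.fst (Red.bc b G).hom H.hom =
      pullback.fst (Red.bc (t ≫ b) G).hom HK.hom ≫ pr := by
    have h := congrArg (fun m => m.left) hw1
    refine h.trans ?_
    rw [hpr]
    exact Category.assoc _ _ _
  have hW2 : w.left ≫ pullback.snd (Red.bc b G).hom H.hom =
      pullback.snd (Red.bc (t ≫ b) G).hom HK.hom ≫ φ :=
    congrArg (fun m => m.left) hw2
  have hW := isPullback_prod₂ hprpb hpb w.left hW1 hW2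
  haveI : Flat (Red.bc b G).hom := (inferInstance : Flat (pullback.snd G.hom b))
  haveI : Flat (pullback.fst (Red.bc b G).hom H.hom ≫ (Red.bc b G).hom) := inferInstance
  haveI : IsSchemeTheoreticallyDominant w.left :=
    IsSchemeTheoreticallyDominant.of_isPullback hW.flip
  -- factor the universal conjugation
  have hfac : ∃ z : Red.bc b G ⊗ H ⟶ H,
      z ≫ j = fst (Red.bc b G) H * (snd (Red.bc b G) H ≫ j) * (fst (Red.bc b G) H)⁻¹ := by
    refine factorOver j w _ (tl t HK H φ hφH n₀) ?_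
    rw [← θ_comp b t G HK i H j φ hφj hpb n₀, ← hn₀, map_mul, map_mul, map_inv,
      θ_comp b t G HK i H j φ hφj hpb (snd _ _), MonObj.comp_mul, MonObj.comp_mul,
      GrpObj.comp_inv, hw1, ← Category.assoc, hw2]
  obtain ⟨z, hz⟩ := hfac
  intro T g n
  refine ⟨lift g n ≫ z, ?_⟩
  rw [Category.assoc, hz, MonObj.comp_mul, MonObj.comp_mul, GrpObj.comp_inv, lift_fst,
    ← Category.assoc, lift_snd]

end closure

end Groth.Agent.Lib.Helper26.Closure2
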