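import Mathlib

/-!
# Generators and relations of a module from local data on a finite cover (helper26)

Namespace `Groth.Agent.Lib.Helper26.CoverGen`.

* `GenAway S Q c N`, `PresAway S Q c n r`, `HasPres S Q n r`: intrinsic forms of "`Q_c` is generated by `N`
  elements", "`Q_c` has a presentation with `n` generators and `r` relations", "`Q` has such a presentation".
* `exists_hasPres`, `HasPres.of_linearEquiv`, `HasPres.baseChange` (right exactness of base change, with counts).
* `PresAway_of_isLocalizedModule`: a counted presentation of the localization `Q_c` over `S_c` gives `PresAway`.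
* `genAway_ker` (Schanuel with counts, away from `c`), `GenAway.quotient`, `PresAway.genAway`.
* **`exists_generators_of_cover`**: ideals `I j` (`j ∈ t`, a finset) with `Ann Q + Σ I j = 1`, `Q` finite and
  generated by `N` elements away from every `c ∈ I j`  ⟹  `Q` is generated by `t.card * N` elements.
* `finitePresentation_pi`: a product of modules with uniformly counted presentations is finitely presented
  over the product ring.
-/

set_option autoImplicit false
universe u v w w'

namespace Groth.Agent.Lib.Helper26.CoverGen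

open Submodule TensorProduct

section defs
variable (S : Type u) [CommRing S] (Q : Type v) [AddCommGroup Q] [Module S Q]

/-- `Q` is generated by at most `N` elements away from `c` (intrinsic form of: `Q_c` is generated by
`N` elements over `S_c`). -/
def GenAway (c : S) (N : ℕ) : Prop :=
  ∃ T : Finset Q, T.card ≤ N ∧ ∀ x : Q, ∃ e : ℕ, c ^ e • x ∈ span S (T : Set Q)

/-- `Q` has a presentation with `n` generators and `r` relations away from `c`. -/
def PresAway (c : S) (n r : ℕ) : Prop :=
  ∃ (q : Fin n → Q) (t : Fin r → (Fin n → S)),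
    (∀ x : Q, ∃ e : ℕ, c ^ e • x ∈ span S (Set.range q)) ∧
    (∀ l, ∑ a, t l a • q a = 0) ∧
    (∀ v : Fin n → S, ∑ a, v a • q a = 0 → ∃ e : ℕ, c ^ e • v ∈ span S (Set.range t))

/-- `Q` has a presentation with `n` generators and `r` relations. -/
def HasPres (n r : ℕ) : Prop :=
  ∃ (y : Fin n → Q) (t : Fin r → (Fin n → S)),
    span S (Set.range y) = ⊤ ∧
    (∀ l, ∑ a, t l a • y a = 0) ∧
    (∀ v : Fin n → S, ∑ a, v a • y a = 0 → v ∈ span S (Set.range t))

end defs

variable {S : Type u} [CommRing S]

theorem exists_hasPres (Q : Type v) [AddCommGroup Q] [Module S Q] [Module.FinitePresentation S Q] :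
    ∃ n r, HasPres S Q n r := by
  classical
  obtain ⟨n, m, f, g, hf, hfg⟩ := Module.FinitePresentation.exists_fin' S Q
  refine ⟨n, m, fun a => f (fun j => if a = j then 1 else 0),
    fun l => g (fun j => if l = j then 1 else 0), ?_, ?_, ?_⟩
  · rw [eq_top_iff]
    intro x _
    obtain ⟨v, rfl⟩ := hf x
    rw [LinearMap.pi_apply_eq_sum_univ f v]
    exact Submodule.sum_mem _ fun a _ => Submodule.smul_mem _ _ (Submodule.subset_span ⟨a, rfl⟩)
  · intro l
    rw [← LinearMap.pi_apply_eq_sum_univ f]
    exact hfg.apply_apply_eq_zero _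
  · intro v hv
    rw [← LinearMap.pi_apply_eq_sum_univ f] at hv
    obtain ⟨w, rfl⟩ := (hfg v).1 hv
    rw [LinearMap.pi_apply_eq_sum_univ g w]
    exact Submodule.sum_mem _ fun l _ => Submodule.smul_mem _ _ (Submodule.subset_span ⟨l, rfl⟩)

theorem HasPres.of_linearEquiv {Q : Type v} {Q' : Type w} [AddCommGroup Q] [Module S Q]
    [AddCommGroup Q'] [Module S Q'] (e : Q ≃ₗ[S] Q') {n r : ℕ} (h : HasPres S Q n r) :
    HasPres S Q' n r := by
  obtain ⟨y, t, hy, ht, hv⟩ := h
  refine ⟨fun a => e (y a), t, ?_, ?_, ?_⟩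
  · rw [eq_top_iff]
    rintro z -
    obtain ⟨x, rfl⟩ := e.surjective z
    have hx : x ∈ span S (Set.range y) := by rw [hy]; trivial
    have := Submodule.apply_mem_span_image_of_mem_span e.toLinearMap hx
    have h2 : (e.toLinearMap '' Set.range y) = Set.range (fun a => e (y a)) := by
      ext z; simp [Set.mem_image]
    rwa [h2] at this
  · intro l
    have := congrArg e (ht l)
    simpa [map_sum] using this
  · intro v h0
    apply hv
    apply e.injective
    simpa [map_sum] using h0

theorem algebraMap_smul_one_tmul {R : Type u} [CommRing R] {C : Type v} [CommRing C] [Algebra R C]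
    {M : Type w} [AddCommGroup M] [Module R M] (s : R) (x : M) :
    algebraMap R C s • ((1 : C) ⊗ₜ[R] x) = (1 : C) ⊗ₜ[R] (s • x) := by
  rw [TensorProduct.smul_tmul', smul_eq_mul, mul_one, Algebra.algebraMap_eq_smul_one,
    TensorProduct.smul_tmul]

theorem HasPres.baseChange {R : Type u} [CommRing R] {C : Type v} [CommRing C] [Algebra R C]
    {M : Type w} [AddCommGroup M] [Module R M] {n r : ℕ} (h : HasPres R M n r) :
    HasPres C (C ⊗[R] M) n r := by
  classical
  obtain ⟨y, t, hy, ht, hv⟩ := h
  let t' : Fin r → (Fin n → C) := fun l a => algebraMap R C (t l a)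
  refine ⟨fun a => (1 : C) ⊗ₜ[R] y a, t', ?_, ?_, ?_⟩
  · rw [eq_top_iff]
    rintro z -
    induction z using TensorProduct.induction_on with
    | zero => exact Submodule.zero_mem _
    | add a b ha hb => exact Submodule.add_mem _ ha hb
    | tmul c m =>
      have hm : m ∈ span R (Set.range y) := by rw [hy]; trivial
      have h1m : (1 : C) ⊗ₜ[R] m ∈ span C (Set.range fun a => (1 : C) ⊗ₜ[R] y a) := by
        induction hm using Submodule.span_induction with
        | mem x hx =>
          obtain ⟨a, rfl⟩ := hx
          exact Submodule.subset_span ⟨a, rfl⟩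
        | zero => rw [TensorProduct.tmul_zero]; exact Submodule.zero_mem _
        | add x x' _ _ hx hx' => rw [TensorProduct.tmul_add]; exact Submodule.add_mem _ hx hx'
        | smul s x _ hx =>
          rw [← algebraMap_smul_one_tmul]
          exact Submodule.smul_mem _ _ hx
      have : c ⊗ₜ[R] m = c • ((1 : C) ⊗ₜ[R] m) := by
        rw [TensorProduct.smul_tmul', smul_eq_mul, mul_one]
      rw [this]
      exact Submodule.smul_mem _ _ h1m
  · intro l
    have h1 : ∀ a, t' l a • ((1 : C) ⊗ₜ[R] y a) = (1 : C) ⊗ₜ[R] (t l a • y a) := by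
      intro a
      exact algebraMap_smul_one_tmul _ _
    simp_rw [h1]
    rw [← TensorProduct.tmul_sum, ht l, TensorProduct.tmul_zero]
  · intro v h0
    -- the quotient `L` of `C^n` by the relations, and the inverse map
    let K : Submodule C (Fin n → C) := span C (Set.range t')
    let f : (Fin n → R) →ₗ[R] M := Fintype.linearCombination R y
    have hf : Function.Surjective f := by
      rw [← LinearMap.range_eq_top, Fintype.range_linearCombination, hy]
    let φ : (Fin n → R) →ₗ[R] ((Fin n → C) ⧸ K) :=
      (K.mkQ.restrictScalars R) ∘ₗ ((Algebra.linearMap R C).compLeft (Fin n))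
    have key : ∀ w ∈ span R (Set.range t), φ w = 0 := by
      intro w hw'
      induction hw' using Submodule.span_induction with
      | mem x hx =>
        obtain ⟨l, rfl⟩ := hx
        change K.mkQ (fun a => algebraMap R C (t l a)) = 0
        rw [Submodule.mkQ_apply, Submodule.Quotient.mk_eq_zero]
        exact Submodule.subset_span ⟨l, rfl⟩
      | zero => exact map_zero _
      | add x x' _ _ hx hx' => rw [map_add, hx, hx', add_zero]
      | smul s x _ hx => rw [map_smul, hx, smul_zero]
    have hφ : LinearMap.ker f ≤ LinearMap.ker φ := by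
      intro w hw
      have hw' : w ∈ span R (Set.range t) := by
        apply hv
        have := LinearMap.mem_ker.1 hw
        simpa [f, Fintype.linearCombination_apply] using this
      exact LinearMap.mem_ker.2 (key w hw')
    let ψ₀ : M →ₗ[R] ((Fin n → C) ⧸ K) :=
      ((LinearMap.ker f).liftQ φ hφ) ∘ₗ (f.quotKerEquivOfSurjective hf).symm.toLinearMap
    have hψ₀ : ∀ w, ψ₀ (f w) = φ w := by
      intro w
      change ((LinearMap.ker f).liftQ φ hφ) ((f.quotKerEquivOfSurjective hf).symm (f w)) = φ w
      have : (f.quotKerEquivOfSurjective hf).symm (f w) = (LinearMap.ker f).mkQ w := by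
        rw [LinearEquiv.symm_apply_eq]
        rfl
      rw [this]
      rfl
    let ψ : C ⊗[R] M →ₗ[C] ((Fin n → C) ⧸ K) := ψ₀.liftBaseChange C
    have hy' : ∀ a, ψ₀ (y a) = K.mkQ (Pi.single a 1) := by
      intro a
      have : y a = f (Pi.single a 1) := by
        simp [f, Fintype.linearCombination_apply_single]
      rw [this, hψ₀]
      change K.mkQ (fun b => algebraMap R C ((Pi.single a (1 : R) : Fin n → R) b)) = _
      congr 1
      ext b
      by_cases hb : b = a
      · subst hb; simp
      · simp [Pi.single_apply, hb]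
    have h1 := congrArg ψ h0
    rw [map_sum, map_zero] at h1
    have h2 : ∀ a, ψ (v a • ((1 : C) ⊗ₜ[R] y a)) = K.mkQ (v a • Pi.single a 1) := by
      intro a
      rw [map_smul, LinearMap.liftBaseChange_tmul, one_smul, hy' a, map_smul]
    simp_rw [h2] at h1
    rw [← map_sum] at h1
    have h3 : ∑ a, v a • (Pi.single a (1 : C) : Fin n → C) = v := by
      ext b
      simp [Finset.sum_apply, Pi.single_apply]
    rw [h3, Submodule.mkQ_apply, Submodule.Quotient.mk_eq_zero] at h1
    exact h1


section loc

variable {S : Type u} [CommRing S] {Q : Type w} {Q' : Type w'} [AddCommGroup Q] [AddCommGroup Q']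
  [Module S Q] [Module S Q'] (c : S) (φ : Q →ₗ[S] Q') [IsLocalizedModule (Submonoid.powers c) φ]

include φ in
theorem exists_pow_smul_eq (z : Q') : ∃ (x : Q) (e : ℕ), φ x = c ^ e • z := by
  obtain ⟨⟨x, ⟨_, e, rfl⟩⟩, hx⟩ := IsLocalizedModule.surj (Submonoid.powers c) φ z
  exact ⟨x, e, hx.symm⟩

theorem exists_pow_smul_eq_family {ι : Type*} [Fintype ι] (z : ι → Q') :
    ∃ (x : ι → Q) (e : ℕ), ∀ a, φ (x a) = c ^ e • z a := by
  classical
  choose x e hx using fun a => exists_pow_smul_eq c φ (z a)
  refine ⟨fun a => c ^ (∑ b, e b - e a) • x a, ∑ b, e b, fun a => ?_⟩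
  have hle : e a ≤ ∑ b, e b := Finset.single_le_sum (f := e) (fun _ _ => Nat.zero_le _) (Finset.mem_univ a)
  rw [map_smul, hx a, smul_smul, ← pow_add, Nat.sub_add_cancel hle]

theorem exists_pow_smul_eq_of_map_eq {x x' : Q} (h : φ x = φ x') :
    ∃ e : ℕ, c ^ e • x = c ^ e • x' := by
  obtain ⟨⟨_, e, rfl⟩, he⟩ := IsLocalizedModule.exists_of_eq (S := Submonoid.powers c) (f := φ) h
  exact ⟨e, he⟩

include φ in
theorem eq_zero_of_pow_smul_eq_zero {z : Q'} {e : ℕ} (h : c ^ e • z = 0) : z = 0 := by
  have hu := IsLocalizedModule.map_units φ (⟨c ^ e, e, rfl⟩ : Submonoid.powers c)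
  rw [Module.End.isUnit_iff] at hu
  apply hu.1
  change c ^ e • z = c ^ e • 0
  rw [h, smul_zero]

end loc

section pres

variable {S : Type u} [CommRing S] {S' : Type v} [CommRing S'] [Algebra S S']
  {Q : Type w} {Q' : Type w'} [AddCommGroup Q] [AddCommGroup Q'] [Module S Q] [Module S Q']
  [Module S' Q'] [IsScalarTower S S' Q']

theorem PresAway_of_isLocalizedModule (c : S) [IsLocalization.Away c S'] (φ : Q →ₗ[S] Q')
    [IsLocalizedModule (Submonoid.powers c) φ] {n r : ℕ} (h : HasPres S' Q' n r) :
    PresAway S Q c n r := by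
  classical
  obtain ⟨y, t', hy, ht', hv'⟩ := h
  have : IsLocalizedModule (Submonoid.powers c) (Algebra.linearMap S S') :=
    (isLocalizedModule_iff_isLocalization).2 inferInstance
  have hsm : ∀ (s : S) (z : Q'), s • z = algebraMap S S' s • z := fun s z =>
    (algebraMap_smul S' s z).symm
  -- (1) the generators
  obtain ⟨q, E, hq⟩ := exists_pow_smul_eq_family c φ y
  -- (2) the relations
  obtain ⟨t0, D, ht0⟩ := exists_pow_smul_eq_family c (Algebra.linearMap S S')
    (fun p : Fin r × Fin n => t' p.1 p.2)
  have ht0' : ∀ l a, algebraMap S S' (t0 (l, a)) = algebraMap S S' (c ^ D) * t' l a := by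
    intro l a
    have := ht0 (l, a)
    rw [Algebra.linearMap_apply, Algebra.smul_def] at this
    exact this
  have hR : ∀ l, φ (∑ a, t0 (l, a) • q a) = 0 := by
    intro l
    rw [map_sum]
    have h1 : ∀ a, φ (t0 (l, a) • q a) = (algebraMap S S' (c ^ D) * algebraMap S S' (c ^ E)) •
        (t' l a • y a) := by
      intro a
      rw [map_smul, hq a, hsm (t0 (l, a)), ht0' l a, hsm (c ^ E), smul_smul, smul_smul]
      congr 1
      ring
    simp_rw [h1]
    rw [← Finset.smul_sum, ht' l, smul_zero]
  have hR' : ∀ l, ∃ e : ℕ, c ^ e • (∑ a, t0 (l, a) • q a) = 0 := by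
    intro l
    obtain ⟨e, he⟩ := exists_pow_smul_eq_of_map_eq c φ ((hR l).trans (map_zero φ).symm)
    exact ⟨e, by rw [he, smul_zero]⟩
  choose eR heR using hR'
  let e' : ℕ := ∑ l, eR l
  have he' : ∀ l, c ^ e' • (∑ a, t0 (l, a) • q a) = 0 := by
    intro l
    have hle : eR l ≤ e' := Finset.single_le_sum (f := eR) (fun _ _ => Nat.zero_le _)
      (Finset.mem_univ l)
    rw [← Nat.sub_add_cancel hle, pow_add, mul_smul, heR l, smul_zero]
  refine ⟨q, fun l a => c ^ e' * t0 (l, a), ?_, ?_, ?_⟩
  · -- generation away from `c`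
    intro x
    have hx : φ x ∈ span S' (Set.range y) := by rw [hy]; trivial
    obtain ⟨s', hs'⟩ := (Submodule.mem_span_range_iff_exists_fun S').1 hx
    obtain ⟨s0, D', hs0⟩ := exists_pow_smul_eq_family c (Algebra.linearMap S S') s'
    have hs0' : ∀ a, algebraMap S S' (s0 a) = algebraMap S S' (c ^ D') * s' a := by
      intro a
      have := hs0 a
      rw [Algebra.linearMap_apply, Algebra.smul_def] at this
      exact this
    have h2 : φ (c ^ (D' + E) • x) = φ (∑ a, s0 a • q a) := by
      rw [map_smul, ← hs', map_sum, Finset.smul_sum]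
      refine Finset.sum_congr rfl fun a _ => ?_
      rw [map_smul, hq a, hsm (s0 a), hs0' a, hsm (c ^ E), hsm (c ^ (D' + E))]
      simp only [smul_smul]
      congr 1
      rw [pow_add, map_mul]
      ring
    obtain ⟨e, he⟩ := exists_pow_smul_eq_of_map_eq c φ h2
    refine ⟨e + (D' + E), ?_⟩
    rw [pow_add, mul_smul, he]
    exact Submodule.smul_mem _ _ (Submodule.sum_mem _ fun a _ =>
      Submodule.smul_mem _ _ (Submodule.subset_span ⟨a, rfl⟩))
  · intro l
    simp_rw [mul_smul]
    rw [← Finset.smul_sum]
    exact he' l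
  · intro v hv
    have h1 : c ^ E • (∑ a, algebraMap S S' (v a) • y a) = 0 := by
      have := congrArg φ hv
      rw [map_sum, map_zero] at this
      rw [Finset.smul_sum, ← this]
      refine Finset.sum_congr rfl fun a _ => ?_
      rw [map_smul, hq a, hsm (v a), smul_comm]
    have h2 := eq_zero_of_pow_smul_eq_zero c φ h1
    have h3 := hv' (fun a => algebraMap S S' (v a)) h2
    obtain ⟨w', hw'⟩ := (Submodule.mem_span_range_iff_exists_fun S').1 h3
    obtain ⟨w0, D'', hw0⟩ := exists_pow_smul_eq_family c (Algebra.linearMap S S') w'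
    have hw0' : ∀ l, algebraMap S S' (w0 l) = algebraMap S S' (c ^ D'') * w' l := by
      intro l
      have := hw0 l
      rw [Algebra.linearMap_apply, Algebra.smul_def] at this
      exact this
    have h4 : ∀ a, algebraMap S S' (c ^ (D'' + e' + D) * v a) =
        algebraMap S S' (∑ l, w0 l * (c ^ e' * t0 (l, a))) := by
      intro a
      have hva : algebraMap S S' (v a) = ∑ l, w' l * t' l a := by
        have := congrFun hw' a
        simpa [Finset.sum_apply] using this.symm
      rw [map_mul, hva, map_sum, Finset.mul_sum]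
      refine Finset.sum_congr rfl fun l _ => ?_
      rw [map_mul, map_mul, hw0' l, ht0' l a, pow_add, pow_add, map_mul, map_mul]
      ring
    have h5 : ∀ a, ∃ e : ℕ, c ^ e * (c ^ (D'' + e' + D) * v a) =
        c ^ e * (∑ l, w0 l * (c ^ e' * t0 (l, a))) := by
      intro a
      obtain ⟨⟨_, e, rfl⟩, he⟩ := IsLocalization.exists_of_eq (M := Submonoid.powers c) (h4 a)
      exact ⟨e, he⟩
    choose e5 he5 using h5
    let e'' : ℕ := ∑ a, e5 a
    refine ⟨e'' + (D'' + e' + D), ?_⟩
    have h6 : c ^ (e'' + (D'' + e' + D)) • v = ∑ l, (c ^ e'' * w0 l) • (fun a => c ^ e' * t0 (l, a)) := by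
      ext a
      have hle : e5 a ≤ e'' := Finset.single_le_sum (f := e5) (fun _ _ => Nat.zero_le _)
        (Finset.mem_univ a)
      simp only [Pi.smul_apply, smul_eq_mul, Finset.sum_apply]
      rw [pow_add, mul_assoc, ← Nat.sub_add_cancel hle, pow_add, mul_assoc, he5 a, Finset.mul_sum,
        Finset.mul_sum]
      refine Finset.sum_congr rfl fun l _ => ?_
      ring
    rw [h6]
    exact Submodule.sum_mem _ fun l _ => Submodule.smul_mem _ _ (Submodule.subset_span ⟨l, rfl⟩)

end pres

section schanuel
variable {S : Type u} [CommRing S] {Q : Type w} [AddCommGroup Q] [Module S Q]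

theorem PresAway.genAway {c : S} {n r : ℕ} (h : PresAway S Q c n r) : GenAway S Q c n := by
  classical
  obtain ⟨q, t, h1, -, -⟩ := h
  refine ⟨Finset.univ.image q, ?_, ?_⟩
  · exact Finset.card_image_le.trans (by simp)
  · intro x
    obtain ⟨e, he⟩ := h1 x
    exact ⟨e, by simpa [Finset.coe_image] using he⟩

theorem GenAway.quotient {c : S} {N : ℕ} (h : GenAway S Q c N) (P : Submodule S Q) :
    GenAway S (Q ⧸ P) c N := by
  classical
  obtain ⟨T, hT, h1⟩ := h
  refine ⟨T.image P.mkQ, Finset.card_image_le.trans hT, ?_⟩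
  intro x
  obtain ⟨x, rfl⟩ := P.mkQ_surjective x
  obtain ⟨e, he⟩ := h1 x
  refine ⟨e, ?_⟩
  rw [← map_smul]
  have := Submodule.apply_mem_span_image_of_mem_span P.mkQ he
  simpa [Finset.coe_image] using this

theorem genAway_ker {c : S} {n r n' : ℕ} (h : PresAway S Q c n r) (p : Fin n' → Q)
    (hp : span S (Set.range p) = ⊤) :
    GenAway S (LinearMap.ker (Fintype.linearCombination S p)) c (r + n') := by
  classical
  obtain ⟨q, t, h1, h2, h3⟩ := h
  set π := Fintype.linearCombination S p with hπ
  have hπa : ∀ v, π v = ∑ b, v b • p b := fun v => Fintype.linearCombination_apply S p v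
  have hα : ∀ b, ∃ e, ∃ α : Fin n → S, c ^ e • p b = ∑ a, α a • q a := by
    intro b
    obtain ⟨e, he⟩ := h1 (p b)
    obtain ⟨α, hα⟩ := (Submodule.mem_span_range_iff_exists_fun S).1 he
    exact ⟨e, α, hα.symm⟩
  choose eα α0 hα0 using hα
  let e := ∑ b, eα b
  let α : Fin n' → Fin n → S := fun b a => c ^ (e - eα b) * α0 b a
  have hαe : ∀ b, c ^ e • p b = ∑ a, α b a • q a := by
    intro b
    have hle : eα b ≤ e := Finset.single_le_sum (f := eα) (fun _ _ => Nat.zero_le _)
      (Finset.mem_univ b)
    calc c ^ e • p b = c ^ (e - eα b) • (c ^ eα b • p b) := by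
          rw [smul_smul, ← pow_add, Nat.sub_add_cancel hle]
      _ = ∑ a, α b a • q a := by
          rw [hα0 b, Finset.smul_sum]
          simp_rw [α, mul_smul]
  have hβ : ∀ a, ∃ β : Fin n' → S, π β = q a := by
    intro a
    have : q a ∈ span S (Set.range p) := by rw [hp]; trivial
    obtain ⟨β, hβ⟩ := (Submodule.mem_span_range_iff_exists_fun S).1 this
    exact ⟨β, (hπa β).trans hβ⟩
  choose β hβ using hβ
  let k : Fin r → (Fin n' → S) := fun l => ∑ a, t l a • β a
  let k' : Fin n' → (Fin n' → S) := fun b => c ^ e • Pi.single b 1 - ∑ a, α b a • β a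
  have hk : ∀ l, π (k l) = 0 := by
    intro l
    simp only [k, map_sum, map_smul, hβ]
    exact h2 l
  have hk' : ∀ b, π (k' b) = 0 := by
    intro b
    have hs : π (Pi.single b 1) = p b := by
      rw [hπ, Fintype.linearCombination_apply_single, one_smul]
    simp only [k', map_sub, map_smul, map_sum, hβ, hs]
    rw [hαe b, sub_self]
  let kk : Fin r → LinearMap.ker π := fun l => ⟨k l, hk l⟩
  let kk' : Fin n' → LinearMap.ker π := fun b => ⟨k' b, hk' b⟩
  refine ⟨Finset.univ.image kk ∪ Finset.univ.image kk', ?_, ?_⟩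
  · refine (Finset.card_union_le _ _).trans (add_le_add ?_ ?_) <;>
      exact Finset.card_image_le.trans (by simp)
  · rintro ⟨x, hx⟩
    let v : Fin n → S := fun a => ∑ b, x b * α b a
    have hv : ∑ a, v a • q a = 0 := by
      have : c ^ e • π x = ∑ a, v a • q a := by
        rw [hπa, Finset.smul_sum]
        simp_rw [smul_comm (c ^ e), hαe, Finset.smul_sum, smul_smul]
        rw [Finset.sum_comm]
        simp_rw [v, Finset.sum_smul]
      rw [← this, LinearMap.mem_ker.1 hx, smul_zero]
    obtain ⟨d, hd⟩ := h3 v hv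
    obtain ⟨w, hw⟩ := (Submodule.mem_span_range_iff_exists_fun S).1 hd
    refine ⟨d + e, ?_⟩
    have hA : ∑ b, (c ^ d * x b) • (c ^ e • (Pi.single b 1 : Fin n' → S)) = c ^ (d + e) • x := by
      ext j
      simp only [Finset.sum_apply, Pi.smul_apply, smul_eq_mul, Pi.single_apply]
      rw [Finset.sum_eq_single j]
      · simp only [if_true]; rw [pow_add]; ring
      · intro b _ hb
        rw [if_neg (Ne.symm hb)]; ring
      · intro h; exact absurd (Finset.mem_univ j) h
    have hB : ∑ b, (c ^ d * x b) • ∑ a, α b a • β a = ∑ a, (c ^ d * v a) • β a := by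
      simp_rw [Finset.smul_sum, smul_smul]
      rw [Finset.sum_comm]
      refine Finset.sum_congr rfl fun a _ => ?_
      rw [← Finset.sum_smul]
      congr 1
      simp only [v, Finset.mul_sum, mul_assoc]
    have hC : ∑ l, w l • ∑ a, t l a • β a = ∑ a, (c ^ d * v a) • β a := by
      simp_rw [Finset.smul_sum, smul_smul]
      rw [Finset.sum_comm]
      refine Finset.sum_congr rfl fun a _ => ?_
      rw [← Finset.sum_smul]
      congr 1
      have := congrFun hw a
      simpa [Finset.sum_apply] using this
    have key : c ^ (d + e) • x = ∑ b, (c ^ d * x b) • k' b + ∑ l, w l • k l := by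
      simp only [k', k, smul_sub, Finset.sum_sub_distrib]
      rw [hA, hB, hC, sub_add_cancel]
    have hmem : (c ^ (d + e) • (⟨x, hx⟩ : LinearMap.ker π)) =
        ∑ b, (c ^ d * x b) • kk' b + ∑ l, w l • kk l := by
      apply Subtype.ext
      simp only [Submodule.coe_smul, Submodule.coe_add, Submodule.coe_sum, kk, kk']
      exact key
    rw [hmem]
    refine Submodule.add_mem _
      (Submodule.sum_mem _ fun b _ => Submodule.smul_mem _ _ (Submodule.subset_span ?_))
      (Submodule.sum_mem _ fun l _ => Submodule.smul_mem _ _ (Submodule.subset_span ?_))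
    · simp
    · simp

end schanuel

section cover
variable {S : Type u} [CommRing S]

theorem exists_generators_of_cover {J : Type*} (t : Finset J) (I : J → Ideal S) (N : ℕ) :
    ∀ (Q : Type w) [AddCommGroup Q] [Module S Q] [Module.Finite S Q],
      (∀ j ∈ t, ∀ c ∈ I j, GenAway S Q c N) → Module.annihilator S Q ⊔ t.sup I = ⊤ →
      ∃ T : Finset Q, T.card ≤ t.card * N ∧ span S (T : Set Q) = ⊤ := by
  classical
  induction t using Finset.induction_on with
  | empty =>
    intro Q _ _ _ _ h
    rw [Finset.sup_empty, sup_bot_eq] at h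
    refine ⟨∅, by simp, ?_⟩
    rw [eq_top_iff]
    rintro x -
    have h1 : (1 : S) ∈ Module.annihilator S Q := by rw [h]; trivial
    have hx : x = 0 := by
      rw [← one_smul S x]; exact Module.mem_annihilator.1 h1 x
    rw [hx]; exact Submodule.zero_mem _
  | insert j t hj ih =>
    intro Q _ _ _ hgen hcov
    rw [Finset.sup_insert] at hcov
    have h1 : (1 : S) ∈ (Module.annihilator S Q ⊔ t.sup I) ⊔ I j := by
      rw [sup_assoc, sup_comm (t.sup I) (I j), hcov]
      trivial
    obtain ⟨a, ha, c, hc, hac⟩ := Submodule.mem_sup.1 h1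
    obtain ⟨T0, hT0, hT0'⟩ := hgen j (Finset.mem_insert_self j t) c hc
    let P : Submodule S Q := span S (T0 : Set Q)
    have hkill : ∃ e : ℕ, c ^ e ∈ Module.annihilator S (Q ⧸ P) := by
      obtain ⟨G, hG⟩ := (Module.Finite.fg_top : (⊤ : Submodule S (Q ⧸ P)).FG)
      have : ∀ g : Q ⧸ P, ∃ e : ℕ, c ^ e • g = 0 := by
        intro g
        obtain ⟨x, rfl⟩ := P.mkQ_surjective g
        obtain ⟨e, he⟩ := hT0' x
        refine ⟨e, ?_⟩
        rw [← map_smul, Submodule.mkQ_apply, Submodule.Quotient.mk_eq_zero]
        exact he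
      choose e he using this
      refine ⟨∑ g ∈ G, e g, ?_⟩
      rw [Module.mem_annihilator]
      intro z
      have hz : z ∈ span S (G : Set (Q ⧸ P)) := by rw [hG]; trivial
      induction hz using Submodule.span_induction with
      | mem g hg =>
        have hle : e g ≤ ∑ g ∈ G, e g :=
          Finset.single_le_sum (f := e) (fun _ _ => Nat.zero_le _) hg
        rw [← Nat.sub_add_cancel hle, pow_add, mul_smul, he g, smul_zero]
      | zero => exact smul_zero _
      | add x y _ _ hx hy => rw [smul_add, hx, hy, add_zero]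
      | smul s x _ hx => rw [smul_comm, hx, smul_zero]
    obtain ⟨e, he⟩ := hkill
    have hann : Module.annihilator S Q ≤ Module.annihilator S (Q ⧸ P) := by
      intro s hs
      rw [Module.mem_annihilator] at hs ⊢
      intro z
      obtain ⟨x, rfl⟩ := P.mkQ_surjective z
      rw [← map_smul, hs x, map_zero]
    have hcov' : Module.annihilator S (Q ⧸ P) ⊔ t.sup I = ⊤ := by
      rw [Ideal.eq_top_iff_one]
      have hcop : IsCoprime a (c ^ e) := by
        have : IsCoprime a c := ⟨1, 1, by rw [one_mul, one_mul, hac]⟩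
        exact this.pow_right
      obtain ⟨u, v, huv⟩ := hcop
      rw [← huv]
      refine Submodule.add_mem _ (Ideal.mul_mem_left _ u ?_)
        (Ideal.mul_mem_left _ v (Submodule.mem_sup_left he))
      exact (sup_le_sup_right hann _) ha
    obtain ⟨T', hT', hspan'⟩ := ih (Q ⧸ P)
      (fun j' hj' c' hc' => (hgen j' (Finset.mem_insert_of_mem hj') c' hc').quotient P) hcov'
    let σ : Q ⧸ P → Q := Function.surjInv P.mkQ_surjective
    have hσ : ∀ z, P.mkQ (σ z) = z := Function.surjInv_eq P.mkQ_surjective
    refine ⟨T0 ∪ T'.image σ, ?_, ?_⟩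
    · rw [Finset.card_insert_of_notMem hj]
      calc (T0 ∪ T'.image σ).card ≤ T0.card + (T'.image σ).card := Finset.card_union_le _ _
        _ ≤ N + t.card * N := add_le_add hT0 (Finset.card_image_le.trans hT')
        _ = (t.card + 1) * N := by ring
    · have hPW : P ≤ span S ((T0 ∪ T'.image σ : Finset Q) : Set Q) :=
        Submodule.span_mono (by rw [Finset.coe_union]; exact Set.subset_union_left)
      have hmap : (span S ((T0 ∪ T'.image σ : Finset Q) : Set Q)).map P.mkQ = ⊤ := by
        rw [eq_top_iff, ← hspan', Submodule.span_le]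
        intro z hz
        refine ⟨σ z, Submodule.subset_span ?_, hσ z⟩
        rw [Finset.coe_union, Finset.coe_image]
        exact Or.inr ⟨z, hz, rfl⟩
      rw [eq_top_iff]
      rintro x -
      have hx1 : P.mkQ x ∈ (span S ((T0 ∪ T'.image σ : Finset Q) : Set Q)).map P.mkQ := by
        rw [hmap]; trivial
      obtain ⟨x', hx', hxx'⟩ := hx1
      have hx2 : x - x' ∈ P := by
        rw [← Submodule.ker_mkQ P, LinearMap.mem_ker, map_sub, hxx', sub_self]
      have := Submodule.add_mem _ (hPW hx2) hx'
      rwa [sub_add_cancel] at this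

end cover

section pi

theorem finitePresentation_pi {ι : Type*} (R : ι → Type*) [∀ i, CommRing (R i)] (P : ι → Type*)
    [∀ i, AddCommGroup (P i)] [∀ i, Module (R i) (P i)] (n r : ℕ)
    (h : ∀ i, ∃ (q : Fin n → P i) (t : Fin r → (Fin n → R i)), span (R i) (Set.range q) = ⊤ ∧
      (∀ l, ∑ a, t l a • q a = 0) ∧
      ∀ v : Fin n → R i, ∑ a, v a • q a = 0 → v ∈ span (R i) (Set.range t)) :
    Module.FinitePresentation (∀ i, R i) (∀ i, P i) := by
  classical
  choose q t hq ht hv using h
  let y : Fin n → (∀ i, P i) := fun a i => q i a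
  let π : (Fin n → ∀ i, R i) →ₗ[∀ i, R i] (∀ i, P i) := Fintype.linearCombination (∀ i, R i) y
  have hπ : ∀ v i, π v i = ∑ a, v a i • q i a := by
    intro v i
    simp [π, Fintype.linearCombination_apply, Finset.sum_apply, y]
  refine Module.finitePresentation_of_free_of_surjective π ?_ ?_
  · intro z
    have : ∀ i, ∃ v : Fin n → R i, ∑ a, v a • q i a = z i := by
      intro i
      have : z i ∈ span (R i) (Set.range (q i)) := by rw [hq i]; trivial
      exact (Submodule.mem_span_range_iff_exists_fun (R i)).1 this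
    choose v hv' using this
    refine ⟨fun a i => v i a, ?_⟩
    ext i
    rw [hπ]; exact hv' i
  · let T : Fin r → (Fin n → ∀ i, R i) := fun l a i => t i l a
    have hker : LinearMap.ker π = span (∀ i, R i) (Set.range T) := by
      apply le_antisymm
      · intro v hv0
        rw [LinearMap.mem_ker] at hv0
        have : ∀ i, ∃ w : Fin r → R i, ∑ l, w l • t i l = fun a => v a i := by
          intro i
          have h0 : ∑ a, v a i • q i a = 0 := by rw [← hπ, hv0]; rfl
          exact (Submodule.mem_span_range_iff_exists_fun (R i)).1 (hv i _ h0)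
        choose w hw using this
        have hvT : v = ∑ l, (fun i => w i l) • T l := by
          ext a i
          have := congrFun (hw i) a
          simp only [Finset.sum_apply, Pi.smul_apply, smul_eq_mul] at this
          simp only [Finset.sum_apply, Pi.smul_apply, smul_eq_mul, T, Pi.mul_apply]
          exact this.symm
        rw [hvT]
        exact Submodule.sum_mem _ fun l _ => Submodule.smul_mem _ _ (Submodule.subset_span ⟨l, rfl⟩)
      · rw [Submodule.span_le]
        rintro _ ⟨l, rfl⟩
        rw [SetLike.mem_coe, LinearMap.mem_ker]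
        ext i
        rw [hπ]
        exact ht i l
    rw [hker]
    exact Submodule.fg_span (Set.finite_range T)

end pi

section misc
variable {S : Type u} [CommRing S] {Q : Type w} [AddCommGroup Q] [Module S Q]

theorem GenAway.mono {c : S} {N N' : ℕ} (hN : N ≤ N') (h : GenAway S Q c N) : GenAway S Q c N' := by
  obtain ⟨T, hT, h1⟩ := h
  exact ⟨T, hT.trans hN, h1⟩

/-- a finite generating set of cardinality at most `n` gives a generating family indexed by `Fin n`. -/
theorem exists_fin_of_finset (T : Finset Q) (n : ℕ) (hT : T.card ≤ n)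
    (hspan : span S (T : Set Q) = ⊤) : ∃ q : Fin n → Q, span S (Set.range q) = ⊤ := by
  classical
  let e := T.equivFin
  refine ⟨fun a => if h : (a : ℕ) < T.card then ((e.symm ⟨a, h⟩ : T) : Q) else 0, ?_⟩
  rw [eq_top_iff, ← hspan]
  refine Submodule.span_mono ?_
  intro x hx
  refine ⟨Fin.castLE hT (e ⟨x, hx⟩), ?_⟩
  have h : ((Fin.castLE hT (e ⟨x, hx⟩) : Fin n) : ℕ) < T.card := (e ⟨x, hx⟩).2
  simp only [h, dif_pos]
  have : (⟨((Fin.castLE hT (e ⟨x, hx⟩) : Fin n) : ℕ), h⟩ : Fin T.card) = e ⟨x, hx⟩ := Fin.ext rfl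
  rw [this, Equiv.symm_apply_apply]

end misc

end Groth.Agent.Lib.Helper26.CoverGen
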