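import Mathlib
import Groth.Prelude.Def_Red
import Groth.Prelude.Def_AlgGrp
import Groth.Agent.Lib.Helper26Closure2
import Groth.Agent.S18082
import Groth.Agent.S3022
import Groth.Agent.S13044
import Groth.Agent.S19202
import Groth.Agent.Lib.Helper3AbHom
import Groth.Agent.Lib.Helper11FlatClosure

/-!
Specialisation of closed subgroups over a discrete valuation ring (helper26).

`dvr_step`: for `a : Spec R ⟶ S₁` a monomorphism, `R` a DVR with fraction field `K`, `κ` a field
with a surjection `R → κ`, and `G` a flat group locally of finite presentation over `S₁`: a closed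
subgroup of `G ×_{S₁} Spec K` of dimension `d` (plain / normal / with trivial `n`-th term of the
derived or lower central series) gives one of `G ×_{S₁} Spec κ`.
-/

set_option autoImplicit false
universe u
open CategoryTheory MonoidalCategory CartesianMonoidalCategory MonObj GrpObj AlgebraicGeometry
  CategoryTheory.Limits

namespace Groth.Agent.Lib.Helper26.DvrSpec

open Groth.Agent.Lib.Helper26.BcTrans
open Groth.Agent.Lib.Helper26.Closure2

section dim

theorem dim_pullback_eq_preimage {X S T : Scheme.{u}} (f : X ⟶ S)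
    (g : T ⟶ S) [IsPreimmersion g] (s : S) (hs : Set.range g = {s}) :
    topologicalKrullDim ↥(pullback f g) = topologicalKrullDim ↥(f.base ⁻¹' {s}) := by
  have hemb := (pullback.fst f g).isEmbedding
  have hr : Set.range (pullback.fst f g) = f.base ⁻¹' {s} := by
    rw [Scheme.Pullback.range_fst, hs]
  rw [← hr]
  exact IsHomeomorph.topologicalKrullDim_eq _ hemb.toHomeomorph.isHomeomorph

theorem dim_const {S : Scheme.{u}} [PreconnectedSpace S] (H : Over S) [GrpObj H] [Flat H.hom]
    [LocallyOfFinitePresentation H.hom] {T₁ T₂ : Scheme.{u}} [Unique T₁] [Unique T₂]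
    (g₁ : T₁ ⟶ S) (g₂ : T₂ ⟶ S) [IsPreimmersion g₁] [IsPreimmersion g₂] :
    topologicalKrullDim ↥(pullback H.hom g₁) = topologicalKrullDim ↥(pullback H.hom g₂) := by
  rw [dim_pullback_eq_preimage H.hom g₁ (g₁ default) Set.range_unique,
    dim_pullback_eq_preimage H.hom g₂ (g₂ default) Set.range_unique]
  exact (Groth.Agent.S3022.result S H).apply_eq_of_preconnectedSpace _ _

end dim

/-- the kind of subgroup considered. -/
inductive Kind : Type
  | plain : Kind
  | normal : Kind
  | ser (b : Bool) (n : ℕ) : Kind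

/-- the extra property of a subgroup `i : H ⟶ G'`. -/
def KP (kd : Kind) {S : Scheme.{u}} {H G' : Over S} [GrpObj H] [GrpObj G'] (i : H ⟶ G') : Prop :=
  match kd with
  | .plain => True
  | .normal => AlgGrp.IsNormalHom i
  | .ser b n => Ser H b n

theorem KP.res (kd : Kind) {S₁ S' S'' : Scheme.{u}} (r : S'' ⟶ S') (b : S' ⟶ S₁) (G : Over S₁)
    [GrpObj G] (H : Over S') [GrpObj H] (j : H ⟶ Red.bc b G) [IsMonHom j] (h : KP kd j) :
    KP kd (resHom r b G H j) := by
  cases kd with
  | plain => exact trivial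
  | normal => exact isNormalHom_resHom r b G H j h
  | ser bb n => exact Ser.bc r H h

/-- `G ×_{S₁} Spec F` has a closed subgroup of dimension `d` of the given kind. -/
def Has (kd : Kind) {S₁ : Scheme.{u}} (G : Over S₁) [GrpObj G] (d : ℕ) {F : Type u} [Field F]
    (t : Spec (CommRingCat.of F) ⟶ S₁) : Prop :=
  ∃ (H : Over (Spec (CommRingCat.of F))) (_ : GrpObj H) (i : H ⟶ Red.bc t G),
    IsMonHom i ∧ IsClosedImmersion i.left ∧ KP kd i ∧
      topologicalKrullDim ↥H.left = (d : WithBot ℕ∞)

theorem Has.of_iso {kd : Kind} {S₁ : Scheme.{u}} {G : Over S₁} [GrpObj G] {d : ℕ}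
    {F F' : Type u} [Field F] [Field F'] {t : Spec (CommRingCat.of F) ⟶ S₁}
    (ε : Spec (CommRingCat.of F') ⟶ Spec (CommRingCat.of F)) [IsIso ε]
    (h : Has kd G d t) : Has kd G d (ε ≫ t) := by
  obtain ⟨H, inst, i, h1, h2, h3, h4⟩ := h
  refine ⟨Red.bc ε H, inferInstance, resHom ε t G H i, inferInstance, inferInstance,
    KP.res kd ε t G H i h3, ?_⟩
  rw [← h4]
  exact IsHomeomorph.topologicalKrullDim_eq _ (pullback.fst H.hom ε).homeomorph.isHomeomorph

section genFibre

variable (R K : Type u) [CommRing R] [IsDomain R] [Field K] [Algebra R K] [IsFractionRing R K]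

lemma flat_tK : Flat (Spec.map (CommRingCat.ofHom (algebraMap R K))) := by
  rw [HasRingHomProperty.Spec_iff (P := @Flat), CommRingCat.hom_ofHom,
    RingHom.flat_algebraMap_iff]
  exact IsLocalization.flat K (nonZeroDivisors R)

lemma std_tK : IsSchemeTheoreticallyDominant (Spec.map (CommRingCat.ofHom (algebraMap R K))) :=
  Groth.Agent.S13044.isSchemeTheoreticallyDominant_specMap _ (IsFractionRing.injective R K)

lemma preimm_tK : IsPreimmersion (Spec.map (CommRingCat.ofHom (algebraMap R K))) :=
  IsPreimmersion.of_isLocalization (nonZeroDivisors R)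

end genFibre

/-- the schematic closure of a closed subgroup of the generic fibre, relative to `a`. -/
theorem exists_closure {S₁ : Scheme.{u}} (G : Over S₁) [GrpObj G]
    (R : Type u) [CommRing R] [IsDedekindDomain R] {T' : Scheme.{u}}
    (tK : T' ⟶ Spec (CommRingCat.of R)) [Flat tK] [IsSchemeTheoreticallyDominant tK] [Mono tK]
    [QuasiCompact tK] (a : Spec (CommRingCat.of R) ⟶ S₁) [Mono a]
    (HK : Over T') [GrpObj HK] [Flat HK.hom]
    (i : HK ⟶ Red.bc (tK ≫ a) G) [IsMonHom i] [IsClosedImmersion i.left] :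
    ∃ (H : Over (Spec (CommRingCat.of R))) (_ : GrpObj H) (j : H ⟶ Red.bc a G)
      (φ : HK.left ⟶ H.left),
      IsMonHom j ∧ IsClosedImmersion j.left ∧ Flat H.hom ∧ IsPullback φ HK.hom H.hom tK ∧
      φ ≫ j.left ≫ pullback.fst G.hom a = i.left ≫ pullback.fst G.hom (tK ≫ a) := by
  obtain ⟨pr, hpr⟩ : ∃ pr : pullback G.hom (tK ≫ a) ⟶ pullback G.hom a,
      pr = pullback.lift (pullback.fst G.hom (tK ≫ a)) (pullback.snd G.hom (tK ≫ a) ≫ tK)
        (by rw [pullback.condition, Category.assoc]) := ⟨_, rfl⟩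
  have hpr1 : pr ≫ pullback.fst G.hom a = pullback.fst G.hom (tK ≫ a) := by
    rw [hpr, pullback.lift_fst]
  have hpr2 : pr ≫ pullback.snd G.hom a = pullback.snd G.hom (tK ≫ a) ≫ tK := by
    rw [hpr, pullback.lift_snd]
  have hsq : IsPullback pr (pullback.snd G.hom (tK ≫ a)) (pullback.snd G.hom a) tK := by
    refine IsPullback.of_right ?_ hpr2 (IsPullback.of_hasPullback G.hom a)
    rw [hpr1]
    exact IsPullback.of_hasPullback G.hom (tK ≫ a)
  haveI : QuasiCompact pr :=
    MorphismProperty.of_isPullback (P := @QuasiCompact) hsq.flip inferInstance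
  obtain ⟨f₁, hf₁⟩ : ∃ f₁ : HK.left ⟶ pullback G.hom a, f₁ = i.left ≫ pr := ⟨_, rfl⟩
  haveI : QuasiCompact f₁ := by rw [hf₁]; infer_instance
  have hw : f₁ ≫ pullback.snd G.hom a = HK.hom ≫ tK := by
    rw [hf₁, Category.assoc, hpr2, ← Category.assoc]
    congr 1
    exact Over.w i
  have hHflat : Flat (f₁.imageι ≫ pullback.snd G.hom a) :=
    Groth.Agent.S19202.result R (HK.hom ≫ tK) (pullback.snd G.hom a) f₁ hw
  haveI hstd : IsSchemeTheoreticallyDominant f₁.toImage :=
    Groth.Agent.Lib.Helper11FlatClosure.toImage_dominant f₁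
  haveI : IsClosedImmersion
      (Over.homMk f₁.imageι rfl : Over.mk (f₁.imageι ≫ pullback.snd G.hom a) ⟶ Red.bc a G).left :=
    (inferInstance : IsClosedImmersion f₁.imageι)
  haveI : Flat (Over.mk (f₁.imageι ≫ pullback.snd G.hom a)).hom := hHflat
  haveI : QuasiCompact
      (f₁.toImage : HK.left ⟶ (Over.mk (f₁.imageι ≫ pullback.snd G.hom a)).left) :=
    (inferInstance : QuasiCompact f₁.toImage)
  have hφj : (f₁.toImage : HK.left ⟶ (Over.mk (f₁.imageι ≫ pullback.snd G.hom a)).left) ≫
      (Over.homMk f₁.imageι rfl :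
        Over.mk (f₁.imageι ≫ pullback.snd G.hom a) ⟶ Red.bc a G).left ≫
      pullback.fst G.hom a = i.left ≫ pullback.fst G.hom (tK ≫ a) := by
    change f₁.toImage ≫ f₁.imageι ≫ pullback.fst G.hom a = _
    rw [← Category.assoc, f₁.toImage_imageι, hf₁, Category.assoc, hpr1]
  have hφH : (f₁.toImage : HK.left ⟶ (Over.mk (f₁.imageι ≫ pullback.snd G.hom a)).left) ≫
      (Over.mk (f₁.imageι ≫ pullback.snd G.hom a)).hom = HK.hom ≫ tK := by
    change f₁.toImage ≫ f₁.imageι ≫ pullback.snd G.hom a = _
    rw [← Category.assoc, f₁.toImage_imageι, hw]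
  obtain ⟨⟨inst, hj⟩, hpb⟩ := Groth.Agent.Lib.Helper26.Closure.main a tK (tK ≫ a) rfl G HK i
    (Over.mk (f₁.imageι ≫ pullback.snd G.hom a)) (Over.homMk f₁.imageι rfl) f₁.toImage hφj hφH
  exact ⟨_, inst, _, _, hj, inferInstance, hHflat, hpb, hφj⟩

/-- triviality of a term of the derived / lower central series passes to the closure. -/
theorem ser_closure {S₁ : Scheme.{u}} (G : Over S₁) [GrpObj G] [IsSeparated G.hom]
    (R : Type u) [CommRing R] (K : Type u) [Field K] [Algebra R K]
    (hinj : Function.Injective (algebraMap R K))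
    (a : Spec (CommRingCat.of R) ⟶ S₁)
    (HK : Over (Spec (CommRingCat.of K))) [GrpObj HK]
    (i : HK ⟶ Red.bc (Spec.map (CommRingCat.ofHom (algebraMap R K)) ≫ a) G) [IsMonHom i]
    (H : Over (Spec (CommRingCat.of R))) [GrpObj H] (j : H ⟶ Red.bc a G) [IsMonHom j]
    [IsClosedImmersion j.left] [Flat H.hom] (φ : HK.left ⟶ H.left)
    (hφj : φ ≫ j.left ≫ pullback.fst G.hom a =
      i.left ≫ pullback.fst G.hom (Spec.map (CommRingCat.ofHom (algebraMap R K)) ≫ a))
    (hpb : IsPullback φ HK.hom H.hom (Spec.map (CommRingCat.ofHom (algebraMap R K))))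
    {bb : Bool} {n : ℕ} (hs : Ser HK bb n) : Ser H bb n := by
  haveI : IsSeparated (Red.bc a G).hom := (inferInstance : IsSeparated (pullback.snd G.hom a))
  haveI : IsSeparated H.hom := by rw [← Over.w j]; infer_instance
  haveI := isMonHom_cK a _ G HK i H j φ hφj hpb
  have h1 : Ser (Red.bc (Spec.map (CommRingCat.ofHom (algebraMap R K))) H) bb n :=
    Ser.of_mono (cK _ HK H φ hpb).inv hs
  intro T
  exact Groth.Agent.S18082.key R K hinj H bb n h1 T

/-- specialisation over a discrete valuation ring. -/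
theorem dvr_step (kd : Kind) {S₁ : Scheme.{u}} (G : Over S₁) [GrpObj G] [Flat G.hom]
    [LocallyOfFinitePresentation G.hom]
    (hsep : ∀ b n, kd = Kind.ser b n → IsSeparated G.hom) (d : ℕ)
    (R : Type u) [CommRing R] [IsDomain R] [IsDiscreteValuationRing R]
    (K : Type u) [Field K] [Algebra R K] [IsFractionRing R K]
    (κ : Type u) [Field κ] [Algebra R κ] (hκ : Function.Surjective (algebraMap R κ))
    (a : Spec (CommRingCat.of R) ⟶ S₁) [Mono a]
    (h : Has kd G d (Spec.map (CommRingCat.ofHom (algebraMap R K)) ≫ a)) :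
    Has kd G d (Spec.map (CommRingCat.ofHom (algebraMap R κ)) ≫ a) := by
  haveI := flat_tK R K
  haveI := std_tK R K
  haveI := preimm_tK R K
  haveI : IsClosedImmersion (Spec.map (CommRingCat.ofHom (algebraMap R κ))) :=
    IsClosedImmersion.spec_of_surjective _ hκ
  obtain ⟨HK, instK, i, hi1, hi2, hi3, hi4⟩ := h
  haveI hHKflat : Flat HK.hom :=
    Groth.Agent.Lib.Helper3.AbHom.flat_of_isField (K := CommRingCat.of K)
      (Field.toIsField _) HK.hom
  obtain ⟨H, instH, j, φ, hj1, hj2, hHflat, hpb, hφj⟩ :=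
    exists_closure G R (Spec.map (CommRingCat.ofHom (algebraMap R K))) a HK i
  haveI : LocallyOfFiniteType (Red.bc a G).hom :=
    (inferInstance : LocallyOfFiniteType (pullback.snd G.hom a))
  haveI : LocallyOfFiniteType H.hom := by rw [← Over.w j]; infer_instance
  haveI : LocallyOfFinitePresentation H.hom := inferInstance
  haveI : PreconnectedSpace ↥(Spec (CommRingCat.of R)) :=
    (inferInstance : PreconnectedSpace (PrimeSpectrum R))
  refine ⟨Red.bc (Spec.map (CommRingCat.ofHom (algebraMap R κ))) H, inferInstance,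
    resHom (Spec.map (CommRingCat.ofHom (algebraMap R κ))) a G H j, inferInstance, inferInstance,
    ?_, ?_⟩
  · refine KP.res kd _ a G H j ?_
    cases kd with
    | plain => exact trivial
    | normal =>
      exact isNormalHom_closure a (Spec.map (CommRingCat.ofHom (algebraMap R K))) G HK i H j φ
        hφj hpb hi3
    | ser bb n =>
      haveI := hsep bb n rfl
      exact ser_closure G R K (IsFractionRing.injective R K) a HK i H j φ hφj hpb hi3
  · rw [← hi4]
    have h1 : topologicalKrullDim ↥HK.left =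
        topologicalKrullDim ↥(pullback H.hom (Spec.map (CommRingCat.ofHom (algebraMap R K)))) :=
      IsHomeomorph.topologicalKrullDim_eq _ hpb.isoPullback.hom.homeomorph.isHomeomorph
    rw [h1]
    exact dim_const H _ _

end Groth.Agent.Lib.Helper26.DvrSpec
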