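import Mathlib

/-!
An `R`-algebra `A` is the filtered colimit of its finitely generated `R`-subalgebras; dually
`Spec A` is the cofiltered limit of the `Spec A₀` over `Spec R` (helper26).
-/

set_option autoImplicit false
universe u
open CategoryTheory Limits AlgebraicGeometry

namespace Groth.Agent.Lib.Helper26.FGR

variable (R : Type u) [CommRing R] (A : Type u) [CommRing A] [Algebra R A]

/-- Index category: finitely generated `R`-subalgebras. -/
abbrev FGSub := {S : Subalgebra R A // S.FG}

instance : Nonempty (FGSub R A) := ⟨⟨⊥, Subalgebra.fg_bot⟩⟩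

instance : IsDirected (FGSub R A) (· ≤ ·) :=
  ⟨fun S T => ⟨⟨S.1 ⊔ T.1, S.2.sup T.2⟩,
    (le_sup_left : S.1 ≤ S.1 ⊔ T.1), (le_sup_right : T.1 ≤ S.1 ⊔ T.1)⟩⟩

instance : IsFiltered (FGSub R A) := isFiltered_of_directed_le_nonempty _

/-- The diagram of finitely generated subalgebras. -/
noncomputable def ringDiagram : FGSub R A ⥤ CommRingCat.{u} where
  obj j := CommRingCat.of j.1
  map {j k} f := CommRingCat.ofHom (Subalgebra.inclusion (leOfHom f)).toRingHom
  map_id j := by
    ext x
    rfl
  map_comp f g := by
    ext x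
    rfl

/-- The cocone with point `A`. -/
noncomputable def ringCocone : Cocone (ringDiagram R A) where
  pt := CommRingCat.of A
  ι :=
    { app := fun j => CommRingCat.ofHom (algebraMap j.1 A)
      naturality := by
        intro j k f
        ext x
        rfl }

/-- `A` is the colimit of its finitely generated subalgebras. -/
noncomputable def ringIsColimit : IsColimit (ringCocone R A) := by
  have : ReflectsColimitsOfShape (FGSub R A) (forget CommRingCat.{u}) :=
    reflectsColimitsOfShape_of_reflectsIsomorphisms
  refine isColimitOfReflects (forget CommRingCat.{u}) ?_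
  refine Types.FilteredColimit.isColimitOf' _ _ ?_ ?_
  · intro a
    change A at a
    have hfg : (Algebra.adjoin R ({a} : Set A)).FG := by
      have := Subalgebra.fg_adjoin_finset (R := R) ({a} : Finset A)
      rwa [Finset.coe_singleton] at this
    exact ⟨⟨Algebra.adjoin R {a}, hfg⟩, ⟨a, Algebra.subset_adjoin rfl⟩, rfl⟩
  · intro i x y h
    exact ⟨i, 𝟙 i, congrArg _ (Subtype.ext h)⟩

/-- The diagram `A₀ ↦ Spec A₀`. -/
noncomputable def specDiagram : (FGSub R A)ᵒᵖ ⥤ Scheme.{u} := (ringDiagram R A).op ⋙ Scheme.Spec

/-- The cone with point `Spec A`. -/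
noncomputable def specCone : Cone (specDiagram R A) := Scheme.Spec.mapCone (ringCocone R A).op

/-- `Spec A` is the limit of the `Spec A₀`. -/
noncomputable def specIsLimit : IsLimit (specCone R A) :=
  isLimitOfPreserves Scheme.Spec (ringIsColimit R A).op

instance (i j : (FGSub R A)ᵒᵖ) (f : i ⟶ j) : IsAffineHom ((specDiagram R A).map f) := by
  show IsAffineHom (Spec.map _)
  infer_instance

instance (i : (FGSub R A)ᵒᵖ) : IsAffine ((specDiagram R A).obj i) := by
  show IsAffine (Spec _)
  infer_instance

lemma specCone_π_app (S : FGSub R A) :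
    (specCone R A).π.app (Opposite.op S) = Spec.map (CommRingCat.ofHom (algebraMap S.1 A)) := rfl

/-- the structure morphism of a stage to `Spec R`. -/
noncomputable def toBase (i : (FGSub R A)ᵒᵖ) :
    (specDiagram R A).obj i ⟶ Spec (CommRingCat.of R) :=
  Spec.map (CommRingCat.ofHom (algebraMap R i.unop.1))

lemma map_toBase {i j : (FGSub R A)ᵒᵖ} (f : i ⟶ j) :
    (specDiagram R A).map f ≫ toBase R A j = toBase R A i := by
  have h : CommRingCat.ofHom (algebraMap R j.unop.1) ≫ (ringDiagram R A).map f.unop =
      CommRingCat.ofHom (algebraMap R i.unop.1) := by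
    ext x
    rfl
  exact (Spec.map_comp (CommRingCat.ofHom (algebraMap R j.unop.1))
    ((ringDiagram R A).map f.unop)).symm.trans (congrArg Spec.map h)

lemma π_toBase (i : (FGSub R A)ᵒᵖ) :
    (specCone R A).π.app i ≫ toBase R A i = Spec.map (CommRingCat.ofHom (algebraMap R A)) := by
  have h : CommRingCat.ofHom (algebraMap R i.unop.1) ≫ CommRingCat.ofHom (algebraMap i.unop.1 A) =
      CommRingCat.ofHom (algebraMap R A) := by
    ext x
    rfl
  exact (Spec.map_comp (CommRingCat.ofHom (algebraMap R i.unop.1))
    (CommRingCat.ofHom (algebraMap i.unop.1 A))).symm.trans (congrArg Spec.map h)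

end Groth.Agent.Lib.Helper26.FGR
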