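import Mathlib
import Groth.Agent.Lib.Helper3IndEt

/-!
# Algebras as filtered colimits of finitely presented algebras (helper26)

Namespace `Groth.Agent.Lib.Helper26.FPColim`.

* `uObj`, `uHom`: objects / morphisms of `Under (CommRingCat.of R)` from algebras / algebra maps.
* `Idx R A`, `diag`, `cocone`, `isColimit_cocone`, `fp_diag`: every `R`-algebra `A` is the colimit of the filtered
  system of the f.p. algebras `R[X_s]/J` (`s` a finite subset of `A`, `J` a f.g. ideal of relations).
* `QIdx K`, `qdiag`, `qcocone`, `isColimit_qcocone`: for an ideal `K` of a ring `P`, `P/K` is the colimit of the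
  filtered system `P/J`, `J ≤ K` finitely generated (surjective transition maps).
-/

set_option autoImplicit false
set_option linter.unusedSectionVars false
universe u
open CategoryTheory CategoryTheory.Limits

namespace Groth.Agent.Lib.Helper26.FPColim

section under
variable (R : Type u) [CommRing R]

/-- an `R`-algebra as an object of `Under R`. -/
noncomputable def uObj (B : Type u) [CommRing B] [Algebra R B] : Under (CommRingCat.of R) :=
  Under.mk (CommRingCat.ofHom (algebraMap R B))

variable {R}

/-- an algebra map as a morphism of `Under R`. -/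
noncomputable def uHom {B B' : Type u} [CommRing B] [CommRing B'] [Algebra R B] [Algebra R B']
    (φ : B →ₐ[R] B') : uObj R B ⟶ uObj R B' :=
  Under.homMk (CommRingCat.ofHom φ.toRingHom) (by
    ext x
    exact φ.commutes x)

theorem uHom_right_apply {B B' : Type u} [CommRing B] [CommRing B'] [Algebra R B] [Algebra R B']
    (φ : B →ₐ[R] B') (x : B) : (uHom φ).right x = φ x := rfl

theorem uHom_id {B : Type u} [CommRing B] [Algebra R B] : uHom (AlgHom.id R B) = 𝟙 (uObj R B) := by
  ext x
  rfl

theorem uHom_comp {B B' B'' : Type u} [CommRing B] [CommRing B'] [CommRing B''] [Algebra R B]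
    [Algebra R B'] [Algebra R B''] (φ : B →ₐ[R] B') (ψ : B' →ₐ[R] B'') :
    uHom (ψ.comp φ) = uHom φ ≫ uHom ψ := by
  ext x
  rfl

end under

section quot
variable {R : Type u} [CommRing R] {P : Type u} [CommRing P] [Algebra R P] (K : Ideal P)

/-- finitely generated ideals contained in `K`. -/
abbrev QIdx : Type u := {J : Ideal P // J.FG ∧ J ≤ K}

instance : Nonempty (QIdx K) := ⟨⟨⊥, Submodule.fg_bot, bot_le⟩⟩

instance : IsDirected (QIdx K) (· ≤ ·) :=
  ⟨fun a b => ⟨⟨a.1 ⊔ b.1, Submodule.FG.sup a.2.1 b.2.1, sup_le a.2.2 b.2.2⟩, le_sup_left (a := a.1),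
    le_sup_right (b := b.1)⟩⟩

instance : IsFiltered (QIdx K) := isFiltered_of_directed_le_nonempty _

/-- the system `P/J`. -/
noncomputable def qdiag : QIdx K ⥤ Under (CommRingCat.of R) where
  obj J := uObj R (P ⧸ J.1)
  map {J J'} f := uHom (Ideal.Quotient.factorₐ R (leOfHom f))
  map_id J := by
    rw [← uHom_id]
    congr 1
    exact Ideal.Quotient.algHom_ext _ (by ext; rfl)
  map_comp {J J' J''} f g := by
    rw [← uHom_comp]
    congr 1
    exact Ideal.Quotient.algHom_ext _ (by ext; rfl)

/-- the cocone with vertex `P/K`. -/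
noncomputable def qcocone : Cocone (qdiag (R := R) K) where
  pt := uObj R (P ⧸ K)
  ι :=
    { app := fun J => uHom (Ideal.Quotient.factorₐ R J.2.2)
      naturality := fun J J' f => by
        refine Eq.trans ?_ (Category.comp_id _).symm
        show uHom _ ≫ uHom _ = uHom _
        rw [← uHom_comp]
        congr 1
        exact Ideal.Quotient.algHom_ext _ (by ext; rfl) }

theorem isColimit_qcocone : Nonempty (IsColimit (qcocone (R := R) K)) := by
  refine Groth.Agent.Lib.Helper3.IndEt.nonempty_isColimit_under _ _ ?_ ?_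
  · intro x
    obtain ⟨p, rfl⟩ := Ideal.Quotient.mk_surjective x
    exact ⟨⟨⊥, Submodule.fg_bot, bot_le⟩, Ideal.Quotient.mk _ p, rfl⟩
  · intro J y hy
    obtain ⟨p, rfl⟩ := Ideal.Quotient.mk_surjective y
    have hp : p ∈ K := Ideal.Quotient.eq_zero_iff_mem.1 hy
    refine ⟨⟨J.1 ⊔ Ideal.span {p}, Submodule.FG.sup J.2.1 (Submodule.fg_span_singleton p),
      sup_le J.2.2 ((Ideal.span_singleton_le_iff_mem _).2 hp)⟩, homOfLE (le_sup_left (a := J.1)), ?_⟩
    exact Ideal.Quotient.eq_zero_iff_mem.2
      (Ideal.mem_sup_right (Ideal.subset_span (Set.mem_singleton p)))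

theorem qdiag_map_surjective {J J' : QIdx K} (f : J ⟶ J') :
    Function.Surjective ((qdiag (R := R) K).map f).right.hom :=
  Ideal.Quotient.factor_surjective (leOfHom f)

end quot

section general
variable (R A : Type u) [CommRing R] [CommRing A] [Algebra R A]

/-- the polynomial ring on a finite subset of `A`. -/
abbrev Pol (s : Finset A) : Type u := MvPolynomial {x : A // x ∈ s} R

/-- evaluation `R[X_s] → A`. -/
noncomputable def ev (s : Finset A) : Pol R A s →ₐ[R] A := MvPolynomial.aeval (fun x => (x : A))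

variable {A} in
/-- inclusion of variables. -/
def incl {s s' : Finset A} (h : s ⊆ s') : {x : A // x ∈ s} → {x : A // x ∈ s'} := fun x => ⟨x.1, h x.2⟩

/-- renaming along an inclusion. -/
noncomputable def ren {s s' : Finset A} (h : s ⊆ s') : Pol R A s →ₐ[R] Pol R A s' :=
  MvPolynomial.rename (incl h)

theorem ev_comp_ren {s s' : Finset A} (h : s ⊆ s') : (ev R A s').comp (ren R A h) = ev R A s := by
  apply MvPolynomial.algHom_ext
  intro x
  simp [ev, ren, incl]

theorem ev_ren {s s' : Finset A} (h : s ⊆ s') (p : Pol R A s) : ev R A s' (ren R A h p) = ev R A s p :=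
  DFunLike.congr_fun (ev_comp_ren R A h) p

theorem ren_refl (s : Finset A) : ren R A (subset_refl s) = AlgHom.id R _ := by
  apply MvPolynomial.algHom_ext
  intro x
  simp [ren, incl]

theorem ren_trans {s s' s'' : Finset A} (h : s ⊆ s') (h' : s' ⊆ s'') :
    (ren R A h').comp (ren R A h) = ren R A (h.trans h') := by
  apply MvPolynomial.algHom_ext
  intro x
  simp [ren, incl]

/-- the index: a finite subset and a finitely generated ideal of relations. -/
structure Idx where
  /-- the generators -/
  s : Finset A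
  /-- the relations -/
  J : Ideal (Pol R A s)
  fg : J.FG
  le_ker : J ≤ RingHom.ker (ev R A s)

variable {R A}

instance : Preorder (Idx R A) where
  le a b := ∃ h : a.s ⊆ b.s, Ideal.map (ren R A h) a.J ≤ b.J
  le_refl a := ⟨subset_refl _, by rw [ren_refl]; exact (Ideal.map_id _).le⟩
  le_trans a b c := by
    rintro ⟨h, hJ⟩ ⟨h', hJ'⟩
    refine ⟨h.trans h', ?_⟩
    rw [← ren_trans R A h h']
    have : Ideal.map ((ren R A h').comp (ren R A h)) a.J =
        Ideal.map (ren R A h') (Ideal.map (ren R A h) a.J) := (Ideal.map_map _ _).symm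
    rw [this]
    exact (Ideal.map_mono hJ).trans hJ'

theorem map_le_ker {s s' : Finset A} (h : s ⊆ s') (J : Ideal (Pol R A s))
    (hJ : J ≤ RingHom.ker (ev R A s)) : Ideal.map (ren R A h) J ≤ RingHom.ker (ev R A s') := by
  rw [Ideal.map_le_iff_le_comap]
  intro p hp
  rw [Ideal.mem_comap, RingHom.mem_ker]
  exact (ev_ren R A h p).trans (hJ hp)

instance : Nonempty (Idx R A) := ⟨⟨∅, ⊥, Submodule.fg_bot, bot_le⟩⟩

instance : IsDirected (Idx R A) (· ≤ ·) := by
  classical
  exact ⟨fun a b => ⟨⟨a.s ∪ b.s,
      Ideal.map (ren R A Finset.subset_union_left) a.J ⊔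
        Ideal.map (ren R A Finset.subset_union_right) b.J,
      Submodule.FG.sup (a.fg.map _) (b.fg.map _),
      sup_le (map_le_ker _ _ a.le_ker) (map_le_ker _ _ b.le_ker)⟩,
    ⟨Finset.subset_union_left, le_sup_left⟩, ⟨Finset.subset_union_right, le_sup_right⟩⟩⟩

instance : IsFiltered (Idx R A) := isFiltered_of_directed_le_nonempty _

/-- the transition maps. -/
noncomputable def tr {a b : Idx R A} (h : a ≤ b) : Pol R A a.s ⧸ a.J →ₐ[R] Pol R A b.s ⧸ b.J :=
  Ideal.quotientMapₐ b.J (ren R A h.fst) (Ideal.map_le_iff_le_comap.1 h.snd)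

theorem tr_mk {a b : Idx R A} (h : a ≤ b) (p : Pol R A a.s) :
    tr h (Ideal.Quotient.mk _ p) = Ideal.Quotient.mk _ (ren R A h.fst p) := rfl

/-- the maps to `A`. -/
noncomputable def toA (a : Idx R A) : Pol R A a.s ⧸ a.J →ₐ[R] A :=
  Ideal.Quotient.liftₐ a.J (ev R A a.s) (fun _ hp => a.le_ker hp)

theorem toA_mk (a : Idx R A) (p : Pol R A a.s) : toA a (Ideal.Quotient.mk _ p) = ev R A a.s p := rfl

variable (R A)

/-- the diagram of finitely presented algebras. -/
noncomputable def diag : Idx R A ⥤ Under (CommRingCat.of R) where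
  obj a := uObj R (Pol R A a.s ⧸ a.J)
  map {a b} f := uHom (tr (leOfHom f))
  map_id a := by
    rw [← uHom_id]
    congr 1
    refine Ideal.Quotient.algHom_ext _ (AlgHom.ext fun p => ?_)
    have h1 : tr (le_refl a) (Ideal.Quotient.mk _ p) = Ideal.Quotient.mk _ p := by
      rw [tr_mk, ren_refl]
      rfl
    exact h1
  map_comp {a b c} f g := by
    rw [← uHom_comp]
    congr 1
    refine Ideal.Quotient.algHom_ext _ (AlgHom.ext fun p => ?_)
    have h1 : tr ((leOfHom f).trans (leOfHom g)) (Ideal.Quotient.mk _ p) =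
        tr (leOfHom g) (tr (leOfHom f) (Ideal.Quotient.mk _ p)) := by
      rw [tr_mk, tr_mk, tr_mk, ← ren_trans R A (leOfHom f).fst (leOfHom g).fst]
      rfl
    exact h1

/-- the cocone with vertex `A`. -/
noncomputable def cocone : Cocone (diag R A) where
  pt := uObj R A
  ι :=
    { app := fun a => uHom (toA a)
      naturality := fun a b f => by
        refine Eq.trans ?_ (Category.comp_id _).symm
        show uHom _ ≫ uHom _ = uHom _
        rw [← uHom_comp]
        congr 1
        refine Ideal.Quotient.algHom_ext _ (AlgHom.ext fun p => ?_)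
        have h1 : toA b (tr (leOfHom f) (Ideal.Quotient.mk _ p)) = toA a (Ideal.Quotient.mk _ p) := by
          rw [tr_mk, toA_mk, toA_mk, ev_ren]
        exact h1 }

theorem isColimit_cocone : Nonempty (IsColimit (cocone R A)) := by
  classical
  refine Groth.Agent.Lib.Helper3.IndEt.nonempty_isColimit_under _ _ ?_ ?_
  · intro (x : A)
    let a : Idx R A := ⟨{x}, ⊥, Submodule.fg_bot, bot_le⟩
    refine ⟨a, Ideal.Quotient.mk _ (MvPolynomial.X ⟨x, Finset.mem_singleton_self x⟩), ?_⟩
    have h1 : toA a (Ideal.Quotient.mk _ (MvPolynomial.X ⟨x, Finset.mem_singleton_self x⟩)) = x := by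
      rw [toA_mk]
      simp [ev]
    exact h1
  · intro a y hy
    obtain ⟨p, rfl⟩ := Ideal.Quotient.mk_surjective y
    have hp : ev R A a.s p = 0 := hy
    let b : Idx R A := ⟨a.s, a.J ⊔ Ideal.span {p}, Submodule.FG.sup a.fg (Submodule.fg_span_singleton p),
      sup_le a.le_ker ((Ideal.span_singleton_le_iff_mem _).2 (by rwa [RingHom.mem_ker]))⟩
    have hab : a ≤ b := ⟨subset_refl _, by
      rw [ren_refl]
      exact (Ideal.map_id _).le.trans le_sup_left⟩
    refine ⟨b, homOfLE hab, ?_⟩
    have h1 : tr hab (Ideal.Quotient.mk _ p) = 0 := by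
      rw [tr_mk, ren_refl]
      exact Ideal.Quotient.eq_zero_iff_mem.2
        (Ideal.mem_sup_right (Ideal.subset_span (Set.mem_singleton p)))
    exact h1

theorem fp_diag (a : Idx R A) : ((diag R A).obj a).hom.hom.FinitePresentation := by
  show (algebraMap R (Pol R A a.s ⧸ a.J)).FinitePresentation
  rw [RingHom.finitePresentation_algebraMap]
  exact Algebra.FinitePresentation.quotient a.fg

end general

end Groth.Agent.Lib.Helper26.FPColim
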