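import Mathlib

/-!
# Finite injective extensions of a Noetherian local ring: the adic topology (helper26)

For `O` Noetherian local and `A'` a finite `O`-algebra with injective structure map, finite
intersections of powers of maximal ideals of `A'` define the `𝔪_O`-adic topology on `O`.
-/

set_option autoImplicit false
set_option linter.style.haveILetI false
universe u

namespace Groth.Agent.Lib.Helper26.FinInjTop

open IsLocalRing

variable {O A' : Type u} [CommRing O] [IsLocalRing O] [IsNoetherianRing O] [CommRing A']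
  [Algebra O A'] [Module.Finite O A']

theorem isArtinianRing_quotient_pow (n : ℕ) : IsArtinianRing (O ⧸ maximalIdeal O ^ (n + 1)) := by
  have hne : maximalIdeal O ^ (n + 1) ≠ ⊤ := by
    intro h
    have h1 : maximalIdeal O ^ (n + 1) ≤ maximalIdeal O := Ideal.pow_le_self (Nat.succ_ne_zero n)
    rw [h] at h1
    exact (IsLocalRing.maximalIdeal.isMaximal O).ne_top (top_le_iff.mp h1)
  haveI : Nontrivial (O ⧸ maximalIdeal O ^ (n + 1)) := Ideal.Quotient.nontrivial_iff.mpr hne
  haveI : IsLocalRing (O ⧸ maximalIdeal O ^ (n + 1)) :=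
    IsLocalRing.of_surjective' (Ideal.Quotient.mk _) Ideal.Quotient.mk_surjective
  rw [isArtinianRing_iff_isNilpotent_maximalIdeal]
  refine ⟨n + 1, ?_⟩
  rw [Ideal.zero_eq_bot, eq_bot_iff,
    ← IsLocalRing.map_maximalIdeal_of_surjective (Ideal.Quotient.mk (maximalIdeal O ^ (n + 1)))
      Ideal.Quotient.mk_surjective, ← Ideal.map_pow, Ideal.map_quotient_self]

theorem comap_map_pow_le (hinj : Function.Injective (algebraMap O A')) (N : ℕ) :
    ∃ k : ℕ, Ideal.comap (algebraMap O A')
      ((maximalIdeal O ^ (N + k)).map (algebraMap O A')) ≤ maximalIdeal O ^ N := by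
  obtain ⟨k, hk⟩ := Ideal.exists_pow_inf_eq_pow_smul (maximalIdeal O)
    (LinearMap.range (Algebra.linearMap O A'))
  refine ⟨k, ?_⟩
  intro a ha
  rw [Ideal.mem_comap] at ha
  have h1 : algebraMap O A' a ∈ (maximalIdeal O ^ (N + k) • ⊤ : Submodule O A') ⊓
      LinearMap.range (Algebra.linearMap O A') := by
    refine ⟨?_, ⟨a, rfl⟩⟩
    rw [Ideal.smul_top_eq_map]
    exact ha
  rw [hk (N + k) (Nat.le_add_left k N), Nat.add_sub_cancel] at h1
  have h2 : (maximalIdeal O ^ N • ((maximalIdeal O ^ k • ⊤ : Submodule O A') ⊓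
      LinearMap.range (Algebra.linearMap O A'))) ≤
      Submodule.map (Algebra.linearMap O A') (maximalIdeal O ^ N) := by
    calc _ ≤ maximalIdeal O ^ N • LinearMap.range (Algebra.linearMap O A') :=
          Submodule.smul_mono le_rfl inf_le_right
      _ = Submodule.map (Algebra.linearMap O A') (maximalIdeal O ^ N • ⊤) := by
          rw [Submodule.map_smul'', Submodule.map_top]
      _ = Submodule.map (Algebra.linearMap O A') (maximalIdeal O ^ N) := by
          rw [smul_eq_mul, Ideal.mul_top]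
  obtain ⟨b, hb, hab⟩ := h2 h1
  have : b = a := hinj hab
  rwa [this] at hb

omit [Algebra O A'] [Module.Finite O A'] in
/-- an ideal with Artinian quotient contains a finite intersection of powers of maximal ideals. -/
theorem exists_finset_iInf_pow_le_of_isArtinianRing (J : Ideal A') [IsArtinianRing (A' ⧸ J)] :
    ∃ (t : Finset (MaximalSpectrum A')) (K : ℕ), (⨅ 𝔪 ∈ t, 𝔪.asIdeal ^ (K + 1)) ≤ J := by
  classical
  obtain ⟨K, hK⟩ := IsArtinianRing.isNilpotent_nilradical (R := A' ⧸ J)
  have hK' : nilradical (A' ⧸ J) ^ (K + 1) = ⊥ := by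
    rw [eq_bot_iff]
    refine (Ideal.pow_le_pow_right (Nat.le_succ K)).trans ?_
    rw [hK, Ideal.zero_eq_bot]
  rw [IsArtinianRing.nilradical_pow_eq_iInf] at hK'
  haveI : Fintype (MaximalSpectrum (A' ⧸ J)) := Fintype.ofFinite _
  let c : MaximalSpectrum (A' ⧸ J) → MaximalSpectrum A' := fun I =>
    ⟨I.asIdeal.comap (Ideal.Quotient.mk J),
      Ideal.comap_isMaximal_of_surjective _ Ideal.Quotient.mk_surjective⟩
  refine ⟨Finset.univ.image c, K, ?_⟩
  rw [Finset.iInf_finset_image]
  intro a ha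
  rw [← Ideal.Quotient.eq_zero_iff_mem, ← Ideal.mem_bot, ← hK', Ideal.mem_iInf]
  intro I
  have h1 : a ∈ (c I).asIdeal ^ (K + 1) := by
    rw [Ideal.mem_iInf] at ha
    have := ha I
    rw [Ideal.mem_iInf] at this
    exact this (Finset.mem_univ I)
  have h2 := Ideal.mem_map_of_mem (Ideal.Quotient.mk J) h1
  rw [Ideal.map_pow] at h2
  have h3 : Ideal.map (Ideal.Quotient.mk J) (c I).asIdeal = I.asIdeal :=
    Ideal.map_comap_of_surjective _ Ideal.Quotient.mk_surjective _
  rw [h3] at h2
  exact h2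

/-- finite intersections of powers of maximal ideals of `A'` define the `𝔪_O`-adic topology. -/
theorem exists_finset_iInf_pow_le (hinj : Function.Injective (algebraMap O A')) (N : ℕ) :
    ∃ (t : Finset (MaximalSpectrum A')) (K : ℕ),
      Ideal.comap (algebraMap O A') (⨅ 𝔪 ∈ t, 𝔪.asIdeal ^ (K + 1)) ≤ maximalIdeal O ^ N := by
  obtain ⟨k, hAR⟩ := comap_map_pow_le (A' := A') hinj N
  haveI := isArtinianRing_quotient_pow (O := O) (N + k)
  haveI : Module.Finite (O ⧸ maximalIdeal O ^ (N + k + 1))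
      (A' ⧸ (maximalIdeal O ^ (N + k + 1)).map (algebraMap O A')) :=
    Module.Finite.of_restrictScalars_finite O _ _
  haveI : IsArtinianRing (A' ⧸ (maximalIdeal O ^ (N + k + 1)).map (algebraMap O A')) :=
    IsArtinianRing.of_finite (O ⧸ maximalIdeal O ^ (N + k + 1)) _
  obtain ⟨t, K, h⟩ := exists_finset_iInf_pow_le_of_isArtinianRing
    ((maximalIdeal O ^ (N + k + 1)).map (algebraMap O A'))
  exact ⟨t, K, le_trans (Ideal.comap_mono h) (le_trans (Ideal.comap_mono (Ideal.map_mono
    (Ideal.pow_le_pow_right (Nat.le_succ _)))) hAR)⟩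

omit [IsLocalRing O] [IsNoetherianRing O] [Algebra O A'] [Module.Finite O A'] in
theorem comap_maximalIdeal_pow_localization (𝔪 : Ideal A') [𝔪.IsMaximal] (n : ℕ) (hn : n ≠ 0) :
    Ideal.comap (algebraMap A' (Localization.AtPrime 𝔪))
      (maximalIdeal (Localization.AtPrime 𝔪) ^ n) = 𝔪 ^ n := by
  rw [← IsLocalization.AtPrime.map_eq_maximalIdeal 𝔪 (Localization.AtPrime 𝔪), ← Ideal.map_pow]
  refine IsLocalization.under_map_of_isPrimary_disjoint 𝔪.primeCompl _ ?_ ?_
  · apply Ideal.isPrimary_of_isMaximal_radical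
    rw [Ideal.radical_pow 𝔪 hn, Ideal.IsPrime.radical inferInstance]
    infer_instance
  · rw [Set.disjoint_left]
    intro a ha ha'
    exact ha (Ideal.pow_le_self hn ha')

omit [IsNoetherianRing O] in
theorem isLocalHom_comp_localization (𝔪 : Ideal A') [𝔪.IsMaximal] :
    IsLocalHom ((algebraMap A' (Localization.AtPrime 𝔪)).comp (algebraMap O A')) := by
  haveI : Algebra.IsIntegral O A' := Algebra.IsIntegral.of_finite O A'
  have h1 : (𝔪.comap (algebraMap O A')).IsMaximal :=
    Ideal.isMaximal_comap_of_isIntegral_of_isMaximal 𝔪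
  have h2 : 𝔪.comap (algebraMap O A') = maximalIdeal O := IsLocalRing.eq_maximalIdeal h1
  refine ⟨fun a ha => ?_⟩
  by_contra hna
  have h0 : a ∈ maximalIdeal O := (mem_maximalIdeal a).2 hna
  rw [← h2, Ideal.mem_comap] at h0
  have h3 := (IsLocalization.AtPrime.to_map_mem_maximal_iff (Localization.AtPrime 𝔪) 𝔪 _).2 h0
  exact (mem_maximalIdeal _).1 h3 ha

end Groth.Agent.Lib.Helper26.FinInjTop
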