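import Mathlib
import Groth.Agent.S17981

/-!
# Finite algebras over a local ring that are finite products of local rings (helper26)

`P1 ↔ P2 ↔ P3` for a finite algebra `B` over a local ring `A`:
* `P1`: `B` is ring-isomorphic to a finite product of local rings;
* `P2`: idempotents of `B/mB` lift to idempotents of `B`;
* `P3`: `B → ∏ B_n` (product over maximal ideals) is bijective.
-/

set_option autoImplicit false
universe u

namespace Groth.Agent.Lib.Helper26.FinLocalProd

section Gen

/-- In a local ring, an element that is idempotent modulo an ideal is `0` or `1` modulo it. -/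
theorem mem_or_sub_one_mem {C : Type*} [CommRing C] [IsLocalRing C] (K : Ideal C) (c : C)
    (hc : c * c - c ∈ K) : c ∈ K ∨ c - 1 ∈ K := by
  rcases IsLocalRing.isUnit_or_isUnit_one_sub_self c with hu | hu
  · right
    have h1 : c * (c - 1) ∈ K := by
      have : c * (c - 1) = c * c - c := by ring
      rw [this]; exact hc
    exact (Ideal.unit_mul_mem_iff_mem K hu).mp h1
  · left
    have h1 : (1 - c) * c ∈ K := by
      have : (1 - c) * c = -(c * c - c) := by ring
      rw [this]; exact K.neg_mem hc
    exact (Ideal.unit_mul_mem_iff_mem K hu).mp h1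

/-- Idempotents lift along any quotient of a finite product of local rings. -/
theorem surjOn_of_equiv_pi {B : Type u} [CommRing B] (J : Ideal B)
    {ι : Type u} [Fintype ι] (C : ι → Type u) [∀ j, CommRing (C j)] [∀ j, IsLocalRing (C j)]
    (φ : B ≃+* (∀ j, C j)) :
    Set.SurjOn (Ideal.Quotient.mk J) {e : B | IsIdempotentElem e} {e | IsIdempotentElem e} := by
  classical
  intro ebar hebar
  obtain ⟨b, rfl⟩ := Ideal.Quotient.mk_surjective ebar
  have hb : b * b - b ∈ J := by
    have h1 : Ideal.Quotient.mk J b * Ideal.Quotient.mk J b = Ideal.Quotient.mk J b := hebar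
    rw [← Ideal.Quotient.eq_zero_iff_mem, map_sub, map_mul, h1, sub_self]
  let ψ : ∀ j, B →+* C j := fun j => (Pi.evalRingHom C j).comp (φ : B →+* (∀ j, C j))
  have hψ : ∀ j x, ψ j x = φ x j := fun _ _ => rfl
  have hψsurj : ∀ j, Function.Surjective (ψ j) := by
    intro j c
    refine ⟨φ.symm (Pi.single j c), ?_⟩
    rw [hψ, RingEquiv.apply_symm_apply, Pi.single_eq_same]
  have key : ∀ j, ∃ ε : C j, (ε = 0 ∨ ε = 1) ∧ ∃ y ∈ J, ψ j y = ψ j b - ε := by
    intro j
    have h1 : ψ j b * ψ j b - ψ j b ∈ J.map (ψ j) := by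
      rw [← map_mul, ← map_sub]
      exact Ideal.mem_map_of_mem _ hb
    rcases mem_or_sub_one_mem _ _ h1 with h | h
    · obtain ⟨y, hy, hy'⟩ := (Ideal.mem_map_iff_of_surjective _ (hψsurj j)).mp h
      exact ⟨0, Or.inl rfl, y, hy, by rw [hy', sub_zero]⟩
    · obtain ⟨y, hy, hy'⟩ := (Ideal.mem_map_iff_of_surjective _ (hψsurj j)).mp h
      exact ⟨1, Or.inr rfl, y, hy, hy'⟩
  choose ε hε y hyJ hy using key
  let e : B := φ.symm ε
  have he : IsIdempotentElem e := by
    change e * e = e
    apply φ.injective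
    rw [map_mul]
    simp only [e, RingEquiv.apply_symm_apply]
    funext j
    rcases hε j with h | h <;> simp [h]
  refine ⟨e, he, ?_⟩
  rw [Ideal.Quotient.eq]
  have hsum : e - b = -∑ j, φ.symm (Pi.single j 1) * y j := by
    apply φ.injective
    rw [map_neg, map_sum]
    funext i
    simp only [map_sub, map_mul, e, RingEquiv.apply_symm_apply, Pi.sub_apply, Pi.neg_apply,
      Finset.sum_apply, Pi.mul_apply]
    rw [Finset.sum_eq_single i]
    · rw [Pi.single_eq_same, one_mul]
      have h1 : φ (y i) i = φ b i - ε i := by rw [← hψ, hy, hψ]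
      rw [h1]
      ring
    · intro j _ hji
      rw [Pi.single_eq_of_ne (Ne.symm hji), zero_mul]
    · intro h
      exact absurd (Finset.mem_univ i) h
  rw [hsum]
  exact J.neg_mem (J.sum_mem fun j _ => J.mul_mem_left _ (hyJ j))

end Gen

section Local

variable (A : Type u) [CommRing A] [IsLocalRing A] (B : Type u) [CommRing B] [Algebra A B]

/-- `B` is a finite product of local rings. -/
def P1 : Prop :=
  ∃ (ι : Type u) (_ : Fintype ι) (C : ι → Type u) (_ : ∀ j, CommRing (C j)),
    (∀ j, IsLocalRing (C j)) ∧ Nonempty (B ≃+* (∀ j, C j))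

/-- Idempotents lift from `B/mB`. -/
def P2 : Prop :=
  Set.SurjOn (Ideal.Quotient.mk (Ideal.map (algebraMap A B) (IsLocalRing.maximalIdeal A)))
    {e : B | IsIdempotentElem e} {e | IsIdempotentElem e}

/-- `B → ∏ B_n` is bijective. -/
def P3 : Prop :=
  Function.Bijective
    (RingHom.pi (fun n : MaximalSpectrum B => algebraMap B (Localization.AtPrime n.asIdeal)))

theorem p2_of_p1 (h : P1 B) : P2 A B := by
  obtain ⟨ι, _, C, _, hC, ⟨φ⟩⟩ := h
  haveI := hC
  exact surjOn_of_equiv_pi _ C φ

theorem p1_of_p3 (h : P3 B) : P1 B := by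
  have hsurj : Function.Surjective (MaximalSpectrum.toPiLocalization B) := h.2
  haveI : Finite (MaximalSpectrum B) := MaximalSpectrum.finite_of_toPiLocalization_surjective hsurj
  haveI : Fintype (MaximalSpectrum B) := Fintype.ofFinite _
  exact ⟨MaximalSpectrum B, inferInstance, fun n => Localization.AtPrime n.asIdeal, inferInstance,
    fun n => inferInstance, ⟨RingEquiv.ofBijective _ h⟩⟩

end Local

section Art

variable (A : Type u) [CommRing A] [IsLocalRing A] (B : Type u) [CommRing B] [Algebra A B]
  [Module.Finite A B]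

/-- `mB`. -/
abbrev JJ : Ideal B := Ideal.map (algebraMap A B) (IsLocalRing.maximalIdeal A)

theorem JJ_le_of_isMaximal (n : Ideal B) [n.IsMaximal] : JJ A B ≤ n := by
  haveI : Algebra.IsIntegral A B := inferInstance
  have h1 : (n.comap (algebraMap A B)).IsMaximal :=
    Ideal.isMaximal_comap_of_isIntegral_of_isMaximal n
  rw [JJ, Ideal.map_le_iff_le_comap, ← IsLocalRing.eq_maximalIdeal h1]

instance : IsArtinianRing (B ⧸ JJ A B) := by
  letI : Field (A ⧸ IsLocalRing.maximalIdeal A) := Ideal.Quotient.field _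
  haveI : Module.Finite (A ⧸ IsLocalRing.maximalIdeal A) (B ⧸ JJ A B) :=
    Module.Finite.of_restrictScalars_finite A _ _
  exact IsArtinianRing.of_finite (A ⧸ IsLocalRing.maximalIdeal A) (B ⧸ JJ A B)

example : DiscreteTopology (PrimeSpectrum (B ⧸ JJ A B)) := inferInstance
example : Finite (MaximalSpectrum (B ⧸ JJ A B)) := inferInstance

/-- For each maximal ideal of an Artinian ring (discrete spectrum), an idempotent outside it and
inside all others; distinct ones are orthogonal. -/
theorem exists_idem_artinian (R : Type u) [CommRing R] [DiscreteTopology (PrimeSpectrum R)] :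
    ∃ ε : MaximalSpectrum R → R, (∀ N, IsIdempotentElem (ε N)) ∧ (∀ N, ε N ∉ N.asIdeal) ∧
      (∀ N N', N' ≠ N → ε N ∈ N'.asIdeal) ∧ (∀ N N', N' ≠ N → ε N * ε N' = 0) := by
  classical
  let E := MaximalSpectrum.toPiLocalizationEquiv R
  let ε : MaximalSpectrum R → R := fun N => E.symm (Pi.single N 1)
  have hE : ∀ N N', algebraMap R (Localization.AtPrime N'.asIdeal) (ε N) =
      (Pi.single N (1 : Localization.AtPrime N.asIdeal) : ∀ M : MaximalSpectrum R,
        Localization.AtPrime M.asIdeal) N' := by
    intro N N'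
    have h1 : E (ε N) = Pi.single N 1 := E.apply_symm_apply _
    rw [← h1]
    rfl
  refine ⟨ε, ?_, ?_, ?_, ?_⟩
  · intro N
    change ε N * ε N = ε N
    apply E.injective
    rw [map_mul]
    simp only [ε, AlgEquiv.apply_symm_apply]
    rw [← Pi.single_mul, one_mul]
  · intro N hN
    have h1 := hE N N
    rw [Pi.single_eq_same] at h1
    have h2 : algebraMap R (Localization.AtPrime N.asIdeal) (ε N) ∈
        IsLocalRing.maximalIdeal (Localization.AtPrime N.asIdeal) :=
      (IsLocalization.AtPrime.to_map_mem_maximal_iff _ N.asIdeal _).mpr hN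
    rw [h1] at h2
    exact (IsLocalRing.maximalIdeal (Localization.AtPrime N.asIdeal)).ne_top_iff_one.mp
      (Ideal.IsPrime.ne_top inferInstance) h2
  · intro N N' hne
    have h1 := hE N N'
    rw [Pi.single_eq_of_ne hne] at h1
    obtain ⟨s, hs⟩ := (IsLocalization.map_eq_zero_iff N'.asIdeal.primeCompl _ _).mp h1
    have h2 : (s : R) * ε N ∈ N'.asIdeal := by rw [hs]; exact N'.asIdeal.zero_mem
    exact (N'.isMaximal.isPrime.mem_or_mem h2).resolve_left s.2
  · intro N N' hne
    apply E.injective
    rw [map_mul, map_zero]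
    simp only [ε, AlgEquiv.apply_symm_apply]
    funext M
    rw [Pi.mul_apply, Pi.zero_apply]
    by_cases hM : M = N
    · subst hM
      rw [Pi.single_eq_of_ne (Ne.symm hne), mul_zero]
    · rw [Pi.single_eq_of_ne hM, zero_mul]

end Art

section Main

variable (A : Type u) [CommRing A] [IsLocalRing A] (B : Type u) [CommRing B] [Algebra A B]
  [Module.Finite A B]

theorem mk_mem_map_iff (n : Ideal B) [n.IsMaximal] (x : B) :
    Ideal.Quotient.mk (JJ A B) x ∈ n.map (Ideal.Quotient.mk (JJ A B)) ↔ x ∈ n := by
  constructor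
  · intro h
    obtain ⟨y, hy, hxy⟩ := (Ideal.mem_map_iff_of_surjective _ Ideal.Quotient.mk_surjective).mp h
    have h1 : y - x ∈ JJ A B := Ideal.Quotient.eq.mp hxy
    have h2 : y - x ∈ n := JJ_le_of_isMaximal A B n h1
    have : x = y - (y - x) := by ring
    rw [this]
    exact n.sub_mem hy h2
  · intro h
    exact Ideal.mem_map_of_mem _ h

theorem map_isMaximal (n : Ideal B) [hn : n.IsMaximal] :
    (n.map (Ideal.Quotient.mk (JJ A B))).IsMaximal := by
  rcases Ideal.map_eq_top_or_isMaximal_of_surjective (Ideal.Quotient.mk (JJ A B))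
    Ideal.Quotient.mk_surjective hn with h | h
  · exfalso
    have h1 : Ideal.Quotient.mk (JJ A B) 1 ∈ n.map (Ideal.Quotient.mk (JJ A B)) := by
      rw [h]; trivial
    exact hn.ne_top ((Ideal.eq_top_iff_one _).mpr ((mk_mem_map_iff A B n 1).mp h1))
  · exact h

/-- The maximal ideal of `B/mB` attached to a maximal ideal of `B`. -/
noncomputable def barMax (n : MaximalSpectrum B) : MaximalSpectrum (B ⧸ JJ A B) :=
  ⟨n.asIdeal.map (Ideal.Quotient.mk (JJ A B)), by
    haveI := n.isMaximal
    exact map_isMaximal A B n.asIdeal⟩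

theorem barMax_injective : Function.Injective (barMax A B) := by
  intro n n' h
  have h1 : n.asIdeal.map (Ideal.Quotient.mk (JJ A B)) =
      n'.asIdeal.map (Ideal.Quotient.mk (JJ A B)) := congrArg MaximalSpectrum.asIdeal h
  haveI := n.isMaximal
  haveI := n'.isMaximal
  ext x
  rw [← mk_mem_map_iff A B n.asIdeal, h1, mk_mem_map_iff A B n'.asIdeal]

theorem exists_idem_family (h2 : P2 A B) :
    ∃ E : MaximalSpectrum B → B, (∀ n, IsIdempotentElem (E n)) ∧ (∀ n, E n ∉ n.asIdeal) ∧
      (∀ n n', n' ≠ n → E n ∈ n'.asIdeal) ∧ (∀ n n', n' ≠ n → E n * E n' = 0) := by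
  obtain ⟨ε, hε1, hε2, hε3, hε4⟩ := exists_idem_artinian (B ⧸ JJ A B)
  have hlift : ∀ n : MaximalSpectrum B, ∃ e : B, IsIdempotentElem e ∧
      Ideal.Quotient.mk (JJ A B) e = ε (barMax A B n) := fun n => h2 (hε1 _)
  choose E hE1 hE2 using hlift
  refine ⟨E, hE1, ?_, ?_, ?_⟩
  · intro n hn
    haveI := n.isMaximal
    apply hε2 (barMax A B n)
    rw [← hE2]
    exact (mk_mem_map_iff A B n.asIdeal _).mpr hn
  · intro n n' hne
    haveI := n'.isMaximal
    have h1 : ε (barMax A B n) ∈ (barMax A B n').asIdeal :=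
      hε3 _ _ (fun h => hne (barMax_injective A B h))
    rw [← hE2] at h1
    exact (mk_mem_map_iff A B n'.asIdeal _).mp h1
  · intro n n' hne
    have hinj := Groth.Agent.S17981.result A (IsLocalRing.maximalIdeal A)
      (le_of_eq (IsLocalRing.jacobson_eq_maximalIdeal ⊥ bot_ne_top).symm) B
    apply hinj
    · exact (hE1 n).mul (hE1 n')
    · exact IsIdempotentElem.zero
    · rw [map_mul, hE2, hE2, map_zero]
      exact hε4 _ _ (fun h => hne (barMax_injective A B h))

theorem p3_of_p2 (h2 : P2 A B) : P3 B := by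
  classical
  obtain ⟨E, hE1, hE2, hE3, hE4⟩ := exists_idem_family A B h2
  haveI : Finite (MaximalSpectrum B) := Finite.of_injective _ (barMax_injective A B)
  haveI : Fintype (MaximalSpectrum B) := Fintype.ofFinite _
  refine ⟨fun x y hxy => MaximalSpectrum.toPiLocalization_injective B hxy, ?_⟩
  -- units
  have hunit : ∀ n : MaximalSpectrum B,
      IsUnit (algebraMap B (Localization.AtPrime n.asIdeal) (E n)) := fun n =>
    IsLocalization.map_units _ (⟨E n, hE2 n⟩ : n.asIdeal.primeCompl)
  have hone : ∀ n : MaximalSpectrum B,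
      algebraMap B (Localization.AtPrime n.asIdeal) (E n) = 1 := by
    intro n
    have h1 : algebraMap B (Localization.AtPrime n.asIdeal) (E n) *
        algebraMap B (Localization.AtPrime n.asIdeal) (E n) =
        algebraMap B (Localization.AtPrime n.asIdeal) (E n) * 1 := by
      rw [← map_mul, (hE1 n).eq, mul_one]
    exact (hunit n).mul_left_cancel h1
  have hzero : ∀ n n' : MaximalSpectrum B, n' ≠ n →
      algebraMap B (Localization.AtPrime n'.asIdeal) (E n) = 0 := by
    intro n n' hne
    have h1 : algebraMap B (Localization.AtPrime n'.asIdeal) (E n') *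
        algebraMap B (Localization.AtPrime n'.asIdeal) (E n) = 0 := by
      rw [← map_mul, mul_comm, hE4 n n' hne, map_zero]
    rw [hone, one_mul] at h1
    exact h1
  -- surjectivity of each localization map
  have hsurj : ∀ n : MaximalSpectrum B,
      Function.Surjective (algebraMap B (Localization.AtPrime n.asIdeal)) := by
    intro n z
    obtain ⟨b, s, rfl⟩ := IsLocalization.exists_mk'_eq n.asIdeal.primeCompl z
    -- `s` is a unit modulo `1 - E n`
    have htop : Ideal.span {(s : B), 1 - E n} = ⊤ := by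
      by_contra hne
      obtain ⟨M, hM, hle⟩ := Ideal.exists_le_maximal _ hne
      have hs : (s : B) ∈ M := hle (Ideal.subset_span (by simp))
      have hE : 1 - E n ∈ M := hle (Ideal.subset_span (by simp))
      by_cases hMn : (⟨M, hM⟩ : MaximalSpectrum B) = n
      · have h7 : M = n.asIdeal := congrArg MaximalSpectrum.asIdeal hMn
        exact s.2 (h7 ▸ hs)
      · have h3 : E n ∈ M := hE3 n ⟨M, hM⟩ hMn
        exact hM.ne_top ((Ideal.eq_top_iff_one _).mpr (by
          have : (1 : B) = (1 - E n) + E n := by ring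
          rw [this]; exact M.add_mem hE h3))
    obtain ⟨a, c, hac⟩ := Ideal.mem_span_pair.mp ((Ideal.eq_top_iff_one _).mp htop)
    have h4 : E n * (s : B) * a = E n := by
      have h5 : E n * E n = E n := (hE1 n).eq
      calc E n * (s : B) * a = E n * (a * s + c * (1 - E n)) - c * (E n - E n * E n) := by ring
        _ = E n := by rw [hac, h5]; ring
    refine ⟨b * a, ?_⟩
    rw [eq_comm, IsLocalization.mk'_eq_iff_eq_mul]
    have h6 := congrArg (algebraMap B (Localization.AtPrime n.asIdeal)) h4
    rw [map_mul, map_mul, hone, one_mul] at h6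
    rw [map_mul, mul_assoc, mul_comm (algebraMap B _ a), h6, mul_one]
  intro y
  choose b hb using fun n => hsurj n (y n)
  refine ⟨∑ n, E n * b n, ?_⟩
  funext n'
  change algebraMap B (Localization.AtPrime n'.asIdeal) (∑ n, E n * b n) = y n'
  rw [map_sum, Finset.sum_eq_single n']
  · rw [map_mul, hone, one_mul, hb]
  · intro n _ hne
    rw [map_mul, hzero n n' (Ne.symm hne), zero_mul]
  · intro h
    exact absurd (Finset.mem_univ n') h

end Main


end Groth.Agent.Lib.Helper26.FinLocalProd
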