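import Mathlib
import Groth.Agent.Lib.Helper26HenselIdem

/-!
# Clopen finite part of a quasi-finite separated scheme over a henselian pair

Scheme-level form (via Mathlib's Zariski main theorem `toNormalization` open immersion) of the
splitting of the finite part over a henselian pair.
-/

set_option autoImplicit false
universe u
open CategoryTheory Limits AlgebraicGeometry

namespace Groth.Agent.Lib.Helper26.FinPartSch

/-- A nonempty closed subset of `Spec A` meets `V(I)` when `I` is contained in the Jacobson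
radical. -/
theorem exists_mem_zeroLocus_of_isClosed {A : Type u} [CommRing A] (I : Ideal A)
    (hI : I ≤ Ideal.jacobson ⊥) {Z : Set (PrimeSpectrum A)} (hZ : IsClosed Z) (hne : Z.Nonempty) :
    ∃ x ∈ Z, I ≤ x.asIdeal := by
  obtain ⟨x, hx⟩ := hne
  obtain ⟨m, hm, hxm⟩ := Ideal.exists_le_maximal x.asIdeal x.2.ne_top
  let xm : PrimeSpectrum A := ⟨m, hm.isPrime⟩
  refine ⟨xm, ?_, hI.trans (sInf_le ⟨bot_le, hm⟩)⟩
  have h1 : xm ∈ closure {x} := (PrimeSpectrum.le_iff_mem_closure x xm).mp hxm
  exact (hZ.closure_subset_iff.mpr (Set.singleton_subset_iff.mpr hx)) h1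

/-- Ring-level core: lifting the clopen part of `V(IB)` inside an open `O` to an idempotent. -/
theorem exists_idem_basicOpen {A : Type u} [CommRing A] (I : Ideal A) [HenselianRing A I]
    (B : Type u) [CommRing B] [Algebra A B] [Algebra.IsIntegral A B]
    (O : Set (PrimeSpectrum B)) (hO : IsOpen O)
    (hT : IsClosed (O ∩ PrimeSpectrum.zeroLocus (I.map (algebraMap A B) : Set B))) :
    ∃ e : B, IsIdempotentElem e ∧ (PrimeSpectrum.basicOpen e : Set (PrimeSpectrum B)) ⊆ O ∧
      O ∩ PrimeSpectrum.zeroLocus (I.map (algebraMap A B) : Set B) ⊆ PrimeSpectrum.basicOpen e := by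
  set IB := I.map (algebraMap A B) with hIB
  set T := O ∩ PrimeSpectrum.zeroLocus (IB : Set B) with hTdef
  let q := Ideal.Quotient.mk IB
  have hcont : Continuous (PrimeSpectrum.comap q) := PrimeSpectrum.continuous_comap q
  have hrange : Set.range (PrimeSpectrum.comap q) = PrimeSpectrum.zeroLocus (IB : Set B) := by
    rw [range_comap_of_surjective _ _ Ideal.Quotient.mk_surjective, Ideal.mk_ker]
  let s : Set (PrimeSpectrum (B ⧸ IB)) := PrimeSpectrum.comap q ⁻¹' T
  have hs_eq : s = PrimeSpectrum.comap q ⁻¹' O := by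
    ext y
    simp only [s, T, Set.mem_preimage, Set.mem_inter_iff, and_iff_left_iff_imp]
    intro _
    rw [← hrange]
    exact ⟨y, rfl⟩
  have hs : IsClopen s := ⟨hT.preimage hcont, hs_eq ▸ hO.preimage hcont⟩
  obtain ⟨eb, fb, hmul, hadd, hseq⟩ := PrimeSpectrum.isClopen_iff_mul_add.mp hs
  have heb : IsIdempotentElem eb := (IsIdempotentElem.of_mul_add hmul hadd).1
  obtain ⟨e, he, hee⟩ := Groth.Agent.Lib.Helper26.HenselIdem.idem_surjOn A I B heb
  have he : IsIdempotentElem e := he
  have hkey : ∀ p : PrimeSpectrum B, p ∈ PrimeSpectrum.zeroLocus (IB : Set B) →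
      (p ∈ (PrimeSpectrum.basicOpen e : Set (PrimeSpectrum B)) ↔ p ∈ T) := by
    intro p hp
    rw [← hrange] at hp
    obtain ⟨y, rfl⟩ := hp
    have h1 : PrimeSpectrum.comap q y ∈ T ↔ y ∈ s := Iff.rfl
    rw [h1, hseq]
    simp only [SetLike.mem_coe, PrimeSpectrum.mem_basicOpen, PrimeSpectrum.comap_asIdeal,
      Ideal.mem_comap]
    rw [show q e = eb from hee]
  refine ⟨e, he, ?_, ?_⟩
  · -- `D(e) ⊆ O`
    by_contra hcon
    have hDcl : IsClosed ((PrimeSpectrum.basicOpen e : Set (PrimeSpectrum B)) \ O) := by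
      have : IsClopen (PrimeSpectrum.basicOpen e : Set (PrimeSpectrum B)) :=
        PrimeSpectrum.isClopen_iff_mul_add.mpr ⟨e, 1 - e, by
          rw [mul_sub, mul_one, he.eq, sub_self], by ring, rfl⟩
      exact this.1.sdiff hO
    have hne : ((PrimeSpectrum.basicOpen e : Set (PrimeSpectrum B)) \ O).Nonempty := by
      rw [Set.nonempty_iff_ne_empty]
      intro h
      exact hcon (Set.sdiff_eq_empty.mp h)
    have hclosedmap : IsClosedMap (PrimeSpectrum.comap (algebraMap A B)) :=
      PrimeSpectrum.isClosedMap_comap_of_isIntegral _ (algebraMap_isIntegral_iff.mpr inferInstance)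
    obtain ⟨x, ⟨p, hp, rfl⟩, hIx⟩ := exists_mem_zeroLocus_of_isClosed I HenselianRing.jac
      (hclosedmap _ hDcl) (hne.image _)
    have hpz : p ∈ PrimeSpectrum.zeroLocus (IB : Set B) := by
      rw [PrimeSpectrum.mem_zeroLocus, SetLike.coe_subset_coe, hIB, Ideal.map_le_iff_le_comap]
      exact hIx
    exact hp.2 ((hkey p hpz).mp hp.1).1
  · intro p hp
    exact (hkey p hp.2).mpr hp

/-- Scheme-level core: `X` open in `Spec B` with `B` integral over the henselian pair `(A, I)`,
such that the part of `X` over `V(I)` is closed in `Spec B`: then `X` has a clopen part, finite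
over `Spec A`, containing everything over `V(I)`. -/
theorem exists_clopen_finite_of_openImmersion {A : Type u} [CommRing A] (I : Ideal A)
    [HenselianRing A I] {X : Scheme.{u}} (f : X ⟶ Spec (CommRingCat.of A))
    [LocallyOfFiniteType f]
    (B : CommRingCat.{u}) (ρ : CommRingCat.of A ⟶ B) (j' : X ⟶ Spec B)
    (hint : ρ.hom.IsIntegral) [IsOpenImmersion j'] (hj'ρ : j' ≫ Spec.map ρ = f)
    (hT : IsClosed (j' '' {x : X | I ≤ (f x : PrimeSpectrum A).asIdeal})) :
    ∃ W : X.Opens, IsClosed (W : Set X) ∧ IsFinite (W.ι ≫ f) ∧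
      ∀ x : X, I ≤ (f x : PrimeSpectrum A).asIdeal → x ∈ W := by
  letI : Algebra A B := ρ.hom.toAlgebra
  haveI : Algebra.IsIntegral A B := algebraMap_isIntegral_iff.mp hint
  have hfx : ∀ x : X, (f x : PrimeSpectrum A) =
      PrimeSpectrum.comap (algebraMap A B) (j' x) := by
    intro x
    rw [← hj'ρ]
    rfl
  have hfI : ∀ x : X, (f x : PrimeSpectrum A).asIdeal =
      Ideal.comap (algebraMap A B) (j' x).asIdeal :=
    fun x => congrArg PrimeSpectrum.asIdeal (hfx x)
  let O : Set (PrimeSpectrum B) := Set.range j'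
  have hO : IsOpen O := j'.isOpenEmbedding.isOpen_range
  have hTO : O ∩ PrimeSpectrum.zeroLocus
      (I.map (algebraMap A B) : Set B) =
      j' '' {x : X | I ≤ (f x : PrimeSpectrum A).asIdeal} := by
    ext p
    simp only [Set.mem_inter_iff, O,
      PrimeSpectrum.mem_zeroLocus, SetLike.coe_subset_coe, Ideal.map_le_iff_le_comap]
    constructor
    · rintro ⟨⟨x, rfl⟩, hp⟩
      exact ⟨x, hp.trans_eq (hfI x).symm, rfl⟩
    · rintro ⟨x, hx, rfl⟩
      exact ⟨⟨x, rfl⟩, hx.trans_eq (hfI x)⟩
  have hTcl : IsClosed (O ∩ PrimeSpectrum.zeroLocus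
      (I.map (algebraMap A B) : Set B)) := by
    rw [hTO]
    exact hT
  obtain ⟨e, he, heO, hTe⟩ := exists_idem_basicOpen I B O hO hTcl
  have hDclopen : IsClopen (PrimeSpectrum.basicOpen e : Set (PrimeSpectrum B)) :=
    PrimeSpectrum.isClopen_iff_mul_add.mpr ⟨e, 1 - e, by
      rw [mul_sub, mul_one, he.eq, sub_self], by ring, rfl⟩
  let D : (Spec B).Opens := ⟨(PrimeSpectrum.basicOpen e : Set (PrimeSpectrum B)),
    hDclopen.2⟩
  let W : X.Opens := j' ⁻¹ᵁ D
  have hWcl : IsClosed (W : Set X) := hDclopen.1.preimage j'.continuous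
  refine ⟨W, hWcl, ?_, ?_⟩
  · -- finiteness
    have hrange : Set.range (W.ι ≫ j') = (D : Set (Spec B)) := by
      rw [Scheme.Hom.comp_base, TopCat.coe_comp, Set.range_comp]
      simp only [Scheme.Opens.range_ι]
      ext p
      constructor
      · rintro ⟨x, hx, rfl⟩
        exact hx
      · intro hp
        obtain ⟨x, rfl⟩ := heO hp
        exact ⟨x, hp, rfl⟩
    haveI : IsClosedImmersion (W.ι ≫ j') :=
      IsClosedImmersion.of_isPreimmersion _ (hrange ▸ hDclopen.1)
    haveI : IsIntegralHom (Spec.map ρ) := IsIntegralHom.SpecMap_iff.mpr hint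
    have h1 : W.ι ≫ f = (W.ι ≫ j') ≫ Spec.map ρ := by rw [Category.assoc, hj'ρ]
    rw [IsFinite.iff_isIntegralHom_and_locallyOfFiniteType]
    refine ⟨?_, inferInstance⟩
    rw [h1]
    infer_instance
  · intro x hx
    apply hTe
    refine ⟨⟨x, rfl⟩, ?_⟩
    exact (PrimeSpectrum.mem_zeroLocus _ _).mpr (SetLike.coe_subset_coe.mpr
      (Ideal.map_le_iff_le_comap.mpr (hx.trans_eq (hfI x))))

/-- Zariski's main theorem in affine-target form: a quasi-finite separated `X` over `Spec A` is
open in `Spec B` with `B` integral over `A` (and `j'` is `toNormalization` up to a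
homeomorphism). -/
theorem exists_openImmersion_integral {A : Type u} [CommRing A]
    {X : Scheme.{u}} (f : X ⟶ Spec (CommRingCat.of A))
    [LocallyQuasiFinite f] [LocallyOfFiniteType f] [QuasiCompact f] [IsSeparated f] :
    ∃ (B : CommRingCat.{u}) (ρ : CommRingCat.of A ⟶ B) (j' : X ⟶ Spec B)
      (φ : f.normalization ≅ Spec B),
      ρ.hom.IsIntegral ∧ IsOpenImmersion j' ∧ j' ≫ Spec.map ρ = f ∧
        j' = f.toNormalization ≫ φ.hom := by
  let N := f.normalization
  let j : X ⟶ N := f.toNormalization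
  let π : N ⟶ Spec (CommRingCat.of A) := f.fromNormalization
  have hjπ : j ≫ π = f := f.toNormalization_fromNormalization
  haveI : IsAffine N := isAffine_of_isAffineHom π
  let φ : N ≅ Spec Γ(N, ⊤) := N.isoSpec
  let π' : Spec Γ(N, ⊤) ⟶ Spec (CommRingCat.of A) := φ.inv ≫ π
  let ρ : CommRingCat.of A ⟶ Γ(N, ⊤) := Spec.preimage π'
  have hρ : Spec.map ρ = π' := Spec.map_preimage π'
  have hint : IsIntegralHom (Spec.map ρ) := by rw [hρ]; infer_instance
  rw [IsIntegralHom.SpecMap_iff] at hint
  refine ⟨Γ(N, ⊤), ρ, j ≫ φ.hom, φ, hint, inferInstance, ?_, rfl⟩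
  simp only [hρ, π', Category.assoc, Iso.hom_inv_id_assoc, hjπ]

/-- Scheme-level core: a quasi-finite separated scheme over a henselian pair such that the image
of the part over `V(I)` in the relative normalization is closed has a clopen finite part
containing everything over `V(I)`. -/
theorem exists_clopen_finite {A : Type u} [CommRing A] (I : Ideal A) [HenselianRing A I]
    {X : Scheme.{u}} (f : X ⟶ Spec (CommRingCat.of A))
    [LocallyQuasiFinite f] [LocallyOfFiniteType f] [QuasiCompact f] [IsSeparated f]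
    (hT : IsClosed (f.toNormalization ''
      {x : X | I ≤ (f x : PrimeSpectrum A).asIdeal})) :
    ∃ W : X.Opens, IsClosed (W : Set X) ∧ IsFinite (W.ι ≫ f) ∧
      ∀ x : X, I ≤ (f x : PrimeSpectrum A).asIdeal → x ∈ W := by
  obtain ⟨B, ρ, j', φ, hint, hopen, hj'ρ, hj'⟩ := exists_openImmersion_integral f
  refine exists_clopen_finite_of_openImmersion I f B ρ j' hint hj'ρ ?_
  have : j' '' {x : X | I ≤ (f x : PrimeSpectrum A).asIdeal} =
      φ.hom '' (f.toNormalization '' {x : X | I ≤ (f x : PrimeSpectrum A).asIdeal}) := by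
    rw [hj', Set.image_image]
    rfl
  rw [this]
  exact (φ.hom.homeomorph.isClosedMap) _ hT

end Groth.Agent.Lib.Helper26.FinPartSch
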