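import Mathlib

/-!
# Two flat lifts of an ideal differ by a unique homomorphism (affine pseudotorsor computation)

General lemma: `R` a ring, `J` an ideal, `B` an `R`-algebra, `I` an ideal of `B/JB`,
`I₁ I₂` ideals of `B` with `R`-flat quotients both mapping onto `I`. Then there is a unique
`B`-linear `φ : I → (B/JB)/I ⊗_R J` such that `φ x` is the image of any `z ∈ B ⊗ J` with
`mult z = x'' - x'` for lifts `x' ∈ I₁`, `x'' ∈ I₂` of `x`.
-/

set_option autoImplicit false
universe u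
open scoped TensorProduct

namespace Groth.Agent.Lib.Helper26.FlatLifts

variable (R : Type u) [CommRing R] (J : Ideal R)

/-- multiplication map `C ⊗ J → C` -/
noncomputable abbrev mult (C : Type u) [CommRing C] [Algebra R C] : C ⊗[R] ↥J →ₗ[R] C :=
  (TensorProduct.rid R C).toLinearMap ∘ₗ LinearMap.lTensor C (Submodule.subtype J)

theorem mult_tmul (C : Type u) [CommRing C] [Algebra R C] (c : C) (j : J) :
    mult R J C (c ⊗ₜ j) = (j : R) • c := by
  simp [mult]

theorem mult_natural {B C : Type u} [CommRing B] [CommRing C] [Algebra R B] [Algebra R C]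
    (π : B →ₐ[R] C) (z : B ⊗[R] ↥J) :
    mult R J C (LinearMap.rTensor ↥J π.toLinearMap z) = π (mult R J B z) := by
  induction z using TensorProduct.induction_on with
  | zero => simp
  | tmul b j =>
    rw [LinearMap.rTensor_tmul, mult_tmul, mult_tmul]
    simp
  | add x y hx hy =>
    rw [map_add, map_add, hx, hy, map_add, map_add]

theorem mult_injective_of_flat (C : Type u) [CommRing C] [Algebra R C] [Module.Flat R C] :
    Function.Injective (mult R J C) := by
  have h1 : Function.Injective (LinearMap.lTensor C (Submodule.subtype J)) :=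
    Module.Flat.lTensor_preserves_injective_linearMap _ (Submodule.subtype_injective J)
  exact (TensorProduct.rid R C).injective.comp h1

theorem mult_smul {B : Type u} [CommRing B] [Algebra R B] (b : B) (z : B ⊗[R] ↥J) :
    mult R J B (b • z) = b * mult R J B z := by
  induction z using TensorProduct.induction_on with
  | zero => simp
  | tmul c j =>
    rw [TensorProduct.smul_tmul', mult_tmul, mult_tmul, smul_eq_mul, mul_smul_comm]
  | add x y hx hy =>
    rw [smul_add, map_add, hx, hy, map_add, mul_add]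

theorem exists_mult_eq {B : Type u} [CommRing B] [Algebra R B] (y : B)
    (hy : y ∈ J.map (algebraMap R B)) : ∃ z : B ⊗[R] ↥J, mult R J B z = y := by
  induction hy using Submodule.span_induction with
  | mem y hy =>
    obtain ⟨j, hj, rfl⟩ := hy
    refine ⟨1 ⊗ₜ ⟨j, hj⟩, ?_⟩
    rw [mult_tmul, Algebra.smul_def, mul_one]
  | zero => exact ⟨0, map_zero _⟩
  | add x y _ _ hx hy =>
    obtain ⟨z, rfl⟩ := hx
    obtain ⟨w, rfl⟩ := hy
    exact ⟨z + w, map_add _ _ _⟩
  | smul b x _ hx =>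
    obtain ⟨z, rfl⟩ := hx
    exact ⟨b • z, by rw [mult_smul, smul_eq_mul]⟩

section Main

variable {R J}
variable {B : Type u} [CommRing B] [Algebra R B]
  (I : Ideal (B ⧸ J.map (algebraMap R B)))

/-- the quotient map `B → (B/JB)/I` as an `R`-algebra hom -/
noncomputable abbrev sHom : B →ₐ[R] ((B ⧸ J.map (algebraMap R B)) ⧸ I) :=
  IsScalarTower.toAlgHom R B ((B ⧸ J.map (algebraMap R B)) ⧸ I)

/-- the map `B ⊗ J → (B/JB)/I ⊗ J` -/
noncomputable abbrev qMap : B ⊗[R] ↥J →ₗ[R] ((B ⧸ J.map (algebraMap R B)) ⧸ I) ⊗[R] ↥J :=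
  LinearMap.rTensor ↥J (sHom (R := R) I).toLinearMap

theorem sHom_apply (b : B) : sHom (R := R) I b =
    Ideal.Quotient.mk I (Ideal.Quotient.mk (J.map (algebraMap R B)) b) := rfl

theorem qMap_smul (b : B) (z : B ⊗[R] ↥J) : qMap I (b • z) = b • qMap I z := by
  induction z using TensorProduct.induction_on with
  | zero => simp
  | tmul c j =>
    rw [TensorProduct.smul_tmul', LinearMap.rTensor_tmul, LinearMap.rTensor_tmul,
      TensorProduct.smul_tmul']
    congr 1
  | add x y hx hy =>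
    rw [smul_add, map_add, hx, hy, map_add, smul_add]

theorem le_ker_sHom (I₁ : Ideal B)
    (hI₁ : I₁.map (Ideal.Quotient.mk (J.map (algebraMap R B))) = I) :
    ∀ a ∈ I₁, sHom (R := R) I a = 0 := by
  intro a ha
  rw [sHom_apply, Ideal.Quotient.eq_zero_iff_mem, ← hI₁]
  exact Ideal.mem_map_of_mem _ ha

/-- Key lemma: if `mult z ∈ I₁` with `B/I₁` flat, then `q z = 0`. -/
theorem qMap_eq_zero_of_mult_mem (I₁ : Ideal B) [Module.Flat R (B ⧸ I₁)]
    (hI₁ : I₁.map (Ideal.Quotient.mk (J.map (algebraMap R B))) = I)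
    (z : B ⊗[R] ↥J) (hz : mult R J B z ∈ I₁) : qMap I z = 0 := by
  let π₁ : B →ₐ[R] B ⧸ I₁ := Ideal.Quotient.mkₐ R I₁
  let s₁ : B ⧸ I₁ →ₐ[R] ((B ⧸ J.map (algebraMap R B)) ⧸ I) :=
    Ideal.Quotient.liftₐ I₁ (sHom (R := R) I) (le_ker_sHom I I₁ hI₁)
  have hcomp : (sHom (R := R) I).toLinearMap = s₁.toLinearMap ∘ₗ π₁.toLinearMap := by
    ext b
    simp [s₁, π₁]
  have h0 : LinearMap.rTensor ↥J π₁.toLinearMap z = 0 := by
    apply mult_injective_of_flat R J (B ⧸ I₁)
    rw [mult_natural, map_zero]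
    exact Ideal.Quotient.eq_zero_iff_mem.mpr hz
  change LinearMap.rTensor ↥J (sHom (R := R) I).toLinearMap z = 0
  rw [hcomp, LinearMap.rTensor_comp, LinearMap.comp_apply, h0, map_zero]

/-- data for `x`: lifts and `z` -/
def IsData (I₁ I₂ : Ideal B) (x : B ⧸ J.map (algebraMap R B)) (x' x'' : B) (z : B ⊗[R] ↥J) : Prop :=
  x' ∈ I₁ ∧ x'' ∈ I₂ ∧ Ideal.Quotient.mk (J.map (algebraMap R B)) x' = x ∧
    Ideal.Quotient.mk (J.map (algebraMap R B)) x'' = x ∧ mult R J B z = x'' - x'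

theorem exists_data (I₁ I₂ : Ideal B)
    (hI₁ : I₁.map (Ideal.Quotient.mk (J.map (algebraMap R B))) = I)
    (hI₂ : I₂.map (Ideal.Quotient.mk (J.map (algebraMap R B))) = I)
    (x : B ⧸ J.map (algebraMap R B)) (hx : x ∈ I) :
    ∃ x' x'' z, IsData I₁ I₂ x x' x'' z := by
  have h1 : x ∈ I₁.map (Ideal.Quotient.mk (J.map (algebraMap R B))) := hI₁ ▸ hx
  have h2 : x ∈ I₂.map (Ideal.Quotient.mk (J.map (algebraMap R B))) := hI₂ ▸ hx
  rw [Ideal.mem_map_iff_of_surjective _ Ideal.Quotient.mk_surjective] at h1 h2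
  obtain ⟨x', hx', e'⟩ := h1
  obtain ⟨x'', hx'', e''⟩ := h2
  have hmem : x'' - x' ∈ J.map (algebraMap R B) := by
    rw [← Ideal.Quotient.eq_zero_iff_mem, map_sub, e', e'', sub_self]
  obtain ⟨z, hz⟩ := exists_mult_eq R J _ hmem
  exact ⟨x', x'', z, hx', hx'', e', e'', hz⟩

theorem qMap_eq_of_data (I₁ I₂ : Ideal B) [Module.Flat R (B ⧸ I₁)] [Module.Flat R (B ⧸ I₂)]
    (hI₁ : I₁.map (Ideal.Quotient.mk (J.map (algebraMap R B))) = I)
    (hI₂ : I₂.map (Ideal.Quotient.mk (J.map (algebraMap R B))) = I)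
    (x : B ⧸ J.map (algebraMap R B)) {x' x'' y' y'' : B} {z w : B ⊗[R] ↥J}
    (h1 : IsData I₁ I₂ x x' x'' z) (h2 : IsData I₁ I₂ x y' y'' w) :
    qMap I z = qMap I w := by
  obtain ⟨hx', hx'', ex', ex'', hz⟩ := h1
  obtain ⟨hy', hy'', ey', ey'', hw⟩ := h2
  have m1 : x' - y' ∈ J.map (algebraMap R B) := by
    rw [← Ideal.Quotient.eq_zero_iff_mem, map_sub, ex', ey', sub_self]
  have m2 : x'' - y'' ∈ J.map (algebraMap R B) := by
    rw [← Ideal.Quotient.eq_zero_iff_mem, map_sub, ex'', ey'', sub_self]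
  obtain ⟨u₁, hu₁⟩ := exists_mult_eq R J _ m1
  obtain ⟨u₂, hu₂⟩ := exists_mult_eq R J _ m2
  have q1 : qMap I u₁ = 0 := qMap_eq_zero_of_mult_mem I I₁ hI₁ u₁ (by
    rw [hu₁]; exact I₁.sub_mem hx' hy')
  have q2 : qMap I u₂ = 0 := qMap_eq_zero_of_mult_mem I I₂ hI₂ u₂ (by
    rw [hu₂]; exact I₂.sub_mem hx'' hy'')
  have q3 : qMap I (z - w - u₂ + u₁) = 0 := qMap_eq_zero_of_mult_mem I I₁ hI₁ _ (by
    rw [map_add, map_sub, map_sub, hz, hw, hu₁, hu₂]
    have : x'' - x' - (y'' - y') - (x'' - y'') + (x' - y') = 0 := by ring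
    rw [this]
    exact I₁.zero_mem)
  rw [map_add, map_sub, map_sub, q1, q2, sub_zero, add_zero, sub_eq_zero] at q3
  exact q3

theorem existsUnique_hom (I₁ I₂ : Ideal B) [Module.Flat R (B ⧸ I₁)] [Module.Flat R (B ⧸ I₂)]
    (hI₁ : I₁.map (Ideal.Quotient.mk (J.map (algebraMap R B))) = I)
    (hI₂ : I₂.map (Ideal.Quotient.mk (J.map (algebraMap R B))) = I) :
    ∃! φ : ↥I →ₗ[B] (((B ⧸ J.map (algebraMap R B)) ⧸ I) ⊗[R] ↥J),
      (∀ (x : (B ⧸ J.map (algebraMap R B))) (hx : x ∈ I) (x' x'' : B), x' ∈ I₁ → x'' ∈ I₂ →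
          Ideal.Quotient.mk (J.map (algebraMap R B)) x' = x →
          Ideal.Quotient.mk (J.map (algebraMap R B)) x'' = x →
          ∀ z : B ⊗[R] ↥J,
            TensorProduct.rid R B (LinearMap.lTensor B (Submodule.subtype J) z) = x'' - x' →
            LinearMap.rTensor ↥J (IsScalarTower.toAlgHom R B
              ((B ⧸ J.map (algebraMap R B)) ⧸ I)).toLinearMap z = φ ⟨x, hx⟩) := by
  classical
  -- choose data
  have hex := exists_data I I₁ I₂ hI₁ hI₂
  choose! c' c'' cz hc using hex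
  have key : ∀ (x : B ⧸ J.map (algebraMap R B)) (hx : x ∈ I) {x' x'' : B} {z : B ⊗[R] ↥J},
      IsData I₁ I₂ x x' x'' z → qMap I z = qMap I (cz x) := fun x hx _ _ _ h =>
    qMap_eq_of_data I I₁ I₂ hI₁ hI₂ x h (hc x hx)
  let φ : ↥I →ₗ[B] (((B ⧸ J.map (algebraMap R B)) ⧸ I) ⊗[R] ↥J) :=
    { toFun := fun x => qMap I (cz x.1)
      map_add' := by
        intro x y
        obtain ⟨a', a'', ea', ea'', ha⟩ := hc x.1 x.2
        obtain ⟨b', b'', eb', eb'', hb⟩ := hc y.1 y.2
        have hd : IsData I₁ I₂ (x.1 + y.1) (c' x.1 + c' y.1) (c'' x.1 + c'' y.1)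
            (cz x.1 + cz y.1) := by
          refine ⟨I₁.add_mem a' b', I₂.add_mem a'' b'', by rw [map_add, ea', eb'],
            by rw [map_add, ea'', eb''], ?_⟩
          rw [map_add, ha, hb]; ring
        have := key (x.1 + y.1) (I.add_mem x.2 y.2) hd
        rw [map_add] at this
        exact this.symm
      map_smul' := by
        intro b x
        obtain ⟨a', a'', ea', ea'', ha⟩ := hc x.1 x.2
        have hd : IsData I₁ I₂ (b • x.1) (b * c' x.1) (b * c'' x.1) (b • cz x.1) := by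
          refine ⟨I₁.mul_mem_left b a', I₂.mul_mem_left b a'', ?_, ?_, ?_⟩
          · rw [map_mul, ea', Algebra.smul_def]; rfl
          · rw [map_mul, ea'', Algebra.smul_def]; rfl
          · rw [mult_smul, ha]; ring
        have hmem : b • x.1 ∈ I := by
          rw [Algebra.smul_def]; exact I.mul_mem_left _ x.2
        have := key (b • x.1) hmem hd
        rw [qMap_smul] at this
        exact this.symm }
  refine ⟨φ, ?_, ?_⟩
  · intro x hx x' x'' hx' hx'' ex' ex'' z hz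
    exact key x hx ⟨hx', hx'', ex', ex'', hz⟩
  · intro ψ hψ
    ext ⟨x, hx⟩
    obtain ⟨a', a'', ea', ea'', ha⟩ := hc x hx
    exact (hψ x hx (c' x) (c'' x) a' a'' ea' ea'' (cz x) ha).symm

end Main

end Groth.Agent.Lib.Helper26.FlatLifts
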