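import Groth.Agent.Lib.Helper26FlatLifts
import Groth.Agent.Lib.Helper5NilFlat

/-!
# Translating a flat lift of an ideal by a homomorphism (square-zero case)

`R` a ring, `J` an ideal with `J * J = ⊥`, `B` an `R`-algebra, `I` an ideal of `B/JB` with
`(B/JB)/I` flat over `R/J`, `I₁` an ideal of `B` with `R`-flat quotient mapping onto `I`, and
`φ : I → (B/JB)/I ⊗_R J`. Then there is a unique ideal `I₂` with flat quotient, image `I`
and difference `φ` from `I₁`.
-/

set_option autoImplicit false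
universe u
open scoped TensorProduct

namespace Groth.Agent.Lib.Helper26.FlatLifts

variable {R : Type u} [CommRing R] {J : Ideal R} {B : Type u} [CommRing B] [Algebra R B]
  (I : Ideal (B ⧸ J.map (algebraMap R B)))

theorem tmul_eq_zero_of_mem (hJ : J * J = ⊥) (b : B) (hb : b ∈ J.map (algebraMap R B)) (j : J) :
    (b ⊗ₜ[R] j : B ⊗[R] ↥J) = 0 := by
  induction hb using Submodule.span_induction with
  | mem y hy =>
    obtain ⟨j', hj', rfl⟩ := hy
    have h0 : j' • j = 0 := by
      ext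
      have : j' * (j : R) ∈ J * J := Ideal.mul_mem_mul hj' j.2
      rw [hJ, Ideal.mem_bot] at this
      simpa using this
    rw [Algebra.algebraMap_eq_smul_one, TensorProduct.smul_tmul, h0, TensorProduct.tmul_zero]
  | zero => exact TensorProduct.zero_tmul _ _
  | add x y _ _ hx hy => rw [TensorProduct.add_tmul, hx, hy, add_zero]
  | smul c x _ hx =>
    rw [← TensorProduct.smul_tmul', hx, smul_zero]

theorem exists_sub_mem_of_sHom_eq_zero (I₁ : Ideal B)
    (hI₁ : I₁.map (Ideal.Quotient.mk (J.map (algebraMap R B))) = I) (k : B)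
    (hk : sHom (R := R) I k = 0) : ∃ a ∈ I₁, k - a ∈ J.map (algebraMap R B) := by
  rw [sHom_apply, Ideal.Quotient.eq_zero_iff_mem, ← hI₁,
    Ideal.mem_map_iff_of_surjective _ Ideal.Quotient.mk_surjective] at hk
  obtain ⟨a, ha, hak⟩ := hk
  refine ⟨a, ha, ?_⟩
  rw [← Ideal.Quotient.eq_zero_iff_mem, map_sub, hak, sub_self]

theorem sHom_surjective : Function.Surjective (sHom (R := R) I) := by
  intro y
  obtain ⟨y', rfl⟩ := Ideal.Quotient.mk_surjective y
  obtain ⟨b, rfl⟩ := Ideal.Quotient.mk_surjective y'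
  exact ⟨b, rfl⟩

theorem qMap_surjective : Function.Surjective (qMap (R := R) I) :=
  LinearMap.rTensor_surjective _ (sHom_surjective I)

/-- Lemma N: `q z = 0` implies `z` comes from `I₁ ⊗ J`. -/
theorem mem_range_of_qMap_eq_zero (hJ : J * J = ⊥) (I₁ : Ideal B)
    (hI₁ : I₁.map (Ideal.Quotient.mk (J.map (algebraMap R B))) = I)
    (z : B ⊗[R] ↥J) (hz : qMap I z = 0) :
    z ∈ LinearMap.range (LinearMap.rTensor ↥J ((I₁.restrictScalars R).subtype)) := by
  have hex : Function.Exact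
      (LinearMap.rTensor ↥J (LinearMap.ker (sHom (R := R) I).toLinearMap).subtype)
      (LinearMap.rTensor ↥J (sHom (R := R) I).toLinearMap) :=
    rTensor_exact ↥J (LinearMap.exact_subtype_ker_map _) (sHom_surjective I)
  obtain ⟨t, rfl⟩ := (hex z).mp hz
  clear hz
  induction t using TensorProduct.induction_on with
  | zero => rw [map_zero]; exact Submodule.zero_mem _
  | tmul k j =>
    obtain ⟨a, ha, hka⟩ := exists_sub_mem_of_sHom_eq_zero I I₁ hI₁ k.1 k.2
    rw [LinearMap.rTensor_tmul]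
    have : ((LinearMap.ker (sHom (R := R) I).toLinearMap).subtype k) ⊗ₜ[R] j =
        (a ⊗ₜ[R] j : B ⊗[R] ↥J) := by
      have h2 := tmul_eq_zero_of_mem hJ _ hka j
      rw [TensorProduct.sub_tmul, sub_eq_zero] at h2
      exact h2
    rw [this]
    exact ⟨(⟨a, ha⟩ : I₁.restrictScalars R) ⊗ₜ[R] j, by rw [LinearMap.rTensor_tmul]; rfl⟩
  | add x y hx hy => rw [map_add]; exact Submodule.add_mem _ hx hy

/-- Lemma K(b): `q z = 0` implies `mult z ∈ I₁` (needs `J * J = ⊥`, no flatness). -/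
theorem mult_mem_of_qMap_eq_zero (hJ : J * J = ⊥) (I₁ : Ideal B)
    (hI₁ : I₁.map (Ideal.Quotient.mk (J.map (algebraMap R B))) = I)
    (z : B ⊗[R] ↥J) (hz : qMap I z = 0) : mult R J B z ∈ I₁ := by
  obtain ⟨t, rfl⟩ := mem_range_of_qMap_eq_zero I hJ I₁ hI₁ z hz
  clear hz
  induction t using TensorProduct.induction_on with
  | zero => simp
  | tmul a j =>
    rw [LinearMap.rTensor_tmul, mult_tmul, Algebra.smul_def]
    exact I₁.mul_mem_left _ a.2
  | add x y hx hy => rw [map_add, map_add]; exact I₁.add_mem hx hy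

theorem rTensor_mk_eq_zero_of_qMap_eq_zero (hJ : J * J = ⊥) (I₁ : Ideal B)
    (hI₁ : I₁.map (Ideal.Quotient.mk (J.map (algebraMap R B))) = I)
    (z : B ⊗[R] ↥J) (hz : qMap I z = 0) :
    LinearMap.rTensor ↥J (Ideal.Quotient.mkₐ R I₁).toLinearMap z = 0 := by
  obtain ⟨t, rfl⟩ := mem_range_of_qMap_eq_zero I hJ I₁ hI₁ z hz
  rw [← LinearMap.comp_apply, ← LinearMap.rTensor_comp]
  have : (Ideal.Quotient.mkₐ R I₁).toLinearMap ∘ₗ (I₁.restrictScalars R).subtype = 0 := by
    ext a
    exact Ideal.Quotient.eq_zero_iff_mem.mpr a.2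
  rw [this, LinearMap.rTensor_zero, LinearMap.zero_apply]

theorem smul_sHom_eq_zero (j : R) (hj : j ∈ J) (y : (B ⧸ J.map (algebraMap R B)) ⧸ I) :
    j • y = 0 := by
  obtain ⟨b, rfl⟩ := sHom_surjective (R := R) I y
  rw [← map_smul, sHom_apply, Algebra.smul_def]
  have : algebraMap R B j * b ∈ J.map (algebraMap R B) :=
    Ideal.mul_mem_right _ _ (Ideal.mem_map_of_mem _ hj)
  rw [Ideal.Quotient.eq_zero_iff_mem.mpr this, map_zero]

/-- Flatness criterion: an ideal `I₂` lifting `I` such that `mult z ∈ I₂ → q z = 0` has flat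
quotient (square-zero case). -/
theorem flat_quotient_of (hJ : J * J = ⊥)
    [Module.Flat (R ⧸ J) ((B ⧸ J.map (algebraMap R B)) ⧸ I)]
    (I₂ : Ideal B) (h1 : I₂.map (Ideal.Quotient.mk (J.map (algebraMap R B))) = I)
    (h2 : ∀ z : B ⊗[R] ↥J, mult R J B z ∈ I₂ → qMap I z = 0) : Module.Flat R (B ⧸ I₂) := by
  have hnil : IsNilpotent J := ⟨2, by rw [pow_two, hJ]; rfl⟩
  apply Groth.Agent.Lib.Helper5.flat_of_isNilpotent J hnil
  · have hm : Function.Injective (mult R J (B ⧸ I₂)) := by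
      rw [injective_iff_map_eq_zero]
      intro w hw
      have hsurj : Function.Surjective (Ideal.Quotient.mkₐ R I₂).toLinearMap :=
        Ideal.Quotient.mkₐ_surjective R I₂
      obtain ⟨z, rfl⟩ := LinearMap.rTensor_surjective ↥J hsurj w
      rw [mult_natural] at hw
      have hz : mult R J B z ∈ I₂ := Ideal.Quotient.eq_zero_iff_mem.mp hw
      exact rTensor_mk_eq_zero_of_qMap_eq_zero I hJ I₂ h1 z (h2 z hz)
    intro a b hab
    apply hm
    change (TensorProduct.rid R (B ⧸ I₂)) (LinearMap.lTensor (B ⧸ I₂) (Submodule.subtype J) a) =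
      (TensorProduct.rid R (B ⧸ I₂)) (LinearMap.lTensor (B ⧸ I₂) (Submodule.subtype J) b)
    rw [hab]
  · let s₂ : (B ⧸ I₂) →ₐ[R] ((B ⧸ J.map (algebraMap R B)) ⧸ I) :=
      Ideal.Quotient.liftₐ I₂ (sHom (R := R) I) (le_ker_sHom I I₂ h1)
    have hs₂ : Function.Surjective s₂.toLinearMap := by
      intro y
      obtain ⟨b, rfl⟩ := sHom_surjective (R := R) I y
      exact ⟨Ideal.Quotient.mk I₂ b, by simp [s₂]⟩
    have hker : LinearMap.ker s₂.toLinearMap = (J • ⊤ : Submodule R (B ⧸ I₂)) := by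
      apply le_antisymm
      · intro m hm
        obtain ⟨b, rfl⟩ := Ideal.Quotient.mk_surjective m
        have hb : sHom (R := R) I b = 0 := by
          have : s₂.toLinearMap (Ideal.Quotient.mk I₂ b) = 0 := hm
          simpa [s₂] using this
        obtain ⟨a, ha, hba⟩ := exists_sub_mem_of_sHom_eq_zero I I₂ h1 b hb
        have e1 : Ideal.Quotient.mk I₂ b = Ideal.Quotient.mk I₂ (b - a) := by
          rw [map_sub, Ideal.Quotient.eq_zero_iff_mem.mpr ha, sub_zero]
        rw [e1, Ideal.smul_top_eq_map]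
        change Ideal.Quotient.mk I₂ (b - a) ∈ J.map (algebraMap R (B ⧸ I₂))
        have := Ideal.mem_map_of_mem (Ideal.Quotient.mk I₂) hba
        rw [Ideal.map_map] at this
        exact this
      · refine Submodule.smul_le.mpr ?_
        intro j hj m _
        rw [LinearMap.mem_ker, map_smul]
        exact smul_sHom_eq_zero I j hj _
    let e₀ : (R ⧸ J) ⊗[R] (B ⧸ I₂) ≃ₗ[R] ((B ⧸ J.map (algebraMap R B)) ⧸ I) :=
      (TensorProduct.quotTensorEquivQuotSMul (B ⧸ I₂) J).trans
        ((Submodule.quotEquivOfEq _ _ hker.symm).trans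
          (s₂.toLinearMap.quotKerEquivOfSurjective hs₂))
    exact Module.Flat.of_linearEquiv
      (e₀.extendScalarsOfSurjective Ideal.Quotient.mk_surjective)


theorem mult_mem_map (z : B ⊗[R] ↥J) : mult R J B z ∈ J.map (algebraMap R B) := by
  induction z using TensorProduct.induction_on with
  | zero => simp
  | tmul c j =>
    rw [mult_tmul, Algebra.smul_def]
    exact Ideal.mul_mem_right _ _ (Ideal.mem_map_of_mem _ j.2)
  | add x y hx hy => rw [map_add]; exact Ideal.add_mem _ hx hy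

section Translate

variable (I₁ : Ideal B)
  (φ : ↥I →ₗ[B] (((B ⧸ J.map (algebraMap R B)) ⧸ I) ⊗[R] ↥J))

/-- membership predicate for the translated ideal -/
def InTranslate (x₂ : B) : Prop :=
  ∃ (h : Ideal.Quotient.mk (J.map (algebraMap R B)) x₂ ∈ I) (x₁ : B) (z : B ⊗[R] ↥J),
    x₁ ∈ I₁ ∧ Ideal.Quotient.mk (J.map (algebraMap R B)) x₁ =
      Ideal.Quotient.mk (J.map (algebraMap R B)) x₂ ∧ mult R J B z = x₂ - x₁ ∧
      qMap I z = φ ⟨Ideal.Quotient.mk (J.map (algebraMap R B)) x₂, h⟩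

/-- the translate of `I₁` by `φ` -/
def translate : Ideal B where
  carrier := {x₂ | InTranslate I I₁ φ x₂}
  zero_mem' := by
    refine ⟨by rw [map_zero]; exact I.zero_mem, 0, 0, I₁.zero_mem, rfl, by simp, ?_⟩
    rw [map_zero]
    have : (⟨Ideal.Quotient.mk (J.map (algebraMap R B)) 0, by rw [map_zero]; exact I.zero_mem⟩ : ↥I)
        = 0 := by
      ext; simp
    rw [this, map_zero]
  add_mem' := by
    rintro x y ⟨hx, x₁, z, hx₁, ex, hz, hq⟩ ⟨hy, y₁, w, hy₁, ey, hw, hq'⟩
    refine ⟨by rw [map_add]; exact I.add_mem hx hy, x₁ + y₁, z + w, I₁.add_mem hx₁ hy₁,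
      by rw [map_add, map_add, ex, ey], by rw [map_add, hz, hw]; ring, ?_⟩
    rw [map_add, hq, hq', ← map_add]
    congr 1
  smul_mem' := by
    rintro b x ⟨hx, x₁, z, hx₁, ex, hz, hq⟩
    have hbx : Ideal.Quotient.mk (J.map (algebraMap R B)) (b • x) ∈ I := by
      rw [smul_eq_mul, map_mul]; exact I.mul_mem_left _ hx
    refine ⟨hbx, b * x₁, b • z, I₁.mul_mem_left b hx₁,
      by rw [smul_eq_mul, map_mul, map_mul, ex], by rw [mult_smul, hz, smul_eq_mul]; ring, ?_⟩
    rw [qMap_smul, hq, ← map_smul]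
    congr 1

theorem mem_translate (x₂ : B) : x₂ ∈ translate I I₁ φ ↔ InTranslate I I₁ φ x₂ := Iff.rfl

variable {I₁} (hI₁ : I₁.map (Ideal.Quotient.mk (J.map (algebraMap R B))) = I)
include hI₁

theorem map_translate : (translate I I₁ φ).map (Ideal.Quotient.mk (J.map (algebraMap R B))) = I := by
  apply le_antisymm
  · rw [Ideal.map_le_iff_le_comap]
    rintro x ⟨hx, -⟩
    exact hx
  · intro x hx
    have h1 : x ∈ I₁.map (Ideal.Quotient.mk (J.map (algebraMap R B))) := hI₁ ▸ hx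
    rw [Ideal.mem_map_iff_of_surjective _ Ideal.Quotient.mk_surjective] at h1
    obtain ⟨x₁, hx₁, rfl⟩ := h1
    obtain ⟨z, hz⟩ := qMap_surjective (R := R) I (φ ⟨_, hx⟩)
    have hm : Ideal.Quotient.mk (J.map (algebraMap R B)) (mult R J B z) = 0 :=
      Ideal.Quotient.eq_zero_iff_mem.mpr (mult_mem_map z)
    have e : Ideal.Quotient.mk (J.map (algebraMap R B)) (x₁ + mult R J B z) =
        Ideal.Quotient.mk (J.map (algebraMap R B)) x₁ := by
      rw [map_add, hm, add_zero]
    have hmem : x₁ + mult R J B z ∈ translate I I₁ φ := by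
      refine ⟨e ▸ hx, x₁, z, hx₁, e.symm, by ring, ?_⟩
      rw [hz]
      congr 1
      ext
      exact e.symm
    rw [← e]
    exact Ideal.mem_map_of_mem _ hmem

variable [Module.Flat R (B ⧸ I₁)]

/-- the difference of the translate from `I₁` is `φ` -/
theorem translate_diff (x : B ⧸ J.map (algebraMap R B)) (hx : x ∈ I) (x' x'' : B)
    (hx' : x' ∈ I₁) (hx'' : x'' ∈ translate I I₁ φ)
    (ex' : Ideal.Quotient.mk (J.map (algebraMap R B)) x' = x)
    (ex'' : Ideal.Quotient.mk (J.map (algebraMap R B)) x'' = x)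
    (z : B ⊗[R] ↥J) (hz : mult R J B z = x'' - x') : qMap I z = φ ⟨x, hx⟩ := by
  obtain ⟨h, x₁, z₀, hx₁, e₁, hz₀, hq⟩ := hx''
  have hmem : x₁ - x' ∈ J.map (algebraMap R B) := by
    rw [← Ideal.Quotient.eq_zero_iff_mem, map_sub, e₁, ex', ex'', sub_self]
  obtain ⟨u, hu⟩ := exists_mult_eq R J _ hmem
  have q1 : qMap I u = 0 := qMap_eq_zero_of_mult_mem I I₁ hI₁ u (by
    rw [hu]; exact I₁.sub_mem hx₁ hx')
  have q2 : qMap I (z - z₀ - u) = 0 := qMap_eq_zero_of_mult_mem I I₁ hI₁ _ (by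
    rw [map_sub, map_sub, hz, hz₀, hu]
    have : x'' - x' - (x'' - x₁) - (x₁ - x') = 0 := by ring
    rw [this]; exact I₁.zero_mem)
  rw [map_sub, map_sub, q1, sub_zero, sub_eq_zero] at q2
  rw [q2, hq]
  congr 1
  ext
  exact ex''

theorem qMap_eq_zero_of_mult_mem_translate (z : B ⊗[R] ↥J)
    (hz : mult R J B z ∈ translate I I₁ φ) : qMap I z = 0 := by
  have h0 : Ideal.Quotient.mk (J.map (algebraMap R B)) (mult R J B z) = 0 :=
    Ideal.Quotient.eq_zero_iff_mem.mpr (mult_mem_map z)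
  have := translate_diff I φ hI₁ 0 I.zero_mem 0 (mult R J B z) I₁.zero_mem hz (map_zero _) h0 z
    (by rw [sub_zero])
  rw [this]
  exact map_zero φ

variable [Module.Flat (R ⧸ J) ((B ⧸ J.map (algebraMap R B)) ⧸ I)]

theorem flat_translate (hJ : J * J = ⊥) : Module.Flat R (B ⧸ translate I I₁ φ) :=
  flat_quotient_of I hJ _ (map_translate I φ hI₁)
    (qMap_eq_zero_of_mult_mem_translate I φ hI₁)

theorem existsUnique_translate (hJ : J * J = ⊥) :
    ∃! I'' : Ideal B, Module.Flat R (B ⧸ I'') ∧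
      I''.map (Ideal.Quotient.mk (J.map (algebraMap R B))) = I ∧
      (∀ (x : (B ⧸ J.map (algebraMap R B))) (hx : x ∈ I) (x' x'' : B), x' ∈ I₁ → x'' ∈ I'' →
          Ideal.Quotient.mk (J.map (algebraMap R B)) x' = x →
          Ideal.Quotient.mk (J.map (algebraMap R B)) x'' = x →
          ∀ z : B ⊗[R] ↥J,
            TensorProduct.rid R B (LinearMap.lTensor B (Submodule.subtype J) z) = x'' - x' →
            LinearMap.rTensor ↥J (IsScalarTower.toAlgHom R B
              ((B ⧸ J.map (algebraMap R B)) ⧸ I)).toLinearMap z = φ ⟨x, hx⟩) := by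
  refine ⟨translate I I₁ φ, ⟨flat_translate I φ hI₁ hJ, map_translate I φ hI₁, ?_⟩, ?_⟩
  · intro x hx x' x'' hx' hx'' ex' ex'' z hz
    exact translate_diff I φ hI₁ x hx x' x'' hx' hx'' ex' ex'' z hz
  · rintro I₂ ⟨-, hmap, hdiff⟩
    have hsub : I₂ ≤ translate I I₁ φ := by
      intro x'' hx''
      have hx : Ideal.Quotient.mk (J.map (algebraMap R B)) x'' ∈ I := by
        rw [← hmap]; exact Ideal.mem_map_of_mem _ hx''
      have h1 : Ideal.Quotient.mk (J.map (algebraMap R B)) x'' ∈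
          I₁.map (Ideal.Quotient.mk (J.map (algebraMap R B))) := hI₁ ▸ hx
      rw [Ideal.mem_map_iff_of_surjective _ Ideal.Quotient.mk_surjective] at h1
      obtain ⟨x', hx', ex'⟩ := h1
      have hmem : x'' - x' ∈ J.map (algebraMap R B) := by
        rw [← Ideal.Quotient.eq_zero_iff_mem, map_sub, ex', sub_self]
      obtain ⟨z, hz⟩ := exists_mult_eq R J _ hmem
      exact ⟨hx, x', z, hx', ex', hz, hdiff _ hx x' x'' hx' hx'' ex' rfl z hz⟩
    apply le_antisymm hsub
    intro x₂ hx₂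
    have hx : Ideal.Quotient.mk (J.map (algebraMap R B)) x₂ ∈ I := hx₂.1
    have h1 : Ideal.Quotient.mk (J.map (algebraMap R B)) x₂ ∈
        I₂.map (Ideal.Quotient.mk (J.map (algebraMap R B))) := hmap ▸ hx
    rw [Ideal.mem_map_iff_of_surjective _ Ideal.Quotient.mk_surjective] at h1
    obtain ⟨x'', hx'', ex''⟩ := h1
    have hmem : x₂ - x'' ∈ J.map (algebraMap R B) := by
      rw [← Ideal.Quotient.eq_zero_iff_mem, map_sub, ex'', sub_self]
    obtain ⟨z, hz⟩ := exists_mult_eq R J _ hmem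
    have hq : qMap I z = 0 := qMap_eq_zero_of_mult_mem_translate I φ hI₁ z (by
      rw [hz]; exact (translate I I₁ φ).sub_mem hx₂ (hsub hx''))
    have := mult_mem_of_qMap_eq_zero I hJ I₂ hmap z hq
    rw [hz] at this
    have e : x₂ = (x₂ - x'') + x'' := by ring
    rw [e]
    exact I₂.add_mem this hx''

end Translate

end Groth.Agent.Lib.Helper26.FlatLifts
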