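import Mathlib
import Groth.Agent.Lib.Helper26FpqcMod

/-!
# Base change of a flat jointly surjective family along `X ×_S T → T` (helper26)

Namespace `Groth.Agent.Lib.Helper26.FpqcBC`.
-/

set_option autoImplicit false
set_option linter.style.haveILetI false
universe u
open CategoryTheory CategoryTheory.Limits AlgebraicGeometry

namespace Groth.Agent.Lib.Helper26.FpqcBC

variable {X S : Scheme.{u}} (f : X ⟶ S)

/-- the map `X ×_S T' ⟶ X ×_S T` induced by `g : T' ⟶ T` over `S`. -/
noncomputable def bcMap {T T' : Over S} (g : T' ⟶ T) : pullback f T'.hom ⟶ pullback f T.hom :=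
  pullback.lift (pullback.fst f T'.hom) (pullback.snd f T'.hom ≫ g.left)
    (by rw [pullback.condition, Category.assoc, Over.w g])

@[reassoc (attr := simp)]
theorem bcMap_fst {T T' : Over S} (g : T' ⟶ T) :
    bcMap f g ≫ pullback.fst f T.hom = pullback.fst f T'.hom := pullback.lift_fst _ _ _

@[reassoc (attr := simp)]
theorem bcMap_snd {T T' : Over S} (g : T' ⟶ T) :
    bcMap f g ≫ pullback.snd f T.hom = pullback.snd f T'.hom ≫ g.left := pullback.lift_snd _ _ _

theorem isPullback_bcMap {T T' : Over S} (g : T' ⟶ T) :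
    IsPullback (bcMap f g) (pullback.snd f T'.hom) (pullback.snd f T.hom) g.left := by
  have hw : g.left ≫ T.hom = T'.hom := Over.w g
  have hbig : IsPullback (bcMap f g ≫ pullback.fst f T.hom) (pullback.snd f T'.hom) f
      (g.left ≫ T.hom) := by
    rw [bcMap_fst, hw]
    exact IsPullback.of_hasPullback f T'.hom
  exact IsPullback.of_right hbig (bcMap_snd f g) (IsPullback.of_hasPullback f T.hom)

theorem flat_bcMap {T T' : Over S} (g : T' ⟶ T) [Flat g.left] : Flat (bcMap f g) :=
  MorphismProperty.of_isPullback (P := @Flat) (isPullback_bcMap f g).flip inferInstance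

theorem exists_bcMap_eq {T : Over S} {ι : Type*} (Ti : ι → Over S) (g : ∀ i, Ti i ⟶ T)
    (hs : ∀ t : T.left, ∃ i, t ∈ Set.range (g i).left) (z : ↥(pullback f T.hom)) :
    ∃ i, z ∈ Set.range (bcMap f (g i)) := by
  obtain ⟨i, ti, hti⟩ := hs ((pullback.snd f T.hom) z)
  obtain ⟨p, hp1, -⟩ := Scheme.exists_preimage_of_isPullback (isPullback_bcMap f (g i)) z ti hti.symm
  exact ⟨i, p, hp1⟩

end Groth.Agent.Lib.Helper26.FpqcBC
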