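import Mathlib
import Groth.Agent.Lib.Helper26FpqcMod
set_option backward.isDefEq.respectTransparency.types false

/-!
# Descent of flatness over the base along flat morphisms (helper26)

Namespace `Groth.Agent.Lib.Helper26.FpqcFlat`.

* `flat_of_faithfullyFlat_tensor`: `R → A → A'` with `A → A'` faithfully flat, `M` an `A`-module with `A' ⊗_A M` flat over
  `R`: then `M` is flat over `R`.
* `isFlatOverAt_of_pullback`: in a commutative square with `g`, `g'` flat, flatness of `g'^*F` over `S'` at `x'` implies
  flatness of `F` over `S` at `g' x'`.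
-/

set_option autoImplicit false
set_option linter.style.haveILetI false
universe u
open CategoryTheory CategoryTheory.Limits TopCat TopologicalSpace Opposite AlgebraicGeometry TensorProduct

namespace Groth.Agent.Lib.Helper26.FpqcFlat

open Groth.Agent.Lib.Helper1.Sky Groth.Agent.Lib.Helper1.StalkTensor Groth.Agent.Lib.Helper26.FpqcMod

/-- descent of flatness over a base ring along a faithfully flat extension of the intermediate ring. -/
theorem flat_of_faithfullyFlat_tensor {R A A' M : Type u} [CommRing R] [CommRing A] [CommRing A']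
    [Algebra R A] [Algebra A A'] [Algebra R A'] [IsScalarTower R A A'] [Module.FaithfullyFlat A A']
    [AddCommGroup M] [Module A M] [Module R M] [IsScalarTower R A M]
    (h : Module.Flat R (A' ⊗[A] M)) : Module.Flat R M := by
  rw [Module.Flat.iff_lTensor_preserves_injective_linearMap]
  intro N N' _ _ _ _ f hf
  have h1 : Function.Injective (f.lTensor (A' ⊗[A] M)) :=
    Module.Flat.lTensor_preserves_injective_linearMap f hf
  let φ : M ⊗[R] N →ₗ[A] M ⊗[R] N' := TensorProduct.AlgebraTensorModule.lTensor A M f
  have hφ : ∀ t, φ t = f.lTensor M t := fun t => rfl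
  let e := TensorProduct.AlgebraTensorModule.assoc R A A A' M N
  let e' := TensorProduct.AlgebraTensorModule.assoc R A A A' M N'
  have hcomm : ∀ t, e' (f.lTensor (A' ⊗[A] M) t) = φ.lTensor A' (e t) := by
    intro t
    induction t using TensorProduct.induction_on with
    | zero => simp
    | add x y hx hy => simp only [map_add, hx, hy]
    | tmul x n =>
      induction x using TensorProduct.induction_on with
      | zero => simp
      | add x y hx hy =>
        rw [TensorProduct.add_tmul, map_add, map_add, map_add, map_add, hx, hy]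
      | tmul a m =>
        simp [e, e', φ]
  have h2 : Function.Injective (φ.lTensor A') := by
    intro s t hst
    obtain ⟨s, rfl⟩ := e.surjective s
    obtain ⟨t, rfl⟩ := e.surjective t
    rw [← hcomm, ← hcomm] at hst
    rw [h1 (e'.injective hst)]
  have h3 : Function.Injective φ :=
    (Module.FaithfullyFlat.lTensor_injective_iff_injective A A' φ).1 h2
  intro s t hst
  exact h3 ((hφ s).trans (hst.trans (hφ t).symm))

variable {X S X' S' : Scheme.{u}} {f : X ⟶ S} {f' : X' ⟶ S'} {g' : X' ⟶ X} {g : S' ⟶ S}

/-- descent of flatness over the base along a commutative square with flat sides. -/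
theorem isFlatOverAt_of_pullback (w : g' ≫ f = f' ≫ g) [Flat g] [Flat g'] (F : X.Modules) (x' : X')
    (h : FlatMod.IsFlatOverAt f' ((Scheme.Modules.pullback g').obj F) x') :
    FlatMod.IsFlatOverAt f F (g' x') := by
  letI algA : Algebra (Ox (g' x')) (Ox x') := (g'.stalkMap x').hom.toAlgebra
  haveI := faithfullyFlat_stalkMap g' x'
  let Mx : ModuleCat.{u} (Ox (g' x')) := (stalkFun (g' x')).obj F
  let e : ((stalkFun x').obj ((Scheme.Modules.pullback g').obj F)) ≃ₗ[Ox x'] (Ox x') ⊗[Ox (g' x')] Mx :=
    ((stalkPullbackIso g' x').app F).toLinearEquiv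
  -- flatness over the stalk of `S` at the image point, for any description of the composite
  have key : ∀ (k : X' ⟶ S), k = f' ≫ g →
      @Module.Flat (S.presheaf.stalk (k.base x')) ((Ox x') ⊗[Ox (g' x')] Mx) _ _
        (Module.compHom _ (k.stalkMap x').hom) := by
    rintro k rfl
    letI : Module (S'.presheaf.stalk (f'.base x')) ((stalkFun x').obj ((Scheme.Modules.pullback g').obj F)) :=
      Module.compHom _ (f'.stalkMap x').hom
    letI m2 : Module (S'.presheaf.stalk (f'.base x')) ((Ox x') ⊗[Ox (g' x')] Mx) :=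
      Module.compHom _ (f'.stalkMap x').hom
    let eR : ((Ox x') ⊗[Ox (g' x')] Mx) ≃ₗ[S'.presheaf.stalk (f'.base x')]
        ((stalkFun x').obj ((Scheme.Modules.pullback g').obj F)) :=
      { e.symm with
        map_smul' := fun r t => e.symm.map_smul ((f'.stalkMap x').hom r) t }
    haveI hfl1 : Module.Flat (S'.presheaf.stalk (f'.base x'))
        ((stalkFun x').obj ((Scheme.Modules.pullback g').obj F)) := h
    haveI hfl2 : Module.Flat (S'.presheaf.stalk (f'.base x')) ((Ox x') ⊗[Ox (g' x')] Mx) :=
      Module.Flat.of_linearEquiv eR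
    letI algg : Algebra (S.presheaf.stalk ((f' ≫ g).base x')) (S'.presheaf.stalk (f'.base x')) :=
      (g.stalkMap (f'.base x')).hom.toAlgebra
    haveI hflg : Module.Flat (S.presheaf.stalk ((f' ≫ g).base x')) (S'.presheaf.stalk (f'.base x')) :=
      Flat.stalkMap g (f'.base x')
    letI m3 : Module (S.presheaf.stalk ((f' ≫ g).base x')) ((Ox x') ⊗[Ox (g' x')] Mx) :=
      Module.compHom _ ((f' ≫ g).stalkMap x').hom
    haveI : IsScalarTower (S.presheaf.stalk ((f' ≫ g).base x')) (S'.presheaf.stalk (f'.base x'))
        ((Ox x') ⊗[Ox (g' x')] Mx) := by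
      refine ⟨fun r r' t => ?_⟩
      change (f'.stalkMap x').hom ((g.stalkMap (f'.base x')).hom r * r') • t =
        ((f' ≫ g).stalkMap x').hom r • ((f'.stalkMap x').hom r' • t)
      rw [map_mul, mul_smul, Scheme.Hom.stalkMap_comp]
      rfl
    exact Module.Flat.trans (S.presheaf.stalk ((f' ≫ g).base x')) (S'.presheaf.stalk (f'.base x')) _
  have h2 := key (g' ≫ f) w
  -- now descend along `g'`
  unfold FlatMod.IsFlatOverAt
  letI algR : Algebra (S.presheaf.stalk (f.base (g'.base x'))) (Ox (g' x')) :=
    (f.stalkMap (g'.base x')).hom.toAlgebra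
  letI algR' : Algebra (S.presheaf.stalk (f.base (g'.base x'))) (Ox x') :=
    ((g' ≫ f).stalkMap x').hom.toAlgebra
  haveI : IsScalarTower (S.presheaf.stalk (f.base (g'.base x'))) (Ox (g' x')) (Ox x') := by
    refine IsScalarTower.of_algebraMap_eq (fun r => ?_)
    change ((g' ≫ f).stalkMap x').hom r = (g'.stalkMap x').hom ((f.stalkMap (g'.base x')).hom r)
    rw [Scheme.Hom.stalkMap_comp]
    rfl
  letI mR : Module (S.presheaf.stalk (f.base (g'.base x'))) Mx :=
    Module.compHom _ (f.stalkMap (g'.base x')).hom
  haveI : IsScalarTower (S.presheaf.stalk (f.base (g'.base x'))) (Ox (g' x')) Mx := by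
    refine ⟨fun r a m => ?_⟩
    change ((f.stalkMap (g'.base x')).hom r * a) • m = (f.stalkMap (g'.base x')).hom r • (a • m)
    rw [mul_smul]
  have hinst : (Module.compHom ((Ox x') ⊗[Ox (g' x')] Mx) ((g' ≫ f).stalkMap x').hom :
      Module (S.presheaf.stalk (f.base (g'.base x'))) ((Ox x') ⊗[Ox (g' x')] Mx)) =
        TensorProduct.leftModule := by
    refine Module.ext' _ _ (fun r t => ?_)
    exact algebraMap_smul (Ox x') r t
  have h3 : @Module.Flat (S.presheaf.stalk (f.base (g'.base x'))) ((Ox x') ⊗[Ox (g' x')] Mx) _ _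
      (Module.compHom ((Ox x') ⊗[Ox (g' x')] Mx) ((g' ≫ f).stalkMap x').hom) := h2
  rw [hinst] at h3
  have h4 : @Module.Flat (S.presheaf.stalk (f.base (g'.base x'))) Mx _ _ mR :=
    flat_of_faithfullyFlat_tensor (A := Ox (g' x')) (A' := Ox x') (M := Mx) h3
  exact h4

end Groth.Agent.Lib.Helper26.FpqcFlat
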