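import Mathlib
import Groth.Prelude.Def_FlatFun
import Groth.Prelude.Def_QuotSh

/-!
# fpqc sheaf criterion for sub-presheaves of the final presheaf (helper26)

Namespace `Groth.Agent.Lib.Helper26.FpqcGen`.

* `isSheaf_genPSp_fpqc`: `FlatFun.genPSp S P` is a sheaf for `QuotSh.J Scheme.fpqcPrecoverage S` as soon as `P` is stable
  under morphisms over `S` and local for jointly surjective families of flat morphisms.
-/

set_option autoImplicit false
universe u
open CategoryTheory AlgebraicGeometry Limits Opposite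

namespace Groth.Agent.Lib.Helper26.FpqcGen

/-- the sub-presheaf of the final presheaf generated by a condition `P` stable under morphisms over `S` and local for
jointly surjective families of flat morphisms is an fpqc sheaf. -/
theorem isSheaf_genPSp_fpqc (S : Scheme.{u}) (P : Over S → Prop)
    (stab : ∀ ⦃T T₀ : Over S⦄ (_ : T ⟶ T₀), P T₀ → P T)
    (loc : ∀ (T : Over S) {ι : Type (u + 1)} (Ti : ι → Over S) (g : ∀ i, Ti i ⟶ T),
      (∀ i, Flat (g i).left) → (∀ t : T.left, ∃ i, t ∈ Set.range (g i).left) →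
        (∀ i, P (Ti i)) → P T) :
    Presheaf.IsSheaf (QuotSh.J Scheme.fpqcPrecoverage S) (FlatFun.genPSp S P) := by
  rw [isSheaf_iff_isSheaf_of_type]
  show Presieve.IsSheaf (Scheme.fpqcPrecoverage.toGrothendieck.over S) _
  rw [over_toGrothendieck_eq_toGrothendieck_comap_forget,
    Precoverage.isSheaf_toGrothendieck_iff_of_isStableUnderBaseChange]
  intro T R hR
  obtain ⟨ι, Y, g, rfl⟩ := R.exists_eq_ofArrows
  rw [Precoverage.mem_comap_iff, Presieve.map_ofArrows] at hR
  have hR' := Scheme.propQCPrecoverage_le_precoverage _ hR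
  obtain ⟨hsurj, hflat⟩ := (Scheme.ofArrows_mem_precoverage_iff (P := @Flat)
    (X := fun i => (Y i).left) (f := fun i => (g i).left)).1 hR'
  intro x hx
  have hP : ∀ i, P (Y i) := fun i =>
    (FlatFun.genPSp_nonempty_iff_of_stable P stab (Y i)).1 ⟨x (g i) (Presieve.ofArrows.mk i)⟩
  have hT : P T := loc T Y g (fun i => hflat i) (fun t => hsurj t) hP
  obtain ⟨t⟩ := FlatFun.genPSp_nonempty_of P hT
  exact ⟨t, fun _ _ _ => Subsingleton.elim _ _, fun _ _ => Subsingleton.elim _ _⟩

end Groth.Agent.Lib.Helper26.FpqcGen
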