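import Mathlib
import Groth.Prelude.Def_ProCons

/-!
# Constructible sets at a generic point (helper26)

For a point `η` dense in `X` (`closure {η} = univ`):
* `mem_interior_or_of_isConstructible`, `mem_interior_or_of_isLocallyConstructible`: a (locally) constructible set or its
  complement is a neighbourhood of `η`;
* `mem_interior_of_isIndConstructible`: an ind-constructible set containing `η` is a neighbourhood of `η`.
-/

set_option autoImplicit false
open Topology Set

namespace Groth.Agent.Lib.Helper26.GenericCons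

variable {X : Type*} [TopologicalSpace X] {η : X}

theorem mem_interior_or_of_isConstructible (hη : closure ({η} : Set X) = univ) {C : Set X}
    (hC : IsConstructible C) : (η ∈ C → η ∈ interior C) ∧ (η ∉ C → η ∈ interior Cᶜ) := by
  induction hC using IsConstructible.empty_union_induction with
  | open_retrocompact U hU _ =>
    refine ⟨fun h => by rwa [hU.interior_eq], fun h => ?_⟩
    have h1 : closure ({η} : Set X) ⊆ Uᶜ :=
      closure_minimal (singleton_subset_iff.2 h) hU.isClosed_compl
    rw [hη] at h1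
    rw [univ_subset_iff.1 h1, interior_univ]
    trivial
  | union s _ t _ ihs iht =>
    refine ⟨fun h => ?_, fun h => ?_⟩
    · rcases h with h | h
      · exact interior_mono subset_union_left (ihs.1 h)
      · exact interior_mono subset_union_right (iht.1 h)
    · rw [compl_union, interior_inter]
      exact ⟨ihs.2 (fun h' => h (Or.inl h')), iht.2 (fun h' => h (Or.inr h'))⟩
  | compl s _ ih =>
    refine ⟨fun h => ih.2 h, fun h => ?_⟩
    rw [compl_compl]
    exact ih.1 (not_not.1 h)

theorem closure_singleton_subtype (hη : closure ({η} : Set X) = univ) {U : Set X} (hηU : η ∈ U) :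
    closure ({⟨η, hηU⟩} : Set ↥U) = univ := by
  rw [eq_univ_iff_forall]
  intro x
  rw [closure_subtype, image_singleton, hη]
  trivial

/-- a locally constructible set or its complement is a neighbourhood of a dense point. -/
theorem mem_interior_or_of_isLocallyConstructible (hη : closure ({η} : Set X) = univ) {E : Set X}
    (hE : IsLocallyConstructible E) : (η ∈ E → η ∈ interior E) ∧ (η ∉ E → η ∈ interior Eᶜ) := by
  obtain ⟨U, hU, hUo, hC⟩ := hE η
  have hηU : η ∈ U := mem_of_mem_nhds hU
  have key := mem_interior_or_of_isConstructible (closure_singleton_subtype hη hηU) hC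
  have hopen : ∀ V : Set ↥U, IsOpen V → IsOpen (Subtype.val '' V) := fun V hV =>
    hUo.isOpenMap_subtype_val V hV
  refine ⟨fun h => ?_, fun h => ?_⟩
  · have h1 := key.1 (show (⟨η, hηU⟩ : ↥U) ∈ (Subtype.val ⁻¹' E : Set ↥U) from h)
    refine mem_interior.2 ⟨Subtype.val '' interior (Subtype.val ⁻¹' E : Set ↥U), ?_, hopen _ isOpen_interior,
      ⟨⟨η, hηU⟩, h1, rfl⟩⟩
    rintro _ ⟨y, hy, rfl⟩
    exact (interior_subset hy : y ∈ (Subtype.val ⁻¹' E : Set ↥U))
  · have h1 := key.2 (show (⟨η, hηU⟩ : ↥U) ∉ (Subtype.val ⁻¹' E : Set ↥U) from h)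
    refine mem_interior.2 ⟨Subtype.val '' interior (Subtype.val ⁻¹' E : Set ↥U)ᶜ, ?_, hopen _ isOpen_interior,
      ⟨⟨η, hηU⟩, h1, rfl⟩⟩
    rintro _ ⟨y, hy, rfl⟩
    exact (interior_subset hy : y ∈ (Subtype.val ⁻¹' E : Set ↥U)ᶜ)

/-- an ind-constructible set containing a dense point is a neighbourhood of it. -/
theorem mem_interior_of_isIndConstructible (hη : closure ({η} : Set X) = univ) {E : Set X}
    (hE : ProCons.IsIndConstructible E) (h : η ∈ E) : η ∈ interior E := by
  obtain ⟨U, hUo, hηU, 𝒯, h𝒯, hEU⟩ := hE η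
  have h1 : (⟨η, hηU⟩ : ↥U) ∈ ⋃₀ 𝒯 := by rw [← hEU]; exact h
  obtain ⟨T, hT, hηT⟩ := h1
  have h2 := (mem_interior_or_of_isLocallyConstructible (closure_singleton_subtype hη hηU) (h𝒯 T hT)).1 hηT
  refine mem_interior.2 ⟨Subtype.val '' interior T, ?_, hUo.isOpenMap_subtype_val _ isOpen_interior,
    ⟨⟨η, hηU⟩, h2, rfl⟩⟩
  rintro _ ⟨y, hy, rfl⟩
  have h3 : y ∈ ⋃₀ 𝒯 := ⟨T, hT, interior_subset hy⟩
  rw [← hEU] at h3
  exact h3

end Groth.Agent.Lib.Helper26.GenericCons
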