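import Mathlib
import Groth.Agent.Lib.Helper25IdComp

set_option autoImplicit false
set_option linter.unusedSectionVars false
set_option linter.style.haveILetI false
universe u
open CategoryTheory CategoryTheory.Limits MonoidalCategory CartesianMonoidalCategory MonObj GrpObj AlgebraicGeometry
open Topology TopologicalSpace

/-!
# Rational points of schemes locally of finite type over an algebraically closed field,
with their Zariski topology; images of power maps on commutative algebraic groups are closed.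
-/

namespace Groth.Agent.Lib.Helper26.KPts

section abstract

/-- In a commutative group with a topology for which translations and inversion are continuous
(no joint continuity), a subgroup containing a nonempty relatively open subset of its closure
is closed. -/
theorem isClosed_subgroup_of_open_in_closure {Γ : Type*} [CommGroup Γ] [TopologicalSpace Γ]
    (hmul : ∀ a : Γ, Continuous (fun x : Γ => a * x)) (hinv : Continuous (fun x : Γ => x⁻¹))
    (A : Subgroup Γ) (O : Set Γ) (hO : IsOpen O)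
    (hne : (O ∩ closure (A : Set Γ)).Nonempty)
    (hsub : O ∩ closure (A : Set Γ) ⊆ (A : Set Γ)) : IsClosed (A : Set Γ) := by
  have hAB : (A : Set Γ) ⊆ closure (A : Set Γ) := subset_closure
  have h1 : ∀ a ∈ A, ∀ c ∈ closure (A : Set Γ), a * c ∈ closure (A : Set Γ) := fun a ha c hc =>
    map_mem_closure (hmul a) hc (fun x hx => A.mul_mem ha hx)
  have h2 : ∀ c ∈ closure (A : Set Γ), ∀ b ∈ closure (A : Set Γ),
      c * b ∈ closure (A : Set Γ) := by
    intro c hc b hb
    have h : c * b ∈ closure (closure (A : Set Γ)) :=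
      map_mem_closure (hmul c) hb (fun a ha => by
        show c * a ∈ closure (A : Set Γ)
        rw [mul_comm]; exact h1 a ha c hc)
    rwa [closure_closure] at h
  have h3 : ∀ b ∈ closure (A : Set Γ), b⁻¹ ∈ closure (A : Set Γ) := fun b hb =>
    map_mem_closure hinv hb (fun x hx => A.inv_mem hx)
  have hBA : closure (A : Set Γ) ⊆ (A : Set Γ) := by
    intro b hb
    obtain ⟨u, huO, huB⟩ := hne
    have huA : u ∈ A := hsub ⟨huO, huB⟩
    have hcont : Continuous (fun x : Γ => (u * b⁻¹) * x) := hmul _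
    have hopen : IsOpen ((fun x : Γ => (u * b⁻¹) * x) ⁻¹' O) := hO.preimage hcont
    have hbmem : b ∈ (fun x : Γ => (u * b⁻¹) * x) ⁻¹' O := by
      show u * b⁻¹ * b ∈ O
      rwa [inv_mul_cancel_right]
    obtain ⟨a, haO, haA⟩ := mem_closure_iff.mp hb _ hopen hbmem
    have hφB : u * b⁻¹ * a ∈ closure (A : Set Γ) := h2 _ (h2 _ huB _ (h3 _ hb)) _ (hAB haA)
    have hφA : u * b⁻¹ * a ∈ A := hsub ⟨haO, hφB⟩
    have hb' : b⁻¹ ∈ A := by
      have : b⁻¹ = u⁻¹ * (u * b⁻¹ * a) * a⁻¹ := by group
      rw [this]; exact A.mul_mem (A.mul_mem (A.inv_mem huA) hφA) (A.inv_mem haA)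
    have := A.inv_mem hb'
    rwa [_root_.inv_inv] at this
  have : (A : Set Γ) = closure (A : Set Γ) := Set.Subset.antisymm hAB hBA
  rw [this]; exact isClosed_closure

/-- A constructible set is, near any point `η`, either a neighbourhood of `η` in `closure {η}`
or disjoint from such a neighbourhood. -/
theorem exists_isOpen_of_isConstructible {X : Type*} [TopologicalSpace X] {s : Set X}
    (hs : IsConstructible s) (y₀ : X) :
    ∃ O : Set X, IsOpen O ∧ y₀ ∈ O ∧ (O ∩ closure {y₀} ⊆ s ∨ O ∩ closure {y₀} ⊆ sᶜ) := by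
  induction hs using IsConstructible.empty_union_induction with
  | open_retrocompact U hU hU' =>
    by_cases h : y₀ ∈ U
    · exact ⟨U, hU, h, Or.inl Set.inter_subset_left⟩
    · refine ⟨Set.univ, isOpen_univ, Set.mem_univ _, Or.inr ?_⟩
      intro x hx
      exact closure_minimal (Set.singleton_subset_iff.2 h) hU.isClosed_compl hx.2
  | union s hs t ht ihs iht =>
    obtain ⟨O₁, hO₁, h₁, hs'⟩ := ihs
    obtain ⟨O₂, hO₂, h₂, ht'⟩ := iht
    rcases hs' with hs' | hs'
    · exact ⟨O₁, hO₁, h₁, Or.inl (hs'.trans Set.subset_union_left)⟩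
    rcases ht' with ht' | ht'
    · exact ⟨O₂, hO₂, h₂, Or.inl (ht'.trans Set.subset_union_right)⟩
    refine ⟨O₁ ∩ O₂, hO₁.inter hO₂, ⟨h₁, h₂⟩, Or.inr ?_⟩
    intro x hx
    rw [Set.compl_union]
    exact ⟨hs' ⟨hx.1.1, hx.2⟩, ht' ⟨hx.1.2, hx.2⟩⟩
  | compl s hs ih =>
    obtain ⟨O, hO, h, h'⟩ := ih
    refine ⟨O, hO, h, ?_⟩
    rcases h' with h' | h'
    · exact Or.inr (by rwa [compl_compl])
    · exact Or.inl h'

theorem exists_isOpen_inter_closure_subset {X : Type*} [TopologicalSpace X] {s : Set X}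
    (hs : IsConstructible s) {y₀ : X} (hy₀ : y₀ ∈ s) :
    ∃ O : Set X, IsOpen O ∧ y₀ ∈ O ∧ O ∩ closure {y₀} ⊆ s := by
  obtain ⟨O, hO, h, h' | h'⟩ := exists_isOpen_of_isConstructible hs y₀
  · exact ⟨O, hO, h, h'⟩
  · exact absurd hy₀ (h' ⟨h, subset_closure (Set.mem_singleton y₀)⟩)

end abstract

section kpts
variable {k : Type u} [Field k] [IsAlgClosed k]
variable {X Y : Over (Spec (CommRingCat.of k))}

/-- the underlying (closed) point of a rational point -/
noncomputable def pt (x : 𝟙_ (Over (Spec (CommRingCat.of k))) ⟶ X) : X.left :=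
  x.left (IsLocalRing.closedPoint k)

lemma pt_comp (x : 𝟙_ (Over (Spec (CommRingCat.of k))) ⟶ X) (f : X ⟶ Y) :
    pt (x ≫ f) = f.left (pt x) := by
  rfl

lemma pt_injective [LocallyOfFiniteType X.hom] :
    Function.Injective (pt : (𝟙_ (Over (Spec (CommRingCat.of k))) ⟶ X) → X.left) := by
  intro x y h
  have hx : x.left ≫ X.hom = 𝟙 _ := Over.w x
  have hy : y.left ≫ X.hom = 𝟙 _ := Over.w y
  have : x.left = y.left := ext_of_apply_closedPoint_eq (K := k) X.hom hx hy h
  exact Over.OverMorphism.ext this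

lemma isClosed_singleton_pt [LocallyOfFiniteType X.hom]
    (x : 𝟙_ (Over (Spec (CommRingCat.of k))) ⟶ X) : IsClosed ({pt x} : Set X.left) := by
  have hx : x.left ≫ X.hom = 𝟙 _ := Over.w x
  have := (pointEquivClosedPoint (K := k) X.hom ⟨x.left, hx⟩).2
  exact this

lemma exists_pt_eq [LocallyOfFiniteType X.hom] (z : X.left) (hz : IsClosed ({z} : Set X.left)) :
    ∃ x : 𝟙_ (Over (Spec (CommRingCat.of k))) ⟶ X, pt x = z := by
  refine ⟨Over.homMk (pointOfClosedPoint (K := k) X.hom z hz) ?_, ?_⟩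
  · exact pointOfClosedPoint_comp (K := k) X.hom z hz
  · exact pointOfClosedPoint_apply (K := k) X.hom z hz _

lemma exists_pt_mem [LocallyOfFiniteType X.hom] {T : Set X.left} (hT : T.Nonempty)
    (hT' : IsLocallyClosed T) : ∃ x : 𝟙_ (Over (Spec (CommRingCat.of k))) ⟶ X, pt x ∈ T := by
  haveI : JacobsonSpace X.left :=
    LocallyOfFiniteType.jacobsonSpace (Y := Spec (CommRingCat.of k)) X.hom
  obtain ⟨z, hzT, hz⟩ := nonempty_inter_closedPoints hT hT'
  obtain ⟨x, rfl⟩ := exists_pt_eq z hz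
  exact ⟨x, hzT⟩

lemma exists_lift_of_mem_range [LocallyOfFiniteType X.hom] [LocallyOfFiniteType Y.hom]
    (f : X ⟶ Y) (y : 𝟙_ (Over (Spec (CommRingCat.of k))) ⟶ Y)
    (hy : pt y ∈ Set.range f.left) :
    ∃ x : 𝟙_ (Over (Spec (CommRingCat.of k))) ⟶ X, x ≫ f = y := by
  have hcl : IsClosed (f.left ⁻¹' {pt y}) :=
    (isClosed_singleton_pt y).preimage f.left.continuous
  obtain ⟨z, hz⟩ := hy
  obtain ⟨x, hx⟩ := exists_pt_mem (X := X) (T := f.left ⁻¹' {pt y}) ⟨z, hz⟩
    hcl.isLocallyClosed
  exact ⟨x, pt_injective (by rw [pt_comp]; exact hx)⟩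

/-- the Zariski topology on rational points -/
@[reducible] noncomputable def kTop (X : Over (Spec (CommRingCat.of k))) :
    TopologicalSpace (𝟙_ (Over (Spec (CommRingCat.of k))) ⟶ X) :=
  TopologicalSpace.induced pt inferInstance

attribute [local instance] kTop

lemma isInducing_pt :
    IsInducing (pt : (𝟙_ (Over (Spec (CommRingCat.of k))) ⟶ X) → X.left) := ⟨rfl⟩

lemma continuous_pt :
    Continuous (pt : (𝟙_ (Over (Spec (CommRingCat.of k))) ⟶ X) → X.left) :=
  continuous_induced_dom

lemma continuous_comp (f : X ⟶ Y) :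
    Continuous (fun x : 𝟙_ (Over (Spec (CommRingCat.of k))) ⟶ X => x ≫ f) := by
  rw [isInducing_pt.continuous_iff]
  have : (pt ∘ fun x : 𝟙_ (Over (Spec (CommRingCat.of k))) ⟶ X => x ≫ f) = f.left ∘ pt := by
    funext x; exact pt_comp x f
  rw [this]
  exact f.left.continuous.comp continuous_pt

variable {H : Over (Spec (CommRingCat.of k))} [GrpObj H]

lemma continuous_mul_left (a : 𝟙_ (Over (Spec (CommRingCat.of k))) ⟶ H) :
    Continuous (fun x : 𝟙_ (Over (Spec (CommRingCat.of k))) ⟶ H => a * x) := by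
  have h : (fun x : 𝟙_ (Over (Spec (CommRingCat.of k))) ⟶ H => a * x) =
      fun x => x ≫ ((toUnit H ≫ a) * 𝟙 H) := by
    funext x
    have h1 : x ≫ toUnit H = 𝟙 _ := toUnit_unique _ _
    rw [MonObj.comp_mul, Category.comp_id, ← Category.assoc, h1, Category.id_comp]
  rw [h]; exact continuous_comp _

lemma continuous_inv :
    Continuous (fun x : 𝟙_ (Over (Spec (CommRingCat.of k))) ⟶ H => x⁻¹) := by
  have h : (fun x : 𝟙_ (Over (Spec (CommRingCat.of k))) ⟶ H => x⁻¹) =
      fun x => x ≫ (𝟙 H)⁻¹ := by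
    funext x
    rw [GrpObj.comp_inv, Category.comp_id]
  rw [h]; exact continuous_comp _

end kpts

section power
variable {k : Type u} [Field k] [IsAlgClosed k]
variable (H : Over (Spec (CommRingCat.of k))) [GrpObj H]

attribute [local instance] kTop

lemma noetherianSpace_left [LocallyOfFiniteType H.hom] [CompactSpace H.left] :
    NoetherianSpace H.left := by
  haveI : IsLocallyNoetherian H.left :=
    LocallyOfFiniteType.isLocallyNoetherian (Y := Spec (CommRingCat.of k)) H.hom
  haveI : IsNoetherian H.left := { }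
  infer_instance

variable [IsCommMonObj H] [LocallyOfFiniteType H.hom] [CompactSpace H.left]
  [IrreducibleSpace H.left]

/-- the image of the `N`-th power map on the rational points of a connected commutative algebraic
group over an algebraically closed field is Zariski closed. -/
theorem isClosed_range_pow (N : ℕ) :
    IsClosed (((powMonoidHom N : (𝟙_ (Over (Spec (CommRingCat.of k))) ⟶ H) →*
      (𝟙_ (Over (Spec (CommRingCat.of k))) ⟶ H)).range :
        Subgroup (𝟙_ (Over (Spec (CommRingCat.of k))) ⟶ H)) :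
        Set (𝟙_ (Over (Spec (CommRingCat.of k))) ⟶ H)) := by
  classical
  let f : H ⟶ H := (𝟙 H) ^ N
  have hf : ∀ x : 𝟙_ (Over (Spec (CommRingCat.of k))) ⟶ H, x ≫ f = x ^ N := fun x => by
    show x ≫ (𝟙 H) ^ N = x ^ N
    rw [MonObj.comp_pow, Category.comp_id]
  haveI : NoetherianSpace H.left := noetherianSpace_left H
  haveI : QuasiSeparatedSpace H.left := ⟨fun U V _ _ _ _ => NoetherianSpace.isCompact _⟩
  haveI : IsLocallyNoetherian H.left :=
    LocallyOfFiniteType.isLocallyNoetherian (Y := Spec (CommRingCat.of k)) H.hom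
  haveI : LocallyOfFiniteType f.left := by
    have : LocallyOfFiniteType (f.left ≫ H.hom) := by rw [Over.w f]; infer_instance
    exact locallyOfFiniteType_of_comp f.left H.hom
  haveI : LocallyOfFinitePresentation f.left := inferInstance
  haveI : QuasiCompact f.left := inferInstance
  have hC : IsConstructible (Set.range f.left) := by
    rw [← Set.image_univ]
    exact f.left.isConstructible_image IsConstructible.univ
  have hηC : f.left (genericPoint H.left) ∈ Set.range f.left := ⟨_, rfl⟩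
  have hCη : Set.range f.left ⊆ closure {f.left (genericPoint H.left)} := by
    rintro _ ⟨z, rfl⟩
    have hz : z ∈ closure ({genericPoint H.left} : Set H.left) :=
      specializes_iff_mem_closure.1 (genericPoint_specializes z)
    have := image_closure_subset_closure_image f.left.continuous ⟨z, hz, rfl⟩
    rwa [Set.image_singleton] at this
  obtain ⟨O, hO, hηO, hOC⟩ := exists_isOpen_inter_closure_subset hC hηC
  have hA : ∀ y : 𝟙_ (Over (Spec (CommRingCat.of k))) ⟶ H,
      y ∈ (powMonoidHom N : (𝟙_ (Over (Spec (CommRingCat.of k))) ⟶ H) →*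
        (𝟙_ (Over (Spec (CommRingCat.of k))) ⟶ H)).range ↔ pt y ∈ Set.range f.left := by
    intro y
    constructor
    · rintro ⟨x, rfl⟩
      exact ⟨pt x, (pt_comp x f).symm.trans (congrArg pt (hf x))⟩
    · intro hy
      obtain ⟨x, hx⟩ := exists_lift_of_mem_range f y hy
      exact ⟨x, (hf x).symm.trans hx⟩
  refine isClosed_subgroup_of_open_in_closure continuous_mul_left continuous_inv _ (pt ⁻¹' O)
    (hO.preimage continuous_pt) ?_ ?_
  · obtain ⟨x, hx⟩ := exists_pt_mem (X := H)
      (T := O ∩ closure {f.left (genericPoint H.left)})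
      ⟨_, hηO, subset_closure (Set.mem_singleton _)⟩
      (hO.isLocallyClosed.inter isClosed_closure.isLocallyClosed)
    exact ⟨x, hx.1, subset_closure ((hA x).2 (hOC hx))⟩
  · rintro x ⟨hxO, hxcl⟩
    refine (hA x).2 (hOC ⟨hxO, ?_⟩)
    have h1 := image_closure_subset_closure_image continuous_pt ⟨x, hxcl, rfl⟩
    refine closure_minimal ?_ isClosed_closure h1
    rintro _ ⟨y, hy, rfl⟩
    exact hCη ((hA y).1 hy)

/-- the images of the `n^m`-th power maps on rational points stabilise. -/
theorem exists_pow_range_eq (n : ℕ) :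
    ∃ m : ℕ, ∀ x : 𝟙_ (Over (Spec (CommRingCat.of k))) ⟶ H,
      ∃ e : 𝟙_ (Over (Spec (CommRingCat.of k))) ⟶ H, e ^ (n ^ (m + 1)) = x ^ (n ^ m) := by
  haveI : NoetherianSpace H.left := noetherianSpace_left H
  haveI : NoetherianSpace (𝟙_ (Over (Spec (CommRingCat.of k))) ⟶ H) :=
    isInducing_pt.noetherianSpace
  let a : ℕ → Closeds (𝟙_ (Over (Spec (CommRingCat.of k))) ⟶ H) := fun m =>
    ⟨_, isClosed_range_pow H (n ^ m)⟩
  obtain ⟨m, hm⟩ : ∃ m, ∀ m', ¬ a m' < a m := by
    have hwf : WellFounded ((· < ·) : Closeds (𝟙_ (Over (Spec (CommRingCat.of k))) ⟶ H) →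
        Closeds (𝟙_ (Over (Spec (CommRingCat.of k))) ⟶ H) → Prop) := wellFounded_lt
    obtain ⟨_, ⟨m, rfl⟩, hmin⟩ := hwf.has_min (Set.range a) ⟨a 0, 0, rfl⟩
    exact ⟨m, fun m' h => hmin (a m') ⟨m', rfl⟩ h⟩
  refine ⟨m, fun x => ?_⟩
  have hle : a (m + 1) ≤ a m := by
    intro y hy
    obtain ⟨z, rfl⟩ : ∃ z : 𝟙_ (Over (Spec (CommRingCat.of k))) ⟶ H, z ^ (n ^ (m + 1)) = y := hy
    show ∃ w : 𝟙_ (Over (Spec (CommRingCat.of k))) ⟶ H, w ^ (n ^ m) = z ^ (n ^ (m + 1))
    exact ⟨z ^ n, by rw [← pow_mul, ← pow_succ']⟩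
  have heq : a (m + 1) = a m := by
    by_contra hne
    exact hm (m + 1) (lt_of_le_of_ne hle hne)
  have hx : x ^ (n ^ m) ∈ a m := ⟨x, rfl⟩
  rw [← heq] at hx
  obtain ⟨e, he⟩ := hx
  exact ⟨e, he⟩

end power

end Groth.Agent.Lib.Helper26.KPts
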