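import Mathlib
import Groth.Agent.S6086
import Groth.Agent.Lib.Helper26FGR
import Groth.Agent.Lib.Helper26KPts

/-!
Isomorphisms of finitely presented group schemes over a cofiltered limit of schemes descend to a
stage; consequence: finitely presented group schemes over an algebraically closed field which
become isomorphic over an extension field are isomorphic (helper26).
-/

set_option autoImplicit false
set_option linter.style.haveILetI false
universe u
open CategoryTheory CategoryTheory.Limits MonoidalCategory CartesianMonoidalCategory MonObj GrpObj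
  AlgebraicGeometry

namespace Groth.Agent.Lib.Helper26.GrpIsoLim

section bc

variable {S S' S'' : Scheme.{u}}

/-- iterated base change is base change along the composite, as groups. -/
noncomputable def bcCompGrpIso (f : S'' ⟶ S') (g : S' ⟶ S) {d : S'' ⟶ S} (h : f ≫ g = d)
    (G : Over S) [GrpObj G] : Grp.mk (Red.bc f (Red.bc g G)) ≅ Grp.mk (Red.bc d G) :=
  Grp.mkIso' (ActBC.bcCompIso f g G h)

/-- base change of an isomorphism of groups. -/
noncomputable def bcMapGrpIso (f : S' ⟶ S) {G H : Over S} [GrpObj G] [GrpObj H]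
    (e : Grp.mk G ≅ Grp.mk H) : Grp.mk (Red.bc f G) ≅ Grp.mk (Red.bc f H) :=
  (Over.pullback f).mapGrp.mapIso e

/-- base change along the identity. -/
noncomputable def bcIdGrpIso (G : Over S) [GrpObj G] : Grp.mk (Red.bc (𝟙 S) G) ≅ Grp.mk G :=
  (Functor.mapGrpNatIso Over.pullbackId).app (Grp.mk G) ≪≫ Functor.mapGrpIdIso.app (Grp.mk G)

instance lfp_bc (f : S' ⟶ S) (X : Over S) [LocallyOfFinitePresentation X.hom] :
    LocallyOfFinitePresentation (Red.bc f X).hom := by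
  show LocallyOfFinitePresentation (pullback.snd X.hom f); infer_instance

instance qc_bc (f : S' ⟶ S) (X : Over S) [QuasiCompact X.hom] :
    QuasiCompact (Red.bc f X).hom := by
  show QuasiCompact (pullback.snd X.hom f); infer_instance

instance qs_bc (f : S' ⟶ S) (X : Over S) [QuasiSeparated X.hom] :
    QuasiSeparated (Red.bc f X).hom := by
  show QuasiSeparated (pullback.snd X.hom f); infer_instance

lemma map_eq_of_factor (p : S'' ⟶ S) (g : S' ⟶ S) (h : S'' ⟶ S') (hp : h ≫ g = p) {X Y : Over S}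
    (u v : X ⟶ Y) (H : (Over.pullback g).map u = (Over.pullback g).map v) :
    (Over.pullback p).map u = (Over.pullback p).map v := by
  have nu := ActBC.bcCompIso_hom_naturality h g hp u
  have nv := ActBC.bcCompIso_hom_naturality h g hp v
  rw [H] at nu
  exact (cancel_epi (ActBC.bcCompIso h g X hp).hom).mp (nu.symm.trans nv)

end bc

section limit

variable {I : Type u} [SmallCategory I] [IsCofiltered I] (D : I ⥤ Scheme.{u}) (c : Cone D)
  (hc : IsLimit c) [∀ (i i' : I) (f : i ⟶ i'), IsAffineHom (D.map f)]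
  [∀ i, CompactSpace (D.obj i)] [∀ i, QuasiSeparatedSpace (D.obj i)]

include hc in
/-- an isomorphism of finitely presented groups over the limit comes from a stage. -/
theorem exists_grpIso_stage (j : I) (G H : Over (D.obj j)) [GrpObj G] [GrpObj H]
    [LocallyOfFinitePresentation G.hom] [QuasiCompact G.hom] [QuasiSeparated G.hom]
    [LocallyOfFinitePresentation H.hom] [QuasiCompact H.hom] [QuasiSeparated H.hom]
    (e : Grp.mk (Red.bc (c.π.app j) G) ≅ Grp.mk (Red.bc (c.π.app j) H)) :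
    ∃ (i : I) (f : i ⟶ j) (p : D.obj i ⟶ D.obj j), p = D.map f ∧
      Nonempty (Grp.mk (Red.bc p G) ≅ Grp.mk (Red.bc p H)) := by
  obtain ⟨φ, hφ⟩ : ∃ φ : Red.bc (c.π.app j) G ⟶ Red.bc (c.π.app j) H, φ = e.hom.hom.hom :=
    ⟨_, rfl⟩
  obtain ⟨ψ, hψ⟩ : ∃ ψ : Red.bc (c.π.app j) H ⟶ Red.bc (c.π.app j) G, ψ = e.inv.hom.hom :=
    ⟨_, rfl⟩
  haveI : IsMonHom φ := by rw [hφ]; infer_instance
  haveI : IsMonHom ψ := by rw [hψ]; infer_instance
  have hφψ : φ ≫ ψ = 𝟙 _ := by rw [hφ, hψ]; exact congr($(e.hom_inv_id).hom.hom)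
  have hψφ : ψ ≫ φ = 𝟙 _ := by rw [hφ, hψ]; exact congr($(e.inv_hom_id).hom.hom)
  obtain ⟨h1, -⟩ := Groth.Agent.S6086.result D c hc j G H
  obtain ⟨i₁, f₁, u₁, hu₁, hc₁⟩ := h1 φ inferInstance
  rw [Groth.Agent.S6086.alpha_eq _ _ (c.w f₁), Groth.Agent.S6086.alpha_eq _ _ (c.w f₁)] at hc₁
  obtain ⟨βG, hβG⟩ : ∃ β : Red.bc (c.π.app i₁) (Red.bc (D.map f₁) G) ≅ Red.bc (c.π.app j) G,
      β = ActBC.bcCompIso (c.π.app i₁) (D.map f₁) G (c.w f₁) := ⟨_, rfl⟩
  obtain ⟨βH, hβH⟩ : ∃ β : Red.bc (c.π.app i₁) (Red.bc (D.map f₁) H) ≅ Red.bc (c.π.app j) H,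
      β = ActBC.bcCompIso (c.π.app i₁) (D.map f₁) H (c.w f₁) := ⟨_, rfl⟩
  haveI : IsMonHom βG.hom := by rw [hβG]; infer_instance
  haveI : IsMonHom βH.hom := by rw [hβH]; infer_instance
  rw [← hβG, ← hβH] at hc₁
  obtain ⟨ψ₁, hψ₁⟩ : ∃ ψ₁ : Red.bc (c.π.app i₁) (Red.bc (D.map f₁) H) ⟶
      Red.bc (c.π.app i₁) (Red.bc (D.map f₁) G), ψ₁ = βH.hom ≫ ψ ≫ βG.inv := ⟨_, rfl⟩
  haveI : IsMonHom ψ₁ := by rw [hψ₁]; infer_instance
  obtain ⟨h1', -⟩ := Groth.Agent.S6086.result D c hc i₁ (Red.bc (D.map f₁) H)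
    (Red.bc (D.map f₁) G)
  obtain ⟨i₂, f₂, u₂, hu₂, hc₂⟩ := h1' ψ₁ inferInstance
  rw [Groth.Agent.S6086.alpha_eq _ _ (c.w f₂), Groth.Agent.S6086.alpha_eq _ _ (c.w f₂)] at hc₂
  obtain ⟨θG, hθG⟩ : ∃ θ : Red.bc (c.π.app i₂) (Red.bc (D.map f₂) (Red.bc (D.map f₁) G)) ≅
      Red.bc (c.π.app i₁) (Red.bc (D.map f₁) G),
      θ = ActBC.bcCompIso (c.π.app i₂) (D.map f₂) (Red.bc (D.map f₁) G) (c.w f₂) := ⟨_, rfl⟩
  obtain ⟨θH, hθH⟩ : ∃ θ : Red.bc (c.π.app i₂) (Red.bc (D.map f₂) (Red.bc (D.map f₁) H)) ≅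
      Red.bc (c.π.app i₁) (Red.bc (D.map f₁) H),
      θ = ActBC.bcCompIso (c.π.app i₂) (D.map f₂) (Red.bc (D.map f₁) H) (c.w f₂) := ⟨_, rfl⟩
  rw [← hθG, ← hθH] at hc₂
  obtain ⟨a, ha⟩ : ∃ a : Red.bc (D.map f₂) (Red.bc (D.map f₁) G) ⟶
      Red.bc (D.map f₂) (Red.bc (D.map f₁) H), a = (Over.pullback (D.map f₂)).map u₁ := ⟨_, rfl⟩
  haveI := hu₁
  haveI := hu₂
  haveI : IsMonHom a := by rw [ha]; infer_instance
  have hFa : (Over.pullback (c.π.app i₂)).map a =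
      θG.hom ≫ (Over.pullback (c.π.app i₁)).map u₁ ≫ θH.inv := by
    have := ActBC.bcCompIso_hom_naturality (c.π.app i₂) (D.map f₂) (c.w f₂) u₁
    rw [← hθG, ← hθH, ← ha] at this
    rw [← Category.assoc, Iso.eq_comp_inv]
    exact this
  have hab : (Over.pullback (c.π.app i₂)).map (a ≫ u₂) =
      (Over.pullback (c.π.app i₂)).map (𝟙 _) := by
    rw [CategoryTheory.Functor.map_comp, CategoryTheory.Functor.map_id, hFa, hc₂, hc₁, hψ₁]
    simp only [Category.assoc, Iso.inv_hom_id_assoc, Iso.hom_inv_id_assoc, Iso.hom_inv_id,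
      reassoc_of% hφψ]
  have hba : (Over.pullback (c.π.app i₂)).map (u₂ ≫ a) =
      (Over.pullback (c.π.app i₂)).map (𝟙 _) := by
    rw [CategoryTheory.Functor.map_comp, CategoryTheory.Functor.map_id, hFa, hc₂, hc₁, hψ₁]
    simp only [Category.assoc, Iso.inv_hom_id_assoc, Iso.hom_inv_id_assoc, Iso.hom_inv_id,
      reassoc_of% hψφ]
  haveI : CompactSpace (Red.bc (D.map f₂) (Red.bc (D.map f₁) G)).left :=
    QuasiCompact.compactSpace_of_compactSpace (Red.bc (D.map f₂) (Red.bc (D.map f₁) G)).hom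
  haveI : CompactSpace (Red.bc (D.map f₂) (Red.bc (D.map f₁) H)).left :=
    QuasiCompact.compactSpace_of_compactSpace (Red.bc (D.map f₂) (Red.bc (D.map f₁) H)).hom
  obtain ⟨i₃, g₃, h₃⟩ := Groth.Agent.S6086.inj_stage D c hc i₂ _ _ (a ≫ u₂) (𝟙 _) hab
  obtain ⟨i₄, g₄, h₄⟩ := Groth.Agent.S6086.inj_stage D c hc i₂ _ _ (u₂ ≫ a) (𝟙 _) hba
  obtain ⟨k, m₃, m₄, hm⟩ := IsCofiltered.cospan g₃ g₄
  have E1 := map_eq_of_factor (D.map (m₃ ≫ g₃)) (D.map g₃) (D.map m₃) (D.map_comp m₃ g₃).symm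
    _ _ h₃
  have E2 := map_eq_of_factor (D.map (m₃ ≫ g₃)) (D.map g₄) (D.map m₄)
    (by rw [← D.map_comp, hm]) _ _ h₄
  obtain ⟨q, hq⟩ : ∃ q : D.obj k ⟶ D.obj i₂, q = D.map (m₃ ≫ g₃) := ⟨_, rfl⟩
  rw [← hq] at E1 E2
  have e1 : (Over.pullback q).map a ≫ (Over.pullback q).map u₂ = 𝟙 _ := by
    rw [← CategoryTheory.Functor.map_comp, E1, CategoryTheory.Functor.map_id]
  have e2 : (Over.pullback q).map u₂ ≫ (Over.pullback q).map a = 𝟙 _ := by
    rw [← CategoryTheory.Functor.map_comp, E2, CategoryTheory.Functor.map_id]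
  let ι' : Red.bc q (Red.bc (D.map f₂) (Red.bc (D.map f₁) G)) ≅
      Red.bc q (Red.bc (D.map f₂) (Red.bc (D.map f₁) H)) :=
    ⟨(Over.pullback q).map a, (Over.pullback q).map u₂, e1, e2⟩
  haveI : IsMonHom ι'.hom := (inferInstance : IsMonHom ((Over.pullback q).map a))
  refine ⟨k, (m₃ ≫ g₃) ≫ f₂ ≫ f₁, (q ≫ D.map f₂) ≫ D.map f₁, ?_, ⟨?_⟩⟩
  · rw [hq]; simp only [CategoryTheory.Functor.map_comp, Category.assoc]
  · exact (bcCompGrpIso (q ≫ D.map f₂) (D.map f₁) rfl G).symm ≪≫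
      (bcCompGrpIso q (D.map f₂) rfl (Red.bc (D.map f₁) G)).symm ≪≫ Grp.mkIso' ι' ≪≫
      bcCompGrpIso q (D.map f₂) rfl (Red.bc (D.map f₁) H) ≪≫
      bcCompGrpIso (q ≫ D.map f₂) (D.map f₁) rfl H

end limit

section field

open Groth.Agent.Lib.Helper26.FGR Groth.Agent.Lib.Helper26.KPts

variable {k K : Type u} [Field k] [IsAlgClosed k] [Field K] [Algebra k K]

/-- a finitely generated subalgebra of a field extension of an algebraically closed field has a
rational point. -/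
lemma exists_section (i : (FGSub k K)ᵒᵖ) :
    ∃ x : Spec (CommRingCat.of k) ⟶ (specDiagram k K).obj i, x ≫ toBase k K i = 𝟙 _ := by
  let X : Over (Spec (CommRingCat.of k)) := Over.mk (toBase k K i)
  haveI : LocallyOfFiniteType X.hom := by
    show LocallyOfFiniteType (Spec.map (CommRingCat.ofHom (algebraMap k i.unop.1)))
    rw [HasRingHomProperty.Spec_iff (P := @LocallyOfFiniteType)]
    show (algebraMap k i.unop.1).FiniteType
    rw [RingHom.finiteType_algebraMap]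
    exact (Subalgebra.fg_iff_finiteType _).mp i.unop.2
  obtain ⟨z⟩ : Nonempty (PrimeSpectrum i.unop.1) := inferInstance
  obtain ⟨x, -⟩ := exists_pt_mem (X := X) (T := Set.univ) ⟨z, trivial⟩
    isOpen_univ.isLocallyClosed
  exact ⟨x.left, Over.w x⟩

/-- finitely presented groups over an algebraically closed field which become isomorphic over an
extension field are isomorphic. -/
theorem nonempty_grpIso_of_baseChange_field (H H' : Over (Spec (CommRingCat.of k))) [GrpObj H]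
    [GrpObj H'] [LocallyOfFinitePresentation H.hom] [QuasiCompact H.hom] [QuasiSeparated H.hom]
    [LocallyOfFinitePresentation H'.hom] [QuasiCompact H'.hom] [QuasiSeparated H'.hom]
    (h : Spec (CommRingCat.of K) ⟶ Spec (CommRingCat.of k))
    (hh : h = Spec.map (CommRingCat.ofHom (algebraMap k K)))
    (e : Grp.mk (Red.bc h H) ≅ Grp.mk (Red.bc h H')) : Nonempty (Grp.mk H ≅ Grp.mk H') := by
  let j₀ : (FGSub k K)ᵒᵖ := Opposite.op ⟨⊥, Subalgebra.fg_bot⟩
  have hπ : (specCone k K).π.app j₀ ≫ toBase k K j₀ = h := by rw [hh]; exact π_toBase k K j₀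
  let e' : Grp.mk (Red.bc ((specCone k K).π.app j₀) (Red.bc (toBase k K j₀) H)) ≅
      Grp.mk (Red.bc ((specCone k K).π.app j₀) (Red.bc (toBase k K j₀) H')) :=
    bcCompGrpIso _ _ hπ H ≪≫ e ≪≫ (bcCompGrpIso _ _ hπ H').symm
  obtain ⟨i, f, p, hp, ⟨e''⟩⟩ := exists_grpIso_stage (specDiagram k K) (specCone k K)
    (specIsLimit k K) j₀ (Red.bc (toBase k K j₀) H) (Red.bc (toBase k K j₀) H') e'
  obtain ⟨x, hx⟩ := exists_section (k := k) (K := K) i
  have hxp : (x ≫ p) ≫ toBase k K j₀ = 𝟙 _ := by rw [Category.assoc, hp, map_toBase, hx]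
  exact ⟨(bcCompGrpIso x p rfl (Red.bc (toBase k K j₀) H) ≪≫
      bcCompGrpIso (x ≫ p) (toBase k K j₀) hxp H ≪≫ bcIdGrpIso H).symm ≪≫
    bcMapGrpIso x e'' ≪≫ bcCompGrpIso x p rfl (Red.bc (toBase k K j₀) H') ≪≫
      bcCompGrpIso (x ≫ p) (toBase k K j₀) hxp H' ≪≫ bcIdGrpIso H'⟩

end field

end Groth.Agent.Lib.Helper26.GrpIsoLim
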