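import Mathlib

/-!
# Lifting properties against algebras killed by an ideal `K` of the base (helper26)

For an `A`-algebra `B` and an ideal `K` of `A`: formal smoothness / unramifiedness / étaleness of
`A/K → B/KB` versus the infinitesimal lifting property of `B` against `A`-algebras killed by `K`.
-/

set_option autoImplicit false
universe u

namespace Groth.Agent.Lib.Helper26.HFormal

variable {A : Type u} [CommRing A] (K : Ideal A) {B : Type u} [CommRing B] [Algebra A B]

section Test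

variable {E : Type u} [CommRing E] [Algebra A E] (hE : K.map (algebraMap A E) = ⊥)

include hE in
theorem algebraMap_eq_zero (a : A) (ha : a ∈ K) : algebraMap A E a = 0 := by
  have : algebraMap A E a ∈ K.map (algebraMap A E) := Ideal.mem_map_of_mem _ ha
  rwa [hE, Ideal.mem_bot] at this

/-- the `A/K`-algebra structure on an `A`-algebra killed by `K`. -/
noncomputable abbrev quotAlgebra : Algebra (A ⧸ K) E :=
  (Ideal.Quotient.lift K (algebraMap A E) (algebraMap_eq_zero K hE)).toAlgebra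

theorem quotTower : @IsScalarTower A (A ⧸ K) E _ (quotAlgebra K hE).toSMul _ := by
  letI := quotAlgebra K hE
  exact IsScalarTower.of_algebraMap_eq (fun a => rfl)

include hE in
/-- an `A`-algebra map from `B` into an algebra killed by `K` kills `KB`. -/
theorem algHom_kills (v : B →ₐ[A] E) (b : B) (hb : b ∈ K.map (algebraMap A B)) : v b = 0 := by
  have h1 : (K.map (algebraMap A B)).map v.toRingHom = K.map (algebraMap A E) := by
    rw [Ideal.map_map]
    congr 1
    ext a
    simp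
  have : v b ∈ (K.map (algebraMap A B)).map v.toRingHom := Ideal.mem_map_of_mem _ hb
  rwa [h1, hE, Ideal.mem_bot] at this

end Test

section Lift

variable {E C : Type u} [CommRing E] [CommRing C] [Algebra A E] [Algebra A C]
  (hE : K.map (algebraMap A E) = ⊥) (hC : K.map (algebraMap A C) = ⊥)

include hE hC in
/-- Existence of lifts. -/
theorem exists_lift [Algebra.FormallySmooth (A ⧸ K) (B ⧸ K.map (algebraMap A B))]
    (p : E →ₐ[A] C) (hp : Function.Surjective p) (hnil : IsNilpotent (RingHom.ker (p : E →+* C)))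
    (u : B →ₐ[A] C) : ∃ v : B →ₐ[A] E, p.comp v = u := by
  letI := quotAlgebra K hE
  letI := quotAlgebra K hC
  haveI := quotTower K hE
  haveI := quotTower K hC
  have hsurj : Function.Surjective (algebraMap A (A ⧸ K)) := Ideal.Quotient.mk_surjective
  let pQ : E →ₐ[A ⧸ K] C := p.extendScalarsOfSurjective hsurj
  let ubar : (B ⧸ K.map (algebraMap A B)) →ₐ[A] C :=
    Ideal.Quotient.liftₐ _ u (algHom_kills K hC u)
  let uQ : (B ⧸ K.map (algebraMap A B)) →ₐ[A ⧸ K] C := ubar.extendScalarsOfSurjective hsurj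
  let vQ := Algebra.FormallySmooth.liftOfSurjective uQ pQ hp hnil
  have hvQ : pQ.comp vQ = uQ := Algebra.FormallySmooth.comp_liftOfSurjective uQ pQ hp hnil
  refine ⟨(vQ.restrictScalars A).comp (Ideal.Quotient.mkₐ A _), ?_⟩
  ext b
  have := congrArg (fun k : (B ⧸ K.map (algebraMap A B)) →ₐ[A ⧸ K] C =>
    k (Ideal.Quotient.mk _ b)) hvQ
  exact this

include hE hC in
/-- Uniqueness of lifts. -/
theorem lift_unique [Algebra.FormallyUnramified (A ⧸ K) (B ⧸ K.map (algebraMap A B))]
    (p : E →ₐ[A] C) (hnil : IsNilpotent (RingHom.ker (p : E →+* C)))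
    (v₁ v₂ : B →ₐ[A] E) (h : p.comp v₁ = p.comp v₂) : v₁ = v₂ := by
  letI := quotAlgebra K hE
  letI := quotAlgebra K hC
  haveI := quotTower K hE
  haveI := quotTower K hC
  have hsurj : Function.Surjective (algebraMap A (A ⧸ K)) := Ideal.Quotient.mk_surjective
  let pQ : E →ₐ[A ⧸ K] C := p.extendScalarsOfSurjective hsurj
  let w₁ : (B ⧸ K.map (algebraMap A B)) →ₐ[A ⧸ K] E :=
    (Ideal.Quotient.liftₐ _ v₁ (algHom_kills K hE v₁)).extendScalarsOfSurjective hsurj
  let w₂ : (B ⧸ K.map (algebraMap A B)) →ₐ[A ⧸ K] E :=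
    (Ideal.Quotient.liftₐ _ v₂ (algHom_kills K hE v₂)).extendScalarsOfSurjective hsurj
  have hw : w₁ = w₂ := by
    apply Algebra.FormallyUnramified.lift_unique' pQ hnil
    ext z
    obtain ⟨b, rfl⟩ := Ideal.Quotient.mk_surjective z
    exact congrArg (fun k : B →ₐ[A] C => k b) h
  ext b
  exact congrArg (fun k : (B ⧸ K.map (algebraMap A B)) →ₐ[A ⧸ K] E =>
    k (Ideal.Quotient.mk _ b)) hw

end Lift

section Converse

/-- test data from an `A/K`-algebra -/
theorem formallySmooth_of_lifting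
    (H : ∀ (E C : Type u) [CommRing E] [CommRing C] [Algebra A E] [Algebra A C],
      K.map (algebraMap A E) = ⊥ → K.map (algebraMap A C) = ⊥ →
      ∀ (p : E →ₐ[A] C), Function.Surjective p → RingHom.ker (p : E →+* C) ^ 2 = ⊥ →
      ∀ u : B →ₐ[A] C, ∃ v : B →ₐ[A] E, p.comp v = u) :
    Algebra.FormallySmooth (A ⧸ K) (B ⧸ K.map (algebraMap A B)) := by
  apply Algebra.FormallySmooth.of_comp_surjective
  intro E _ _ J hJ w
  letI : Algebra A E := Algebra.compHom E (algebraMap A (A ⧸ K))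
  haveI : IsScalarTower A (A ⧸ K) E := IsScalarTower.of_algebraMap_eq (fun a => rfl)
  have hsurj : Function.Surjective (algebraMap A (A ⧸ K)) := Ideal.Quotient.mk_surjective
  have hkill : ∀ (E' : Type u) [CommRing E'] [Algebra (A ⧸ K) E'] [Algebra A E']
      [IsScalarTower A (A ⧸ K) E'], K.map (algebraMap A E') = ⊥ := by
    intro E' _ _ _ _
    rw [eq_bot_iff, Ideal.map_le_iff_le_comap]
    intro a ha
    rw [Ideal.mem_comap, Ideal.mem_bot, IsScalarTower.algebraMap_apply A (A ⧸ K) E',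
      Ideal.Quotient.algebraMap_eq, Ideal.Quotient.eq_zero_iff_mem.mpr ha, map_zero]
  have hE := hkill E
  have hC := hkill (E ⧸ J)
  have hker : RingHom.ker ((Ideal.Quotient.mkₐ A J : E →ₐ[A] E ⧸ J) : E →+* E ⧸ J) ^ 2 = ⊥ := by
    have : RingHom.ker ((Ideal.Quotient.mkₐ A J : E →ₐ[A] E ⧸ J) : E →+* E ⧸ J) = J :=
      Ideal.mk_ker
    rw [this, hJ]
  obtain ⟨v, hv⟩ := H E (E ⧸ J) hE hC (Ideal.Quotient.mkₐ A J) Ideal.Quotient.mk_surjective hker
    ((w.restrictScalars A).comp (Ideal.Quotient.mkₐ A _))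
  refine ⟨(Ideal.Quotient.liftₐ _ v (algHom_kills K hE v)).extendScalarsOfSurjective hsurj, ?_⟩
  ext z
  obtain ⟨b, rfl⟩ := Ideal.Quotient.mk_surjective z
  exact congrArg (fun k : B →ₐ[A] E ⧸ J => k b) hv

theorem formallyEtale_of_lifting
    (H : ∀ (E C : Type u) [CommRing E] [CommRing C] [Algebra A E] [Algebra A C],
      K.map (algebraMap A E) = ⊥ → K.map (algebraMap A C) = ⊥ →
      ∀ (p : E →ₐ[A] C), Function.Surjective p → RingHom.ker (p : E →+* C) ^ 2 = ⊥ →
      ∀ u : B →ₐ[A] C, ∃! v : B →ₐ[A] E, p.comp v = u) :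
    Algebra.FormallyEtale (A ⧸ K) (B ⧸ K.map (algebraMap A B)) := by
  haveI : Algebra.FormallySmooth (A ⧸ K) (B ⧸ K.map (algebraMap A B)) :=
    formallySmooth_of_lifting K (fun E C _ _ _ _ hE hC p hp hk u =>
      (H E C hE hC p hp hk u).exists)
  haveI : Algebra.FormallyUnramified (A ⧸ K) (B ⧸ K.map (algebraMap A B)) := by
    rw [Algebra.FormallyUnramified.iff_comp_injective]
    intro E _ _ J hJ w₁ w₂ hw
    letI : Algebra A E := Algebra.compHom E (algebraMap A (A ⧸ K))
    haveI : IsScalarTower A (A ⧸ K) E := IsScalarTower.of_algebraMap_eq (fun a => rfl)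
    have hkill : ∀ (E' : Type u) [CommRing E'] [Algebra (A ⧸ K) E'] [Algebra A E']
        [IsScalarTower A (A ⧸ K) E'], K.map (algebraMap A E') = ⊥ := by
      intro E' _ _ _ _
      rw [eq_bot_iff, Ideal.map_le_iff_le_comap]
      intro a ha
      rw [Ideal.mem_comap, Ideal.mem_bot, IsScalarTower.algebraMap_apply A (A ⧸ K) E',
        Ideal.Quotient.algebraMap_eq, Ideal.Quotient.eq_zero_iff_mem.mpr ha, map_zero]
    have hE := hkill E
    have hC := hkill (E ⧸ J)
    have hker : RingHom.ker ((Ideal.Quotient.mkₐ A J : E →ₐ[A] E ⧸ J) : E →+* E ⧸ J) ^ 2 = ⊥ := by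
      have : RingHom.ker ((Ideal.Quotient.mkₐ A J : E →ₐ[A] E ⧸ J) : E →+* E ⧸ J) = J :=
        Ideal.mk_ker
      rw [this, hJ]
    let v₁ : B →ₐ[A] E := (w₁.restrictScalars A).comp (Ideal.Quotient.mkₐ A _)
    let v₂ : B →ₐ[A] E := (w₂.restrictScalars A).comp (Ideal.Quotient.mkₐ A _)
    have hv : (Ideal.Quotient.mkₐ A J).comp v₁ = (Ideal.Quotient.mkₐ A J).comp v₂ := by
      ext b
      exact congrArg (fun k : (B ⧸ K.map (algebraMap A B)) →ₐ[A ⧸ K] E ⧸ J =>
        k (Ideal.Quotient.mk _ b)) hw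
    obtain ⟨v, -, hvuniq⟩ := H E (E ⧸ J) hE hC (Ideal.Quotient.mkₐ A J)
      Ideal.Quotient.mk_surjective hker ((Ideal.Quotient.mkₐ A J).comp v₁)
    have e1 : v₁ = v := hvuniq v₁ rfl
    have e2 : v₂ = v := hvuniq v₂ hv.symm
    ext z
    obtain ⟨b, rfl⟩ := Ideal.Quotient.mk_surjective z
    exact congrArg (fun k : B →ₐ[A] E => k b) (e1.trans e2.symm)
  exact Algebra.FormallyEtale.of_formallyUnramified_and_formallySmooth

end Converse

end Groth.Agent.Lib.Helper26.HFormal
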