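import Mathlib.RingTheory.Henselian
import Mathlib.AlgebraicGeometry.Morphisms.QuasiFinite
import Mathlib.AlgebraicGeometry.Morphisms.Finite
import Mathlib.AlgebraicGeometry.Morphisms.Separated
import Mathlib.AlgebraicGeometry.Morphisms.FiniteType
import Mathlib.RingTheory.LocalRing.ResidueField.Defs
import Mathlib.AlgebraicGeometry.Pullbacks
import Mathlib.AlgebraicGeometry.PullbackCarrier

/-!
Finite parts of schemes over a local ring: a nonempty closed subset of a scheme finite over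
the spectrum of a local ring has a point over the closed point.
-/

set_option autoImplicit false

open CategoryTheory CategoryTheory.Limits AlgebraicGeometry

universe u

namespace Groth.Agent.Lib.Helper26

theorem exists_mem_closedPoint (R : Type u) [CommRing R] [IsLocalRing R]
    {X : Scheme.{u}} (f : X ⟶ Spec (CommRingCat.of R)) (WX : X.Opens) (hfin : IsFinite (WX.ι ≫ f))
    (T : Set X) (hT : IsClosed T) (hTW : T ⊆ (WX : Set X)) (hne : T.Nonempty) :
    ∃ x ∈ T, f.base x = IsLocalRing.closedPoint R := by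
  obtain ⟨x₀, hx₀⟩ := hne
  have hcl : IsClosed ((WX.ι ≫ f).base '' (WX.ι.base ⁻¹' T)) :=
    (WX.ι ≫ f).isClosedMap _ (hT.preimage WX.ι.continuous)
  have hmem : (WX.ι ≫ f).base ⟨x₀, hTW hx₀⟩ ∈ (WX.ι ≫ f).base '' (WX.ι.base ⁻¹' T) :=
    ⟨⟨x₀, hTW hx₀⟩, hx₀, rfl⟩
  have hcp := (IsLocalRing.specializes_closedPoint ((WX.ι ≫ f).base ⟨x₀, hTW hx₀⟩)).mem_closed hcl hmem
  obtain ⟨w, hw, hw'⟩ := hcp
  exact ⟨WX.ι.base w, hw, hw'⟩

theorem finite_part_functorial (R : Type u) [CommRing R] [IsLocalRing R]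
    {X Y : Scheme.{u}} (f : X ⟶ Spec (CommRingCat.of R)) (f' : Y ⟶ Spec (CommRingCat.of R))
    (WX : X.Opens) (hWX1 : IsClosed (WX : Set X)) (hWX2 : IsFinite (WX.ι ≫ f))
    (WY : Y.Opens) (hWY3 : ∀ x : ↥Y, f'.base x = IsLocalRing.closedPoint R → x ∈ WY)
    (g : X ⟶ Y) (hg : g ≫ f' = f) (x : X) (hx : x ∈ WX) :
    g.base x ∈ WY := by
  by_contra hcon
  have hT : IsClosed ((WX : Set X) ∩ (g.base ⁻¹' (WY : Set Y))ᶜ) :=
    hWX1.inter ((WY.isOpen.preimage g.continuous).isClosed_compl)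
  obtain ⟨x', hx'T, hx'⟩ := exists_mem_closedPoint R f WX hWX2 _ hT Set.inter_subset_left ⟨x, hx, hcon⟩
  apply hx'T.2
  apply hWY3
  rw [← hx', ← hg]
  rfl

theorem exists_mem_closedPoint' (R : Type u) [CommRing R] [IsLocalRing R]
    {P Q : Scheme.{u}} (π : P ⟶ Spec (CommRingCat.of R)) (q : Q ⟶ P) (hfin : IsFinite (q ≫ π))
    (T : Set P) (hT : IsClosed T) (hTW : T ⊆ Set.range q.base) (hne : T.Nonempty) :
    ∃ x ∈ T, π.base x = IsLocalRing.closedPoint R := by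
  obtain ⟨x₀, hx₀⟩ := hne
  obtain ⟨w₀, hw₀⟩ := hTW hx₀
  have hcl : IsClosed ((q ≫ π).base '' (q.base ⁻¹' T)) :=
    (q ≫ π).isClosedMap _ (hT.preimage q.continuous)
  have hmem : (q ≫ π).base w₀ ∈ (q ≫ π).base '' (q.base ⁻¹' T) :=
    ⟨w₀, by rw [Set.mem_preimage, hw₀]; exact hx₀, rfl⟩
  have hcp := (IsLocalRing.specializes_closedPoint ((q ≫ π).base w₀)).mem_closed hcl hmem
  obtain ⟨w, hw, hw'⟩ := hcp
  exact ⟨q.base w, hw, hw'⟩


end Groth.Agent.Lib.Helper26
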