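import Mathlib
import Groth.Agent.S1998
import Groth.Agent.Lib.Helper2HenselQuot

/-!
# Direct limits (`_root_.DirectLimit`) of Henselian pairs over a base (helper26)
-/

set_option autoImplicit false
universe u

namespace Groth.Agent.Lib.Helper26.HenselColim

open Groth.Agent.Lib.Helper2

section

variable {A : Type u} [CommRing A] (I : Ideal A) {κ : Type u} [Preorder κ] [IsDirectedOrder κ]
  [Nonempty κ] (Ra : κ → Type u) [∀ a, CommRing (Ra a)] [∀ a, Algebra A (Ra a)]
  (t : ∀ a b : κ, a ≤ b → (Ra a →+* Ra b)) [DirectedSystem Ra (fun a b h => t a b h)]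
  (ht : ∀ (a b : κ) (h : a ≤ b), (t a b h).comp (algebraMap A (Ra a)) = algebraMap A (Ra b))
  [Algebra A (DirectLimit Ra t)]
  (halg : ∀ (a : κ) (x : A), algebraMap A (DirectLimit Ra t) x =
    DirectLimit.Ring.of Ra t a (algebraMap A (Ra a) x))

include halg in
theorem map_of_eq (a : κ) : (I.map (algebraMap A (Ra a))).map (DirectLimit.Ring.of Ra t a) =
    I.map (algebraMap A (DirectLimit Ra t)) := by
  rw [Ideal.map_map]
  congr 1
  ext x
  exact (halg a x).symm

include ht halg in
theorem henselianRing_directLimit [∀ a, HenselianRing (Ra a) (I.map (algebraMap A (Ra a)))] :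
    HenselianRing (DirectLimit Ra t) (I.map (algebraMap A (DirectLimit Ra t))) := by
  have hI : ∀ a b (h : a ≤ b), (I.map (algebraMap A (Ra a))).map (t a b h) ≤
      I.map (algebraMap A (Ra b)) := by
    intro a b h
    rw [Ideal.map_map, ht]
  have h1 := Groth.Agent.S1998.result Ra t (fun a => I.map (algebraMap A (Ra a))) hI
    (fun a => inferInstance)
  let e := Ring.DirectLimit.ringEquiv Ra t
  have h2 := henselianRing_map_of_surjective e.toRingHom e.surjective (by
    have : RingHom.ker e.toRingHom = ⊥ := (RingHom.injective_iff_ker_eq_bot _).mp e.injective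
    rw [this]; exact bot_le) _ h1
  have h3 : (⨆ a, (I.map (algebraMap A (Ra a))).map
      (Ring.DirectLimit.of Ra (fun a b h => t a b h) a)).map e.toRingHom =
      I.map (algebraMap A (DirectLimit Ra t)) := by
    rw [Ideal.map_iSup]
    have : ∀ a, ((I.map (algebraMap A (Ra a))).map
        (Ring.DirectLimit.of Ra (fun a b h => t a b h) a)).map e.toRingHom =
        I.map (algebraMap A (DirectLimit Ra t)) := by
      intro a
      rw [← map_of_eq I Ra t halg a, Ideal.map_map]
      congr 1
      ext x
      exact Ring.DirectLimit.ringEquiv_of Ra t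
    simp only [this]
    exact iSup_const
  rw [h3] at h2
  exact h2

/-- Elements that become equal in the limit become equal at a finite stage. -/
theorem exists_le_eq (a : κ) (x y : Ra a)
    (h : DirectLimit.Ring.of Ra t a x = DirectLimit.Ring.of Ra t a y) :
    ∃ (b : κ) (hab : a ≤ b), t a b hab x = t a b hab y := by
  have h0 : (⟦⟨a, x - y⟩⟧ : DirectLimit Ra t) = 0 := by
    have : DirectLimit.Ring.of Ra t a (x - y) = 0 := by rw [map_sub, h, sub_self]
    exact this
  rw [DirectLimit.exists_eq_zero] at h0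
  obtain ⟨b, hab, hb⟩ := h0
  refine ⟨b, hab, ?_⟩
  have : t a b hab (x - y) = 0 := hb
  rwa [map_sub, sub_eq_zero] at this

/-- Finitely many coincidences at once. -/
theorem exists_le_eq_finset {S : Type*} (s : Finset S) (a : κ) (x y : S → Ra a)
    (h : ∀ i ∈ s, DirectLimit.Ring.of Ra t a (x i) = DirectLimit.Ring.of Ra t a (y i)) :
    ∃ (b : κ) (hab : a ≤ b), ∀ i ∈ s, t a b hab (x i) = t a b hab (y i) := by
  classical
  induction s using Finset.induction_on with
  | empty => exact ⟨a, le_rfl, by simp⟩
  | insert i s _ ih =>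
    obtain ⟨b₁, h₁, hb₁⟩ := ih (fun j hj => h j (Finset.mem_insert_of_mem hj))
    obtain ⟨b₂, h₂, hb₂⟩ := exists_le_eq Ra t a (x i) (y i) (h i (Finset.mem_insert_self _ _))
    obtain ⟨b, hb₁b, hb₂b⟩ := exists_ge_ge b₁ b₂
    refine ⟨b, h₁.trans hb₁b, ?_⟩
    intro j hj
    rcases Finset.mem_insert.mp hj with rfl | hj
    · have e1 := DirectedSystem.map_map (f := fun a b h => t a b h) h₂ hb₂b (x j)
      have e2 := DirectedSystem.map_map (f := fun a b h => t a b h) h₂ hb₂b (y j)
      rw [← e1, ← e2, hb₂]
    · have e1 := DirectedSystem.map_map (f := fun a b h => t a b h) h₁ hb₁b (x j)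
      have e2 := DirectedSystem.map_map (f := fun a b h => t a b h) h₁ hb₁b (y j)
      rw [← e1, ← e2, hb₁ j hj]

end

end Groth.Agent.Lib.Helper26.HenselColim
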