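import Mathlib
import Groth.Agent.Lib.Helper26PairHzMore
import Groth.Agent.S0526

/-!
# Henselian finitely presented algebras via commutation of `Hom` with direct limits (helper26)
-/

set_option autoImplicit false
universe u

namespace Groth.Agent.Lib.Helper26.HfpColim

open Groth.Agent.Lib.Helper26.PairHz

variable {A : Type u} [CommRing A] (I : Ideal A)

/-- `Hom_A(B, -)` commutes with direct limits of `A`-algebras henselian along `I`. -/
def Hyp (B : Type u) [CommRing B] [Algebra A B] : Prop :=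
  ∀ (κ : Type u) [Preorder κ] [IsDirectedOrder κ] [Nonempty κ]
      (Ra : κ → Type u) [∀ a, CommRing (Ra a)] [∀ a, Algebra A (Ra a)]
      [∀ a, HenselianRing (Ra a) (I.map (algebraMap A (Ra a)))]
      (t : ∀ a b : κ, a ≤ b → (Ra a →+* Ra b)) [DirectedSystem Ra (fun a b hab => t a b hab)],
      (∀ (a b : κ) (hab : a ≤ b), (t a b hab).comp (algebraMap A (Ra a)) = algebraMap A (Ra b)) →
      ∀ [Algebra A (DirectLimit Ra t)],
      (∀ (a : κ) (x : A), algebraMap A (DirectLimit Ra t) x =
        DirectLimit.Ring.of Ra t a (algebraMap A (Ra a) x)) →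
      (∀ χ : B →ₐ[A] DirectLimit Ra t, ∃ (a : κ) (φ : B →ₐ[A] Ra a),
          ∀ x : B, DirectLimit.Ring.of Ra t a (φ x) = χ x) ∧
      ∀ (a : κ) (φ ψ : B →ₐ[A] Ra a),
        (∀ x : B, DirectLimit.Ring.of Ra t a (φ x) = DirectLimit.Ring.of Ra t a (ψ x)) →
        ∃ (b : κ) (hab : a ≤ b), ∀ x : B, t a b hab (φ x) = t a b hab (ψ x)

section LemmaU

variable {I} {B : Type u} [CommRing B] [Algebra A B]

/-- If `B` is the colimit of a directed system of henselian `A`-algebras, then under `Hyp` the
identity of `B` factors through a finite stage. -/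
theorem exists_section_of_colimit (h : Hyp I B)
    (κ : Type u) [Preorder κ] [IsDirectedOrder κ] [Nonempty κ]
    (Ra : κ → Type u) [∀ a, CommRing (Ra a)] [∀ a, Algebra A (Ra a)]
    [∀ a, HenselianRing (Ra a) (I.map (algebraMap A (Ra a)))]
    (t : ∀ a b : κ, a ≤ b → (Ra a →+* Ra b)) [DirectedSystem Ra (fun a b hab => t a b hab)]
    (ht : ∀ (a b : κ) (hab : a ≤ b), (t a b hab).comp (algebraMap A (Ra a)) = algebraMap A (Ra b))
    (j : ∀ a, Ra a →ₐ[A] B) (hj : ∀ a b (hab : a ≤ b) x, j b (t a b hab x) = j a x)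
    (hsurj : ∀ b : B, ∃ a x, j a x = b)
    (hinj : ∀ a x, j a x = 0 → ∃ b, ∃ hab : a ≤ b, t a b hab x = 0) :
    ∃ (a : κ) (φ : B →ₐ[A] Ra a), ∀ x, j a (φ x) = x := by
  classical
  obtain ⟨a₀⟩ := ‹Nonempty κ›
  letI : Algebra A (DirectLimit Ra t) :=
    ((DirectLimit.Ring.of Ra t a₀).comp (algebraMap A (Ra a₀))).toAlgebra
  have halg : ∀ a x, algebraMap A (DirectLimit Ra t) x =
      DirectLimit.Ring.of Ra t a (algebraMap A (Ra a) x) := by
    intro a x
    obtain ⟨c, hac, ha₀c⟩ := exists_ge_ge a a₀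
    change DirectLimit.Ring.of Ra t a₀ (algebraMap A (Ra a₀) x) = _
    rw [← DirectLimit.Ring.of_f ha₀c, ← DirectLimit.Ring.of_f hac]
    congr 1
    rw [← RingHom.comp_apply, ht, ← RingHom.comp_apply, ht]
  obtain ⟨hS, -⟩ := h κ Ra t ht halg
  let Λ : DirectLimit Ra t →+* B := DirectLimit.Ring.lift Ra t B (fun a => (j a : Ra a →+* B))
    (fun a b hab x => hj a b hab x)
  have hΛof : ∀ a x, Λ (DirectLimit.Ring.of Ra t a x) = j a x := fun a x => rfl
  have hΛ : Function.Bijective Λ := by
    constructor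
    · rw [injective_iff_map_eq_zero]
      intro z hz
      induction z using DirectLimit.induction with | _ a x
      have hz' : j a x = 0 := hz
      obtain ⟨b, hab, hb⟩ := hinj a x hz'
      change DirectLimit.Ring.of Ra t a x = 0
      rw [← DirectLimit.Ring.of_f hab, hb, map_zero]
    · intro b
      obtain ⟨a, x, hx⟩ := hsurj b
      exact ⟨DirectLimit.Ring.of Ra t a x, hx⟩
  let e := RingEquiv.ofBijective Λ hΛ
  let χ : B →ₐ[A] DirectLimit Ra t := AlgHom.mk e.symm.toRingHom (fun x => by
    apply e.injective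
    change e (e.symm _) = Λ (DirectLimit.Ring.of Ra t a₀ (algebraMap A (Ra a₀) x))
    rw [RingEquiv.apply_symm_apply, hΛof, AlgHom.commutes])
  obtain ⟨a, φ, hφ⟩ := hS χ
  refine ⟨a, φ, fun x => ?_⟩
  have h1 := congrArg Λ (hφ x)
  rw [hΛof] at h1
  rw [h1]
  change e (e.symm x) = x
  exact RingEquiv.apply_symm_apply e x

end LemmaU

section Poly

variable (σ : Type u)

/-- The henselized polynomial ring. -/
abbrev HP : Type u := Hz (MvPolynomial σ A) (I.map (algebraMap A (MvPolynomial σ A)))

/-- The `A`-algebra structure on the henselized polynomial ring. -/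
noncomputable def algHP : Algebra A (HP I σ) :=
  ((algebraMap (MvPolynomial σ A) (HP I σ)).comp (algebraMap A (MvPolynomial σ A))).toAlgebra

attribute [local instance] algHP

theorem towerHP : IsScalarTower A (MvPolynomial σ A) (HP I σ) :=
  IsScalarTower.of_algebraMap_eq (fun _ => rfl)

attribute [local instance] towerHP

theorem isPairHenselization_HP : Hens2.IsPairHenselization (MvPolynomial σ A)
    (I.map (algebraMap A (MvPolynomial σ A))) (HP I σ) := isPairHenselization_Hz

theorem henselianRing_HP : HenselianRing (HP I σ) (I.map (algebraMap A (HP I σ))) := by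
  have := (isPairHenselization_HP I σ).1
  rwa [map_map_tower] at this

variable {σ}

/-- The variable `X s` in the henselized polynomial ring. -/
noncomputable def XH (s : σ) : HP I σ := algebraMap (MvPolynomial σ A) (HP I σ) (MvPolynomial.X s)

/-- Universal property of the henselized polynomial ring. -/
theorem exists_eval (D : Type u) [CommRing D] [Algebra A D] (K : Ideal D) (hD : HenselianRing D K)
    (hK : I.map (algebraMap A D) ≤ K) (v : σ → D) :
    ∃ g : HP I σ →ₐ[A] D, (∀ s, g (XH I s) = v s) ∧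
      ∀ g' : HP I σ →ₐ[A] D, (∀ s, g' (XH I s) = v s) → g' = g := by
  have hle : (I.map (algebraMap A (MvPolynomial σ A))).map
      ((MvPolynomial.aeval v : MvPolynomial σ A →ₐ[A] D) : MvPolynomial σ A →+* D) ≤ K := by
    rw [Ideal.map_map]
    have : ((MvPolynomial.aeval v : MvPolynomial σ A →ₐ[A] D) : MvPolynomial σ A →+* D).comp
        (algebraMap A (MvPolynomial σ A)) = algebraMap A D :=
      (MvPolynomial.aeval v : MvPolynomial σ A →ₐ[A] D).comp_algebraMap
    rw [this]
    exact hK
  obtain ⟨g, hg, hguniq⟩ := (isPairHenselization_HP I σ).2 D K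
    ((MvPolynomial.aeval v : MvPolynomial σ A →ₐ[A] D) : MvPolynomial σ A →+* D) hD hle
  have hgp : ∀ p : MvPolynomial σ A, g (algebraMap _ _ p) = MvPolynomial.aeval v p := fun p =>
    congrArg (fun k : MvPolynomial σ A →+* D => k p) hg
  refine ⟨AlgHom.mk g (fun a => ?_), fun s => ?_, fun g' hg' => ?_⟩
  · change g (algebraMap (MvPolynomial σ A) (HP I σ) (algebraMap A _ a)) = _
    rw [hgp, AlgHom.commutes]
  · change g (algebraMap _ _ (MvPolynomial.X s)) = _
    rw [hgp, MvPolynomial.aeval_X]
  · have h1 : (g' : HP I σ →+* D) = g := by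
      apply hguniq
      have h2 : (g'.comp (IsScalarTower.toAlgHom A (MvPolynomial σ A) (HP I σ))) =
          MvPolynomial.aeval v := by
        apply MvPolynomial.algHom_ext
        intro s
        rw [MvPolynomial.aeval_X]
        exact hg' s
      refine RingHom.ext (fun p => ?_)
      exact congrArg (fun k : MvPolynomial σ A →ₐ[A] D => k p) h2
    ext x
    exact congrArg (fun k : HP I σ →+* D => k x) h1

variable {B : Type u} [CommRing B] [Algebra A B] [hB : HenselianRing B (I.map (algebraMap A B))]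

/-- The evaluation map from the henselized polynomial ring to a henselian `A`-algebra. -/
noncomputable def ev (v : σ → B) : HP I σ →ₐ[A] B :=
  Classical.choose (exists_eval I B _ hB le_rfl v)

theorem ev_XH (v : σ → B) (s : σ) : ev I v (XH I s) = v s :=
  (Classical.choose_spec (exists_eval I B _ hB le_rfl v)).1 s

theorem ev_unique (v : σ → B) (g' : HP I σ →ₐ[A] B) (hg' : ∀ s, g' (XH I s) = v s) :
    g' = ev I v :=
  (Classical.choose_spec (exists_eval I B _ hB le_rfl v)).2 g' hg'

/-- The henselian subalgebra generated by a family. -/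
noncomputable def Tsub (v : σ → B) : Subalgebra A B := (ev I v).range

theorem mem_Tsub (v : σ → B) (s : σ) : v s ∈ Tsub I v := ⟨XH I s, ev_XH I v s⟩

theorem Tsub_mono {σ' : Type u} (f : σ → σ') (v' : σ' → B) : Tsub I (v' ∘ f) ≤ Tsub I v' := by
  haveI := henselianRing_HP I σ'
  obtain ⟨μ, hμ, -⟩ := exists_eval I (HP I σ') _ (henselianRing_HP I σ') le_rfl
    (fun s : σ => XH I (f s))
  have h1 : (ev I v').comp μ = ev I (v' ∘ f) := by
    apply ev_unique
    intro s
    rw [AlgHom.comp_apply, hμ, ev_XH]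
    rfl
  rintro _ ⟨x, rfl⟩
  exact ⟨μ x, by rw [← h1]; rfl⟩

theorem henselianRing_Tsub (v : σ → B) :
    HenselianRing (Tsub I v) (I.map (algebraMap A (Tsub I v))) := by
  let π : HP I σ →ₐ[A] Tsub I v := (ev I v).rangeRestrict
  have hπ : Function.Surjective π := (ev I v).rangeRestrict_surjective
  letI : Algebra (HP I σ) (Tsub I v) := (π : HP I σ →+* Tsub I v).toAlgebra
  haveI : Algebra.IsIntegral (HP I σ) (Tsub I v) := Algebra.isIntegral_of_surjective hπ
  haveI := henselianRing_HP I σ
  have h := Groth.Agent.S0526.result (HP I σ) (I.map (algebraMap A (HP I σ))) (Tsub I v)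
  have hid : (I.map (algebraMap A (HP I σ))).map (algebraMap (HP I σ) (Tsub I v)) =
      I.map (algebraMap A (Tsub I v)) := by
    rw [Ideal.map_map]
    congr 1
    exact π.comp_algebraMap
  rwa [hid] at h

end Poly

attribute [local instance] algHP towerHP

section Stage1

variable {B : Type u} [CommRing B] [Algebra A B] [hB : HenselianRing B (I.map (algebraMap A B))]

/-- Stage 1: `B` is a quotient of a henselized polynomial ring in finitely many variables. -/
theorem exists_finset_surjective (h : Hyp I B) :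
    ∃ S : Finset B, Function.Surjective (ev I (fun s : S => (s : B))) := by
  classical
  let v : ∀ S : Finset B, S → B := fun S s => s.1
  let Ra : Finset B → Type u := fun S => Tsub I (v S)
  haveI : ∀ S, HenselianRing (Ra S) (I.map (algebraMap A (Ra S))) :=
    fun S => henselianRing_Tsub I (v S)
  have hmono : ∀ S S' : Finset B, S ≤ S' → Tsub I (v S) ≤ Tsub I (v S') := by
    intro S S' hSS'
    exact Tsub_mono I (fun s : S => (⟨s.1, hSS' s.2⟩ : S')) (v S')
  let t : ∀ S S' : Finset B, S ≤ S' → (Ra S →+* Ra S') :=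
    fun S S' hSS' => (Subalgebra.inclusion (hmono S S' hSS')).toRingHom
  haveI : DirectedSystem Ra (fun a b hab => t a b hab) :=
    ⟨fun S x => by ext; rfl, fun S S' S'' h h' x => by ext; rfl⟩
  have ht : ∀ (a b : Finset B) (hab : a ≤ b),
      (t a b hab).comp (algebraMap A (Ra a)) = algebraMap A (Ra b) := by
    intro a b hab
    ext x
    rfl
  obtain ⟨S, φ, hφ⟩ := exists_section_of_colimit h (Finset B) Ra t ht
    (fun S => (Tsub I (v S)).val) (fun a b hab x => rfl)
    (fun b => ⟨{b}, ⟨b, mem_Tsub I (v {b}) ⟨b, Finset.mem_singleton_self b⟩⟩, rfl⟩)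
    (fun a x hx => ⟨a, le_rfl, by
      have hx0 : x = 0 := Subtype.ext hx
      rw [hx0, map_zero]⟩)
  refine ⟨S, fun b => ?_⟩
  have : b ∈ Tsub I (v S) := by
    rw [← hφ b]
    exact (φ b).2
  exact this

end Stage1

section Stage2

variable {σ : Type u} [Finite σ] {B : Type u} [CommRing B] [Algebra A B]
  [hB : HenselianRing B (I.map (algebraMap A B))]

theorem henselianRing_quot (J : Ideal (HP I σ)) :
    HenselianRing (HP I σ ⧸ J) (I.map (algebraMap A (HP I σ ⧸ J))) := by
  haveI := henselianRing_HP I σ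
  haveI : Algebra.IsIntegral (HP I σ) (HP I σ ⧸ J) :=
    Algebra.isIntegral_of_surjective Ideal.Quotient.mk_surjective
  have h := Groth.Agent.S0526.result (HP I σ) (I.map (algebraMap A (HP I σ))) (HP I σ ⧸ J)
  rwa [map_map_tower] at h

/-- Stage 2: the kernel of a surjection from a henselized polynomial ring is finitely generated. -/
theorem ker_fg_of_surjective (h : Hyp I B) (v : σ → B) (hv : Function.Surjective (ev I v)) :
    (RingHom.ker (ev I v)).FG := by
  classical
  let κ := {J : Ideal (HP I σ) // J.FG ∧ J ≤ RingHom.ker (ev I v)}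
  haveI : IsDirectedOrder κ := ⟨fun J J' =>
    ⟨⟨J.1 ⊔ J'.1, Submodule.FG.sup J.2.1 J'.2.1, sup_le J.2.2 J'.2.2⟩,
      (le_sup_left : J.1 ≤ J.1 ⊔ J'.1), (le_sup_right : J'.1 ≤ J.1 ⊔ J'.1)⟩⟩
  haveI : Nonempty κ := ⟨⟨⊥, Submodule.fg_bot, bot_le⟩⟩
  let Ra : κ → Type u := fun J => HP I σ ⧸ J.1
  haveI : ∀ J : κ, HenselianRing (Ra J) (I.map (algebraMap A (Ra J))) :=
    fun J => henselianRing_quot I J.1
  let t : ∀ a b : κ, a ≤ b → (Ra a →+* Ra b) := fun a b hab => Ideal.Quotient.factor hab
  haveI : DirectedSystem Ra (fun a b hab => t a b hab) :=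
    ⟨fun a x => by
      obtain ⟨y, rfl⟩ := Ideal.Quotient.mk_surjective x
      rfl,
     fun a b c hab hbc x => by
      obtain ⟨y, rfl⟩ := Ideal.Quotient.mk_surjective x
      rfl⟩
  have ht : ∀ (a b : κ) (hab : a ≤ b),
      (t a b hab).comp (algebraMap A (Ra a)) = algebraMap A (Ra b) := by
    intro a b hab
    ext x
    rfl
  let j : ∀ a : κ, Ra a →ₐ[A] B := fun J => Ideal.Quotient.liftₐ J.1 (ev I v) (fun x hx => J.2.2 hx)
  obtain ⟨J, φ, hφ⟩ := exists_section_of_colimit h κ Ra t ht j
    (fun a b hab x => by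
      obtain ⟨y, rfl⟩ := Ideal.Quotient.mk_surjective x
      rfl)
    (fun b => by
      obtain ⟨y, rfl⟩ := hv b
      exact ⟨⟨⊥, Submodule.fg_bot, bot_le⟩, Ideal.Quotient.mk _ y, rfl⟩)
    (fun a x hx => by
      obtain ⟨y, rfl⟩ := Ideal.Quotient.mk_surjective x
      have hy : y ∈ RingHom.ker (ev I v) := hx
      refine ⟨⟨a.1 ⊔ Ideal.span {y}, Submodule.FG.sup a.2.1 (Submodule.fg_span (Set.finite_singleton y)),
        sup_le a.2.2 (Ideal.span_le.mpr (by rintro _ rfl; exact hy))⟩,
        (le_sup_left : a.1 ≤ a.1 ⊔ Ideal.span {y}), ?_⟩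
      change Ideal.Quotient.mk _ y = 0
      exact Ideal.Quotient.eq_zero_iff_mem.mpr
        (Ideal.mem_sup_right (Ideal.subset_span (Set.mem_singleton y))))
  have hδ : ∀ s : σ, ∃ δ : HP I σ,
      Ideal.Quotient.mk J.1 δ = φ (v s) - Ideal.Quotient.mk J.1 (XH I s) :=
    fun s => Ideal.Quotient.mk_surjective _
  choose δ hδ using hδ
  have hδK : ∀ s, δ s ∈ RingHom.ker (ev I v) := by
    intro s
    have h1 : j J (Ideal.Quotient.mk J.1 (δ s)) = ev I v (δ s) := rfl
    have h2 : j J (Ideal.Quotient.mk J.1 (XH I s)) = ev I v (XH I s) := rfl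
    rw [RingHom.mem_ker, ← h1, hδ s, map_sub, hφ, h2, ev_XH, sub_self]
  let J' : Ideal (HP I σ) := J.1 ⊔ Ideal.span (Set.range δ)
  have hJ'fg : J'.FG := Submodule.FG.sup J.2.1 (Submodule.fg_span (Set.finite_range δ))
  have hJ'K : J' ≤ RingHom.ker (ev I v) :=
    sup_le J.2.2 (Ideal.span_le.mpr (by rintro _ ⟨s, rfl⟩; exact hδK s))
  have hKJ' : RingHom.ker (ev I v) ≤ J' := by
    have hq := henselianRing_quot I J'
    let φ' : B →ₐ[A] HP I σ ⧸ J' :=
      (Ideal.Quotient.factorₐ A (le_sup_left : J.1 ≤ J')).comp φ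
    obtain ⟨g, -, hguniq⟩ := exists_eval I (HP I σ ⧸ J') _ hq le_rfl
      (fun s => Ideal.Quotient.mk J' (XH I s))
    have h1 : φ'.comp (ev I v) = g := by
      apply hguniq
      intro s
      change Ideal.Quotient.factor (le_sup_left : J.1 ≤ J') (φ (ev I v (XH I s))) = _
      rw [ev_XH]
      have h3 : φ (v s) = Ideal.Quotient.mk J.1 (XH I s) + Ideal.Quotient.mk J.1 (δ s) := by
        rw [hδ s]; ring
      rw [h3, map_add, Ideal.Quotient.factor_mk, Ideal.Quotient.factor_mk]
      have h4 : Ideal.Quotient.mk J' (δ s) = 0 := Ideal.Quotient.eq_zero_iff_mem.mpr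
        (Ideal.mem_sup_right (Ideal.subset_span ⟨s, rfl⟩))
      rw [h4, add_zero]
    have h2 : Ideal.Quotient.mkₐ A J' = g := by
      apply hguniq
      intro s
      rfl
    intro x hx
    have h5 : Ideal.Quotient.mkₐ A J' x = φ'.comp (ev I v) x := by rw [h1, h2]
    rw [← Ideal.Quotient.eq_zero_iff_mem]
    change Ideal.Quotient.mkₐ A J' x = 0
    rw [h5, AlgHom.comp_apply, show ev I v x = 0 from hx, map_zero]
  rw [show RingHom.ker (ev I v) = J' from le_antisymm hKJ' hJ'K]
  exact hJ'fg

end Stage2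

section Final

variable {B : Type u} [CommRing B] [Algebra A B] [hB : HenselianRing B (I.map (algebraMap A B))]

/-- `B` is a quotient of a henselized polynomial ring over `Fin n` by a finitely generated ideal. -/
theorem exists_hfp (h : Hyp I B) :
    ∃ (n : ℕ) (P : Type u) (_ : CommRing P) (_ : Algebra (MvPolynomial (Fin n) A) P) (_ : Algebra A P)
      (_ : IsScalarTower A (MvPolynomial (Fin n) A) P),
      Hens2.IsPairHenselization (MvPolynomial (Fin n) A)
        (I.map (algebraMap A (MvPolynomial (Fin n) A))) P ∧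
      ∃ φ : P →ₐ[A] B, Function.Surjective φ ∧ (RingHom.ker φ).FG := by
  classical
  obtain ⟨S, hS⟩ := exists_finset_surjective I h
  have hfg := ker_fg_of_surjective I h (fun s : S => (s : B)) hS
  let e : S ≃ Fin S.card := S.equivFin
  let eR : MvPolynomial S A ≃ₐ[A] MvPolynomial (Fin S.card) A := MvPolynomial.renameEquiv A e
  letI : Algebra (MvPolynomial (Fin S.card) A) (HP I S) :=
    ((algebraMap (MvPolynomial S A) (HP I S)).comp (eR.symm : _ →+* _)).toAlgebra
  haveI : IsScalarTower A (MvPolynomial (Fin S.card) A) (HP I S) :=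
    IsScalarTower.of_algebraMap_eq (fun a => by
      change algebraMap (MvPolynomial S A) (HP I S) (algebraMap A _ a) =
        algebraMap (MvPolynomial S A) (HP I S) (eR.symm (algebraMap A _ a))
      rw [AlgEquiv.commutes])
  refine ⟨S.card, HP I S, inferInstance, inferInstance, inferInstance, inferInstance, ?_,
    ev I (fun s : S => (s : B)), hS, hfg⟩
  refine isPairHenselization_of_algEquiv_base eR (fun r => ?_) (isPairHenselization_HP I S)
  change algebraMap (MvPolynomial S A) (HP I S) (eR.symm (eR r)) = _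
  rw [AlgEquiv.symm_apply_apply]

end Final

end Groth.Agent.Lib.Helper26.HfpColim
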