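import Mathlib
import Groth.Prelude.Def_KLin
import Groth.Prelude.Def_RefHull
import Groth.Agent.Lib.Helper28HomShQCoh
import Groth.Agent.Lib.Helper27PnSections
import Groth.Agent.S0002

/-!
# `Hom(F, G)` is finite-dimensional for coherent `F`, `G` on a proper `k`-scheme (helper26)

`finite_hom` : for `X` proper over a field `k` and coherent `F`, `G`, the `k`-vector space `F ⟶ G`
(the prelude's `KLin` structure) is finite-dimensional.  Proof: `φ ↦ (φ_x)_x` is an injective `k`-linear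
map into `H⁰(X, 𝓗om(F, G))`; the sheaf Hom is coherent (helper28) and `H⁰` is finite (S0002).
-/

set_option autoImplicit false
universe u
open CategoryTheory CategoryTheory.Limits AlgebraicGeometry TopologicalSpace Opposite

namespace Groth.Agent.Lib.Helper26HomFin

open Groth.Agent.Lib.Helper27PnSections Groth.Agent.Lib.Helper28.HomSh

variable {X : Scheme.{u}} {F G : X.Modules}

theorem stalkMapₗ_add (φ ψ : F ⟶ G) (x : X) :
    RefHull.stalkMapₗ (φ + ψ) x = RefHull.stalkMapₗ φ x + RefHull.stalkMapₗ ψ x := by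
  refine LinearMap.ext fun v => ?_
  obtain ⟨U, hx, m, rfl⟩ := TopCat.Presheaf.exists_germ_eq F.presheaf v
  rw [LinearMap.add_apply, RefHull.stalkMapₗ_germ, RefHull.stalkMapₗ_germ, RefHull.stalkMapₗ_germ,
    ← map_add]
  rfl

theorem hom_ext_of_stalkMapₗ (φ ψ : F ⟶ G)
    (h : ∀ x, RefHull.stalkMapₗ φ x = RefHull.stalkMapₗ ψ x) : φ = ψ := by
  refine Scheme.Modules.hom_ext _ _ fun U => ?_
  ext m
  refine section_ext' G _ _ fun x hx => ?_
  have e1 := RefHull.stalkMapₗ_germ φ x hx m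
  have e2 := RefHull.stalkMapₗ_germ ψ x hx m
  rw [h] at e1
  exact e1.symm.trans e2

theorem ofHom_add (φ ψ : F ⟶ G) (U : X.Opens) :
    RefHull.ofHom (φ + ψ) U = RefHull.ofHom φ U + RefHull.ofHom ψ U :=
  Subtype.ext <| funext fun x => stalkMapₗ_add φ ψ x.1

theorem ofHom_injective (φ ψ : F ⟶ G) (h : RefHull.ofHom φ ⊤ = RefHull.ofHom ψ ⊤) : φ = ψ := by
  refine hom_ext_of_stalkMapₗ φ ψ fun x => ?_
  exact congrArg (fun g => g.1 ⟨x, trivial⟩) h

theorem hh0Equiv_smul' (N : X.Modules) (r : Coh.Γtop X) (x : Coh.HH X N 0) :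
    hh0Equiv X N (r • x) = @HSMul.hSMul Γ(X, ⊤) Γ(N, ⊤) Γ(N, ⊤) _ r (hh0Equiv X N x) := by
  have h := hh0Equiv_smul X N r x
  rw [Coh.smulAb_app, resTop_top] at h
  exact h

variable (k : Type u) [Field k] [X.Over (Spec (CommRingCat.of k))]

theorem ofHom_smul (a : k) (φ : F ⟶ G) :
    RefHull.ofHom (a • φ) ⊤ =
      @HSMul.hSMul Γ(X, ⊤) Γ(RefHull.homSh F G, ⊤) Γ(RefHull.homSh F G, ⊤) _
        (Coh.toGlobal (X ↘ Spec (CommRingCat.of k)) a) (RefHull.ofHom φ ⊤) := by
  refine Subtype.ext (funext fun x => ?_)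
  change RefHull.stalkMapₗ (a • φ) x.1 =
    X.presheaf.germ ⊤ x.1 x.2 (Coh.toGlobal (X ↘ Spec (CommRingCat.of k)) a) •
      RefHull.stalkMapₗ φ x.1
  refine LinearMap.ext fun v => ?_
  obtain ⟨U, hx, m, rfl⟩ := TopCat.Presheaf.exists_germ_eq F.presheaf v
  rw [LinearMap.smul_apply, RefHull.stalkMapₗ_germ, RefHull.stalkMapₗ_germ, KLin.smul_app_apply,
    Mero.germ_smul]
  have hres := TopCat.Presheaf.germ_res_apply X.presheaf (homOfLE (le_top : U ≤ ⊤)) x.1 hx
    (Coh.toGlobal (X ↘ Spec (CommRingCat.of k)) a)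
  exact congrArg (fun r => r • (G.presheaf.germ U x.1 hx) ((φ.app U) m)) hres

/-- `φ ↦ (φ_x)_x`, as a `k`-linear map `Hom(F, G) → H⁰(X, 𝓗om(F, G))`. -/
noncomputable def homToH0 : (F ⟶ G) →ₗ[k] Coh.HH X (RefHull.homSh F G) 0 where
  toFun φ := (hh0Equiv X (RefHull.homSh F G)).symm (RefHull.ofHom φ ⊤)
  map_add' φ ψ := by
    have h := ofHom_add φ ψ ⊤
    change (hh0Equiv X (RefHull.homSh F G)).symm (RefHull.ofHom (φ + ψ) ⊤) = _
    rw [h]
    exact (hh0Equiv X (RefHull.homSh F G)).symm.map_add _ _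
  map_smul' a φ := by
    apply (hh0Equiv X (RefHull.homSh F G)).injective
    change hh0Equiv X _ ((hh0Equiv X (RefHull.homSh F G)).symm (RefHull.ofHom (a • φ) ⊤)) =
      hh0Equiv X _ (a • (hh0Equiv X (RefHull.homSh F G)).symm (RefHull.ofHom φ ⊤))
    have h2 : a • (hh0Equiv X (RefHull.homSh F G)).symm (RefHull.ofHom φ ⊤) =
      (Coh.toGlobal (X ↘ Spec (CommRingCat.of k)) a) •
        (hh0Equiv X (RefHull.homSh F G)).symm (RefHull.ofHom φ ⊤) := rfl
    rw [h2, hh0Equiv_smul']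
    refine (AddEquiv.apply_symm_apply (hh0Equiv X _) _).trans ?_
    refine (ofHom_smul k a φ).trans ?_
    exact congrArg (fun z => @HSMul.hSMul Γ(X, ⊤) Γ(RefHull.homSh F G, ⊤)
      Γ(RefHull.homSh F G, ⊤) _ (Coh.toGlobal (X ↘ Spec (CommRingCat.of k)) a) z)
      (AddEquiv.apply_symm_apply (hh0Equiv X _) _).symm

theorem homToH0_injective : Function.Injective (homToH0 (F := F) (G := G) k) := by
  intro φ ψ h
  exact ofHom_injective φ ψ ((hh0Equiv X (RefHull.homSh F G)).symm.injective h)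

/-- `Hom(F, G)` is finite-dimensional for coherent `F`, `G` on a proper `k`-scheme. -/
theorem finite_hom [IsProper (X ↘ Spec (CommRingCat.of k))] (hF : Coh.IsCoh F)
    (hG : Coh.IsCoh G) : Module.Finite k (F ⟶ G) := by
  haveI : IsLocallyNoetherian X :=
    LocallyOfFiniteType.isLocallyNoetherian (X ↘ Spec (CommRingCat.of k))
  have hcoh : Coh.IsCoh (RefHull.homSh F G) := isCoh_homSh F G hF hG
  haveI : Module.Finite k (Coh.HH X (RefHull.homSh F G) 0) :=
    Groth.Agent.S0002.result k X _ hcoh 0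
  exact Module.Finite.of_injective (homToH0 k) (homToH0_injective k)

end Groth.Agent.Lib.Helper26HomFin
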