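import Mathlib
import Groth.Prelude.Def_ActBC
import Groth.Agent.Lib.Helper25IdCompGeom

/-!
# Homogeneous spaces under a group scheme over a field (SGA3 VI_A 2.6)

`G` a group scheme over a field `k` (not necessarily of finite type), acting on a `k`-scheme `X`
so that `Φ : G × X ⟶ X × X`, `(g, x) ↦ (g x, x)` is surjective.

Main results (`C0 G` is the connected component of the unit point of `G`, which is its irreducible
component through the unit):
* `pact a A B` : the pointwise action `A · B` of a set of points of `G` on a set of points of `X`;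
* `genericPoint_mem_pact_C0` : the generic point of an irreducible component `M` of `X` lies in
  `C0 · z` for every `z ∈ M`;
* `pact_C0_singleton_eq` : `C0 · z` is the irreducible component through `z`;
* `irreducibleComponent_unique` : every point lies on exactly one irreducible component;
* `isOpen_pact_C0`, `pact_C0_open_eq_sUnion`, `pact_C0_eq_closure`;
* `compactSpace_of_irreducibleSpace`, `connectedComponent_eq_irreducibleComponent`;
* `image_orbitMap_eq_pact`, `isIrreducible_preimage_component`.
-/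

set_option autoImplicit false
set_option linter.unusedSectionVars false
set_option linter.style.haveILetI false

namespace Groth.Agent.Lib.Helper26.Homog

universe u

open CategoryTheory CategoryTheory.Limits MonoidalCategory CartesianMonoidalCategory MonObj GrpObj
  AlgebraicGeometry

open Groth.Agent.Lib.Helper25.TopGrp Groth.Agent.Lib.Helper25.TensorDomain
  Groth.Agent.Lib.Helper25.IdComp

section general
variable {S : Scheme.{u}}

/-- `fst ⁻¹ (range i) = range (i ▷ X)` -/
lemma range_whiskerRight (X : Over S) {H G : Over S} (i : H ⟶ G) :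
    Set.range (i ▷ X).left = (fst G X).left ⁻¹' Set.range i.left := by
  have h := Scheme.Pullback.range_map H.hom X.hom G.hom X.hom i.left (𝟙 _) (𝟙 _)
    (by simp) (by simp)
  have e : (i ▷ X).left = pullback.map H.hom X.hom G.hom X.hom i.left (𝟙 _) (𝟙 _)
      (by simp) (by simp) := by
    apply pullback.hom_ext
    · simp only [pullback.map]
      rw [pullback.lift_fst]
      simp
    · simp only [pullback.map]
      rw [pullback.lift_snd]
      simp
  rw [e, h]
  simp

lemma box_eq_image {H G X : Over S} (i : H ⟶ G) (B : Set X.left) :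
    (fst G X).left ⁻¹' Set.range i.left ∩ (snd G X).left ⁻¹' B =
      (i ▷ X).left '' ((snd H X).left ⁻¹' B) := by
  have e : (i ▷ X) ≫ snd G X = snd H X := by simp
  ext w
  constructor
  · rintro ⟨hw1, hw2⟩
    rw [← range_whiskerRight] at hw1
    obtain ⟨v, rfl⟩ := hw1
    refine ⟨v, ?_, rfl⟩
    change (snd H X).left v ∈ B
    rw [← e]
    exact hw2
  · rintro ⟨v, hv, rfl⟩
    constructor
    · rw [← range_whiskerRight]
      exact ⟨v, rfl⟩
    · change ((i ▷ X) ≫ snd G X).left v ∈ B
      rw [e]
      exact hv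

variable {G X : Over S} [GrpObj G] (a : AlgGrp.Action G X)

/-- pointwise action of a set of points of `G` on a set of points of `X` -/
def pact (A : Set G.left) (B : Set X.left) : Set X.left :=
  a.act.left '' ((fst G X).left ⁻¹' A ∩ (snd G X).left ⁻¹' B)

lemma act_left_apply_mem_pact {T : Over S} (u : T ⟶ G) (v : T ⟶ X) (t : T.left)
    {A : Set G.left} {B : Set X.left} (hu : u.left t ∈ A) (hv : v.left t ∈ B) :
    (lift u v ≫ a.act).left t ∈ pact a A B := by
  refine ⟨(lift u v).left t, ⟨?_, ?_⟩, ?_⟩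
  · change ((lift u v).left ≫ (fst G X).left) t ∈ A
    rw [← Over.comp_left, lift_fst]; exact hu
  · change ((lift u v).left ≫ (snd G X).left) t ∈ B
    rw [← Over.comp_left, lift_snd]; exact hv
  · change ((lift u v).left ≫ a.act.left) t = _
    rw [← Over.comp_left]

lemma mem_pact_iff {A : Set G.left} {B : Set X.left} {z : X.left} :
    z ∈ pact a A B ↔ ∃ (T : Over S) (u : T ⟶ G) (v : T ⟶ X) (t : T.left),
      u.left t ∈ A ∧ v.left t ∈ B ∧ (lift u v ≫ a.act).left t = z := by
  constructor
  · rintro ⟨w, ⟨h1, h2⟩, rfl⟩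
    refine ⟨G ⊗ X, fst G X, snd G X, w, h1, h2, ?_⟩
    rw [lift_fst_snd, Category.id_comp]
  · rintro ⟨T, u, v, t, h1, h2, rfl⟩
    exact act_left_apply_mem_pact a u v t h1 h2

lemma pact_mono {A A' : Set G.left} {B B' : Set X.left} (hA : A ⊆ A') (hB : B ⊆ B') :
    pact a A B ⊆ pact a A' B' := by
  rintro _ ⟨w, ⟨h1, h2⟩, rfl⟩
  exact ⟨w, ⟨hA h1, hB h2⟩, rfl⟩

lemma mem_pact_inv {A : Set G.left} {B : Set X.left} {z : X.left} (hz : z ∈ pact a A B) :
    ∃ y ∈ B, y ∈ pact a (ι[G].left '' A) {z} := by
  obtain ⟨T, u, v, t, h1, h2, rfl⟩ := (mem_pact_iff a).mp hz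
  refine ⟨v.left t, h2, ?_⟩
  have key : lift u⁻¹ (lift u v ≫ a.act) ≫ a.act = v := by
    rw [← AlgGrp.Action.lift_mul_act, inv_mul_cancel, AlgGrp.Action.lift_one_act]
  have hinv : (u⁻¹).left t ∈ ι[G].left '' A := by
    refine ⟨u.left t, h1, ?_⟩
    rw [Hom.inv_def, Over.comp_left, Scheme.Hom.comp_apply]
  have := act_left_apply_mem_pact a u⁻¹ (lift u v ≫ a.act) t (A := ι[G].left '' A)
    (B := {(lift u v ≫ a.act).left t}) hinv rfl
  rwa [key] at this

lemma pact_range_eq_image {H : Over S} (i : H ⟶ G) (B : Set X.left) :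
    pact a (Set.range i.left) B = ((i ▷ X) ≫ a.act).left '' ((snd H X).left ⁻¹' B) := by
  rw [pact, box_eq_image, Over.comp_left, Scheme.Hom.comp_base, TopCat.coe_comp, Set.image_comp]

end general

section field
variable {k : Type u} [Field k] {G X : Over (Spec (CommRingCat.of k))} [GrpObj G]
  (a : AlgGrp.Action G X)

lemma subset_pact {A : Set G.left} (B : Set X.left) (hA : ePt G ∈ A) : B ⊆ pact a A B := by
  intro b hb
  have := act_left_apply_mem_pact a (1 : X ⟶ G) (𝟙 X) b (A := A) (B := B)
    (by rw [one_left_apply]; exact hA) hb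
  rwa [AlgGrp.Action.lift_one_act] at this

lemma pact_pact_subset (A A' : Set G.left) (B : Set X.left) :
    pact a A (pact a A' B) ⊆ pact a (pmul G A A') B := by
  intro z hz
  obtain ⟨T₁, u₁, v₁, t₁, h1, h2, rfl⟩ := (mem_pact_iff a).mp hz
  obtain ⟨T₂, u₂, v₂, t₂, h3, h4, h5⟩ := (mem_pact_iff a).mp h2
  obtain ⟨T, f₁, f₂, t, e1, e2, e3⟩ := exists_refinement v₁ (lift u₂ v₂ ≫ a.act) t₁ t₂ h5.symm
  have key : lift ((f₁ ≫ u₁) * (f₂ ≫ u₂)) (f₂ ≫ v₂) ≫ a.act = f₁ ≫ (lift u₁ v₁ ≫ a.act) := by
    rw [AlgGrp.Action.lift_mul_act, ← comp_lift, Category.assoc, ← e3, ← comp_lift,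
      Category.assoc]
  refine (mem_pact_iff a).mpr ⟨T, (f₁ ≫ u₁) * (f₂ ≫ u₂), f₂ ≫ v₂, t, ?_, ?_, ?_⟩
  · refine mul_left_apply_mem_pmul _ _ t ?_ ?_
    · rw [Over.comp_left, Scheme.Hom.comp_apply, e1]; exact h1
    · rw [Over.comp_left, Scheme.Hom.comp_apply, e2]; exact h3
  · rw [Over.comp_left, Scheme.Hom.comp_apply, e2]; exact h4
  · rw [key, Over.comp_left, Scheme.Hom.comp_apply, e1]

/-- the "box" `range i × B` is irreducible when the source of `i` is geometrically irreducible
and `B` is irreducible. -/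
lemma isIrreducible_box {H : Over (Spec (CommRingCat.of k))} (i : H ⟶ G)
    [GeometricallyIrreducible H.hom] {B : Set X.left} (hB : IsIrreducible B) :
    IsIrreducible ((fst G X).left ⁻¹' Set.range i.left ∩ (snd G X).left ⁻¹' B) := by
  have hgi : GeometricallyIrreducible (snd H X).left := by
    rw [Over.snd_left]; infer_instance
  have h1 : IsIrreducible ((snd H X).left ⁻¹' B) :=
    Scheme.Hom.isIrreducible_preimage (snd H X).left (isOpenMap_snd H X) hB
  rw [box_eq_image]
  exact h1.image _ (i ▷ X).left.continuous.continuousOn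

/-- the neutral component of `G`, as a set of points -/
abbrev C0 (G : Over (Spec (CommRingCat.of k))) [GrpObj G] : Set G.left :=
  connectedComponent (ePt G)

lemma ePt_mem_C0 : ePt G ∈ C0 G := mem_connectedComponent

lemma C0_mem_irreducibleComponents : C0 G ∈ irreducibleComponents G.left :=
  ⟨isIrreducible_connectedComponent_ePt G, fun _ hA hle =>
    hA.2.isPreconnected.subset_connectedComponent (hle mem_connectedComponent)⟩

lemma subset_C0_of_isIrreducible {A : Set G.left} (hA : IsIrreducible A) (he : ePt G ∈ A) :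
    A ⊆ C0 G :=
  hA.2.isPreconnected.subset_connectedComponent he

/-- a scheme structure on the neutral component -/
lemma exists_C0_scheme : ∃ (Z : Over (Spec (CommRingCat.of k))) (i : Z ⟶ G),
    GeometricallyIrreducible Z.hom ∧ IsClosedImmersion i.left ∧ Set.range i.left = C0 G ∧
      CompactSpace Z.left := by
  obtain ⟨Z, i, _, hi, hr⟩ := exists_hom_range_eq G (C0 G)
    (isIrreducible_connectedComponent_ePt G) isClosed_connectedComponent
  refine ⟨Z, i, ?_, hi, hr, ?_⟩
  · have h1 : Set.range i.left ∈ irreducibleComponents G.left := by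
      rw [hr]; exact C0_mem_irreducibleComponents
    have h2 : ePt G ∈ Set.range i.left := by rw [hr]; exact ePt_mem_C0
    have := geometricallyIrreducible_component_through_unit Z.left i.left h1 h2
    rwa [Over.w i] at this
  · have hc : IsCompact (Set.range i.left) := by
      rw [hr]; exact isCompact_connectedComponent_ePt G
    have hce := i.left.isClosedEmbedding
    have := hce.isCompact_preimage hc
    rw [Set.preimage_range] at this
    exact ⟨this⟩

lemma isIrreducible_box_C0 {B : Set X.left} (hB : IsIrreducible B) :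
    IsIrreducible ((fst G X).left ⁻¹' C0 G ∩ (snd G X).left ⁻¹' B) := by
  obtain ⟨Z, i, hgi, -, hr, -⟩ := exists_C0_scheme (G := G)
  rw [← hr]
  exact isIrreducible_box i hB

lemma isIrreducible_pact_C0 {B : Set X.left} (hB : IsIrreducible B) :
    IsIrreducible (pact a (C0 G) B) :=
  (isIrreducible_box_C0 hB).image _ a.act.left.continuous.continuousOn

lemma pmul_C0_subset : pmul G (C0 G) (C0 G) ⊆ C0 G := by
  apply subset_C0_of_isIrreducible
  · exact (isIrreducible_box_C0 (X := G) (isIrreducible_connectedComponent_ePt G)).image _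
      μ[G].left.continuous.continuousOn
  · exact subset_pmul_right ePt_mem_C0 ePt_mem_C0

lemma inv_left_ePt' : ι[G].left (ePt G) = ePt G := by
  have h : ((1 : G ⟶ G)⁻¹).left (ePt G) = ePt G := by rw [inv_one, one_left_apply]
  rw [Hom.inv_def, Over.comp_left, Scheme.Hom.comp_apply, one_left_apply] at h
  exact h

lemma inv_C0_subset : ι[G].left '' C0 G ⊆ C0 G :=
  subset_C0_of_isIrreducible
    ((isIrreducible_connectedComponent_ePt G).image _ ι[G].left.continuous.continuousOn)
    ⟨_, ePt_mem_C0, inv_left_ePt'⟩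

lemma pact_C0_eq_of_mem_irreducibleComponents {M : Set X.left}
    (hM : M ∈ irreducibleComponents X.left) : pact a (C0 G) M = M :=
  le_antisymm (hM.2 (isIrreducible_pact_C0 a hM.1) (subset_pact a M ePt_mem_C0))
    (subset_pact a M ePt_mem_C0)

/-- the generic point of an irreducible component is a maximal point -/
lemma eq_of_specializes_genericPoint {Y : Type*} [TopologicalSpace Y] [T0Space Y] {M : Set Y}
    (hM : M ∈ irreducibleComponents Y) {ξ : Y} (hξ : IsGenericPoint ξ M) {y : Y} (hy : y ⤳ ξ) :
    y = ξ := by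
  have h1 : M ⊆ closure ({y} : Set Y) := by
    rw [← hξ.def]; exact hy.closure_subset
  have h2 : closure ({y} : Set Y) ⊆ M := hM.2 isIrreducible_singleton.closure h1
  have h3 : IsGenericPoint y M := le_antisymm h2 h1
  exact h3.eq hξ

end field

section algClosed
variable {k : Type u} [Field k] [IsAlgClosed k] {G X : Over (Spec (CommRingCat.of k))} [GrpObj G]
  (a : AlgGrp.Action G X)

lemma isIrreducible_box' {H : Over (Spec (CommRingCat.of k))} [IrreducibleSpace H.left]
    (i : H ⟶ G) {B : Set X.left} (hB : IsIrreducible B) :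
    IsIrreducible ((fst G X).left ⁻¹' Set.range i.left ∩ (snd G X).left ⁻¹' B) := by
  haveI : GeometricallyIrreducible H.hom := geometricallyIrreducible_of_isAlgClosed H.hom
  exact isIrreducible_box i hB

/-- key lemma over an algebraically closed field: the generic point of an irreducible component
`M` of a homogeneous space lies in `G⁰ · z` for every `z ∈ M`. -/
theorem genericPoint_mem_pact_idComp (hΦ : Surjective (lift a.act (snd G X)).left)
    {M : Set X.left} (hM : M ∈ irreducibleComponents X.left) {ξ : X.left}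
    (hξ : IsGenericPoint ξ M) {z : X.left} (hz : z ∈ M) : ξ ∈ pact a (idComp G) {z} := by
  have hmax : ∀ y : X.left, y ⤳ ξ → y = ξ := fun y hy => eq_of_specializes_genericPoint hM hξ hy
  obtain ⟨w₀, hw1, hw2⟩ := exists_tensor_point X X ξ z
  obtain ⟨w, hw⟩ := hΦ.surj w₀
  have haw : a.act.left w = ξ := by
    have : (lift a.act (snd G X) ≫ fst X X).left w = ξ := by
      rw [Over.comp_left, Scheme.Hom.comp_apply, hw, hw1]
    rwa [lift_fst] at this
  have hsw : (snd G X).left w = z := by
    have : (lift a.act (snd G X) ≫ snd X X).left w = z := by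
      rw [Over.comp_left, Scheme.Hom.comp_apply, hw, hw2]
    rwa [lift_snd] at this
  obtain ⟨g, hg⟩ : ∃ g, g = (fst G X).left w := ⟨_, rfl⟩
  have hC'irr : IsIrreducible (irreducibleComponent g) := isIrreducible_irreducibleComponent
  have hC'cl : IsClosed (irreducibleComponent g) := isClosed_irreducibleComponent
  obtain ⟨H, i, _, -, hr⟩ := exists_hom_range_eq G (irreducibleComponent g) hC'irr hC'cl
  have hMcl := isClosed_of_mem_irreducibleComponents _ hM
  have hBoxirr : IsIrreducible ((fst G X).left ⁻¹' Set.range i.left ∩ (snd G X).left ⁻¹' M) :=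
    isIrreducible_box' i hM.1
  have hBoxcl : IsClosed ((fst G X).left ⁻¹' Set.range i.left ∩ (snd G X).left ⁻¹' M) := by
    rw [hr]
    exact (hC'cl.preimage (fst G X).left.continuous).inter
      (hMcl.preimage (snd G X).left.continuous)
  have hwBox : w ∈ (fst G X).left ⁻¹' Set.range i.left ∩ (snd G X).left ⁻¹' M := by
    refine ⟨?_, ?_⟩
    · rw [hr, Set.mem_preimage, ← hg]; exact mem_irreducibleComponent
    · rw [Set.mem_preimage, hsw]; exact hz
  obtain ⟨w₁, hw₁⟩ : ∃ w₁, IsGenericPoint w₁
      ((fst G X).left ⁻¹' Set.range i.left ∩ (snd G X).left ⁻¹' M) :=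
    ⟨_, hBoxirr.isGenericPoint_genericPoint hBoxcl⟩
  have hw₁Box := hw₁.mem
  have h1 : a.act.left w₁ = ξ := by
    apply hmax
    rw [← haw]
    exact (hw₁.specializes hwBox).map a.act.left.continuous
  have h2 : (snd G X).left w₁ = ξ := by
    obtain ⟨w₂, hw₂1, hw₂2⟩ := exists_tensor_point G X g ξ
    have hw₂Box : w₂ ∈ (fst G X).left ⁻¹' Set.range i.left ∩ (snd G X).left ⁻¹' M := by
      refine ⟨?_, ?_⟩
      · rw [hr, Set.mem_preimage, hw₂1]; exact mem_irreducibleComponent
      · rw [Set.mem_preimage, hw₂2]; exact hξ.mem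
    apply hmax
    rw [← hw₂2]
    exact (hw₁.specializes hw₂Box).map (snd G X).left.continuous
  have h3 : ξ ∈ pact a (ι[G].left '' irreducibleComponent g) {ξ} := by
    have hmem : ξ ∈ pact a (irreducibleComponent g) {ξ} :=
      ⟨w₁, ⟨by rw [← hr]; exact hw₁Box.1, h2⟩, h1⟩
    obtain ⟨y, hy, hy'⟩ := mem_pact_inv a hmem
    rw [Set.mem_singleton_iff] at hy
    rwa [hy] at hy'
  have h4 : ξ ∈ pact a (irreducibleComponent g) {z} :=
    ⟨w, ⟨by rw [Set.mem_preimage, ← hg]; exact mem_irreducibleComponent, hsw⟩, haw⟩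
  have h5 : ξ ∈ pact a (pmul G (ι[G].left '' irreducibleComponent g) (irreducibleComponent g))
      {z} :=
    pact_pact_subset a _ _ _ (pact_mono a subset_rfl (Set.singleton_subset_iff.mpr h4) h3)
  have h6 : pmul G (ι[G].left '' irreducibleComponent g) (irreducibleComponent g) ⊆ idComp G := by
    apply subset_idComp
    · have hr' : ι[G].left '' irreducibleComponent g = Set.range (i ≫ ι[G]).left := by
        rw [← hr, Over.comp_left, Scheme.Hom.comp_base, TopCat.coe_comp, Set.range_comp]
      rw [hr']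
      exact (isIrreducible_box' (X := G) (i ≫ ι[G]) hC'irr).image _
        μ[G].left.continuous.continuousOn
    · have hA : ((𝟙 G : G ⟶ G)⁻¹).left g ∈ ι[G].left '' irreducibleComponent g := by
        refine ⟨g, mem_irreducibleComponent, ?_⟩
        rw [Hom.inv_def, Category.id_comp]
      have hB : (𝟙 G : G ⟶ G).left g ∈ irreducibleComponent g := mem_irreducibleComponent
      have := mul_left_apply_mem_pmul ((𝟙 G : G ⟶ G)⁻¹) (𝟙 G) g hA hB
      rwa [inv_mul_cancel, one_left_apply] at this
  exact pact_mono a h6 subset_rfl h5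

end algClosed

section bc
variable {S S' : Scheme.{u}} (f : S' ⟶ S)

/-- the comparison map `G_{S'} × X_{S'} ⟶ G × X` -/
noncomputable def bcr (G X : Over S) : ((Red.bc f G) ⊗ (Red.bc f X)).left ⟶ (G ⊗ X).left :=
  (Functor.LaxMonoidal.μ (Over.pullback f) G X).left ≫ pullback.fst (G ⊗ X).hom f

lemma bcr_fst (G X : Over S) : bcr f G X ≫ (fst G X).left =
    (fst (Red.bc f G) (Red.bc f X)).left ≫ pullback.fst G.hom f := by
  rw [bcr, Category.assoc]
  exact ActBC.μ_left_fst_fst f G X

lemma bcr_snd (G X : Over S) : bcr f G X ≫ (snd G X).left =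
    (snd (Red.bc f G) (Red.bc f X)).left ≫ pullback.fst X.hom f := by
  rw [bcr, Category.assoc]
  exact ActBC.μ_left_fst_snd f G X

lemma isPullback_pullback_map {Z₀ Z : Over S} (φ : Z₀ ⟶ Z) :
    IsPullback ((Over.pullback f).map φ).left (pullback.fst Z₀.hom f) (pullback.fst Z.hom f)
      φ.left := by
  have e1 : ((Over.pullback f).map φ).left ≫ pullback.snd Z.hom f = pullback.snd Z₀.hom f := by
    dsimp only [Over.pullback]; exact pullback.lift_snd _ _ _
  have e2 := ActBC.pullback_map_left_fst f φ
  refine IsPullback.of_right ?_ e2 (IsPullback.of_hasPullback Z.hom f).flip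
  rw [e1, Over.w φ]
  exact (IsPullback.of_hasPullback Z₀.hom f).flip

variable {G X : Over S} [GrpObj G] (a : AlgGrp.Action G X)

lemma bcr_act : bcr f G X ≫ a.act.left = (a.bc f).act.left ≫ pullback.fst X.hom f := by
  rw [AlgGrp.Action.bc_act, Over.comp_left, Category.assoc, ActBC.pullback_map_left_fst, bcr,
    Category.assoc]

lemma image_pact_bc_subset (A : Set (Red.bc f G).left) (B : Set (Red.bc f X).left) :
    (pullback.fst X.hom f) '' pact (a.bc f) A B ⊆
      pact a ((pullback.fst G.hom f) '' A) ((pullback.fst X.hom f) '' B) := by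
  rintro _ ⟨_, ⟨w, ⟨h1, h2⟩, rfl⟩, rfl⟩
  refine ⟨bcr f G X w, ⟨?_, ?_⟩, ?_⟩
  · refine ⟨(fst (Red.bc f G) (Red.bc f X)).left w, h1, ?_⟩
    rw [← Scheme.Hom.comp_apply, ← bcr_fst, Scheme.Hom.comp_apply]
  · refine ⟨(snd (Red.bc f G) (Red.bc f X)).left w, h2, ?_⟩
    rw [← Scheme.Hom.comp_apply, ← bcr_snd, Scheme.Hom.comp_apply]
  · rw [← Scheme.Hom.comp_apply, bcr_act, Scheme.Hom.comp_apply]

/-- the surjectivity of `Φ` is stable under base change. -/
lemma surjective_bc (hΦ : Surjective (lift a.act (snd G X)).left) :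
    Surjective (lift (a.bc f).act (snd (Red.bc f G) (Red.bc f X))).left := by
  have key : lift (a.bc f).act (snd (Red.bc f G) (Red.bc f X)) ≫
      Functor.LaxMonoidal.μ (Over.pullback f) X X =
      Functor.LaxMonoidal.μ (Over.pullback f) G X ≫
        (Over.pullback f).map (lift a.act (snd G X)) := by
    rw [← Functor.Monoidal.lift_μ, comp_lift_assoc, Functor.Monoidal.μ_snd]
    rfl
  have hsurj : Surjective ((Over.pullback f).map (lift a.act (snd G X))).left :=
    MorphismProperty.of_isPullback (P := @Surjective)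
      (isPullback_pullback_map f (lift a.act (snd G X))).flip hΦ
  haveI : IsIso (Functor.LaxMonoidal.μ (Over.pullback f) G X).left :=
    (Over.forget _).map_isIso (Functor.LaxMonoidal.μ (Over.pullback f) G X)
  haveI : IsIso (inv (Functor.LaxMonoidal.μ (Over.pullback f) X X)).left :=
    (Over.forget _).map_isIso (inv (Functor.LaxMonoidal.μ (Over.pullback f) X X))
  have e : (lift (a.bc f).act (snd (Red.bc f G) (Red.bc f X))).left =
      (Functor.LaxMonoidal.μ (Over.pullback f) G X).left ≫
        ((Over.pullback f).map (lift a.act (snd G X))).left ≫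
          (inv (Functor.LaxMonoidal.μ (Over.pullback f) X X)).left := by
    rw [← Over.comp_left, ← Over.comp_left, ← Category.assoc, ← key, Category.assoc,
      IsIso.hom_inv_id, Category.comp_id]
  rw [e]
  infer_instance

end bc

section descent
variable {k : Type u} [Field k] {G X : Over (Spec (CommRingCat.of k))} [GrpObj G]
  (a : AlgGrp.Action G X)

/-- key lemma: the generic point of an irreducible component `M` of a homogeneous space lies in
`G⁰ · z` for every `z ∈ M`. -/
theorem genericPoint_mem_pact_C0 (hΦ : Surjective (lift a.act (snd G X)).left)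
    {M : Set X.left} (hM : M ∈ irreducibleComponents X.left) {ξ : X.left}
    (hξ : IsGenericPoint ξ M) {z : X.left} (hz : z ∈ M) : ξ ∈ pact a (C0 G) {z} := by
  have hpsurj : Function.Surjective (pullback.fst X.hom (bcMap k)) := by
    have : Surjective (pullback.fst X.hom (bcMap k)) := inferInstance
    exact this.surj
  have hpgen : GeneralizingMap (pullback.fst X.hom (bcMap k)) := by
    have : Flat (bcMap k) := inferInstance
    have : Flat (pullback.fst X.hom (bcMap k)) := inferInstance
    exact Flat.generalizingMap (pullback.fst X.hom (bcMap k))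
  obtain ⟨z', rfl⟩ := hpsurj z
  obtain ⟨ξ', hξ'spec, hξ'p⟩ := hpgen (hξ.specializes hz)
  obtain ⟨N, hN, hsub⟩ := exists_mem_irreducibleComponents_subset_of_isIrreducible
    (closure ({ξ'} : Set (Red.bc (bcMap k) X).left)) isIrreducible_singleton.closure
  have hNcl := isClosed_of_mem_irreducibleComponents _ hN
  have hz'N : z' ∈ N := hsub hξ'spec.mem_closure
  obtain ⟨m, hm⟩ : ∃ m, IsGenericPoint m N := ⟨_, hN.1.isGenericPoint_genericPoint hNcl⟩
  have hpm : (pullback.fst X.hom (bcMap k)) m = ξ := by
    apply eq_of_specializes_genericPoint hM hξ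
    rw [← hξ'p]
    exact (hm.specializes (hsub (subset_closure rfl))).map
      (pullback.fst X.hom (bcMap k)).continuous
  have hΦ' := surjective_bc (bcMap k) a hΦ
  have h1 : m ∈ pact (a.bc (bcMap k)) (idComp (Red.bc (bcMap k) G)) {z'} :=
    genericPoint_mem_pact_idComp (a.bc (bcMap k)) hΦ' hN hm hz'N
  have h2 := image_pact_bc_subset (bcMap k) a _ _ ⟨m, h1, rfl⟩
  rw [hpm, Set.image_singleton] at h2
  refine pact_mono a ?_ subset_rfl h2
  exact (connectedComponent_ePt_eq_image G).symm.subset

/-- `G⁰ · z` is the irreducible component through `z`. -/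
theorem pact_C0_singleton_eq (hΦ : Surjective (lift a.act (snd G X)).left)
    {M : Set X.left} (hM : M ∈ irreducibleComponents X.left) {z : X.left} (hz : z ∈ M) :
    pact a (C0 G) {z} = M := by
  apply le_antisymm
  · calc pact a (C0 G) {z} ⊆ pact a (C0 G) M :=
          pact_mono a subset_rfl (Set.singleton_subset_iff.mpr hz)
      _ = M := pact_C0_eq_of_mem_irreducibleComponents a hM
  · intro y hy
    have hMcl := isClosed_of_mem_irreducibleComponents _ hM
    obtain ⟨ξ, hξ⟩ : ∃ ξ, IsGenericPoint ξ M := ⟨_, hM.1.isGenericPoint_genericPoint hMcl⟩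
    have h1 : ξ ∈ pact a (C0 G) {y} := genericPoint_mem_pact_C0 a hΦ hM hξ hy
    have h2 : ξ ∈ pact a (C0 G) {z} := genericPoint_mem_pact_C0 a hΦ hM hξ hz
    obtain ⟨y', hy', h3⟩ := mem_pact_inv a h1
    rw [Set.mem_singleton_iff] at hy'
    subst hy'
    have h4 : y' ∈ pact a (C0 G) {ξ} := pact_mono a inv_C0_subset subset_rfl h3
    have h5 : y' ∈ pact a (C0 G) (pact a (C0 G) {z}) :=
      pact_mono a subset_rfl (Set.singleton_subset_iff.mpr h2) h4
    exact pact_mono a pmul_C0_subset subset_rfl (pact_pact_subset a _ _ _ h5)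

/-- every point of a homogeneous space lies on exactly one irreducible component. -/
theorem irreducibleComponent_unique (hΦ : Surjective (lift a.act (snd G X)).left)
    {M₁ M₂ : Set X.left} (h₁ : M₁ ∈ irreducibleComponents X.left)
    (h₂ : M₂ ∈ irreducibleComponents X.left) {z : X.left} (hz₁ : z ∈ M₁) (hz₂ : z ∈ M₂) :
    M₁ = M₂ := by
  rw [← pact_C0_singleton_eq a hΦ h₁ hz₁, pact_C0_singleton_eq a hΦ h₂ hz₂]

theorem existsUnique_irreducibleComponent (hΦ : Surjective (lift a.act (snd G X)).left)
    (z : X.left) : ∃! C, C ∈ irreducibleComponents X.left ∧ z ∈ C :=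
  ⟨irreducibleComponent z,
    ⟨irreducibleComponent_mem_irreducibleComponents z, mem_irreducibleComponent⟩,
    fun _ hC => irreducibleComponent_unique a hΦ hC.1
      (irreducibleComponent_mem_irreducibleComponents z) hC.2 mem_irreducibleComponent⟩

end descent

section spl

/-- in a prime spectrum, a point of the closure of a compact open is a specialization of a point
of it. -/
lemma exists_specializes_of_mem_closure_primeSpectrum {A : Type*} [CommRing A]
    {s : Set (PrimeSpectrum A)} (hc : IsCompact s) (ho : IsOpen s) {y : PrimeSpectrum A}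
    (hy : y ∈ closure s) : ∃ u ∈ s, u ⤳ y := by
  obtain ⟨t, rfl⟩ := PrimeSpectrum.isCompact_isOpen_iff.mp ⟨hc, ho⟩
  by_contra hcon
  push Not at hcon
  have key : ∀ f ∈ t, ∃ r : A, r ∉ y.asIdeal ∧ ∃ n : ℕ, r * f ^ n = 0 := by
    intro f hf
    by_contra h
    push Not at h
    let S : Submonoid A := y.asIdeal.primeCompl ⊔ Submonoid.powers f
    have hdisj : Disjoint ((⊥ : Ideal A) : Set A) S := by
      rw [Set.disjoint_left]
      intro x hx hxS
      have hx0 : x = 0 := hx
      obtain ⟨r, hr, z, ⟨n, rfl⟩, rfl⟩ := Submonoid.mem_sup.mp hxS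
      exact h r hr n hx0
    obtain ⟨q, hq, -, hqS⟩ := Ideal.exists_le_prime_disjoint ⊥ S hdisj
    have hqy : q ≤ y.asIdeal := by
      intro x hx
      by_contra hxy
      exact Set.disjoint_left.mp hqS hx (Submonoid.mem_sup_left hxy)
    have hfq : f ∉ q := fun hfq =>
      Set.disjoint_left.mp hqS hfq (Submonoid.mem_sup_right (Submonoid.mem_powers f))
    refine hcon ⟨q, hq⟩ ?_ ?_
    · intro hmem
      exact hfq (hmem hf)
    · exact (PrimeSpectrum.le_iff_specializes _ _).mp hqy
  choose! r hr n hn using key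
  have hr₀ : (∏ f ∈ t, r f) ∉ y.asIdeal := by
    intro h
    obtain ⟨f, hf, hfy⟩ := (Ideal.IsPrime.prod_mem_iff (p := y.asIdeal)).mp h
    exact hr f hf hfy
  obtain ⟨x, hx1, hx2⟩ := mem_closure_iff.mp hy (PrimeSpectrum.basicOpen (∏ f ∈ t, r f))
    (PrimeSpectrum.basicOpen _).isOpen hr₀
  apply hx2
  intro f hf
  have h1 : (∏ g ∈ t, r g) * f ^ n f = 0 := by
    obtain ⟨c, hc⟩ := Finset.dvd_prod_of_mem r hf
    rw [hc, mul_right_comm, hn f hf, zero_mul]
  have h2 : (∏ g ∈ t, r g) * f ^ n f ∈ x.asIdeal := by rw [h1]; exact zero_mem _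
  rcases x.2.mem_or_mem h2 with h3 | h3
  · exact (hx1 h3).elim
  · exact x.2.mem_of_pow_mem _ h3

/-- in a scheme, a point of the closure of a retrocompact open is a specialization of a point
of it. -/
lemma exists_specializes_of_mem_closure_of_isRetrocompact {X : Scheme.{u}} {U : Set X}
    (hU : IsOpen U) (hrc : IsRetrocompact U) {y : X} (hy : y ∈ closure U) :
    ∃ u ∈ U, u ⤳ y := by
  obtain ⟨_, ⟨W, hW0, rfl⟩, hyW, -⟩ :=
    X.isBasis_affineOpens.exists_subset_of_mem_open (Set.mem_univ y) isOpen_univ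
  have hW : IsAffineOpen W := hW0
  have hrange : Set.range hW.fromSpec = (W : Set X) := hW.range_fromSpec
  obtain ⟨y', rfl⟩ : y ∈ Set.range hW.fromSpec := by rw [hrange]; exact hyW
  have hoe : Topology.IsOpenEmbedding hW.fromSpec := hW.fromSpec.isOpenEmbedding
  have hc : IsCompact (hW.fromSpec ⁻¹' U) := by
    have h1 : IsCompact (U ∩ W) := hrc hW.isCompact W.isOpen
    have h2 : hW.fromSpec ⁻¹' U = hW.fromSpec ⁻¹' (U ∩ W) := by
      ext v
      simp only [Set.mem_preimage, Set.mem_inter_iff, iff_self_and]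
      intro _
      rw [← hrange]
      exact ⟨v, rfl⟩
    rw [h2]
    exact (hoe.isInducing.isCompact_preimage_iff (by rw [hrange]; exact Set.inter_subset_right)).mpr h1
  have ho : IsOpen (hW.fromSpec ⁻¹' U) := hU.preimage hW.fromSpec.continuous
  have hy' : y' ∈ closure (hW.fromSpec ⁻¹' U) := by
    rw [← hoe.isOpenMap.preimage_closure_eq_closure_preimage hW.fromSpec.continuous]
    exact hy
  obtain ⟨u, hu, huy⟩ := exists_specializes_of_mem_closure_primeSpectrum hc ho hy'
  exact ⟨hW.fromSpec u, hu, huy.map hW.fromSpec.continuous⟩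

end spl

section results
variable {k : Type u} [Field k] {G X : Over (Spec (CommRingCat.of k))} [GrpObj G]
  (a : AlgGrp.Action G X)

lemma isOpenMap_whiskerRight_act {H : Over (Spec (CommRingCat.of k))} (i : H ⟶ G) :
    IsOpenMap ((i ▷ X) ≫ a.act).left := by
  let m : H ⊗ X ⟶ X := lift (fst H X ≫ i) (snd H X) ≫ a.act
  have hm : (i ▷ X) ≫ a.act = m := by
    simp only [m]
    congr 1
  let σ : H ⊗ X ⟶ H ⊗ X := lift (fst H X) m
  let τ : H ⊗ X ⟶ H ⊗ X := lift (fst H X) (lift ((fst H X ≫ i)⁻¹) (snd H X) ≫ a.act)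
  have h1 : σ ≫ τ = 𝟙 _ := by
    apply CartesianMonoidalCategory.hom_ext
    · simp [σ, τ]
    · simp only [σ, τ, Category.assoc, lift_snd, Category.id_comp, comp_lift_assoc,
        GrpObj.comp_inv, lift_fst_assoc]
      simp only [m]
      rw [← AlgGrp.Action.lift_mul_act, inv_mul_cancel, AlgGrp.Action.lift_one_act]
  have h2 : τ ≫ σ = 𝟙 _ := by
    apply CartesianMonoidalCategory.hom_ext
    · simp [σ, τ]
    · simp only [σ, τ, m, Category.assoc, lift_snd, Category.id_comp, comp_lift_assoc,
        lift_fst_assoc]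
      rw [← AlgGrp.Action.lift_mul_act, mul_inv_cancel, AlgGrp.Action.lift_one_act]
  have : IsIso σ.left :=
    ⟨τ.left, by rw [← Over.comp_left, h1]; rfl, by rw [← Over.comp_left, h2]; rfl⟩
  have hσ : m.left = σ.left ≫ (snd H X).left := by rw [← Over.comp_left, lift_snd]
  rw [hm, hσ]
  exact (isOpenMap_snd H X).comp σ.left.isOpenEmbedding.isOpenMap

lemma isOpen_pact_C0 {U : Set X.left} (hU : IsOpen U) : IsOpen (pact a (C0 G) U) := by
  obtain ⟨Z, i, -, -, hr, -⟩ := exists_C0_scheme (G := G)
  rw [← hr, pact_range_eq_image]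
  exact isOpenMap_whiskerRight_act a i _ (hU.preimage (snd Z X).left.continuous)

theorem pact_C0_open_eq_sUnion (hΦ : Surjective (lift a.act (snd G X)).left) {U : Set X.left}
    (hU : IsOpen U) :
    pact a (C0 G) U =
      ⋃₀ {Z | Z ∈ irreducibleComponents X.left ∧ ∃ ξ ∈ U, closure {ξ} = Z} := by
  ext y
  constructor
  · rintro ⟨w, ⟨h1, h2⟩, rfl⟩
    have hM := irreducibleComponent_mem_irreducibleComponents ((snd G X).left w)
    have hMcl : IsClosed (irreducibleComponent ((snd G X).left w)) :=
      isClosed_irreducibleComponent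
    have hyM : a.act.left w ∈ irreducibleComponent ((snd G X).left w) := by
      rw [← pact_C0_singleton_eq a hΦ hM mem_irreducibleComponent]
      exact ⟨w, ⟨h1, rfl⟩, rfl⟩
    obtain ⟨ξ, hξ⟩ : ∃ ξ, IsGenericPoint ξ (irreducibleComponent ((snd G X).left w)) :=
      ⟨_, hM.1.isGenericPoint_genericPoint hMcl⟩
    refine ⟨_, ⟨hM, ξ, ?_, hξ.def⟩, hyM⟩
    exact (hξ.specializes mem_irreducibleComponent).mem_open hU h2
  · rintro ⟨Z, ⟨hZ, ξ, hξU, rfl⟩, hy⟩
    have hξZ : ξ ∈ closure ({ξ} : Set X.left) := subset_closure rfl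
    rw [← pact_C0_singleton_eq a hΦ hZ hξZ] at hy
    exact pact_mono a subset_rfl (Set.singleton_subset_iff.mpr hξU) hy

theorem pact_C0_eq_closure (hΦ : Surjective (lift a.act (snd G X)).left) {U : Set X.left}
    (hU : IsOpen U) (hrc : IsRetrocompact U) : pact a (C0 G) U = closure U := by
  apply le_antisymm
  · rw [pact_C0_open_eq_sUnion a hΦ hU]
    rintro y ⟨Z, ⟨hZ, ξ, hξU, rfl⟩, hy⟩
    exact closure_mono (Set.singleton_subset_iff.mpr hξU) hy
  · intro y hy
    obtain ⟨u, huU, huy⟩ := exists_specializes_of_mem_closure_of_isRetrocompact hU hrc hy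
    have hM := irreducibleComponent_mem_irreducibleComponents u
    have hyM : y ∈ irreducibleComponent u :=
      huy.mem_closed isClosed_irreducibleComponent mem_irreducibleComponent
    rw [← pact_C0_singleton_eq a hΦ hM mem_irreducibleComponent] at hyM
    exact pact_mono a subset_rfl (Set.singleton_subset_iff.mpr huU) hyM

theorem compactSpace_of_irreducibleSpace (hΦ : Surjective (lift a.act (snd G X)).left)
    [IrreducibleSpace X.left] : CompactSpace X.left := by
  obtain ⟨x₀⟩ : Nonempty X.left := inferInstance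
  obtain ⟨_, ⟨W0, hW0, rfl⟩, hxW, -⟩ :=
    X.left.isBasis_affineOpens.exists_subset_of_mem_open (Set.mem_univ x₀) isOpen_univ
  obtain ⟨W, hWeq⟩ : ∃ W : X.left.Opens, W = W0 := ⟨W0, rfl⟩
  subst hWeq
  have hW : IsAffineOpen W := hW0
  have huniv : pact a (C0 G) (W : Set X.left) = Set.univ := by
    rw [pact_C0_open_eq_sUnion a hΦ W.isOpen]
    apply Set.eq_univ_of_univ_subset
    have hgen := genericPoint_spec X.left
    have hmem : genericPoint X.left ∈ (W : Set X.left) :=
      (hgen.mem_open_set_iff W.isOpen).mpr ⟨x₀, Set.mem_univ _, hxW⟩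
    have huc : (Set.univ : Set X.left) ∈ irreducibleComponents X.left :=
      ⟨IrreducibleSpace.isIrreducible_univ _, fun _ _ _ => Set.subset_univ _⟩
    exact Set.subset_sUnion_of_mem ⟨huc, genericPoint X.left, hmem, hgen.def⟩
  obtain ⟨Z, i, _, _, hr, hZc⟩ := exists_C0_scheme (G := G)
  let Y : Over (Spec (CommRingCat.of k)) := Over.mk (W.ι ≫ X.hom)
  let j : Y ⟶ X := Over.homMk W.ι rfl
  have hrj : Set.range j.left = (W : Set X.left) := Scheme.Opens.range_ι W
  haveI : CompactSpace Y.left := isCompact_iff_compactSpace.mp hW.isCompact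
  haveI : CompactSpace (Z ⊗ Y).left :=
    inferInstanceAs (CompactSpace ↑(pullback Z.hom Y.hom))
  have hrange : pact a (C0 G) (W : Set X.left) = Set.range ((i ⊗ₘ j) ≫ a.act).left := by
    rw [pact, ← hr, ← hrj, ← range_tensorHom, Over.comp_left, Scheme.Hom.comp_base,
      TopCat.coe_comp, Set.range_comp]
  constructor
  rw [← huniv, hrange]
  exact isCompact_range ((i ⊗ₘ j) ≫ a.act).left.continuous

theorem connectedComponent_eq_irreducibleComponent
    (hΦ : Surjective (lift a.act (snd G X)).left) [QuasiSeparatedSpace X.left] (x : X.left) :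
    connectedComponent x = irreducibleComponent x := by
  apply le_antisymm
  · intro y hy
    have hMy := irreducibleComponent_mem_irreducibleComponents y
    obtain ⟨ξ, hξ⟩ : ∃ ξ, IsGenericPoint ξ (irreducibleComponent y) :=
      ⟨_, hMy.1.isGenericPoint_genericPoint isClosed_irreducibleComponent⟩
    have hspec : ξ ⤳ x := by
      rw [specializes_iff_forall_open]
      intro O hO hxO
      obtain ⟨_, ⟨W, hW, rfl⟩, hxW, hWO⟩ :=
        X.left.isBasis_affineOpens.exists_subset_of_mem_open hxO hO
      apply hWO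
      have hrc : IsRetrocompact (W : Set X.left) := fun K hK hKo =>
        QuasiSeparatedSpace.inter_isCompact _ _ W.isOpen hW.isCompact hKo hK
      have hV : IsClopen (pact a (C0 G) (W : Set X.left)) :=
        ⟨by rw [pact_C0_eq_closure a hΦ W.isOpen hrc]; exact isClosed_closure,
          isOpen_pact_C0 a W.isOpen⟩
      have hxV : x ∈ pact a (C0 G) (W : Set X.left) := subset_pact a _ ePt_mem_C0 hxW
      have hyV : y ∈ pact a (C0 G) (W : Set X.left) := hV.connectedComponent_subset hxV hy
      rw [pact_C0_open_eq_sUnion a hΦ W.isOpen] at hyV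
      obtain ⟨Z, ⟨hZ, ξ', hξ'W, rfl⟩, hyZ⟩ := hyV
      have h1 : closure ({ξ'} : Set X.left) = irreducibleComponent y :=
        irreducibleComponent_unique a hΦ hZ hMy hyZ mem_irreducibleComponent
      have h1' : IsGenericPoint ξ' (irreducibleComponent y) := h1
      have h2 : ξ' = ξ := h1'.eq hξ
      rwa [h2] at hξ'W
    have hxMy : x ∈ irreducibleComponent y :=
      hspec.mem_closed isClosed_irreducibleComponent hξ.mem
    have h3 : irreducibleComponent y = irreducibleComponent x :=
      irreducibleComponent_unique a hΦ hMy (irreducibleComponent_mem_irreducibleComponents x)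
        hxMy mem_irreducibleComponent
    rw [← h3]
    exact mem_irreducibleComponent
  · exact isIrreducible_irreducibleComponent.2.isPreconnected.subset_connectedComponent
      mem_irreducibleComponent

end results

section orbit
variable {k : Type u} [Field k] {G X : Over (Spec (CommRingCat.of k))} [GrpObj G]
  (a : AlgGrp.Action G X)

/-- a point of `G × X` lying over a rational point `x` of `X` is `(g, x)` for its first
projection `g`. -/
lemma section_fiber (x : 𝟙_ (Over (Spec (CommRingCat.of k))) ⟶ X)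
    (pt : (𝟙_ (Over (Spec (CommRingCat.of k)))).left) (w : (G ⊗ X).left)
    (hw : (snd G X).left w = x.left pt) :
    (lift (𝟙 G) (toUnit G ≫ x)).left ((fst G X).left w) = w := by
  have h1 : (lift (𝟙 G) (toUnit G ≫ x)).left ≫ (fst G X).left = 𝟙 _ := by
    rw [← Over.comp_left, lift_fst]; rfl
  have h2 : (lift (𝟙 G) (toUnit G ≫ x)).left ≫ (snd G X).left = G.hom ≫ x.left := by
    rw [← Over.comp_left, lift_snd]; rfl
  have hx : x.left ≫ X.hom = 𝟙 _ := Over.w x
  have hout : IsPullback ((lift (𝟙 G) (toUnit G ≫ x)).left ≫ (fst G X).left) G.hom G.hom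
      (x.left ≫ X.hom) := by
    rw [h1, hx]; exact IsPullback.id_horiz G.hom
  have H : IsPullback (lift (𝟙 G) (toUnit G ≫ x)).left G.hom (snd G X).left x.left :=
    IsPullback.of_right hout h2 (IsPullback.of_hasPullback G.hom X.hom)
  have hr : Set.range (lift (𝟙 G) (toUnit G ≫ x)).left =
      (snd G X).left ⁻¹' Set.range x.left := by
    rw [← Scheme.Pullback.range_fst, ← H.isoPullback_hom_fst, Scheme.Hom.comp_base,
      TopCat.coe_comp, Set.range_comp, Set.range_eq_univ.mpr H.isoPullback.hom.surjective,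
      Set.image_univ]
  have hwr : w ∈ Set.range (lift (𝟙 G) (toUnit G ≫ x)).left := by
    rw [hr, Set.mem_preimage, hw]; exact ⟨pt, rfl⟩
  obtain ⟨g', rfl⟩ := hwr
  congr 1
  change ((lift (𝟙 G) (toUnit G ≫ x)).left ≫ (fst G X).left) g' = g'
  rw [h1]
  rfl

theorem image_orbitMap_eq_pact (x : 𝟙_ (Over (Spec (CommRingCat.of k))) ⟶ X)
    (pt : (𝟙_ (Over (Spec (CommRingCat.of k)))).left) (A : Set G.left) :
    (a.orbitMap x).left '' A = pact a A {x.left pt} := by
  ext y
  constructor
  · rintro ⟨g, hg, rfl⟩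
    refine act_left_apply_mem_pact a (𝟙 G) (toUnit G ≫ x) g hg ?_
    rw [Set.mem_singleton_iff, Over.comp_left, Scheme.Hom.comp_apply]
    congr 1
    exact Subsingleton.elim (α := Spec (CommRingCat.of k)) _ _
  · rintro ⟨w, ⟨h1, h2⟩, rfl⟩
    rw [Set.mem_preimage, Set.mem_singleton_iff] at h2
    refine ⟨(fst G X).left w, h1, ?_⟩
    have := section_fiber x pt w h2
    change ((lift (𝟙 G) (toUnit G ≫ x)).left ≫ a.act.left) ((fst G X).left w) = _
    rw [Scheme.Hom.comp_apply, this]

/-- the irreducible component through a rational point of a homogeneous space is geometrically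
irreducible. -/
theorem isIrreducible_preimage_component (hΦ : Surjective (lift a.act (snd G X)).left)
    (x : 𝟙_ (Over (Spec (CommRingCat.of k))) ⟶ X)
    (pt : (𝟙_ (Over (Spec (CommRingCat.of k)))).left) {C : Set X.left}
    (hC : C ∈ irreducibleComponents X.left) (hx : x.left pt ∈ C)
    (K : Type u) [Field K] [Algebra k K] :
    IsIrreducible
      ((pullback.fst X.hom (Spec.map (CommRingCat.ofHom (algebraMap k K)))) ⁻¹' C) := by
  obtain ⟨Z, i, hgi, -, hr, -⟩ := exists_C0_scheme (G := G)
  have hψ : Set.range (i ≫ a.orbitMap x).left = C := by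
    rw [Over.comp_left, Scheme.Hom.comp_base, TopCat.coe_comp, Set.range_comp, hr,
      image_orbitMap_eq_pact a x pt, pact_C0_singleton_eq a hΦ hC hx]
  have hψw : (i ≫ a.orbitMap x).left ≫ X.hom = Z.hom := Over.w (i ≫ a.orbitMap x)
  rw [← hψ, ← Scheme.Pullback.range_snd]
  haveI : GeometricallyIrreducible ((i ≫ a.orbitMap x).left ≫ X.hom) := by
    rw [hψw]; exact hgi
  haveI : IrreducibleSpace ↑(pullback ((i ≫ a.orbitMap x).left ≫ X.hom)
      (Spec.map (CommRingCat.ofHom (algebraMap k K)))) :=
    GeometricallyIrreducible.geometrically_irreducibleSpace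
      (Spec.map (CommRingCat.ofHom (algebraMap k K))) (pullback.fst _ _) (pullback.snd _ _)
      (IsPullback.of_hasPullback _ _)
  haveI : IrreducibleSpace ↑(pullback (i ≫ a.orbitMap x).left
      (pullback.fst X.hom (Spec.map (CommRingCat.ofHom (algebraMap k K))))) :=
    (pullbackRightPullbackFstIso X.hom (Spec.map (CommRingCat.ofHom (algebraMap k K)))
      (i ≫ a.orbitMap x).left).hom.homeomorph.irreducibleSpace_iff.mpr inferInstance
  rw [← Set.image_univ]
  exact (IrreducibleSpace.isIrreducible_univ _).image _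
    (Scheme.Hom.continuous (pullback.snd (i ≫ a.orbitMap x).left
      (pullback.fst X.hom (Spec.map (CommRingCat.ofHom (algebraMap k K)))))).continuousOn

end orbit

end Groth.Agent.Lib.Helper26.Homog
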