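import Mathlib

/-!
# Krull–Schmidt in a `k`-linear abelian category with finite-dimensional endomorphism rings (helper26)

* `isUnit_or_isNilpotent` : in a finite-dimensional algebra with only trivial idempotents, every element is
  a unit or nilpotent (Fitting, via an annihilating polynomial `X^a q` and Bezout).
* `LocalEnd`, `Indec`, `localEnd_of_indec`.
* `Split`, `Split.cancel` : if `M = A ⊕ N = B ⊕ N'` and `A → M → B` is an isomorphism then `N ≅ N'`.
* `unique_of_local` : uniqueness of decompositions into objects with local endomorphism rings.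
* `exists_decomp` : existence of a decomposition into indecomposables.
* `krullSchmidt`.
-/

set_option autoImplicit false

open CategoryTheory CategoryTheory.Limits

namespace Groth.Agent.Lib.Helper26KS

universe v u

/-! ### ring theory -/
section Ring

open Polynomial

variable (k : Type*) [Field k] {E : Type*} [Ring E] [Algebra k E]

theorem isUnit_or_isNilpotent (hfin : Module.Finite k E)
    (he : ∀ e : E, e * e = e → e = 0 ∨ e = 1) (φ : E) :
    IsUnit φ ∨ IsNilpotent φ := by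
  have hint : IsIntegral k φ := IsIntegral.of_finite k φ
  obtain ⟨m, hm1, hm0⟩ : ∃ p : k[X], p.Monic ∧ eval₂ (algebraMap k E) φ p = 0 := hint
  have hm0' : aeval φ m = 0 := by rw [aeval_def]; exact hm0
  have hmne : m ≠ 0 := hm1.ne_zero
  obtain ⟨q, hq, hXq⟩ := exists_eq_pow_rootMultiplicity_mul_and_not_dvd m hmne (0 : k)
  rw [map_zero, sub_zero] at hq hXq
  obtain ⟨a, ha⟩ : ∃ a, a = m.rootMultiplicity 0 := ⟨_, rfl⟩
  rw [← ha] at hq
  have hcop : IsCoprime q (X ^ a) := Irreducible.coprime_pow_of_not_dvd a irreducible_X hXq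
  obtain ⟨u, v, huv⟩ := hcop
  have hsum : aeval φ (v * X ^ a) + aeval φ (u * q) = 1 := by
    rw [← map_add, add_comm, huv, map_one]
  have hprod : aeval φ (v * X ^ a) * aeval φ (u * q) = 0 := by
    rw [← map_mul, show v * X ^ a * (u * q) = v * u * m by rw [hq]; ring, map_mul, hm0', mul_zero]
  have hidem : aeval φ (v * X ^ a) * aeval φ (v * X ^ a) = aeval φ (v * X ^ a) := by
    have h1 : aeval φ (v * X ^ a) = 1 - aeval φ (u * q) := eq_sub_of_add_eq hsum
    calc aeval φ (v * X ^ a) * aeval φ (v * X ^ a)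
        = aeval φ (v * X ^ a) * (1 - aeval φ (u * q)) := by rw [← h1]
      _ = aeval φ (v * X ^ a) := by rw [mul_sub, mul_one, hprod, sub_zero]
  rcases he _ hidem with h0 | h1
  · -- nilpotent
    right
    refine ⟨a, ?_⟩
    have e1 : φ ^ a = aeval φ ((X : k[X]) ^ a) := by rw [map_pow, aeval_X]
    calc φ ^ a = aeval φ ((X : k[X]) ^ a) * (aeval φ (v * X ^ a) + aeval φ (u * q)) := by
          rw [hsum, mul_one, e1]
      _ = aeval φ (u * m) := by
          rw [h0, zero_add, ← map_mul, show X ^ a * (u * q) = u * m by rw [hq]; ring]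
      _ = 0 := by rw [map_mul, hm0', mul_zero]
  · -- unit
    left
    have he'0 : aeval φ (u * q) = 0 := by
      rw [h1] at hsum
      simpa using hsum
    have hq0 : aeval φ q = 0 := by
      calc aeval φ q = aeval φ q * (aeval φ (v * X ^ a) + aeval φ (u * q)) := by rw [hsum, mul_one]
        _ = aeval φ (v * m) + aeval φ q * aeval φ (u * q) := by
            rw [mul_add, ← map_mul, show q * (v * X ^ a) = v * m by rw [hq]; ring]
        _ = 0 := by rw [he'0, mul_zero, map_mul, hm0', mul_zero, add_zero]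
    have hc : q.coeff 0 ≠ 0 := fun h => hXq (X_dvd_iff.2 h)
    have hdiv := congrArg (aeval φ) (divX_mul_X_add q)
    rw [map_add, map_mul, aeval_X, aeval_C, hq0] at hdiv
    have hcomm : φ * aeval φ (divX q) = aeval φ (divX q) * φ := by
      have := congrArg (aeval φ) (mul_comm X (divX q))
      rwa [map_mul, map_mul, aeval_X] at this
    have h2 : aeval φ (divX q) * φ = - algebraMap k E (q.coeff 0) := eq_neg_of_add_eq_zero_left hdiv
    have hw : (algebraMap k E (-(q.coeff 0)⁻¹) * aeval φ (divX q)) * φ = 1 := by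
      rw [mul_assoc, h2, mul_neg, ← map_mul, ← map_neg, neg_mul, neg_neg, inv_mul_cancel₀ hc, map_one]
    have hw' : φ * (algebraMap k E (-(q.coeff 0)⁻¹) * aeval φ (divX q)) = 1 := by
      rw [← mul_assoc, ← Algebra.commutes, mul_assoc, hcomm, ← mul_assoc]
      exact hw
    exact ⟨⟨φ, _, hw', hw⟩, rfl⟩

theorem isUnit_or_isUnit_of_add_eq_one (hfin : Module.Finite k E)
    (he : ∀ e : E, e * e = e → e = 0 ∨ e = 1) {φ ψ : E} (h : φ + ψ = 1) :
    IsUnit φ ∨ IsUnit ψ := by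
  rcases isUnit_or_isNilpotent k hfin he φ with h1 | h1
  · exact Or.inl h1
  · right
    have : ψ = 1 - φ := eq_sub_of_add_eq' h
    rw [this]
    exact h1.isUnit_one_sub

end Ring

/-! ### preadditive categories -/
section Pre

variable {C : Type u} [Category.{v} C] [Preadditive C]

/-- the endomorphism ring is local (and the object is nonzero). -/
def LocalEnd (A : C) : Prop := ¬ IsZero A ∧ ∀ φ ψ : A ⟶ A, φ + ψ = 𝟙 A → IsIso φ ∨ IsIso ψ

theorem isZero_of_isIso_zero {A : C} (h : IsIso (0 : A ⟶ A)) : IsZero A := by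
  rw [IsZero.iff_id_eq_zero]
  have := IsIso.hom_inv_id (0 : A ⟶ A)
  rw [zero_comp] at this
  exact this.symm

theorem LocalEnd.exists_isIso_of_sum {A : C} (hA : LocalEnd A) {ι : Type*} (s : Finset ι)
    (c : ι → (A ⟶ A)) (h : IsIso (∑ j ∈ s, c j)) : ∃ j ∈ s, IsIso (c j) := by
  classical
  induction s using Finset.induction_on with
  | empty =>
    rw [Finset.sum_empty] at h
    exact absurd (isZero_of_isIso_zero h) hA.1
  | insert j s hj ih =>
    rw [Finset.sum_insert hj] at h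
    have h1 : c j ≫ inv (c j + ∑ x ∈ s, c x) + (∑ x ∈ s, c x) ≫ inv (c j + ∑ x ∈ s, c x) = 𝟙 A := by
      rw [← Preadditive.add_comp, IsIso.hom_inv_id]
    rcases hA.2 _ _ h1 with h2 | h2
    · refine ⟨j, Finset.mem_insert_self j s, ?_⟩
      exact IsIso.of_isIso_comp_right (c j) (inv (c j + ∑ x ∈ s, c x))
    · haveI : IsIso (∑ x ∈ s, c x) := IsIso.of_isIso_comp_right _ (inv (c j + ∑ x ∈ s, c x))
      obtain ⟨i, hi, hi'⟩ := ih this
      exact ⟨i, Finset.mem_insert_of_mem hi, hi'⟩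

theorem isIso_of_split {A B : C} (hA : ¬ IsZero A) (hB : LocalEnd B) (a : A ⟶ B) (r : B ⟶ A)
    (h : a ≫ r = 𝟙 A) : IsIso a := by
  have hidem : (r ≫ a) ≫ (r ≫ a) = r ≫ a := by
    rw [Category.assoc, ← Category.assoc a r a, h, Category.id_comp]
  have hsum : (𝟙 B - r ≫ a) + r ≫ a = 𝟙 B := sub_add_cancel _ _
  rcases hB.2 _ _ hsum with h1 | h1
  · exfalso
    have hidem' : (𝟙 B - r ≫ a) ≫ (𝟙 B - r ≫ a) = 𝟙 B - r ≫ a :=
      Idempotents.idem_of_id_sub_idem _ hidem
    have h2 : 𝟙 B - r ≫ a = 𝟙 B := by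
      rw [← cancel_mono (𝟙 B - r ≫ a), hidem', Category.id_comp]
    have h3 : r ≫ a = 0 := sub_eq_self.mp h2
    apply hA
    rw [IsZero.iff_id_eq_zero]
    have e1 : a ≫ (r ≫ a) ≫ r = 𝟙 A := by rw [Category.assoc, h, Category.comp_id, h]
    rw [← e1, h3, zero_comp, comp_zero]
  · have h2 : r ≫ a = 𝟙 B := by
      rw [← cancel_mono (r ≫ a), hidem, Category.id_comp]
    exact ⟨⟨r, h, h2⟩⟩

/-- an internal direct sum decomposition `M = A ⊕ N`. -/
structure Split (M A N : C) where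
  iA : A ⟶ M
  pA : M ⟶ A
  iN : N ⟶ M
  pN : M ⟶ N
  iA_pA : iA ≫ pA = 𝟙 A
  iN_pN : iN ≫ pN = 𝟙 N
  iA_pN : iA ≫ pN = 0
  iN_pA : iN ≫ pA = 0
  total : pA ≫ iA + pN ≫ iN = 𝟙 M

attribute [reassoc] Split.iA_pA Split.iN_pN Split.iA_pN Split.iN_pA

/-- transport a splitting along an isomorphism. -/
def Split.transport {M M' A N : C} (s : Split M A N) (θ : M ≅ M') : Split M' A N where
  iA := s.iA ≫ θ.hom
  pA := θ.inv ≫ s.pA
  iN := s.iN ≫ θ.hom
  pN := θ.inv ≫ s.pN
  iA_pA := by rw [Category.assoc, Iso.hom_inv_id_assoc, s.iA_pA]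
  iN_pN := by rw [Category.assoc, Iso.hom_inv_id_assoc, s.iN_pN]
  iA_pN := by rw [Category.assoc, Iso.hom_inv_id_assoc, s.iA_pN]
  iN_pA := by rw [Category.assoc, Iso.hom_inv_id_assoc, s.iN_pA]
  total := by
    calc (θ.inv ≫ s.pA) ≫ s.iA ≫ θ.hom + (θ.inv ≫ s.pN) ≫ s.iN ≫ θ.hom
        = θ.inv ≫ (s.pA ≫ s.iA + s.pN ≫ s.iN) ≫ θ.hom := by
          simp only [Preadditive.comp_add, Preadditive.add_comp, Category.assoc]
      _ = 𝟙 M' := by rw [s.total, Category.id_comp, Iso.inv_hom_id]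

/-- cancellation: two complements of "the same" summand are isomorphic. -/
theorem Split.cancel {M A B N N' : C} (s : Split M A N) (s' : Split M B N')
    [IsIso (s.iA ≫ s'.pA)] : Nonempty (N ≅ N') := by
  obtain ⟨a', ha'⟩ : ∃ a', a' = inv (s.iA ≫ s'.pA) := ⟨_, rfl⟩
  have h1 : s.iA ≫ s'.pA ≫ a' = 𝟙 A := by
    rw [ha', ← Category.assoc]; exact IsIso.hom_inv_id _
  have h2 : a' ≫ s.iA ≫ s'.pA = 𝟙 B := by
    rw [ha']; exact IsIso.inv_hom_id _
  obtain ⟨P, hP⟩ : ∃ P : M ⟶ M, P = 𝟙 M - s'.pA ≫ a' ≫ s.iA := ⟨_, rfl⟩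
  have hP1 : P ≫ s'.pA = 0 := by
    rw [hP, Preadditive.sub_comp, Category.id_comp, Category.assoc, Category.assoc, h2,
      Category.comp_id, sub_self]
  have hP2 : s.iA ≫ P = 0 := by
    rw [hP, Preadditive.comp_sub, Category.comp_id, reassoc_of% h1, sub_self]
  have e1 : s'.pN ≫ s'.iN = 𝟙 M - s'.pA ≫ s'.iA := eq_sub_of_add_eq' s'.total
  have e2 : P ≫ s'.pN ≫ s'.iN = P := by
    rw [e1, Preadditive.comp_sub, Category.comp_id, ← Category.assoc, hP1, zero_comp, sub_zero]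
  have e3 : s.iN ≫ P ≫ s.pN = 𝟙 N := by
    rw [hP, Preadditive.sub_comp, Preadditive.comp_sub, Category.id_comp, s.iN_pN, Category.assoc,
      Category.assoc, s.iA_pN, comp_zero, comp_zero, comp_zero, sub_zero]
  have e1' : s.pN ≫ s.iN = 𝟙 M - s.pA ≫ s.iA := eq_sub_of_add_eq' s.total
  have e2' : s.pN ≫ s.iN ≫ P = P := by
    rw [← Category.assoc, e1', Preadditive.sub_comp, Category.id_comp, Category.assoc, hP2,
      comp_zero, sub_zero]
  have e3' : s'.iN ≫ P ≫ s'.pN = 𝟙 N' := by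
    rw [hP, Preadditive.sub_comp, Preadditive.comp_sub, Category.id_comp, s'.iN_pN, Category.assoc,
      s'.iN_pA_assoc, zero_comp, sub_zero]
  refine ⟨⟨s.iN ≫ P ≫ s'.pN, s'.iN ≫ s.pN, ?_, ?_⟩⟩
  · calc (s.iN ≫ P ≫ s'.pN) ≫ s'.iN ≫ s.pN = s.iN ≫ (P ≫ s'.pN ≫ s'.iN) ≫ s.pN := by
          simp only [Category.assoc]
      _ = 𝟙 N := by rw [e2, e3]
  · calc (s'.iN ≫ s.pN) ≫ s.iN ≫ P ≫ s'.pN = s'.iN ≫ (s.pN ≫ s.iN ≫ P) ≫ s'.pN := by
          simp only [Category.assoc]
      _ = 𝟙 N' := by rw [e2', e3']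

variable [HasFiniteBiproducts C]

/-- split off one summand of a biproduct over `Fin (n+1)`. -/
noncomputable def splitAt {n : ℕ} (f : Fin (n + 1) → C) (i₀ : Fin (n + 1)) :
    Split (⨁ f) (f i₀) (⨁ fun i => f (i₀.succAbove i)) where
  iA := biproduct.ι f i₀
  pA := biproduct.π f i₀
  iN := biproduct.desc fun i => biproduct.ι f (i₀.succAbove i)
  pN := biproduct.lift fun i => biproduct.π f (i₀.succAbove i)
  iA_pA := biproduct.ι_π_self f i₀
  iN_pN := by
    refine biproduct.hom_ext' _ _ fun i => biproduct.hom_ext _ _ fun j => ?_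
    simp only [Category.assoc, biproduct.ι_desc_assoc, biproduct.lift_π, Category.comp_id]
    by_cases h : i = j
    · subst h
      rw [biproduct.ι_π_self, biproduct.ι_π_self]
    · rw [biproduct.ι_π_ne _ h,
        biproduct.ι_π_ne f (fun h' => h (Fin.succAbove_right_injective h'))]
  iA_pN := by
    refine biproduct.hom_ext _ _ fun j => ?_
    rw [Category.assoc, biproduct.lift_π, zero_comp, biproduct.ι_π_ne f (Fin.succAbove_ne i₀ j).symm]
  iN_pA := by
    refine biproduct.hom_ext' _ _ fun j => ?_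
    rw [biproduct.ι_desc_assoc, comp_zero, biproduct.ι_π_ne f (Fin.succAbove_ne i₀ j)]
  total := by
    rw [biproduct.lift_desc, ← biproduct.total]
    exact (Fin.sum_univ_succAbove (fun j => biproduct.π f j ≫ biproduct.ι f j) i₀).symm

/-- uniqueness of decompositions into objects with local endomorphism rings. -/
theorem unique_of_local : ∀ (n m : ℕ) (Fs : Fin n → C) (Gs : Fin m → C),
    (∀ i, LocalEnd (Fs i)) → (∀ j, LocalEnd (Gs j)) → Nonempty ((⨁ Fs) ≅ (⨁ Gs)) →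
    ∃ e : Fin n ≃ Fin m, ∀ i, Nonempty (Fs i ≅ Gs (e i)) := by
  intro n
  induction n with
  | zero =>
    intro m Fs Gs hF hG ⟨θ⟩
    have hz : IsZero (⨁ Fs) := by
      rw [IsZero.iff_id_eq_zero, ← biproduct.total, Finset.univ_eq_empty, Finset.sum_empty]
    cases m with
    | zero => exact ⟨Equiv.refl _, fun i => i.elim0⟩
    | succ m =>
      exfalso
      apply (hG 0).1
      rw [IsZero.iff_id_eq_zero, ← biproduct.ι_π_self Gs 0]
      have : biproduct.π Gs 0 = 0 := (hz.of_iso θ.symm).eq_of_src _ _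
      rw [this, comp_zero]
  | succ n ih =>
    intro m Fs Gs hF hG ⟨θ⟩
    have hsum : ∑ j, (biproduct.ι Fs 0 ≫ θ.hom ≫ biproduct.π Gs j) ≫
        (biproduct.ι Gs j ≫ θ.inv ≫ biproduct.π Fs 0) = 𝟙 (Fs 0) := by
      calc ∑ j, (biproduct.ι Fs 0 ≫ θ.hom ≫ biproduct.π Gs j) ≫
            (biproduct.ι Gs j ≫ θ.inv ≫ biproduct.π Fs 0)
          = biproduct.ι Fs 0 ≫ θ.hom ≫ (∑ j, biproduct.π Gs j ≫ biproduct.ι Gs j) ≫ θ.inv ≫
              biproduct.π Fs 0 := by
            simp only [Preadditive.sum_comp, Preadditive.comp_sum, Category.assoc]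
        _ = 𝟙 _ := by
            rw [biproduct.total, Category.id_comp, Iso.hom_inv_id_assoc, biproduct.ι_π_self]
    obtain ⟨j₀, -, hj₀⟩ := (hF 0).exists_isIso_of_sum Finset.univ
      (fun j => (biproduct.ι Fs 0 ≫ θ.hom ≫ biproduct.π Gs j) ≫
        (biproduct.ι Gs j ≫ θ.inv ≫ biproduct.π Fs 0)) (by rw [hsum]; infer_instance)
    obtain ⟨m', rfl⟩ : ∃ m', m = m' + 1 := ⟨m - 1, by have := j₀.pos; omega⟩
    haveI hj₀' : IsIso ((biproduct.ι Fs 0 ≫ θ.hom ≫ biproduct.π Gs j₀) ≫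
        (biproduct.ι Gs j₀ ≫ θ.inv ≫ biproduct.π Fs 0)) := hj₀
    have ha : IsIso (biproduct.ι Fs 0 ≫ θ.hom ≫ biproduct.π Gs j₀) :=
      isIso_of_split (hF 0).1 (hG j₀) _
        ((biproduct.ι Gs j₀ ≫ θ.inv ≫ biproduct.π Fs 0) ≫
          inv ((biproduct.ι Fs 0 ≫ θ.hom ≫ biproduct.π Gs j₀) ≫
            (biproduct.ι Gs j₀ ≫ θ.inv ≫ biproduct.π Fs 0)))
        (by rw [← Category.assoc, IsIso.hom_inv_id])
    haveI : IsIso ((splitAt Fs 0).iA ≫ ((splitAt Gs j₀).transport θ.symm).pA) := ha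
    obtain ⟨κ⟩ := (splitAt Fs 0).cancel ((splitAt Gs j₀).transport θ.symm)
    obtain ⟨e', he'⟩ := ih m' (fun i => Fs ((0 : Fin (n + 1)).succAbove i))
      (fun j => Gs (j₀.succAbove j)) (fun _ => hF _) (fun _ => hG _) ⟨κ⟩
    refine ⟨(finSuccEquiv' (0 : Fin (n + 1))).trans
      ((Equiv.optionCongr e').trans (finSuccEquiv' j₀).symm), fun i => ?_⟩
    rcases Fin.eq_self_or_eq_succAbove (0 : Fin (n + 1)) i with rfl | ⟨i', rfl⟩
    · have : ((finSuccEquiv' (0 : Fin (n + 1))).trans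
          ((Equiv.optionCongr e').trans (finSuccEquiv' j₀).symm)) 0 = j₀ := by
        simp
      rw [this]
      exact ⟨asIso (biproduct.ι Fs 0 ≫ θ.hom ≫ biproduct.π Gs j₀)⟩
    · have : ((finSuccEquiv' (0 : Fin (n + 1))).trans
          ((Equiv.optionCongr e').trans (finSuccEquiv' j₀).symm))
          ((0 : Fin (n + 1)).succAbove i') = j₀.succAbove (e' i') := by
        simp only [Equiv.trans_apply, finSuccEquiv'_succAbove, Equiv.optionCongr_apply,
          Option.map_some, finSuccEquiv'_symm_some]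
      rw [this]
      exact he' i'

/-- a finite internal direct sum decomposition. -/
structure Decomp {ι : Type} [Fintype ι] (M : C) (N : ι → C) where
  inj : ∀ i, N i ⟶ M
  proj : ∀ i, M ⟶ N i
  inj_proj_self : ∀ i, inj i ≫ proj i = 𝟙 (N i)
  inj_proj_ne : ∀ i j, i ≠ j → inj i ≫ proj j = 0
  total : ∑ i, proj i ≫ inj i = 𝟙 M

def Decomp.ofIsZero {M : C} (h : IsZero M) : Decomp M (fun i : Fin 0 => (i.elim0 : C)) where
  inj := fun i => i.elim0
  proj := fun i => i.elim0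
  inj_proj_self := fun i => i.elim0
  inj_proj_ne := fun i => i.elim0
  total := by
    rw [Finset.univ_eq_empty, Finset.sum_empty]
    exact h.eq_of_src _ _

def Decomp.single (M : C) : Decomp M (fun _ : Fin 1 => M) where
  inj := fun _ => 𝟙 M
  proj := fun _ => 𝟙 M
  inj_proj_self := fun _ => Category.comp_id _
  inj_proj_ne := fun i j h => absurd (Subsingleton.elim i j) h
  total := by simp

def Decomp.reindex {ι κ : Type} [Fintype ι] [Fintype κ] {M : C} {N : ι → C} (D : Decomp M N)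
    (ε : κ ≃ ι) : Decomp M (fun x => N (ε x)) where
  inj := fun x => D.inj (ε x)
  proj := fun x => D.proj (ε x)
  inj_proj_self := fun x => D.inj_proj_self (ε x)
  inj_proj_ne := fun i j h => D.inj_proj_ne _ _ (fun h' => h (ε.injective h'))
  total := (Equiv.sum_comp ε (fun i => D.proj i ≫ D.inj i)).trans D.total

noncomputable def Decomp.sum [HasBinaryBiproducts C] {ι₁ ι₂ : Type} [Fintype ι₁] [Fintype ι₂]
    {M P Q : C} {N₁ : ι₁ → C}
    {N₂ : ι₂ → C} (D₁ : Decomp P N₁) (D₂ : Decomp Q N₂) (e : M ≅ P ⊞ Q) :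
    Decomp M (Sum.elim N₁ N₂) where
  inj := fun x => match x with
    | .inl i => D₁.inj i ≫ biprod.inl ≫ e.inv
    | .inr j => D₂.inj j ≫ biprod.inr ≫ e.inv
  proj := fun x => match x with
    | .inl i => e.hom ≫ biprod.fst ≫ D₁.proj i
    | .inr j => e.hom ≫ biprod.snd ≫ D₂.proj j
  inj_proj_self := fun x => match x with
    | .inl i => by
      show (D₁.inj i ≫ biprod.inl ≫ e.inv) ≫ (e.hom ≫ biprod.fst ≫ D₁.proj i) = 𝟙 (N₁ i)
      simp only [Category.assoc, Iso.inv_hom_id_assoc, biprod.inl_fst_assoc, D₁.inj_proj_self]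
    | .inr j => by
      show (D₂.inj j ≫ biprod.inr ≫ e.inv) ≫ (e.hom ≫ biprod.snd ≫ D₂.proj j) = 𝟙 (N₂ j)
      simp only [Category.assoc, Iso.inv_hom_id_assoc, biprod.inr_snd_assoc, D₂.inj_proj_self]
  inj_proj_ne := fun x y => match x, y with
    | .inl i, .inl j => fun h => by
      show (D₁.inj i ≫ biprod.inl ≫ e.inv) ≫ (e.hom ≫ biprod.fst ≫ D₁.proj j) = 0
      simp only [Category.assoc, Iso.inv_hom_id_assoc, biprod.inl_fst_assoc]
      exact D₁.inj_proj_ne i j (fun h' => h (congrArg _ h'))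
    | .inl i, .inr j => fun _ => by
      show (D₁.inj i ≫ biprod.inl ≫ e.inv) ≫ (e.hom ≫ biprod.snd ≫ D₂.proj j) = 0
      simp only [Category.assoc, Iso.inv_hom_id_assoc, biprod.inl_snd_assoc, zero_comp, comp_zero]
    | .inr i, .inl j => fun _ => by
      show (D₂.inj i ≫ biprod.inr ≫ e.inv) ≫ (e.hom ≫ biprod.fst ≫ D₁.proj j) = 0
      simp only [Category.assoc, Iso.inv_hom_id_assoc, biprod.inr_fst_assoc, zero_comp, comp_zero]
    | .inr i, .inr j => fun h => by
      show (D₂.inj i ≫ biprod.inr ≫ e.inv) ≫ (e.hom ≫ biprod.snd ≫ D₂.proj j) = 0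
      simp only [Category.assoc, Iso.inv_hom_id_assoc, biprod.inr_snd_assoc]
      exact D₂.inj_proj_ne i j (fun h' => h (congrArg _ h'))
  total := by
    rw [Fintype.sum_sum_type]
    calc (∑ i, (e.hom ≫ biprod.fst ≫ D₁.proj i) ≫ (D₁.inj i ≫ biprod.inl ≫ e.inv)) +
          ∑ j, (e.hom ≫ biprod.snd ≫ D₂.proj j) ≫ (D₂.inj j ≫ biprod.inr ≫ e.inv)
        = e.hom ≫ (biprod.fst ≫ (∑ i, D₁.proj i ≫ D₁.inj i) ≫ biprod.inl +
            biprod.snd ≫ (∑ j, D₂.proj j ≫ D₂.inj j) ≫ biprod.inr) ≫ e.inv := by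
          simp only [Preadditive.sum_comp, Preadditive.comp_sum, Preadditive.comp_add,
            Preadditive.add_comp, Category.assoc]
      _ = 𝟙 M := by
          rw [D₁.total, D₂.total, Category.id_comp, Category.id_comp, biprod.total,
            Category.id_comp, Iso.hom_inv_id]

noncomputable def Decomp.toIso {ι : Type} [Fintype ι] {M : C} {N : ι → C} (D : Decomp M N) :
    M ≅ ⨁ N where
  hom := biproduct.lift D.proj
  inv := biproduct.desc D.inj
  hom_inv_id := by rw [biproduct.lift_desc, D.total]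
  inv_hom_id := by
    classical
    refine biproduct.hom_ext' _ _ fun i => biproduct.hom_ext _ _ fun j => ?_
    simp only [Category.assoc, biproduct.ι_desc_assoc, biproduct.lift_π, Category.comp_id]
    by_cases h : i = j
    · subst h
      rw [D.inj_proj_self, biproduct.ι_π_self]
    · rw [D.inj_proj_ne _ _ h, biproduct.ι_π_ne _ h]

end Pre

/-! ### linear abelian categories -/
section Ab

variable {C : Type u} [Category.{v} C] [Abelian C] (k : Type*) [Field k] [Linear k C]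

attribute [local instance] Abelian.hasFiniteBiproducts

/-- indecomposable: nonzero, and in any decomposition as a biproduct one summand is zero. -/
def Indec (A : C) : Prop :=
  ¬ IsZero A ∧ ∀ P Q : C, Nonempty (A ≅ P ⊞ Q) → IsZero P ∨ IsZero Q

omit k [Field k] [Linear k C] in
theorem idem_trivial {A : C} (hA : Indec A) (e : A ⟶ A) (he : e ≫ e = e) : e = 0 ∨ e = 𝟙 A := by
  obtain ⟨I, i, r, hir, hri⟩ := IsIdempotentComplete.idempotents_split A e he
  obtain ⟨I', i', r', hir', hri'⟩ := IsIdempotentComplete.idempotents_split A (𝟙 A - e)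
    (Idempotents.idem_of_id_sub_idem e he)
  have h0 : e ≫ (𝟙 A - e) = 0 := by rw [Preadditive.comp_sub, Category.comp_id, he, sub_self]
  have h0' : (𝟙 A - e) ≫ e = 0 := by rw [Preadditive.sub_comp, Category.id_comp, he, sub_self]
  have h1 : i ≫ r' = 0 := by
    calc i ≫ r' = (i ≫ r) ≫ i ≫ r' ≫ (i' ≫ r') := by
          rw [hir, hir', Category.id_comp, Category.comp_id]
      _ = i ≫ (r ≫ i) ≫ (r' ≫ i') ≫ r' := by simp only [Category.assoc]
      _ = 0 := by rw [hri, hri', ← Category.assoc e, h0, zero_comp, comp_zero]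
  have h2 : i' ≫ r = 0 := by
    calc i' ≫ r = (i' ≫ r') ≫ i' ≫ r ≫ (i ≫ r) := by
          rw [hir, hir', Category.id_comp, Category.comp_id]
      _ = i' ≫ (r' ≫ i') ≫ (r ≫ i) ≫ r := by simp only [Category.assoc]
      _ = 0 := by rw [hri, hri', ← Category.assoc (𝟙 A - e), h0', zero_comp, comp_zero]
  let φ : A ≅ I ⊞ I' :=
    { hom := biprod.lift r r'
      inv := biprod.desc i i'
      hom_inv_id := by rw [biprod.lift_desc, hri, hri', add_sub_cancel]
      inv_hom_id := by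
        apply biprod.hom_ext' <;> apply biprod.hom_ext <;> simp [hir, hir', h1, h2] }
  rcases hA.2 I I' ⟨φ⟩ with hz | hz
  · left
    rw [← hri, hz.eq_of_tgt r 0, zero_comp]
  · right
    have : 𝟙 A - e = 0 := by rw [← hri', hz.eq_of_tgt r' 0, zero_comp]
    exact (sub_eq_zero.mp this).symm

theorem localEnd_of_indec {A : C} (hfin : Module.Finite k (A ⟶ A)) (hA : Indec A) :
    LocalEnd A := by
  refine ⟨hA.1, fun φ ψ h => ?_⟩
  have he : ∀ e : End A, e * e = e → e = 0 ∨ e = 1 := fun e he => idem_trivial hA e he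
  have := isUnit_or_isUnit_of_add_eq_one k (E := End A) hfin he (φ := φ) (ψ := ψ) h
  rcases this with h1 | h1
  · exact Or.inl ((isUnit_iff_isIso _).1 h1)
  · exact Or.inr ((isUnit_iff_isIso _).1 h1)

/-- `End P` embeds into `End M` for a retract `P` of `M`. -/
noncomputable def endEmb {P M : C} (i : P ⟶ M) (r : M ⟶ P) : (P ⟶ P) →ₗ[k] (M ⟶ M) :=
  (Linear.rightComp k M i).comp (Linear.leftComp k P r)

theorem endEmb_apply {P M : C} (i : P ⟶ M) (r : M ⟶ P) (φ : P ⟶ P) :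
    endEmb k i r φ = (r ≫ φ) ≫ i := rfl

theorem endEmb_injective {P M : C} (i : P ⟶ M) (r : M ⟶ P) (h : i ≫ r = 𝟙 P) :
    Function.Injective (endEmb k i r) := by
  intro φ ψ hφψ
  have := congrArg (fun x => i ≫ x ≫ r) hφψ
  simp only [endEmb_apply, Category.assoc, h, Category.comp_id, reassoc_of% h] at this
  exact this

theorem finite_end_of_retract {P M : C} (i : P ⟶ M) (r : M ⟶ P) (h : i ≫ r = 𝟙 P)
    [Module.Finite k (M ⟶ M)] : Module.Finite k (P ⟶ P) :=
  Module.Finite.of_injective (endEmb k i r) (endEmb_injective k i r h)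

theorem finrank_end_lt {P Q M : C} [Module.Finite k (M ⟶ M)] (i : P ⟶ M) (r : M ⟶ P)
    (h : i ≫ r = 𝟙 P) (i₂ : Q ⟶ M) (r₂ : M ⟶ Q) (h₂ : i₂ ≫ r₂ = 𝟙 Q) (h0 : i₂ ≫ r = 0)
    (hQ : ¬ IsZero Q) : Module.finrank k (P ⟶ P) < Module.finrank k (M ⟶ M) := by
  rw [← LinearMap.finrank_range_of_inj (endEmb_injective k i r h)]
  apply Submodule.finrank_lt
  intro htop
  have hmem : 𝟙 M ∈ LinearMap.range (endEmb k i r) := htop ▸ Submodule.mem_top
  obtain ⟨φ, hφ⟩ := hmem
  apply hQ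
  rw [IsZero.iff_id_eq_zero, ← h₂]
  have : i₂ = 0 := by
    calc i₂ = i₂ ≫ 𝟙 M := (Category.comp_id _).symm
      _ = i₂ ≫ (r ≫ φ) ≫ i := by rw [← hφ]; rfl
      _ = 0 := by rw [Category.assoc, reassoc_of% h0, zero_comp]
  rw [this, zero_comp]

theorem exists_decomp_aux (d : ℕ) : ∀ (M : C) [Module.Finite k (M ⟶ M)],
    Module.finrank k (M ⟶ M) ≤ d →
    ∃ (ι : Type) (_ : Fintype ι) (Fs : ι → C), (∀ i, Indec (Fs i)) ∧ Nonempty (Decomp M Fs) := by
  induction d with
  | zero =>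
    intro M _ hd
    have hz : IsZero M := by
      rw [IsZero.iff_id_eq_zero]
      haveI : Subsingleton (M ⟶ M) := Module.finrank_zero_iff.mp (Nat.le_zero.mp hd)
      exact Subsingleton.elim _ _
    exact ⟨Fin 0, inferInstance, fun i => i.elim0, fun i => i.elim0, ⟨Decomp.ofIsZero hz⟩⟩
  | succ d ih =>
    intro M _ hd
    by_cases hz : IsZero M
    · exact ⟨Fin 0, inferInstance, fun i => i.elim0, fun i => i.elim0, ⟨Decomp.ofIsZero hz⟩⟩
    by_cases hi : Indec M
    · exact ⟨Fin 1, inferInstance, fun _ => M, fun _ => hi, ⟨Decomp.single M⟩⟩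
    · have hex : ∃ P Q : C, Nonempty (M ≅ P ⊞ Q) ∧ ¬ IsZero P ∧ ¬ IsZero Q := by
        by_contra hcon
        apply hi
        refine ⟨hz, fun P Q hPQ => ?_⟩
        by_contra h'
        rw [not_or] at h'
        exact hcon ⟨P, Q, hPQ, h'.1, h'.2⟩
      obtain ⟨P, Q, ⟨e⟩, hP, hQ⟩ := hex
      have hP1 : (biprod.inl ≫ e.inv) ≫ (e.hom ≫ biprod.fst) = 𝟙 P := by simp
      have hQ1 : (biprod.inr ≫ e.inv) ≫ (e.hom ≫ biprod.snd) = 𝟙 Q := by simp
      have hPQ0 : (biprod.inr ≫ e.inv) ≫ (e.hom ≫ biprod.fst) = (0 : Q ⟶ P) := by simp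
      have hQP0 : (biprod.inl ≫ e.inv) ≫ (e.hom ≫ biprod.snd) = (0 : P ⟶ Q) := by simp
      haveI : Module.Finite k (P ⟶ P) := finite_end_of_retract k _ _ hP1
      haveI : Module.Finite k (Q ⟶ Q) := finite_end_of_retract k _ _ hQ1
      have hlP := finrank_end_lt k _ _ hP1 _ _ hQ1 hPQ0 hQ
      have hlQ := finrank_end_lt k _ _ hQ1 _ _ hP1 hQP0 hP
      obtain ⟨ι₁, _, Fs₁, hFs₁, ⟨D₁⟩⟩ := ih P (by omega)
      obtain ⟨ι₂, _, Fs₂, hFs₂, ⟨D₂⟩⟩ := ih Q (by omega)
      refine ⟨ι₁ ⊕ ι₂, inferInstance, Sum.elim Fs₁ Fs₂, ?_, ⟨D₁.sum D₂ e⟩⟩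
      rintro (i | j)
      · exact hFs₁ i
      · exact hFs₂ j

theorem exists_decomp (M : C) [Module.Finite k (M ⟶ M)] :
    ∃ (n : ℕ) (Fs : Fin n → C), (∀ i, Indec (Fs i)) ∧ Nonempty (M ≅ ⨁ Fs) := by
  obtain ⟨ι, _, Fs, hFs, ⟨D⟩⟩ := exists_decomp_aux k _ M le_rfl
  exact ⟨Fintype.card ι, fun j => Fs ((Fintype.equivFin ι).symm j), fun j => hFs _,
    ⟨(D.reindex (Fintype.equivFin ι).symm).toIso⟩⟩

/-- **Krull–Schmidt.** -/
theorem krullSchmidt (M : C) [Module.Finite k (M ⟶ M)] :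
    (∃ (n : ℕ) (Fs : Fin n → C), (∀ i, Indec (Fs i)) ∧ Nonempty (M ≅ ⨁ Fs)) ∧
    (∀ (n m : ℕ) (Fs : Fin n → C) (Gs : Fin m → C), (∀ i, Indec (Fs i)) → (∀ j, Indec (Gs j)) →
      Nonempty (M ≅ ⨁ Fs) → Nonempty (M ≅ ⨁ Gs) →
      ∃ e : Fin n ≃ Fin m, ∀ i, Nonempty (Fs i ≅ Gs (e i))) := by
  refine ⟨exists_decomp k M, fun n m Fs Gs hF hG h₁ h₂ => ?_⟩
  obtain ⟨θ₁⟩ := h₁
  obtain ⟨θ₂⟩ := h₂
  have hF' : ∀ i, LocalEnd (Fs i) := fun i =>
    localEnd_of_indec k (finite_end_of_retract k (biproduct.ι Fs i ≫ θ₁.inv)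
      (θ₁.hom ≫ biproduct.π Fs i) (by simp)) (hF i)
  have hG' : ∀ j, LocalEnd (Gs j) := fun j =>
    localEnd_of_indec k (finite_end_of_retract k (biproduct.ι Gs j ≫ θ₂.inv)
      (θ₂.hom ≫ biproduct.π Gs j) (by simp)) (hG j)
  exact unique_of_local n m Fs Gs hF' hG' ⟨θ₁.symm ≪≫ θ₂⟩

end Ab

end Groth.Agent.Lib.Helper26KS
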