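import Groth.Prelude.Def_LiftSq

/-!
# Composition of functors with the unique lifting property (helper26)
-/

set_option autoImplicit false

namespace Groth.Agent.Lib.Helper26.LiftSqComp

open CategoryTheory LiftSq

universe v₆ u₆ v₅ u₅ v₄ u₄ v₃ u₃ v₂ u₂ v u

set_option allowUnsafeReducibility true in
attribute [local reducible] BasedFunctor.comp

variable {C : Type u} [Category.{v} C]
  {𝒜 : BasedCategory.{v₂, u₂} C} {ℬ : BasedCategory.{v₃, u₃} C}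
  {𝒳 : BasedCategory.{v₄, u₄} C} {𝒴 : BasedCategory.{v₅, u₅} C} {𝒵 : BasedCategory.{v₆, u₆} C}

theorem comp_app {F G H : 𝒳 ⥤ᵇ 𝒴} (α : F ⟶ G) (β : G ⟶ H) (x : 𝒳.obj) :
    (α ≫ β).toNatTrans.app x = α.toNatTrans.app x ≫ β.toNatTrans.app x := rfl

theorem whiskerLeft_app (j : 𝒜 ⥤ᵇ ℬ) {F G : ℬ ⥤ᵇ 𝒴} (α : F ⟶ G) (x : 𝒜.obj) :
    (BasedCategory.whiskerLeft j α).toNatTrans.app x = α.toNatTrans.app (j.obj x) := rfl

theorem whiskerRight_app {F G : ℬ ⥤ᵇ 𝒳} (α : F ⟶ G) (f : 𝒳 ⥤ᵇ 𝒴) (x : ℬ.obj) :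
    (BasedCategory.whiskerRight α f).toNatTrans.app x = f.map (α.toNatTrans.app x) := rfl

theorem whiskerLeft_whiskerRight (j : 𝒜 ⥤ᵇ ℬ) {F G : ℬ ⥤ᵇ 𝒴} (α : F ⟶ G) (g : 𝒴 ⥤ᵇ 𝒵) :
    BasedCategory.whiskerLeft j (BasedCategory.whiskerRight α g) =
      BasedCategory.whiskerRight (BasedCategory.whiskerLeft j α) g := by
  apply BasedNatTrans.homCategory.ext; ext; rfl

theorem whiskerRight_comp_functor {F G : ℬ ⥤ᵇ 𝒳} (α : F ⟶ G) (f : 𝒳 ⥤ᵇ 𝒴) (g : 𝒴 ⥤ᵇ 𝒵) :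
    BasedCategory.whiskerRight α (BasedFunctor.comp f g) =
      BasedCategory.whiskerRight (BasedCategory.whiskerRight α f) g := by
  apply BasedNatTrans.homCategory.ext; ext; rfl

/-- Whiskering an isomorphism on the right. -/
def whiskerRightIso {F G : ℬ ⥤ᵇ 𝒳} (α : F ≅ G) (f : 𝒳 ⥤ᵇ 𝒴) :
    BasedFunctor.comp F f ≅ BasedFunctor.comp G f where
  hom := BasedCategory.whiskerRight α.hom f
  inv := BasedCategory.whiskerRight α.inv f
  hom_inv_id := by rw [← whiskerRight_comp', α.hom_inv_id, whiskerRight_id']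
  inv_hom_id := by rw [← whiskerRight_comp', α.inv_hom_id, whiskerRight_id']

variable (j : 𝒜 ⥤ᵇ ℬ) (f : 𝒳 ⥤ᵇ 𝒴) (g : 𝒴 ⥤ᵇ 𝒵)

/-- The square against `g` obtained from a square against `f ⋙ g`. -/
abbrev sqG (sq : Sq j (BasedFunctor.comp f g)) : Sq j g :=
  ⟨BasedFunctor.comp sq.top f, sq.bot, sq.iso⟩

/-- A lift of a square against `f ⋙ g` gives a lift of the associated square against `g`. -/
abbrev liftG {sq : Sq j (BasedFunctor.comp f g)} (d : sq.Lift) : (sqG j f g sq).Lift where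
  fn := BasedFunctor.comp d.fn f
  isoTop := whiskerRightIso d.isoTop f
  isoBot := d.isoBot
  w := by
    have := d.w
    rw [whiskerRight_comp_functor] at this
    exact this

theorem exists_lift (hf : Lifts j f) (hg : Lifts j g) : Lifts j (BasedFunctor.comp f g) := by
  intro sq
  obtain ⟨d₂⟩ := hg (sqG j f g sq)
  obtain ⟨d₁⟩ := hf ⟨sq.top, d₂.fn, d₂.isoTop⟩
  refine ⟨⟨d₁.fn, d₁.isoTop, d₂.isoBot ≪≫ whiskerRightIso d₁.isoBot g, ?_⟩⟩
  have w₁ : BasedCategory.whiskerLeft j d₁.isoBot.hom ≫ BasedCategory.whiskerRight d₁.isoTop.hom f =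
      d₂.isoTop.hom := d₁.w
  have w₂ : BasedCategory.whiskerLeft j d₂.isoBot.hom ≫
      BasedCategory.whiskerRight d₂.isoTop.hom g = sq.iso.hom := d₂.w
  apply BasedNatTrans.homCategory.ext
  ext x
  have h₁ : d₁.isoBot.hom.toNatTrans.app (j.obj x) ≫ f.map (d₁.isoTop.hom.toNatTrans.app x) =
      d₂.isoTop.hom.toNatTrans.app x := congrArg (fun α => α.toNatTrans.app x) w₁
  have h₂ : d₂.isoBot.hom.toNatTrans.app (j.obj x) ≫ g.map (d₂.isoTop.hom.toNatTrans.app x) =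
      sq.iso.hom.toNatTrans.app x := congrArg (fun α => α.toNatTrans.app x) w₂
  change (d₂.isoBot.hom.toNatTrans.app (j.obj x) ≫
      g.map (d₁.isoBot.hom.toNatTrans.app (j.obj x))) ≫
      g.map (f.map (d₁.isoTop.hom.toNatTrans.app x)) = sq.iso.hom.toNatTrans.app x
  rw [← h₂, ← h₁, Functor.map_comp, Category.assoc]

/-- The square against `f` used in the uniqueness argument. -/
abbrev sqF {sq : Sq j (BasedFunctor.comp f g)} (d' : sq.Lift) : Sq j f :=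
  ⟨sq.top, BasedFunctor.comp d'.fn f, whiskerRightIso d'.isoTop f⟩

/-- The tautological lift of `sqF`. -/
abbrev liftF' {sq : Sq j (BasedFunctor.comp f g)} (d' : sq.Lift) : (sqF j f g d').Lift :=
  ⟨d'.fn, d'.isoTop, Iso.refl _, by
    change BasedCategory.whiskerLeft j (𝟙 (BasedFunctor.comp d'.fn f)) ≫
      BasedCategory.whiskerRight d'.isoTop.hom f = BasedCategory.whiskerRight d'.isoTop.hom f
    rw [whiskerLeft_id']
    exact Category.id_comp _⟩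

/-- The other lift of `sqF`, built from an isomorphism of the `g`-lifts. -/
abbrev liftF {sq : Sq j (BasedFunctor.comp f g)} (d d' : sq.Lift)
    (ψ : liftG j f g d' ⟶ liftG j f g d) (φ : liftG j f g d ⟶ liftG j f g d')
    (h1 : ψ.hom ≫ φ.hom = 𝟙 _) (h2 : φ.hom ≫ ψ.hom = 𝟙 _) : (sqF j f g d').Lift :=
  ⟨d.fn, d.isoTop, ⟨ψ.hom, φ.hom, h1, h2⟩, ψ.w_top⟩

theorem uniq_lift (hf : LiftsUnique j f) (hg : LiftsUnique j g) :
    LiftsUnique j (BasedFunctor.comp f g) := by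
  intro sq d d'
  obtain ⟨uφ⟩ := hg (sqG j f g sq) (liftG j f g d) (liftG j f g d')
  obtain ⟨uψ⟩ := hg (sqG j f g sq) (liftG j f g d') (liftG j f g d)
  obtain ⟨u11⟩ := hg (sqG j f g sq) (liftG j f g d) (liftG j f g d)
  obtain ⟨u22⟩ := hg (sqG j f g sq) (liftG j f g d') (liftG j f g d')
  obtain ⟨φ, hφ⟩ : ∃ φ : liftG j f g d ⟶ liftG j f g d', ∀ φ', φ' = φ := ⟨uφ.default, uφ.uniq⟩
  obtain ⟨ψ, hψ⟩ : ∃ ψ : liftG j f g d' ⟶ liftG j f g d, ∀ ψ', ψ' = ψ := ⟨uψ.default, uψ.uniq⟩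
  have hφψ : φ ≫ ψ = 𝟙 _ := (u11.uniq _).trans (u11.uniq _).symm
  have hψφ : ψ ≫ φ = 𝟙 _ := (u22.uniq _).trans (u22.uniq _).symm
  have hφψ' : φ.hom ≫ ψ.hom = 𝟙 (BasedFunctor.comp d.fn f) := congrArg Sq.Lift.Hom.hom hφψ
  have hψφ' : ψ.hom ≫ φ.hom = 𝟙 (BasedFunctor.comp d'.fn f) := congrArg Sq.Lift.Hom.hom hψφ
  obtain ⟨uθ⟩ := hf _ (liftF j f g d d' ψ φ hψφ' hφψ') (liftF' j f g d')
  obtain ⟨θ, hθu⟩ : ∃ θ : liftF j f g d d' ψ φ hψφ' hφψ' ⟶ liftF' j f g d', ∀ θ', θ' = θ :=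
    ⟨uθ.default, uθ.uniq⟩
  have hθ : BasedCategory.whiskerRight θ.hom f = φ.hom := by
    have h1 : ψ.hom ≫ BasedCategory.whiskerRight θ.hom f =
        𝟙 (BasedFunctor.comp d'.fn f) := θ.w_bot
    have h2 : (φ.hom ≫ ψ.hom) ≫ BasedCategory.whiskerRight θ.hom f = φ.hom := by
      rw [Category.assoc, h1]; exact Category.comp_id _
    rw [hφψ'] at h2
    exact (Category.id_comp _).symm.trans h2
  have hwbot : d.isoBot.hom ≫ BasedCategory.whiskerRight θ.hom (BasedFunctor.comp f g) =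
      d'.isoBot.hom := by
    rw [whiskerRight_comp_functor, hθ]
    exact φ.w_bot
  refine ⟨⟨⟨⟨θ.hom, θ.w_top, hwbot⟩⟩, ?_⟩⟩
  intro θ₁
  have hw1 : BasedCategory.whiskerLeft j (BasedCategory.whiskerRight θ₁.hom f) ≫
      BasedCategory.whiskerRight d'.isoTop.hom f = BasedCategory.whiskerRight d.isoTop.hom f := by
    rw [whiskerLeft_whiskerRight, ← whiskerRight_comp', θ₁.w_top]
  have hw2 : d.isoBot.hom ≫ BasedCategory.whiskerRight (BasedCategory.whiskerRight θ₁.hom f) g =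
      d'.isoBot.hom := by
    rw [← whiskerRight_comp_functor]
    exact θ₁.w_bot
  have h1 : (⟨BasedCategory.whiskerRight θ₁.hom f, hw1, hw2⟩ :
      liftG j f g d ⟶ liftG j f g d') = φ := hφ _
  have h1' : BasedCategory.whiskerRight θ₁.hom f = φ.hom := congrArg Sq.Lift.Hom.hom h1
  have hw3 : ψ.hom ≫ BasedCategory.whiskerRight θ₁.hom f =
      𝟙 (BasedFunctor.comp d'.fn f) := by
    rw [h1', hψφ']
  have h2 : (⟨θ₁.hom, θ₁.w_top, hw3⟩ :
      liftF j f g d d' ψ φ hψφ' hφψ' ⟶ liftF' j f g d') = θ := hθu _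
  have h3 : θ₁.hom = θ.hom := congrArg Sq.Lift.Hom.hom h2
  apply Sq.Lift.hom_ext
  exact h3

theorem liftsUniquely_comp (hf : LiftsUniquely j f) (hg : LiftsUniquely j g) :
    LiftsUniquely j (BasedFunctor.comp f g) := by
  intro sq
  exact ⟨exists_lift j f g (fun s => (hf s).1) (fun s => (hg s).1) sq,
    uniq_lift j f g (fun s => (hf s).2) (fun s => (hg s).2) sq⟩

end Groth.Agent.Lib.Helper26.LiftSqComp
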