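import Mathlib
import Groth.Prelude.Def_FlatFun
import Groth.Prelude.Def_AlgSpRep

/-!
# Limit preserving sub-presheaves of the final presheaf, part A (helper26)

Namespace `Groth.Agent.Lib.Helper26.LimPres`.

* `isLimitPreserving_genPSp`: `FlatFun.genPSp S P` is `AlgSp.IsLimitPreserving` if `P` is stable under morphisms over `S`
  and `P` at a cofiltered limit of affine schemes implies `P` at a finite stage.
-/

set_option autoImplicit false
universe u
open CategoryTheory AlgebraicGeometry Limits Opposite

namespace Groth.Agent.Lib.Helper26.LimPres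

/-- the sub-presheaf of the final presheaf generated by a condition `P` stable under morphisms over `S` is
limit preserving as soon as `P` at a limit of affine schemes implies `P` at a finite stage. -/
theorem isLimitPreserving_genPSp (S : Scheme.{u}) (P : Over S → Prop)
    (stab : ∀ ⦃T T₀ : Over S⦄ (_ : T ⟶ T₀), P T₀ → P T)
    (desc : ∀ ⦃I : Type u⦄ [SmallCategory I] [IsCofiltered I] (D : I ⥤ Over S) (c : Cone D),
      IsLimit ((Over.forget S).mapCone c) → (∀ i, IsAffine (D.obj i).left) → IsAffine c.pt.left →
        P c.pt → ∃ i, P (D.obj i)) :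
    AlgSp.IsLimitPreserving (FlatFun.genPSp S P) := by
  intro I _ _ D c hc hD hT
  refine ⟨Types.FilteredColimit.isColimitOf _ _ ?_ ?_⟩
  · intro x
    have hx : Nonempty ((FlatFun.genPSp S P).obj (op c.pt)) := ⟨x⟩
    rw [FlatFun.genPSp_nonempty_iff_of_stable P stab] at hx
    obtain ⟨i, hi⟩ := desc D c hc hD hT hx
    obtain ⟨xi⟩ := FlatFun.genPSp_nonempty_of P hi
    exact ⟨op i, xi, (FlatFun.genPSp_subsingleton S P (op c.pt)).elim _ _⟩
  · intro i j xi xj _
    refine ⟨op (IsCofiltered.min i.unop j.unop), (IsCofiltered.minToLeft i.unop j.unop).op,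
      (IsCofiltered.minToRight i.unop j.unop).op,
      (FlatFun.genPSp_subsingleton S P (op (D.obj (IsCofiltered.min i.unop j.unop)))).elim _ _⟩

end Groth.Agent.Lib.Helper26.LimPres
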