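import Mathlib
import Groth.Prelude.Def_FlatFun
import Groth.Prelude.Def_AlgSpRep
import Groth.Agent.Lib.Helper22LimBC
import Groth.Agent.Lib.Helper26LimPresA

/-!
# Limit preserving sub-presheaves of the final presheaf, part B (helper26)

Namespace `Groth.Agent.Lib.Helper26.LimPres`.

* `exists_stage_rel`: transport of an absolute descent statement on the base-changed system `X₀ ×_{S_{i₀}} S_j`
  (helper22 `LimBC`) to a relative one, for arbitrary cartesian squares.
* `isLimitPreserving_of_abs`: for `f : X ⟶ S` quasi-compact and `u : F ⟶ G` in `X.Modules`, a condition `Q(u_T)` on the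
  base changes which is compatible with composition of pullbacks, preserved by pullbacks, and descends along limits
  (in absolute form, for modules satisfying a pullback-stable finiteness condition `Fin`) gives
  `AlgSp.IsLimitPreserving (FlatFun.genPSp S fun T => Q (u_T))`.
-/

set_option autoImplicit false
set_option linter.style.haveILetI false
set_option linter.unusedSectionVars false
universe u
open CategoryTheory AlgebraicGeometry Limits Opposite
open Groth.Agent.Lib.Helper22.LimBC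

namespace Groth.Agent.Lib.Helper26.LimPres

section rel
variable {I : Type u} [SmallCategory I] [IsCofiltered I] (D : I ⥤ Scheme.{u}) (c : Cone D)
  (hc : IsLimit c) [∀ (i j : I) (f : i ⟶ j), IsAffineHom (D.map f)] (i₀ : I)

variable (Q : ∀ {Z : Scheme.{u}} {A B : Z.Modules}, (A ⟶ B) → Prop)
  (hQ : ∀ {X Y Z : Scheme.{u}} (f : X ⟶ Y) (g : Y ⟶ Z) (p : X ⟶ Z) (_ : f ≫ g = p)
    {A B : Z.Modules} (a : A ⟶ B),
    Q ((Scheme.Modules.pullback p).map a) ↔
      Q ((Scheme.Modules.pullback f).map ((Scheme.Modules.pullback g).map a)))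
  (hQmap : ∀ {Z' Z : Scheme.{u}} (g : Z' ⟶ Z) {A B : Z.Modules} (a : A ⟶ B),
    Q a → Q ((Scheme.Modules.pullback g).map a))

include hQ hQmap in
/-- transport of an "absolute" descent statement on the base-changed system `X₀ ×_{S_{i₀}} S_j` to a "relative" one,
for arbitrary cartesian squares. -/
theorem exists_stage_rel {X₀ : Scheme.{u}} (f₀ : X₀ ⟶ D.obj i₀) {F₀ G₀ : X₀.Modules} (δ : F₀ ⟶ G₀)
    {P : Scheme.{u}} {qX : P ⟶ X₀} {pX : P ⟶ c.pt} (hP : IsPullback qX pX f₀ (c.π.app i₀))
    (habs : Q ((Scheme.Modules.pullback ((bcCone i₀ hP).π.app (Over.mk (𝟙 i₀)))).map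
        ((Scheme.Modules.pullback (dFst D i₀ f₀ (Over.mk (𝟙 i₀)))).map δ)) →
      ∃ (j : Over i₀) (φ : j ⟶ Over.mk (𝟙 i₀)),
        Q ((Scheme.Modules.pullback ((bcDiagram D i₀ f₀).map φ)).map
          ((Scheme.Modules.pullback (dFst D i₀ f₀ (Over.mk (𝟙 i₀)))).map δ)))
    (h : Q ((Scheme.Modules.pullback qX).map δ)) :
    ∃ k : Over i₀, ∀ {Xk : Scheme.{u}} (p : Xk ⟶ X₀) (b : Xk ⟶ D.obj k.left),
      IsPullback p b f₀ (D.map k.hom) → Q ((Scheme.Modules.pullback p).map δ) := by
  have h1 := (hQ (bcπ i₀ hP (Over.mk (𝟙 i₀))) (dFst D i₀ f₀ (Over.mk (𝟙 i₀))) qX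
    (bcπ_fst i₀ hP _) δ).1 h
  obtain ⟨j, φ, hj⟩ := habs h1
  have h2 := (hQ ((bcDiagram D i₀ f₀).map φ) (dFst D i₀ f₀ (Over.mk (𝟙 i₀))) (dFst D i₀ f₀ j)
    (map_dFst D i₀ f₀ φ) δ).2 hj
  refine ⟨j, fun {Xk} p b hpb => ?_⟩
  let ι : Xk ⟶ (bcDiagram D i₀ f₀).obj j := dLift j p b hpb.w
  have hι : ι ≫ dFst D i₀ f₀ j = p := dLift_fst _ _ _ _
  exact (hQ ι (dFst D i₀ f₀ j) p hι δ).2 (hQmap ι _ h2)

end rel

section lp
variable (Q : ∀ {Z : Scheme.{u}} {A B : Z.Modules}, (A ⟶ B) → Prop)
  (hQ : ∀ {X Y Z : Scheme.{u}} (f : X ⟶ Y) (g : Y ⟶ Z) (p : X ⟶ Z) (_ : f ≫ g = p)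
    {A B : Z.Modules} (a : A ⟶ B),
    Q ((Scheme.Modules.pullback p).map a) ↔
      Q ((Scheme.Modules.pullback f).map ((Scheme.Modules.pullback g).map a)))
  (hQmap : ∀ {Z' Z : Scheme.{u}} (g : Z' ⟶ Z) {A B : Z.Modules} (a : A ⟶ B),
    Q a → Q ((Scheme.Modules.pullback g).map a))
  (Fin : ∀ {Z : Scheme.{u}} (_ _ : Z.Modules), Prop)
  (hFin : ∀ {Z' Z : Scheme.{u}} (g : Z' ⟶ Z) (A B : Z.Modules), Fin A B →
    Fin ((Scheme.Modules.pullback g).obj A) ((Scheme.Modules.pullback g).obj B))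
  (habs : ∀ {J : Type u} [SmallCategory J] [IsCofiltered J] (E : J ⥤ Scheme.{u}) (cE : Cone E)
    (_ : IsLimit cE) [∀ (i j : J) (f : i ⟶ j), IsAffineHom (E.map f)] (e₀ : J)
    [CompactSpace (E.obj e₀)] {A B : (E.obj e₀).Modules} (δ : A ⟶ B), Fin A B →
    Q ((Scheme.Modules.pullback (cE.π.app e₀)).map δ) →
      ∃ (j : J) (φ : j ⟶ e₀), Q ((Scheme.Modules.pullback (E.map φ)).map δ))

include hQ hQmap hFin habs in
/-- a condition `Q(u_T)` on the base changes of a morphism of modules which descends along limits of schemes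
(absolute form) defines a limit preserving sub-presheaf of the final presheaf. -/
theorem isLimitPreserving_of_abs {X S : Scheme.{u}} (f : X ⟶ S) [QuasiCompact f] {F G : X.Modules}
    (u : F ⟶ G) (hFG : Fin F G) :
    AlgSp.IsLimitPreserving (FlatFun.genPSp S
      (fun T => Q ((Scheme.Modules.pullback (pullback.fst f T.hom)).map u))) := by
  refine isLimitPreserving_genPSp S _ ?_ ?_
  · intro T T₀ g h
    let m : pullback f T.hom ⟶ pullback f T₀.hom :=
      pullback.lift (pullback.fst f T.hom) (pullback.snd f T.hom ≫ g.left)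
        (by rw [pullback.condition, Category.assoc, Over.w g])
    have hm : m ≫ pullback.fst f T₀.hom = pullback.fst f T.hom := pullback.lift_fst _ _ _
    exact (hQ m _ _ hm u).2 (hQmap m _ h)
  · intro I _ _ D c hc hD hT h
    obtain ⟨i₀⟩ := IsCofiltered.nonempty (C := I)
    haveI : ∀ (i j : I) (φ : i ⟶ j), IsAffineHom ((D ⋙ Over.forget S).map φ) := fun i j φ => by
      haveI : IsAffine (D.obj i).left := hD i
      haveI : IsAffine (D.obj j).left := hD j
      show IsAffineHom (D.map φ).left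
      infer_instance
    haveI hD' : ∀ {i j : I} (φ : i ⟶ j), IsAffineHom ((D ⋙ Over.forget S).map φ) :=
      fun φ => inferInstance
    let f₀ : pullback f (D.obj i₀).hom ⟶ (D ⋙ Over.forget S).obj i₀ := pullback.snd f (D.obj i₀).hom
    haveI : CompactSpace ((D ⋙ Over.forget S).obj i₀) := by
      haveI := hD i₀
      show CompactSpace (D.obj i₀).left
      infer_instance
    haveI : QuasiCompact f₀ := by
      show QuasiCompact (pullback.snd f (D.obj i₀).hom)
      infer_instance
    haveI : CompactSpace ↥(pullback f (D.obj i₀).hom) :=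
      QuasiCompact.compactSpace_of_compactSpace f₀
    let δ := (Scheme.Modules.pullback (pullback.fst f (D.obj i₀).hom)).map u
    have hw₀ : (c.π.app i₀).left ≫ (D.obj i₀).hom = c.pt.hom := Over.w (c.π.app i₀)
    let qX : pullback f c.pt.hom ⟶ pullback f (D.obj i₀).hom :=
      pullback.lift (pullback.fst f c.pt.hom) (pullback.snd f c.pt.hom ≫ (c.π.app i₀).left)
        (by rw [pullback.condition, Category.assoc, hw₀])
    have hqX1 : qX ≫ pullback.fst f (D.obj i₀).hom = pullback.fst f c.pt.hom :=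
      pullback.lift_fst _ _ _
    have hqX2 : qX ≫ f₀ = pullback.snd f c.pt.hom ≫ (c.π.app i₀).left := pullback.lift_snd _ _ _
    have hbig : IsPullback (qX ≫ pullback.fst f (D.obj i₀).hom) (pullback.snd f c.pt.hom) f
        ((c.π.app i₀).left ≫ (D.obj i₀).hom) := by
      rw [hqX1, hw₀]
      exact IsPullback.of_hasPullback f c.pt.hom
    have hP : IsPullback qX (pullback.snd f c.pt.hom) f₀
        (((Over.forget S).mapCone c).π.app i₀) :=
      IsPullback.of_right hbig hqX2 (IsPullback.of_hasPullback f (D.obj i₀).hom)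
    have h' : Q ((Scheme.Modules.pullback qX).map δ) := (hQ qX _ _ hqX1 u).1 h
    obtain ⟨k, hk⟩ := exists_stage_rel (D ⋙ Over.forget S) ((Over.forget S).mapCone c) i₀ Q hQ hQmap
      f₀ δ hP (fun h0 => habs (bcDiagram (D ⋙ Over.forget S) i₀ f₀) (bcCone i₀ hP)
        (isLimitBcCone i₀ hP hc) (Over.mk (𝟙 i₀)) _ (hFin _ _ _ (hFin _ _ _ hFG)) h0) h'
    refine ⟨k.left, ?_⟩
    have hwk : (D.map k.hom).left ≫ (D.obj i₀).hom = (D.obj k.left).hom := Over.w (D.map k.hom)
    let p : pullback f (D.obj k.left).hom ⟶ pullback f (D.obj i₀).hom :=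
      pullback.lift (pullback.fst f (D.obj k.left).hom)
        (pullback.snd f (D.obj k.left).hom ≫ (D.map k.hom).left)
        (by rw [pullback.condition, Category.assoc, hwk])
    have hp1 : p ≫ pullback.fst f (D.obj i₀).hom = pullback.fst f (D.obj k.left).hom :=
      pullback.lift_fst _ _ _
    have hp2 : p ≫ f₀ = pullback.snd f (D.obj k.left).hom ≫ (D.map k.hom).left :=
      pullback.lift_snd _ _ _
    have hbigk : IsPullback (p ≫ pullback.fst f (D.obj i₀).hom) (pullback.snd f (D.obj k.left).hom) f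
        ((D.map k.hom).left ≫ (D.obj i₀).hom) := by
      rw [hp1, hwk]
      exact IsPullback.of_hasPullback f (D.obj k.left).hom
    have hpb : IsPullback p (pullback.snd f (D.obj k.left).hom) f₀
        ((D ⋙ Over.forget S).map k.hom) :=
      IsPullback.of_right hbigk hp2 (IsPullback.of_hasPullback f (D.obj i₀).hom)
    exact (hQ p _ _ hp1 u).2 (hk p _ hpb)

end lp

end Groth.Agent.Lib.Helper26.LimPres
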