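import Mathlib
import Groth.Agent.Lib.Helper26LimDescend

set_option autoImplicit false
universe u
open CategoryTheory Limits AlgebraicGeometry

namespace Groth.Agent.Lib.Helper26.LimSep

open Groth.Agent.Lib.Helper26.LimDescend

section NC

variable {J : Type u} [SmallCategory J] [IsCofiltered J]
  (DV DU DU' : J ⥤ Scheme.{u}) (σ : DV ⟶ DU) (σ' : DV ⟶ DU')
  [∀ j, IsAffine (DV.obj j)] [∀ j, IsAffine (DU.obj j)] [∀ j, IsAffine (DU'.obj j)]
  (hcart : ∀ {j k : J} (a : j ⟶ k), IsPullback (DV.map a) (σ.app j) (σ.app k) (DU.map a))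

/-- The subring of `Γ(DV_j)` generated by the images of `Γ(DU_j)` and `Γ(DU'_j)`. -/
def Cl (j : J) : Subring Γ(DV.obj j, ⊤) :=
  Subring.closure (Set.range (r (σ.app j)) ∪ Set.range (r (σ'.app j)))

theorem Cl_mono {j k : J} (u : k ⟶ j) : Cl DV DU DU' σ σ' j ≤
    (Cl DV DU DU' σ σ' k).comap (r (DV.map u)) := by
  unfold Cl
  rw [Subring.closure_le]
  rintro x (⟨y, rfl⟩ | ⟨y, rfl⟩)
  · refine Subring.subset_closure (Or.inl ⟨r (DU.map u) y, ?_⟩)
    rw [← r_comp_apply, ← r_comp_apply, σ.naturality]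
  · refine Subring.subset_closure (Or.inr ⟨r (DU'.map u) y, ?_⟩)
    rw [← r_comp_apply, ← r_comp_apply, σ'.naturality]

include hcart in
/-- Non-cartesian descent of "generated by two families of sections". -/
theorem exists_closure_eq_top (cV : Cone DV) (cU : Cone DU) (cU' : Cone DU')
    (hcV : IsLimit cV) (hcU : IsLimit cU) (hcU' : IsLimit cU')
    (F : cV.pt ⟶ cU.pt) (F' : cV.pt ⟶ cU'.pt)
    (hF : ∀ j, F ≫ cU.π.app j = cV.π.app j ≫ σ.app j)
    (hF' : ∀ j, F' ≫ cU'.π.app j = cV.π.app j ≫ σ'.app j)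
    (htop : Subring.closure (Set.range (r F) ∪ Set.range (r F')) = ⊤)
    (j₁ : J) [LocallyOfFiniteType (σ.app j₁)] :
    ∃ j : Over j₁, Cl DV DU DU' σ σ' j.left = ⊤ := by
  classical
  -- every section of the limit comes from the subring `Cl` at some stage
  have hC : ∀ γ : Γ(cV.pt, ⊤), ∃ (j : Over j₁) (x : Γ(DV.obj j.left, ⊤)),
      x ∈ Cl DV DU DU' σ σ' j.left ∧ r (cV.π.app j.left) x = γ := by
    intro γ
    have hγ : γ ∈ Subring.closure (Set.range (r F) ∪ Set.range (r F')) := htop ▸ Subring.mem_top γ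
    induction hγ using Subring.closure_induction with
    | mem γ hγ =>
      rcases hγ with ⟨α, rfl⟩ | ⟨α, rfl⟩
      · obtain ⟨i, αi, rfl⟩ := exists_appTop_π_eq_of_isAffine_of_isLimit DU cU hcU α
        refine ⟨Over.mk (IsCofiltered.minToLeft j₁ i),
          r (σ.app _) (r (DU.map (IsCofiltered.minToRight j₁ i)) αi),
          Subring.subset_closure (Or.inl ⟨_, rfl⟩), ?_⟩
        show r (cV.π.app (IsCofiltered.min j₁ i)) (r (σ.app _) _) = r F (r (cU.π.app i) αi)
        rw [← r_comp_apply, ← hF, r_comp_apply, ← r_comp_apply _ (DU.map _), cU.w]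
      · obtain ⟨i, αi, rfl⟩ := exists_appTop_π_eq_of_isAffine_of_isLimit DU' cU' hcU' α
        refine ⟨Over.mk (IsCofiltered.minToLeft j₁ i),
          r (σ'.app _) (r (DU'.map (IsCofiltered.minToRight j₁ i)) αi),
          Subring.subset_closure (Or.inr ⟨_, rfl⟩), ?_⟩
        show r (cV.π.app (IsCofiltered.min j₁ i)) (r (σ'.app _) _) = r F' (r (cU'.π.app i) αi)
        rw [← r_comp_apply, ← hF', r_comp_apply, ← r_comp_apply _ (DU'.map _), cU'.w]
    | zero => exact ⟨Over.mk (𝟙 j₁), 0, Subring.zero_mem _, map_zero _⟩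
    | one => exact ⟨Over.mk (𝟙 j₁), 1, Subring.one_mem _, map_one _⟩
    | add γ₁ γ₂ _ _ h₁ h₂ =>
      obtain ⟨j, x₁, hx₁, rfl⟩ := h₁
      obtain ⟨k, x₂, hx₂, rfl⟩ := h₂
      refine ⟨IsCofiltered.min j k, r (DV.map (IsCofiltered.minToLeft j k).left) x₁ +
        r (DV.map (IsCofiltered.minToRight j k).left) x₂,
        Subring.add_mem _ (Cl_mono DV DU DU' σ σ' _ hx₁) (Cl_mono DV DU DU' σ σ' _ hx₂), ?_⟩
      rw [map_add, ← r_comp_apply, ← r_comp_apply, cV.w, cV.w]
    | neg γ _ h =>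
      obtain ⟨j, x, hx, rfl⟩ := h
      exact ⟨j, -x, Subring.neg_mem _ hx, map_neg _ _⟩
    | mul γ₁ γ₂ _ _ h₁ h₂ =>
      obtain ⟨j, x₁, hx₁, rfl⟩ := h₁
      obtain ⟨k, x₂, hx₂, rfl⟩ := h₂
      refine ⟨IsCofiltered.min j k, r (DV.map (IsCofiltered.minToLeft j k).left) x₁ *
        r (DV.map (IsCofiltered.minToRight j k).left) x₂,
        Subring.mul_mem _ (Cl_mono DV DU DU' σ σ' _ hx₁) (Cl_mono DV DU DU' σ σ' _ hx₂), ?_⟩
      rw [map_mul, ← r_comp_apply, ← r_comp_apply, cV.w, cV.w]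
  obtain ⟨j, G, hQ, hG⟩ := exists_generators DV DU σ hcart j₁
    (fun j x => x ∈ Cl DV DU DU' σ σ' j.left)
    (fun u x hx => Cl_mono DV DU DU' σ σ' u.left hx)
    (by
      intro β
      obtain ⟨j, x, hx, hxβ⟩ := hC (r (cV.π.app j₁) β)
      have h0 : r (cV.π.app j.left) (r (DV.map j.hom) β - x) = 0 := by
        rw [map_sub, hxβ, ← r_comp_apply, cV.w, sub_self]
      obtain ⟨k, e, he⟩ := exists_appTop_map_eq_zero_of_isAffine_of_isLimit DV cV hcV j.left _ h0
      have he' : r (DV.map e) (r (DV.map j.hom) β) = r (DV.map e) x := by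
        have := he
        change r (DV.map e) _ = 0 at this
        rwa [map_sub, sub_eq_zero] at this
      refine ⟨Over.mk (e ≫ j.hom), ?_⟩
      show r (DV.map (e ≫ j.hom)) β ∈ Cl DV DU DU' σ σ' k
      rw [DV.map_comp, r_comp_apply, he']
      exact Cl_mono DV DU DU' σ σ' e hx)
  refine ⟨j, ?_⟩
  rw [eq_top_iff, ← hG]
  unfold Cl
  rw [Subring.closure_le]
  rintro x (hx | hx)
  · exact Subring.subset_closure (Or.inl hx)
  · exact hQ x hx

include hcart in
theorem Cl_eq_top_of_hom {j k : J} (u : k ⟶ j) (h : Cl DV DU DU' σ σ' j = ⊤) :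
    Cl DV DU DU' σ σ' k = ⊤ := by
  have hpo := isPushout_appTop_of_isPullback (hcart u)
  have h1 := closure_eq_top_of_isPushout hpo Set.univ
    (by rw [Set.union_univ, Subring.closure_univ])
  rw [eq_top_iff, ← h1]
  unfold Cl
  rw [Subring.closure_le]
  rintro x (hx | ⟨y, -, rfl⟩)
  · exact Subring.subset_closure (Or.inl hx)
  · exact Cl_mono DV DU DU' σ σ' u (h ▸ Subring.mem_top y)

end NC

/-- The affine-local criterion for the diagonal to be a closed immersion, on a pair of affine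
opens of the source, in terms of generation of sections on the intersection. -/
theorem q_mapDesc_iff {X W : Scheme.{u}} [IsAffine W] (f : X ⟶ W) (U V : X.Opens)
    (hU : IsAffineOpen U) (hV : IsAffineOpen V) :
    (IsAffine (pullback U.ι V.ι) ∧
      Function.Surjective (pullback.mapDesc U.ι V.ι f).appTop) ↔
    (IsAffineOpen (U ⊓ V) ∧
      Subring.closure (Set.range (r (X.homOfLE (inf_le_left : U ⊓ V ≤ U))) ∪
        Set.range (r (X.homOfLE (inf_le_right : U ⊓ V ≤ V)))) = ⊤) := by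
  have hUa : IsAffine ((U : X.Opens) : Scheme.{u}) := hU
  have hVa : IsAffine ((V : X.Opens) : Scheme.{u}) := hV
  let e : ((U ⊓ V : X.Opens) : Scheme.{u}) ≅ pullback U.ι V.ι :=
    (isPullback_opens_inf U V).isoPullback
  have he1 : e.hom ≫ pullback.fst U.ι V.ι = X.homOfLE inf_le_left :=
    (isPullback_opens_inf U V).isoPullback_hom_fst
  have he2 : e.hom ≫ pullback.snd U.ι V.ι = X.homOfLE inf_le_right :=
    (isPullback_opens_inf U V).isoPullback_hom_snd
  have haff : IsAffine (pullback U.ι V.ι) ↔ IsAffineOpen (U ⊓ V) := by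
    constructor
    · intro h
      exact IsAffine.of_isIso e.hom
    · intro h
      have : IsAffine ((U ⊓ V : X.Opens) : Scheme.{u}) := h
      exact IsAffine.of_isIso e.inv
  -- the pushout generating property
  have hpo := isPushout_appTop_of_isPullback (IsPullback.of_hasPullback (U.ι ≫ f) (V.ι ≫ f))
  have hT := closure_range_union_eq_top_of_isPushout hpo
  -- the composite ring hom
  have hψ1 : (r (e.hom ≫ pullback.mapDesc U.ι V.ι f)).comp (r (pullback.fst (U.ι ≫ f) (V.ι ≫ f)))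
      = r (X.homOfLE (inf_le_left : U ⊓ V ≤ U)) := by
    rw [← r_comp, Category.assoc, pullback.lift_fst, Category.comp_id, he1]
  have hψ2 : (r (e.hom ≫ pullback.mapDesc U.ι V.ι f)).comp (r (pullback.snd (U.ι ≫ f) (V.ι ≫ f)))
      = r (X.homOfLE (inf_le_right : U ⊓ V ≤ V)) := by
    rw [← r_comp, Category.assoc, pullback.lift_snd, Category.comp_id, he2]
  have hrange : (r (e.hom ≫ pullback.mapDesc U.ι V.ι f)).range =
      Subring.closure (Set.range (r (X.homOfLE (inf_le_left : U ⊓ V ≤ U))) ∪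
        Set.range (r (X.homOfLE (inf_le_right : U ⊓ V ≤ V)))) := by
    rw [RingHom.range_eq_map, ← hT, RingHom.map_closure, Set.image_union, ← Set.range_comp,
      ← Set.range_comp, ← hψ1, ← hψ2]
    rfl
  have hiso : IsIso e.hom.appTop := inferInstanceAs (IsIso (Scheme.Γ.map e.hom.op))
  have hbij : Function.Bijective (r e.hom) :=
    ConcreteCategory.bijective_of_isIso e.hom.appTop
  have hsurj : Function.Surjective (pullback.mapDesc U.ι V.ι f).appTop ↔
      (r (e.hom ≫ pullback.mapDesc U.ι V.ι f)).range = ⊤ := by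
    rw [RingHom.range_eq_top, r_comp]
    constructor
    · intro h
      exact hbij.2.comp h
    · intro h x
      obtain ⟨y, hy⟩ := h (r e.hom x)
      exact ⟨y, hbij.1 hy⟩
  rw [haff, hsurj, hrange]

universe v

set_option backward.isDefEq.respectTransparency.types false in
theorem isSeparated_of_openCover {X W : Scheme.{u}} [IsAffine W] (f : X ⟶ W)
    (𝒰 : Scheme.OpenCover.{v} X) [∀ i, IsAffine (𝒰.X i)]
    (h : ∀ i j, IsAffine (pullback (𝒰.f i) (𝒰.f j)) ∧
      Function.Surjective (pullback.mapDesc (𝒰.f i) (𝒰.f j) f).appTop) : IsSeparated f := by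
  rw [IsSeparated.isSeparated_eq_diagonal_isClosedImmersion]
  have := HasAffineProperty.isLocal_affineProperty @IsClosedImmersion
  rw [← HasAffineProperty.diagonal_iff (P := @IsClosedImmersion)]
  exact AffineTargetMorphismProperty.diagonal_of_openCover_source f 𝒰 h

set_option backward.isDefEq.respectTransparency.types false in
theorem q_of_isSeparated {X W : Scheme.{u}} [IsAffine W] (f : X ⟶ W) [IsSeparated f]
    {U₁ U₂ : Scheme.{u}} (f₁ : U₁ ⟶ X) (f₂ : U₂ ⟶ X) [IsAffine U₁] [IsAffine U₂]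
    [IsOpenImmersion f₁] [IsOpenImmersion f₂] :
    IsAffine (pullback f₁ f₂) ∧ Function.Surjective (pullback.mapDesc f₁ f₂ f).appTop := by
  have h : MorphismProperty.diagonal @IsClosedImmersion f := by
    rw [← IsSeparated.isSeparated_eq_diagonal_isClosedImmersion]; infer_instance
  rw [← HasAffineProperty.diagonal_iff (P := @IsClosedImmersion)] at h
  exact h f₁ f₂

section Geo

variable {J : Type u} [SmallCategory J] (E : J ⥤ Scheme.{u}) (cE : Cone E) (j₁ : J)

set_option backward.defeqAttrib.useBackward true in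
set_option backward.isDefEq.respectTransparency false in
/-- The inclusion of restricted diagrams for opens `A ≤ B` of a stage. -/
noncomputable def opensDiagramHomOfLE {A B : (E.obj j₁).Opens} (h : A ≤ B) :
    opensDiagram E j₁ A ⟶ opensDiagram E j₁ B where
  app j := (E.obj j.left).homOfLE (Scheme.Hom.preimage_mono _ h)
  naturality j k a := by
    rw [← cancel_mono (Scheme.Opens.ι _)]
    simp

set_option backward.defeqAttrib.useBackward true in
set_option backward.isDefEq.respectTransparency false in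
theorem opensDiagramHomOfLE_app {A B : (E.obj j₁).Opens} (h : A ≤ B) (j : Over j₁) :
    (opensDiagramHomOfLE E j₁ h).app j = (E.obj j.left).homOfLE (Scheme.Hom.preimage_mono _ h) :=
  rfl

set_option backward.defeqAttrib.useBackward true in
set_option backward.isDefEq.respectTransparency false in
theorem isPullback_opensDiagramHomOfLE_aux {A B : (E.obj j₁).Opens} (h : A ≤ B) {j k : Over j₁}
    (a : j ⟶ k) :
    IsPullback ((opensDiagram E j₁ A).map a)
      ((E.obj j.left).homOfLE (Scheme.Hom.preimage_mono (E.map j.hom) h))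
      ((E.obj k.left).homOfLE (Scheme.Hom.preimage_mono (E.map k.hom) h))
      ((opensDiagram E j₁ B).map a) := by
  apply IsOpenImmersion.isPullback
  · exact ((opensDiagramHomOfLE E j₁ h).naturality a).symm
  · rw [Scheme.opensRange_homOfLE, Scheme.opensRange_homOfLE, ← Scheme.Hom.comp_preimage]
    simp only [opensDiagram_map, Scheme.Hom.resLE_comp_ι]
    rw [Scheme.Hom.comp_preimage, ← Scheme.Hom.comp_preimage (E.map a.left), ← E.map_comp,
      Over.w a]

theorem isPullback_opensDiagramHomOfLE {A B : (E.obj j₁).Opens} (h : A ≤ B) {j k : Over j₁}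
    (a : j ⟶ k) :
    IsPullback ((opensDiagram E j₁ A).map a) ((opensDiagramHomOfLE E j₁ h).app j)
      ((opensDiagramHomOfLE E j₁ h).app k) ((opensDiagram E j₁ B).map a) :=
  isPullback_opensDiagramHomOfLE_aux E j₁ h a

set_option backward.defeqAttrib.useBackward true in
set_option backward.isDefEq.respectTransparency false in
theorem opensCone_homOfLE {A B : (E.obj j₁).Opens} (h : A ≤ B) (j : Over j₁) :
    cE.pt.homOfLE (Scheme.Hom.preimage_mono (cE.π.app j₁) h) ≫ (opensCone E cE j₁ B).π.app j =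
      (opensCone E cE j₁ A).π.app j ≫ (opensDiagramHomOfLE E j₁ h).app j := by
  rw [← cancel_mono (Scheme.Opens.ι _)]
  simp [opensDiagramHomOfLE_app]

variable [IsCofiltered J] [∀ {j k : J} (a : j ⟶ k), IsAffineHom (E.map a)] (hcE : IsLimit cE)

set_option backward.defeqAttrib.useBackward true in
set_option backward.isDefEq.respectTransparency false in
theorem isOpenImmersion_opensDiagramHomOfLE_app {A B : (E.obj j₁).Opens} (h : A ≤ B)
    (j : Over j₁) : IsOpenImmersion ((opensDiagramHomOfLE E j₁ h).app j) := by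
  rw [opensDiagramHomOfLE_app]; infer_instance

include hcE in
/-- Descent to a stage of "sections over `A ⊓ B` are generated by sections over `A` and `B`". -/
theorem exists_closure_homOfLE_eq_top (A B : (E.obj j₁).Opens) (hA : IsAffineOpen A)
    (hB : IsAffineOpen B) (hAB : IsAffineOpen (A ⊓ B))
    (htop : Subring.closure
      (Set.range (r (cE.pt.homOfLE (Scheme.Hom.preimage_mono (cE.π.app j₁)
        (inf_le_left : A ⊓ B ≤ A)))) ∪
       Set.range (r (cE.pt.homOfLE (Scheme.Hom.preimage_mono (cE.π.app j₁)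
        (inf_le_right : A ⊓ B ≤ B))))) = ⊤) :
    ∃ j : Over j₁, ∀ (k : Over j₁) (_ : k ⟶ j), Subring.closure
      (Set.range (r ((E.obj k.left).homOfLE (Scheme.Hom.preimage_mono (E.map k.hom)
        (inf_le_left : A ⊓ B ≤ A)))) ∪
       Set.range (r ((E.obj k.left).homOfLE (Scheme.Hom.preimage_mono (E.map k.hom)
        (inf_le_right : A ⊓ B ≤ B))))) = ⊤ := by
  have h1 : ∀ j, IsAffine ((opensDiagram E j₁ (A ⊓ B)).obj j) := fun j => hAB.preimage (E.map j.hom)
  have h2 : ∀ j, IsAffine ((opensDiagram E j₁ A).obj j) := fun j => hA.preimage (E.map j.hom)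
  have h3 : ∀ j, IsAffine ((opensDiagram E j₁ B).obj j) := fun j => hB.preimage (E.map j.hom)
  have hlft : LocallyOfFiniteType
      ((opensDiagramHomOfLE E j₁ (inf_le_left : A ⊓ B ≤ A)).app (Over.mk (𝟙 j₁))) := by
    have := isOpenImmersion_opensDiagramHomOfLE_app E j₁ (inf_le_left : A ⊓ B ≤ A)
      (Over.mk (𝟙 j₁))
    infer_instance
  obtain ⟨j, hj⟩ := exists_closure_eq_top (opensDiagram E j₁ (A ⊓ B)) (opensDiagram E j₁ A)
    (opensDiagram E j₁ B) (opensDiagramHomOfLE E j₁ inf_le_left)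
    (opensDiagramHomOfLE E j₁ inf_le_right)
    (fun a => isPullback_opensDiagramHomOfLE E j₁ inf_le_left a)
    (opensCone E cE j₁ (A ⊓ B)) (opensCone E cE j₁ A) (opensCone E cE j₁ B)
    (isLimitOpensCone E cE hcE j₁ (A ⊓ B)) (isLimitOpensCone E cE hcE j₁ A)
    (isLimitOpensCone E cE hcE j₁ B)
    (cE.pt.homOfLE (Scheme.Hom.preimage_mono (cE.π.app j₁) inf_le_left))
    (cE.pt.homOfLE (Scheme.Hom.preimage_mono (cE.π.app j₁) inf_le_right))
    (fun j => opensCone_homOfLE E cE j₁ inf_le_left j)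
    (fun j => opensCone_homOfLE E cE j₁ inf_le_right j) htop (Over.mk (𝟙 j₁))
  refine ⟨j.left, fun k u => ?_⟩
  exact Cl_eq_top_of_hom (opensDiagram E j₁ (A ⊓ B)) (opensDiagram E j₁ A)
    (opensDiagram E j₁ B) (opensDiagramHomOfLE E j₁ inf_le_left)
    (opensDiagramHomOfLE E j₁ inf_le_right)
    (fun a => isPullback_opensDiagramHomOfLE E j₁ inf_le_left a) u hj

set_option backward.isDefEq.respectTransparency.types false in
set_option backward.defeqAttrib.useBackward true in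
include hcE in
/-- A compact open of a stage whose preimage in the limit is affine has affine preimage at a
stage. -/
theorem exists_isAffineOpen_preimage [∀ j, QuasiSeparatedSpace (E.obj j)]
    (V : (E.obj j₁).Opens) (hVc : IsCompact (V : Set (E.obj j₁)))
    (hV : IsAffineOpen (cE.π.app j₁ ⁻¹ᵁ V)) :
    ∃ j : Over j₁, ∀ (k : Over j₁) (_ : k ⟶ j), IsAffineOpen (E.map k.hom ⁻¹ᵁ V) := by
  have (j : Over j₁) : CompactSpace ((opensDiagram E j₁ V).obj j) :=
    isCompact_iff_compactSpace.mp (QuasiCompact.isCompact_preimage _ V.2 hVc)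
  have (j : Over j₁) : QuasiSeparatedSpace ((opensDiagram E j₁ V).obj j) :=
    (isQuasiSeparated_iff_quasiSeparatedSpace _ (E.map _ ⁻¹ᵁ _).2).mp (.of_quasiSeparatedSpace _)
  have : IsAffine (opensCone E cE j₁ V).pt := hV
  obtain ⟨j, hj⟩ := Scheme.exists_isAffine_of_isLimit _ _ (isLimitOpensCone E cE hcE j₁ V)
  refine ⟨j, fun k u => ?_⟩
  have hj' : IsAffineOpen (E.map j.hom ⁻¹ᵁ V) := hj
  have := hj'.preimage (E.map u.left)
  rwa [← Scheme.Hom.comp_preimage, ← E.map_comp, Over.w u] at this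

include hcE in
/-- Separatedness at a stage, given a finite affine open cover of the stage `j₁` with affine
pairwise intersections. -/
theorem exists_isSeparated_of_cover {W : Scheme.{u}} [IsAffine W] (s : ∀ j, E.obj j ⟶ W)
    {ι : Type*} (ts : Finset ι) (U : ι → (E.obj j₁).Opens) (hU : ∀ x, IsAffineOpen (U x))
    (hcov : (Set.univ : Set (E.obj j₁)) ⊆ ⋃ x ∈ ts, (U x : Set (E.obj j₁)))
    (hUU : ∀ x y, IsAffineOpen (U x ⊓ U y))
    [IsSeparated (cE.π.app j₁ ≫ s j₁)] :
    ∃ j : Over j₁, IsSeparated (s j.left) := by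
  classical
  have hπ : IsAffineHom (cE.π.app j₁) := isAffineHom_π_app E cE hcE j₁
  have key : ∀ x y, ∃ j : Over j₁, ∀ (k : Over j₁) (_ : k ⟶ j), Subring.closure
      (Set.range (r ((E.obj k.left).homOfLE (Scheme.Hom.preimage_mono (E.map k.hom)
        (inf_le_left : U x ⊓ U y ≤ U x)))) ∪
       Set.range (r ((E.obj k.left).homOfLE (Scheme.Hom.preimage_mono (E.map k.hom)
        (inf_le_right : U x ⊓ U y ≤ U y))))) = ⊤ := by
    intro x y
    have hx : IsAffineOpen (cE.π.app j₁ ⁻¹ᵁ U x) := (hU x).preimage _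
    have hy : IsAffineOpen (cE.π.app j₁ ⁻¹ᵁ U y) := (hU y).preimage _
    have hxa : IsAffine ((cE.π.app j₁ ⁻¹ᵁ U x : cE.pt.Opens) : Scheme.{u}) := hx
    have hya : IsAffine ((cE.π.app j₁ ⁻¹ᵁ U y : cE.pt.Opens) : Scheme.{u}) := hy
    have hq := q_of_isSeparated (cE.π.app j₁ ≫ s j₁) (cE.π.app j₁ ⁻¹ᵁ U x).ι
      (cE.π.app j₁ ⁻¹ᵁ U y).ι
    have h2 := (q_mapDesc_iff (cE.π.app j₁ ≫ s j₁) _ _ hx hy).mp hq
    exact exists_closure_homOfLE_eq_top E cE j₁ hcE (U x) (U y) (hU x) (hU y) (hUU x y) h2.2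
  choose jxy hjxy using key
  obtain ⟨j, hj⟩ := IsCofiltered.inf_objs_exists ((ts ×ˢ ts).image (fun p => jxy p.1 p.2))
  refine ⟨j, ?_⟩
  have hcov' : TopologicalSpace.IsOpenCover (fun x : ts => E.map j.hom ⁻¹ᵁ U x.1) := by
    show ⨆ x : ts, E.map j.hom ⁻¹ᵁ U x.1 = ⊤
    rw [eq_top_iff]
    intro z _
    obtain ⟨x, hxt, hz⟩ := Set.mem_iUnion₂.mp (hcov (Set.mem_univ ((E.map j.hom).base z)))
    exact TopologicalSpace.Opens.mem_iSup.mpr ⟨⟨x, hxt⟩, hz⟩
  have haff : ∀ x : ((E.obj j.left).openCoverOfIsOpenCover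
      (fun x : ts => E.map j.hom ⁻¹ᵁ U x.1) hcov').I₀, IsAffine
      (((E.obj j.left).openCoverOfIsOpenCover (fun x : ts => E.map j.hom ⁻¹ᵁ U x.1) hcov').X x) :=
    fun x => (hU (x : ts).1).preimage (E.map j.hom)
  refine isSeparated_of_openCover (s j.left)
    ((E.obj j.left).openCoverOfIsOpenCover (fun x : ts => E.map j.hom ⁻¹ᵁ U x.1) hcov') ?_
  rintro ⟨x, hxt⟩ ⟨y, hyt⟩
  obtain ⟨u⟩ := hj (Finset.mem_image_of_mem (fun p : ι × ι => jxy p.1 p.2)
    (Finset.mk_mem_product hxt hyt))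
  have h3 := hjxy x y j u
  have h4 : IsAffineOpen (E.map j.hom ⁻¹ᵁ U x ⊓ E.map j.hom ⁻¹ᵁ U y) :=
    (hUU x y).preimage (E.map j.hom)
  exact (q_mapDesc_iff (s j.left) (E.map j.hom ⁻¹ᵁ U x) (E.map j.hom ⁻¹ᵁ U y)
    ((hU x).preimage _) ((hU y).preimage _)).mpr ⟨h4, h3⟩

include hcE in
/-- Separatedness over an affine base descends to a stage. -/
theorem exists_isSeparated_of_isAffine_base [∀ j, CompactSpace (E.obj j)]
    [∀ j, QuasiSeparatedSpace (E.obj j)] {W : Scheme.{u}} [IsAffine W] (s : ∀ j, E.obj j ⟶ W)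
    (hs : ∀ {j k : J} (a : j ⟶ k), E.map a ≫ s k = s j)
    [IsSeparated (cE.π.app j₁ ≫ s j₁)] :
    ∃ j : Over j₁, IsSeparated (s j.left) := by
  classical
  have hπ : IsAffineHom (cE.π.app j₁) := isAffineHom_π_app E cE hcE j₁
  have hloc : ∀ x : E.obj j₁, ∃ V : (E.obj j₁).Opens, IsAffineOpen V ∧ x ∈ V := by
    intro x
    obtain ⟨_, ⟨V, hV : IsAffineOpen V, rfl⟩, hxV, -⟩ :=
      (E.obj j₁).isBasis_affineOpens.exists_subset_of_mem_open (Set.mem_univ x) isOpen_univ
    exact ⟨V, hV, hxV⟩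
  choose U hU hxU using hloc
  obtain ⟨ts, hts⟩ := isCompact_univ.elim_finite_subcover
    (fun x => ((U x : (E.obj j₁).Opens) : Set (E.obj j₁)))
    (fun x => (U x).isOpen) (fun x _ => Set.mem_iUnion.mpr ⟨x, hxU x⟩)
  have key : ∀ x y, ∃ j : Over j₁, ∀ (k : Over j₁) (_ : k ⟶ j),
      IsAffineOpen (E.map k.hom ⁻¹ᵁ (U x ⊓ U y)) := by
    intro x y
    have hx : IsAffineOpen (cE.π.app j₁ ⁻¹ᵁ U x) := (hU x).preimage _
    have hy : IsAffineOpen (cE.π.app j₁ ⁻¹ᵁ U y) := (hU y).preimage _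
    have hxa : IsAffine ((cE.π.app j₁ ⁻¹ᵁ U x : cE.pt.Opens) : Scheme.{u}) := hx
    have hya : IsAffine ((cE.π.app j₁ ⁻¹ᵁ U y : cE.pt.Opens) : Scheme.{u}) := hy
    have hq := q_of_isSeparated (cE.π.app j₁ ≫ s j₁) (cE.π.app j₁ ⁻¹ᵁ U x).ι
      (cE.π.app j₁ ⁻¹ᵁ U y).ι
    have h2 := (q_mapDesc_iff (cE.π.app j₁ ≫ s j₁) _ _ hx hy).mp hq
    refine exists_isAffineOpen_preimage E cE j₁ hcE (U x ⊓ U y) ?_ h2.1
    exact QuasiSeparatedSpace.inter_isCompact _ _ (U x).isOpen (hU x).isCompact (U y).isOpen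
      (hU y).isCompact
  choose jxy hjxy using key
  obtain ⟨j₂, hj₂⟩ := IsCofiltered.inf_objs_exists ((ts ×ˢ ts).image (fun p => jxy p.1 p.2))
  have hsep : IsSeparated (cE.π.app j₂.left ≫ s j₂.left) := by
    have : cE.π.app j₂.left ≫ s j₂.left = cE.π.app j₁ ≫ s j₁ := by
      rw [← hs j₂.hom, ← Category.assoc, cE.w]
    rw [this]
    infer_instance
  obtain ⟨j₃, hj₃⟩ := exists_isSeparated_of_cover E cE j₂.left hcE s (Finset.univ : Finset ts)
    (fun x => E.map j₂.hom ⁻¹ᵁ U x.1) (fun x => (hU x.1).preimage _)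
    (by
      intro z _
      obtain ⟨x, hxt, hz⟩ := Set.mem_iUnion₂.mp (hts (Set.mem_univ ((E.map j₂.hom).base z)))
      exact Set.mem_iUnion₂.mpr ⟨⟨x, hxt⟩, Finset.mem_univ _, hz⟩)
    (by
      rintro ⟨x, hxt⟩ ⟨y, hyt⟩
      obtain ⟨u⟩ := hj₂ (Finset.mem_image_of_mem
        (fun p : E.obj j₁ × E.obj j₁ => jxy p.1 p.2) (Finset.mk_mem_product hxt hyt))
      exact hjxy x y j₂ u)
  exact ⟨Over.mk (j₃.hom ≫ j₂.hom), hj₃⟩

end Geo

end Groth.Agent.Lib.Helper26.LimSep
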