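import Mathlib
import Groth.Agent.Lib.Helper26LimCover2
import Groth.Agent.S9207

/-!
Stratifications by finitely presented immersions with sections descend along cofiltered limits
of quasi-compact quasi-separated schemes with affine transition maps (helper26).
-/

set_option autoImplicit false
set_option linter.style.haveILetI false
set_option linter.unusedSectionVars false
universe u
open CategoryTheory Limits AlgebraicGeometry Topology TopologicalSpace

namespace Groth.Agent.Lib.Helper26.LimStrat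

open Groth.Agent.Lib.Helper22.LimBC Groth.Agent.Lib.Helper2.LimLoc Groth.Agent.Lib.Helper26.LimFP
  Groth.Agent.Lib.Helper26.LimCover

/-- Every constructible subset of a quasi-compact quasi-separated scheme is the image of a
quasi-compact scheme. -/
theorem exists_compact_scheme_range_eq (S : Scheme.{u}) [CompactSpace S] [QuasiSeparatedSpace S]
    (A : Set S) (hA : IsConstructible A) :
    ∃ (T : Scheme.{u}) (τ : T ⟶ S), CompactSpace T ∧ Set.range τ = A := by
  haveI : Nonempty S.affineOpens := ⟨⟨⊥, isAffineOpen_bot S⟩⟩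
  have hbasis : IsTopologicalBasis
      (Set.range (fun U : S.affineOpens => ((U : S.Opens) : Set S))) := by
    have h1 : Set.range (fun U : S.affineOpens => ((U : S.Opens) : Set S)) =
        ((↑) : S.Opens → Set S) '' S.affineOpens := by
      ext s
      constructor
      · rintro ⟨U, rfl⟩; exact ⟨U.1, U.2, rfl⟩
      · rintro ⟨U, hU, rfl⟩; exact ⟨⟨U, hU⟩, rfl⟩
    rw [h1]; exact S.isBasis_affineOpens
  refine IsConstructible.induction_of_isTopologicalBasis
    (P := fun A _ => ∃ (T : Scheme.{u}) (τ : T ⟶ S), CompactSpace T ∧ Set.range τ = A)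
    (fun U : S.affineOpens => ((U : S.Opens) : Set S)) hbasis (fun U => U.2.isCompact) ?_ ?_ A hA
  · intro U s hs
    have hWo : IsOpen (⋃ j ∈ s, ((j : S.Opens) : Set S)) :=
      isOpen_biUnion fun j _ => j.1.isOpen
    have hC : IsClosed (U.1.ι ⁻¹' (⋃ j ∈ s, ((j : S.Opens) : Set S))ᶜ) :=
      hWo.isClosed_compl.preimage U.1.ι.continuous
    haveI : IsAffine (U.1 : Scheme.{u}) := U.2
    refine ⟨_, (Scheme.IdealSheafData.vanishingIdeal ⟨_, hC⟩).subschemeι ≫ U.1.ι, ?_, ?_⟩
    · exact QuasiCompact.compactSpace_of_compactSpace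
        (Scheme.IdealSheafData.vanishingIdeal ⟨_, hC⟩).subschemeι
    · rw [Scheme.Hom.comp_base, TopCat.coe_comp, Set.range_comp,
        Scheme.IdealSheafData.range_subschemeι, Scheme.IdealSheafData.coe_support_vanishingIdeal]
      show U.1.ι '' (U.1.ι ⁻¹' (⋃ j ∈ s, ((j : S.Opens) : Set S))ᶜ) = _
      rw [Set.image_preimage_eq_inter_range, Scheme.Opens.range_ι, Set.inter_comm]
      rfl
  · rintro s hs t ht ⟨T₁, τ₁, h₁, r₁⟩ ⟨T₂, τ₂, h₂, r₂⟩
    have hu : (Set.univ : Set ↥(T₁ ⨿ T₂)) = Set.range (coprod.inl : T₁ ⟶ T₁ ⨿ T₂) ∪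
        Set.range (coprod.inr : T₂ ⟶ T₁ ⨿ T₂) :=
      ((isCompl_range_inl_inr T₁ T₂).sup_eq_top).symm
    refine ⟨T₁ ⨿ T₂, coprod.desc τ₁ τ₂, ⟨?_⟩, ?_⟩
    · rw [hu]
      exact (isCompact_range (coprod.inl : T₁ ⟶ T₁ ⨿ T₂).continuous).union
        (isCompact_range (coprod.inr : T₂ ⟶ T₁ ⨿ T₂).continuous)
    · subst r₁ r₂
      apply Set.Subset.antisymm
      · rintro _ ⟨x, rfl⟩
        have hx : x ∈ Set.range (coprod.inl : T₁ ⟶ T₁ ⨿ T₂) ∪
            Set.range (coprod.inr : T₂ ⟶ T₁ ⨿ T₂) := by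
          rw [← hu]; trivial
        rcases hx with ⟨a, rfl⟩ | ⟨b, rfl⟩
        · left; exact ⟨a, by rw [← Scheme.Hom.comp_apply, coprod.inl_desc]⟩
        · right; exact ⟨b, by rw [← Scheme.Hom.comp_apply, coprod.inr_desc]⟩
      · rintro _ (⟨a, rfl⟩ | ⟨b, rfl⟩)
        · exact ⟨(coprod.inl : T₁ ⟶ T₁ ⨿ T₂) a, by
            rw [← Scheme.Hom.comp_apply, coprod.inl_desc]⟩
        · exact ⟨(coprod.inr : T₂ ⟶ T₁ ⨿ T₂) b, by
            rw [← Scheme.Hom.comp_apply, coprod.inr_desc]⟩

section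

variable {J : Type u} [SmallCategory J] {E : J ⥤ Scheme.{u}} {cE : Cone E}
  {X0 Y0 : Scheme.{u}} (f0 : X0 ⟶ Y0) (r : E ⟶ (Functor.const J).obj Y0)

/-- A finitely presented immersion model of `z` at the stage `j` together with a lift to `X0`. -/
def SecModelAt {Z : Scheme.{u}} (z : Z ⟶ cE.pt) (j : J) : Prop :=
  ∃ (V : Scheme.{u}) (v : V ⟶ E.obj j) (e : Z ⟶ V) (g : V ⟶ X0),
    LocallyOfFinitePresentation v ∧ QuasiCompact v ∧ QuasiSeparated v ∧ IsImmersion v ∧
      IsPullback e z v (cE.π.app j) ∧ g ≫ f0 = v ≫ r.app j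

theorem SecModelAt.move {Z : Scheme.{u}} {z : Z ⟶ cE.pt} {j j' : J}
    (h : SecModelAt (cE := cE) f0 r z j) (φ : j' ⟶ j) : SecModelAt (cE := cE) f0 r z j' := by
  obtain ⟨V, v, e, g, h1, h2, h3, h4, pb, hg⟩ := h
  refine ⟨(bcDiagram E j v).obj (Over.mk φ), dSnd E j v (Over.mk φ), bcπ j pb (Over.mk φ),
    dFst E j v (Over.mk φ) ≫ g,
    MorphismProperty.of_isPullback (isPullback_d E j v (Over.mk φ)) h1,
    MorphismProperty.of_isPullback (isPullback_d E j v (Over.mk φ)) h2,
    MorphismProperty.of_isPullback (isPullback_d E j v (Over.mk φ)) h3,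
    MorphismProperty.of_isPullback (isPullback_d E j v (Over.mk φ)) h4,
    isPullback_bcπ j pb (Over.mk φ), ?_⟩
  have hn : E.map φ ≫ r.app j = r.app j' := by simpa using r.naturality φ
  calc (dFst E j v (Over.mk φ) ≫ g) ≫ f0
      = (dFst E j v (Over.mk φ) ≫ v) ≫ r.app j := by
        rw [Category.assoc, hg, Category.assoc]
    _ = (dSnd E j v (Over.mk φ) ≫ E.map φ) ≫ r.app j := by
        rw [d_condition]; rfl
    _ = dSnd E j v (Over.mk φ) ≫ r.app j' := by rw [Category.assoc, hn]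

variable [IsCofiltered J] (hcE : IsLimit cE)
  [∀ (i j : J) (f : i ⟶ j), IsAffineHom (E.map f)] [∀ i, CompactSpace (E.obj i)]
  [∀ i, QuasiSeparatedSpace (E.obj i)] [LocallyOfFinitePresentation f0]

include hcE in
theorem exists_secModelAt {Z : Scheme.{u}} (z : Z ⟶ cE.pt) [LocallyOfFinitePresentation z]
    [QuasiCompact z] [QuasiSeparated z] [IsImmersion z]
    (ρ : Z ⟶ X0) (hρ : ∀ j, ρ ≫ f0 = z ≫ cE.π.app j ≫ r.app j) :
    ∃ j, SecModelAt (cE := cE) f0 r z j := by
  have inst : ∀ {a b : J} (f : a ⟶ b), IsAffineHom (E.map f) := fun f => inferInstance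
  obtain ⟨j, V, v, e, h1, h2, h3, h4, pb⟩ :=
    exists_model_of_qcqsDescent qcqsDescent_isImmersion hcE z (inferInstance : IsImmersion z)
  haveI := h1
  haveI := h2
  haveI := h3
  haveI : CompactSpace V := QuasiCompact.compactSpace_of_compactSpace v
  haveI : QuasiSeparatedSpace V := quasiSeparatedSpace_of_quasiSeparated v
  let t : bcDiagram E j v ⟶ (Functor.const _).obj Y0 :=
    { app := fun m => dFst E j v m ≫ v ≫ r.app j
      naturality := fun m m' φ => by
        show (bcDiagram E j v).map φ ≫ dFst E j v m' ≫ v ≫ r.app j =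
          (dFst E j v m ≫ v ≫ r.app j) ≫ 𝟙 _
        rw [Category.comp_id, map_dFst_assoc] }
  have ha : (bcCone j pb).π ≫ t = (Functor.const _).map (ρ ≫ f0) := by
    ext m
    show bcπ j pb m ≫ dFst E j v m ≫ v ≫ r.app j = ρ ≫ f0
    rw [bcπ_fst_assoc, hρ j, ← Category.assoc, pb.w, Category.assoc]
  obtain ⟨m, g, hg1, hg2⟩ := Scheme.exists_π_app_comp_eq_of_locallyOfFinitePresentation
    (bcDiagram E j v) t f0 (bcCone j pb) (isLimitBcCone j pb hcE) ρ ha
  replace hg2 : g ≫ f0 = dFst E j v m ≫ v ≫ r.app j := hg2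
  have hn : E.map m.hom ≫ r.app j = r.app m.left := by simpa using r.naturality m.hom
  refine ⟨m.left, (bcDiagram E j v).obj m, dSnd E j v m, bcπ j pb m, g,
    MorphismProperty.of_isPullback (isPullback_d E j v m) h1,
    MorphismProperty.of_isPullback (isPullback_d E j v m) h2,
    MorphismProperty.of_isPullback (isPullback_d E j v m) h3,
    MorphismProperty.of_isPullback (isPullback_d E j v m) h4,
    isPullback_bcπ j pb m, ?_⟩
  calc g ≫ f0 = (dFst E j v m ≫ v) ≫ r.app j := by rw [hg2, Category.assoc]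
    _ = (dSnd E j v m ≫ E.map m.hom) ≫ r.app j := by rw [d_condition]
    _ = dSnd E j v m ≫ r.app m.left := by rw [Category.assoc, hn]

include hcE in
/-- A finite stratification of the limit by finitely presented immersions with lifts to `X0`
descends to a stage. -/
theorem exists_strat_stage {n : ℕ} (Z : Fin n → Scheme.{u}) (z : ∀ k, Z k ⟶ cE.pt)
    (hz : ∀ k, IsImmersion (z k) ∧ LocallyOfFinitePresentation (z k) ∧ QuasiCompact (z k) ∧
      QuasiSeparated (z k))
    (hcov : ∀ y : cE.pt, ∃ k, y ∈ Set.range (z k))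
    (ρ : ∀ k, Z k ⟶ X0) (hρ : ∀ k j, ρ k ≫ f0 = z k ≫ cE.π.app j ≫ r.app j) :
    ∃ (j : J) (V : Fin n → Scheme.{u}) (v : ∀ k, V k ⟶ E.obj j) (g : ∀ k, V k ⟶ X0),
      (∀ k, IsImmersion (v k)) ∧ (∀ y : E.obj j, ∃ k, y ∈ Set.range (v k)) ∧
      ∀ k, g k ≫ f0 = v k ≫ r.app j := by
  classical
  have hm : ∀ k, ∃ j, SecModelAt (cE := cE) f0 r (z k) j := by
    intro k
    haveI := (hz k).1
    haveI := (hz k).2.1
    haveI := (hz k).2.2.1
    haveI := (hz k).2.2.2
    exact exists_secModelAt f0 r hcE (z k) (ρ k) (hρ k)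
  choose j_ hj_ using hm
  obtain ⟨j, hj⟩ := IsCofiltered.inf_objs_exists (Finset.univ.image j_)
  have φ : ∀ k, j ⟶ j_ k := fun k =>
    (hj (Finset.mem_image_of_mem _ (Finset.mem_univ k))).some
  have hmj : ∀ k, SecModelAt (cE := cE) f0 r (z k) j := fun k => (hj_ k).move f0 r (φ k)
  choose V v e g h1 h2 h3 h4 pb hg using hmj
  have hcons : IsConstructible (⋃ k, Set.range (v k))ᶜ := by
    refine IsConstructible.compl (IsConstructible.iUnion fun k => ?_)
    haveI := h1 k
    haveI := h2 k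
    rw [← Set.image_univ]
    exact (v k).isConstructible_image IsConstructible.univ
  obtain ⟨T, τ, hT, hτ⟩ := exists_compact_scheme_range_eq (E.obj j) _ hcons
  haveI := hT
  have hempty : IsEmpty ↥(pullback τ (cE.π.app j)) := by
    rw [Scheme.isEmpty_pullback_iff, Set.disjoint_left]
    rintro _ hw ⟨x, rfl⟩
    obtain ⟨k, y, hy⟩ := hcov x
    have hw' : (cE.π.app j) x ∈ (⋃ k, Set.range (v k))ᶜ := hτ ▸ hw
    apply hw'
    refine Set.mem_iUnion.mpr ⟨k, (e k) y, ?_⟩
    rw [← hy, ← Scheme.Hom.comp_apply, ← Scheme.Hom.comp_apply, (pb k).w]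
  obtain ⟨j', ψ, hj'⟩ := Groth.Agent.S9207.result E cE hcE j τ hempty
  rw [Scheme.isEmpty_pullback_iff, Set.disjoint_left] at hj'
  have hn : E.map ψ ≫ r.app j = r.app j' := by simpa using r.naturality ψ
  refine ⟨j', fun k => (bcDiagram E j (v k)).obj (Over.mk ψ),
    fun k => dSnd E j (v k) (Over.mk ψ), fun k => dFst E j (v k) (Over.mk ψ) ≫ g k, ?_, ?_, ?_⟩
  · intro k
    exact MorphismProperty.of_isPullback (isPullback_d E j (v k) (Over.mk ψ)) (h4 k)
  · intro x
    have hx : (E.map ψ) x ∈ ⋃ k, Set.range (v k) := by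
      by_contra hcon
      exact hj' (hτ ▸ hcon : (E.map ψ) x ∈ Set.range τ) ⟨x, rfl⟩
    obtain ⟨k, hk⟩ := Set.mem_iUnion.mp hx
    have hr := range_of_isPullback (isPullback_d E j (v k) (Over.mk ψ))
    refine ⟨k, ?_⟩
    rw [hr]; exact hk
  · intro k
    calc (dFst E j (v k) (Over.mk ψ) ≫ g k) ≫ f0
        = (dFst E j (v k) (Over.mk ψ) ≫ v k) ≫ r.app j := by
          rw [Category.assoc, hg k, Category.assoc]
      _ = (dSnd E j (v k) (Over.mk ψ) ≫ E.map ψ) ≫ r.app j := by
          rw [d_condition]; rfl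
      _ = dSnd E j (v k) (Over.mk ψ) ≫ r.app j' := by rw [Category.assoc, hn]

end

/-- the residue field maps of an immersion are bijective -/
theorem bijective_residueFieldMap_of_isImmersion {X Y : Scheme.{u}} (f : X ⟶ Y) [IsImmersion f]
    (x : X) : Function.Bijective (f.residueFieldMap x) := by
  refine ⟨(f.residueFieldMap x).hom.injective, ?_⟩
  intro b
  obtain ⟨t, rfl⟩ := X.residue_surjective x b
  obtain ⟨t', rfl⟩ := f.stalkMap_surjective x t
  refine ⟨Y.residue (f x) t', ?_⟩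
  have := congrArg (fun h => h.hom t') (Scheme.residue_residueFieldMap f x)
  exact this

end Groth.Agent.Lib.Helper26.LimStrat
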