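import Mathlib

set_option autoImplicit false
universe u

namespace Groth.Agent.Lib.Helper26.LocDesc

open Submodule

/-- descent of a finitely presented module from a localization `B = T⁻¹A` to `A`. -/
theorem exists_fp_model {A : Type u} [CommRing A] (T : Submonoid A) {B : Type u} [CommRing B]
    [Algebra A B] [IsLocalization T B] (N : Type u) [AddCommGroup N] [Module B N] [Module A N]
    [IsScalarTower A B N] [Module.FinitePresentation B N] :
    ∃ (N₀ : Type u) (_ : AddCommGroup N₀) (_ : Module A N₀) (_ : Module.FinitePresentation A N₀)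
      (j : N₀ →ₗ[A] N), IsLocalizedModule T j := by
  classical
  obtain ⟨n, K, e, hK⟩ := Module.FinitePresentation.exists_fin B N
  obtain ⟨s, hs⟩ := hK
  let ι : (Fin n → A) →ₗ[A] (Fin n → B) :=
    LinearMap.pi fun i => (Algebra.linearMap A B) ∘ₗ LinearMap.proj i
  haveI : IsLocalizedModule T ι := inferInstance
  have hsurj : ∀ k : (Fin n → B), ∃ x : (Fin n → A) × T, x.2 • k = ι x.1 :=
    fun k => IsLocalizedModule.surj T ι k
  choose c hc using hsurj
  let K₀ : Submodule A (Fin n → A) := span A ((fun k => (c k).1) '' (s : Set (Fin n → B)))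
  have hK₀ : K₀.localized' B T ι = K := by
    rw [← hs]
    change (span A _).localized' B T ι = _
    rw [localized'_span]
    apply le_antisymm
    · rw [span_le]
      rintro _ ⟨_, ⟨k, hk, rfl⟩, rfl⟩
      rw [← hc k]
      have : ((c k).2 • k : Fin n → B) = (algebraMap A B (c k).2 : B) • k := by
        rw [Submonoid.smul_def, algebraMap_smul]
      rw [this]
      exact smul_mem _ _ (subset_span hk)
    · rw [span_le]
      intro k hk
      have hu : IsUnit (algebraMap A B (c k).2) := IsLocalization.map_units B (c k).2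
      obtain ⟨v, hv⟩ := hu
      have h1 : ι (c k).1 ∈ span B (ι '' ((fun k => (c k).1) '' (s : Set (Fin n → B)))) :=
        subset_span ⟨_, ⟨k, hk, rfl⟩, rfl⟩
      have h2 : k = (↑v⁻¹ : B) • ι (c k).1 := by
        rw [← hc k, Submonoid.smul_def, ← algebraMap_smul B ((c k).2 : A) k, smul_smul, ← hv,
          Units.inv_mul, one_smul]
      rw [SetLike.mem_coe, h2]
      exact smul_mem _ _ h1
  let e' : N ≃ₗ[B] (Fin n → B) ⧸ K₀.localized' B T ι :=
    e.trans (Submodule.quotEquivOfEq _ _ hK₀.symm)
  let j : ((Fin n → A) ⧸ K₀) →ₗ[A] N :=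
    (e'.symm.restrictScalars A).toLinearMap ∘ₗ K₀.toLocalizedQuotient' B T ι
  refine ⟨(Fin n → A) ⧸ K₀, inferInstance, inferInstance, ?_, j, ?_⟩
  · refine Module.finitePresentation_of_free_of_surjective K₀.mkQ K₀.mkQ_surjective ?_
    rw [Submodule.ker_mkQ]
    exact Submodule.fg_span (Set.Finite.image _ s.finite_toSet)
  · exact IsLocalizedModule.of_linearEquiv T (K₀.toLocalizedQuotient' B T ι)
      (e'.symm.restrictScalars A)

end Groth.Agent.Lib.Helper26.LocDesc
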