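import Mathlib
import Groth.Agent.Lib.Helper3LocusBC
import Groth.Agent.Lib.Helper3LocusFam
import Groth.Agent.Lib.Helper3LocusPair
import Groth.Agent.Lib.Helper26FGZ
import Groth.Agent.S0591
import Groth.Agent.Lib.Helper26ModDescD
import Groth.Agent.Lib.Helper22LimBC

/-!
# Loci of fibrewise properties of schemes with a module (helper26)

The `IsLocusFam` framework of helper3 (`Helper3LocusFam`) for relations `P(X, F, k)` involving a module:
* `locusMod_eq_preimage`: compatibility of `ConsProp.locusMod` with base change;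
* `FamMod P`, `isLocusFam_famMod`: the family of loci of finitely presented families with a finitely presented module
  (Noetherian approximation uses the descent of finitely presented modules, EGA IV 8.5.2 (ii)).
-/

set_option autoImplicit false
set_option linter.style.haveILetI false
set_option linter.unusedSectionVars false
universe u
open CategoryTheory AlgebraicGeometry Topology

namespace Groth.Agent.Lib.Helper26.LocusMod

open Groth.Agent.Lib.Helper3.LocusBC Groth.Agent.Lib.Helper3.LocusFam Groth.Agent.Lib.Helper26.FGZ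
  Groth.Agent.Lib.Helper3.LocusPair Groth.Agent.Lib.Helper26.ModLim2 Groth.Agent.Lib.Helper26.ModDesc
  Groth.Agent.Lib.Helper22.LimBC

theorem isCoh_of_isFP {X : Scheme.{u}} (F : X.Modules) (hq : F.IsQuasicoherent)
    (hF : SheafOfModules.IsFinitePresentation (R := X.ringCatSheaf) F) : Coh.IsCoh F :=
  ⟨hq, Groth.Agent.Helper18Strict.isFT_of_isFP _ hF⟩

theorem isCoh_pullback_of_isFP {X Y : Scheme.{u}} (f : Y ⟶ X) (F : X.Modules) [F.IsQuasicoherent]
    (hF : SheafOfModules.IsFinitePresentation (R := X.ringCatSheaf) F) :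
    Coh.IsCoh ((Scheme.Modules.pullback f).obj F) :=
  isCoh_of_isFP _ (Groth.Agent.Lib.Helper2.PullbackSec.isQuasicoherent_pullback _ _)
    (Groth.Agent.Helper18Strict.isFP_pullback f F hF)

theorem locusMod_eq_preimage {P : ∀ ⦃Y T : Scheme.{u}⦄, (Y ⟶ T) → Y.Modules → Prop}
    (hP : ConsProp.IsFieldStableMod P) {X S X' S' : Scheme.{u}} {u : X ⟶ S} {u' : X' ⟶ S'} {a : S' ⟶ S}
    {pX : X' ⟶ X} [LocallyOfFiniteType u] [QuasiCompact u] (hX : IsPullback pX u' u a)
    (F : X.Modules) [F.IsQuasicoherent]
    (hF : SheafOfModules.IsFinitePresentation (R := X.ringCatSheaf) F) (F' : X'.Modules)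
    (e : F' ≅ (Scheme.Modules.pullback pX).obj F) :
    ConsProp.locusMod P u' F' = a ⁻¹' ConsProp.locusMod P u F := by
  ext s'
  obtain ⟨eX, hX1, hX2, h1⟩ := exists_fiber_lift hX s'
  refine (hP (u.fiberToSpecResidueField (a s')) (u'.fiberToSpecResidueField s') eX
    (Spec.map (a.residueFieldMap s')) h1 ((Scheme.Modules.pullback (u.fiberι (a s'))).obj F)
    ((Scheme.Modules.pullback (u'.fiberι s')).obj F') (isCoh_pullback_of_isFP _ F hF) ?_).symm
  exact (Scheme.Modules.pullback (u'.fiberι s')).mapIso e ≪≫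
    (compIso (u'.fiberι s') pX _ rfl).app F ≪≫
    ((compIso eX (u.fiberι (a s')) (u'.fiberι s' ≫ pX) hX1).app F).symm

/-- the predicate "`E` is the locus of `P` for a finitely presented family with a finitely presented module". -/
def FamMod (P : ∀ ⦃Y T : Scheme.{u}⦄, (Y ⟶ T) → Y.Modules → Prop) (S : Scheme.{u}) (E : Set S) : Prop :=
  ∃ (X : Scheme.{u}) (u : X ⟶ S) (F : X.Modules), LocallyOfFinitePresentation u ∧ QuasiCompact u ∧
    QuasiSeparated u ∧ F.IsQuasicoherent ∧
    SheafOfModules.IsFinitePresentation (R := X.ringCatSheaf) F ∧ E = ConsProp.locusMod P u F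

theorem isLocusFam_famMod {P : ∀ ⦃Y T : Scheme.{u}⦄, (Y ⟶ T) → Y.Modules → Prop}
    (hP : ConsProp.IsFieldStableMod P) : IsLocusFam (FamMod P) where
  bc := by
    rintro S S' a E ⟨X, u, F, h1, h2, h3, hq, hfp, rfl⟩
    haveI := hq
    refine ⟨Limits.pullback u a, Limits.pullback.snd u a,
      (Scheme.Modules.pullback (Limits.pullback.fst u a)).obj F, inferInstance, inferInstance,
      inferInstance, Groth.Agent.Lib.Helper2.PullbackSec.isQuasicoherent_pullback _ _,
      Groth.Agent.Helper18Strict.isFP_pullback _ F hfp, ?_⟩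
    exact (locusMod_eq_preimage hP (IsPullback.of_hasPullback u a) F hfp _ (Iso.refl _)).symm
  approx := by
    rintro A E ⟨X, u, F, h1, h2, h3, hq, hfp, rfl⟩
    obtain ⟨i, Xi, ui, qX, a1, a2, a3, hX⟩ :=
      @Groth.Agent.S0591.result _ _ _ (specDiagram A) (specCone A) (specIsLimit A) _ _ _ X u h1 h2 h3
    haveI : CompactSpace Xi := QuasiCompact.compactSpace_of_compactSpace ui
    haveI : QuasiSeparatedSpace Xi := quasiSeparatedSpace_of_quasiSeparated ui
    haveI hD : ∀ {i j : (FGSub A)ᵒᵖ} (φ : i ⟶ j), IsAffineHom ((specDiagram A).map φ) :=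
      fun φ => inferInstance
    obtain ⟨j, Fj, hFjq, hFjfp, ⟨e⟩⟩ := desc_of_compact_quasiSeparated (bcDiagram (specDiagram A) i ui)
      (bcCone i hX) (isLimitBcCone i hX (specIsLimit A)) (Over.mk (𝟙 i)) F hq hfp
    haveI := hFjq
    have hsq := isPullback_bcπ (D := specDiagram A) (c := specCone A) i hX j
    haveI : LocallyOfFinitePresentation (dSnd (specDiagram A) i ui j) :=
      MorphismProperty.of_isPullback (P := @LocallyOfFinitePresentation)
        (isPullback_d (specDiagram A) i ui j) a1
    haveI : QuasiCompact (dSnd (specDiagram A) i ui j) :=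
      MorphismProperty.of_isPullback (P := @QuasiCompact) (isPullback_d (specDiagram A) i ui j) a2
    haveI : QuasiSeparated (dSnd (specDiagram A) i ui j) :=
      MorphismProperty.of_isPullback (P := @QuasiSeparated) (isPullback_d (specDiagram A) i ui j) a3
    have hfam : FamMod P ((specDiagram A).obj j.left)
        (ConsProp.locusMod P (dSnd (specDiagram A) i ui j) Fj) :=
      ⟨_, _, Fj, inferInstance, inferInstance, inferInstance, hFjq, hFjfp, rfl⟩
    have hloc : ConsProp.locusMod P u F =
        (specCone A).π.app j.left ⁻¹' ConsProp.locusMod P (dSnd (specDiagram A) i ui j) Fj := by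
      haveI : LocallyOfFiniteType (dSnd (specDiagram A) i ui j) := inferInstance
      exact locusMod_eq_preimage hP hsq Fj hFjfp F e.symm
    exact ⟨CommRingCat.of j.left.unop.1, CommRingCat.ofHom (algebraMap j.left.unop.1 A), _,
      noeth_fgSub A j.left.unop, hfam, hloc⟩

end Groth.Agent.Lib.Helper26.LocusMod
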