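import Mathlib
import Groth.Agent.Lib.Helper26StalkLim
import Groth.Agent.Lib.Helper26LimFP6
import Groth.Agent.Lib.Helper20NeronCat
import Groth.Agent.S5940

/-!
# The Néron mapping property passes to `Spec 𝒪_{S,s}` (helper26)

`ExO U N z` / `UnO U N z`: existence / uniqueness of extensions to `Z` of `S`-morphisms
`z⁻¹(U) ⟶ N` (for `z : Z ⟶ S`), phrased with open subschemes.

* `exO_limit`, `unO_limit`: both pass to cofiltered limits of Noetherian quasi-separated schemes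
  with affine transition maps, when `N` is locally of finite presentation over `S`.
* `exO_stalk`, `unO_stalk`: if they hold for all smooth `S`-schemes (`S` locally Noetherian), they
  hold for all smooth `Spec 𝒪_{S,s}`-schemes, regarded as `S`-schemes.
-/

set_option autoImplicit false
set_option linter.style.haveILetI false
universe u
open CategoryTheory Limits AlgebraicGeometry Opposite TopologicalSpace

namespace Groth.Agent.Lib.Helper26.NeronStalk

open Groth.Agent.Lib.Helper20.NeronCat Groth.Agent.Lib.Helper22.LimBC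
  Groth.Agent.Lib.Helper26.StalkLim Groth.Agent.Lib.Helper26.LimFP

variable {S : Scheme.{u}}

/-- opens form of the extension property: existence -/
def ExO (U : S.Opens) (N : Over S) {Z : Scheme.{u}} (z : Z ⟶ S) : Prop :=
  ∀ (A : Z.Opens), A = z ⁻¹ᵁ U → ∀ w : A.toScheme ⟶ N.left, w ≫ N.hom = A.ι ≫ z →
    ∃ v : Z ⟶ N.left, v ≫ N.hom = z ∧ A.ι ≫ v = w

/-- opens form of the extension property: uniqueness -/
def UnO (U : S.Opens) (N : Over S) {Z : Scheme.{u}} (z : Z ⟶ S) : Prop :=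
  ∀ (A : Z.Opens), A = z ⁻¹ᵁ U → ∀ v₁ v₂ : Z ⟶ N.left, v₁ ≫ N.hom = z → v₂ ≫ N.hom = z →
    A.ι ≫ v₁ = A.ι ≫ v₂ → v₁ = v₂

theorem exO_of_ext {U : S.Opens} {N : Over S} {Z : Scheme.{u}} (z : Z ⟶ S)
    (h : Ext U.ι (Over.mk z) N) : ExO U N z := by
  intro A hA w hw
  subst hA
  have he : (pullbackRestrictIsoRestrict z U).hom ≫ (z ⁻¹ᵁ U).ι = pullback.fst z U.ι :=
    pullbackRestrictIsoRestrict_hom_ι z U
  have hu : ((pullbackRestrictIsoRestrict z U).hom ≫ w) ≫ N.hom =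
      pullback.fst (Over.mk z).hom U.ι ≫ (Over.mk z).hom := by
    change ((pullbackRestrictIsoRestrict z U).hom ≫ w) ≫ N.hom = pullback.fst z U.ι ≫ z
    rw [Category.assoc, hw, ← Category.assoc, he]
  obtain ⟨g, hg, -⟩ := h _ hu
  have hg : pullback.fst z U.ι ≫ g.left = (pullbackRestrictIsoRestrict z U).hom ≫ w := hg
  refine ⟨g.left, Over.w g, ?_⟩
  rw [← cancel_epi (pullbackRestrictIsoRestrict z U).hom, ← Category.assoc, he, hg]

theorem unO_of_ext {U : S.Opens} {N : Over S} {Z : Scheme.{u}} (z : Z ⟶ S)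
    (h : Ext U.ι (Over.mk z) N) : UnO U N z := by
  intro A hA v₁ v₂ hv₁ hv₂ h12
  subst hA
  have he : (pullbackRestrictIsoRestrict z U).hom ≫ (z ⁻¹ᵁ U).ι = pullback.fst z U.ι :=
    pullbackRestrictIsoRestrict_hom_ι z U
  refine h.unique_left v₁ v₂ hv₁ hv₂ ?_
  change pullback.fst z U.ι ≫ v₁ = pullback.fst z U.ι ≫ v₂
  rw [← he, Category.assoc, Category.assoc, h12]

theorem ext_of_exO_unO {U : S.Opens} {N Z : Over S} (h1 : ExO U N Z.hom) (h2 : UnO U N Z.hom) :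
    Ext U.ι Z N := by
  intro u hu
  have he : (pullbackRestrictIsoRestrict Z.hom U).hom ≫ (Z.hom ⁻¹ᵁ U).ι =
      pullback.fst Z.hom U.ι := pullbackRestrictIsoRestrict_hom_ι Z.hom U
  have he' : (pullbackRestrictIsoRestrict Z.hom U).inv ≫ pullback.fst Z.hom U.ι =
      (Z.hom ⁻¹ᵁ U).ι := pullbackRestrictIsoRestrict_inv_fst Z.hom U
  obtain ⟨v, hv1, hv2⟩ := h1 _ rfl ((pullbackRestrictIsoRestrict Z.hom U).inv ≫ u) (by
    rw [Category.assoc, hu, ← Category.assoc, he'])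
  refine ⟨Over.homMk v hv1, ?_, ?_⟩
  · change pullback.fst Z.hom U.ι ≫ v = u
    rw [← he, Category.assoc, hv2, Iso.hom_inv_id_assoc]
  · intro g' hg'
    apply Over.OverMorphism.ext
    change g'.left = v
    refine h2 _ rfl g'.left v (Over.w g') hv1 ?_
    rw [hv2, ← he', Category.assoc, hg']

section Abstract

variable {J : Type u} [SmallCategory J] [IsCofiltered J] (E : J ⥤ Scheme.{u})
  (cE : Cone E) (tE : E ⟶ (Functor.const J).obj S) (U : S.Opens) (N : Over S)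

lemma tE_nat {j k : J} (f : j ⟶ k) : E.map f ≫ tE.app k = tE.app j := by
  exact (tE.naturality f).trans (Category.comp_id _)

/-- structure maps of the restricted diagram -/
noncomputable def tO (j : J) :
    opensDiagram E j (tE.app j ⁻¹ᵁ U) ⟶ (Functor.const (Over j)).obj S where
  app k := (opensDiagramι E j (tE.app j ⁻¹ᵁ U)).app k ≫ tE.app k.left
  naturality k l f := by
    have h1 := (opensDiagramι E j (tE.app j ⁻¹ᵁ U)).naturality f
    have h2 : E.map f.left ≫ tE.app l.left = tE.app k.left := tE_nat E tE f.left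
    calc (opensDiagram E j (tE.app j ⁻¹ᵁ U)).map f ≫
          ((opensDiagramι E j (tE.app j ⁻¹ᵁ U)).app l ≫ tE.app l.left)
        = ((opensDiagram E j (tE.app j ⁻¹ᵁ U)).map f ≫
          (opensDiagramι E j (tE.app j ⁻¹ᵁ U)).app l) ≫ tE.app l.left :=
          (Category.assoc _ _ _).symm
      _ = ((opensDiagramι E j (tE.app j ⁻¹ᵁ U)).app k ≫ E.map f.left) ≫ tE.app l.left := by
          rw [h1]; rfl
      _ = (opensDiagramι E j (tE.app j ⁻¹ᵁ U)).app k ≫ (E.map f.left ≫ tE.app l.left) :=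
          Category.assoc _ _ _
      _ = (opensDiagramι E j (tE.app j ⁻¹ᵁ U)).app k ≫ tE.app k.left :=
          congrArg (fun t => (opensDiagramι E j (tE.app j ⁻¹ᵁ U)).app k ≫ t) h2
      _ = _ := (Category.comp_id _).symm

lemma opensCone_π_ι (j : J) (O : (E.obj j).Opens) (k : Over j) :
    (opensCone E cE j O).π.app k ≫ (opensDiagramι E j O).app k =
      (cE.π.app j ⁻¹ᵁ O).ι ≫ cE.π.app k.left :=
  Scheme.Hom.resLE_comp_ι _ _

lemma opensCone_π_ι_assoc' (j : J) (O : (E.obj j).Opens) (k : Over j) {M : Scheme.{u}}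
    (b : E.obj k.left ⟶ M) :
    (opensCone E cE j O).π.app k ≫ ((opensDiagramι E j O).app k ≫ b) =
      (cE.π.app j ⁻¹ᵁ O).ι ≫ (cE.π.app k.left ≫ b) :=
  (Category.assoc _ _ _).symm.trans
    ((congrArg (fun t => t ≫ b) (opensCone_π_ι E cE j O k)).trans (Category.assoc _ _ _))

lemma opensDiagram_map_ι_assoc' (j : J) (O : (E.obj j).Opens) {k l : Over j} (f : k ⟶ l)
    {M : Scheme.{u}} (b : E.obj l.left ⟶ M) :
    (opensDiagram E j O).map f ≫ ((opensDiagramι E j O).app l ≫ b) =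
      (opensDiagramι E j O).app k ≫ (E.map f.left ≫ b) :=
  (Category.assoc _ _ _).symm.trans
    ((congrArg (fun t => t ≫ b) ((opensDiagramι E j O).naturality f)).trans
      (Category.assoc _ _ _))

variable [∀ {i j : J} (f : i ⟶ j), IsAffineHom (E.map f)]
  [∀ j, NoetherianSpace (E.obj j)] [∀ j, QuasiSeparatedSpace (E.obj j)]
  (hcE : IsLimit cE) [LocallyOfFinitePresentation N.hom]
  (z : cE.pt ⟶ S) (hz : ∀ j, cE.π.app j ≫ tE.app j = z)

include hcE hz in
theorem unO_limit (h : ∀ j, UnO U N (tE.app j)) : UnO U N z := by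
  intro A hA v₁ v₂ hv₁ hv₂ h12
  have ha₁ : cE.π ≫ tE = (Functor.const J).map (v₁ ≫ N.hom) := by
    apply NatTrans.ext; funext j
    change cE.π.app j ≫ tE.app j = v₁ ≫ N.hom
    rw [hz, hv₁]
  have ha₂ : cE.π ≫ tE = (Functor.const J).map (v₂ ≫ N.hom) := by
    apply NatTrans.ext; funext j
    change cE.π.app j ≫ tE.app j = v₂ ≫ N.hom
    rw [hz, hv₂]
  obtain ⟨j₁, a₁, ha₁π, ha₁N⟩ := Scheme.exists_π_app_comp_eq_of_locallyOfFinitePresentation
    E tE N.hom cE hcE v₁ ha₁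
  obtain ⟨j₂, a₂, ha₂π, ha₂N⟩ := Scheme.exists_π_app_comp_eq_of_locallyOfFinitePresentation
    E tE N.hom cE hcE v₂ ha₂
  obtain ⟨j, φ₁, φ₂, -⟩ : ∃ (j : J) (_ : j ⟶ j₁) (_ : j ⟶ j₂), True :=
    ⟨IsCofiltered.min j₁ j₂, IsCofiltered.minToLeft j₁ j₂, IsCofiltered.minToRight j₁ j₂, trivial⟩
  obtain ⟨b₁, hb₁π, hb₁N⟩ : ∃ b₁ : E.obj j ⟶ N.left, cE.π.app j ≫ b₁ = v₁ ∧
      b₁ ≫ N.hom = tE.app j :=
    ⟨E.map φ₁ ≫ a₁, by rw [← Category.assoc, cE.w, ha₁π], by rw [Category.assoc, ha₁N, tE_nat]⟩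
  obtain ⟨b₂, hb₂π, hb₂N⟩ : ∃ b₂ : E.obj j ⟶ N.left, cE.π.app j ≫ b₂ = v₂ ∧
      b₂ ≫ N.hom = tE.app j :=
    ⟨E.map φ₂ ≫ a₂, by rw [← Category.assoc, cE.w, ha₂π], by rw [Category.assoc, ha₂N, tE_nat]⟩
  -- the restricted diagram
  haveI : ∀ k, CompactSpace ((opensDiagram E j (tE.app j ⁻¹ᵁ U)).obj k) := fun k =>
    isCompact_iff_compactSpace.mp (NoetherianSpace.isCompact _)
  have e1 : (opensCone E cE j (tE.app j ⁻¹ᵁ U)).π.app (Over.mk (𝟙 j)) ≫
        ((opensDiagramι E j (tE.app j ⁻¹ᵁ U)).app (Over.mk (𝟙 j)) ≫ b₁) =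
      (cE.π.app j ⁻¹ᵁ (tE.app j ⁻¹ᵁ U)).ι ≫ (cE.π.app j ≫ b₁) :=
    opensCone_π_ι_assoc' E cE j _ (Over.mk (𝟙 j)) b₁
  have e2 : (opensCone E cE j (tE.app j ⁻¹ᵁ U)).π.app (Over.mk (𝟙 j)) ≫
        ((opensDiagramι E j (tE.app j ⁻¹ᵁ U)).app (Over.mk (𝟙 j)) ≫ b₂) =
      (cE.π.app j ⁻¹ᵁ (tE.app j ⁻¹ᵁ U)).ι ≫ (cE.π.app j ≫ b₂) :=
    opensCone_π_ι_assoc' E cE j _ (Over.mk (𝟙 j)) b₂
  have hA' : cE.π.app j ⁻¹ᵁ (tE.app j ⁻¹ᵁ U) = A := by
    rw [hA, ← Scheme.Hom.comp_preimage, hz]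
  have h12' : (cE.π.app j ⁻¹ᵁ (tE.app j ⁻¹ᵁ U)).ι ≫ (cE.π.app j ≫ b₁) =
      (cE.π.app j ⁻¹ᵁ (tE.app j ⁻¹ᵁ U)).ι ≫ (cE.π.app j ≫ b₂) := by
    rw [hb₁π, hb₂π, hA']
    exact h12
  have hab : (opensCone E cE j (tE.app j ⁻¹ᵁ U)).π.app (Over.mk (𝟙 j)) ≫
        ((opensDiagramι E j (tE.app j ⁻¹ᵁ U)).app (Over.mk (𝟙 j)) ≫ b₁) =
      (opensCone E cE j (tE.app j ⁻¹ᵁ U)).π.app (Over.mk (𝟙 j)) ≫
        ((opensDiagramι E j (tE.app j ⁻¹ᵁ U)).app (Over.mk (𝟙 j)) ≫ b₂) :=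
    e1.trans (h12'.trans e2.symm)
  obtain ⟨k, hik, hk⟩ := Scheme.exists_hom_comp_eq_comp_of_locallyOfFiniteType
    (opensDiagram E j (tE.app j ⁻¹ᵁ U)) (tO E tE U j) N.hom
    (opensCone E cE j (tE.app j ⁻¹ᵁ U)) (isLimitOpensCone E cE hcE j (tE.app j ⁻¹ᵁ U))
    (i := Over.mk (𝟙 j))
    ((opensDiagramι E j (tE.app j ⁻¹ᵁ U)).app (Over.mk (𝟙 j)) ≫ b₁)
    ((opensDiagramι E j (tE.app j ⁻¹ᵁ U)).app (Over.mk (𝟙 j)) ≫ b₂)
    ((Category.assoc _ _ _).trans (congrArg (fun t =>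
      (opensDiagramι E j (tE.app j ⁻¹ᵁ U)).app (Over.mk (𝟙 j)) ≫ t) hb₁N)).symm
    ((Category.assoc _ _ _).trans (congrArg (fun t =>
      (opensDiagramι E j (tE.app j ⁻¹ᵁ U)).app (Over.mk (𝟙 j)) ≫ t) hb₂N)).symm hab
  have e1' : (opensDiagram E j (tE.app j ⁻¹ᵁ U)).map hik ≫
        ((opensDiagramι E j (tE.app j ⁻¹ᵁ U)).app (Over.mk (𝟙 j)) ≫ b₁) =
      (E.map k.hom ⁻¹ᵁ (tE.app j ⁻¹ᵁ U)).ι ≫ (E.map hik.left ≫ b₁) :=
    opensDiagram_map_ι_assoc' E j _ hik b₁
  have e2' : (opensDiagram E j (tE.app j ⁻¹ᵁ U)).map hik ≫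
        ((opensDiagramι E j (tE.app j ⁻¹ᵁ U)).app (Over.mk (𝟙 j)) ≫ b₂) =
      (E.map k.hom ⁻¹ᵁ (tE.app j ⁻¹ᵁ U)).ι ≫ (E.map hik.left ≫ b₂) :=
    opensDiagram_map_ι_assoc' E j _ hik b₂
  have hk' : (E.map k.hom ⁻¹ᵁ (tE.app j ⁻¹ᵁ U)).ι ≫ (E.map hik.left ≫ b₁) =
      (E.map k.hom ⁻¹ᵁ (tE.app j ⁻¹ᵁ U)).ι ≫ (E.map hik.left ≫ b₂) :=
    e1'.symm.trans (hk.trans e2')
  have hO : E.map k.hom ⁻¹ᵁ (tE.app j ⁻¹ᵁ U) = tE.app k.left ⁻¹ᵁ U := by
    rw [← Scheme.Hom.comp_preimage, tE_nat]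
  have hn : E.map hik.left ≫ tE.app j = tE.app k.left := tE_nat E tE hik.left
  have hw := h k.left _ hO (E.map hik.left ≫ b₁) (E.map hik.left ≫ b₂)
    (by rw [Category.assoc, hb₁N, hn]) (by rw [Category.assoc, hb₂N, hn]) hk'
  have hw' : cE.π.app k.left ≫ E.map hik.left = cE.π.app j := cE.w hik.left
  calc v₁ = cE.π.app j ≫ b₁ := hb₁π.symm
    _ = cE.π.app k.left ≫ (E.map hik.left ≫ b₁) := by rw [← hw', Category.assoc]
    _ = cE.π.app k.left ≫ (E.map hik.left ≫ b₂) := by rw [hw]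
    _ = cE.π.app j ≫ b₂ := by rw [← hw', Category.assoc]
    _ = v₂ := hb₂π

include hcE hz in
theorem exO_limit (h : ∀ j, ExO U N (tE.app j)) : ExO U N z := by
  intro A hA w hw
  obtain ⟨j⟩ := IsCofiltered.nonempty (C := J)
  have hA' : A = cE.π.app j ⁻¹ᵁ (tE.app j ⁻¹ᵁ U) := by
    rw [hA, ← Scheme.Hom.comp_preimage, hz]
  subst hA'
  haveI : ∀ k, CompactSpace ((opensDiagram E j (tE.app j ⁻¹ᵁ U)).obj k) := fun k =>
    isCompact_iff_compactSpace.mp (NoetherianSpace.isCompact _)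
  haveI : ∀ k, QuasiSeparatedSpace ((opensDiagram E j (tE.app j ⁻¹ᵁ U)).obj k) := fun k => by
    have : QuasiSeparatedSpace (E.map k.hom ⁻¹ᵁ (tE.app j ⁻¹ᵁ U)).toScheme :=
      quasiSeparatedSpace_of_quasiSeparated (E.map k.hom ⁻¹ᵁ (tE.app j ⁻¹ᵁ U)).ι
    exact this
  have ha : (opensCone E cE j (tE.app j ⁻¹ᵁ U)).π ≫ tO E tE U j =
      (Functor.const (Over j)).map (w ≫ N.hom) := by
    apply NatTrans.ext; funext k
    change (opensCone E cE j (tE.app j ⁻¹ᵁ U)).π.app k ≫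
      ((opensDiagramι E j (tE.app j ⁻¹ᵁ U)).app k ≫ tE.app k.left) = w ≫ N.hom
    exact (opensCone_π_ι_assoc' E cE j _ k (tE.app k.left)).trans (by rw [hz, hw])
  obtain ⟨k, g, hgπ, hgN⟩ := Scheme.exists_π_app_comp_eq_of_locallyOfFinitePresentation
    (opensDiagram E j (tE.app j ⁻¹ᵁ U)) (tO E tE U j) N.hom
    (opensCone E cE j (tE.app j ⁻¹ᵁ U)) (isLimitOpensCone E cE hcE j (tE.app j ⁻¹ᵁ U)) w ha
  have hO : E.map k.hom ⁻¹ᵁ (tE.app j ⁻¹ᵁ U) = tE.app k.left ⁻¹ᵁ U := by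
    rw [← Scheme.Hom.comp_preimage, tE_nat]
  obtain ⟨v, hvN, hvι⟩ := h k.left _ hO g hgN
  refine ⟨cE.π.app k.left ≫ v, by rw [Category.assoc, hvN, hz], ?_⟩
  exact (opensCone_π_ι_assoc' E cE j _ k v).symm.trans
    ((congrArg (fun t => (opensCone E cE j (tE.app j ⁻¹ᵁ U)).π.app k ≫ t) hvι).trans hgπ)

end Abstract

section Stalk

variable [IsLocallyNoetherian S] (U : S.Opens) (N : Over S) [Smooth N.hom]
  (hN : ∀ Y : Over S, Smooth Y.hom →
    Function.Bijective (fun f : Y ⟶ N => (Over.pullback U.ι).map f))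
  (s : S)

include hN in
omit [IsLocallyNoetherian S] [Smooth N.hom] in
lemma ext_of_smooth {Z : Scheme.{u}} (z : Z ⟶ S) [Smooth z] : Ext U.ι (Over.mk z) N :=
  (bijective_map_iff U.ι (Over.mk z) N).1 (hN (Over.mk z) (by change Smooth z; infer_instance))

/-- `fromSpecStalk`, with source written as the point of the limit cone. -/
noncomputable def σ : (specCone s).pt ⟶ S := S.fromSpecStalk s

omit [IsLocallyNoetherian S] in
lemma π_σ (i : (AffNhd s)ᵒᵖ) : (specCone s).π.app i ≫ toX s i = σ s := π_toX s i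

/-- structure maps `V_j ⟶ D_j ⟶ S`. -/
noncomputable def tS {i : (AffNhd s)ᵒᵖ} {Vi : Scheme.{u}} (fi : Vi ⟶ (specDiagram s).obj i) :
    bcDiagram (specDiagram s) i fi ⟶ (Functor.const (Over i)).obj S where
  app j := dSnd (specDiagram s) i fi j ≫ toX s j.left
  naturality j k f := by
    change (bcDiagram (specDiagram s) i fi).map f ≫ dSnd (specDiagram s) i fi k ≫ toX s k.left =
      (dSnd (specDiagram s) i fi j ≫ toX s j.left) ≫ 𝟙 S
    rw [Category.comp_id, map_dSnd_assoc, map_toX]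

include hN in
theorem exO_unO_of_fp {V : Scheme.{u}} (y : V ⟶ (specCone s).pt) [Smooth y] [QuasiCompact y]
    [QuasiSeparated y] :
    ExO U N (y ≫ σ s) ∧ UnO U N (y ≫ σ s) := by
  have inst : ∀ {i j : (AffNhd s)ᵒᵖ} (f : i ⟶ j), IsAffineHom ((specDiagram s).map f) :=
    fun f => inferInstance
  obtain ⟨i, Vi, fi, g, h1, h2, h3, h4, pb⟩ :=
    exists_model_of_qcqsDescent (D := specDiagram s) (c := specCone s)
      Groth.Agent.S5940.qcqsDescent_smooth (specIsLimit s) y (inferInstance : Smooth y)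
  haveI := h1; haveI := h2; haveI := h3
  haveI : Smooth fi := h4
  haveI : CompactSpace Vi := QuasiCompact.compactSpace_of_compactSpace fi
  haveI : QuasiSeparatedSpace Vi := quasiSeparatedSpace_of_quasiSeparated fi
  have hsm : ∀ j : Over i, Smooth ((tS s fi).app j) := by
    intro j
    haveI : Smooth (dSnd (specDiagram s) i fi j) :=
      MorphismProperty.of_isPullback (P := @Smooth) (isPullback_d (specDiagram s) i fi j) h4
    change Smooth (dSnd (specDiagram s) i fi j ≫ toX s j.left)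
    infer_instance
  haveI hNoeth : ∀ j : Over i, NoetherianSpace ((bcDiagram (specDiagram s) i fi).obj j) := by
    intro j
    haveI : IsLocallyNoetherian ((specDiagram s).obj j.left) :=
      isLocallyNoetherian_of_isOpenImmersion (toX s j.left)
    haveI : LocallyOfFinitePresentation (dSnd (specDiagram s) i fi j) :=
      MorphismProperty.of_isPullback (P := @LocallyOfFinitePresentation)
        (isPullback_d (specDiagram s) i fi j) h1
    haveI : IsLocallyNoetherian ((bcDiagram (specDiagram s) i fi).obj j) :=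
      LocallyOfFiniteType.isLocallyNoetherian (dSnd (specDiagram s) i fi j)
    haveI : IsNoetherian ((bcDiagram (specDiagram s) i fi).obj j) := {}
    infer_instance
  have hz : ∀ j : Over i, (bcCone i pb).π.app j ≫ (tS s fi).app j = y ≫ σ s := by
    intro j
    change bcπ i pb j ≫ dSnd (specDiagram s) i fi j ≫ toX s j.left = y ≫ σ s
    rw [bcπ_snd_assoc, π_σ]
  have hlfp : LocallyOfFinitePresentation N.hom := inferInstance
  refine ⟨exO_limit (bcDiagram (specDiagram s) i fi) (bcCone i pb) (tS s fi) U N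
      (isLimitBcCone i pb (specIsLimit s)) (y ≫ σ s) hz (fun j => ?_),
    unO_limit (bcDiagram (specDiagram s) i fi) (bcCone i pb) (tS s fi) U N
      (isLimitBcCone i pb (specIsLimit s)) (y ≫ σ s) hz (fun j => ?_)⟩
  · haveI := hsm j
    exact exO_of_ext _ (ext_of_smooth U N hN ((tS s fi).app j))
  · haveI := hsm j
    exact unO_of_ext _ (ext_of_smooth U N hN ((tS s fi).app j))

include hN in
theorem unO_stalk {T : Scheme.{u}} (y : T ⟶ (specCone s).pt) [Smooth y] :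
    UnO U N (y ≫ σ s) := by
  intro A hA v₁ v₂ hv₁ hv₂ h12
  haveI : IsAffine (specCone s).pt := by
    change IsAffine (Spec _); infer_instance
  apply T.affineCover.hom_ext
  intro x
  have hun := (exO_unO_of_fp U N hN s (T.affineCover.f x ≫ y)).2
  have e : (T.affineCover.f x ⁻¹ᵁ A).ι ≫ T.affineCover.f x =
      (T.affineCover.f x).resLE A (T.affineCover.f x ⁻¹ᵁ A) le_rfl ≫ A.ι :=
    (Scheme.Hom.resLE_comp_ι _ _).symm
  refine hun (T.affineCover.f x ⁻¹ᵁ A) ?_ _ _ ?_ ?_ ?_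
  · rw [hA, ← Scheme.Hom.comp_preimage, Category.assoc]
  · simp only [Category.assoc, hv₁]
  · simp only [Category.assoc, hv₂]
  · rw [← Category.assoc, ← Category.assoc, e, Category.assoc, Category.assoc, h12]

include hN in
theorem exO_stalk {T : Scheme.{u}} (y : T ⟶ (specCone s).pt) [Smooth y] :
    ExO U N (y ≫ σ s) := by
  intro A hA w hw
  haveI : IsAffine (specCone s).pt := by
    change IsAffine (Spec _); infer_instance
  -- local pieces
  have key : ∀ x : T.affineCover.I₀, ∃ gx : T.affineCover.X x ⟶ N.left,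
      gx ≫ N.hom = T.affineCover.f x ≫ y ≫ σ s ∧
      ∀ {M : Scheme.{u}} (a : M ⟶ A.toScheme) (b : M ⟶ T.affineCover.X x),
        a ≫ A.ι = b ≫ T.affineCover.f x → b ≫ gx = a ≫ w := by
    intro x
    have hex := (exO_unO_of_fp U N hN s (T.affineCover.f x ≫ y)).1
    obtain ⟨v, hv1, hv2⟩ := hex (T.affineCover.f x ⁻¹ᵁ A)
      (by rw [hA, ← Scheme.Hom.comp_preimage, Category.assoc])
      ((T.affineCover.f x).resLE A (T.affineCover.f x ⁻¹ᵁ A) le_rfl ≫ w)
      (by simp only [Category.assoc, hw, Scheme.Hom.resLE_comp_ι_assoc])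
    refine ⟨v, by rw [hv1, Category.assoc], ?_⟩
    intro M a b hab
    have hrange : Set.range b ⊆ Set.range (T.affineCover.f x ⁻¹ᵁ A).ι := by
      rw [Scheme.Opens.range_ι]
      rintro _ ⟨m, rfl⟩
      have h1 : (b ≫ T.affineCover.f x) m ∈ Set.range A.ι := by
        rw [← hab]
        exact ⟨a m, (Scheme.Hom.comp_apply _ _ _).symm⟩
      rw [Scheme.Opens.range_ι, Scheme.Hom.comp_apply] at h1
      exact h1
    have hl : IsOpenImmersion.lift (T.affineCover.f x ⁻¹ᵁ A).ι b hrange ≫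
        (T.affineCover.f x ⁻¹ᵁ A).ι = b := IsOpenImmersion.lift_fac _ _ _
    have ha : a = IsOpenImmersion.lift (T.affineCover.f x ⁻¹ᵁ A).ι b hrange ≫
        (T.affineCover.f x).resLE A (T.affineCover.f x ⁻¹ᵁ A) le_rfl := by
      rw [← cancel_mono A.ι, Category.assoc, Scheme.Hom.resLE_comp_ι, reassoc_of% hl, hab]
    rw [← hl, Category.assoc, hv2, ← Category.assoc, ← ha]
  choose g hg1 hg2 using key
  have hcompat : ∀ x x', pullback.fst (T.affineCover.f x) (T.affineCover.f x') ≫ g x =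
      pullback.snd (T.affineCover.f x) (T.affineCover.f x') ≫ g x' := by
    intro x x'
    have hun := unO_stalk U N hN s
      (pullback.fst (T.affineCover.f x) (T.affineCover.f x') ≫ T.affineCover.f x ≫ y)
    obtain ⟨B, hB⟩ : ∃ B : (pullback (T.affineCover.f x) (T.affineCover.f x')).Opens,
        B = ((pullback.fst (T.affineCover.f x) (T.affineCover.f x') ≫ T.affineCover.f x ≫ y) ≫
          σ s) ⁻¹ᵁ U := ⟨_, rfl⟩
    refine hun B hB _ _ ?_ ?_ ?_
    · simp only [Category.assoc, hg1]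
    · simp only [Category.assoc, hg1, pullback.condition_assoc]
    · have hBA : B ≤ (pullback.fst (T.affineCover.f x) (T.affineCover.f x') ≫
          T.affineCover.f x) ⁻¹ᵁ A := by
        rw [hB, hA, ← Scheme.Hom.comp_preimage]
        exact le_of_eq (by simp only [Category.assoc])
      obtain ⟨a, ha⟩ : ∃ a : B.toScheme ⟶ A.toScheme, a ≫ A.ι =
          B.ι ≫ pullback.fst (T.affineCover.f x) (T.affineCover.f x') ≫ T.affineCover.f x :=
        ⟨_, Scheme.Hom.resLE_comp_ι _ hBA⟩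
      rw [← Category.assoc, ← Category.assoc,
        hg2 x a (B.ι ≫ pullback.fst _ _) (by rw [ha, Category.assoc]),
        hg2 x' a (B.ι ≫ pullback.snd _ _) (by rw [ha, Category.assoc, pullback.condition])]
  refine ⟨T.affineCover.glueMorphisms g hcompat, ?_, ?_⟩
  · apply T.affineCover.hom_ext
    intro x
    rw [Scheme.Cover.ι_glueMorphisms_assoc, hg1]
  · apply (T.affineCover.pullback₁ A.ι).hom_ext
    intro (x : T.affineCover.I₀)
    change pullback.fst A.ι (T.affineCover.f x) ≫ A.ι ≫ _ =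
      pullback.fst A.ι (T.affineCover.f x) ≫ w
    rw [pullback.condition_assoc, Scheme.Cover.ι_glueMorphisms]
    exact hg2 x (pullback.fst _ _) (pullback.snd _ _) pullback.condition

include hN in
/-- The unique extension property for smooth schemes over `Spec 𝒪_{S,s}`, regarded as
`S`-schemes. -/
theorem ext_stalk (Y' : Over (Spec (S.presheaf.stalk s))) [hY : Smooth Y'.hom] :
    Ext U.ι (Over.mk (Y'.hom ≫ S.fromSpecStalk s)) N :=
  ext_of_exO_unO (Z := Over.mk (Y'.hom ≫ S.fromSpecStalk s))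
    (@exO_stalk _ _ U N _ hN s Y'.left Y'.hom hY)
    (@unO_stalk _ _ U N _ hN s Y'.left Y'.hom hY)

end Stalk

end Groth.Agent.Lib.Helper26.NeronStalk
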