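import Mathlib
import Groth.Agent.Lib.Helper26PairHzUnique

/-!
# Transport of pair henselizations along isomorphisms; kernels of flat quotients (helper26)
-/

set_option autoImplicit false
universe u

namespace Groth.Agent.Lib.Helper26.PairHz

/-- Transport of a henselization along an isomorphism of the target. -/
theorem isPairHenselization_of_algEquiv {A : Type u} [CommRing A] {I : Ideal A} {B B' : Type u}
    [CommRing B] [CommRing B'] [Algebra A B] [Algebra A B']
    (hB : Hens2.IsPairHenselization A I B) (e : B ≃ₐ[A] B') :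
    Hens2.IsPairHenselization A I B' := by
  constructor
  · letI : Algebra B B' := (e : B →+* B').toAlgebra
    haveI : Algebra.IsIntegral B B' := Algebra.isIntegral_of_surjective e.surjective
    haveI := hB.1
    have h := Groth.Agent.S0526.result B (I.map (algebraMap A B)) B'
    have hid : (I.map (algebraMap A B)).map (algebraMap B B') = I.map (algebraMap A B') := by
      rw [Ideal.map_map]
      congr 1
      ext a
      exact e.commutes a
    rwa [hid] at h
  · intro C _ J f hC hf
    obtain ⟨g, hg, hguniq⟩ := hB.2 C J f hC hf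
    refine ⟨g.comp (e.symm : B' →+* B), ?_, ?_⟩
    · ext a
      simp [← hg]
    · intro g' hg'
      have : g'.comp (e : B →+* B') = g := hguniq _ (by ext a; simp [← hg'])
      ext b'
      simp [← this]

/-- If `H → B` is a surjection of `A`-algebras with `B` flat over `A`, then the kernel `K`
satisfies `K ∩ IH ⊆ IH · K`. -/
theorem mem_mul_ker_of_flat {A H B : Type u} [CommRing A] [CommRing H] [CommRing B] [Algebra A H]
    [Algebra A B] [Module.Flat A B] (φ : H →ₐ[A] B) (hφ : Function.Surjective φ) (I : Ideal A)
    (x : H) (hxK : φ x = 0) (hxI : x ∈ I.map (algebraMap A H)) :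
    x ∈ I.map (algebraMap A H) * RingHom.ker φ := by
  classical
  have hx' : x ∈ (I • ⊤ : Submodule A H) := by
    rw [Ideal.smul_top_eq_map]; exact hxI
  have htop : (⊤ : Submodule A H) = Submodule.span A (Set.range (id : H → H)) := by simp
  rw [htop, Submodule.mem_ideal_smul_span_iff_exists_sum] at hx'
  obtain ⟨a, haI, hsum⟩ := hx'
  have hsum' : ∑ i : a.support, a i.1 • i.1 = x := by
    rw [← hsum, Finsupp.sum]
    exact Finset.sum_coe_sort a.support (fun h => a h • h)
  have hrel : ∑ i : a.support, a i.1 • φ i.1 = 0 := by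
    rw [← hxK, ← hsum', map_sum]
    simp [map_smul]
  obtain ⟨k, c, y, hy, hc⟩ := Module.Flat.isTrivialRelation_of_sum_smul_eq_zero
    (f := fun i : a.support => a i.1) (x := fun i : a.support => φ i.1) hrel
  choose η hη using fun j => hφ (y j)
  have hk : ∀ i : a.support, i.1 - ∑ j, c i j • η j ∈ RingHom.ker φ := by
    intro i
    have hyi : φ i.1 = ∑ j, c i j • y j := hy i
    rw [RingHom.mem_ker, map_sub, map_sum, hyi, sub_eq_zero]
    simp [map_smul, hη]
  have hx : x = ∑ i : a.support, a i.1 • (i.1 - ∑ j, c i j • η j) := by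
    rw [← hsum']
    simp only [smul_sub, Finset.sum_sub_distrib]
    rw [eq_comm, sub_eq_self]
    simp_rw [Finset.smul_sum, smul_smul]
    rw [Finset.sum_comm]
    apply Finset.sum_eq_zero
    intro j _
    rw [← Finset.sum_smul, hc j, zero_smul]
  rw [hx]
  refine Ideal.sum_mem _ (fun i _ => ?_)
  rw [Algebra.smul_def]
  exact Ideal.mul_mem_mul (Ideal.mem_map_of_mem _ (haI i.1)) (hk i)

/-- A surjection from a Zariski pair `(H, IH)` onto a flat `A`-algebra with finitely generated kernel
contained in `IH` is injective. -/
theorem injective_of_flat_of_ker_le {A H B : Type u} [CommRing A] [CommRing H] [CommRing B]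
    [Algebra A H] [Algebra A B] [Module.Flat A B] (φ : H →ₐ[A] B) (hφ : Function.Surjective φ)
    (I : Ideal A) (hjac : I.map (algebraMap A H) ≤ Ideal.jacobson ⊥) (hfg : (RingHom.ker φ).FG)
    (hker : RingHom.ker φ ≤ I.map (algebraMap A H)) : Function.Injective φ := by
  have hK : RingHom.ker φ = ⊥ := by
    apply Submodule.eq_bot_of_le_smul_of_le_jacobson_bot (I.map (algebraMap A H)) _ hfg _ hjac
    intro x hx
    rw [smul_eq_mul]
    exact mem_mul_ker_of_flat φ hφ I x hx (hker hx)
  exact (RingHom.injective_iff_ker_eq_bot _).mpr hK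

end Groth.Agent.Lib.Helper26.PairHz
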