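import Mathlib.RingTheory.MvPolynomial.Basic
import Mathlib.RingTheory.Ideal.Operations
import Mathlib.FieldTheory.Perfect
import Mathlib.Algebra.MvPolynomial.Rename
import Mathlib.RingTheory.MvPolynomial.Ideal

/-!
Helper lemmas for the nodal quartic statements S17409 and S17414: coefficients of
`G₂ z² + 2 G₃ z + G₄` in three variables and membership in powers of the ideal of variables.
-/

set_option autoImplicit false

namespace Groth.Agent.Lib.Helper26

open MvPolynomial

variable {K : Type*} [Field K]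

lemma mapDomain_castSucc_two (m : Fin 2 →₀ ℕ) :
    (m.mapDomain (Fin.castSucc : Fin 2 → Fin 3)) 2 = 0 := by
  apply Finsupp.mapDomain_of_notMem_range
  rintro ⟨i, hi⟩
  fin_cases i <;> simp at hi

lemma coeff_quartic_castSucc (G₂ G₃ G₄ : MvPolynomial (Fin 2) K) (m : Fin 2 →₀ ℕ) :
    coeff (m.mapDomain Fin.castSucc)
      (rename (Fin.castSucc : Fin 2 → Fin 3) G₂ * X (2 : Fin 3) ^ 2
        + 2 * rename (Fin.castSucc : Fin 2 → Fin 3) G₃ * X (2 : Fin 3)
        + rename (Fin.castSucc : Fin 2 → Fin 3) G₄) = coeff m G₄ := by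
  have h2 := mapDomain_castSucc_two m
  have hinj : Function.Injective (Fin.castSucc : Fin 2 → Fin 3) := Fin.castSucc_injective 2
  rw [coeff_add, coeff_add, coeff_rename_mapDomain _ hinj]
  have e1 : coeff (m.mapDomain Fin.castSucc)
      (rename (Fin.castSucc : Fin 2 → Fin 3) G₂ * X (2 : Fin 3) ^ 2) = 0 := by
    rw [X_pow_eq_monomial, coeff_mul_monomial']
    rw [if_neg]
    intro hle
    have := hle 2
    simp [h2] at this
  have e2 : coeff (m.mapDomain Fin.castSucc)
      (2 * rename (Fin.castSucc : Fin 2 → Fin 3) G₃ * X (2 : Fin 3)) = 0 := by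
    rw [coeff_mul_X']
    rw [if_neg]
    simp [h2]
  rw [e1, e2]; simp

lemma coeff_quartic_single (G₂ G₃ G₄ : MvPolynomial (Fin 2) K) :
    coeff (Finsupp.single (2 : Fin 3) 1)
      (rename (Fin.castSucc : Fin 2 → Fin 3) G₂ * X (2 : Fin 3) ^ 2
        + 2 * rename (Fin.castSucc : Fin 2 → Fin 3) G₃ * X (2 : Fin 3)
        + rename (Fin.castSucc : Fin 2 → Fin 3) G₄) = 2 * coeff 0 G₃ := by
  have hinj : Function.Injective (Fin.castSucc : Fin 2 → Fin 3) := Fin.castSucc_injective 2
  rw [coeff_add, coeff_add]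
  have e1 : coeff (Finsupp.single (2 : Fin 3) 1)
      (rename (Fin.castSucc : Fin 2 → Fin 3) G₂ * X (2 : Fin 3) ^ 2) = 0 := by
    rw [X_pow_eq_monomial, coeff_mul_monomial']
    rw [if_neg]
    intro hle
    have := hle 2
    simp at this
  have e2 : coeff (Finsupp.single (2 : Fin 3) 1)
      (2 * rename (Fin.castSucc : Fin 2 → Fin 3) G₃ * X (2 : Fin 3)) = 2 * coeff 0 G₃ := by
    rw [coeff_mul_X']
    rw [if_pos (by simp)]
    simp only [tsub_self]
    have : coeff 0 (rename (Fin.castSucc : Fin 2 → Fin 3) G₃) = coeff 0 G₃ := by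
      simpa using coeff_rename_mapDomain (Fin.castSucc : Fin 2 → Fin 3) hinj G₃ 0
    rw [two_mul, two_mul, coeff_add, this]
  have e3 : coeff (Finsupp.single (2 : Fin 3) 1)
      (rename (Fin.castSucc : Fin 2 → Fin 3) G₄) = 0 := by
    apply coeff_rename_eq_zero
    intro u hu
    exfalso
    have := congrArg (fun f => f 2) hu
    simp [mapDomain_castSucc_two] at this
  rw [e1, e2, e3]; simp

/-- If the quartic lies in the square of the ideal of the origin then so does the discriminant. -/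
theorem discr_mem_sq (h2 : (2 : K) ≠ 0) (G₂ G₃ G₄ : MvPolynomial (Fin 2) K)
    (h : rename (Fin.castSucc : Fin 2 → Fin 3) G₂ * X (2 : Fin 3) ^ 2
        + 2 * rename (Fin.castSucc : Fin 2 → Fin 3) G₃ * X (2 : Fin 3)
        + rename (Fin.castSucc : Fin 2 → Fin 3) G₄
        ∈ (Ideal.span (Set.range (X : Fin 3 → MvPolynomial (Fin 3) K))) ^ 2) :
    G₃ ^ 2 - G₂ * G₄ ∈ (Ideal.span (Set.range (X : Fin 2 → MvPolynomial (Fin 2) K))) ^ 2 := by
  have h' := (mem_pow_idealOfVars_iff' 2 _).mp h
  have hG4 : G₄ ∈ (idealOfVars (Fin 2) K) ^ 2 := by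
    rw [mem_pow_idealOfVars_iff']
    intro m hm
    rw [← coeff_quartic_castSucc G₂ G₃ G₄ m]
    apply h'
    simpa [Finsupp.degree_mapDomain] using hm
  have hG3 : G₃ ∈ (idealOfVars (Fin 2) K) ^ 1 := by
    rw [mem_pow_idealOfVars_iff']
    intro m hm
    have hm0 : m = 0 := by
      rw [← Finsupp.degree_eq_zero_iff]; simpa using hm
    subst hm0
    have := h' (Finsupp.single (2 : Fin 3) 1) (by simp)
    rw [coeff_quartic_single] at this
    exact (mul_eq_zero.mp this).resolve_left h2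
  rw [pow_one] at hG3
  apply Ideal.sub_mem
  · rw [pow_two, pow_two]
    exact Ideal.mul_mem_mul hG3 hG3
  · exact Ideal.mul_mem_left _ _ hG4

lemma mem_idealOfVars_iff {σ : Type*} (p : MvPolynomial σ K) :
    p ∈ idealOfVars σ K ↔ constantCoeff p = 0 := by
  rw [← pow_one (idealOfVars σ K), mem_pow_idealOfVars_iff']
  constructor
  · intro h
    exact h 0 (by simp)
  · intro h m hm
    have hm0 : m = 0 := by
      rw [← Finsupp.degree_eq_zero_iff]; simpa using hm
    subst hm0
    exact h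

lemma rename_mem_pow (n : ℕ) (p : MvPolynomial (Fin 2) K) (hp : p ∈ idealOfVars (Fin 2) K ^ n) :
    rename (Fin.castSucc : Fin 2 → Fin 3) p ∈ idealOfVars (Fin 3) K ^ n := by
  have hle : Ideal.map (rename (Fin.castSucc : Fin 2 → Fin 3)).toRingHom (idealOfVars (Fin 2) K) ≤
      idealOfVars (Fin 3) K := by
    rw [Ideal.map_span, Ideal.span_le]
    rintro _ ⟨_, ⟨i, rfl⟩, rfl⟩
    simp only [AlgHom.toRingHom_eq_coe, RingHom.coe_coe, rename_X]
    exact Ideal.subset_span ⟨_, rfl⟩
  have := Ideal.mem_map_of_mem (rename (Fin.castSucc : Fin 2 → Fin 3)).toRingHom hp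
  rw [Ideal.map_pow] at this
  exact Ideal.pow_right_mono hle n this

end Groth.Agent.Lib.Helper26
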