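import Mathlib
import Groth.Agent.S19892
import Groth.Agent.Lib.Helper10ValSq

/-!
helper26: refined valuative criterion, field version: to lift valuative squares over `f : Y ⟶ X`
whose generic point lands in a generization... it suffices to have unique lifts for valuation
subrings of a fixed field `F` with a given `hF : Spec F ⟶ Y`, provided `hF pt ⤳ i₁ pt`.
-/

set_option autoImplicit false
universe u
open CategoryTheory AlgebraicGeometry

namespace Groth.Agent.Lib.Helper26.RefinedVal

open CategoryTheory.Limits IsLocalRing Groth.Agent.S19892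

lemma exists_valuationRing_of_specializes_field {Y : Scheme.{u}} (F : Type u) [Field F]
    (hF : Spec (CommRingCat.of F) ⟶ Y) (x : Y) (hspec : hF (closedPoint F) ⤳ x) :
    ∃ (B : ValuationSubring F) (ψ : Spec (CommRingCat.of ↥B) ⟶ Y),
      ψ (closedPoint ↥B) = x ∧ Spec.map (CommRingCat.ofHom B.subtype) ≫ ψ = hF := by
  let t : Y.presheaf.stalk x ⟶ CommRingCat.of F :=
    Y.presheaf.stalkSpecializes hspec ≫ Scheme.stalkClosedPointTo hF
  obtain ⟨B, hB, hB_local⟩ := exists_factor_valuationRing t.hom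
  let tB : Y.presheaf.stalk x ⟶ CommRingCat.of ↥B :=
    CommRingCat.ofHom (t.hom.codRestrict _ hB)
  refine ⟨B, Spec.map tB ≫ Y.fromSpecStalk x, ?_, ?_⟩
  · have : Spec.map tB (closedPoint ↥B) = closedPoint (Y.presheaf.stalk x) :=
      comap_closedPoint (S := B) (t.hom.codRestrict B.toSubring hB)
    change Y.fromSpecStalk x (Spec.map tB (closedPoint ↥B)) = x
    rw [this, Y.fromSpecStalk_closedPoint]
  · rw [← Spec.map_comp_assoc]
    have : tB ≫ CommRingCat.ofHom B.subtype = t := by ext a; rfl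
    rw [this, Spec.map_comp, Category.assoc, Scheme.SpecMap_stalkSpecializes_fromSpecStalk,
      Scheme.Spec_stalkClosedPointTo_fromSpecStalk]

theorem exists_lift_of_refined_field {X Y : Scheme.{u}} (f : Y ⟶ X) (F : Type u) [Field F]
    (hF : Spec (CommRingCat.of F) ⟶ Y)
    (H : ∀ (R : ValuationSubring F) (φ : Spec (CommRingCat.of ↥R) ⟶ X),
        Spec.map (CommRingCat.ofHom R.subtype) ≫ φ = hF ≫ f →
        ∃! φ' : Spec (CommRingCat.of ↥R) ⟶ Y,
          Spec.map (CommRingCat.ofHom R.subtype) ≫ φ' = hF ∧ φ' ≫ f = φ)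
    (A K : Type u) [CommRing A] [IsDomain A] [ValuationRing A] [Field K] [Algebra A K]
    [IsFractionRing A K]
    (i₁ : Spec (CommRingCat.of K) ⟶ Y) (i₂ : Spec (CommRingCat.of A) ⟶ X)
    (w : i₁ ≫ f = Spec.map (CommRingCat.ofHom (algebraMap A K)) ≫ i₂)
    (hgen : hF (closedPoint F) ⤳ i₁ (closedPoint K)) :
    ∃ l : Spec (CommRingCat.of A) ⟶ Y,
      Spec.map (CommRingCat.ofHom (algebraMap A K)) ≫ l = i₁ ∧ l ≫ f = i₂ := by
  classical
  set x : Y := i₁ (closedPoint K) with hx
  obtain ⟨ιK, hιK⟩ := exists_residueField_hom K i₁ x rfl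
  obtain ⟨B, ψ, hψx, hψ⟩ := exists_valuationRing_of_specializes_field F hF x hgen
  have hres_pt : (Spec.map (CommRingCat.ofHom (IsLocalRing.residue ↥B)) ≫ ψ)
      (closedPoint (IsLocalRing.ResidueField ↥B)) = x := by
    have : Spec.map (CommRingCat.ofHom (IsLocalRing.residue ↥B))
        (closedPoint (IsLocalRing.ResidueField ↥B)) = closedPoint ↥B :=
      comap_closedPoint (IsLocalRing.residue ↥B)
    change ψ (Spec.map (CommRingCat.ofHom (IsLocalRing.residue ↥B))
        (closedPoint (IsLocalRing.ResidueField ↥B))) = x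
    rw [this, hψx]
  obtain ⟨ιB, hιB⟩ := exists_residueField_hom (IsLocalRing.ResidueField ↥B) _ x hres_pt
  obtain ⟨L, _, j₁, j₂, hj⟩ := exists_common_field (Y.residueField x) K
    (IsLocalRing.ResidueField ↥B) ιK.hom ιB.hom
  obtain ⟨A', hA'1, hA'2⟩ := exists_valuationSubring_dominating A K L j₁
  let π : ↥B →+* L := j₂.comp (IsLocalRing.residue ↥B)
  have hπ : ∀ b : ↥B, π b = 0 ↔ ¬ IsUnit b := by
    intro b
    change j₂ (IsLocalRing.residue ↥B b) = 0 ↔ _
    rw [map_eq_zero, IsLocalRing.residue_eq_zero_iff, IsLocalRing.mem_maximalIdeal, mem_nonunits_iff]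
  set C : ValuationSubring F := compositeVal B π hπ A' with hC
  have hCB : C.toSubring ≤ B.toSubring := by
    intro t ht
    exact ((mem_compositeVal B π hπ A' t).mp ht).1
  let inclCB : ↥C →+* ↥B := Subring.inclusion hCB
  have hinclπ : ∀ c : ↥C, π (inclCB c) ∈ A' := fun c =>
    ((mem_compositeVal B π hπ A' c.1).mp c.2).2
  -- the point `s` and the two stalk maps
  set s : X := i₂ (closedPoint A) with hs
  let α : X.presheaf.stalk s ⟶ CommRingCat.of A := Scheme.stalkClosedPointTo i₂
  have hα : Spec.map α ≫ X.fromSpecStalk s = i₂ := Scheme.Spec_stalkClosedPointTo_fromSpecStalk i₂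
  have hfx : f x ⤳ s := by
    have h1 : f x = i₂ (Spec.map (CommRingCat.ofHom (algebraMap A K)) (closedPoint K)) := by
      change (i₁ ≫ f) (closedPoint K) = (Spec.map (CommRingCat.ofHom (algebraMap A K)) ≫ i₂) _
      rw [w]
    rw [h1]
    exact (specializes_closedPoint (R := A) _).map i₂.continuous
  obtain ⟨β, hβ⟩ := Groth.Agent.Lib.Helper10.ValSq.exists_factor_fromSpecStalk
    (S := CommRingCat.of ↥B) (ψ ≫ f) s (by
      change f (ψ (closedPoint ↥B)) ⤳ s
      rw [hψx]; exact hfx)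
  -- compatibility of `β` and `α` in `L`
  have hcompat : β ≫ CommRingCat.ofHom π =
      α ≫ CommRingCat.ofHom (j₁.comp (algebraMap A K)) := by
    apply Spec.map_injective
    rw [← cancel_mono (X.fromSpecStalk s)]
    have e1 : Spec.map (β ≫ CommRingCat.ofHom π) ≫ X.fromSpecStalk s =
        Spec.map (CommRingCat.ofHom j₂) ≫ Spec.map ιB ≫ Y.fromSpecResidueField x ≫ f := by
      have : CommRingCat.ofHom π =
          CommRingCat.ofHom (IsLocalRing.residue ↥B) ≫ CommRingCat.ofHom j₂ := rfl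
      rw [this, Spec.map_comp, Spec.map_comp, Category.assoc, Category.assoc, ← hβ,
        ← Category.assoc (Spec.map (CommRingCat.ofHom (IsLocalRing.residue ↥B))), hιB]
      simp only [Category.assoc]
    have e2 : Spec.map (α ≫ CommRingCat.ofHom (j₁.comp (algebraMap A K))) ≫ X.fromSpecStalk s =
        Spec.map (CommRingCat.ofHom j₁) ≫ Spec.map ιK ≫ Y.fromSpecResidueField x ≫ f := by
      have : CommRingCat.ofHom (j₁.comp (algebraMap A K)) =
          CommRingCat.ofHom (algebraMap A K) ≫ CommRingCat.ofHom j₁ := rfl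
      rw [this, Spec.map_comp, Spec.map_comp, Category.assoc, Category.assoc, hα, ← w, hιK]
      simp only [Category.assoc]
    rw [e1, e2, ← Category.assoc, ← Category.assoc (Spec.map (CommRingCat.ofHom j₁)),
      ← Spec.map_comp, ← Spec.map_comp]
    congr 2
    ext a
    exact (congrArg (fun m => m a) hj).symm
  -- the map `γ : 𝒪_{X,s} → C`
  have hγmem : ∀ a : X.presheaf.stalk s, ((β.hom a : ↥B) : F) ∈ C := by
    intro a
    rw [hC, mem_compositeVal]
    refine ⟨(β.hom a).2, ?_⟩
    have := congrArg (fun m => m.hom a) hcompat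
    change π (β.hom a) = j₁ (algebraMap A K (α.hom a)) at this
    change π (β.hom a) ∈ A'
    rw [this]
    exact hA'1 _
  let γ : X.presheaf.stalk s ⟶ CommRingCat.of ↥C :=
    CommRingCat.ofHom ((B.subtype.comp β.hom).codRestrict C.toSubring hγmem)
  have hγβ : γ ≫ CommRingCat.ofHom inclCB = β := by
    ext a
    rfl
  have hsubCB : CommRingCat.ofHom C.subtype =
      CommRingCat.ofHom inclCB ≫ CommRingCat.ofHom B.subtype := rfl
  let φC : Spec (CommRingCat.of ↥C) ⟶ X := Spec.map γ ≫ X.fromSpecStalk s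
  have hinclφC : Spec.map (CommRingCat.ofHom inclCB) ≫ φC = ψ ≫ f := by
    rw [hβ, ← hγβ, Spec.map_comp, Category.assoc]
  have hφC : Spec.map (CommRingCat.ofHom C.subtype) ≫ φC =
      hF ≫ f := by
    rw [hsubCB, Spec.map_comp, Category.assoc, hinclφC, ← Category.assoc, hψ]
  obtain ⟨φ', ⟨hφ'1, hφ'2⟩, -⟩ := H C φC hφC
  -- Step 1: restriction of `φ'` to `Spec B` is `ψ`
  have hstep1 : Spec.map (CommRingCat.ofHom inclCB) ≫ φ' = ψ := by
    have hψf : Spec.map (CommRingCat.ofHom B.subtype) ≫ (ψ ≫ f) =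
        hF ≫ f := by
      rw [← Category.assoc, hψ]
    obtain ⟨φ'', -, huniq⟩ := H B (ψ ≫ f) hψf
    have h1 := huniq (Spec.map (CommRingCat.ofHom inclCB) ≫ φ') ⟨by
      rw [← Category.assoc, ← Spec.map_comp, ← hsubCB, hφ'1], by
      rw [Category.assoc, hφ'2, hinclφC]⟩
    have h2 := huniq ψ ⟨hψ, rfl⟩
    rw [h1, h2]
  -- the closed point of `C` and the stalk map of `φ'`
  set y₀ : Y := φ' (closedPoint ↥C) with hy₀
  let ε : Y.presheaf.stalk y₀ ⟶ CommRingCat.of ↥C := Scheme.stalkClosedPointTo φ'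
  have hε : Spec.map ε ≫ Y.fromSpecStalk y₀ = φ' := Scheme.Spec_stalkClosedPointTo_fromSpecStalk φ'
  have hxy : x ⤳ y₀ := by
    have h1 : x = φ' (Spec.map (CommRingCat.ofHom inclCB) (closedPoint ↥B)) := by
      rw [← hψx, ← hstep1]; rfl
    rw [h1]
    exact (specializes_closedPoint (R := ↥C) _).map φ'.continuous
  let ρ : Y.presheaf.stalk y₀ ⟶ CommRingCat.of K :=
    Y.presheaf.stalkSpecializes hxy ≫ Y.residue x ≫ ιK
  have hρfrom : Spec.map ρ ≫ Y.fromSpecStalk y₀ = Spec.map ιK ≫ Y.fromSpecResidueField x := by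
    simp only [ρ, Spec.map_comp, Category.assoc,
      Scheme.SpecMap_stalkSpecializes_fromSpecStalk, Scheme.fromSpecResidueField]
  have hρL : ρ ≫ CommRingCat.ofHom j₁ = ε ≫ CommRingCat.ofHom (π.comp inclCB) := by
    apply Spec.map_injective
    rw [← cancel_mono (Y.fromSpecStalk y₀)]
    have e1 : Spec.map (ρ ≫ CommRingCat.ofHom j₁) ≫ Y.fromSpecStalk y₀ =
        Spec.map (CommRingCat.ofHom j₁) ≫ Spec.map ιK ≫ Y.fromSpecResidueField x := by
      rw [Spec.map_comp, Category.assoc, hρfrom]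
    have e2 : Spec.map (ε ≫ CommRingCat.ofHom (π.comp inclCB)) ≫ Y.fromSpecStalk y₀ =
        Spec.map (CommRingCat.ofHom j₂) ≫ Spec.map ιB ≫ Y.fromSpecResidueField x := by
      have : CommRingCat.ofHom (π.comp inclCB) = CommRingCat.ofHom inclCB ≫
          CommRingCat.ofHom (IsLocalRing.residue ↥B) ≫ CommRingCat.ofHom j₂ := rfl
      rw [this, Spec.map_comp, Spec.map_comp, Spec.map_comp, Category.assoc, Category.assoc,
        Category.assoc, hε, hstep1, hιB]
    rw [e1, e2, ← Category.assoc, ← Category.assoc (Spec.map (CommRingCat.ofHom j₂)),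
      ← Spec.map_comp, ← Spec.map_comp]
    congr 2
    ext a
    exact congrArg (fun m => m a) hj
  have hρA : ∀ a : Y.presheaf.stalk y₀, ρ.hom a ∈ (algebraMap A K).range := by
    intro a
    obtain ⟨a', ha'⟩ := hA'2 (ρ.hom a) (by
      have := congrArg (fun m => m.hom a) hρL
      change j₁ (ρ.hom a) = π (inclCB (ε.hom a)) at this
      rw [this]
      exact hinclπ _)
    exact ⟨a', ha'⟩
  have hinj : Function.Injective (algebraMap A K) := FaithfulSMul.algebraMap_injective A K
  let e : A ≃+* (algebraMap A K).range :=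
    RingEquiv.ofBijective (algebraMap A K).rangeRestrict
      ⟨fun a b hab => hinj (congrArg Subtype.val hab), (algebraMap A K).rangeRestrict_surjective⟩
  let δ : Y.presheaf.stalk y₀ ⟶ CommRingCat.of A :=
    CommRingCat.ofHom (e.symm.toRingHom.comp (ρ.hom.codRestrict (algebraMap A K).range hρA))
  have hδ : δ ≫ CommRingCat.ofHom (algebraMap A K) = ρ := by
    ext a
    have := e.apply_symm_apply (ρ.hom.codRestrict (algebraMap A K).range hρA a)
    exact congrArg Subtype.val this
  let l : Spec (CommRingCat.of A) ⟶ Y := Spec.map δ ≫ Y.fromSpecStalk y₀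
  have hl1 : Spec.map (CommRingCat.ofHom (algebraMap A K)) ≫ l = i₁ := by
    rw [hιK, ← hρfrom, ← hδ, Spec.map_comp, Category.assoc]
  refine ⟨l, hl1, ?_⟩
  -- (ii)
  have hfy₀ : f y₀ ⤳ s := by
    have h1 : f y₀ = X.fromSpecStalk s (Spec.map γ (closedPoint ↥C)) := by
      change (φ' ≫ f) (closedPoint ↥C) = _
      rw [hφ'2]; rfl
    rw [h1]
    have : X.fromSpecStalk s (Spec.map γ (closedPoint ↥C)) ∈ Set.range (X.fromSpecStalk s) :=
      ⟨_, rfl⟩
    rw [Scheme.range_fromSpecStalk] at this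
    exact this
  have hspec : (l ≫ f) (closedPoint A) ⤳ s := by
    have h1 : l (closedPoint A) ⤳ y₀ := by
      have : l (closedPoint A) ∈ Set.range (Y.fromSpecStalk y₀) := ⟨Spec.map δ (closedPoint A), rfl⟩
      rw [Scheme.range_fromSpecStalk] at this
      exact this
    exact (h1.map f.continuous).trans hfy₀
  obtain ⟨θ, hθ⟩ := Groth.Agent.Lib.Helper10.ValSq.exists_factor_fromSpecStalk
    (S := CommRingCat.of A) (l ≫ f) s hspec
  refine eq_of_factor_mono (X.fromSpecStalk s) A K (l ≫ f) i₂ θ α hθ hα.symm ?_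
  rw [← Category.assoc, hl1, w]


end Groth.Agent.Lib.Helper26.RefinedVal
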