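import Mathlib
import Groth.Agent.Lib.Helper26DvrSpec
import Groth.Agent.Lib.Helper19RegPres
import Groth.Agent.Lib.Helper5RLR

/-!
Specialisation of closed subgroups from the fraction field to the residue field of a regular local
domain, by induction on the dimension (helper26): quotient by `x ∈ m \ m²`, the localisation at
`(x)` being a discrete valuation ring.
-/

set_option autoImplicit false
universe u
open CategoryTheory MonoidalCategory CartesianMonoidalCategory MonObj GrpObj AlgebraicGeometry
  CategoryTheory.Limits

namespace Groth.Agent.Lib.Helper26.RegInd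

open Groth.Agent.Lib.Helper26.DvrSpec

theorem isDVR_localization_span_singleton (A : Type u) [CommRing A] [IsDomain A]
    [IsNoetherianRing A] (π : A) (hπ0 : π ≠ 0) [hP : (Ideal.span {π}).IsPrime]
    [IsDomain (Localization.AtPrime (Ideal.span {π}))] :
    IsDiscreteValuationRing (Localization.AtPrime (Ideal.span {π})) := by
  haveI : IsNoetherianRing (Localization.AtPrime (Ideal.span {π})) :=
    IsLocalization.isNoetherianRing (Ideal.span {π}).primeCompl _ inferInstance
  have hinj : Function.Injective (algebraMap A (Localization.AtPrime (Ideal.span {π}))) :=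
    IsLocalization.injective _ (Ideal.primeCompl_le_nonZeroDivisors (Ideal.span {π}))
  have hmax : IsLocalRing.maximalIdeal (Localization.AtPrime (Ideal.span {π})) =
      Ideal.span {algebraMap A (Localization.AtPrime (Ideal.span {π})) π} := by
    rw [← IsLocalization.AtPrime.map_eq_maximalIdeal (Ideal.span {π}), Ideal.map_span,
      Set.image_singleton]
  have hnf : ¬ IsField (Localization.AtPrime (Ideal.span {π})) := by
    rw [IsLocalRing.isField_iff_maximalIdeal_eq, hmax, Ideal.span_singleton_eq_bot]
    exact (map_ne_zero_iff _ hinj).mpr hπ0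
  refine ((IsDiscreteValuationRing.TFAE _ hnf).out 0 4).mpr ?_
  rw [hmax]
  exact ⟨⟨_, rfl⟩⟩

lemma spec_tower (A B C : Type u) [CommRing A] [CommRing B] [CommRing C] [Algebra A B]
    [Algebra B C] [Algebra A C] [IsScalarTower A B C] :
    Spec.map (CommRingCat.ofHom (algebraMap B C)) ≫ Spec.map (CommRingCat.ofHom (algebraMap A B)) =
      Spec.map (CommRingCat.ofHom (algebraMap A C)) := by
  rw [← Spec.map_comp, ← CommRingCat.ofHom_comp, ← IsScalarTower.algebraMap_eq]

theorem step_aux (kd : Kind) {S₁ : Scheme.{u}} (G : Over S₁) [GrpObj G] [Flat G.hom]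
    [LocallyOfFinitePresentation G.hom]
    (hsep : ∀ b n, kd = Kind.ser b n → IsSeparated G.hom) (d : ℕ)
    (A : Type u) [CommRing A] [IsDomain A]
    (K : Type u) [Field K] [Algebra A K] [IsFractionRing A K]
    (k : Type u) [Field k] [Algebra A k] (hk : Function.Surjective (algebraMap A k))
    (a : Spec (CommRingCat.of A) ⟶ S₁) [Mono a]
    (P : Ideal A) [P.IsPrime] [IsDomain (Localization.AtPrime P)]
    [IsDiscreteValuationRing (Localization.AtPrime P)]
    (hPk : ∀ y ∈ P, algebraMap A k y = 0)
    (IH : ∀ [Algebra (A ⧸ P) k] [IsScalarTower A (A ⧸ P) k],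
      Function.Surjective (algebraMap (A ⧸ P) k) →
      ∀ (a' : Spec (CommRingCat.of (A ⧸ P)) ⟶ S₁) [Mono a'],
        Has kd G d (Spec.map (CommRingCat.ofHom (algebraMap (A ⧸ P) P.ResidueField)) ≫ a') →
        Has kd G d (Spec.map (CommRingCat.ofHom (algebraMap (A ⧸ P) k)) ≫ a'))
    (h : Has kd G d (Spec.map (CommRingCat.ofHom (algebraMap A K)) ≫ a)) :
    Has kd G d (Spec.map (CommRingCat.ofHom (algebraMap A k)) ≫ a) := by
  -- the discrete valuation ring
  have hunits : ∀ y : P.primeCompl, IsUnit (algebraMap A K y) := by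
    intro y
    refine isUnit_iff_ne_zero.mpr ?_
    rw [Ne, map_eq_zero_iff _ (IsFractionRing.injective A K)]
    intro hy
    exact y.2 (hy ▸ P.zero_mem)
  letI algRK : Algebra (Localization.AtPrime P) K :=
    (IsLocalization.lift (M := P.primeCompl) (g := algebraMap A K) hunits).toAlgebra
  haveI : IsScalarTower A (Localization.AtPrime P) K :=
    IsScalarTower.of_algebraMap_eq (fun y => (IsLocalization.lift_eq hunits y).symm)
  haveI : IsFractionRing (Localization.AtPrime P) K :=
    IsFractionRing.isFractionRing_of_isDomain_of_isLocalization P.primeCompl _ _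
  have hκ : Function.Surjective (algebraMap (Localization.AtPrime P) P.ResidueField) :=
    IsLocalRing.residue_surjective
  haveI : IsPreimmersion (Spec.map (CommRingCat.ofHom (algebraMap A (Localization.AtPrime P)))) :=
    IsPreimmersion.of_isLocalization P.primeCompl
  haveI : Mono (Spec.map (CommRingCat.ofHom (algebraMap A (Localization.AtPrime P))) ≫ a) :=
    mono_comp _ _
  have h1 : Has kd G d (Spec.map (CommRingCat.ofHom (algebraMap (Localization.AtPrime P) K)) ≫
      Spec.map (CommRingCat.ofHom (algebraMap A (Localization.AtPrime P))) ≫ a) := by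
    rw [← Category.assoc, spec_tower A (Localization.AtPrime P) K]
    exact h
  have h2 := dvr_step kd G hsep d (Localization.AtPrime P) K P.ResidueField hκ _ h1
  -- the quotient
  letI algk : Algebra (A ⧸ P) k := (Ideal.Quotient.lift P (algebraMap A k) hPk).toAlgebra
  haveI : IsScalarTower A (A ⧸ P) k := IsScalarTower.of_algebraMap_eq (fun y => rfl)
  have hk' : Function.Surjective (algebraMap (A ⧸ P) k) := by
    intro z
    obtain ⟨y, rfl⟩ := hk z
    exact ⟨Ideal.Quotient.mk P y, rfl⟩
  haveI : IsClosedImmersion (Spec.map (CommRingCat.ofHom (algebraMap A (A ⧸ P)))) :=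
    IsClosedImmersion.spec_of_surjective _ Ideal.Quotient.mk_surjective
  haveI : Mono (Spec.map (CommRingCat.ofHom (algebraMap A (A ⧸ P))) ≫ a) := mono_comp _ _
  have h3 : Has kd G d (Spec.map (CommRingCat.ofHom (algebraMap (A ⧸ P) P.ResidueField)) ≫
      Spec.map (CommRingCat.ofHom (algebraMap A (A ⧸ P))) ≫ a) := by
    rw [← Category.assoc, spec_tower A (A ⧸ P) P.ResidueField,
      ← spec_tower A (Localization.AtPrime P) P.ResidueField, Category.assoc]
    exact h2
  have h4 := IH hk' _ h3
  rw [← Category.assoc, spec_tower A (A ⧸ P) k] at h4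
  exact h4

theorem reg_step (kd : Kind) {S₁ : Scheme.{u}} (G : Over S₁) [GrpObj G] [Flat G.hom]
    [LocallyOfFinitePresentation G.hom]
    (hsep : ∀ b n, kd = Kind.ser b n → IsSeparated G.hom) (d : ℕ) :
    ∀ (n : ℕ) (A : Type u) [CommRing A] [IsDomain A] [IsRegularLocalRing A],
      (IsLocalRing.maximalIdeal A).spanFinrank = n →
      ∀ (K : Type u) [Field K] [Algebra A K] [IsFractionRing A K]
        (k : Type u) [Field k] [Algebra A k], Function.Surjective (algebraMap A k) →
        ∀ (a : Spec (CommRingCat.of A) ⟶ S₁) [Mono a],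
          Has kd G d (Spec.map (CommRingCat.ofHom (algebraMap A K)) ≫ a) →
          Has kd G d (Spec.map (CommRingCat.ofHom (algebraMap A k)) ≫ a) := by
  intro n
  induction n using Nat.strong_induction_on with
  | _ n ih =>
  intro A _ _ _ hn K _ _ _ k _ _ hk a _ h
  by_cases hA : IsField A
  · -- the base case: `A` is a field
    have hbijK : Function.Bijective (algebraMap A K) :=
      ⟨IsFractionRing.injective A K, IsFractionRing.surjective_iff_isField.mpr hA⟩
    have hinjk : Function.Injective (algebraMap A k) := by
      rw [injective_iff_map_eq_zero]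
      intro x hx
      by_contra hx0
      obtain ⟨y, hy⟩ := hA.mul_inv_cancel hx0
      have := congrArg (algebraMap A k) hy
      rw [map_mul, hx, zero_mul, map_one] at this
      exact zero_ne_one this
    obtain ⟨e, he⟩ : ∃ e : K ≃+* k, ∀ x, e (algebraMap A K x) = algebraMap A k x := by
      refine ⟨(RingEquiv.ofBijective (algebraMap A K) hbijK).symm.trans
        (RingEquiv.ofBijective (algebraMap A k) ⟨hinjk, hk⟩), fun x => ?_⟩
      have hx : (RingEquiv.ofBijective (algebraMap A K) hbijK).symm (algebraMap A K x) = x :=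
        (RingEquiv.symm_apply_eq _).mpr rfl
      change (RingEquiv.ofBijective (algebraMap A k) ⟨hinjk, hk⟩)
        ((RingEquiv.ofBijective (algebraMap A K) hbijK).symm (algebraMap A K x)) = _
      rw [hx]
      rfl
    have hε : Spec.map e.toCommRingCatIso.hom ≫ Spec.map (CommRingCat.ofHom (algebraMap A K)) =
        Spec.map (CommRingCat.ofHom (algebraMap A k)) := by
      rw [← Spec.map_comp]
      congr 1
      exact CommRingCat.hom_ext (RingHom.ext fun x => he x)
    have h' := Has.of_iso (Spec.map e.toCommRingCatIso.hom) h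
    rw [← Category.assoc, hε] at h'
    exact h'
  · -- the inductive step
    have hm : IsLocalRing.maximalIdeal A ≠ ⊥ := fun h0 =>
      hA (IsLocalRing.isField_iff_maximalIdeal_eq.mpr h0)
    have hnle : ¬ IsLocalRing.maximalIdeal A ≤ IsLocalRing.maximalIdeal A ^ 2 := by
      intro hle
      apply hm
      refine Submodule.eq_bot_of_le_smul_of_le_jacobson_bot (IsLocalRing.maximalIdeal A) _
        (IsLocalRing.maximalIdeal A).fg_of_isNoetherianRing ?_ ?_
      · rw [smul_eq_mul, ← pow_two]
        exact hle
      · rw [IsLocalRing.jacobson_eq_maximalIdeal ⊥ bot_ne_top]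
    obtain ⟨x, hxm, hx2⟩ := SetLike.not_le_iff_exists.mp hnle
    have hx0 : x ≠ 0 := by
      rintro rfl
      exact hx2 (Ideal.zero_mem _)
    have hxle : Ideal.span ({x} : Set A) ≤ IsLocalRing.maximalIdeal A := by
      rw [Ideal.span_le, Set.singleton_subset_iff]
      exact hxm
    haveI hloc : IsLocalRing (A ⧸ Ideal.span ({x} : Set A)) :=
      Groth.Agent.Lib.Helper19.isLocalRing_quot_of_le_maximalIdeal _ hxle
    obtain ⟨hreg, hlt⟩ := Groth.Agent.Lib.Helper19.isRegularLocalRing_quot_singleton hxm hx2
    haveI := hreg
    haveI hdom : IsDomain (A ⧸ Ideal.span ({x} : Set A)) :=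
      Groth.Agent.Lib.Helper5.isDomain_of_isRegularLocalRing _
    haveI hP : (Ideal.span ({x} : Set A)).IsPrime :=
      (Ideal.Quotient.isDomain_iff_prime _).mp hdom
    haveI : IsDomain (Localization.AtPrime (Ideal.span ({x} : Set A))) :=
      IsLocalization.isDomain_localization (Ideal.primeCompl_le_nonZeroDivisors _)
    haveI : IsDiscreteValuationRing (Localization.AtPrime (Ideal.span ({x} : Set A))) :=
      isDVR_localization_span_singleton A x hx0
    have hker : RingHom.ker (algebraMap A k) = IsLocalRing.maximalIdeal A := by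
      haveI := RingHom.ker_isMaximal_of_surjective (algebraMap A k) hk
      exact IsLocalRing.eq_maximalIdeal this
    have hPk : ∀ y ∈ Ideal.span ({x} : Set A), algebraMap A k y = 0 := by
      intro y hy
      have : y ∈ RingHom.ker (algebraMap A k) := by rw [hker]; exact hxle hy
      exact this
    have hlt' : (IsLocalRing.maximalIdeal (A ⧸ Ideal.span ({x} : Set A))).spanFinrank < n := by
      omega
    refine step_aux kd G hsep d A K k hk a (Ideal.span {x}) hPk ?_ h
    intro _ _ hk' a' _ h'
    exact ih _ hlt' (A ⧸ Ideal.span ({x} : Set A)) rfl _ k hk' a' h'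

/-- specialisation from the fraction field to the residue field of a regular local domain. -/
theorem main (kd : Kind) (A : Type u) [CommRing A] [IsDomain A] [IsRegularLocalRing A]
    (K : Type u) [Field K] [Algebra A K] [IsFractionRing A K]
    (G : Over (Spec (CommRingCat.of A))) [GrpObj G] [Flat G.hom]
    [LocallyOfFinitePresentation G.hom]
    (hsep : ∀ b n, kd = Kind.ser b n → IsSeparated G.hom) (d : ℕ)
    (h : Has kd G d (Spec.map (CommRingCat.ofHom (algebraMap A K)))) :
    Has kd G d (Spec.map (CommRingCat.ofHom (algebraMap A (IsLocalRing.ResidueField A)))) := by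
  have hk : Function.Surjective (algebraMap A (IsLocalRing.ResidueField A)) :=
    IsLocalRing.residue_surjective
  have h' := reg_step kd G hsep d _ A rfl K (IsLocalRing.ResidueField A) hk (𝟙 _)
    (by rwa [Category.comp_id])
  rwa [Category.comp_id] at h'

end Groth.Agent.Lib.Helper26.RegInd
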