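import Mathlib
import Groth.Agent.Lib.Helper26FibFlatSch
import Groth.Agent.Lib.Helper26RelFibFlatAlg

set_option autoImplicit false
set_option linter.style.haveILetI false
universe u
open CategoryTheory CategoryTheory.Limits AlgebraicGeometry TensorProduct IsLocalRing

namespace Groth.Agent.Lib.Helper26.RelFibFlat

open Groth.Agent.Lib.Helper26.FibFlatSch Groth.Agent.Lib.Helper2.PullbackSec

variable {X Y S : Scheme.{u}} (g : X ⟶ Y) (h : Y ⟶ S)

/-- the morphism induced on the fibres over `s`. -/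
noncomputable abbrev fibMap (s : S) : (g ≫ h).fiber s ⟶ h.fiber s :=
  pullback.lift (pullback.fst (g ≫ h) (S.fromSpecResidueField s) ≫ g)
    (pullback.snd (g ≫ h) (S.fromSpecResidueField s))
    ((Category.assoc _ _ _).trans pullback.condition)

theorem fibMap_fiberι (s : S) : fibMap g h s ≫ h.fiberι s = (g ≫ h).fiberι s ≫ g :=
  pullback.lift_fst _ _ _

theorem fiberι_fibMap_apply (s : S) (z : (g ≫ h).fiber s) :
    h.fiberι s (fibMap g h s z) = g ((g ≫ h).fiberι s z) := by
  rw [← Scheme.Hom.comp_apply, fibMap_fiberι, Scheme.Hom.comp_apply]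

/-- transport of the ideal `𝔪_s O_{Y,y}` along an equality of points. -/
theorem comap_stalkCongr_map_maximalIdeal {y₁ y₂ : Y} (e : y₁ = y₂) :
    Ideal.comap (Y.presheaf.stalkCongr (.of_eq e)).hom.hom
      ((maximalIdeal (S.presheaf.stalk (h y₂))).map (h.stalkMap y₂).hom) =
    (maximalIdeal (S.presheaf.stalk (h y₁))).map (h.stalkMap y₁).hom := by
  subst e
  have : (Y.presheaf.stalkCongr (Inseparable.of_eq (rfl : y₁ = y₁))).hom = 𝟙 _ := by
    simp [TopCat.Presheaf.stalkCongr]
  rw [this]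
  rfl

/-- the ring map `O_{Y, g x} → O_{Y_s, g_s z}` for `x` the image of `z`. -/
noncomputable def beta (s : S) (z : (g ≫ h).fiber s) :
    Y.presheaf.stalk (g ((g ≫ h).fiberι s z)) ⟶ (h.fiber s).presheaf.stalk (fibMap g h s z) :=
  (Y.presheaf.stalkCongr (.of_eq (fiberι_fibMap_apply g h s z).symm)).hom ≫
    (h.fiberι s).stalkMap (fibMap g h s z)

theorem beta_surjective (s : S) (z : (g ≫ h).fiber s) :
    Function.Surjective (beta g h s z).hom := by
  unfold beta
  rw [CommRingCat.hom_comp, RingHom.coe_comp]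
  refine ((h.fiberι s).stalkMap_surjective (fibMap g h s z)).comp ?_
  exact (ConcreteCategory.bijective_of_isIso
    (Y.presheaf.stalkCongr (.of_eq (fiberι_fibMap_apply g h s z).symm)).hom).2

theorem ker_beta (s : S) (z : (g ≫ h).fiber s) :
    RingHom.ker (beta g h s z).hom =
      (maximalIdeal (S.presheaf.stalk (h (g ((g ≫ h).fiberι s z))))).map
        (h.stalkMap (g ((g ≫ h).fiberι s z))).hom := by
  unfold beta
  rw [CommRingCat.hom_comp, ← RingHom.comap_ker, ker_stalkMap_fiberι h s (fibMap g h s z)]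
  exact comap_stalkCongr_map_maximalIdeal h (fiberι_fibMap_apply g h s z).symm

theorem stalkCongr_hom_comp_eq {y₁ y₂ : Y} (e : y₁ = y₂) (e' : y₂ = y₁) {R : CommRingCat.{u}}
    (φ : Y.presheaf.stalk y₁ ⟶ R) :
    (Y.presheaf.stalkCongr (.of_eq e)).hom ≫ (Y.presheaf.stalkCongr (.of_eq e')).hom ≫ φ = φ := by
  subst e
  simp [TopCat.Presheaf.stalkCongr]

theorem beta_comp (s : S) (z : (g ≫ h).fiber s) :
    beta g h s z ≫ (fibMap g h s).stalkMap z =
      g.stalkMap ((g ≫ h).fiberι s z) ≫ ((g ≫ h).fiberι s).stalkMap z := by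
  unfold beta
  rw [Category.assoc, ← Scheme.Hom.stalkMap_comp, ← Scheme.Hom.stalkMap_comp,
    Scheme.Hom.stalkMap_congr_hom _ _ (fibMap_fiberι g h s) z]
  exact stalkCongr_hom_comp_eq (fiberι_fibMap_apply g h s z).symm (fiberι_fibMap_apply g h s z) _

/-- **the fibre module on the fibre scheme**: `F_s` is flat over `Y_s` at `z` iff `F_x / 𝔪_s F_x` is flat over
`O_{Y,y} / 𝔪_s O_{Y,y}`. -/
theorem isFlatOverAt_fibMap_iff (F : X.Modules) [F.IsQuasicoherent] (s : S) (z : (g ≫ h).fiber s) :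
    letI := FlatMod.moduleStalkOver g F ((g ≫ h).fiberι s z)
    FlatMod.IsFlatOverAt (fibMap g h s) ((Scheme.Modules.pullback ((g ≫ h).fiberι s)).obj F) z ↔
      Module.Flat (↑(Y.presheaf.stalk (g ((g ≫ h).fiberι s z))) ⧸
          Ideal.map (h.stalkMap (g ((g ≫ h).fiberι s z))).hom
            (maximalIdeal ↑(S.presheaf.stalk (h (g ((g ≫ h).fiberι s z))))))
        (↑(F.presheaf.stalk ((g ≫ h).fiberι s z)) ⧸
          (Ideal.map (h.stalkMap (g ((g ≫ h).fiberι s z))).hom
            (maximalIdeal ↑(S.presheaf.stalk (h (g ((g ≫ h).fiberι s z))))) •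
            (⊤ : Submodule ↑(Y.presheaf.stalk (g ((g ≫ h).fiberι s z)))
              ↑(F.presheaf.stalk ((g ≫ h).fiberι s z))))) := by
  unfold FlatMod.IsFlatOverAt
  letI aBC : Algebra (Y.presheaf.stalk (g ((g ≫ h).fiberι s z)))
      (X.presheaf.stalk ((g ≫ h).fiberι s z)) := (g.stalkMap ((g ≫ h).fiberι s z)).hom.toAlgebra
  letI aBB' : Algebra (Y.presheaf.stalk (g ((g ≫ h).fiberι s z)))
      ((h.fiber s).presheaf.stalk (fibMap g h s z)) := (beta g h s z).hom.toAlgebra
  letI aCC' : Algebra (X.presheaf.stalk ((g ≫ h).fiberι s z))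
      (((g ≫ h).fiber s).presheaf.stalk z) := (((g ≫ h).fiberι s).stalkMap z).hom.toAlgebra
  letI aB'C' : Algebra ((h.fiber s).presheaf.stalk (fibMap g h s z))
      (((g ≫ h).fiber s).presheaf.stalk z) := ((fibMap g h s).stalkMap z).hom.toAlgebra
  letI aBC' : Algebra (Y.presheaf.stalk (g ((g ≫ h).fiberι s z)))
      (((g ≫ h).fiber s).presheaf.stalk z) :=
    ((((g ≫ h).fiberι s).stalkMap z).hom.comp (g.stalkMap ((g ≫ h).fiberι s z)).hom).toAlgebra
  haveI t1 : IsScalarTower (Y.presheaf.stalk (g ((g ≫ h).fiberι s z)))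
      (X.presheaf.stalk ((g ≫ h).fiberι s z)) (((g ≫ h).fiber s).presheaf.stalk z) :=
    IsScalarTower.of_algebraMap_eq (fun a => rfl)
  haveI t2 : IsScalarTower (Y.presheaf.stalk (g ((g ≫ h).fiberι s z)))
      ((h.fiber s).presheaf.stalk (fibMap g h s z)) (((g ≫ h).fiber s).presheaf.stalk z) :=
    IsScalarTower.of_algebraMap_eq (fun a => by
      have := congrArg (fun k => k.hom a) (beta_comp g h s z)
      exact this.symm)
  letI mBM : Module (Y.presheaf.stalk (g ((g ≫ h).fiberι s z)))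
      (F.presheaf.stalk ((g ≫ h).fiberι s z)) := FlatMod.moduleStalkOver g F ((g ≫ h).fiberι s z)
  haveI t3 : IsScalarTower (Y.presheaf.stalk (g ((g ≫ h).fiberι s z)))
      (X.presheaf.stalk ((g ≫ h).fiberι s z)) (F.presheaf.stalk ((g ≫ h).fiberι s z)) :=
    IsScalarTower.of_algebraMap_smul (fun b n => rfl)
  letI mB'M' : Module ((h.fiber s).presheaf.stalk (fibMap g h s z))
      (((Scheme.Modules.pullback ((g ≫ h).fiberι s)).obj F).presheaf.stalk z) :=
    FlatMod.moduleStalkOver (fibMap g h s) ((Scheme.Modules.pullback ((g ≫ h).fiberι s)).obj F) z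
  haveI t4 : IsScalarTower ((h.fiber s).presheaf.stalk (fibMap g h s z))
      (((g ≫ h).fiber s).presheaf.stalk z)
      (((Scheme.Modules.pullback ((g ≫ h).fiberι s)).obj F).presheaf.stalk z) :=
    IsScalarTower.of_algebraMap_smul (fun b n => rfl)
  obtain ⟨T⟩ := nonempty_stalk_linearEquiv ((g ≫ h).fiberι s) F z
  refine flat_fibre_iff T _ (beta_surjective g h s z) (ker_beta g h s z)
    (((g ≫ h).fiberι s).stalkMap_surjective z) ?_
  rw [Ideal.map_map]
  refine (ker_stalkMap_fiberι (g ≫ h) s z).trans ?_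
  congr 1
  rw [Scheme.Hom.stalkMap_comp]
  rfl

end Groth.Agent.Lib.Helper26.RelFibFlat
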