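import Mathlib
import Groth.Agent.Lib.Helper22NA15

/-!
Separatedness descends to a finite stage of a cofiltered limit of schemes over `S` with AFFINE
transition maps (generalizing `Helper22.NA15.exists_isSeparated_stage`, which needs closed
immersions).
-/

universe u
open CategoryTheory Limits AlgebraicGeometry Opposite

namespace Groth.Agent.Lib.Helper26.SepLim

open Groth.Agent.Lib.Helper22 Groth.Agent.Lib.Helper22.NA15 Groth.Agent.Lib.Helper22.LimClosed

section key

/-- the canonical map `A ×_B A ⟶ A ×_S A` -/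
noncomputable def qq {A B S : Scheme.{u}} (m : A ⟶ B) (tB : B ⟶ S) :
    pullback m m ⟶ pullback (m ≫ tB) (m ≫ tB) :=
  pullback.map m m (m ≫ tB) (m ≫ tB) (𝟙 A) (𝟙 A) tB (Category.id_comp _).symm
    (Category.id_comp _).symm

theorem isPullback_qq {A B S : Scheme.{u}} (m : A ⟶ B) (tB : B ⟶ S) :
    IsPullback (pullback.fst m m ≫ m) (qq m tB) (pullback.diagonal tB)
      (pm (m ≫ tB) tB m rfl) :=
  pullback_map_diagonal_isPullback m m tB

@[reassoc]
theorem qq_fst {A B S : Scheme.{u}} (m : A ⟶ B) (tB : B ⟶ S) :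
    qq m tB ≫ pullback.fst (m ≫ tB) (m ≫ tB) = pullback.fst m m :=
  (pullback.lift_fst _ _ _).trans (Category.comp_id _)

@[reassoc]
theorem qq_snd {A B S : Scheme.{u}} (m : A ⟶ B) (tB : B ⟶ S) :
    qq m tB ≫ pullback.snd (m ≫ tB) (m ≫ tB) = pullback.snd m m :=
  (pullback.lift_snd _ _ _).trans (Category.comp_id _)

theorem diagonal_qq {A B S : Scheme.{u}} (m : A ⟶ B) (tB : B ⟶ S) :
    pullback.diagonal m ≫ qq m tB = pullback.diagonal (m ≫ tB) := by
  apply pullback.hom_ext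
  · rw [Category.assoc, qq_fst, pullback.diagonal_fst, pullback.diagonal_fst]
  · rw [Category.assoc, qq_snd, pullback.diagonal_snd, pullback.diagonal_snd]

theorem isImmersion_qq {A B S : Scheme.{u}} (m : A ⟶ B) (tB : B ⟶ S) : IsImmersion (qq m tB) :=
  MorphismProperty.of_isPullback (P := @IsImmersion) (isPullback_qq m tB) inferInstance

theorem range_qq {A B S : Scheme.{u}} (m : A ⟶ B) (tB : B ⟶ S) :
    Set.range (qq m tB) = (pm (m ≫ tB) tB m rfl) ⁻¹' Set.range (pullback.diagonal tB) := by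
  have := Scheme.image_preimage_eq_of_isPullback (isPullback_qq m tB) Set.univ
  rw [Set.preimage_univ, Set.image_univ, Set.image_univ] at this
  exact this

/-- key: a point of `A ×_S A` in the closure of the diagonal of `A/S`, mapping into the diagonal of
`B/S`, lies on the diagonal of `A/S`, if `m : A ⟶ B` is separated. -/
theorem mem_range_diagonal_of_mem_closure {A B S : Scheme.{u}} (tA : A ⟶ S) (tB : B ⟶ S)
    (m : A ⟶ B) [IsSeparated m] (h : m ≫ tB = tA) (w : ↑(pullback tA tA))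
    (hw : pm tA tB m h w ∈ Set.range (pullback.diagonal tB))
    (hc : w ∈ closure (Set.range (pullback.diagonal tA))) :
    w ∈ Set.range (pullback.diagonal tA) := by
  subst h
  have hw' : w ∈ Set.range (qq m tB) := by
    rw [range_qq]; exact hw
  obtain ⟨z, rfl⟩ := hw'
  have himm := isImmersion_qq m tB
  have hind : Topology.IsInducing (qq m tB) := (qq m tB).isEmbedding.isInducing
  have hr : Set.range (pullback.diagonal (m ≫ tB)) =
      (qq m tB) '' Set.range (pullback.diagonal m) := by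
    rw [← diagonal_qq m tB, ← Set.range_comp]
    rfl
  rw [hr] at hc ⊢
  have hz : z ∈ closure (Set.range (pullback.diagonal m)) := by
    rw [hind.closure_eq_preimage_closure_image]
    exact hc
  have hcl : IsClosed (Set.range (pullback.diagonal m)) :=
    (pullback.diagonal m).isClosedEmbedding.isClosed_range
  rw [hcl.closure_eq] at hz
  exact ⟨z, hz, rfl⟩

end key

section main

variable {𝒦 : Type u} [SmallCategory 𝒦] (E : 𝒦 ⥤ Scheme.{u}) (cE : Cone E)
  {S : Scheme.{u}} (t : ∀ x, E.obj x ⟶ S) (ht : ∀ {x y : 𝒦} (a : x ⟶ y), E.map a ≫ t y = t x)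
  (f : cE.pt ⟶ S) (hf : ∀ x, cE.π.app x ≫ t x = f)

@[reassoc]
theorem Fdiag_fst (x : 𝒦) : Fdiag E t ht x ≫ Ffst E t ht x = 𝟙 _ :=
  pullback.diagonal_fst (t x)

@[reassoc]
theorem Fdiag_snd (x : 𝒦) : Fdiag E t ht x ≫ Fsnd E t ht x = 𝟙 _ :=
  pullback.diagonal_snd (t x)

theorem Fdiag_map {x y : 𝒦} (a : x ⟶ y) :
    Fdiag E t ht x ≫ (F E t ht).map a = E.map a ≫ Fdiag E t ht y := by
  apply F_ext E t ht
  · rw [Category.assoc, F_map_fst, Category.assoc, Fdiag_fst, Category.comp_id,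
      ← Category.assoc, Fdiag_fst, Category.id_comp]
  · rw [Category.assoc, F_map_snd, Category.assoc, Fdiag_snd, Category.comp_id,
      ← Category.assoc, Fdiag_snd, Category.id_comp]

/-- the diagonal of `f`, typed into the cone point of `cF` -/
noncomputable def cFdiag : cE.pt ⟶ (cF E cE t ht f hf).pt := pullback.diagonal f

@[reassoc]
theorem cFdiag_fst : cFdiag E cE t ht f hf ≫ cFfst E cE t ht f hf = 𝟙 _ :=
  pullback.diagonal_fst f

@[reassoc]
theorem cFdiag_snd : cFdiag E cE t ht f hf ≫ cFsnd E cE t ht f hf = 𝟙 _ :=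
  pullback.diagonal_snd f

theorem diagonal_cF_π (x : 𝒦) :
    cFdiag E cE t ht f hf ≫ (cF E cE t ht f hf).π.app x = cE.π.app x ≫ Fdiag E t ht x := by
  apply F_ext E t ht
  · rw [Category.assoc, cF_π_fst, cFdiag_fst_assoc, Category.assoc, Fdiag_fst, Category.comp_id]
  · rw [Category.assoc, cF_π_snd, cFdiag_snd_assoc, Category.assoc, Fdiag_snd, Category.comp_id]

theorem Fdiag_map_apply {x y : 𝒦} (a : x ⟶ y) (e : E.obj x) :
    (F E t ht).map a (Fdiag E t ht x e) = Fdiag E t ht y (E.map a e) := by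
  rw [← Scheme.Hom.comp_apply, Fdiag_map, Scheme.Hom.comp_apply]

theorem diagonal_cF_π_apply (x : 𝒦) (y : cE.pt) :
    (cF E cE t ht f hf).π.app x (cFdiag E cE t ht f hf y) = Fdiag E t ht x (cE.π.app x y) := by
  rw [← Scheme.Hom.comp_apply, diagonal_cF_π, Scheme.Hom.comp_apply]

variable (hE : IsLimit cE)

set_option backward.isDefEq.respectTransparency.types false in
include hE ht hf in
/-- **Separated at a finite stage**, affine transition maps. -/
theorem exists_isSeparated_stage [IsCofiltered 𝒦]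
    [∀ {x y : 𝒦} (a : x ⟶ y), IsAffineHom (E.map a)]
    [∀ x, CompactSpace (E.obj x)] [∀ x, QuasiSeparatedSpace (E.obj x)] [QuasiSeparatedSpace S]
    [IsSeparated f] : ∃ x, IsSeparated (t x) := by
  obtain ⟨x₀⟩ := IsCofiltered.nonempty (C := 𝒦)
  have : Nonempty 𝒦 := ⟨x₀⟩
  have haffF : ∀ (x y : 𝒦) (a : x ⟶ y), IsAffineHom ((F E t ht).map a) := fun x y a =>
    isAffineHom_pm (t x) (t y) (E.map a) (ht a)
  have haffF' : ∀ {x y : 𝒦} (a : x ⟶ y), IsAffineHom ((F E t ht).map a) := fun a => haffF _ _ a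
  obtain ⟨hF⟩ := isLimit_cF E cE t ht f hf hE
  have hqct : ∀ x, QuasiCompact (t x) := fun x => inferInstance
  have hqst : ∀ x, QuasiSeparated (t x) := fun x => inferInstance
  have hcptF : ∀ x, CompactSpace ((F E t ht).obj x) := fun x => by
    have hqcf : QuasiCompact (Ffst E t ht x) :=
      MorphismProperty.pullback_fst (P := @QuasiCompact) _ _ (hqct x)
    exact QuasiCompact.compactSpace_of_compactSpace (Ffst E t ht x)
  have hqcd : ∀ x, QuasiCompact (Fdiag E t ht x) := fun x => (hqst x).quasiCompact_diagonal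
  have hpre := isImmersion_Fdiag E t ht x₀
  have hT₀ : IsClosed (closure (Set.range (Fdiag E t ht x₀)) \
      Set.range (Fdiag E t ht x₀)) := by
    have := isLocallyClosed_iff_isOpen_coborder.mp
      (Fdiag E t ht x₀).isLocallyClosed_range
    exact isOpen_compl_iff.mp this
  -- the limit `W = Y ×_S Y`
  have hπaff : IsAffineHom ((cF E cE t ht f hf).π.app x₀) :=
    isAffineHom_π_app (F E t ht) (cF E cE t ht f hf) hF x₀
  have hcptW : CompactSpace (cF E cE t ht f hf).pt :=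
    QuasiCompact.compactSpace_of_compactSpace ((cF E cE t ht f hf).π.app x₀)
  have hDcl : IsClosed (Set.range (cFdiag E cE t ht f hf)) :=
    (pullback.diagonal f).isClosedEmbedding.isClosed_range
  have hTc : IsCompact (⇑((cF E cE t ht f hf).π.app x₀) ⁻¹'
      (closure (Set.range (Fdiag E t ht x₀)) \ Set.range (Fdiag E t ht x₀)) :
      Set (cF E cE t ht f hf).pt) :=
    IsClosed.isCompact (X := (cF E cE t ht f hf).pt)
      (hT₀.preimage ((cF E cE t ht f hf).π.app x₀).continuous)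
  have hTD : (⇑((cF E cE t ht f hf).π.app x₀) ⁻¹'
      (closure (Set.range (Fdiag E t ht x₀)) \ Set.range (Fdiag E t ht x₀)) :
      Set (cF E cE t ht f hf).pt) ⊆ (Set.range (cFdiag E cE t ht f hf))ᶜ := by
    rintro w hw ⟨y, rfl⟩
    apply hw.2
    rw [diagonal_cF_π_apply]
    exact ⟨_, rfl⟩
  obtain ⟨V', hV'c, hTV', hV'D⟩ :=
    exists_compact_open_between (cF E cE t ht f hf).pt _ _ hTc hDcl.isOpen_compl hTD
  obtain ⟨j', Vj', hVj'c, hVj'⟩ := exists_preimage_eq (F E t ht) (cF E cE t ht f hf) hF V' hV'c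
  let j : 𝒦 := IsCofiltered.min j' x₀
  let a : j ⟶ j' := IsCofiltered.minToLeft j' x₀
  let φ : j ⟶ x₀ := IsCofiltered.minToRight j' x₀
  let Vj : ((F E t ht).obj j).Opens := (F E t ht).map a ⁻¹ᵁ Vj'
  have hVjc : IsCompact (Vj : Set ((F E t ht).obj j)) :=
    QuasiCompact.isCompact_preimage (f := (F E t ht).map a) _ Vj'.2 hVj'c
  have hVj : ∀ w : (cF E cE t ht f hf).pt, (cF E cE t ht f hf).π.app j w ∈ Vj ↔ w ∈ V' := by
    intro w
    rw [← hVj']
    show (F E t ht).map a ((cF E cE t ht f hf).π.app j w) ∈ Vj' ↔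
      (cF E cE t ht f hf).π.app j' w ∈ Vj'
    rw [map_π_apply']
  -- step 5
  let Cj : Set ((F E t ht).obj j) := ⇑((F E t ht).map φ) ⁻¹'
    (closure (Set.range (Fdiag E t ht x₀)) \ Set.range (Fdiag E t ht x₀)) \ Vj
  have hCj : IsClosed Cj := (hT₀.preimage ((F E t ht).map φ).continuous).sdiff Vj.isOpen
  have H5 : (cF E cE t ht f hf).π.app j ⁻¹ᵁ ⊤ ≤
      (cF E cE t ht f hf).π.app j ⁻¹ᵁ ⟨Cjᶜ, hCj.isOpen_compl⟩ := by
    intro w _
    show (cF E cE t ht f hf).π.app j w ∉ Cj
    rintro ⟨h1, h2⟩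
    have h1' : (F E t ht).map φ ((cF E cE t ht f hf).π.app j w) ∈
        closure (Set.range (Fdiag E t ht x₀)) \ Set.range (Fdiag E t ht x₀) := h1
    rw [map_π_apply'] at h1'
    exact h2 ((hVj w).mpr (hTV' h1'))
  obtain ⟨k₁, f₁, h₁⟩ := exists_map_preimage_le_map_preimage (F E t ht) (cF E cE t ht f hf) hF
    (i := j) (U := ⊤) (V := ⟨Cjᶜ, hCj.isOpen_compl⟩) isCompact_univ H5
  -- step 6
  let Uj : (E.obj j).Opens := Fdiag E t ht j ⁻¹ᵁ Vj
  have hUjc : IsCompact (Uj : Set (E.obj j)) :=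
    QuasiCompact.isCompact_preimage (f := Fdiag E t ht j) _ Vj.2 hVjc
  have H6 : cE.π.app j ⁻¹ᵁ Uj ≤ cE.π.app j ⁻¹ᵁ ⊥ := by
    intro y hy
    exfalso
    have hy' : Fdiag E t ht j (cE.π.app j y) ∈ Vj := hy
    rw [← diagonal_cF_π_apply E cE t ht f hf, hVj] at hy'
    exact hV'D hy' ⟨y, rfl⟩
  obtain ⟨k₂, f₂, h₂⟩ := exists_map_preimage_le_map_preimage E cE hE
    (i := j) (U := Uj) (V := ⊥) hUjc H6
  -- step 7
  obtain ⟨k, a₁, a₂, hk⟩ := IsCofiltered.cospan f₁ f₂
  refine ⟨k, ?_⟩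
  let ψ : k ⟶ j := a₁ ≫ f₁
  have hcl : IsClosed (Set.range (Fdiag E t ht k)) := by
    refine isClosed_of_closure_diff_subset _ (⇑((F E t ht).map ψ) ⁻¹' (Vj : Set ((F E t ht).obj j)))
      (Vj.isOpen.preimage ((F E t ht).map ψ).continuous) ?_ ?_
    · rintro w ⟨hw1, hw2⟩
      by_contra hwV
      have hw1' : (F E t ht).map (ψ ≫ φ) w ∈ closure (Set.range (Fdiag E t ht x₀)) := by
        have hsub : Set.range (Fdiag E t ht k) ⊆
            ⇑((F E t ht).map (ψ ≫ φ)) ⁻¹' Set.range (Fdiag E t ht x₀) := by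
          rintro _ ⟨e, rfl⟩
          rw [Set.mem_preimage, Fdiag_map_apply]
          exact ⟨_, rfl⟩
        exact ((F E t ht).map (ψ ≫ φ)).continuous.closure_preimage_subset _
          (closure_mono hsub hw1)
      have hw3 : (F E t ht).map (ψ ≫ φ) w ∉ Set.range (Fdiag E t ht x₀) := by
        intro hw3
        have : IsSeparated (E.map (ψ ≫ φ)) := inferInstance
        exact hw2 (mem_range_diagonal_of_mem_closure (t k) (t x₀) (E.map (ψ ≫ φ))
          (ht (ψ ≫ φ)) w hw3 hw1)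
      have hwC : (F E t ht).map ψ w ∈ Cj := by
        refine ⟨?_, hwV⟩
        show (F E t ht).map φ ((F E t ht).map ψ w) ∈
          closure (Set.range (Fdiag E t ht x₀)) \ Set.range (Fdiag E t ht x₀)
        rw [← map_comp_apply']
        exact ⟨hw1', hw3⟩
      have := h₁ (show (F E t ht).map a₁ w ∈ (F E t ht).map f₁ ⁻¹ᵁ ⊤ from trivial)
      have h' : (F E t ht).map f₁ ((F E t ht).map a₁ w) ∉ Cj := this
      rw [← map_comp_apply'] at h'
      exact h' hwC
    · rw [Set.eq_empty_iff_forall_notMem]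
      rintro _ ⟨hwV, ⟨e, rfl⟩⟩
      have hwV' : (F E t ht).map ψ (Fdiag E t ht k e) ∈ Vj := hwV
      rw [Fdiag_map_apply] at hwV'
      have h3 : E.map ψ e ∈ Uj := hwV'
      have h4 : E.map f₂ (E.map a₂ e) ∈ Uj := by
        rw [← map_comp_apply', ← hk]
        exact h3
      exact h₂ h4
  have hprek := isImmersion_Fdiag E t ht k
  exact ⟨IsClosedImmersion.of_isPreimmersion (Fdiag E t ht k) hcl⟩

end main

end Groth.Agent.Lib.Helper26.SepLim
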