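import Mathlib

/-!
# Generators of a module from generation data on a stratification (helper26)

Namespace `Groth.Agent.Lib.Helper26.StrataGen`.

* `StratumGen R Ik Ik1 N Q`: for every `b ∈ Ik` there are a localization `B = R_b`, a quotient `ρ : B ↠ C`
  with `ρ r = 0 → b r ∈ Ik1`, and `N` generators of `C ⊗[B] (B ⊗[R] Q)` over `C`
  (generation of `Q` over a closed subscheme of `D(b)` whose support contains `V(Ik1) ∩ D(b)`).
* `StratumGen.quotient`, `exists_one_tmul`, `exists_one_tmul_away`,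
  `exists_smul_eq_zero_of_subsingleton_tensor` (Nakayama for `C ⊗[B] P = 0`).
* `stratum_step`: `Ann Q + Ik = 1` ⟹ after killing `N` elements, `Ann Q' + Ik1 = 1`.
* **`exists_generators_of_strata`**: ideals `I 0 = ⊤, …, I m ≤ nilradical` with `StratumGen` on every
  stratum ⟹ a finite module is generated by `m * N` elements.
-/

set_option autoImplicit false
set_option linter.style.haveILetI false
universe u w

namespace Groth.Agent.Lib.Helper26.StrataGen

open Submodule TensorProduct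

variable {R : Type u} [CommRing R]

/-- generation data on a stratum `V(Ik1) \ V(Ik)`: for every `b ∈ Ik` a quotient `C` of `R_b`
whose spectrum contains `V(Ik1) ∩ D(b)` and over which `Q` is generated by `N` elements. -/
def StratumGen (R : Type u) [CommRing R] (Ik Ik1 : Ideal R) (N : ℕ) (Q : Type w) [AddCommGroup Q]
    [Module R Q] : Prop :=
  ∀ b ∈ Ik, ∃ (B : Type u) (_ : CommRing B) (_ : Algebra R B) (_ : IsLocalization.Away b B)
    (C : Type u) (_ : CommRing C) (ρ : B →+* C),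
    Function.Surjective ρ ∧ (∀ r : R, ρ (algebraMap R B r) = 0 → b * r ∈ Ik1) ∧
    letI := ρ.toAlgebra
    ∃ T : Finset (C ⊗[B] (B ⊗[R] Q)), T.card ≤ N ∧ span C (T : Set (C ⊗[B] (B ⊗[R] Q))) = ⊤

theorem StratumGen.quotient {Ik Ik1 : Ideal R} {N : ℕ} {Q : Type w} [AddCommGroup Q] [Module R Q]
    (h : StratumGen R Ik Ik1 N Q) (P : Submodule R Q) : StratumGen R Ik Ik1 N (Q ⧸ P) := by
  classical
  intro b hb
  obtain ⟨B, iB, aB, lB, C, iC, ρ, hρ, hker, T, hT, hspan⟩ := h b hb
  refine ⟨B, iB, aB, lB, C, iC, ρ, hρ, hker, ?_⟩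
  letI := ρ.toAlgebra
  let Φ : C ⊗[B] (B ⊗[R] Q) →ₗ[C] C ⊗[B] (B ⊗[R] (Q ⧸ P)) :=
    (P.mkQ.baseChange B).baseChange C
  have hΦ : Function.Surjective Φ := by
    have h1 : Function.Surjective (P.mkQ.baseChange B) :=
      LinearMap.lTensor_surjective B P.mkQ_surjective
    exact LinearMap.lTensor_surjective C h1
  refine ⟨T.image Φ, Finset.card_image_le.trans hT, ?_⟩
  rw [Finset.coe_image, ← Submodule.map_span, hspan, Submodule.map_top, LinearMap.range_eq_top]
  exact hΦ

/-- every element of `C ⊗[B] P` is of the form `1 ⊗ p` when `B → C` is surjective. -/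
theorem exists_one_tmul {B C : Type*} [CommRing B] [CommRing C] [Algebra B C]
    (hρ : Function.Surjective (algebraMap B C)) {P : Type*} [AddCommGroup P] [Module B P]
    (z : C ⊗[B] P) : ∃ p : P, z = (1 : C) ⊗ₜ[B] p := by
  induction z using TensorProduct.induction_on with
  | zero => exact ⟨0, by rw [TensorProduct.tmul_zero]⟩
  | tmul c p =>
    obtain ⟨β, rfl⟩ := hρ c
    refine ⟨β • p, ?_⟩
    rw [Algebra.algebraMap_eq_smul_one, TensorProduct.smul_tmul]
  | add x y hx hy =>
    obtain ⟨p, rfl⟩ := hx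
    obtain ⟨p', rfl⟩ := hy
    exact ⟨p + p', by rw [TensorProduct.tmul_add]⟩

/-- every element of `B ⊗[R] Q` is of the form `1 ⊗ q` when `B = R_b` and `b` acts as the identity
on `Q`. -/
theorem exists_one_tmul_away {B : Type*} [CommRing B] [Algebra R B] (b : R)
    [IsLocalization.Away b B] {Q : Type*} [AddCommGroup Q] [Module R Q] (hb : ∀ q : Q, b • q = q)
    (z : B ⊗[R] Q) : ∃ q : Q, z = (1 : B) ⊗ₜ[R] q := by
  have hbe : ∀ (e : ℕ) (q : Q), b ^ e • q = q := by
    intro e q
    induction e with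
    | zero => rw [pow_zero, one_smul]
    | succ e ih => rw [pow_succ, mul_smul, hb, ih]
  induction z using TensorProduct.induction_on with
  | zero => exact ⟨0, by rw [TensorProduct.tmul_zero]⟩
  | tmul β q =>
    obtain ⟨e, r, hr⟩ := IsLocalization.Away.surj b β
    refine ⟨r • q, ?_⟩
    calc β ⊗ₜ[R] q = β ⊗ₜ[R] (b ^ e • q) := by rw [hbe]
      _ = (b ^ e • β) ⊗ₜ[R] q := by rw [TensorProduct.smul_tmul]
      _ = (algebraMap R B r) ⊗ₜ[R] q := by
          rw [Algebra.smul_def, map_pow, mul_comm, hr]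
      _ = (1 : B) ⊗ₜ[R] (r • q) := by
          rw [Algebra.algebraMap_eq_smul_one, TensorProduct.smul_tmul]
  | add x y hx hy =>
    obtain ⟨p, rfl⟩ := hx
    obtain ⟨p', rfl⟩ := hy
    exact ⟨p + p', by rw [TensorProduct.tmul_add]⟩

/-- Nakayama: if `B → C` is surjective, `P` is a finite `B`-module and `C ⊗[B] P = 0`, then some
`β ≡ 1` modulo the kernel kills `P`. -/
theorem exists_smul_eq_zero_of_subsingleton_tensor {B C : Type u} [CommRing B] [CommRing C]
    [Algebra B C] (hρ : Function.Surjective (algebraMap B C)) {P : Type w} [AddCommGroup P]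
    [Module B P] [Module.Finite B P] [Subsingleton (C ⊗[B] P)] :
    ∃ β : B, algebraMap B C β = 1 ∧ ∀ p : P, β • p = 0 := by
  let J : Ideal B := RingHom.ker (algebraMap B C)
  let e : (B ⧸ J) ≃ₐ[B] C := Ideal.quotientKerAlgEquivOfSurjective (f := Algebra.ofId B C) hρ
  let e2 : C ⊗[B] P ≃ₗ[B] (B ⧸ J) ⊗[B] P :=
    TensorProduct.congr e.symm.toLinearEquiv (LinearEquiv.refl B P)
  let e3 : (B ⧸ J) ⊗[B] P ≃ₗ[B] P ⧸ (J • (⊤ : Submodule B P)) :=
    TensorProduct.quotTensorEquivQuotSMul P J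
  haveI : Subsingleton (P ⧸ (J • (⊤ : Submodule B P))) := (e2.trans e3).symm.toEquiv.subsingleton
  have htop : J • (⊤ : Submodule B P) = ⊤ := Submodule.Quotient.subsingleton_iff.1 inferInstance
  obtain ⟨β, hβ1, hβ2⟩ := Submodule.exists_sub_one_mem_and_smul_eq_zero_of_fg_of_le_smul J
    (⊤ : Submodule B P) Module.Finite.fg_top (by rw [htop])
  refine ⟨β, ?_, fun p => hβ2 p trivial⟩
  have : algebraMap B C (β - 1) = 0 := hβ1
  rw [map_sub, map_one, sub_eq_zero] at this
  exact this

theorem stratum_step {Ik Ik1 : Ideal R} {N : ℕ} {Q : Type w} [AddCommGroup Q] [Module R Q]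
    [Module.Finite R Q] (h : StratumGen R Ik Ik1 N Q)
    (hann : Module.annihilator R Q ⊔ Ik = ⊤) :
    ∃ T0 : Finset Q, T0.card ≤ N ∧
      Module.annihilator R (Q ⧸ span R (T0 : Set Q)) ⊔ Ik1 = ⊤ := by
  classical
  have h1 : (1 : R) ∈ Module.annihilator R Q ⊔ Ik := by rw [hann]; trivial
  obtain ⟨a, ha, b, hb, hab⟩ := Submodule.mem_sup.1 h1
  have hbQ : ∀ q : Q, b • q = q := by
    intro q
    have : b = 1 - a := by rw [← hab]; ring
    rw [this, sub_smul, one_smul, Module.mem_annihilator.1 ha q, sub_zero]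
  obtain ⟨B, iB, aB, lB, C, iC, ρ, hρ, hker, T, hT, hTspan⟩ := h b hb
  letI := ρ.toAlgebra
  have hρ' : Function.Surjective (algebraMap B C) := hρ
  -- lift the generators to `Q`
  have hlift : ∀ ξ : C ⊗[B] (B ⊗[R] Q), ∃ q : Q, ξ = (1 : C) ⊗ₜ[B] ((1 : B) ⊗ₜ[R] q) := by
    intro ξ
    obtain ⟨p, rfl⟩ := exists_one_tmul hρ' ξ
    obtain ⟨q, rfl⟩ := exists_one_tmul_away b hbQ p
    exact ⟨q, rfl⟩
  choose qξ hqξ using hlift
  refine ⟨T.image qξ, Finset.card_image_le.trans hT, ?_⟩
  set P0 : Submodule R Q := span R ((T.image qξ : Finset Q) : Set Q) with hP0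
  -- `C ⊗ (B ⊗ Q')` vanishes
  let Φ : C ⊗[B] (B ⊗[R] Q) →ₗ[C] C ⊗[B] (B ⊗[R] (Q ⧸ P0)) :=
    (P0.mkQ.baseChange B).baseChange C
  have hΦ : Function.Surjective Φ := by
    have h1 : Function.Surjective (P0.mkQ.baseChange B) :=
      LinearMap.lTensor_surjective B P0.mkQ_surjective
    exact LinearMap.lTensor_surjective C h1
  have hΦT : ∀ ξ ∈ T, Φ ξ = 0 := by
    intro ξ hξ
    rw [hqξ ξ]
    change (1 : C) ⊗ₜ[B] ((1 : B) ⊗ₜ[R] (P0.mkQ (qξ ξ))) = 0
    have : P0.mkQ (qξ ξ) = 0 := by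
      rw [Submodule.mkQ_apply, Submodule.Quotient.mk_eq_zero]
      exact Submodule.subset_span (Finset.mem_coe.2 (Finset.mem_image_of_mem qξ hξ))
    rw [this, TensorProduct.tmul_zero, TensorProduct.tmul_zero]
  haveI : Subsingleton (C ⊗[B] (B ⊗[R] (Q ⧸ P0))) := by
    refine ⟨fun x y => ?_⟩
    have hz : ∀ z : C ⊗[B] (B ⊗[R] (Q ⧸ P0)), z = 0 := by
      intro z
      obtain ⟨w, rfl⟩ := hΦ z
      have hw : w ∈ span C (T : Set (C ⊗[B] (B ⊗[R] Q))) := by rw [hTspan]; trivial
      induction hw using Submodule.span_induction with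
      | mem ξ hξ => exact hΦT ξ hξ
      | zero => exact map_zero _
      | add x y _ _ hx hy => rw [map_add, hx, hy, add_zero]
      | smul c x _ hx => rw [map_smul, hx, smul_zero]
    rw [hz x, hz y]
  obtain ⟨β, hβ1, hβ2⟩ := exists_smul_eq_zero_of_subsingleton_tensor hρ'
    (P := B ⊗[R] (Q ⧸ P0))
  obtain ⟨e, r, hr⟩ := IsLocalization.Away.surj b β
  have hbQ' : ∀ x : Q ⧸ P0, b • x = x := by
    intro x
    obtain ⟨q, rfl⟩ := P0.mkQ_surjective x
    rw [← map_smul, hbQ]
  have hbeQ' : ∀ (n : ℕ) (x : Q ⧸ P0), b ^ n • x = x := by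
    intro n x
    induction n with
    | zero => rw [pow_zero, one_smul]
    | succ n ih => rw [pow_succ, mul_smul, hbQ', ih]
  -- `r` kills `Q'`
  haveI : IsLocalizedModule (Submonoid.powers b) (TensorProduct.mk R B (Q ⧸ P0) 1) :=
    (isLocalizedModule_iff_isBaseChange (Submonoid.powers b) B _).2
      (TensorProduct.isBaseChange R (Q ⧸ P0) B)
  have hrQ' : r ∈ Module.annihilator R (Q ⧸ P0) := by
    rw [Module.mem_annihilator]
    intro x
    have h0 : (TensorProduct.mk R B (Q ⧸ P0) 1) (r • x) = (TensorProduct.mk R B (Q ⧸ P0) 1) 0 := by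
      rw [map_zero, TensorProduct.mk_apply]
      calc (1 : B) ⊗ₜ[R] (r • x) = (algebraMap R B r) ⊗ₜ[R] x := by
            rw [Algebra.algebraMap_eq_smul_one, TensorProduct.smul_tmul]
        _ = (algebraMap R B b ^ e * β) • ((1 : B) ⊗ₜ[R] x) := by
            rw [← hr, TensorProduct.smul_tmul', smul_eq_mul, mul_one, mul_comm]
        _ = 0 := by rw [mul_smul, hβ2, smul_zero]
    obtain ⟨⟨_, n, rfl⟩, hn⟩ := IsLocalizedModule.exists_of_eq (S := Submonoid.powers b) h0
    have hn' : b ^ n • (r • x) = b ^ n • (0 : Q ⧸ P0) := hn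
    rwa [hbeQ', smul_zero] at hn'
  -- the relation `b * (r - b ^ e) ∈ Ik1`
  have hrel : b * (r - b ^ e) ∈ Ik1 := by
    apply hker
    change algebraMap B C (algebraMap R B (r - b ^ e)) = 0
    rw [map_sub, map_sub, ← hr, map_mul, hβ1, one_mul]
    simp only [map_pow, sub_self]
  rw [Ideal.eq_top_iff_one]
  have h2 : (1 : R) - b ^ (e + 1) ∈ Module.annihilator R (Q ⧸ P0) := by
    rw [Module.mem_annihilator]
    intro x
    rw [sub_smul, one_smul, hbeQ', sub_self]
  have h3 : b ^ (e + 1) = b * r - b * (r - b ^ e) := by ring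
  have h4 : (1 : R) = (1 - b ^ (e + 1) + b * r) - b * (r - b ^ e) := by rw [h3]; ring
  rw [h4]
  refine Submodule.sub_mem _ (Submodule.mem_sup_left ?_) (Submodule.mem_sup_right hrel)
  exact Submodule.add_mem _ h2 (Ideal.mul_mem_left _ b hrQ')

theorem exists_generators_of_strata (m N : ℕ) (I : ℕ → Ideal R) (hm : I m ≤ nilradical R) :
    ∀ (d j : ℕ), j + d = m → ∀ (Q : Type w) [AddCommGroup Q] [Module R Q] [Module.Finite R Q],
      (∀ k, j ≤ k → k < m → StratumGen R (I k) (I (k + 1)) N Q) →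
      Module.annihilator R Q ⊔ I j = ⊤ →
      ∃ T : Finset Q, T.card ≤ d * N ∧ span R (T : Set Q) = ⊤ := by
  classical
  intro d
  induction d with
  | zero =>
    intro j hj Q _ _ _ _ hann
    rw [add_zero] at hj
    subst hj
    refine ⟨∅, by simp, ?_⟩
    have h1 : (1 : R) ∈ Module.annihilator R Q ⊔ I j := by rw [hann]; trivial
    obtain ⟨a, ha, n, hn, han⟩ := Submodule.mem_sup.1 h1
    have hnil : IsNilpotent n := (mem_nilradical).1 (hm hn)
    have hu : IsUnit a := by
      have : a = 1 - n := by rw [← han]; ring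
      rw [this]
      exact hnil.isUnit_one_sub
    have htop : Module.annihilator R Q = ⊤ := Ideal.eq_top_of_isUnit_mem _ ha hu
    rw [eq_top_iff]
    rintro x -
    have h1' : (1 : R) ∈ Module.annihilator R Q := by rw [htop]; trivial
    have hx : x = 0 := by rw [← one_smul R x]; exact Module.mem_annihilator.1 h1' x
    rw [hx]; exact Submodule.zero_mem _
  | succ d ih =>
    intro j hj Q _ _ _ hgen hann
    have hjm : j < m := by omega
    obtain ⟨T0, hT0, hann'⟩ := stratum_step (hgen j le_rfl hjm) hann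
    set P := span R (T0 : Set Q) with hP
    obtain ⟨T', hT', hspan'⟩ := ih (j + 1) (by omega) (Q ⧸ P)
      (fun k hk hkm => (hgen k (by omega) hkm).quotient _) hann'
    let σ : Q ⧸ P → Q := Function.surjInv P.mkQ_surjective
    have hσ : ∀ z, P.mkQ (σ z) = z := Function.surjInv_eq P.mkQ_surjective
    refine ⟨T0 ∪ T'.image σ, ?_, ?_⟩
    · calc (T0 ∪ T'.image σ).card ≤ T0.card + (T'.image σ).card := Finset.card_union_le _ _
        _ ≤ N + d * N := add_le_add hT0 (Finset.card_image_le.trans hT')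
        _ = (d + 1) * N := by ring
    · have hPW : P ≤ span R ((T0 ∪ T'.image σ : Finset Q) : Set Q) :=
        Submodule.span_mono (by rw [Finset.coe_union]; exact Set.subset_union_left)
      have hmap : (span R ((T0 ∪ T'.image σ : Finset Q) : Set Q)).map P.mkQ = ⊤ := by
        rw [eq_top_iff, ← hspan', Submodule.span_le]
        intro z hz
        refine ⟨σ z, Submodule.subset_span ?_, hσ z⟩
        rw [Finset.coe_union, Finset.coe_image]
        exact Or.inr ⟨z, hz, rfl⟩
      rw [eq_top_iff]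
      rintro x -
      have hx1 : P.mkQ x ∈ (span R ((T0 ∪ T'.image σ : Finset Q) : Set Q)).map P.mkQ := by
        rw [hmap]; trivial
      obtain ⟨x', hx', hxx'⟩ := hx1
      have hx2 : x - x' ∈ P := by
        rw [← Submodule.ker_mkQ P, LinearMap.mem_ker, map_sub, hxx', sub_self]
      have := Submodule.add_mem _ (hPW hx2) hx'
      rwa [sub_add_cancel] at this

end Groth.Agent.Lib.Helper26.StrataGen
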