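import Mathlib

set_option autoImplicit false
set_option linter.style.haveILetI false
universe u
open TensorProduct IsLocalRing

namespace Groth.Agent.Lib.Helper26.SuppFlat

/-- Nakayama: for a local homomorphism `A → B` and a nonzero finite `B`-module `N`, `m_A N ≠ N`. -/
theorem maximalIdeal_smul_top_ne_top {A B N : Type*} [CommRing A] [CommRing B] [IsLocalRing A]
    [IsLocalRing B] [Algebra A B] [IsLocalHom (algebraMap A B)] [AddCommGroup N] [Module B N]
    [Module A N] [IsScalarTower A B N] [Module.Finite B N] [Nontrivial N] :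
    maximalIdeal A • (⊤ : Submodule A N) ≠ ⊤ := by
  intro h
  have h2 : (⊤ : Submodule B N) ≤ maximalIdeal B • (⊤ : Submodule B N) := by
    intro n _
    have hn : n ∈ maximalIdeal A • (⊤ : Submodule A N) := by rw [h]; trivial
    refine Submodule.smul_induction_on hn (fun a ha m _ => ?_) (fun x y hx hy => add_mem hx hy)
    rw [← algebraMap_smul B a m]
    refine Submodule.smul_mem_smul ?_ trivial
    exact (mem_maximalIdeal _).2 (fun hu => (mem_maximalIdeal a).1 ha (isUnit_of_map_unit (algebraMap A B) a hu))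
  have h3 := Submodule.eq_bot_of_le_smul_of_le_jacobson_bot (maximalIdeal B) (⊤ : Submodule B N)
    Module.Finite.fg_top h2 (by rw [jacobson_eq_maximalIdeal ⊥ bot_ne_top])
  exact top_ne_bot h3

/-- tensor product of nonzero finite modules along a local homomorphism is nonzero. -/
theorem nontrivial_tensor_of_local {A B L N : Type u} [CommRing A] [CommRing B] [IsLocalRing A]
    [IsLocalRing B] [Algebra A B] [IsLocalHom (algebraMap A B)]
    [AddCommGroup L] [Module A L] [Module.Finite A L] [Nontrivial L]
    [AddCommGroup N] [Module B N] [Module A N] [IsScalarTower A B N] [Module.Finite B N]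
    [Nontrivial N] : Nontrivial (L ⊗[A] N) := by
  let k := A ⧸ maximalIdeal A
  letI : Field k := Ideal.Quotient.field (maximalIdeal A)
  have hL : maximalIdeal A • (⊤ : Submodule A L) ≠ ⊤ :=
    maximalIdeal_smul_top_ne_top (A := A) (B := A) (N := L)
  have hN : maximalIdeal A • (⊤ : Submodule A N) ≠ ⊤ :=
    maximalIdeal_smul_top_ne_top (A := A) (B := B) (N := N)
  let V := L ⧸ (maximalIdeal A • (⊤ : Submodule A L))
  haveI : Nontrivial V := Submodule.Quotient.nontrivial_iff.2 hL
  obtain ⟨v, hv⟩ := exists_ne (0 : V)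
  have hinj : LinearMap.ker (LinearMap.toSpanSingleton k V v) = ⊥ :=
    LinearMap.ker_toSpanSingleton k hv
  obtain ⟨g, hg⟩ := LinearMap.exists_leftInverse_of_injective _ hinj
  have hgs : Function.Surjective g := fun c => ⟨LinearMap.toSpanSingleton k V v c, by
    have := congrArg (fun φ => φ c) hg
    simpa using this⟩
  let π : L →ₗ[A] k := (g.restrictScalars A) ∘ₗ (Submodule.mkQ _)
  have hπ : Function.Surjective π := hgs.comp (Submodule.mkQ_surjective _)
  have hsurj : Function.Surjective (π.rTensor N) := LinearMap.rTensor_surjective N hπ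
  haveI : Nontrivial (N ⧸ (maximalIdeal A • (⊤ : Submodule A N))) :=
    Submodule.Quotient.nontrivial_iff.2 hN
  haveI : Nontrivial (k ⊗[A] N) :=
    (TensorProduct.quotTensorEquivQuotSMul N (maximalIdeal A)).toEquiv.nontrivial
  exact hsurj.nontrivial

/-- **going-down for the support of a finite module flat over the base**: if `M_{P'}` is nonzero and flat over `R`,
every prime `Q` of `R` contained in `P' ∩ R` is the contraction of a prime `Q' ⊆ P'` of the support of `M`. -/
theorem exists_prime_support_of_flat {R R' M : Type u} [CommRing R] [CommRing R'] [Algebra R R']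
    [AddCommGroup M] [Module R' M] [Module R M] [IsScalarTower R R' M] [Module.Finite R' M]
    (P' : Ideal R') [P'.IsPrime] [Module.Flat R (LocalizedModule P'.primeCompl M)]
    [Nontrivial (LocalizedModule P'.primeCompl M)]
    (Q : Ideal R) [Q.IsPrime] (hQ : Q ≤ P'.comap (algebraMap R R')) :
    ∃ Q' : PrimeSpectrum R', Q'.asIdeal ≤ P' ∧ Q'.asIdeal.comap (algebraMap R R') = Q ∧
      Q' ∈ Module.support R' M := by
  let A' := Localization.AtPrime P'
  let N := LocalizedModule P'.primeCompl M
  let K := Q.ResidueField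
  letI := Algebra.TensorProduct.rightAlgebra (R := R) (A := K) (B := A')
  let D := K ⊗[R] A'
  have h1 : Q • (⊤ : Submodule R N) ≠ ⊤ := by
    intro h
    have h2 : (⊤ : Submodule A' N) ≤ maximalIdeal A' • ⊤ := by
      intro n _
      have hn : n ∈ Q • (⊤ : Submodule R N) := by rw [h]; trivial
      refine Submodule.smul_induction_on hn (fun a ha m _ => ?_) (fun x y hx hy => add_mem hx hy)
      rw [← algebraMap_smul A' a m]
      refine Submodule.smul_mem_smul ?_ trivial
      rw [IsScalarTower.algebraMap_apply R R' A']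
      exact (IsLocalization.AtPrime.to_map_mem_maximal_iff A' P' _).2 (hQ ha)
    have h3 := Submodule.eq_bot_of_le_smul_of_le_jacobson_bot (maximalIdeal A')
      (⊤ : Submodule A' N) Module.Finite.fg_top h2 (by rw [jacobson_eq_maximalIdeal ⊥ bot_ne_top])
    exact top_ne_bot h3
  haveI : Nontrivial (N ⧸ (Q • (⊤ : Submodule R N))) := Submodule.Quotient.nontrivial_iff.2 h1
  haveI : Nontrivial ((R ⧸ Q) ⊗[R] N) :=
    (TensorProduct.quotTensorEquivQuotSMul N Q).toEquiv.nontrivial
  let ι : (R ⧸ Q) →ₗ[R] K := (Algebra.linearMap (R ⧸ Q) K).restrictScalars R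
  have hι : Function.Injective ι := IsFractionRing.injective (R ⧸ Q) K
  have h4 : Function.Injective (ι.rTensor N) :=
    Module.Flat.rTensor_preserves_injective_linearMap ι hι
  haveI : Nontrivial (K ⊗[R] N) := h4.nontrivial
  let e := Algebra.IsPushout.cancelBaseChange R K A' D N
  haveI : Nontrivial (D ⊗[A'] N) := e.toEquiv.nontrivial
  obtain ⟨𝔮, h𝔮⟩ := Module.nonempty_support_of_nontrivial (R := D) (M := D ⊗[A'] N)
  let ψ : R' →+* D := (algebraMap A' D).comp (algebraMap R' A')
  refine ⟨⟨𝔮.asIdeal.comap ψ, inferInstance⟩, ?_, ?_, ?_⟩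
  · intro r hr
    by_contra hrP
    have hu : IsUnit (algebraMap R' A' r) :=
      IsLocalization.map_units A' (⟨r, hrP⟩ : P'.primeCompl)
    exact 𝔮.isPrime.ne_top (Ideal.eq_top_of_isUnit_mem _ hr (hu.map (algebraMap A' D)))
  · ext a
    change ψ (algebraMap R R' a) ∈ 𝔮.asIdeal ↔ a ∈ Q
    have hcomm : ψ (algebraMap R R' a) = algebraMap K D (algebraMap R K a) := by
      change (1 : K) ⊗ₜ[R] (algebraMap R' A' (algebraMap R R' a)) = (algebraMap R K a) ⊗ₜ[R] (1 : A')
      rw [← IsScalarTower.algebraMap_apply R R' A', Algebra.algebraMap_eq_smul_one,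
        Algebra.algebraMap_eq_smul_one (A := K), TensorProduct.tmul_smul, TensorProduct.smul_tmul']
    rw [hcomm]
    constructor
    · intro h
      by_contra haQ
      have hne : algebraMap R K a ≠ 0 := fun h0 => haQ (Ideal.algebraMap_residueField_eq_zero.1 h0)
      exact 𝔮.isPrime.ne_top (Ideal.eq_top_of_isUnit_mem _ h ((isUnit_iff_ne_zero.2 hne).map _))
    · intro haQ
      rw [Ideal.algebraMap_residueField_eq_zero.2 haQ, map_zero]
      exact zero_mem _
  · by_contra hns
    rw [Module.notMem_support_iff'] at hns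
    refine (Module.notMem_support_iff' (p := 𝔮)).2 ?_ h𝔮
    intro t
    induction t using TensorProduct.induction_on with
    | zero => exact ⟨1, fun h => 𝔮.isPrime.ne_top ((Ideal.eq_top_iff_one _).2 h), smul_zero _⟩
    | add t₁ t₂ h₁ h₂ =>
      obtain ⟨d₁, hd₁, e₁⟩ := h₁
      obtain ⟨d₂, hd₂, e₂⟩ := h₂
      refine ⟨d₁ * d₂, fun h => (𝔮.isPrime.mem_or_mem h).elim hd₁ hd₂, ?_⟩
      have a1 : (d₁ * d₂) • t₁ = 0 := by
        rw [mul_comm]
        exact (mul_smul d₂ d₁ t₁).trans (by rw [e₁, smul_zero])
      have a2 : (d₁ * d₂) • t₂ = 0 := (mul_smul d₁ d₂ t₂).trans (by rw [e₂, smul_zero])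
      rw [smul_add, a1, a2, add_zero]
    | tmul d n =>
      induction n using LocalizedModule.induction_on with
      | h m s =>
        obtain ⟨r, hr, hrm⟩ := hns m
        refine ⟨ψ r, hr, ?_⟩
        change (ψ r * d) ⊗ₜ[A'] (LocalizedModule.mk m s) = 0
        have h5 : ψ r * d = (algebraMap R' A' r) • d := by
          rw [Algebra.smul_def]; rfl
        have h7 : ((algebraMap R' A' r) • d) ⊗ₜ[A'] (LocalizedModule.mk m s : N) =
            d ⊗ₜ[A'] ((algebraMap R' A' r) • (LocalizedModule.mk m s : N)) :=
          TensorProduct.smul_tmul (R := A') (R' := A') (M := D) (N := N) (algebraMap R' A' r) d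
            (LocalizedModule.mk m s)
        have h6 : (algebraMap R' A' r) • (LocalizedModule.mk m s : N) = LocalizedModule.mk (r • m) s := by
          rw [algebraMap_smul, LocalizedModule.smul'_mk]
        rw [h5, h7, h6, hrm, LocalizedModule.zero_mk, TensorProduct.tmul_zero]

end Groth.Agent.Lib.Helper26.SuppFlat
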