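import Mathlib
import Groth.Prelude.Def_FlatMod2
import Groth.Agent.Lib.Helper4NormDelta

set_option autoImplicit false
universe u
open CategoryTheory AlgebraicGeometry Limits TensorProduct IsLocalRing
open Groth.Agent.Lib.Helper4.NormDelta

namespace Groth.Agent.Lib.Helper26.TildeStalk

variable {R : CommRingCat.{u}} (M : ModuleCat.{u} R) (x : PrimeSpectrum R)

/-- the ring map `R → O_{Spec R, x}`. -/
noncomputable def tS : (R : Type u) →+* ((Spec R).presheaf.stalk x : Type u) :=
  (StructureSheaf.toStalk R x).hom

set_option backward.isDefEq.respectTransparency.types false in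
theorem smul_stalk (r : R) (m : (tilde M).presheaf.stalk x) :
    r • m = tS x r • m := rfl

section iso

variable (S : Type u) [CommRing S] [Algebra R S] [IsLocalization.AtPrime S x.asIdeal]

/-- `O_{Spec R, x} ≃ S` for a localization `S` of `R` at the prime `x`. -/
noncomputable def sigma : ((Spec R).presheaf.stalk x : Type u) ≃+* S :=
  letI : Algebra ↑R ↑((Spec R).presheaf.stalk x) := StructureSheaf.stalkAlgebra (↑R) x
  haveI : IsLocalization.AtPrime (↑((Spec R).presheaf.stalk x)) x.asIdeal :=
    StructureSheaf.IsLocalization.to_stalk R x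
  (IsLocalization.algEquiv x.asIdeal.primeCompl (↑((Spec R).presheaf.stalk x)) S).toRingEquiv

theorem sigma_tS (r : R) : sigma x S (tS x r) = algebraMap R S r := by
  letI : Algebra ↑R ↑((Spec R).presheaf.stalk x) := StructureSheaf.stalkAlgebra (↑R) x
  haveI : IsLocalization.AtPrime (↑((Spec R).presheaf.stalk x)) x.asIdeal :=
    StructureSheaf.IsLocalization.to_stalk R x
  exact (IsLocalization.algEquiv x.asIdeal.primeCompl (↑((Spec R).presheaf.stalk x)) S).commutes r

theorem exists_tS_mul (a : ((Spec R).presheaf.stalk x : Type u)) :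
    ∃ (r : R) (t : x.asIdeal.primeCompl), a * tS x t = tS x r := by
  letI : Algebra ↑R ↑((Spec R).presheaf.stalk x) := StructureSheaf.stalkAlgebra (↑R) x
  haveI : IsLocalization.AtPrime (↑((Spec R).presheaf.stalk x)) x.asIdeal :=
    StructureSheaf.IsLocalization.to_stalk R x
  obtain ⟨⟨r, t⟩, h⟩ := IsLocalization.surj x.asIdeal.primeCompl a
  exact ⟨r, t, h⟩

variable {S} {N : Type u} [AddCommGroup N] [Module R N] [Module S N] [IsScalarTower R S N]
  (j : M →ₗ[R] N) [IsLocalizedModule x.asIdeal.primeCompl j]

set_option backward.isDefEq.respectTransparency.types false in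
/-- the stalk of `M^~` at `x` is `N`, for a localization `j : M → N` at `x`. -/
noncomputable def alpha : ((tilde M).presheaf.stalk x : Type u) ≃ₗ[R] N :=
  IsLocalizedModule.linearEquiv x.asIdeal.primeCompl (tilde.toStalk M x).hom j

set_option backward.isDefEq.respectTransparency.types false in
theorem alpha_toStalk (m : M) : alpha M x j ((tilde.toStalk M x).hom m) = j m :=
  IsLocalizedModule.linearEquiv_apply _ _ _ m

set_option backward.isDefEq.respectTransparency.types false in
theorem alpha_smul (a : ((Spec R).presheaf.stalk x : Type u)) (m : (tilde M).presheaf.stalk x) :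
    alpha M x j (a • m) = sigma x S a • alpha M x j m := by
  obtain ⟨r, t, h⟩ := exists_tS_mul x a
  have hinj : Function.Injective (fun n : N => (t : R) • n) := by
    have := IsLocalizedModule.map_units j t
    rw [Module.End.isUnit_iff] at this
    exact this.1
  apply hinj
  change (t : R) • alpha M x j (a • m) = (t : R) • (sigma x S a • alpha M x j m)
  rw [← map_smul, smul_stalk, smul_smul, mul_comm, h, ← smul_stalk, map_smul,
    ← algebraMap_smul S (t : R), smul_smul, ← sigma_tS x S, ← map_mul, mul_comm, h, sigma_tS,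
    algebraMap_smul]

end iso

end Groth.Agent.Lib.Helper26.TildeStalk

namespace Groth.Agent.Lib.Helper26.TildeStalk

section maps

variable {R : CommRingCat.{u}}

set_option backward.isDefEq.respectTransparency.types false in
theorem stalkHom_toStalk {M M' : ModuleCat.{u} R} (u₀ : M ⟶ M') (x : PrimeSpectrum R) (m : M) :
    stalkHom (tilde.map u₀) x ((tilde.toStalk M x).hom m) = (tilde.toStalk M' x).hom (u₀.hom m) := by
  have h1 : (tilde.toStalk M x).hom m =
      (tilde M).presheaf.germ ⊤ x trivial ((tilde.toOpen M ⊤).hom m) := rfl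
  have h2 : (tilde.toStalk M' x).hom (u₀.hom m) =
      (tilde M').presheaf.germ ⊤ x trivial ((tilde.toOpen M' ⊤).hom (u₀.hom m)) := rfl
  rw [h1, h2, stalkHom_germ]
  congr 1
  exact congr($(tilde.toOpen_map_app u₀ ⊤) m)

end maps

section flat

variable {R₀ A : CommRingCat.{u}} (φ : R₀ ⟶ A) (x : PrimeSpectrum A)

theorem stalkMap_tS (r : R₀) :
    ((Spec.map φ).stalkMap x).hom (tS (PrimeSpectrum.comap φ.hom x) r) = tS x (φ.hom r) :=
  AlgebraicGeometry.stalkMap_toStalk_apply φ x r

set_option backward.isDefEq.respectTransparency.types false in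
theorem isFlatOverAt_iff (G : (Spec A).Modules) {P : Type u} [AddCommGroup P] [Module R₀ P]
    (β : (G.presheaf.stalk x : Type u) ≃+ P)
    (hβ : ∀ (r : R₀) (g : G.presheaf.stalk x), β (tS x (φ.hom r) • g) = r • β g) :
    FlatMod.IsFlatOverAt (Spec.map φ) G x ↔ Module.Flat R₀ P := by
  unfold FlatMod.IsFlatOverAt
  letI := FlatMod.moduleStalkOver (Spec.map φ) G x
  let y : PrimeSpectrum R₀ := (Spec.map φ) x
  letI : Algebra R₀ ((Spec R₀).presheaf.stalk y) := StructureSheaf.stalkAlgebra R₀ y
  haveI : IsLocalization.AtPrime ((Spec R₀).presheaf.stalk y) y.asIdeal :=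
    StructureSheaf.IsLocalization.to_stalk R₀ y
  letI mR : Module R₀ (G.presheaf.stalk x) := Module.compHom _ ((tS x).comp φ.hom)
  haveI : IsScalarTower R₀ ((Spec R₀).presheaf.stalk y) (G.presheaf.stalk x) := by
    refine ⟨fun r b g => ?_⟩
    change ((Spec.map φ).stalkMap x).hom (tS y r * b) • g =
      tS x (φ.hom r) • (((Spec.map φ).stalkMap x).hom b • g)
    rw [map_mul, mul_smul]
    congr 1
    exact stalkMap_tS φ x r
  rw [Module.flat_iff_of_isLocalization ((Spec R₀).presheaf.stalk y) y.asIdeal.primeCompl
    (G.presheaf.stalk x)]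
  let e : (G.presheaf.stalk x : Type u) ≃ₗ[R₀] P := { β with map_smul' := hβ }
  exact ⟨fun h => Module.Flat.of_linearEquiv e.symm, fun h => Module.Flat.of_linearEquiv e⟩

end flat

end Groth.Agent.Lib.Helper26.TildeStalk
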