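import Mathlib
import Groth.Agent.Lib.Helper26FibInjLim
import Groth.Agent.Lib.Helper2FPAff
import Groth.Agent.Lib.Helper26TildeStalk

set_option autoImplicit false
universe u
open CategoryTheory AlgebraicGeometry Limits TensorProduct IsLocalRing
open Groth.Agent.Lib.Helper4.NormDelta Groth.Agent.Lib.Helper26.TildeStalk
  Groth.Agent.Lib.Helper26.FibInj Groth.Agent.Lib.Helper26.InjFlatFib
  Groth.Agent.Lib.Helper26.FibInjLim

namespace Groth.Agent.Lib.Helper26.TildeMain

theorem exists_addEquiv_of_ker_eq {G H₁ H₂ : Type*} [AddCommGroup G] [AddCommGroup H₁]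
    [AddCommGroup H₂] (f₁ : G →+ H₁) (f₂ : G →+ H₂) (h₁ : Function.Surjective f₁)
    (h₂ : Function.Surjective f₂) (h : f₁.ker = f₂.ker) :
    ∃ e : H₁ ≃+ H₂, ∀ g, e (f₁ g) = f₂ g := by
  refine ⟨(QuotientAddGroup.quotientKerEquivOfSurjective f₁ h₁).symm.trans
    ((QuotientAddGroup.quotientAddEquivOfEq h).trans
      (QuotientAddGroup.quotientKerEquivOfSurjective f₂ h₂)), fun g => ?_⟩
  have : (QuotientAddGroup.quotientKerEquivOfSurjective f₁ h₁).symm (f₁ g) =
      (QuotientAddGroup.mk g : G ⧸ f₁.ker) := by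
    rw [AddEquiv.symm_apply_eq]
    rfl
  simp only [AddEquiv.trans_apply, this]
  rfl

theorem mem_smul_top_iff_of_semilinear {B S P N : Type*} [CommRing B] [CommRing S]
    [AddCommGroup P] [Module B P] [AddCommGroup N] [Module S N] (σ : B ≃+* S) (α : P ≃+ N)
    (h : ∀ (a : B) (p : P), α (a • p) = σ a • α p) (J : Ideal B) (p : P) :
    p ∈ J • (⊤ : Submodule B P) ↔ α p ∈ (J.map (σ : B →+* S)) • (⊤ : Submodule S N) := by
  constructor
  · intro hp
    refine Submodule.smul_induction_on hp (fun a ha q _ => ?_) (fun q₁ q₂ h₁ h₂ => ?_)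
    · rw [h]
      exact Submodule.smul_mem_smul (Ideal.mem_map_of_mem _ ha) Submodule.mem_top
    · rw [map_add]
      exact add_mem h₁ h₂
  · intro hp
    have key : ∀ n ∈ (J.map (σ : B →+* S)) • (⊤ : Submodule S N),
        α.symm n ∈ J • (⊤ : Submodule B P) := by
      intro n hn
      refine Submodule.smul_induction_on hn (fun b hb q _ => ?_) (fun q₁ q₂ h₁ h₂ => ?_)
      · have e : α.symm (b • q) = σ.symm b • α.symm q := by
          apply α.injective
          rw [h, AddEquiv.apply_symm_apply, RingEquiv.apply_symm_apply, AddEquiv.apply_symm_apply]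
        rw [e]
        refine Submodule.smul_mem_smul ?_ Submodule.mem_top
        have hb' : b ∈ J.comap σ.symm := by
          rw [Ideal.comap_symm]; exact hb
        exact hb'
      · rw [map_add]
        exact add_mem h₁ h₂
    have := key _ hp
    rwa [AddEquiv.symm_apply_apply] at this

section main

variable {R₀ A : CommRingCat.{u}} (φ : R₀ ⟶ A) (x : PrimeSpectrum A)
  {S : Type u} [CommRing S] [Algebra A S] [IsLocalization.AtPrime S x.asIdeal]
  {M' M : ModuleCat.{u} A} (u₀ : M' ⟶ M)
  {N' N : Type u} [AddCommGroup N'] [Module A N'] [Module S N'] [IsScalarTower A S N']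
  [AddCommGroup N] [Module A N] [Module S N] [IsScalarTower A S N]
  (j' : M' →ₗ[A] N') [IsLocalizedModule x.asIdeal.primeCompl j']
  (j : M →ₗ[A] N) [IsLocalizedModule x.asIdeal.primeCompl j]
  (u : N' →ₗ[S] N) (c : S) (hcomm : ∀ m, j (u₀.hom m) = c • u (j' m))

include hcomm in
omit [IsLocalization.AtPrime S x.asIdeal] in
set_option backward.isDefEq.respectTransparency.types false in
theorem alpha_stalkHom (m : (tilde M').presheaf.stalk x) :
    alpha M x j (stalkHom (tilde.map u₀) x m) = c • u (alpha M' x j' m) := by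
  obtain ⟨⟨m₀, t⟩, ht⟩ := IsLocalizedModule.surj x.asIdeal.primeCompl (tilde.toStalk M' x).hom m
  have ht' : (t : A) • m = (tilde.toStalk M' x).hom m₀ := ht
  have hinj : Function.Injective (fun n : N => (t : A) • n) := by
    have := IsLocalizedModule.map_units j t
    rw [Module.End.isUnit_iff] at this
    exact this.1
  apply hinj
  change (t : A) • alpha M x j (stalkHom (tilde.map u₀) x m) = (t : A) • (c • u (alpha M' x j' m))
  have e1 : (t : A) • alpha M x j (stalkHom (tilde.map u₀) x m) = j (u₀.hom m₀) := by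
    rw [← map_smul, smul_stalk, ← stalkHom_smul, ← smul_stalk, ht', stalkHom_toStalk, alpha_toStalk]
  have e2 : (t : A) • (c • u (alpha M' x j' m)) = c • u (j' m₀) := by
    rw [smul_comm (t : A) c, ← LinearMap.map_smul_of_tower u (t : A), ← map_smul (alpha M' x j'),
      ht', alpha_toStalk]
  rw [e1, e2, hcomm]

set_option backward.isDefEq.respectTransparency.types false in
omit [IsLocalization.AtPrime S x.asIdeal] in
theorem map_sigma_J [IsLocalization.AtPrime S x.asIdeal] :
    Ideal.map (sigma x S : ((Spec A).presheaf.stalk x : Type u) →+* S)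
      (Ideal.map ((Spec.map φ).stalkMap x).hom
        (maximalIdeal ((Spec R₀).presheaf.stalk ((Spec.map φ) x)))) =
      Ideal.map ((algebraMap A S).comp φ.hom) (x.asIdeal.comap φ.hom) := by
  let y : PrimeSpectrum R₀ := (Spec.map φ) x
  letI : Algebra R₀ ((Spec R₀).presheaf.stalk y) := StructureSheaf.stalkAlgebra R₀ y
  haveI : IsLocalization.AtPrime ((Spec R₀).presheaf.stalk y) y.asIdeal :=
    StructureSheaf.IsLocalization.to_stalk R₀ y
  have h1 : maximalIdeal ((Spec R₀).presheaf.stalk y) = Ideal.map (tS y) y.asIdeal :=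
    (IsLocalization.AtPrime.map_eq_maximalIdeal y.asIdeal _).symm
  change Ideal.map _ (Ideal.map _ (maximalIdeal ((Spec R₀).presheaf.stalk y))) = _
  rw [h1, Ideal.map_map, Ideal.map_map]
  have h2 : y.asIdeal = x.asIdeal.comap φ.hom := rfl
  rw [h2]
  congr 1
  ext r
  change sigma x S (((Spec.map φ).stalkMap x).hom (tS y r)) = algebraMap A S (φ.hom r)
  rw [← sigma_tS x S]
  congr 1
  exact stalkMap_tS φ x r

include hcomm in
set_option backward.isDefEq.respectTransparency.types false in
/-- **local algebraic form** of "fibrewise injective ⇒ injective with flat cokernel" (EGA IV 11.3.7),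
for a localization `S` of a finitely presented algebra `A` over `R₀` at a prime `x`. -/
theorem injective_and_flat_of_local (hφ : φ.hom.FinitePresentation)
    [Module.FinitePresentation A M'] [Module.FinitePresentation A M] (hc : IsUnit c)
    [Module R₀ N] (hN : ∀ (r : R₀) (n : N), r • n = φ.hom r • n) [Module.Flat R₀ N]
    (hu : ∀ n : N', u n ∈ (Ideal.map ((algebraMap A S).comp φ.hom) (x.asIdeal.comap φ.hom)) •
        (⊤ : Submodule S N) →
      n ∈ (Ideal.map ((algebraMap A S).comp φ.hom) (x.asIdeal.comap φ.hom)) •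
        (⊤ : Submodule S N'))
    {P : Type u} [AddCommGroup P] [Module R₀ P] (π : N →+ P) (hπ : Function.Surjective π)
    (hker : ∀ n, π n = 0 ↔ n ∈ LinearMap.range u)
    (hπs : ∀ (r : R₀) (n : N), π (φ.hom r • n) = r • π n) :
    Function.Injective u ∧ Module.Flat R₀ P := by
  haveI : LocallyOfFinitePresentation (Spec.map φ) :=
    (HasRingHomProperty.Spec_iff (P := @LocallyOfFinitePresentation)).mpr hφ
  have hF' := (Groth.Agent.Lib.Helper2.FPAff.isFinitePresentation_tilde_iff A M').2 inferInstance
  have hF := (Groth.Agent.Lib.Helper2.FPAff.isFinitePresentation_tilde_iff A M).2 inferInstance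
  have hflat : FlatMod.IsFlatOverAt (Spec.map φ) (tilde M) x := by
    refine (isFlatOverAt_iff φ x (tilde M) (alpha M x j).toAddEquiv (fun r g => ?_)).2 inferInstance
    change alpha M x j (tS x (φ.hom r) • g) = r • alpha M x j g
    rw [← smul_stalk, map_smul, hN]
  have H : FibInjAt (Spec.map φ) (tilde.map u₀) x := by
    intro m hm
    rw [mem_smul_top_iff_of_semilinear (sigma x S) (alpha M' x j').toAddEquiv (alpha_smul M' x j'),
      map_sigma_J]
    apply hu
    rw [mem_smul_top_iff_of_semilinear (sigma x S) (alpha M x j).toAddEquiv (alpha_smul M x j),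
      map_sigma_J] at hm
    change alpha M x j (stalkHom (tilde.map u₀) x m) ∈ _ at hm
    rw [alpha_stalkHom x u₀ j' j u c hcomm] at hm
    obtain ⟨v, rfl⟩ := hc
    have := Submodule.smul_mem _ (↑v⁻¹ : S) hm
    rwa [smul_smul, Units.inv_mul, one_smul] at this
  obtain ⟨inj, fl⟩ := injective_and_flat_of_fibInjAt_affine (A := R₀) (Spec.map φ) (tilde M')
    (tilde M) hF' hF (tilde.map u₀) x hflat H
  obtain ⟨v, rfl⟩ := hc
  refine ⟨?_, ?_⟩
  · rw [← LinearMap.ker_eq_bot, LinearMap.ker_eq_bot']
    intro n hn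
    obtain ⟨m, rfl⟩ := (alpha M' x j').surjective n
    have h0 : alpha M x j (stalkHom (tilde.map u₀) x m) = 0 := by
      rw [alpha_stalkHom x u₀ j' j u _ hcomm, hn, smul_zero]
    have h1 : stalkHom (tilde.map u₀) x m = 0 := by
      apply (alpha M x j).injective
      rw [h0, map_zero]
    have h2 : m = 0 := by
      apply inj
      rw [h1, map_zero]
    rw [h2, map_zero]
  · obtain ⟨hsurj, hex⟩ := stalk_exact_cokernel hF hF' (tilde.map u₀) x
    let f₁ : ((tilde M).presheaf.stalk x : Type u) →+
        ((cokernel (tilde.map u₀)).presheaf.stalk x : Type u) :=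
      (stalkHom (cokernel.π (tilde.map u₀)) x).hom
    let f₂ : ((tilde M).presheaf.stalk x : Type u) →+ P :=
      π.comp (alpha M x j).toAddEquiv.toAddMonoidHom
    have hk : f₁.ker = f₂.ker := by
      ext g
      rw [AddMonoidHom.mem_ker, AddMonoidHom.mem_ker]
      change stalkHom (cokernel.π (tilde.map u₀)) x g = 0 ↔ π (alpha M x j g) = 0
      rw [hex, hker]
      constructor
      · rintro ⟨m, rfl⟩
        rw [alpha_stalkHom x u₀ j' j u _ hcomm, ← map_smul]
        exact ⟨_, rfl⟩
      · rintro ⟨n, hn⟩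
        obtain ⟨m, rfl⟩ := (alpha M' x j').surjective n
        refine ⟨((sigma x S).symm (↑v⁻¹ : S)) • m, ?_⟩
        apply (alpha M x j).injective
        rw [stalkHom_smul, alpha_smul (S := S) M x j, alpha_stalkHom x u₀ j' j u _ hcomm,
          RingEquiv.apply_symm_apply, smul_smul, Units.inv_mul, one_smul, hn]
    obtain ⟨β, hβ⟩ := exists_addEquiv_of_ker_eq f₁ f₂ hsurj
      (hπ.comp (alpha M x j).surjective) hk
    have hβs : ∀ (r : R₀) (g : ((cokernel (tilde.map u₀)).presheaf.stalk x : Type u)),
        β (tS x (φ.hom r) • g) = r • β g := ?_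
    · exact (isFlatOverAt_iff φ x _ β hβs).1 fl
    intro r g
    obtain ⟨g, rfl⟩ := hsurj g
    have hβ' : ∀ g, β (stalkHom (cokernel.π (tilde.map u₀)) x g) = π (alpha M x j g) := hβ
    have e1 : tS x (φ.hom r) • stalkHom (cokernel.π (tilde.map u₀)) x g =
        stalkHom (cokernel.π (tilde.map u₀)) x (tS x (φ.hom r) • g) :=
      (stalkHom_smul (cokernel.π (tilde.map u₀)) x (tS x (φ.hom r)) g).symm
    rw [e1, hβ', hβ', ← smul_stalk, map_smul, hπs]

end main

end Groth.Agent.Lib.Helper26.TildeMain
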