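import Mathlib.NumberTheory.Bernoulli
import Mathlib.RingTheory.PowerSeries.Inverse

/-!
Low-order coefficient computations for products / inverses of rational power series,
used for the Todd-class integrand rows (MoretBailly.*).
-/

set_option autoImplicit false

namespace Groth.Agent.Lib.Helper26

open PowerSeries

theorem coeff_zero_mul4 (f g : ℚ⟦X⟧) : coeff 0 (f * g) = coeff 0 f * coeff 0 g := by
  simp [coeff_mul]

theorem coeff_one_mul4 (f g : ℚ⟦X⟧) :
    coeff 1 (f * g) = coeff 0 f * coeff 1 g + coeff 1 f * coeff 0 g := by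
  rw [coeff_mul, Finset.Nat.sum_antidiagonal_eq_sum_range_succ_mk]
  simp [Finset.sum_range_succ]

theorem coeff_two_mul4 (f g : ℚ⟦X⟧) :
    coeff 2 (f * g) = coeff 0 f * coeff 2 g + coeff 1 f * coeff 1 g + coeff 2 f * coeff 0 g := by
  rw [coeff_mul, Finset.Nat.sum_antidiagonal_eq_sum_range_succ_mk]
  simp [Finset.sum_range_succ]

theorem coeff_three_mul4 (f g : ℚ⟦X⟧) :
    coeff 3 (f * g) = coeff 0 f * coeff 3 g + coeff 1 f * coeff 2 g + coeff 2 f * coeff 1 g +
      coeff 3 f * coeff 0 g := by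
  rw [coeff_mul, Finset.Nat.sum_antidiagonal_eq_sum_range_succ_mk]
  simp [Finset.sum_range_succ]

theorem coeff_bern (n : ℕ) : coeff n (bernoulli'PowerSeries ℚ) = bernoulli' n / n.factorial := by
  simp [bernoulli'PowerSeries]

theorem coeff_bern_zero : coeff 0 (bernoulli'PowerSeries ℚ) = 1 := by
  rw [coeff_bern]; simp

theorem coeff_bern_one : coeff 1 (bernoulli'PowerSeries ℚ) = 1 / 2 := by
  rw [coeff_bern, bernoulli'_one]; simp

theorem coeff_bern_two : coeff 2 (bernoulli'PowerSeries ℚ) = 1 / 12 := by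
  rw [coeff_bern, bernoulli'_two]; norm_num [Nat.factorial]

theorem coeff_bern_three : coeff 3 (bernoulli'PowerSeries ℚ) = 0 := by
  rw [coeff_bern, bernoulli'_three]; simp

section inv
variable (f : ℚ⟦X⟧) (h0 : coeff 0 f = 1)
include h0

theorem mul_inv_of_coeff_zero_eq_one : f * f⁻¹ = 1 := by
  apply PowerSeries.mul_inv_cancel
  rw [← coeff_zero_eq_constantCoeff_apply, h0]
  exact one_ne_zero

theorem coeff_zero_inv4 : coeff 0 f⁻¹ = 1 := by
  have h := congrArg (coeff 0) (mul_inv_of_coeff_zero_eq_one f h0)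
  rw [coeff_zero_mul4, h0, one_mul] at h
  simpa using h

theorem coeff_one_inv4 : coeff 1 f⁻¹ = -coeff 1 f := by
  have h := congrArg (coeff 1) (mul_inv_of_coeff_zero_eq_one f h0)
  rw [coeff_one_mul4, h0, coeff_zero_inv4 f h0] at h
  have h1 : coeff 1 (1 : ℚ⟦X⟧) = 0 := by simp [coeff_one]
  rw [h1] at h
  linarith

theorem coeff_two_inv4 : coeff 2 f⁻¹ = -coeff 2 f + (coeff 1 f) ^ 2 := by
  have h := congrArg (coeff 2) (mul_inv_of_coeff_zero_eq_one f h0)
  rw [coeff_two_mul4, h0, coeff_zero_inv4 f h0, coeff_one_inv4 f h0] at h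
  have h1 : coeff 2 (1 : ℚ⟦X⟧) = 0 := by simp [coeff_one]
  rw [h1] at h
  linarith

theorem coeff_three_inv4 :
    coeff 3 f⁻¹ = -coeff 3 f + 2 * coeff 1 f * coeff 2 f - (coeff 1 f) ^ 3 := by
  have h := congrArg (coeff 3) (mul_inv_of_coeff_zero_eq_one f h0)
  rw [coeff_three_mul4, h0, coeff_zero_inv4 f h0, coeff_one_inv4 f h0, coeff_two_inv4 f h0] at h
  have h1 : coeff 3 (1 : ℚ⟦X⟧) = 0 := by simp [coeff_one]
  rw [h1] at h
  linarith

end inv

theorem coeff_rescale_exp (c : ℚ) (n : ℕ) :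
    coeff n (rescale c (exp ℚ)) = c ^ n / n.factorial := by
  rw [coeff_rescale, coeff_exp]
  simp [div_eq_mul_inv]

end Groth.Agent.Lib.Helper26
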