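import Mathlib.RingTheory.Nilpotent.Basic
import Mathlib.LinearAlgebra.FiniteDimensional.Lemmas
import Mathlib.Algebra.Ring.GeomSum

/-!
Unipotent endomorphisms in characteristic zero: a vector fixed by a positive power is fixed.
-/

set_option autoImplicit false

namespace Groth.Agent.Lib.Helper26

theorem ker_pow_sub_one_eq (K : Type*) (V : Type*) [Field K] [CharZero K]
    [AddCommGroup V] [Module K V] (g : Module.End K V) (hg : IsNilpotent (g - 1)) (n : ℕ)
    (hn : 0 < n) :
    LinearMap.ker (g ^ n - 1) = LinearMap.ker (g - 1) := by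
  have hpow : ∀ i : ℕ, IsNilpotent (g ^ i - 1) := by
    intro i
    rw [← geom_sum_mul g i]
    refine Commute.isNilpotent_mul_left ?_ hg
    apply Commute.sub_right _ (Commute.one_right _)
    exact Commute.sum_left _ _ _ (fun j _ => (Commute.refl g).pow_left j)
  have hcomm : ∀ i j : ℕ, Commute (g ^ i - 1) (g ^ j - 1) := by
    intro i j
    apply Commute.sub_right _ (Commute.one_right _)
    apply Commute.sub_left _ (Commute.one_left _)
    exact (Commute.refl g).pow_pow i j
  have hS : (∑ i ∈ Finset.range n, g ^ i) =
      (n : Module.End K V) + ∑ i ∈ Finset.range n, (g ^ i - 1) := by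
    rw [Finset.sum_sub_distrib]
    simp
  have hnil : IsNilpotent (∑ i ∈ Finset.range n, (g ^ i - 1)) :=
    Commute.isNilpotent_sum (fun i _ => hpow i) (fun i j _ _ => hcomm i j)
  have hnunit : IsUnit (n : Module.End K V) := by
    have : (n : Module.End K V) = algebraMap K (Module.End K V) (n : K) := by simp
    rw [this]
    apply IsUnit.map
    exact IsUnit.mk0 _ (Nat.cast_ne_zero.mpr hn.ne')
  have hSunit : IsUnit (∑ i ∈ Finset.range n, g ^ i) := by
    rw [hS]
    exact hnil.isUnit_add_left_of_commute hnunit (Nat.cast_commute n _).symm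
  set S : Module.End K V := ∑ i ∈ Finset.range n, g ^ i with hSdef
  have hinj : Function.Injective S :=
    ((Module.End.isUnit_iff _).mp hSunit).1
  ext x
  simp only [LinearMap.mem_ker]
  rw [← geom_sum_mul g n, ← hSdef]
  rw [Module.End.mul_apply]
  constructor
  · intro h
    apply hinj
    rw [h, map_zero]
  · intro h
    rw [h, map_zero]

end Groth.Agent.Lib.Helper26
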