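import Mathlib

namespace Groth.Agent.Lib.Helper7.LeastIdeal

open TensorProduct

/-- For a surjection `g : P → Q` onto a flat module, `ker g ∩ I P ≤ I ker g`. -/
theorem ker_inf_smul_le {R P Q : Type*} [CommRing R] [AddCommGroup P] [Module R P]
    [AddCommGroup Q] [Module R Q] [Module.Flat R Q] (g : P →ₗ[R] Q) (hg : Function.Surjective g)
    (I : Ideal R) : LinearMap.ker g ⊓ I • (⊤ : Submodule R P) ≤ I • LinearMap.ker g := by
  classical
  rintro x ⟨hxk, hxI⟩
  have hspan : (⊤ : Submodule R P) = Submodule.span R (Set.range (id : P → P)) := by simp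
  rw [SetLike.mem_coe, hspan, Submodule.mem_ideal_smul_span_iff_exists_sum] at hxI
  obtain ⟨c, hc, hsum⟩ := hxI
  -- relation in Q
  have hrel : ∑ k : c.support, c k • g (k : P) = 0 := by
    have : g x = 0 := hxk
    rw [← hsum, Finsupp.sum, map_sum] at this
    rw [← this, ← Finset.sum_coe_sort c.support]
    simp
  obtain ⟨n, b, y, hy, hb⟩ := Module.Flat.isTrivialRelation_of_sum_smul_eq_zero hrel
  choose gl hgl using fun j => hg (y j)
  let z : c.support → P := fun k => (k : P) - ∑ j, b k j • gl j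
  have hz : ∀ k, z k ∈ LinearMap.ker g := by
    intro k
    simp only [z, LinearMap.mem_ker, map_sub, map_sum, map_smul, hgl]
    exact sub_eq_zero.2 (hy k)
  have hx : x = ∑ k : c.support, c k • z k := by
    simp only [z, smul_sub, Finset.sum_sub_distrib]
    have h2 : ∑ k : c.support, c k • ∑ j, b k j • gl j = 0 := by
      simp only [Finset.smul_sum, smul_smul]
      rw [Finset.sum_comm]
      refine Finset.sum_eq_zero fun j _ => ?_
      rw [← Finset.sum_smul, hb j, zero_smul]
    rw [h2, sub_zero, ← hsum, Finsupp.sum, ← Finset.sum_coe_sort c.support]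
    simp
  rw [hx]
  exact Submodule.sum_mem _ fun k _ => Submodule.smul_mem_smul (hc k) (hz k)

theorem eq_bot_of_le_smul_of_isNilpotent {R P : Type*} [CommRing R] [AddCommGroup P] [Module R P]
    (I : Ideal R) (hI : IsNilpotent I) (N : Submodule R P) (h : N ≤ I • N) : N = ⊥ := by
  obtain ⟨n, hn⟩ := hI
  have : ∀ k : ℕ, N ≤ I ^ k • N := by
    intro k
    induction k with
    | zero => simp
    | succ k ih =>
      calc N ≤ I • N := h
        _ ≤ I • (I ^ k • N) := Submodule.smul_mono le_rfl ih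
        _ = I ^ (k + 1) • N := by rw [← Submodule.mul_smul, pow_succ']
  have h2 := this n
  rw [hn] at h2
  simpa using h2

theorem eq_top_of_sup_smul_eq_top_of_isNilpotent {R P : Type*} [CommRing R] [AddCommGroup P]
    [Module R P] (I : Ideal R) (hI : IsNilpotent I) (N : Submodule R P)
    (h : N ⊔ I • (⊤ : Submodule R P) = ⊤) : N = ⊤ := by
  obtain ⟨n, hn⟩ := hI
  have : ∀ k : ℕ, N ⊔ I ^ k • (⊤ : Submodule R P) = ⊤ := by
    intro k
    induction k with
    | zero => simp
    | succ k ih =>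
      rw [eq_top_iff]
      calc (⊤ : Submodule R P) = N ⊔ I • (⊤ : Submodule R P) := h.symm
        _ = N ⊔ I • (N ⊔ I ^ k • (⊤ : Submodule R P)) := by rw [ih]
        _ = N ⊔ (I • N ⊔ I • (I ^ k • (⊤ : Submodule R P))) := by rw [Submodule.smul_sup]
        _ ≤ N ⊔ I ^ (k + 1) • (⊤ : Submodule R P) :=
          sup_le le_sup_left (sup_le (le_sup_of_le_left Submodule.smul_le_right)
            (le_sup_of_le_right (by rw [← Submodule.mul_smul, pow_succ'])))
  have h2 := this n
  rw [hn] at h2
  simpa using h2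

end Groth.Agent.Lib.Helper7.LeastIdeal

namespace Groth.Agent.Lib.Helper7.LeastIdeal

open TensorProduct

universe u

theorem lTensor_ker_exact (A : Type u) [CommRing A] {M : Type u} [AddCommGroup M] [Module A M]
    {F : Type u} [AddCommGroup F] [Module A F]
    (φ : F →ₗ[A] M) (hsurj : Function.Surjective φ) (C : Type u) [CommRing C] [Algebra A C] :
    Function.Exact ((LinearMap.ker φ).subtype.lTensor C) (φ.lTensor C) := by
  have h0 : Function.Exact (LinearMap.ker φ).subtype φ := LinearMap.exact_subtype_ker_map φ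
  exact lTensor_exact C h0 hsurj

section main

variable (A : Type u) [CommRing A] {M : Type u} [AddCommGroup M] [Module A M]
variable {I : Type u} (m : I → M)

/-- the map from the free module. -/
noncomputable def phi : (I →₀ A) →ₗ[A] M := Finsupp.linearCombination A m

/-- the coefficient ideal of the kernel. -/
def R0 : Ideal A := Ideal.span {a | ∃ x ∈ LinearMap.ker (phi A m), ∃ i, x i = a}

variable (I) (C : Type u) [CommRing C] [Algebra A C]

/-- basis of `C ⊗ F`. -/
noncomputable def bF : Module.Basis I C (C ⊗[A] (I →₀ A)) :=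
  (Finsupp.basisSingleOne (R := A) (ι := I)).baseChange C

variable {I}

theorem phiC_bF (i : I) : (phi A m).baseChange C (bF A I C i) = 1 ⊗ₜ m i := by
  simp [bF, phi]

theorem bF_repr_tmul (c : C) (f : I →₀ A) (i : I) :
    (bF A I C).repr (c ⊗ₜ f) i = f i • c := by
  simp [bF]

theorem phiC_bijective (β : Module.Basis I C (C ⊗[A] M)) (hβ : ∀ i, β i = 1 ⊗ₜ m i) :
    Function.Bijective ((phi A m).baseChange C) := by
  have : (phi A m).baseChange C = ((bF A I C).equiv β (Equiv.refl I)).toLinearMap := by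
    apply (bF A I C).ext
    intro i
    rw [phiC_bF, LinearEquiv.coe_coe, Module.Basis.equiv_apply, Equiv.refl_apply, hβ]
  rw [this]
  exact ((bF A I C).equiv β (Equiv.refl I)).bijective

theorem phiC_surjective (hsurj : Function.Surjective (phi A m)) :
    Function.Surjective ((phi A m).baseChange C) := by
  have := LinearMap.lTensor_surjective C hsurj
  intro y
  obtain ⟨x, hx⟩ := this y
  exact ⟨x, hx⟩

theorem injective_of_map_R0_eq_bot (hsurj : Function.Surjective (phi A m))
    (hR : Ideal.map (algebraMap A C) (R0 A m) = ⊥) :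
    Function.Injective ((phi A m).baseChange C) := by
  have hexact := lTensor_ker_exact A (phi A m) hsurj C
  rw [injective_iff_map_eq_zero]
  intro x' hx'
  have hmem : x' ∈ LinearMap.range ((LinearMap.ker (phi A m)).subtype.lTensor C) :=
    (hexact x').1 hx'
  obtain ⟨y, rfl⟩ := hmem
  apply (bF A I C).repr.injective
  ext i
  rw [map_zero, Finsupp.zero_apply]
  clear hx'
  induction y using TensorProduct.induction_on with
  | zero => simp
  | tmul c k =>
    rw [LinearMap.lTensor_tmul, bF_repr_tmul, Algebra.smul_def]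
    have h1 : (k : I →₀ A) i ∈ R0 A m := Ideal.subset_span ⟨k, k.2, i, rfl⟩
    have h2 : algebraMap A C ((k : I →₀ A) i) ∈ Ideal.map (algebraMap A C) (R0 A m) :=
      Ideal.mem_map_of_mem _ h1
    rw [hR, Ideal.mem_bot] at h2
    rw [Submodule.subtype_apply, h2, zero_mul]
  | add a b ha hb =>
    rw [map_add, map_add, Finsupp.add_apply, ha, hb, add_zero]

theorem map_R0_eq_bot_of_ker_eq_bot (hK : LinearMap.ker ((phi A m).baseChange C) = ⊥) :
    Ideal.map (algebraMap A C) (R0 A m) = ⊥ := by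
  rw [Ideal.map_eq_bot_iff_le_ker, R0, Ideal.span_le]
  rintro a ⟨x, hx, i, rfl⟩
  have h1 : ((1 : C) ⊗ₜ[A] x) ∈ LinearMap.ker ((phi A m).baseChange C) := by
    rw [LinearMap.mem_ker, LinearMap.baseChange_tmul, LinearMap.mem_ker.1 hx, tmul_zero]
  rw [hK, Submodule.mem_bot] at h1
  have h2 := bF_repr_tmul A C (1 : C) x i
  rw [h1, map_zero, Finsupp.zero_apply] at h2
  rw [SetLike.mem_coe, RingHom.mem_ker, Algebra.algebraMap_eq_smul_one]
  exact h2.symm

end main

end Groth.Agent.Lib.Helper7.LeastIdeal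

namespace Groth.Agent.Lib.Helper7.LeastIdeal

open TensorProduct

universe u

section main2

variable (A : Type u) [CommRing A] {M : Type u} [AddCommGroup M] [Module A M]
variable {I : Type u} (m : I → M)
variable (J : Ideal A) (bbar : Module.Basis I (A ⧸ J) ((A ⧸ J) ⊗[A] M))
  (hb : ∀ i, bbar i = 1 ⊗ₜ m i)
variable (C : Type u) [CommRing C] [Algebra A C]

include hb in
theorem phi_surjective (hJ : IsNilpotent J) : Function.Surjective (phi A m) := by
  have hbij := phiC_bijective A m (A ⧸ J) bbar hb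
  rw [← LinearMap.range_eq_top]
  apply eq_top_of_sup_smul_eq_top_of_isNilpotent J hJ
  rw [eq_top_iff]
  intro x _
  obtain ⟨z, hz⟩ := hbij.2 ((1 : A ⧸ J) ⊗ₜ[A] x)
  obtain ⟨f, rfl⟩ := TensorProduct.mk_surjective A (I →₀ A) (A ⧸ J) Ideal.Quotient.mk_surjective z
  rw [TensorProduct.mk_apply, LinearMap.baseChange_tmul] at hz
  have h1 : ((1 : A ⧸ J) ⊗ₜ[A] (x - phi A m f)) = 0 := by
    rw [tmul_sub, hz, sub_self]
  have h2 := congrArg (TensorProduct.quotTensorEquivQuotSMul M J) h1
  rw [TensorProduct.quotTensorEquivQuotSMul_mk_one_tmul, map_zero,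
    Submodule.Quotient.mk_eq_zero] at h2
  have h3 : x = phi A m f + (x - phi A m f) := by abel
  rw [h3]
  exact Submodule.add_mem_sup (LinearMap.mem_range_self _ f) h2

include hb in
theorem ker_le_smul_top :
    LinearMap.ker ((phi A m).baseChange C) ≤
      (J.map (algebraMap A C)) • (⊤ : Submodule C (C ⊗[A] (I →₀ A))) := by
  classical
  set J' := J.map (algebraMap A C) with hJ'
  -- the quotient algebra
  have hJ0 : ∀ a ∈ J, algebraMap A (C ⧸ J') a = 0 := by
    intro a ha
    rw [IsScalarTower.algebraMap_apply A C (C ⧸ J'), Ideal.Quotient.algebraMap_eq,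
      Ideal.Quotient.eq_zero_iff_mem]
    exact Ideal.mem_map_of_mem _ ha
  let _ : Algebra (A ⧸ J) (C ⧸ J') := (Ideal.Quotient.lift J (algebraMap A (C ⧸ J')) hJ0).toAlgebra
  have : IsScalarTower A (A ⧸ J) (C ⧸ J') := IsScalarTower.of_algebraMap_eq fun a => by
    rw [RingHom.algebraMap_toAlgebra, Ideal.Quotient.algebraMap_eq, Ideal.Quotient.lift_mk]
  let newB : Module.Basis I (C ⧸ J') ((C ⧸ J') ⊗[A] M) :=
    (bbar.baseChange (C ⧸ J')).map
      (TensorProduct.AlgebraTensorModule.cancelBaseChange A (A ⧸ J) (C ⧸ J') (C ⧸ J') M)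
  have hnewB : ∀ i, newB i = 1 ⊗ₜ m i := by
    intro i
    simp only [newB, Module.Basis.map_apply, Module.Basis.baseChange_apply, hb,
      TensorProduct.AlgebraTensorModule.cancelBaseChange_tmul, one_smul]
  have hψ := (phiC_bijective A m (C ⧸ J') newB hnewB).1
  -- the comparison maps
  let qF : C ⊗[A] (I →₀ A) →ₗ[A] (C ⧸ J') ⊗[A] (I →₀ A) :=
    (IsScalarTower.toAlgHom A C (C ⧸ J')).toLinearMap.rTensor (I →₀ A)
  let qM : C ⊗[A] M →ₗ[A] (C ⧸ J') ⊗[A] M :=
    (IsScalarTower.toAlgHom A C (C ⧸ J')).toLinearMap.rTensor M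
  have hnat : ∀ x', (phi A m).baseChange (C ⧸ J') (qF x') = qM ((phi A m).baseChange C x') := by
    intro x'
    induction x' using TensorProduct.induction_on with
    | zero => simp
    | tmul c f => simp [qF, qM]
    | add a b ha hb' => simp only [map_add, ha, hb']
  have hrepr : ∀ x' i, (bF A I (C ⧸ J')).repr (qF x') i =
      Ideal.Quotient.mk J' ((bF A I C).repr x' i) := by
    intro x' i
    induction x' using TensorProduct.induction_on with
    | zero => simp
    | tmul c f =>
      simp only [qF, LinearMap.rTensor_tmul, AlgHom.toLinearMap_apply, bF_repr_tmul]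
      rw [IsScalarTower.coe_toAlgHom', Ideal.Quotient.algebraMap_eq, Algebra.smul_def,
        Algebra.smul_def, map_mul, IsScalarTower.algebraMap_apply A C (C ⧸ J'),
        Ideal.Quotient.algebraMap_eq]
    | add a b ha hb' => simp only [map_add, Finsupp.add_apply, ha, hb']
  intro x' hx'
  have h1 : qF x' = 0 := by
    apply hψ
    rw [hnat, LinearMap.mem_ker.1 hx', map_zero, map_zero]
  have h2 : ∀ i, (bF A I C).repr x' i ∈ J' := by
    intro i
    have := hrepr x' i
    rw [h1, map_zero, Finsupp.zero_apply] at this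
    exact Ideal.Quotient.eq_zero_iff_mem.1 this.symm
  have h3 := (bF A I C).linearCombination_repr x'
  rw [← h3, Finsupp.linearCombination_apply]
  exact Submodule.sum_mem _ fun i _ => Submodule.smul_mem_smul (h2 i) Submodule.mem_top

include hb in
theorem ker_eq_bot_of_flat (hJ : IsNilpotent J) [Module.Flat C (C ⊗[A] M)] :
    LinearMap.ker ((phi A m).baseChange C) = ⊥ := by
  have hsurj := phiC_surjective A m C (phi_surjective A m J bbar hb hJ)
  have hJ' : IsNilpotent (J.map (algebraMap A C)) := by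
    obtain ⟨n, hn⟩ := hJ
    refine ⟨n, ?_⟩
    rw [← Ideal.map_pow, hn]
    simp
  apply eq_bot_of_le_smul_of_isNilpotent _ hJ'
  refine le_trans ?_ (ker_inf_smul_le ((phi A m).baseChange C) hsurj (J.map (algebraMap A C)))
  exact le_inf le_rfl (ker_le_smul_top A m J bbar hb C)

end main2

end Groth.Agent.Lib.Helper7.LeastIdeal

namespace Groth.Agent.Lib.Helper7.LeastIdeal

open TensorProduct

universe u

section main3

variable (A : Type u) [CommRing A] {M : Type u} [AddCommGroup M] [Module A M]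
variable {I : Type u} (m : I → M)
variable (J : Ideal A) (bbar : Module.Basis I (A ⧸ J) ((A ⧸ J) ⊗[A] M))
  (hb : ∀ i, bbar i = 1 ⊗ₜ m i)
variable (C : Type u) [CommRing C] [Algebra A C]

include hb in
theorem free_of_map_R0_eq_bot (hJ : IsNilpotent J)
    (hR : Ideal.map (algebraMap A C) (R0 A m) = ⊥) : Module.Free C (C ⊗[A] M) := by
  have hsurj0 := phi_surjective A m J bbar hb hJ
  have hbij : Function.Bijective ((phi A m).baseChange C) :=
    ⟨injective_of_map_R0_eq_bot A m C hsurj0 hR, phiC_surjective A m C hsurj0⟩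
  have : Module.Free C (C ⊗[A] (I →₀ A)) := Module.Free.of_basis (bF A I C)
  exact Module.Free.of_equiv (LinearEquiv.ofBijective _ hbij)

include hb in
theorem main_iff (hJ : IsNilpotent J) :
    (Module.Free C (C ⊗[A] M) ↔ Ideal.map (algebraMap A C) (R0 A m) = ⊥) ∧
      (Module.Flat C (C ⊗[A] M) ↔ Ideal.map (algebraMap A C) (R0 A m) = ⊥) := by
  have h1 : Module.Flat C (C ⊗[A] M) → Ideal.map (algebraMap A C) (R0 A m) = ⊥ := fun hflat =>
    map_R0_eq_bot_of_ker_eq_bot A m C (ker_eq_bot_of_flat A m J bbar hb C hJ)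
  have h2 := free_of_map_R0_eq_bot A m J bbar hb C hJ
  refine ⟨⟨fun hfree => h1 inferInstance, h2⟩, ⟨h1, fun hR => ?_⟩⟩
  have := h2 hR
  infer_instance

end main3

theorem exists_least_ideal {A : Type u} [CommRing A]
    (M : Type u) [AddCommGroup M] [Module A M]
    (J : Ideal A) (hJ : IsNilpotent J) (hfree : Module.Free (A ⧸ J) ((A ⧸ J) ⊗[A] M)) :
    ∃ R₀ : Ideal A,
      IsLeast {R : Ideal A | Module.Free (A ⧸ R) ((A ⧸ R) ⊗[A] M)} R₀ ∧
      IsLeast {R : Ideal A | Module.Flat (A ⧸ R) ((A ⧸ R) ⊗[A] M)} R₀ ∧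
      ∀ (A' : Type u) [CommRing A'] [Algebra A A'],
        (Module.Free A' (A' ⊗[A] M) ↔ Ideal.map (algebraMap A A') R₀ = ⊥) ∧
        (Module.Flat A' (A' ⊗[A] M) ↔ Ideal.map (algebraMap A A') R₀ = ⊥) := by
  let bbar := Module.Free.chooseBasis (A ⧸ J) ((A ⧸ J) ⊗[A] M)
  have hm : ∀ i, ∃ mi : M, bbar i = 1 ⊗ₜ mi := fun i => by
    obtain ⟨mi, hmi⟩ :=
      TensorProduct.mk_surjective A M (A ⧸ J) Ideal.Quotient.mk_surjective (bbar i)
    exact ⟨mi, hmi.symm⟩
  choose m hm using hm
  have key := fun (C : Type u) [CommRing C] [Algebra A C] => main_iff A m J bbar hm C hJ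
  have hquot : ∀ R : Ideal A, Ideal.map (algebraMap A (A ⧸ R)) (R0 A m) = ⊥ ↔ R0 A m ≤ R := by
    intro R
    rw [Ideal.map_eq_bot_iff_le_ker, Ideal.Quotient.algebraMap_eq, Ideal.mk_ker]
  refine ⟨R0 A m, ⟨?_, ?_⟩, ⟨?_, ?_⟩, fun A' _ _ => key A'⟩
  · exact (key (A ⧸ R0 A m)).1.2 ((hquot _).2 le_rfl)
  · intro R hR
    exact (hquot R).1 ((key (A ⧸ R)).1.1 hR)
  · exact (key (A ⧸ R0 A m)).2.2 ((hquot _).2 le_rfl)
  · intro R hR
    exact (hquot R).1 ((key (A ⧸ R)).2.1 hR)

end Groth.Agent.Lib.Helper7.LeastIdeal
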