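import Mathlib
import Groth.Agent.Lib.Helper2GenFree2
import Groth.Agent.S4853

set_option autoImplicit false
set_option linter.style.haveILetI false
universe u
open TensorProduct
open Groth.Agent.Lib.Helper2.GenFree

namespace Groth.Agent.Lib.Helper26.UnivAlg

/-- a module free away from `f` becomes free after base change to any algebra in which `f` is invertible. -/
theorem free_tensor_of_freeAway {R : Type*} [CommRing R] {P : Type*} [AddCommGroup P] [Module R P]
    {f : R} (h : FreeAway R f P) (K : Type*) [CommRing K] [Algebra R K]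
    (hu : IsUnit (algebraMap R K f)) : Module.Free K (K ⊗[R] P) := by
  let Rf := Localization.Away f
  letI : Algebra Rf K := (IsLocalization.Away.lift (S := Rf) f hu).toAlgebra
  haveI : IsScalarTower R Rf K := IsScalarTower.of_algebraMap_eq (fun r => by
    change algebraMap R K r = IsLocalization.Away.lift (S := Rf) f hu (algebraMap R Rf r)
    rw [IsLocalization.Away.lift_eq])
  haveI : IsLocalizedModule (Submonoid.powers f) (TensorProduct.mk R Rf P 1) :=
    (isLocalizedModule_iff_isBaseChange (Submonoid.powers f) Rf _).2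
      (TensorProduct.isBaseChange R P Rf)
  haveI : Module.Free Rf (Rf ⊗[R] P) := h.free Rf (TensorProduct.mk R Rf P 1)
  exact Module.Free.of_equiv (TensorProduct.AlgebraTensorModule.cancelBaseChange R Rf K K P)

/-- generic freeness modulo the nilradical, for a finite module over a finite type algebra. -/
theorem exists_freeAway_mod_nilradical {A : Type u} [CommRing A] (hN : (nilradical A).IsPrime)
    (B : Type u) [CommRing B] [Algebra A B] [Algebra.FiniteType A B]
    (M : Type u) [AddCommGroup M] [Module B M] [Module A M] [IsScalarTower A B M]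
    [Module.Finite B M] :
    ∃ c : A, ¬ IsNilpotent c ∧
      FreeAway (A ⧸ nilradical A) (Ideal.Quotient.mk (nilradical A) c)
        ((A ⧸ nilradical A) ⊗[A] M) := by
  let R := A ⧸ nilradical A
  haveI : IsDomain R := Ideal.Quotient.isDomain _
  letI := Algebra.TensorProduct.rightAlgebra (R := A) (A := R) (B := B)
  let S := R ⊗[A] B
  obtain ⟨f, hf0, -, hfree, -, -⟩ := exists_freeAway R S (S ⊗[B] M)
  obtain ⟨c, rfl⟩ := Ideal.Quotient.mk_surjective f
  refine ⟨c, ?_, hfree.of_linearEquiv (Algebra.IsPushout.cancelBaseChange A R B S M)⟩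
  intro hc
  exact hf0 ((Ideal.Quotient.eq_zero_iff_mem).2 (mem_nilradical.2 hc))

/-- the algebraic core: over a noetherian ring with prime nilradical, finitely many modules which are generically
free modulo the nilradical admit, after inverting a non-nilpotent element, a universal flattening ideal
contained in the nilradical. -/
theorem exists_flattening_ideal {A : Type u} [CommRing A] [IsNoetherianRing A]
    (hN : (nilradical A).IsPrime) {ι : Type*} [Finite ι]
    (M : ι → Type u) [∀ i, AddCommGroup (M i)] [∀ i, Module A (M i)]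
    (hM : ∀ i, ∃ c : A, ¬ IsNilpotent c ∧
      FreeAway (A ⧸ nilradical A) (Ideal.Quotient.mk (nilradical A) c)
        ((A ⧸ nilradical A) ⊗[A] M i)) :
    ∃ (h : A) (_ : ¬ IsNilpotent h) (J : Ideal (Localization.Away h)) (_ : J.FG)
      (_ : J ≤ nilradical (Localization.Away h)),
      ∀ (A' : Type u) [CommRing A'] [Algebra (Localization.Away h) A'] [Algebra A A']
        [IsScalarTower A (Localization.Away h) A'],
        (∀ i, Module.Flat A' (A' ⊗[A] M i)) ↔
          Ideal.map (algebraMap (Localization.Away h) A') J = ⊥ := by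
  classical
  cases nonempty_fintype ι
  choose c hc hfree using hM
  let h : A := ∏ i, c i
  have hh : ¬ IsNilpotent h := by
    intro hnil
    have hmem : h ∈ nilradical A := mem_nilradical.2 hnil
    obtain ⟨i, -, hi⟩ := (hN.prod_mem_iff).1 hmem
    exact hc i (mem_nilradical.1 hi)
  let R := A ⧸ nilradical A
  have hfree' : ∀ i, FreeAway R (Ideal.Quotient.mk (nilradical A) h) (R ⊗[A] M i) := by
    intro i
    have h1 : h = c i * ∏ j ∈ Finset.univ.erase i, c j :=
      (Finset.mul_prod_erase _ _ (Finset.mem_univ i)).symm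
    rw [h1, map_mul]
    exact (hfree i).mul_right _
  let A₁ := Localization.Away h
  let N₁ := nilradical A₁
  let K := A₁ ⧸ N₁
  have hkill : ∀ a ∈ nilradical A, algebraMap A K a = 0 := by
    intro a ha
    rw [IsScalarTower.algebraMap_apply A A₁ K, Ideal.Quotient.algebraMap_eq,
      Ideal.Quotient.eq_zero_iff_mem]
    exact mem_nilradical.2 ((mem_nilradical.1 ha).map _)
  letI : Algebra R K := (Ideal.Quotient.lift (nilradical A) (algebraMap A K) hkill).toAlgebra
  haveI : IsScalarTower A R K := IsScalarTower.of_algebraMap_eq (fun a => rfl)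
  have hu : IsUnit (algebraMap R K (Ideal.Quotient.mk (nilradical A) h)) := by
    change IsUnit (Ideal.Quotient.lift (nilradical A) (algebraMap A K) hkill
      (Ideal.Quotient.mk (nilradical A) h))
    rw [Ideal.Quotient.lift_mk, IsScalarTower.algebraMap_apply A A₁ K]
    exact (IsLocalization.Away.algebraMap_isUnit h).map _
  have hfreeK : ∀ i, Module.Free K (K ⊗[A₁] (A₁ ⊗[A] M i)) := by
    intro i
    haveI := free_tensor_of_freeAway (hfree' i) K hu
    exact Module.Free.of_equiv
      ((TensorProduct.AlgebraTensorModule.cancelBaseChange A R K K (M i)).trans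
        (TensorProduct.AlgebraTensorModule.cancelBaseChange A A₁ K K (M i)).symm)
  have hnilp : IsNilpotent N₁ := IsNoetherianRing.isNilpotent_nilradical A₁
  choose R₀ hR₀ using fun i => Groth.Agent.S4853.result (A₁ ⊗[A] M i) N₁ hnilp (hfreeK i)
  refine ⟨h, hh, ⨆ i, R₀ i, ?_, ?_, ?_⟩
  · exact (isNoetherianRing_iff_ideal_fg A₁).1 inferInstance _
  · refine iSup_le fun i => ?_
    haveI := hfreeK i
    exact (hR₀ i).2.1.2 (show Module.Flat (A₁ ⧸ N₁) ((A₁ ⧸ N₁) ⊗[A₁] (A₁ ⊗[A] M i)) from
      inferInstance)
  · intro A' _ _ _ _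
    rw [Ideal.map_iSup, iSup_eq_bot]
    refine forall_congr' fun i => ?_
    rw [← ((hR₀ i).2.2 A').2]
    exact Module.Flat.equiv_iff
      (TensorProduct.AlgebraTensorModule.cancelBaseChange A A₁ A' A' (M i)).symm

end Groth.Agent.Lib.Helper26.UnivAlg
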