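import Mathlib

/-!
# Universally closed iff closed after base change to affine spaces (helper26)

Ring-level key lemma, affine charts of fibre products, and the affine core statement.
-/

set_option autoImplicit false
universe u
open TensorProduct CategoryTheory CategoryTheory.Limits AlgebraicGeometry

namespace Groth.Agent.Lib.Helper26.UnivClosed

section Ring
variable {R A' B : Type u} [CommRing R] [CommRing A'] [CommRing B] [Algebra R A'] [Algebra R B]

/-- Every element of `B ⊗ A'` comes from `B ⊗ A` as soon as the image of `A` contains a suitable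
finite set. -/
theorem exists_finset_lift (z : B ⊗[R] A') :
    ∃ F : Finset A', ∀ (A : Type u) [CommRing A] [Algebra R A] (h : A →ₐ[R] A'),
      (↑F ⊆ Set.range h) →
      ∃ z' : B ⊗[R] A, Algebra.TensorProduct.map (AlgHom.id R B) h z' = z := by
  classical
  induction z using TensorProduct.induction_on with
  | zero => exact ⟨∅, fun A _ _ h _ => ⟨0, map_zero _⟩⟩
  | tmul b a =>
    refine ⟨{a}, fun A _ _ h hF => ?_⟩
    obtain ⟨a', ha'⟩ := hF (by simp : a ∈ (↑({a} : Finset A') : Set A'))
    exact ⟨b ⊗ₜ a', by simp [ha']⟩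
  | add x y hx hy =>
    obtain ⟨F1, h1⟩ := hx
    obtain ⟨F2, h2⟩ := hy
    refine ⟨F1 ∪ F2, fun A _ _ h hF => ?_⟩
    obtain ⟨x', hx'⟩ := h1 A h (fun a ha => hF (by simp [Finset.mem_coe.mp ha]))
    obtain ⟨y', hy'⟩ := h2 A h (fun a ha => hF (by simp [Finset.mem_coe.mp ha]))
    exact ⟨x' + y', by rw [map_add, hx', hy']⟩

theorem exists_finset_lift_map (t : Ideal A') (m : B ⊗[R] A')
    (hm : m ∈ Ideal.map (Algebra.TensorProduct.includeRight : A' →ₐ[R] B ⊗[R] A').toRingHom t) :
    ∃ F : Finset A', ∀ (A : Type u) [CommRing A] [Algebra R A] (h : A →ₐ[R] A'),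
      (↑F ⊆ Set.range h) →
      ∃ m' : B ⊗[R] A, m' ∈ Ideal.map
          (Algebra.TensorProduct.includeRight : A →ₐ[R] B ⊗[R] A).toRingHom
          (t.comap h.toRingHom) ∧
        Algebra.TensorProduct.map (AlgHom.id R B) h m' = m := by
  classical
  induction hm using Submodule.span_induction with
  | mem x hx =>
    obtain ⟨a, hat, rfl⟩ := hx
    refine ⟨{a}, fun A _ _ h hF => ?_⟩
    obtain ⟨a', ha'⟩ := hF (by simp : a ∈ (↑({a} : Finset A') : Set A'))
    refine ⟨(1 : B) ⊗ₜ a', Ideal.mem_map_of_mem _ ?_, ?_⟩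
    · show h a' ∈ t
      rw [ha']; exact hat
    · simp [ha']
  | zero => exact ⟨∅, fun A _ _ h _ => ⟨0, Ideal.zero_mem _, map_zero _⟩⟩
  | add x y _ _ hx hy =>
    obtain ⟨F1, h1⟩ := hx
    obtain ⟨F2, h2⟩ := hy
    refine ⟨F1 ∪ F2, fun A _ _ h hF => ?_⟩
    obtain ⟨x', hx'1, hx'2⟩ := h1 A h (fun a ha => hF (by simp [Finset.mem_coe.mp ha]))
    obtain ⟨y', hy'1, hy'2⟩ := h2 A h (fun a ha => hF (by simp [Finset.mem_coe.mp ha]))
    exact ⟨x' + y', Ideal.add_mem _ hx'1 hy'1, by rw [map_add, hx'2, hy'2]⟩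
  | smul c x _ hx =>
    obtain ⟨F1, h1⟩ := exists_finset_lift (R := R) c
    obtain ⟨F2, h2⟩ := hx
    refine ⟨F1 ∪ F2, fun A _ _ h hF => ?_⟩
    obtain ⟨c', hc'⟩ := h1 A h (fun a ha => hF (by simp [Finset.mem_coe.mp ha]))
    obtain ⟨x', hx'1, hx'2⟩ := h2 A h (fun a ha => hF (by simp [Finset.mem_coe.mp ha]))
    exact ⟨c' * x', Ideal.mul_mem_left _ _ hx'1, by rw [smul_eq_mul, map_mul, hc', hx'2]⟩

theorem ring_key (I : Ideal (B ⊗[R] A')) (t : Ideal A') [t.IsPrime]
    (hI : ∀ q : Ideal (B ⊗[R] A'), q.IsPrime → I ≤ q →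
      q.comap (Algebra.TensorProduct.includeRight : A' →ₐ[R] B ⊗[R] A').toRingHom ≠ t) :
    ∃ F : Finset A', ∀ (A : Type u) [CommRing A] [Algebra R A] (h : A →ₐ[R] A'),
      (↑F ⊆ Set.range h) →
      ∀ q₀ : Ideal (B ⊗[R] A), q₀.IsPrime →
        I.comap (Algebra.TensorProduct.map (AlgHom.id R B) h).toRingHom ≤ q₀ →
        q₀.comap (Algebra.TensorProduct.includeRight : A →ₐ[R] B ⊗[R] A).toRingHom ≠
          t.comap h.toRingHom := by
  classical
  set ι' := (Algebra.TensorProduct.includeRight : A' →ₐ[R] B ⊗[R] A').toRingHom with hι'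
  -- step (a)
  have ha : ∃ s : A', s ∉ t ∧ ι' s ∈ I ⊔ Ideal.map ι' t := by
    by_contra hcon
    push Not at hcon
    have hdis : Disjoint ((I ⊔ Ideal.map ι' t : Ideal (B ⊗[R] A')) : Set (B ⊗[R] A'))
        ((Submonoid.map ι' t.primeCompl : Submonoid (B ⊗[R] A')) : Set (B ⊗[R] A')) := by
      rw [Set.disjoint_left]
      rintro x hx ⟨s, hs, rfl⟩
      exact hcon s hs hx
    obtain ⟨q, hq, hle, hqd⟩ := Ideal.exists_le_prime_disjoint _ _ hdis
    refine hI q hq (le_sup_left.trans hle) ?_
    ext a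
    constructor
    · intro haq
      by_contra hat
      exact Set.disjoint_left.mp hqd haq ⟨a, hat, rfl⟩
    · intro hat
      exact hle (Ideal.mem_sup_right (Ideal.mem_map_of_mem _ hat))
  obtain ⟨s, hst, hs⟩ := ha
  obtain ⟨g, hg, m, hm, hgm⟩ := Submodule.mem_sup.mp hs
  obtain ⟨F1, h1⟩ := exists_finset_lift (R := R) g
  obtain ⟨F2, h2⟩ := exists_finset_lift_map (R := R) (B := B) t m hm
  refine ⟨insert s (F1 ∪ F2), fun A _ _ h hF q₀ hq₀ hJ hcon => ?_⟩
  obtain ⟨s', hs'⟩ := hF (by simp : s ∈ (↑(insert s (F1 ∪ F2)) : Set A'))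
  obtain ⟨g', hg'⟩ := h1 A h (fun a ha => hF (by simp [Finset.mem_coe.mp ha]))
  obtain ⟨m', hm'1, hm'2⟩ := h2 A h (fun a ha => hF (by simp [Finset.mem_coe.mp ha]))
  set θ := (Algebra.TensorProduct.map (AlgHom.id R B) h).toRingHom with hθ
  set ι := (Algebra.TensorProduct.includeRight : A →ₐ[R] B ⊗[R] A).toRingHom with hι
  have hθι : ∀ a, θ (ι a) = ι' (h a) := fun a => by
    simp [hθ, hι, hι']
  have e1 : ι s' - g' - m' ∈ q₀ := by
    apply hJ
    show θ (ι s' - g' - m') ∈ I
    have : θ (ι s' - g' - m') = 0 := by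
      rw [map_sub, map_sub, hθι, hs']
      have hg'' : θ g' = g := hg'
      have hm'' : θ m' = m := hm'2
      rw [hg'', hm'', ← hgm]; ring
    rw [this]; exact I.zero_mem
  have e2 : g' ∈ q₀ := by
    apply hJ
    show θ g' ∈ I
    have hg'' : θ g' = g := hg'
    rw [hg'']; exact hg
  have e3 : m' ∈ q₀ := by
    have : Ideal.map ι (t.comap h.toRingHom) ≤ q₀ := by
      rw [← hcon]
      exact Ideal.map_comap_le
    exact this hm'1
  have e4 : ι s' ∈ q₀ := by
    have : ι s' = (ι s' - g' - m') + g' + m' := by ring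
    rw [this]
    exact Ideal.add_mem _ (Ideal.add_mem _ e1 e2) e3
  have e5 : s' ∈ q₀.comap ι := e4
  rw [hcon] at e5
  have : h s' ∈ t := e5
  rw [hs'] at this
  exact hst this

end Ring

section Chart
variable {R B : Type u} [CommRing R] [CommRing B] [Algebra R B]
  {X : Scheme.{u}} (f : X ⟶ Spec (CommRingCat.of R)) (u : Spec (CommRingCat.of B) ⟶ X)
  (hu : u ≫ f = Spec.map (CommRingCat.ofHom (algebraMap R B)))

/-- the structure map -/
noncomputable abbrev gmap (R C : Type u) [CommRing R] [CommRing C] [Algebra R C] :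
    Spec (CommRingCat.of C) ⟶ Spec (CommRingCat.of R) :=
  Spec.map (CommRingCat.ofHom (algebraMap R C))

/-- The chart `Spec (B ⊗ C) ⟶ X ×_R Spec C`. -/
noncomputable def chart (C : Type u) [CommRing C] [Algebra R C] :
    Spec (CommRingCat.of (B ⊗[R] C)) ⟶ pullback f (gmap R C) :=
  (pullbackSpecIso R B C).inv ≫
    pullback.map (gmap R B) (gmap R C) f (gmap R C) u (𝟙 _) (𝟙 _)
      (by rw [Category.comp_id, hu]) (by simp)

instance [IsOpenImmersion u] (C : Type u) [CommRing C] [Algebra R C] :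
    IsOpenImmersion (chart f u hu C) := by
  unfold chart; infer_instance

theorem chart_snd (C : Type u) [CommRing C] [Algebra R C] :
    chart f u hu C ≫ pullback.snd f (gmap R C) =
      Spec.map (CommRingCat.ofHom
        (Algebra.TensorProduct.includeRight : C →ₐ[R] B ⊗[R] C).toRingHom) := by
  unfold chart
  rw [Category.assoc, pullback.lift_snd, Category.comp_id]
  exact pullbackSpecIso_inv_snd R B C

theorem chart_fst (C : Type u) [CommRing C] [Algebra R C] :
    chart f u hu C ≫ pullback.fst f (gmap R C) =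
      Spec.map (CommRingCat.ofHom
        (Algebra.TensorProduct.includeLeftRingHom : B →+* B ⊗[R] C)) ≫ u := by
  unfold chart
  rw [Category.assoc, pullback.lift_fst, ← Category.assoc, pullbackSpecIso_inv_fst]

theorem range_chart (C : Type u) [CommRing C] [Algebra R C] :
    Set.range (chart f u hu C).base =
      (pullback.fst f (gmap R C)).base ⁻¹' Set.range u.base := by
  unfold chart
  rw [Scheme.Hom.comp_base, TopCat.coe_comp, Set.range_comp]
  have hs : Set.range ⇑(pullbackSpecIso R B C).inv = Set.univ :=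
    Set.range_eq_univ.mpr (pullbackSpecIso R B C).inv.homeomorph.surjective
  rw [hs, Set.image_univ, Scheme.Pullback.range_map]
  simp

variable {A A' : Type u} [CommRing A] [CommRing A'] [Algebra R A] [Algebra R A'] (h : A →ₐ[R] A')

/-- The transition map `X ×_R Spec A' ⟶ X ×_R Spec A`. -/
noncomputable def trans : pullback f (gmap R A') ⟶ pullback f (gmap R A) :=
  pullback.map f (gmap R A') f (gmap R A) (𝟙 _) (Spec.map (CommRingCat.ofHom h.toRingHom)) (𝟙 _)
    (by simp) (by
      rw [Category.comp_id, ← Spec.map_comp, ← CommRingCat.ofHom_comp]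
      show Spec.map (CommRingCat.ofHom (algebraMap R A')) = _
      rw [← h.comp_algebraMap]
      rfl)

theorem trans_fst : trans f h ≫ pullback.fst f (gmap R A) = pullback.fst f (gmap R A') := by
  unfold trans
  rw [pullback.lift_fst, Category.comp_id]

theorem trans_snd : trans f h ≫ pullback.snd f (gmap R A) =
    pullback.snd f (gmap R A') ≫ Spec.map (CommRingCat.ofHom h.toRingHom) := by
  unfold trans
  rw [pullback.lift_snd]

theorem chart_trans :
    chart f u hu A' ≫ trans f h =
      Spec.map (CommRingCat.ofHom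
        (Algebra.TensorProduct.map (AlgHom.id R B) h).toRingHom) ≫ chart f u hu A := by
  apply pullback.hom_ext
  · rw [Category.assoc, trans_fst, chart_fst, Category.assoc, chart_fst, ← Category.assoc,
      ← Spec.map_comp, ← CommRingCat.ofHom_comp]
    congr 3
    ext b
    simp
  · rw [Category.assoc, trans_snd, ← Category.assoc, chart_snd, Category.assoc, chart_snd,
      ← Spec.map_comp, ← Spec.map_comp, ← CommRingCat.ofHom_comp, ← CommRingCat.ofHom_comp]
    congr 2

end Chart

theorem exists_finite_affine_charts {R : Type u} [CommRing R] {X : Scheme.{u}}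
    (f : X ⟶ Spec (CommRingCat.of R)) [QuasiCompact f] :
    ∃ (ι : Type u) (_ : Fintype ι) (B : ι → Type u) (_ : ∀ i, CommRing (B i))
      (_ : ∀ i, Algebra R (B i)) (u : ∀ i, Spec (CommRingCat.of (B i)) ⟶ X),
      (∀ i, IsOpenImmersion (u i)) ∧
      (∀ i, u i ≫ f = Spec.map (CommRingCat.ofHom (algebraMap R (B i)))) ∧
      ∀ x : X, ∃ i, x ∈ Set.range (u i).base := by
  classical
  have hX : CompactSpace X := QuasiCompact.compactSpace_of_compactSpace f
  have hex : ∀ x : X, ∃ U : X.Opens, IsAffineOpen U ∧ x ∈ U := fun x => by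
    obtain ⟨_, ⟨U, hU, rfl⟩, hxU, -⟩ :=
      X.isBasis_affineOpens.exists_subset_of_mem_open (Set.mem_univ x) isOpen_univ
    exact ⟨U, hU, hxU⟩
  choose U hU hxU using hex
  obtain ⟨t, ht⟩ := CompactSpace.elim_nhds_subcover (fun x => (U x : Set X))
    (fun x => (U x).isOpen.mem_nhds (hxU x))
  let β : ∀ i : ↥t, CommRingCat.of R ⟶ Γ(X, U i.1) := fun i => Spec.preimage ((hU i.1).fromSpec ≫ f)
  refine ⟨↥t, inferInstance, fun i => Γ(X, U i.1), fun i => inferInstance,
    fun i => (β i).hom.toAlgebra, fun i => (hU i.1).fromSpec, fun i => inferInstance, fun i => ?_,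
    fun x => ?_⟩
  · exact (Spec.map_preimage _).symm
  · have hx : x ∈ ⋃ y ∈ t, (U y : Set X) := by rw [ht]; trivial
    simp only [Set.mem_iUnion] at hx
    obtain ⟨y, hyt, hxy⟩ := hx
    refine ⟨⟨y, hyt⟩, ?_⟩
    rw [(hU y).range_fromSpec]
    exact hxy

set_option maxHeartbeats 1000000 in
theorem isClosedMap_snd_of_affine {R : Type u} [CommRing R] {X : Scheme.{u}}
    (f : X ⟶ Spec (CommRingCat.of R)) [QuasiCompact f]
    (H : ∀ n : ℕ, IsClosedMap
      (pullback.snd f (gmap R (MvPolynomial (ULift.{u} (Fin n)) R))).base)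
    (A' : Type u) [CommRing A'] [Algebra R A'] :
    IsClosedMap (pullback.snd f (gmap R A')).base := by
  classical
  obtain ⟨ι, _, B, _, _, u, hu1, hu2, hu3⟩ := exists_finite_affine_charts f
  intro Z hZ
  rw [← isOpen_compl_iff, isOpen_iff_forall_mem_open]
  intro t ht
  -- the ideals
  obtain ⟨t', rfl⟩ : ∃ t' : PrimeSpectrum A', (t' : ↥(Spec (CommRingCat.of A'))) = t := ⟨t, rfl⟩
  haveI := t'.isPrime
  let S : ∀ i, Set (PrimeSpectrum (B i ⊗[R] A')) := fun i =>
    (chart f (u i) (hu2 i) A').base ⁻¹' Z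
  have hScl : ∀ i, IsClosed (S i) := fun i =>
    hZ.preimage (chart f (u i) (hu2 i) A').continuous
  let I : ∀ i, Ideal (B i ⊗[R] A') := fun i => PrimeSpectrum.vanishingIdeal (S i)
  have hIz : ∀ i (z₀ : PrimeSpectrum (B i ⊗[R] A')), (chart f (u i) (hu2 i) A').base z₀ ∈ Z →
      I i ≤ z₀.asIdeal := fun i z₀ hz x hx =>
    (PrimeSpectrum.mem_vanishingIdeal _ _).mp hx z₀ hz
  have hI : ∀ i, ∀ q : Ideal (B i ⊗[R] A'), q.IsPrime → I i ≤ q →
      q.comap (Algebra.TensorProduct.includeRight : A' →ₐ[R] B i ⊗[R] A').toRingHom ≠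
        t'.asIdeal := by
    intro i q hq hIq hcon
    let 𝔮 : PrimeSpectrum (B i ⊗[R] A') := ⟨q, hq⟩
    have hmem : (chart f (u i) (hu2 i) A').base 𝔮 ∈ Z := by
      have h1 : 𝔮 ∈ closure (S i) := by
        rw [← PrimeSpectrum.zeroLocus_vanishingIdeal_eq_closure]; exact hIq
      rw [(hScl i).closure_eq] at h1; exact h1
    apply ht
    refine ⟨(chart f (u i) (hu2 i) A').base 𝔮, hmem, ?_⟩
    have h2 : (chart f (u i) (hu2 i) A' ≫ pullback.snd f (gmap R A')).base 𝔮 = t' := by
      rw [chart_snd]; exact PrimeSpectrum.ext hcon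
    exact h2
  choose F hF using fun i => ring_key (I i) t'.asIdeal (hI i)
  let Fall : Finset A' := Finset.univ.biUnion F
  let n := Fall.card
  let e : ULift.{u} (Fin n) → A' := fun k => (Fall.equivFin.symm k.down : A')
  let A := MvPolynomial (ULift.{u} (Fin n)) R
  let h : A →ₐ[R] A' := MvPolynomial.aeval e
  have hrange : ∀ i, (↑(F i) : Set A') ⊆ Set.range h := by
    intro i a ha
    have haF : a ∈ Fall := Finset.mem_biUnion.mpr ⟨i, Finset.mem_univ i, ha⟩
    refine ⟨MvPolynomial.X ⟨Fall.equivFin ⟨a, haF⟩⟩, ?_⟩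
    show MvPolynomial.aeval e (MvPolynomial.X ⟨Fall.equivFin ⟨a, haF⟩⟩) = a
    rw [MvPolynomial.aeval_X]
    simp [e]
  have hkey := fun i => hF i A h (hrange i)
  -- topology
  let π := trans f h
  let Z₀ : Set ↥(pullback f (gmap R A)) := closure (π.base '' Z)
  have hK : IsClosed ((pullback.snd f (gmap R A)).base '' Z₀) := H n _ isClosed_closure
  let τ : Spec (CommRingCat.of A') ⟶ Spec (CommRingCat.of A) :=
    Spec.map (CommRingCat.ofHom h.toRingHom)
  refine ⟨τ.base ⁻¹' ((pullback.snd f (gmap R A)).base '' Z₀)ᶜ, ?_, hK.isOpen_compl.preimage τ.continuous, ?_⟩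
  · -- disjoint from the image of Z
    rintro _ hN ⟨z, hz, rfl⟩
    apply hN
    refine ⟨π.base z, subset_closure ⟨z, hz, rfl⟩, ?_⟩
    rw [← Scheme.Hom.comp_apply, ← Scheme.Hom.comp_apply, trans_snd]
  · -- `t` belongs to it
    rintro ⟨q, hqZ, hqt⟩
    obtain ⟨i, hi⟩ := hu3 ((pullback.fst f (gmap R A)).base q)
    have hq' : q ∈ Set.range (chart f (u i) (hu2 i) A).base := by
      rw [range_chart]; exact hi
    obtain ⟨q₀, rfl⟩ := hq'
    have hJ : (I i).comap (Algebra.TensorProduct.map (AlgHom.id R (B i)) h).toRingHom ≤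
        (q₀ : PrimeSpectrum (B i ⊗[R] A)).asIdeal := by
      by_contra hnot
      let W : Set (PrimeSpectrum (B i ⊗[R] A)) :=
        (PrimeSpectrum.zeroLocus
          ((I i).comap (Algebra.TensorProduct.map (AlgHom.id R (B i)) h).toRingHom : Set _))ᶜ
      have hWo : IsOpen W := (PrimeSpectrum.isClosed_zeroLocus _).isOpen_compl
      have hq₀W : q₀ ∈ W := hnot
      have hO : IsOpen ((chart f (u i) (hu2 i) A).base '' W) :=
        (chart f (u i) (hu2 i) A).isOpenEmbedding.isOpenMap _ hWo
      obtain ⟨_, ⟨w, hwW, rfl⟩, ⟨z, hz, hzw⟩⟩ :=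
        mem_closure_iff.mp hqZ _ hO ⟨q₀, hq₀W, rfl⟩
      -- `z` lies in the chart
      have hzr : z ∈ Set.range (chart f (u i) (hu2 i) A').base := by
        rw [range_chart]
        show (pullback.fst f (gmap R A')).base z ∈ Set.range (u i).base
        rw [← trans_fst f h, Scheme.Hom.comp_apply]
        show (pullback.fst f (gmap R A)).base (π.base z) ∈ _
        rw [hzw, ← Scheme.Hom.comp_apply, chart_fst, Scheme.Hom.comp_apply]
        exact ⟨_, rfl⟩
      obtain ⟨z₀, rfl⟩ := hzr
      have hzw' : (chart f (u i) (hu2 i) A).base w =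
          (chart f (u i) (hu2 i) A).base
            ((Spec.map (CommRingCat.ofHom
              (Algebra.TensorProduct.map (AlgHom.id R (B i)) h).toRingHom)).base z₀) := by
        rw [← hzw, ← Scheme.Hom.comp_apply, ← Scheme.Hom.comp_apply, chart_trans]
      have hw : w = (Spec.map (CommRingCat.ofHom
              (Algebra.TensorProduct.map (AlgHom.id R (B i)) h).toRingHom)).base z₀ :=
        (chart f (u i) (hu2 i) A).isOpenEmbedding.injective hzw'
      apply hwW
      rw [hw]
      exact (PrimeSpectrum.mem_zeroLocus _ _).mpr (fun x hx => hIz i z₀ hz hx)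
    refine hkey i _ (q₀ : PrimeSpectrum (B i ⊗[R] A)).isPrime hJ ?_
    have h1 : (pullback.snd f (gmap R A)).base ((chart f (u i) (hu2 i) A).base q₀) =
        (Spec.map (CommRingCat.ofHom (Algebra.TensorProduct.includeRight :
          A →ₐ[R] B i ⊗[R] A).toRingHom)).base q₀ := by
      rw [← Scheme.Hom.comp_apply, chart_snd]
    rw [h1] at hqt
    exact congrArg PrimeSpectrum.asIdeal hqt

instance cm_respectsIso : (topologically @IsClosedMap).RespectsIso :=
  topologically_respectsIso _ (fun f => f.isClosedMap) (fun _ _ hf hg => hg.comp hf)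

instance cm_isZariskiLocalAtTarget : IsZariskiLocalAtTarget (topologically @IsClosedMap) :=
  topologically_isZariskiLocalAtTarget' _
    (fun _ _ _ hU _ => hU.isClosedMap_iff_restrictPreimage)

theorem cm_of_isPullback {P P' X S T : Scheme.{u}} {a : P ⟶ X} {b : P ⟶ T} {a' : P' ⟶ X}
    {b' : P' ⟶ T} {f : X ⟶ S} {g : T ⟶ S} (sq : IsPullback a b f g) (sq' : IsPullback a' b' f g)
    (h : IsClosedMap b.base) : IsClosedMap b'.base := by
  let e := sq'.isoIsPullback _ _ sq
  have he : e.hom ≫ b = b' := sq'.isoIsPullback_hom_snd _ _ sq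
  rw [← he]
  exact h.comp e.hom.homeomorph.isClosedMap

theorem cm_comp_iff {X S T T' : Scheme.{u}} (f : X ⟶ S) (v : T ⟶ S) (w : T' ⟶ T) :
    IsClosedMap (pullback.snd (pullback.snd f v) w).base ↔
      IsClosedMap (pullback.snd f (w ≫ v)).base := by
  have sq1 : IsPullback (pullback.fst (pullback.snd f v) w ≫ pullback.fst f v)
      (pullback.snd (pullback.snd f v) w) f (w ≫ v) :=
    (IsPullback.of_hasPullback (pullback.snd f v) w).paste_horiz (IsPullback.of_hasPullback f v)
  have sq2 := IsPullback.of_hasPullback f (w ≫ v)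
  exact ⟨cm_of_isPullback sq1 sq2, cm_of_isPullback sq2 sq1⟩

theorem cm_snd_of_isOpenImmersion {X S U : Scheme.{u}} (f : X ⟶ S) (j : U ⟶ S)
    [IsOpenImmersion j] (h : IsClosedMap f.base) : IsClosedMap (pullback.snd f j).base :=
  IsZariskiLocalAtTarget.of_isPullback (P := topologically @IsClosedMap)
    (IsPullback.of_hasPullback f j) h

set_option maxHeartbeats 1000000 in
theorem isClosedMap_snd_of_affineSpace {X S : Scheme.{u}} (f : X ⟶ S) [QuasiCompact f]
    (H : ∀ n : ℕ, IsClosedMap (pullback.snd f (𝔸(ULift.{u} (Fin n); S) ↘ S)).base)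
    {T : Scheme.{u}} (g : T ⟶ S) : IsClosedMap (pullback.snd f g).base := by
  wlog hS : ∃ R : CommRingCat.{u}, S = Spec R generalizing X S T
  · have key : topologically @IsClosedMap (pullback.snd f g) := by
      refine (IsZariskiLocalAtTarget.iff_of_openCover (P := topologically @IsClosedMap)
        (S.affineCover.pullback₁ g)).mpr fun k => ?_
      show IsClosedMap (pullback.snd (pullback.snd f g) (pullback.fst g (S.affineCover.f k))).base
      rw [cm_comp_iff, pullback.condition, ← cm_comp_iff]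
      have hqc : QuasiCompact (pullback.snd f (S.affineCover.f k)) := inferInstance
      refine this (pullback.snd f (S.affineCover.f k)) (fun n => ?_) _ ⟨_, rfl⟩
      rw [cm_comp_iff, ← AffineSpace.map_over, ← cm_comp_iff]
      have hoi : IsOpenImmersion (AffineSpace.map (ULift.{u} (Fin n)) (S.affineCover.f k)) :=
        MorphismProperty.of_isPullback (P := @IsOpenImmersion)
          (AffineSpace.isPullback_map (S.affineCover.f k)).flip (S.affineCover.map_prop k)
      exact cm_snd_of_isOpenImmersion _ _ (H n)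
    exact key
  obtain ⟨R, rfl⟩ := hS
  wlog hT : ∃ A' : CommRingCat.{u}, T = Spec A' generalizing T
  · have key : topologically @IsClosedMap (pullback.snd f g) := by
      refine (IsZariskiLocalAtTarget.iff_of_openCover (P := topologically @IsClosedMap)
        T.affineCover).mpr fun j => ?_
      show IsClosedMap (pullback.snd (pullback.snd f g) (T.affineCover.f j)).base
      rw [cm_comp_iff]
      exact this (T.affineCover.f j ≫ g) ⟨_, rfl⟩
    exact key
  obtain ⟨A', rfl⟩ := hT
  obtain ⟨ψ, rfl⟩ := Spec.map_surjective g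
  algebraize [ψ.hom]
  refine isClosedMap_snd_of_affine (R := R) f (fun n => ?_) A'
  have e1 : gmap R (MvPolynomial (ULift.{u} (Fin n)) R) =
      (AffineSpace.SpecIso (ULift.{u} (Fin n)) R).inv ≫ (𝔸(ULift.{u} (Fin n); Spec R) ↘ Spec R) :=
    (AffineSpace.SpecIso_inv_over R).symm
  rw [e1, ← cm_comp_iff]
  exact cm_snd_of_isOpenImmersion _ _ (H n)

end Groth.Agent.Lib.Helper26.UnivClosed
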