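import Mathlib
import Groth.Agent.Lib.Helper26FlatLimA
import Groth.Agent.Lib.Helper26UnivAlg
import Groth.Agent.Lib.Helper2FPAff

set_option autoImplicit false
set_option linter.style.haveILetI false
universe u
open CategoryTheory AlgebraicGeometry Limits TensorProduct Opposite TopologicalSpace
open Groth.Agent.Lib.Helper2.FlatOver Groth.Agent.Lib.Helper2.PullbackFlat Groth.Agent.Lib.Helper2.PullbackSec
  Groth.Agent.Lib.Helper26.FlatLim

namespace Groth.Agent.Lib.Helper26.UnivFlat

section transport

/-- change of rings along isomorphisms does not affect flatness of a base change. -/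
theorem flat_tensor_iff_of_ringEquiv {A A' B B' M : Type u} [CommRing A] [CommRing A'] [CommRing B]
    [CommRing B'] [Algebra A A'] [Algebra B B'] (α : A ≃+* B) (α' : A' ≃+* B')
    (hcomm : ∀ a, α' (algebraMap A A' a) = algebraMap B B' (α a)) [AddCommGroup M] [Module B M]
    [Module A M] (hM : ∀ (a : A) (m : M), a • m = α a • m) :
    Module.Flat A' (A' ⊗[A] M) ↔ Module.Flat B' (B' ⊗[B] M) := by
  let fwd : A' ⊗[A] M →+ B' ⊗[B] M :=
    TensorProduct.liftAddHom
      { toFun := fun a' =>
          { toFun := fun m => α' a' ⊗ₜ[B] m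
            map_zero' := TensorProduct.tmul_zero _ _
            map_add' := fun m n => TensorProduct.tmul_add _ _ _ }
        map_zero' := by ext m; simp
        map_add' := fun a b => by ext m; simp [TensorProduct.add_tmul] }
      (fun a a' m => by
        change α' (a • a') ⊗ₜ[B] m = α' a' ⊗ₜ[B] (a • m)
        rw [Algebra.smul_def, map_mul, hcomm, hM, ← Algebra.smul_def, TensorProduct.smul_tmul])
  let bwd : B' ⊗[B] M →+ A' ⊗[A] M :=
    TensorProduct.liftAddHom
      { toFun := fun b' =>
          { toFun := fun m => α'.symm b' ⊗ₜ[A] m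
            map_zero' := TensorProduct.tmul_zero _ _
            map_add' := fun m n => TensorProduct.tmul_add _ _ _ }
        map_zero' := by ext m; simp
        map_add' := fun a b => by ext m; simp [TensorProduct.add_tmul] }
      (fun b b' m => by
        change α'.symm (b • b') ⊗ₜ[A] m = α'.symm b' ⊗ₜ[A] (b • m)
        have hb : b • m = α.symm b • m := by rw [hM, RingEquiv.apply_symm_apply]
        have h2 : α'.symm (b • b') = α.symm b • α'.symm b' := by
          apply α'.injective
          rw [RingEquiv.apply_symm_apply, Algebra.smul_def, Algebra.smul_def, map_mul, hcomm,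
            RingEquiv.apply_symm_apply, RingEquiv.apply_symm_apply]
        rw [hb, h2, TensorProduct.smul_tmul])
  have h1 : ∀ t, bwd (fwd t) = t := by
    intro t
    induction t using TensorProduct.induction_on with
    | zero => simp
    | add a b ha hb => rw [map_add, map_add, ha, hb]
    | tmul a' m =>
      change α'.symm (α' a') ⊗ₜ[A] m = _
      rw [RingEquiv.symm_apply_apply]
  have h2 : ∀ t, fwd (bwd t) = t := by
    intro t
    induction t using TensorProduct.induction_on with
    | zero => simp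
    | add a b ha hb => rw [map_add, map_add, ha, hb]
    | tmul b' m =>
      change α' (α'.symm b') ⊗ₜ[B] m = _
      rw [RingEquiv.apply_symm_apply]
  let e : A' ⊗[A] M ≃+ B' ⊗[B] M :=
    { fwd with invFun := bwd, left_inv := h1, right_inv := h2 }
  refine Groth.Agent.Lib.Helper2.FlatOver.flat_iff_of_semilinear_equiv α' e (fun a' t => ?_)
  change fwd (a' • t) = α' a' • fwd t
  induction t using TensorProduct.induction_on with
  | zero => simp
  | add a b ha hb => rw [smul_add, map_add, map_add, smul_add, ha, hb]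
  | tmul b' m =>
    change α' (a' • b') ⊗ₜ[B] m = α' a' • (α' b' ⊗ₜ[B] m)
    rw [TensorProduct.smul_tmul', smul_eq_mul, smul_eq_mul, map_mul]

end transport

section Cover
variable {X S X' S' : Scheme.{u}} {f : X ⟶ S} {f' : X' ⟶ S'} {g' : X' ⟶ X} {g : S' ⟶ S}

/-- the proposition: `Γ(S',⊤) ⊗_{Γ(S,⊤)} Γ(F, U)` is flat over `Γ(S',⊤)`. -/
def SecFlat (f : X ⟶ S) (g : S' ⟶ S) (F : X.Modules) (U : X.Opens) : Prop :=
  letI : Algebra Γ(S, ⊤) Γ(S', ⊤) := (g.appLE ⊤ ⊤ le_top).hom.toAlgebra
  letI : Module Γ(S, ⊤) Γ(F, U) := Module.compHom Γ(F, U) (f.appLE ⊤ U le_top).hom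
  Module.Flat Γ(S', ⊤) (Γ(S', ⊤) ⊗[Γ(S, ⊤)] Γ(F, U))

/-- flatness of `g'^*F` over an affine `S'` (cartesian square over affine `S`), tested on an affine open cover of `X`. -/
theorem isFlatOver_pullback_iff_cover (hc : IsPullback g' f' f g) [IsAffine S] [IsAffine S']
    (F : X.Modules) [F.IsQuasicoherent] {ι : Type*} (W : ι → X.Opens) (hW : ∀ i, IsAffineOpen (W i))
    (hcov : ∀ x : X, ∃ i, x ∈ W i) :
    FlatMod.IsFlatOver f' ((Scheme.Modules.pullback g').obj F) ↔ ∀ i, SecFlat f g F (W i) := by
  haveI : ((Scheme.Modules.pullback g').obj F).IsQuasicoherent := isQuasicoherent_pullback g' F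
  have hV : IsAffineOpen (⊤ : S.Opens) := isAffineOpen_top S
  have hV' : IsAffineOpen (⊤ : S'.Opens) := isAffineOpen_top S'
  have key : ∀ i, (@Module.Flat Γ(S', ⊤)
      Γ((Scheme.Modules.pullback g').obj F, g' ⁻¹ᵁ (W i) ⊓ f' ⁻¹ᵁ ⊤) _ _
        (Module.compHom _ (f'.appLE ⊤ _ inf_le_right).hom) ↔ SecFlat f g F (W i)) := fun i =>
    flat_sections_pullback_iff hc F (V := ⊤) (V' := ⊤) (U := W i) le_top le_top hV hV' (hW i)
      inf_le_right
  have hU' : ∀ i, IsAffineOpen (g' ⁻¹ᵁ (W i) ⊓ f' ⁻¹ᵁ (⊤ : S'.Opens)) := fun i =>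
    isAffineOpen_inf_preimage hc (V := ⊤) (V' := ⊤) le_top le_top hV hV' (hW i)
  constructor
  · intro H i
    rw [← key i]
    exact flat_sections_of_isFlatOverAt f' _ (hU' i) hV' inf_le_right (fun x _ => H x)
  · intro H x'
    obtain ⟨i, hi⟩ := hcov (g' x')
    exact isFlatOverAt_of_flat_sections f' _ (hU' i) hV' inf_le_right ((key i).2 (H i)) x'
      ⟨hi, trivial⟩

end Cover

section affineBase
variable {X : Scheme.{u}}

/-- `A`-module structure on sections, for `f : X ⟶ Spec A`. -/
noncomputable abbrev secModule {A : Type u} [CommRing A] (f : X ⟶ Spec (CommRingCat.of A))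
    (F : X.Modules) (U : X.Opens) : Module A Γ(F, U) :=
  Module.compHom Γ(F, U)
    ((f.appLE ⊤ U le_top).hom.comp (Scheme.ΓSpecIso (CommRingCat.of A)).inv.hom)

theorem secFlat_iff {A A' : Type u} [CommRing A] [CommRing A'] [Algebra A A']
    (f : X ⟶ Spec (CommRingCat.of A)) (F : X.Modules) (U : X.Opens) :
    SecFlat f (Spec.map (CommRingCat.ofHom (algebraMap A A'))) F U ↔
      (letI := secModule f F U
       Module.Flat A' (A' ⊗[A] Γ(F, U))) := by
  letI := secModule f F U
  unfold SecFlat
  letI : Algebra Γ(Spec (CommRingCat.of A), ⊤) Γ(Spec (CommRingCat.of A'), ⊤) :=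
    ((Spec.map (CommRingCat.ofHom (algebraMap A A'))).appLE ⊤ ⊤ le_top).hom.toAlgebra
  letI : Module Γ(Spec (CommRingCat.of A), ⊤) Γ(F, U) :=
    Module.compHom Γ(F, U) (f.appLE ⊤ U le_top).hom
  symm
  refine flat_tensor_iff_of_ringEquiv
    (Scheme.ΓSpecIso (CommRingCat.of A)).symm.commRingCatIsoToRingEquiv
    (Scheme.ΓSpecIso (CommRingCat.of A')).symm.commRingCatIsoToRingEquiv (fun a => ?_)
    (fun a m => rfl)
  change (Scheme.ΓSpecIso (CommRingCat.of A')).inv.hom (algebraMap A A' a) =
    ((Spec.map (CommRingCat.ofHom (algebraMap A A'))).appLE ⊤ ⊤ le_top).hom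
      ((Scheme.ΓSpecIso (CommRingCat.of A)).inv.hom a)
  have h := Scheme.ΓSpecIso_inv_naturality (CommRingCat.ofHom (algebraMap A A'))
  have h2 : (Spec.map (CommRingCat.ofHom (algebraMap A A'))).appLE ⊤ ⊤ le_top =
      (Spec.map (CommRingCat.ofHom (algebraMap A A'))).appTop := by
    simp only [Scheme.Hom.appLE, Scheme.Hom.appTop]
    erw [CategoryTheory.Functor.map_id]
    exact Category.comp_id _
  rw [h2]
  exact congrArg (fun φ => φ.hom a) h

end affineBase

section noetherian
variable {X : Scheme.{u}}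

/-- a finite affine open cover of a quasi-compact scheme. -/
theorem exists_finite_affine_cover [CompactSpace X] :
    ∃ t : Finset X.affineOpens, ∀ x : X, ∃ U ∈ t, x ∈ U.1 := by
  obtain ⟨t, ht⟩ := isCompact_univ.elim_finite_subcover (fun U : X.affineOpens => (U.1 : Set X))
    (fun U => U.1.2) (by
      intro x _
      obtain ⟨W, hW, hx, -⟩ := exists_isAffineOpen_mem_and_subset (x := x) (U := ⊤) trivial
      exact Set.mem_iUnion.2 ⟨⟨W, hW⟩, hx⟩)
  refine ⟨t, fun x => ?_⟩
  obtain ⟨U, hU⟩ := Set.mem_iUnion.1 (ht (Set.mem_univ x))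
  obtain ⟨hUt, hxU⟩ := Set.mem_iUnion.1 hU
  exact ⟨U, hUt, hxU⟩

/-- generic universal flattening over a noetherian affine base with irreducible spectrum, tested on arbitrary
cartesian squares over affine base changes. -/
theorem exists_flattening_noetherian {A : Type u} [CommRing A] [IsNoetherianRing A]
    [IrreducibleSpace (PrimeSpectrum A)] (f : X ⟶ Spec (CommRingCat.of A))
    [LocallyOfFiniteType f] [QuasiCompact f] (F : X.Modules) [F.IsQuasicoherent]
    [SheafOfModules.IsFinitePresentation (R := X.ringCatSheaf) F] :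
    ∃ (h : A) (_ : ¬ IsNilpotent h) (J : Ideal (Localization.Away h)) (_ : J.FG)
      (_ : J ≤ nilradical (Localization.Away h)),
      ∀ (A' : Type u) [CommRing A'] [Algebra (Localization.Away h) A']
        (X' : Scheme.{u}) (p : X' ⟶ X) (q : X' ⟶ Spec (CommRingCat.of A')),
        IsPullback p q f (Spec.map (CommRingCat.ofHom
          ((algebraMap (Localization.Away h) A').comp (algebraMap A (Localization.Away h))))) →
        (FlatMod.IsFlatOver q ((Scheme.Modules.pullback p).obj F) ↔
          Ideal.map (algebraMap (Localization.Away h) A') J = ⊥) := by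
  haveI : CompactSpace X := QuasiCompact.compactSpace_of_compactSpace f
  obtain ⟨t, ht⟩ := exists_finite_affine_cover (X := X)
  have hN : (nilradical A).IsPrime := PrimeSpectrum.irreducibleSpace_iff_isPrime_nilradical.1 inferInstance
  let W : t → X.Opens := fun i => i.1.1
  have hW : ∀ i, IsAffineOpen (W i) := fun i => i.1.2
  have hcov : ∀ x : X, ∃ i, x ∈ W i := fun x => by
    obtain ⟨U, hU, hx⟩ := ht x
    exact ⟨⟨U, hU⟩, hx⟩
  let φ : ∀ i : t, A →+* Γ(X, W i) := fun i =>
    (f.appLE ⊤ (W i) le_top).hom.comp (Scheme.ΓSpecIso (CommRingCat.of A)).inv.hom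
  letI : ∀ i : t, Algebra A Γ(X, W i) := fun i => (φ i).toAlgebra
  letI : ∀ i : t, Module A Γ(F, W i) := fun i => secModule f F (W i)
  haveI : ∀ i : t, IsScalarTower A Γ(X, W i) Γ(F, W i) := fun i =>
    IsScalarTower.of_algebraMap_smul (fun a m => rfl)
  haveI : ∀ i : t, Algebra.FiniteType A Γ(X, W i) := fun i => by
    have h1 : (f.appLE ⊤ (W i) le_top).hom.FiniteType :=
      LocallyOfFiniteType.finiteType_appLE f (isAffineOpen_top _) (hW i) le_top
    have h2 : (Scheme.ΓSpecIso (CommRingCat.of A)).inv.hom.FiniteType :=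
      RingHom.FiniteType.of_surjective _
        (Scheme.ΓSpecIso (CommRingCat.of A)).symm.commRingCatIsoToRingEquiv.surjective
    exact h1.comp h2
  haveI : ∀ i : t, Module.Finite Γ(X, W i) Γ(F, W i) := fun i => by
    haveI := Groth.Agent.Lib.Helper2.FPAff.finitePresentation_sections F (hW i)
    infer_instance
  have hM := fun i : t => Groth.Agent.Lib.Helper26.UnivAlg.exists_freeAway_mod_nilradical hN
    Γ(X, W i) Γ(F, W i)
  obtain ⟨h, hh, J, hJfg, hJnil, hJ⟩ :=
    Groth.Agent.Lib.Helper26.UnivAlg.exists_flattening_ideal hN (fun i : t => Γ(F, W i)) hM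
  refine ⟨h, hh, J, hJfg, hJnil, ?_⟩
  intro A' _ _ X' p q hpb
  letI : Algebra A A' :=
    ((algebraMap (Localization.Away h) A').comp (algebraMap A (Localization.Away h))).toAlgebra
  haveI : IsScalarTower A (Localization.Away h) A' := IsScalarTower.of_algebraMap_eq (fun _ => rfl)
  rw [← hJ A']
  rw [isFlatOver_pullback_iff_cover hpb F W hW hcov]
  exact forall_congr' fun i => secFlat_iff f F (W i)

end noetherian

end Groth.Agent.Lib.Helper26.UnivFlat
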