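import Mathlib
import Groth.Agent.Lib.Helper26UnivFlat
import Groth.Agent.Lib.Helper26HomDesc

set_option autoImplicit false
set_option linter.style.haveILetI false
universe u
open CategoryTheory AlgebraicGeometry Limits
open Groth.Agent.Lib.Helper26.FGZ Groth.Agent.Lib.Helper22.LimBC Groth.Agent.Lib.Helper26.FlatLim
  Groth.Agent.Lib.Helper26.ModDesc Groth.Agent.Lib.Helper26.ModLim2 Groth.Agent.Lib.Helper26.HomLimD
  Groth.Agent.Lib.Helper2.PullbackSec

namespace Groth.Agent.Lib.Helper26.UnivFlat

/-- noetherian descent of a finitely presented module on a finitely presented scheme over `Spec A`, keeping track of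
quasi-compactness of the model. -/
theorem exists_descent_mod {A : Type u} [CommRing A] {X : Scheme.{u}}
    (f : X ⟶ Spec (CommRingCat.of A)) [h1 : LocallyOfFinitePresentation f] [h2 : QuasiCompact f]
    [h3 : QuasiSeparated f] (F : X.Modules) [hq : F.IsQuasicoherent]
    (hF : SheafOfModules.IsFinitePresentation (R := X.ringCatSheaf) F) :
    ∃ (i₀ : (FGSub A)ᵒᵖ) (X₀ : Scheme.{u}) (f₀ : X₀ ⟶ (specDiagram A).obj i₀) (q : X ⟶ X₀)
      (F₀ : X₀.Modules) (_ : (Scheme.Modules.pullback q).obj F₀ ≅ F),
      LocallyOfFinitePresentation f₀ ∧ QuasiCompact f₀ ∧ F₀.IsQuasicoherent ∧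
      SheafOfModules.IsFinitePresentation (R := X₀.ringCatSheaf) F₀ ∧
      IsPullback q f f₀ ((specCone A).π.app i₀) := by
  obtain ⟨i, Xi, ui, qX, a1, a2, a3, hX⟩ :=
    @Groth.Agent.S0591.result _ _ _ (specDiagram A) (specCone A) (specIsLimit A) _ _ _ X f h1 h2 h3
  haveI : CompactSpace Xi := QuasiCompact.compactSpace_of_compactSpace ui
  haveI : QuasiSeparatedSpace Xi := quasiSeparatedSpace_of_quasiSeparated ui
  haveI hD : ∀ {i j : (FGSub A)ᵒᵖ} (φ : i ⟶ j), IsAffineHom ((specDiagram A).map φ) :=
    fun φ => inferInstance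
  let D₂ := bcDiagram (specDiagram A) i ui
  let c₂ : Cone D₂ := bcCone (D := specDiagram A) (c := specCone A) i hX
  have hc₂ : IsLimit c₂ := isLimitBcCone i hX (specIsLimit A)
  obtain ⟨j, Fj, hFjq, hFjfp, ⟨ej⟩⟩ :=
    desc_of_compact_quasiSeparated D₂ c₂ hc₂ (Over.mk (𝟙 i)) F hq hF
  exact ⟨j.left, D₂.obj j, dSnd (specDiagram A) i ui j, bcπ i hX j, Fj, ej,
    MorphismProperty.of_isPullback (P := @LocallyOfFinitePresentation)
      (isPullback_d (specDiagram A) i ui j) a1,
    MorphismProperty.of_isPullback (P := @QuasiCompact) (isPullback_d (specDiagram A) i ui j) a2,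
    hFjq, hFjfp, isPullback_bcπ (D := specDiagram A) (c := specCone A) i hX j⟩

/-- **generic universal flattening** over an affine base with irreducible spectrum (EGA IV 11.4-type statement), by
noetherian descent. -/
theorem exists_flattening {A : Type u} [CommRing A] [IrreducibleSpace (PrimeSpectrum A)]
    {X : Scheme.{u}} (f : X ⟶ Spec (CommRingCat.of A))
    [LocallyOfFinitePresentation f] [QuasiCompact f] [QuasiSeparated f]
    (F : X.Modules) [F.IsQuasicoherent]
    (hF : SheafOfModules.IsFinitePresentation (R := X.ringCatSheaf) F) :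
    ∃ (h : A) (_ : ¬ IsNilpotent h) (J : Ideal (Localization.Away h)) (_ : J.FG)
      (_ : J ≤ nilradical (Localization.Away h)),
      ∀ (A' : Type u) [CommRing A'] [Algebra (Localization.Away h) A'],
        letI g : Spec (CommRingCat.of A') ⟶ Spec (CommRingCat.of A) :=
          Spec.map (CommRingCat.ofHom ((algebraMap (Localization.Away h) A').comp (algebraMap A (Localization.Away h))))
        (FlatMod.IsFlatOver (pullback.snd f g) ((Scheme.Modules.pullback (pullback.fst f g)).obj F) ↔
          Ideal.map (algebraMap (Localization.Away h) A') J = ⊥) := by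
  obtain ⟨i₀, X₀, f₀, q, F₀, e, hfp₀, hqc₀, hq₀, hF₀, hpb⟩ := exists_descent_mod f F hF
  let S : FGSub A := i₀.unop
  let A₀ : Type u := ↥S.1
  let f₀' : X₀ ⟶ Spec (CommRingCat.of A₀) := f₀
  haveI : LocallyOfFinitePresentation f₀' := hfp₀
  haveI : QuasiCompact f₀' := hqc₀
  haveI : Algebra.FiniteType ℤ A₀ := (Subalgebra.fg_iff_finiteType S.1).1 S.2
  haveI : IsNoetherianRing A₀ := Algebra.FiniteType.isNoetherianRing ℤ A₀
  have hinj : Function.Injective (algebraMap A₀ A) := Subtype.val_injective
  have hN : (nilradical A).IsPrime :=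
    PrimeSpectrum.irreducibleSpace_iff_isPrime_nilradical.1 inferInstance
  have hN₀ : nilradical A₀ = (nilradical A).comap (algebraMap A₀ A) := by
    ext x
    rw [Ideal.mem_comap, mem_nilradical, mem_nilradical, IsNilpotent.map_iff hinj]
  haveI : IrreducibleSpace (PrimeSpectrum A₀) := by
    rw [PrimeSpectrum.irreducibleSpace_iff_isPrime_nilradical, hN₀]
    exact Ideal.comap_isPrime _ _
  haveI := hF₀
  obtain ⟨h₀, hh₀, J₀, hJ₀fg, hJ₀nil, H₀⟩ := exists_flattening_noetherian f₀' F₀
  let h : A := algebraMap A₀ A h₀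
  have hh : ¬ IsNilpotent h := fun hn => hh₀ ((IsNilpotent.map_iff hinj).1 hn)
  have hu : IsUnit (((algebraMap A (Localization.Away h)).comp (algebraMap A₀ A)) h₀) :=
    IsLocalization.Away.algebraMap_isUnit h
  let ψ : Localization.Away h₀ →+* Localization.Away h :=
    IsLocalization.Away.lift (S := Localization.Away h₀) h₀ hu
  have hψ : ∀ a, ψ (algebraMap A₀ (Localization.Away h₀) a) =
      algebraMap A (Localization.Away h) (algebraMap A₀ A a) :=
    fun a => IsLocalization.Away.lift_eq _ _ _
  refine ⟨h, hh, J₀.map ψ, hJ₀fg.map ψ, ?_, ?_⟩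
  · rw [Ideal.map_le_iff_le_comap]
    intro x hx
    exact mem_nilradical.2 ((mem_nilradical.1 (hJ₀nil hx)).map ψ)
  · intro A' _ _
    letI : Algebra (Localization.Away h₀) A' :=
      ((algebraMap (Localization.Away h) A').comp ψ).toAlgebra
    let g : Spec (CommRingCat.of A') ⟶ Spec (CommRingCat.of A) :=
      Spec.map (CommRingCat.ofHom
        ((algebraMap (Localization.Away h) A').comp (algebraMap A (Localization.Away h))))
    change FlatMod.IsFlatOver (pullback.snd f g)
      ((Scheme.Modules.pullback (pullback.fst f g)).obj F) ↔ _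
    have hg : g ≫ (specCone A).π.app i₀ = Spec.map (CommRingCat.ofHom
        ((algebraMap (Localization.Away h₀) A').comp (algebraMap A₀ (Localization.Away h₀)))) := by
      change Spec.map _ ≫ Spec.map (CommRingCat.ofHom (algebraMap A₀ A)) = _
      rw [← Spec.map_comp]
      congr 1
      ext a
      change algebraMap (Localization.Away h) A'
          (algebraMap A (Localization.Away h) (algebraMap A₀ A a)) =
        algebraMap (Localization.Away h) A' (ψ (algebraMap A₀ (Localization.Away h₀) a))
      rw [hψ]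
    have hpaste : IsPullback (pullback.fst f g ≫ q) (pullback.snd f g) f₀'
        (Spec.map (CommRingCat.ofHom ((algebraMap (Localization.Away h₀) A').comp
          (algebraMap A₀ (Localization.Away h₀))))) := by
      rw [← hg]
      exact (IsPullback.of_hasPullback f g).paste_horiz hpb
    have key := H₀ A' (pullback f g) (pullback.fst f g ≫ q) (pullback.snd f g) hpaste
    have hmap : Ideal.map (algebraMap (Localization.Away h) A') (J₀.map ψ) =
        Ideal.map (algebraMap (Localization.Away h₀) A') J₀ := Ideal.map_map _ _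
    rw [hmap, ← key]
    let E : (Scheme.Modules.pullback (pullback.fst f g ≫ q)).obj F₀ ≅
        (Scheme.Modules.pullback (pullback.fst f g)).obj F :=
      ((Scheme.Modules.pullbackComp (pullback.fst f g) q).app F₀).symm ≪≫
        (Scheme.Modules.pullback (pullback.fst f g)).mapIso e
    exact ⟨fun H => isFlatOver_of_iso _ E.symm H, fun H => isFlatOver_of_iso _ E H⟩

end Groth.Agent.Lib.Helper26.UnivFlat
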