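import Mathlib.RingTheory.Unramified.Finite
import Mathlib.RingTheory.Ideal.Quotient.Operations

/-!
# Helper26: two maps out of an unramified algebra agreeing modulo an ideal
-/

set_option autoImplicit false
universe u

namespace Groth.Agent.Lib.Helper26

open TensorProduct

/-- For `A`-algebra maps `u v : B → C` out of an unramified (ess. finite type) algebra there is
`w : C` killing all `v b - u b`, with `w ≡ 1` modulo any ideal modulo which `u ≡ v`. -/
theorem exists_separating_elem (A B C : Type*) [CommRing A] [CommRing B] [Algebra A B]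
    [Algebra.FormallyUnramified A B] [Algebra.EssFiniteType A B]
    [CommRing C] [Algebra A C] (u v : B →ₐ[A] C) :
    ∃ w : C, (∀ b : B, (v b - u b) * w = 0) ∧
      ∀ I : Ideal C, (∀ b : B, u b - v b ∈ I) → w - 1 ∈ I := by
  let L : B ⊗[A] B →ₐ[A] C := Algebra.TensorProduct.lift u v (fun _ _ => Commute.all _ _)
  let t := Algebra.FormallyUnramified.elem A B
  refine ⟨L t, ?_, ?_⟩
  · intro b
    have h := congr_arg L (Algebra.FormallyUnramified.one_tmul_sub_tmul_one_mul_elem (R := A) b)
    rw [map_mul, map_sub, map_zero] at h
    simpa [L] using h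
  · intro I hI
    let π : C →ₐ[A] C ⧸ I := Ideal.Quotient.mkₐ A I
    have hπ : π.comp u = π.comp v := by
      ext b
      simp only [AlgHom.comp_apply, π, Ideal.Quotient.mkₐ_eq_mk]
      exact Ideal.Quotient.eq.mpr (hI b)
    have h1 : π.comp L = (π.comp u).comp (Algebra.TensorProduct.lmul' A) := by
      apply Algebra.TensorProduct.ext'
      intro a b
      simp only [AlgHom.comp_apply, L, Algebra.TensorProduct.lift_tmul,
        Algebra.TensorProduct.lmul'_apply_tmul, map_mul]
      congr 1
      exact (AlgHom.congr_fun hπ b).symm
    have h2 : π (L t) = 1 := by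
      have := AlgHom.congr_fun h1 t
      simp only [AlgHom.comp_apply] at this
      rw [this, Algebra.FormallyUnramified.lmul_elem, map_one, map_one]
    rw [← Ideal.Quotient.eq_zero_iff_mem, map_sub, map_one]
    exact sub_eq_zero.mpr h2

end Groth.Agent.Lib.Helper26
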