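import Mathlib.RingTheory.WittVector.Teichmuller
import Mathlib.RingTheory.WittVector.Truncated
import Mathlib.RingTheory.WittVector.Verschiebung
import Mathlib.Tactic

/-!
# Coefficients of `x * teichmuller y` for Witt vectors

`(x * [y])_n = x_n * y ^ (p ^ n)` over an arbitrary commutative ring.
-/

set_option autoImplicit false

namespace Groth.Agent.Lib.Helper26

open WittVector

variable (p : ℕ) [hp : Fact p.Prime]

/-- the Witt vector with coefficients `x_n * y ^ p ^ n` -/
def mulT {R : Type*} [CommRing R] (x : WittVector p R) (y : R) : WittVector p R :=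
  WittVector.mk p (fun n => x.coeff n * y ^ p ^ n)

theorem mulT_coeff {R : Type*} [CommRing R] (x : WittVector p R) (y : R) (n : ℕ) :
    (mulT p x y).coeff n = x.coeff n * y ^ p ^ n := rfl

theorem ghostComponent_mulT {R : Type*} [CommRing R] (x : WittVector p R) (y : R) (n : ℕ) :
    ghostComponent n (mulT p x y) = ghostComponent n x * y ^ p ^ n := by
  rw [ghostComponent_apply, ghostComponent_apply, aeval_wittPolynomial, aeval_wittPolynomial,
    Finset.sum_mul]
  refine Finset.sum_congr rfl fun i hi => ?_
  have hi' : i ≤ n := Nat.lt_succ_iff.mp (Finset.mem_range.mp hi)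
  rw [mulT_coeff, mul_pow, ← pow_mul, ← pow_add, Nat.add_sub_cancel' hi', mul_assoc]

theorem map_mulT {R S : Type*} [CommRing R] [CommRing S] (f : R →+* S) (x : WittVector p R) (y : R) :
    WittVector.map f (mulT p x y) = mulT p (WittVector.map f x) (f y) := by
  ext n
  rw [map_coeff, mulT_coeff, mulT_coeff, map_coeff, map_mul, map_pow]

theorem mulT_eq_aux₁ {σ : Type*} (x : WittVector p (MvPolynomial σ ℚ)) (y : MvPolynomial σ ℚ) :
    mulT p x y = x * teichmuller p y := by
  apply (ghostMap.bijective_of_invertible p (MvPolynomial σ ℚ)).1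
  rw [map_mul]
  ext1 n
  simp only [Pi.mul_apply, ghostMap_apply, ghostComponent_mulT, ghostComponent_teichmuller]

theorem mulT_eq_aux₂ {σ : Type*} (x : WittVector p (MvPolynomial σ ℤ)) (y : MvPolynomial σ ℤ) :
    mulT p x y = x * teichmuller p y := by
  refine map_injective (MvPolynomial.map (Int.castRingHom ℚ))
    (MvPolynomial.map_injective _ Int.cast_injective) ?_
  rw [map_mulT, mulT_eq_aux₁, map_mul, map_teichmuller]

theorem mulT_eq {R : Type*} [CommRing R] (x : WittVector p R) (y : R) :
    mulT p x y = x * teichmuller p y := by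
  obtain ⟨x, rfl⟩ := map_surjective _ (MvPolynomial.counit_surjective R) x
  obtain ⟨y, rfl⟩ := MvPolynomial.counit_surjective R y
  rw [← map_mulT, mulT_eq_aux₂, map_mul, map_teichmuller]

/-- `(x * [y])_n = x_n * y ^ p ^ n` -/
theorem coeff_mul_teichmuller {R : Type*} [CommRing R] (x : WittVector p R) (y : R) (n : ℕ) :
    (x * teichmuller p y).coeff n = x.coeff n * y ^ p ^ n := by
  rw [← mulT_eq, mulT_coeff]

/-- `([y] * x)_n = y ^ p ^ n * x_n` -/
theorem coeff_teichmuller_mul {R : Type*} [CommRing R] (x : WittVector p R) (y : R) (n : ℕ) :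
    (teichmuller p y * x).coeff n = y ^ p ^ n * x.coeff n := by
  rw [mul_comm, coeff_mul_teichmuller, mul_comm]

/-- truncated version: `(a * trunc [y])_j = a_j * y ^ p ^ j` -/
theorem truncated_coeff_mul_teichmuller {R : Type*} [CommRing R] {m : ℕ}
    (a : TruncatedWittVector p m R) (y : R) (j : Fin m) :
    TruncatedWittVector.coeff j (a * WittVector.truncate m (teichmuller p y)) =
      TruncatedWittVector.coeff j a * y ^ p ^ (j : ℕ) := by
  obtain ⟨x, rfl⟩ := WittVector.truncate_surjective p m R a
  rw [← map_mul, WittVector.coeff_truncate, WittVector.coeff_truncate, coeff_mul_teichmuller]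

/-- truncated version: `(trunc [y] * a)_j = y ^ p ^ j * a_j` -/
theorem truncated_coeff_teichmuller_mul {R : Type*} [CommRing R] {m : ℕ}
    (a : TruncatedWittVector p m R) (y : R) (j : Fin m) :
    TruncatedWittVector.coeff j (WittVector.truncate m (teichmuller p y) * a) =
      y ^ p ^ (j : ℕ) * TruncatedWittVector.coeff j a := by
  rw [mul_comm, truncated_coeff_mul_teichmuller, mul_comm]

end Groth.Agent.Lib.Helper26
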