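import Mathlib.Tactic
import Mathlib.RingTheory.WittVector.StructurePolynomial
import Mathlib.RingTheory.WittVector.Defs
import Mathlib.RingTheory.MvPolynomial.WeightedHomogeneous

/-!
# Weighted homogeneity of Witt structure polynomials (helper27)
-/

namespace Groth.Agent.Lib.Helper27

open MvPolynomial Finset

variable (p : ℕ) [hp : Fact p.Prime] {idx : Type*}

/-- If `C c * φ` is weighted homogeneous over `ℤ` with `c ≠ 0`, then so is `φ`. -/
theorem isWeightedHomogeneous_of_C_mul {σ : Type*} {w : σ → ℕ} {φ : MvPolynomial σ ℤ} {c : ℤ}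
    (hc : c ≠ 0) {m : ℕ} (h : IsWeightedHomogeneous w (C c * φ) m) : IsWeightedHomogeneous w φ m := by
  intro d hd
  apply h
  rw [coeff_C_mul]
  exact mul_ne_zero hc hd

/-- The renamed Witt polynomial `W_n(x_{b,0}, x_{b,1}, …)` is weighted homogeneous of degree
`c * p ^ n` if the variable `x_{b,i}` has weight `c * p ^ i`. -/
theorem rename_wittPolynomial_isWeightedHomogeneous (w : idx × ℕ → ℕ) (b : idx) (c : ℕ)
    (hw : ∀ i, w (b, i) = c * p ^ i) (n : ℕ) :
    IsWeightedHomogeneous w (rename (Prod.mk b) (wittPolynomial p ℤ n)) (c * p ^ n) := by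
  rw [wittPolynomial_eq_sum_C_mul_X_pow, map_sum]
  apply IsWeightedHomogeneous.sum
  intro i hi
  rw [mem_range] at hi
  rw [map_mul, rename_C, map_pow (rename (Prod.mk b)) (X i), rename_X]
  apply IsWeightedHomogeneous.C_mul
  have := (isWeightedHomogeneous_X ℤ w (b, i)).pow (p ^ (n - i))
  have hdeg : p ^ (n - i) • w (b, i) = c * p ^ n := by
    rw [hw i, smul_eq_mul]
    have : p ^ n = p ^ (n - i) * p ^ i := by rw [← pow_add]; congr 1; omega
    rw [this]; ring
  exact hdeg ▸ this

/-- Weighted homogeneity of the Witt structure polynomials: if the `n`-th ghost component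
of `Φ` is weighted homogeneous of degree `p ^ n` for all `n`, then so is `wittStructureInt p Φ n`. -/
theorem wittStructureInt_isWeightedHomogeneous (w : idx × ℕ → ℕ) (Φ : MvPolynomial idx ℤ)
    (h : ∀ n, IsWeightedHomogeneous w
      (bind₁ (fun i => rename (Prod.mk i) (wittPolynomial p ℤ n)) Φ) (p ^ n)) :
    ∀ n, IsWeightedHomogeneous w (wittStructureInt p Φ n) (p ^ n) := by
  intro n
  induction n using Nat.strong_induction_on with
  | _ n ih =>
    have hprop := wittStructureInt_prop p Φ n
    have hL : bind₁ (wittStructureInt p Φ) (wittPolynomial p ℤ n) =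
        ∑ i ∈ range n, C ((p : ℤ) ^ i) * wittStructureInt p Φ i ^ p ^ (n - i) +
          C ((p : ℤ) ^ n) * wittStructureInt p Φ n := by
      rw [wittPolynomial_eq_sum_C_mul_X_pow, map_sum, sum_range_succ]
      congr 1
      · refine Finset.sum_congr rfl fun i _ => ?_
        rw [map_mul, bind₁_C_right, map_pow (bind₁ (wittStructureInt p Φ)) (X i), bind₁_X_right]
      · rw [map_mul, bind₁_C_right, map_pow (bind₁ (wittStructureInt p Φ)) (X n), bind₁_X_right,
          Nat.sub_self, pow_zero, pow_one]
    rw [hL] at hprop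
    have hp0 : ((p : ℤ) ^ n) ≠ 0 := pow_ne_zero _ (by exact_mod_cast hp.1.ne_zero)
    apply isWeightedHomogeneous_of_C_mul hp0
    have heq : C ((p : ℤ) ^ n) * wittStructureInt p Φ n =
        bind₁ (fun i => rename (Prod.mk i) (wittPolynomial p ℤ n)) Φ -
          ∑ i ∈ range n, C ((p : ℤ) ^ i) * wittStructureInt p Φ i ^ p ^ (n - i) := by
      rw [← hprop]; ring
    rw [heq]
    apply (h n).sub
    apply IsWeightedHomogeneous.sum
    intro i hi
    rw [mem_range] at hi
    apply IsWeightedHomogeneous.C_mul
    have := (ih i hi).pow (p ^ (n - i))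
    have hdeg : p ^ (n - i) • p ^ i = p ^ n := by
      rw [smul_eq_mul, ← pow_add]; congr 1; omega
    exact hdeg ▸ this

/-- The Witt addition polynomials are weighted homogeneous of degree `p ^ n`, where both `x_i`
and `y_i` have weight `p ^ i`. -/
theorem wittAdd_isWeightedHomogeneous (n : ℕ) :
    IsWeightedHomogeneous (fun i : Fin 2 × ℕ => p ^ i.2) (WittVector.wittAdd p n) (p ^ n) := by
  apply wittStructureInt_isWeightedHomogeneous
  intro n
  rw [map_add, bind₁_X_right, bind₁_X_right]
  apply IsWeightedHomogeneous.add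
  · have := rename_wittPolynomial_isWeightedHomogeneous p (fun i : Fin 2 × ℕ => p ^ i.2) 0 1
      (fun i => by simp) n
    simpa using this
  · have := rename_wittPolynomial_isWeightedHomogeneous p (fun i : Fin 2 × ℕ => p ^ i.2) 1 1
      (fun i => by simp) n
    simpa using this

/-- The Witt multiplication polynomials are weighted homogeneous of degree `p ^ n`, where `x_i`
has weight `0` and `y_i` has weight `p ^ i`. -/
theorem wittMul_isWeightedHomogeneous (n : ℕ) :
    IsWeightedHomogeneous (fun i : Fin 2 × ℕ => if i.1 = 0 then 0 else p ^ i.2)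
      (WittVector.wittMul p n) (p ^ n) := by
  apply wittStructureInt_isWeightedHomogeneous
  intro n
  rw [map_mul, bind₁_X_right, bind₁_X_right]
  have h0 := rename_wittPolynomial_isWeightedHomogeneous p
    (fun i : Fin 2 × ℕ => if i.1 = 0 then 0 else p ^ i.2) 0 0 (fun i => by simp) n
  have h1 := rename_wittPolynomial_isWeightedHomogeneous p
    (fun i : Fin 2 × ℕ => if i.1 = 0 then 0 else p ^ i.2) 1 1 (fun i => by simp) n
  have := h0.mul h1
  simpa using this

end Groth.Agent.Lib.Helper27
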