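import Mathlib.Tactic
import Mathlib.RingTheory.WittVector.Truncated
import Mathlib.RingTheory.WittVector.Teichmuller
import Mathlib.RingTheory.Polynomial.GaussLemma
import Mathlib.RingTheory.IntegralClosure.IntegrallyClosed
import Groth.Agent.Lib.Helper27WittHomog

/-!
# Filtered pieces of truncated Witt vectors: closure under subtraction and multiplication (helper26)
-/

universe u

namespace Groth.Agent.Lib.Helper26

open MvPolynomial Finset

/-- In `B = A[1/π]` with `A` integrally closed, an element whose power lies in `A` lies in `A`. -/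
theorem mem_range_of_pow_mem' {A B : Type u} [CommRing A] [IsDomain A] [IsIntegrallyClosed A]
    [CommRing B] [Algebra A B] (π : A) [IsLocalization.Away π B] (y : B) (N : ℕ)
    (hN : 0 < N) (h : y ^ N ∈ (algebraMap A B).range) : y ∈ (algebraMap A B).range := by
  by_cases hπ : π = 0
  · have h0 : (algebraMap A B π) = 0 := by rw [hπ, map_zero]
    have hu : IsUnit (algebraMap A B π) := IsLocalization.Away.algebraMap_isUnit (S := B) π
    rw [h0] at hu
    have : Subsingleton B := subsingleton_of_zero_eq_one (isUnit_zero_iff.mp hu)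
    exact ⟨0, Subsingleton.elim _ _⟩
  let K := FractionRing A
  have hne : algebraMap A K π ≠ 0 := by
    intro h0
    exact hπ ((IsFractionRing.injective A K) (by rw [h0, map_zero]))
  have hunit : IsUnit (algebraMap A K π) := hne.isUnit
  let f : B →+* K := IsLocalization.Away.lift π hunit
  have hf : ∀ a : A, f (algebraMap A B a) = algebraMap A K a := fun a =>
    IsLocalization.Away.lift_eq π hunit a
  obtain ⟨a', ha'⟩ := h
  have hint : IsIntegral A (f y) := by
    apply IsIntegral.of_pow hN
    rw [← map_pow, ← ha', hf]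
    exact isIntegral_algebraMap
  obtain ⟨z, hz⟩ := IsIntegrallyClosed.isIntegral_iff.mp hint
  obtain ⟨k, a, hya⟩ := IsLocalization.Away.surj π y
  have h1 : algebraMap A K a = algebraMap A K (z * π ^ k) := by
    rw [← hf a, ← hya, map_mul, map_pow, hf, map_mul, map_pow, hz]
  have h2 : a = z * π ^ k := IsFractionRing.injective A K h1
  have hu : IsUnit (algebraMap A B π ^ k) :=
    (IsLocalization.Away.algebraMap_isUnit (S := B) π).pow k
  refine ⟨z, ?_⟩
  apply hu.mul_left_injective
  change algebraMap A B z * algebraMap A B π ^ k = y * algebraMap A B π ^ k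
  rw [hya, h2, map_mul, map_pow]

/-- Core lemma: evaluating an integer polynomial `P` in the coordinates of two Witt vectors
whose coordinates satisfy the filtration conditions for `cc 0`, `cc 1`; if every monomial of `P`
has the right weights then the value satisfies the filtration condition for `C` at level `j`. -/
theorem aeval_pow_mul_mem_range (p : ℕ) [Fact p.Prime] {A B : Type u} [CommRing A] [IsDomain A]
    [IsIntegrallyClosed A] [CommRing B] [Algebra A B] [CharP B p] (π : A)
    [IsLocalization.Away π B]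
    (P : MvPolynomial (Fin 2 × ℕ) ℤ) (m j : ℕ) (hj : j < m)
    (v : Fin 2 × ℕ → B) (cc : Fin 2 → B) (C : B)
    (hv : ∀ e i, i < m → v (e, i) ^ p ^ (m - 1 - i) * cc e ∈ (algebraMap A B).range)
    (hvars : ∀ d ∈ P.support, ∀ u ∈ d.support, u.2 < m)
    (hd : ∀ d ∈ P.support, ∏ u ∈ d.support, (cc u.1) ^ (p ^ u.2 * d u) = C ^ p ^ j) :
    (aeval v P) ^ p ^ (m - 1 - j) * C ∈ (algebraMap A B).range := by
  have hpp : 0 < p := (Fact.out : p.Prime).pos
  rw [aeval_def, eval₂_eq, sum_pow_char_pow, Finset.sum_mul]
  apply Subring.sum_mem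
  intro d hdm
  rw [mul_pow, mul_assoc]
  apply Subring.mul_mem
  · apply Subring.pow_mem
    exact ⟨((coeff d P : ℤ) : A), by simp⟩
  · apply mem_range_of_pow_mem' π _ (p ^ j) (pow_pos hpp _)
    have key : ((∏ u ∈ d.support, v u ^ d u) ^ p ^ (m - 1 - j) * C) ^ p ^ j =
        ∏ u ∈ d.support, (v u ^ p ^ (m - 1 - u.2) * cc u.1) ^ (p ^ u.2 * d u) := by
      rw [mul_pow, ← hd d hdm, ← Finset.prod_pow, ← Finset.prod_pow, ← Finset.prod_mul_distrib]
      apply Finset.prod_congr rfl
      intro u hu
      have hu2 := hvars d hdm u hu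
      rw [mul_pow, ← pow_mul, ← pow_mul, ← pow_mul]
      congr 2
      have h1 : p ^ (m - 1 - j) * p ^ j = p ^ (m - 1 - u.2) * p ^ u.2 := by
        rw [← pow_add, ← pow_add]; congr 1; omega
      calc d u * (p ^ (m - 1 - j) * p ^ j)
          = d u * (p ^ (m - 1 - u.2) * p ^ u.2) := by rw [h1]
        _ = p ^ (m - 1 - u.2) * (p ^ u.2 * d u) := by ring
    rw [key]
    apply Subring.prod_mem
    intro u hu
    apply Subring.pow_mem
    exact hv u.1 u.2 (hvars d hdm u hu)


/-- The Witt subtraction polynomials are weighted homogeneous of degree `p ^ n`, where both `x_i`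
and `y_i` have weight `p ^ i`. -/
theorem wittSub_isWeightedHomogeneous (p : ℕ) [hp : Fact p.Prime] (n : ℕ) :
    IsWeightedHomogeneous (fun i : Fin 2 × ℕ => p ^ i.2) (WittVector.wittSub p n) (p ^ n) := by
  apply Groth.Agent.Lib.Helper27.wittStructureInt_isWeightedHomogeneous
  intro n
  rw [map_sub, bind₁_X_right, bind₁_X_right]
  apply IsWeightedHomogeneous.sub
  · have := Groth.Agent.Lib.Helper27.rename_wittPolynomial_isWeightedHomogeneous p
      (fun i : Fin 2 × ℕ => p ^ i.2) 0 1 (fun i => by simp) n
    simpa using this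
  · have := Groth.Agent.Lib.Helper27.rename_wittPolynomial_isWeightedHomogeneous p
      (fun i : Fin 2 × ℕ => p ^ i.2) 1 1 (fun i => by simp) n
    simpa using this

/-- The Witt multiplication polynomials are weighted homogeneous of degree `p ^ n`, where `x_i`
has weight `p ^ i` and `y_i` has weight `0`. -/
theorem wittMul_isWeightedHomogeneous_left (p : ℕ) [hp : Fact p.Prime] (n : ℕ) :
    IsWeightedHomogeneous (fun i : Fin 2 × ℕ => if i.1 = 0 then p ^ i.2 else 0)
      (WittVector.wittMul p n) (p ^ n) := by
  apply Groth.Agent.Lib.Helper27.wittStructureInt_isWeightedHomogeneous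
  intro n
  rw [map_mul, bind₁_X_right, bind₁_X_right]
  have h0 := Groth.Agent.Lib.Helper27.rename_wittPolynomial_isWeightedHomogeneous p
    (fun i : Fin 2 × ℕ => if i.1 = 0 then p ^ i.2 else 0) 0 1 (fun i => by simp) n
  have h1 := Groth.Agent.Lib.Helper27.rename_wittPolynomial_isWeightedHomogeneous p
    (fun i : Fin 2 × ℕ => if i.1 = 0 then p ^ i.2 else 0) 1 0 (fun i => by simp) n
  have := h0.mul h1
  simpa using this

theorem support_snd_lt_of_vars {P : MvPolynomial (Fin 2 × ℕ) ℤ} {j m : ℕ} (hj : j < m)
    (hP : P.vars ⊆ Finset.univ ×ˢ Finset.range (j + 1)) :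
    ∀ d ∈ P.support, ∀ u ∈ d.support, u.2 < m := by
  intro d hd u hu
  have : u ∈ P.vars := (mem_vars_iff_mem_support u).mpr ⟨d, hd, hu⟩
  have := hP this
  rw [Finset.mem_product, Finset.mem_range] at this
  omega

/-- Subtraction preserves the filtration condition. -/
theorem sub_coeff_pow_mul_mem_range (p : ℕ) [Fact p.Prime] {A B : Type u} [CommRing A]
    [IsDomain A] [IsIntegrallyClosed A] [CommRing B] [Algebra A B] [CharP B p] (π : A)
    [IsLocalization.Away π B] (m : ℕ) (a b : WittVector p B) (c : B)
    (ha : ∀ i, i < m → a.coeff i ^ p ^ (m - 1 - i) * c ∈ (algebraMap A B).range)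
    (hb : ∀ i, i < m → b.coeff i ^ p ^ (m - 1 - i) * c ∈ (algebraMap A B).range)
    (j : ℕ) (hj : j < m) :
    (a - b).coeff j ^ p ^ (m - 1 - j) * c ∈ (algebraMap A B).range := by
  rw [WittVector.sub_coeff, WittVector.peval]
  apply aeval_pow_mul_mem_range p π (WittVector.wittSub p j) m j hj _ (fun _ => c) c
  · intro e i hi
    fin_cases e
    · exact ha i hi
    · exact hb i hi
  · exact support_snd_lt_of_vars hj (WittVector.wittSub_vars p j)
  · intro d hd
    have h := wittSub_isWeightedHomogeneous p j (d := d) (mem_support_iff.mp hd)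
    rw [Finsupp.weight_apply, Finsupp.sum] at h
    rw [Finset.prod_pow_eq_pow_sum]
    congr 1
    rw [← h]
    apply Finset.sum_congr rfl
    intro u _
    simp [mul_comm]

/-- Multiplication is compatible with the filtration conditions. -/
theorem mul_coeff_pow_mul_mem_range (p : ℕ) [Fact p.Prime] {A B : Type u} [CommRing A]
    [IsDomain A] [IsIntegrallyClosed A] [CommRing B] [Algebra A B] [CharP B p] (π : A)
    [IsLocalization.Away π B] (m : ℕ) (a b : WittVector p B) (c c' : B)
    (ha : ∀ i, i < m → a.coeff i ^ p ^ (m - 1 - i) * c ∈ (algebraMap A B).range)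
    (hb : ∀ i, i < m → b.coeff i ^ p ^ (m - 1 - i) * c' ∈ (algebraMap A B).range)
    (j : ℕ) (hj : j < m) :
    (a * b).coeff j ^ p ^ (m - 1 - j) * (c * c') ∈ (algebraMap A B).range := by
  rw [WittVector.mul_coeff, WittVector.peval]
  apply aeval_pow_mul_mem_range p π (WittVector.wittMul p j) m j hj _ ![c, c'] (c * c')
  · intro e i hi
    fin_cases e
    · exact ha i hi
    · exact hb i hi
  · exact support_snd_lt_of_vars hj (WittVector.wittMul_vars p j)
  · intro d hd
    have h0 := wittMul_isWeightedHomogeneous_left p j (d := d) (mem_support_iff.mp hd)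
    have h1 := Groth.Agent.Lib.Helper27.wittMul_isWeightedHomogeneous p j (d := d)
      (mem_support_iff.mp hd)
    rw [Finsupp.weight_apply, Finsupp.sum] at h0 h1
    rw [mul_pow]
    nth_rewrite 1 [← h0]
    rw [← h1, ← Finset.prod_pow_eq_pow_sum, ← Finset.prod_pow_eq_pow_sum,
      ← Finset.prod_mul_distrib]
    apply Finset.prod_congr rfl
    intro u _
    obtain ⟨e, i⟩ := u
    fin_cases e
    · simp [mul_comm]
    · simp [mul_comm]

end Groth.Agent.Lib.Helper26
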