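import Mathlib.Tactic
import Mathlib.RingTheory.Coprime.Lemmas
import Groth.Prelude.Def_W4c6katofiltaWFil
import Groth.Agent.Lib.Helper26WittFil

/-!
# Filtered pieces of truncated Witt vectors: the floor lemma (helper26)
-/

universe u

namespace Groth.Agent.Lib.Helper26

open Finset

section

variable {A B : Type u} [CommRing A] [IsDomain A] [UniqueFactorizationMonoid A]
  [CommRing B] [Algebra A B] {r : ℕ} (x : Fin r → A)

theorem prod_prime_ne_zero (hx : ∀ i, Prime (x i)) : (∏ i, x i) ≠ 0 :=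
  Finset.prod_ne_zero_iff.mpr (fun i _ => (hx i).ne_zero)

theorem algebraMap_injective_of_away (hx : ∀ i, Prime (x i)) [IsLocalization.Away (∏ i, x i) B] :
    Function.Injective (algebraMap A B) :=
  IsLocalization.injective B (M := Submonoid.powers (∏ i, x i))
    (powers_le_nonZeroDivisors_of_noZeroDivisors (prod_prime_ne_zero x hx))

/-- Lemma K: if `z ^ N * ∏ x_i ^ e_i ∈ A` with all `e_i < N` then `z ∈ A`. -/
theorem mem_range_of_pow_mul_prod_mem (hx : ∀ i, Prime (x i))
    (hxa : ∀ i j, Associated (x i) (x j) → i = j) [IsLocalization.Away (∏ i, x i) B]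
    (z : B) (N : ℕ) (hN : 0 < N) (e : Fin r → ℕ) (he : ∀ i, e i < N)
    (h : z ^ N * algebraMap A B (∏ i, x i ^ e i) ∈ (algebraMap A B).range) :
    z ∈ (algebraMap A B).range := by
  have hinj := algebraMap_injective_of_away (B := B) x hx
  obtain ⟨a', ha'⟩ := h
  -- (z π)^N ∈ A
  have h1 : (z * algebraMap A B (∏ i, x i)) ^ N =
      algebraMap A B (a' * ∏ i, x i ^ (N - e i)) := by
    rw [map_mul, ha', mul_pow, mul_assoc, ← map_pow, ← map_mul, ← Finset.prod_pow,
      ← Finset.prod_mul_distrib]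
    congr 3
    funext i
    rw [← pow_add]
    congr 1
    have := he i
    omega
  obtain ⟨a, ha⟩ := mem_range_of_pow_mem' (∏ i, x i) (z * algebraMap A B (∏ i, x i)) N hN
    ⟨_, h1.symm⟩
  have h2 : a ^ N = a' * ∏ i, x i ^ (N - e i) := by
    apply hinj
    rw [map_pow, ha, h1]
  have h3 : ∀ i, x i ∣ a := by
    intro i
    apply (hx i).dvd_of_dvd_pow (n := N)
    rw [h2]
    apply Dvd.dvd.mul_left
    apply dvd_trans _ (Finset.dvd_prod_of_mem _ (Finset.mem_univ i))
    apply dvd_pow_self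
    have := he i
    omega
  have h4 : (∏ i, x i) ∣ a := by
    apply Fintype.prod_dvd_of_isRelPrime _ h3
    intro i j hij
    change IsRelPrime (x i) (x j)
    rw [(hx i).irreducible.isRelPrime_iff_not_dvd]
    intro hdvd
    exact hij (hxa i j ((hx i).irreducible.associated_of_dvd (hx j).irreducible hdvd))
  obtain ⟨b, rfl⟩ := h4
  refine ⟨b, ?_⟩
  have hu : IsUnit (algebraMap A B (∏ i, x i)) :=
    IsLocalization.Away.algebraMap_isUnit (S := B) (∏ i, x i)
  apply hu.mul_left_injective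
  change algebraMap A B b * algebraMap A B (∏ i, x i) = z * algebraMap A B (∏ i, x i)
  rw [← ha, map_mul, mul_comm]

/-- `zmon` of a family of natural exponents is the image of the monomial. -/
theorem zmon_natCast (u : Fin r → Bˣ) (hu : ∀ i, (u i : B) = algebraMap A B (x i))
    (e : Fin r → ℕ) :
    WittFil.zmon u (fun i => (e i : ℤ)) = algebraMap A B (∏ i, x i ^ e i) := by
  unfold WittFil.zmon
  rw [Units.coe_prod, map_prod]
  apply Finset.prod_congr rfl
  intro i _
  rw [zpow_natCast, Units.val_pow_eq_pow_val, hu, map_pow]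

theorem zmon_add (u : Fin r → Bˣ) (n n' : Fin r → ℤ) :
    WittFil.zmon u (n + n') = WittFil.zmon u n * WittFil.zmon u n' := by
  unfold WittFil.zmon
  rw [← Units.val_mul, ← Finset.prod_mul_distrib]
  congr 2
  funext i
  rw [Pi.add_apply, zpow_add]

theorem zmon_nsmul (u : Fin r → Bˣ) (n : Fin r → ℤ) (N : ℕ) :
    WittFil.zmon u (fun i => (N : ℤ) * n i) = WittFil.zmon u n ^ N := by
  unfold WittFil.zmon
  rw [← Units.val_pow_eq_pow_val, ← Finset.prod_pow]
  congr 2
  funext i
  change u i ^ ((N : ℤ) * n i) = (u i ^ n i) ^ N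
  rw [mul_comm, zpow_mul, zpow_natCast]

/-- Decomposition `c_n = c_{⌊n/N⌋}^N * ∏ x_i^{n_i mod N}`. -/
theorem zmon_eq_pow_mul (u : Fin r → Bˣ) (hu : ∀ i, (u i : B) = algebraMap A B (x i))
    (n : Fin r → ℤ) (N : ℕ) (hN : 0 < N) :
    WittFil.zmon u n = WittFil.zmon u (fun i => n i / (N : ℤ)) ^ N *
      algebraMap A B (∏ i, x i ^ (n i % (N : ℤ)).toNat) := by
  rw [← zmon_nsmul, ← zmon_natCast x u hu, ← zmon_add]
  congr 1
  funext i
  have hN' : (0 : ℤ) < N := by exact_mod_cast hN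
  rw [Pi.add_apply, Int.toNat_of_nonneg (Int.emod_nonneg _ hN'.ne')]
  exact (Int.mul_ediv_add_emod (n i) N).symm

/-- Lemma K″: `w ^ N * c_n ∈ A ↔ w * c_{⌊n/N⌋} ∈ A`. -/
theorem pow_mul_zmon_mem_iff (hx : ∀ i, Prime (x i))
    (hxa : ∀ i j, Associated (x i) (x j) → i = j) [IsLocalization.Away (∏ i, x i) B]
    (u : Fin r → Bˣ) (hu : ∀ i, (u i : B) = algebraMap A B (x i))
    (w : B) (N : ℕ) (hN : 0 < N) (n : Fin r → ℤ) :
    w ^ N * WittFil.zmon u n ∈ (algebraMap A B).range ↔
      w * WittFil.zmon u (fun i => n i / (N : ℤ)) ∈ (algebraMap A B).range := by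
  have hN' : (0 : ℤ) < N := by exact_mod_cast hN
  have key : w ^ N * WittFil.zmon u n = (w * WittFil.zmon u (fun i => n i / (N : ℤ))) ^ N *
      algebraMap A B (∏ i, x i ^ (n i % (N : ℤ)).toNat) := by
    rw [zmon_eq_pow_mul x u hu n N hN, mul_pow, mul_assoc]
  rw [key]
  constructor
  · intro h
    apply mem_range_of_pow_mul_prod_mem x hx hxa _ N hN _ _ h
    intro i
    have := Int.emod_lt_of_pos (n i) hN'
    have h0 := Int.emod_nonneg (n i) hN'.ne'
    omega
  · intro h
    exact Subring.mul_mem _ (Subring.pow_mem _ h _) ⟨_, rfl⟩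

end

end Groth.Agent.Lib.Helper26
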