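import Groth.Agent.Lib.Helper4DevE
import Groth.Agent.Lib.Helper4CohThick
import Mathlib.CategoryTheory.Abelian.Subcategory
import Mathlib.CategoryTheory.ObjectProperty.Extensions

/-!
# The abelian category of coherent modules on a locally Noetherian scheme (helper27)

* `cohP X`: the object property `Coh.IsCoh` on `X.Modules`; for `X` locally Noetherian it contains
  zero and is closed under isomorphisms, kernels, cokernels, extensions and finite products, so
  that `CohCat X := (cohP X).FullSubcategory` is abelian (Mathlib's `Abelian P.FullSubcategory`).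
-/

set_option autoImplicit false
universe u
open CategoryTheory CategoryTheory.Limits AlgebraicGeometry Opposite ZeroObject

namespace Groth.Agent.Lib.Helper27ARCohA

open Groth.Agent.Lib.Helper4.Dev

/-- coherent modules as an object property. -/
def cohP (X : Scheme.{u}) : ObjectProperty X.Modules := fun M => Coh.IsCoh M

theorem cohP_iff {X : Scheme.{u}} (M : X.Modules) : cohP X M ↔ Coh.IsCoh M := Iff.rfl

variable (X : Scheme.{u})

instance : (cohP X).IsClosedUnderIsomorphisms where
  of_iso e h := isCoh_of_iso e h

instance [IsLocallyNoetherian X] : (cohP X).ContainsZero where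
  exists_zero := ⟨0, isZero_zero _, isCoh_of_isZero (isZero_zero _) (isCoh_structureModule X)⟩

instance [IsLocallyNoetherian X] : (cohP X).IsClosedUnderKernels where
  kernels_le := by
    rintro _ ⟨f, k, hk, hf⟩
    have e : k.pt ≅ kernel f := IsLimit.conePointUniqueUpToIso hk (limit.isLimit _)
    exact isCoh_of_iso e.symm (isCoh_kernel f hf.1 hf.2)

instance [IsLocallyNoetherian X] : (cohP X).IsClosedUnderCokernels where
  cokernels_le := by
    rintro _ ⟨f, k, hk, hf⟩
    have e : k.pt ≅ cokernel f := IsColimit.coconePointUniqueUpToIso hk (colimit.isColimit _)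
    exact isCoh_of_iso e.symm (isCoh_cokernel f hf.1 hf.2)

instance [IsLocallyNoetherian X] : (cohP X).IsClosedUnderExtensions where
  prop_X₂_of_shortExact hS h1 h3 :=
    Groth.Agent.Lib.Helper4.CohThick.isCoh_of_shortExact _ hS h1 h3

instance [IsLocallyNoetherian X] : (cohP X).IsClosedUnderBinaryProducts where
  limitsOfShape_le := by
    rintro M ⟨p⟩
    have h1 : Coh.IsCoh (p.diag.obj ⟨WalkingPair.left⟩) := p.prop_diag_obj ⟨WalkingPair.left⟩
    have h2 : Coh.IsCoh (p.diag.obj ⟨WalkingPair.right⟩) := p.prop_diag_obj ⟨WalkingPair.right⟩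
    have e1 : M ≅ limit p.diag := IsLimit.conePointUniqueUpToIso p.isLimit (limit.isLimit _)
    have e2 : limit p.diag ≅
        (p.diag.obj ⟨WalkingPair.left⟩) ⨯ (p.diag.obj ⟨WalkingPair.right⟩) :=
      HasLimit.isoOfNatIso (diagramIsoPair p.diag)
    have e3 : (p.diag.obj ⟨WalkingPair.left⟩) ⨯ (p.diag.obj ⟨WalkingPair.right⟩) ≅
        (p.diag.obj ⟨WalkingPair.left⟩) ⊞ (p.diag.obj ⟨WalkingPair.right⟩) :=
      (biprod.isoProd _ _).symm
    exact (cohP X).prop_of_iso (e1 ≪≫ e2 ≪≫ e3).symm ((cohP X).prop_biprod h1 h2)

instance [IsLocallyNoetherian X] : (cohP X).IsClosedUnderFiniteProducts :=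
  ObjectProperty.IsClosedUnderFiniteProducts.mk'

/-- the abelian category of coherent modules. -/
abbrev CohCat (X : Scheme.{u}) := (cohP X).FullSubcategory

noncomputable instance [IsLocallyNoetherian X] : Abelian (CohCat X) := inferInstance

end Groth.Agent.Lib.Helper27ARCohA
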