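import Mathlib
import Groth.Agent.Lib.Helper27QCohVanish
import Groth.Agent.Lib.Helper23RelRes
import Groth.Agent.Lib.Helper23Restr2
import Groth.Agent.Lib.Helper2TensorInv
import Groth.Agent.Lib.Helper21ModTensor5
import Groth.Agent.S0014
import Groth.Agent.Lib.Helper21HZB9
set_option backward.isDefEq.respectTransparency.types false

/-!
# Affineness from vanishing of the cohomology of negative powers of an ample module (helper27)

* `tensorComm`: `A ⊗ B ≅ B ⊗ A`;
* `subsingleton_HH_of_vanishing_inverse_powers`: `L` ample with inverse `L'`, `H^p(L'^n) = 0` for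
  `n ≥ n₀`, `p > 0` ⇒ all quasi-coherent modules have vanishing higher cohomology;
* `isAffine_of_vanishing_inverse_powers`.
-/

set_option autoImplicit false
set_option linter.style.haveILetI false
universe u
open CategoryTheory CategoryTheory.Limits Opposite TopologicalSpace AlgebraicGeometry

namespace Groth.Agent.Lib.Helper27AffineCrit

open Groth.Agent.Lib.Helper27SerreVan Groth.Agent.Lib.Helper27QCohVanish
  Groth.Agent.Lib.Helper21.ModTensor5

variable {X : Scheme.{u}}

/-- commutativity of the tensor product of modules. -/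
noncomputable def tensorComm (A B : X.Modules) : CohB1.tensorMod A B ≅ CohB1.tensorMod B A :=
  brdApp X.sheaf A B

theorem exists_finite_affine_cover [CompactSpace X] : ∃ (t : ℕ) (U : Fin t → X.Opens),
    (∀ i, IsAffineOpen (U i)) ∧ ⨆ i, U i = ⊤ := by
  classical
  have hx : ∀ x : X, ∃ V : X.Opens, IsAffineOpen V ∧ x ∈ V := fun x => by
    obtain ⟨V, hV, hxV, -⟩ := AlgebraicGeometry.exists_isAffineOpen_mem_and_subset
      (X := X) (x := x) (U := ⊤) trivial
    exact ⟨V, hV, hxV⟩
  choose V hV hxV using hx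
  obtain ⟨T, hT⟩ := isCompact_univ.elim_finite_subcover
    (fun x : X => ((V x : X.Opens) : Set X))
    (fun x => (V x).2)
    (fun x _ => Set.mem_iUnion.2 ⟨x, hxV x⟩)
  refine ⟨T.card, fun i => V (T.equivFin.symm i : X), fun i => hV _, ?_⟩
  rw [eq_top_iff]
  intro x _
  obtain ⟨y, hy⟩ := Set.mem_iUnion.1 (hT (Set.mem_univ x))
  obtain ⟨hyT, hxy⟩ := Set.mem_iUnion.1 hy
  refine TopologicalSpace.Opens.mem_iSup.2 ⟨T.equivFin ⟨y, hyT⟩, ?_⟩
  simpa using hxy

theorem isAffineOpen_inf_of_isSeparated [X.IsSeparated] (V W : X.Opens) (hV : IsAffineOpen V)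
    (hW : IsAffineOpen W) : IsAffineOpen (V ⊓ W) := by
  have : IsSeparated (Limits.terminal.from X) := Scheme.IsSeparated.isSeparated_terminal_from
  have h : IsAffineHom (Limits.pullback.diagonal (Limits.terminal.from X)) := inferInstance
  exact isAffineHom_diagonal_iff.mp h ⊤ (isAffineOpen_top _) V (by simp) W (by simp) hV hW

theorem subsingleton_HH_of_vanishing_inverse_powers (L L' : X.Modules)
    (hL : CohB1.IsAmple L) (hinv : CohB1.tensorMod L L' ≅ Coh.structureModule X) (n₀ : ℕ)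
    (h : ∀ n : ℕ, n₀ ≤ n → ∀ p : ℕ, 0 < p → Subsingleton (Coh.HH X (CohB1.tensorPow L' n) p))
    (G : X.Modules) (hG : G.IsQuasicoherent) (i : ℕ) (hi : 0 < i) :
    Subsingleton (Coh.HH X G i) := by
  haveI : CompactSpace X := hL.2.1
  haveI : QuasiSeparatedSpace X :=
    Groth.Agent.Lib.Helper23.SecTw.quasiSeparatedSpace_of_isAmple L hL
  haveI : X.IsSeparated := Groth.Agent.Lib.Helper23.SecTw.isSeparated_of_isAmple L hL
  obtain ⟨t, U, hU, hcov⟩ := exists_finite_affine_cover (X := X)
  have hL' : PicF.IsInvertible L' :=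
    Groth.Agent.Lib.Helper2.TensorInv.isInvertible_of_tensor_iso L' L (tensorComm L' L ≪≫ hinv)
  refine vanishing_of_generating t U hU hcov isAffineOpen_inf_of_isSeparated
    (fun P => P.IsQuasicoherent ∧ ∀ p : ℕ, 0 < p → Subsingleton (Coh.HH X P p)) 0
    (fun P hP => hP) ?_ G hG i hi
  intro F hFq hFt
  haveI := hFq
  haveI : SheafOfModules.IsFiniteType (R := X.ringCatSheaf) F := hFt
  obtain ⟨n₁, hn₁⟩ := Groth.Agent.Lib.Helper23.RelRes.exists_epi_freeMod_twist L hL F
  obtain ⟨N, hN0, hN1⟩ : ∃ N, n₀ ≤ N ∧ n₁ ≤ N := ⟨max n₀ n₁, le_max_left _ _, le_max_right _ _⟩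
  obtain ⟨k, p, hp⟩ := hn₁ N hN1
  haveI := hp
  have hD : PicF.IsInvertible (CohB1.tensorPow L' N) :=
    Groth.Agent.Lib.Helper23.SecTw.isInvertible_tensorPow hL' N
  obtain ⟨e1⟩ := Groth.Agent.Lib.Helper23.SecTw.nonempty_tensorPow_tensorMod_iso L L' hL.1 hL' N
  let e : CohB1.tensorMod (CohB1.tensorPow L N) (CohB1.tensorPow L' N) ≅ Coh.structureModule X :=
    e1 ≪≫ Groth.Agent.Lib.Helper23.AmpleIso.tensorPowIso hinv N ≪≫
      Groth.Agent.Lib.Helper23.TensorUnit.tensorPowUnitIso N
  refine ⟨CohB1.tensorMod (FlatMod.freeMod X k) (CohB1.tensorPow L' N),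
    Groth.Agent.Lib.Helper23.ResProp.untwist p e, ⟨?_, ?_⟩,
    Groth.Agent.Lib.Helper23.ResProp.epi_untwist p e⟩
  · haveI : (CohB1.tensorPow L' N).IsQuasicoherent :=
      Groth.Agent.Lib.Helper23.SecTw.isQuasicoherent_of_isInvertible _ hD
    haveI : (FlatMod.freeMod X k).IsQuasicoherent :=
      Groth.Agent.Lib.Helper21.HZB.isQuasicoherent_of_isFinLocFree _
        (Groth.Agent.Lib.Helper23.ResProp.isFinLocFree_freeMod X k)
    exact Groth.Agent.Lib.Helper23.TensorQCoh.isQuasicoherent_tensorMod _ _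
  · intro q hq
    refine subsingleton_HH_map_sigma (fun _ : Fin k => Coh.structureModule X)
      (tw (CohB1.tensorPow L' N)) q (fun _ => ?_)
    exact subsingleton_HH_of_iso
      (Groth.Agent.Lib.Helper23.TensorUnit.unitTensorIso (CohB1.tensorPow L' N)) q
      (h N hN0 q hq)

/-- **Affineness criterion**: an ample `L` whose inverse has acyclic large powers forces `X` to be
affine. -/
theorem isAffine_of_vanishing_inverse_powers (L L' : X.Modules)
    (hL : CohB1.IsAmple L) (hinv : CohB1.tensorMod L L' ≅ Coh.structureModule X) (n₀ : ℕ)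
    (h : ∀ n : ℕ, n₀ ≤ n → ∀ p : ℕ, 0 < p → Subsingleton (Coh.HH X (CohB1.tensorPow L' n) p)) :
    IsAffine X := by
  haveI : CompactSpace X := hL.2.1
  haveI : QuasiSeparatedSpace X :=
    Groth.Agent.Lib.Helper23.SecTw.quasiSeparatedSpace_of_isAmple L hL
  apply Groth.Agent.S0014.result X
  intro I i _ hIq _
  exact subsingleton_HH_of_vanishing_inverse_powers L L' hL hinv n₀ h I hIq 1 Nat.one_pos

end Groth.Agent.Lib.Helper27AffineCrit
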