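import Groth.Agent.Lib.Helper27ARCohA
import Groth.Agent.Lib.Helper23ModLocal
import Groth.Agent.Lib.Helper23FinType2
import Groth.Agent.Lib.Helper20StalkExact
import Groth.Agent.Lib.Helper27AffineCrit
import Mathlib.CategoryTheory.Subobject.NoetherianObject

/-!
# Coherent modules on a Noetherian scheme are Noetherian objects (helper27)

* `isIso_of_bijective_app_cover`: a morphism of quasi-coherent modules bijective on sections over
  an affine open cover is an isomorphism;
* `isNoetherianObject_cohCat`: every object of `CohCat X` (`X` Noetherian) is a Noetherian object.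
-/

set_option autoImplicit false
universe u
open CategoryTheory CategoryTheory.Limits AlgebraicGeometry Opposite TopologicalSpace

namespace Groth.Agent.Lib.Helper27ARCohB

open Groth.Agent.Lib.Helper27ARCohA Groth.Agent.Lib.Helper23.ModLocal

variable {X : Scheme.{u}}

theorem bijective_app_of_eq {M N : X.Modules} (φ : M ⟶ N) {A B : X.Opens} (h : A = B)
    (hb : Function.Bijective (φ.app B)) : Function.Bijective (φ.app A) := by
  subst h; exact hb

/-- a morphism of quasi-coherent modules which is bijective on sections over the members of an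
affine open cover is an isomorphism. -/
theorem isIso_of_bijective_app_cover {M N : X.Modules} [M.IsQuasicoherent] [N.IsQuasicoherent]
    (φ : M ⟶ N) {ι : Type*} (V : ι → X.Opens) (hV : IsOpenCover V) (hVa : ∀ i, IsAffineOpen (V i))
    (h : ∀ i, Function.Bijective (φ.app (V i))) : IsIso φ := by
  refine isIso_of_bijective_ΓU φ V hV hVa fun i => ?_
  have h1 : (hVa i).fromSpec ''ᵁ ⊤ = V i :=
    (Scheme.Hom.image_top_eq_opensRange _).trans (hVa i).opensRange_fromSpec
  exact bijective_app_of_eq φ h1 (h i)

/-- the image of the sections over `U` of a subobject. -/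
noncomputable def secRange [IsLocallyNoetherian X] (M : CohCat X) (S : Subobject M)
    (U : X.Opens) : Submodule Γ(X, U) Γ(M.obj, U) where
  carrier := Set.range (S.arrow.hom.app U)
  add_mem' := by
    rintro _ _ ⟨a, rfl⟩ ⟨b, rfl⟩
    exact ⟨a + b, map_add _ _ _⟩
  zero_mem' := ⟨0, map_zero _⟩
  smul_mem' := by
    rintro r _ ⟨a, rfl⟩
    exact ⟨r • a, Scheme.Modules.Hom.app_smul _ _ _⟩

theorem mem_secRange [IsLocallyNoetherian X] (M : CohCat X) (S : Subobject M) (U : X.Opens)
    (x : Γ(M.obj, U)) : x ∈ secRange M S U ↔ ∃ y, S.arrow.hom.app U y = x := Iff.rfl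

theorem secRange_mono [IsLocallyNoetherian X] (M : CohCat X) {S S' : Subobject M} (h : S ≤ S')
    (U : X.Opens) : secRange M S U ≤ secRange M S' U := by
  rintro x hx
  obtain ⟨y, rfl⟩ := (mem_secRange M S U x).1 hx
  refine (mem_secRange M S' U _).2 ⟨(Subobject.ofLE S S' h).hom.app U y, ?_⟩
  have e : (Subobject.ofLE S S' h) ≫ S'.arrow = S.arrow := Subobject.ofLE_arrow h
  have e' : (Subobject.ofLE S S' h).hom ≫ S'.arrow.hom = S.arrow.hom :=
    congrArg (fun t => t.hom) e
  rw [← e']
  rfl

theorem mono_hom_of_mono [IsLocallyNoetherian X] {M N : CohCat X} (f : M ⟶ N) [Mono f] :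
    Mono f.hom := by
  haveI := (cohP X).preservesMonomorphisms_ι_of_isNormalEpiCategory
  exact (inferInstance : Mono ((cohP X).ι.map f))

theorem isNoetherianObject_cohCat [IsNoetherian X] (M : CohCat X) : IsNoetherianObject M := by
  rw [isNoetherianObject_iff_monotone_chain_condition]
  intro f
  obtain ⟨t, U, hU, hcov⟩ := Groth.Agent.Lib.Helper27AffineCrit.exists_finite_affine_cover (X := X)
  -- the sections over each `U i` form a Noetherian module
  have hN : ∀ i, IsNoetherian Γ(X, U i) Γ(M.obj, U i) := fun i => by
    haveI : IsNoetherianRing Γ(X, U i) := IsLocallyNoetherian.component_noetherian ⟨U i, hU i⟩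
    haveI : M.obj.IsQuasicoherent := M.property.1
    haveI : SheafOfModules.IsFiniteType (R := X.ringCatSheaf) M.obj := M.property.2
    haveI : Module.Finite Γ(X, U i) Γ(M.obj, U i) :=
      Groth.Agent.Lib.Helper23.FinType.finite_of_isFiniteType M.obj (hU i)
    exact isNoetherian_of_isNoetherianRing_of_finite _ _
  have hst : ∀ i, ∃ n, ∀ m, n ≤ m → secRange M (f n) (U i) = secRange M (f m) (U i) := fun i => by
    haveI := hN i
    let g : ℕ →o Submodule Γ(X, U i) Γ(M.obj, U i) :=
      ⟨fun k => secRange M (f k) (U i), fun a b hab => secRange_mono M (f.monotone hab) (U i)⟩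
    exact (monotone_stabilizes_iff_noetherian.2 inferInstance) g
  choose n hn using hst
  refine ⟨Finset.univ.sup n, fun m hm => ?_⟩
  have hle : f (Finset.univ.sup n) ≤ f m := f.monotone hm
  -- the inclusion is an isomorphism
  set j := Subobject.ofLE _ _ hle with hj
  have hjm : Mono j := inferInstance
  haveI : Mono j.hom := mono_hom_of_mono j
  haveI : ((f (Finset.univ.sup n) : CohCat X)).obj.IsQuasicoherent :=
    ((f (Finset.univ.sup n) : CohCat X)).property.1
  haveI : ((f m : CohCat X)).obj.IsQuasicoherent := ((f m : CohCat X)).property.1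
  have hiso : IsIso j.hom := by
    refine isIso_of_bijective_app_cover j.hom U
      hcov hU fun i => ⟨?_, ?_⟩
    · exact Groth.Agent.Lib.Helper20.StalkExact.injective_app_of_mono j.hom (U i)
    · intro y
      have h1 : secRange M (f (n i)) (U i) = secRange M (f (Finset.univ.sup n)) (U i) :=
        hn i _ (Finset.le_sup (Finset.mem_univ i))
      have h2 : secRange M (f (n i)) (U i) = secRange M (f m) (U i) :=
        hn i _ ((Finset.le_sup (Finset.mem_univ i)).trans hm)
      have hy : (f m).arrow.hom.app (U i) y ∈ secRange M (f (Finset.univ.sup n)) (U i) := by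
        rw [← h1, h2]; exact (mem_secRange M (f m) (U i) _).2 ⟨y, rfl⟩
      obtain ⟨z, hz⟩ := (mem_secRange M _ (U i) _).1 hy
      refine ⟨z, ?_⟩
      haveI : Mono (f m).arrow.hom := mono_hom_of_mono _
      apply Groth.Agent.Lib.Helper20.StalkExact.injective_app_of_mono (f m).arrow.hom (U i)
      have e : j ≫ (f m).arrow = (f (Finset.univ.sup n)).arrow := Subobject.ofLE_arrow hle
      have e' : j.hom ≫ (f m).arrow.hom = (f (Finset.univ.sup n)).arrow.hom :=
        congrArg (fun t => t.hom) e
      rw [← hz, ← e']
      rfl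
  haveI : IsIso j := by
    have : IsIso ((cohP X).ι.map j) := hiso
    exact isIso_of_fully_faithful (cohP X).ι j
  exact le_antisymm hle (Subobject.le_of_comm (inv j) (by
    rw [IsIso.inv_comp_eq]; exact (Subobject.ofLE_arrow hle).symm))

end Groth.Agent.Lib.Helper27ARCohB
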