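import Groth.Agent.Lib.Helper27ARCohB
import Groth.Agent.Lib.Helper17IAdic
import Groth.Agent.Lib.Helper17FlatDev1
import Groth.Agent.Lib.Helper17ARSys27
import Groth.Prelude.Def_KLin
import Groth.Prelude.Def_Formal2

/-!
# Coherent formal modules as adic Noetherian systems of coherent modules (helper27)

Dictionary between `Formal.IsCohFormal I G` (`G : ℕᵒᵖ ⥤ X.Modules`) and helper17's
`ARSys.IsAdicNoeth I Y` for `Y : ℕᵒᵖ ⥤ CohCat X`, the category `CohCat X` of coherent modules being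
`A`-linear through `KLin.linearOver`.
-/

set_option autoImplicit false
universe u
open CategoryTheory CategoryTheory.Limits AlgebraicGeometry Opposite

namespace Groth.Agent.Lib.Helper27ARCohC

open Groth.Agent.Lib.Helper27ARCohA Groth.Agent.Lib.Helper27ARCohB
  Groth.Agent.Lib.Helper17.FlatDev Groth.Agent.Lib.Helper17.ARSys1

variable {A : Type u} [CommRing A] {X : Scheme.{u}} [X.Over (Spec (CommRingCat.of A))]

section Basic
variable [IsLocallyNoetherian X]

theorem smul_hom {M N : CohCat X} (a : A) (f : M ⟶ N) : (a • f).hom = a • f.hom := rfl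

theorem smul_id_hom (M : CohCat X) (a : A) : (a • 𝟙 M).hom = Formal.smulMod A M.obj a := by
  rw [smul_hom]
  exact KLin.smul_id M.obj a

theorem hom_ext' {M N : CohCat X} {f g : M ⟶ N} (h : f.hom = g.hom) : f = g := by
  ext : 1
  exact h

theorem killedBy_iff (J : Ideal A) (M : CohCat X) :
    ARSys.KilledBy J M ↔ Formal.KilledBy J M.obj := by
  constructor
  · intro h a ha
    have := congrArg (fun t => t.hom) (h a ha)
    rw [← smul_id_hom]
    exact this
  · intro h a ha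
    apply hom_ext'
    rw [smul_id_hom]
    exact h a ha

theorem homKilledBy_iff (J : Ideal A) {M N : CohCat X} (φ : M ⟶ N) :
    ARSys.HomKilledBy J φ ↔ Formal.smulFamily J M.obj ≫ φ.hom = 0 := by
  constructor
  · intro h
    apply Sigma.hom_ext
    intro b
    rw [comp_zero, ← Category.assoc, ι_smulFamily]
    have := congrArg (fun t => t.hom) (h b.1 b.2)
    exact this
  · intro h a ha
    apply hom_ext'
    show Formal.smulMod A M.obj a ≫ φ.hom = 0
    rw [← ι_smulFamily J M.obj ⟨a, ha⟩, Category.assoc, h, comp_zero]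

/-- a morphism of coherent modules inducing an isomorphism from `M / J M` is a quotient map modulo
`J` in the sense of `ARSys.IsQuot`. -/
theorem isQuot_of_isIso_desc (J : Ideal A) {M N : CohCat X} (p : M ⟶ N)
    (h : Formal.smulFamily J M.obj ≫ p.hom = 0) (hiso : IsIso (cokernel.desc _ p.hom h)) :
    ARSys.IsQuot J p := by
  have hp : πQ J M.obj ≫ cokernel.desc _ p.hom h = p.hom := cokernel.π_desc _ _ _
  haveI : Epi p.hom := by rw [← hp]; infer_instance
  refine ⟨(killedBy_iff J N).2 fun a ha => ?_, fun Y φ hφ => ?_⟩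
  · rw [← cancel_epi p.hom, comp_zero]
    calc p.hom ≫ Formal.smulMod A N.obj a = Formal.smulMod A M.obj a ≫ p.hom :=
          Groth.Agent.Lib.Helper17.IAdic.comp_smulMod _ _
      _ = Formal.smulMod A M.obj a ≫ πQ J M.obj ≫ cokernel.desc _ p.hom h := by rw [hp]
      _ = 0 := by rw [← Category.assoc, smulMod_πQ J M.obj a ha, zero_comp]
  · have h0 := (homKilledBy_iff J φ).1 hφ
    have hd : p.hom ≫ inv (cokernel.desc _ p.hom h) = πQ J M.obj := by
      rw [IsIso.comp_inv_eq]; exact hp.symm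
    refine ⟨(cohP X).homMk (inv (cokernel.desc _ p.hom h) ≫ cokernel.desc _ φ.hom h0), ?_, ?_⟩
    · apply hom_ext'
      show p.hom ≫ inv (cokernel.desc _ p.hom h) ≫ cokernel.desc _ φ.hom h0 = φ.hom
      rw [← Category.assoc, hd, cokernel.π_desc]
    · intro ψ hψ
      apply hom_ext'
      have := congrArg (fun t => t.hom) hψ
      rw [← cancel_epi p.hom]
      show p.hom ≫ ψ.hom = p.hom ≫ inv (cokernel.desc _ p.hom h) ≫ cokernel.desc _ φ.hom h0
      rw [← Category.assoc p.hom, hd, cokernel.π_desc]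
      exact this

/-- the quotient `M / J M` as a coherent module. -/
noncomputable def QC (J : Ideal A) (M : CohCat X) : CohCat X :=
  ⟨Q J M.obj, Groth.Agent.Lib.Helper17.IAdic.isCoh_quot J M.obj M.property⟩

/-- the projection onto `M / J M`. -/
noncomputable def πQC (J : Ideal A) (M : CohCat X) : M ⟶ QC J M := (cohP X).homMk (πQ J M.obj)

theorem isQuot_πQC (J : Ideal A) (M : CohCat X) : ARSys.IsQuot J (πQC J M) := by
  have h : Formal.smulFamily J M.obj ≫ (πQC J M).hom = 0 := cokernel.condition _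
  refine isQuot_of_isIso_desc J _ h ?_
  have : cokernel.desc _ (πQC J M).hom h = 𝟙 _ := by
    apply coequalizer.hom_ext
    rw [cokernel.π_desc]
    exact (Category.comp_id _).symm
  rw [this]
  exact IsIso.id _

/-- conversely a quotient map modulo `J` induces an isomorphism from `M / J M`. -/
theorem isIso_desc_of_isQuot (J : Ideal A) {M N : CohCat X} (p : M ⟶ N) (hp : ARSys.IsQuot J p) :
    ∃ h : Formal.smulFamily J M.obj ≫ p.hom = 0, IsIso (cokernel.desc _ p.hom h) := by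
  have hpk : ARSys.HomKilledBy J p := fun a ha => by
    have := hp.1 a ha
    calc a • p = p ≫ (a • 𝟙 N) := by rw [Linear.comp_smul, Category.comp_id]
      _ = 0 := by rw [this, comp_zero]
  have h := (homKilledBy_iff J p).1 hpk
  refine ⟨h, ?_⟩
  have hπk : ARSys.HomKilledBy J (πQC J M) := fun a ha => by
    have := (isQuot_πQC J M).1 a ha
    calc a • πQC J M = πQC J M ≫ (a • 𝟙 _) := by rw [Linear.comp_smul, Category.comp_id]
      _ = 0 := by rw [this, comp_zero]
  obtain ⟨ψ, hψ, -⟩ := hp.2 _ (πQC J M) hπk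
  obtain ⟨ψ', hψ', -⟩ := (isQuot_πQC J M).2 _ p hpk
  have e1 : ψ ≫ ψ' = 𝟙 N := by
    obtain ⟨x, -, hx⟩ := hp.2 _ p hpk
    rw [hx (ψ ≫ ψ') (by show p ≫ ψ ≫ ψ' = p; rw [← Category.assoc, hψ, hψ']),
      hx (𝟙 N) (Category.comp_id _)]
  have e2 : ψ' ≫ ψ = 𝟙 _ := by
    obtain ⟨x, -, hx⟩ := (isQuot_πQC J M).2 _ (πQC J M) hπk
    rw [hx (ψ' ≫ ψ) (by show πQC J M ≫ ψ' ≫ ψ = πQC J M; rw [← Category.assoc, hψ', hψ]),
      hx (𝟙 _) (Category.comp_id _)]
  have e3 : cokernel.desc _ p.hom h = ψ'.hom := by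
    apply coequalizer.hom_ext
    rw [cokernel.π_desc]
    exact (congrArg (fun t => t.hom) hψ').symm
  rw [e3]
  exact ⟨ψ.hom, congrArg (fun t => t.hom) e2, congrArg (fun t => t.hom) e1⟩

/-- composition of quotient maps. -/
theorem isQuot_comp {J₁ J₂ : Ideal A} (h : J₁ ≤ J₂) {M N P : CohCat X} (p : M ⟶ N) (q : N ⟶ P)
    (hp : ARSys.IsQuot J₁ p) (hq : ARSys.IsQuot J₂ q) : ARSys.IsQuot J₂ (p ≫ q) := by
  refine ⟨hq.1, fun Y φ hφ => ?_⟩
  have hφ1 : ARSys.HomKilledBy J₁ φ := fun a ha => hφ a (h ha)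
  obtain ⟨φ', hφ', hu'⟩ := hp.2 Y φ hφ1
  have hφ'k : ARSys.HomKilledBy J₂ φ' := fun a ha => by
    obtain ⟨x, -, hx⟩ := hp.2 Y (0 : M ⟶ Y) (fun b _ => smul_zero b)
    rw [hx (a • φ') (by show p ≫ (a • φ') = 0; rw [Linear.comp_smul, hφ', hφ a ha]),
      hx 0 comp_zero]
  obtain ⟨φ'', hφ'', hu''⟩ := hq.2 Y φ' hφ'k
  refine ⟨φ'', by show (p ≫ q) ≫ φ'' = φ; rw [Category.assoc, hφ'', hφ'], fun ψ hψ => ?_⟩
  apply hu''
  apply hu'
  rw [← Category.assoc]
  exact hψ

theorem isQuot_id (J : Ideal A) (M : CohCat X) (hM : ARSys.KilledBy J M) :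
    ARSys.IsQuot J (𝟙 M) :=
  ⟨hM, fun Y φ _ => ⟨φ, Category.id_comp _, fun ψ hψ => by rw [← hψ, Category.id_comp]⟩⟩

end Basic

section Systems
variable [IsLocallyNoetherian X]

/-- a system of coherent modules as a system in `CohCat X`. -/
noncomputable def liftSys (G : ℕᵒᵖ ⥤ X.Modules) (hG : ∀ n : ℕ, Coh.IsCoh (G.obj (op n))) :
    ℕᵒᵖ ⥤ CohCat X :=
  (cohP X).lift G (fun n => hG n.unop)

theorem liftSys_comp_ι (G : ℕᵒᵖ ⥤ X.Modules) (hG : ∀ n : ℕ, Coh.IsCoh (G.obj (op n))) :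
    liftSys G hG ⋙ (cohP X).ι = G := rfl

theorem isAdic_of_succ (I : Ideal A) (Y : ℕᵒᵖ ⥤ CohCat X) (hk : ARSys.TermKilled I Y)
    (h : ∀ n : ℕ, ARSys.IsQuot (I ^ (n + 1)) (ARSys.tr Y (Nat.le_succ n))) : ARSys.IsAdic I Y := by
  refine ⟨hk, ?_⟩
  intro n m hnm
  obtain ⟨d, rfl⟩ := Nat.exists_eq_add_of_le hnm
  induction d with
  | zero =>
    have : ARSys.tr Y hnm = 𝟙 _ := tr_self Y n hnm
    rw [this]
    exact isQuot_id _ _ (hk n)
  | succ d ih =>
    have h1 : ARSys.tr Y hnm = ARSys.tr Y (Nat.le_succ (n + d)) ≫ ARSys.tr Y (Nat.le_add_right n d) :=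
      (tr_comp Y (Nat.le_add_right n d) (Nat.le_succ (n + d))).symm
    rw [h1]
    exact isQuot_comp (Ideal.pow_le_pow_right (by omega)) _ _ (h (n + d)) (ih (Nat.le_add_right n d))

theorem isAdicNoeth_liftSys [CompactSpace X] (I : Ideal A) (G : ℕᵒᵖ ⥤ X.Modules)
    (hG : Formal.IsCohFormal I G) : ARSys.IsAdicNoeth I (liftSys G hG.1) := by
  haveI : IsNoetherian X := { }
  refine ⟨isAdic_of_succ I _ (fun n => (killedBy_iff _ _).2 (hG.2.1 n)) fun n => ?_,
    fun n => isNoetherianObject_cohCat _⟩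
  obtain ⟨h, hiso⟩ := hG.2.2 n
  exact isQuot_of_isIso_desc (I ^ (n + 1))
    ((liftSys G hG.1).map (homOfLE (Nat.le_succ n)).op) h hiso

theorem isCohFormal_of_isAdic (I : Ideal A) (Y : ℕᵒᵖ ⥤ CohCat X) (hY : ARSys.IsAdic I Y) :
    Formal.IsCohFormal I (Y ⋙ (cohP X).ι) :=
  ⟨fun n => (Y.obj (op n)).property, fun n => (killedBy_iff _ _).1 (hY.1 n), fun n =>
    isIso_desc_of_isQuot (I ^ (n + 1)) (Y.map (homOfLE (Nat.le_succ n)).op) (hY.2 n (n + 1) (Nat.le_succ n))⟩

end Systems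

end Groth.Agent.Lib.Helper27ARCohC
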