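import Groth.Agent.Lib.Helper17ARSys27

/-! Criteria for monomorphisms, epimorphisms and exactness in helper17's abelian category of adic
Noetherian systems, and torsion objects there (helper27). -/
set_option autoImplicit false
set_option backward.isDefEq.respectTransparency false
set_option backward.isDefEq.respectTransparency.types false
universe w v u
open CategoryTheory CategoryTheory.Limits Opposite

namespace Groth.Agent.Lib.Helper27ARCohD

open Groth.Agent.Lib.Helper17.ARSys1 Groth.Agent.Lib.Helper17.ARSys10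
  Groth.Agent.Lib.Helper17.ARSys11 Groth.Agent.Lib.Helper17.ARSys13
  Groth.Agent.Lib.Helper17.ARSys22 Groth.Agent.Lib.Helper17.ARSys23
  Groth.Agent.Lib.Helper17.ARSys24

variable {C : Type u} [Category.{v} C] [Abelian C] {A : Type w} [CommRing A] [Linear A C]
  [IsNoetherianRing A] (J : Ideal A)

attribute [local instance] Groth.Agent.Lib.Helper17.ARSys26.abelian

theorem hom_ext {X Y : Dcat C J} {f g : X ⟶ Y} (h : f.hom = g.hom) : f = g := by
  ext : 1
  exact h

theorem comp_hom {X Y Z : Dcat C J} (f : X ⟶ Y) (g : Y ⟶ Z) : (f ≫ g).hom = f.hom ≫ g.hom := rfl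

theorem zero_hom {X Y : Dcat C J} : (0 : X ⟶ Y).hom = 0 := rfl

/-- an adic system which is null up to translation has zero identity. -/
theorem id_eq_zero_of_isARNull (K : Dcat C J) (hK : ARSys.IsARNull K.obj) : 𝟙 K.obj = 0 :=
  eq_zero_of_strict_of_null K.obj (isStrict_of_isAdic J _ K.property.1) hK (𝟙 _)

/-- a morphism of adic Noetherian systems whose levelwise kernel is null up to translation is a
monomorphism. -/
theorem mono_of_isARNull_kernel {X Y : Dcat C J} (f : X ⟶ Y)
    (h : ARSys.IsARNull (kernel f.hom)) : Mono f := by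
  obtain ⟨K, k, w, ⟨hk⟩, hκ⟩ := exists_kernel J f
  set κ := kernel.lift f.hom k.hom (hom_comp_eq_zero J k f w) with hκdef
  have hK : ARSys.IsARNull K.obj := by
    let S : ShortComplex (ARSys.PS C) := ShortComplex.mk (kernel.ι κ) κ (kernel.condition κ)
    have hS : S.Exact := S.exact_of_f_is_kernel (kernelIsKernel κ)
    exact (arNull (C := C)).prop_X₂_of_exact hS hκ.1 h
  have hk0 : k = 0 := by
    apply hom_ext
    calc k.hom = 𝟙 _ ≫ k.hom := (Category.id_comp _).symm
      _ = 0 := by rw [id_eq_zero_of_isARNull J K hK, zero_comp]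
  apply Preadditive.mono_of_cancel_zero
  intro W g hg
  obtain ⟨l, hl⟩ := KernelFork.IsLimit.lift' hk g hg
  have hl' : l ≫ k = g := hl
  calc g = l ≫ k := hl'.symm
    _ = l ≫ 0 := congrArg (fun x => l ≫ x) hk0
    _ = 0 := comp_zero

/-- levelwise epimorphisms are epimorphisms. -/
theorem epi_of_epi_hom {X Y : Dcat C J} (f : X ⟶ Y) [Epi f.hom] : Epi f :=
  (PAN (C := C) J).ι.epi_of_epi_map (inferInstanceAs (Epi f.hom))

theorem epi_hom_of_epi {X Y : Dcat C J} (f : X ⟶ Y) [Epi f] : Epi f.hom :=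
  epi_hom_of_isColimit J (kernel.ι f) f (kernel.condition f)
    (Abelian.epiIsCokernelOfKernel (KernelFork.ofι (kernel.ι f) (kernel.condition f))
      (kernelIsKernel f))

/-- exactness criterion: a short complex of adic Noetherian systems is exact as soon as it is
exact as a complex of projective systems. -/
theorem exact_of_epi_kernelLift (S : ShortComplex (Dcat C J))
    (h : Epi (kernel.lift S.g.hom S.f.hom (hom_comp_eq_zero J S.f S.g S.zero))) : S.Exact := by
  rw [S.exact_iff_epi_kernel_lift]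
  set l := kernel.lift S.g S.f S.zero with hl
  have hlk : l ≫ kernel.ι S.g = S.f := kernel.lift_ι _ _ _
  have hκ := isARIso_kernelLift J S.g (kernel.ι S.g) (kernel.condition S.g) (kernelIsKernel S.g)
  set κ := kernel.lift S.g.hom (kernel.ι S.g).hom
    (hom_comp_eq_zero J (kernel.ι S.g) S.g (kernel.condition S.g)) with hκdef
  have hκι : κ ≫ kernel.ι S.g.hom = (kernel.ι S.g).hom := kernel.lift_ι _ _ _
  have hlκ : l.hom ≫ κ = kernel.lift S.g.hom S.f.hom (hom_comp_eq_zero J S.f S.g S.zero) := by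
    rw [← cancel_mono (kernel.ι S.g.hom), Category.assoc, hκι, kernel.lift_ι, ← comp_hom, hlk]
  haveI : Epi (l.hom ≫ κ) := by rw [hlκ]; exact h
  haveI : Epi κ := epi_of_epi l.hom κ
  -- the cokernel of `l.hom` is null up to translation
  set W := cokernel l.hom with hW
  have hWadic : ARSys.IsAdicNoeth J W :=
    isAdicNoeth_cokernel J l.hom S.X₁.property (kernel S.g).property
  have hj : Epi (kernel.ι κ ≫ cokernel.π l.hom) := by
    apply Preadditive.epi_of_cancel_zero
    intro T g hg
    have h1 : kernel.ι κ ≫ (cokernel.π l.hom ≫ g) = 0 := by rw [← Category.assoc]; exact hg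
    have h2 : κ ≫ Abelian.epiDesc κ (cokernel.π l.hom ≫ g) h1 = cokernel.π l.hom ≫ g :=
      Abelian.comp_epiDesc _ _ _
    have h3 : (l.hom ≫ κ) ≫ Abelian.epiDesc κ (cokernel.π l.hom ≫ g) h1 = 0 := by
      rw [Category.assoc, h2, cokernel.condition_assoc, zero_comp]
    have h4 : Abelian.epiDesc κ (cokernel.π l.hom ≫ g) h1 = 0 :=
      (cancel_epi (l.hom ≫ κ)).1 (h3.trans comp_zero.symm)
    rw [h4, comp_zero] at h2
    exact (cancel_epi (cokernel.π l.hom)).1 (h2.symm.trans comp_zero.symm)
  have hWnull : ARSys.IsARNull W := isARNull_of_epi (kernel.ι κ ≫ cokernel.π l.hom) hκ.1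
  have hπ0 : cokernel.π l.hom = 0 :=
    eq_zero_of_strict_of_null W (isStrict_of_isAdic J _ hWadic.1) hWnull _
  haveI : Epi l.hom := Abelian.epi_of_cokernel_π_eq_zero _ hπ0
  exact epi_of_epi_hom J l

/-- the endomorphism `a • 𝟙` of a projective system. -/
def smulEnd (a : A) (X : ARSys.PS C) : X ⟶ X where
  app n := a • 𝟙 (X.obj n)
  naturality n m f := by
    rw [Linear.comp_smul, Linear.smul_comp, Category.comp_id, Category.id_comp]

/-- a subobject (in the category of adic Noetherian systems) whose inclusion is levelwise killed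
by `a` is levelwise killed by `a`. -/
theorem smul_id_eq_zero_of_mono {N F : Dcat C J} (ι : N ⟶ F) [Mono ι] (a : A)
    (h : ∀ n : ℕ, a • ι.hom.app (op n) = 0) (n : ℕ) : a • 𝟙 (N.obj.obj (op n)) = 0 := by
  let g : N ⟶ N := ObjectProperty.homMk (smulEnd a N.obj)
  have hg : g ≫ ι = 0 := by
    apply hom_ext
    ext ⟨m⟩
    show (a • 𝟙 (N.obj.obj (op m))) ≫ ι.hom.app (op m) = 0
    rw [Linear.smul_comp, Category.id_comp]
    exact h m
  have hg0 : g = 0 := (cancel_mono ι).1 (hg.trans zero_comp.symm)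
  have := congrArg (fun t => t.hom.app (op n)) hg0
  exact this

/-- a levelwise `J^{t+1}`-torsion adic system is essentially constant from level `t` on. -/
theorem isIso_tr_of_killed (N : ARSys.PS C) (hN : ARSys.IsAdic J N) (t : ℕ)
    (hk : ∀ n : ℕ, ARSys.KilledBy (J ^ (t + 1)) (N.obj (op n))) {n m : ℕ} (hn : t ≤ n)
    (h : n ≤ m) : IsIso (ARSys.tr N h) := by
  have hq := hN.2 n m h
  haveI : Epi (ARSys.tr N h) := isStrict_of_isAdic J N hN n m h
  obtain ⟨s, hs, -⟩ := hq.2 _ (𝟙 (N.obj (op m))) (fun a ha =>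
    hk m a (Ideal.pow_le_pow_right (by omega) ha))
  haveI : IsSplitMono (ARSys.tr N h) := ⟨⟨⟨s, hs⟩⟩⟩
  exact isIso_of_epi_of_isSplitMono _

/-- a monomorphism out of a torsion adic system is levelwise a monomorphism from some level on. -/
theorem exists_mono_app_of_mono {N F : Dcat C J} (ι : N ⟶ F) [Mono ι] (t : ℕ)
    (hk : ∀ n : ℕ, ARSys.KilledBy (J ^ (t + 1)) (N.obj.obj (op n))) :
    ∃ L₀ : ℕ, ∀ n : ℕ, L₀ ≤ n → Mono (ι.hom.app (op n)) := by
  obtain ⟨r, hr⟩ := isARNull_kernel_of_mono J ι
  refine ⟨t + r, fun n hn => ?_⟩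
  obtain ⟨n', rfl⟩ : ∃ n', n = n' + r := ⟨n - r, by omega⟩
  have ht : t ≤ n' := by omega
  -- the kernel at level `n' + r`
  set ki := (kernel.ι ι.hom).app (op (n' + r)) with hki
  haveI : Mono ki := by
    haveI : Mono (kernel.ι ι.hom) := inferInstance
    exact inferInstance
  have h1 : ki ≫ ARSys.tr N.obj (Nat.le_add_right n' r) = 0 := by
    have := tr_nat (kernel.ι ι.hom) (Nat.le_add_right n' r)
    rw [← this]
    have h0 : ARSys.tr (kernel ι.hom) (Nat.le_add_right n' r) = 0 := hr n'
    rw [h0, zero_comp]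
  haveI := isIso_tr_of_killed J N.obj N.property.1 t hk ht (Nat.le_add_right n' r)
  have h2 : ki = 0 := by
    rw [← cancel_mono (ARSys.tr N.obj (Nat.le_add_right n' r)), h1, zero_comp]
  -- the kernel at level `n' + r` is the kernel of the component
  have hlim := KernelFork.mapIsLimit _ (kernelIsKernel ι.hom)
    ((evaluation ℕᵒᵖ C).obj (op (n' + r)))
  apply Preadditive.mono_of_cancel_zero
  intro T g hg
  obtain ⟨l, hl⟩ := KernelFork.IsLimit.lift' hlim g hg
  have hl' : l ≫ ki = g := hl
  rw [← hl', h2, comp_zero]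

end Groth.Agent.Lib.Helper27ARCohD
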