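import Mathlib

/-!
# Koszul matrices by cone recursion (helper27)

For a commutative ring `S` and a sequence `x : ℕ → S`, the Koszul ("wedge") complex of
`x 0, …, x (m-1)` as block matrices, built by the recursion `K(m+1) = K(m) ⊗ (S --x_m--> S)`:
`D' = [[D, 0], [x_m, -D]]`, together with the contracting homotopies `H_l` with
`D H_l + H_l D = x_l`. Everything is sign-free block matrix algebra.

Output (for the graded pieces, reindexed by `Fin (choose m i)`):
`DF x m i`, `HF x l m i`, `DF_mul_DF`, `cartan_zero`, `cartan_succ`, `DF_mem`, `HF_mem`.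
-/

set_option autoImplicit false
open Matrix

namespace Groth.Agent.Lib.Helper27KoszMat

variable {S : Type*} [CommRing S]

/-- a graded square matrix datum. -/
structure KD (S : Type*) [CommRing S] where
  T : Type
  fin : Fintype T
  dec : DecidableEq T
  deg : T → ℕ
  D : Matrix T T S

attribute [instance] KD.fin KD.dec

namespace KD

/-- base: one generator in degree `0`, zero differential. -/
def base : KD S := ⟨Unit, inferInstance, inferInstance, fun _ => 0, 0⟩

/-- cone step. -/
def step (K : KD S) (y : S) : KD S :=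
  ⟨K.T ⊕ K.T, inferInstance, inferInstance, Sum.elim K.deg (fun w => K.deg w + 1),
    fromBlocks K.D 0 (y • (1 : Matrix K.T K.T S)) (-K.D)⟩

/-- the homotopy of an old variable after a cone step. -/
def stepH (K : KD S) (y : S) (H : Matrix K.T K.T S) : Matrix (K.step y).T (K.step y).T S :=
  (fromBlocks H 0 0 (-H) : Matrix (K.T ⊕ K.T) (K.T ⊕ K.T) S)

/-- the homotopy of the new variable after a cone step. -/
def newH (K : KD S) (y : S) : Matrix (K.step y).T (K.step y).T S :=
  (fromBlocks 0 1 0 0 : Matrix (K.T ⊕ K.T) (K.T ⊕ K.T) S)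

section Blocks

variable {n : Type*} [Fintype n] [DecidableEq n]

theorem blk_D_mul (D : Matrix n n S) (y : S) (h : D * D = 0) :
    fromBlocks D 0 (y • (1 : Matrix n n S)) (-D) * fromBlocks D 0 (y • (1 : Matrix n n S)) (-D) =
      0 := by
  rw [fromBlocks_multiply]
  simp only [h, Matrix.zero_mul, Matrix.mul_zero, add_zero, zero_add, Matrix.smul_mul,
    Matrix.one_mul, Matrix.neg_mul, Matrix.mul_smul, Matrix.mul_one, Matrix.mul_neg, neg_neg,
    add_neg_cancel, neg_zero, smul_zero, smul_neg, fromBlocks_zero]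

theorem blk_cartan_old (D H : Matrix n n S) (y c : S)
    (h : D * H + H * D = c • (1 : Matrix n n S)) :
    fromBlocks D 0 (y • (1 : Matrix n n S)) (-D) * fromBlocks H 0 0 (-H) +
      fromBlocks H 0 0 (-H) * fromBlocks D 0 (y • (1 : Matrix n n S)) (-D) =
      c • (1 : Matrix (n ⊕ n) (n ⊕ n) S) := by
  rw [fromBlocks_multiply, fromBlocks_multiply, fromBlocks_add, ← fromBlocks_one, fromBlocks_smul]
  simp only [Matrix.zero_mul, Matrix.mul_zero, add_zero, zero_add, Matrix.smul_mul,
    Matrix.one_mul, Matrix.neg_mul, Matrix.mul_smul, Matrix.mul_one, Matrix.mul_neg, neg_neg,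
    add_neg_cancel, smul_zero, smul_neg, h]

theorem blk_cartan_new (D : Matrix n n S) (y : S) :
    fromBlocks D 0 (y • (1 : Matrix n n S)) (-D) *
        (fromBlocks 0 1 0 0 : Matrix (n ⊕ n) (n ⊕ n) S) +
      (fromBlocks 0 1 0 0 : Matrix (n ⊕ n) (n ⊕ n) S) *
        fromBlocks D 0 (y • (1 : Matrix n n S)) (-D) =
      y • (1 : Matrix (n ⊕ n) (n ⊕ n) S) := by
  rw [fromBlocks_multiply, fromBlocks_multiply, fromBlocks_add, ← fromBlocks_one, fromBlocks_smul]
  simp only [Matrix.zero_mul, Matrix.mul_zero, add_zero, zero_add, Matrix.smul_mul,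
    Matrix.one_mul, Matrix.neg_mul, Matrix.mul_smul, Matrix.mul_one, Matrix.mul_neg, neg_neg,
    add_neg_cancel, smul_zero, smul_neg]

end Blocks

theorem step_D_mul (K : KD S) (y : S) (h : K.D * K.D = 0) : (K.step y).D * (K.step y).D = 0 :=
  blk_D_mul K.D y h

theorem step_cartan_old (K : KD S) (y c : S) (H : Matrix K.T K.T S)
    (h : K.D * H + H * K.D = c • (1 : Matrix K.T K.T S)) :
    (K.step y).D * K.stepH y H + K.stepH y H * (K.step y).D =
      c • (1 : Matrix (K.step y).T (K.step y).T S) :=
  blk_cartan_old K.D H y c h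

theorem step_cartan_new (K : KD S) (y : S) :
    (K.step y).D * K.newH y + K.newH y * (K.step y).D =
      y • (1 : Matrix (K.step y).T (K.step y).T S) :=
  blk_cartan_new K.D y

/-- the iterated cone. -/
def iter (x : ℕ → S) : ℕ → KD S
  | 0 => base
  | m + 1 => (iter x m).step (x m)

theorem iter_D_mul (x : ℕ → S) : ∀ m, (iter x m).D * (iter x m).D = 0
  | 0 => by
    have h : (iter x 0).D = 0 := rfl
    rw [h, Matrix.zero_mul]
  | m + 1 => step_D_mul _ _ (iter_D_mul x m)

/-- the homotopy for the variable `x l` on `iter x m` (meaningful for `l < m`). -/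
def iterH (x : ℕ → S) (l : ℕ) : ∀ m, Matrix (iter x m).T (iter x m).T S
  | 0 => 0
  | m + 1 => if m = l then (iter x m).newH (x m) else (iter x m).stepH (x m) (iterH x l m)

theorem iter_cartan (x : ℕ → S) (l : ℕ) : ∀ m, l < m →
    (iter x m).D * iterH x l m + iterH x l m * (iter x m).D =
      x l • (1 : Matrix (iter x m).T (iter x m).T S)
  | 0, h => absurd h (Nat.not_lt_zero l)
  | m + 1, h => by
    by_cases hml : m = l
    · have e : iterH x l (m + 1) = (iter x m).newH (x m) := if_pos hml
      rw [e, ← hml]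
      exact step_cartan_new _ _
    · have e : iterH x l (m + 1) = (iter x m).stepH (x m) (iterH x l m) := if_neg hml
      rw [e]
      exact step_cartan_old _ _ _ _ (iter_cartan x l m (by omega))

/-! ### degrees -/

/-- `A` raises the degree by one. -/
def Raises (K : KD S) (A : Matrix K.T K.T S) : Prop :=
  ∀ b a, A b a ≠ 0 → K.deg b = K.deg a + 1

/-- `A` lowers the degree by one. -/
def Lowers (K : KD S) (A : Matrix K.T K.T S) : Prop :=
  ∀ b a, A b a ≠ 0 → K.deg a = K.deg b + 1

theorem step_raises (K : KD S) (y : S) (h : K.Raises K.D) : (K.step y).Raises (K.step y).D := by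
  rintro (b | b) (a | a) hba
  · exact h b a hba
  · exact absurd rfl hba
  · change (y • (1 : Matrix K.T K.T S)) b a ≠ 0 at hba
    have : b = a := by
      by_contra hne
      apply hba
      rw [Matrix.smul_apply, Matrix.one_apply_ne hne, smul_zero]
    subst this
    rfl
  · change (-K.D) b a ≠ 0 at hba
    rw [Matrix.neg_apply, neg_ne_zero] at hba
    have := h b a hba
    change K.deg b + 1 = K.deg a + 1 + 1
    omega

theorem stepH_lowers (K : KD S) (y : S) (H : Matrix K.T K.T S) (h : K.Lowers H) :
    (K.step y).Lowers (K.stepH y H) := by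
  rintro (b | b) (a | a) hba
  · exact h b a hba
  · exact absurd rfl hba
  · exact absurd rfl hba
  · change (-H) b a ≠ 0 at hba
    rw [Matrix.neg_apply, neg_ne_zero] at hba
    have := h b a hba
    change K.deg a + 1 = K.deg b + 1 + 1
    omega

theorem newH_lowers (K : KD S) (y : S) : (K.step y).Lowers (K.newH y) := by
  rintro (b | b) (a | a) hba
  · exact absurd rfl hba
  · change (1 : Matrix K.T K.T S) b a ≠ 0 at hba
    have : b = a := by
      by_contra hne
      exact hba (Matrix.one_apply_ne hne)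
    subst this
    rfl
  · exact absurd rfl hba
  · exact absurd rfl hba

theorem iter_raises (x : ℕ → S) : ∀ m, (iter x m).Raises (iter x m).D
  | 0 => fun _ _ h => absurd rfl h
  | m + 1 => step_raises _ _ (iter_raises x m)

theorem iterH_lowers (x : ℕ → S) (l : ℕ) : ∀ m, (iter x m).Lowers (iterH x l m)
  | 0 => fun _ _ h => absurd rfl h
  | m + 1 => by
    by_cases hml : m = l
    · have e : iterH x l (m + 1) = (iter x m).newH (x m) := if_pos hml
      rw [e]
      exact newH_lowers _ _
    · have e : iterH x l (m + 1) = (iter x m).stepH (x m) (iterH x l m) := if_neg hml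
      rw [e]
      exact stepH_lowers _ _ _ (iterH_lowers x l m)

/-! ### entries -/

theorem iter_D_mem (x : ℕ → S) (A : AddSubgroup S) (hx : ∀ i, x i ∈ A) :
    ∀ m b a, (iter x m).D b a ∈ A
  | 0, _, _ => A.zero_mem
  | m + 1, b, a => by
    rcases b with b | b <;> rcases a with a | a
    · exact iter_D_mem x A hx m b a
    · exact A.zero_mem
    · change (x m • (1 : Matrix (iter x m).T (iter x m).T S)) b a ∈ A
      rw [Matrix.smul_apply]
      by_cases hba : b = a
      · rw [hba, Matrix.one_apply_eq, smul_eq_mul, mul_one]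
        exact hx m
      · rw [Matrix.one_apply_ne hba, smul_zero]
        exact A.zero_mem
    · change (-(iter x m).D) b a ∈ A
      rw [Matrix.neg_apply]
      exact A.neg_mem (iter_D_mem x A hx m b a)

theorem iterH_mem (x : ℕ → S) (l : ℕ) (A : AddSubgroup S) (h1 : (1 : S) ∈ A) :
    ∀ m b a, iterH x l m b a ∈ A
  | 0, _, _ => A.zero_mem
  | m + 1, b, a => by
    by_cases hml : m = l
    · have e : iterH x l (m + 1) = (iter x m).newH (x m) := if_pos hml
      rw [e]
      rcases b with b | b <;> rcases a with a | a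
      · exact A.zero_mem
      · change (1 : Matrix (iter x m).T (iter x m).T S) b a ∈ A
        by_cases hba : b = a
        · rw [hba, Matrix.one_apply_eq]; exact h1
        · rw [Matrix.one_apply_ne hba]; exact A.zero_mem
      · exact A.zero_mem
      · exact A.zero_mem
    · have e : iterH x l (m + 1) = (iter x m).stepH (x m) (iterH x l m) := if_neg hml
      rw [e]
      rcases b with b | b <;> rcases a with a | a
      · exact iterH_mem x l A h1 m b a
      · exact A.zero_mem
      · exact A.zero_mem
      · change (-(iterH x l m)) b a ∈ A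
        rw [Matrix.neg_apply]
        exact A.neg_mem (iterH_mem x l A h1 m b a)

/-! ### levels -/

/-- the generators of degree `i`. -/
abbrev lvl (K : KD S) (i : ℕ) : Type := {u : K.T // K.deg u = i}

theorem card_lvl_iter (x : ℕ → S) : ∀ m i, Fintype.card ((iter x m).lvl i) = Nat.choose m i
  | 0, 0 => by
    change Fintype.card {u : Unit // (0 : ℕ) = 0} = 1
    rw [Fintype.card_subtype]
    rfl
  | 0, i + 1 => by
    change Fintype.card {u : Unit // (0 : ℕ) = i + 1} = 0
    rw [Fintype.card_eq_zero_iff]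
    exact ⟨fun u => absurd u.2 (by omega)⟩
  | m + 1, 0 => by
    rw [Nat.choose_zero_right]
    have e : ((iter x (m + 1)).lvl 0) ≃ ((iter x m).lvl 0) ⊕
        {w : (iter x m).T // (iter x m).deg w + 1 = 0} := Equiv.subtypeSum
    rw [Fintype.card_congr e, Fintype.card_sum, card_lvl_iter x m 0, Nat.choose_zero_right]
    have : Fintype.card {w : (iter x m).T // (iter x m).deg w + 1 = 0} = 0 := by
      rw [Fintype.card_eq_zero_iff]
      exact ⟨fun u => absurd u.2 (by omega)⟩
    rw [this]
  | m + 1, i + 1 => by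
    have e : ((iter x (m + 1)).lvl (i + 1)) ≃ ((iter x m).lvl (i + 1)) ⊕
        {w : (iter x m).T // (iter x m).deg w + 1 = i + 1} := Equiv.subtypeSum
    have e' : {w : (iter x m).T // (iter x m).deg w + 1 = i + 1} ≃ (iter x m).lvl i :=
      Equiv.subtypeEquivRight (fun w => by omega)
    rw [Fintype.card_congr e, Fintype.card_sum, Fintype.card_congr e', card_lvl_iter x m (i + 1),
      card_lvl_iter x m i, Nat.choose_succ_succ, add_comm]

/-! ### restriction to levels -/

section Levels

variable (K : KD S)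

/-- restriction of a matrix to a pair of levels. -/
def sub (A : Matrix K.T K.T S) (j i : ℕ) : Matrix (K.lvl j) (K.lvl i) S :=
  A.submatrix (fun b => b.1) (fun a => a.1)

theorem sub_mul (A B : Matrix K.T K.T S) (i j k : ℕ)
    (hB : ∀ b a, B b a ≠ 0 → K.deg a = i → K.deg b = j) :
    K.sub (A * B) k i = K.sub A k j * K.sub B j i := by
  ext c a
  simp only [sub, Matrix.submatrix_apply, Matrix.mul_apply]
  rw [← Finset.sum_subtype (Finset.univ.filter (fun b => K.deg b = j)) (by simp)
    (fun b => A c.1 b * B b a.1)]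
  rw [Finset.sum_filter_of_ne]
  intro b _ hb
  exact hB b a.1 (right_ne_zero_of_mul hb) a.2

theorem sub_mul_eq_zero (A B : Matrix K.T K.T S) (i k : ℕ)
    (hB : ∀ b a, B b a ≠ 0 → K.deg a ≠ i) : K.sub (A * B) k i = 0 := by
  ext c a
  simp only [sub, Matrix.submatrix_apply, Matrix.mul_apply, Matrix.zero_apply]
  refine Finset.sum_eq_zero (fun b _ => ?_)
  by_contra hb
  exact hB b a.1 (right_ne_zero_of_mul hb) a.2

theorem sub_add (A B : Matrix K.T K.T S) (j i : ℕ) :
    K.sub (A + B) j i = K.sub A j i + K.sub B j i := rfl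

theorem sub_smul_one (c : S) (i : ℕ) :
    K.sub (c • (1 : Matrix K.T K.T S)) i i = c • (1 : Matrix (K.lvl i) (K.lvl i) S) := by
  ext b a
  simp only [sub, Matrix.submatrix_apply, Matrix.smul_apply, Matrix.one_apply, Subtype.ext_iff]

theorem sub_zero (j i : ℕ) : K.sub (0 : Matrix K.T K.T S) j i = 0 := rfl

end Levels

end KD

open KD

variable (x : ℕ → S)

/-- numbering of the generators of degree `i`. -/
noncomputable def eqv (m i : ℕ) : (iter x m).lvl i ≃ Fin (Nat.choose m i) :=
  Fintype.equivFinOfCardEq (card_lvl_iter x m i)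

/-- the Koszul differential in degree `i`, as a matrix over `Fin`. -/
noncomputable def DF (m i : ℕ) : Matrix (Fin (Nat.choose m (i + 1))) (Fin (Nat.choose m i)) S :=
  ((iter x m).sub (iter x m).D (i + 1) i).submatrix (eqv x m (i + 1)).symm (eqv x m i).symm

/-- the homotopy for the variable `x l`. -/
noncomputable def HF (l m i : ℕ) : Matrix (Fin (Nat.choose m i)) (Fin (Nat.choose m (i + 1))) S :=
  ((iter x m).sub (iterH x l m) i (i + 1)).submatrix (eqv x m i).symm (eqv x m (i + 1)).symm

theorem subm_smul {p q p' q' : Type*} (c : S) (A : Matrix p q S) (e₁ : p' → p) (e₂ : q' → q) :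
    (c • A).submatrix e₁ e₂ = c • A.submatrix e₁ e₂ := rfl

theorem subm_add {p q p' q' : Type*} (A B : Matrix p q S) (e₁ : p' → p) (e₂ : q' → q) :
    (A + B).submatrix e₁ e₂ = A.submatrix e₁ e₂ + B.submatrix e₁ e₂ := rfl

theorem DF_mem (A : AddSubgroup S) (hx : ∀ i, x i ∈ A) (m i : ℕ) (b : Fin (Nat.choose m (i + 1)))
    (a : Fin (Nat.choose m i)) : DF x m i b a ∈ A :=
  iter_D_mem x A hx m _ _

theorem HF_mem (l : ℕ) (A : AddSubgroup S) (h1 : (1 : S) ∈ A) (m i : ℕ)
    (b : Fin (Nat.choose m i)) (a : Fin (Nat.choose m (i + 1))) : HF x l m i b a ∈ A :=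
  iterH_mem x l A h1 m _ _

theorem DF_mul_DF (m i : ℕ) : DF x m (i + 1) * DF x m i = 0 := by
  unfold DF
  rw [Matrix.submatrix_mul_equiv, ← KD.sub_mul, iter_D_mul, KD.sub_zero, Matrix.submatrix_zero]
  · rfl
  · intro b a hba ha
    rw [iter_raises x m b a hba, ha]

theorem cartan_zero (l m : ℕ) (hl : l < m) :
    HF x l m 0 * DF x m 0 = x l • (1 : Matrix (Fin (Nat.choose m 0)) (Fin (Nat.choose m 0)) S) := by
  unfold DF HF
  rw [Matrix.submatrix_mul_equiv, ← KD.sub_mul _ _ _ 0 1 0]
  · have h0 : (iter x m).sub ((iter x m).D * iterH x l m) 0 0 = 0 := by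
      refine KD.sub_mul_eq_zero _ _ _ 0 0 (fun b a hba => ?_)
      rw [iterH_lowers x l m b a hba]
      omega
    have h1 := congrArg (fun A => (iter x m).sub A 0 0) (iter_cartan x l m hl)
    simp only [KD.sub_add, h0, zero_add, KD.sub_smul_one] at h1
    rw [h1, subm_smul, Matrix.submatrix_one_equiv]
  · intro b a hba ha
    rw [iter_raises x m b a hba, ha]

theorem cartan_succ (l m i : ℕ) (hl : l < m) :
    DF x m i * HF x l m i + HF x l m (i + 1) * DF x m (i + 1) =
      x l • (1 : Matrix (Fin (Nat.choose m (i + 1))) (Fin (Nat.choose m (i + 1))) S) := by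
  unfold DF HF
  rw [Matrix.submatrix_mul_equiv, Matrix.submatrix_mul_equiv,
    ← KD.sub_mul _ _ _ (i + 1) i (i + 1), ← KD.sub_mul _ _ _ (i + 1) (i + 1 + 1) (i + 1),
    ← subm_add, ← KD.sub_add, iter_cartan x l m hl, KD.sub_smul_one,
    subm_smul, Matrix.submatrix_one_equiv]
  · intro b a hba ha
    rw [iter_raises x m b a hba, ha]
  · intro b a hba ha
    have := iterH_lowers x l m b a hba
    omega


end Groth.Agent.Lib.Helper27KoszMat
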