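import Groth.Agent.Lib.Helper27KoszHom
import Groth.Agent.Lib.Helper27KoszMat
import Groth.Agent.Lib.Helper27GrTildeQCoh
import Groth.Agent.Lib.Helper23ModLocal
import Groth.Agent.Lib.Helper23QCohAbelian
import Groth.Agent.Lib.Helper20StalkExact

/-!
# The Koszul complex on `P^n_R` (helper27)

* `exact_of_local` : a complex `A ⟶ B ⟶ C` of quasi-coherent modules is exact as soon as, over the
  members of an affine open cover, every section of `B` killed by `g` comes from a section of `A`.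
* `KK i t = ∐_{Fin (choose (n+1) i)} O(t)`, `dd i t t' : KK i t ⟶ KK (i+1) t'` (`t + 1 = t'`) the
  Koszul differential, `dd_comp`, `exact_dd_succ`, `exact_dd_zero`.
-/

set_option autoImplicit false
universe u

open CategoryTheory CategoryTheory.Limits AlgebraicGeometry TopologicalSpace Opposite
  HomogeneousLocalization MvPolynomial

namespace Groth.Agent.Lib.Helper27KoszPn

open Groth.Agent.Lib.Helper27GrTildeSect Groth.Agent.Lib.Helper27ProjGamma
  Groth.Agent.Lib.Helper27PnSections Groth.Agent.Lib.Helper27Laurent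
  Groth.Agent.Lib.Helper27PnLau Groth.Agent.Lib.Helper27PnLauMul
  Groth.Agent.Lib.Helper27PnHom Groth.Agent.Lib.Helper23.SecTw
  Groth.Agent.Lib.Helper27CoprodFin Groth.Agent.Lib.Helper27KoszHom
  Groth.Agent.Lib.Helper27KoszMat

section General

open Groth.Agent.Lib.Helper23.ModLocal Groth.Agent.Lib.Helper23.QCohLocal

variable {X : Scheme.{u}}

theorem surjective_app_of_eq {M N : X.Modules} (φ : M ⟶ N) {A B : X.Opens} (h : A = B)
    (hb : Function.Surjective (φ.app B)) : Function.Surjective (φ.app A) := by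
  subst h; exact hb

theorem epi_of_surjective_app_cover {M N : X.Modules} [M.IsQuasicoherent] [N.IsQuasicoherent]
    (φ : M ⟶ N) {ι : Type*} (V : ι → X.Opens) (hV : IsOpenCover V) (hVa : ∀ i, IsAffineOpen (V i))
    (h : ∀ i, Function.Surjective (φ.app (V i))) : Epi φ := by
  refine epi_of_surjective_ΓU φ V hV hVa fun i => ?_
  have h1 : (hVa i).fromSpec ''ᵁ ⊤ = V i :=
    (Scheme.Hom.image_top_eq_opensRange _).trans (hVa i).opensRange_fromSpec
  exact surjective_app_of_eq φ h1 (h i)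

/-- local criterion for exactness of a complex of quasi-coherent modules. -/
theorem exact_of_local {A B C : X.Modules} [A.IsQuasicoherent] [B.IsQuasicoherent]
    [C.IsQuasicoherent] (f : A ⟶ B) (g : B ⟶ C) (w : f ≫ g = 0) {ι : Type*} (V : ι → X.Opens)
    (hV : IsOpenCover V) (hVa : ∀ i, IsAffineOpen (V i))
    (h : ∀ i (s : Γ(B, V i)), g.app (V i) s = 0 → ∃ u : Γ(A, V i), f.app (V i) u = s) :
    (ShortComplex.mk f g w).Exact := by
  rw [ShortComplex.exact_iff_epi_kernel_lift]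
  haveI : (kernel g).IsQuasicoherent := isQuasicoherent_kernel g
  refine epi_of_surjective_app_cover _ V hV hVa (fun i t => ?_)
  obtain ⟨u, hu⟩ := h i ((kernel.ι g).app (V i) t)
    (congrArg (fun φ => Scheme.Modules.Hom.app φ (V i) t) (kernel.condition g))
  refine ⟨u, ?_⟩
  apply Groth.Agent.Lib.Helper20.StalkExact.injective_app_of_mono (kernel.ι g) (V i)
  exact (congrArg (fun φ => Scheme.Modules.Hom.app φ (V i) u) (kernel.lift_ι g f w)).trans hu

end General

variable (n : ℕ) (R : Type u) [CommRing R]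

local notation "𝒢" => CohB1.polyGrading n R
local notation "σ'" => Fin (n + 1)

/-- the variables, as a sequence. -/
noncomputable def xs : ℕ → MvPolynomial σ' R :=
  fun j => if h : j < n + 1 then X ⟨j, h⟩ else 0

theorem xs_val (l : σ') : xs n R l.1 = X l := by
  unfold xs
  rw [dif_pos l.2]

theorem xs_mem (j : ℕ) : xs n R j ∈ (𝒢 1).toAddSubgroup := by
  unfold xs
  split_ifs with h
  · exact X_mem _
  · exact Submodule.zero_mem _

theorem one_mem0 : (1 : MvPolynomial σ' R) ∈ (𝒢 0).toAddSubgroup :=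
  SetLike.GradedOne.one_mem (A := 𝒢)

/-- `∐_{Fin (choose (n+1) i)} O(t)`. -/
noncomputable abbrev KK (i : ℕ) (t : ℤ) : (Proj 𝒢).Modules :=
  ∐ fun _ : Fin (Nat.choose (n + 1) i) => OO n R t

instance isQuasicoherent_KK (i : ℕ) (t : ℤ) : (KK n R i t).IsQuasicoherent :=
  isQuasicoherent_sigma _ (fun _ => isQuasicoherent_tilde 𝒢 𝒢 t)

/-- the Koszul differential. -/
noncomputable def dd (i : ℕ) (t t' : ℤ) (h : t + ((1 : ℕ) : ℤ) = t') : KK n R i t ⟶ KK n R (i + 1) t' :=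
  matHom (DF (xs n R) (n + 1) i) 1 (fun b a => DF_mem (xs n R) _ (xs_mem n R) (n + 1) i b a) t t' h

/-- the homotopy for the variable `X_l`. -/
noncomputable def hh (l : ℕ) (i : ℕ) (t t' : ℤ) (h : t + ((0 : ℕ) : ℤ) = t') :
    KK n R (i + 1) t ⟶ KK n R i t' :=
  matHom (HF (xs n R) l (n + 1) i) 0
    (fun b a => HF_mem (xs n R) l _ (one_mem0 n R) (n + 1) i b a) t t' h

/-- multiplication by `X_l` on `KK i`. -/
noncomputable def xx (l : σ') (i : ℕ) (t t' : ℤ) (h : t + ((1 : ℕ) : ℤ) = t') :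
    KK n R i t ⟶ KK n R i t' :=
  Limits.Sigma.map (fun _ : Fin (Nat.choose (n + 1) i) => mulF 1 h (X l) (X_mem l))

theorem bijective_xx (l : σ') (i : ℕ) (t t' : ℤ) (h : t + ((1 : ℕ) : ℤ) = t') :
    Function.Bijective ((xx n R l i t t' h).app (Ui n R l)) :=
  bijective_sigmaMap_app _ _ (fun _ => bijective_mulF_X h l)

theorem smul_one_mem (l : σ') (p : ℕ) (b a : Fin p) :
    ((X l : MvPolynomial σ' R) • (1 : Matrix (Fin p) (Fin p) (MvPolynomial σ' R))) b a ∈ 𝒢 1 := by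
  rw [Matrix.smul_apply]
  by_cases hba : b = a
  · rw [hba, Matrix.one_apply_eq, smul_eq_mul, mul_one]
    exact X_mem l
  · rw [Matrix.one_apply_ne hba, smul_zero]
    exact Submodule.zero_mem _

theorem xx_eq (l : σ') (i : ℕ) (t t' : ℤ) (h : t + ((1 : ℕ) : ℤ) = t') :
    xx n R l i t t' h = matHom ((X l : MvPolynomial σ' R) •
      (1 : Matrix (Fin (Nat.choose (n + 1) i)) (Fin (Nat.choose (n + 1) i)) (MvPolynomial σ' R))) 1
      (smul_one_mem n R l _) t t' h :=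
  (matHom_smul_one (X l) 1 (X_mem l) t t' h _).symm

theorem matHom_congr_k {p q : ℕ} (M : Matrix (Fin q) (Fin p) (MvPolynomial σ' R)) {k k' : ℕ}
    (hk : k = k') (hM : ∀ b a, M b a ∈ 𝒢 k) (hM' : ∀ b a, M b a ∈ 𝒢 k') (t t' : ℤ)
    (h : t + (k : ℤ) = t') (h' : t + (k' : ℤ) = t') :
    matHom M k hM t t' h = matHom M k' hM' t t' h' := by
  subst hk
  rfl

theorem dd_comp (i : ℕ) (t t' t'' : ℤ) (h : t + ((1 : ℕ) : ℤ) = t')
    (h' : t' + ((1 : ℕ) : ℤ) = t'') :
    dd n R i t t' h ≫ dd n R (i + 1) t' t'' h' = 0 := by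
  unfold dd
  have hmem : ∀ c a, (DF (xs n R) (n + 1) (i + 1) * DF (xs n R) (n + 1) i) c a ∈ 𝒢 (1 + 1) := by
    intro c a
    rw [DF_mul_DF]
    exact Submodule.zero_mem _
  rw [matHom_comp _ _ 1 1 _ _ t t' t'' h h' (by rw [← h', ← h]; push_cast; ring) hmem,
    matHom_congr (DF_mul_DF (xs n R) (n + 1) i) _ _ (fun _ _ => Submodule.zero_mem _)]
  exact matHom_zero _ _ _ _ _

theorem xx_dd (l : σ') (i : ℕ) (t t₁ t₂ t' : ℤ) (h₁ : t + ((1 : ℕ) : ℤ) = t₁)
    (h₁' : t₁ + ((1 : ℕ) : ℤ) = t') (h₂ : t + ((1 : ℕ) : ℤ) = t₂)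
    (h₂' : t₂ + ((1 : ℕ) : ℤ) = t') :
    xx n R l i t t₁ h₁ ≫ dd n R i t₁ t' h₁' = dd n R i t t₂ h₂ ≫ xx n R l (i + 1) t₂ t' h₂' := by
  rw [xx_eq, xx_eq]
  unfold dd
  have h'' : t + ((1 + 1 : ℕ) : ℤ) = t' := by rw [← h₁', ← h₁]; push_cast; ring
  have e : DF (xs n R) (n + 1) i * ((X l : MvPolynomial σ' R) •
      (1 : Matrix (Fin (Nat.choose (n + 1) i)) (Fin (Nat.choose (n + 1) i)) (MvPolynomial σ' R))) =
      ((X l : MvPolynomial σ' R) • (1 : Matrix (Fin (Nat.choose (n + 1) (i + 1)))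
        (Fin (Nat.choose (n + 1) (i + 1))) (MvPolynomial σ' R))) * DF (xs n R) (n + 1) i := by
    rw [Matrix.mul_smul, Matrix.mul_one, Matrix.smul_mul, Matrix.one_mul]
  have hmem : ∀ c a, (DF (xs n R) (n + 1) i * ((X l : MvPolynomial σ' R) •
      (1 : Matrix (Fin (Nat.choose (n + 1) i)) (Fin (Nat.choose (n + 1) i))
        (MvPolynomial σ' R)))) c a ∈ 𝒢 (1 + 1) := by
    intro c a
    rw [Matrix.mul_smul, Matrix.mul_one, Matrix.smul_apply, smul_eq_mul]
    exact SetLike.mul_mem_graded (X_mem l) (DF_mem (xs n R) _ (xs_mem n R) (n + 1) i c a)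
  rw [matHom_comp _ _ 1 1 _ _ t t₁ t' h₁ h₁' h'' hmem,
    matHom_comp _ _ 1 1 _ _ t t₂ t' h₂ h₂' h'' (fun c a => by rw [← e]; exact hmem c a)]
  exact matHom_congr e _ _ _ _ _ _

theorem xs_smul_one (l : σ') (p : ℕ) :
    (xs n R l.1 • (1 : Matrix (Fin p) (Fin p) (MvPolynomial σ' R))) =
      (X l : MvPolynomial σ' R) • (1 : Matrix (Fin p) (Fin p) (MvPolynomial σ' R)) := by
  rw [xs_val]

theorem cartan_succ_hom (l : σ') (i : ℕ) (t t' : ℤ) (h : t + ((1 : ℕ) : ℤ) = t') :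
    hh n R l.1 i t t (by simp) ≫ dd n R i t t' h +
      dd n R (i + 1) t t' h ≫ hh n R l.1 (i + 1) t' t' (by simp) =
      xx n R l (i + 1) t t' h := by
  rw [xx_eq]
  unfold dd hh
  have hc := cartan_succ (xs n R) l.1 (n + 1) i l.2
  rw [xs_smul_one] at hc
  have hm1 : ∀ c a, (DF (xs n R) (n + 1) i * HF (xs n R) l.1 (n + 1) i) c a ∈ 𝒢 (0 + 1) := by
    intro c a
    rw [Matrix.mul_apply]
    refine Submodule.sum_mem _ (fun b _ => ?_)
    rw [mul_comm]
    exact SetLike.mul_mem_graded (HF_mem (xs n R) l.1 _ (one_mem0 n R) (n + 1) i b a)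
      (DF_mem (xs n R) _ (xs_mem n R) (n + 1) i c b)
  have hm2 : ∀ c a, (HF (xs n R) l.1 (n + 1) (i + 1) * DF (xs n R) (n + 1) (i + 1)) c a ∈
      𝒢 (1 + 0) := by
    intro c a
    rw [Matrix.mul_apply]
    refine Submodule.sum_mem _ (fun b _ => ?_)
    rw [mul_comm]
    exact SetLike.mul_mem_graded (DF_mem (xs n R) _ (xs_mem n R) (n + 1) (i + 1) b a)
      (HF_mem (xs n R) l.1 _ (one_mem0 n R) (n + 1) (i + 1) c b)
  rw [matHom_comp _ _ 0 1 _ _ t t t' (by simp) h (by subst h; norm_num) hm1,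
    matHom_comp _ _ 1 0 _ _ t t' t' h (by simp) (by subst h; norm_num) hm2,
    matHom_congr_k n R _ (zero_add 1) hm1 (fun c a => hm1 c a) t t' _ h,
    matHom_congr_k n R _ (add_zero 1) hm2 (fun c a => hm2 c a) t t' _ h,
    ← matHom_add _ _ 1 _ _ t t' h (fun c a => by rw [hc]; exact smul_one_mem n R l _ c a)]
  exact matHom_congr hc _ _ _ _ _ _

theorem cartan_zero_hom (l : σ') (t t' : ℤ) (h : t + ((1 : ℕ) : ℤ) = t') :
    dd n R 0 t t' h ≫ hh n R l.1 0 t' t' (by simp) = xx n R l 0 t t' h := by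
  rw [xx_eq]
  unfold dd hh
  have hc := cartan_zero (xs n R) l.1 (n + 1) l.2
  rw [xs_smul_one] at hc
  have hm2 : ∀ c a, (HF (xs n R) l.1 (n + 1) 0 * DF (xs n R) (n + 1) 0) c a ∈ 𝒢 (1 + 0) := by
    intro c a
    rw [Matrix.mul_apply]
    refine Submodule.sum_mem _ (fun b _ => ?_)
    rw [mul_comm]
    exact SetLike.mul_mem_graded (DF_mem (xs n R) _ (xs_mem n R) (n + 1) 0 b a)
      (HF_mem (xs n R) l.1 _ (one_mem0 n R) (n + 1) 0 c b)
  rw [matHom_comp _ _ 1 0 _ _ t t' t' h (by simp) (by subst h; norm_num) hm2,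
    matHom_congr_k n R _ (add_zero 1) hm2 (fun c a => hm2 c a) t t' _ h]
  exact matHom_congr hc _ _ _ _ _ _

theorem isOpenCover_Ui : IsOpenCover (fun l : σ' => Ui n R l) := by
  refine IsOpenCover.mk (eq_top_iff.mpr ?_)
  intro y _
  obtain ⟨l, hl⟩ := cover_Ui n R y
  exact Opens.mem_iSup.mpr ⟨l, hl⟩

theorem isAffineOpen_Ui (l : σ') : IsAffineOpen (Ui n R l) :=
  Proj.isAffineOpen_basicOpen 𝒢 (X l) (X_mem l) (Nat.one_pos)

theorem exact_dd_succ (i : ℕ) (t t' t'' : ℤ) (h : t + ((1 : ℕ) : ℤ) = t')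
    (h' : t' + ((1 : ℕ) : ℤ) = t'') :
    (ShortComplex.mk (dd n R i t t' h) (dd n R (i + 1) t' t'' h') (dd_comp n R i t t' t'' h h')).Exact := by
  refine exact_of_local _ _ _ (fun l : σ' => Ui n R l) (isOpenCover_Ui n R) (isAffineOpen_Ui n R)
    (fun l s hs => ?_)
  -- divide `s` by `X_l`
  obtain ⟨s', hs'⟩ := (bijective_xx n R l (i + 1) t t' h).2 s
  -- `d s' = 0`
  have hds' : (dd n R (i + 1) t t' h).app (Ui n R l) s' = 0 := by
    apply (bijective_xx n R l (i + 1 + 1) t' t'' h').1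
    have e := congrArg (fun φ => Scheme.Modules.Hom.app φ (Ui n R l) s')
      (xx_dd n R l (i + 1) t t' t' t'' h h' h h')
    change (dd n R (i + 1) t' t'' h').app (Ui n R l) ((xx n R l (i + 1) t t' h).app (Ui n R l) s') =
      (xx n R l (i + 1 + 1) t' t'' h').app (Ui n R l) ((dd n R (i + 1) t t' h).app (Ui n R l) s') at e
    rw [← e, hs', hs, map_zero]
  refine ⟨(hh n R l.1 i t t (by simp)).app (Ui n R l) s', ?_⟩
  have e := congrArg (fun φ => Scheme.Modules.Hom.app φ (Ui n R l) s') (cartan_succ_hom n R l i t t' h)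
  change (dd n R i t t' h).app (Ui n R l) ((hh n R l.1 i t t (by simp)).app (Ui n R l) s') +
    (hh n R l.1 (i + 1) t' t' (by simp)).app (Ui n R l) ((dd n R (i + 1) t t' h).app (Ui n R l) s') =
    (xx n R l (i + 1) t t' h).app (Ui n R l) s' at e
  rw [hds', map_zero, add_zero, hs'] at e
  exact e

theorem exact_dd_zero (t t' : ℤ) (h : t + ((1 : ℕ) : ℤ) = t') :
    (ShortComplex.mk (0 : KK n R 0 t ⟶ KK n R 0 t) (dd n R 0 t t' h) zero_comp).Exact := by
  refine exact_of_local _ _ _ (fun l : σ' => Ui n R l) (isOpenCover_Ui n R) (isAffineOpen_Ui n R)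
    (fun l s hs => ?_)
  refine ⟨0, ?_⟩
  have e := congrArg (fun φ => Scheme.Modules.Hom.app φ (Ui n R l) s) (cartan_zero_hom n R l t t' h)
  change (hh n R l.1 0 t' t' (by simp)).app (Ui n R l) ((dd n R 0 t t' h).app (Ui n R l) s) =
    (xx n R l 0 t t' h).app (Ui n R l) s at e
  rw [hs, map_zero] at e
  have : s = 0 := (bijective_xx n R l 0 t t' h).1 (e.symm.trans (map_zero _).symm)
  rw [this]
  rfl

end Groth.Agent.Lib.Helper27KoszPn
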