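import Mathlib
import Groth.Prelude.Def_Curv2
import Groth.Agent.Lib.LeadPicFF2
import Groth.Agent.Lib.Helper23CounitEpi

/-!
# Global generation descends along faithfully flat base change (lead)

`isGloballyGenerated_pullback_iff`: cartesian square `X' = X ×_S S'`, `S`, `S'` affine, `g : S' ⟶ S`
flat and surjective, `X` qcqs, `F` quasi-coherent ⟹ (`F` globally generated ⟺ `g'^* F` globally generated).
-/

set_option autoImplicit false
set_option linter.style.haveILetI false
universe u
open CategoryTheory CategoryTheory.Limits AlgebraicGeometry Opposite TopologicalSpace TensorProduct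

namespace Groth.Agent.Lib.LeadPicFF

open Scheme.Modules Groth.Agent.Helper13PullbackUnit Groth.Agent.Helper13QcqsBC
  Groth.Agent.Helper13FlatMV Groth.Agent.Lib.Helper23.GenLocus Groth.Agent.Lib.Helper23.SecTw
  Groth.Agent.Lib.Helper23.PB Groth.Agent.Lib.Helper6

/-- the free module, as an object of `X.Modules` -/
noncomputable abbrev freeM (X : Scheme.{u}) (I : Type u) : X.Modules :=
  SheafOfModules.free (R := X.ringCatSheaf) I

set_option backward.isDefEq.respectTransparency.types false in
/-- pullback of a free module is free. -/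
noncomputable def pullbackFreeIso' {X Y : Scheme.{u}} (f : X ⟶ Y) (I : Type u) :
    (Scheme.Modules.pullback f).obj (SheafOfModules.free (R := Y.ringCatSheaf) I) ≅
      SheafOfModules.free (R := X.ringCatSheaf) I :=
  SheafOfModules.pullbackObjFreeIso.{u} f.toRingCatSheafHom I

theorem isGloballyGenerated_pullback {X Y : Scheme.{u}} (f : X ⟶ Y) (F : Y.Modules)
    (h : Curv2.IsGloballyGenerated F) :
    Curv2.IsGloballyGenerated ((Scheme.Modules.pullback f).obj F) := by
  obtain ⟨I, p, hp⟩ := h
  let p' : freeM Y I ⟶ F := p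
  haveI : Epi p' := hp
  haveI : (Scheme.Modules.pullback f).PreservesEpimorphisms :=
    Functor.preservesEpimorphisms_of_adjunction (Scheme.Modules.pullbackPushforwardAdjunction f)
  haveI : Epi ((Scheme.Modules.pullback f).map p') := (Scheme.Modules.pullback f).map_epi p'
  let q : freeM X I ⟶ (Scheme.Modules.pullback f).obj F :=
    (pullbackFreeIso' f I).inv ≫ (Scheme.Modules.pullback f).map p'
  have hq : Epi q := epi_comp _ _
  exact ⟨I, q, hq⟩

section core
variable {X S X' S' : Scheme.{u}} (f : X ⟶ S) (g : S' ⟶ S) (g' : X' ⟶ X) (f' : X' ⟶ S')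
  (h : IsPullback g' f' f g)

/-- the inclusions of the free module, as morphisms of `X.Modules` -/
noncomputable def ιF (X : Scheme.{u}) {I : Type u} (i : I) : Coh.structureModule X ⟶ freeM X I :=
  SheafOfModules.ιFree i

/-- the canonical map from the free module on all global sections -/
noncomputable def allSec (F : X.Modules) : freeM X Γ(F, ⊤) ⟶ F :=
  (SheafOfModules.freeHomEquiv F).symm (fun m : Γ(F, ⊤) => SheafOfModules.unitHomEquiv F (secHom F m))

theorem ιF_allSec (F : X.Modules) (m : Γ(F, ⊤)) : ιF X m ≫ allSec F = secHom F m := by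
  have h1 := SheafOfModules.unitHomEquiv_symm_freeHomEquiv_apply (allSec F) m
  unfold allSec at h1
  rw [Equiv.apply_symm_apply, Equiv.symm_apply_apply] at h1
  exact h1.symm

theorem secHom_app_top (F : X.Modules) (m : Γ(F, ⊤)) : (secHom F m).app ⊤ (toS ⊤ 1) = m := by
  rw [app_toS, one_smul, sv_secHom]
  exact Groth.Agent.Helper13QcqsBC.res_self F m

include h in
theorem isGloballyGenerated_of_pullback [IsAffine S] [IsAffine S'] [Flat g] [Surjective g]
    [CompactSpace X] [QuasiSeparatedSpace X] (F : X.Modules) [F.IsQuasicoherent]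
    (hgg : Curv2.IsGloballyGenerated ((Scheme.Modules.pullback g').obj F)) :
    Curv2.IsGloballyGenerated F := by
  refine ⟨Γ(F, ⊤), allSec F, ?_⟩
  haveI : Flat g' := MorphismProperty.of_isPullback (P := @Flat) h.flip inferInstance
  haveI : Surjective g' := MorphismProperty.of_isPullback (P := @Surjective) h.flip inferInstance
  refine Groth.Agent.Lib.Helper26.FpqcMod.epi_of_family (fun _ : PUnit.{1} => g')
    (fun y => ⟨PUnit.unit, Surjective.surj y⟩) (allSec F) (fun _ => ?_)
  letI alg : Algebra Γ(S, ⊤) Γ(S', ⊤) := (g.appLE ⊤ ⊤ (hle_top g)).hom.toAlgebra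
  have hK := kbij_top f g g' f' h F
  let V : X'.Opens := Vp g' f' ⊤ ⊤
  have hV1 : V ≤ g' ⁻¹ᵁ ⊤ := inf_le_left
  have hV2 : V ≤ f' ⁻¹ᵁ ⊤ := inf_le_right
  have hVtop : V = ⊤ := top_le_iff.1 (fun x _ => ⟨trivial, trivial⟩)
  constructor
  intro Q φ ψ hφψ
  apply Groth.Agent.Lib.Helper23.CounitEpi.eq_of_isGloballyGenerated hgg
  -- agreement on pulled back sections
  have hunit : ∀ m : Γ(F, ⊤), φ.app V (unitSec g' F hV1 m) = ψ.app V (unitSec g' F hV1 m) := by
    intro m
    let em : Γ(freeM X Γ(F, ⊤), ⊤) := (ιF X m).app ⊤ (toS ⊤ 1)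
    have h1 : (allSec F).app ⊤ em = m := by
      show (allSec F).app ⊤ ((ιF X m).app ⊤ (toS ⊤ 1)) = m
      rw [← ConcreteCategory.comp_apply, ← Scheme.Modules.Hom.comp_app, ιF_allSec, secHom_app_top]
    have h2 := map_unitSec g' (allSec F) hV1 em
    rw [h1] at h2
    rw [← h2, ← ConcreteCategory.comp_apply, ← ConcreteCategory.comp_apply,
      ← Scheme.Modules.Hom.comp_app, ← Scheme.Modules.Hom.comp_app, hφψ]
  have hall : ∀ x : Γ((Scheme.Modules.pullback g').obj F, V), φ.app V x = ψ.app V x := by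
    let Φ : SecR f' ((Scheme.Modules.pullback g').obj F) ⊤ V hV2 →+ Γ(Q, V) := (φ.app V).hom
    let Ψ : SecR f' ((Scheme.Modules.pullback g').obj F) ⊤ V hV2 →+ Γ(Q, V) := (ψ.app V).hom
    have key : ∀ t : Γ(S', ⊤) ⊗[Γ(S, ⊤)] SecR f F ⊤ ⊤ (hW_top f),
        Φ (kap (R := Γ(S, ⊤)) (R' := Γ(S', ⊤)) (uW f g' f' F (hW_top f) hV1 hV2)
          (uW_smul f g g' f' h F (hle_top g) (hW_top f) hV1 hV2) t) =
        Ψ (kap (R := Γ(S, ⊤)) (R' := Γ(S', ⊤)) (uW f g' f' F (hW_top f) hV1 hV2)
          (uW_smul f g g' f' h F (hle_top g) (hW_top f) hV1 hV2) t) := by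
      intro t
      induction t using TensorProduct.induction_on with
      | zero => simp only [_root_.map_zero]
      | tmul b m =>
        rw [kap_tmul]
        show φ.app V ((f'.appLE ⊤ V hV2 b : Γ(X', V)) • unitSec g' F hV1 m) =
          ψ.app V ((f'.appLE ⊤ V hV2 b : Γ(X', V)) • unitSec g' F hV1 m)
        rw [Scheme.Modules.Hom.app_smul, Scheme.Modules.Hom.app_smul, hunit]
      | add t t' ht ht' =>
        simp only [_root_.map_add, ht, ht']
    intro x
    obtain ⟨t, ht⟩ := hK.2 x
    rw [← ht]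
    exact key t
  have h2 : ∀ W : X'.Opens, W = V → φ.app W = ψ.app W := by
    rintro W rfl
    ext x
    exact hall x
  exact h2 ⊤ hVtop.symm

include h in
theorem isGloballyGenerated_pullback_iff [IsAffine S] [IsAffine S'] [Flat g] [Surjective g]
    [CompactSpace X] [QuasiSeparatedSpace X] (F : X.Modules) [F.IsQuasicoherent] :
    Curv2.IsGloballyGenerated F ↔ Curv2.IsGloballyGenerated ((Scheme.Modules.pullback g').obj F) :=
  ⟨isGloballyGenerated_pullback g' F, isGloballyGenerated_of_pullback f g g' f' h F⟩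

end core

end Groth.Agent.Lib.LeadPicFF
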