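import Mathlib
import Groth.Agent.S0017
import Groth.Agent.S10869
import Groth.Agent.Lib.Helper23FinTypeLocal
import Groth.Agent.Lib.Helper27KoszPn
import Groth.Agent.Lib.Helper23QCohLocal
import Groth.Agent.Lib.LeadPicFF4

/-!
# Helper27: direct images along affine morphisms and global generation.

* `epi_push_of_isAffineHom` : `h_*` preserves epimorphisms of quasi-coherent modules (`h` affine).
* `gg_push` : in a cartesian square with affine base `W` and `g : W' ⟶ W` affine, the direct image
  along `h : X' ⟶ X` of a globally generated quasi-coherent module is globally generated.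
-/

set_option autoImplicit false
universe u
open CategoryTheory CategoryTheory.Limits AlgebraicGeometry TopologicalSpace Opposite

namespace Groth.Agent.Lib.Helper27AffTwistA

/-- direct image along an affine morphism preserves epimorphisms of quasi-coherent modules. -/
theorem epi_push_of_isAffineHom {X Y : Scheme.{u}} (h : X ⟶ Y) [IsAffineHom h] {A B : X.Modules}
    [A.IsQuasicoherent] [B.IsQuasicoherent] (φ : A ⟶ B) [Epi φ] :
    Epi ((Scheme.Modules.pushforward h).map φ) := by
  haveI : ((Scheme.Modules.pushforward h).obj A).IsQuasicoherent :=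
    Groth.Agent.Lib.Helper23.QCohLocal.isQuasicoherent_pushforward h A
  haveI : ((Scheme.Modules.pushforward h).obj B).IsQuasicoherent :=
    Groth.Agent.Lib.Helper23.QCohLocal.isQuasicoherent_pushforward h B
  refine Groth.Agent.Lib.Helper27KoszPn.epi_of_surjective_app_cover _
    (fun V : Y.affineOpens => (V : Y.Opens)) ?_ (fun V => V.2) (fun V => ?_)
  · exact iSup_affineOpens_eq_top Y
  · exact Groth.Agent.Lib.Helper23.FinType.surjective_app_of_epi φ
      (U := h ⁻¹ᵁ V.1) (V.2.preimage h)

/-- the direct image of a globally generated quasi-coherent module along the affine projection of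
a cartesian square over an affine base is globally generated. -/
theorem gg_push {X W X' W' : Scheme.{u}} (f : X ⟶ W) (g : W' ⟶ W) (h : X' ⟶ X) (q : X' ⟶ W')
    (sq : IsPullback h q f g) [IsAffine W] [IsAffineHom g] (𝒢 : X'.Modules) [𝒢.IsQuasicoherent]
    (hgg : Curv2.IsGloballyGenerated 𝒢) :
    Curv2.IsGloballyGenerated ((Scheme.Modules.pushforward h).obj 𝒢) := by
  obtain ⟨I, p0, hp⟩ := hgg
  let p : Groth.Agent.Lib.LeadPicFF.freeM X' I ⟶ 𝒢 := p0
  haveI : Epi p := hp
  haveI : IsAffineHom h := MorphismProperty.of_isPullback (P := @IsAffineHom) sq.flip inferInstance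
  -- the free module on `W'`
  let 𝒦 : W'.Modules := Groth.Agent.Lib.LeadPicFF.freeM W' I
  haveI : 𝒦.IsQuasicoherent := by
    change (SheafOfModules.free (R := W'.ringCatSheaf) I).IsQuasicoherent
    infer_instance
  obtain ⟨e⟩ := Groth.Agent.S0017.result g f q h sq.flip 𝒦
  haveI : ((Coh.push g).obj 𝒦).IsQuasicoherent :=
    Groth.Agent.Lib.Helper23.QCohLocal.isQuasicoherent_pushforward g 𝒦
  have h1 : Curv2.IsGloballyGenerated ((Coh.push g).obj 𝒦) :=
    Groth.Agent.S10869.gg_of_isAffine _
  have h2 := Groth.Agent.Lib.LeadPicFF.isGloballyGenerated_pullback f _ h1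
  have h3 : Curv2.IsGloballyGenerated
      ((Coh.push h).obj ((Scheme.Modules.pullback q).obj 𝒦)) :=
    Groth.Agent.Lib.Helper23.RestrTensor.isGloballyGenerated_of_iso e h2
  haveI : ((Scheme.Modules.pullback q).obj 𝒦).IsQuasicoherent := inferInstance
  let p' : (Scheme.Modules.pullback q).obj 𝒦 ⟶ 𝒢 :=
    (Groth.Agent.Lib.LeadPicFF.pullbackFreeIso' q I).hom ≫ p
  haveI : Epi p' := epi_comp _ _
  haveI := epi_push_of_isAffineHom h p'
  exact Groth.Agent.S10869.gg_of_epi ((Scheme.Modules.pushforward h).map p') h3

end Groth.Agent.Lib.Helper27AffTwistA
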