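import Mathlib
import Groth.Agent.S2325
import Groth.Agent.S0012
import Groth.Agent.Lib.Helper27AffTwistA
import Groth.Agent.Lib.Helper1RpushRes
import Groth.Agent.Lib.Helper27ProjFormula
import Groth.Agent.Lib.Helper17ProjFormulaD
import Groth.Agent.Lib.Helper23PB
import Groth.Agent.Lib.Helper17SerreAmple3
import Groth.Agent.Lib.Helper27PnCohVanish

/-!
# Helper27: twists of the direct image of a coherent module along an affine base change.

`local_main` : over an affine open `W` of the base, the cohomology over `f⁻¹W` of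
`g'_* G ⊗ L^n` vanishes and its restriction to `f⁻¹W` is globally generated, for `n` large.
-/

set_option autoImplicit false
universe u
open CategoryTheory CategoryTheory.Limits AlgebraicGeometry TopologicalSpace Opposite

namespace Groth.Agent.Lib.Helper27AffTwistB

open Groth.Agent.Lib.Helper17 Groth.Agent.Lib.Helper23.AffVanish Groth.Agent.Lib.Helper17.LerayTop
  Groth.Agent.Lib.Helper17.BCVan

/-- restriction of a direct image to an open, in `resLE` form. -/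
theorem nonempty_restrict_push_iso {X X' : Scheme.{u}} (g' : X' ⟶ X) (G : X'.Modules) (U : X.Opens)
    (U' : X'.Opens) (e : U' = g' ⁻¹ᵁ U) :
    Nonempty (((Coh.push g').obj G).restrict U.ι ≅
      (Coh.push (g'.resLE U U' (le_of_eq e))).obj (G.restrict U'.ι)) := by
  subst e
  have h : g'.resLE U (g' ⁻¹ᵁ U) (le_of_eq rfl) = g' ∣_ U := Scheme.Hom.resLE_eq_morphismRestrict _
  rw [h]
  exact ⟨(Groth.Agent.Lib.Helper1.RpushRes.pushRestrictIso g' U).app G⟩

/-- over an affine open `W` of the base: for `n` large the cohomology of `g'_* G ⊗ L^n` over `f⁻¹W`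
vanishes in positive degrees and the restriction to `f⁻¹W` is globally generated. -/
theorem local_main {X Y X' Y' : Scheme.{u}} [IsNoetherian Y] (f : X ⟶ Y) [IsProper f]
    (L : X.Modules) (hL : PicF.IsInvertible L) (g : Y' ⟶ Y) [IsAffineHom g] [LocallyOfFiniteType g]
    (g' : X' ⟶ X) (f' : X' ⟶ Y') (hsq : IsPullback g' f' f g) (G : X'.Modules) (hG : Coh.IsCoh G)
    (W : Y.Opens) (hW : IsAffineOpen W) (hamp : CohB1.IsAmple (L.restrict (f ⁻¹ᵁ W).ι)) :
    ∃ N : ℕ, ∀ n : ℕ, N ≤ n →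
      (∀ p : ℕ, 0 < p → Subsingleton (HE (ab' (CohB1.tensorMod ((Coh.push g').obj G)
        (CohB1.tensorPow L n))) p (f ⁻¹ᵁ W))) ∧
      Curv2.IsGloballyGenerated ((CohB1.tensorMod ((Coh.push g').obj G)
        (CohB1.tensorPow L n)).restrict (f ⁻¹ᵁ W).ι) := by
  have e : f' ⁻¹ᵁ (g ⁻¹ᵁ W) = g' ⁻¹ᵁ (f ⁻¹ᵁ W) := by
    rw [← Scheme.Hom.comp_preimage, ← hsq.w, Scheme.Hom.comp_preimage]
  have hle : f' ⁻¹ᵁ (g ⁻¹ᵁ W) ≤ g' ⁻¹ᵁ (f ⁻¹ᵁ W) := le_of_eq e
  have hsq' := isPullback_resLE f g f' g' hsq W (g ⁻¹ᵁ W) le_rfl hle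
  haveI : IsAffine (↑W : Scheme.{u}) := hW
  haveI : IsAffine (↑(g ⁻¹ᵁ W) : Scheme.{u}) := hW.preimage g
  haveI : IsAffineHom (g.resLE W (g ⁻¹ᵁ W) le_rfl) := inferInstance
  haveI : IsAffineHom (g'.resLE (f ⁻¹ᵁ W) (f' ⁻¹ᵁ (g ⁻¹ᵁ W)) hle) :=
    MorphismProperty.of_isPullback (P := @IsAffineHom) hsq'.flip inferInstance
  haveI : IsLocallyNoetherian Y' := LocallyOfFiniteType.isLocallyNoetherian g
  haveI : IsNoetherian (↑(g ⁻¹ᵁ W) : Scheme.{u}) := { }
  haveI : IsProper f' := MorphismProperty.of_isPullback (P := @IsProper) hsq inferInstance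
  haveI : IsProper (f' ∣_ (g ⁻¹ᵁ W)) := inferInstance
  -- notation
  let U : X.Opens := f ⁻¹ᵁ W
  let W' : Y'.Opens := g ⁻¹ᵁ W
  let U' : X'.Opens := f' ⁻¹ᵁ W'
  let h : (↑U' : Scheme.{u}) ⟶ ↑U := g'.resLE U U' hle
  let q : (↑U' : Scheme.{u}) ⟶ ↑W' := f' ∣_ W'
  let LU : (↑U : Scheme.{u}).Modules := L.restrict U.ι
  have hLU : PicF.IsInvertible LU := Groth.Agent.Lib.Helper23.SecTw.isInvertible_restrict L hL _
  let L' : (↑U' : Scheme.{u}).Modules := (Scheme.Modules.pullback h).obj LU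
  have hL' : PicF.IsInvertible L' := Groth.Agent.Lib.Helper23.PB.isInvertible_pullback h LU hLU
  have hA' : CohB1.IsAmple L' :=
    Groth.Agent.Lib.Helper23.PB.isAmple_pullback_of_isAffineHom h LU hamp
  let G' : (↑U' : Scheme.{u}).Modules := G.restrict U'.ι
  have hG' : Coh.IsCoh G' := Groth.Agent.Lib.Helper17.FinLoc.isCoh_restrict U'.ι G hG
  obtain ⟨N₁, hN₁⟩ := Groth.Agent.Lib.Helper17.SerreAmple.serre_vanishing_ample q L' hL' hA' G' hG'
  haveI : CompactSpace (↑U' : Scheme.{u}) := hA'.2.1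
  haveI : (↑U' : Scheme.{u}).IsSeparated := by
    refine ⟨?_⟩
    rw [← terminal.comp_from q]
    infer_instance
  obtain ⟨N₂, hN₂⟩ := Groth.Agent.S2325.result (↑U' : Scheme.{u}) L' hA' G' hG'
  refine ⟨max N₁ N₂, fun n hn => ?_⟩
  -- the comparison isomorphism
  obtain ⟨Θ₁⟩ := Groth.Agent.Lib.Helper23.RestrTensor.nonempty_restrict_twist_iso
    ((Coh.push g').obj G) L hL U n
  obtain ⟨Θ₂⟩ := nonempty_restrict_push_iso g' G U U' e
  have hLUn : PicF.IsInvertible (CohB1.tensorPow LU n) :=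
    Groth.Agent.Lib.Helper23.SecTw.isInvertible_tensorPow hLU n
  obtain ⟨Linv, -, ⟨ε⟩, ⟨ε'⟩⟩ :=
    Groth.Agent.Lib.Helper17.ProjFormulaD.nonempty_inverse (CohB1.tensorPow LU n) hLUn
  let Θ₃ := Groth.Agent.Lib.Helper27ProjFormula.projIsoR h (CohB1.tensorPow LU n) Linv ε ε' G'
  obtain ⟨Θ₄⟩ := Groth.Agent.Lib.Helper23.PB.nonempty_pullback_tensorPow_iso h LU hLU n
  let Ψ : (CohB1.tensorMod ((Coh.push g').obj G) (CohB1.tensorPow L n)).restrict U.ι ≅
      (Coh.push h).obj (CohB1.tensorMod G' (CohB1.tensorPow L' n)) :=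
    Θ₁ ≪≫ PicGrp.tensorModIso Θ₂ (Iso.refl _) ≪≫ Θ₃.symm ≪≫
      (Coh.push h).mapIso (PicGrp.tensorModIso (Iso.refl _) Θ₄)
  have hq : Coh.IsQCoh (CohB1.tensorMod G' (CohB1.tensorPow L' n)) :=
    (Groth.Agent.Lib.Helper17.SerreAmple.isCoh_twist G' L' hG' hL' n).1
  haveI : (CohB1.tensorMod G' (CohB1.tensorPow L' n)).IsQuasicoherent := hq
  constructor
  · intro p hp
    have h1 := hN₁ n ((le_max_left _ _).trans hn) p hp
    obtain ⟨b⟩ := Groth.Agent.S0012.result h (CohB1.tensorMod G' (CohB1.tensorPow L' n)) p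
    have h2 : Subsingleton (Coh.HH (↑U : Scheme.{u})
        ((Coh.push h).obj (CohB1.tensorMod G' (CohB1.tensorPow L' n))) p) :=
      b.symm.toEquiv.subsingleton
    have h3 : Subsingleton (Coh.HHon X (CohB1.tensorMod ((Coh.push g').obj G)
        (CohB1.tensorPow L n)) U p) :=
      Groth.Agent.Lib.Helper27PnCohVanish.subsingleton_HH_of_iso Ψ.symm p h2
    obtain ⟨a⟩ := nonempty_HE_equiv_HHon (CohB1.tensorMod ((Coh.push g').obj G)
        (CohB1.tensorPow L n)) U p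
    exact a.toEquiv.subsingleton
  · have h1 := hN₂ n ((le_max_right _ _).trans hn)
    have h2 := Groth.Agent.Lib.Helper27AffTwistA.gg_push (f ∣_ W) (g.resLE W W' le_rfl) h q hsq'
      (CohB1.tensorMod G' (CohB1.tensorPow L' n)) h1
    exact Groth.Agent.Lib.Helper23.RestrTensor.isGloballyGenerated_of_iso Ψ.symm h2

end Groth.Agent.Lib.Helper27AffTwistB
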