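import Mathlib
import Groth.Agent.Lib.Helper27AffineLine

/-!
# Retracts of opens of affine space: any two points are directly R-linked (helper27)
-/

set_option autoImplicit false
universe u

open CategoryTheory CategoryTheory.Limits AlgebraicGeometry HomogeneousLocalization MvPolynomial

namespace Groth.Agent.Lib.Helper27AffineLine

open Groth.Agent.Lib.Helper27ProjSpaceBC Groth.Agent.Lib.Helper27DehomAway
  Groth.Agent.Lib.Helper27EvAway

variable {k : Type u} [Field k] {X : Scheme.{u}} (f : X ⟶ Spec (CommRingCat.of k))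
  (U : X.Opens) (m : ℕ) (V : (Spec (CommRingCat.of (MvPolynomial (Fin m) k))).Opens)
  (a : (U : Scheme.{u}) ⟶ (V : Scheme.{u})) (b : (V : Scheme.{u}) ⟶ (U : Scheme.{u}))
  (hab : a ≫ b = 𝟙 (U : Scheme.{u}))
  (ha : a ≫ V.ι ≫ Spec.map (CommRingCat.ofHom (algebraMap k (MvPolynomial (Fin m) k))) = U.ι ≫ f)
  (hb : b ≫ U.ι ≫ f = V.ι ≫ Spec.map (CommRingCat.ofHom (algebraMap k (MvPolynomial (Fin m) k))))
  (K : Type u) [Field K] [Algebra k K]

/-- the coordinate ring hom of a `K`-point. -/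
noncomputable def ptHom (A : REq.Pts (U.ι ≫ f) K) : MvPolynomial (Fin m) k →+* K :=
  (Spec.preimage (A.1 ≫ a ≫ V.ι)).hom

theorem specMap_ptHom (A : REq.Pts (U.ι ≫ f) K) :
    Spec.map (CommRingCat.ofHom (ptHom f U m V a K A)) = A.1 ≫ a ≫ V.ι := by
  unfold ptHom
  exact Spec.map_preimage _

include ha in
theorem ptHom_comp_algebraMap (A : REq.Pts (U.ι ≫ f) K) :
    (ptHom f U m V a K A).comp (algebraMap k (MvPolynomial (Fin m) k)) = algebraMap k K := by
  have h1 : Spec.map (CommRingCat.ofHom (algebraMap k (MvPolynomial (Fin m) k)) ≫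
      CommRingCat.ofHom (ptHom f U m V a K A)) =
      Spec.map (CommRingCat.ofHom (algebraMap k K)) := by
    rw [Spec.map_comp, specMap_ptHom, Category.assoc, Category.assoc, ha]
    exact A.2
  have h2 := Spec.map_injective h1
  exact congrArg CommRingCat.Hom.hom h2


include hab ha hb in
/-- any two `K`-points of a retract `U` of an open of affine space are directly R-linked. -/
theorem elemLink (A B : REq.Pts (U.ι ≫ f) K) : REq.ElemLink (U.ι ≫ f) K A B := by
  classical
  set φA := ptHom f U m V a K A with hφA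
  set φB := ptHom f U m V a K B with hφB
  set av : Fin m → K := fun i => φA (MvPolynomial.X i) with hav
  set bv : Fin m → K := fun i => φB (MvPolynomial.X i) with hbv
  have hφA' : φA = eval₂Hom (algebraMap k K) av :=
    eq_eval₂Hom K φA (ptHom_comp_algebraMap f U m V a ha K A)
  have hφB' : φB = eval₂Hom (algebraMap k K) bv :=
    eq_eval₂Hom K φB (ptHom_comp_algebraMap f U m V a ha K B)
  -- the line
  set lam : MvPolynomial (Fin m) k →+* Lam K := lineHom K av bv with hlam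
  set ℓ : Spec (CommRingCat.of (Lam K)) ⟶ Spec (CommRingCat.of (MvPolynomial (Fin m) k)) :=
    Spec.map (CommRingCat.ofHom lam) with hℓ
  -- the two points of the chart
  set α₀ : Spec (CommRingCat.of K) ⟶ Spec (CommRingCat.of (Lam K)) :=
    Spec.map (CommRingCat.ofHom (evc K 0)) with hα₀
  set β₀ : Spec (CommRingCat.of K) ⟶ Spec (CommRingCat.of (Lam K)) :=
    Spec.map (CommRingCat.ofHom (evc K 1)) with hβ₀
  have hα₀ℓ : α₀ ≫ ℓ = A.1 ≫ a ≫ V.ι := by
    rw [hα₀, hℓ, ← Spec.map_comp, ← CommRingCat.ofHom_comp, hlam, evc_zero_comp_lineHom,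
      ← hφA', hφA]
    exact specMap_ptHom f U m V a K A
  have hβ₀ℓ : β₀ ≫ ℓ = B.1 ≫ a ≫ V.ι := by
    rw [hβ₀, hℓ, ← Spec.map_comp, ← CommRingCat.ofHom_comp, hlam, evc_one_comp_lineHom,
      ← hφB', hφB]
    exact specMap_ptHom f U m V a K B
  -- the open
  set W : (REq.P1K K).Opens := (chart K) ''ᵁ (ℓ ⁻¹ᵁ V) with hW
  have hWrange : Set.range W.ι.base ⊆ Set.range (chart K).base := by
    rw [Scheme.Opens.range_ι]
    rintro _ ⟨y, -, rfl⟩
    exact ⟨y, rfl⟩
  set w1 : (W : Scheme.{u}) ⟶ Spec (CommRingCat.of (Lam K)) :=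
    IsOpenImmersion.lift (chart K) W.ι hWrange with hw1
  have hw1c : w1 ≫ chart K = W.ι := IsOpenImmersion.lift_fac _ _ _
  have hw1V : Set.range (w1 ≫ ℓ).base ⊆ Set.range V.ι.base := by
    rw [Scheme.Opens.range_ι]
    rintro _ ⟨w, rfl⟩
    have h1 : (W.ι.base w) ∈ (W : Set (REq.P1K K)) := w.2
    rw [← hw1c] at h1
    obtain ⟨y, hy, hyw⟩ := h1
    have : y = w1.base w := (chart K).isOpenEmbedding.injective hyw
    rw [this] at hy
    exact hy
  set w2 : (W : Scheme.{u}) ⟶ (V : Scheme.{u}) :=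
    IsOpenImmersion.lift V.ι (w1 ≫ ℓ) hw1V with hw2
  have hw2V : w2 ≫ V.ι = w1 ≫ ℓ := IsOpenImmersion.lift_fac _ _ _
  -- the points
  have hαW : Set.range (α₀ ≫ chart K).base ⊆ Set.range W.ι.base := by
    rw [Scheme.Opens.range_ι]
    rintro _ ⟨x, rfl⟩
    refine ⟨α₀.base x, ?_, rfl⟩
    have : (α₀ ≫ ℓ).base x ∈ (V : Set _) := by
      rw [hα₀ℓ]
      exact ((A.1 ≫ a).base x).2
    exact this
  have hβW : Set.range (β₀ ≫ chart K).base ⊆ Set.range W.ι.base := by
    rw [Scheme.Opens.range_ι]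
    rintro _ ⟨x, rfl⟩
    refine ⟨β₀.base x, ?_, rfl⟩
    have : (β₀ ≫ ℓ).base x ∈ (V : Set _) := by
      rw [hβ₀ℓ]
      exact ((B.1 ≫ a).base x).2
    exact this
  set α : Spec (CommRingCat.of K) ⟶ (W : Scheme.{u}) :=
    IsOpenImmersion.lift W.ι (α₀ ≫ chart K) hαW with hα
  set β : Spec (CommRingCat.of K) ⟶ (W : Scheme.{u}) :=
    IsOpenImmersion.lift W.ι (β₀ ≫ chart K) hβW with hβ
  have hαι : α ≫ W.ι = α₀ ≫ chart K := IsOpenImmersion.lift_fac _ _ _
  have hβι : β ≫ W.ι = β₀ ≫ chart K := IsOpenImmersion.lift_fac _ _ _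
  have hαw1 : α ≫ w1 = α₀ := by
    rw [← cancel_mono (chart K), Category.assoc, hw1c, hαι]
  have hβw1 : β ≫ w1 = β₀ := by
    rw [← cancel_mono (chart K), Category.assoc, hw1c, hβι]
  have hαw2 : α ≫ w2 = A.1 ≫ a := by
    rw [← cancel_mono V.ι, Category.assoc, hw2V, ← Category.assoc, hαw1, hα₀ℓ, Category.assoc]
  have hβw2 : β ≫ w2 = B.1 ≫ a := by
    rw [← cancel_mono V.ι, Category.assoc, hw2V, ← Category.assoc, hβw1, hβ₀ℓ, Category.assoc]
  refine ⟨W, w2 ≫ b, α, β, ?_, ?_, ?_, ?_, ?_⟩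
  · -- structure morphisms
    rw [Category.assoc, hb, ← Category.assoc, hw2V, Category.assoc, hℓ, ← Spec.map_comp,
      ← CommRingCat.ofHom_comp, hlam, lineHom_comp_algebraMap, CommRingCat.ofHom_comp,
      Spec.map_comp, ← chart_toSpec, ← Category.assoc, ← Category.assoc, hw1c]
    rfl
  · rw [← Category.assoc, hαι, Category.assoc, chart_toSpec, hα₀, ← Spec.map_comp,
      ← CommRingCat.ofHom_comp, evc_comp_strA]
    exact Spec.map_id _
  · rw [← Category.assoc, hβι, Category.assoc, chart_toSpec, hβ₀, ← Spec.map_comp,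
      ← CommRingCat.ofHom_comp, evc_comp_strA]
    exact Spec.map_id _
  · rw [← Category.assoc, hαw2, Category.assoc, hab, Category.comp_id]
  · rw [← Category.assoc, hβw2, Category.assoc, hab, Category.comp_id]

end Groth.Agent.Lib.Helper27AffineLine
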