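import Mathlib

/-!
# Nonempty opens of affine space over an infinite field have rational points (helper27)
-/

set_option autoImplicit false
universe u

open CategoryTheory CategoryTheory.Limits AlgebraicGeometry MvPolynomial

namespace Groth.Agent.Lib.Helper27AffineRatPt

variable {k : Type u} [Field k] [Infinite k] {m : ℕ}

theorem exists_ratPt (V : (Spec (CommRingCat.of (MvPolynomial (Fin m) k))).Opens)
    (hV : (V : Set (Spec (CommRingCat.of (MvPolynomial (Fin m) k)))).Nonempty) :
    ∃ P : Spec (CommRingCat.of k) ⟶ Spec (CommRingCat.of (MvPolynomial (Fin m) k)),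
      P ≫ Spec.map (CommRingCat.ofHom (algebraMap k (MvPolynomial (Fin m) k))) = 𝟙 _ ∧
      Set.range P.base ⊆ (V : Set _) := by
  obtain ⟨x, hx⟩ := hV
  obtain ⟨_, ⟨g, rfl⟩, hxg, hgV⟩ :=
    PrimeSpectrum.isTopologicalBasis_basic_opens.exists_subset_of_mem_open hx V.2
  have hg0 : g ≠ 0 := by
    rintro rfl
    exact hxg (zero_mem _)
  obtain ⟨c, hc⟩ : ∃ c : Fin m → k, eval c g ≠ 0 := by
    by_contra hcon
    push Not at hcon
    apply hg0
    apply MvPolynomial.funext
    intro c
    rw [hcon c, map_zero]
  refine ⟨Spec.map (CommRingCat.ofHom (eval c)), ?_, ?_⟩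
  · rw [← Spec.map_comp, ← CommRingCat.ofHom_comp]
    have : (eval c).comp (algebraMap k (MvPolynomial (Fin m) k)) = RingHom.id k := by
      ext r
      simp [MvPolynomial.algebraMap_eq]
    rw [this]
    exact Spec.map_id _
  · rintro _ ⟨y, rfl⟩
    apply hgV
    set y' : PrimeSpectrum k := y with hy'
    change g ∉ (PrimeSpectrum.comap (eval c) y').asIdeal
    intro hmem
    replace hmem : eval c g ∈ y'.asIdeal := hmem
    have hbot : y'.asIdeal = ⊥ := by
      rcases Ideal.eq_bot_or_top y'.asIdeal with h | h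
      · exact h
      · exact absurd h y'.2.ne_top
    rw [hbot, Ideal.mem_bot] at hmem
    exact hc hmem

end Groth.Agent.Lib.Helper27AffineRatPt
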