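import Mathlib
import Groth.Prelude.Def_RelProj3
import Groth.Agent.Lib.Helper2GrModQCoh
import Groth.Agent.Lib.Helper2RelTildeInj

/-!
# `GrMod.map`: injectivity / local surjectivity on sections under (TN)-injectivity / (TN)-surjectivity (helper2)
-/

set_option autoImplicit false
universe u
open CategoryTheory Limits AlgebraicGeometry TopologicalSpace Opposite

namespace Groth.Agent.Lib.Helper2.GrModMap

open Groth.Agent.Lib.Helper2GrModSect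

variable {A σ : Type u} [CommRing A] [SetLike σ A] [AddSubgroupClass σ A] (𝒜 : ℕ → σ)
  [GradedRing 𝒜]
variable {M τ : Type u} [AddCommGroup M] [Module A M] [SetLike τ M] [AddSubgroupClass τ M]
  (ℳ : ℕ → τ) [DirectSum.Decomposition ℳ] [SetLike.GradedSMul 𝒜 ℳ]
variable {N τ' : Type u} [AddCommGroup N] [Module A N] [SetLike τ' N] [AddSubgroupClass τ' N]
  (𝒩 : ℕ → τ') [DirectSum.Decomposition 𝒩] [SetLike.GradedSMul 𝒜 𝒩]
variable (u : M →ₗ[A] N) (hu : ∀ (i : ℕ) (m : M), m ∈ ℳ i → u m ∈ 𝒩 i) (n : ℤ)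

/-- a homogeneous element outside `y` killing a homogeneous element `μ`, from an arbitrary one. -/
theorem exists_homogeneous_not_mem_smul_eq_zero (y : ProjectiveSpectrum 𝒜) {i : ℕ} {μ : N} (hμ : μ ∈ 𝒩 i)
    (t : A) (hty : t ∉ y.asHomogeneousIdeal) (ht : t • μ = 0) :
    ∃ (e : ℕ) (t' : A), t' ∈ 𝒜 e ∧ t' ∉ y.asHomogeneousIdeal ∧ t' • μ = 0 := by
  classical
  have hhom := torsionOf_isHomogeneous 𝒜 𝒩 hμ
  have hmem : t ∈ Ideal.torsionOf A N μ := (Ideal.mem_torsionOf_iff _ _).mpr ht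
  by_contra hcon
  push Not at hcon
  apply hty
  rw [← DirectSum.sum_support_decompose 𝒜 t]
  refine Ideal.sum_mem _ (fun e _ => ?_)
  by_contra hne
  exact hcon e _ (DirectSum.decompose 𝒜 t e).2 hne ((Ideal.mem_torsionOf_iff _ _).mp (hhom e hmem))

include hu in
theorem locMap_injective_of_TN (n₀ : ℕ)
    (hinj : ∀ k : ℕ, n₀ ≤ k → ∀ m ∈ ℳ k, u m = 0 → m = 0) (y : ProjectiveSpectrum 𝒜)
    (q : GrMod.LocMod 𝒜 (M := M) y) (hq : q ∈ GrMod.tildeAt 𝒜 ℳ n y) (h0 : GrMod.locMap u y q = 0) :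
    q = 0 := by
  obtain ⟨i, j, m, s, hm, hs, hsy, hij, rfl⟩ := exists_frac_of_mem 𝒜 ℳ n y q hq
  rw [GrMod.locMap_mk, Groth.Agent.Lib.Helper2.RelTildeInj.mk_eq_zero_iff'] at h0
  obtain ⟨t, ht⟩ := h0
  obtain ⟨e, t', ht'e, ht'y, ht'⟩ :=
    exists_homogeneous_not_mem_smul_eq_zero 𝒜 𝒩 y (hu i m hm) (t : A) t.2 ht
  obtain ⟨d, f, hd, hf, hfy⟩ := exists_homogeneous_pos_not_mem 𝒜 y
  rw [Groth.Agent.Lib.Helper2.RelTildeInj.mk_eq_zero_iff']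
  have hmem : (f ^ n₀ * t') • m ∈ ℳ (n₀ • d + e + i) :=
    SetLike.GradedSMul.smul_mem (SetLike.mul_mem_graded (SetLike.pow_mem_graded n₀ hf) ht'e) hm
  have hge : n₀ ≤ n₀ • d + e + i := by
    have : n₀ ≤ n₀ * d := Nat.le_mul_of_pos_right _ hd
    rw [smul_eq_mul]; omega
  refine ⟨⟨f ^ n₀ * t', fun h => ?_⟩, hinj _ hge _ hmem ?_⟩
  · rcases y.isPrime.mem_or_mem h with h | h
    · exact hfy (y.isPrime.mem_of_pow_mem _ h)
    · exact ht'y h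
  · rw [map_smul, mul_smul, ht', smul_zero]

include hu in
theorem map_app_injective_of_TN (n₀ : ℕ)
    (hinj : ∀ k : ℕ, n₀ ≤ k → ∀ m ∈ ℳ k, u m = 0 → m = 0) (V : (Proj 𝒜).Opens) :
    Function.Injective ((GrMod.map 𝒜 u hu n).app V) := by
  rw [injective_iff_map_eq_zero]
  intro s hs
  refine Subtype.ext (funext fun y => Subtype.ext ?_)
  have h1 : GrMod.val ((GrMod.map 𝒜 u hu n).app V s) y = 0 := by
    rw [hs]; rfl
  rw [GrMod.map_app_val] at h1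
  exact locMap_injective_of_TN 𝒜 ℳ 𝒩 u hu n n₀ hinj y.1 _ ((s : GrMod.sect 𝒜 ℳ n (op V)).1 y).2 h1

include hu in
theorem map_locally_surjective_of_TN (n₀ : ℕ)
    (hsurj : ∀ k : ℕ, n₀ ≤ k → ∀ m' ∈ 𝒩 k, ∃ m ∈ ℳ k, u m = m') (V : (Proj 𝒜).Opens)
    (t : Γ(GrMod.tilde 𝒜 𝒩 n, V)) (y : ProjectiveSpectrum 𝒜) (hy : y ∈ V) :
    ∃ (O : (Proj 𝒜).Opens) (hO : O ≤ V), y ∈ O ∧ ∃ σ : Γ(GrMod.tilde 𝒜 ℳ n, O),
      (GrMod.map 𝒜 u hu n).app O σ = (GrMod.tilde 𝒜 𝒩 n).presheaf.map (homOfLE hO).op t := by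
  obtain ⟨O₁, hyO₁, iO₁, i, j, m', s', nin, hcond, hval⟩ := (toSect 𝒜 𝒩 n V t).2 ⟨y, hy⟩
  obtain ⟨d, f, hd, hf, hfy⟩ := exists_homogeneous_pos_not_mem 𝒜 y
  have hge : n₀ ≤ n₀ • d + i := by
    have : n₀ ≤ n₀ * d := Nat.le_mul_of_pos_right _ hd
    rw [smul_eq_mul]; omega
  have hfm : f ^ n₀ • (m' : N) ∈ 𝒩 (n₀ • d + i) :=
    SetLike.GradedSMul.smul_mem (SetLike.pow_mem_graded n₀ hf) m'.2
  obtain ⟨m, hm, hum⟩ := hsurj _ hge _ hfm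
  have hO₁V : O₁ ≤ V := iO₁.le
  rcases hcond with hdeg | hzero
  · have hO : O₁ ⊓ ProjectiveSpectrum.basicOpen 𝒜 f ≤ V := inf_le_left.trans hO₁V
    have hs'' : f ^ n₀ * (s' : A) ∈ 𝒜 (n₀ • d + j) :=
      SetLike.mul_mem_graded (SetLike.pow_mem_graded n₀ hf) s'.2
    have hij' : ((n₀ • d + i : ℕ) : ℤ) = ((n₀ • d + j : ℕ) : ℤ) + n := by
      push_cast; omega
    have hW : ∀ z : (O₁ ⊓ ProjectiveSpectrum.basicOpen 𝒜 f : Opens (ProjectiveSpectrum.top 𝒜)),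
        f ^ n₀ * (s' : A) ∉ z.1.asHomogeneousIdeal := by
      intro z h
      rcases z.1.isPrime.mem_or_mem h with h | h
      · exact (ProjectiveSpectrum.mem_basicOpen 𝒜 f z.1).mp z.2.2 (z.1.isPrime.mem_of_pow_mem _ h)
      · exact nin ⟨z.1, z.2.1⟩ h
    refine ⟨O₁ ⊓ ProjectiveSpectrum.basicOpen 𝒜 f, hO,
      ⟨hyO₁, (ProjectiveSpectrum.mem_basicOpen 𝒜 f y).mpr hfy⟩,
      ofSect 𝒜 ℳ n _ (fracOn 𝒜 ℳ n _ hm hs'' hij' hW), ?_⟩
    refine Subtype.ext (funext fun z => Subtype.ext ?_)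
    have h1 : GrMod.val ((GrMod.map 𝒜 u hu n).app _ (ofSect 𝒜 ℳ n _ (fracOn 𝒜 ℳ n _ hm hs'' hij' hW))) z =
        GrMod.locMap u z.1 (LocalizedModule.mk m ⟨f ^ n₀ * (s' : A), hW z⟩) := rfl
    have h2 : GrMod.val ((GrMod.tilde 𝒜 𝒩 n).presheaf.map (homOfLE hO).op t) z =
        LocalizedModule.mk (m' : N) ⟨(s' : A), nin ⟨z.1, z.2.1⟩⟩ := hval ⟨z.1, z.2.1⟩
    refine h1.trans (Eq.trans ?_ h2.symm)
    rw [GrMod.locMap_mk, hum, LocalizedModule.mk_eq]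
    refine ⟨1, ?_⟩
    simp only [one_smul]
    change (s' : A) • f ^ n₀ • (m' : N) = (f ^ n₀ * (s' : A)) • (m' : N)
    rw [smul_smul, mul_comm]
  · refine ⟨O₁, hO₁V, hyO₁, 0, ?_⟩
    rw [map_zero]
    refine Subtype.ext (funext fun z => Subtype.ext ?_)
    have h2 : GrMod.val ((GrMod.tilde 𝒜 𝒩 n).presheaf.map (homOfLE hO₁V).op t) z =
        LocalizedModule.mk (m' : N) ⟨(s' : A), nin z⟩ := hval z
    refine Eq.trans ?_ h2.symm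
    rw [hzero, LocalizedModule.zero_mk]
    rfl

end Groth.Agent.Lib.Helper2.GrModMap
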