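import Groth.Agent.Lib.Helper2GrModSect3

/-!
# Sections of `M(n)~` over `D₊(f)` are single fractions: gluing (helper2 port of helper27)
-/

set_option autoImplicit false
universe u

open CategoryTheory AlgebraicGeometry TopologicalSpace Opposite

namespace Groth.Agent.Lib.Helper2GrModSect

variable {A σ : Type u} [CommRing A] [SetLike σ A] [AddSubgroupClass σ A] {𝒜 : ℕ → σ}
  [GradedRing 𝒜]
variable {M τ : Type u} [AddCommGroup M] [Module A M] [SetLike τ M] [AddSubgroupClass τ M]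
  {ℳ : ℕ → τ} [DirectSum.Decomposition ℳ] [SetLike.GradedSMul 𝒜 ℳ]
variable {n : ℤ} {f : A}
  (s : GrMod.sect 𝒜 ℳ n (op (ProjectiveSpectrum.basicOpen 𝒜 f)))

/-- a finite family of strictly compatible local data covering `D₊(f)`. -/
theorem exists_finite_compat {d : ℕ} (hd : 0 < d) (hf : f ∈ 𝒜 d) :
    ∃ (ι : Type u) (_ : Fintype ι) (D : ι → Datum 𝒜 ℳ n s),
      (∀ a b : ι, (D b).h • (D a).m = (D a).h • (D b).m) ∧
      ∀ y : ProjectiveSpectrum 𝒜, f ∉ y.asHomogeneousIdeal →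
        ∃ a : ι, (D a).h ∉ y.asHomogeneousIdeal := by
  classical
  choose D₀ hD₀ using exists_datum s hd hf
  -- first partition of unity
  have hJ : (Ideal.span (Set.range fun x => (D₀ x).h)).IsHomogeneous 𝒜 :=
    Ideal.homogeneous_span 𝒜 _ (by rintro _ ⟨x, rfl⟩; exact ⟨_, (D₀ x).hh⟩)
  obtain ⟨N, hN⟩ := exists_pow_mem_of_forall 𝒜 hJ hd hf (fun y hy =>
    ⟨(D₀ ⟨y, (ProjectiveSpectrum.mem_basicOpen 𝒜 f y).mpr hy⟩).h,
      Ideal.subset_span ⟨_, rfl⟩,
      hD₀ ⟨y, (ProjectiveSpectrum.mem_basicOpen 𝒜 f y).mpr hy⟩⟩)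
  obtain ⟨c, hc⟩ := Finsupp.mem_span_range_iff_exists_finsupp.mp (hN N le_rfl)
  have hcover : ∀ y : ProjectiveSpectrum 𝒜, f ∉ y.asHomogeneousIdeal →
      ∃ x ∈ c.support, (D₀ x).h ∉ y.asHomogeneousIdeal := by
    intro y hy
    by_contra hcon
    push Not at hcon
    apply hy
    apply y.isPrime.mem_of_pow_mem N
    rw [← hc]
    exact Ideal.sum_mem _ (fun x hx => Ideal.mul_mem_left _ _ (hcon x hx))
  -- uniform exponent
  choose Nc hNc using fun x x' => exists_compat (D₀ x) (D₀ x')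
  let L : ℕ := c.support.sup (fun x => c.support.sup (fun x' => Nc x x'))
  have hL : ∀ x ∈ c.support, ∀ x' ∈ c.support, Nc x x' ≤ L := by
    intro x hx x' hx'
    exact (Finset.le_sup (f := fun x' => Nc x x') hx').trans
      (Finset.le_sup (f := fun x => c.support.sup (fun x' => Nc x x')) hx)
  refine ⟨c.support, inferInstance, fun a => (D₀ a.1).pow L, ?_, ?_⟩
  · intro a b
    exact pow_compat (D₀ a.1) (D₀ b.1) L (hNc a.1 b.1 L (hL a.1 a.2 b.1 b.2))
  · intro y hy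
    obtain ⟨x, hx, hxy⟩ := hcover y hy
    refine ⟨⟨x, hx⟩, ?_⟩
    rw [Datum.pow_h]
    exact fun h => hxy (y.isPrime.mem_of_pow_mem _ h)

theorem exists_global {d : ℕ} (hd : 0 < d) (hf : f ∈ 𝒜 d) :
    ∃ (k i : ℕ) (m : ℳ i), (i : ℤ) = k * d + n ∧
      ∀ x : ProjectiveSpectrum.basicOpen 𝒜 f,
        ((s.1 x : GrMod.tildeAt 𝒜 ℳ n x.1) : GrMod.LocMod 𝒜 (M := M) x.1) =
          (LocalizedModule.mk m.1 ⟨f ^ k, fun h => (ProjectiveSpectrum.mem_basicOpen 𝒜 f x.1).mp x.2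
            (x.1.isPrime.mem_of_pow_mem k h)⟩ : GrMod.LocMod 𝒜 (M := M) x.1) := by
  classical
  obtain ⟨ι, _, D, hcompat, hcover⟩ := exists_finite_compat s hd hf
  -- second partition of unity
  have hJ : (Ideal.span (Set.range fun a => (D a).h)).IsHomogeneous 𝒜 :=
    Ideal.homogeneous_span 𝒜 _ (by rintro _ ⟨a, rfl⟩; exact ⟨_, (D a).hh⟩)
  obtain ⟨N, hN⟩ := exists_pow_mem_of_forall 𝒜 hJ hd hf (fun y hy => by
    obtain ⟨a, ha⟩ := hcover y hy
    exact ⟨(D a).h, Ideal.subset_span ⟨_, rfl⟩, ha⟩)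
  let K : ℕ := N + Finset.univ.sup (fun a => (D a).e) + n.natAbs
  have hKe : ∀ a, (D a).e ≤ K * d := by
    intro a
    have h1 : (D a).e ≤ Finset.univ.sup (fun a => (D a).e) :=
      Finset.le_sup (f := fun a => (D a).e) (Finset.mem_univ a)
    have h2 : K ≤ K * d := Nat.le_mul_of_pos_right _ hd
    omega
  have hKn : (0 : ℤ) ≤ ((K * d : ℕ) : ℤ) + n := by
    have h2 : K ≤ K * d := Nat.le_mul_of_pos_right _ hd
    have h3 : n.natAbs ≤ K := by omega
    generalize K * d = T at h2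
    omega
  obtain ⟨b, hb⟩ := Ideal.mem_span_range_iff_exists_fun.mp (hN K (by omega))
  -- homogenize
  have hfK : f ^ K ∈ 𝒜 (K * d) := by
    have := SetLike.pow_mem_graded K hf
    simpa [smul_eq_mul] using this
  have hb' : ∑ a, (DirectSum.decompose 𝒜 (b a) (K * d - (D a).e) : A) * (D a).h = f ^ K := by
    have h1 := congrArg (GradedRing.proj 𝒜 (K * d)) hb
    rw [map_sum, GradedRing.proj_apply, DirectSum.decompose_of_mem_same 𝒜 hfK] at h1
    rw [← h1]
    refine Finset.sum_congr rfl (fun a _ => ?_)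
    rw [GradedRing.proj_apply,
      DirectSum.coe_decompose_mul_of_right_mem_of_le 𝒜 (D a).hh (hKe a)]
  obtain ⟨i, hi⟩ := Int.eq_ofNat_of_zero_le hKn
  have hmem : ∀ a, (DirectSum.decompose 𝒜 (b a) (K * d - (D a).e) : A) • (D a).m ∈ ℳ i := by
    intro a
    have h1 := SetLike.GradedSMul.smul_mem (DirectSum.decompose 𝒜 (b a) (K * d - (D a).e)).2
      (D a).hm
    have h2 : K * d - (D a).e + (D a).i = i := by
      have := (D a).hdeg
      have := hKe a
      generalize K * d = T at *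
      omega
    rw [vadd_eq_add, h2] at h1
    exact h1
  refine ⟨K, i, ⟨∑ a, (DirectSum.decompose 𝒜 (b a) (K * d - (D a).e) : A) • (D a).m,
    sum_mem (fun a _ => hmem a)⟩, ?_, ?_⟩
  · rw [← hi]; push_cast; ring
  · intro x
    have hfx : f ∉ x.1.asHomogeneousIdeal := (ProjectiveSpectrum.mem_basicOpen 𝒜 f x.1).mp x.2
    obtain ⟨a', ha'⟩ := hcover x.1 hfx
    rw [(D a').heq x ha', LocalizedModule.mk_eq]
    refine ⟨1, ?_⟩
    rw [one_smul, one_smul]
    change f ^ K • (D a').m =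
      (D a').h • ∑ a, (DirectSum.decompose 𝒜 (b a) (K * d - (D a).e) : A) • (D a).m
    rw [← hb', Finset.sum_smul, Finset.smul_sum]
    refine Finset.sum_congr rfl (fun a _ => ?_)
    rw [mul_smul, hcompat a' a, smul_comm]

end Groth.Agent.Lib.Helper2GrModSect
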