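import Mathlib
import Groth.Agent.Lib.Helper27AlphaTF

/-!
# Eventual generation of the sections of the `M(n)~` over the graded ring (helper27)

For a Noetherian graded ring whose irrelevant ideal is generated in degree one and a graded module
with (TF): there is `k` such that for every `e` the group `Γ(Proj, M(k+e)~)` is generated by the
`a • Γ(Proj, M(k)~)`, `a` homogeneous of degree `e`.
-/

set_option autoImplicit false
set_option linter.unusedSectionVars false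
universe u

open CategoryTheory CategoryTheory.Limits AlgebraicGeometry TopologicalSpace Opposite DirectSum

namespace Groth.Agent.Lib.Helper27AlphaGen

open Groth.Agent.Lib.Helper2GrModSect Groth.Agent.Lib.Helper27AlphaSect
  Groth.Agent.Lib.Helper27AlphaCore Groth.Agent.Lib.Helper27AlphaTF

variable {A σ : Type u} [CommRing A] [SetLike σ A] [AddSubgroupClass σ A] (𝒜 : ℕ → σ)
  [GradedRing 𝒜]

/-- when `S₊` is generated in degree one, `S_{j+1} = S_1 S_j`. -/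
theorem mem_closure_mul_of_mem_succ
    (hgen : (HomogeneousIdeal.irrelevant 𝒜).toIdeal = Ideal.span (𝒜 1 : Set A)) (j : ℕ) (a : A)
    (ha : a ∈ 𝒜 (j + 1)) :
    a ∈ AddSubgroup.closure {x : A | ∃ g ∈ 𝒜 1, ∃ b ∈ 𝒜 j, x = g * b} := by
  classical
  have h1 : a ∈ (HomogeneousIdeal.irrelevant 𝒜).toIdeal := by
    change a ∈ HomogeneousIdeal.irrelevant 𝒜
    rw [HomogeneousIdeal.mem_irrelevant_iff, GradedRing.proj_apply,
      DirectSum.decompose_of_mem_ne 𝒜 ha (Nat.succ_ne_zero j)]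
  rw [hgen] at h1
  obtain ⟨c, hc⟩ := (Finsupp.mem_span_iff_linearCombination A (𝒜 1 : Set A) a).mp h1
  rw [Finsupp.linearCombination_apply, Finsupp.sum] at hc
  have h2 : a = ∑ g ∈ c.support, (DirectSum.decompose 𝒜 (c g) j : A) * (g : A) := by
    have h3 := congrArg (GradedRing.proj 𝒜 (j + 1)) hc
    rw [map_sum, GradedRing.proj_apply, DirectSum.decompose_of_mem_same 𝒜 ha] at h3
    rw [← h3]
    refine Finset.sum_congr rfl (fun g _ => ?_)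
    rw [GradedRing.proj_apply, smul_eq_mul,
      DirectSum.coe_decompose_mul_of_right_mem_of_le 𝒜 (g.2 : (g : A) ∈ 𝒜 1)
        (Nat.le_add_left 1 j), Nat.add_sub_cancel]
  rw [h2]
  refine AddSubgroup.sum_mem _ (fun g _ => AddSubgroup.subset_closure ?_)
  exact ⟨(g : A), g.2, _, (DirectSum.decompose 𝒜 (c g) j).2, mul_comm _ _⟩

variable {M τ : Type u} [AddCommGroup M] [Module A M] [SetLike τ M] [AddSubgroupClass τ M]
  (ℳ : ℕ → τ) [DirectSum.Decomposition ℳ] [SetLike.GradedSMul 𝒜 ℳ]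

/-- under (TF) and generation in degree one, `M_{j+1} = S_1 M_j` for large `j`. -/
theorem exists_forall_mem_closure_smul
    (hgen : (HomogeneousIdeal.irrelevant 𝒜).toIdeal = Ideal.span (𝒜 1 : Set A))
    (hTF : ∃ n : ℕ, (Submodule.span A (⋃ k ∈ Set.Ici n, (ℳ k : Set M))).FG) :
    ∃ D : ℕ, ∀ j : ℕ, D ≤ j → ∀ m ∈ ℳ (j + 1),
      m ∈ AddSubgroup.closure {x : M | ∃ g ∈ 𝒜 1, ∃ m' ∈ ℳ j, x = g • m'} := by
  classical
  obtain ⟨n₁, hTF⟩ := hTF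
  obtain ⟨T, hTsub, hTspan⟩ := (Submodule.fg_span_iff_fg_span_finset_subset _).mp hTF
  have hdegT : ∀ t : T, ∃ k : ℕ, (t : M) ∈ ℳ k := by
    intro t
    have := hTsub t.2
    simp only [Set.mem_iUnion, Set.mem_Ici, SetLike.mem_coe, exists_prop] at this
    obtain ⟨k, _, hk⟩ := this
    exact ⟨k, hk⟩
  choose degT hdegT using hdegT
  refine ⟨Finset.univ.sup degT + n₁, fun j hj m hm => ?_⟩
  have hm1 : m ∈ Submodule.span A (⋃ k ∈ Set.Ici n₁, (ℳ k : Set M)) := by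
    apply Submodule.subset_span
    simp only [Set.mem_iUnion, Set.mem_Ici, SetLike.mem_coe, exists_prop]
    exact ⟨j + 1, by omega, hm⟩
  rw [hTspan] at hm1
  obtain ⟨c, hc⟩ := (Finsupp.mem_span_iff_linearCombination A (T : Set M) m).mp hm1
  rw [Finsupp.linearCombination_apply, Finsupp.sum] at hc
  have hk_decomp : (DirectSum.decompose ℳ m (j + 1) : M) = m :=
    DirectSum.decompose_of_mem_same ℳ hm
  rw [← hk_decomp, ← hc, DirectSum.decompose_sum, DFinsupp.finsetSum_apply,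
    AddSubmonoidClass.coe_finsetSum]
  refine AddSubgroup.sum_mem _ (fun t _ => ?_)
  have hdt : degT ⟨t.1, t.2⟩ ≤ j := by
    have : degT ⟨t.1, t.2⟩ ≤ Finset.univ.sup degT := Finset.le_sup (Finset.mem_univ _)
    omega
  obtain ⟨j', hj'⟩ := Nat.exists_eq_add_of_le hdt
  have hj'' : j + 1 = (j' + 1) + degT ⟨t.1, t.2⟩ := by omega
  rw [hj'', decompose_smul 𝒜 ℳ (hdegT ⟨t.1, t.2⟩) (c t) (j' + 1)]
  have hmem := mem_closure_mul_of_mem_succ 𝒜 hgen j' _ (DirectSum.decompose 𝒜 (c t) (j' + 1)).2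
  -- push through `x ↦ x • t`
  have key : ∀ x ∈ AddSubgroup.closure {x : A | ∃ g ∈ 𝒜 1, ∃ b ∈ 𝒜 j', x = g * b},
      x • (t : M) ∈ AddSubgroup.closure {x : M | ∃ g ∈ 𝒜 1, ∃ m' ∈ ℳ j, x = g • m'} := by
    intro x hx
    induction hx using AddSubgroup.closure_induction with
    | mem x hx =>
      obtain ⟨g, hg, b, hb, rfl⟩ := hx
      refine AddSubgroup.subset_closure ⟨g, hg, b • (t : M), ?_, mul_smul _ _ _⟩
      have := SetLike.GradedSMul.smul_mem (A := 𝒜) (B := ℳ) hb (hdegT ⟨t.1, t.2⟩)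
      rw [hj']
      rwa [vadd_eq_add, add_comm] at this
    | zero => rw [zero_smul]; exact zero_mem _
    | add x y _ _ hx hy => rw [add_smul]; exact add_mem hx hy
    | neg x _ hx => rw [neg_smul]; exact neg_mem hx
  exact key _ hmem

/-- under (TF) and generation in degree one, `M_{k+e} = S_e M_k` for large `k`. -/
theorem exists_forall_mem_closure_smul_add
    (hgen : (HomogeneousIdeal.irrelevant 𝒜).toIdeal = Ideal.span (𝒜 1 : Set A))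
    (hTF : ∃ n : ℕ, (Submodule.span A (⋃ k ∈ Set.Ici n, (ℳ k : Set M))).FG) :
    ∃ D : ℕ, ∀ k : ℕ, D ≤ k → ∀ e : ℕ, ∀ m ∈ ℳ (k + e),
      m ∈ AddSubgroup.closure {x : M | ∃ a ∈ 𝒜 e, ∃ m' ∈ ℳ k, x = a • m'} := by
  obtain ⟨D, hD⟩ := exists_forall_mem_closure_smul 𝒜 ℳ hgen hTF
  refine ⟨D, fun k hk e => ?_⟩
  induction e with
  | zero =>
    intro m hm
    exact AddSubgroup.subset_closure ⟨1, SetLike.GradedOne.one_mem, m, hm, (one_smul _ _).symm⟩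
  | succ e ihe =>
    intro m hm
    have h1 := hD (k + e) (le_trans hk (Nat.le_add_right _ _)) m hm
    clear hm
    induction h1 using AddSubgroup.closure_induction with
    | mem x hx =>
      obtain ⟨g, hg, m', hm', rfl⟩ := hx
      have h2 := ihe m' hm'
      -- push through `x ↦ g • x`
      have key : ∀ x ∈ AddSubgroup.closure {x : M | ∃ a ∈ 𝒜 e, ∃ m' ∈ ℳ k, x = a • m'},
          g • x ∈ AddSubgroup.closure {x : M | ∃ a ∈ 𝒜 (e + 1), ∃ m' ∈ ℳ k, x = a • m'} := by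
        intro x hx
        induction hx using AddSubgroup.closure_induction with
        | mem x hx =>
          obtain ⟨a, ha, m'', hm'', rfl⟩ := hx
          refine AddSubgroup.subset_closure ⟨g * a, ?_, m'', hm'', (mul_smul _ _ _).symm⟩
          have := SetLike.GradedMul.mul_mem (A := 𝒜) hg ha
          rwa [add_comm] at this
        | zero => rw [smul_zero]; exact zero_mem _
        | add x y _ _ hx hy => rw [smul_add]; exact add_mem hx hy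
        | neg x _ hx => rw [smul_neg]; exact neg_mem hx
      exact key _ h2
    | zero => exact zero_mem _
    | add x y _ _ hx hy => exact add_mem hx hy
    | neg x _ hx => exact neg_mem hx


theorem gval_add (n : ℤ) (s s' : Γ(GrMod.tilde 𝒜 ℳ n, (⊤ : (Proj 𝒜).Opens)))
    (y : ProjectiveSpectrum 𝒜) :
    gval 𝒜 ℳ n (s + s') y = gval 𝒜 ℳ n s y + gval 𝒜 ℳ n s' y := rfl

theorem gval_neg (n : ℤ) (s : Γ(GrMod.tilde 𝒜 ℳ n, (⊤ : (Proj 𝒜).Opens)))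
    (y : ProjectiveSpectrum 𝒜) :
    gval 𝒜 ℳ n (-s) y = -gval 𝒜 ℳ n s y := rfl

/-- the global section `(a • m') / 1` as a product. -/
theorem gval_smulSect_globalOf {e k : ℕ} (a : 𝒜 e) (m' : ℳ k) (y : ProjectiveSpectrum 𝒜) :
    gval 𝒜 ℳ ((k : ℤ) + e) (ofSect 𝒜 ℳ ((k : ℤ) + e) ⊤
      (GrMod.smulSect 𝒜 ℳ a (k : ℤ) (op ⊤) (GrMod.globalOf 𝒜 ℳ m'))) y =
      LocalizedModule.mk ((a : A) • (m' : M)) 1 := by
  have h1 : gval 𝒜 ℳ ((k : ℤ) + e) (ofSect 𝒜 ℳ ((k : ℤ) + e) ⊤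
      (GrMod.smulSect 𝒜 ℳ a (k : ℤ) (op ⊤) (GrMod.globalOf 𝒜 ℳ m'))) y =
      cst 𝒜 (a : A) y • (LocalizedModule.mk (m' : M) 1 : GrMod.LocMod 𝒜 (M := M) y) := rfl
  rw [h1, cst_smul_mk]

/-- sections in the subgroup generated by the `a • Γ(M(k)~)` realizing the elements of `S_e M_k`. -/
theorem exists_mem_iSup_range (k e : ℕ) (x : M)
    (hx : x ∈ AddSubgroup.closure {x : M | ∃ a ∈ 𝒜 e, ∃ m' ∈ ℳ k, x = a • m'}) :
    ∃ s' : GrMod.sect 𝒜 ℳ ((k : ℤ) + e) (op ⊤),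
      s' ∈ (⨆ a : 𝒜 e, (GrMod.smulSect 𝒜 ℳ a (k : ℤ)
        (op (⊤ : Opens (ProjectiveSpectrum.top 𝒜)))).range) ∧
      ∀ y, gval 𝒜 ℳ ((k : ℤ) + e) (ofSect 𝒜 ℳ _ ⊤ s') y = LocalizedModule.mk x 1 := by
  induction hx using AddSubgroup.closure_induction with
  | mem x hx =>
    obtain ⟨a, ha, m', hm', rfl⟩ := hx
    refine ⟨GrMod.smulSect 𝒜 ℳ ⟨a, ha⟩ (k : ℤ) (op ⊤) (GrMod.globalOf 𝒜 ℳ ⟨m', hm'⟩), ?_,
      fun y => gval_smulSect_globalOf 𝒜 ℳ ⟨a, ha⟩ ⟨m', hm'⟩ y⟩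
    exact AddSubgroup.mem_iSup_of_mem (⟨a, ha⟩ : 𝒜 e) ⟨_, rfl⟩
  | zero =>
    refine ⟨0, zero_mem _, fun y => ?_⟩
    rw [LocalizedModule.zero_mk]
    rfl
  | add x y _ _ hx hy =>
    obtain ⟨s₁, hs₁, hv₁⟩ := hx
    obtain ⟨s₂, hs₂, hv₂⟩ := hy
    refine ⟨s₁ + s₂, add_mem hs₁ hs₂, fun z => ?_⟩
    have : gval 𝒜 ℳ ((k : ℤ) + e) (ofSect 𝒜 ℳ _ ⊤ (s₁ + s₂)) z =
        gval 𝒜 ℳ _ (ofSect 𝒜 ℳ _ ⊤ s₁) z + gval 𝒜 ℳ _ (ofSect 𝒜 ℳ _ ⊤ s₂) z := rfl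
    rw [this, hv₁ z, hv₂ z]
    exact ((LocalizedModule.mkLinearMap _ M).map_add x y).symm
  | neg x _ hx =>
    obtain ⟨s₁, hs₁, hv₁⟩ := hx
    refine ⟨-s₁, neg_mem hs₁, fun z => ?_⟩
    have : gval 𝒜 ℳ ((k : ℤ) + e) (ofSect 𝒜 ℳ _ ⊤ (-s₁)) z =
        -gval 𝒜 ℳ _ (ofSect 𝒜 ℳ _ ⊤ s₁) z := rfl
    rw [this, hv₁ z]
    exact ((LocalizedModule.mkLinearMap _ M).map_neg x).symm

/-- if every global section of `M(k+e)~` is `m / 1` and `M_{k+e} = S_e M_k`, then `Γ(M(k+e)~)` is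
generated by the `a • Γ(M(k)~)`. -/
theorem iSup_range_smulSect_eq_top_of (k e : ℕ)
    (hsurj : ∀ s : Γ(GrMod.tilde 𝒜 ℳ ((k : ℤ) + e), (⊤ : (Proj 𝒜).Opens)),
      ∃ m ∈ ℳ (k + e), ∀ y, gval 𝒜 ℳ ((k : ℤ) + e) s y = LocalizedModule.mk m 1)
    (hgenM : ∀ m ∈ ℳ (k + e),
      m ∈ AddSubgroup.closure {x : M | ∃ a ∈ 𝒜 e, ∃ m' ∈ ℳ k, x = a • m'}) :
    (⨆ a : 𝒜 e, (GrMod.smulSect 𝒜 ℳ a (k : ℤ)
      (op (⊤ : Opens (ProjectiveSpectrum.top 𝒜)))).range) = ⊤ := by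
  have hall : ∀ s : GrMod.sect 𝒜 ℳ ((k : ℤ) + e) (op ⊤),
      s ∈ (⨆ a : 𝒜 e, (GrMod.smulSect 𝒜 ℳ a (k : ℤ)
        (op (⊤ : Opens (ProjectiveSpectrum.top 𝒜)))).range) := by
    intro s
    obtain ⟨m, hm, hval⟩ := hsurj (ofSect 𝒜 ℳ ((k : ℤ) + e) ⊤ s)
    obtain ⟨s', hs', hval'⟩ := exists_mem_iSup_range 𝒜 ℳ k e m (hgenM m hm)
    have hss : s = s' := by
      have h1 : ofSect 𝒜 ℳ ((k : ℤ) + e) ⊤ s = ofSect 𝒜 ℳ _ ⊤ s' :=
        gext 𝒜 ℳ _ _ _ (fun y => (hval y).trans (hval' y).symm)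
      exact h1
    exact hss ▸ hs'
  exact eq_top_iff.mpr (fun s _ => hall s)

set_option maxHeartbeats 1000000 in
/-- **eventual generation of the sections of the `M(n)~`**: there is `k` such that for every `e`
the group `Γ(Proj, M(k+e)~)` is generated by the `a • Γ(Proj, M(k)~)`, `a ∈ S_e`. -/
theorem exists_iSup_range_smulSect_eq_top [IsNoetherianRing A]
    (hgen : (HomogeneousIdeal.irrelevant 𝒜).toIdeal = Ideal.span (𝒜 1 : Set A))
    (hTF : ∃ k : ℕ, (Submodule.span A (⋃ i ∈ Set.Ici k, (ℳ i : Set M))).FG) :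
    ∃ k : ℕ, ∀ e : ℕ,
      (⨆ a : 𝒜 e, (GrMod.smulSect 𝒜 ℳ a (k : ℤ)
        (op (⊤ : Opens (ProjectiveSpectrum.top 𝒜)))).range) = ⊤ := by
  obtain ⟨N, hN⟩ := good_of_TF 𝒜 ℳ hTF
  obtain ⟨D, hD⟩ := exists_forall_mem_closure_smul_add 𝒜 ℳ hgen hTF
  obtain ⟨k, hkN, hkD⟩ : ∃ k : ℕ, N ≤ k ∧ D ≤ k := ⟨max N D, le_max_left _ _, le_max_right _ _⟩
  refine ⟨k, fun e => ?_⟩
  have hke : ((k : ℤ) + e) = ((k + e : ℕ) : ℤ) := by push_cast; rfl
  exact iSup_range_smulSect_eq_top_of 𝒜 ℳ k e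
    (fun s => (hN (k + e) (le_trans hkN (Nat.le_add_right _ _))).2 ((k : ℤ) + e) hke s)
    (fun m hm => hD k hkD e m hm)

end Groth.Agent.Lib.Helper27AlphaGen
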