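import Groth.Agent.Lib.Helper2GrModQCoh

/-!
# Exactness of `M ↦ M(n)~` on sections over `D₊(f)` (helper27, on helper2's `GrMod` ports)
-/

set_option autoImplicit false
universe u

open CategoryTheory CategoryTheory.Limits AlgebraicGeometry TopologicalSpace Opposite

namespace Groth.Agent.Lib.Helper27GrModExact

open Groth.Agent.Lib.Helper2GrModSect

variable {A σ : Type u} [CommRing A] [SetLike σ A] [AddSubgroupClass σ A] (𝒜 : ℕ → σ)
  [GradedRing 𝒜]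
variable {M₁ τ₁ : Type u} [AddCommGroup M₁] [Module A M₁] [SetLike τ₁ M₁] [AddSubgroupClass τ₁ M₁]
  (ℳ₁ : ℕ → τ₁) [SetLike.GradedSMul 𝒜 ℳ₁] [DirectSum.Decomposition ℳ₁]
variable {M₂ τ₂ : Type u} [AddCommGroup M₂] [Module A M₂] [SetLike τ₂ M₂] [AddSubgroupClass τ₂ M₂]
  (ℳ₂ : ℕ → τ₂) [SetLike.GradedSMul 𝒜 ℳ₂] [DirectSum.Decomposition ℳ₂]

omit [SetLike.GradedSMul 𝒜 ℳ₁] [SetLike.GradedSMul 𝒜 ℳ₂] in
/-- a degree-preserving linear map commutes with taking homogeneous components. -/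
theorem decompose_map (u : M₁ →ₗ[A] M₂) (hu : ∀ (i : ℕ) (m : M₁), m ∈ ℳ₁ i → u m ∈ ℳ₂ i)
    (x : M₁) (j : ℕ) :
    (DirectSum.decompose ℳ₂ (u x) j : M₂) = u (DirectSum.decompose ℳ₁ x j : M₁) := by
  classical
  conv_lhs => rw [← DirectSum.sum_support_decompose ℳ₁ x, map_sum, DirectSum.decompose_sum,
    DFinsupp.finset_sum_apply, AddSubmonoidClass.coe_finset_sum]
  by_cases hj : j ∈ (DirectSum.decompose ℳ₁ x).support
  · rw [Finset.sum_eq_single j]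
    · exact DirectSum.decompose_of_mem_same ℳ₂ (hu j _ (DirectSum.decompose ℳ₁ x j).2)
    · intro i _ hij
      exact DirectSum.decompose_of_mem_ne ℳ₂ (hu i _ (DirectSum.decompose ℳ₁ x i).2) hij
    · intro h
      exact (h hj).elim
  · have h0 : (DirectSum.decompose ℳ₁ x j : M₁) = 0 := by
      have := DFinsupp.notMem_support_iff.mp hj
      rw [this]
      rfl
    rw [h0, map_zero]
    apply Finset.sum_eq_zero
    intro i hi
    have hij : i ≠ j := fun h => hj (h ▸ hi)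
    exact DirectSum.decompose_of_mem_ne ℳ₂ (hu i _ (DirectSum.decompose ℳ₁ x i).2) hij


variable {M₃ τ₃ : Type u} [AddCommGroup M₃] [Module A M₃] [SetLike τ₃ M₃] [AddSubgroupClass τ₃ M₃]
  (ℳ₃ : ℕ → τ₃) [SetLike.GradedSMul 𝒜 ℳ₃] [DirectSum.Decomposition ℳ₃]

theorem secVal_map_app (u : M₁ →ₗ[A] M₂) (hu : ∀ (i : ℕ) (m : M₁), m ∈ ℳ₁ i → u m ∈ ℳ₂ i) (n : ℤ)
    (W : (Proj 𝒜).Opens) (s : Γ(GrMod.tilde 𝒜 ℳ₁ n, W)) (y : ProjectiveSpectrum 𝒜) (hy : y ∈ W) :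
    secVal 𝒜 ℳ₂ n W ((GrMod.map 𝒜 u hu n).app W s) y hy =
      GrMod.locMap u y (secVal 𝒜 ℳ₁ n W s y hy) := rfl

theorem exact_app_basicOpen (u : M₁ →ₗ[A] M₂) (hu : ∀ (i : ℕ) (m : M₁), m ∈ ℳ₁ i → u m ∈ ℳ₂ i)
    (v : M₂ →ₗ[A] M₃) (hv : ∀ (i : ℕ) (m : M₂), m ∈ ℳ₂ i → v m ∈ ℳ₃ i)
    (hex : Function.Exact u v) (n : ℤ) {d : ℕ} (hd : 0 < d) (f : A) (hf : f ∈ 𝒜 d) :
    Function.Exact ((GrMod.map 𝒜 u hu n).app (Proj.basicOpen 𝒜 f))
      ((GrMod.map 𝒜 v hv n).app (Proj.basicOpen 𝒜 f)) := by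
  intro s₂
  constructor
  · intro hs₂
    obtain ⟨k, i, ⟨m, hm⟩, hi, hval⟩ := exists_global (toSect 𝒜 ℳ₂ n _ s₂) hd hf
    -- `v m` is killed by a power of `f`
    have hvm : ∀ y : ProjectiveSpectrum 𝒜, f ∉ y.asHomogeneousIdeal →
        ∃ a : A, a ∉ y.asHomogeneousIdeal ∧ a • v m = 0 := by
      intro y hy
      have hyU : y ∈ Proj.basicOpen 𝒜 f := (ProjectiveSpectrum.mem_basicOpen 𝒜 f y).mpr hy
      have h1 := congrArg (fun t => secVal 𝒜 ℳ₃ n _ t y hyU) hs₂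
      simp only at h1
      rw [secVal_map_app, secVal_zero] at h1
      have h2 : secVal 𝒜 ℳ₂ n _ s₂ y hyU = (LocalizedModule.mk m
          (⟨f ^ k, fun h => hy (y.isPrime.mem_of_pow_mem k h)⟩ :
            y.asHomogeneousIdeal.toIdeal.primeCompl) : GrMod.LocMod 𝒜 (M := M₂) y) :=
        hval ⟨y, hyU⟩
      rw [h2, GrMod.locMap_mk] at h1
      have h3 := (LocalizedModule.mk_eq (M := M₃) (S := y.asHomogeneousIdeal.toIdeal.primeCompl)
        (m := v m) (m' := 0) (s := ⟨f ^ k, fun h => hy (y.isPrime.mem_of_pow_mem k h)⟩)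
        (s' := 1)).mp (h1.trans (LocalizedModule.zero_mk 1).symm)
      obtain ⟨c, hc⟩ := h3
      refine ⟨c.1, c.2, ?_⟩
      have hc' : c • (1 : y.asHomogeneousIdeal.toIdeal.primeCompl) • v m = 0 := by
        rw [hc, smul_zero, smul_zero]
      rw [one_smul] at hc'
      exact hc'
    obtain ⟨N, hN⟩ := exists_pow_smul_eq_zero 𝒜 ℳ₃ hd hf (hv i m hm) hvm
    have hN' : v (f ^ N • m) = 0 := by rw [map_smul]; exact hN N le_rfl
    obtain ⟨m₁, hm₁⟩ := (hex (f ^ N • m)).mp hN'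
    have hfNm : f ^ N • m ∈ ℳ₂ (N • d + i) :=
      SetLike.GradedSMul.smul_mem (SetLike.pow_mem_graded N hf) hm
    have hcomp : u (DirectSum.decompose ℳ₁ m₁ (N • d + i) : M₁) = f ^ N • m := by
      rw [← decompose_map ℳ₁ ℳ₂ u hu, hm₁, DirectSum.decompose_of_mem_same ℳ₂ hfNm]
    have hW : ∀ y : (Proj.basicOpen 𝒜 f : Opens (ProjectiveSpectrum.top 𝒜)),
        f ^ (k + N) ∉ y.1.asHomogeneousIdeal := fun y h =>
      (ProjectiveSpectrum.mem_basicOpen 𝒜 f y.1).mp y.2 (y.1.isPrime.mem_of_pow_mem _ h)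
    have hdeg : ((N • d + i : ℕ) : ℤ) = (((k + N) • d : ℕ) : ℤ) + n := by
      simp only [smul_eq_mul]
      push_cast
      rw [hi]
      ring
    refine ⟨ofSect 𝒜 ℳ₁ n _ (fracOn 𝒜 ℳ₁ n _ (DirectSum.decompose ℳ₁ m₁ (N • d + i)).2
      (SetLike.pow_mem_graded (k + N) hf) hdeg hW), ?_⟩
    apply sec_ext
    intro y hy
    have hfy : f ∉ y.asHomogeneousIdeal := (ProjectiveSpectrum.mem_basicOpen 𝒜 f y).mp hy
    rw [secVal_map_app]
    have h2 : secVal 𝒜 ℳ₂ n _ s₂ y hy = (LocalizedModule.mk m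
        (⟨f ^ k, fun h => hfy (y.isPrime.mem_of_pow_mem k h)⟩ :
          y.asHomogeneousIdeal.toIdeal.primeCompl) : GrMod.LocMod 𝒜 (M := M₂) y) :=
      hval ⟨y, hy⟩
    rw [h2]
    change GrMod.locMap u y (LocalizedModule.mk _ _) = _
    rw [GrMod.locMap_mk, hcomp, LocalizedModule.mk_eq]
    refine ⟨1, ?_⟩
    rw [one_smul, one_smul]
    change f ^ k • f ^ N • m = f ^ (k + N) • m
    rw [smul_smul, pow_add]
  · rintro ⟨s₁, rfl⟩
    apply sec_ext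
    intro y hy
    rw [secVal_map_app, secVal_map_app, secVal_zero]
    induction secVal 𝒜 ℳ₁ n _ s₁ y hy using LocalizedModule.induction_on with
    | h m s =>
      rw [GrMod.locMap_mk, GrMod.locMap_mk, hex.apply_apply_eq_zero, LocalizedModule.zero_mk]

end Groth.Agent.Lib.Helper27GrModExact
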