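import Mathlib
import Groth.Prelude.Def_RelProj3
import Groth.Agent.Lib.Helper2RelTwistGen
import Groth.Agent.Lib.Helper2GrModMap
import Groth.Agent.Lib.Helper23Serre

/-!
# Monomorphisms / epimorphisms between modules glued from charts on a relative Proj (helper2)
-/

set_option autoImplicit false
universe u
open CategoryTheory Limits AlgebraicGeometry TopologicalSpace Opposite

namespace Groth.Agent.Lib.Helper2.RelTildeMonoEpi

open RelProj Groth.Agent.Lib.Helper2.Push Groth.Agent.Lib.Helper2.RelTildeQCoh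
  Groth.Agent.Lib.Helper2.RelTwistGen

theorem mono_of_app_injective {Y : Scheme.{u}} {M N : Y.Modules} (φ : M ⟶ N)
    (h : ∀ U : Y.Opens, Function.Injective (φ.app U)) : Mono φ := by
  apply Functor.mono_of_mono_map (Scheme.Modules.toPresheaf Y)
  apply (config := { allowSynthFailures := true }) NatTrans.mono_of_mono_app
  intro U
  rw [AddCommGrpCat.mono_iff_injective]
  exact h U.unop

variable {P S : Scheme.{u}} {𝒮 : RelProj.QCGrAlg S} (p : P ⟶ S)
  (chart : ∀ (U : S.Opens) (hU : IsAffineOpen U), (((p ⁻¹ᵁ U : P.Opens) : Scheme.{u}) ≅ Proj (𝒮.deg U hU)))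
  (F G : P.Modules)
  (T T' : ∀ (U : S.Opens) (hU : IsAffineOpen U), (Proj (𝒮.deg U hU)).Modules)
  (lam : ∀ (U : S.Opens) (hU : IsAffineOpen U),
    F ⟶ (Scheme.Modules.pushforward (RelProj.emb p chart U hU)).obj (T U hU))
  (lam' : ∀ (U : S.Opens) (hU : IsAffineOpen U),
    G ⟶ (Scheme.Modules.pushforward (RelProj.emb p chart U hU)).obj (T' U hU))
  (θ : ∀ (U : S.Opens) (hU : IsAffineOpen U), T U hU ⟶ T' U hU)
  (ut : F ⟶ G)
  (hut : ∀ (U : S.Opens) (hU : IsAffineOpen U),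
    ut ≫ lam' U hU = lam U hU ≫ (Scheme.Modules.pushforward (RelProj.emb p chart U hU)).map (θ U hU))

include hut in
theorem lam'_ut (U : S.Opens) (hU : IsAffineOpen U) (W : P.Opens) (s : Γ(F, W)) :
    (lam' U hU).app W (ut.app W s) =
      (θ U hU).app ((RelProj.emb p chart U hU) ⁻¹ᵁ W)
        (show Γ(T U hU, (RelProj.emb p chart U hU) ⁻¹ᵁ W) from (lam U hU).app W s) :=
  congrArg (fun φ => φ.app W s) (hut U hU)

include hut in
theorem mono_of_chart_injective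
    (hFinj : ∀ (U : S.Opens) (hU : IsAffineOpen U) (W : P.Opens), W ≤ p ⁻¹ᵁ U →
      Function.Injective ((lam U hU).app W))
    (hθ : ∀ (U : S.Opens) (hU : IsAffineOpen U) (O : (Proj (𝒮.deg U hU)).Opens),
      Function.Injective ((θ U hU).app O)) : Mono ut := by
  apply mono_of_app_injective
  intro W
  rw [injective_iff_map_eq_zero]
  intro s hs
  refine Groth.Agent.Lib.Helper2.QcPush.section_eq_zero_of_cover F W s fun x hx => ?_
  obtain ⟨⟨U, hU⟩, hxU⟩ := exists_affine_mem_preimage p x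
  have hxU' : x ∈ p ⁻¹ᵁ U := hxU
  refine ⟨W ⊓ p ⁻¹ᵁ U, inf_le_left, ⟨hx, hxU'⟩, ?_⟩
  apply hFinj U hU _ inf_le_right
  refine Eq.trans ?_ (map_zero _).symm
  apply hθ U hU
  refine Eq.trans ?_ (map_zero _).symm
  refine (lam'_ut p chart F G T T' lam lam' θ ut hut U hU _ _).symm.trans ?_
  rw [app_map' ut, hs, map_zero, map_zero]
  rfl

include hut in
theorem epi_of_chart_locally_surjective
    (hGinj : ∀ (U : S.Opens) (hU : IsAffineOpen U) (W : P.Opens), W ≤ p ⁻¹ᵁ U →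
      Function.Injective ((lam' U hU).app W))
    (hFsurj : ∀ (U : S.Opens) (hU : IsAffineOpen U) (W : P.Opens), W ≤ p ⁻¹ᵁ U →
      Function.Surjective ((lam U hU).app W))
    (hθ : ∀ (U : S.Opens) (hU : IsAffineOpen U) (O : (Proj (𝒮.deg U hU)).Opens) (t : Γ(T' U hU, O))
      (y : Proj (𝒮.deg U hU)), y ∈ O → ∃ (O' : (Proj (𝒮.deg U hU)).Opens) (hO' : O' ≤ O), y ∈ O' ∧
        ∃ σ : Γ(T U hU, O'), (θ U hU).app O' σ = (T' U hU).presheaf.map (homOfLE hO').op t) :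
    Epi ut := by
  apply Groth.Agent.Lib.Helper23.Serre.epi_of_locally_surjective
  intro V t x hx
  obtain ⟨⟨U, hU⟩, hxU⟩ := exists_affine_mem_preimage p x
  have hxU' : x ∈ p ⁻¹ᵁ U := hxU
  obtain ⟨y, hy⟩ := le_opensRange_emb p chart U hU hxU'
  have hy' : (RelProj.emb p chart U hU) y = x := hy
  have hyW : y ∈ (RelProj.emb p chart U hU) ⁻¹ᵁ (V ⊓ p ⁻¹ᵁ U) := by
    change (RelProj.emb p chart U hU) y ∈ V ⊓ p ⁻¹ᵁ U
    rw [hy']; exact ⟨hx, hxU'⟩
  obtain ⟨O', hO', hyO', σ, hσ⟩ := hθ U hU ((RelProj.emb p chart U hU) ⁻¹ᵁ (V ⊓ p ⁻¹ᵁ U))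
    ((lam' U hU).app (V ⊓ p ⁻¹ᵁ U) (G.presheaf.map (homOfLE (inf_le_left : V ⊓ p ⁻¹ᵁ U ≤ V)).op t)) y hyW
  have hpre : (RelProj.emb p chart U hU) ⁻¹ᵁ ((RelProj.emb p chart U hU) ''ᵁ O') = O' :=
    (RelProj.emb p chart U hU).preimage_image_eq O'
  have hV'W : (RelProj.emb p chart U hU) ''ᵁ O' ≤ V ⊓ p ⁻¹ᵁ U := by
    rintro _ ⟨z, hz, rfl⟩
    exact hO' hz
  have hV'U : (RelProj.emb p chart U hU) ''ᵁ O' ≤ p ⁻¹ᵁ U := hV'W.trans inf_le_right
  obtain ⟨s, hs⟩ := hFsurj U hU _ hV'U ((T U hU).presheaf.map (homOfLE (le_of_eq hpre)).op σ)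
  refine ⟨(RelProj.emb p chart U hU) ''ᵁ O', hV'W.trans inf_le_left, ⟨y, hyO', hy'⟩, s, ?_⟩
  apply hGinj U hU _ hV'U
  refine (lam'_ut p chart F G T T' lam lam' θ ut hut U hU _ s).trans ?_
  have h1 : (show Γ(T U hU, (RelProj.emb p chart U hU) ⁻¹ᵁ ((RelProj.emb p chart U hU) ''ᵁ O')) from
      (lam U hU).app _ s) = (T U hU).presheaf.map (homOfLE (le_of_eq hpre)).op σ := hs
  rw [h1, app_map' (θ U hU), hσ]
  have h2 := app_map' (lam' U hU) (homOfLE hV'W)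
    (G.presheaf.map (homOfLE (inf_le_left : V ⊓ p ⁻¹ᵁ U ≤ V)).op t)
  have h3 : G.presheaf.map (homOfLE hV'W).op
      (G.presheaf.map (homOfLE (inf_le_left : V ⊓ p ⁻¹ᵁ U ≤ V)).op t) =
      G.presheaf.map (homOfLE (hV'W.trans inf_le_left)).op t := by
    rw [← ConcreteCategory.comp_apply, ← Functor.map_comp]
    rfl
  rw [h3] at h2
  rw [h2]
  rw [← ConcreteCategory.comp_apply, ← Functor.map_comp]
  rfl

end Groth.Agent.Lib.Helper2.RelTildeMonoEpi
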