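import Mathlib
import Groth.Prelude.Def_RelProj3
import Groth.Agent.Lib.Helper2RelTildeMonoEpi
import Groth.Agent.Lib.Helper27GrModExact
import Groth.Agent.Lib.Helper2ModExact

/-!
# Exactness of sequences of modules glued from charts on a relative Proj (helper2)

* `exact_of_locally_exact` : a complex of `O_X`-modules that is locally exact on sections is exact;
* `exists_basicOpen_le` : the `D₊(f)`, `f` homogeneous of positive degree, form a basis of `Proj`;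
* `map_locally_exact` : local exactness on sections of `M₁(n)~ → M₂(n)~ → M₃(n)~`;
* `exact_of_chart_locally_exact` : the chart-glued criterion.
-/

set_option autoImplicit false
universe u
open CategoryTheory Limits AlgebraicGeometry TopologicalSpace Opposite

namespace Groth.Agent.Lib.Helper2.RelTildeExact

open RelProj Groth.Agent.Lib.Helper2.Push Groth.Agent.Lib.Helper2.RelTildeQCoh
  Groth.Agent.Lib.Helper2.RelTwistGen Groth.Agent.Lib.Helper2.RelTildeMonoEpi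

/-- a complex of modules that is locally exact on sections is exact. -/
theorem exact_of_locally_exact {X : Scheme.{u}} (S : ShortComplex X.Modules)
    (h : ∀ (V : X.Opens) (s : Γ(S.X₂, V)), S.g.app V s = 0 → ∀ x : X, x ∈ V →
      ∃ (W : X.Opens) (hW : W ≤ V), x ∈ W ∧ ∃ t : Γ(S.X₁, W),
        S.f.app W t = S.X₂.presheaf.map (homOfLE hW).op s) : S.Exact := by
  rw [S.exact_iff_epi_toCycles]
  apply Groth.Agent.Lib.Helper23.Serre.epi_of_locally_surjective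
  intro V z x hx
  have h0 : S.g.app V (S.iCycles.app V z) = 0 := by
    have : S.iCycles ≫ S.g = 0 := S.iCycles_g
    have h1 := congrArg (fun φ => φ.app V z) this
    exact h1
  obtain ⟨W, hW, hxW, t, ht⟩ := h V (S.iCycles.app V z) h0 x hx
  refine ⟨W, hW, hxW, t, ?_⟩
  apply Groth.Agent.Lib.Helper2.ModExact.app_injective_of_mono S.iCycles W
  have h2 : S.iCycles.app W (S.toCycles.app W t) = S.f.app W t := by
    have : S.toCycles ≫ S.iCycles = S.f := S.toCycles_i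
    exact congrArg (fun φ => φ.app W t) this
  rw [h2, ht, app_map' S.iCycles]

section absolute

variable {A σ : Type u} [CommRing A] [SetLike σ A] [AddSubgroupClass σ A] (𝒜 : ℕ → σ)
  [GradedRing 𝒜]

/-- the `D₊(f)`, `f` homogeneous of positive degree, form a basis of `Proj`. -/
theorem exists_basicOpen_le (O : (Proj 𝒜).Opens) (y : ProjectiveSpectrum 𝒜) (hy : y ∈ O) :
    ∃ (d : ℕ) (f : A), 0 < d ∧ f ∈ 𝒜 d ∧ y ∈ Proj.basicOpen 𝒜 f ∧ Proj.basicOpen 𝒜 f ≤ O := by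
  classical
  obtain ⟨_, ⟨r, rfl⟩, hyr, hrO⟩ :=
    (ProjectiveSpectrum.isTopologicalBasis_basic_opens 𝒜).exists_subset_of_mem_open hy O.2
  have hry : r ∉ y.asHomogeneousIdeal := (ProjectiveSpectrum.mem_basicOpen 𝒜 r y).mp hyr
  obtain ⟨i, hi⟩ : ∃ i, (DirectSum.decompose 𝒜 r i : A) ∉ y.asHomogeneousIdeal := by
    by_contra hcon
    push Not at hcon
    apply hry
    rw [← DirectSum.sum_support_decompose 𝒜 r]
    exact Ideal.sum_mem _ fun i _ => hcon i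
  obtain ⟨e, g, he, hg, hgy⟩ := Groth.Agent.Lib.Helper2GrModSect.exists_homogeneous_pos_not_mem 𝒜 y
  refine ⟨i + e, (DirectSum.decompose 𝒜 r i : A) * g, by omega,
    SetLike.mul_mem_graded (SetLike.coe_mem _) hg, ?_, ?_⟩
  · refine (ProjectiveSpectrum.mem_basicOpen 𝒜 _ y).mpr fun h => ?_
    rcases y.isPrime.mem_or_mem h with h | h
    · exact hi h
    · exact hgy h
  · intro z hz
    apply hrO
    refine (ProjectiveSpectrum.mem_basicOpen 𝒜 r z).mpr fun h => ?_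
    apply (ProjectiveSpectrum.mem_basicOpen 𝒜 _ z).mp hz
    exact Ideal.mul_mem_right _ _ (z.asHomogeneousIdeal.isHomogeneous i h)

variable {M₁ τ₁ : Type u} [AddCommGroup M₁] [Module A M₁] [SetLike τ₁ M₁] [AddSubgroupClass τ₁ M₁]
  (ℳ₁ : ℕ → τ₁) [SetLike.GradedSMul 𝒜 ℳ₁] [DirectSum.Decomposition ℳ₁]
variable {M₂ τ₂ : Type u} [AddCommGroup M₂] [Module A M₂] [SetLike τ₂ M₂] [AddSubgroupClass τ₂ M₂]
  (ℳ₂ : ℕ → τ₂) [SetLike.GradedSMul 𝒜 ℳ₂] [DirectSum.Decomposition ℳ₂]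
variable {M₃ τ₃ : Type u} [AddCommGroup M₃] [Module A M₃] [SetLike τ₃ M₃] [AddSubgroupClass τ₃ M₃]
  (ℳ₃ : ℕ → τ₃) [SetLike.GradedSMul 𝒜 ℳ₃] [DirectSum.Decomposition ℳ₃]

/-- local exactness on sections of `M₁(n)~ → M₂(n)~ → M₃(n)~`. -/
theorem map_locally_exact (u : M₁ →ₗ[A] M₂) (hu : ∀ (i : ℕ) (m : M₁), m ∈ ℳ₁ i → u m ∈ ℳ₂ i)
    (v : M₂ →ₗ[A] M₃) (hv : ∀ (i : ℕ) (m : M₂), m ∈ ℳ₂ i → v m ∈ ℳ₃ i)
    (hex : Function.Exact u v) (n : ℤ) (O : (Proj 𝒜).Opens) (s : Γ(GrMod.tilde 𝒜 ℳ₂ n, O))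
    (hs : (GrMod.map 𝒜 v hv n).app O s = 0) (y : ProjectiveSpectrum 𝒜) (hy : y ∈ O) :
    ∃ (O' : (Proj 𝒜).Opens) (hO' : O' ≤ O), y ∈ O' ∧ ∃ t : Γ(GrMod.tilde 𝒜 ℳ₁ n, O'),
      (GrMod.map 𝒜 u hu n).app O' t = (GrMod.tilde 𝒜 ℳ₂ n).presheaf.map (homOfLE hO').op s := by
  obtain ⟨d, f, hd, hf, hyf, hfO⟩ := exists_basicOpen_le 𝒜 O y hy
  refine ⟨Proj.basicOpen 𝒜 f, hfO, hyf, ?_⟩
  have h0 : (GrMod.map 𝒜 v hv n).app (Proj.basicOpen 𝒜 f)
      ((GrMod.tilde 𝒜 ℳ₂ n).presheaf.map (homOfLE hfO).op s) = 0 := by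
    rw [app_map' (GrMod.map 𝒜 v hv n), hs, map_zero]
  exact (Groth.Agent.Lib.Helper27GrModExact.exact_app_basicOpen 𝒜 ℳ₁ ℳ₂ ℳ₃ u hu v hv hex n hd f hf
    _).mp h0

end absolute

section relative

variable {P S : Scheme.{u}} {𝒮 : RelProj.QCGrAlg S} (p : P ⟶ S)
  (chart : ∀ (U : S.Opens) (hU : IsAffineOpen U), (((p ⁻¹ᵁ U : P.Opens) : Scheme.{u}) ≅ Proj (𝒮.deg U hU)))
  (F₁ F₂ F₃ : P.Modules)
  (T₁ T₂ T₃ : ∀ (U : S.Opens) (hU : IsAffineOpen U), (Proj (𝒮.deg U hU)).Modules)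
  (lam₁ : ∀ (U : S.Opens) (hU : IsAffineOpen U),
    F₁ ⟶ (Scheme.Modules.pushforward (RelProj.emb p chart U hU)).obj (T₁ U hU))
  (lam₂ : ∀ (U : S.Opens) (hU : IsAffineOpen U),
    F₂ ⟶ (Scheme.Modules.pushforward (RelProj.emb p chart U hU)).obj (T₂ U hU))
  (lam₃ : ∀ (U : S.Opens) (hU : IsAffineOpen U),
    F₃ ⟶ (Scheme.Modules.pushforward (RelProj.emb p chart U hU)).obj (T₃ U hU))
  (θu : ∀ (U : S.Opens) (hU : IsAffineOpen U), T₁ U hU ⟶ T₂ U hU)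
  (θv : ∀ (U : S.Opens) (hU : IsAffineOpen U), T₂ U hU ⟶ T₃ U hU)
  (ut : F₁ ⟶ F₂) (vt : F₂ ⟶ F₃)
  (hut : ∀ (U : S.Opens) (hU : IsAffineOpen U),
    ut ≫ lam₂ U hU = lam₁ U hU ≫ (Scheme.Modules.pushforward (RelProj.emb p chart U hU)).map (θu U hU))
  (hvt : ∀ (U : S.Opens) (hU : IsAffineOpen U),
    vt ≫ lam₃ U hU = lam₂ U hU ≫ (Scheme.Modules.pushforward (RelProj.emb p chart U hU)).map (θv U hU))

include hut hvt in
theorem exact_of_chart_locally_exact (w : ut ≫ vt = 0)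
    (h₂inj : ∀ (U : S.Opens) (hU : IsAffineOpen U) (W : P.Opens), W ≤ p ⁻¹ᵁ U →
      Function.Injective ((lam₂ U hU).app W))
    (h₁surj : ∀ (U : S.Opens) (hU : IsAffineOpen U) (W : P.Opens), W ≤ p ⁻¹ᵁ U →
      Function.Surjective ((lam₁ U hU).app W))
    (hθ : ∀ (U : S.Opens) (hU : IsAffineOpen U) (O : (Proj (𝒮.deg U hU)).Opens) (s : Γ(T₂ U hU, O)),
      (θv U hU).app O s = 0 → ∀ (y : Proj (𝒮.deg U hU)), y ∈ O →
        ∃ (O' : (Proj (𝒮.deg U hU)).Opens) (hO' : O' ≤ O), y ∈ O' ∧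
        ∃ t : Γ(T₁ U hU, O'), (θu U hU).app O' t = (T₂ U hU).presheaf.map (homOfLE hO').op s) :
    (ShortComplex.mk ut vt w).Exact := by
  apply exact_of_locally_exact
  intro V s hs x hx
  change vt.app V s = 0 at hs
  obtain ⟨⟨U, hU⟩, hxU⟩ := exists_affine_mem_preimage p x
  have hxU' : x ∈ p ⁻¹ᵁ U := hxU
  obtain ⟨y, hy⟩ := le_opensRange_emb p chart U hU hxU'
  have hy' : (RelProj.emb p chart U hU) y = x := hy
  have hyW : y ∈ (RelProj.emb p chart U hU) ⁻¹ᵁ (V ⊓ p ⁻¹ᵁ U) := by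
    change (RelProj.emb p chart U hU) y ∈ V ⊓ p ⁻¹ᵁ U
    rw [hy']; exact ⟨hx, hxU'⟩
  -- the restriction of `s` to `V ⊓ p⁻¹U`, seen in the chart
  let s' : Γ(F₂, V ⊓ p ⁻¹ᵁ U) := F₂.presheaf.map (homOfLE (inf_le_left : V ⊓ p ⁻¹ᵁ U ≤ V)).op s
  have hs' : vt.app (V ⊓ p ⁻¹ᵁ U) s' = 0 := by
    change vt.app _ (F₂.presheaf.map _ s) = 0
    rw [app_map' vt, hs, map_zero]
  have h0 : (θv U hU).app ((RelProj.emb p chart U hU) ⁻¹ᵁ (V ⊓ p ⁻¹ᵁ U))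
      (show Γ(T₂ U hU, (RelProj.emb p chart U hU) ⁻¹ᵁ (V ⊓ p ⁻¹ᵁ U)) from
        (lam₂ U hU).app (V ⊓ p ⁻¹ᵁ U) s') = 0 := by
    rw [← lam'_ut p chart F₂ F₃ T₂ T₃ lam₂ lam₃ θv vt hvt U hU _ s', hs', map_zero]
    rfl
  obtain ⟨O', hO', hyO', σ, hσ⟩ := hθ U hU _ _ h0 y hyW
  have hpre : (RelProj.emb p chart U hU) ⁻¹ᵁ ((RelProj.emb p chart U hU) ''ᵁ O') = O' :=
    (RelProj.emb p chart U hU).preimage_image_eq O'
  have hV'W : (RelProj.emb p chart U hU) ''ᵁ O' ≤ V ⊓ p ⁻¹ᵁ U := by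
    rintro _ ⟨z, hz, rfl⟩
    exact hO' hz
  have hV'U : (RelProj.emb p chart U hU) ''ᵁ O' ≤ p ⁻¹ᵁ U := hV'W.trans inf_le_right
  obtain ⟨t, ht⟩ := h₁surj U hU _ hV'U ((T₁ U hU).presheaf.map (homOfLE (le_of_eq hpre)).op σ)
  refine ⟨(RelProj.emb p chart U hU) ''ᵁ O', hV'W.trans inf_le_left, ⟨y, hyO', hy'⟩, t, ?_⟩
  change ut.app _ t = F₂.presheaf.map _ s
  apply h₂inj U hU _ hV'U
  refine (lam'_ut p chart F₁ F₂ T₁ T₂ lam₁ lam₂ θu ut hut U hU _ t).trans ?_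
  have h1 : (show Γ(T₁ U hU, (RelProj.emb p chart U hU) ⁻¹ᵁ ((RelProj.emb p chart U hU) ''ᵁ O')) from
      (lam₁ U hU).app _ t) = (T₁ U hU).presheaf.map (homOfLE (le_of_eq hpre)).op σ := ht
  rw [h1, app_map' (θu U hU), hσ]
  have h2 := app_map' (lam₂ U hU) (homOfLE hV'W) s'
  have h3 : F₂.presheaf.map (homOfLE hV'W).op s' =
      F₂.presheaf.map (homOfLE (hV'W.trans inf_le_left)).op s := by
    change F₂.presheaf.map _ (F₂.presheaf.map _ s) = _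
    rw [← ConcreteCategory.comp_apply, ← Functor.map_comp]
    rfl
  rw [h3] at h2
  rw [h2]
  rw [← ConcreteCategory.comp_apply, ← Functor.map_comp]
  rfl

end relative

end Groth.Agent.Lib.Helper2.RelTildeExact
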