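import Mathlib
import Groth.Prelude.Def_RelProj3
import Groth.Agent.Lib.Helper2RelTildeExact

/-!
# `M(n)~ ⟶ Φ_* N(n)~` is an isomorphism for `N = M` (restriction of scalars) (helper2)
-/

set_option autoImplicit false
universe u
open CategoryTheory Limits AlgebraicGeometry TopologicalSpace Opposite
open scoped HomogeneousIdeal

namespace Groth.Agent.Lib.Helper2.GrModComapIso

open Groth.Agent.Lib.Helper2GrModSect Groth.Agent.Lib.Helper2.RelTildeQCoh

variable {A σ : Type u} [CommRing A] [SetLike σ A] [AddSubgroupClass σ A] {𝒜 : ℕ → σ} [GradedRing 𝒜]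
variable {B σ' : Type u} [CommRing B] [SetLike σ' B] [AddSubgroupClass σ' B] {ℬ : ℕ → σ'} [GradedRing ℬ]
variable (ψ : 𝒜 →+*ᵍ ℬ) (hψ : ℬ₊ ≤ (𝒜₊).map ψ)
variable {M τ : Type u} [AddCommGroup M] [Module A M] [SetLike τ M] [AddSubgroupClass τ M] (ℳ : ℕ → τ)
  [SetLike.GradedSMul 𝒜 ℳ] [DirectSum.Decomposition ℳ]
variable {N τ' : Type u} [AddCommGroup N] [Module B N] [SetLike τ' N] [AddSubgroupClass τ' N] (𝒩 : ℕ → τ')
  [SetLike.GradedSMul ℬ 𝒩] [DirectSum.Decomposition 𝒩]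
variable (v : M →ₛₗ[ψ.toRingHom] N) (hv : ∀ (i : ℕ) (m : M), m ∈ ℳ i → v m ∈ 𝒩 i)

omit [SetLike.GradedSMul 𝒜 ℳ] [SetLike.GradedSMul ℬ 𝒩] in
include hv in
/-- a degree-preserving additive map commutes with taking homogeneous components. -/
theorem decompose_map (x : M) (j : ℕ) :
    (DirectSum.decompose 𝒩 (v x) j : N) = v (DirectSum.decompose ℳ x j : M) := by
  classical
  conv_lhs => rw [← DirectSum.sum_support_decompose ℳ x, map_sum, DirectSum.decompose_sum,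
    DFinsupp.finsetSum_apply, AddSubmonoidClass.coe_finsetSum]
  by_cases hj : j ∈ (DirectSum.decompose ℳ x).support
  · rw [Finset.sum_eq_single j]
    · exact DirectSum.decompose_of_mem_same 𝒩 (hv j _ (DirectSum.decompose ℳ x j).2)
    · intro i _ hij
      exact DirectSum.decompose_of_mem_ne 𝒩 (hv i _ (DirectSum.decompose ℳ x i).2) hij
    · intro h
      exact (h hj).elim
  · have h0 : (DirectSum.decompose ℳ x j : M) = 0 := by
      have := DFinsupp.notMem_support_iff.mp hj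
      rw [this]
      rfl
    rw [h0, map_zero]
    apply Finset.sum_eq_zero
    intro i hi
    have hij : i ≠ j := fun h => hj (h ▸ hi)
    exact DirectSum.decompose_of_mem_ne 𝒩 (hv i _ (DirectSum.decompose ℳ x i).2) hij

omit [SetLike.GradedSMul 𝒜 ℳ] [SetLike.GradedSMul ℬ 𝒩] in
include hv in
/-- the inverse of an injective degree-preserving map preserves degrees. -/
theorem mem_of_map_mem (hinj : Function.Injective v) {i : ℕ} {m : M} (h : v m ∈ 𝒩 i) : m ∈ ℳ i := by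
  classical
  have h1 : ∀ j, j ≠ i → (DirectSum.decompose ℳ m j : M) = 0 := by
    intro j hj
    apply hinj
    rw [map_zero, ← decompose_map ψ ℳ 𝒩 v hv m j]
    exact DirectSum.decompose_of_mem_ne 𝒩 h (Ne.symm hj)
  have h2 : m = (DirectSum.decompose ℳ m i : M) := by
    conv_lhs => rw [← DirectSum.sum_support_decompose ℳ m]
    by_cases hi : i ∈ (DirectSum.decompose ℳ m).support
    · rw [Finset.sum_eq_single i (fun j _ hj => h1 j hj) (fun h => (h hi).elim)]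
    · have h0 : (DirectSum.decompose ℳ m i : M) = 0 := by
        have := DFinsupp.notMem_support_iff.mp hi
        rw [this]
        rfl
      rw [h0]
      apply Finset.sum_eq_zero
      intro j hj
      exact h1 j (fun h => hi (h ▸ hj))
  rw [h2]
  exact SetLike.coe_mem _

variable (n : ℤ)

include hv in
/-- injectivity of `comap` on sections when `v` is injective. -/
theorem comap_app_injective (hinj : Function.Injective v) (O : (Proj 𝒜).Opens) :
    Function.Injective ((GrMod.comap ψ hψ v hv n).app O) := by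
  rw [injective_iff_map_eq_zero]
  intro s hs
  apply sec_ext
  intro y hy
  rw [secVal_zero]
  obtain ⟨d, f, hd, hf, hyf, hfO⟩ := Groth.Agent.Lib.Helper2.RelTildeExact.exists_basicOpen_le 𝒜 O y hy
  obtain ⟨k, i, ⟨m, hm⟩, hi, hval⟩ := exists_global (𝒜 := 𝒜) (ℳ := ℳ) (n := n) (f := f)
    (toSect 𝒜 ℳ n _ ((GrMod.tilde 𝒜 ℳ n).presheaf.map (homOfLE hfO).op s)) hd hf
  have hψf : ψ f ∈ ℬ d := ψ.map_mem hf
  -- the values of the image vanish
  have hzero : ∀ y' : ProjectiveSpectrum ℬ, ψ f ∉ y'.asHomogeneousIdeal →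
      ∃ u : B, u ∉ y'.asHomogeneousIdeal ∧ u • v m = 0 := by
    intro y' hy'
    have hy'O : y' ∈ Proj.map ψ hψ ⁻¹ᵁ O := hfO ((ProjectiveSpectrum.mem_basicOpen 𝒜 f _).mpr hy')
    have h1 := GrMod.comap_app_val ψ hψ v hv n O s ⟨y', hy'O⟩
    rw [hs] at h1
    have h2 : GrMod.val s ⟨ProjectiveSpectrum.comap ψ hψ y', hy'O⟩ =
        LocalizedModule.mk m (⟨f ^ k, fun h => hy' ((ProjectiveSpectrum.comap ψ hψ y').isPrime.mem_of_pow_mem k h)⟩ :
          (ProjectiveSpectrum.comap ψ hψ y').asHomogeneousIdeal.toIdeal.primeCompl) :=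
      hval ⟨ProjectiveSpectrum.comap ψ hψ y', (ProjectiveSpectrum.mem_basicOpen 𝒜 f _).mpr hy'⟩
    rw [h2, GrMod.locModMap_mk] at h1
    have h3 : LocalizedModule.mk (v m) (⟨ψ (f ^ k), fun h => hy' ((ProjectiveSpectrum.comap ψ hψ y').isPrime.mem_of_pow_mem k h)⟩ :
        y'.asHomogeneousIdeal.toIdeal.primeCompl) = 0 := h1.symm
    rw [Groth.Agent.Lib.Helper2.RelTildeInj.mk_eq_zero_iff'] at h3
    obtain ⟨t, ht⟩ := h3
    exact ⟨t.1, t.2, ht⟩
  obtain ⟨K, hK⟩ := exists_pow_smul_eq_zero ℬ 𝒩 hd hψf (hv i m hm) hzero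
  have hK' : f ^ K • m = 0 := by
    apply hinj
    rw [map_zero, LinearMap.map_smulₛₗ]
    have := hK K le_rfl
    simpa [map_pow] using this
  have hyf' : f ∉ y.asHomogeneousIdeal := (ProjectiveSpectrum.mem_basicOpen 𝒜 f y).mp hyf
  have h4 : secVal 𝒜 ℳ n O s y hy = LocalizedModule.mk m (⟨f ^ k, fun h => hyf' (y.isPrime.mem_of_pow_mem k h)⟩ :
      y.asHomogeneousIdeal.toIdeal.primeCompl) :=
    hval ⟨y, hyf⟩
  rw [h4, Groth.Agent.Lib.Helper2.RelTildeInj.mk_eq_zero_iff']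
  exact ⟨(⟨f ^ K, fun h => hyf' (y.isPrime.mem_of_pow_mem K h)⟩ :
    y.asHomogeneousIdeal.toIdeal.primeCompl), hK'⟩

include hv in
/-- local surjectivity of `comap` on sections when `v` is bijective. -/
theorem comap_locally_surjective (hbij : Function.Bijective v) (O : (Proj 𝒜).Opens)
    (t : Γ((Scheme.Modules.pushforward (Proj.map ψ hψ)).obj (GrMod.tilde ℬ 𝒩 n), O))
    (y : Proj 𝒜) (hy : y ∈ O) :
    ∃ (O' : (Proj 𝒜).Opens) (hO' : O' ≤ O), y ∈ O' ∧ ∃ s : Γ(GrMod.tilde 𝒜 ℳ n, O'),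
      (GrMod.comap ψ hψ v hv n).app O' s =
        ((Scheme.Modules.pushforward (Proj.map ψ hψ)).obj (GrMod.tilde ℬ 𝒩 n)).presheaf.map
          (homOfLE hO').op t := by
  obtain ⟨d, f, hd, hf, hyf, hfO⟩ := Groth.Agent.Lib.Helper2.RelTildeExact.exists_basicOpen_le 𝒜 O y hy
  have hψf : ψ f ∈ ℬ d := ψ.map_mem hf
  have hle : Proj.basicOpen ℬ (ψ f) ≤ Proj.map ψ hψ ⁻¹ᵁ O := (Proj.map ψ hψ).preimage_mono hfO
  let t' : Γ(GrMod.tilde ℬ 𝒩 n, Proj.basicOpen ℬ (ψ f)) :=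
    (GrMod.tilde ℬ 𝒩 n).presheaf.map (homOfLE hle).op t
  obtain ⟨k, i, ⟨n', hn'⟩, hi, hval⟩ := exists_global (𝒜 := ℬ) (ℳ := 𝒩) (n := n) (f := ψ f)
    (toSect ℬ 𝒩 n _ t') hd hψf
  obtain ⟨m, rfl⟩ := hbij.2 n'
  have hm : m ∈ ℳ i := mem_of_map_mem ψ ℳ 𝒩 v hv hbij.1 hn'
  have hfk : f ^ k ∈ 𝒜 (k • d) := SetLike.pow_mem_graded k hf
  have hij : (i : ℤ) = ((k • d : ℕ) : ℤ) + n := by
    rw [hi, smul_eq_mul]; push_cast; ring
  have hW : ∀ z : (Proj.basicOpen 𝒜 f : (Proj 𝒜).Opens), f ^ k ∉ z.1.asHomogeneousIdeal :=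
    fun z => pow_not_mem k z
  refine ⟨Proj.basicOpen 𝒜 f, hfO, hyf, ofSect 𝒜 ℳ n _ (fracOn 𝒜 ℳ n _ hm hfk hij hW), ?_⟩
  change (show Γ(GrMod.tilde ℬ 𝒩 n, Proj.basicOpen ℬ (ψ f)) from
    (GrMod.comap ψ hψ v hv n).app (Proj.basicOpen 𝒜 f)
      (ofSect 𝒜 ℳ n _ (fracOn 𝒜 ℳ n _ hm hfk hij hW))) = t'
  apply sec_ext
  intro y' hy'
  have h1 : secVal ℬ 𝒩 n _ t' y' hy' =
      LocalizedModule.mk (v m) (⟨(ψ f) ^ k, fun h => (ProjectiveSpectrum.mem_basicOpen ℬ (ψ f) y').mp hy'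
        (y'.isPrime.mem_of_pow_mem k h)⟩ : y'.asHomogeneousIdeal.toIdeal.primeCompl) := hval ⟨y', hy'⟩
  rw [h1]
  have h2 : secVal ℬ 𝒩 n _ (show Γ(GrMod.tilde ℬ 𝒩 n, Proj.basicOpen ℬ (ψ f)) from
      (GrMod.comap ψ hψ v hv n).app (Proj.basicOpen 𝒜 f)
        (ofSect 𝒜 ℳ n _ (fracOn 𝒜 ℳ n _ hm hfk hij hW))) y' hy' =
      GrMod.locModMap ψ hψ v y' (LocalizedModule.mk m (⟨f ^ k, hW ⟨_, hy'⟩⟩ :
        (ProjectiveSpectrum.comap ψ hψ y').asHomogeneousIdeal.toIdeal.primeCompl)) := rfl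
  rw [h2, GrMod.locModMap_mk, LocalizedModule.mk_eq]
  refine ⟨1, ?_⟩
  simp only [one_smul, Submonoid.smul_def, map_pow]

include hv in
/-- **`M(n)~ ⟶ Φ_*(N(n)~)` is an isomorphism when `v : M → N` is bijective.** -/
theorem isIso_comap (hbij : Function.Bijective v) : IsIso (GrMod.comap ψ hψ v hv n) := by
  haveI : Mono (GrMod.comap ψ hψ v hv n) :=
    Groth.Agent.Lib.Helper2.RelTildeMonoEpi.mono_of_app_injective _
      (comap_app_injective ψ hψ ℳ 𝒩 v hv n hbij.1)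
  haveI : Epi (GrMod.comap ψ hψ v hv n) :=
    Groth.Agent.Lib.Helper23.Serre.epi_of_locally_surjective _
      (fun V t x hx => comap_locally_surjective ψ hψ ℳ 𝒩 v hv n hbij V t x hx)
  exact isIso_of_mono_of_epi _

end Groth.Agent.Lib.Helper2.GrModComapIso
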