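import Mathlib
import Groth.Prelude.Def_RelProj3
import Groth.Agent.Lib.Helper2RelTildeExist
import Groth.Agent.Lib.Helper18BaseFun
import Groth.Agent.Lib.Helper6QCohQcqs

/-!
# The comparison maps `α_n` over a relative Proj, as a relation (helper27)

For a graded module `ℳ` over a quasi-coherent graded algebra `𝒮` on `S`, a relative Proj `p : P ⟶ S` and the
module `F = (ℳ(n))~` on `P` (with its chart identifications `lam`), the relation `IsA U m s` says that the section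
`s` of `F` over `p⁻¹(U)` has value `m / 1` at every point of the chart `Proj 𝒮(U)`.  Basic properties: existence,
uniqueness, additivity, linearity over the functions of the base, compatibility with restriction to basic opens.
-/

set_option autoImplicit false
universe u
open CategoryTheory Limits AlgebraicGeometry TopologicalSpace Opposite
open scoped HomogeneousIdeal

namespace Groth.Agent.Lib.Helper27AlphaRelA

open RelProj Groth.Agent.Lib.Helper6 Groth.Agent.Lib.Helper2.Push Groth.Agent.Lib.Helper2.RelTildeQCoh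
  Groth.Agent.Lib.Helper2.RelTildeGlue Groth.Agent.Lib.Helper2GrModSect

variable {S P : Scheme.{u}} {𝒮 : RelProj.QCGrAlg S} (p : P ⟶ S)
  (chart : ∀ (U : S.Opens) (hU : IsAffineOpen U), (((p ⁻¹ᵁ U : P.Opens) : Scheme.{u}) ≅ Proj (𝒮.deg U hU)))
  (ℳ : RelProj.GrModule 𝒮) (n : ℕ) (F : P.Modules)
  (lam : ∀ (U : S.Opens) (hU : IsAffineOpen U),
      F ⟶ (Scheme.Modules.pushforward (RelProj.emb p chart U hU)).obj
        (GrMod.tilde (𝒮.deg U hU) (ℳ.deg U hU) (n : ℤ)))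

/-- `s` is the section of `F` over `p⁻¹(U)` with values `m / 1` in the chart over `U`. -/
def IsA (U : S.Opens) (hU : IsAffineOpen U) (m : ℳ.mod.val.obj (op U)) (s : Γ(F, p ⁻¹ᵁ U)) : Prop :=
  ∀ y : ↥(RelProj.emb p chart U hU ⁻¹ᵁ (p ⁻¹ᵁ U)),
    GrMod.val (V := RelProj.emb p chart U hU ⁻¹ᵁ (p ⁻¹ᵁ U)) ((lam U hU).app (p ⁻¹ᵁ U) s) y =
      LocalizedModule.mk m 1

variable {p chart ℳ n F lam}

theorem isA_congr {V V' : S.Opens} (h : V = V') (hV : IsAffineOpen V) (hV' : IsAffineOpen V')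
    (m : ℳ.mod.val.obj (op V)) (s : Γ(F, p ⁻¹ᵁ V)) (m' : ℳ.mod.val.obj (op V')) (s' : Γ(F, p ⁻¹ᵁ V'))
    (hm : HEq m m') (hs : HEq s s') :
    IsA p chart ℳ n F lam V hV m s ↔ IsA p chart ℳ n F lam V' hV' m' s' := by
  subst h
  rw [eq_of_heq hm, eq_of_heq hs]

section basic

variable (hF : RelProj.IsRelTilde 𝒮 p chart ℳ (n : ℤ) F lam)

include hF in
theorem exists_isA (U : S.Opens) (hU : IsAffineOpen U) (m : ℳ.mod.val.obj (op U))
    (hm : m ∈ ℳ.deg U hU n) : ∃ s, IsA p chart ℳ n F lam U hU m s := by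
  let t₀ := GrMod.alpha (𝒮.deg U hU) (ℳ.deg U hU) n ⟨m, hm⟩
  let t : Γ(GrMod.tilde (𝒮.deg U hU) (ℳ.deg U hU) (n : ℤ), RelProj.emb p chart U hU ⁻¹ᵁ (p ⁻¹ᵁ U)) :=
    (GrMod.tilde (𝒮.deg U hU) (ℳ.deg U hU) (n : ℤ)).presheaf.map (homOfLE le_top).op t₀
  obtain ⟨s, hs⟩ := (hF.bijective U hU _ le_rfl).2 t
  refine ⟨s, fun y => ?_⟩
  rw [hs]
  rfl

include hF in
theorem isA_unique (U : S.Opens) (hU : IsAffineOpen U) (m : ℳ.mod.val.obj (op U))
    (s s' : Γ(F, p ⁻¹ᵁ U)) (h : IsA p chart ℳ n F lam U hU m s) (h' : IsA p chart ℳ n F lam U hU m s') :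
    s = s' := by
  apply (hF.bijective U hU _ le_rfl).1
  apply Groth.Agent.Lib.Helper2.ProjLocSectMod.tilde_ext
  intro y
  exact (h y).trans (h' y).symm

end basic

theorem isA_zero (U : S.Opens) (hU : IsAffineOpen U) : IsA p chart ℳ n F lam U hU 0 0 := by
  intro y
  rw [map_zero]
  exact (LocalizedModule.zero_mk _).symm

theorem isA_add (U : S.Opens) (hU : IsAffineOpen U) {m m' : ℳ.mod.val.obj (op U)}
    {s s' : Γ(F, p ⁻¹ᵁ U)} (h : IsA p chart ℳ n F lam U hU m s) (h' : IsA p chart ℳ n F lam U hU m' s') :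
    IsA p chart ℳ n F lam U hU (m + m') (s + s') := by
  intro y
  rw [map_add]
  refine Eq.trans (congrArg₂ (· + ·) (h y) (h' y)) ?_
  exact ((LocalizedModule.mkLinearMap _ _).map_add m m').symm

theorem isA_sub (U : S.Opens) (hU : IsAffineOpen U) {m m' : ℳ.mod.val.obj (op U)}
    {s s' : Γ(F, p ⁻¹ᵁ U)} (h : IsA p chart ℳ n F lam U hU m s) (h' : IsA p chart ℳ n F lam U hU m' s') :
    IsA p chart ℳ n F lam U hU (m - m') (s - s') := by
  intro y
  rw [map_sub]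
  refine Eq.trans (congrArg₂ (· - ·) (h y) (h' y)) ?_
  exact ((LocalizedModule.mkLinearMap _ _).map_sub m m').symm

/-- the `O_S`-module underlying `ℳ`. -/
noncomputable abbrev MOS (ℳ : RelProj.GrModule 𝒮) : S.Modules := (AMod.toOS 𝒮.toQCAlg).obj ℳ.mod

theorem mos_smul (U : S.Opens) (a : Γ(S, U)) (m : ℳ.mod.val.obj (op U)) :
    (a • (show Γ(MOS ℳ, U) from m) : Γ(MOS ℳ, U)) = ((𝒮.str.app (op U)).hom a • m : ℳ.mod.val.obj (op U)) :=
  rfl

theorem mos_res {U V : S.Opens} (hU : IsAffineOpen U) (hV : IsAffineOpen V) (hle : V ≤ U)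
    (m : ℳ.mod.val.obj (op U)) :
    ((MOS ℳ).presheaf.map (homOfLE hle).op (show Γ(MOS ℳ, U) from m) : Γ(MOS ℳ, V)) =
      ℳ.res hU hV hle m := rfl

theorem isA_smul (hP : RelProj.IsRelProj 𝒮 p chart) (U : S.Opens) (hU : IsAffineOpen U) (a : Γ(S, U))
    {m : ℳ.mod.val.obj (op U)} {s : Γ(F, p ⁻¹ᵁ U)} (h : IsA p chart ℳ n F lam U hU m s) :
    IsA p chart ℳ n F lam U hU ((𝒮.str.app (op U)).hom a • m) ((p.app U a) • s) := by
  intro y
  have hsm : GrMod.val (V := RelProj.emb p chart U hU ⁻¹ᵁ (p ⁻¹ᵁ U))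
      ((lam U hU).app (p ⁻¹ᵁ U) ((p.app U a) • s)) y =
      (funVal (𝒮.deg U hU) _ ((RelProj.emb p chart U hU).app (p ⁻¹ᵁ U) (p.app U a)) y.1 y.2).val •
        GrMod.val (V := RelProj.emb p chart U hU ⁻¹ᵁ (p ⁻¹ᵁ U)) ((lam U hU).app (p ⁻¹ᵁ U) s) y := by
    rw [Scheme.Modules.Hom.app_smul, Groth.Agent.Lib.Helper2.Push.pushforward_smul]
    rfl
  rw [hsm, h y, Groth.Agent.Helper18BaseFun.funVal_emb_app hP U hU a y.1 y.2,
    ← Localization.mk_one_eq_algebraMap, LocalizedModule.mk_smul_mk, one_mul]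

theorem isA_res (hF : RelProj.IsRelTilde 𝒮 p chart ℳ (n : ℤ) F lam) (hP : RelProj.IsRelProj 𝒮 p chart)
    (U : S.Opens) (hU : IsAffineOpen U) (r : Γ(S, U))
    {m : ℳ.mod.val.obj (op U)} {s : Γ(F, p ⁻¹ᵁ U)} (h : IsA p chart ℳ n F lam U hU m s) :
    IsA p chart ℳ n F lam (S.basicOpen r) (hU.basicOpen r)
      (ℳ.res hU (hU.basicOpen r) (S.basicOpen_le r) m)
      (F.presheaf.map (homOfLE (p.preimage_mono (S.basicOpen_le r))).op s) := by
  intro y
  have hyU : (RelProj.emb p chart (S.basicOpen r) (hU.basicOpen r)).base y.1 ∈ p ⁻¹ᵁ U :=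
    p.preimage_mono (S.basicOpen_le r) y.2
  have hy' : (RelProj.emb p chart U hU).base (ProjectiveSpectrum.comap
      (𝒮.res hU (hU.basicOpen r) (S.basicOpen_le r)) (𝒮.irrelevant_le_map U hU r) y.1) ∈ p ⁻¹ᵁ U := by
    have := emb_comap p chart hP U hU r y.1
    rw [show (RelProj.emb p chart U hU).base (ProjectiveSpectrum.comap
      (𝒮.res hU (hU.basicOpen r) (S.basicOpen_le r)) (𝒮.irrelevant_le_map U hU r) y.1) =
      (RelProj.emb p chart (S.basicOpen r) (hU.basicOpen r)).base y.1 from this]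
    exact hyU
  have h1 := hF.compat U hU r (p ⁻¹ᵁ U) s y.1 hyU hy'
  rw [app_map']
  refine Eq.trans ?_ (h1.trans ?_)
  · rfl
  · rw [h ⟨_, hy'⟩, GrMod.locModMap_mk]
    exact Groth.Agent.Lib.Helper2.RelTildeExist.mk_congr_mod _ rfl (map_one _) _ _

theorem isA_res' (hF : RelProj.IsRelTilde 𝒮 p chart ℳ (n : ℤ) F lam) (hP : RelProj.IsRelProj 𝒮 p chart)
    (U : S.Opens) (hU : IsAffineOpen U) (r : Γ(S, U)) (V : S.Opens) (hV : IsAffineOpen V)
    (e : V = S.basicOpen r) (hle : V ≤ U)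
    {m : ℳ.mod.val.obj (op U)} {s : Γ(F, p ⁻¹ᵁ U)} (h : IsA p chart ℳ n F lam U hU m s) :
    IsA p chart ℳ n F lam V hV (ℳ.res hU hV hle m)
      (F.presheaf.map (homOfLE (p.preimage_mono hle)).op s) := by
  subst e
  exact isA_res hF hP U hU r h

theorem smul_mem_deg (U : S.Opens) (hU : IsAffineOpen U) (a : Γ(S, U)) {d : ℕ} {m : ℳ.mod.val.obj (op U)}
    (hm : m ∈ ℳ.deg U hU d) : (𝒮.str.app (op U)).hom a • m ∈ ℳ.deg U hU d := by
  have h := SetLike.GradedSMul.smul_mem (𝒮.str_mem U hU a) hm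
  rwa [vadd_eq_add, zero_add] at h

end Groth.Agent.Lib.Helper27AlphaRelA
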