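import Mathlib
import Groth.Prelude.Def_RelProj3
import Groth.Agent.Lib.Helper27AlphaRelA
import Groth.Agent.Lib.Helper2GrModQCoh

/-!
# The comparison maps `α_n` over a relative Proj: bijectivity as a relation, localisation facts (helper27)
-/

set_option autoImplicit false
universe u
open CategoryTheory Limits AlgebraicGeometry TopologicalSpace Opposite
open scoped HomogeneousIdeal

namespace Groth.Agent.Lib.Helper27AlphaRelB

open RelProj Groth.Agent.Lib.Helper6 Groth.Agent.Lib.Helper2.Push Groth.Agent.Lib.Helper2.RelTildeQCoh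
  Groth.Agent.Lib.Helper2.RelTildeGlue Groth.Agent.Lib.Helper2GrModSect Groth.Agent.Lib.Helper27AlphaRelA
  Groth.Agent.Lib.Helper2.RelTwistGen

variable {S P : Scheme.{u}} {𝒮 : RelProj.QCGrAlg S} (p : P ⟶ S)
  (chart : ∀ (U : S.Opens) (hU : IsAffineOpen U), (((p ⁻¹ᵁ U : P.Opens) : Scheme.{u}) ≅ Proj (𝒮.deg U hU)))
  (ℳ : RelProj.GrModule 𝒮) (n : ℕ) (F : P.Modules)
  (lam : ∀ (U : S.Opens) (hU : IsAffineOpen U),
      F ⟶ (Scheme.Modules.pushforward (RelProj.emb p chart U hU)).obj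
        (GrMod.tilde (𝒮.deg U hU) (ℳ.deg U hU) (n : ℤ)))

/-- bijectivity of `α_n` over the affine open `U`, in terms of the relation `IsA`. -/
def BijA (U : S.Opens) (hU : IsAffineOpen U) : Prop :=
  (∀ m ∈ ℳ.deg U hU n, IsA p chart ℳ n F lam U hU m 0 → m = 0) ∧
  (∀ s : Γ(F, p ⁻¹ᵁ U), ∃ m ∈ ℳ.deg U hU n, IsA p chart ℳ n F lam U hU m s)

variable {p chart ℳ n F lam}

theorem bijA_congr {V V' : S.Opens} (h : V = V') (hV : IsAffineOpen V) (hV' : IsAffineOpen V')
    (hb : BijA p chart ℳ n F lam V hV) : BijA p chart ℳ n F lam V' hV' := by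
  subst h
  exact hb

variable (hF : RelProj.IsRelTilde 𝒮 p chart ℳ (n : ℤ) F lam)

include hF in
theorem bijA_of_bijective (U : S.Opens) (hU : IsAffineOpen U)
    (hb : Function.Bijective (GrMod.alpha (𝒮.deg U hU) (ℳ.deg U hU) n)) :
    BijA p chart ℳ n F lam U hU := by
  have htop : RelProj.emb p chart U hU ⁻¹ᵁ (p ⁻¹ᵁ U) = ⊤ :=
    Groth.Agent.Helper18BaseFun.preimage_emb_eq_top U hU
  constructor
  · intro m hm h
    have h0 : GrMod.alpha (𝒮.deg U hU) (ℳ.deg U hU) n ⟨m, hm⟩ = 0 := by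
      apply Groth.Agent.Lib.Helper2.ProjLocSectMod.tilde_ext
      intro y
      have hy : y.1 ∈ RelProj.emb p chart U hU ⁻¹ᵁ (p ⁻¹ᵁ U) := by rw [htop]; trivial
      have h1 := h ⟨y.1, hy⟩
      rw [map_zero] at h1
      exact h1.symm
    have h2 := hb.1 (h0.trans (map_zero _).symm)
    exact congrArg Subtype.val h2
  · intro s
    let t : Γ(GrMod.tilde (𝒮.deg U hU) (ℳ.deg U hU) (n : ℤ), RelProj.emb p chart U hU ⁻¹ᵁ (p ⁻¹ᵁ U)) :=
      (lam U hU).app (p ⁻¹ᵁ U) s
    let t' : Γ(GrMod.tilde (𝒮.deg U hU) (ℳ.deg U hU) (n : ℤ), ⊤) :=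
      (GrMod.tilde (𝒮.deg U hU) (ℳ.deg U hU) (n : ℤ)).presheaf.map (homOfLE (le_of_eq htop.symm)).op t
    obtain ⟨⟨m, hm⟩, hmt⟩ := hb.2 t'
    refine ⟨m, hm, fun y => ?_⟩
    have h1 := congrArg (fun σ : Γ(GrMod.tilde (𝒮.deg U hU) (ℳ.deg U hU) (n : ℤ), ⊤) =>
      GrMod.val σ ⟨y.1, trivial⟩) hmt
    exact h1.symm

include hF in
theorem bijective_of_bijA (U : S.Opens) (hU : IsAffineOpen U) (hb : BijA p chart ℳ n F lam U hU) :
    Function.Bijective (GrMod.alpha (𝒮.deg U hU) (ℳ.deg U hU) n) := by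
  have htop : RelProj.emb p chart U hU ⁻¹ᵁ (p ⁻¹ᵁ U) = ⊤ :=
    Groth.Agent.Helper18BaseFun.preimage_emb_eq_top U hU
  constructor
  · rw [injective_iff_map_eq_zero]
    intro m hm
    apply Subtype.ext
    refine hb.1 m.1 m.2 (fun y => ?_)
    rw [map_zero]
    have h1 := congrArg (fun σ : Γ(GrMod.tilde (𝒮.deg U hU) (ℳ.deg U hU) (n : ℤ), ⊤) =>
      GrMod.val σ ⟨y.1, trivial⟩) hm
    exact h1.symm
  · intro t'
    let t : Γ(GrMod.tilde (𝒮.deg U hU) (ℳ.deg U hU) (n : ℤ), RelProj.emb p chart U hU ⁻¹ᵁ (p ⁻¹ᵁ U)) :=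
      (GrMod.tilde (𝒮.deg U hU) (ℳ.deg U hU) (n : ℤ)).presheaf.map (homOfLE le_top).op t'
    obtain ⟨s, hs⟩ := (hF.bijective U hU _ le_rfl).2 t
    obtain ⟨m, hm, hms⟩ := hb.2 s
    refine ⟨⟨m, hm⟩, ?_⟩
    apply Groth.Agent.Lib.Helper2.ProjLocSectMod.tilde_ext
    intro y
    have hy : y.1 ∈ RelProj.emb p chart U hU ⁻¹ᵁ (p ⁻¹ᵁ U) := by rw [htop]; trivial
    have h1 := hms ⟨y.1, hy⟩
    rw [hs] at h1
    exact h1.symm

include hF in
theorem isQuasicoherent_F : F.IsQuasicoherent :=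
  isQuasicoherent_of_relCharts p chart F (fun U hU => GrMod.tilde (𝒮.deg U hU) (ℳ.deg U hU) (n : ℤ))
    (fun U hU => isQuasicoherent_tilde (𝒮.deg U hU) (ℳ.deg U hU) (n : ℤ)) lam hF.bijective

omit hF in
theorem finiteType_zero (U : S.Opens) (hU : IsAffineOpen U) (hft : (𝒮.str.app (op U)).hom.FiniteType) :
    Algebra.FiniteType (𝒮.deg U hU 0) (𝒮.presheaf.obj (op U)) := by
  letI : Algebra Γ(S, U) (𝒮.presheaf.obj (op U)) := (𝒮.str.app (op U)).hom.toAlgebra
  letI : Algebra Γ(S, U) (𝒮.deg U hU 0) := (𝒮.strZero U hU).hom.toAlgebra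
  haveI : IsScalarTower Γ(S, U) (𝒮.deg U hU 0) (𝒮.presheaf.obj (op U)) :=
    IsScalarTower.of_algebraMap_eq (fun r => rfl)
  haveI : Algebra.FiniteType Γ(S, U) (𝒮.presheaf.obj (op U)) := hft
  exact Algebra.FiniteType.of_restrictScalars_finiteType Γ(S, U) (𝒮.deg U hU 0) (𝒮.presheaf.obj (op U))

omit hF in
theorem compactSpace_proj (U : S.Opens) (hU : IsAffineOpen U) (hft : (𝒮.str.app (op U)).hom.FiniteType) :
    CompactSpace (Proj (𝒮.deg U hU)) := by
  haveI := finiteType_zero U hU hft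
  exact QuasiCompact.compactSpace_of_compactSpace (Proj.toSpecZero (𝒮.deg U hU))

omit hF in
theorem coe_preimage_eq_range (U : S.Opens) (hU : IsAffineOpen U) :
    ((p ⁻¹ᵁ U : P.Opens) : Set P) = Set.range (RelProj.emb p chart U hU).base := by
  apply Set.Subset.antisymm
  · exact le_opensRange_emb p chart U hU
  · exact opensRange_emb_le p chart U hU

omit hF in
include chart in
theorem isCompact_preimage (U : S.Opens) (hU : IsAffineOpen U) (hft : (𝒮.str.app (op U)).hom.FiniteType) :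
    IsCompact ((p ⁻¹ᵁ U : P.Opens) : Set P) := by
  haveI := compactSpace_proj U hU hft
  rw [coe_preimage_eq_range (chart := chart) U hU]
  exact isCompact_range (RelProj.emb p chart U hU).continuous

omit hF in
include chart in
theorem isQuasiSeparated_preimage (U : S.Opens) (hU : IsAffineOpen U) :
    IsQuasiSeparated ((p ⁻¹ᵁ U : P.Opens) : Set P) := by
  rw [coe_preimage_eq_range (chart := chart) U hU, ← Set.image_univ]
  exact (isQuasiSeparated_univ (α := Proj (𝒮.deg U hU))).image_of_isEmbedding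
    (RelProj.emb p chart U hU).isOpenEmbedding.isEmbedding

include hF in
theorem isLocOn_F (U : S.Opens) (hU : IsAffineOpen U) (hft : (𝒮.str.app (op U)).hom.FiniteType) :
    IsLocOn F (p ⁻¹ᵁ U) := by
  haveI := isQuasicoherent_F hF
  exact ⟨fun f s => exists_extension_of_isCompact_of_isQuasiSeparated F (isCompact_preimage (chart := chart) U hU hft)
      (isQuasiSeparated_preimage (chart := chart) U hU) f s,
    fun f t ht => exists_pow_smul_eq_zero_of_isCompact F (isCompact_preimage (chart := chart) U hU hft) f t ht⟩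

end Groth.Agent.Lib.Helper27AlphaRelB
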