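import Mathlib
import Groth.Prelude.Def_RelProj3
import Groth.Agent.Lib.Helper27AlphaRelB

/-!
# The comparison maps `α_n` over a relative Proj: passage to a basic open (helper27)
-/

set_option autoImplicit false
universe u
open CategoryTheory Limits AlgebraicGeometry TopologicalSpace Opposite
open scoped HomogeneousIdeal

namespace Groth.Agent.Lib.Helper27AlphaRelC

open RelProj Groth.Agent.Lib.Helper6 Groth.Agent.Lib.Helper2.Push Groth.Agent.Lib.Helper2.RelTildeQCoh
  Groth.Agent.Lib.Helper2.RelTildeGlue Groth.Agent.Lib.Helper2GrModSect Groth.Agent.Lib.Helper27AlphaRelA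
  Groth.Agent.Lib.Helper27AlphaRelB Groth.Agent.Lib.Helper2.RelTwistGen

variable {S P : Scheme.{u}} {𝒮 : RelProj.QCGrAlg S} {p : P ⟶ S}
  {chart : ∀ (U : S.Opens) (hU : IsAffineOpen U), (((p ⁻¹ᵁ U : P.Opens) : Scheme.{u}) ≅ Proj (𝒮.deg U hU))}
  {ℳ : RelProj.GrModule 𝒮} {n : ℕ} {F : P.Modules}
  {lam : ∀ (U : S.Opens) (hU : IsAffineOpen U),
      F ⟶ (Scheme.Modules.pushforward (RelProj.emb p chart U hU)).obj
        (GrMod.tilde (𝒮.deg U hU) (ℳ.deg U hU) (n : ℤ))}

theorem res_self {X : Scheme.{u}} (G : X.Modules) {W : X.Opens} (s : Γ(G, W)) :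
    res G (le_refl W) s = s := by
  have : (homOfLE (le_refl W)).op = 𝟙 (op W) := rfl
  change G.presheaf.map (homOfLE (le_refl W)).op s = s
  rw [this, G.presheaf.map_id]
  rfl

theorem app_res (U : S.Opens) {D : S.Opens} (hle : D ≤ U) (a : Γ(S, U)) :
    resf (p.preimage_mono hle) (p.app U a) = p.app D (S.presheaf.map (homOfLE hle).op a) := by
  have h := Scheme.Hom.naturality p (homOfLE hle).op
  exact (congrArg (fun φ => φ a) h).symm

section loc

variable (hLoc : ∀ (U : S.Opens), IsAffineOpen U → IsLocOn F (p ⁻¹ᵁ U))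

include hLoc in
theorem exists_ext (U : S.Opens) (hU : IsAffineOpen U) (r : Γ(S, U))
    (s' : Γ(F, p ⁻¹ᵁ (S.basicOpen r))) :
    ∃ (l : ℕ) (t : Γ(F, p ⁻¹ᵁ U)), res F (p.preimage_mono (S.basicOpen_le r)) t =
      (p.app (S.basicOpen r) (S.presheaf.map (homOfLE (S.basicOpen_le r)).op r)) ^ l • s' := by
  have e : p ⁻¹ᵁ (S.basicOpen r) = P.basicOpen (p.app U r) := Scheme.preimage_basicOpen p r
  obtain ⟨l, t, ht⟩ := (hLoc U hU).exists_extension (p.app U r) (res F (le_of_eq e.symm) s')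
  refine ⟨l, t, ?_⟩
  have h1 := congrArg (res F (le_of_eq e)) ht
  rw [res_res, res_smul, resf_pow, res_res, res_self] at h1
  refine h1.trans ?_
  congr 2
  change resf _ (resf _ (p.app U r)) = _
  rw [resf_resf]
  exact app_res U (S.basicOpen_le r) r

include hLoc in
theorem exists_tors (U : S.Opens) (hU : IsAffineOpen U) (r : Γ(S, U)) (t : Γ(F, p ⁻¹ᵁ U))
    (ht : res F (p.preimage_mono (S.basicOpen_le r)) t = 0) : ∃ l : ℕ, (p.app U r) ^ l • t = 0 := by
  have e : p ⁻¹ᵁ (S.basicOpen r) = P.basicOpen (p.app U r) := Scheme.preimage_basicOpen p r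
  apply (hLoc U hU).exists_pow_smul_eq_zero (p.app U r) t
  have h1 := congrArg (res F (le_of_eq e.symm)) ht
  rw [res_res, res_zero] at h1
  exact h1

end loc

section T1

variable (hF : RelProj.IsRelTilde 𝒮 p chart ℳ (n : ℤ) F lam) (hP : RelProj.IsRelProj 𝒮 p chart)
  (hℳ : Coh.IsQCoh (MOS ℳ)) (hLoc : ∀ (U : S.Opens), IsAffineOpen U → IsLocOn F (p ⁻¹ᵁ U))

omit hF hP hℳ hLoc in
theorem res_str_smul {U D : S.Opens} (hU : IsAffineOpen U) (hD : IsAffineOpen D) (hle : D ≤ U)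
    (a : Γ(S, U)) (m : ℳ.mod.val.obj (op U)) :
    ℳ.res hU hD hle ((𝒮.str.app (op U)).hom a • m) =
      (𝒮.str.app (op D)).hom (S.presheaf.map (homOfLE hle).op a) • ℳ.res hU hD hle m := by
  have h1 := (ℳ.res hU hD hle).map_smulₛₗ ((𝒮.str.app (op U)).hom a) m
  refine h1.trans ?_
  congr 1
  have h2 := 𝒮.str.naturality (homOfLE hle).op
  exact (congrArg (fun φ => φ.hom a) h2).symm

omit hF hP hℳ hLoc in
theorem res_decompose {U D : S.Opens} (hU : IsAffineOpen U) (hD : IsAffineOpen D) (hle : D ≤ U)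
    (m : ℳ.mod.val.obj (op U)) (j : ℕ) :
    ℳ.res hU hD hle (DirectSum.decompose (ℳ.deg U hU) m j : ℳ.mod.val.obj (op U)) =
      (DirectSum.decompose (ℳ.deg D hD) (ℳ.res hU hD hle m) j : ℳ.mod.val.obj (op D)) :=
  (Groth.Agent.Lib.Helper2.GrModComapIso.decompose_map (𝒮.res hU hD hle) (ℳ.deg U hU) (ℳ.deg D hD)
    (ℳ.res hU hD hle) (ℳ.res_mem hU hD hle) m j).symm

include hF hP hℳ hLoc in
/-- **passage to a basic open**: if `α_n` is bijective over `U`, it is bijective over `D(r) ⊆ U`. -/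
theorem bijA_basicOpen (U : S.Opens) (hU : IsAffineOpen U) (hb : BijA p chart ℳ n F lam U hU)
    (r : Γ(S, U)) : BijA p chart ℳ n F lam (S.basicOpen r) (hU.basicOpen r) := by
  classical
  set D := S.basicOpen r with hDdef
  have hD : IsAffineOpen D := hU.basicOpen r
  have hle : D ≤ U := S.basicOpen_le r
  set ρ : Γ(S, D) := S.presheaf.map (homOfLE hle).op r with hρ
  have hρu : IsUnit ρ := S.toRingedSpace.isUnit_res_basicOpen r
  haveI : (MOS ℳ).IsQuasicoherent := hℳ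
  have hlocM := IsLocOn.of_isQuasicoherent hU (MOS ℳ)
  constructor
  · intro m' hm' h0
    obtain ⟨k, m₀, hm₀⟩ := hlocM.exists_extension r (show Γ(MOS ℳ, S.basicOpen r) from m')
    have hm₀' : ℳ.res hU hD hle m₀ = (𝒮.str.app (op D)).hom (ρ ^ k) • m' := hm₀
    set m : ℳ.mod.val.obj (op U) := (DirectSum.decompose (ℳ.deg U hU) m₀ n : ℳ.mod.val.obj (op U)) with hm
    have hmn : m ∈ ℳ.deg U hU n := SetLike.coe_mem _
    have hmem : (𝒮.str.app (op D)).hom (ρ ^ k) • m' ∈ ℳ.deg D hD n := smul_mem_deg D hD (ρ ^ k) hm'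
    have hres : ℳ.res hU hD hle m = (𝒮.str.app (op D)).hom (ρ ^ k) • m' := by
      rw [hm, res_decompose, hm₀', DirectSum.decompose_of_mem_same _ hmem]
    obtain ⟨s, hs⟩ := exists_isA hF U hU m hmn
    have h1 := isA_res hF hP U hU r hs
    rw [hres] at h1
    have h2 := isA_smul hP D hD (ρ ^ k) h0
    rw [smul_zero] at h2
    have h3 := isA_unique hF D hD _ _ _ h1 h2
    obtain ⟨l, hl⟩ := exists_tors hLoc U hU r s h3
    have h4 := isA_smul hP U hU (r ^ l) hs
    have hl' : (p.app U (r ^ l)) • s = 0 := by rw [map_pow]; exact hl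
    rw [hl'] at h4
    have h5 := hb.1 _ (smul_mem_deg U hU (r ^ l) hmn) h4
    have h6 := congrArg (ℳ.res hU hD hle) h5
    rw [res_str_smul, hres, map_zero, smul_smul, ← map_mul, map_pow, ← hρ, ← pow_add] at h6
    have hu : IsUnit ((𝒮.str.app (op D)).hom (ρ ^ (l + k))) := (hρu.pow _).map _
    exact hu.smul_eq_zero.mp h6
  · intro s'
    obtain ⟨l, t, ht⟩ := exists_ext hLoc U hU r s'
    obtain ⟨m, hm, hmt⟩ := hb.2 t
    have h1 := isA_res hF hP U hU r hmt
    obtain ⟨w, hw⟩ := hρu.exists_left_inv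
    have h2 := isA_smul hP D hD (w ^ l) h1
    have h3 : (p.app D (w ^ l)) • (F.presheaf.map (homOfLE (p.preimage_mono (S.basicOpen_le r))).op t) = s' := by
      change (p.app D (w ^ l)) • res F (p.preimage_mono (S.basicOpen_le r)) t = s'
      rw [ht, smul_smul, ← map_pow, ← map_mul, ← mul_pow, hw, one_pow, map_one, one_smul]
    rw [h3] at h2
    exact ⟨_, smul_mem_deg D hD (w ^ l) (ℳ.res_mem hU hD hle n m hm), h2⟩

end T1

end Groth.Agent.Lib.Helper27AlphaRelC
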