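import Mathlib
import Groth.Prelude.Def_RelProj3
import Groth.Agent.Lib.Helper27AlphaRelC
import Groth.Agent.Lib.Helper2QcPush

/-!
# The comparison maps `α_n` over a relative Proj: gluing along a cover by basic opens (helper27)
-/

set_option autoImplicit false
universe u
open CategoryTheory Limits AlgebraicGeometry TopologicalSpace Opposite
open scoped HomogeneousIdeal

namespace Groth.Agent.Lib.Helper27AlphaRelD

open RelProj Groth.Agent.Lib.Helper6 Groth.Agent.Lib.Helper2.Push Groth.Agent.Lib.Helper2.RelTildeQCoh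
  Groth.Agent.Lib.Helper2.RelTildeGlue Groth.Agent.Lib.Helper2GrModSect Groth.Agent.Lib.Helper27AlphaRelA
  Groth.Agent.Lib.Helper27AlphaRelB Groth.Agent.Lib.Helper27AlphaRelC Groth.Agent.Lib.Helper2.RelTwistGen
  Groth.Agent.Lib.Helper2.IsGenCover

variable {S P : Scheme.{u}} {𝒮 : RelProj.QCGrAlg S} {p : P ⟶ S}
  {chart : ∀ (U : S.Opens) (hU : IsAffineOpen U), (((p ⁻¹ᵁ U : P.Opens) : Scheme.{u}) ≅ Proj (𝒮.deg U hU))}
  {ℳ : RelProj.GrModule 𝒮} {n : ℕ} {F : P.Modules}
  {lam : ∀ (U : S.Opens) (hU : IsAffineOpen U),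
      F ⟶ (Scheme.Modules.pushforward (RelProj.emb p chart U hU)).obj
        (GrMod.tilde (𝒮.deg U hU) (ℳ.deg U hU) (n : ℤ))}

variable (hF : RelProj.IsRelTilde 𝒮 p chart ℳ (n : ℤ) F lam) (hP : RelProj.IsRelProj 𝒮 p chart)
  (hℳ : Coh.IsQCoh (MOS ℳ)) (hLoc : ∀ (U : S.Opens), IsAffineOpen U → IsLocOn F (p ⁻¹ᵁ U))

include hF hP hℳ hLoc in
/-- **gluing**: if `α_n` is bijective over the members of a cover of `U` by basic opens, it is bijective over `U`. -/
theorem bijA_of_cover (U : S.Opens) (hU : IsAffineOpen U) {ι : Type u} (r : ι → Γ(S, U))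
    (hcov : ∀ x ∈ U, ∃ j, x ∈ S.basicOpen (r j))
    (hb : ∀ j, BijA p chart ℳ n F lam (S.basicOpen (r j)) (hU.basicOpen (r j))) :
    BijA p chart ℳ n F lam U hU := by
  classical
  have hD : ∀ j, IsAffineOpen (S.basicOpen (r j)) := fun j => hU.basicOpen (r j)
  have hle : ∀ j, S.basicOpen (r j) ≤ U := fun j => S.basicOpen_le (r j)
  constructor
  · intro m hm h
    refine Groth.Agent.Lib.Helper2.QcPush.section_eq_zero_of_cover (MOS ℳ) U
      (show Γ(MOS ℳ, U) from m) (fun x hx => ?_)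
    obtain ⟨j, hj⟩ := hcov x hx
    refine ⟨S.basicOpen (r j), hle j, hj, ?_⟩
    have h1 := isA_res hF hP U hU (r j) h
    rw [map_zero] at h1
    exact (hb j).1 _ (ℳ.res_mem hU (hD j) (hle j) n m hm) h1
  · intro s
    have hex : ∀ j, ∃ mj ∈ ℳ.deg (S.basicOpen (r j)) (hD j) n,
        IsA p chart ℳ n F lam (S.basicOpen (r j)) (hD j) mj
          (res F (p.preimage_mono (hle j)) s) := fun j => (hb j).2 _
    choose mj hmj hAj using hex
    -- compatibility on overlaps
    have hcompat : ∀ j k, res (MOS ℳ) (inf_le_left : S.basicOpen (r j) ⊓ S.basicOpen (r k) ≤ S.basicOpen (r j))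
        (show Γ(MOS ℳ, S.basicOpen (r j)) from mj j) =
        res (MOS ℳ) (inf_le_right : S.basicOpen (r j) ⊓ S.basicOpen (r k) ≤ S.basicOpen (r k))
        (show Γ(MOS ℳ, S.basicOpen (r k)) from mj k) := by
      intro j k
      set V := S.basicOpen (r j) ⊓ S.basicOpen (r k) with hV
      have e1 : V = S.basicOpen (S.presheaf.map (homOfLE (hle j)).op (r k)) :=
        (Scheme.basicOpen_res S (r k) (homOfLE (hle j)).op).symm
      have e2 : V = S.basicOpen (S.presheaf.map (homOfLE (hle k)).op (r j)) := by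
        rw [Scheme.basicOpen_res S (r j) (homOfLE (hle k)).op, hV, inf_comm]
      have hVa : IsAffineOpen V := by
        rw [e1]; exact (hD j).basicOpen _
      have bV : BijA p chart ℳ n F lam V hVa :=
        bijA_congr e1.symm _ hVa (bijA_basicOpen hF hP hℳ hLoc _ (hD j) (hb j) _)
      have A1 := isA_res' hF hP _ (hD j) _ V hVa e1 inf_le_left (hAj j)
      have A2 := isA_res' hF hP _ (hD k) _ V hVa e2 inf_le_right (hAj k)
      have hs12 : F.presheaf.map (homOfLE (p.preimage_mono (inf_le_left : V ≤ S.basicOpen (r j)))).op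
            (res F (p.preimage_mono (hle j)) s) =
          F.presheaf.map (homOfLE (p.preimage_mono (inf_le_right : V ≤ S.basicOpen (r k)))).op
            (res F (p.preimage_mono (hle k)) s) := by
        change res F _ (res F _ s) = res F _ (res F _ s)
        rw [res_res, res_res]
      rw [hs12] at A1
      have A3 := isA_sub V hVa A1 A2
      rw [sub_self] at A3
      have h0 := bV.1 _ (sub_mem (ℳ.res_mem (hD j) hVa inf_le_left n _ (hmj j))
        (ℳ.res_mem (hD k) hVa inf_le_right n _ (hmj k))) A3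
      exact sub_eq_zero.mp h0
    obtain ⟨m₀, hm₀⟩ := exists_section_of_cover (MOS ℳ) U (fun j => S.basicOpen (r j)) hle hcov
      (fun j => (show Γ(MOS ℳ, S.basicOpen (r j)) from mj j)) hcompat
    set m' : ℳ.mod.val.obj (op U) :=
      (DirectSum.decompose (ℳ.deg U hU) (show ℳ.mod.val.obj (op U) from m₀) n : ℳ.mod.val.obj (op U)) with hm'
    have hm'n : m' ∈ ℳ.deg U hU n := SetLike.coe_mem _
    have hres : ∀ j, ℳ.res hU (hD j) (hle j) m' = mj j := by
      intro j
      have h1 : ℳ.res hU (hD j) (hle j) (show ℳ.mod.val.obj (op U) from m₀) = mj j := hm₀ j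
      rw [hm', res_decompose, h1, DirectSum.decompose_of_mem_same _ (hmj j)]
    obtain ⟨s₁, hs₁⟩ := exists_isA hF U hU m' hm'n
    have hss : s₁ = s := by
      rw [← sub_eq_zero]
      refine Groth.Agent.Lib.Helper2.QcPush.section_eq_zero_of_cover F (p ⁻¹ᵁ U) (s₁ - s) (fun x hx => ?_)
      obtain ⟨j, hj⟩ := hcov (p.base x) hx
      refine ⟨p ⁻¹ᵁ (S.basicOpen (r j)), p.preimage_mono (hle j), hj, ?_⟩
      rw [map_sub, sub_eq_zero]
      have h1 := isA_res hF hP U hU (r j) hs₁
      rw [hres j] at h1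
      exact isA_unique hF _ (hD j) _ _ _ h1 (hAj j)
    rw [hss] at hs₁
    exact ⟨m', hm'n, hs₁⟩

end Groth.Agent.Lib.Helper27AlphaRelD
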