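import Mathlib
import Groth.Prelude.Def_RelProj3
import Groth.Agent.Lib.Helper27AlphaRelD
import Groth.Agent.Lib.Helper27AlphaTF
import Groth.Agent.S8258

/-!
# A uniform bound for the bijectivity of `α_n` over all affine opens of a Noetherian base (helper27)
-/

set_option autoImplicit false
universe u
open CategoryTheory Limits AlgebraicGeometry TopologicalSpace Opposite
open scoped HomogeneousIdeal

namespace Groth.Agent.Lib.Helper27AlphaRelE

open RelProj Groth.Agent.Lib.Helper6 Groth.Agent.Lib.Helper2.Push Groth.Agent.Lib.Helper27AlphaRelA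
  Groth.Agent.Lib.Helper27AlphaRelB Groth.Agent.Lib.Helper27AlphaRelC Groth.Agent.Lib.Helper27AlphaRelD

variable {Y : Scheme.{u}}

theorem exists_finite_affine_cover' [CompactSpace Y] : ∃ (t : ℕ) (U : Fin t → Y.Opens),
    (∀ i, IsAffineOpen (U i)) ∧ ∀ x : Y, ∃ i, x ∈ U i := by
  classical
  have hx : ∀ x : Y, ∃ V : Y.Opens, IsAffineOpen V ∧ x ∈ V := fun x => by
    obtain ⟨V, hV, hxV, -⟩ := AlgebraicGeometry.exists_isAffineOpen_mem_and_subset
      (X := Y) (x := x) (U := ⊤) trivial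
    exact ⟨V, hV, hxV⟩
  choose V hV hxV using hx
  obtain ⟨T, hT⟩ := isCompact_univ.elim_finite_subcover
    (fun x : Y => ((V x : Y.Opens) : Set Y))
    (fun x => (V x).2)
    (fun x _ => Set.mem_iUnion.2 ⟨x, hxV x⟩)
  refine ⟨T.card, fun i => V (T.equivFin.symm i : Y), fun i => hV _, ?_⟩
  intro x
  obtain ⟨y, hy⟩ := Set.mem_iUnion.1 (hT (Set.mem_univ x))
  obtain ⟨hyT, hxy⟩ := Set.mem_iUnion.1 hy
  refine ⟨T.equivFin ⟨y, hyT⟩, ?_⟩
  simpa using hxy

theorem isNoetherianRing_sections [IsLocallyNoetherian Y] (𝒮 : RelProj.QCGrAlg Y) (U : Y.Opens)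
    (hU : IsAffineOpen U) (hft : (𝒮.str.app (op U)).hom.FiniteType) :
    IsNoetherianRing (𝒮.presheaf.obj (op U)) := by
  haveI : IsNoetherianRing Γ(Y, U) := IsLocallyNoetherian.component_noetherian ⟨U, hU⟩
  letI : Algebra Γ(Y, U) (𝒮.presheaf.obj (op U)) := (𝒮.str.app (op U)).hom.toAlgebra
  haveI : Algebra.FiniteType Γ(Y, U) (𝒮.presheaf.obj (op U)) := hft
  exact Algebra.FiniteType.isNoetherianRing Γ(Y, U) (𝒮.presheaf.obj (op U))

/-- **uniform bound**: over a Noetherian base, for a quasi-coherent graded algebra of finite type and a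
quasi-coherent graded module satisfying (TF), there is one `N` such that `α_n` is bijective over every affine open
for all `n ≥ N`. -/
theorem exists_uniform_bound [AlgebraicGeometry.IsNoetherian Y] (𝒮 : RelProj.QCGrAlg Y)
    (hft : ∀ (U : Y.Opens) (hU : IsAffineOpen U), (𝒮.str.app (op U)).hom.FiniteType)
    (ℳ : RelProj.GrModule 𝒮) (hℳ : Coh.IsQCoh ((AMod.toOS 𝒮.toQCAlg).obj ℳ.mod)) (hTF : ℳ.IsTF) :
    ∃ N : ℕ, ∀ n : ℕ, N ≤ n → ∀ (U : Y.Opens) (hU : IsAffineOpen U),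
      Function.Bijective (GrMod.alpha (𝒮.deg U hU) (ℳ.deg U hU) n) := by
  classical
  obtain ⟨P, p, chart, hP⟩ := Groth.Agent.S8258.result 𝒮
  obtain ⟨t, V, hV, hVcov⟩ := exists_finite_affine_cover' (Y := Y)
  obtain ⟨k, hk⟩ := hTF
  have hN : ∀ i : Fin t, ∃ N : ℕ, ∀ n : ℕ, N ≤ n →
      Function.Bijective (GrMod.alpha (𝒮.deg (V i) (hV i)) (ℳ.deg (V i) (hV i)) n) := by
    intro i
    haveI := isNoetherianRing_sections 𝒮 (V i) (hV i) (hft _ (hV i))
    exact Groth.Agent.Lib.Helper27AlphaTF.bijective_alpha_of_TF (𝒮.deg (V i) (hV i)) (ℳ.deg (V i) (hV i))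
      ⟨k, hk (V i) (hV i)⟩
  choose Ni hNi using hN
  refine ⟨Finset.univ.sup Ni, fun n hn U hU => ?_⟩
  obtain ⟨F, lam, hF⟩ := Groth.Agent.Lib.Helper2.RelTildeExist.exists_isRelTilde p chart ℳ hP hℳ (n : ℤ)
  have hLoc : ∀ (U : Y.Opens), IsAffineOpen U → IsLocOn F (p ⁻¹ᵁ U) :=
    fun U hU => isLocOn_F hF U hU (hft U hU)
  have hbV : ∀ i, BijA p chart ℳ n F lam (V i) (hV i) := fun i =>
    bijA_of_bijective hF (V i) (hV i) (hNi i n ((Finset.le_sup (Finset.mem_univ i)).trans hn))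
  apply bijective_of_bijA hF U hU
  have hx : ∀ x : U, ∃ (i : Fin t) (f : Γ(Y, U)) (g : Γ(Y, V i)),
      Y.basicOpen f = Y.basicOpen g ∧ x.1 ∈ Y.basicOpen f := by
    intro x
    obtain ⟨i, hi⟩ := hVcov x.1
    obtain ⟨f, g, hfg, hxf⟩ := exists_basicOpen_le_affine_inter hU (hV i) x.1 ⟨x.2, hi⟩
    exact ⟨i, f, g, hfg, hxf⟩
  choose i f g hfg hxf using hx
  refine bijA_of_cover hF hP hℳ hLoc U hU f (fun x hx => ⟨⟨x, hx⟩, hxf ⟨x, hx⟩⟩) (fun x => ?_)
  exact bijA_congr (hfg x).symm _ _ (bijA_basicOpen hF hP hℳ hLoc (V (i x)) (hV (i x)) (hbV (i x)) (g x))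

end Groth.Agent.Lib.Helper27AlphaRelE
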