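import Mathlib

/-!
# Short exact sequences attached to a pair of composable morphisms with zero composite (helper27)

For `f : A ⟶ B`, `g : B ⟶ D` with `f ≫ g = 0` in an abelian category:
* `0 → ker f → A → im f → 0`
* `0 → im f → B → coker f → 0`
* `0 → im f → ker g → H → 0` with `H ≅ homology`.
-/

set_option autoImplicit false
universe v u
open CategoryTheory CategoryTheory.Limits

namespace Groth.Agent.Lib.Helper27CplxSES

variable {C : Type u} [Category.{v} C] [Abelian C]

section One

variable {A B : C} (f : A ⟶ B)

/-- `0 → ker f → A → im f → 0`. -/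
noncomputable def kerImSC : ShortComplex C :=
  ShortComplex.mk (kernel.ι f) (Abelian.factorThruImage f) (by
    rw [← cancel_mono (Abelian.image.ι f), Category.assoc, Abelian.image.fac, kernel.condition,
      zero_comp])

theorem kerImSC_shortExact : (kerImSC f).ShortExact := by
  let S₀ : ShortComplex C := ShortComplex.mk (kernel.ι f) f (kernel.condition f)
  have h₀ : S₀.Exact := ShortComplex.exact_of_f_is_kernel S₀ (kernelIsKernel f)
  let φ : kerImSC f ⟶ S₀ :=
    { τ₁ := 𝟙 _
      τ₂ := 𝟙 _
      τ₃ := Abelian.image.ι f
      comm₁₂ := by simp [kerImSC, S₀]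
      comm₂₃ := by simp [kerImSC, S₀] }
  have h1 : Epi φ.τ₁ := (inferInstance : Epi (𝟙 (kernel f)))
  have h2 : IsIso φ.τ₂ := (inferInstance : IsIso (𝟙 A))
  have h3 : Mono φ.τ₃ := (inferInstance : Mono (Abelian.image.ι f))
  have hex : (kerImSC f).Exact := (ShortComplex.exact_iff_of_epi_of_isIso_of_mono φ).2 h₀
  have h4 : Mono (kerImSC f).f := (inferInstance : Mono (kernel.ι f))
  have h5 : Epi (kerImSC f).g := (inferInstance : Epi (Abelian.factorThruImage f))
  exact ShortComplex.ShortExact.mk' hex h4 h5

/-- `0 → im f → B → coker f → 0`. -/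
noncomputable def imCokSC : ShortComplex C :=
  ShortComplex.mk (Abelian.image.ι f) (cokernel.π f) (kernel.condition (cokernel.π f))

theorem imCokSC_shortExact : (imCokSC f).ShortExact := by
  have hex : (imCokSC f).Exact :=
    ShortComplex.exact_of_f_is_kernel (imCokSC f) (kernelIsKernel (cokernel.π f))
  have h4 : Mono (imCokSC f).f := (inferInstance : Mono (Abelian.image.ι f))
  have h5 : Epi (imCokSC f).g := (inferInstance : Epi (cokernel.π f))
  exact ShortComplex.ShortExact.mk' hex h4 h5

theorem isZero_image_of_isZero_src (hA : IsZero A) : IsZero (Abelian.image f) := by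
  rw [IsZero.iff_id_eq_zero]
  rw [← cancel_epi (Abelian.factorThruImage f)]
  exact hA.eq_of_src _ _

end One

section Two

variable {A B D : C} (f : A ⟶ B) (g : B ⟶ D) (w : f ≫ g = 0)

/-- the inclusion `im f ⟶ ker g`. -/
noncomputable def imToKer : Abelian.image f ⟶ kernel g :=
  kernel.lift g (Abelian.image.ι f) (by
    rw [← cancel_epi (Abelian.factorThruImage f), ← Category.assoc, Abelian.image.fac, w, comp_zero])

@[reassoc (attr := simp)]
theorem imToKer_ι : imToKer f g w ≫ kernel.ι g = Abelian.image.ι f := kernel.lift_ι _ _ _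

instance : Mono (imToKer f g w) := by
  have h : Mono (imToKer f g w ≫ kernel.ι g) := by rw [imToKer_ι]; infer_instance
  exact mono_of_mono (imToKer f g w) (kernel.ι g)

/-- `0 → im f → ker g → H → 0`. -/
noncomputable def imKerSC : ShortComplex C :=
  ShortComplex.mk (imToKer f g w) (cokernel.π (imToKer f g w)) (cokernel.condition _)

theorem imKerSC_shortExact : (imKerSC f g w).ShortExact := by
  have hex : (imKerSC f g w).Exact :=
    ShortComplex.exact_of_g_is_cokernel (imKerSC f g w) (cokernelIsCokernel (imToKer f g w))
  have h4 : Mono (imKerSC f g w).f := (inferInstance : Mono (imToKer f g w))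
  have h5 : Epi (imKerSC f g w).g := (inferInstance : Epi (cokernel.π (imToKer f g w)))
  exact ShortComplex.ShortExact.mk' hex h4 h5

theorem factorThruImage_imToKer :
    Abelian.factorThruImage f ≫ imToKer f g w = kernel.lift g f w := by
  rw [← cancel_mono (kernel.ι g), Category.assoc, imToKer_ι, Abelian.image.fac, kernel.lift_ι]

/-- the cokernel of `im f ⟶ ker g` is the homology. -/
noncomputable def cokerIsoHomology :
    cokernel (imToKer f g w) ≅ (ShortComplex.mk f g w).homology :=
  (cokernelEpiComp (Abelian.factorThruImage f) (imToKer f g w)).symm ≪≫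
    cokernelIsoOfEq (factorThruImage_imToKer f g w) ≪≫
    ((ShortComplex.mk f g w).homologyIsoCokernelLift).symm

end Two

section Cplx

variable (E : ChainComplex C ℕ)

/-- the homology of a chain complex in degree `s + 1` via the explicit maps. -/
noncomputable def homologyIso (s : ℕ) :
    E.homology (s + 1) ≅
      (ShortComplex.mk (E.d (s + 2) (s + 1)) (E.d (s + 1) s) (E.d_comp_d _ _ _)).homology :=
  ShortComplex.homologyMapIso (E.isoSc' (s + 2) (s + 1) s (by simp) (by simp))

end Cplx

end Groth.Agent.Lib.Helper27CplxSES
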