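import Mathlib
import Groth.Agent.Lib.Helper13UnitSub
import Groth.Agent.Lib.Helper20StalkExact
import Groth.Agent.Lib.Helper4DevD
import Groth.Agent.Lib.Helper4DevI
import Groth.Agent.Lib.Helper2PullbackSec
import Groth.Agent.Lib.Helper20FormalPull
import Groth.Agent.Lib.Helper27ClosedTransfer
import Groth.Agent.Lib.Helper27SerreVan
import Groth.Agent.Lib.Helper27CplxSES
import Groth.Agent.Lib.Helper23PB
import Groth.Agent.Lib.Helper23InvDual
import Groth.Agent.Lib.Helper23SecTw10
import Groth.Agent.S0051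

/-!
# Helper27: the kernel of the unit `F ⟶ j_* j^* F` of a closed subscheme

* `mem_ker_smul_of_lift` (algebra) : for a base change `φ : M → Q` along a surjection `ψ`, given by its
  universal property, `φ m = 0 → m ∈ ker ψ • ⊤`.
* `mem_smul_of_unit_app_eq_zero` : for `F` quasi-coherent, `U` affine, `m ∈ Γ(F, U)` killed by the unit
  of `V(J)` lies in `J(U) • Γ(F, U)`.
-/

set_option autoImplicit false
set_option linter.style.haveILetI false
universe u
open CategoryTheory CategoryTheory.Limits AlgebraicGeometry Opposite TopologicalSpace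

namespace Groth.Agent.Lib.Helper27AmpleGlue

open Scheme.Modules Groth.Agent.Helper13PullbackUnit

theorem mem_ker_smul_of_lift {R R' : Type u} [CommRing R] [CommRing R'] (ψ : R →+* R')
    (hψ : Function.Surjective ψ) {M Q : Type u} [AddCommGroup M] [Module R M] [AddCommGroup Q]
    [Module R' Q] (φ : M →+ Q)
    (huniv : ∀ (N : Type u) [AddCommGroup N] [Module R' N] (l : M →+ N),
      (∀ (r : R) (m : M), l (r • m) = ψ r • l m) → ∃! l' : Q →ₗ[R'] N, ∀ m, l' (φ m) = l m)
    (m : M) (hm : φ m = 0) : m ∈ (RingHom.ker ψ) • (⊤ : Submodule R M) := by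
  let P : Submodule R M := (RingHom.ker ψ) • (⊤ : Submodule R M)
  have htors : Module.IsTorsionBySet R (M ⧸ P) (RingHom.ker ψ : Set R) := by
    intro x r
    induction x using Submodule.Quotient.induction_on with
    | H x =>
      rw [← Submodule.Quotient.mk_smul, Submodule.Quotient.mk_eq_zero]
      exact Submodule.smul_mem_smul r.2 Submodule.mem_top
  letI : Module (R ⧸ RingHom.ker ψ) (M ⧸ P) := htors.module
  letI : Module R' (M ⧸ P) :=
    Module.compHom (M ⧸ P) (RingHom.quotientKerEquivOfSurjective hψ).symm.toRingHom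
  have hsm : ∀ (r : R) (x : M ⧸ P), ψ r • x = r • x := by
    intro r x
    change ((RingHom.quotientKerEquivOfSurjective hψ).symm (ψ r)) • x = r • x
    have : (RingHom.quotientKerEquivOfSurjective hψ).symm (ψ r) =
        Ideal.Quotient.mk (RingHom.ker ψ) r := by
      rw [RingEquiv.symm_apply_eq]
      rfl
    rw [this]
    rfl
  obtain ⟨l', h1, -⟩ := huniv (M ⧸ P) (P.mkQ : M →ₗ[R] M ⧸ P).toAddMonoidHom
    (fun r x => by
      rw [hsm]
      exact (P.mkQ).map_smul r x)
  have h2 := h1 m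
  rw [hm, map_zero] at h2
  exact (Submodule.Quotient.mk_eq_zero P).1 h2.symm

variable {X : Scheme.{u}}

theorem mem_smul_of_unit_app_eq_zero (F : X.Modules) [F.IsQuasicoherent] (J : X.IdealSheafData)
    (U : X.affineOpens) (m : Γ(F, U.1))
    (hm : ((pullbackPushforwardAdjunction J.subschemeι).unit.app F).app U.1 m = 0) :
    m ∈ (J.ideal U) • (⊤ : Submodule Γ(X, U.1) Γ(F, U.1)) := by
  have hU' : IsAffineOpen (J.subschemeι ⁻¹ᵁ U.1) := U.2.preimage J.subschemeι
  have hle : J.subschemeι ⁻¹ᵁ U.1 ≤ J.subschemeι ⁻¹ᵁ U.1 := le_rfl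
  have hfun : ∀ m : Γ(F, U.1), ((pullbackPushforwardAdjunction J.subschemeι).unit.app F).app U.1 m =
      unitSec J.subschemeι F hle m := by
    intro m
    rw [unitSec_apply]
    have h1 : ∀ z : Γ((Scheme.Modules.pullback J.subschemeι).obj F, J.subschemeι ⁻¹ᵁ U.1),
        z = ((Scheme.Modules.pullback J.subschemeι).obj F).presheaf.map (homOfLE hle).op z := by
      intro z
      have h0 : (homOfLE hle).op = 𝟙 (op (J.subschemeι ⁻¹ᵁ U.1)) := rfl
      rw [h0, CategoryTheory.Functor.map_id]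
      rfl
    exact h1 _
  have hker : RingHom.ker (J.subschemeι.appLE U.1 (J.subschemeι ⁻¹ᵁ U.1) hle).hom = J.ideal U := by
    rw [Scheme.Hom.appLE_eq_app]
    exact J.ker_subschemeι_app U
  rw [← hker]
  refine mem_ker_smul_of_lift (J.subschemeι.appLE U.1 (J.subschemeι ⁻¹ᵁ U.1) hle).hom ?_
    (unitSec J.subschemeι F hle)
    (fun N _ _ l hl => existsUnique_lift J.subschemeι F U.2 hU' hle N l hl) m ?_
  · rw [Scheme.Hom.appLE_eq_app]
    exact J.subschemeι_app_surjective U
  · rw [← hfun]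
    exact hm


/-- the unit `F ⟶ j_* j^* F` of the closed subscheme `V(J)`. -/
noncomputable abbrev η (J : X.IdealSheafData) (F : X.Modules) :
    F ⟶ (Scheme.Modules.pushforward J.subschemeι).obj ((Scheme.Modules.pullback J.subschemeι).obj F) :=
  (pullbackPushforwardAdjunction J.subschemeι).unit.app F

/-- `M` is killed by the ideal sheaf `N`, on sections over affine opens. -/
def KilledBy (N : X.IdealSheafData) (M : X.Modules) : Prop :=
  ∀ (U : X.affineOpens) (r : Γ(X, U.1)), r ∈ N.ideal U → ∀ m : Γ(M, U.1), r • m = 0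

theorem killedBy_of_mono {N : X.IdealSheafData} {M M' : X.Modules} (ι : M ⟶ M') [Mono ι]
    (h : KilledBy N M') : KilledBy N M := by
  intro U r hr m
  apply Groth.Agent.Lib.Helper20.StalkExact.injective_app_of_mono ι U.1
  rw [Scheme.Modules.Hom.app_smul, h U r hr, map_zero]

theorem killedBy_push (J : X.IdealSheafData) (G : J.subscheme.Modules) :
    KilledBy J ((Scheme.Modules.pushforward J.subschemeι).obj G) := by
  intro U r hr m
  rw [pushforward_smul]
  have h0 : (J.subschemeι.app U.1).hom r = 0 := by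
    have : r ∈ RingHom.ker (J.subschemeι.app U.1).hom := by
      rw [J.ker_subschemeι_app U]; exact hr
    exact this
  rw [h0, zero_smul]
  rfl

theorem killedBy_kernel (F : X.Modules) [F.IsQuasicoherent] (I J N : X.IdealSheafData)
    (hIJ : I * J ≤ N) (hN : KilledBy N F) : KilledBy I (kernel (η J F)) := by
  intro U a ha k
  apply Groth.Agent.Lib.Helper20.StalkExact.injective_app_of_mono (kernel.ι (η J F)) U.1
  rw [Scheme.Modules.Hom.app_smul, map_zero]
  have hm : (η J F).app U.1 ((kernel.ι (η J F)).app U.1 k) = 0 := by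
    have h1 : (kernel.ι (η J F) ≫ η J F).app U.1 k = 0 := by
      rw [kernel.condition]
      rfl
    exact h1
  have hmem := mem_smul_of_unit_app_eq_zero F J U _ hm
  refine Submodule.smul_induction_on hmem (fun b hb f _ => ?_) (fun x y hx hy => ?_)
  · rw [← mul_smul]
    refine hN U (a * b) ?_ f
    have h2 : a * b ∈ (I * J).ideal U := by
      rw [Scheme.IdealSheafData.ideal_mul]
      exact Ideal.mul_mem_mul ha hb
    exact (Scheme.IdealSheafData.le_def.1 hIJ U) h2
  · rw [smul_add, hx, hy, add_zero]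


open Groth.Agent.Lib.Helper23.QCohLocal in
theorem subsingleton_mid (S : ShortComplex X.Modules) (hS : S.ShortExact) (i : ℕ)
    (h1 : Subsingleton (Coh.HH X S.X₁ i)) (h3 : Subsingleton (Coh.HH X S.X₃ i)) :
    Subsingleton (Coh.HH X S.X₂ i) := by
  have key : ∀ y : Coh.HH X S.X₂ i, y = 0 := by
    intro y
    have hS' := shortExact_toAbF S hS
    obtain ⟨x, hx⟩ := Abelian.Ext.covariant_sequence_exact₂ _ hS' (n := i) y
      (@Subsingleton.elim _ h3 _ _)
    have hx0 : x = 0 := @Subsingleton.elim _ h1 _ _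
    rw [hx0, Abelian.Ext.zero_comp] at hx
    exact hx.symm
  exact ⟨fun x y => (key x).trans (key y).symm⟩

section Vanish

theorem eventually_vanishing_of_killedBy (A : Type u) [CommRing A] [IsNoetherianRing A]
    (f : X ⟶ Spec (CommRingCat.of A)) [IsProper f] (L : X.Modules) (hL : PicF.IsInvertible L)
    (I : X.IdealSheafData)
    (hI : CohB1.IsAmple ((Scheme.Modules.pullback I.subschemeι).obj L))
    (K : X.Modules) (hK : Coh.IsCoh K) (hKI : KilledBy I K) :
    ∃ n₀ : ℕ, ∀ n : ℕ, n₀ ≤ n → ∀ p : ℕ, 0 < p →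
      Subsingleton (Coh.HH X (CohB1.tensorMod K (CohB1.tensorPow L n)) p) := by
  haveI : K.IsQuasicoherent := hK.1
  haveI : SheafOfModules.IsFiniteType (R := X.ringCatSheaf) K := hK.2
  haveI hiso := Groth.Agent.Helper13UnitSub.isIso_unit_subscheme K I hKI
  have hG : Coh.IsCoh ((Scheme.Modules.pullback I.subschemeι).obj K) :=
    ⟨Groth.Agent.Lib.Helper2.PullbackSec.isQuasicoherent_pullback I.subschemeι K,
      Groth.Agent.Lib.Helper20.FormalPull.isFiniteType_pullback I.subschemeι K⟩
  obtain ⟨n₀, hn₀⟩ := (Groth.Agent.S0051.result A I.subscheme (I.subschemeι ≫ f)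
    ((Scheme.Modules.pullback I.subschemeι).obj L)
    (Groth.Agent.Lib.Helper23.PB.isInvertible_pullback I.subschemeι L hL)).mp hI _ hG
  refine ⟨n₀, fun n hn p hp => ?_⟩
  have h1 := hn₀ n hn p hp
  obtain ⟨e1⟩ := Groth.Agent.Lib.Helper23.PB.nonempty_pullback_tensorPow_iso I.subschemeι L hL n
  have h2 : Subsingleton (Coh.HH I.subscheme
      (CohB1.tensorMod ((Scheme.Modules.pullback I.subschemeι).obj K)
        ((Scheme.Modules.pullback I.subschemeι).obj (CohB1.tensorPow L n))) p) :=
    Groth.Agent.Lib.Helper27SerreVan.subsingleton_HH_of_iso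
      (Groth.Agent.Lib.Helper23.AmpleIso.tensorModIso (Iso.refl _) e1) p h1
  have hLn := Groth.Agent.Lib.Helper23.SecTw.isInvertible_tensorPow hL n
  obtain ⟨e⟩ := Groth.Agent.Lib.Helper23.InvDual.nonempty_tensorMod_dual_iso _ hLn
  obtain ⟨c⟩ := Groth.Agent.Lib.Helper23.SecTw.nonempty_tensorMod_comm_iso
    (RefHull.dual (CohB1.tensorPow L n)) (CohB1.tensorPow L n)
    (Groth.Agent.Lib.Helper23.InvDual.isInvertible_dual _ hLn) hLn
  have h3 := (Groth.Agent.Lib.Helper27ClosedTransfer.subsingleton_HH_twist_iff I.subschemeι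
    (CohB1.tensorPow L n) (RefHull.dual (CohB1.tensorPow L n)) e (c ≪≫ e)
    ((Scheme.Modules.pullback I.subschemeι).obj K) p).mp h2
  exact Groth.Agent.Lib.Helper27SerreVan.subsingleton_HH_of_iso
    ((Groth.Agent.Lib.Helper27SerreVan.tw (CohB1.tensorPow L n)).mapIso (asIso (η I K))) p h3

theorem core (A : Type u) [CommRing A] [IsNoetherianRing A]
    (f : X ⟶ Spec (CommRingCat.of A)) [IsProper f] (L : X.Modules) (hL : PicF.IsInvertible L)
    (I J N : X.IdealSheafData) (hIJ : I * J ≤ N)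
    (hI : CohB1.IsAmple ((Scheme.Modules.pullback I.subschemeι).obj L))
    (hJ : CohB1.IsAmple ((Scheme.Modules.pullback J.subschemeι).obj L))
    (F : X.Modules) (hF : Coh.IsCoh F) (hN : KilledBy N F) :
    ∃ n₀ : ℕ, ∀ n : ℕ, n₀ ≤ n → ∀ p : ℕ, 0 < p →
      Subsingleton (Coh.HH X (CohB1.tensorMod F (CohB1.tensorPow L n)) p) := by
  haveI : IsLocallyNoetherian X := LocallyOfFiniteType.isLocallyNoetherian f
  haveI : F.IsQuasicoherent := hF.1
  haveI : SheafOfModules.IsFiniteType (R := X.ringCatSheaf) F := hF.2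
  have hG : Coh.IsCoh ((Scheme.Modules.pullback J.subschemeι).obj F) :=
    ⟨Groth.Agent.Lib.Helper2.PullbackSec.isQuasicoherent_pullback J.subschemeι F,
      Groth.Agent.Lib.Helper20.FormalPull.isFiniteType_pullback J.subschemeι F⟩
  have hF'' := Groth.Agent.Lib.Helper4.Dev.isCoh_push_closed J.subschemeι _ hG
  have hKc : Coh.IsCoh (kernel (η J F)) := Groth.Agent.Lib.Helper4.Dev.isCoh_kernel _ hF hF''
  have hKk : KilledBy I (kernel (η J F)) := killedBy_kernel F I J N hIJ hN
  have hQc : Coh.IsCoh (Abelian.image (η J F)) :=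
    Groth.Agent.Lib.Helper4.Dev.isCoh_kernel _ hF''
      (Groth.Agent.Lib.Helper4.Dev.isCoh_cokernel _ hF hF'')
  have hQk : KilledBy J (Abelian.image (η J F)) :=
    killedBy_of_mono (Abelian.image.ι (η J F)) (killedBy_push J _)
  obtain ⟨n₁, hn₁⟩ := eventually_vanishing_of_killedBy A f L hL I hI _ hKc hKk
  obtain ⟨n₂, hn₂⟩ := eventually_vanishing_of_killedBy A f L hL J hJ _ hQc hQk
  refine ⟨max n₁ n₂, fun n hn p hp => ?_⟩
  have hLn := Groth.Agent.Lib.Helper23.SecTw.isInvertible_tensorPow hL n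
  have hS := Groth.Agent.Lib.Helper27SerreVan.shortExact_tw (CohB1.tensorPow L n) hLn _
    (Groth.Agent.Lib.Helper27CplxSES.kerImSC_shortExact (η J F))
  exact subsingleton_mid _ hS p (hn₁ n ((le_max_left _ _).trans hn) p hp)
    (hn₂ n ((le_max_right _ _).trans hn) p hp)

theorem killedBy_bot (F : X.Modules) : KilledBy ⊥ F := by
  intro U r hr m
  have h0 : r = 0 := by
    rw [Scheme.IdealSheafData.ideal_bot] at hr
    exact hr
  rw [h0, zero_smul]

/-- **Gluing ampleness**: `I * J = ⊥`, `L` ample on `V(I)` and on `V(J)` ⇒ `L` ample. -/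
theorem isAmple_of_mul_eq_bot (A : Type u) [CommRing A] [IsNoetherianRing A]
    (f : X ⟶ Spec (CommRingCat.of A)) [IsProper f] (L : X.Modules) (hL : PicF.IsInvertible L)
    (I J : X.IdealSheafData) (hIJ : I * J = ⊥)
    (hI : CohB1.IsAmple ((Scheme.Modules.pullback I.subschemeι).obj L))
    (hJ : CohB1.IsAmple ((Scheme.Modules.pullback J.subschemeι).obj L)) :
    CohB1.IsAmple L := by
  refine (Groth.Agent.S0051.result A X f L hL).mpr (fun M hM => ?_)
  exact core A f L hL I J ⊥ (le_of_eq hIJ) hI hJ M hM (killedBy_bot M)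

/-- relative form: `I * J ≤ N`, `L` ample on `V(I)` and on `V(J)` ⇒ `L` ample on `V(N)`. -/
theorem isAmple_subscheme_of_mul_le (A : Type u) [CommRing A] [IsNoetherianRing A]
    (f : X ⟶ Spec (CommRingCat.of A)) [IsProper f] (L : X.Modules) (hL : PicF.IsInvertible L)
    (I J N : X.IdealSheafData) (hIJ : I * J ≤ N)
    (hI : CohB1.IsAmple ((Scheme.Modules.pullback I.subschemeι).obj L))
    (hJ : CohB1.IsAmple ((Scheme.Modules.pullback J.subschemeι).obj L)) :
    CohB1.IsAmple ((Scheme.Modules.pullback N.subschemeι).obj L) := by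
  haveI : IsLocallyNoetherian X := LocallyOfFiniteType.isLocallyNoetherian f
  have hiL := Groth.Agent.Lib.Helper23.PB.isInvertible_pullback N.subschemeι L hL
  refine (Groth.Agent.S0051.result A N.subscheme (N.subschemeι ≫ f) _ hiL).mpr (fun G hG => ?_)
  have hF := Groth.Agent.Lib.Helper4.Dev.isCoh_push_closed N.subschemeι G hG
  obtain ⟨n₀, hn₀⟩ := core A f L hL I J N hIJ hI hJ _ hF (killedBy_push N G)
  refine ⟨n₀, fun n hn p hp => ?_⟩
  have h1 := hn₀ n hn p hp
  have hLn := Groth.Agent.Lib.Helper23.SecTw.isInvertible_tensorPow hL n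
  obtain ⟨e⟩ := Groth.Agent.Lib.Helper23.InvDual.nonempty_tensorMod_dual_iso _ hLn
  obtain ⟨c⟩ := Groth.Agent.Lib.Helper23.SecTw.nonempty_tensorMod_comm_iso
    (RefHull.dual (CohB1.tensorPow L n)) (CohB1.tensorPow L n)
    (Groth.Agent.Lib.Helper23.InvDual.isInvertible_dual _ hLn) hLn
  have h2 := (Groth.Agent.Lib.Helper27ClosedTransfer.subsingleton_HH_twist_iff N.subschemeι
    (CohB1.tensorPow L n) (RefHull.dual (CohB1.tensorPow L n)) e (c ≪≫ e) G p).mpr h1
  obtain ⟨e1⟩ := Groth.Agent.Lib.Helper23.PB.nonempty_pullback_tensorPow_iso N.subschemeι L hL n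
  exact Groth.Agent.Lib.Helper27SerreVan.subsingleton_HH_of_iso
    (Groth.Agent.Lib.Helper23.AmpleIso.tensorModIso (Iso.refl G) e1.symm) p h2

end Vanish

end Groth.Agent.Lib.Helper27AmpleGlue
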