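import Mathlib
import Groth.Agent.Lib.Helper27AmpleGlue

/-!
# Helper27: ampleness on a proper scheme over a Noetherian ring can be tested on the irreducible
components (with their reduced structures)

* `isAmple_of_isEmpty`
* `exists_nilradical_pow_eq_bot`
* `isAmple_iff_components`
-/

set_option autoImplicit false
set_option linter.style.haveILetI false
universe u
open CategoryTheory CategoryTheory.Limits AlgebraicGeometry Opposite TopologicalSpace

namespace Groth.Agent.Lib.Helper27AmpleComponents

open Groth.Agent.Lib.Helper27AmpleGlue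

variable {X : Scheme.{u}}

theorem isAmple_of_isEmpty [IsEmpty X] (L : X.Modules) (hL : PicF.IsInvertible L) :
    CohB1.IsAmple L :=
  ⟨hL, inferInstance, fun x => isEmptyElim x⟩

theorem isEmpty_subscheme_of_support_eq_bot (I : X.IdealSheafData) (h : I.support = ⊥) :
    IsEmpty I.subscheme := by
  refine ⟨fun z => ?_⟩
  have h1 : I.subschemeι z ∈ Set.range I.subschemeι := ⟨z, rfl⟩
  rw [I.range_subschemeι, h] at h1
  exact h1

theorem mul_le_inf (I J : X.IdealSheafData) : I * J ≤ I ⊓ J := by
  rw [Scheme.IdealSheafData.le_def]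
  intro U
  rw [Scheme.IdealSheafData.ideal_mul, Scheme.IdealSheafData.ideal_inf]
  exact Ideal.mul_le_inf

theorem exists_nilradical_pow_eq_bot [IsNoetherian X] : ∃ r : ℕ, X.nilradical ^ r = ⊥ := by
  classical
  have hx : ∀ x : X, ∃ V : X.affineOpens, x ∈ V.1 := fun x => by
    obtain ⟨V, hV, hxV, -⟩ := AlgebraicGeometry.exists_isAffineOpen_mem_and_subset
      (X := X) (x := x) (U := ⊤) trivial
    exact ⟨⟨V, hV⟩, hxV⟩
  choose V hxV using hx
  obtain ⟨T, hT⟩ := isCompact_univ.elim_finite_subcover
    (fun x : X => (((V x).1 : X.Opens) : Set X))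
    (fun x => ((V x).1).2)
    (fun x _ => Set.mem_iUnion.2 ⟨x, hxV x⟩)
  have hnil : ∀ x : X, ∃ n : ℕ, (nilradical Γ(X, (V x).1)) ^ n = ⊥ := fun x => by
    haveI : IsNoetherianRing Γ(X, (V x).1) := IsLocallyNoetherian.component_noetherian (V x)
    exact IsNoetherianRing.isNilpotent_nilradical _
  choose n hn using hnil
  refine ⟨T.sup n, le_bot_iff.1 ?_⟩
  refine Scheme.IdealSheafData.le_of_iSup_eq_top (fun t : T => V t.1) ?_ (fun t => ?_)
  · rw [eq_top_iff]
    intro x _
    obtain ⟨y, hy⟩ := Set.mem_iUnion.1 (hT (Set.mem_univ x))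
    obtain ⟨hyT, hxy⟩ := Set.mem_iUnion.1 hy
    exact TopologicalSpace.Opens.mem_iSup.2 ⟨⟨y, hyT⟩, hxy⟩
  · rw [Scheme.IdealSheafData.ideal_pow, Scheme.IdealSheafData.ideal_bot]
    have h1 : X.nilradical.ideal (V t.1) = nilradical Γ(X, (V t.1).1) := by
      rw [Scheme.nilradical, Scheme.IdealSheafData.radical_ideal,
        Scheme.IdealSheafData.ideal_bot]
      rfl
    change (X.nilradical.ideal (V t.1)) ^ (T.sup n) ≤ ⊥
    rw [h1, ← hn t.1]
    exact Ideal.pow_le_pow_right (Finset.le_sup t.2)

section Main

theorem isAmple_vanishingIdeal_sup (A : Type u) [CommRing A] [IsNoetherianRing A]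
    (f : X ⟶ Spec (CommRingCat.of A)) [IsProper f] (L : X.Modules) (hL : PicF.IsInvertible L)
    (hcomp : ∀ Z : Closeds X, (Z : Set X) ∈ irreducibleComponents X →
      CohB1.IsAmple ((Scheme.Modules.pullback
        (Scheme.IdealSheafData.vanishingIdeal Z).subschemeι).obj L))
    (S : Finset (Closeds X)) :
    (∀ Z ∈ S, (Z : Set X) ∈ irreducibleComponents X) →
    ∀ W : Closeds X, W = S.sup id →
      CohB1.IsAmple ((Scheme.Modules.pullback
        (Scheme.IdealSheafData.vanishingIdeal W).subschemeι).obj L) := by
  classical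
  induction S using Finset.induction_on with
  | empty =>
    intro _ W hW
    have h0 : (Scheme.IdealSheafData.vanishingIdeal W).support = ⊥ := by
      rw [hW, Finset.sup_empty, Scheme.IdealSheafData.vanishingIdeal_bot,
        Scheme.IdealSheafData.support_top]
    haveI := isEmpty_subscheme_of_support_eq_bot _ h0
    exact isAmple_of_isEmpty _ (Groth.Agent.Lib.Helper23.PB.isInvertible_pullback _ L hL)
  | insert Z S' hZ ih =>
    intro hS W hW
    have h1 := hcomp Z (hS Z (Finset.mem_insert_self Z S'))
    have h2 := ih (fun Z' hZ' => hS Z' (Finset.mem_insert_of_mem hZ')) (S'.sup id) rfl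
    refine isAmple_subscheme_of_mul_le A f L hL (Scheme.IdealSheafData.vanishingIdeal Z)
      (Scheme.IdealSheafData.vanishingIdeal (S'.sup id)) _ ?_ h1 h2
    rw [hW, Finset.sup_insert, id, Scheme.IdealSheafData.vanishingIdeal_sup]
    exact mul_le_inf _ _

theorem isAmple_of_components (A : Type u) [CommRing A] [IsNoetherianRing A]
    (f : X ⟶ Spec (CommRingCat.of A)) [IsProper f] (L : X.Modules) (hL : PicF.IsInvertible L)
    (hcomp : ∀ Z : Closeds X, (Z : Set X) ∈ irreducibleComponents X →
      CohB1.IsAmple ((Scheme.Modules.pullback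
        (Scheme.IdealSheafData.vanishingIdeal Z).subschemeι).obj L)) :
    CohB1.IsAmple L := by
  classical
  haveI : IsLocallyNoetherian X := LocallyOfFiniteType.isLocallyNoetherian f
  haveI : CompactSpace X := QuasiCompact.compactSpace_of_compactSpace f
  haveI : IsNoetherian X := {}
  haveI : NoetherianSpace X := IsNoetherian.noetherianSpace (X := X)
  -- the finite set of irreducible components
  have hfin : {Z : Closeds X | (Z : Set X) ∈ irreducibleComponents X}.Finite := by
    have h1 := NoetherianSpace.finite_irreducibleComponents (α := X)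
    exact h1.preimage (fun a _ b _ hab => SetLike.coe_injective hab)
  have hred := isAmple_vanishingIdeal_sup A f L hL hcomp hfin.toFinset
    (fun Z hZ => (hfin.mem_toFinset.1 hZ)) ⊤ (by
      symm
      rw [eq_top_iff]
      intro x _
      have hc := irreducibleComponent_mem_irreducibleComponents x
      let Z : Closeds X := ⟨irreducibleComponent x, isClosed_of_mem_irreducibleComponents _ hc⟩
      have hZ : Z ∈ hfin.toFinset := hfin.mem_toFinset.2 hc
      have hle : Z ≤ hfin.toFinset.sup id := Finset.le_sup (f := id) hZ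
      exact hle mem_irreducibleComponent)
  -- the nilradical
  have hnil : ∀ N : X.IdealSheafData, N = X.nilradical →
      CohB1.IsAmple ((Scheme.Modules.pullback N.subschemeι).obj L) := by
    intro N hN
    rw [← Scheme.IdealSheafData.vanishingIdeal_top] at hN
    subst hN
    exact hred
  have hpow : ∀ k : ℕ, ∀ N : X.IdealSheafData, N = X.nilradical ^ k →
      CohB1.IsAmple ((Scheme.Modules.pullback N.subschemeι).obj L) := by
    intro k
    induction k with
    | zero =>
      intro N hN
      have h0 : N.support = ⊥ := by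
        rw [hN, pow_zero]
        have h1 : (1 : X.IdealSheafData) = ⊤ := rfl
        rw [h1, Scheme.IdealSheafData.support_top]
      haveI := isEmpty_subscheme_of_support_eq_bot _ h0
      exact isAmple_of_isEmpty _ (Groth.Agent.Lib.Helper23.PB.isInvertible_pullback _ L hL)
    | succ k ih =>
      intro N hN
      exact isAmple_subscheme_of_mul_le A f L hL (X.nilradical ^ k) X.nilradical N
        (le_of_eq (by rw [hN, pow_succ])) (ih _ rfl) (hnil _ rfl)
  obtain ⟨r, hr⟩ := exists_nilradical_pow_eq_bot (X := X)
  exact isAmple_of_mul_eq_bot A f L hL (X.nilradical ^ r) X.nilradical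
    (by rw [hr, Scheme.IdealSheafData.bot_mul]) (hpow r _ rfl) (hnil _ rfl)

end Main

end Groth.Agent.Lib.Helper27AmpleComponents
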