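import Mathlib
import Groth.Prelude.Def_KRR
import Groth.Agent.Lib.Helper17K0a
import Groth.Agent.Lib.Helper1PC5
import Groth.Agent.Lib.Helper1PC7
import Groth.Agent.Lib.Helper26ModLocFree
import Groth.Agent.Lib.Helper23ResProp
import Groth.Agent.Lib.Helper23RelRes
import Groth.Agent.Lib.Helper23SecTw6
import Groth.Agent.Lib.Helper23QAffSec
import Groth.Agent.Lib.Helper21HZB9
import Groth.Agent.Lib.Helper2RankLoc
import Groth.Agent.Lib.Helper4KTensor
import Groth.Agent.Lib.Helper4DevE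

/-!
# The class of an ample invertible module is an ample line element of `K(X)` (helper27)

* `cl_shortExact`, `cl_of_iso`, `cl_of_isZero`, `cl_freeMod` : calculus of classes in `Kvb X`.
* `exists_rank`, `isZero_of_rank_zero` (short re-proofs of helper6/helper4 lemmas, to keep imports light).
* `isAmpleElt` : for `X` connected Noetherian, `(K, P, φ)` a model of `K(X)` and `L` ample, `φ [L]` is an
  ample line element.
-/

set_option autoImplicit false
universe v u

open CategoryTheory CategoryTheory.Limits AlgebraicGeometry TopologicalSpace Opposite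
open scoped ZeroObject

namespace Groth.Agent.Lib.Helper27AmpleElt

variable {X : Scheme.{u}}

theorem vbP_iso : (KRR.vbP X).IsClosedUnderIsomorphisms :=
  ⟨fun e h => Groth.Agent.Lib.Helper26.ModLocFree.isFinLocFree_of_iso e h⟩

theorem vbP_zero : (KRR.vbP X).ContainsZero :=
  ⟨⟨0, isZero_zero _, Groth.Agent.Lib.Helper1.SPL.isFinLocFree_of_isZero _ (isZero_zero _)⟩⟩

theorem cl_shortExact (S : ShortComplex X.Modules) (hS : S.ShortExact)
    (h₁ : FlatMod.IsFinLocFree S.X₁) (h₂ : FlatMod.IsFinLocFree S.X₂)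
    (h₃ : FlatMod.IsFinLocFree S.X₃) : KRR.cl X S.X₂ = KRR.cl X S.X₁ + KRR.cl X S.X₃ :=
  Groth.Agent.Lib.Helper17.K0a.clSub_shortExact (KRR.vbP X) S hS h₁ h₂ h₃

theorem cl_of_iso {A B : X.Modules} (e : A ≅ B) (hA : FlatMod.IsFinLocFree A) :
    KRR.cl X A = KRR.cl X B := by
  haveI := vbP_iso (X := X)
  haveI := vbP_zero (X := X)
  exact Groth.Agent.Lib.Helper17.K0a.clSub_of_iso (KRR.vbP X) e hA

theorem cl_of_isZero {A : X.Modules} (hA : IsZero A) : KRR.cl X A = 0 := by
  haveI := vbP_iso (X := X)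
  haveI := vbP_zero (X := X)
  exact Groth.Agent.Lib.Helper17.K0a.clSub_of_isZero (KRR.vbP X) hA

/-- the split sequence `0 → M → ∐_{k+1} M → ∐_k M → 0`. -/
theorem cl_sigma_succ (M : X.Modules) (hM : FlatMod.IsFinLocFree M) (k : ℕ)
    (h₂ : FlatMod.IsFinLocFree (∐ fun _ : Fin (k + 1) => M))
    (h₃ : FlatMod.IsFinLocFree (∐ fun _ : Fin k => M)) :
    KRR.cl X (∐ fun _ : Fin (k + 1) => M) = KRR.cl X M + KRR.cl X (∐ fun _ : Fin k => M) := by
  let f : M ⟶ ∐ fun _ : Fin (k + 1) => M := Sigma.ι (fun _ : Fin (k + 1) => M) 0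
  let g : (∐ fun _ : Fin (k + 1) => M) ⟶ ∐ fun _ : Fin k => M :=
    Limits.Sigma.desc (Fin.cases 0 (fun j => Sigma.ι (fun _ : Fin k => M) j))
  let r : (∐ fun _ : Fin (k + 1) => M) ⟶ M :=
    Limits.Sigma.desc (Fin.cases (𝟙 M) (fun _ => 0))
  let s : (∐ fun _ : Fin k => M) ⟶ ∐ fun _ : Fin (k + 1) => M :=
    Limits.Sigma.desc (fun j => Sigma.ι (fun _ : Fin (k + 1) => M) j.succ)
  have hfg : f ≫ g = 0 := by
    dsimp only [f, g]
    rw [Sigma.ι_desc]
    rfl
  let S : ShortComplex X.Modules := ShortComplex.mk f g hfg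
  have hfr : f ≫ r = 𝟙 M := by
    dsimp only [f, r]
    rw [Sigma.ι_desc]
    rfl
  have hsg : s ≫ g = 𝟙 _ := by
    dsimp only [s, g]
    refine Sigma.hom_ext _ _ (fun j => ?_)
    rw [Sigma.ι_desc_assoc, Sigma.ι_desc, Category.comp_id]
    rfl
  have hid : r ≫ f + g ≫ s = 𝟙 _ := by
    dsimp only [f, g, r, s]
    refine Sigma.hom_ext _ _ (fun j => ?_)
    rw [Preadditive.comp_add, Sigma.ι_desc_assoc, Sigma.ι_desc_assoc, Category.comp_id]
    refine Fin.cases ?_ (fun i => ?_) j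
    · simp
    · simp
  let sp : S.Splitting := { r := r, s := s, f_r := hfr, s_g := hsg, id := hid }
  exact cl_shortExact S sp.shortExact hM h₂ h₃

theorem cl_freeMod (k : ℕ) :
    KRR.cl X (FlatMod.freeMod X k) = k • KRR.cl X (Coh.structureModule X) := by
  have hO : FlatMod.IsFinLocFree (Coh.structureModule X) :=
    Groth.Agent.Lib.Helper23.ResProp.isFinLocFree_of_isInvertible _
      (Groth.Agent.Lib.Helper23.TensorUnit.isInvertible_structureModule X)
  induction k with
  | zero =>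
    rw [zero_smul]
    exact cl_of_isZero Groth.Agent.Lib.Helper1.SPL.isZero_freeMod_zero
  | succ k ih =>
    have h := cl_sigma_succ (Coh.structureModule X) hO k
      (Groth.Agent.Lib.Helper23.ResProp.isFinLocFree_freeMod X (k + 1))
      (Groth.Agent.Lib.Helper23.ResProp.isFinLocFree_freeMod X k)
    have h' : KRR.cl X (FlatMod.freeMod X (k + 1)) =
        KRR.cl X (Coh.structureModule X) + KRR.cl X (FlatMod.freeMod X k) := h
    rw [h', ih, succ_nsmul, add_comm]

/-- on a connected scheme a finite locally free module has constant rank (helper6 `exists_rank`). -/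
theorem exists_rank [PreconnectedSpace X] [Nonempty X] (T : X.Modules)
    (hT : FlatMod.IsFinLocFree T) : ∃ r : ℕ, FlatMod.IsFinLocFreeOfRank r T := by
  haveI := Groth.Agent.Lib.Helper21.HZB.isQuasicoherent_of_isFinLocFree T hT
  obtain ⟨-, hlc⟩ :=
    Groth.Agent.Lib.Helper2.RankLoc.isLocallyConstant_fibreRank_of_isFinLocFree T hT
  obtain ⟨x₀⟩ := (inferInstance : Nonempty X)
  refine ⟨Groth.Agent.Lib.Helper2.RankLoc.fibreRank T x₀, fun x => ?_⟩
  obtain ⟨U, n, hxU, ⟨e⟩⟩ := hT x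
  have h1 := (Groth.Agent.Lib.Helper2.RankLoc.fibreRank_eq_of_restrict_iso_freeMod U.ι T e
    ⟨x, hxU⟩).2
  have h2 : Groth.Agent.Lib.Helper2.RankLoc.fibreRank T x =
      Groth.Agent.Lib.Helper2.RankLoc.fibreRank T x₀ :=
    hlc.apply_eq_of_preconnectedSpace x x₀
  have h3 : n = Groth.Agent.Lib.Helper2.RankLoc.fibreRank T x₀ := by
    rw [← h2, ← h1]
    rfl
  subst h3
  exact ⟨U, hxU, ⟨e⟩⟩

/-- a module of rank zero is zero (helper4 `isZero_of_rank_zero`). -/
theorem isZero_of_rank_zero (G : X.Modules) (h : FlatMod.IsFinLocFreeOfRank 0 G) : IsZero G := by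
  apply Groth.Agent.Lib.Helper4.Dev.isZero_of_support_eq_empty
  ext x
  simp only [CohB1.support, Set.mem_ofPred_eq, Set.mem_empty_iff_false, iff_false, not_not]
  obtain ⟨hfree, hfin, hrk⟩ :=
    Groth.Agent.Lib.Helper4.KTensor.stalk_of_isFinLocFreeOfRank G 0 h x
  haveI := hfree
  haveI := hfin
  haveI : Nontrivial (X.presheaf.stalk x) := inferInstance
  exact (Module.finrank_eq_zero_iff_of_free _ _).1 hrk

section Model

variable {K : Type v} [CommRing K] [LambdaRing.LambdaOps K] {P : LambdaRing.PosStructure K}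
  {φ : SGA6.Kvb X →+ K}

theorem phi_pow (hK : KRR.IsModel X K P φ) (L : X.Modules) (hL : PicF.IsInvertible L) (n : ℕ) :
    φ (KRR.cl X L) ^ n = φ (KRR.cl X (CohB1.tensorPow L n)) := by
  induction n with
  | zero =>
    rw [pow_zero]
    exact hK.map_one.symm
  | succ n ih =>
    rw [pow_succ, ih]
    exact hK.map_mul (CohB1.tensorPow L n) L
      (Groth.Agent.Lib.Helper23.ResProp.isFinLocFree_of_isInvertible _
        (Groth.Agent.Lib.Helper23.SecTw.isInvertible_tensorPow hL n))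
      (Groth.Agent.Lib.Helper23.ResProp.isFinLocFree_of_isInvertible _ hL)

theorem pow_mem_pos (u : K) (hu : u ∈ P.pos) (n : ℕ) : u ^ n ∈ P.pos := by
  induction n with
  | zero =>
    rw [pow_zero]
    have := P.natCast_mem 1 Nat.one_pos
    simpa using this
  | succ n ih =>
    rw [pow_succ]
    exact P.mul_mem _ _ ih hu

/-- **The class of an ample invertible module is an ample line element.** -/
theorem isAmpleElt [IsNoetherian X] [ConnectedSpace ↥X] (hK : KRR.IsModel X K P φ)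
    (L : X.Modules) (hL : CohB1.IsAmple L) : KRR.IsAmpleElt P (φ (KRR.cl X L)) := by
  have hinv : PicF.IsInvertible L := hL.1
  have h1 : FlatMod.IsFinLocFreeOfRank 1 L :=
    Groth.Agent.Lib.Helper23.SecTw.isFinLocFreeOfRank_one_of_isInvertible L hinv
  have hupos : φ (KRR.cl X L) ∈ P.pos := (hK.mem_pos_iff _).2 ⟨1, L, le_rfl, h1, rfl⟩
  refine ⟨⟨hupos, ?_⟩, fun x => ?_⟩
  · have := hK.aug_cl 1 L h1
    simpa using this
  obtain ⟨e, f, he, hf, rfl⟩ := P.exists_sub x
  obtain ⟨rF, F, hrF, hF, rfl⟩ := (hK.mem_pos_iff f).1 hf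
  have hF' : FlatMod.IsFinLocFree F := fun y => by
    obtain ⟨U, hyU, e⟩ := hF y
    exact ⟨U, rF, hyU, e⟩
  have hFcoh := Groth.Agent.Lib.Helper21.HZB.isCoh_of_isFinLocFree F hF'
  haveI : F.IsQuasicoherent := hFcoh.1
  haveI : SheafOfModules.IsFiniteType (R := X.ringCatSheaf) F := hFcoh.2
  obtain ⟨n₀, hn₀⟩ := Groth.Agent.Lib.Helper23.RelRes.exists_epi_freeMod_twist L hL F
  refine ⟨n₀, fun n hn => ?_⟩
  obtain ⟨k, p, hp⟩ := hn₀ n hn
  haveI := hp
  have hLn : FlatMod.IsFinLocFree (CohB1.tensorPow L n) :=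
    Groth.Agent.Lib.Helper23.ResProp.isFinLocFree_of_isInvertible _
      (Groth.Agent.Lib.Helper23.SecTw.isInvertible_tensorPow hinv n)
  have hFL : FlatMod.IsFinLocFree (CohB1.tensorMod F (CohB1.tensorPow L n)) :=
    Groth.Agent.Lib.Helper23.ResProp.isFinLocFree_tensorMod _ _ hF' hLn
  have hfree := Groth.Agent.Lib.Helper23.ResProp.isFinLocFree_freeMod X k
  have hG : FlatMod.IsFinLocFree (kernel p) :=
    Groth.Agent.Lib.Helper1.SPL.isFinLocFree_kernel p hfree hFL
  let S : ShortComplex X.Modules := ShortComplex.mk (kernel.ι p) p (kernel.condition p)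
  have hS : S.ShortExact :=
    { exact := ShortComplex.exact_kernel p
      mono_f := by dsimp [S]; infer_instance
      epi_g := by dsimp [S]; infer_instance }
  have hcl : KRR.cl X (FlatMod.freeMod X k) =
      KRR.cl X (kernel p) + KRR.cl X (CohB1.tensorMod F (CohB1.tensorPow L n)) :=
    cl_shortExact S hS hG hfree hFL
  -- `u^n f = k - [G]`
  have hmulF : φ (KRR.cl X L) ^ n * φ (KRR.cl X F) =
      (k : K) - φ (KRR.cl X (kernel p)) := by
    rw [phi_pow hK L hinv n, mul_comm]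
    have h2 : φ (KRR.cl X F) * φ (KRR.cl X (CohB1.tensorPow L n)) =
        φ (KRR.cl X (CohB1.tensorMod F (CohB1.tensorPow L n))) := hK.map_mul F _ hF' hLn
    rw [h2]
    have h3 : φ (KRR.cl X (FlatMod.freeMod X k)) = (k : K) := by
      rw [cl_freeMod, map_nsmul, hK.map_one, nsmul_eq_mul, mul_one]
    rw [← h3, hcl, map_add]
    ring
  have hune : φ (KRR.cl X L) ^ n * e ∈ P.pos :=
    P.mul_mem _ _ (pow_mem_pos _ hupos n) he
  obtain ⟨rG, hrG⟩ := exists_rank (kernel p) hG
  by_cases h0 : rG = 0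
  · subst h0
    have hz : KRR.cl X (kernel p) = 0 := cl_of_isZero (isZero_of_rank_zero _ hrG)
    refine ⟨φ (KRR.cl X L) ^ n * e, k, hune, ?_⟩
    rw [mul_sub, hmulF, hz, map_zero, sub_zero]
  · have hGpos : φ (KRR.cl X (kernel p)) ∈ P.pos :=
      (hK.mem_pos_iff _).2 ⟨rG, kernel p, Nat.one_le_iff_ne_zero.2 h0, hrG, rfl⟩
    refine ⟨φ (KRR.cl X L) ^ n * e + φ (KRR.cl X (kernel p)), k, P.add_mem _ _ hune hGpos, ?_⟩
    rw [mul_sub, hmulF]
    ring

end Model

end Groth.Agent.Lib.Helper27AmpleElt
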