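import Mathlib

set_option autoImplicit false
open MvPolynomial

namespace Groth.Agent.Lib.Helper27Cubic

/-- A symmetric trilinear form on a complex vector space (the polar form of a cubic form). -/
structure Polar (V : Type*) [AddCommGroup V] [Module ℂ V] where
  Φ : V → V → V → ℂ
  add_left : ∀ u u' v w, Φ (u + u') v w = Φ u v w + Φ u' v w
  smul_left : ∀ (t : ℂ) u v w, Φ (t • u) v w = t * Φ u v w
  swap12 : ∀ u v w, Φ u v w = Φ v u w
  swap23 : ∀ u v w, Φ u v w = Φ u w v

namespace Polar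

variable {V : Type*} [AddCommGroup V] [Module ℂ V] (P : Polar V)

lemma add_mid (u v v' w : V) : P.Φ u (v + v') w = P.Φ u v w + P.Φ u v' w := by
  rw [P.swap12, P.add_left, P.swap12 v, P.swap12 v']

lemma add_right (u v w w' : V) : P.Φ u v (w + w') = P.Φ u v w + P.Φ u v w' := by
  rw [P.swap23, P.add_mid, P.swap23 u w, P.swap23 u w']

lemma smul_mid (t : ℂ) (u v w : V) : P.Φ u (t • v) w = t * P.Φ u v w := by
  rw [P.swap12, P.smul_left, P.swap12 v]

lemma smul_right (t : ℂ) (u v w : V) : P.Φ u v (t • w) = t * P.Φ u v w := by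
  rw [P.swap23, P.smul_mid, P.swap23 u w]

lemma swap13 (u v w : V) : P.Φ u v w = P.Φ w v u := by
  rw [P.swap12 u v w, P.swap23 v u w, P.swap12 v w u]

lemma zero_left (v w : V) : P.Φ 0 v w = 0 := by
  have := P.smul_left 0 0 v w
  simpa using this

lemma zero_mid (u w : V) : P.Φ u 0 w = 0 := by rw [P.swap12, P.zero_left]

lemma zero_right (u v : V) : P.Φ u v 0 = 0 := by rw [P.swap23, P.zero_mid]

lemma neg_left (u v w : V) : P.Φ (-u) v w = - P.Φ u v w := by
  have := P.smul_left (-1) u v w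
  simpa using this

lemma neg_mid (u v w : V) : P.Φ u (-v) w = - P.Φ u v w := by
  rw [P.swap12, P.neg_left, P.swap12 v]

lemma neg_right (u v w : V) : P.Φ u v (-w) = - P.Φ u v w := by
  rw [P.swap23, P.neg_mid, P.swap23 u w]

lemma sub_left (u u' v w : V) : P.Φ (u - u') v w = P.Φ u v w - P.Φ u' v w := by
  rw [sub_eq_add_neg, P.add_left, P.neg_left, sub_eq_add_neg]

lemma sub_mid (u v v' w : V) : P.Φ u (v - v') w = P.Φ u v w - P.Φ u v' w := by
  rw [sub_eq_add_neg, P.add_mid, P.neg_mid, sub_eq_add_neg]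

lemma sub_right (u v w w' : V) : P.Φ u v (w - w') = P.Φ u v w - P.Φ u v w' := by
  rw [sub_eq_add_neg, P.add_right, P.neg_right, sub_eq_add_neg]

/-- The cubic form. -/
def F (x : V) : ℂ := P.Φ x x x

lemma F_def (x : V) : P.F x = P.Φ x x x := rfl

/-- the linear functional `Φ u v ·` -/
def lin (u v : V) : V →ₗ[ℂ] ℂ where
  toFun w := P.Φ u v w
  map_add' w w' := P.add_right u v w w'
  map_smul' t w := by simp [P.smul_right]

@[simp] lemma lin_apply (u v w : V) : P.lin u v w = P.Φ u v w := rfl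

lemma F_smul (t : ℂ) (x : V) : P.F (t • x) = t ^ 3 * P.F x := by
  simp only [F, P.smul_left, P.smul_mid, P.smul_right]; ring

lemma F_zero : P.F (0 : V) = 0 := by simp [F, P.zero_left]

lemma F_neg (x : V) : P.F (-x) = - P.F x := by
  simp only [F, P.neg_left, P.neg_mid, P.neg_right]; ring

/-- The expansion of the cubic form along a sum. -/
lemma F_add (x w : V) : P.F (x + w) = P.F x + 3 * P.Φ x x w + 3 * P.Φ x w w + P.F w := by
  simp only [F, P.add_left, P.add_mid, P.add_right]
  have h1 : P.Φ x w x = P.Φ x x w := P.swap23 x w x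
  have h2 : P.Φ w x x = P.Φ x x w := by rw [P.swap12 w x x, h1]
  have h3 : P.Φ w x w = P.Φ x w w := P.swap12 w x w
  have h4 : P.Φ w w x = P.Φ x w w := by rw [P.swap23 w w x, h3]
  rw [h1, h2, h3, h4]; ring

lemma F_add_smul (x w : V) (t : ℂ) :
    P.F (x + t • w) = P.F x + 3 * t * P.Φ x x w + 3 * t ^ 2 * P.Φ x w w + t ^ 3 * P.F w := by
  rw [P.F_add, P.F_smul, P.smul_right, P.smul_mid, P.smul_right]; ring

/-- the quadratic form `Φ e x x` along a sum -/
lemma Q_add (e x w : V) : P.Φ e (x + w) (x + w) = P.Φ e x x + 2 * P.Φ e x w + P.Φ e w w := by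
  simp only [P.add_mid, P.add_right]
  have h1 : P.Φ e w x = P.Φ e x w := P.swap23 e w x
  rw [h1]; ring

lemma Q_add_smul (e x w : V) (t : ℂ) :
    P.Φ e (x + t • w) (x + t • w) = P.Φ e x x + 2 * t * P.Φ e x w + t ^ 2 * P.Φ e w w := by
  rw [P.Q_add, P.smul_right, P.smul_mid, P.smul_right]; ring

/-- Polarisation: a cubic form vanishing on a submodule has vanishing polar form there. -/
lemma Φ_eq_zero_of_F_eq_zero (H : Submodule ℂ V) (h : ∀ x ∈ H, P.F x = 0) :
    ∀ x ∈ H, ∀ y ∈ H, ∀ z ∈ H, P.Φ x y z = 0 := by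
  -- first: Φ x x y = 0
  have h2 : ∀ x ∈ H, ∀ y ∈ H, P.Φ x x y = 0 := by
    intro x hx y hy
    have e1 := P.F_add_smul x y 1
    have e2 := P.F_add_smul x y (-1)
    rw [h _ (H.add_mem hx (H.smul_mem _ hy)), h x hx, h y hy] at e1 e2
    linear_combination (-1 / 6 : ℂ) * e1 + (1 / 6 : ℂ) * e2
  intro x hx y hy z hz
  have e1 := h2 (x + y) (H.add_mem hx hy) z hz
  rw [P.add_left, P.add_mid, P.add_mid, h2 x hx z hz, h2 y hy z hz, P.swap12 y x z] at e1
  linear_combination (1 / 2 : ℂ) * e1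

/-- The cubic form is smooth: at every nonzero zero the differential does not vanish. -/
def Smooth : Prop := ∀ v : V, v ≠ 0 → P.F v = 0 → ∃ w : V, P.Φ v v w ≠ 0

end Polar

/-! ### From a homogeneous cubic polynomial to its polar form -/

section Poly

variable {n : ℕ}

/-- the polar form of `X a * X b * X c` -/
noncomputable def monoPolar (a b c : Fin n) : Polar (Fin n → ℂ) where
  Φ u v w := (1 / 6 : ℂ) * (u a * v b * w c + u a * v c * w b + u b * v a * w c + u b * v c * w a +
    u c * v a * w b + u c * v b * w a)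
  add_left u u' v w := by simp only [Pi.add_apply]; ring
  smul_left t u v w := by simp only [Pi.smul_apply, smul_eq_mul]; ring
  swap12 u v w := by ring
  swap23 u v w := by ring

/-- sums and scalar multiples of polar forms -/
noncomputable def Polar.add {V : Type*} [AddCommGroup V] [Module ℂ V] (P Q : Polar V) : Polar V where
  Φ u v w := P.Φ u v w + Q.Φ u v w
  add_left u u' v w := by rw [P.add_left, Q.add_left]; ring
  smul_left t u v w := by rw [P.smul_left, Q.smul_left]; ring
  swap12 u v w := by rw [P.swap12, Q.swap12]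
  swap23 u v w := by rw [P.swap23, Q.swap23]

noncomputable def Polar.smul {V : Type*} [AddCommGroup V] [Module ℂ V] (r : ℂ) (P : Polar V) :
    Polar V where
  Φ u v w := r * P.Φ u v w
  add_left u u' v w := by rw [P.add_left]; ring
  smul_left t u v w := by rw [P.smul_left]; ring
  swap12 u v w := by rw [P.swap12]
  swap23 u v w := by rw [P.swap23]

noncomputable def Polar.zero (V : Type*) [AddCommGroup V] [Module ℂ V] : Polar V where
  Φ _ _ _ := 0
  add_left _ _ _ _ := by ring
  smul_left _ _ _ _ := by ring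
  swap12 _ _ _ := rfl
  swap23 _ _ _ := rfl

/-- `P` is a polar form of the polynomial `f`. -/
def IsPolarOf (P : Polar (Fin n → ℂ)) (f : MvPolynomial (Fin n) ℂ) : Prop :=
  (∀ x, eval x f = P.F x) ∧ ∀ i x, eval x (pderiv i f) = 3 * P.Φ (Pi.single i 1) x x

lemma isPolarOf_mono (a b c : Fin n) :
    IsPolarOf (monoPolar a b c) (X a * X b * X c : MvPolynomial (Fin n) ℂ) := by
  constructor
  · intro x
    simp only [Polar.F, monoPolar, map_mul, eval_X]; ring
  · intro i x
    simp only [monoPolar, Derivation.leibniz, pderiv_X, smul_eq_mul, map_add, map_mul, eval_X]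
    simp only [Pi.single_apply]
    split_ifs <;> simp <;> ring

lemma exists_finsupp_eq_single_add {σ : Type*} (m : σ →₀ ℕ) (k : ℕ) (h : m.degree = k + 1) :
    ∃ (a : σ) (m' : σ →₀ ℕ), m = Finsupp.single a 1 + m' ∧ m'.degree = k := by
  classical
  have hne : m ≠ 0 := by
    rintro rfl
    simp at h
  obtain ⟨a, ha⟩ := Finsupp.support_nonempty_iff.mpr hne
  have ha' : m a ≠ 0 := Finsupp.mem_support_iff.mp ha
  have hle : Finsupp.single a 1 ≤ m := by
    rw [Finsupp.single_le_iff]
    omega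
  refine ⟨a, m - Finsupp.single a 1, (add_tsub_cancel_of_le hle).symm, ?_⟩
  have := congrArg Finsupp.degree (add_tsub_cancel_of_le hle)
  rw [map_add, Finsupp.degree_single] at this
  omega

lemma monomial_eq_of_degree_three (m : Fin n →₀ ℕ) (h : m.degree = 3) :
    ∃ a b c : Fin n, (monomial m (1 : ℂ)) = X a * X b * X c := by
  obtain ⟨a, m1, rfl, h1⟩ := exists_finsupp_eq_single_add m 2 h
  obtain ⟨b, m2, rfl, h2⟩ := exists_finsupp_eq_single_add m1 1 h1
  obtain ⟨c, m3, rfl, h3⟩ := exists_finsupp_eq_single_add m2 0 h2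
  have hm3 : m3 = 0 := (Finsupp.degree_eq_zero_iff m3).mp h3
  subst hm3
  refine ⟨a, b, c, ?_⟩
  rw [add_zero, X, X, X, monomial_mul, monomial_mul]
  simp [add_assoc]

theorem exists_polar (f : MvPolynomial (Fin n) ℂ) (hf : f.IsHomogeneous 3) :
    ∃ P : Polar (Fin n → ℂ), IsPolarOf P f := by
  rw [← mem_homogeneousSubmodule, homogeneousSubmodule_eq_finsupp_supported,
    AddMonoidAlgebra.supported_eq_span_single] at hf
  refine Submodule.span_induction ?_ ?_ (fun p q _ _ hp hq => ?_) (fun r p _ h => ?_) hf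
  · rintro _ ⟨m, hm, rfl⟩
    have hm' : m.degree = 3 := hm
    obtain ⟨a, b, c, habc⟩ := monomial_eq_of_degree_three m hm'
    refine ⟨monoPolar a b c, ?_⟩
    have : (AddMonoidAlgebra.single m (1 : ℂ) : MvPolynomial (Fin n) ℂ) = X a * X b * X c := habc
    show IsPolarOf (monoPolar a b c) (AddMonoidAlgebra.single m (1 : ℂ) : MvPolynomial (Fin n) ℂ)
    rw [this]
    exact isPolarOf_mono a b c
  · exact ⟨Polar.zero _, by simp [IsPolarOf, Polar.zero, Polar.F]⟩
  · obtain ⟨P, hP1, hP2⟩ := hp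
    obtain ⟨Q, hQ1, hQ2⟩ := hq
    refine ⟨P.add Q, fun x => ?_, fun i x => ?_⟩
    · rw [map_add, hP1, hQ1]; rfl
    · rw [map_add, map_add, hP2, hQ2]; simp only [Polar.add]; ring
  · obtain ⟨P, hP1, hP2⟩ := h
    refine ⟨Polar.smul r P, fun x => ?_, fun i x => ?_⟩
    · rw [smul_eval, hP1]; rfl
    · rw [(pderiv i).map_smul, smul_eval, hP2]; simp only [Polar.smul]; ring

end Poly

end Groth.Agent.Lib.Helper27Cubic
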