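import Mathlib
import Groth.Agent.Lib.Helper27Cubic

set_option autoImplicit false
open MvPolynomial

namespace Groth.Agent.Lib.Helper27Cubic

section Bridge

variable {n : ℕ}

/-- the linear substitution attached to a matrix -/
noncomputable abbrev subst (A : Matrix (Fin n) (Fin n) ℂ) : Fin n → MvPolynomial (Fin n) ℂ :=
  fun i => ∑ j : Fin n, C (A i j) * X j

lemma eval_aeval_subst (A : Matrix (Fin n) (Fin n) ℂ) (f : MvPolynomial (Fin n) ℂ)
    (v : Fin n → ℂ) : eval v (aeval (subst A) f) = eval (A.mulVec v) f := by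
  have h1 : eval v (aeval (subst A) f) = aeval v (aeval (subst A) f) := rfl
  rw [h1, ← AlgHom.comp_apply, comp_aeval]
  have h2 : ∀ g : Fin n → ℂ, aeval g f = eval g f := fun g => rfl
  rw [h2]
  have h4 : (fun i => aeval v (subst A i)) = A.mulVec v := by
    funext i
    have h3 : aeval v (subst A i) = eval v (subst A i) := rfl
    rw [h3]
    simp [subst, Matrix.mulVec, dotProduct]
  rw [h4]

lemma aeval_subst_eq_iff (f : MvPolynomial (Fin n) ℂ) (P : Polar (Fin n → ℂ)) (hP : IsPolarOf P f)
    (A : Matrix (Fin n) (Fin n) ℂ) (c : ℂ) :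
    aeval (subst A) f = C c * f ↔ ∀ v, P.F (A.mulVec v) = c * P.F v := by
  constructor
  · intro h v
    have := congrArg (eval v) h
    rw [eval_aeval_subst, map_mul, eval_C, hP.1, hP.1] at this
    exact this
  · intro h
    apply MvPolynomial.funext
    intro v
    rw [eval_aeval_subst, map_mul, eval_C, hP.1, hP.1]
    exact h v

lemma smooth_of_isPolarOf (f : MvPolynomial (Fin n) ℂ) (P : Polar (Fin n → ℂ)) (hP : IsPolarOf P f)
    (hsm : ∀ v : Fin n → ℂ, v ≠ 0 → eval v f = 0 → ∃ i : Fin n, eval v (pderiv i f) ≠ 0) :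
    P.Smooth := by
  intro v hv hFv
  obtain ⟨i, hi⟩ := hsm v hv (by rw [hP.1]; exact hFv)
  rw [hP.2] at hi
  refine ⟨Pi.single i 1, ?_⟩
  rw [P.swap13]
  intro h
  apply hi
  rw [P.swap23] at h
  rw [h]; ring

lemma exists_F_ne_zero (f : MvPolynomial (Fin n) ℂ) (P : Polar (Fin n → ℂ)) (hP : IsPolarOf P f)
    (hf0 : f ≠ 0) : ∃ x, P.F x ≠ 0 := by
  by_contra h
  push Not at h
  apply hf0
  apply MvPolynomial.funext
  intro v
  rw [hP.1, h v, map_zero]

end Bridge

/-! ### Reflections -/

section Refl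

variable {V : Type*} [AddCommGroup V] [Module ℂ V]

/-- the reflection `x ↦ x - 2 λ(x) e` -/
noncomputable def refl (e : V) (lam : V →ₗ[ℂ] ℂ) : V →ₗ[ℂ] V :=
  LinearMap.id - (2 : ℂ) • lam.smulRight e

lemma refl_apply (e : V) (lam : V →ₗ[ℂ] ℂ) (x : V) : refl e lam x = x - (2 * lam x) • e := by
  simp [refl, mul_smul]

lemma refl_refl (e : V) (lam : V →ₗ[ℂ] ℂ) (h : lam e = 1) (x : V) :
    refl e lam (refl e lam x) = x := by
  rw [refl_apply, refl_apply, map_sub, map_smul, h]
  simp only [smul_eq_mul, mul_one]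
  module

lemma refl_self (e : V) (lam : V →ₗ[ℂ] ℂ) (h : lam e = 1) : refl e lam e = -e := by
  rw [refl_apply, h]; module

end Refl

section Mat

variable {n : ℕ}

local notation "V" => (Fin n → ℂ)

/-- the matrix of a reflection -/
noncomputable def reflMat (e : V) (lam : V →ₗ[ℂ] ℂ) : Matrix (Fin n) (Fin n) ℂ :=
  LinearMap.toMatrix' (refl e lam)

lemma reflMat_mulVec (e : V) (lam : V →ₗ[ℂ] ℂ) (x : V) :
    (reflMat e lam).mulVec x = x - (2 * lam x) • e := by
  rw [reflMat, LinearMap.toMatrix'_mulVec, refl_apply]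

lemma matrix_ext_mulVec {A B : Matrix (Fin n) (Fin n) ℂ} (h : ∀ x, A.mulVec x = B.mulVec x) :
    A = B := by
  apply Matrix.toLin'.injective
  apply LinearMap.ext
  intro x
  rw [Matrix.toLin'_apply, Matrix.toLin'_apply, h]

lemma reflMat_mul_self (e : V) (lam : V →ₗ[ℂ] ℂ) (h : lam e = 1) :
    reflMat e lam * reflMat e lam = 1 := by
  apply matrix_ext_mulVec
  intro x
  rw [← Matrix.mulVec_mulVec, reflMat, LinearMap.toMatrix'_mulVec, LinearMap.toMatrix'_mulVec,
    refl_refl e lam h, Matrix.one_mulVec]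

lemma ker_toLin'_reflMat_sub_id (e : V) (lam : V →ₗ[ℂ] ℂ) (h : lam e = 1) :
    LinearMap.ker (Matrix.toLin' (reflMat e lam) - LinearMap.id) = LinearMap.ker lam := by
  have he : e ≠ 0 := by
    rintro rfl
    rw [map_zero] at h
    exact zero_ne_one h
  ext x
  simp only [LinearMap.mem_ker, LinearMap.sub_apply, Matrix.toLin'_apply, LinearMap.id_apply,
    reflMat_mulVec]
  constructor
  · intro hx
    have : (2 * lam x) • e = 0 := by
      have := hx
      rw [sub_sub_cancel_left, neg_eq_zero] at this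
      exact this
    rcases smul_eq_zero.mp this with h1 | h1
    · simpa using h1
    · exact absurd h1 he
  · intro hx
    rw [hx]; simp

end Mat

section Mat4

local notation "V" => (Fin 4 → ℂ)

lemma finrank_ker_of_apply_eq_one (e : V) (lam : V →ₗ[ℂ] ℂ) (h : lam e = 1) :
    Module.finrank ℂ ↥(LinearMap.ker lam) = 3 := by
  have hsurj : LinearMap.range lam = ⊤ := by
    rw [LinearMap.range_eq_top]
    intro c
    exact ⟨c • e, by rw [map_smul, h]; simp⟩
  have := LinearMap.finrank_range_add_finrank_ker lam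
  rw [hsurj, finrank_top, Module.finrank_self, Module.finrank_fintype_fun_eq_card] at this
  simp at this
  omega

lemma finrank_ker_reflMat (e : V) (lam : V →ₗ[ℂ] ℂ) (h : lam e = 1) :
    Module.finrank ℂ ↥(LinearMap.ker (Matrix.toLin' (reflMat e lam) - LinearMap.id)) = 3 := by
  rw [ker_toLin'_reflMat_sub_id e lam h]
  exact finrank_ker_of_apply_eq_one e lam h

/-- An involution with a hyperplane of fixed points and `A e = -e` is a reflection. -/
lemma exists_lam_of_involution (A : Matrix (Fin 4) (Fin 4) ℂ) (e : V) (he : e ≠ 0)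
    (hfix : Module.finrank ℂ ↥(LinearMap.ker (Matrix.toLin' A - LinearMap.id)) = 3)
    (hAe : A.mulVec e = -e) :
    ∃ lam : V →ₗ[ℂ] ℂ, lam e = 1 ∧ A = reflMat e lam := by
  set H := LinearMap.ker (Matrix.toLin' A - LinearMap.id) with hH
  have heH : e ∉ H := by
    intro h
    rw [hH, LinearMap.mem_ker, LinearMap.sub_apply, Matrix.toLin'_apply, hAe,
      LinearMap.id_apply] at h
    apply he
    have h2 : (2 : ℂ) • e = 0 := by
      have : -e - e = -((2 : ℂ) • e) := by module
      rw [this, neg_eq_zero] at h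
      exact h
    rcases smul_eq_zero.mp h2 with h3 | h3
    · norm_num at h3
    · exact h3
  obtain ⟨g, hge, hHg⟩ := Submodule.exists_le_ker_of_notMem heH
  set lam : V →ₗ[ℂ] ℂ := (g e)⁻¹ • g with hlam
  have hlame : lam e = 1 := by
    rw [hlam, LinearMap.smul_apply, smul_eq_mul, inv_mul_cancel₀ hge]
  have hHlam : H ≤ LinearMap.ker lam := by
    intro x hx
    have := hHg hx
    rw [LinearMap.mem_ker] at this ⊢
    rw [hlam, LinearMap.smul_apply, this, smul_zero]
  have hHeq : H = LinearMap.ker lam :=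
    Submodule.eq_of_le_of_finrank_eq hHlam
      (hfix.trans (finrank_ker_of_apply_eq_one e lam hlame).symm)
  refine ⟨lam, hlame, ?_⟩
  apply matrix_ext_mulVec
  intro x
  rw [reflMat_mulVec]
  have hx : x - lam x • e ∈ H := by
    rw [hHeq, LinearMap.mem_ker, map_sub, map_smul, hlame]; simp
  rw [hH, LinearMap.mem_ker, LinearMap.sub_apply, Matrix.toLin'_apply, LinearMap.id_apply,
    Matrix.mulVec_sub, Matrix.mulVec_smul, hAe] at hx
  have : A.mulVec x = x - lam x • e + lam x • (-e) := by
    have := sub_eq_zero.mp hx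
    rw [sub_eq_iff_eq_add] at this
    exact this
  rw [this]; module

end Mat4

end Groth.Agent.Lib.Helper27Cubic
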