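import Mathlib
import Groth.Prelude.Def_W4c5monodromycubicsHesse

set_option autoImplicit false

namespace Groth.Agent.Lib.Helper27Hesse

open MvPolynomial

lemma eval_form (k : ℂ) (v : Fin 3 → ℂ) :
    eval v (HesseCubic.form k) = v 0 ^ 3 + v 1 ^ 3 + v 2 ^ 3 - 3 * k * (v 0 * v 1 * v 2) := by
  simp [HesseCubic.form]

lemma key0 (k : ℂ) (v w : Fin 3 → ℂ) (hh : v 0 ^ 3 + v 1 ^ 3 + v 2 ^ 3 - 3 * k * (v 0 * v 1 * v 2) = 0)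
    (hB : ((v 0)*(2*(v 0))*(w 0) + (v 0)*((-k*(v 2)))*(w 1) + (v 0)*((-k*(v 1)))*(w 2) + (v 1)*((-k*(v 2)))*(w 0) + (v 1)*(2*(v 1))*(w 1) + (v 1)*((-k*(v 0)))*(w 2) + (v 2)*((-k*(v 1)))*(w 0) + (v 2)*((-k*(v 0)))*(w 1) + (v 2)*(2*(v 2))*(w 2)) = 0)
    (hC : ((w 0)*(2*(v 0))*(w 0) + (w 0)*((-k*(v 2)))*(w 1) + (w 0)*((-k*(v 1)))*(w 2) + (w 1)*((-k*(v 2)))*(w 0) + (w 1)*(2*(v 1))*(w 1) + (w 1)*((-k*(v 0)))*(w 2) + (w 2)*((-k*(v 1)))*(w 0) + (w 2)*((-k*(v 0)))*(w 1) + (w 2)*(2*(v 2))*(w 2)) = 0) :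
    8 * (1 - k ^ 3) * (v 0 * v 1 * v 2) * ((v 1)*(w 2) - (v 2)*(w 1)) ^ 2 = 0 := by
  linear_combination (2*(((w 0)*(2*(v 0))*(w 0) + (w 0)*((-k*(v 2)))*(w 1) + (w 0)*((-k*(v 1)))*(w 2) + (w 1)*((-k*(v 2)))*(w 0) + (w 1)*(2*(v 1))*(w 1) + (w 1)*((-k*(v 0)))*(w 2) + (w 2)*((-k*(v 1)))*(w 0) + (w 2)*((-k*(v 0)))*(w 1) + (w 2)*(2*(v 2))*(w 2))*(2*(v 0)) - ((w 0)*(2*(v 0)) + (w 1)*((-k*(v 2))) + (w 2)*((-k*(v 1))))^2) + 2*k^2*((v 1)*(w 2) - (v 2)*(w 1))^2) * hh + (-(((v 0)*(2*(v 0))*(w 0) + (v 0)*((-k*(v 2)))*(w 1) + (v 0)*((-k*(v 1)))*(w 2) + (v 1)*((-k*(v 2)))*(w 0) + (v 1)*(2*(v 1))*(w 1) + (v 1)*((-k*(v 0)))*(w 2) + (v 2)*((-k*(v 1)))*(w 0) + (v 2)*((-k*(v 0)))*(w 1) + (v 2)*(2*(v 2))*(w 2))*(2*(v 0)) - ((v 0)*(2*(v 0)) + (v 1)*((-k*(v 2))) + (v 2)*((-k*(v 1))))*((w 0)*(2*(v 0)) +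 (w 1)*((-k*(v 2))) + (w 2)*((-k*(v 1))))) + ((v 0)*(2*(v 0)) + (v 1)*((-k*(v 2))) + (v 2)*((-k*(v 1))))*((w 0)*(2*(v 0)) + (w 1)*((-k*(v 2))) + (w 2)*((-k*(v 1))))) * hB + (-((v 0)*(2*(v 0)) + (v 1)*((-k*(v 2))) + (v 2)*((-k*(v 1))))^2) * hC

lemma key1 (k : ℂ) (v w : Fin 3 → ℂ) (hh : v 0 ^ 3 + v 1 ^ 3 + v 2 ^ 3 - 3 * k * (v 0 * v 1 * v 2) = 0)
    (hB : ((v 0)*(2*(v 0))*(w 0) + (v 0)*((-k*(v 2)))*(w 1) + (v 0)*((-k*(v 1)))*(w 2) + (v 1)*((-k*(v 2)))*(w 0) + (v 1)*(2*(v 1))*(w 1) + (v 1)*((-k*(v 0)))*(w 2) + (v 2)*((-k*(v 1)))*(w 0) + (v 2)*((-k*(v 0)))*(w 1) + (v 2)*(2*(v 2))*(w 2)) = 0)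
    (hC : ((w 0)*(2*(v 0))*(w 0) + (w 0)*((-k*(v 2)))*(w 1) + (w 0)*((-k*(v 1)))*(w 2) + (w 1)*((-k*(v 2)))*(w 0) + (w 1)*(2*(v 1))*(w 1) + (w 1)*((-k*(v 0)))*(w 2) + (w 2)*((-k*(v 1)))*(w 0) + (w 2)*((-k*(v 0)))*(w 1) + (w 2)*(2*(v 2))*(w 2)) = 0) :
    8 * (1 - k ^ 3) * (v 0 * v 1 * v 2) * ((v 2)*(w 0) - (v 0)*(w 2)) ^ 2 = 0 := by
  linear_combination (2*(((w 0)*(2*(v 0))*(w 0) + (w 0)*((-k*(v 2)))*(w 1) + (w 0)*((-k*(v 1)))*(w 2) + (w 1)*((-k*(v 2)))*(w 0) + (w 1)*(2*(v 1))*(w 1) + (w 1)*((-k*(v 0)))*(w 2) + (w 2)*((-k*(v 1)))*(w 0) + (w 2)*((-k*(v 0)))*(w 1) + (w 2)*(2*(v 2))*(w 2))*(2*(v 1)) - ((w 0)*((-k*(v 2))) + (w 1)*(2*(v 1)) + (w 2)*((-k*(v 0))))^2) + 2*k^2*((v 2)*(w 0) - (v 0)*(w 2))^2) * hh + (-(((v 0)*(2*(v 0))*(w 0) + (v 0)*((-k*(v 2)))*(w 1) + (v 0)*((-k*(v 1)))*(w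 2) + (v 1)*((-k*(v 2)))*(w 0) + (v 1)*(2*(v 1))*(w 1) + (v 1)*((-k*(v 0)))*(w 2) + (v 2)*((-k*(v 1)))*(w 0) + (v 2)*((-k*(v 0)))*(w 1) + (v 2)*(2*(v 2))*(w 2))*(2*(v 1)) - ((v 0)*((-k*(v 2))) + (v 1)*(2*(v 1)) + (v 2)*((-k*(v 0))))*((w 0)*((-k*(v 2))) + (w 1)*(2*(v 1)) + (w 2)*((-k*(v 0))))) + ((v 0)*((-k*(v 2))) + (v 1)*(2*(v 1)) + (v 2)*((-k*(v 0))))*((w 0)*((-k*(v 2))) + (w 1)*(2*(v 1)) + (w 2)*((-k*(v 0))))) * hB + (-((v 0)*((-k*(v 2))) + (v 1)*(2*(v 1)) + (v 2)*((-k*(v 0))))^2) * hC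

lemma key2 (k : ℂ) (v w : Fin 3 → ℂ) (hh : v 0 ^ 3 + v 1 ^ 3 + v 2 ^ 3 - 3 * k * (v 0 * v 1 * v 2) = 0)
    (hB : ((v 0)*(2*(v 0))*(w 0) + (v 0)*((-k*(v 2)))*(w 1) + (v 0)*((-k*(v 1)))*(w 2) + (v 1)*((-k*(v 2)))*(w 0) + (v 1)*(2*(v 1))*(w 1) + (v 1)*((-k*(v 0)))*(w 2) + (v 2)*((-k*(v 1)))*(w 0) + (v 2)*((-k*(v 0)))*(w 1) + (v 2)*(2*(v 2))*(w 2)) = 0)
    (hC : ((w 0)*(2*(v 0))*(w 0) + (w 0)*((-k*(v 2)))*(w 1) + (w 0)*((-k*(v 1)))*(w 2) + (w 1)*((-k*(v 2)))*(w 0) + (w 1)*(2*(v 1))*(w 1) + (w 1)*((-k*(v 0)))*(w 2) + (w 2)*((-k*(v 1)))*(w 0) + (w 2)*((-k*(v 0)))*(w 1) + (w 2)*(2*(v 2))*(w 2)) = 0) :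
    8 * (1 - k ^ 3) * (v 0 * v 1 * v 2) * ((v 0)*(w 1) - (v 1)*(w 0)) ^ 2 = 0 := by
  linear_combination (2*(((w 0)*(2*(v 0))*(w 0) + (w 0)*((-k*(v 2)))*(w 1) + (w 0)*((-k*(v 1)))*(w 2) + (w 1)*((-k*(v 2)))*(w 0) + (w 1)*(2*(v 1))*(w 1) + (w 1)*((-k*(v 0)))*(w 2) + (w 2)*((-k*(v 1)))*(w 0) + (w 2)*((-k*(v 0)))*(w 1) + (w 2)*(2*(v 2))*(w 2))*(2*(v 2)) - ((w 0)*((-k*(v 1))) + (w 1)*((-k*(v 0))) + (w 2)*(2*(v 2)))^2) + 2*k^2*((v 0)*(w 1) - (v 1)*(w 0))^2) * hh + (-(((v 0)*(2*(v 0))*(w 0) + (v 0)*((-k*(v 2)))*(w 1) + (v 0)*((-k*(v 1)))*(w 2) + (v 1)*((-k*(v 2)))*(w 0) + (v 1)*(2*(v 1))*(w 1) + (v 1)*((-k*(v 0)))*(w 2) + (v 2)*((-k*(v 1)))*(w 0) + (v 2)*((-k*(v 0)))*(w 1) + (v 2)*(2*(v 2))*(w 2))*(2*(v 2)) - ((v 0)*((-k*(v 1))) + (v 1)*((-k*(v 0))) + (v 2)*(2*(v 2)))*((w 0)*((-k*(v 1)))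 + (w 1)*((-k*(v 0))) + (w 2)*(2*(v 2)))) + ((v 0)*((-k*(v 1))) + (v 1)*((-k*(v 0))) + (v 2)*(2*(v 2)))*((w 0)*((-k*(v 1))) + (w 1)*((-k*(v 0))) + (w 2)*(2*(v 2)))) * hB + (-((v 0)*((-k*(v 1))) + (v 1)*((-k*(v 0))) + (v 2)*(2*(v 2)))^2) * hC


open Matrix in
lemma forward (k : ℂ) (hk : k ^ 3 ≠ 1) (v : Fin 3 → ℂ)
    (hCv : eval v (HesseCubic.form k) = 0) (w : Fin 3 → ℂ) (hli : LinearIndependent ℂ ![v, w])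
    (hw : ∀ t : ℂ, eval (v + t • w) (HesseCubic.form k) = t ^ 3 * eval w (HesseCubic.form k)) :
    v 0 * v 1 * v 2 = 0 := by
  rw [eval_form] at hCv
  have e1 := hw 1
  have e2 := hw (-1)
  simp only [eval_form, Pi.add_apply, Pi.smul_apply, smul_eq_mul] at e1 e2
  have hB : ((v 0)*(2*(v 0))*(w 0) + (v 0)*((-k*(v 2)))*(w 1) + (v 0)*((-k*(v 1)))*(w 2) + (v 1)*((-k*(v 2)))*(w 0) + (v 1)*(2*(v 1))*(w 1) + (v 1)*((-k*(v 0)))*(w 2) + (v 2)*((-k*(v 1)))*(w 0) + (v 2)*((-k*(v 0)))*(w 1) + (v 2)*(2*(v 2))*(w 2)) = 0 := by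
    linear_combination (1/3 : ℂ) * e1 - (1/3 : ℂ) * e2
  have hC : ((w 0)*(2*(v 0))*(w 0) + (w 0)*((-k*(v 2)))*(w 1) + (w 0)*((-k*(v 1)))*(w 2) + (w 1)*((-k*(v 2)))*(w 0) + (w 1)*(2*(v 1))*(w 1) + (w 1)*((-k*(v 0)))*(w 2) + (w 2)*((-k*(v 1)))*(w 0) + (w 2)*((-k*(v 0)))*(w 1) + (w 2)*(2*(v 2))*(w 2)) = 0 := by
    linear_combination (1/3 : ℂ) * e1 + (1/3 : ℂ) * e2 - (2/3 : ℂ) * hCv
  have hn : v ⨯₃ w ≠ 0 := crossProduct_ne_zero_iff_linearIndependent.mpr hli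
  obtain ⟨i, hi⟩ := Function.ne_iff.mp hn
  have hk' : (1 - k ^ 3) ≠ 0 := sub_ne_zero.mpr (Ne.symm hk)
  rw [cross_apply] at hi
  have h8 : (8 : ℂ) ≠ 0 := by norm_num
  fin_cases i
  · have h := key0 k v w hCv hB hC
    have hi' : (v 1) * (w 2) - (v 2) * (w 1) ≠ 0 := by simpa using hi
    have := (mul_eq_zero.mp h).resolve_right (pow_ne_zero 2 hi')
    exact (mul_eq_zero.mp this).resolve_left (mul_ne_zero h8 hk')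
  · have h := key1 k v w hCv hB hC
    have hi' : (v 2) * (w 0) - (v 0) * (w 2) ≠ 0 := by simpa using hi
    have := (mul_eq_zero.mp h).resolve_right (pow_ne_zero 2 hi')
    exact (mul_eq_zero.mp this).resolve_left (mul_ne_zero h8 hk')
  · have h := key2 k v w hCv hB hC
    have hi' : (v 0) * (w 1) - (v 1) * (w 0) ≠ 0 := by simpa using hi
    have := (mul_eq_zero.mp h).resolve_right (pow_ne_zero 2 hi')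
    exact (mul_eq_zero.mp this).resolve_left (mul_ne_zero h8 hk')

lemma backward0 (k γ c : ℂ) (hγ : γ ^ 3 = 1) (hc : c ≠ 0) :
    ∃ w : Fin 3 → ℂ, LinearIndependent ℂ ![c • ![0, 1, -γ], w] ∧
      ∀ t : ℂ, eval (c • ![0, 1, -γ] + t • w) (HesseCubic.form k) =
        t ^ 3 * eval w (HesseCubic.form k) := by
  refine ⟨![1, -(k * γ), 0], ?_, ?_⟩
  · rw [LinearIndependent.pair_iff]
    intro s t h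
    have h0 := congrFun h 0
    have h1 := congrFun h 1
    simp at h0 h1
    subst h0
    simp at h1
    exact ⟨h1.resolve_right hc, rfl⟩
  · intro t
    simp only [eval_form]
    simp
    linear_combination (-c ^ 3 - t ^ 3 * k ^ 3 + t ^ 3 * k ^ 3) * hγ

lemma backward1 (k γ c : ℂ) (hγ : γ ^ 3 = 1) (hc : c ≠ 0) :
    ∃ w : Fin 3 → ℂ, LinearIndependent ℂ ![c • ![-γ, 0, 1], w] ∧
      ∀ t : ℂ, eval (c • ![-γ, 0, 1] + t • w) (HesseCubic.form k) =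
        t ^ 3 * eval w (HesseCubic.form k) := by
  refine ⟨![0, 1, -(k * γ)], ?_, ?_⟩
  · rw [LinearIndependent.pair_iff]
    intro s t h
    have h0 := congrFun h 1
    have h1 := congrFun h 2
    simp at h0 h1
    subst h0
    simp at h1
    exact ⟨h1.resolve_right hc, rfl⟩
  · intro t
    simp only [eval_form]
    simp
    linear_combination (-c ^ 3) * hγ

lemma backward2 (k γ c : ℂ) (hγ : γ ^ 3 = 1) (hc : c ≠ 0) :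
    ∃ w : Fin 3 → ℂ, LinearIndependent ℂ ![c • ![1, -γ, 0], w] ∧
      ∀ t : ℂ, eval (c • ![1, -γ, 0] + t • w) (HesseCubic.form k) =
        t ^ 3 * eval w (HesseCubic.form k) := by
  refine ⟨![-(k * γ), 0, 1], ?_, ?_⟩
  · rw [LinearIndependent.pair_iff]
    intro s t h
    have h0 := congrFun h 2
    have h1 := congrFun h 0
    simp at h0 h1
    subst h0
    simp at h1
    exact ⟨h1.resolve_right hc, rfl⟩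
  · intro t
    simp only [eval_form]
    simp
    linear_combination (-c ^ 3) * hγ

end Groth.Agent.Lib.Helper27Hesse
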