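import Mathlib

set_option autoImplicit false

namespace Groth.Agent.Lib.Helper27CommonZero

open MvPolynomial

/-- Two polynomials in three variables over `ℂ` vanishing at the origin have a common zero other
than the origin (Krull's height theorem and the Nullstellensatz). -/
theorem exists_ne_zero_common_zero (F G : MvPolynomial (Fin 3) ℂ) (hF : eval 0 F = 0)
    (hG : eval 0 G = 0) : ∃ v : Fin 3 → ℂ, v ≠ 0 ∧ eval v F = 0 ∧ eval v G = 0 := by
  by_contra hcon
  push Not at hcon
  have hdim : ringKrullDim (MvPolynomial (Fin 3) ℂ) = 3 := by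
    rw [MvPolynomial.ringKrullDim_of_isNoetherianRing]
    simp [ringKrullDim_eq_zero_of_field]
  -- a maximal ideal of height at least three
  obtain ⟨M, hM, hMh⟩ : ∃ M : Ideal (MvPolynomial (Fin 3) ℂ), M.IsMaximal ∧ 3 ≤ M.height := by
    by_contra h
    push Not at h
    have h2 : ringKrullDim (MvPolynomial (Fin 3) ℂ) ≤ 2 := by
      rw [ringKrullDim_le_iff_isMaximal_height_le]
      intro m hm
      have h' : m.height < 2 + 1 := by norm_num; exact h m hm
      have h3 : m.height ≤ 2 := Order.le_of_lt_add_one h'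
      have : ((2 : ℕ∞) : WithBot ℕ∞) = 2 := rfl
      rw [← this]
      exact WithBot.coe_le_coe.mpr h3
    rw [hdim] at h2
    norm_num at h2
  obtain ⟨v, rfl⟩ := MvPolynomial.isMaximal_iff_eq_vanishingIdeal_singleton.mp hM
  -- translate
  let τ : MvPolynomial (Fin 3) ℂ →ₐ[ℂ] MvPolynomial (Fin 3) ℂ := aeval (fun i => X i - C (v i))
  have hτ : ∀ (p : MvPolynomial (Fin 3) ℂ) (x : Fin 3 → ℂ), eval x (τ p) = eval (x - v) p := by
    intro p x
    induction p using MvPolynomial.induction_on with
    | C a => simp [τ]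
    | add p q hp hq => simp only [map_add, hp, hq]
    | mul_X p i hp => simp only [map_mul, hp]; simp [τ]
  set s : Finset (MvPolynomial (Fin 3) ℂ) := {τ F, τ G} with hs
  have hzero : zeroLocus ℂ (Ideal.span (s : Set (MvPolynomial (Fin 3) ℂ))) ⊆ {v} := by
    intro x hx
    rw [zeroLocus_span] at hx
    have h1 : eval x (τ F) = 0 := hx (τ F) (by simp [hs])
    have h2 : eval x (τ G) = 0 := hx (τ G) (by simp [hs])
    rw [hτ] at h1 h2
    by_contra hne
    have hne' : x - v ≠ 0 := sub_ne_zero.mpr hne
    exact hcon (x - v) hne' h1 h2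
  have hmin : vanishingIdeal ℂ {v} ∈
      (Ideal.span (s : Set (MvPolynomial (Fin 3) ℂ))).minimalPrimes := by
    refine ⟨⟨inferInstance, ?_⟩, ?_⟩
    · rw [Ideal.span_le]
      intro p hp
      rw [hs] at hp
      simp only [Finset.coe_insert, Finset.coe_singleton, Set.mem_insert_iff,
        Set.mem_singleton_iff] at hp
      rw [SetLike.mem_coe, mem_vanishingIdeal_singleton_iff]
      rcases hp with rfl | rfl
      · show eval v (τ F) = 0
        rw [hτ, sub_self]; exact hF
      · show eval v (τ G) = 0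
        rw [hτ, sub_self]; exact hG
    · rintro Q ⟨hQ, hQs⟩ _
      have h1 : vanishingIdeal ℂ {v} ≤
          vanishingIdeal ℂ (zeroLocus ℂ (Ideal.span (s : Set (MvPolynomial (Fin 3) ℂ)))) :=
        vanishingIdeal_anti_mono hzero
      rw [vanishingIdeal_zeroLocus_eq_radical] at h1
      exact h1.trans (hQ.radical_le_iff.mpr hQs)
  have h1 := Ideal.height_le_card_of_mem_minimalPrimes_span_finset hmin
  have h2 : s.card ≤ 2 := Finset.card_le_two
  have h3 : ((s.card : ℕ) : ℕ∞) ≤ ((2 : ℕ) : ℕ∞) := by exact_mod_cast h2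
  have := (hMh.trans h1).trans h3
  norm_num at this

end Groth.Agent.Lib.Helper27CommonZero
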