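import Mathlib
import Groth.Agent.Lib.Helper27Cubic2

set_option autoImplicit false
open MvPolynomial

namespace Groth.Agent.Lib.Helper27Cubic

section LinAlg

variable {V : Type*} [AddCommGroup V] [Module ℂ V]

lemma linearIndependent_pair_of_notMem {x y : V} (hx : x ≠ 0) (hy : y ∉ Submodule.span ℂ {x}) :
    LinearIndependent ℂ ![x, y] := by
  rw [LinearIndependent.pair_iff' hx]
  intro a ha
  exact hy (Submodule.mem_span_singleton.mpr ⟨a, ha⟩)

lemma finrank_span_pair_eq_two {x y : V} (hx : x ≠ 0) (hy : y ∉ Submodule.span ℂ {x}) :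
    Module.finrank ℂ ↥(Submodule.span ℂ ({x, y} : Set V)) = 2 := by
  have h := finrank_span_eq_card (linearIndependent_pair_of_notMem hx hy)
  have hr : Set.range ![x, y] = ({x, y} : Set V) := by
    ext w
    simp only [Matrix.range_cons, Matrix.range_empty, Set.union_empty, Set.mem_union,
      Set.mem_singleton_iff, Set.mem_insert_iff]
  rw [hr] at h
  simpa using h

lemma linearIndependent_triple_of_notMem {x y z : V} (hx : x ≠ 0)
    (hy : y ∉ Submodule.span ℂ {x}) (hz : z ∉ Submodule.span ℂ ({x, y} : Set V)) :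
    LinearIndependent ℂ ![z, x, y] := by
  have h2 := linearIndependent_pair_of_notMem hx hy
  have : (![z, x, y] : Fin 3 → V) = Fin.cons z ![x, y] := rfl
  rw [this, linearIndependent_finCons]
  refine ⟨h2, ?_⟩
  have hr : Set.range ![x, y] = ({x, y} : Set V) := by
    ext w
    simp only [Matrix.range_cons, Matrix.range_empty, Set.union_empty, Set.mem_union,
      Set.mem_singleton_iff, Set.mem_insert_iff]
  rw [hr]
  exact hz

lemma finrank_span_triple_eq_three {x y z : V} (hx : x ≠ 0) (hy : y ∉ Submodule.span ℂ {x})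
    (hz : z ∉ Submodule.span ℂ ({x, y} : Set V)) :
    Module.finrank ℂ ↥(Submodule.span ℂ ({x, y, z} : Set V)) = 3 := by
  have h := finrank_span_eq_card (linearIndependent_triple_of_notMem hx hy hz)
  have hr : Set.range ![z, x, y] = ({x, y, z} : Set V) := by
    simp only [Matrix.range_cons, Matrix.range_empty, Set.union_empty]
    ext w
    simp only [Set.mem_union, Set.mem_singleton_iff, Set.mem_insert_iff]
    tauto
  rw [hr] at h
  simpa using h

variable [FiniteDimensional ℂ V]

/-- A two-dimensional subspace is spanned by any two of its independent vectors. -/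
lemma eq_span_pair (U : Submodule ℂ V) (hU : Module.finrank ℂ ↥U = 2) {e u : V} (he : e ≠ 0)
    (heU : e ∈ U) (huU : u ∈ U) (hu : u ∉ Submodule.span ℂ {e}) :
    Submodule.span ℂ ({e, u} : Set V) = U := by
  apply Submodule.eq_of_le_of_finrank_eq
  · rw [Submodule.span_le]
    rintro x (rfl | rfl)
    · exact heU
    · exact huU
  · rw [finrank_span_pair_eq_two he hu, hU]

lemma exists_notMem_span_singleton (U : Submodule ℂ V) (hU : Module.finrank ℂ ↥U = 2) (e : V) :
    ∃ u ∈ U, u ∉ Submodule.span ℂ {e} := by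
  by_contra h
  push Not at h
  have hle : U ≤ Submodule.span ℂ {e} := h
  have h1 := Submodule.finrank_mono hle
  have h2 : Module.finrank ℂ ↥(Submodule.span ℂ ({e} : Set V)) ≤ 1 := by
    simpa using finrank_span_le_card (R := ℂ) ({e} : Set V)
  omega

lemma finrank_ker_functional {d : ℕ} (hV : Module.finrank ℂ V = d + 1) (g : V →ₗ[ℂ] ℂ)
    (hg : g ≠ 0) : Module.finrank ℂ ↥(LinearMap.ker g) = d := by
  have hsurj : LinearMap.range g = ⊤ := by
    rw [LinearMap.range_eq_top]
    obtain ⟨w, hw⟩ : ∃ w, g w ≠ 0 := by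
      by_contra h
      push Not at h
      exact hg (LinearMap.ext h)
    intro c
    exact ⟨(c / g w) • w, by rw [map_smul, smul_eq_mul, div_mul_cancel₀ c hw]⟩
  have := LinearMap.finrank_range_add_finrank_ker g
  rw [hsurj, finrank_top, Module.finrank_self, hV] at this
  omega

end LinAlg

section Geometry

variable {V : Type*} [AddCommGroup V] [Module ℂ V] [FiniteDimensional ℂ V] (P : Polar V)

/-- A smooth cubic surface contains no plane. -/
lemma no_plane (hsm : P.Smooth) {d : ℕ} (hV : Module.finrank ℂ V = d + 3) (g : V →ₗ[ℂ] ℂ)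
    (hg : g ≠ 0) : ¬ ∀ x ∈ LinearMap.ker g, P.F x = 0 := by
  intro hF
  have hΦ := P.Φ_eq_zero_of_F_eq_zero (LinearMap.ker g) hF
  have hfin : Module.finrank ℂ ↥(LinearMap.ker g) = d + 2 := finrank_ker_functional hV g hg
  obtain ⟨w₀, hw₀⟩ : ∃ w, g w ≠ 0 := by
    by_contra h
    push Not at h
    exact hg (LinearMap.ext h)
  -- two independent vectors of the kernel
  have hpos : 0 < Module.finrank ℂ ↥(LinearMap.ker g) := by omega
  obtain ⟨a', ha'⟩ := Module.finrank_pos_iff_exists_ne_zero.mp hpos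
  set a : V := a'.1 with ha
  have haK : a ∈ LinearMap.ker g := a'.2
  have ha0 : a ≠ 0 := fun h => ha' (Subtype.ext h)
  obtain ⟨b, hbK, hb⟩ : ∃ b ∈ LinearMap.ker g, b ∉ Submodule.span ℂ {a} := by
    by_contra h
    push Not at h
    have hle : LinearMap.ker g ≤ Submodule.span ℂ {a} := h
    have h1 := Submodule.finrank_mono hle
    have h2 : Module.finrank ℂ ↥(Submodule.span ℂ ({a} : Set V)) ≤ 1 := by
      simpa using finrank_span_le_card (R := ℂ) ({a} : Set V)
    omega
  have hb0 : b ≠ 0 := fun h => hb (h ▸ Submodule.zero_mem _)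
  -- a nonzero vector of the kernel at which the transversal derivative vanishes
  obtain ⟨x₀, hx₀K, hx₀0, hx₀⟩ : ∃ x₀ ∈ LinearMap.ker g, x₀ ≠ 0 ∧ P.Φ x₀ x₀ w₀ = 0 := by
    by_cases hbb : P.Φ b b w₀ = 0
    · exact ⟨b, hbK, hb0, hbb⟩
    · obtain ⟨s, hs⟩ := IsAlgClosed.exists_eq_mul_self
        (discrim (P.Φ b b w₀) (2 * P.Φ a b w₀) (P.Φ a a w₀))
      obtain ⟨t, ht⟩ := exists_quadratic_eq_zero hbb ⟨s, hs⟩
      refine ⟨a + t • b, Submodule.add_mem _ haK (Submodule.smul_mem _ _ hbK), ?_, ?_⟩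
      · intro h
        apply hb
        have : a = (-t) • b := by
          rw [neg_smul]; exact eq_neg_of_add_eq_zero_left h
        by_cases ht0 : t = 0
        · subst ht0; simp at this; exact absurd this ha0
        · rw [Submodule.mem_span_singleton]
          refine ⟨(-t)⁻¹, ?_⟩
          rw [this, smul_smul, inv_mul_cancel₀ (neg_ne_zero.mpr ht0), one_smul]
      · simp only [P.add_left, P.add_mid, P.smul_left, P.smul_mid]
        rw [P.swap12 b a w₀]
        linear_combination ht
  -- the differential vanishes at x₀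
  obtain ⟨w, hw⟩ := hsm x₀ hx₀0 (hF x₀ hx₀K)
  apply hw
  have hy : w - (g w / g w₀) • w₀ ∈ LinearMap.ker g := by
    rw [LinearMap.mem_ker, map_sub, map_smul, smul_eq_mul, div_mul_cancel₀ _ hw₀, sub_self]
  have h1 := hΦ x₀ hx₀K x₀ hx₀K _ hy
  rw [P.sub_right, P.smul_right, hx₀, mul_zero, sub_zero] at h1
  exact h1

/-- `e` is an Eckardt point: it lies on three distinct lines contained in the surface. -/
def IsEckardt (e : V) : Prop :=
  ∃ U : Fin 3 → Submodule ℂ V, Function.Injective U ∧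
    ∀ i : Fin 3, Module.finrank ℂ ↥(U i) = 2 ∧ e ∈ U i ∧ ∀ u ∈ U i, P.F u = 0

variable {P}

lemma IsEckardt.F_eq_zero {e : V} (hE : IsEckardt P e) : P.F e = 0 := by
  obtain ⟨U, _, hU⟩ := hE
  exact (hU 0).2.2 e (hU 0).2.1

/-- At an Eckardt point the second fundamental form vanishes on the tangent plane. -/
lemma IsEckardt.Q_eq_zero {e : V} (hE : IsEckardt P e) (he : e ≠ 0) (hsm : P.Smooth)
    (hV : Module.finrank ℂ V = 4) : ∀ y, P.Φ e e y = 0 → P.Φ e y y = 0 := by
  have hFe := hE.F_eq_zero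
  obtain ⟨U, hinj, hU⟩ := hE
  -- the tangent plane
  have hℓ : P.lin e e ≠ 0 := by
    obtain ⟨w, hw⟩ := hsm e he hFe
    intro h
    apply hw
    have := congrArg (fun φ => φ w) h
    simpa using this
  have hT : Module.finrank ℂ ↥(LinearMap.ker (P.lin e e)) = 3 :=
    finrank_ker_functional (d := 3) hV _ hℓ
  -- points on the lines
  have hu : ∀ i, ∃ u ∈ U i, u ∉ Submodule.span ℂ {e} :=
    fun i => exists_notMem_span_singleton (U i) (hU i).1 e
  choose u huU hue using hu
  have hspan : ∀ i, Submodule.span ℂ ({e, u i} : Set V) = U i :=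
    fun i => eq_span_pair (U i) (hU i).1 he (hU i).2.1 (huU i) (hue i)
  have hΦU : ∀ i, ∀ x ∈ U i, ∀ y ∈ U i, ∀ z ∈ U i, P.Φ x y z = 0 :=
    fun i => P.Φ_eq_zero_of_F_eq_zero (U i) (hU i).2.2
  have h1 : ∀ i, P.Φ e e (u i) = 0 := fun i => hΦU i e (hU i).2.1 e (hU i).2.1 _ (huU i)
  have h2 : ∀ i, P.Φ e (u i) (u i) = 0 := fun i => hΦU i e (hU i).2.1 _ (huU i) _ (huU i)
  -- distinctness
  have hne : ∀ i j, i ≠ j → u j ∉ U i := by
    intro i j hij huj
    apply hij
    apply hinj
    have hle : U j ≤ U i := by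
      rw [← hspan j, Submodule.span_le]
      rintro x (rfl | rfl)
      · exact (hU i).2.1
      · exact huj
    exact (Submodule.eq_of_le_of_finrank_eq hle ((hU j).1.trans (hU i).1.symm)).symm
  -- the tangent plane is spanned by e, u 0, u 1
  have hu1 : u 1 ∉ Submodule.span ℂ ({e, u 0} : Set V) := by
    rw [hspan 0]; exact hne 0 1 (by decide)
  have hTspan : Submodule.span ℂ ({e, u 0, u 1} : Set V) = LinearMap.ker (P.lin e e) := by
    apply Submodule.eq_of_le_of_finrank_eq
    · rw [Submodule.span_le]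
      rintro x (rfl | rfl | rfl)
      · show P.Φ x x x = 0
        exact hFe
      · exact h1 0
      · exact h1 1
    · rw [finrank_span_triple_eq_three he (hue 0) hu1, hT]
  -- the general formula on the tangent plane
  have hform : ∀ s a b : ℂ, P.Φ e (s • e + a • u 0 + b • u 1) (s • e + a • u 0 + b • u 1) =
      2 * a * b * P.Φ e (u 0) (u 1) := by
    intro s a b
    simp only [P.add_mid, P.add_right, P.smul_mid, P.smul_right]
    have e1 : P.Φ e e e = 0 := hFe
    have e2 : P.Φ e (u 0) e = 0 := by rw [P.swap23]; exact h1 0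
    have e3 : P.Φ e (u 1) e = 0 := by rw [P.swap23]; exact h1 1
    have e4 : P.Φ e (u 1) (u 0) = P.Φ e (u 0) (u 1) := P.swap23 _ _ _
    rw [e1, e2, e3, e4, h1 0, h1 1, h2 0, h2 1]; ring
  -- the third line
  have hu2T : u 2 ∈ Submodule.span ℂ ({e, u 0, u 1} : Set V) := by
    rw [hTspan]; exact h1 2
  obtain ⟨s, a, b, hsab⟩ := Submodule.mem_span_triple.mp hu2T
  have ha : a ≠ 0 := by
    rintro rfl
    apply hne 1 2 (by decide)
    rw [← hsab, zero_smul, add_zero]
    exact Submodule.add_mem _ (Submodule.smul_mem _ _ (hU 1).2.1) (Submodule.smul_mem _ _ (huU 1))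
  have hb : b ≠ 0 := by
    rintro rfl
    apply hne 0 2 (by decide)
    rw [← hsab, zero_smul, add_zero]
    exact Submodule.add_mem _ (Submodule.smul_mem _ _ (hU 0).2.1) (Submodule.smul_mem _ _ (huU 0))
  have h01 : P.Φ e (u 0) (u 1) = 0 := by
    have := h2 2
    rw [← hsab, hform] at this
    have h2ab : 2 * a * b ≠ 0 := mul_ne_zero (mul_ne_zero two_ne_zero ha) hb
    exact (mul_eq_zero.mp this).resolve_left h2ab
  intro y hy
  have hyT : y ∈ Submodule.span ℂ ({e, u 0, u 1} : Set V) := by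
    rw [hTspan]; exact hy
  obtain ⟨s', a', b', rfl⟩ := Submodule.mem_span_triple.mp hyT
  rw [hform, h01, mul_zero]

/-- The linear form of the Eckardt involution. -/
lemma IsEckardt.exists_lam {e : V} (hE : IsEckardt P e) (he : e ≠ 0) (hsm : P.Smooth)
    (hV : Module.finrank ℂ V = 4) :
    ∃ lam : V →ₗ[ℂ] ℂ, lam e = 1 ∧ ∀ x, P.Φ e x x = 2 * P.Φ e e x * lam x := by
  have hFe := hE.F_eq_zero
  have hQ := hE.Q_eq_zero he hsm hV
  obtain ⟨w, hw⟩ := hsm e he hFe
  set w₀ : V := (P.Φ e e w)⁻¹ • w with hw₀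
  have hℓw₀ : P.Φ e e w₀ = 1 := by
    rw [hw₀, P.smul_right, inv_mul_cancel₀ hw]
  refine ⟨P.lin e w₀ - ((1 / 2 : ℂ) * P.Φ e w₀ w₀) • P.lin e e, ?_, ?_⟩
  · simp only [LinearMap.sub_apply, LinearMap.smul_apply, Polar.lin_apply, smul_eq_mul]
    have e1 : P.Φ e e e = 0 := hFe
    rw [P.swap23 e w₀ e, hℓw₀, e1]; ring
  · intro x
    have hy : P.Φ e e (x - P.Φ e e x • w₀) = 0 := by
      rw [P.sub_right, P.smul_right, hℓw₀]; ring
    have := hQ _ hy
    simp only [P.sub_mid, P.sub_right, P.smul_mid, P.smul_right] at this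
    rw [P.swap23 e w₀ x] at this
    simp only [LinearMap.sub_apply, LinearMap.smul_apply, Polar.lin_apply, smul_eq_mul]
    rw [P.swap23 e w₀ x]
    linear_combination this

/-- The reflection attached to an Eckardt point preserves the cubic form. -/
lemma F_refl {e : V} (lam : V →ₗ[ℂ] ℂ) (hFe : P.F e = 0)
    (hQ : ∀ x, P.Φ e x x = 2 * P.Φ e e x * lam x) (x : V) :
    P.F (refl e lam x) = P.F x := by
  rw [refl_apply, sub_eq_add_neg, ← neg_smul, P.F_add_smul, hFe]
  have e1 : P.Φ x x e = P.Φ e x x := P.swap13 x x e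
  have e2 : P.Φ x e e = P.Φ e e x := P.swap13 x e e
  rw [e1, e2, hQ x]; ring

/-- General formula for the cubic form along a reflection in `e`. -/
lemma F_refl' {e : V} (lam lam' : V →ₗ[ℂ] ℂ) (hFe : P.F e = 0)
    (hQ : ∀ x, P.Φ e x x = 2 * P.Φ e e x * lam x) (x : V) :
    P.F (refl e lam' x) = P.F x - 12 * P.Φ e e x * lam' x * (lam x - lam' x) := by
  rw [refl_apply, sub_eq_add_neg, ← neg_smul, P.F_add_smul, hFe]
  have e1 : P.Φ x x e = P.Φ e x x := P.swap13 x x e
  have e2 : P.Φ x e e = P.Φ e e x := P.swap13 x e e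
  rw [e1, e2, hQ x]; ring

/-- Uniqueness of the linear form of the Eckardt involution. -/
lemma lam_unique {e : V} (he : e ≠ 0) (hsm : P.Smooth) (hV : Module.finrank ℂ V = 4)
    (lam lam' : V →ₗ[ℂ] ℂ) (hFe : P.F e = 0) (hlam' : lam' e = 1)
    (hQ : ∀ x, P.Φ e x x = 2 * P.Φ e e x * lam x)
    (c : ℂ) (hc : ∀ x, P.F (refl e lam' x) = c * P.F x) : lam' = lam := by
  have hlam'0 : lam' ≠ 0 := by
    intro h
    rw [h] at hlam'
    simp at hlam'
  have hform : ∀ x, (c - 1) * P.F x = - (12 * P.Φ e e x * lam' x * (lam x - lam' x)) := by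
    intro x
    have := hc x
    rw [F_refl' lam lam' hFe hQ] at this
    linear_combination -this
  have hc1 : c = 1 := by
    by_contra hne
    apply no_plane P hsm (d := 1) hV lam' hlam'0
    intro x hx
    have := hform x
    rw [LinearMap.mem_ker.mp hx] at this
    have h0 : (c - 1) * P.F x = 0 := by rw [this]; ring
    exact (mul_eq_zero.mp h0).resolve_left (sub_ne_zero.mpr hne)
  have hprod : ∀ x, P.Φ e e x * lam' x * (lam x - lam' x) = 0 := by
    intro x
    have := hform x
    rw [hc1, sub_self, zero_mul] at this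
    linear_combination (1 / 12 : ℂ) * this
  by_contra hne
  have hℓ : ∃ x, P.lin e e x ≠ 0 := by
    obtain ⟨w, hw⟩ := hsm e he hFe
    exact ⟨w, hw⟩
  have hδ : ∃ x, (lam - lam') x ≠ 0 := by
    by_contra h
    push Not at h
    apply hne
    ext x
    have := h x
    rw [LinearMap.sub_apply, sub_eq_zero] at this
    exact this.symm
  obtain ⟨x, hx⟩ := Module.Dual.exists_forall_ne_zero_of_forall_exists
    (K := ℂ) (M := V) (ι := Fin 3) ![P.lin e e, lam', lam - lam']
    (by
      intro i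
      fin_cases i
      · exact hℓ
      · exact ⟨e, by simp [hlam']⟩
      · exact hδ)
  have h0 := hx 0
  have h1 := hx 1
  have h2 := hx 2
  simp only [Matrix.cons_val_zero, Matrix.cons_val_one, Matrix.cons_val_two, Matrix.head_cons,
    Matrix.tail_cons, Polar.lin_apply, LinearMap.sub_apply] at h0 h1 h2
  exact (mul_ne_zero (mul_ne_zero h0 h1) h2) (hprod x)

end Geometry

end Groth.Agent.Lib.Helper27Cubic
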