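import Mathlib
import Groth.Agent.Lib.Helper27Cubic3
import Groth.Agent.Lib.Helper27CommonZero

set_option autoImplicit false
open MvPolynomial

namespace Groth.Agent.Lib.Helper27Cubic

local notation "V3" => (Fin 3 → ℂ)

section Hessian

variable (P : Polar V3)

/-- linearity in the last slot, in coordinates -/
lemma Φ_eq_sum_right (a b x : V3) :
    P.Φ a b x = ∑ l : Fin 3, x l * P.Φ a b (Pi.single l 1) := by
  have := LinearMap.pi_apply_eq_sum_univ (P.lin a b) x
  simp only [Polar.lin_apply, smul_eq_mul] at this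
  rw [this]
  refine Finset.sum_congr rfl fun l _ => ?_
  congr 2
  funext j
  simp [Pi.single_apply, eq_comm]

/-- The Hessian polynomial of a ternary cubic form given by its polar form. -/
noncomputable def hessPoly : MvPolynomial (Fin 3) ℂ :=
  (Matrix.of fun i j : Fin 3 =>
    ∑ l : Fin 3, C (P.Φ (Pi.single i 1) (Pi.single j 1) (Pi.single l 1)) * X l).det

lemma eval_hessPoly (x : V3) :
    eval x (hessPoly P) =
      (Matrix.of fun i j : Fin 3 => P.Φ (Pi.single i 1) (Pi.single j 1) x).det := by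
  rw [hessPoly, RingHom.map_det]
  congr 1
  ext i j
  simp only [RingHom.mapMatrix_apply, Matrix.map_apply, Matrix.of_apply, map_sum, map_mul, eval_C,
    eval_X]
  rw [Φ_eq_sum_right P _ _ x]
  refine Finset.sum_congr rfl fun l _ => ?_
  ring

/-- A smooth plane cubic has a flex. -/
lemma exists_flex (hsm : P.Smooth) (f : MvPolynomial (Fin 3) ℂ) (hP : IsPolarOf P f) :
    ∃ p w : V3, p ≠ 0 ∧ w ∉ Submodule.span ℂ {p} ∧ P.F p = 0 ∧ P.Φ p p w = 0 ∧ P.Φ p w w = 0 := by
  obtain ⟨p, hp0, hFp, hHp⟩ := Groth.Agent.Lib.Helper27CommonZero.exists_ne_zero_common_zero f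
    (hessPoly P) (by rw [hP.1]; exact P.F_zero) (by
      rw [eval_hessPoly]
      have : (Matrix.of fun i j : Fin 3 => P.Φ (Pi.single i 1) (Pi.single j 1) (0 : V3)) = 0 := by
        ext i j
        simp [P.zero_right]
      rw [this, Matrix.det_zero])
  rw [hP.1] at hFp
  rw [eval_hessPoly] at hHp
  obtain ⟨u, hu0, hu⟩ := Matrix.exists_mulVec_eq_zero_iff.mpr hHp
  -- `Φ e_i u p = 0` for all `i`
  have h1 : ∀ i : Fin 3, P.Φ (Pi.single i 1) u p = 0 := by
    intro i
    have := congrFun hu i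
    simp only [Matrix.mulVec, dotProduct, Matrix.of_apply, Pi.zero_apply] at this
    rw [P.swap23, Φ_eq_sum_right P _ _ u]
    rw [← this]
    refine Finset.sum_congr rfl fun l _ => ?_
    rw [P.swap23 (Pi.single i 1) p (Pi.single l 1)]
    ring
  have h2 : ∀ y : V3, P.Φ p u y = 0 := by
    intro y
    rw [Φ_eq_sum_right P _ _ y]
    refine Finset.sum_eq_zero fun l _ => ?_
    rw [P.swap13 p u (Pi.single l 1), h1, mul_zero]
  refine ⟨p, u, hp0, ?_, hFp, ?_, ?_⟩
  · intro hmem
    obtain ⟨c, rfl⟩ := Submodule.mem_span_singleton.mp hmem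
    have hc : c ≠ 0 := by
      rintro rfl
      exact hu0 (zero_smul _ _)
    obtain ⟨y, hy⟩ := hsm p hp0 hFp
    apply hy
    have := h2 y
    rw [P.smul_mid] at this
    exact (mul_eq_zero.mp this).resolve_left hc
  · rw [P.swap23]; exact h2 p
  · exact h2 u

end Hessian

end Groth.Agent.Lib.Helper27Cubic
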