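import Mathlib
import Groth.Agent.Lib.Helper27Plane

set_option autoImplicit false
open MvPolynomial

namespace Groth.Agent.Lib.Helper27Cubic

section Expand

variable {V : Type*} [AddCommGroup V] [Module ℂ V] (P : Polar V)

/-- expansion of a cubic form along three vectors -/
lemma F_three (p w u : V) (s z t : ℂ) :
    P.F (s • p + z • w + t • u) =
      s ^ 3 * P.F p + z ^ 3 * P.F w + t ^ 3 * P.F u + 3 * s ^ 2 * z * P.Φ p p w +
        3 * s * z ^ 2 * P.Φ p w w + 3 * s ^ 2 * t * P.Φ p p u + 3 * s * t ^ 2 * P.Φ p u u +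
        3 * z ^ 2 * t * P.Φ w w u + 3 * z * t ^ 2 * P.Φ w u u + 6 * s * z * t * P.Φ p w u := by
  rw [P.F_add, P.F_add, P.F_smul, P.F_smul, P.F_smul]
  have e1 : P.Φ (s • p + z • w) (s • p + z • w) (t • u) =
      t * (s ^ 2 * P.Φ p p u + 2 * s * z * P.Φ p w u + z ^ 2 * P.Φ w w u) := by
    rw [P.swap13, P.Q_add]
    simp only [P.smul_left, P.smul_mid, P.smul_right]
    rw [P.swap13 u p p, P.swap13 u p w, P.swap13 u w w, P.swap12 w p u]
    ring
  have e2 : P.Φ (s • p + z • w) (t • u) (t • u) =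
      t ^ 2 * (s * P.Φ p u u + z * P.Φ w u u) := by
    simp only [P.add_left, P.smul_left, P.smul_mid, P.smul_right]
    ring
  rw [e1, e2]
  simp only [P.smul_left, P.smul_mid, P.smul_right]
  ring

lemma Φ_two (p w y : V) (s z : ℂ) :
    P.Φ (s • p + z • w) (s • p + z • w) y =
      s ^ 2 * P.Φ p p y + 2 * s * z * P.Φ p w y + z ^ 2 * P.Φ w w y := by
  simp only [P.add_left, P.add_mid, P.smul_left, P.smul_mid]
  rw [P.swap12 w p y]; ring

end Expand

end Groth.Agent.Lib.Helper27Cubic

namespace Groth.Agent.Lib.Helper27Cubic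

local notation "V3" => (Fin 3 → ℂ)

/-- determinant of three vectors (as rows) -/
noncomputable def det3 (p w u : V3) : ℂ := Matrix.det (Matrix.of ![p, w, u])

lemma det3_eq (p w u : V3) :
    det3 p w u = p 0 * w 1 * u 2 - p 0 * w 2 * u 1 - p 1 * w 0 * u 2 + p 1 * w 2 * u 0 +
      p 2 * w 0 * u 1 - p 2 * w 1 * u 0 := by
  simp [det3, Matrix.det_fin_three]

lemma det3_ne_zero_of_notMem {p w u : V3} (hp : p ≠ 0) (hw : w ∉ Submodule.span ℂ {p})
    (hu : u ∉ Submodule.span ℂ ({p, w} : Set V3)) : det3 p w u ≠ 0 := by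
  have hli := linearIndependent_triple_of_notMem hp hw hu
  have h1 : IsUnit (Matrix.of ![u, p, w]) := by
    rw [← Matrix.linearIndependent_rows_iff_isUnit]
    exact hli
  have h2 := (Matrix.isUnit_iff_isUnit_det _).mp h1
  have h3 : det3 u p w ≠ 0 := h2.ne_zero
  rw [det3_eq] at h3 ⊢
  intro h
  apply h3
  linear_combination h

/-- the matrix with given columns -/
noncomputable def colMat (p w u : V3) : Matrix (Fin 3) (Fin 3) ℂ :=
  Matrix.transpose (Matrix.of ![p, w, u])

lemma colMat_mulVec (p w u x : V3) : (colMat p w u).mulVec x = x 0 • p + x 1 • w + x 2 • u := by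
  funext i
  fin_cases i <;> simp [colMat, Matrix.mulVec, dotProduct, Fin.sum_univ_three] <;> ring

lemma det_colMat (p w u : V3) : (colMat p w u).det = det3 p w u := by
  rw [colMat, Matrix.det_transpose, det3]

end Groth.Agent.Lib.Helper27Cubic
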