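import Mathlib
import Groth.Agent.Lib.Helper27Plane2

set_option autoImplicit false
open MvPolynomial

namespace Groth.Agent.Lib.Helper27Cubic

local notation "V3" => (Fin 3 → ℂ)

lemma exists_coords {p w u : V3} (hdet : det3 p w u ≠ 0) (y : V3) :
    ∃ c₁ c₂ c₃ : ℂ, y = c₁ • p + c₂ • w + c₃ • u := by
  have hA : IsUnit (colMat p w u).det := by
    rw [det_colMat]; exact isUnit_iff_ne_zero.mpr hdet
  refine ⟨((colMat p w u)⁻¹.mulVec y) 0, ((colMat p w u)⁻¹.mulVec y) 1,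
    ((colMat p w u)⁻¹.mulVec y) 2, ?_⟩
  rw [← colMat_mulVec, Matrix.mulVec_mulVec, Matrix.mul_nonsing_inv _ hA, Matrix.one_mulVec]

/-- Weierstrass-type normal form of a smooth plane cubic with a flex. -/
lemma exists_normal_frame (P : Polar V3) (hsm : P.Smooth) {p w : V3} (hp0 : p ≠ 0)
    (hw : w ∉ Submodule.span ℂ {p}) (hFp : P.F p = 0) (h1 : P.Φ p p w = 0)
    (h2 : P.Φ p w w = 0) :
    ∃ (e₁ e₂ e₃ : V3) (a b : ℂ), det3 e₁ e₂ e₃ ≠ 0 ∧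
      ∀ s z t : ℂ, P.F (s • e₁ + z • e₂ + t • e₃) =
        s ^ 2 * t + z ^ 3 + a * z * t ^ 2 + b * t ^ 3 := by
  obtain ⟨u₀, hα⟩ := hsm p hp0 hFp
  have e0 : P.Φ p p p = 0 := hFp
  have hu₀ : u₀ ∉ Submodule.span ℂ ({p, w} : Set V3) := by
    intro hmem
    obtain ⟨c₁, c₂, rfl⟩ := Submodule.mem_span_pair.mp hmem
    apply hα
    rw [P.add_right, P.smul_right, P.smul_right, e0, h1]; ring
  have hdet0 := det3_ne_zero_of_notMem hp0 hw hu₀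
  obtain ⟨α, hαdef⟩ : ∃ α : ℂ, α = P.Φ p p u₀ := ⟨_, rfl⟩
  rw [← hαdef] at hα
  -- step 1
  obtain ⟨w₁, hw₁⟩ : ∃ w₁ : V3, w₁ = w - (P.Φ p w u₀ / α) • p := ⟨_, rfl⟩
  have a1 : P.Φ p p w₁ = 0 := by rw [hw₁, P.sub_right, P.smul_right, h1, e0]; ring
  have a2 : P.Φ p w₁ w₁ = 0 := by
    rw [hw₁]
    simp only [P.sub_mid, P.sub_right, P.smul_mid, P.smul_right]
    rw [h2, e0, P.swap23 p w p, h1]; ring
  have a3 : P.Φ p w₁ u₀ = 0 := by
    rw [hw₁, P.sub_mid, P.smul_mid, ← hαdef]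
    field_simp
    ring
  have d1 : det3 p w₁ u₀ = det3 p w u₀ := by
    rw [hw₁]
    simp only [det3_eq, Pi.sub_apply, Pi.smul_apply, smul_eq_mul]
    ring
  -- step 2
  obtain ⟨u₁, hu₁⟩ : ∃ u₁ : V3, u₁ = u₀ - (P.Φ p u₀ u₀ / (2 * α)) • p := ⟨_, rfl⟩
  have b1 : P.Φ p p u₁ = α := by rw [hu₁, P.sub_right, P.smul_right, e0, ← hαdef]; ring
  have b2 : P.Φ p w₁ u₁ = 0 := by
    rw [hu₁, P.sub_right, P.smul_right, a3, P.swap23 p w₁ p, a1]; ring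
  have b3 : P.Φ p u₁ u₁ = 0 := by
    rw [hu₁]
    simp only [P.sub_mid, P.sub_right, P.smul_mid, P.smul_right]
    rw [e0, P.swap23 p u₀ p, ← hαdef]
    field_simp
    ring
  have d2 : det3 p w₁ u₁ = det3 p w₁ u₀ := by
    rw [hu₁]
    simp only [det3_eq, Pi.sub_apply, Pi.smul_apply, smul_eq_mul]
    ring
  have hdet1 : det3 p w₁ u₁ ≠ 0 := by rw [d2, d1]; exact hdet0
  -- step 3
  have hδ : P.F w₁ ≠ 0 := by
    intro hδ
    obtain ⟨s, hs⟩ := IsAlgClosed.exists_pow_nat_eq (-(P.Φ w₁ w₁ u₁) / α) (n := 2) (by norm_num)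
    have hx0 : s • p + w₁ ≠ 0 := by
      intro h
      have hw' : w₁ = (-s) • p := by
        rw [neg_smul]; exact eq_neg_of_add_eq_zero_right h
      apply hdet1
      rw [hw']
      simp only [det3_eq, Pi.smul_apply, smul_eq_mul]
      ring
    have hFx : P.F (s • p + w₁) = 0 := by
      have := F_three P p w₁ u₁ s 1 0
      rw [one_smul, zero_smul, add_zero] at this
      rw [this, hFp, hδ, a1, a2]; ring
    obtain ⟨y, hy⟩ := hsm _ hx0 hFx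
    apply hy
    obtain ⟨c₁, c₂, c₃, rfl⟩ := exists_coords hdet1 y
    have hx : s • p + w₁ = s • p + (1 : ℂ) • w₁ := by rw [one_smul]
    rw [hx, Φ_two P]
    simp only [P.add_right, P.smul_right]
    have t1 : P.Φ p w₁ p = 0 := by rw [P.swap23]; exact a1
    have t2 : P.Φ w₁ w₁ p = 0 := by rw [P.swap13]; exact a2
    have t3 : P.Φ w₁ w₁ w₁ = 0 := hδ
    rw [e0, t1, t2, a1, a2, t3, b1, b2]
    have hs' : s ^ 2 * α = -(P.Φ w₁ w₁ u₁) := by rw [hs]; field_simp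
    linear_combination c₃ * hs'
  -- step 4
  obtain ⟨δ, hδdef⟩ : ∃ δ : ℂ, δ = P.F w₁ := ⟨_, rfl⟩
  rw [← hδdef] at hδ
  have hδ' : P.Φ w₁ w₁ w₁ = δ := hδdef.symm
  obtain ⟨u₂, hu₂⟩ : ∃ u₂ : V3, u₂ = u₁ - (P.Φ w₁ w₁ u₁ / δ) • w₁ := ⟨_, rfl⟩
  have c1 : P.Φ w₁ w₁ u₂ = 0 := by
    rw [hu₂, P.sub_right, P.smul_right, hδ']
    field_simp
    ring
  have c2 : P.Φ p p u₂ = α := by rw [hu₂, P.sub_right, P.smul_right, a1, b1]; ring
  have c3 : P.Φ p w₁ u₂ = 0 := by rw [hu₂, P.sub_right, P.smul_right, a2, b2]; ring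
  have c4 : P.Φ p u₂ u₂ = 0 := by
    rw [hu₂]
    simp only [P.sub_mid, P.sub_right, P.smul_mid, P.smul_right]
    rw [b3, a2, P.swap23 p u₁ w₁, b2]; ring
  have d3 : det3 p w₁ u₂ = det3 p w₁ u₁ := by
    rw [hu₂]
    simp only [det3_eq, Pi.sub_apply, Pi.smul_apply, smul_eq_mul]
    ring
  -- step 5
  obtain ⟨σ, hσ⟩ := IsAlgClosed.exists_pow_nat_eq (1 / (3 * α)) (n := 2) (by norm_num)
  obtain ⟨τ, hτ⟩ := IsAlgClosed.exists_pow_nat_eq (1 / δ) (n := 3) (by norm_num)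
  have hσ0 : σ ≠ 0 := by
    intro h
    rw [h] at hσ
    have : (1 : ℂ) / (3 * α) ≠ 0 := one_div_ne_zero (mul_ne_zero (by norm_num) hα)
    exact this (by rw [← hσ]; ring)
  have hτ0 : τ ≠ 0 := by
    intro h
    rw [h] at hτ
    have : (1 : ℂ) / δ ≠ 0 := one_div_ne_zero hδ
    exact this (by rw [← hτ]; ring)
  refine ⟨σ • p, τ • w₁, u₂, 3 * τ * P.Φ w₁ u₂ u₂, P.F u₂, ?_, ?_⟩
  · have : det3 (σ • p) (τ • w₁) u₂ = σ * τ * det3 p w₁ u₂ := by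
      simp only [det3_eq, Pi.smul_apply, smul_eq_mul]
      ring
    rw [this, d3]
    exact mul_ne_zero (mul_ne_zero hσ0 hτ0) hdet1
  · intro s z t
    rw [smul_smul, smul_smul, F_three P, hFp, a1, a2, c1, c2, c3, c4, ← hδdef]
    have k1 : 3 * α * σ ^ 2 = 1 := by rw [hσ]; field_simp
    have k2 : δ * τ ^ 3 = 1 := by rw [hτ]; field_simp
    linear_combination (s ^ 2 * t) * k1 + (z ^ 3) * k2

end Groth.Agent.Lib.Helper27Cubic
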