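import Mathlib
import Groth.Agent.Lib.Helper27Plane3

set_option autoImplicit false
open MvPolynomial

namespace Groth.Agent.Lib.Helper27Cubic

local notation "V3" => (Fin 3 → ℂ)

lemma coords_eq_zero {p w u : V3} (hdet : det3 p w u ≠ 0) {c₁ c₂ c₃ : ℂ}
    (h : c₁ • p + c₂ • w + c₃ • u = 0) : c₁ = 0 ∧ c₂ = 0 ∧ c₃ = 0 := by
  have hA : (colMat p w u).det ≠ 0 := by rw [det_colMat]; exact hdet
  have h1 : (colMat p w u).mulVec ![c₁, c₂, c₃] = 0 := by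
    rw [colMat_mulVec]; simpa using h
  have h2 := Matrix.eq_zero_of_mulVec_eq_zero hA h1
  have := congrFun h2 0
  have := congrFun h2 1
  have := congrFun h2 2
  simp_all

/-- the polar form from values of the cubic form -/
lemma Φ_diag_eq (P : Polar V3) (x y : V3) :
    P.Φ x x y = (P.F (x + y) - P.F (x - y) - 2 * P.F y) / 6 := by
  have e1 := P.F_add_smul x y 1
  have e2 := P.F_add_smul x y (-1)
  rw [one_smul] at e1
  rw [neg_one_smul, ← sub_eq_add_neg] at e2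
  rw [e1, e2]; ring

/-- Smoothness forces the discriminant of the Weierstrass normal form to be nonzero. -/
lemma disc_ne_zero (P : Polar V3) (hsm : P.Smooth) {e₁ e₂ e₃ : V3} {a b : ℂ}
    (hdet : det3 e₁ e₂ e₃ ≠ 0)
    (hN : ∀ s z t : ℂ, P.F (s • e₁ + z • e₂ + t • e₃) =
        s ^ 2 * t + z ^ 3 + a * z * t ^ 2 + b * t ^ 3) :
    4 * a ^ 3 + 27 * b ^ 2 ≠ 0 := by
  intro hΔ
  -- the double root
  obtain ⟨z₀, hz1, hz2⟩ : ∃ z₀ : ℂ, 3 * z₀ ^ 2 + a = 0 ∧ 2 * a * z₀ + 3 * b = 0 := by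
    by_cases ha : a = 0
    · refine ⟨0, by simp [ha], ?_⟩
      rw [ha] at hΔ ⊢
      have : b ^ 2 = 0 := by linear_combination (1 / 27 : ℂ) * hΔ
      rw [pow_eq_zero_iff (by norm_num)] at this
      rw [this]; ring
    · refine ⟨-3 * b / (2 * a), ?_, ?_⟩
      · field_simp
        linear_combination hΔ
      · field_simp
        ring
  have hx0 : (0 : ℂ) • e₁ + z₀ • e₂ + (1 : ℂ) • e₃ ≠ 0 := by
    intro h
    exact one_ne_zero (coords_eq_zero hdet h).2.2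
  have hFx : P.F ((0 : ℂ) • e₁ + z₀ • e₂ + (1 : ℂ) • e₃) = 0 := by
    rw [hN]
    linear_combination (z₀ / 3) * hz1 + (1 / 3 : ℂ) * hz2
  obtain ⟨y, hy⟩ := hsm _ hx0 hFx
  apply hy
  obtain ⟨c₁, c₂, c₃, rfl⟩ := exists_coords hdet y
  rw [Φ_diag_eq]
  have s1 : (0 : ℂ) • e₁ + z₀ • e₂ + (1 : ℂ) • e₃ + (c₁ • e₁ + c₂ • e₂ + c₃ • e₃) =
      (0 + c₁) • e₁ + (z₀ + c₂) • e₂ + (1 + c₃) • e₃ := by module
  have s2 : (0 : ℂ) • e₁ + z₀ • e₂ + (1 : ℂ) • e₃ - (c₁ • e₁ + c₂ • e₂ + c₃ • e₃) =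
      (0 - c₁) • e₁ + (z₀ - c₂) • e₂ + (1 - c₃) • e₃ := by module
  rw [s1, s2, hN, hN, hN]
  linear_combination (c₂ / 3) * hz1 + (c₃ / 3) * hz2

end Groth.Agent.Lib.Helper27Cubic
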