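import Mathlib

set_option autoImplicit false

namespace Groth.Agent.Lib.Helper27Cubic

/-- The `j`-invariant argument: every Weierstrass pair `(a, b)` with nonzero discriminant is, up
to the weighted scaling, the pair of a Hesse cubic. -/
lemma exists_hesse_param (a b : ℂ) (hΔ : 4 * a ^ 3 + 27 * b ^ 2 ≠ 0) :
    ∃ k μ : ℂ, k ^ 3 ≠ 1 ∧ μ ≠ 0 ∧ -3 * k * (k ^ 3 + 8) = μ ^ 2 * a ∧
      -2 * (k ^ 6 - 20 * k ^ 3 - 8) = μ ^ 3 * b := by
  by_cases ha : a = 0
  · -- `a = 0`, `k = 0`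
    have hb : b ≠ 0 := by
      rintro rfl
      apply hΔ; rw [ha]; ring
    obtain ⟨μ, hμ⟩ := IsAlgClosed.exists_pow_nat_eq (16 / b) (n := 3) (by norm_num)
    refine ⟨0, μ, by norm_num, ?_, ?_, ?_⟩
    · rintro rfl
      have : (16 : ℂ) / b ≠ 0 := div_ne_zero (by norm_num) hb
      exact this (by rw [← hμ]; ring)
    · rw [ha]; ring
    · rw [hμ]; field_simp; ring
  by_cases hb : b = 0
  · -- `b = 0`
    obtain ⟨w, hw⟩ := IsAlgClosed.exists_pow_nat_eq (108 : ℂ) (n := 2) (by norm_num)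
    obtain ⟨k, hk⟩ := IsAlgClosed.exists_pow_nat_eq (10 + w) (n := 3) (by norm_num)
    have hr : (k ^ 3) ^ 2 - 20 * k ^ 3 - 8 = 0 := by
      rw [hk]; linear_combination hw
    have hk0 : k ≠ 0 := by
      rintro rfl
      norm_num at hr
    have hk8 : k ^ 3 + 8 ≠ 0 := by
      intro h
      have h' : k ^ 3 = -8 := by linear_combination h
      rw [h'] at hr
      norm_num at hr
    have hk1 : k ^ 3 ≠ 1 := by
      intro h
      rw [h] at hr
      norm_num at hr
    obtain ⟨μ, hμ⟩ := IsAlgClosed.exists_pow_nat_eq (-3 * k * (k ^ 3 + 8) / a) (n := 2)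
      (by norm_num)
    refine ⟨k, μ, hk1, ?_, ?_, ?_⟩
    · rintro rfl
      have : -3 * k * (k ^ 3 + 8) / a ≠ 0 :=
        div_ne_zero (mul_ne_zero (mul_ne_zero (by norm_num) hk0) hk8) ha
      exact this (by rw [← hμ]; ring)
    · rw [hμ]; field_simp
    · rw [hb]; linear_combination (-2 : ℂ) * hr
  · -- general case
    set Q : Polynomial ℂ := Polynomial.C (-27 * b ^ 2 - 4 * a ^ 3) * Polynomial.X ^ 4 +
      Polynomial.C (-648 * b ^ 2 + 160 * a ^ 3) * Polynomial.X ^ 3 +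
      Polynomial.C (-5184 * b ^ 2 - 1536 * a ^ 3) * Polynomial.X ^ 2 +
      Polynomial.C (-13824 * b ^ 2 - 1280 * a ^ 3) * Polynomial.X +
      Polynomial.C (-256 * a ^ 3) with hQ
    have hc4 : Q.coeff 4 = -27 * b ^ 2 - 4 * a ^ 3 := by
      simp only [hQ, Polynomial.coeff_add, Polynomial.coeff_C_mul, Polynomial.coeff_X_pow,
        Polynomial.coeff_X, Polynomial.coeff_C]
      norm_num
    have hdeg : Q.degree ≠ 0 := by
      have h4 : Q.coeff 4 ≠ 0 := by
        rw [hc4]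
        intro h
        apply hΔ
        linear_combination -h
      have := Polynomial.le_degree_of_ne_zero h4
      intro h0
      rw [h0] at this
      norm_num at this
    obtain ⟨U, hU⟩ := IsAlgClosed.exists_root Q hdeg
    have hU' : -27 * b ^ 2 * (U * (U + 8) ^ 3) - 4 * a ^ 3 * (U ^ 2 - 20 * U - 8) ^ 2 = 0 := by
      have : Polynomial.eval U Q = 0 := hU
      simp only [hQ, Polynomial.eval_add, Polynomial.eval_mul, Polynomial.eval_C,
        Polynomial.eval_pow, Polynomial.eval_X] at this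
      linear_combination this
    obtain ⟨k, hk⟩ := IsAlgClosed.exists_pow_nat_eq U (n := 3) (by norm_num)
    obtain ⟨A, hA⟩ : ∃ A : ℂ, A = -3 * k * (k ^ 3 + 8) := ⟨_, rfl⟩
    obtain ⟨B, hB⟩ : ∃ B : ℂ, B = -2 * (k ^ 6 - 20 * k ^ 3 - 8) := ⟨_, rfl⟩
    have hA3 : A ^ 3 = -27 * (U * (U + 8) ^ 3) := by
      rw [hA, ← hk]; ring
    have hB2 : B ^ 2 = 4 * (U ^ 2 - 20 * U - 8) ^ 2 := by
      rw [hB, ← hk]; ring
    have hrel : b ^ 2 * A ^ 3 = a ^ 3 * B ^ 2 := by
      rw [hA3, hB2]; linear_combination hU'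
    have hdisc : 4 * A ^ 3 + 27 * B ^ 2 = -6912 * (U - 1) ^ 3 := by
      rw [hA3, hB2]; ring
    have hU1 : U ≠ 1 := by
      intro h
      rw [h] at hA3 hB2
      apply hΔ
      have e1 : b ^ 2 * (-27 * (1 * (1 + 8) ^ 3)) = a ^ 3 * (4 * (1 ^ 2 - 20 * 1 - 8) ^ 2) := by
        rw [← hA3, ← hB2]; exact hrel
      linear_combination (-1 / 729 : ℂ) * e1
    have hdisc0 : 4 * A ^ 3 + 27 * B ^ 2 ≠ 0 := by
      rw [hdisc]
      exact mul_ne_zero (by norm_num) (pow_ne_zero 3 (sub_ne_zero.mpr hU1))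
    have hB0 : B ≠ 0 := by
      intro h
      rw [h] at hrel hdisc0
      have : A ^ 3 = 0 := by
        have h' : b ^ 2 * A ^ 3 = 0 := by rw [hrel]; ring
        exact (mul_eq_zero.mp h').resolve_left (pow_ne_zero 2 hb)
      apply hdisc0; rw [this]; ring
    have hA0 : A ≠ 0 := by
      intro h
      rw [h] at hrel hdisc0
      have : B ^ 2 = 0 := by
        have h' : a ^ 3 * B ^ 2 = 0 := by rw [← hrel]; ring
        exact (mul_eq_zero.mp h').resolve_left (pow_ne_zero 3 ha)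
      apply hdisc0; rw [this]; ring
    refine ⟨k, a * B / (A * b), ?_, ?_, ?_, ?_⟩
    · rw [hk]; exact hU1
    · exact div_ne_zero (mul_ne_zero ha hB0) (mul_ne_zero hA0 hb)
    · rw [← hA]
      field_simp
      linear_combination hrel
    · rw [← hB]
      field_simp
      linear_combination hrel

end Groth.Agent.Lib.Helper27Cubic
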