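import Mathlib
import Groth.Agent.Lib.Helper27Plane4
import Groth.Agent.Lib.Helper27Plane5
import Groth.Agent.Lib.Helper27Cubic2
import Groth.Agent.Lib.Helper27Hesse

set_option autoImplicit false
open MvPolynomial

namespace Groth.Agent.Lib.Helper27Cubic

local notation "V3" => (Fin 3 → ℂ)

/-- The Hesse cubic in Weierstrass coordinates. -/
lemma hesse_identity (k r : ℂ) (hr : r ^ 2 = 3) (x0 x1 x2 : ℂ) :
    4 * (4 * (1 - k ^ 3)) ^ 2 * (x0 ^ 3 + x1 ^ 3 + x2 ^ 3 - 3 * k * (x0 * x1 * x2)) =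
      (r * (4 * (1 - k ^ 3)) * (x0 - x1)) ^ 2 * (x0 + x1 + k * x2) +
        ((4 * (1 - k ^ 3)) * x2 + 3 * k ^ 2 * (x0 + x1 + k * x2)) ^ 3 +
        (-3 * k * (k ^ 3 + 8)) * ((4 * (1 - k ^ 3)) * x2 + 3 * k ^ 2 * (x0 + x1 + k * x2)) *
          (x0 + x1 + k * x2) ^ 2 +
        (-2 * (k ^ 6 - 20 * k ^ 3 - 8)) * (x0 + x1 + k * x2) ^ 3 := by
  linear_combination (-((4 * (1 - k ^ 3)) ^ 2 * (x0 - x1) ^ 2 * (x0 + x1 + k * x2))) * hr

/-- The matrix of the change of coordinates on the Hesse side. -/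
noncomputable def hesseMat (k r : ℂ) : Matrix (Fin 3) (Fin 3) ℂ :=
  !![r * (4 * (1 - k ^ 3)), -(r * (4 * (1 - k ^ 3))), 0;
     3 * k ^ 2, 3 * k ^ 2, 4 * (1 - k ^ 3) + 3 * k ^ 3;
     1, 1, k]

lemma det_hesseMat (k r : ℂ) : (hesseMat k r).det = -2 * r * (4 * (1 - k ^ 3)) ^ 2 := by
  simp [hesseMat, Matrix.det_fin_three]
  ring

lemma hesseMat_mulVec (k r : ℂ) (x : V3) :
    (hesseMat k r).mulVec x = ![r * (4 * (1 - k ^ 3)) * (x 0 - x 1),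
      (4 * (1 - k ^ 3)) * x 2 + 3 * k ^ 2 * (x 0 + x 1 + k * x 2), x 0 + x 1 + k * x 2] := by
  funext i
  fin_cases i <;> simp [hesseMat, Matrix.mulVec, dotProduct, Fin.sum_univ_three] <;> ring

/-- **Hesse normal form** of a smooth plane cubic. -/
theorem exists_hesse (f : MvPolynomial (Fin 3) ℂ) (hf : f.IsHomogeneous 3)
    (hsm : ∀ v : Fin 3 → ℂ, v ≠ 0 → eval v f = 0 → ∃ i : Fin 3, eval v (pderiv i f) ≠ 0) :
    ∃ (A : Matrix (Fin 3) (Fin 3) ℂ) (k c : ℂ), IsUnit A.det ∧ k ^ 3 ≠ 1 ∧ c ≠ 0 ∧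
      aeval (fun i : Fin 3 => ∑ j : Fin 3, C (A i j) * X j) f = C c * HesseCubic.form k := by
  obtain ⟨P, hP⟩ := exists_polar f hf
  have hsmP := smooth_of_isPolarOf f P hP hsm
  obtain ⟨p, w, hp0, hw, hFp, h1, h2⟩ := exists_flex P hsmP f hP
  obtain ⟨e₁, e₂, e₃, a, b, hdet, hN⟩ := exists_normal_frame P hsmP hp0 hw hFp h1 h2
  have hΔ := disc_ne_zero P hsmP hdet hN
  obtain ⟨k, μ, hk1, hμ0, hA, hB⟩ := exists_hesse_param a b hΔ
  obtain ⟨σ, hσ⟩ := IsAlgClosed.exists_pow_nat_eq (1 / μ) (n := 2) (by norm_num)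
  obtain ⟨r, hr⟩ := IsAlgClosed.exists_pow_nat_eq (3 : ℂ) (n := 2) (by norm_num)
  have hσ0 : σ ≠ 0 := by
    rintro rfl
    have : (1 : ℂ) / μ ≠ 0 := one_div_ne_zero hμ0
    exact this (by rw [← hσ]; ring)
  have hr0 : r ≠ 0 := by
    rintro rfl
    norm_num at hr
  have hD : (4 : ℂ) * (1 - k ^ 3) ≠ 0 :=
    mul_ne_zero (by norm_num) (sub_ne_zero.mpr (Ne.symm hk1))
  refine ⟨colMat (σ • e₁) e₂ (μ • e₃) * hesseMat k r, k, 4 * (4 * (1 - k ^ 3)) ^ 2, ?_, hk1, ?_, ?_⟩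
  · rw [Matrix.det_mul, det_colMat, det_hesseMat]
    have : det3 (σ • e₁) e₂ (μ • e₃) = σ * μ * det3 e₁ e₂ e₃ := by
      simp only [det3_eq, Pi.smul_apply, smul_eq_mul]
      ring
    rw [this]
    apply isUnit_iff_ne_zero.mpr
    exact mul_ne_zero (mul_ne_zero (mul_ne_zero hσ0 hμ0) hdet)
      (mul_ne_zero (mul_ne_zero (by norm_num) hr0) (pow_ne_zero 2 hD))
  · exact mul_ne_zero (by norm_num) (pow_ne_zero 2 hD)
  · apply MvPolynomial.funext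
    intro x
    have h3 : eval x (aeval (fun i : Fin 3 => ∑ j : Fin 3,
        C ((colMat (σ • e₁) e₂ (μ • e₃) * hesseMat k r) i j) * X j) f) =
        eval ((colMat (σ • e₁) e₂ (μ • e₃) * hesseMat k r).mulVec x) f :=
      eval_aeval_subst (colMat (σ • e₁) e₂ (μ • e₃) * hesseMat k r) f x
    rw [h3, hP.1, map_mul, eval_C, Groth.Agent.Lib.Helper27Hesse.eval_form,
      ← Matrix.mulVec_mulVec, hesseMat_mulVec, colMat_mulVec]
    simp only [Matrix.cons_val_zero, Matrix.cons_val_one, Matrix.cons_val_two, Matrix.head_cons,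
      Matrix.tail_cons, smul_smul]
    rw [hN, hesse_identity k r hr, hA, hB]
    have hσ' : σ ^ 2 * μ = 1 := by rw [hσ]; field_simp
    linear_combination ((r * (4 * (1 - k ^ 3)) * (x 0 - x 1)) ^ 2 * (x 0 + x 1 + k * x 2)) * hσ'

end Groth.Agent.Lib.Helper27Cubic
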