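import Mathlib
import Groth.Agent.Lib.Helper27Plane6

set_option autoImplicit false
open MvPolynomial

namespace Groth.Agent.Lib.Helper27Cubic

local notation "V3" => (Fin 3 → ℂ)

/-- the flex condition for a function on `ℂ³` -/
def IsFlexOf (g : V3 → ℂ) (v : V3) : Prop :=
  v ≠ 0 ∧ g v = 0 ∧ ∃ w : V3, LinearIndependent ℂ ![v, w] ∧ ∀ t : ℂ, g (v + t • w) = t ^ 3 * g w

/-- transport of flexes along an invertible linear substitution -/
lemma IsFlexOf.transport {f g : V3 → ℂ} {B : Matrix (Fin 3) (Fin 3) ℂ} (hB : IsUnit B.det)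
    {c₀ : ℂ} (hc₀ : c₀ ≠ 0) (hfg : ∀ x, f (B.mulVec x) = c₀ * g x) {v : V3} (hv : IsFlexOf f v) :
    IsFlexOf g (B⁻¹.mulVec v) := by
  obtain ⟨hv0, hfv, w, hli, hw⟩ := hv
  have hBB : ∀ x : V3, B.mulVec (B⁻¹.mulVec x) = x := fun x => by
    rw [Matrix.mulVec_mulVec, Matrix.mul_nonsing_inv _ hB, Matrix.one_mulVec]
  refine ⟨?_, ?_, B⁻¹.mulVec w, ?_, ?_⟩
  · intro h
    apply hv0
    rw [← hBB v, h, Matrix.mulVec_zero]
  · have := hfg (B⁻¹.mulVec v)
    rw [hBB, hfv] at this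
    exact (mul_eq_zero.mp this.symm).resolve_left hc₀
  · rw [LinearIndependent.pair_iff] at hli ⊢
    intro s t h
    apply hli s t
    have := congrArg B.mulVec h
    rw [Matrix.mulVec_add, Matrix.mulVec_smul, Matrix.mulVec_smul, hBB, hBB,
      Matrix.mulVec_zero] at this
    exact this
  · intro t
    have h1 := hfg (B⁻¹.mulVec v + t • B⁻¹.mulVec w)
    rw [Matrix.mulVec_add, Matrix.mulVec_smul, hBB, hBB, hw t] at h1
    have h2 := hfg (B⁻¹.mulVec w)
    rw [hBB] at h2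
    rw [h2] at h1
    apply mul_left_cancel₀ hc₀
    rw [← h1]; ring

/-- the Hesse cubic as a function -/
noncomputable def hk (k : ℂ) (x : V3) : ℂ := eval x (HesseCubic.form k)

lemma hk_eq (k : ℂ) (x : V3) :
    hk k x = x 0 ^ 3 + x 1 ^ 3 + x 2 ^ 3 - 3 * k * (x 0 * x 1 * x 2) :=
  Groth.Agent.Lib.Helper27Hesse.eval_form k x

/-- Automorphisms of the Hesse cubic moving the base flex `(0, 1, -1)` to any given flex. -/
lemma hesse_aut_base (k γ c : ℂ) (hγ : γ ^ 3 = 1) (hc : c ≠ 0) (y : V3)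
    (hy : y = c • ![0, 1, -γ] ∨ y = c • ![-γ, 0, 1] ∨ y = c • ![1, -γ, 0]) :
    ∃ M : Matrix (Fin 3) (Fin 3) ℂ, IsUnit M.det ∧ (∀ x, hk k (M.mulVec x) = hk k x) ∧
      ∃ d : ℂ, d ≠ 0 ∧ M.mulVec ![0, 1, -1] = d • y := by
  have hγ0 : γ ≠ 0 := by
    rintro rfl
    norm_num at hγ
  rcases hy with rfl | rfl | rfl
  · refine ⟨!![1, 0, 0; 0, γ, 0; 0, 0, γ ^ 2], ?_, ?_, γ / c, div_ne_zero hγ0 hc, ?_⟩
    · have : (!![1, 0, 0; 0, γ, 0; 0, 0, γ ^ 2] : Matrix (Fin 3) (Fin 3) ℂ).det = 1 := by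
        simp [Matrix.det_fin_three]
        linear_combination hγ
      rw [this]; exact isUnit_one
    · intro x
      simp only [hk_eq]
      simp [Matrix.mulVec, dotProduct, Fin.sum_univ_three]
      linear_combination (x 1 ^ 3 + (γ ^ 3 + 1) * x 2 ^ 3 - 3 * k * x 0 * x 1 * x 2) * hγ
    · funext i
      fin_cases i <;> simp [Matrix.mulVec, dotProduct, Fin.sum_univ_three] <;> field_simp
  · refine ⟨!![0, 0, γ ^ 2; 1, 0, 0; 0, γ, 0], ?_, ?_, γ / c, div_ne_zero hγ0 hc, ?_⟩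
    · have : (!![0, 0, γ ^ 2; 1, 0, 0; 0, γ, 0] : Matrix (Fin 3) (Fin 3) ℂ).det = 1 := by
        simp [Matrix.det_fin_three]
        linear_combination hγ
      rw [this]; exact isUnit_one
    · intro x
      simp only [hk_eq]
      simp [Matrix.mulVec, dotProduct, Fin.sum_univ_three]
      linear_combination (x 1 ^ 3 + (γ ^ 3 + 1) * x 2 ^ 3 - 3 * k * x 0 * x 1 * x 2) * hγ
    · funext i
      fin_cases i <;> simp [Matrix.mulVec, dotProduct, Fin.sum_univ_three] <;> field_simp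
  · refine ⟨!![0, γ, 0; 0, 0, γ ^ 2; 1, 0, 0], ?_, ?_, γ / c, div_ne_zero hγ0 hc, ?_⟩
    · have : (!![0, γ, 0; 0, 0, γ ^ 2; 1, 0, 0] : Matrix (Fin 3) (Fin 3) ℂ).det = 1 := by
        simp [Matrix.det_fin_three]
        linear_combination hγ
      rw [this]; exact isUnit_one
    · intro x
      simp only [hk_eq]
      simp [Matrix.mulVec, dotProduct, Fin.sum_univ_three]
      linear_combination (x 1 ^ 3 + (γ ^ 3 + 1) * x 2 ^ 3 - 3 * k * x 0 * x 1 * x 2) * hγ
    · funext i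
      fin_cases i <;> simp [Matrix.mulVec, dotProduct, Fin.sum_univ_three] <;> field_simp


/-- Classification of the flexes of a Hesse cubic. -/
lemma hesse_flex_classify (k : ℂ) (hk1 : k ^ 3 ≠ 1) {v : V3} (hv : IsFlexOf (hk k) v) :
    ∃ γ c : ℂ, γ ^ 3 = 1 ∧ c ≠ 0 ∧
      (v = c • ![0, 1, -γ] ∨ v = c • ![-γ, 0, 1] ∨ v = c • ![1, -γ, 0]) := by
  obtain ⟨hv0, hCv, w, hli, hw⟩ := hv
  have key : ∃ γ c : ℂ, γ ^ 3 = 1 ∧
      (v = c • ![0, 1, -γ] ∨ v = c • ![-γ, 0, 1] ∨ v = c • ![1, -γ, 0]) := by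
    have h0 := Groth.Agent.Lib.Helper27Hesse.forward k hk1 v hCv w hli hw
    have hCv' : v 0 ^ 3 + v 1 ^ 3 + v 2 ^ 3 - 3 * k * (v 0 * v 1 * v 2) = 0 := by
      rw [← hk_eq]; exact hCv
    have hcube : ∀ z : ℂ, z ^ 3 = 0 → z = 0 := fun z hz => pow_eq_zero_iff (by norm_num) |>.mp hz
    rcases mul_eq_zero.mp h0 with h01 | h2
    · rcases mul_eq_zero.mp h01 with h0' | h1
      · have h1 : v 1 ≠ 0 := by
          intro h1
          apply hv0
          have h2 : v 2 = 0 := hcube _ (by rw [h0', h1] at hCv'; linear_combination hCv')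
          funext i; fin_cases i <;> simp [h0', h1, h2]
        refine ⟨-(v 2) / v 1, v 1, ?_, Or.inl ?_⟩
        · rw [div_pow, div_eq_one_iff_eq (pow_ne_zero 3 h1)]
          rw [h0'] at hCv'
          linear_combination -hCv'
        · funext i; fin_cases i
          · simp [h0']
          · simp
          · simp; field_simp
      · have h2 : v 2 ≠ 0 := by
          intro h2
          apply hv0
          have h0' : v 0 = 0 := hcube _ (by rw [h1, h2] at hCv'; linear_combination hCv')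
          funext i; fin_cases i <;> simp [h0', h1, h2]
        refine ⟨-(v 0) / v 2, v 2, ?_, Or.inr (Or.inl ?_)⟩
        · rw [div_pow, div_eq_one_iff_eq (pow_ne_zero 3 h2)]
          rw [h1] at hCv'
          linear_combination -hCv'
        · funext i; fin_cases i
          · simp; field_simp
          · simp [h1]
          · simp
    · have h0' : v 0 ≠ 0 := by
        intro h0'
        apply hv0
        have h1 : v 1 = 0 := hcube _ (by rw [h0', h2] at hCv'; linear_combination hCv')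
        funext i; fin_cases i <;> simp [h0', h1, h2]
      refine ⟨-(v 1) / v 0, v 0, ?_, Or.inr (Or.inr ?_)⟩
      · rw [div_pow, div_eq_one_iff_eq (pow_ne_zero 3 h0')]
        rw [h2] at hCv'
        linear_combination -hCv'
      · funext i; fin_cases i
        · simp
        · simp; field_simp
        · simp [h2]
  obtain ⟨γ, c, hγ, h⟩ := key
  refine ⟨γ, c, hγ, ?_, h⟩
  rintro rfl
  apply hv0
  rcases h with h | h | h <;> rw [h, zero_smul]

/-- The projective automorphism group of a smooth plane cubic is transitive on flexes. -/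
theorem flex_transitive (f : MvPolynomial (Fin 3) ℂ) (hf : f.IsHomogeneous 3)
    (hsm : ∀ v : Fin 3 → ℂ, v ≠ 0 → eval v f = 0 → ∃ i : Fin 3, eval v (pderiv i f) ≠ 0)
    {v v' : V3} (hv : IsFlexOf (fun x => eval x f) v) (hv' : IsFlexOf (fun x => eval x f) v') :
    ∃ (A : Matrix (Fin 3) (Fin 3) ℂ) (c d : ℂ), IsUnit A.det ∧
      aeval (fun i : Fin 3 => ∑ j : Fin 3, C (A i j) * X j) f = C c * f ∧
      A.mulVec v = d • v' := by
  obtain ⟨B, k, c₀, hB, hk1, hc₀, hBf⟩ := exists_hesse f hf hsm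
  have hfg : ∀ x, (fun x => eval x f) (B.mulVec x) = c₀ * hk k x := by
    intro x
    have h3 : eval x (aeval (fun i : Fin 3 => ∑ j : Fin 3, C (B i j) * X j) f) =
        eval (B.mulVec x) f := eval_aeval_subst B f x
    show eval (B.mulVec x) f = c₀ * hk k x
    rw [← h3, hBf, map_mul, eval_C]
    rfl
  have hy := hv.transport hB hc₀ hfg
  have hy' := hv'.transport hB hc₀ hfg
  obtain ⟨γ, c, hγ, hc, hyc⟩ := hesse_flex_classify k hk1 hy
  obtain ⟨γ', c', hγ', hc', hyc'⟩ := hesse_flex_classify k hk1 hy'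
  obtain ⟨M, hM, hMk, d, hd, hMd⟩ := hesse_aut_base k γ c hγ hc _ hyc
  obtain ⟨M', hM', hMk', d', hd', hMd'⟩ := hesse_aut_base k γ' c' hγ' hc' _ hyc'
  have hBB : ∀ x : V3, B.mulVec (B⁻¹.mulVec x) = x := fun x => by
    rw [Matrix.mulVec_mulVec, Matrix.mul_nonsing_inv _ hB, Matrix.one_mulVec]
  have hMM : ∀ x : V3, M.mulVec (M⁻¹.mulVec x) = x := fun x => by
    rw [Matrix.mulVec_mulVec, Matrix.mul_nonsing_inv _ hM, Matrix.one_mulVec]
  have hMM' : ∀ x : V3, M⁻¹.mulVec (M.mulVec x) = x := fun x => by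
    rw [Matrix.mulVec_mulVec, Matrix.nonsing_inv_mul _ hM, Matrix.one_mulVec]
  obtain ⟨P, hP⟩ := exists_polar f hf
  refine ⟨B * (M' * M⁻¹) * B⁻¹, 1, d' / d, ?_, ?_, ?_⟩
  · rw [Matrix.det_mul, Matrix.det_mul, Matrix.det_mul]
    exact ((hB.mul (hM'.mul (Matrix.isUnit_nonsing_inv_det _ hM))).mul
      (Matrix.isUnit_nonsing_inv_det _ hB))
  · have := (aeval_subst_eq_iff f P hP (B * (M' * M⁻¹) * B⁻¹) 1).mpr (by
      intro x
      rw [← hP.1, ← hP.1, one_mul]
      rw [← Matrix.mulVec_mulVec, ← Matrix.mulVec_mulVec, ← Matrix.mulVec_mulVec]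
      have e1 := hfg (M'.mulVec (M⁻¹.mulVec (B⁻¹.mulVec x)))
      have e2 := hfg (B⁻¹.mulVec x)
      simp only at e1 e2
      rw [hBB] at e2
      rw [e1, hMk', e2, ← hMk (M⁻¹.mulVec (B⁻¹.mulVec x)), hMM])
    exact this
  · rw [← Matrix.mulVec_mulVec, ← Matrix.mulVec_mulVec, ← Matrix.mulVec_mulVec]
    -- `B⁻¹ v = d⁻¹ • M q₀`
    have e1 : B⁻¹.mulVec v = d⁻¹ • M.mulVec ![0, 1, -1] := by
      rw [hMd, smul_smul, inv_mul_cancel₀ hd, one_smul]
    rw [e1, Matrix.mulVec_smul, hMM', Matrix.mulVec_smul, hMd', Matrix.mulVec_smul,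
      Matrix.mulVec_smul, hBB, smul_smul]
    congr 1
    field_simp

end Groth.Agent.Lib.Helper27Cubic
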