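import Mathlib
import Groth.Agent.Lib.Helper27Plane7

set_option autoImplicit false
open MvPolynomial

namespace Groth.Agent.Lib.Helper27Cubic

local notation "V3" => (Fin 3 → ℂ)

/-- transport of flexes in the other direction -/
lemma IsFlexOf.transport' {f g : V3 → ℂ} {B : Matrix (Fin 3) (Fin 3) ℂ} (hB : IsUnit B.det)
    {c₀ : ℂ} (hfg : ∀ x, f (B.mulVec x) = c₀ * g x) {q : V3} (hq : IsFlexOf g q) :
    IsFlexOf f (B.mulVec q) := by
  obtain ⟨hq0, hgq, w, hli, hw⟩ := hq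
  have hBB : ∀ x : V3, B⁻¹.mulVec (B.mulVec x) = x := fun x => by
    rw [Matrix.mulVec_mulVec, Matrix.nonsing_inv_mul _ hB, Matrix.one_mulVec]
  refine ⟨?_, ?_, B.mulVec w, ?_, ?_⟩
  · intro h
    apply hq0
    rw [← hBB q, h, Matrix.mulVec_zero]
  · rw [hfg, hgq, mul_zero]
  · rw [LinearIndependent.pair_iff] at hli ⊢
    intro s t h
    apply hli s t
    have := congrArg B⁻¹.mulVec h
    rw [Matrix.mulVec_add, Matrix.mulVec_smul, Matrix.mulVec_smul, hBB, hBB,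
      Matrix.mulVec_zero] at this
    exact this
  · intro t
    rw [← Matrix.mulVec_smul, ← Matrix.mulVec_add, hfg, hfg, hw t]; ring

lemma isFlexOf_hk0 (k γ : ℂ) (hγ : γ ^ 3 = 1) : IsFlexOf (hk k) ![0, 1, -γ] := by
  refine ⟨?_, ?_, ?_⟩
  · intro h
    have := congrFun h 1
    simp at this
  · rw [hk_eq]; simp; linear_combination -hγ
  · have := Groth.Agent.Lib.Helper27Hesse.backward0 k γ 1 hγ one_ne_zero
    rw [one_smul] at this
    exact this

lemma isFlexOf_hk1 (k γ : ℂ) (hγ : γ ^ 3 = 1) : IsFlexOf (hk k) ![-γ, 0, 1] := by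
  refine ⟨?_, ?_, ?_⟩
  · intro h
    have := congrFun h 2
    simp at this
  · rw [hk_eq]; simp; linear_combination -hγ
  · have := Groth.Agent.Lib.Helper27Hesse.backward1 k γ 1 hγ one_ne_zero
    rw [one_smul] at this
    exact this

lemma isFlexOf_hk2 (k γ : ℂ) (hγ : γ ^ 3 = 1) : IsFlexOf (hk k) ![1, -γ, 0] := by
  refine ⟨?_, ?_, ?_⟩
  · intro h
    have := congrFun h 0
    simp at this
  · rw [hk_eq]; simp; linear_combination -hγ
  · have := Groth.Agent.Lib.Helper27Hesse.backward2 k γ 1 hγ one_ne_zero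
    rw [one_smul] at this
    exact this

lemma eig_eq {M : Matrix (Fin 3) (Fin 3) ℂ} {q q' q'' : V3} {d e e'' α β : ℂ}
    (hq : M.mulVec q = d • q) (hq' : M.mulVec q' = e • q') (hq'' : M.mulVec q'' = e'' • q'')
    (hrel : q'' = α • q + β • q') (hα : α ≠ 0) (hβ : β ≠ 0)
    (hli : ∀ s t : ℂ, s • q + t • q' = 0 → s = 0 ∧ t = 0) : d = e'' ∧ e = e'' := by
  rw [hrel, Matrix.mulVec_add, Matrix.mulVec_smul, Matrix.mulVec_smul, hq, hq'] at hq''
  have h := hli (α * (d - e'')) (β * (e - e'')) (by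
    have : α • d • q + β • e • q' - e'' • (α • q + β • q') = 0 := sub_eq_zero.mpr hq''
    rw [← this]; module)
  constructor
  · have := (mul_eq_zero.mp h.1).resolve_left hα
    linear_combination this
  · have := (mul_eq_zero.mp h.2).resolve_left hβ
    linear_combination this

/-- A projective automorphism of a smooth plane cubic fixing all the flexes is trivial. -/
theorem scalar_of_fix_flexes (f : MvPolynomial (Fin 3) ℂ) (hf : f.IsHomogeneous 3)
    (hsm : ∀ v : Fin 3 → ℂ, v ≠ 0 → eval v f = 0 → ∃ i : Fin 3, eval v (pderiv i f) ≠ 0)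
    (A : Matrix (Fin 3) (Fin 3) ℂ)
    (hfix : ∀ v : V3, IsFlexOf (fun x => eval x f) v → ∃ d : ℂ, A.mulVec v = d • v) :
    ∃ c : ℂ, A = c • (1 : Matrix (Fin 3) (Fin 3) ℂ) := by
  obtain ⟨B, k, c₀, hB, hk1, hc₀, hBf⟩ := exists_hesse f hf hsm
  have hfg : ∀ x, (fun x => eval x f) (B.mulVec x) = c₀ * hk k x := by
    intro x
    have h3 : eval x (aeval (fun i : Fin 3 => ∑ j : Fin 3, C (B i j) * X j) f) =
        eval (B.mulVec x) f := eval_aeval_subst B f x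
    show eval (B.mulVec x) f = c₀ * hk k x
    rw [← h3, hBf, map_mul, eval_C]
    rfl
  have hBB : ∀ x : V3, B⁻¹.mulVec (B.mulVec x) = x := fun x => by
    rw [Matrix.mulVec_mulVec, Matrix.nonsing_inv_mul _ hB, Matrix.one_mulVec]
  -- the conjugate fixes the flexes of the Hesse cubic
  have hfix' : ∀ q : V3, IsFlexOf (hk k) q → ∃ d : ℂ, (B⁻¹ * A * B).mulVec q = d • q := by
    intro q hq
    obtain ⟨d, hd⟩ := hfix _ (hq.transport' hB hfg)
    refine ⟨d, ?_⟩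
    rw [← Matrix.mulVec_mulVec, ← Matrix.mulVec_mulVec, hd, Matrix.mulVec_smul, hBB]
  -- a primitive cube root of unity
  obtain ⟨s, hs⟩ := IsAlgClosed.exists_pow_nat_eq (-3 : ℂ) (n := 2) (by norm_num)
  obtain ⟨ω, hω⟩ : ∃ ω : ℂ, ω = (-1 + s) / 2 := ⟨_, rfl⟩
  have hω2 : ω ^ 2 + ω + 1 = 0 := by
    rw [hω]; linear_combination (1 / 4 : ℂ) * hs
  have hω3 : ω ^ 3 = 1 := by linear_combination (ω - 1) * hω2
  have hω1 : ω ≠ 1 := by
    rintro rfl
    norm_num at hω2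
  have hω23 : (ω ^ 2) ^ 3 = 1 := by rw [← pow_mul, mul_comm, pow_mul, hω3, one_pow]
  have h13 : (1 : ℂ) ^ 3 = 1 := one_pow 3
  obtain ⟨d₀, hd₀⟩ := hfix' _ (isFlexOf_hk0 k 1 h13)
  obtain ⟨d₁, hd₁⟩ := hfix' _ (isFlexOf_hk1 k 1 h13)
  obtain ⟨d₂, hd₂⟩ := hfix' _ (isFlexOf_hk2 k 1 h13)
  obtain ⟨e', he'⟩ := hfix' _ (isFlexOf_hk0 k ω hω3)
  obtain ⟨e'', he''⟩ := hfix' _ (isFlexOf_hk0 k (ω ^ 2) hω23)
  have li1 : ∀ s t : ℂ, s • (![0, 1, -1] : V3) + t • (![-1, 0, 1] : V3) = 0 → s = 0 ∧ t = 0 := by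
    intro s t h
    have h0 := congrFun h 0
    have h1 := congrFun h 1
    simp at h0 h1
    exact ⟨h1, h0⟩
  have li2 : ∀ s t : ℂ, s • (![0, 1, -1] : V3) + t • (![0, 1, -ω] : V3) = 0 → s = 0 ∧ t = 0 := by
    intro s t h
    have h1 := congrFun h 1
    have h2 := congrFun h 2
    simp at h1 h2
    have ht : t * (1 - ω) = 0 := by linear_combination h1 + h2
    have ht0 : t = 0 := (mul_eq_zero.mp ht).resolve_right (sub_ne_zero.mpr (Ne.symm hω1))
    rw [ht0] at h1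
    exact ⟨by simpa using h1, ht0⟩
  have r1 : (![1, -1, 0] : V3) = (-1 : ℂ) • (![0, 1, -1] : V3) + (-1 : ℂ) • (![-1, 0, 1] : V3) := by
    funext i; fin_cases i <;> simp
  have r2 : (![0, 1, -ω ^ 2] : V3) = (-ω) • (![0, 1, -1] : V3) + (-ω ^ 2) • (![0, 1, -ω] : V3) := by
    funext i; fin_cases i
    · simp
    · simp; first | linear_combination hω2 | linear_combination -hω2
    · simp; first | linear_combination -hω2 - hω3 | linear_combination hω2 + hω3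
  have hω0 : ω ≠ 0 := by
    rintro rfl
    norm_num at hω3
  obtain ⟨k1, k2⟩ := eig_eq hd₀ hd₁ hd₂ r1 (by norm_num) (by norm_num) li1
  obtain ⟨k3, k4⟩ := eig_eq hd₀ he' he'' r2 (neg_ne_zero.mpr hω0)
    (neg_ne_zero.mpr (pow_ne_zero 2 hω0)) li2
  have hd₁' : (B⁻¹ * A * B).mulVec ![-1, 0, 1] = d₀ • ![-1, 0, 1] := by rw [hd₁, k2, ← k1]
  have he1 : (B⁻¹ * A * B).mulVec ![0, 1, -ω] = d₀ • ![0, 1, -ω] := by rw [he', k4, ← k3]
  have hdet : det3 (![0, 1, -1] : V3) ![-1, 0, 1] ![0, 1, -ω] ≠ 0 := by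
    rw [det3_eq]
    simp
    intro h
    apply hω1
    linear_combination -h
  have hA' : B⁻¹ * A * B = d₀ • (1 : Matrix (Fin 3) (Fin 3) ℂ) := by
    apply matrix_ext_mulVec
    intro y
    obtain ⟨c₁, c₂, c₃, rfl⟩ := exists_coords hdet y
    simp only [Matrix.mulVec_add, Matrix.mulVec_smul, hd₀, hd₁', he1, Matrix.smul_mulVec,
      Matrix.one_mulVec, smul_add, smul_comm d₀]
  refine ⟨d₀, ?_⟩
  have h1 : B * (B⁻¹ * A * B) * B⁻¹ = A := by
    rw [Matrix.mul_assoc, Matrix.mul_assoc, Matrix.mul_nonsing_inv _ hB, Matrix.mul_one,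
      ← Matrix.mul_assoc, Matrix.mul_nonsing_inv _ hB, Matrix.one_mul]
  rw [← h1, hA', Matrix.mul_smul, Matrix.mul_one, Matrix.smul_mul, Matrix.mul_nonsing_inv _ hB]

end Groth.Agent.Lib.Helper27Cubic
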