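import Mathlib
import Groth.Agent.Lib.Helper27Plane8

set_option autoImplicit false
open MvPolynomial

namespace Groth.Agent.Lib.Helper27Cubic

local notation "V3" => (Fin 3 → ℂ)

/-- polarisation: the polar form is determined by the cubic form -/
lemma Polar.Φ_eq_of_F_eq {V : Type*} [AddCommGroup V] [Module ℂ V] (P Q : Polar V)
    (h : ∀ x, P.F x = Q.F x) (x y z : V) : P.Φ x y z = Q.Φ x y z := by
  have hR : ∀ v ∈ (⊤ : Submodule ℂ V), (P.add (Q.smul (-1))).F v = 0 := by
    intro v _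
    show P.Φ v v v + -1 * Q.Φ v v v = 0
    have := h v
    rw [Polar.F_def, Polar.F_def] at this
    rw [this]; ring
  have := (P.add (Q.smul (-1))).Φ_eq_zero_of_F_eq_zero ⊤ hR x trivial y trivial z trivial
  have h2 : P.Φ x y z + -1 * Q.Φ x y z = 0 := this
  linear_combination h2

/-- pullback of a polar form along a matrix -/
noncomputable def Polar.comapMat (P : Polar V3) (A : Matrix (Fin 3) (Fin 3) ℂ) : Polar V3 where
  Φ x y z := P.Φ (A.mulVec x) (A.mulVec y) (A.mulVec z)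
  add_left u u' v w := by rw [Matrix.mulVec_add, P.add_left]
  smul_left t u v w := by rw [Matrix.mulVec_smul, P.smul_left]
  swap12 u v w := P.swap12 _ _ _
  swap23 u v w := P.swap23 _ _ _

/-- the Hessian function of a ternary cubic form -/
noncomputable def hessFn (P : Polar V3) (x : V3) : ℂ :=
  (Matrix.of fun i j : Fin 3 => P.Φ (Pi.single i 1) (Pi.single j 1) x).det

lemma Φ_eq_sum_left (P : Polar V3) (a b x : V3) :
    P.Φ x a b = ∑ l : Fin 3, x l * P.Φ (Pi.single l 1) a b := by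
  rw [P.swap13, Φ_eq_sum_right P b a x]
  refine Finset.sum_congr rfl fun l _ => ?_
  rw [P.swap13]

/-- covariance of the Hessian -/
lemma hess_covariant (P : Polar V3) (A : Matrix (Fin 3) (Fin 3) ℂ) (c : ℂ)
    (h : ∀ x, P.F (A.mulVec x) = c * P.F x) (x : V3) :
    A.det ^ 2 * hessFn P (A.mulVec x) = c ^ 3 * hessFn P x := by
  have hΦ : ∀ x y z, P.Φ (A.mulVec x) (A.mulVec y) (A.mulVec z) = c * P.Φ x y z :=
    Polar.Φ_eq_of_F_eq (P.comapMat A) (P.smul c) h
  have hmat : A.transpose *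
      (Matrix.of fun i j : Fin 3 => P.Φ (Pi.single i 1) (Pi.single j 1) (A.mulVec x)) * A =
      c • (Matrix.of fun i j : Fin 3 => P.Φ (Pi.single i 1) (Pi.single j 1) x) := by
    ext i j
    rw [Matrix.smul_apply, Matrix.of_apply, smul_eq_mul, ← hΦ]
    rw [Φ_eq_sum_left P _ _ (A.mulVec (Pi.single i 1))]
    simp only [Matrix.mul_apply, Matrix.transpose_apply, Matrix.of_apply, Finset.sum_mul]
    rw [Finset.sum_comm]
    refine Finset.sum_congr rfl fun l _ => ?_
    rw [P.swap12 (Pi.single l 1) (A.mulVec (Pi.single j 1)) (A.mulVec x),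
      Φ_eq_sum_left P _ _ (A.mulVec (Pi.single j 1)), Finset.mul_sum]
    refine Finset.sum_congr rfl fun m _ => ?_
    rw [P.swap12 (Pi.single m 1) (Pi.single l 1) (A.mulVec x)]
    simp only [Matrix.mulVec_single_one, Matrix.col_apply]
    ring
  have hdet := congrArg Matrix.det hmat
  rw [Matrix.det_mul, Matrix.det_mul, Matrix.det_transpose, Matrix.det_smul] at hdet
  simp only [Fintype.card_fin] at hdet
  rw [hessFn, hessFn]
  linear_combination hdet


/-- the polar forms of the members `u (x₀³ + x₁³ + x₂³) + 6 w x₀ x₁ x₂` of the Hesse pencil -/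
noncomputable def pencil (u w : ℂ) : Polar V3 where
  Φ x y z := u * (x 0 * y 0 * z 0 + x 1 * y 1 * z 1 + x 2 * y 2 * z 2) +
    w * (x 0 * y 1 * z 2 + x 0 * y 2 * z 1 + x 1 * y 0 * z 2 + x 1 * y 2 * z 0 +
      x 2 * y 0 * z 1 + x 2 * y 1 * z 0)
  add_left u' u'' v w' := by simp only [Pi.add_apply]; ring
  smul_left t u' v w' := by simp only [Pi.smul_apply, smul_eq_mul]; ring
  swap12 u' v w' := by ring
  swap23 u' v w' := by ring

/-- sum of cubes and product of coordinates -/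
def SS (x : V3) : ℂ := x 0 ^ 3 + x 1 ^ 3 + x 2 ^ 3
def PP (x : V3) : ℂ := x 0 * x 1 * x 2

lemma pencil_F (u w : ℂ) (x : V3) : (pencil u w).F x = u * SS x + 6 * w * PP x := by
  simp only [Polar.F_def, pencil, SS, PP]; ring

lemma hessFn_pencil (u w : ℂ) (x : V3) :
    hessFn (pencil u w) x = (u ^ 3 + 2 * w ^ 3) * PP x - u * w ^ 2 * SS x := by
  simp [hessFn, Matrix.det_fin_three, pencil, Pi.single_apply, SS, PP]
  ring

lemma hk_eq_SS_PP (k : ℂ) (x : V3) : hk k x = SS x - 3 * k * PP x := by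
  rw [hk_eq, SS, PP]

/-- An automorphism of a general Hesse cubic (of determinant one) multiplies the cubic by a sign,
and preserves both generators of the Hesse pencil up to this sign. -/
lemma aut_sign (k : ℂ) (hk0 : k ≠ 0) (hk1 : k ^ 3 ≠ 1) (hk8 : k ^ 3 + 8 ≠ 0)
    (hk6 : k ^ 6 - 20 * k ^ 3 - 8 ≠ 0) (A : Matrix (Fin 3) (Fin 3) ℂ) (hdet : A.det = 1) (c : ℂ)
    (hc0 : c ≠ 0) (h : ∀ x, hk k (A.mulVec x) = c * hk k x) :
    c ^ 2 = 1 ∧ (∀ x, SS (A.mulVec x) = c * SS x) ∧ (∀ x, PP (A.mulVec x) = c * PP x) := by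
  -- first Hessian
  have hF0 : ∀ x, (pencil 1 (-k / 2)).F x = hk k x := by
    intro x; rw [pencil_F, hk_eq_SS_PP]; ring
  have hH0 : ∀ x, hessFn (pencil 1 (-k / 2)) x = (1 - k ^ 3 / 4) * PP x - k ^ 2 / 4 * SS x := by
    intro x; rw [hessFn_pencil]; ring
  have hb : ∀ x, hessFn (pencil 1 (-k / 2)) (A.mulVec x) = c ^ 3 * hessFn (pencil 1 (-k / 2)) x := by
    intro x
    have := hess_covariant (pencil 1 (-k / 2)) A c (by intro y; rw [hF0, hF0]; exact h y) x
    rw [hdet] at this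
    linear_combination this
  -- second Hessian
  have hF1 : ∀ x, (pencil (-k ^ 2 / 4) ((4 - k ^ 3) / 24)).F x = hessFn (pencil 1 (-k / 2)) x := by
    intro x; rw [pencil_F, hH0]; ring
  have hc : ∀ x, hessFn (pencil (-k ^ 2 / 4) ((4 - k ^ 3) / 24)) (A.mulVec x) =
      (c ^ 3) ^ 3 * hessFn (pencil (-k ^ 2 / 4) ((4 - k ^ 3) / 24)) x := by
    intro x
    have := hess_covariant (pencil (-k ^ 2 / 4) ((4 - k ^ 3) / 24)) A (c ^ 3)
      (by intro y; rw [hF1, hF1]; exact hb y) x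
    rw [hdet] at this
    linear_combination this
  -- the linear relation
  have hrel : ∀ y, hessFn (pencil (-k ^ 2 / 4) ((4 - k ^ 3) / 24)) y =
      k ^ 2 * (k ^ 3 + 8) ^ 2 / 6912 * hk k y -
        (k ^ 6 - 20 * k ^ 3 - 8) / 864 * hessFn (pencil 1 (-k / 2)) y := by
    intro y
    rw [hessFn_pencil, hH0, hk_eq_SS_PP]
    ring
  have hmain : ∀ x, k ^ 2 * (k ^ 3 + 8) ^ 2 / 6912 * (c ^ 9 - c) * hk k x -
      (k ^ 6 - 20 * k ^ 3 - 8) / 864 * (c ^ 9 - c ^ 3) * hessFn (pencil 1 (-k / 2)) x = 0 := by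
    intro x
    have e1 := hc x
    rw [hrel, hrel, h, hb] at e1
    linear_combination -e1
  have m1 := hmain ![1, 0, 0]
  have m2 := hmain ![1, 1, 1]
  rw [hH0, hk_eq_SS_PP] at m1 m2
  simp only [SS, PP, Matrix.cons_val_zero, Matrix.cons_val_one, Matrix.cons_val_two,
    Matrix.head_cons, Matrix.tail_cons] at m1 m2
  have hY : (k ^ 6 - 20 * k ^ 3 - 8) / 864 * (c ^ 9 - c ^ 3) * (1 - k ^ 3) = 0 := by
    linear_combination (3 - 3 * k) * m1 - m2
  have hk1' : (1 : ℂ) - k ^ 3 ≠ 0 := sub_ne_zero.mpr (Ne.symm hk1)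
  have hY' : c ^ 9 - c ^ 3 = 0 := by
    rcases mul_eq_zero.mp hY with h1 | h1
    · rcases mul_eq_zero.mp h1 with h2 | h2
      · exact absurd h2 (div_ne_zero hk6 (by norm_num))
      · exact h2
    · exact absurd h1 hk1'
  have hX : k ^ 2 * (k ^ 3 + 8) ^ 2 / 6912 * (c ^ 9 - c) = 0 := by
    rw [hY'] at m1
    linear_combination m1
  have hX' : c ^ 9 - c = 0 := by
    rcases mul_eq_zero.mp hX with h1 | h1
    · exact absurd h1 (div_ne_zero (mul_ne_zero (pow_ne_zero 2 hk0) (pow_ne_zero 2 hk8))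
        (by norm_num))
    · exact h1
  have h8 : c ^ 8 = 1 := by
    have : c * (c ^ 8 - 1) = 0 := by linear_combination hX'
    have := (mul_eq_zero.mp this).resolve_left hc0
    linear_combination this
  have h6 : c ^ 6 = 1 := by
    have : c ^ 3 * (c ^ 6 - 1) = 0 := by linear_combination hY'
    have := (mul_eq_zero.mp this).resolve_left (pow_ne_zero 3 hc0)
    linear_combination this
  have h2 : c ^ 2 = 1 := by
    have : c ^ 2 = c ^ 2 * c ^ 6 := by rw [h6, mul_one]
    rw [this, ← pow_add]; exact h8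
  have h3 : c ^ 3 = c := by
    have : c ^ 3 = c ^ 2 * c := by ring
    rw [this, h2, one_mul]
  have hPP : ∀ x, PP (A.mulVec x) = c * PP x := by
    intro x
    have e1 := hb x
    have e2 := h x
    rw [hH0, hH0] at e1
    rw [hk_eq_SS_PP, hk_eq_SS_PP] at e2
    rw [h3] at e1
    apply mul_left_cancel₀ hk1'
    linear_combination e1 + k ^ 2 / 4 * e2
  refine ⟨h2, ?_, hPP⟩
  intro x
  have e2 := h x
  rw [hk_eq_SS_PP, hk_eq_SS_PP, hPP] at e2
  linear_combination e2

end Groth.Agent.Lib.Helper27Cubic
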