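import Mathlib
import Groth.Agent.Lib.Helper27Aut

set_option autoImplicit false
open MvPolynomial

namespace Groth.Agent.Lib.Helper27Cubic

local notation "V3" => (Fin 3 → ℂ)

/-- pigeonhole on four points of a plane -/
lemma exists_row_zero (A : Matrix (Fin 3) (Fin 3) ℂ) (m n : Fin 3)
    (h : ∀ s : ℂ, ∃ i, A i m * s + A i n = 0) : ∃ i, A i m = 0 ∧ A i n = 0 := by
  choose f hf using fun s : Fin 4 => h ((s : ℕ) : ℂ)
  obtain ⟨s, s', hne, heq⟩ := Fintype.exists_ne_map_eq_of_card_lt f (by simp)
  have h1 := hf s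
  have h2 := hf s'
  rw [← heq] at h2
  have hss : ((s : ℕ) : ℂ) - ((s' : ℕ) : ℂ) ≠ 0 := by
    rw [sub_ne_zero]
    intro h
    exact hne (Fin.val_injective (Nat.cast_injective h))
  have h3 : A (f s) m * (((s : ℕ) : ℂ) - ((s' : ℕ) : ℂ)) = 0 := by linear_combination h1 - h2
  have h4 : A (f s) m = 0 := (mul_eq_zero.mp h3).resolve_right hss
  refine ⟨f s, h4, ?_⟩
  rw [h4] at h1
  simpa using h1

lemma exists_factor_zero {a b c : ℂ} (h : a * b * c = 0) : a = 0 ∨ b = 0 ∨ c = 0 := by
  rcases mul_eq_zero.mp h with h | h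
  · rcases mul_eq_zero.mp h with h | h
    · exact Or.inl h
    · exact Or.inr (Or.inl h)
  · exact Or.inr (Or.inr h)

/-- A matrix scaling the product of the coordinates is monomial. -/
lemma monomial_of_PP (A : Matrix (Fin 3) (Fin 3) ℂ) (c : ℂ) (hc0 : c ≠ 0)
    (hPP : ∀ x, PP (A.mulVec x) = c * PP x) :
    ∃ (π : Equiv.Perm (Fin 3)) (d : Fin 3 → ℂ), ∀ i j, A i j = if i = π j then d j else 0 := by
  have hrow : ∀ (m n : Fin 3) (x : V3), PP x = 0 →
      (∀ i, (A.mulVec x) i = A i m * x m + A i n * x n) → ∃ i, A i m * x m + A i n * x n = 0 := by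
    intro m n x hx hi
    have := hPP x
    rw [hx, mul_zero, PP] at this
    rcases exists_factor_zero this with h | h | h
    · exact ⟨0, by rw [← hi]; exact h⟩
    · exact ⟨1, by rw [← hi]; exact h⟩
    · exact ⟨2, by rw [← hi]; exact h⟩
  have key : ∀ j : Fin 3, ∃ i, ∀ m, m ≠ j → A i m = 0 := by
    intro j
    fin_cases j
    · obtain ⟨i, h1, h2⟩ := exists_row_zero A 1 2 (fun s => by
        have := hrow 1 2 ![0, s, 1] (by simp [PP]) (fun i => by
          simp [Matrix.mulVec, dotProduct, Fin.sum_univ_three])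
        simpa using this)
      refine ⟨i, fun m hm => ?_⟩
      fin_cases m
      · exact absurd rfl hm
      · exact h1
      · exact h2
    · obtain ⟨i, h1, h2⟩ := exists_row_zero A 0 2 (fun s => by
        have := hrow 0 2 ![s, 0, 1] (by simp [PP]) (fun i => by
          simp [Matrix.mulVec, dotProduct, Fin.sum_univ_three])
        simpa using this)
      refine ⟨i, fun m hm => ?_⟩
      fin_cases m
      · exact h1
      · exact absurd rfl hm
      · exact h2
    · obtain ⟨i, h1, h2⟩ := exists_row_zero A 0 1 (fun s => by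
        have := hrow 0 1 ![s, 1, 0] (by simp [PP]) (fun i => by
          simp [Matrix.mulVec, dotProduct, Fin.sum_univ_three])
        simpa using this)
      refine ⟨i, fun m hm => ?_⟩
      fin_cases m
      · exact h1
      · exact h2
      · exact absurd rfl hm
  choose ρ hρ using key
  have hinj : Function.Injective ρ := by
    intro j j' hjj
    by_contra hne
    have hzero : ∀ m, A (ρ j) m = 0 := by
      intro m
      by_cases hm : m = j
      · rw [hjj]
        exact hρ j' m (by rw [hm]; exact hne)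
      · exact hρ j m hm
    have h1 := hPP ![1, 1, 1]
    have h2 : (A.mulVec ![1, 1, 1]) (ρ j) = 0 := by
      simp [Matrix.mulVec, dotProduct, Fin.sum_univ_three, hzero]
    have h3 : PP (A.mulVec ![1, 1, 1]) = 0 := by
      rw [PP]
      generalize ρ j = i at h2
      fin_cases i
      · simp only [Fin.zero_eta] at h2; rw [h2]; ring
      · simp only [Fin.mk_one] at h2; rw [h2]; ring
      · simp only [Fin.reduceFinMk] at h2; rw [h2]; ring
    rw [h3] at h1
    simp [PP] at h1
    exact hc0 h1.symm
  have hbij : Function.Bijective ρ := Finite.injective_iff_bijective.mp hinj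
  refine ⟨Equiv.ofBijective ρ hbij, fun j => A (ρ j) j, fun i j => ?_⟩
  simp only [Equiv.ofBijective_apply]
  by_cases hij : i = ρ j
  · rw [if_pos hij, hij]
  · rw [if_neg hij]
    obtain ⟨j', rfl⟩ := hbij.2 i
    apply hρ j' j
    intro h
    exact hij (by rw [h])

end Groth.Agent.Lib.Helper27Cubic
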