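import Mathlib
import Groth.Agent.Lib.Helper27Aut2

set_option autoImplicit false
open MvPolynomial

namespace Groth.Agent.Lib.Helper27Cubic

local notation "V3" => (Fin 3 → ℂ)

/-- the monomial matrix with `A e_j = d_j e_{π j}` -/
noncomputable def monoMat (π : Equiv.Perm (Fin 3)) (d : Fin 3 → ℂ) : Matrix (Fin 3) (Fin 3) ℂ :=
  Matrix.of fun i j => if i = π j then d j else 0

/-- the sign of a permutation as a complex number -/
noncomputable def sg (π : Equiv.Perm (Fin 3)) : ℂ := ((Equiv.Perm.sign π : ℤˣ) : ℤ)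

lemma sg_sq (π : Equiv.Perm (Fin 3)) : sg π ^ 2 = 1 := by
  rw [sg]
  rcases Int.units_eq_one_or (Equiv.Perm.sign π) with h | h <;> rw [h] <;> norm_num

lemma monoMat_mulVec (π : Equiv.Perm (Fin 3)) (d x : V3) (j : Fin 3) :
    (monoMat π d).mulVec x (π j) = d j * x j := by
  simp only [Matrix.mulVec, dotProduct, monoMat, Matrix.of_apply]
  rw [Finset.sum_eq_single j]
  · simp
  · intro m _ hm
    rw [if_neg (fun h => hm (π.injective h).symm), zero_mul]
  · simp

lemma SS_eq_sum (x : V3) : SS x = ∑ i, x i ^ 3 := by rw [SS, Fin.sum_univ_three]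
lemma PP_eq_prod (x : V3) : PP x = ∏ i, x i := by rw [PP, Fin.prod_univ_three]

lemma SS_monoMat (π : Equiv.Perm (Fin 3)) (d x : V3) :
    SS ((monoMat π d).mulVec x) = ∑ j, d j ^ 3 * x j ^ 3 := by
  rw [SS_eq_sum, ← Equiv.sum_comp π]
  refine Finset.sum_congr rfl fun j _ => ?_
  rw [monoMat_mulVec, mul_pow]

lemma PP_monoMat (π : Equiv.Perm (Fin 3)) (d x : V3) :
    PP ((monoMat π d).mulVec x) = (d 0 * d 1 * d 2) * PP x := by
  rw [PP_eq_prod, ← Equiv.prod_comp π]
  simp only [monoMat_mulVec]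
  rw [Finset.prod_mul_distrib, Fin.prod_univ_three, ← PP_eq_prod]

lemma det_monoMat (π : Equiv.Perm (Fin 3)) (d : V3) :
    (monoMat π d).det = sg π * (d 0 * d 1 * d 2) := by
  have h : monoMat π d = Equiv.Perm.permMatrix ℂ π⁻¹ * Matrix.diagonal d := by
    ext i j
    rw [Matrix.mul_diagonal, Equiv.Perm.permMatrix, PEquiv.toMatrix_apply]
    simp only [monoMat, Matrix.of_apply, Equiv.toPEquiv_apply, Option.mem_def, Option.some.injEq]
    by_cases hij : i = π j
    · rw [if_pos hij, if_pos (by rw [hij]; simp), one_mul]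
    · rw [if_neg hij, if_neg (fun h => hij (by rw [← h]; simp)), zero_mul]
  rw [h, Matrix.det_mul, Matrix.det_permutation, Matrix.det_diagonal, Fin.prod_univ_three,
    Equiv.Perm.sign_inv, sg]

end Groth.Agent.Lib.Helper27Cubic
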