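import Mathlib
import Groth.Agent.Lib.Helper27Aut3

set_option autoImplicit false
open MvPolynomial

namespace Groth.Agent.Lib.Helper27Cubic

local notation "V3" => (Fin 3 → ℂ)

lemma hk_of_aeval (k : ℂ) (A : Matrix (Fin 3) (Fin 3) ℂ) (c : ℂ)
    (hc : aeval (fun i : Fin 3 => ∑ j : Fin 3, C (A i j) * X j) (HesseCubic.form k) =
      C c * HesseCubic.form k) (x : V3) : hk k (A.mulVec x) = c * hk k x := by
  have h3 : eval x (aeval (fun i : Fin 3 => ∑ j : Fin 3, C (A i j) * X j) (HesseCubic.form k)) =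
      eval (A.mulVec x) (HesseCubic.form k) := eval_aeval_subst A (HesseCubic.form k) x
  show eval (A.mulVec x) (HesseCubic.form k) = c * eval x (HesseCubic.form k)
  rw [← h3, hc, map_mul, eval_C]

/-- Description of the (determinant one) automorphisms of a general Hesse cubic. -/
lemma aut_iff (k : ℂ) (hk0 : k ≠ 0) (hk1 : k ^ 3 ≠ 1) (hk8 : k ^ 3 + 8 ≠ 0)
    (hk6 : k ^ 6 - 20 * k ^ 3 - 8 ≠ 0) (A : Matrix (Fin 3) (Fin 3) ℂ) :
    (A.det = 1 ∧ ∃ c : ℂ, aeval (fun i : Fin 3 => ∑ j : Fin 3, C (A i j) * X j)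
      (HesseCubic.form k) = C c * HesseCubic.form k) ↔
    ∃ (π : Equiv.Perm (Fin 3)) (d : Fin 3 → ℂ), (∀ j, d j ^ 3 = sg π) ∧
      d 0 * d 1 * d 2 = sg π ∧ A = monoMat π d := by
  constructor
  · rintro ⟨hdet, c, hc⟩
    have h := hk_of_aeval k A c hc
    have hc0 : c ≠ 0 := by
      rintro rfl
      have hA : IsUnit A.det := by rw [hdet]; exact isUnit_one
      have := h (A⁻¹.mulVec ![1, 0, 0])
      rw [Matrix.mulVec_mulVec, Matrix.mul_nonsing_inv _ hA, Matrix.one_mulVec, zero_mul,
        hk_eq] at this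
      simp at this
    obtain ⟨h2, hSS, hPP⟩ := aut_sign k hk0 hk1 hk8 hk6 A hdet c hc0 h
    obtain ⟨π, d, hA⟩ := monomial_of_PP A c hc0 hPP
    have hAeq : A = monoMat π d := by
      ext i j
      rw [hA]; rfl
    have hprod : d 0 * d 1 * d 2 = c := by
      have := hPP ![1, 1, 1]
      rw [hAeq, PP_monoMat] at this
      simpa [PP] using this
    have hsg : c = sg π := by
      have hd := det_monoMat π d
      rw [← hAeq, hdet, hprod] at hd
      have := sg_sq π
      linear_combination (-c) * this - (sg π) * hd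
    refine ⟨π, d, ?_, by rw [hprod, hsg], hAeq⟩
    intro j
    rw [← hsg]
    have := hSS (Pi.single j 1)
    rw [hAeq, SS_monoMat] at this
    fin_cases j <;> simpa [Fin.sum_univ_three, SS] using this
  · rintro ⟨π, d, hd3, hprod, rfl⟩
    refine ⟨?_, sg π, ?_⟩
    · rw [det_monoMat, hprod, ← pow_two, sg_sq]
    · apply MvPolynomial.funext
      intro x
      have h3 : eval x (aeval (fun i : Fin 3 => ∑ j : Fin 3, C (monoMat π d i j) * X j)
          (HesseCubic.form k)) = eval ((monoMat π d).mulVec x) (HesseCubic.form k) :=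
        eval_aeval_subst (monoMat π d) (HesseCubic.form k) x
      rw [h3, map_mul, eval_C]
      show hk k ((monoMat π d).mulVec x) = sg π * hk k x
      rw [hk_eq_SS_PP, hk_eq_SS_PP, SS_monoMat, PP_monoMat, hprod]
      simp only [hd3]
      rw [← Finset.mul_sum, ← SS_eq_sum]
      ring

end Groth.Agent.Lib.Helper27Cubic
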