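import Mathlib
import Groth.Agent.Lib.Helper27Aut4

set_option autoImplicit false
open MvPolynomial

namespace Groth.Agent.Lib.Helper27Cubic

local notation "V3" => (Fin 3 → ℂ)

section Omega

variable {ω : ℂ} (hω2 : ω ^ 2 + ω + 1 = 0)

include hω2 in
lemma omega_cube : ω ^ 3 = 1 := by linear_combination (ω - 1) * hω2

include hω2 in
lemma omega_ne_one : ω ≠ 1 := by
  rintro rfl
  norm_num at hω2

include hω2 in
lemma omega_ne_zero : ω ≠ 0 := by
  rintro rfl
  norm_num at hω2

include hω2 in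
lemma cube_root_cases {z : ℂ} (hz : z ^ 3 = 1) : ∃ a : Fin 3, z = ω ^ (a : ℕ) := by
  have h : (z - 1) * ((z - ω) * (z - ω ^ 2)) = 0 := by
    have h3 := omega_cube hω2
    linear_combination hz + (-z ^ 2 + z) * hω2 + (z - 1) * h3
  rcases mul_eq_zero.mp h with h | h
  · exact ⟨0, by simpa using sub_eq_zero.mp h⟩
  rcases mul_eq_zero.mp h with h | h
  · exact ⟨1, by simpa using sub_eq_zero.mp h⟩
  · exact ⟨2, by simpa using sub_eq_zero.mp h⟩

include hω2 in
lemma omega_pow_inj {a b : Fin 3} (h : ω ^ (a : ℕ) = ω ^ (b : ℕ)) : a = b := by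
  have h1 := omega_ne_one hω2
  have h0 := omega_ne_zero hω2
  have h3 := omega_cube hω2
  have h21 : ω ^ 2 ≠ 1 := by
    intro h2
    apply h1
    linear_combination (-ω) * h2 + h3
  have h2ω : ω ^ 2 ≠ ω := by
    intro h2
    have : ω * (ω - 1) = 0 := by linear_combination h2
    exact h1 (sub_eq_zero.mp ((mul_eq_zero.mp this).resolve_left h0))
  rcases a with ⟨a, ha⟩
  rcases b with ⟨b, hb⟩
  simp only [Fin.mk.injEq]
  simp only at h
  interval_cases a <;> interval_cases b <;>
    first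
    | rfl
    | (exfalso
       simp only [pow_zero, pow_one] at h
       first
       | exact h1 h
       | exact h1 h.symm
       | exact h21 h
       | exact h21 h.symm
       | exact h2ω h
       | exact h2ω h.symm)

end Omega


lemma sg_ne_zero (π : Equiv.Perm (Fin 3)) : sg π ≠ 0 := by
  intro h
  have := sg_sq π
  rw [h] at this
  norm_num at this

lemma monoMat_inj {π π' : Equiv.Perm (Fin 3)} {d d' : V3} (hd : ∀ j, d j ≠ 0)
    (h : monoMat π d = monoMat π' d') : π = π' ∧ d = d' := by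
  have hπ : ∀ j, π j = π' j := by
    intro j
    have := congrFun (congrFun h (π j)) j
    simp only [monoMat, Matrix.of_apply, if_true] at this
    by_contra hne
    rw [if_neg hne] at this
    exact hd j this
  have hππ : π = π' := Equiv.ext hπ
  refine ⟨hππ, ?_⟩
  funext j
  have := congrFun (congrFun h (π j)) j
  simp only [monoMat, Matrix.of_apply, if_true] at this
  rw [if_pos (hπ j)] at this
  exact this

/-- exponents of the diagonal part -/
def expo (a b : Fin 3) : Fin 3 → ℕ := ![(a : ℕ), (b : ℕ), 6 - (a : ℕ) - (b : ℕ)]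

/-- the parametrisation of the automorphism group of a general Hesse cubic -/
noncomputable def Psi (ω : ℂ) (t : Equiv.Perm (Fin 3) × Fin 3 × Fin 3) :
    Matrix (Fin 3) (Fin 3) ℂ :=
  monoMat t.1 (fun j => sg t.1 * ω ^ expo t.2.1 t.2.2 j)

section Omega2

variable {ω : ℂ} (hω2 : ω ^ 2 + ω + 1 = 0)

include hω2 in
lemma Psi_injective : Function.Injective (Psi ω) := by
  rintro ⟨π, a, b⟩ ⟨π', a', b'⟩ h
  have h0 := omega_ne_zero hω2
  obtain ⟨rfl, hd⟩ := monoMat_inj (fun j => mul_ne_zero (sg_ne_zero π) (pow_ne_zero _ h0)) h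
  have e0 := congrFun hd 0
  have e1 := congrFun hd 1
  simp only [expo, Matrix.cons_val_zero, Matrix.cons_val_one] at e0 e1
  have ha : a = a' := omega_pow_inj hω2 (mul_left_cancel₀ (sg_ne_zero π) e0)
  have hb : b = b' := omega_pow_inj hω2 (mul_left_cancel₀ (sg_ne_zero π) e1)
  rw [ha, hb]

include hω2 in
lemma mem_range_Psi_iff (A : Matrix (Fin 3) (Fin 3) ℂ) :
    (∃ (π : Equiv.Perm (Fin 3)) (d : Fin 3 → ℂ), (∀ j, d j ^ 3 = sg π) ∧
      d 0 * d 1 * d 2 = sg π ∧ A = monoMat π d) ↔ A ∈ Set.range (Psi ω) := by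
  have h3 := omega_cube hω2
  have h0 := omega_ne_zero hω2
  constructor
  · rintro ⟨π, d, hd3, hprod, rfl⟩
    have hε2 := sg_sq π
    have hε0 := sg_ne_zero π
    have hroot : ∀ j, ∃ a : Fin 3, d j * sg π = ω ^ (a : ℕ) := by
      intro j
      apply cube_root_cases hω2
      rw [mul_pow, hd3]
      have : sg π * sg π ^ 3 = (sg π ^ 2) ^ 2 := by ring
      rw [this, hε2, one_pow]
    choose a ha using hroot
    have hd : ∀ j, d j = sg π * ω ^ (a j : ℕ) := by
      intro j
      rw [← ha j]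
      linear_combination (-d j) * hε2
    refine ⟨(π, a 0, a 1), ?_⟩
    rw [Psi]
    congr 1
    funext j
    have hsum : ω ^ ((a 0 : ℕ) + (a 1 : ℕ) + (a 2 : ℕ)) = 1 := by
      have := hprod
      rw [hd 0, hd 1, hd 2] at this
      have h4 : sg π ^ 3 * ω ^ ((a 0 : ℕ) + (a 1 : ℕ) + (a 2 : ℕ)) = sg π := by
        rw [pow_add, pow_add]; linear_combination this
      have h5 : sg π ^ 3 = sg π := by
        have : sg π ^ 3 = sg π ^ 2 * sg π := by ring
        rw [this, hε2, one_mul]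
      rw [h5] at h4
      exact mul_left_cancel₀ hε0 (by rw [h4, mul_one])
    fin_cases j
    · simp [expo, hd]
    · simp [expo, hd]
    · simp only [expo, Fin.reduceFinMk, Matrix.cons_val_two, Matrix.head_cons, Matrix.tail_cons]
      rw [hd 2]
      congr 1
      have h01 : (a 0 : ℕ) + (a 1 : ℕ) ≤ 4 := by
        have := (a 0).isLt
        have := (a 1).isLt
        omega
      have e1 : ω ^ (6 - (a 0 : ℕ) - (a 1 : ℕ)) * ω ^ ((a 0 : ℕ) + (a 1 : ℕ)) = 1 := by
        rw [← pow_add]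
        have : 6 - (a 0 : ℕ) - (a 1 : ℕ) + ((a 0 : ℕ) + (a 1 : ℕ)) = 3 * 2 := by omega
        rw [this, pow_mul, h3, one_pow]
      have e2 : ω ^ (a 2 : ℕ) * ω ^ ((a 0 : ℕ) + (a 1 : ℕ)) = 1 := by
        rw [← pow_add, add_comm]; exact hsum
      exact mul_right_cancel₀ (pow_ne_zero _ h0) (e1.trans e2.symm)
  · rintro ⟨⟨π, a, b⟩, rfl⟩
    have hε2 := sg_sq π
    have h5 : sg π ^ 3 = sg π := by
      have : sg π ^ 3 = sg π ^ 2 * sg π := by ring
      rw [this, hε2, one_mul]
    refine ⟨π, _, ?_, ?_, rfl⟩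
    · intro j
      show (sg π * ω ^ expo a b j) ^ 3 = sg π
      rw [mul_pow, h5, ← pow_mul, mul_comm (expo a b j) 3, pow_mul, h3, one_pow, mul_one]
    · show sg π * ω ^ expo a b 0 * (sg π * ω ^ expo a b 1) * (sg π * ω ^ expo a b 2) = sg π
      have hab : (a : ℕ) + (b : ℕ) ≤ 4 := by
        have := a.isLt
        have := b.isLt
        omega
      have : ω ^ expo a b 0 * ω ^ expo a b 1 * ω ^ expo a b 2 = 1 := by
        simp only [expo, Matrix.cons_val_zero, Matrix.cons_val_one, Matrix.cons_val_two,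
          Matrix.head_cons, Matrix.tail_cons]
        rw [← pow_add, ← pow_add]
        have : (a : ℕ) + (b : ℕ) + (6 - (a : ℕ) - (b : ℕ)) = 3 * 2 := by omega
        rw [this, pow_mul, h3, one_pow]
      calc sg π * ω ^ expo a b 0 * (sg π * ω ^ expo a b 1) * (sg π * ω ^ expo a b 2)
          = sg π ^ 3 * (ω ^ expo a b 0 * ω ^ expo a b 1 * ω ^ expo a b 2) := by ring
        _ = sg π := by rw [this, h5, mul_one]

end Omega2

/-- A general Hesse cubic has exactly 54 linear automorphisms of determinant one. -/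
theorem card_aut_hesse :
    ∃ T : Finset ℂ, ∀ k : ℂ, k ∉ T →
      Nat.card {A : Matrix (Fin 3) (Fin 3) ℂ // A.det = 1 ∧
        ∃ c : ℂ, aeval (fun i : Fin 3 => ∑ j : Fin 3, C (A i j) * X j) (HesseCubic.form k) =
          C c * HesseCubic.form k} = 54 := by
  obtain ⟨s, hs⟩ := IsAlgClosed.exists_pow_nat_eq (-3 : ℂ) (n := 2) (by norm_num)
  obtain ⟨ω, hω⟩ : ∃ ω : ℂ, ω = (-1 + s) / 2 := ⟨_, rfl⟩
  have hω2 : ω ^ 2 + ω + 1 = 0 := by
    rw [hω]; linear_combination (1 / 4 : ℂ) * hs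
  set q : Polynomial ℂ := Polynomial.X * (Polynomial.X ^ 3 - 1) * (Polynomial.X ^ 3 + 8) *
    (Polynomial.X ^ 6 - 20 * Polynomial.X ^ 3 - 8) with hq
  have hq0 : q ≠ 0 := by
    intro h
    have := congrArg (Polynomial.eval 2) h
    simp [hq] at this
    norm_num at this
  refine ⟨q.roots.toFinset, fun k hk => ?_⟩
  have hk' : Polynomial.eval k q ≠ 0 := by
    intro h
    apply hk
    rw [Multiset.mem_toFinset, Polynomial.mem_roots hq0]
    exact h
  simp only [hq, Polynomial.eval_mul, Polynomial.eval_X, Polynomial.eval_sub, Polynomial.eval_add,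
    Polynomial.eval_pow, Polynomial.eval_one, Polynomial.eval_ofNat] at hk'
  have hk0 : k ≠ 0 := by
    rintro rfl
    apply hk'; ring
  have hk1 : k ^ 3 ≠ 1 := by
    intro h
    apply hk'; rw [h]; ring
  have hk8 : k ^ 3 + 8 ≠ 0 := by
    intro h
    apply hk'; rw [h]; ring
  have hk6 : k ^ 6 - 20 * k ^ 3 - 8 ≠ 0 := by
    intro h
    apply hk'; rw [h]; ring
  have e1 : {A : Matrix (Fin 3) (Fin 3) ℂ // A.det = 1 ∧
        ∃ c : ℂ, aeval (fun i : Fin 3 => ∑ j : Fin 3, C (A i j) * X j) (HesseCubic.form k) =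
          C c * HesseCubic.form k} ≃ Set.range (Psi ω) :=
    Equiv.subtypeEquivRight (fun A =>
      (aut_iff k hk0 hk1 hk8 hk6 A).trans (mem_range_Psi_iff hω2 A))
  rw [Nat.card_congr e1, Nat.card_congr (Equiv.ofInjective (Psi ω) (Psi_injective hω2)).symm,
    Nat.card_eq_fintype_card]
  simp [Fintype.card_perm]
  rfl

end Groth.Agent.Lib.Helper27Cubic
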