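import Mathlib.RingTheory.GradedAlgebra.HomogeneousLocalization
import Mathlib.Algebra.Ring.Action.Basic
import Mathlib.RingTheory.Localization.Away.Basic

/-!
# Invariants of a finite group acting on a graded ring: the degree-zero localisations (helper27)

`G` finite acting on the graded ring `𝒜` by graded automorphisms, `ι : 𝒞 → 𝒜` injective graded with image
the invariants.  For `c ∈ 𝒞 n`:
* `thC c : C_(c) → A_(ι c)`, `thG σ h : A_(f) → A_(f')` for `σ • f = f'` (with their compatibilities with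
  the maps of full localisations);
* `thC_injective`, `mem_range_thC`: `C_(c) → A_(ι c)` is injective with image the `G`-invariants.
-/

set_option autoImplicit false
set_option linter.unusedSectionVars false
universe u
open HomogeneousLocalization

namespace Groth.Agent.Lib.Helper27AwayInv

variable {R A C : Type u} [CommRing R] [CommRing A] [Algebra R A] {𝒜 : ℕ → Submodule R A}
  [GradedAlgebra 𝒜] [CommRing C] [Algebra R C] {𝒞 : ℕ → Submodule R C} [GradedAlgebra 𝒞]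

set_option backward.isDefEq.respectTransparency.types false in
theorem val_map (g : 𝒞 →+*ᵍ 𝒜) {P : Submonoid C} {Q : Submonoid A} (hle : P ≤ Q.comap g)
    (x : HomogeneousLocalization 𝒞 P) :
    (HomogeneousLocalization.map g hle x).val =
      IsLocalization.map (Localization Q) g.toRingHom hle x.val := by
  obtain ⟨c, rfl⟩ := x.mk_surjective
  rw [HomogeneousLocalization.map_mk, val_mk, val_mk]
  simp only [Localization.mk_eq_mk', IsLocalization.map_mk']
  rfl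

set_option backward.isDefEq.respectTransparency.types false in
theorem map_away_mk (g : 𝒞 →+*ᵍ 𝒜) {n : ℕ} {c : C} {f : A} (hc : c ∈ 𝒞 n) (hf : f ∈ 𝒜 n)
    (h : g c = f) (hle : Submonoid.powers c ≤ (Submonoid.powers f).comap g) (k : ℕ) (b : C)
    (hb : b ∈ 𝒞 (k • n)) :
    HomogeneousLocalization.map g hle (Away.mk 𝒞 hc k b hb) =
      Away.mk 𝒜 hf k (g b) (g.map_mem hb) := by
  subst h
  apply HomogeneousLocalization.val_injective
  rw [val_map, Away.val_mk, Away.val_mk]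
  simp only [Localization.mk_eq_mk', IsLocalization.map_mk']
  congr 1
  exact Subtype.ext (map_pow g c k)

theorem away_mk_congr {n : ℕ} {f : A} (hf : f ∈ 𝒜 n) (k : ℕ) {x x' : A} (h : x = x')
    (hx : x ∈ 𝒜 (k • n)) (hx' : x' ∈ 𝒜 (k • n)) :
    Away.mk 𝒜 hf k x hx = Away.mk 𝒜 hf k x' hx' := by
  subst h; rfl

section setup

variable {G : Type u} [Group G] [MulSemiringAction G A]
  (hGdeg : ∀ (σ : G) (i : ℕ) (a : A), a ∈ 𝒜 i → σ • a ∈ 𝒜 i)
  (ι : C →ₐ[R] A)
  (hιdeg : ∀ (i : ℕ) (a : A), a ∈ (𝒞 i).map ι.toLinearMap ↔ (a ∈ 𝒜 i ∧ ∀ σ : G, σ • a = a))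

/-- the graded ring endomorphism `a ↦ σ • a` -/
def grS (σ : G) : 𝒜 →+*ᵍ 𝒜 where
  toRingHom := MulSemiringAction.toRingHom G A σ
  map_mem := fun {i x} hx => hGdeg σ i x hx

theorem grS_apply (σ : G) (a : A) : grS hGdeg σ a = σ • a := rfl

include hιdeg in
theorem ι_mem {i : ℕ} {c : C} (hc : c ∈ 𝒞 i) : ι c ∈ 𝒜 i :=
  ((hιdeg i (ι c)).mp (Submodule.mem_map_of_mem hc)).1

include hιdeg in
theorem smul_ι (σ : G) {i : ℕ} {c : C} (hc : c ∈ 𝒞 i) : σ • ι c = ι c :=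
  ((hιdeg i (ι c)).mp (Submodule.mem_map_of_mem hc)).2 σ

include hιdeg in
theorem exists_of_inv {i : ℕ} {a : A} (ha : a ∈ 𝒜 i) (hinv : ∀ σ : G, σ • a = a) :
    ∃ c ∈ 𝒞 i, ι c = a := by
  obtain ⟨c, hc, hca⟩ := (hιdeg i a).mpr ⟨ha, hinv⟩
  exact ⟨c, hc, hca⟩

/-- `ι` as a graded ring homomorphism -/
def grI : 𝒞 →+*ᵍ 𝒜 where
  toRingHom := ι.toRingHom
  map_mem := fun {_ _} hx => ι_mem ι hιdeg hx

theorem grI_apply (c : C) : grI ι hιdeg c = ι c := rfl

theorem powers_le_grI (c : C) :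
    Submonoid.powers c ≤ (Submonoid.powers (ι c)).comap (grI ι hιdeg) := by
  rintro _ ⟨k, rfl⟩
  exact ⟨k, (map_pow ι c k).symm⟩

theorem powers_le_grS (σ : G) {f f' : A} (h : σ • f = f') :
    Submonoid.powers f ≤ (Submonoid.powers f').comap (grS hGdeg σ) := by
  rintro _ ⟨k, rfl⟩
  refine ⟨k, ?_⟩
  change f' ^ k = σ • (f ^ k)
  rw [← h, smul_pow']

/-- `C_(c) → A_(ι c)` -/
def thC (c : C) : Away 𝒞 c →+* Away 𝒜 (ι c) :=
  HomogeneousLocalization.map (grI ι hιdeg) (powers_le_grI ι hιdeg c)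

/-- `A_(f) → A_(f')`, `a / f^k ↦ σ a / f'^k` for `σ • f = f'` -/
def thG (σ : G) {f f' : A} (h : σ • f = f') : Away 𝒜 f →+* Away 𝒜 f' :=
  HomogeneousLocalization.map (grS hGdeg σ) (powers_le_grS hGdeg σ h)

theorem thC_compat (c : C) :
    (algebraMap (Away 𝒜 (ι c)) (Localization.Away (ι c))).comp (thC ι hιdeg c) =
      (Localization.awayMap ι.toRingHom c).comp
        (algebraMap (Away 𝒞 c) (Localization.Away c)) := by
  ext x
  rw [RingHom.comp_apply, RingHom.comp_apply, HomogeneousLocalization.algebraMap_apply,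
    HomogeneousLocalization.algebraMap_apply]
  exact val_map _ _ x

set_option backward.isDefEq.respectTransparency.types false in
theorem thG_compat (σ : G) (f : A) :
    (algebraMap (Away 𝒜 (σ • f)) (Localization.Away (σ • f))).comp (thG hGdeg σ (rfl : σ • f = σ • f)) =
      (Localization.awayMap (MulSemiringAction.toRingHom G A σ) f).comp
        (algebraMap (Away 𝒜 f) (Localization.Away f)) := by
  ext x
  exact val_map (grS hGdeg σ) (powers_le_grS hGdeg σ rfl) x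

theorem thC_mk {n : ℕ} {c : C} (hc : c ∈ 𝒞 n) (k : ℕ) (b : C) (hb : b ∈ 𝒞 (k • n)) :
    thC ι hιdeg c (Away.mk 𝒞 hc k b hb) =
      Away.mk 𝒜 (ι_mem ι hιdeg hc) k (ι b) (ι_mem ι hιdeg hb) :=
  map_away_mk (grI ι hιdeg) hc (ι_mem ι hιdeg hc) rfl _ k b hb

theorem thG_mk (σ : G) {n : ℕ} {f f' : A} (h : σ • f = f') (hf : f ∈ 𝒜 n) (hf' : f' ∈ 𝒜 n) (k : ℕ)
    (b : A) (hb : b ∈ 𝒜 (k • n)) :
    thG hGdeg σ h (Away.mk 𝒜 hf k b hb) = Away.mk 𝒜 hf' k (σ • b) (hGdeg σ _ _ hb) :=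
  map_away_mk (grS hGdeg σ) hf hf' h _ k b hb

theorem thG_comp_thC (σ : G) {n : ℕ} {c : C} (hc : c ∈ 𝒞 n) :
    (thG hGdeg σ (smul_ι ι hιdeg σ hc)).comp (thC ι hιdeg c) = thC ι hιdeg c := by
  ext t
  obtain ⟨k, b, hb, rfl⟩ := Away.mk_surjective 𝒞 hc t
  rw [RingHom.comp_apply, thC_mk ι hιdeg hc,
    thG_mk hGdeg σ _ (ι_mem ι hιdeg hc) (ι_mem ι hιdeg hc)]
  exact congrArg HomogeneousLocalization.val
    (away_mk_congr (𝒜 := 𝒜) (ι_mem ι hιdeg hc) k (smul_ι ι hιdeg σ hb) _ _)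

theorem thC_isLocalizationElem {n n' : ℕ} {c c' : C} (hc' : c' ∈ 𝒞 n') (hc : c ∈ 𝒞 n) :
    thC ι hιdeg c' (Away.isLocalizationElem hc' hc) =
      Away.isLocalizationElem (ι_mem ι hιdeg hc') (ι_mem ι hιdeg hc) := by
  unfold Away.isLocalizationElem
  rw [thC_mk ι hιdeg hc']
  congr 1
  exact map_pow ι c n'

section inv

theorem thC_injective (hι : Function.Injective ι) {n : ℕ} {c : C} (hc : c ∈ 𝒞 n) :
    Function.Injective (thC ι hιdeg c) := by
  rw [injective_iff_map_eq_zero]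
  intro t ht
  obtain ⟨k, b, hb, rfl⟩ := Away.mk_surjective 𝒞 hc t
  rw [thC_mk ι hιdeg hc] at ht
  have h1 := congrArg HomogeneousLocalization.val ht
  rw [Away.val_mk, val_zero, Localization.mk_eq_mk', IsLocalization.mk'_eq_zero_iff] at h1
  obtain ⟨⟨_, m, rfl⟩, hm⟩ := h1
  have h2 : c ^ m * b = 0 := by
    apply hι
    rw [map_mul, map_pow, map_zero]
    exact hm
  apply HomogeneousLocalization.val_injective
  rw [Away.val_mk, val_zero, Localization.mk_eq_mk', IsLocalization.mk'_eq_zero_iff]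
  exact ⟨⟨c ^ m, m, rfl⟩, h2⟩

theorem mem_range_thC [Finite G] {n : ℕ} {c : C} (hc : c ∈ 𝒞 n) (t : Away 𝒜 (ι c))
    (ht : ∀ σ : G, thG hGdeg σ (smul_ι ι hιdeg σ hc) t = t) :
    t ∈ Set.range (thC ι hιdeg c) := by
  classical
  cases nonempty_fintype G
  have hf := ι_mem ι hιdeg hc
  obtain ⟨k, b, hb, rfl⟩ := Away.mk_surjective 𝒜 hf t
  have h1 : ∀ σ : G, ∃ m : ℕ, ι c ^ m * (σ • b) = ι c ^ m * b := by
    intro σ
    have h2 := congrArg HomogeneousLocalization.val (ht σ)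
    rw [thG_mk hGdeg σ (smul_ι ι hιdeg σ hc) hf hf, Away.val_mk, Away.val_mk,
      Localization.mk_eq_mk_iff, Localization.r_iff_exists] at h2
    obtain ⟨⟨_, m, rfl⟩, hm⟩ := h2
    refine ⟨m + k, ?_⟩
    rw [pow_add, mul_assoc, mul_assoc]
    exact hm
  choose m hm using h1
  have h3 : ∀ σ : G, σ • (ι c ^ (∑ τ, m τ) * b) = ι c ^ (∑ τ, m τ) * b := by
    intro σ
    have hle : m σ ≤ ∑ τ, m τ :=
      Finset.single_le_sum (fun _ _ => Nat.zero_le _) (Finset.mem_univ σ)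
    obtain ⟨d, hd⟩ := Nat.exists_eq_add_of_le hle
    rw [smul_mul', smul_pow', smul_ι ι hιdeg σ hc, hd, pow_add, mul_comm (ι c ^ m σ), mul_assoc,
      hm σ, mul_assoc]
  have h4 : ι c ^ (∑ τ, m τ) * b ∈ 𝒜 (((∑ τ, m τ) + k) • n) := by
    rw [add_smul]
    exact SetLike.mul_mem_graded (SetLike.pow_mem_graded _ hf) hb
  obtain ⟨a, ha, haι⟩ := exists_of_inv ι hιdeg h4 h3
  refine ⟨Away.mk 𝒞 hc ((∑ τ, m τ) + k) a ha, ?_⟩
  rw [thC_mk ι hιdeg hc]
  apply HomogeneousLocalization.val_injective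
  rw [Away.val_mk, Away.val_mk, Localization.mk_eq_mk_iff, Localization.r_iff_exists]
  refine ⟨1, ?_⟩
  simp only [OneMemClass.coe_one, one_mul]
  rw [haι, pow_add]
  ring

end inv

end setup

end Groth.Agent.Lib.Helper27AwayInv
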