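import Mathlib

/-!
# `S_f = S_(f)[T, T⁻¹]` for `f` homogeneous of degree one, and dehomogenisation (helper27)
-/

set_option autoImplicit false
universe u

open HomogeneousLocalization
open scoped LaurentPolynomial

namespace Groth.Agent.Lib.Helper27AwayLaurent

section Dehom

variable {A σ : Type u} [CommRing A] [SetLike σ A] [AddSubgroupClass σ A]
  (𝒜 : ℕ → σ) [GradedRing 𝒜] {f : A} (hf : f ∈ 𝒜 1)

theorem mem_smul_one {n : ℕ} {a : A} (ha : a ∈ 𝒜 n) : a ∈ 𝒜 (n • 1) := by
  rwa [smul_eq_mul, mul_one]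

/-- `a ↦ a / f ^ n` on `𝒜 n`. -/
noncomputable def frac (n : ℕ) : 𝒜 n →+ Away 𝒜 f where
  toFun a := Away.mk 𝒜 hf n a (mem_smul_one 𝒜 a.2)
  map_zero' := by
    apply HomogeneousLocalization.val_injective
    rw [Away.val_mk]
    simp [Localization.mk_zero]
  map_add' a b := by
    apply HomogeneousLocalization.val_injective
    rw [HomogeneousLocalization.val_add, Away.val_mk, Away.val_mk, Away.val_mk]
    simp [Localization.add_mk_self]

theorem frac_val (n : ℕ) (a : 𝒜 n) :
    (frac 𝒜 hf n a).val = Localization.mk (a : A) (⟨f ^ n, ⟨n, rfl⟩⟩ : Submonoid.powers f) :=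
  Away.val_mk (hf := hf) ..

theorem frac_one : frac 𝒜 hf 0 (GradedMonoid.GOne.one (A := fun i : ℕ => ↥(𝒜 i))) = 1 := by
  apply HomogeneousLocalization.val_injective
  rw [frac_val, HomogeneousLocalization.val_one]
  simp

theorem frac_mul {i j : ℕ} (a : 𝒜 i) (b : 𝒜 j) :
    frac 𝒜 hf (i + j) (GradedMonoid.GMul.mul (A := fun i : ℕ => ↥(𝒜 i)) a b) = frac 𝒜 hf i a * frac 𝒜 hf j b := by
  apply HomogeneousLocalization.val_injective
  rw [frac_val, HomogeneousLocalization.val_mul, frac_val, frac_val, Localization.mk_mul]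
  congr 1
  ext
  simp [pow_add]

/-- dehomogenisation `a ↦ ∑ aₙ / f ^ n`. -/
noncomputable def dehom : A →+* Away 𝒜 f :=
  (DirectSum.toSemiring (frac 𝒜 hf) (frac_one 𝒜 hf) (frac_mul 𝒜 hf)).comp
    (DirectSum.decomposeRingEquiv 𝒜).toRingHom

theorem dehom_of_mem {n : ℕ} {a : A} (ha : a ∈ 𝒜 n) :
    dehom 𝒜 hf a = Away.mk 𝒜 hf n a (mem_smul_one 𝒜 ha) := by
  unfold dehom
  rw [RingHom.comp_apply]
  change DirectSum.toSemiring _ _ _ (DirectSum.decompose 𝒜 a) = _
  rw [DirectSum.decompose_of_mem 𝒜 ha, DirectSum.toSemiring_of]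
  rfl

theorem dehom_self : dehom 𝒜 hf f = 1 := by
  rw [dehom_of_mem 𝒜 hf hf]
  apply HomogeneousLocalization.val_injective
  rw [Away.val_mk, HomogeneousLocalization.val_one]
  simp

/-- the coefficient maps of `a ↦ ∑ (aₙ / f ^ n) T ^ n`. -/
noncomputable def laurentCoeff (n : ℕ) : 𝒜 n →+ (Away 𝒜 f)[T;T⁻¹] :=
  (AddMonoidHom.mulRight (LaurentPolynomial.T (n : ℤ))).comp
    ((LaurentPolynomial.C : Away 𝒜 f →+* (Away 𝒜 f)[T;T⁻¹]).toAddMonoidHom.comp (frac 𝒜 hf n))

theorem laurentCoeff_apply (n : ℕ) (a : 𝒜 n) :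
    laurentCoeff 𝒜 hf n a = LaurentPolynomial.C (frac 𝒜 hf n a) * LaurentPolynomial.T (n : ℤ) :=
  rfl

/-- `a ↦ ∑ (aₙ / f ^ n) T ^ n`. -/
noncomputable def toLaurent : A →+* (Away 𝒜 f)[T;T⁻¹] :=
  (DirectSum.toSemiring (laurentCoeff 𝒜 hf)
    (by
      rw [laurentCoeff_apply, frac_one]
      simp)
    (by
      intro i j a b
      rw [laurentCoeff_apply, laurentCoeff_apply, laurentCoeff_apply, frac_mul, map_mul,
        Nat.cast_add, LaurentPolynomial.T_add]
      ring)).comp
    (DirectSum.decomposeRingEquiv 𝒜).toRingHom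

theorem toLaurent_of_mem {n : ℕ} {a : A} (ha : a ∈ 𝒜 n) :
    toLaurent 𝒜 hf a =
      LaurentPolynomial.C (Away.mk 𝒜 hf n a (mem_smul_one 𝒜 ha)) * LaurentPolynomial.T (n : ℤ) := by
  unfold toLaurent
  rw [RingHom.comp_apply]
  change DirectSum.toSemiring _ _ _ (DirectSum.decompose 𝒜 a) = _
  rw [DirectSum.decompose_of_mem 𝒜 ha, DirectSum.toSemiring_of]
  rfl

theorem toLaurent_self : toLaurent 𝒜 hf f = LaurentPolynomial.T 1 := by
  rw [toLaurent_of_mem 𝒜 hf hf]
  have h1 : Away.mk 𝒜 hf 1 f (mem_smul_one 𝒜 hf) = 1 := by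
    apply HomogeneousLocalization.val_injective
    rw [Away.val_mk, HomogeneousLocalization.val_one]
    simp
  rw [h1, map_one, one_mul]
  rfl

/-- `S_f → S_(f)[T, T⁻¹]`. -/
noncomputable def awayToLaurent : Localization.Away f →+* (Away 𝒜 f)[T;T⁻¹] :=
  IsLocalization.Away.lift f (g := toLaurent 𝒜 hf)
    (by rw [toLaurent_self]; exact LaurentPolynomial.isUnit_T 1)

theorem awayToLaurent_algebraMap (a : A) :
    awayToLaurent 𝒜 hf (algebraMap A (Localization.Away f) a) = toLaurent 𝒜 hf a :=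
  IsLocalization.Away.lift_eq _ _ _

theorem awayToLaurent_mk (a : A) (n : ℕ) :
    awayToLaurent 𝒜 hf (Localization.mk a (⟨f ^ n, ⟨n, rfl⟩⟩ : Submonoid.powers f)) *
      LaurentPolynomial.T (n : ℤ) = toLaurent 𝒜 hf a := by
  have h1 : Localization.mk a (⟨f ^ n, ⟨n, rfl⟩⟩ : Submonoid.powers f) *
      algebraMap A (Localization.Away f) (f ^ n) = algebraMap A (Localization.Away f) a := by
    rw [Localization.mk_eq_mk']
    exact IsLocalization.mk'_spec _ _ _
  have h2 := congrArg (awayToLaurent 𝒜 hf) h1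
  rw [map_mul, awayToLaurent_algebraMap, awayToLaurent_algebraMap, map_pow, toLaurent_self,
    LaurentPolynomial.T_pow, mul_one] at h2
  exact h2

/-- the unit `f / 1` of `S_f`. -/
noncomputable def unitF : (Localization.Away f)ˣ :=
  (IsLocalization.Away.algebraMap_isUnit (S := Localization.Away f) f).unit

theorem unitF_val : ((unitF (f := f) : (Localization.Away f)ˣ) : Localization.Away f) =
    algebraMap A (Localization.Away f) f := rfl

/-- `S_(f)[T, T⁻¹] → S_f`, `T ↦ f`. -/
noncomputable def laurentToAway : (Away 𝒜 f)[T;T⁻¹] →+* Localization.Away f :=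
  LaurentPolynomial.eval₂ (algebraMap (Away 𝒜 f) (Localization.Away f)) unitF

theorem laurentToAway_C (b : Away 𝒜 f) :
    laurentToAway 𝒜 (LaurentPolynomial.C b) = algebraMap (Away 𝒜 f) (Localization.Away f) b :=
  LaurentPolynomial.eval₂_C _ _ _

theorem laurentToAway_T (n : ℕ) :
    laurentToAway 𝒜 (LaurentPolynomial.T (n : ℤ)) =
      algebraMap A (Localization.Away f) f ^ n :=
  LaurentPolynomial.eval₂_T_n _ _ _

theorem awayToLaurent_val (b : Away 𝒜 f) :
    awayToLaurent 𝒜 hf b.val = LaurentPolynomial.C b := by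
  obtain ⟨n, a, ha, rfl⟩ := Away.mk_surjective 𝒜 hf b
  have ha' : a ∈ 𝒜 n := by rwa [smul_eq_mul, mul_one] at ha
  have h1 := awayToLaurent_mk 𝒜 hf a n
  rw [toLaurent_of_mem 𝒜 hf ha'] at h1
  rw [Away.val_mk]
  exact (LaurentPolynomial.isUnit_T (n : ℤ)).mul_left_injective h1

theorem awayToLaurent_laurentToAway (p : (Away 𝒜 f)[T;T⁻¹]) :
    awayToLaurent 𝒜 hf (laurentToAway 𝒜 p) = p := by
  have key : (awayToLaurent 𝒜 hf).comp (laurentToAway 𝒜) = RingHom.id _ := by
    apply IsLocalization.ringHom_ext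
      (Submonoid.powers (Polynomial.X : Polynomial (Away 𝒜 f)))
    apply Polynomial.ringHom_ext
    · intro b
      simp only [RingHom.comp_apply, RingHom.id_apply, LaurentPolynomial.algebraMap_eq_toLaurent,
        Polynomial.toLaurent_C]
      rw [laurentToAway_C, HomogeneousLocalization.algebraMap_apply, awayToLaurent_val]
    · simp only [RingHom.comp_apply, RingHom.id_apply, LaurentPolynomial.algebraMap_eq_toLaurent,
        Polynomial.toLaurent_X]
      have h1 : (LaurentPolynomial.T 1 : (Away 𝒜 f)[T;T⁻¹]) =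
          LaurentPolynomial.T ((1 : ℕ) : ℤ) := by rw [Nat.cast_one]
      rw [h1, laurentToAway_T, pow_one, awayToLaurent_algebraMap, toLaurent_self, Nat.cast_one]
  exact RingHom.congr_fun key p

theorem laurentToAway_toLaurent (a : A) :
    laurentToAway 𝒜 (toLaurent 𝒜 hf a) = algebraMap A (Localization.Away f) a := by
  induction a using DirectSum.Decomposition.inductionOn 𝒜 with
  | zero => simp
  | @homogeneous n a =>
    rw [toLaurent_of_mem 𝒜 hf a.2, map_mul, laurentToAway_C, laurentToAway_T,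
      HomogeneousLocalization.algebraMap_apply, Away.val_mk, ← map_pow, Localization.mk_eq_mk']
    exact IsLocalization.mk'_spec _ _ _
  | add a b ha hb => rw [map_add, map_add, map_add, ha, hb]

theorem laurentToAway_awayToLaurent (y : Localization.Away f) :
    laurentToAway 𝒜 (awayToLaurent 𝒜 hf y) = y := by
  have key : (laurentToAway 𝒜).comp (awayToLaurent 𝒜 hf) = RingHom.id _ := by
    apply IsLocalization.ringHom_ext (Submonoid.powers f)
    ext a
    simp only [RingHom.comp_apply, RingHom.id_apply]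
    rw [awayToLaurent_algebraMap, laurentToAway_toLaurent]
  exact RingHom.congr_fun key y

/-- `S_(f)[T, T⁻¹] ≃ S_f` for `f` of degree one. -/
noncomputable def laurentEquiv : (Away 𝒜 f)[T;T⁻¹] ≃+* Localization.Away f :=
  RingEquiv.ofRingHom (laurentToAway 𝒜 (f := f)) (awayToLaurent 𝒜 hf)
    (RingHom.ext fun y => laurentToAway_awayToLaurent 𝒜 hf y)
    (RingHom.ext fun p => awayToLaurent_laurentToAway 𝒜 hf p)

theorem laurentEquiv_C (b : Away 𝒜 f) :
    laurentEquiv 𝒜 hf (LaurentPolynomial.C b) =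
      algebraMap (Away 𝒜 f) (Localization.Away f) b :=
  laurentToAway_C 𝒜 b

include hf in
theorem finiteType_algebraMap :
    (algebraMap (Away 𝒜 f) (Localization.Away f)).FiniteType := by
  have h1 : algebraMap (Away 𝒜 f) (Localization.Away f) =
      (laurentEquiv 𝒜 hf).toRingHom.comp
        (algebraMap (Away 𝒜 f) (LaurentPolynomial (Away 𝒜 f))) := by
    ext b
    exact (laurentEquiv_C 𝒜 hf b).symm
  rw [h1]
  refine RingHom.FiniteType.comp
    (RingHom.FiniteType.of_surjective _ (laurentEquiv 𝒜 hf).surjective) ?_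
  rw [RingHom.finiteType_algebraMap]
  infer_instance

end Dehom

section Pushout

open CategoryTheory CategoryTheory.Limits
open scoped AlgebraMonoidAlgebra

variable {A σ : Type u} [CommRing A] [SetLike σ A] [AddSubgroupClass σ A]
  (𝒜 : ℕ → σ) [GradedRing 𝒜] {f : A} (hf : f ∈ 𝒜 1)

include hf in
theorem exists_isPushout_laurent (K : CommRingCat.{u}) (ψ : CommRingCat.of (Away 𝒜 f) ⟶ K) :
    ∃ β : CommRingCat.of (Localization.Away f) ⟶ CommRingCat.of (LaurentPolynomial K),
      IsPushout (CommRingCat.ofHom (algebraMap (Away 𝒜 f) (Localization.Away f))) ψ β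
        (CommRingCat.ofHom (algebraMap K (LaurentPolynomial K))) := by
  let _ : Algebra (Away 𝒜 f) K := ψ.hom.toAlgebra
  have h1 := CommRingCat.isPushout_of_isPushout (Away 𝒜 f) (LaurentPolynomial (Away 𝒜 f)) K
    (LaurentPolynomial K)
  let e : CommRingCat.of (LaurentPolynomial (Away 𝒜 f)) ≅
      CommRingCat.of (Localization.Away f) := (laurentEquiv 𝒜 hf).toCommRingCatIso
  refine ⟨e.inv ≫ CommRingCat.ofHom
    (algebraMap (LaurentPolynomial (Away 𝒜 f)) (LaurentPolynomial K)), ?_⟩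
  refine h1.of_iso (Iso.refl _) e (Iso.refl _) (Iso.refl _) ?_ ?_ ?_ ?_
  · ext b
    exact laurentEquiv_C 𝒜 hf b
  · rfl
  · simp
  · simp

end Pushout

end Groth.Agent.Lib.Helper27AwayLaurent
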