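import Mathlib
import Groth.Prelude.Def_BMCoh3

set_option autoImplicit false
universe u
open CategoryTheory AlgebraicGeometry Opposite
open BMCoh

namespace Groth.Agent.Lib.Helper27BMCoh

variable {V : ObjectProperty Scheme.{u}} [BMCoh.IsConstructible V] {R : Type u} [CommRing R]
  {A : BMCoh.Coefs R}

lemma relCodim_eq_zero {X Y : Scheme.{u}} (h : WeilCoh.dim X = WeilCoh.dim Y) :
    relCodim X Y = 0 := by
  unfold relCodim; rw [h]; ring

omit [IsConstructible V] in
/-- Push then pull along a morphism of objects which is a proper mono is the identity. -/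
lemma push_pull_self (T : PreTheory V R A) {Y W : Obj V} (iY : Y ⟶ W) [IsProper iY.hom]
    (M : A.Cat) (i n : ℤ)
    (hi : i = i + 2 * relCodim Y.scheme W.scheme) (hn : n = n + relCodim Y.scheme W.scheme) :
    T.push iY.hom M i n i n hi hn ≫ T.pull iY M i n = 𝟙 _ := by
  have hpb : IsPullback (𝟙 Y : Y ⟶ Y).hom (𝟙 Y.scheme) iY.hom iY.hom := by
    have : Mono iY.hom := inferInstance
    exact (IsKernelPair.id_of_mono iY.hom)
  have hc : relCodim Y.scheme Y.scheme = 0 := relCodim_eq_zero rfl
  have := T.push_pull iY.hom (𝟙 Y.scheme) iY (𝟙 Y) hpb M i n i n hi hn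
    (by rw [hc]; ring) (by rw [hc]; ring)
  rw [this, T.push_id]
  simp

omit [IsConstructible V] in
/-- Clopen decomposition: both parts are morphisms of objects. -/
theorem pull_prod_bijective (T : PreTheory V R A) {X Y W : Obj V} (iX : X ⟶ W) (iY : Y ⟶ W)
    (h : Set.range iX.hom = (Set.range iY.hom)ᶜ) (M : A.Cat) (i n : ℤ) :
    Function.Bijective (fun a : T.gp W M i n => ((T.pull iX M i n).hom a, (T.pull iY M i n).hom a)) := by
  have h' : Set.range iY.hom = (Set.range iX.hom)ᶜ := by rw [h, compl_compl]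
  have hclY : IsClosedImmersion iY.hom :=
    IsClosedImmersion.of_isPreimmersion iY.hom (by
      rw [h']; exact (iX.hom.isOpenEmbedding.isOpen_range).isClosed_compl)
  have hclX : IsClosedImmersion iX.hom :=
    IsClosedImmersion.of_isPreimmersion iX.hom (by
      rw [h]; exact (iY.hom.isOpenEmbedding.isOpen_range).isClosed_compl)
  let DX : Decomp W := ⟨Y, X, iY.hom, hclY, iX, h⟩
  let DY : Decomp W := ⟨X, Y, iX.hom, hclX, iY, h'⟩
  have hcY : relCodim Y.scheme W.scheme = 0 := relCodim_eq_zero iY.dim_eq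
  have hcX : relCodim X.scheme W.scheme = 0 := relCodim_eq_zero iX.dim_eq
  obtain ⟨k, rfl⟩ : ∃ k, i = k + 1 := ⟨i - 1, by ring⟩
  have hiY : k + 1 = k + 1 + 2 * relCodim Y.scheme W.scheme := by rw [hcY]; ring
  have hnY : n = n + relCodim Y.scheme W.scheme := by rw [hcY]; ring
  have hiX : k + 1 = k + 1 + 2 * relCodim X.scheme W.scheme := by rw [hcX]; ring
  have hnX : n = n + relCodim X.scheme W.scheme := by rw [hcX]; ring
  have eY := T.exact_push_pull DX M k n (k + 1) n hiY hnY
  have eX := T.exact_push_pull DY M k n (k + 1) n hiX hnX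
  have sY := push_pull_self T iY M (k + 1) n hiY hnY
  have sX := push_pull_self T iX M (k + 1) n hiX hnX
  have sY' : ∀ b, (T.pull iY M (k + 1) n).hom ((T.push iY.hom M (k + 1) n (k + 1) n hiY hnY).hom b) = b := by
    intro b
    have := congrArg (fun φ => φ.hom b) sY
    simpa using this
  have sX' : ∀ b, (T.pull iX M (k + 1) n).hom ((T.push iX.hom M (k + 1) n (k + 1) n hiX hnX).hom b) = b := by
    intro b
    have := congrArg (fun φ => φ.hom b) sX
    simpa using this
  have zYX : ∀ b, (T.pull iX M (k + 1) n).hom ((T.push iY.hom M (k + 1) n (k + 1) n hiY hnY).hom b) = 0 :=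
    fun b => eY.apply_apply_eq_zero b
  have zXY : ∀ b, (T.pull iY M (k + 1) n).hom ((T.push iX.hom M (k + 1) n (k + 1) n hiX hnX).hom b) = 0 :=
    fun b => eX.apply_apply_eq_zero b
  constructor
  · intro a a' haa
    simp only [Prod.mk.injEq] at haa
    obtain ⟨h1, h2⟩ := haa
    have hd1 : (T.pull iX M (k + 1) n).hom (a - a') = 0 := by rw [map_sub, h1, sub_self]
    have hd2 : (T.pull iY M (k + 1) n).hom (a - a') = 0 := by rw [map_sub, h2, sub_self]
    obtain ⟨b, hb⟩ := (eY (a - a')).mp hd1
    have : b = 0 := by rw [← sY' b, hb, hd2]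
    rw [this, map_zero] at hb
    exact sub_eq_zero.mp hb.symm
  · rintro ⟨aX, aY⟩
    refine ⟨(T.push iX.hom M (k + 1) n (k + 1) n hiX hnX).hom aX +
      (T.push iY.hom M (k + 1) n (k + 1) n hiY hnY).hom aY, ?_⟩
    simp only [map_add, sX', sY', zYX, zXY, add_zero, zero_add]

end Groth.Agent.Lib.Helper27BMCoh
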