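import Mathlib
import Groth.Prelude.Def_BMCoh3
import Groth.Agent.Lib.Helper27BMCohDim

set_option autoImplicit false
universe u
open CategoryTheory AlgebraicGeometry Opposite TopologicalSpace
open BMCoh

namespace Groth.Agent.Lib.Helper27BMCoh

variable {V : ObjectProperty Scheme.{u}} [IsConstructible V]

lemma finDim (X : Obj V) : topologicalKrullDim X.scheme < ⊤ := IsConstructible.finiteDim X.mem

lemma pdim_le_dim (X : Obj V) (x : X.scheme) : WeilCoh.pdim X.scheme x ≤ WeilCoh.dim X.scheme :=
  natDim_le_of_isInducing Topology.IsInducing.subtypeVal (finDim X)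

lemma pdim_mono (X : Obj V) {x η : X.scheme} (h : x ∈ closure ({η} : Set X.scheme)) :
    WeilCoh.pdim X.scheme x ≤ WeilCoh.pdim X.scheme η :=
  natDim_closure_le (finDim X) h

lemma pdim_lt (X : Obj V) {x η : X.scheme} (h : x ∈ closure ({η} : Set X.scheme)) (hne : x ≠ η) :
    WeilCoh.pdim X.scheme x < WeilCoh.pdim X.scheme η := by
  refine natDim_closure_lt (finDim X) h ?_
  intro h'
  apply hne
  have h1 : η ⤳ x := specializes_iff_mem_closure.mpr h
  have h2 : x ⤳ η := specializes_iff_mem_closure.mpr h'
  exact (h2.antisymm h1).eq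

lemma codim_le_of_mem_closure (X : Obj V) {x η : X.scheme}
    (h : x ∈ closure ({η} : Set X.scheme)) :
    WeilCoh.codim X.scheme η ≤ WeilCoh.codim X.scheme x := by
  have := pdim_mono X h
  unfold WeilCoh.codim
  omega

lemma codim_lt_of_mem_closure (X : Obj V) {x η : X.scheme}
    (h : x ∈ closure ({η} : Set X.scheme)) (hne : x ≠ η) :
    WeilCoh.codim X.scheme η < WeilCoh.codim X.scheme x := by
  have h1 := pdim_lt X h hne
  have h2 := pdim_le_dim X η
  unfold WeilCoh.codim
  omega

lemma range_ptSubι (X : Obj V) (x : X.scheme) :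
    Set.range (X.ptSubι x) = closure ({x} : Set X.scheme) := by
  rw [Scheme.IdealSheafData.range_subschemeι, Scheme.IdealSheafData.coe_support_vanishingIdeal]
  rfl

/-- The underlying space of the reduced closure of `x` is homeomorphic to `closure {x}`. -/
noncomputable def ptSubHomeo (X : Obj V) (x : X.scheme) :
    (X.ptSub x).scheme ≃ₜ ↥(closure ({x} : Set X.scheme)) :=
  ((X.ptSubι x).isClosedEmbedding.isEmbedding.toHomeomorph).trans
    (Homeomorph.setCongr (range_ptSubι X x))

lemma dim_ptSub (X : Obj V) (x : X.scheme) :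
    WeilCoh.dim (X.ptSub x).scheme = WeilCoh.pdim X.scheme x :=
  natDim_eq_of_homeomorph (ptSubHomeo X x)

instance irreducibleSpace_ptSub (X : Obj V) (x : X.scheme) :
    IrreducibleSpace (X.ptSub x).scheme := by
  have : IrreducibleSpace ↥(closure ({x} : Set X.scheme)) :=
    (isIrreducible_iff_irreducibleSpace).mp isIrreducible_singleton.closure
  exact (ptSubHomeo X x).irreducibleSpace_iff.mpr this

lemma dim_ptSub_open (X : Obj V) (x : X.scheme) (W : (X.ptSub x).scheme.Opens)
    (hne : (W : Set (X.ptSub x).scheme).Nonempty) :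
    WeilCoh.dim (W : Scheme.{u}) = WeilCoh.dim (X.ptSub x).scheme :=
  IsConstructible.dim_open (X.ptSub x).mem inferInstance W hne

/-- An open of an object has dimension at most that of the object. -/
lemma dim_open_le (X : Obj V) (U : X.scheme.Opens) :
    WeilCoh.dim (U : Scheme.{u}) ≤ WeilCoh.dim X.scheme :=
  natDim_le_of_isInducing (f := (Subtype.val : ↥U → X.scheme)) Topology.IsInducing.subtypeVal (finDim X)

/-- The point of `ptSub x` over `x`. -/
lemma exists_ptSub_pt (X : Obj V) (x : X.scheme) : ∃ z : (X.ptSub x).scheme, X.ptSubι x z = x := by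
  have : x ∈ Set.range (X.ptSubι x) := by rw [range_ptSubι]; exact subset_closure rfl
  exact this

/-- (G1) An open containing all points of codimension `0` has the dimension of the object. -/
lemma dim_eq_of_containsF0 (X : Obj V) (U : X.scheme.Opens)
    (hU : ∀ y : X.scheme, WeilCoh.codim X.scheme y = 0 → y ∈ U) :
    WeilCoh.dim (U : Scheme.{u}) = WeilCoh.dim X.scheme := by
  refine le_antisymm (dim_open_le X U) ?_
  rcases isEmpty_or_nonempty X.scheme with hE | hN
  · have : WeilCoh.dim X.scheme = 0 := natDim_of_isEmpty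
    rw [this]; exact Nat.zero_le _
  obtain ⟨η, hη⟩ := exists_natDim_closure_eq (T := X.scheme) (finDim X)
  have hη' : WeilCoh.pdim X.scheme η = WeilCoh.dim X.scheme := hη
  have hcod : WeilCoh.codim X.scheme η = 0 := by
    unfold WeilCoh.codim; omega
  have hηU : η ∈ U := hU η hcod
  obtain ⟨z, hz⟩ := exists_ptSub_pt X η
  let W : (X.ptSub η).scheme.Opens := (X.ptSubι η) ⁻¹ᵁ U
  have hzW : z ∈ W := by
    show X.ptSubι η z ∈ U
    rw [hz]; exact hηU
  have h1 : WeilCoh.dim (W : Scheme.{u}) = WeilCoh.dim (X.ptSub η).scheme :=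
    dim_ptSub_open X η W ⟨z, hzW⟩
  rw [dim_ptSub, hη'] at h1
  rw [← h1]
  -- W → U inducing
  have hind : Topology.IsInducing (fun w : ↥W => (⟨X.ptSubι η w.1, w.2⟩ : ↥U)) := by
    have h2 : Topology.IsInducing (X.ptSubι η) := (X.ptSubι η).isClosedEmbedding.isInducing
    have h3 : Topology.IsInducing (fun w : ↥W => X.ptSubι η w.1) :=
      h2.comp Topology.IsInducing.subtypeVal
    exact Topology.IsInducing.of_comp (continuous_induced_rng.mpr h3.continuous)
      continuous_subtype_val h3
  exact natDim_le_of_isInducing hind (krullDim_subtype_lt_top (finDim X) _)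

end Groth.Agent.Lib.Helper27BMCoh
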