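import Mathlib
import Groth.Prelude.Def_BMCoh3
import Groth.Agent.Lib.Helper27BMCohGeom

set_option autoImplicit false
universe u
open CategoryTheory CategoryTheory.Limits AlgebraicGeometry Opposite TopologicalSpace
open BMCoh

namespace Groth.Agent.Lib.Helper27BMCoh

variable {V : ObjectProperty Scheme.{u}} [IsConstructible V]
variable {R : Type u} [CommRing R] {A : Coefs R} (T : PreTheory V R A)
variable (X : Obj V) (P : X.scheme.Opens → Prop) (i n : ℤ) (M : A.Cat)

/-- The diagram whose colimit is `T.ocolim X P i n`. -/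
noncomputable abbrev oDiag : (Idx X P)ᵒᵖ ⥤ (A.Cat ⥤ ModuleCat.{u} R) := (idxDiag X P).op ⋙ T.H i n

/-- The evaluated colimit cocone. -/
noncomputable def oCocone : Cocone (oDiag T X P i n ⋙ (evaluation A.Cat (ModuleCat.{u} R)).obj M) :=
  ((evaluation A.Cat (ModuleCat.{u} R)).obj M).mapCocone (colimit.cocone (oDiag T X P i n))

noncomputable def oIsColimit : IsColimit (oCocone T X P i n M) :=
  isColimitOfPreserves _ (colimit.isColimit _)

lemma oCocone_ι_app (U : Idx X P) :
    (oCocone T X P i n M).ι.app (op U) = (T.ocolimι X P i n U).app M := rfl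

lemma oCocone_pt : (oCocone T X P i n M).pt = (T.ocolim X P i n).obj M := rfl

/-- Maps out of the colimit group are determined on the pieces. -/
theorem ocolim_hom_ext {N : ModuleCat.{u} R} (φ ψ : (T.ocolim X P i n).obj M ⟶ N)
    (h : ∀ U : Idx X P, (T.ocolimι X P i n U).app M ≫ φ = (T.ocolimι X P i n U).app M ≫ ψ) :
    φ = ψ :=
  (oIsColimit T X P i n M).hom_ext (fun U => h U.unop)

/-- Restriction to a smaller index followed by the canonical map is the canonical map. -/
theorem ocolimι_resLE (U U' : Idx X P) (hle : U'.1 ≤ U.1) :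
    (T.H i n).map (X.resLE hle (U'.2.2.trans U.2.2.symm)).op ≫ T.ocolimι X P i n U' =
      T.ocolimι X P i n U := by
  have hUU' : U' ≤ U := hle
  exact colimit.w (oDiag T X P i n) (homOfLE hUU').op

theorem ocolimι_resLE_apply (U U' : Idx X P) (hle : U'.1 ≤ U.1) (b : T.gp (X.res U.1) M i n) :
    ((T.ocolimι X P i n U').app M).hom
      ((T.pull (X.resLE hle (U'.2.2.trans U.2.2.symm)) M i n).hom b) =
      ((T.ocolimι X P i n U).app M).hom b := by
  have := congrArg (fun φ => (φ.app M).hom b) (ocolimι_resLE T X P i n U U' hle)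
  simpa using this

theorem ocolimι_ocolimMap {Q : X.scheme.Opens → Prop} (h : ∀ U, P U → Q U) (U : Idx X P) :
    T.ocolimι X P i n U ≫ T.ocolimMap X h i n =
      T.ocolimι X Q i n ⟨U.1, h _ U.2.1, U.2.2⟩ := by
  unfold PreTheory.ocolimι PreTheory.ocolimMap
  exact colimit.ι_pre ((idxDiag X Q).op ⋙ T.H i n) (idxIncl X h).op (op U)

theorem ocolimι_ocolimMap_apply {Q : X.scheme.Opens → Prop} (h : ∀ U, P U → Q U) (U : Idx X P)
    (b : T.gp (X.res U.1) M i n) :
    ((T.ocolimMap X h i n).app M).hom (((T.ocolimι X P i n U).app M).hom b) =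
      ((T.ocolimι X Q i n ⟨U.1, h _ U.2.1, U.2.2⟩).app M).hom b := by
  have := congrArg (fun φ => (φ.app M).hom b) (ocolimι_ocolimMap T X P i n h U)
  simpa using this

section Filtered

variable [IsFiltered (Idx X P)ᵒᵖ]

theorem ocolim_exists_rep (a : (T.ocolim X P i n).obj M) :
    ∃ (U : Idx X P) (b : T.gp (X.res U.1) M i n), ((T.ocolimι X P i n U).app M).hom b = a := by
  obtain ⟨U, b, hb⟩ := Concrete.isColimit_exists_rep _ (oIsColimit T X P i n M) a
  exact ⟨U.unop, b, hb⟩

theorem ocolim_rep_eq_zero (U : Idx X P) (b : T.gp (X.res U.1) M i n)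
    (h : ((T.ocolimι X P i n U).app M).hom b = 0) :
    ∃ (U' : Idx X P) (hle : U'.1 ≤ U.1),
      (T.pull (X.resLE hle (U'.2.2.trans U.2.2.symm)) M i n).hom b = 0 := by
  have h' : (oCocone T X P i n M).ι.app (op U) b = (oCocone T X P i n M).ι.app (op U) 0 := by
    rw [oCocone_ι_app]
    show ((T.ocolimι X P i n U).app M).hom b = ((T.ocolimι X P i n U).app M).hom 0
    rw [h, map_zero]
  obtain ⟨k, f, g, hfg⟩ := (Concrete.isColimit_rep_eq_iff_exists _ (oIsColimit T X P i n M) b 0).mp h'
  refine ⟨k.unop, leOfHom f.unop, ?_⟩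
  have h0 : ((oDiag T X P i n ⋙ (evaluation A.Cat (ModuleCat.{u} R)).obj M).map g) 0 = 0 :=
    map_zero ((oDiag T X P i n ⋙ (evaluation A.Cat (ModuleCat.{u} R)).obj M).map g).hom
  rw [h0] at hfg
  exact hfg

end Filtered

end Groth.Agent.Lib.Helper27BMCoh
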