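import Mathlib
import Groth.Prelude.Def_BMCoh3
import Groth.Agent.Lib.Helper27BMCohColim

set_option autoImplicit false
universe u
open CategoryTheory CategoryTheory.Limits AlgebraicGeometry Opposite TopologicalSpace
open BMCoh

namespace Groth.Agent.Lib.Helper27BMCoh

variable {V : ObjectProperty Scheme.{u}} [IsConstructible V]

omit [IsConstructible V] in
lemma isFiltered_idx_op (X : Obj V) (P : X.scheme.Opens → Prop) (hne : Nonempty (Idx X P))
    (hinf : ∀ U U' : Idx X P, ∃ U'' : Idx X P, U''.1 ≤ U.1 ∧ U''.1 ≤ U'.1) :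
    IsFiltered (Idx X P)ᵒᵖ := by
  have : IsDirected (Idx X P) (· ≥ ·) := ⟨fun U U' => by
    obtain ⟨U'', h1, h2⟩ := hinf U U'
    exact ⟨U'', h1, h2⟩⟩
  have : IsCofiltered (Idx X P) := isCofiltered_of_directed_ge_nonempty _
  infer_instance

/-- An open containing `F_jX` has the dimension of `X`. -/
lemma dim_eq_of_containsFj (X : Obj V) (j : ℕ) (U : X.scheme.Opens) (hU : ContainsFj X j U) :
    WeilCoh.dim (U : Scheme.{u}) = WeilCoh.dim X.scheme :=
  dim_eq_of_containsF0 X U (fun y hy => hU y (by rw [hy]; exact Nat.zero_le _))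

/-- Make an index of the `F_j` family from an open containing `F_jX`. -/
abbrev mkFj (X : Obj V) (j : ℕ) (U : X.scheme.Opens) (hU : ContainsFj X j U) :
    Idx X (ContainsFj X j) := ⟨U, hU, dim_eq_of_containsFj X j U hU⟩

instance isFiltered_fj (X : Obj V) (j : ℕ) : IsFiltered (Idx X (ContainsFj X j))ᵒᵖ := by
  refine isFiltered_idx_op X _ ⟨mkFj X j ⊤ (fun _ _ => trivial)⟩ ?_
  intro U U'
  exact ⟨mkFj X j (U.1 ⊓ U'.1) (fun y hy => ⟨U.2.1 y hy, U'.2.1 y hy⟩), inf_le_left, inf_le_right⟩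

/-- Make an index of the point family from a nonempty open of the reduced closure. -/
abbrev mkPt (X : Obj V) (x : X.scheme) (W : (X.ptSub x).scheme.Opens)
    (hW : (W : Set (X.ptSub x).scheme).Nonempty) : ptIdx X x :=
  ⟨W, hW, dim_ptSub_open X x W hW⟩

instance isFiltered_pt (X : Obj V) (x : X.scheme) : IsFiltered (ptIdx X x)ᵒᵖ := by
  obtain ⟨z, hz⟩ := exists_ptSub_pt X x
  refine isFiltered_idx_op (X.ptSub x) _ ⟨mkPt X x ⊤ ⟨z, trivial⟩⟩ ?_
  intro U U'
  have hne : ((U.1 ⊓ U'.1 : (X.ptSub x).scheme.Opens) : Set (X.ptSub x).scheme).Nonempty :=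
    nonempty_preirreducible_inter U.1.2 U'.1.2 U.2.1 U'.2.1
  exact ⟨mkPt X x (U.1 ⊓ U'.1) hne, inf_le_left, inf_le_right⟩

end Groth.Agent.Lib.Helper27BMCoh
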