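import Mathlib
import Groth.Prelude.Def_BMCoh3
import Groth.Agent.Lib.Helper27BMCohIdx

set_option autoImplicit false
universe u
open CategoryTheory CategoryTheory.Limits AlgebraicGeometry Opposite TopologicalSpace
open BMCoh

namespace Groth.Agent.Lib.Helper27BMCoh

variable {V : ObjectProperty Scheme.{u}} [IsConstructible V]

/-- A piece of the closure of `x`: opens `U ⊇ U₀` of `X` and `W` of the reduced closure of `x`
with `W = closure{x} ∩ U` and `U₀ = U \ closure{x}`. -/
structure Piece (X : Obj V) (x : X.scheme) where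
  W : (X.ptSub x).scheme.Opens
  U : X.scheme.Opens
  U₀ : X.scheme.Opens
  hW : ∀ z, z ∈ W ↔ X.ptSubι x z ∈ U
  hU₀ : ∀ y, y ∈ U₀ ↔ y ∈ U ∧ y ∉ closure ({x} : Set X.scheme)

omit [IsConstructible V] in
lemma mem_of_ι {X : Scheme.{u}} {U : X.Opens} (u : (U : Scheme.{u})) : U.ι u ∈ U := by
  have : U.ι u ∈ Set.range U.ι := ⟨u, rfl⟩
  rwa [Scheme.Opens.range_ι] at this

omit [IsConstructible V] in
lemma exists_of_mem {X : Scheme.{u}} {U : X.Opens} {y : X} (hy : y ∈ U) :
    ∃ u : (U : Scheme.{u}), U.ι u = y := by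
  have : y ∈ Set.range U.ι := by rw [Scheme.Opens.range_ι]; exact hy
  exact this

namespace Piece

variable {X : Obj V} {x : X.scheme} (p : Piece X x)

lemma U₀_le : p.U₀ ≤ p.U := fun y hy => ((p.hU₀ y).mp hy).1

lemma range_subset : Set.range (p.W.ι ≫ X.ptSubι x) ⊆ Set.range p.U.ι := by
  rintro _ ⟨w, rfl⟩
  rw [Scheme.Opens.range_ι]
  rw [Scheme.Hom.comp_apply]
  exact (p.hW _).mp w.2

/-- The closed immersion `W → U`. -/
noncomputable def f : (p.W : Scheme.{u}) ⟶ (p.U : Scheme.{u}) :=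
  IsOpenImmersion.lift p.U.ι (p.W.ι ≫ X.ptSubι x) p.range_subset

@[reassoc]
lemma f_fac : p.f ≫ p.U.ι = p.W.ι ≫ X.ptSubι x := IsOpenImmersion.lift_fac _ _ _

lemma f_apply (w : (p.W : Scheme.{u})) : p.U.ι (p.f w) = X.ptSubι x (p.W.ι w) := by
  have := congr($(p.f_fac) w)
  rwa [Scheme.Hom.comp_apply, Scheme.Hom.comp_apply] at this

lemma range_f : Set.range p.f = p.U.ι ⁻¹' closure ({x} : Set X.scheme) := by
  ext u
  constructor
  · rintro ⟨w, rfl⟩
    rw [Set.mem_preimage, p.f_apply, ← range_ptSubι]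
    exact ⟨_, rfl⟩
  · intro hu
    have hu' : p.U.ι u ∈ Set.range (X.ptSubι x) := by rw [range_ptSubι]; exact hu
    obtain ⟨z, hz⟩ := hu'
    have hzW : z ∈ p.W := (p.hW z).mpr (by rw [hz]; exact mem_of_ι u)
    obtain ⟨w, rfl⟩ := exists_of_mem hzW
    refine ⟨w, ?_⟩
    apply p.U.ι.isOpenEmbedding.injective
    rw [p.f_apply]
    exact hz

instance : IsClosedImmersion p.f := by
  have h1 : IsPreimmersion (p.f ≫ p.U.ι) := by
    rw [p.f_fac]; infer_instance
  have h2 : IsPreimmersion p.f := IsPreimmersion.of_comp p.f p.U.ι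
  refine IsClosedImmersion.of_isPreimmersion p.f ?_
  rw [p.range_f]
  exact isClosed_closure.preimage p.U.ι.continuous

/-- The decomposition of `X.res U` into the closed piece `W` and the open part `U₀`. -/
@[reducible] noncomputable def decomp (hdim : WeilCoh.dim (p.U₀ : Scheme.{u}) = WeilCoh.dim (p.U : Scheme.{u})) :
    Decomp (X.res p.U) where
  Z := (X.ptSub x).res p.W
  U := X.res p.U₀
  i := p.f
  closedImm := inferInstance
  j := X.resLE p.U₀_le hdim
  range_eq := by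
    rw [p.range_f]
    ext u
    simp only [Set.mem_range, Set.mem_compl_iff, Set.mem_preimage]
    have hcomp : ∀ v : (p.U₀ : Scheme.{u}), p.U.ι ((X.scheme.homOfLE p.U₀_le) v) = p.U₀.ι v := by
      intro v
      have := congr($(X.scheme.homOfLE_ι p.U₀_le) v)
      rwa [Scheme.Hom.comp_apply] at this
    constructor
    · rintro ⟨v, rfl⟩
      show p.U.ι ((X.scheme.homOfLE p.U₀_le) v) ∉ closure ({x} : Set X.scheme)
      rw [hcomp]
      exact ((p.hU₀ _).mp (mem_of_ι v)).2
    · intro hu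
      have hu0 : p.U.ι u ∈ p.U₀ := (p.hU₀ _).mpr ⟨mem_of_ι u, hu⟩
      obtain ⟨v, hv⟩ := exists_of_mem hu0
      refine ⟨v, ?_⟩
      apply p.U.ι.isOpenEmbedding.injective
      show p.U.ι ((X.scheme.homOfLE p.U₀_le) v) = p.U.ι u
      rw [hcomp, hv]

end Piece

end Groth.Agent.Lib.Helper27BMCoh
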