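import Mathlib
import Groth.Prelude.Def_BMCoh3
import Groth.Agent.Lib.Helper27BMCohPiece

set_option autoImplicit false
universe u
open CategoryTheory CategoryTheory.Limits AlgebraicGeometry Opposite TopologicalSpace
open BMCoh

namespace Groth.Agent.Lib.Helper27BMCoh

variable {V : ObjectProperty Scheme.{u}} [IsConstructible V]

/-- The complement of the closure of a point, as an open. -/
def clCompl (X : Obj V) (x : X.scheme) : X.scheme.Opens :=
  ⟨(closure ({x} : Set X.scheme))ᶜ, isClosed_closure.isOpen_compl⟩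

omit [IsConstructible V] in
lemma mem_clCompl {X : Obj V} {x y : X.scheme} :
    y ∈ clCompl X x ↔ y ∉ closure ({x} : Set X.scheme) := Iff.rfl

/-- The open `X \ ι(Z \ W)` for an open `W` of the reduced closure `Z` of `x`. -/
noncomputable def openCompl (X : Obj V) (x : X.scheme) (W : (X.ptSub x).scheme.Opens) : X.scheme.Opens :=
  ⟨(X.ptSubι x '' (W : Set (X.ptSub x).scheme)ᶜ)ᶜ,
    ((X.ptSubι x).isClosedEmbedding.isClosedMap _ W.2.isClosed_compl).isOpen_compl⟩

lemma ptSubι_mem_openCompl {X : Obj V} {x : X.scheme} {W : (X.ptSub x).scheme.Opens}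
    (z : (X.ptSub x).scheme) : X.ptSubι x z ∈ openCompl X x W ↔ z ∈ W := by
  show X.ptSubι x z ∉ _ ↔ _
  constructor
  · intro h
    by_contra hz
    exact h ⟨z, hz, rfl⟩
  · rintro hz ⟨z', hz', heq⟩
    have := (X.ptSubι x).isClosedEmbedding.injective heq
    exact hz' (this ▸ hz)

lemma mem_openCompl_of_not_mem_closure {X : Obj V} {x : X.scheme} {W : (X.ptSub x).scheme.Opens}
    {y : X.scheme} (hy : y ∉ closure ({x} : Set X.scheme)) : y ∈ openCompl X x W := by
  rintro ⟨z, _, rfl⟩
  apply hy
  rw [← range_ptSubι]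
  exact ⟨z, rfl⟩

/-- The point of `ptSub x` over `x` lies in every nonempty open. -/
lemma generic_mem_of_nonempty {X : Obj V} {x : X.scheme} (W : (X.ptSub x).scheme.Opens)
    (hW : (W : Set (X.ptSub x).scheme).Nonempty) (z : (X.ptSub x).scheme)
    (hz : X.ptSubι x z = x) : z ∈ W := by
  obtain ⟨w, hw⟩ := hW
  have hind : Topology.IsInducing (X.ptSubι x) := (X.ptSubι x).isClosedEmbedding.isInducing
  have hwcl : w ∈ closure ({z} : Set (X.ptSub x).scheme) := by
    rw [hind.closure_eq_preimage_closure_image, Set.image_singleton, hz, Set.mem_preimage,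
      ← range_ptSubι]
    exact ⟨w, rfl⟩
  obtain ⟨z', hz'W, hz'⟩ := mem_closure_iff.mp hwcl W W.2 hw
  rw [Set.mem_singleton_iff] at hz'
  exact hz' ▸ hz'W

lemma x_mem_of_nonempty {X : Obj V} {x : X.scheme} (W : (X.ptSub x).scheme.Opens)
    (hW : (W : Set (X.ptSub x).scheme).Nonempty) (U : X.scheme.Opens)
    (h : ∀ z, z ∈ W → X.ptSubι x z ∈ U) : x ∈ U := by
  obtain ⟨z, hz⟩ := exists_ptSub_pt X x
  exact hz ▸ h z (generic_mem_of_nonempty W hW z hz)

/-- `openCompl W` contains `F_kX` where `k = codim x`, if `W` is nonempty. -/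
lemma containsFj_openCompl {X : Obj V} {x : X.scheme} (W : (X.ptSub x).scheme.Opens)
    (hW : (W : Set (X.ptSub x).scheme).Nonempty) {k : ℕ} (hk : WeilCoh.codim X.scheme x = k) :
    ContainsFj X k (openCompl X x W) := by
  intro y hy
  rintro ⟨z, hzW, rfl⟩
  have hcl : X.ptSubι x z ∈ closure ({x} : Set X.scheme) := by
    rw [← range_ptSubι]; exact ⟨z, rfl⟩
  by_cases hne : X.ptSubι x z = x
  · exact hzW (generic_mem_of_nonempty W hW z hne)
  · have := codim_lt_of_mem_closure X hcl hne
    omega

/-- The complement of the closure of `x` contains `F_jX` if `codim x = j + 1`. -/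
lemma containsFj_clCompl {X : Obj V} {x : X.scheme} {j : ℕ}
    (hk : WeilCoh.codim X.scheme x = j + 1) : ContainsFj X j (clCompl X x) := by
  intro y hy hcl
  have := codim_le_of_mem_closure X hcl
  omega

namespace Piece

variable {X : Obj V} {x : X.scheme}

/-- The piece cut out by an open `U` of `X`. -/
@[reducible] noncomputable def ofOpen (U : X.scheme.Opens) : Piece X x where
  W := X.ptSubι x ⁻¹ᵁ U
  U := U
  U₀ := U ⊓ clCompl X x
  hW _ := Iff.rfl
  hU₀ _ := Iff.rfl

/-- The piece cut out by an open `U` of `X` with a prescribed open part. -/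
@[reducible] noncomputable def ofOpen' (U U₀ : X.scheme.Opens)
    (h : ∀ y, y ∈ U₀ ↔ y ∈ U ∧ y ∉ closure ({x} : Set X.scheme)) : Piece X x where
  W := X.ptSubι x ⁻¹ᵁ U
  U := U
  U₀ := U₀
  hW _ := Iff.rfl
  hU₀ := h

/-- The piece with prescribed closed part `W`, inside `U`. -/
@[reducible] noncomputable def ofW (W : (X.ptSub x).scheme.Opens) (U : X.scheme.Opens)
    (h : ∀ z, z ∈ W → X.ptSubι x z ∈ U) : Piece X x where
  W := W
  U := U ⊓ openCompl X x W
  U₀ := (U ⊓ openCompl X x W) ⊓ clCompl X x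
  hW z := by
    constructor
    · intro hz
      exact ⟨h z hz, (ptSubι_mem_openCompl z).mpr hz⟩
    · intro hz
      exact (ptSubι_mem_openCompl z).mp hz.2
  hU₀ _ := Iff.rfl

end Piece

/-- The relative codimension of a nonempty piece of the closure of `x` in an open of full
dimension is the codimension of `x`. -/
lemma relCodim_piece {X : Obj V} {x : X.scheme} (W : (X.ptSub x).scheme.Opens)
    (hW : (W : Set (X.ptSub x).scheme).Nonempty) (U : X.scheme.Opens)
    (hU : WeilCoh.dim (U : Scheme.{u}) = WeilCoh.dim X.scheme) :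
    relCodim (W : Scheme.{u}) (U : Scheme.{u}) = (WeilCoh.codim X.scheme x : ℤ) := by
  unfold relCodim
  rw [hU, dim_ptSub_open X x W hW, dim_ptSub]
  unfold WeilCoh.codim
  have := pdim_le_dim X x
  omega

end Groth.Agent.Lib.Helper27BMCoh
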