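import Mathlib
import Groth.Prelude.Def_BMCoh3
import Groth.Agent.Lib.Helper27BMCohPiece2

set_option autoImplicit false
universe u
open CategoryTheory CategoryTheory.Limits AlgebraicGeometry Opposite TopologicalSpace
open BMCoh

namespace Groth.Agent.Lib.Helper27BMCoh

variable {V : ObjectProperty Scheme.{u}} [IsConstructible V]
variable {R : Type u} [CommRing R] {A : Coefs R} (T : PreTheory V R A)

/-- The defining property of push-forward data, for a piece. -/
theorem pushData_cpt_piece {X : Obj V} {j : ℕ} (P : T.PushData X j) (x : X.cdPt j) (M : A.Cat)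
    (i n i' n' : ℤ) (hi : i' = i + 2 * (j : ℤ)) (hn : n' = n + (j : ℤ))
    (p : Piece X x.1) (hW : (p.W : Set (X.ptSub x.1).scheme).Nonempty)
    (hU : ContainsFj X j p.U)
    (hi' : i' = i + 2 * relCodim (p.W : Scheme.{u}) (p.U : Scheme.{u}))
    (hn' : n' = n + relCodim (p.W : Scheme.{u}) (p.U : Scheme.{u})) :
    (T.ptι X x.1 i n (mkPt X x.1 p.W hW)).app M ≫ P.cpt x M i n i' n' hi hn =
      T.push (X := (X.ptSub x.1).res p.W) (Y := X.res p.U) p.f M i n i' n' hi' hn' ≫
        (T.fjι X j i' n' (mkFj X j p.U hU)).app M :=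
  P.cpt_spec x M i n i' n' hi hn (mkFj X j p.U hU) (mkPt X x.1 p.W hW) p.f p.f_fac hi' hn'

theorem subsingleton_pushData (X : Obj V) (j : ℕ) : Subsingleton (T.PushData X j) := by
  constructor
  intro P P'
  suffices h : P.cpt = P'.cpt by
    cases P; cases P'; cases h; rfl
  funext x M i n i' n' hi hn
  apply ocolim_hom_ext
  intro W
  let p : Piece X x.1 := Piece.ofW W.1 ⊤ (fun _ _ => trivial)
  have hWne : (p.W : Set (X.ptSub x.1).scheme).Nonempty := W.2.1
  have hU : ContainsFj X j p.U := fun y hy => ⟨trivial, containsFj_openCompl W.1 W.2.1 x.2 y hy⟩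
  have hrc : relCodim (p.W : Scheme.{u}) (p.U : Scheme.{u}) = (j : ℤ) := by
    rw [relCodim_piece p.W hWne p.U (dim_eq_of_containsFj X j p.U hU), x.2]
  have hi' : i' = i + 2 * relCodim (p.W : Scheme.{u}) (p.U : Scheme.{u}) := by rw [hrc]; exact hi
  have hn' : n' = n + relCodim (p.W : Scheme.{u}) (p.U : Scheme.{u}) := by rw [hrc]; exact hn
  have h1 := pushData_cpt_piece T P x M i n i' n' hi hn p hWne hU hi' hn'
  have h2 := pushData_cpt_piece T P' x M i n i' n' hi hn p hWne hU hi' hn'
  exact h1.trans h2.symm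

end Groth.Agent.Lib.Helper27BMCoh
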