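import Mathlib
import Groth.Prelude.Def_BMCoh3
import Groth.Agent.Lib.Helper27BMCohPush

set_option autoImplicit false
universe u
open CategoryTheory CategoryTheory.Limits AlgebraicGeometry Opposite TopologicalSpace
open BMCoh

namespace Groth.Agent.Lib.Helper27BMCoh

variable {V : ObjectProperty Scheme.{u}} [IsConstructible V]

lemma noetherianSpace (X : Obj V) : NoetherianSpace X.scheme := by
  have : IsNoetherian X.scheme := IsConstructible.isNoetherian X.mem
  infer_instance

/-- (G4) Around a point `x` of codimension `j+1` outside an open `U' ⊇ F_jX` there is an open `N`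
containing `x` and `U'` such that `N \ closure{x} ⊆ U'`. -/
lemma exists_nbhd_piece (X : Obj V) (j : ℕ) (U' : X.scheme.Opens) (hU' : ContainsFj X j U')
    (x : X.scheme) (hx : WeilCoh.codim X.scheme x = j + 1) :
    ∃ N : X.scheme.Opens, x ∈ N ∧ U' ≤ N ∧
      ∀ y ∈ N, y ∉ closure ({x} : Set X.scheme) → y ∈ U' := by
  have := noetherianSpace X
  have hCcl : IsClosed ((U' : Set X.scheme)ᶜ) := U'.2.isClosed_compl
  obtain ⟨S, hSfin, hScl, hSirr, hC⟩ :=
    NoetherianSpace.exists_finite_set_isClosed_irreducible hCcl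
  let S' : Set (Set X.scheme) := {t ∈ S | ¬ t ⊆ closure ({x} : Set X.scheme)}
  have hS'fin : S'.Finite := hSfin.subset (fun t ht => ht.1)
  have hcl : IsClosed (⋃ t ∈ S', t) := hS'fin.isClosed_biUnion (fun t ht => hScl t ht.1)
  refine ⟨⟨(⋃ t ∈ S', t)ᶜ, hcl.isOpen_compl⟩, ?_, ?_, ?_⟩
  · -- x ∈ N
    show x ∉ ⋃ t ∈ S', t
    intro hxt
    simp only [Set.mem_iUnion, exists_prop] at hxt
    obtain ⟨t, ⟨htS, htx⟩, hxt⟩ := hxt
    obtain ⟨η, hη⟩ := QuasiSober.sober (hSirr t htS) (hScl t htS)
    have hηt : closure ({η} : Set X.scheme) = t := hη.def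
    have hηx : η ∉ closure ({x} : Set X.scheme) := by
      intro h
      apply htx
      rw [← hηt]
      exact closure_minimal (Set.singleton_subset_iff.mpr h) isClosed_closure
    have hxη : x ∈ closure ({η} : Set X.scheme) := by rw [hηt]; exact hxt
    have hne : x ≠ η := by
      rintro rfl
      exact hηx (subset_closure rfl)
    have hcod := codim_lt_of_mem_closure X hxη hne
    have hηU' : η ∈ U' := hU' η (by omega)
    have hηC : η ∈ (U' : Set X.scheme)ᶜ := by
      rw [hC]
      exact ⟨t, htS, hηt ▸ subset_closure rfl⟩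
    exact hηC hηU'
  · -- U' ≤ N
    intro y hy
    show y ∉ ⋃ t ∈ S', t
    intro hyt
    simp only [Set.mem_iUnion, exists_prop] at hyt
    obtain ⟨t, ⟨htS, _⟩, hyt⟩ := hyt
    have : y ∈ (U' : Set X.scheme)ᶜ := by rw [hC]; exact ⟨t, htS, hyt⟩
    exact this hy
  · intro y hyN hycl
    by_contra hyU'
    have hyC : y ∈ (U' : Set X.scheme)ᶜ := hyU'
    rw [hC] at hyC
    obtain ⟨t, htS, hyt⟩ := hyC
    apply hyN
    simp only [Set.mem_iUnion, exists_prop]
    exact ⟨t, ⟨htS, fun hsub => hycl (hsub hyt)⟩, hyt⟩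

end Groth.Agent.Lib.Helper27BMCoh
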