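import Mathlib
import Groth.Prelude.Def_BMCoh3
import Groth.Agent.Lib.Helper27BMCohNbhd

set_option autoImplicit false
universe u
open CategoryTheory CategoryTheory.Limits AlgebraicGeometry Opposite TopologicalSpace
open BMCoh

namespace Groth.Agent.Lib.Helper27BMCoh

variable {V : ObjectProperty Scheme.{u}} [IsConstructible V]
variable {R : Type u} [CommRing R] {A : Coefs R} (T : PreTheory V R A)

lemma isPullback_id_of_mono {C : Type*} [Category C] {W U' U : C} (f' : W ⟶ U') (g : U' ⟶ U)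
    [Mono g] (f : W ⟶ U) (h : f' ≫ g = f) : IsPullback (𝟙 W) f' f g := by
  have h1 : IsPullback (𝟙 W) f' f' (𝟙 U') := IsPullback.of_horiz_isIso ⟨by simp⟩
  have h2 : IsPullback (𝟙 U') (𝟙 U') g g := IsKernelPair.id_of_mono g
  have := h1.paste_vert h2
  simpa [h] using this

omit [IsConstructible V] in
lemma pull_id (X : Obj V) (M : A.Cat) (i n : ℤ) : T.pull (𝟙 X) M i n = 𝟙 _ := by
  show ((T.H i n).map (𝟙 X).op).app M = 𝟙 _
  rw [op_id, (T.H i n).map_id]
  rfl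

omit [IsConstructible V] in
lemma pull_comp {X Y Z : Obj V} (f : X ⟶ Y) (g : Y ⟶ Z) (M : A.Cat) (i n : ℤ) :
    T.pull (f ≫ g) M i n = T.pull g M i n ≫ T.pull f M i n := by
  show ((T.H i n).map (f ≫ g).op).app M = _
  rw [op_comp, (T.H i n).map_comp]
  rfl

omit [IsConstructible V] in
lemma pull_comp_apply {X Y Z : Obj V} (f : X ⟶ Y) (g : Y ⟶ Z) (M : A.Cat) (i n : ℤ)
    (b : T.gp Z M i n) :
    (T.pull f M i n).hom ((T.pull g M i n).hom b) = (T.pull (f ≫ g) M i n).hom b := by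
  rw [pull_comp]; rfl

lemma resLE_comp (X : Obj V) {U₁ U₂ U₃ : X.scheme.Opens} (h₁ : U₁ ≤ U₂) (h₂ : U₂ ≤ U₃)
    (d₁ : WeilCoh.dim (U₁ : Scheme.{u}) = WeilCoh.dim (U₂ : Scheme.{u}))
    (d₂ : WeilCoh.dim (U₂ : Scheme.{u}) = WeilCoh.dim (U₃ : Scheme.{u})) :
    X.resLE h₁ d₁ ≫ X.resLE h₂ d₂ = X.resLE (h₁.trans h₂) (d₁.trans d₂) :=
  Hom.ext (Scheme.homOfLE_homOfLE X.scheme h₁ h₂)

omit [IsConstructible V] in
/-- Push-forward along `f` followed by restriction to an open through which `f` factors. -/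
theorem push_restrict {Z Y Y' : Obj V} (f : Z.scheme ⟶ Y.scheme) [IsProper f]
    (f' : Z.scheme ⟶ Y'.scheme) [IsProper f'] (g : Y' ⟶ Y) (h : f' ≫ g.hom = f)
    (M : A.Cat) (i n i' n' : ℤ)
    (hi : i' = i + 2 * relCodim Z.scheme Y.scheme) (hn : n' = n + relCodim Z.scheme Y.scheme)
    (hi' : i' = i + 2 * relCodim Z.scheme Y'.scheme) (hn' : n' = n + relCodim Z.scheme Y'.scheme) :
    T.push f M i n i' n' hi hn ≫ T.pull g M i' n' = T.push f' M i n i' n' hi' hn' := by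
  have hpb : IsPullback (𝟙 Z : Z ⟶ Z).hom f' f g.hom := isPullback_id_of_mono f' g.hom f h
  have := T.push_pull f f' g (𝟙 Z) hpb M i n i' n' hi hn hi' hn'
  rw [this]
  have h1 : ((T.H i n).map (𝟙 Z).op).app M = 𝟙 _ := pull_id T Z M i n
  rw [h1, Category.id_comp]

omit [IsConstructible V] in
theorem push_restrict_apply {Z Y Y' : Obj V} (f : Z.scheme ⟶ Y.scheme) [IsProper f]
    (f' : Z.scheme ⟶ Y'.scheme) [IsProper f'] (g : Y' ⟶ Y) (h : f' ≫ g.hom = f)
    (M : A.Cat) (i n i' n' : ℤ)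
    (hi : i' = i + 2 * relCodim Z.scheme Y.scheme) (hn : n' = n + relCodim Z.scheme Y.scheme)
    (hi' : i' = i + 2 * relCodim Z.scheme Y'.scheme) (hn' : n' = n + relCodim Z.scheme Y'.scheme)
    (a : T.gp Z M i n) :
    (T.pull g M i' n').hom ((T.push f M i n i' n' hi hn).hom a) =
      (T.push f' M i n i' n' hi' hn').hom a := by
  rw [← push_restrict T f f' g h M i n i' n' hi hn hi' hn']; rfl

end Groth.Agent.Lib.Helper27BMCoh
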