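import Mathlib
import Groth.Prelude.Def_BMCoh3
import Groth.Agent.Lib.Helper27BMCohCat

set_option autoImplicit false
universe u
open CategoryTheory CategoryTheory.Limits AlgebraicGeometry Opposite TopologicalSpace
open BMCoh

namespace Groth.Agent.Lib.Helper27BMCoh

variable {V : ObjectProperty Scheme.{u}} [IsConstructible V]
variable {R : Type u} [CommRing R] {A : Coefs R} (T : PreTheory V R A)

/-- Elementwise form of the defining property of push-forward data. -/
theorem pushData_cpt_piece_apply {X : Obj V} {j : ℕ} (P : T.PushData X j) (x : X.cdPt j) (M : A.Cat)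
    (i n i' n' : ℤ) (hi : i' = i + 2 * (j : ℤ)) (hn : n' = n + (j : ℤ))
    (p : Piece X x.1) (hW : (p.W : Set (X.ptSub x.1).scheme).Nonempty)
    (hU : ContainsFj X j p.U)
    (hi' : i' = i + 2 * relCodim (p.W : Scheme.{u}) (p.U : Scheme.{u}))
    (hn' : n' = n + relCodim (p.W : Scheme.{u}) (p.U : Scheme.{u}))
    (a : T.gp ((X.ptSub x.1).res p.W) M i n) :
    (P.cpt x M i n i' n' hi hn).hom (((T.ptι X x.1 i n (mkPt X x.1 p.W hW)).app M).hom a) =
      ((T.fjι X j i' n' (mkFj X j p.U hU)).app M).hom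
        ((T.push (X := (X.ptSub x.1).res p.W) (Y := X.res p.U) p.f M i n i' n' hi' hn').hom a) := by
  have := congrArg (fun φ => φ.hom a) (pushData_cpt_piece T P x M i n i' n' hi hn p hW hU hi' hn')
  simpa using this

/-- (a) of the exactness at `H(F_{j+1})`: push-forward from a point of codimension `j+1` dies in
`H(F_j)`. -/
theorem fjRes_cpt_eq_zero {X : Obj V} {j : ℕ} (P : T.PushData X (j + 1)) (x : X.cdPt (j + 1))
    (M : A.Cat) (i n i' n' : ℤ) (hi : i' = i + 2 * ((j + 1 : ℕ) : ℤ))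
    (hn : n' = n + ((j + 1 : ℕ) : ℤ)) (a : T.ptGp X x.1 M i n) :
    ((T.fjRes X (Nat.le_succ j) i' n').app M).hom ((P.cpt x M i n i' n' hi hn).hom a) = 0 := by
  obtain ⟨k, rfl⟩ : ∃ k, i' = k + 1 := ⟨i' - 1, by ring⟩
  obtain ⟨W, aW, rfl⟩ := ocolim_exists_rep T (X.ptSub x.1) _ i n M a
  let p : Piece X x.1 := Piece.ofW W.1 ⊤ (fun _ _ => trivial)
  have hWne : (p.W : Set (X.ptSub x.1).scheme).Nonempty := W.2.1
  have hU : ContainsFj X (j + 1) p.U :=
    fun y hy => ⟨trivial, containsFj_openCompl W.1 W.2.1 x.2 y hy⟩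
  have hU₀ : ContainsFj X j p.U₀ :=
    fun y hy => ⟨hU y (hy.trans (Nat.le_succ j)), containsFj_clCompl x.2 y hy⟩
  have hdU : WeilCoh.dim (p.U : Scheme.{u}) = WeilCoh.dim X.scheme := dim_eq_of_containsFj X _ p.U hU
  have hdU₀ : WeilCoh.dim (p.U₀ : Scheme.{u}) = WeilCoh.dim X.scheme :=
    dim_eq_of_containsFj X _ p.U₀ hU₀
  have hrc : relCodim (p.W : Scheme.{u}) (p.U : Scheme.{u}) = ((j + 1 : ℕ) : ℤ) := by
    rw [relCodim_piece p.W hWne p.U hdU, x.2]
  have hi' : k + 1 = i + 2 * relCodim (p.W : Scheme.{u}) (p.U : Scheme.{u}) := by rw [hrc]; exact hi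
  have hn' : n' = n + relCodim (p.W : Scheme.{u}) (p.U : Scheme.{u}) := by rw [hrc]; exact hn
  have h1 : (P.cpt x M i n (k + 1) n' hi hn).hom
      (((T.ocolimι (X.ptSub x.1) (fun U => (U : Set (X.ptSub x.1).scheme).Nonempty) i n W).app M).hom aW) =
      ((T.fjι X (j + 1) (k + 1) n' (mkFj X (j + 1) p.U hU)).app M).hom
        ((T.push (X := (X.ptSub x.1).res p.W) (Y := X.res p.U) p.f M i n (k + 1) n' hi' hn').hom aW) :=
    pushData_cpt_piece_apply T P x M i n (k + 1) n' hi hn p hWne hU hi' hn' aW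
  rw [h1]
  rw [ocolimι_ocolimMap_apply]
  -- restrict further to U₀
  let D := p.decomp (hdU₀.trans hdU.symm)
  have hex := T.exact_push_pull D M k n' i n hi' hn'
  have hz := hex.apply_apply_eq_zero aW
  rw [← ocolimι_resLE_apply T X (ContainsFj X j) (k + 1) n' M
    ⟨p.U, containsFj_mono X (Nat.le_succ j) _ hU, hdU⟩ (mkFj X j p.U₀ hU₀) p.U₀_le]
  have : (T.pull (X.resLE p.U₀_le (hdU₀.trans hdU.symm)) M (k + 1) n').hom
      ((T.push (X := (X.ptSub x.1).res p.W) (Y := X.res p.U) p.f M i n (k + 1) n' hi' hn').hom aW) = 0 := hz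
  rw [this, map_zero]

end Groth.Agent.Lib.Helper27BMCoh
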