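import Mathlib
import Groth.Prelude.Def_BMCoh3
import Groth.Agent.Lib.Helper27BMCohPushA

set_option autoImplicit false
universe u
open CategoryTheory CategoryTheory.Limits AlgebraicGeometry Opposite TopologicalSpace
open BMCoh

namespace Groth.Agent.Lib.Helper27BMCoh

variable {V : ObjectProperty Scheme.{u}} [IsConstructible V]
variable {R : Type u} [CommRing R] {A : Coefs R} (T : PreTheory V R A)

omit [IsConstructible V] in
lemma not_mem_closure_of_mem_open {X : Obj V} {x y : X.scheme} (U' : X.scheme.Opens)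
    (hx : x ∉ U') (hy : y ∈ U') : y ∉ closure ({x} : Set X.scheme) := by
  intro hcl
  have : x ⤳ y := specializes_iff_mem_closure.mpr hcl
  exact hx (this.mem_open U'.2 hy)

/-- The peeling induction for exactness at `H(F_{j+1}X)`. -/
theorem peel {X : Obj V} {j : ℕ} (P : T.PushData X (j + 1)) (M : A.Cat) (i n i' n' : ℤ)
    (hi : i' = i + 2 * ((j + 1 : ℕ) : ℤ)) (hn : n' = n + ((j + 1 : ℕ) : ℤ)) :
    ∀ (U' : X.scheme.Opens) (hU' : ContainsFj X j U') (U : Idx X (ContainsFj X (j + 1)))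
      (hle : U' ≤ U.1) (β : T.gp (X.res U.1) M i' n'),
      (T.pull (X.resLE hle ((dim_eq_of_containsFj X j U' hU').trans U.2.2.symm)) M i' n').hom β = 0 →
      ((T.fjι X (j + 1) i' n' U).app M).hom β ∈ LinearMap.range (P.tot M i n i' n' hi hn).hom := by
  classical
  obtain ⟨k, rfl⟩ : ∃ k, i' = k + 1 := ⟨i' - 1, by ring⟩
  have hwf : WellFoundedGT X.scheme.Opens := noetherianSpace X
  intro U'
  induction U' using hwf.induction with
  | ind U' IH =>
  intro hU' U hle β hβ
  by_cases hcase : ContainsFj X (j + 1) U'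
  · -- Case A
    rw [← ocolimι_resLE_apply T X (ContainsFj X (j + 1)) (k + 1) n' M U (mkFj X (j + 1) U' hcase) hle]
    rw [hβ, map_zero]
    exact Submodule.zero_mem _
  · -- Case B
    unfold ContainsFj at hcase
    push Not at hcase
    obtain ⟨x, hxle, hxU'⟩ := hcase
    have hx : WeilCoh.codim X.scheme x = j + 1 := by
      by_contra hne
      exact hxU' (hU' x (by omega))
    have hxU : x ∈ U.1 := U.2.1 x hxle
    obtain ⟨N, hxN, hU'N, hN⟩ := exists_nbhd_piece X j U' hU' x hx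
    let U'' : X.scheme.Opens := U.1 ⊓ N
    have hU'U'' : U' ≤ U'' := le_inf hle hU'N
    have hxU'' : x ∈ U'' := ⟨hxU, hxN⟩
    have hlt : U' < U'' := lt_of_le_of_ne hU'U'' (fun h => hxU' (h ▸ hxU''))
    have hU''Fj : ContainsFj X j U'' := fun y hy => hU'U'' (hU' y hy)
    have hU''U : U'' ≤ U.1 := inf_le_left
    let p'' : Piece X x := Piece.ofOpen' U'' U' (fun y => by
      constructor
      · intro hy
        exact ⟨hU'U'' hy, not_mem_closure_of_mem_open U' hxU' hy⟩
      · rintro ⟨hy, hycl⟩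
        exact hN y hy.2 hycl)
    obtain ⟨zx, hzx⟩ := exists_ptSub_pt X x
    have hWne : (p''.W : Set (X.ptSub x).scheme).Nonempty := ⟨zx, by
      show X.ptSubι x zx ∈ U''
      rw [hzx]; exact hxU''⟩
    have hdU'' : WeilCoh.dim (U'' : Scheme.{u}) = WeilCoh.dim X.scheme :=
      dim_eq_of_containsFj X j U'' hU''Fj
    have hdU' : WeilCoh.dim (U' : Scheme.{u}) = WeilCoh.dim X.scheme :=
      dim_eq_of_containsFj X j U' hU'
    have hrc'' : relCodim (p''.W : Scheme.{u}) (p''.U : Scheme.{u}) = ((j + 1 : ℕ) : ℤ) := by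
      rw [relCodim_piece p''.W hWne p''.U hdU'', hx]
    have hi'' : k + 1 = i + 2 * relCodim (p''.W : Scheme.{u}) (p''.U : Scheme.{u}) := by
      rw [hrc'']; exact hi
    have hn'' : n' = n + relCodim (p''.W : Scheme.{u}) (p''.U : Scheme.{u}) := by
      rw [hrc'']; exact hn
    let D'' := p''.decomp (hdU'.trans hdU''.symm)
    have hex := T.exact_push_pull D'' M k n' i n hi'' hn''
    -- β restricted to U''
    let β'' := (T.pull (X.resLE hU''U (hdU''.trans U.2.2.symm)) M (k + 1) n').hom β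
    have hβ'' : (T.pull (X.resLE p''.U₀_le (hdU'.trans hdU''.symm)) M (k + 1) n').hom β'' = 0 := by
      show (T.pull (X.resLE p''.U₀_le (hdU'.trans hdU''.symm)) M (k + 1) n').hom
        ((T.pull (X.resLE hU''U (hdU''.trans U.2.2.symm)) M (k + 1) n').hom β) = 0
      rw [pull_comp_apply, resLE_comp]
      exact hβ
    obtain ⟨γ, hγ⟩ := (hex β'').mp hβ''
    -- the second piece
    let q : Piece X x := Piece.ofW p''.W U.1 (fun z hz => hU''U hz)
    have hUq : ContainsFj X (j + 1) q.U := fun y hy =>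
      ⟨U.2.1 y hy, containsFj_openCompl p''.W hWne hx y hy⟩
    have hU''Uq : U'' ≤ q.U := by
      intro y hy
      refine ⟨hU''U hy, ?_⟩
      rintro ⟨z, hz, rfl⟩
      exact hz hy
    have hdUq : WeilCoh.dim (q.U : Scheme.{u}) = WeilCoh.dim X.scheme :=
      dim_eq_of_containsFj X _ q.U hUq
    have hrcq : relCodim (q.W : Scheme.{u}) (q.U : Scheme.{u}) = ((j + 1 : ℕ) : ℤ) := by
      rw [relCodim_piece q.W hWne q.U hdUq, hx]
    have hiq : k + 1 = i + 2 * relCodim (q.W : Scheme.{u}) (q.U : Scheme.{u}) := by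
      rw [hrcq]; exact hi
    have hnq : n' = n + relCodim (q.W : Scheme.{u}) (q.U : Scheme.{u}) := by
      rw [hrcq]; exact hn
    let β₁ := (T.push (X := (X.ptSub x).res q.W) (Y := X.res q.U) q.f M i n (k + 1) n' hiq hnq).hom γ
    have hUqU : q.U ≤ U.1 := inf_le_left
    let βq := (T.pull (X.resLE hUqU (hdUq.trans U.2.2.symm)) M (k + 1) n').hom β
    have hfac : p''.f ≫ (X.resLE hU''Uq (hdU''.trans hdUq.symm)).hom = q.f := by
      rw [← cancel_mono q.U.ι]
      show (p''.f ≫ X.scheme.homOfLE hU''Uq) ≫ q.U.ι = q.f ≫ q.U.ι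
      rw [Category.assoc, Scheme.homOfLE_ι, q.f_fac]
      exact p''.f_fac
    have hpull₁ : (T.pull (X.resLE hU''Uq (hdU''.trans hdUq.symm)) M (k + 1) n').hom β₁ = β'' := by
      rw [← hγ]
      exact push_restrict_apply T (Z := (X.ptSub x).res p''.W) (Y := X.res q.U) (Y' := X.res U'')
        q.f p''.f (X.resLE hU''Uq (hdU''.trans hdUq.symm)) hfac M i n (k + 1) n' hiq hnq hi'' hn'' γ
    have hpullq : (T.pull (X.resLE hU''Uq (hdU''.trans hdUq.symm)) M (k + 1) n').hom βq = β'' := by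
      show (T.pull (X.resLE hU''Uq (hdU''.trans hdUq.symm)) M (k + 1) n').hom
        ((T.pull (X.resLE hUqU (hdUq.trans U.2.2.symm)) M (k + 1) n').hom β) = _
      rw [pull_comp_apply, resLE_comp]
    have hdiff : (T.pull (X.resLE hU''Uq ((dim_eq_of_containsFj X j U'' hU''Fj).trans
        (mkFj X (j + 1) q.U hUq).2.2.symm)) M (k + 1) n').hom (βq - β₁) = 0 := by
      rw [map_sub]
      exact sub_eq_zero.mpr (hpullq.trans hpull₁.symm)
    have hIH := IH U'' hlt hU''Fj (mkFj X (j + 1) q.U hUq) hU''Uq (βq - β₁) hdiff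
    have h₁ : ((T.fjι X (j + 1) (k + 1) n' (mkFj X (j + 1) q.U hUq)).app M).hom β₁ ∈
        LinearMap.range (P.tot M i n (k + 1) n' hi hn).hom := by
      have hc := pushData_cpt_piece_apply T P ⟨x, hx⟩ M i n (k + 1) n' hi hn q hWne hUq hiq hnq γ
      refine ⟨DirectSum.lof R (X.cdPt (j + 1)) (fun y : X.cdPt (j + 1) => T.ptGp X y.1 M i n) ⟨x, hx⟩
        (((T.ptι X x i n (mkPt X x q.W hWne)).app M).hom γ), ?_⟩
      rw [PreTheory.PushData.tot_lof]
      exact hc
    have hq1 : ((T.fjι X (j + 1) (k + 1) n' (mkFj X (j + 1) q.U hUq)).app M).hom βq =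
        ((T.fjι X (j + 1) (k + 1) n' U).app M).hom β :=
      ocolimι_resLE_apply T X (ContainsFj X (j + 1)) (k + 1) n' M U (mkFj X (j + 1) q.U hUq) hUqU β
    rw [← hq1]
    have : βq = (βq - β₁) + β₁ := by abel
    rw [this, map_add]
    exact Submodule.add_mem _ hIH h₁

end Groth.Agent.Lib.Helper27BMCoh
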