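import Mathlib
import Groth.Prelude.Def_BMCoh3
import Groth.Agent.Lib.Helper27BMCohPeel

set_option autoImplicit false
universe u
open CategoryTheory CategoryTheory.Limits AlgebraicGeometry Opposite TopologicalSpace
open BMCoh

namespace Groth.Agent.Lib.Helper27BMCoh

variable {V : ObjectProperty Scheme.{u}} [IsConstructible V]
variable {R : Type u} [CommRing R] {A : Coefs R} (T : PreTheory V R A)

theorem exact_pushTot_fjRes {X : Obj V} {j : ℕ} (P : T.PushData X (j + 1)) (M : A.Cat)
    (i n i' n' : ℤ) (hi : i' = i + 2 * ((j + 1 : ℕ) : ℤ)) (hn : n' = n + ((j + 1 : ℕ) : ℤ)) :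
    Function.Exact (P.tot M i n i' n' hi hn).hom ((T.fjRes X (Nat.le_succ j) i' n').app M).hom := by
  classical
  intro α
  constructor
  · intro hα
    obtain ⟨U, β, rfl⟩ := ocolim_exists_rep T X (ContainsFj X (j + 1)) i' n' M α
    rw [ocolimι_ocolimMap_apply] at hα
    obtain ⟨U', hle, hβ⟩ := ocolim_rep_eq_zero T X (ContainsFj X j) i' n' M
      (⟨U.1, containsFj_mono X (Nat.le_succ j) _ U.2.1, U.2.2⟩ : Idx X (ContainsFj X j)) β hα
    exact peel T P M i n i' n' hi hn U'.1 U'.2.1 U hle β hβ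
  · rintro ⟨ξ, rfl⟩
    have hcomp : ((T.fjRes X (Nat.le_succ j) i' n').app M).hom ∘ₗ (P.tot M i n i' n' hi hn).hom = 0 := by
      apply DirectSum.linearMap_ext
      intro x
      ext a
      simp only [LinearMap.coe_comp, Function.comp_apply, LinearMap.zero_apply]
      rw [PreTheory.PushData.tot_lof]
      exact fjRes_cpt_eq_zero T P x M i n i' n' hi hn a
    exact congrArg (fun φ => φ ξ) hcomp

end Groth.Agent.Lib.Helper27BMCoh
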