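import Mathlib
import Groth.Prelude.Def_BMCoh3
import Groth.Agent.Lib.Helper27BMCohPushExact

set_option autoImplicit false
universe u
open CategoryTheory CategoryTheory.Limits AlgebraicGeometry Opposite TopologicalSpace
open BMCoh

namespace Groth.Agent.Lib.Helper27BMCoh

variable {V : ObjectProperty Scheme.{u}} [IsConstructible V]
variable {R : Type u} [CommRing R] {A : Coefs R} (T : PreTheory V R A)

/-- The defining property of residue data, for a piece. -/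
theorem resData_cpt_piece {X : Obj V} {j : ℕ} (Q : T.ResData X j) (x : X.cdPt (j + 1)) (M : A.Cat)
    (i n i' n' : ℤ) (hi : i' = i + 1 - 2 * ((j : ℤ) + 1)) (hn : n' = n - ((j : ℤ) + 1))
    (p : Piece X x.1) (hW : (p.W : Set (X.ptSub x.1).scheme).Nonempty)
    (hU₀ : ContainsFj X j p.U₀)
    (hdU : WeilCoh.dim (p.U : Scheme.{u}) = WeilCoh.dim X.scheme)
    (hdim : WeilCoh.dim (p.U₀ : Scheme.{u}) = WeilCoh.dim (p.U : Scheme.{u}))
    (hiD : i' = i + 1 - 2 * (p.decomp hdim).codim) (hnD : n' = n - (p.decomp hdim).codim) :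
    (T.fjι X j i n (mkFj X j p.U₀ hU₀)).app M ≫ Q.cpt x M i n i' n' hi hn =
      T.res (p.decomp hdim) M i n i' n' hiD hnD ≫
        (T.ptι X x.1 i' n' (mkPt X x.1 p.W hW)).app M := by
  have hg : (𝟙 ((X.ptSub x.1).res p.W) : (X.ptSub x.1).res p.W ⟶ (p.decomp hdim).Z).hom ≫
      (p.decomp hdim).i ≫ (X.resι p.U hdU).hom = p.W.ι ≫ X.ptSubι x.1 := by
    show 𝟙 _ ≫ p.f ≫ p.U.ι = _
    rw [Category.id_comp, p.f_fac]
  have hh : (𝟙 (X.res p.U₀) : X.res p.U₀ ⟶ (p.decomp hdim).U).hom ≫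
      (p.decomp hdim).j.hom ≫ (X.resι p.U hdU).hom = p.U₀.ι := by
    show 𝟙 _ ≫ X.scheme.homOfLE p.U₀_le ≫ p.U.ι = _
    rw [Category.id_comp, Scheme.homOfLE_ι]
  have := Q.cpt_spec x M i n i' n' hi hn (X.resι p.U hdU) (p.decomp hdim) (mkPt X x.1 p.W hW)
    (𝟙 _) hg (mkFj X j p.U₀ hU₀) (𝟙 _) hh hiD hnD
  have e1 : T.pull (𝟙 (X.res p.U₀)) M i n = 𝟙 _ := pull_id T _ M i n
  have e2 : T.pull (𝟙 ((X.ptSub x.1).res p.W)) M i' n' = 𝟙 _ := pull_id T _ M i' n'
  have this' : T.pull (𝟙 (X.res p.U₀)) M i n ≫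
      (T.fjι X j i n (mkFj X j p.U₀ hU₀)).app M ≫ Q.cpt x M i n i' n' hi hn =
      T.res (p.decomp hdim) M i n i' n' hiD hnD ≫
        T.pull (𝟙 ((X.ptSub x.1).res p.W)) M i' n' ≫
          (T.ptι X x.1 i' n' (mkPt X x.1 p.W hW)).app M := this
  rw [e1, e2, Category.id_comp, Category.id_comp] at this'
  exact this'

theorem resData_cpt_piece_apply {X : Obj V} {j : ℕ} (Q : T.ResData X j) (x : X.cdPt (j + 1))
    (M : A.Cat)
    (i n i' n' : ℤ) (hi : i' = i + 1 - 2 * ((j : ℤ) + 1)) (hn : n' = n - ((j : ℤ) + 1))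
    (p : Piece X x.1) (hW : (p.W : Set (X.ptSub x.1).scheme).Nonempty)
    (hU₀ : ContainsFj X j p.U₀)
    (hdU : WeilCoh.dim (p.U : Scheme.{u}) = WeilCoh.dim X.scheme)
    (hdim : WeilCoh.dim (p.U₀ : Scheme.{u}) = WeilCoh.dim (p.U : Scheme.{u}))
    (hiD : i' = i + 1 - 2 * (p.decomp hdim).codim) (hnD : n' = n - (p.decomp hdim).codim)
    (b : T.gp (X.res p.U₀) M i n) :
    (Q.cpt x M i n i' n' hi hn).hom (((T.fjι X j i n (mkFj X j p.U₀ hU₀)).app M).hom b) =
      ((T.ptι X x.1 i' n' (mkPt X x.1 p.W hW)).app M).hom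
        ((T.res (p.decomp hdim) M i n i' n' hiD hnD).hom b) := by
  have := congrArg (fun φ => φ.hom b)
    (resData_cpt_piece T Q x M i n i' n' hi hn p hW hU₀ hdU hdim hiD hnD)
  simp only [ModuleCat.hom_comp, LinearMap.comp_apply] at this
  exact this

/-- For a point of codimension `j+1` and an open `U ⊇ F_jX`, an open `N ∋ x` containing `F_jX` with
`N \ closure{x} ⊆ U`. -/
lemma exists_nbhd_piece' (X : Obj V) (j : ℕ) (U : X.scheme.Opens) (hU : ContainsFj X j U)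
    (x : X.scheme) (hx : WeilCoh.codim X.scheme x = j + 1) :
    ∃ N : X.scheme.Opens, x ∈ N ∧ ContainsFj X j N ∧ N ⊓ clCompl X x ≤ U := by
  by_cases hxU : x ∈ U
  · exact ⟨U, hxU, hU, inf_le_left⟩
  · obtain ⟨N, hxN, hUN, hN⟩ := exists_nbhd_piece X j U hU x hx
    exact ⟨N, hxN, fun y hy => hUN (hU y hy), fun y hy => hN y hy.1 hy.2⟩

lemma decomp_codim {X : Obj V} {x : X.scheme} (p : Piece X x)
    (hW : (p.W : Set (X.ptSub x).scheme).Nonempty)
    (hdU : WeilCoh.dim (p.U : Scheme.{u}) = WeilCoh.dim X.scheme)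
    (hdim : WeilCoh.dim (p.U₀ : Scheme.{u}) = WeilCoh.dim (p.U : Scheme.{u})) :
    (p.decomp hdim).codim = (WeilCoh.codim X.scheme x : ℤ) :=
  relCodim_piece p.W hW p.U hdU

theorem subsingleton_resData (X : Obj V) (j : ℕ) : Subsingleton (T.ResData X j) := by
  constructor
  intro Q Q'
  suffices h : Q.cpt = Q'.cpt by
    cases Q; cases Q'; cases h; rfl
  funext x M i n i' n' hi hn
  apply ocolim_hom_ext
  intro U
  obtain ⟨N, hxN, hNF, hNU⟩ := exists_nbhd_piece' X j U.1 U.2.1 x.1 x.2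
  let p : Piece X x.1 := Piece.ofOpen N
  obtain ⟨zx, hzx⟩ := exists_ptSub_pt X x.1
  have hWne : (p.W : Set (X.ptSub x.1).scheme).Nonempty := ⟨zx, by
    show X.ptSubι x.1 zx ∈ N
    rw [hzx]; exact hxN⟩
  have hU₀ : ContainsFj X j p.U₀ := fun y hy => ⟨hNF y hy, containsFj_clCompl x.2 y hy⟩
  have hdU : WeilCoh.dim (p.U : Scheme.{u}) = WeilCoh.dim X.scheme := dim_eq_of_containsFj X j N hNF
  have hdU₀ : WeilCoh.dim (p.U₀ : Scheme.{u}) = WeilCoh.dim X.scheme :=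
    dim_eq_of_containsFj X j p.U₀ hU₀
  have hdim := hdU₀.trans hdU.symm
  have hcod : (p.decomp hdim).codim = ((j : ℤ) + 1) := by
    rw [decomp_codim p hWne hdU hdim, x.2]; push_cast; ring
  have hiD : i' = i + 1 - 2 * (p.decomp hdim).codim := by rw [hcod]; exact hi
  have hnD : n' = n - (p.decomp hdim).codim := by rw [hcod]; exact hn
  have h1 := resData_cpt_piece T Q x M i n i' n' hi hn p hWne hU₀ hdU hdim hiD hnD
  have h2 := resData_cpt_piece T Q' x M i n i' n' hi hn p hWne hU₀ hdU hdim hiD hnD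
  have hres := ocolimι_resLE T X (ContainsFj X j) i n U (mkFj X j p.U₀ hU₀) hNU
  have hres' := congrArg (fun φ => φ.app M) hres
  simp only [NatTrans.comp_app] at hres'
  rw [← hres', Category.assoc, Category.assoc, h1, h2]

end Groth.Agent.Lib.Helper27BMCoh
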