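import Mathlib
import Groth.Prelude.Def_BMCoh3
import Groth.Agent.Lib.Helper27BMCohRes

set_option autoImplicit false
universe u
open CategoryTheory CategoryTheory.Limits AlgebraicGeometry Opposite TopologicalSpace
open BMCoh

namespace Groth.Agent.Lib.Helper27BMCoh

variable {V : ObjectProperty Scheme.{u}} [IsConstructible V]
variable {R : Type u} [CommRing R] {A : Coefs R} (T : PreTheory V R A)

/-- (a): residues of classes coming from `F_{j+1}` vanish. -/
theorem cpt_fjRes_eq_zero {X : Obj V} {j : ℕ} (Q : T.ResData X j) (x : X.cdPt (j + 1)) (M : A.Cat)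
    (i n i' n' : ℤ) (hi : i' = i + 1 - 2 * ((j : ℤ) + 1)) (hn : n' = n - ((j : ℤ) + 1))
    (α : T.fjGp X (j + 1) M i n) :
    (Q.cpt x M i n i' n' hi hn).hom (((T.fjRes X (Nat.le_succ j) i n).app M).hom α) = 0 := by
  obtain ⟨U, β, rfl⟩ := ocolim_exists_rep T X (ContainsFj X (j + 1)) i n M α
  rw [ocolimι_ocolimMap_apply]
  have hxU : x.1 ∈ U.1 := U.2.1 x.1 x.2.le
  let p : Piece X x.1 := Piece.ofOpen U.1
  obtain ⟨zx, hzx⟩ := exists_ptSub_pt X x.1
  have hWne : (p.W : Set (X.ptSub x.1).scheme).Nonempty := ⟨zx, by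
    show X.ptSubι x.1 zx ∈ U.1
    rw [hzx]; exact hxU⟩
  have hUj : ContainsFj X j U.1 := containsFj_mono X (Nat.le_succ j) _ U.2.1
  have hU₀ : ContainsFj X j p.U₀ := fun y hy => ⟨hUj y hy, containsFj_clCompl x.2 y hy⟩
  have hdU : WeilCoh.dim (p.U : Scheme.{u}) = WeilCoh.dim X.scheme := U.2.2
  have hdU₀ : WeilCoh.dim (p.U₀ : Scheme.{u}) = WeilCoh.dim X.scheme :=
    dim_eq_of_containsFj X j p.U₀ hU₀
  have hdim := hdU₀.trans hdU.symm
  have hcod : (p.decomp hdim).codim = ((j : ℤ) + 1) := by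
    rw [decomp_codim p hWne hdU hdim, x.2]; push_cast; ring
  have hiD : i' = i + 1 - 2 * (p.decomp hdim).codim := by rw [hcod]; exact hi
  have hnD : n' = n - (p.decomp hdim).codim := by rw [hcod]; exact hn
  rw [← ocolimι_resLE_apply T X (ContainsFj X j) i n M ⟨U.1, hUj, U.2.2⟩ (mkFj X j p.U₀ hU₀) p.U₀_le]
  rw [resData_cpt_piece_apply T Q x M i n i' n' hi hn p hWne hU₀ hdU hdim hiD hnD]
  have hex := T.exact_pull_res (p.decomp hdim) M i n i' n' hiD hnD
  have hz := hex.apply_apply_eq_zero β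
  have : (T.res (p.decomp hdim) M i n i' n' hiD hnD).hom
      ((T.pull (X.resLE p.U₀_le hdim) M i n).hom β) = 0 := hz
  rw [this, map_zero]

end Groth.Agent.Lib.Helper27BMCoh

namespace Groth.Agent.Lib.Helper27BMCoh

variable {V : ObjectProperty Scheme.{u}} [IsConstructible V]
variable {R : Type u} [CommRing R] {A : Coefs R} (T : PreTheory V R A)

/-- (b): a class of `H(F_jX)` with vanishing residues extends to `F_{j+1}X`. -/
theorem extend {X : Obj V} {j : ℕ} (Q : T.ResData X j) (M : A.Cat)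
    (i n i' n' : ℤ) (hi : i' = i + 1 - 2 * ((j : ℤ) + 1)) (hn : n' = n - ((j : ℤ) + 1))
    (α : T.fjGp X j M i n)
    (hα : ∀ x : X.cdPt (j + 1), (Q.cpt x M i n i' n' hi hn).hom α = 0) :
    ∀ (U : X.scheme.Opens) (hU : ContainsFj X j U) (β : T.gp (X.res U) M i n),
      ((T.fjι X j i n (mkFj X j U hU)).app M).hom β = α →
      α ∈ LinearMap.range ((T.fjRes X (Nat.le_succ j) i n).app M).hom := by
  have hwf : WellFoundedGT X.scheme.Opens := noetherianSpace X
  intro U
  induction U using hwf.induction with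
  | ind U IH =>
  intro hU β hβ
  by_cases hcase : ContainsFj X (j + 1) U
  · refine ⟨((T.fjι X (j + 1) i n (mkFj X (j + 1) U hcase)).app M).hom β, ?_⟩
    rw [ocolimι_ocolimMap_apply]
    exact hβ
  · unfold ContainsFj at hcase
    push Not at hcase
    obtain ⟨x, hxle, hxU⟩ := hcase
    have hx : WeilCoh.codim X.scheme x = j + 1 := by
      by_contra hne
      exact hxU (hU x (by omega))
    obtain ⟨N, hxN, hUN, hN⟩ := exists_nbhd_piece X j U hU x hx
    let p : Piece X x := Piece.ofOpen' N U (fun y => by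
      constructor
      · intro hy
        exact ⟨hUN hy, not_mem_closure_of_mem_open U hxU hy⟩
      · rintro ⟨hy, hycl⟩
        exact hN y hy hycl)
    obtain ⟨zx, hzx⟩ := exists_ptSub_pt X x
    have hWne : (p.W : Set (X.ptSub x).scheme).Nonempty := ⟨zx, by
      show X.ptSubι x zx ∈ N
      rw [hzx]; exact hxN⟩
    have hNF : ContainsFj X j N := fun y hy => hUN (hU y hy)
    have hdN : WeilCoh.dim (N : Scheme.{u}) = WeilCoh.dim X.scheme := dim_eq_of_containsFj X j N hNF
    have hdU : WeilCoh.dim (U : Scheme.{u}) = WeilCoh.dim X.scheme := dim_eq_of_containsFj X j U hU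
    have hdim : WeilCoh.dim (p.U₀ : Scheme.{u}) = WeilCoh.dim (p.U : Scheme.{u}) := hdU.trans hdN.symm
    have hcod : (p.decomp hdim).codim = ((j : ℤ) + 1) := by
      rw [decomp_codim p hWne hdN hdim, hx]; push_cast; ring
    have hiD : i' = i + 1 - 2 * (p.decomp hdim).codim := by rw [hcod]; exact hi
    have hnD : n' = n - (p.decomp hdim).codim := by rw [hcod]; exact hn
    have h0 := hα ⟨x, hx⟩
    rw [← hβ] at h0
    have h1 := resData_cpt_piece_apply T Q ⟨x, hx⟩ M i n i' n' hi hn p hWne hU hdN hdim hiD hnD β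
    rw [h1] at h0
    obtain ⟨W', hW'le, hW'0⟩ := ocolim_rep_eq_zero T (X.ptSub x)
      (fun U => (U : Set (X.ptSub x).scheme).Nonempty) i' n' M (mkPt X x p.W hWne) _ h0
    -- the smaller piece
    let q : Piece X x := Piece.ofW W'.1 N (fun z hz => hW'le hz)
    have hzxW' : zx ∈ W'.1 := generic_mem_of_nonempty W'.1 W'.2.1 zx hzx
    have hxq : x ∈ q.U := ⟨hxN, by
      have := (ptSubι_mem_openCompl (W := W'.1) zx).mpr hzxW'
      rwa [hzx] at this⟩
    have hUq : U ≤ q.U := fun y hy =>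
      ⟨hUN hy, mem_openCompl_of_not_mem_closure (not_mem_closure_of_mem_open U hxU hy)⟩
    have hq₀U : q.U₀ ≤ U := fun y hy => hN y hy.1.1 hy.2
    have hqF : ContainsFj X j q.U := fun y hy => hUq (hU y hy)
    have hq₀F : ContainsFj X j q.U₀ := fun y hy => ⟨hqF y hy, containsFj_clCompl hx y hy⟩
    have hlt : U < q.U := lt_of_le_of_ne hUq (fun h => hxU (h ▸ hxq))
    have hdq : WeilCoh.dim (q.U : Scheme.{u}) = WeilCoh.dim X.scheme := dim_eq_of_containsFj X j q.U hqF
    have hdq₀ : WeilCoh.dim (q.U₀ : Scheme.{u}) = WeilCoh.dim X.scheme :=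
      dim_eq_of_containsFj X j q.U₀ hq₀F
    have hdimq : WeilCoh.dim (q.U₀ : Scheme.{u}) = WeilCoh.dim (q.U : Scheme.{u}) := hdq₀.trans hdq.symm
    have hcodq : (q.decomp hdimq).codim = ((j : ℤ) + 1) := by
      rw [decomp_codim q W'.2.1 hdq hdimq, hx]; push_cast; ring
    have hiDq : i' = i + 1 - 2 * (q.decomp hdimq).codim := by rw [hcodq]; exact hi
    have hnDq : n' = n - (q.decomp hdimq).codim := by rw [hcodq]; exact hn
    have hqN : q.U ≤ N := inf_le_left
    let g : X.res q.U ⟶ X.res N := X.resLE hqN (hdq.trans hdN.symm)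
    let gZ : (X.ptSub x).res W'.1 ⟶ (X.ptSub x).res p.W :=
      (X.ptSub x).resLE hW'le (W'.2.2.trans (dim_ptSub_open X x p.W hWne).symm)
    let gU : X.res q.U₀ ⟶ X.res U := X.resLE hq₀U (hdq₀.trans hdU.symm)
    have c1 : gZ.hom ≫ (p.decomp hdim).i = (q.decomp hdimq).i ≫ g.hom := by
      show (X.ptSub x).scheme.homOfLE hW'le ≫ p.f = q.f ≫ X.scheme.homOfLE hqN
      rw [← cancel_mono N.ι, Category.assoc, Category.assoc, Scheme.homOfLE_ι]
      have e1 : p.f ≫ N.ι = p.W.ι ≫ X.ptSubι x := p.f_fac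
      have e2 : q.f ≫ q.U.ι = q.W.ι ≫ X.ptSubι x := q.f_fac
      rw [e1, e2, Scheme.homOfLE_ι_assoc]
    have c2 : gU ≫ (p.decomp hdim).j = (q.decomp hdimq).j ≫ g := by
      apply Hom.ext
      show X.scheme.homOfLE hq₀U ≫ X.scheme.homOfLE p.U₀_le = X.scheme.homOfLE q.U₀_le ≫ X.scheme.homOfLE hqN
      rw [Scheme.homOfLE_homOfLE, Scheme.homOfLE_homOfLE]
    have hrp := T.res_pull (p.decomp hdim) (q.decomp hdimq) g gZ gU c1 c2 M i n i' n' hiD hnD hiDq hnDq
    have hrp' := congrArg (fun φ => φ.hom β) hrp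
    simp only [ModuleCat.hom_comp, LinearMap.comp_apply] at hrp'
    have hz : (T.res (q.decomp hdimq) M i n i' n' hiDq hnDq).hom ((T.pull gU M i n).hom β) = 0 := by
      rw [← hrp']
      exact hW'0
    have hex := T.exact_pull_res (q.decomp hdimq) M i n i' n' hiDq hnDq
    obtain ⟨β', hβ'⟩ := (hex _).mp hz
    refine IH q.U hlt hqF β' ?_
    rw [← hβ]
    rw [← ocolimι_resLE_apply T X (ContainsFj X j) i n M (mkFj X j q.U hqF) (mkFj X j q.U₀ hq₀F) q.U₀_le]
    rw [← ocolimι_resLE_apply T X (ContainsFj X j) i n M (mkFj X j U hU) (mkFj X j q.U₀ hq₀F) hq₀U]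
    congr 1

end Groth.Agent.Lib.Helper27BMCoh

namespace Groth.Agent.Lib.Helper27BMCoh

variable {V : ObjectProperty Scheme.{u}} [IsConstructible V]
variable {R : Type u} [CommRing R] {A : Coefs R} (T : PreTheory V R A)

theorem exact_fjRes_resTot {X : Obj V} {j : ℕ} (Q : T.ResData X j) (M : A.Cat)
    (i n i' n' : ℤ) (hi : i' = i + 1 - 2 * ((j : ℤ) + 1)) (hn : n' = n - ((j : ℤ) + 1)) :
    Function.Exact ((T.fjRes X (Nat.le_succ j) i n).app M).hom (Q.tot M i n i' n' hi hn).hom := by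
  intro α
  constructor
  · intro hα
    have hα' : ∀ x : X.cdPt (j + 1), (Q.cpt x M i n i' n' hi hn).hom α = 0 := by
      intro x
      have := congrArg (fun ξ => ξ x) hα
      rw [← PreTheory.ResData.tot_apply]
      exact this
    obtain ⟨U, β, hβ⟩ := ocolim_exists_rep T X (ContainsFj X j) i n M α
    exact extend T Q M i n i' n' hi hn α hα' U.1 U.2.1 β hβ
  · rintro ⟨α, rfl⟩
    refine DFinsupp.ext (fun x => ?_)
    rw [PreTheory.ResData.tot_apply]
    exact cpt_fjRes_eq_zero T Q x M i n i' n' hi hn α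

end Groth.Agent.Lib.Helper27BMCoh
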