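import Mathlib
import Groth.Prelude.Def_BMCoh3
import Groth.Agent.Lib.Helper27BMCohResExact

set_option autoImplicit false
universe u
open CategoryTheory CategoryTheory.Limits AlgebraicGeometry Opposite TopologicalSpace
open BMCoh

namespace Groth.Agent.Lib.Helper27BMCoh

variable {V : ObjectProperty Scheme.{u}} [IsConstructible V]
variable {R : Type u} [CommRing R] {A : Coefs R} (T : PreTheory V R A)

omit [IsConstructible V] in
lemma mem_range_homOfLE {X : Scheme.{u}} {U' U : X.Opens} (h : U' ≤ U) (u : (U : Scheme.{u})) :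
    u ∈ Set.range (X.homOfLE h) ↔ U.ι u ∈ U' := by
  have hcomp : ∀ v : (U' : Scheme.{u}), U.ι ((X.homOfLE h) v) = U'.ι v := by
    intro v
    have := congr($(X.homOfLE_ι h) v)
    rwa [Scheme.Hom.comp_apply] at this
  constructor
  · rintro ⟨v, rfl⟩
    rw [hcomp]; exact mem_of_ι v
  · intro hu
    obtain ⟨v, hv⟩ := exists_of_mem hu
    refine ⟨v, ?_⟩
    apply U.ι.isOpenEmbedding.injective
    rw [hcomp, hv]

/-- The cartesian square relating two pieces of the same point. -/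
lemma isPullback_piece {X : Obj V} {x : X.scheme} (p q : Piece X x) (hW : q.W ≤ p.W)
    (hU : q.U ≤ p.U) :
    IsPullback ((X.ptSub x).scheme.homOfLE hW) q.f p.f (X.scheme.homOfLE hU) := by
  have H : (X.ptSub x).scheme.homOfLE hW ≫ p.f = q.f ≫ X.scheme.homOfLE hU := by
    rw [← cancel_mono p.U.ι, Category.assoc, Category.assoc, Scheme.homOfLE_ι]
    have e1 : p.f ≫ p.U.ι = p.W.ι ≫ X.ptSubι x := p.f_fac
    have e2 : q.f ≫ q.U.ι = q.W.ι ≫ X.ptSubι x := q.f_fac
    rw [e1, e2, Scheme.homOfLE_ι_assoc]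
  refine (IsOpenImmersion.isPullback q.f ((X.ptSub x).scheme.homOfLE hW) (X.scheme.homOfLE hU) p.f
    H ?_).flip
  ext w
  show p.f w ∈ Set.range (X.scheme.homOfLE hU) ↔ w ∈ Set.range ((X.ptSub x).scheme.homOfLE hW)
  rw [mem_range_homOfLE, mem_range_homOfLE, p.f_apply]
  exact (q.hW _).symm

/-- Base change for push-forward along pieces. -/
theorem push_pull_piece {X : Obj V} {x : X.scheme} (p q : Piece X x) (hW : q.W ≤ p.W)
    (hU : q.U ≤ p.U)
    (dW : WeilCoh.dim (q.W : Scheme.{u}) = WeilCoh.dim (p.W : Scheme.{u}))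
    (dU : WeilCoh.dim (q.U : Scheme.{u}) = WeilCoh.dim (p.U : Scheme.{u}))
    (M : A.Cat) (i n i' n' : ℤ)
    (hi : i' = i + 2 * relCodim (p.W : Scheme.{u}) (p.U : Scheme.{u}))
    (hn : n' = n + relCodim (p.W : Scheme.{u}) (p.U : Scheme.{u}))
    (hi' : i' = i + 2 * relCodim (q.W : Scheme.{u}) (q.U : Scheme.{u}))
    (hn' : n' = n + relCodim (q.W : Scheme.{u}) (q.U : Scheme.{u})) :
    T.push (X := (X.ptSub x).res p.W) (Y := X.res p.U) p.f M i n i' n' hi hn ≫
        T.pull (X.resLE hU dU) M i' n' =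
      T.pull ((X.ptSub x).resLE hW dW) M i n ≫
        T.push (X := (X.ptSub x).res q.W) (Y := X.res q.U) q.f M i n i' n' hi' hn' :=
  T.push_pull (X := (X.ptSub x).res p.W) (Y := X.res p.U) (X' := (X.ptSub x).res q.W)
    (Y' := X.res q.U) p.f q.f (X.resLE hU dU) ((X.ptSub x).resLE hW dW)
    (isPullback_piece p q hW hU) M i n i' n' hi hn hi' hn'

theorem push_pull_piece_apply {X : Obj V} {x : X.scheme} (p q : Piece X x) (hW : q.W ≤ p.W)
    (hU : q.U ≤ p.U)
    (dW : WeilCoh.dim (q.W : Scheme.{u}) = WeilCoh.dim (p.W : Scheme.{u}))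
    (dU : WeilCoh.dim (q.U : Scheme.{u}) = WeilCoh.dim (p.U : Scheme.{u}))
    (M : A.Cat) (i n i' n' : ℤ)
    (hi : i' = i + 2 * relCodim (p.W : Scheme.{u}) (p.U : Scheme.{u}))
    (hn : n' = n + relCodim (p.W : Scheme.{u}) (p.U : Scheme.{u}))
    (hi' : i' = i + 2 * relCodim (q.W : Scheme.{u}) (q.U : Scheme.{u}))
    (hn' : n' = n + relCodim (q.W : Scheme.{u}) (q.U : Scheme.{u}))
    (γ : T.gp ((X.ptSub x).res p.W) M i n) :
    (T.pull (X.resLE hU dU) M i' n').hom
        ((T.push (X := (X.ptSub x).res p.W) (Y := X.res p.U) p.f M i n i' n' hi hn).hom γ) =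
      (T.push (X := (X.ptSub x).res q.W) (Y := X.res q.U) q.f M i n i' n' hi' hn').hom
        ((T.pull ((X.ptSub x).resLE hW dW) M i n).hom γ) := by
  have := congrArg (fun φ => φ.hom γ) (push_pull_piece T p q hW hU dW dU M i n i' n' hi hn hi' hn')
  simp only [ModuleCat.hom_comp, LinearMap.comp_apply] at this
  exact this

end Groth.Agent.Lib.Helper27BMCoh
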