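import Mathlib
import Groth.Prelude.Def_BMCoh3
import Groth.Agent.Lib.Helper27BMCohBC

set_option autoImplicit false
universe u
open CategoryTheory CategoryTheory.Limits AlgebraicGeometry Opposite TopologicalSpace
open BMCoh

namespace Groth.Agent.Lib.Helper27BMCoh

variable {V : ObjectProperty Scheme.{u}} [IsConstructible V]
variable {R : Type u} [CommRing R] {A : Coefs R} (T : PreTheory V R A)

/-- Injectivity induction: a class on `U ⊇ F_{j+1}X` vanishing on `U' ⊇ F_jX` dies in `H(F_{j+1}X)`,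
if the groups of the points of codimension `j+1` vanish in the relevant degree. -/
theorem vanish_of_vanish_on_Fj {X : Obj V} {j : ℕ} (M : A.Cat) (i n i₀ n₀ : ℤ)
    (hi : i = i₀ + 2 * ((j + 1 : ℕ) : ℤ)) (hn : n = n₀ + ((j + 1 : ℕ) : ℤ))
    (h0 : ∀ x : X.scheme, WeilCoh.codim X.scheme x = j + 1 → IsZero (T.ptGp X x M i₀ n₀)) :
    ∀ (U' : X.scheme.Opens) (hU' : ContainsFj X j U') (U : Idx X (ContainsFj X (j + 1)))
      (hle : U' ≤ U.1) (β : T.gp (X.res U.1) M i n),
      (T.pull (X.resLE hle ((dim_eq_of_containsFj X j U' hU').trans U.2.2.symm)) M i n).hom β = 0 →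
      ((T.fjι X (j + 1) i n U).app M).hom β = 0 := by
  obtain ⟨k, rfl⟩ : ∃ k, i = k + 1 := ⟨i - 1, by ring⟩
  have hwf : WellFoundedGT X.scheme.Opens := noetherianSpace X
  intro U'
  induction U' using hwf.induction with
  | ind U' IH =>
  intro hU' U hle β hβ
  by_cases hcase : ContainsFj X (j + 1) U'
  · rw [← ocolimι_resLE_apply T X (ContainsFj X (j + 1)) (k + 1) n M U (mkFj X (j + 1) U' hcase) hle]
    rw [hβ, map_zero]
  · unfold ContainsFj at hcase
    push Not at hcase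
    obtain ⟨x, hxle, hxU'⟩ := hcase
    have hx : WeilCoh.codim X.scheme x = j + 1 := by
      by_contra hne
      exact hxU' (hU' x (by omega))
    have hxU : x ∈ U.1 := U.2.1 x hxle
    obtain ⟨N, hxN, hU'N, hN⟩ := exists_nbhd_piece X j U' hU' x hx
    let U'' : X.scheme.Opens := U.1 ⊓ N
    have hU'U'' : U' ≤ U'' := le_inf hle hU'N
    have hxU'' : x ∈ U'' := ⟨hxU, hxN⟩
    have hU''Fj : ContainsFj X j U'' := fun y hy => hU'U'' (hU' y hy)
    have hU''U : U'' ≤ U.1 := inf_le_left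
    let p : Piece X x := Piece.ofOpen' U'' U' (fun y => by
      constructor
      · intro hy
        exact ⟨hU'U'' hy, not_mem_closure_of_mem_open U' hxU' hy⟩
      · rintro ⟨hy, hycl⟩
        exact hN y hy.2 hycl)
    obtain ⟨zx, hzx⟩ := exists_ptSub_pt X x
    have hWne : (p.W : Set (X.ptSub x).scheme).Nonempty := ⟨zx, by
      show X.ptSubι x zx ∈ U''
      rw [hzx]; exact hxU''⟩
    have hdU'' : WeilCoh.dim (U'' : Scheme.{u}) = WeilCoh.dim X.scheme :=
      dim_eq_of_containsFj X j U'' hU''Fj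
    have hdU' : WeilCoh.dim (U' : Scheme.{u}) = WeilCoh.dim X.scheme :=
      dim_eq_of_containsFj X j U' hU'
    have hrc : relCodim (p.W : Scheme.{u}) (p.U : Scheme.{u}) = ((j + 1 : ℕ) : ℤ) := by
      rw [relCodim_piece p.W hWne p.U hdU'', hx]
    have hip : k + 1 = i₀ + 2 * relCodim (p.W : Scheme.{u}) (p.U : Scheme.{u}) := by
      rw [hrc]; exact hi
    have hnp : n = n₀ + relCodim (p.W : Scheme.{u}) (p.U : Scheme.{u}) := by
      rw [hrc]; exact hn
    have hex := T.exact_push_pull (p.decomp (hdU'.trans hdU''.symm)) M k n i₀ n₀ hip hnp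
    let β'' := (T.pull (X.resLE hU''U (hdU''.trans U.2.2.symm)) M (k + 1) n).hom β
    have hβ'' : (T.pull (X.resLE p.U₀_le (hdU'.trans hdU''.symm)) M (k + 1) n).hom β'' = 0 := by
      show (T.pull (X.resLE p.U₀_le (hdU'.trans hdU''.symm)) M (k + 1) n).hom
        ((T.pull (X.resLE hU''U (hdU''.trans U.2.2.symm)) M (k + 1) n).hom β) = 0
      rw [pull_comp_apply, resLE_comp]
      exact hβ
    obtain ⟨γ, hγ⟩ := (hex β'').mp hβ''
    -- γ dies in the group of the point
    have hγ0 : ((T.ptι X x i₀ n₀ (mkPt X x p.W hWne)).app M).hom γ = 0 := by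
      have := (ModuleCat.isZero_iff_subsingleton.mp (h0 x hx))
      exact Subsingleton.elim _ _
    obtain ⟨W₃, hW₃le, hW₃0⟩ := ocolim_rep_eq_zero T (X.ptSub x)
      (fun U => (U : Set (X.ptSub x).scheme).Nonempty) i₀ n₀ M (mkPt X x p.W hWne) γ hγ0
    let q : Piece X x := Piece.ofW W₃.1 U'' (fun z hz => hW₃le hz)
    have hzxW₃ : zx ∈ W₃.1 := generic_mem_of_nonempty W₃.1 W₃.2.1 zx hzx
    have hxq : x ∈ q.U := ⟨hxU'', by
      have := (ptSubι_mem_openCompl (W := W₃.1) zx).mpr hzxW₃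
      rwa [hzx] at this⟩
    have hU'q : U' ≤ q.U := fun y hy =>
      ⟨hU'U'' hy, mem_openCompl_of_not_mem_closure (not_mem_closure_of_mem_open U' hxU' hy)⟩
    have hlt : U' < q.U := lt_of_le_of_ne hU'q (fun h => hxU' (h ▸ hxq))
    have hqF : ContainsFj X j q.U := fun y hy => hU'q (hU' y hy)
    have hdq : WeilCoh.dim (q.U : Scheme.{u}) = WeilCoh.dim X.scheme := dim_eq_of_containsFj X j q.U hqF
    have hqU'' : q.U ≤ U'' := inf_le_left
    have hqU : q.U ≤ U.1 := hqU''.trans hU''U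
    have hrcq : relCodim (q.W : Scheme.{u}) (q.U : Scheme.{u}) = ((j + 1 : ℕ) : ℤ) := by
      rw [relCodim_piece q.W W₃.2.1 q.U hdq, hx]
    have hiq : k + 1 = i₀ + 2 * relCodim (q.W : Scheme.{u}) (q.U : Scheme.{u}) := by
      rw [hrcq]; exact hi
    have hnq : n = n₀ + relCodim (q.W : Scheme.{u}) (q.U : Scheme.{u}) := by
      rw [hrcq]; exact hn
    refine IH q.U hlt hqF U hqU β ?_
    have e1 : (T.pull (X.resLE hqU ((dim_eq_of_containsFj X j q.U hqF).trans U.2.2.symm)) M (k + 1) n).hom β =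
        (T.pull (X.resLE hqU'' (hdq.trans hdU''.symm)) M (k + 1) n).hom β'' := by
      show _ = (T.pull (X.resLE hqU'' (hdq.trans hdU''.symm)) M (k + 1) n).hom
        ((T.pull (X.resLE hU''U (hdU''.trans U.2.2.symm)) M (k + 1) n).hom β)
      rw [pull_comp_apply, resLE_comp]
    rw [e1, ← hγ]
    have hbc := push_pull_piece_apply T p q hW₃le hqU''
      (W₃.2.2.trans (dim_ptSub_open X x p.W hWne).symm) (hdq.trans hdU''.symm) M i₀ n₀ (k + 1) n
      hip hnp hiq hnq γ
    rw [hbc, hW₃0, map_zero]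

/-- (b): a class of `H(F_jX)` with vanishing residues extends to `F_{j+1}X`. -/
theorem extend_of_vanish {X : Obj V} {j : ℕ} (M : A.Cat)
    (i n i' n' : ℤ) (hi : i' = i + 1 - 2 * ((j : ℤ) + 1)) (hn : n' = n - ((j : ℤ) + 1))
    (hv : ∀ x : X.scheme, WeilCoh.codim X.scheme x = j + 1 → IsZero (T.ptGp X x M i' n'))
    (α : T.fjGp X j M i n) :
    ∀ (U : X.scheme.Opens) (hU : ContainsFj X j U) (β : T.gp (X.res U) M i n),
      ((T.fjι X j i n (mkFj X j U hU)).app M).hom β = α →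
      α ∈ LinearMap.range ((T.fjRes X (Nat.le_succ j) i n).app M).hom := by
  have hwf : WellFoundedGT X.scheme.Opens := noetherianSpace X
  intro U
  induction U using hwf.induction with
  | ind U IH =>
  intro hU β hβ
  by_cases hcase : ContainsFj X (j + 1) U
  · refine ⟨((T.fjι X (j + 1) i n (mkFj X (j + 1) U hcase)).app M).hom β, ?_⟩
    rw [ocolimι_ocolimMap_apply]
    exact hβ
  · unfold ContainsFj at hcase
    push Not at hcase
    obtain ⟨x, hxle, hxU⟩ := hcase
    have hx : WeilCoh.codim X.scheme x = j + 1 := by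
      by_contra hne
      exact hxU (hU x (by omega))
    obtain ⟨N, hxN, hUN, hN⟩ := exists_nbhd_piece X j U hU x hx
    let p : Piece X x := Piece.ofOpen' N U (fun y => by
      constructor
      · intro hy
        exact ⟨hUN hy, not_mem_closure_of_mem_open U hxU hy⟩
      · rintro ⟨hy, hycl⟩
        exact hN y hy hycl)
    obtain ⟨zx, hzx⟩ := exists_ptSub_pt X x
    have hWne : (p.W : Set (X.ptSub x).scheme).Nonempty := ⟨zx, by
      show X.ptSubι x zx ∈ N
      rw [hzx]; exact hxN⟩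
    have hNF : ContainsFj X j N := fun y hy => hUN (hU y hy)
    have hdN : WeilCoh.dim (N : Scheme.{u}) = WeilCoh.dim X.scheme := dim_eq_of_containsFj X j N hNF
    have hdU : WeilCoh.dim (U : Scheme.{u}) = WeilCoh.dim X.scheme := dim_eq_of_containsFj X j U hU
    have hdim : WeilCoh.dim (p.U₀ : Scheme.{u}) = WeilCoh.dim (p.U : Scheme.{u}) := hdU.trans hdN.symm
    have hcod : (p.decomp hdim).codim = ((j : ℤ) + 1) := by
      rw [decomp_codim p hWne hdN hdim, hx]; push_cast; ring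
    have hiD : i' = i + 1 - 2 * (p.decomp hdim).codim := by rw [hcod]; exact hi
    have hnD : n' = n - (p.decomp hdim).codim := by rw [hcod]; exact hn
    have h0 : ((T.ptι X x i' n' (mkPt X x p.W hWne)).app M).hom
        ((T.res (p.decomp hdim) M i n i' n' hiD hnD).hom β) = 0 := by
      have := (ModuleCat.isZero_iff_subsingleton.mp (hv x hx))
      exact Subsingleton.elim _ _
    obtain ⟨W', hW'le, hW'0⟩ := ocolim_rep_eq_zero T (X.ptSub x)
      (fun U => (U : Set (X.ptSub x).scheme).Nonempty) i' n' M (mkPt X x p.W hWne) _ h0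
    -- the smaller piece
    let q : Piece X x := Piece.ofW W'.1 N (fun z hz => hW'le hz)
    have hzxW' : zx ∈ W'.1 := generic_mem_of_nonempty W'.1 W'.2.1 zx hzx
    have hxq : x ∈ q.U := ⟨hxN, by
      have := (ptSubι_mem_openCompl (W := W'.1) zx).mpr hzxW'
      rwa [hzx] at this⟩
    have hUq : U ≤ q.U := fun y hy =>
      ⟨hUN hy, mem_openCompl_of_not_mem_closure (not_mem_closure_of_mem_open U hxU hy)⟩
    have hq₀U : q.U₀ ≤ U := fun y hy => hN y hy.1.1 hy.2
    have hqF : ContainsFj X j q.U := fun y hy => hUq (hU y hy)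
    have hq₀F : ContainsFj X j q.U₀ := fun y hy => ⟨hqF y hy, containsFj_clCompl hx y hy⟩
    have hlt : U < q.U := lt_of_le_of_ne hUq (fun h => hxU (h ▸ hxq))
    have hdq : WeilCoh.dim (q.U : Scheme.{u}) = WeilCoh.dim X.scheme := dim_eq_of_containsFj X j q.U hqF
    have hdq₀ : WeilCoh.dim (q.U₀ : Scheme.{u}) = WeilCoh.dim X.scheme :=
      dim_eq_of_containsFj X j q.U₀ hq₀F
    have hdimq : WeilCoh.dim (q.U₀ : Scheme.{u}) = WeilCoh.dim (q.U : Scheme.{u}) := hdq₀.trans hdq.symm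
    have hcodq : (q.decomp hdimq).codim = ((j : ℤ) + 1) := by
      rw [decomp_codim q W'.2.1 hdq hdimq, hx]; push_cast; ring
    have hiDq : i' = i + 1 - 2 * (q.decomp hdimq).codim := by rw [hcodq]; exact hi
    have hnDq : n' = n - (q.decomp hdimq).codim := by rw [hcodq]; exact hn
    have hqN : q.U ≤ N := inf_le_left
    let g : X.res q.U ⟶ X.res N := X.resLE hqN (hdq.trans hdN.symm)
    let gZ : (X.ptSub x).res W'.1 ⟶ (X.ptSub x).res p.W :=
      (X.ptSub x).resLE hW'le (W'.2.2.trans (dim_ptSub_open X x p.W hWne).symm)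
    let gU : X.res q.U₀ ⟶ X.res U := X.resLE hq₀U (hdq₀.trans hdU.symm)
    have c1 : gZ.hom ≫ (p.decomp hdim).i = (q.decomp hdimq).i ≫ g.hom := by
      show (X.ptSub x).scheme.homOfLE hW'le ≫ p.f = q.f ≫ X.scheme.homOfLE hqN
      rw [← cancel_mono N.ι, Category.assoc, Category.assoc, Scheme.homOfLE_ι]
      have e1 : p.f ≫ N.ι = p.W.ι ≫ X.ptSubι x := p.f_fac
      have e2 : q.f ≫ q.U.ι = q.W.ι ≫ X.ptSubι x := q.f_fac
      rw [e1, e2, Scheme.homOfLE_ι_assoc]
    have c2 : gU ≫ (p.decomp hdim).j = (q.decomp hdimq).j ≫ g := by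
      apply Hom.ext
      show X.scheme.homOfLE hq₀U ≫ X.scheme.homOfLE p.U₀_le = X.scheme.homOfLE q.U₀_le ≫ X.scheme.homOfLE hqN
      rw [Scheme.homOfLE_homOfLE, Scheme.homOfLE_homOfLE]
    have hrp := T.res_pull (p.decomp hdim) (q.decomp hdimq) g gZ gU c1 c2 M i n i' n' hiD hnD hiDq hnDq
    have hrp' := congrArg (fun φ => φ.hom β) hrp
    simp only [ModuleCat.hom_comp, LinearMap.comp_apply] at hrp'
    have hz : (T.res (q.decomp hdimq) M i n i' n' hiDq hnDq).hom ((T.pull gU M i n).hom β) = 0 := by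
      rw [← hrp']
      exact hW'0
    have hex := T.exact_pull_res (q.decomp hdimq) M i n i' n' hiDq hnDq
    obtain ⟨β', hβ'⟩ := (hex _).mp hz
    refine IH q.U hlt hqF β' ?_
    rw [← hβ]
    rw [← ocolimι_resLE_apply T X (ContainsFj X j) i n M (mkFj X j q.U hqF) (mkFj X j q.U₀ hq₀F) q.U₀_le]
    rw [← ocolimι_resLE_apply T X (ContainsFj X j) i n M (mkFj X j U hU) (mkFj X j q.U₀ hq₀F) hq₀U]
    congr 1


/-- Bijectivity criterion for the restriction `H(F_{j+1}X) → H(F_jX)`. -/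
theorem fjRes_bijective_of_vanish {X : Obj V} {j : ℕ} (M : A.Cat) (i n : ℤ)
    (h0 : ∀ x : X.scheme, WeilCoh.codim X.scheme x = j + 1 →
      IsZero (T.ptGp X x M (i - 2 * ((j : ℤ) + 1)) (n - ((j : ℤ) + 1))))
    (h1 : ∀ x : X.scheme, WeilCoh.codim X.scheme x = j + 1 →
      IsZero (T.ptGp X x M (i + 1 - 2 * ((j : ℤ) + 1)) (n - ((j : ℤ) + 1)))) :
    Function.Bijective ((T.fjRes X (Nat.le_succ j) i n).app M).hom := by
  constructor
  · rw [injective_iff_map_eq_zero]
    intro α hα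
    obtain ⟨U, β, rfl⟩ := ocolim_exists_rep T X (ContainsFj X (j + 1)) i n M α
    rw [ocolimι_ocolimMap_apply] at hα
    obtain ⟨U', hle, hβ⟩ := ocolim_rep_eq_zero T X (ContainsFj X j) i n M
      (⟨U.1, containsFj_mono X (Nat.le_succ j) _ U.2.1, U.2.2⟩ : Idx X (ContainsFj X j)) β hα
    exact vanish_of_vanish_on_Fj T M i n (i - 2 * ((j : ℤ) + 1)) (n - ((j : ℤ) + 1))
      (by push_cast; ring) (by push_cast; ring) h0 U'.1 U'.2.1 U hle β hβ
  · intro α
    obtain ⟨U, β, hβ⟩ := ocolim_exists_rep T X (ContainsFj X j) i n M α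
    exact extend_of_vanish T M i n (i + 1 - 2 * ((j : ℤ) + 1)) (n - ((j : ℤ) + 1)) rfl rfl h1 α
      U.1 U.2.1 β hβ

end Groth.Agent.Lib.Helper27BMCoh
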