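import Mathlib
import Groth.Prelude.Def_BMCoh3
import Groth.Agent.Lib.Helper27BMCohBij

set_option autoImplicit false
universe u
open CategoryTheory CategoryTheory.Limits AlgebraicGeometry Opposite TopologicalSpace
open BMCoh

namespace Groth.Agent.Lib.Helper27BMCoh

variable {V : ObjectProperty Scheme.{u}} [IsConstructible V]
variable {R : Type u} [CommRing R] {A : Coefs R} (T : PreTheory V R A)

omit [IsConstructible V] in
lemma codim_le_dim (X : Obj V) (y : X.scheme) : WeilCoh.codim X.scheme y ≤ WeilCoh.dim X.scheme := by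
  unfold WeilCoh.codim; omega

omit [IsConstructible V] in
lemma eq_top_of_containsFj (X : Obj V) {j : ℕ} (hj : WeilCoh.dim X.scheme ≤ j) (U : X.scheme.Opens)
    (hU : ContainsFj X j U) : U = ⊤ := by
  ext y
  simp only [TopologicalSpace.Opens.coe_top, Set.mem_univ, iff_true]
  exact hU y ((codim_le_dim X y).trans hj)

lemma resLE_rfl (X : Obj V) (U : X.scheme.Opens) (h : U ≤ U)
    (hd : WeilCoh.dim (U : Scheme.{u}) = WeilCoh.dim (U : Scheme.{u})) : X.resLE h hd = 𝟙 _ :=
  Hom.ext (Scheme.homOfLE_rfl _ _)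

/-- The inverse of `resTop`. -/
noncomputable def resTopInv (X : Obj V) : X ⟶ X.res ⊤ :=
  ⟨X.scheme.topIso.inv, inferInstance, (dim_top X.scheme).symm⟩

lemma resTop_resTopInv (X : Obj V) : X.resTop ≫ resTopInv X = 𝟙 _ := by
  apply Hom.ext
  show (⊤ : X.scheme.Opens).ι ≫ X.scheme.topIso.inv = 𝟙 _
  exact X.scheme.topIso.hom_inv_id

lemma resTopInv_resTop (X : Obj V) : resTopInv X ≫ X.resTop = 𝟙 _ := by
  apply Hom.ext
  show X.scheme.topIso.inv ≫ (⊤ : X.scheme.Opens).ι = 𝟙 _
  exact X.scheme.topIso.inv_hom_id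

lemma pull_resTop_bijective (X : Obj V) (M : A.Cat) (i n : ℤ) :
    Function.Bijective (T.pull X.resTop M i n).hom := by
  refine Function.bijective_iff_has_inverse.mpr ⟨(T.pull (resTopInv X) M i n).hom, ?_, ?_⟩
  · intro b
    rw [pull_comp_apply, resTopInv_resTop, pull_id]; rfl
  · intro b
    rw [pull_comp_apply, resTop_resTopInv, pull_id]; rfl

/-- For `j ≥ dim X` the canonical map from `H(X.res ⊤)` to `H(F_jX)` is bijective. -/
lemma fjι_top_bijective (X : Obj V) {j : ℕ} (hj : WeilCoh.dim X.scheme ≤ j) (M : A.Cat) (i n : ℤ) :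
    Function.Bijective ((T.fjι X j i n (mkFj X j ⊤ (fun _ _ => trivial))).app M).hom := by
  constructor
  · rw [injective_iff_map_eq_zero]
    intro b hb
    obtain ⟨U', hle, h0⟩ := ocolim_rep_eq_zero T X (ContainsFj X j) i n M _ b hb
    obtain ⟨U1, hP, hd⟩ := U'
    have hU1 : U1 = ⊤ := eq_top_of_containsFj X hj U1 hP
    subst hU1
    rw [resLE_rfl, pull_id] at h0
    exact h0
  · intro a
    obtain ⟨U, b, rfl⟩ := ocolim_exists_rep T X (ContainsFj X j) i n M a
    have hU : U.1 = ⊤ := eq_top_of_containsFj X hj U.1 U.2.1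
    refine ⟨(T.pull (X.resLE (le_of_eq hU.symm)
      ((mkFj X j ⊤ (fun _ _ => trivial)).2.2.trans U.2.2.symm)) M i n).hom b, ?_⟩
    exact ocolimι_resLE_apply T X (ContainsFj X j) i n M U (mkFj X j ⊤ (fun _ _ => trivial))
      (le_of_eq hU.symm) b

lemma toFj_bijective_of_dim_le (X : Obj V) {j : ℕ} (hj : WeilCoh.dim X.scheme ≤ j) (M : A.Cat)
    (i n : ℤ) : Function.Bijective ((T.toFj X j i n).app M).hom := by
  have : ((T.toFj X j i n).app M).hom =
      ((T.fjι X j i n (mkFj X j ⊤ (fun _ _ => trivial))).app M).hom ∘ (T.pull X.resTop M i n).hom := by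
    ext b
    rfl
  rw [this]
  exact (fjι_top_bijective T X hj M i n).comp (pull_resTop_bijective T X M i n)

lemma toFj_fjRes (X : Obj V) {j m : ℕ} (h : j ≤ m) (i n : ℤ) :
    T.toFj X m i n ≫ T.fjRes X h i n = T.toFj X j i n := by
  unfold PreTheory.toFj
  rw [Category.assoc]
  congr 1
  exact ocolimι_ocolimMap T X (ContainsFj X m) i n (containsFj_mono X h) _

lemma ocolim_natTrans_ext (X : Obj V) (P : X.scheme.Opens → Prop) (i n : ℤ)
    {G : A.Cat ⥤ ModuleCat.{u} R} (φ ψ : T.ocolim X P i n ⟶ G)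
    (h : ∀ U : Idx X P, T.ocolimι X P i n U ≫ φ = T.ocolimι X P i n U ≫ ψ) : φ = ψ := by
  unfold PreTheory.ocolim at φ ψ
  apply colimit.hom_ext
  intro U
  exact h U.unop

lemma fjRes_comp (X : Obj V) {j m l : ℕ} (h₁ : j ≤ m) (h₂ : m ≤ l) (i n : ℤ) :
    T.fjRes X h₂ i n ≫ T.fjRes X h₁ i n = T.fjRes X (h₁.trans h₂) i n := by
  apply ocolim_natTrans_ext
  intro U
  rw [← Category.assoc, ocolimι_ocolimMap, ocolimι_ocolimMap, ocolimι_ocolimMap]

end Groth.Agent.Lib.Helper27BMCoh

namespace Groth.Agent.Lib.Helper27BMCoh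

variable {V : ObjectProperty Scheme.{u}} [IsConstructible V]
variable {R : Type u} [CommRing R] {A : Coefs R}

lemma fjRes_refl (T : PreTheory V R A) (X : Obj V) (j : ℕ) (i n : ℤ) :
    T.fjRes X (le_refl j) i n = 𝟙 _ := by
  apply ocolim_natTrans_ext
  intro U
  rw [ocolimι_ocolimMap, Category.comp_id]

theorem fjRes_bijective_of_le (T : TheoryOn V R A) (X : Obj V) (M : A.Cat) (j : ℕ) (i n : ℤ)
    (hj : i ≤ 2 * (j : ℤ)) (m : ℕ) (hm : j ≤ m) :
    Function.Bijective ((T.fjRes X hm i n).app M).hom := by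
  induction m, hm using Nat.le_induction with
  | base =>
    rw [fjRes_refl]
    exact Function.bijective_id
  | succ m hm ih =>
    have hcomp := fjRes_comp T.toPreTheory X hm (Nat.le_succ m) i n
    have : ((T.fjRes X (hm.trans (Nat.le_succ m)) i n).app M).hom =
        ((T.fjRes X hm i n).app M).hom ∘ ((T.fjRes X (Nat.le_succ m) i n).app M).hom := by
      rw [← hcomp]
      ext b
      rfl
    rw [this]
    refine ih.comp ?_
    have hjm : (j : ℤ) ≤ (m : ℤ) := by exact_mod_cast hm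
    refine fjRes_bijective_of_vanish T.toPreTheory M i n ?_ ?_
    · intro x _
      exact T.pt_vanish X x M _ _ (by omega)
    · intro x _
      exact T.pt_vanish X x M _ _ (by omega)

theorem toFj_bijective (T : TheoryOn V R A) (X : Obj V) (M : A.Cat) (j : ℕ) (i n : ℤ)
    (hj : i ≤ 2 * (j : ℤ)) : Function.Bijective ((T.toFj X j i n).app M).hom := by
  have hm : j ≤ max j (WeilCoh.dim X.scheme) := le_max_left _ _
  have h1 := toFj_bijective_of_dim_le T.toPreTheory X (le_max_right j (WeilCoh.dim X.scheme)) M i n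
  have h2 := fjRes_bijective_of_le T X M j i n hj _ hm
  have hcomp := toFj_fjRes T.toPreTheory X hm i n
  have : ((T.toFj X j i n).app M).hom =
      ((T.fjRes X hm i n).app M).hom ∘ ((T.toFj X (max j (WeilCoh.dim X.scheme)) i n).app M).hom := by
    rw [← hcomp]
    ext b
    rfl
  rw [this]
  exact h2.comp h1

end Groth.Agent.Lib.Helper27BMCoh
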