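import Mathlib
import Groth.Prelude.Def_BMCoh3
import Groth.Agent.Lib.Helper6Reduced
import Groth.Agent.Lib.Helper27BMCohToFj

set_option autoImplicit false
universe u
open CategoryTheory CategoryTheory.Limits AlgebraicGeometry Opposite TopologicalSpace
open BMCoh

namespace Groth.Agent.Lib.Helper27BMCoh

variable {V : ObjectProperty Scheme.{u}} [IsConstructible V]

/-- The vanishing ideal sheaf of a closed subset gives a reduced subscheme. -/
lemma isReduced_vanishingIdeal_subscheme {X : Scheme.{u}} (C : Closeds X) :
    IsReduced (Scheme.IdealSheafData.vanishingIdeal C).subscheme := by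
  have hsupp : (Scheme.IdealSheafData.vanishingIdeal C).support = C := by
    ext1
    exact Scheme.IdealSheafData.coe_support_vanishingIdeal C
  rw [Groth.Agent.Lib.Helper6.isReduced_subscheme_iff,
    ← Scheme.IdealSheafData.vanishingIdeal_support, hsupp]

instance isReduced_ptSub (X : Obj V) (x : X.scheme) : IsReduced (X.ptSub x).scheme :=
  isReduced_vanishingIdeal_subscheme _

/-- The reduced closed subscheme on a closed subset, as an object. -/
noncomputable abbrev clSub (Y : Obj V) (C : Closeds Y.scheme) : Obj V :=
  ⟨(Scheme.IdealSheafData.vanishingIdeal C).subscheme,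
    IsConstructible.of_isClosedImmersion (Scheme.IdealSheafData.vanishingIdeal C).subschemeι
      (h := inferInstance) Y.mem⟩

noncomputable abbrev clSubι (Y : Obj V) (C : Closeds Y.scheme) : (clSub Y C).scheme ⟶ Y.scheme :=
  (Scheme.IdealSheafData.vanishingIdeal C).subschemeι

lemma range_clSubι (Y : Obj V) (C : Closeds Y.scheme) : Set.range (clSubι Y C) = (C : Set Y.scheme) := by
  rw [Scheme.IdealSheafData.range_subschemeι, Scheme.IdealSheafData.coe_support_vanishingIdeal]

instance isReduced_clSub (Y : Obj V) (C : Closeds Y.scheme) : IsReduced (clSub Y C).scheme :=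
  isReduced_vanishingIdeal_subscheme _

omit [IsConstructible V] in
/-- A closed immersion with open range into a reduced scheme is an open immersion. -/
lemma isOpenImmersion_of_isClosedImmersion_of_isOpen_range {W Z : Scheme.{u}} (f : W ⟶ Z)
    [IsClosedImmersion f] [IsReduced Z] (h : IsOpen (Set.range f)) : IsOpenImmersion f := by
  let O : Z.Opens := ⟨Set.range f, h⟩
  have hsub : Set.range f ⊆ Set.range O.ι := by rw [Scheme.Opens.range_ι]; exact le_rfl
  let f' : W ⟶ (O : Scheme.{u}) := IsOpenImmersion.lift O.ι f hsub
  have hfac : f' ≫ O.ι = f := IsOpenImmersion.lift_fac _ _ _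
  have h1 : IsClosedImmersion (f' ≫ O.ι) := by rw [hfac]; infer_instance
  have h2 : IsClosedImmersion f' := IsClosedImmersion.of_comp f' O.ι
  have h3 : Surjective f' := by
    constructor
    intro o
    have ho : O.ι o ∈ Set.range f := mem_of_ι o
    obtain ⟨w, hw⟩ := ho
    refine ⟨w, ?_⟩
    apply O.ι.isOpenEmbedding.injective
    rw [← Scheme.Hom.comp_apply, hfac]
    exact hw
  have h4 : IsIso f' := isIso_of_isClosedImmersion_of_surjective f'
  rw [← hfac]
  infer_instance

end Groth.Agent.Lib.Helper27BMCoh
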