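import Mathlib
import Groth.Prelude.Def_BMCoh3
import Groth.Agent.Lib.Helper27BMCoh
import Groth.Agent.Lib.Helper27BMCohClSub

set_option autoImplicit false
universe u
open CategoryTheory CategoryTheory.Limits AlgebraicGeometry Opposite TopologicalSpace
open BMCoh

namespace Groth.Agent.Lib.Helper27BMCoh

variable {V : ObjectProperty Scheme.{u}} [IsConstructible V]
variable {R : Type u} [CommRing R] {A : Coefs R} (T : PreTheory V R A)

omit [IsConstructible V] in
/-- Pull-back along a surjective morphism of objects is injective. -/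
lemma pull_injective_of_surjective {W Z : Obj V} (g : W ⟶ Z) (hs : Function.Surjective g.hom)
    (M : A.Cat) (i n : ℤ) : Function.Injective (T.pull g M i n).hom := by
  have hiso : IsIso g.hom := isIso_of_isOpenImmersion_of_opensRange_eq_top g.hom (by
    ext z
    simp only [TopologicalSpace.Opens.coe_top, Set.mem_univ, iff_true]
    exact hs z)
  let h : Z ⟶ W := ⟨inv g.hom, inferInstance, g.dim_eq.symm⟩
  have hg : h ≫ g = 𝟙 Z := Hom.ext (IsIso.inv_hom_id g.hom)
  intro a b hab
  have := congrArg (T.pull h M i n).hom hab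
  rw [pull_comp_apply, pull_comp_apply, hg, pull_id] at this
  exact this

/-- Joint injectivity of restriction to the pieces of a finite clopen cover. -/
theorem eq_zero_of_pull_eq_zero {κ : Type*} [DecidableEq κ] (W : κ → Obj V) (M : A.Cat) (i n : ℤ)
    (B : Finset κ) :
    ∀ (Z : Obj V) (g : ∀ x, x ∈ B → (W x ⟶ Z)),
      (∀ x (hx : x ∈ B) y (hy : y ∈ B), x ≠ y →
        Disjoint (Set.range (g x hx).hom) (Set.range (g y hy).hom)) →
      (∀ z : Z.scheme, ∃ x, ∃ hx : x ∈ B, z ∈ Set.range (g x hx).hom) →
      ∀ a : T.gp Z M i n, (∀ x (hx : x ∈ B), (T.pull (g x hx) M i n).hom a = 0) → a = 0 := by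
  induction B using Finset.induction_on with
  | empty =>
    intro Z g _ hcov a _
    -- Z is empty; use the cover
    have hE : IsEmpty Z.scheme := ⟨fun z => by
      obtain ⟨x, hx, _⟩ := hcov z
      exact absurd hx (Finset.notMem_empty x)⟩
    -- the empty object: use the decomposition Z = Z ⊔ Z
    have hrange : Set.range (𝟙 Z : Z ⟶ Z).hom = (Set.range (𝟙 Z : Z ⟶ Z).hom)ᶜ := by
      ext z; exact isEmptyElim z
    have hb := pull_prod_bijective T (𝟙 Z) (𝟙 Z) hrange M i n
    -- (a, a) has preimages a and ... ; surjectivity onto (a, 0)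
    obtain ⟨c, hc⟩ := hb.2 (a, 0)
    simp only [pull_id, Prod.mk.injEq] at hc
    have h1 : c = a := hc.1
    have h2 : c = 0 := hc.2
    rw [← h1, h2]
  | insert y B' hy IH =>
    intro Z g hdisj hcov a ha
    by_cases hB' : B' = ∅
    · subst hB'
      have hs : Function.Surjective (g y (Finset.mem_insert_self y ∅)).hom := by
        intro z
        obtain ⟨x, hx, hz⟩ := hcov z
        have hxy : x = y := by simpa using hx
        subst hxy
        exact hz
      have h0 := ha y (Finset.mem_insert_self y ∅)
      exact pull_injective_of_surjective T _ hs M i n (by rw [h0, map_zero])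
    · obtain ⟨x₀, hx₀⟩ := Finset.nonempty_iff_ne_empty.mpr hB'
      have hy' : y ∈ insert y B' := Finset.mem_insert_self y B'
      have hmem : ∀ x, x ∈ B' → x ∈ insert y B' := fun x hx => Finset.mem_insert_of_mem hx
      -- range of g y is closed
      have hcompl : (Set.range (g y hy').hom)ᶜ = ⋃ x, ⋃ hx : x ∈ B', Set.range (g x (hmem x hx)).hom := by
        ext z
        simp only [Set.mem_compl_iff, Set.mem_iUnion]
        constructor
        · intro hz
          obtain ⟨x, hx, hzx⟩ := hcov z
          rcases Finset.mem_insert.mp hx with rfl | hx'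
          · exact absurd hzx hz
          · exact ⟨x, hx', hzx⟩
        · rintro ⟨x, hx, hzx⟩ hzy
          have hne : x ≠ y := fun h => hy (h ▸ hx)
          exact (Set.disjoint_left.mp (hdisj x (hmem x hx) y hy' hne)) hzx hzy
      have hopen : IsOpen ((Set.range (g y hy').hom)ᶜ) := by
        rw [hcompl]
        exact isOpen_iUnion fun x => isOpen_iUnion fun hx =>
          (g x (hmem x hx)).hom.isOpenEmbedding.isOpen_range
      let O' : Z.scheme.Opens := ⟨(Set.range (g y hy').hom)ᶜ, hopen⟩
      -- lifts of the other pieces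
      have hsub : ∀ x (hx : x ∈ B'), Set.range (g x (hmem x hx)).hom ⊆ Set.range O'.ι := by
        intro x hx
        rw [Scheme.Opens.range_ι]
        intro z hz
        show z ∈ (Set.range (g y hy').hom)ᶜ
        rw [hcompl]
        simp only [Set.mem_iUnion]
        exact ⟨x, hx, hz⟩
      -- dimension of O'
      have hdO' : WeilCoh.dim (O' : Scheme.{u}) = WeilCoh.dim Z.scheme := by
        refine le_antisymm (dim_open_le Z O') ?_
        rw [← (g x₀ (hmem x₀ hx₀)).dim_eq]
        let l := IsOpenImmersion.lift O'.ι (g x₀ (hmem x₀ hx₀)).hom (hsub x₀ hx₀)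
        have hl : l ≫ O'.ι = (g x₀ (hmem x₀ hx₀)).hom := IsOpenImmersion.lift_fac _ _ _
        have : IsOpenImmersion l := by
          have : IsOpenImmersion (l ≫ O'.ι) := by rw [hl]; infer_instance
          exact IsOpenImmersion.of_comp l O'.ι
        exact natDim_le_of_isInducing l.isOpenEmbedding.isInducing
          (krullDim_subtype_lt_top (finDim Z) _)
      let Z' : Obj V := Z.res O'
      let g' : ∀ x, x ∈ B' → (W x ⟶ Z') := fun x hx =>
        ⟨IsOpenImmersion.lift O'.ι (g x (hmem x hx)).hom (hsub x hx), by
          have hl : IsOpenImmersion.lift O'.ι (g x (hmem x hx)).hom (hsub x hx) ≫ O'.ι =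
            (g x (hmem x hx)).hom := IsOpenImmersion.lift_fac _ _ _
          have : IsOpenImmersion
              (IsOpenImmersion.lift O'.ι (g x (hmem x hx)).hom (hsub x hx) ≫ O'.ι) := by
            rw [hl]; infer_instance
          exact IsOpenImmersion.of_comp _ O'.ι,
          (g x (hmem x hx)).dim_eq.trans hdO'.symm⟩
      have hg' : ∀ x (hx : x ∈ B'), g' x hx ≫ Z.resι O' hdO' = g x (hmem x hx) := by
        intro x hx
        exact Hom.ext (IsOpenImmersion.lift_fac _ _ _)
      have hg'app : ∀ x (hx : x ∈ B') (w : (W x).scheme),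
          O'.ι ((g' x hx).hom w) = (g x (hmem x hx)).hom w := by
        intro x hx w
        have := congr($(congrArg Hom.hom (hg' x hx)) w)
        rwa [comp_hom, Scheme.Hom.comp_apply] at this
      have hres : (T.pull (Z.resι O' hdO') M i n).hom a = 0 := by
        refine IH Z' g' ?_ ?_ _ ?_
        · intro x hx x' hx' hne
          rw [Set.disjoint_left]
          rintro z ⟨w, rfl⟩ ⟨w', hw'⟩
          have h1 : (g x (hmem x hx)).hom w = (g x' (hmem x' hx')).hom w' := by
            rw [← hg'app x hx w, ← hg'app x' hx' w', hw']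
          exact (Set.disjoint_left.mp (hdisj x (hmem x hx) x' (hmem x' hx') hne)) ⟨w, rfl⟩ ⟨w', h1.symm⟩
        · intro z
          have hz : O'.ι z ∈ (Set.range (g y hy').hom)ᶜ := mem_of_ι z
          rw [hcompl] at hz
          simp only [Set.mem_iUnion] at hz
          obtain ⟨x, hx, w, hw⟩ := hz
          refine ⟨x, hx, w, ?_⟩
          apply O'.ι.isOpenEmbedding.injective
          rw [hg'app x hx]; exact hw
        · intro x hx
          rw [pull_comp_apply, hg' x hx]
          exact ha x (hmem x hx)
      have hrange : Set.range (g y hy').hom = (Set.range (Z.resι O' hdO').hom)ᶜ := by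
        show _ = (Set.range O'.ι)ᶜ
        rw [Scheme.Opens.range_ι]
        show _ = ((Set.range (g y hy').hom)ᶜ)ᶜ
        rw [compl_compl]
      have hb := pull_prod_bijective T (g y hy') (Z.resι O' hdO') hrange M i n
      apply hb.1
      simp only [map_zero, Prod.mk.injEq]
      exact ⟨ha y hy', hres⟩

end Groth.Agent.Lib.Helper27BMCoh
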