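import Mathlib
import Groth.Prelude.Def_BMCoh3
import Groth.Agent.Lib.Helper27BMCohJoint

set_option autoImplicit false
universe u
open CategoryTheory CategoryTheory.Limits AlgebraicGeometry Opposite TopologicalSpace
open BMCoh

namespace Groth.Agent.Lib.Helper27BMCoh

variable {V : ObjectProperty Scheme.{u}} [IsConstructible V]

/-- The dimension of the closure of a point of an open subscheme, computed in the open subscheme,
is that computed in the ambient object. -/
lemma pdim_res (X : Obj V) (U : X.scheme.Opens) (y : (U : Scheme.{u})) :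
    WeilCoh.pdim (U : Scheme.{u}) y = WeilCoh.pdim X.scheme (U.ι y) := by
  let p : Piece X (U.ι y) := Piece.ofOpen U
  obtain ⟨zx, hzx⟩ := exists_ptSub_pt X (U.ι y)
  have hWne : (p.W : Set (X.ptSub (U.ι y)).scheme).Nonempty := ⟨zx, by
    show X.ptSubι (U.ι y) zx ∈ U
    rw [hzx]; exact mem_of_ι y⟩
  have h1 : Set.range p.f = closure ({y} : Set (U : Scheme.{u})) := by
    rw [p.range_f, U.ι.isOpenEmbedding.isInducing.closure_eq_preimage_closure_image,
      Set.image_singleton]
  have h2 : WeilCoh.natDim (p.W : Scheme.{u}) = WeilCoh.natDim ↥(Set.range p.f) :=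
    natDim_eq_of_homeomorph (p.f.isClosedEmbedding.isEmbedding.toHomeomorph)
  have h3 : WeilCoh.dim (p.W : Scheme.{u}) = WeilCoh.pdim X.scheme (U.ι y) := by
    rw [dim_ptSub_open X (U.ι y) p.W hWne, dim_ptSub]
  unfold WeilCoh.pdim at h3 ⊢
  rw [← h1, ← h2]
  exact h3

lemma codim_res (X : Obj V) (U : X.scheme.Opens)
    (hd : WeilCoh.dim (U : Scheme.{u}) = WeilCoh.dim X.scheme) (y : (U : Scheme.{u})) :
    WeilCoh.codim (U : Scheme.{u}) y = WeilCoh.codim X.scheme (U.ι y) := by
  unfold WeilCoh.codim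
  rw [pdim_res, hd]

lemma containsFj_preimage (X : Obj V) (j : ℕ) (U U' : X.scheme.Opens)
    (hd : WeilCoh.dim (U : Scheme.{u}) = WeilCoh.dim X.scheme) (hU' : ContainsFj X j U') :
    ContainsFj (X.res U) j (U.ι ⁻¹ᵁ U') := by
  intro y hy
  show U.ι y ∈ U'
  apply hU'
  rw [← codim_res X U hd y]
  exact hy

variable {R : Type u} [CommRing R] {A : Coefs R}

/-- The factorisation of the canonical map through an open of the index family. -/
lemma toFj_eq_pull_resι (T : PreTheory V R A) (X : Obj V) (j : ℕ) (M : A.Cat) (i n : ℤ)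
    (U : Idx X (ContainsFj X j)) (b : T.gp X M i n) :
    ((T.toFj X j i n).app M).hom b =
      ((T.fjι X j i n U).app M).hom ((T.pull (X.resι U.1 U.2.2) M i n).hom b) := by
  have hle : U.1 ≤ (⊤ : X.scheme.Opens) := le_top
  have h1 := ocolimι_resLE_apply T X (ContainsFj X j) i n M
    (mkFj X j ⊤ (fun _ _ => trivial)) U hle ((T.pull X.resTop M i n).hom b)
  have h2 : X.resLE hle (U.2.2.trans (mkFj X j ⊤ (fun _ _ => trivial)).2.2.symm) ≫ X.resTop =
      X.resι U.1 U.2.2 := Hom.ext (Scheme.homOfLE_ι X.scheme hle)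
  rw [pull_comp_apply, h2] at h1
  rw [h1]
  rfl

/-- For `i ≤ 2j`, restriction to an open containing `F_jX` is bijective. -/
theorem pull_resι_bijective (T : TheoryOn V R A) (X : Obj V) (M : A.Cat) (j : ℕ) (i n : ℤ)
    (hj : i ≤ 2 * (j : ℤ)) (U : Idx X (ContainsFj X j)) :
    Function.Bijective (T.pull (X.resι U.1 U.2.2) M i n).hom := by
  have hinj : ∀ (X : Obj V) (U : Idx X (ContainsFj X j)),
      Function.Injective (T.pull (X.resι U.1 U.2.2) M i n).hom := by
    intro X U
    have hb := (toFj_bijective T X M j i n hj).1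
    intro a b hab
    apply hb
    rw [toFj_eq_pull_resι T.toPreTheory X j M i n U, toFj_eq_pull_resι T.toPreTheory X j M i n U, hab]
  refine ⟨hinj X U, ?_⟩
  -- the canonical map from `H(U)` is injective
  have hfjι : Function.Injective ((T.fjι X j i n U).app M).hom := by
    rw [injective_iff_map_eq_zero]
    intro β hβ
    obtain ⟨U', hle, h0⟩ := ocolim_rep_eq_zero T.toPreTheory X (ContainsFj X j) i n M U β hβ
    let Y : Obj V := X.res U.1
    let V' : Y.scheme.Opens := U.1.ι ⁻¹ᵁ U'.1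
    have hV' : ContainsFj Y j V' := containsFj_preimage X j U.1 U'.1 U.2.2 U'.2.1
    have hsub : Set.range (V'.ι ≫ U.1.ι) ⊆ Set.range U'.1.ι := by
      rintro _ ⟨v, rfl⟩
      rw [Scheme.Opens.range_ι, Scheme.Hom.comp_apply]
      exact mem_of_ι (U := V') v
    let l := IsOpenImmersion.lift U'.1.ι (V'.ι ≫ U.1.ι) hsub
    have hl : l ≫ U'.1.ι = V'.ι ≫ U.1.ι := IsOpenImmersion.lift_fac _ _ _
    have hlo : IsOpenImmersion l := by
      have : IsOpenImmersion (l ≫ U'.1.ι) := by rw [hl]; infer_instance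
      exact IsOpenImmersion.of_comp l U'.1.ι
    have hdV' : WeilCoh.dim (V' : Scheme.{u}) = WeilCoh.dim Y.scheme :=
      dim_eq_of_containsFj Y j V' hV'
    let e : Y.res V' ⟶ X.res U'.1 := ⟨l, hlo, hdV'.trans (U.2.2.trans U'.2.2.symm)⟩
    have he : e ≫ X.resLE hle (U'.2.2.trans U.2.2.symm) = Y.resι V' hdV' := by
      apply Hom.ext
      show l ≫ X.scheme.homOfLE hle = V'.ι
      rw [← cancel_mono U.1.ι, Category.assoc, Scheme.homOfLE_ι, hl]
    have h1 : (T.pull (Y.resι V' hdV') M i n).hom β = 0 := by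
      rw [← he, ← pull_comp_apply, h0, map_zero]
    exact hinj Y (mkFj Y j V' hV') (by rw [h1, map_zero])
  intro β
  obtain ⟨b, hb⟩ := (toFj_bijective T X M j i n hj).2 (((T.fjι X j i n U).app M).hom β)
  refine ⟨b, hfjι ?_⟩
  rw [← hb, toFj_eq_pull_resι T.toPreTheory X j M i n U]

/-- Restriction along a morphism of objects whose image contains `F_jX` is bijective for
`i ≤ 2j`. -/
theorem pull_bijective_of_containsFj (T : TheoryOn V R A) {U X : Obj V} (f : U ⟶ X) (M : A.Cat)
    (j : ℕ) (i n : ℤ) (hj : i ≤ 2 * (j : ℤ))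
    (hbig : ∀ x : X.scheme, WeilCoh.codim X.scheme x ≤ j → x ∈ Set.range f.hom) :
    Function.Bijective (T.pull f M i n).hom := by
  let O : X.scheme.Opens := f.hom.opensRange
  have hO : ContainsFj X j O := fun y hy => hbig y hy
  have hdO : WeilCoh.dim (O : Scheme.{u}) = WeilCoh.dim X.scheme := dim_eq_of_containsFj X j O hO
  let f' : U ⟶ X.res O := ⟨f.hom.isoOpensRange.hom, inferInstance, f.dim_eq.trans hdO.symm⟩
  let f'' : X.res O ⟶ U := ⟨f.hom.isoOpensRange.inv, inferInstance, hdO.trans f.dim_eq.symm⟩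
  have h1 : f' ≫ f'' = 𝟙 _ := Hom.ext f.hom.isoOpensRange.hom_inv_id
  have h2 : f'' ≫ f' = 𝟙 _ := Hom.ext f.hom.isoOpensRange.inv_hom_id
  have hf : f' ≫ X.resι O hdO = f := Hom.ext (Scheme.Hom.isoOpensRange_hom_ι f.hom)
  have hb' : Function.Bijective (T.pull f' M i n).hom := by
    refine Function.bijective_iff_has_inverse.mpr ⟨(T.pull f'' M i n).hom, ?_, ?_⟩
    · intro b
      rw [pull_comp_apply, h2, pull_id]; rfl
    · intro b
      rw [pull_comp_apply, h1, pull_id]; rfl
  have hb := pull_resι_bijective T X M j i n hj (mkFj X j O hO)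
  have : (T.pull f M i n).hom = (T.pull f' M i n).hom ∘ (T.pull (X.resι O hdO) M i n).hom := by
    ext b
    rw [Function.comp_apply, pull_comp_apply, hf]
  rw [this]
  exact hb'.comp hb

end Groth.Agent.Lib.Helper27BMCoh
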