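import Mathlib
import Groth.Prelude.Def_BMCoh3
import Groth.Agent.Lib.Helper27BMCohBig

set_option autoImplicit false
universe u
open CategoryTheory AlgebraicGeometry Opposite TopologicalSpace
open BMCoh

namespace Groth.Agent.Lib.Helper27BMCoh

section Top

variable {T : Type u} [TopologicalSpace T]

/-- In a nonempty quasi-sober space of finite dimension there are points whose closures have any
prescribed dimension up to that of the space. -/
lemma exists_natDim_closure_eq_of_le [Nonempty T] [QuasiSober T] (h : topologicalKrullDim T < ⊤)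
    (k : ℕ) (hk : k ≤ WeilCoh.natDim T) :
    ∃ t : T, WeilCoh.natDim ↥(closure ({t} : Set T)) = k := by
  have hd : ((WeilCoh.natDim T : ℕ) : WithBot ℕ∞) ≤ topologicalKrullDim T := (coe_natDim h).le
  obtain ⟨l, hl⟩ := Order.le_krullDim_iff.mp hd
  have hgen : ∀ i : Fin (l.length + 1), ∃ g : T, closure ({g} : Set T) = (l i : Set T) := by
    intro i
    obtain ⟨g, hg⟩ := QuasiSober.sober (l i).isIrreducible (l i).isClosed
    exact ⟨g, hg.def⟩
  choose g hg using hgen
  let a : ℕ → ℕ := fun k => if hk : k < l.length + 1 then
    WeilCoh.natDim ↥(closure ({g ⟨k, hk⟩} : Set T)) else 0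
  have hstep : ∀ k (hk : k + 1 < l.length + 1), a k < a (k + 1) := by
    intro k hk
    have hk' : k < l.length + 1 := by omega
    have hlt : l ⟨k, hk'⟩ < l ⟨k + 1, hk⟩ := l.strictMono (by simp [Fin.lt_def])
    have hx : g ⟨k, hk'⟩ ∈ closure ({g ⟨k + 1, hk⟩} : Set T) := by
      rw [hg]
      exact hlt.le (by rw [← SetLike.mem_coe, ← hg]; exact subset_closure rfl)
    have hne : g ⟨k + 1, hk⟩ ∉ closure ({g ⟨k, hk'⟩} : Set T) := by
      intro hmem
      have : (l ⟨k + 1, hk⟩ : Set T) ⊆ l ⟨k, hk'⟩ := by
        rw [← hg, ← hg]
        exact closure_minimal (Set.singleton_subset_iff.mpr hmem) isClosed_closure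
      exact absurd (le_antisymm hlt.le (SetLike.coe_subset_coe.mp this)) hlt.ne
    have := natDim_closure_lt h hx hne
    simp only [a, dif_pos hk, dif_pos hk']
    exact this
  have hlow : ∀ k, k < l.length + 1 → k ≤ a k := by
    intro k
    induction k with
    | zero => intro _; exact Nat.zero_le _
    | succ k ih =>
      intro hk
      have := hstep k hk
      have := ih (by omega)
      omega
  have hhigh : ∀ d k, k + d = l.length → a k + d ≤ a l.length := by
    intro d
    induction d with
    | zero => intro k hk; have : k = l.length := by omega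
              subst this; omega
    | succ d ih =>
      intro k hk
      have h1 := hstep k (by omega)
      have h2 := ih (k + 1) (by omega)
      omega
  have htop : a l.length ≤ WeilCoh.natDim T := by
    simp only [a, dif_pos (Nat.lt_succ_self l.length)]
    exact natDim_le_of_isInducing Topology.IsInducing.subtypeVal h
  have hkl : k < l.length + 1 := by omega
  refine ⟨g ⟨k, hkl⟩, ?_⟩
  have h1 := hlow k hkl
  have h2 := hhigh (l.length - k) k (by omega)
  have h3 : a k = WeilCoh.natDim ↥(closure ({g ⟨k, hkl⟩} : Set T)) := by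
    simp only [a, dif_pos hkl]
  omega

end Top

/-- The dimension of the closure of a point is unchanged by a closed immersion. -/
lemma pdim_closedImmersion {Z X : Scheme.{u}} (ι : Z ⟶ X) [IsClosedImmersion ι] (z : Z) :
    WeilCoh.pdim Z z = WeilCoh.pdim X (ι z) := by
  unfold WeilCoh.pdim
  have h1 : closure ({ι z} : Set X) = ι '' closure ({z} : Set Z) := by
    rw [← ι.isClosedEmbedding.closure_image_eq, Set.image_singleton]
  rw [h1]
  exact natDim_eq_of_homeomorph (ι.isClosedEmbedding.isEmbedding.homeomorphImage _)

variable {V : ObjectProperty Scheme.{u}} [IsConstructible V]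

/-- On a nonempty object there are points of every codimension up to the dimension. -/
lemma exists_codim_eq (X : Obj V) [Nonempty X.scheme] (c : ℕ) (hc : c ≤ WeilCoh.dim X.scheme) :
    ∃ x : X.scheme, WeilCoh.codim X.scheme x = c := by
  obtain ⟨t, ht⟩ := exists_natDim_closure_eq_of_le (T := X.scheme) (finDim X)
    (WeilCoh.dim X.scheme - c) (Nat.sub_le _ _)
  refine ⟨t, ?_⟩
  have ht' : WeilCoh.pdim X.scheme t = WeilCoh.dim X.scheme - c := ht
  unfold WeilCoh.codim
  rw [ht']
  omega

end Groth.Agent.Lib.Helper27BMCoh
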