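import Mathlib
import Groth.Prelude.Def_BMCoh3
import Groth.Agent.Lib.Helper27BMCohDim2

set_option autoImplicit false
universe u
open CategoryTheory CategoryTheory.Limits AlgebraicGeometry Opposite TopologicalSpace
open BMCoh

namespace Groth.Agent.Lib.Helper27BMCoh

variable {V : ObjectProperty Scheme.{u}} [IsConstructible V]

/-- A piece of a closed subscheme `ι : Z → X`: opens `U` of `X` and `W` of `Z` with
`W = ι⁻¹ U`. -/
structure CPiece {X Z : Obj V} (ι : Z.scheme ⟶ X.scheme) where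
  W : Z.scheme.Opens
  U : X.scheme.Opens
  hW : ∀ z, z ∈ W ↔ ι z ∈ U

namespace CPiece

variable {X Z : Obj V} {ι : Z.scheme ⟶ X.scheme} (p : CPiece ι)

omit [IsConstructible V] in
lemma range_subset : Set.range (p.W.ι ≫ ι) ⊆ Set.range p.U.ι := by
  rintro _ ⟨w, rfl⟩
  rw [Scheme.Opens.range_ι]
  rw [Scheme.Hom.comp_apply]
  exact (p.hW _).mp w.2

/-- The closed immersion `W → U`. -/
noncomputable def f : (p.W : Scheme.{u}) ⟶ (p.U : Scheme.{u}) :=
  IsOpenImmersion.lift p.U.ι (p.W.ι ≫ ι) p.range_subset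

omit [IsConstructible V] in
@[reassoc]
lemma f_fac : p.f ≫ p.U.ι = p.W.ι ≫ ι := IsOpenImmersion.lift_fac _ _ _

omit [IsConstructible V] in
lemma f_apply (w : (p.W : Scheme.{u})) : p.U.ι (p.f w) = ι (p.W.ι w) := by
  have := congr($(p.f_fac) w)
  rwa [Scheme.Hom.comp_apply, Scheme.Hom.comp_apply] at this

variable [IsClosedImmersion ι]

omit [IsConstructible V] in
lemma range_f : Set.range p.f = p.U.ι ⁻¹' Set.range ι := by
  ext u
  constructor
  · rintro ⟨w, rfl⟩
    rw [Set.mem_preimage, p.f_apply]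
    exact ⟨_, rfl⟩
  · intro hu
    obtain ⟨z, hz⟩ := hu
    have hzW : z ∈ p.W := (p.hW z).mpr (by rw [hz]; exact mem_of_ι u)
    obtain ⟨w, rfl⟩ := exists_of_mem hzW
    refine ⟨w, ?_⟩
    apply p.U.ι.isOpenEmbedding.injective
    rw [p.f_apply]
    exact hz

omit [IsConstructible V] in
instance : IsClosedImmersion p.f := by
  have h1 : IsPreimmersion (p.f ≫ p.U.ι) := by
    rw [p.f_fac]; infer_instance
  have h2 : IsPreimmersion p.f := IsPreimmersion.of_comp p.f p.U.ι
  refine IsClosedImmersion.of_isPreimmersion p.f ?_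
  rw [p.range_f]
  exact ι.isClosedEmbedding.isClosed_range.preimage p.U.ι.continuous

/-- The decomposition of `X.res U` into the closed piece `W` and a prescribed open part `U₀`. -/
@[reducible] noncomputable def decomp (U₀ : X.scheme.Opens)
    (hU₀ : ∀ y, y ∈ U₀ ↔ y ∈ p.U ∧ y ∉ Set.range ι)
    (hdim : WeilCoh.dim (U₀ : Scheme.{u}) = WeilCoh.dim (p.U : Scheme.{u})) :
    Decomp (X.res p.U) where
  Z := Z.res p.W
  U := X.res U₀
  i := p.f
  closedImm := inferInstance
  j := X.resLE (fun y hy => ((hU₀ y).mp hy).1) hdim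
  range_eq := by
    have hle : U₀ ≤ p.U := fun y hy => ((hU₀ y).mp hy).1
    rw [p.range_f]
    ext u
    show u ∈ Set.range (X.scheme.homOfLE hle) ↔ _
    rw [mem_range_homOfLE, hU₀]
    simp only [Set.mem_compl_iff, Set.mem_preimage]
    constructor
    · exact fun h => h.2
    · exact fun h => ⟨mem_of_ι u, h⟩

end CPiece

/-- The open `X \ ι(Z \ W)` for an open `W` of the closed subscheme `Z`. -/
noncomputable def openComplι {X Z : Obj V} (ι : Z.scheme ⟶ X.scheme) [IsClosedImmersion ι]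
    (W : Z.scheme.Opens) : X.scheme.Opens :=
  ⟨(ι '' (W : Set Z.scheme)ᶜ)ᶜ,
    (ι.isClosedEmbedding.isClosedMap _ W.2.isClosed_compl).isOpen_compl⟩

omit [IsConstructible V] in
lemma mem_openComplι {X Z : Obj V} {ι : Z.scheme ⟶ X.scheme} [IsClosedImmersion ι]
    {W : Z.scheme.Opens} (z : Z.scheme) : ι z ∈ openComplι ι W ↔ z ∈ W := by
  show ι z ∉ _ ↔ _
  constructor
  · intro h
    by_contra hz
    exact h ⟨z, hz, rfl⟩
  · rintro hz ⟨z', hz', heq⟩
    have := ι.isClosedEmbedding.injective heq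
    exact hz' (this ▸ hz)

omit [IsConstructible V] in
lemma mem_openComplι_of_not_mem_range {X Z : Obj V} {ι : Z.scheme ⟶ X.scheme} [IsClosedImmersion ι]
    {W : Z.scheme.Opens} {y : X.scheme} (hy : y ∉ Set.range ι) : y ∈ openComplι ι W := by
  rintro ⟨z, _, rfl⟩
  exact hy ⟨z, rfl⟩

namespace CPiece

variable {X Z : Obj V} {ι : Z.scheme ⟶ X.scheme}

/-- The piece cut out by an open `U` of `X`. -/
@[reducible] noncomputable def ofOpen (ι : Z.scheme ⟶ X.scheme) (U : X.scheme.Opens) : CPiece ι where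
  W := ι ⁻¹ᵁ U
  U := U
  hW _ := Iff.rfl

/-- The piece with prescribed closed part `W`, inside `U`. -/
@[reducible] noncomputable def ofW [IsClosedImmersion ι] (W : Z.scheme.Opens) (U : X.scheme.Opens)
    (h : ∀ z, z ∈ W → ι z ∈ U) : CPiece ι where
  W := W
  U := U ⊓ openComplι ι W
  hW z := by
    constructor
    · intro hz
      exact ⟨h z hz, (mem_openComplι z).mpr hz⟩
    · intro hz
      exact (mem_openComplι z).mp hz.2

end CPiece

variable {R : Type u} [CommRing R] {A : Coefs R} (T : PreTheory V R A)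

omit [IsConstructible V] in
/-- The cartesian square relating two pieces of the same closed subscheme. -/
lemma isPullback_cpiece {X Z : Obj V} {ι : Z.scheme ⟶ X.scheme} [IsClosedImmersion ι]
    (p q : CPiece ι) (hW : q.W ≤ p.W) (hU : q.U ≤ p.U) :
    IsPullback (Z.scheme.homOfLE hW) q.f p.f (X.scheme.homOfLE hU) := by
  have H : Z.scheme.homOfLE hW ≫ p.f = q.f ≫ X.scheme.homOfLE hU := by
    rw [← cancel_mono p.U.ι, Category.assoc, Category.assoc, Scheme.homOfLE_ι]
    have e1 : p.f ≫ p.U.ι = p.W.ι ≫ ι := p.f_fac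
    have e2 : q.f ≫ q.U.ι = q.W.ι ≫ ι := q.f_fac
    rw [e1, e2, Scheme.homOfLE_ι_assoc]
  refine (IsOpenImmersion.isPullback q.f (Z.scheme.homOfLE hW) (X.scheme.homOfLE hU) p.f
    H ?_).flip
  ext w
  show p.f w ∈ Set.range (X.scheme.homOfLE hU) ↔ w ∈ Set.range (Z.scheme.homOfLE hW)
  rw [mem_range_homOfLE, mem_range_homOfLE, p.f_apply]
  exact (q.hW _).symm

/-- Base change for push-forward along pieces of a closed subscheme. -/
theorem push_pull_cpiece_apply {X Z : Obj V} {ι : Z.scheme ⟶ X.scheme} [IsClosedImmersion ι]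
    (p q : CPiece ι) (hW : q.W ≤ p.W) (hU : q.U ≤ p.U)
    (dW : WeilCoh.dim (q.W : Scheme.{u}) = WeilCoh.dim (p.W : Scheme.{u}))
    (dU : WeilCoh.dim (q.U : Scheme.{u}) = WeilCoh.dim (p.U : Scheme.{u}))
    (M : A.Cat) (i n i' n' : ℤ)
    (hi : i' = i + 2 * relCodim (p.W : Scheme.{u}) (p.U : Scheme.{u}))
    (hn : n' = n + relCodim (p.W : Scheme.{u}) (p.U : Scheme.{u}))
    (hi' : i' = i + 2 * relCodim (q.W : Scheme.{u}) (q.U : Scheme.{u}))
    (hn' : n' = n + relCodim (q.W : Scheme.{u}) (q.U : Scheme.{u}))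
    (γ : T.gp (Z.res p.W) M i n) :
    (T.pull (X.resLE hU dU) M i' n').hom
        ((T.push (X := Z.res p.W) (Y := X.res p.U) p.f M i n i' n' hi hn).hom γ) =
      (T.push (X := Z.res q.W) (Y := X.res q.U) q.f M i n i' n' hi' hn').hom
        ((T.pull (Z.resLE hW dW) M i n).hom γ) := by
  have h := T.push_pull (X := Z.res p.W) (Y := X.res p.U) (X' := Z.res q.W)
    (Y' := X.res q.U) p.f q.f (X.resLE hU dU) (Z.resLE hW dW)
    (isPullback_cpiece p q hW hU) M i n i' n' hi hn hi' hn'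
  have := congrArg (fun φ => φ.hom γ) h
  simp only [ModuleCat.hom_comp, LinearMap.comp_apply] at this
  exact this

end Groth.Agent.Lib.Helper27BMCoh
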