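import Mathlib
import Groth.Prelude.Def_BMCoh3
import Groth.Agent.Lib.Helper27BMCohJoint

set_option autoImplicit false
universe u
open CategoryTheory CategoryTheory.Limits AlgebraicGeometry Opposite TopologicalSpace
open BMCoh

namespace Groth.Agent.Lib.Helper27BMCoh

variable {V : ObjectProperty Scheme.{u}} [IsConstructible V]

/-- Setup for the multi-point Gysin sequence: finitely many points of codimension `j+1` and an
open `Up ⊇ F_{j+1}X` in which their closures are pairwise disjoint. -/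
structure Multi (X : Obj V) (j : ℕ) where
  B : Finset (X.cdPt (j + 1))
  Up : X.scheme.Opens
  hUp : ContainsFj X (j + 1) Up
  hdisj : ∀ x ∈ B, ∀ y ∈ B, x ≠ y → ∀ z ∈ Up, z ∈ closure ({x.1} : Set X.scheme) →
    z ∉ closure ({y.1} : Set X.scheme)

namespace Multi

variable {X : Obj V} {j : ℕ} (m : Multi X j)

/-- The union of the closures of the points. -/
def clSet : Set X.scheme := ⋃ x ∈ m.B, closure ({x.1} : Set X.scheme)

omit [IsConstructible V] in
lemma isClosed_clSet : IsClosed m.clSet :=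
  m.B.finite_toSet.isClosed_biUnion (fun _ _ => isClosed_closure)

omit [IsConstructible V] in
lemma mem_clSet {z : X.scheme} : z ∈ m.clSet ↔ ∃ x ∈ m.B, z ∈ closure ({x.1} : Set X.scheme) := by
  simp [clSet]

/-- The open part: `Up` minus the closures. -/
def U : X.scheme.Opens := m.Up ⊓ ⟨m.clSetᶜ, m.isClosed_clSet.isOpen_compl⟩

omit [IsConstructible V] in
lemma U_le : m.U ≤ m.Up := inf_le_left

omit [IsConstructible V] in
lemma mem_U {z : X.scheme} : z ∈ m.U ↔ z ∈ m.Up ∧ z ∉ m.clSet := Iff.rfl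

lemma hU : ContainsFj X j m.U := by
  intro y hy
  refine ⟨m.hUp y (hy.trans (Nat.le_succ j)), ?_⟩
  intro hcl
  obtain ⟨x, _, hx⟩ := m.mem_clSet.mp hcl
  exact containsFj_clCompl x.2 y hy hx

lemma dimUp : WeilCoh.dim (m.Up : Scheme.{u}) = WeilCoh.dim X.scheme :=
  dim_eq_of_containsFj X _ m.Up m.hUp

lemma dimU : WeilCoh.dim (m.U : Scheme.{u}) = WeilCoh.dim X.scheme :=
  dim_eq_of_containsFj X _ m.U m.hU

/-- The ambient object. -/
abbrev Y : Obj V := X.res m.Up

/-- The closed subset of `Y`. -/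
def C : Closeds m.Y.scheme := ⟨m.Up.ι ⁻¹' m.clSet, m.isClosed_clSet.preimage m.Up.ι.continuous⟩

/-- The reduced closed subscheme. -/
noncomputable abbrev Z : Obj V := clSub m.Y m.C

noncomputable abbrev iZ : m.Z.scheme ⟶ m.Y.scheme := clSubι m.Y m.C

lemma range_iZ : Set.range m.iZ = m.Up.ι ⁻¹' m.clSet := range_clSubι m.Y m.C

/-- The decomposition of `Y = X.res Up` into `Z` and `U`. -/
@[reducible] noncomputable def D : Decomp m.Y where
  Z := m.Z
  U := X.res m.U
  i := m.iZ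
  closedImm := inferInstance
  j := X.resLE m.U_le (m.dimU.trans m.dimUp.symm)
  range_eq := by
    rw [m.range_iZ]
    ext u
    show u ∈ Set.range (X.scheme.homOfLE m.U_le) ↔ _
    rw [mem_range_homOfLE, m.mem_U]
    simp only [Set.mem_compl_iff, Set.mem_preimage]
    constructor
    · exact fun h => h.2
    · exact fun h => ⟨mem_of_ι u, h⟩

/-- The piece of the closure of `x` inside `Up`. -/
noncomputable abbrev p (x : X.cdPt (j + 1)) : Piece X x.1 := Piece.ofOpen m.Up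

omit [IsConstructible V] in
lemma x_mem_Up (x : X.cdPt (j + 1)) : x.1 ∈ m.Up := m.hUp x.1 x.2.le

lemma hWne (x : X.cdPt (j + 1)) : ((m.p x).W : Set (X.ptSub x.1).scheme).Nonempty := by
  obtain ⟨zx, hzx⟩ := exists_ptSub_pt X x.1
  exact ⟨zx, by
    show X.ptSubι x.1 zx ∈ m.Up
    rw [hzx]; exact m.x_mem_Up x⟩

lemma range_f_subset (x : X.cdPt (j + 1)) (hx : x ∈ m.B) :
    Set.range (m.p x).f ⊆ Set.range m.iZ := by
  rw [(m.p x).range_f, m.range_iZ]
  intro u hu
  exact m.mem_clSet.mpr ⟨x, hx, hu⟩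

instance isReduced_W (x : X.cdPt (j + 1)) : IsReduced ((m.p x).W : Scheme.{u}) :=
  isReduced_of_isOpenImmersion (m.p x).W.ι

/-- The lift of the piece to the reduced closed subscheme. -/
noncomputable def g (x : X.cdPt (j + 1)) (hx : x ∈ m.B) : ((m.p x).W : Scheme.{u}) ⟶ m.Z.scheme :=
  (Groth.Agent.Lib.Helper6.exists_lift_of_isReduced_of_range_subset (m.p x).f m.iZ
    (m.range_f_subset x hx)).choose

@[reassoc]
lemma g_fac (x : X.cdPt (j + 1)) (hx : x ∈ m.B) : m.g x hx ≫ m.iZ = (m.p x).f :=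
  (Groth.Agent.Lib.Helper6.exists_lift_of_isReduced_of_range_subset (m.p x).f m.iZ
    (m.range_f_subset x hx)).choose_spec

lemma g_apply (x : X.cdPt (j + 1)) (hx : x ∈ m.B) (w : ((m.p x).W : Scheme.{u})) :
    m.iZ (m.g x hx w) = (m.p x).f w := by
  have := congr($(m.g_fac x hx) w)
  rwa [Scheme.Hom.comp_apply] at this

instance isClosedImmersion_g (x : X.cdPt (j + 1)) (hx : x ∈ m.B) : IsClosedImmersion (m.g x hx) := by
  have h1 : IsClosedImmersion (m.g x hx ≫ m.iZ) := by rw [m.g_fac]; infer_instance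
  exact IsClosedImmersion.of_comp (m.g x hx) m.iZ

lemma range_g (x : X.cdPt (j + 1)) (hx : x ∈ m.B) :
    Set.range (m.g x hx) = m.iZ ⁻¹' (m.Up.ι ⁻¹' closure ({x.1} : Set X.scheme)) := by
  ext z
  constructor
  · rintro ⟨w, rfl⟩
    show m.Up.ι (m.iZ (m.g x hx w)) ∈ closure ({x.1} : Set X.scheme)
    rw [m.g_apply, (m.p x).f_apply, ← range_ptSubι]
    exact ⟨_, rfl⟩
  · intro hz
    have hz' : m.iZ z ∈ Set.range (m.p x).f := by rw [(m.p x).range_f]; exact hz
    obtain ⟨w, hw⟩ := hz'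
    refine ⟨w, ?_⟩
    apply m.iZ.isClosedEmbedding.injective
    rw [m.g_apply]; exact hw

lemma disjoint_range_g (x : X.cdPt (j + 1)) (hx : x ∈ m.B) (y : X.cdPt (j + 1)) (hy : y ∈ m.B)
    (hne : x ≠ y) : Disjoint (Set.range (m.g x hx)) (Set.range (m.g y hy)) := by
  rw [m.range_g, m.range_g, Set.disjoint_left]
  intro z hzx hzy
  exact m.hdisj x hx y hy hne (m.Up.ι (m.iZ z)) (mem_of_ι _) hzx hzy

lemma cover_g (z : m.Z.scheme) : ∃ x, ∃ hx : x ∈ m.B, z ∈ Set.range (m.g x hx) := by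
  have h : m.iZ z ∈ Set.range m.iZ := ⟨z, rfl⟩
  rw [m.range_iZ] at h
  obtain ⟨x, hx, hz⟩ := m.mem_clSet.mp h
  exact ⟨x, hx, by rw [m.range_g]; exact hz⟩

lemma isOpen_range_g (x : X.cdPt (j + 1)) (hx : x ∈ m.B) : IsOpen (Set.range (m.g x hx)) := by
  classical
  let S : Set m.Z.scheme := ⋃ y ∈ m.B.erase x, m.iZ ⁻¹' (m.Up.ι ⁻¹' closure ({y.1} : Set X.scheme))
  have hS : IsClosed S := (m.B.erase x).finite_toSet.isClosed_biUnion (fun y _ =>
    (isClosed_closure.preimage m.Up.ι.continuous).preimage m.iZ.continuous)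
  have : Set.range (m.g x hx) = Sᶜ := by
    ext z
    simp only [S, Set.mem_compl_iff, Set.mem_iUnion, not_exists]
    constructor
    · intro hz y hy hzy
      have hy' := Finset.mem_erase.mp hy
      have hzy' : z ∈ Set.range (m.g y hy'.2) := by rw [m.range_g]; exact hzy
      exact Set.disjoint_left.mp (m.disjoint_range_g x hx y hy'.2 (Ne.symm hy'.1)) hz hzy'
    · intro hz
      obtain ⟨y, hy, hzy⟩ := m.cover_g z
      by_cases hxy : y = x
      · subst hxy; exact hzy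
      · exfalso
        refine hz y (Finset.mem_erase.mpr ⟨hxy, hy⟩) ?_
        rw [m.range_g] at hzy; exact hzy
  rw [this]
  exact hS.isOpen_compl

instance isOpenImmersion_g (x : X.cdPt (j + 1)) (hx : x ∈ m.B) : IsOpenImmersion (m.g x hx) :=
  isOpenImmersion_of_isClosedImmersion_of_isOpen_range (m.g x hx) (m.isOpen_range_g x hx)

lemma dimW (x : X.cdPt (j + 1)) :
    WeilCoh.dim ((m.p x).W : Scheme.{u}) = WeilCoh.dim X.scheme - (j + 1) := by
  rw [dim_ptSub_open X x.1 _ (m.hWne x), dim_ptSub]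
  have h1 := x.2
  have h2 := pdim_le_dim X x.1
  unfold WeilCoh.codim at h1
  omega

lemma dimZ (hB : m.B.Nonempty) : WeilCoh.dim m.Z.scheme = WeilCoh.dim X.scheme - (j + 1) := by
  obtain ⟨x₀, hx₀⟩ := hB
  apply le_antisymm
  · obtain ⟨w₀, _⟩ := m.hWne x₀
    have hne : Nonempty m.Z.scheme := by
      obtain ⟨w', hw'⟩ := exists_of_mem (U := (m.p x₀).W) ‹_›
      exact ⟨m.g x₀ hx₀ w'⟩
    obtain ⟨η, hη⟩ := exists_natDim_closure_eq (T := m.Z.scheme) (finDim m.Z)
    obtain ⟨y, hy, hηy⟩ := m.cover_g η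
    have hcl : closure ({η} : Set m.Z.scheme) ⊆ Set.range (m.g y hy) :=
      closure_minimal (Set.singleton_subset_iff.mpr hηy)
        (m.g y hy).isClosedEmbedding.isClosed_range
    have h1 : WeilCoh.natDim ↥(closure ({η} : Set m.Z.scheme)) ≤
        WeilCoh.natDim ↥(Set.range (m.g y hy)) :=
      natDim_le_of_isInducing (Topology.IsEmbedding.inclusion hcl).isInducing
        (krullDim_subtype_lt_top (finDim m.Z) _)
    have h2 : WeilCoh.natDim ((m.p y).W : Scheme.{u}) = WeilCoh.natDim ↥(Set.range (m.g y hy)) :=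
      natDim_eq_of_homeomorph ((m.g y hy).isClosedEmbedding.isEmbedding.toHomeomorph)
    have h3 := m.dimW y
    unfold WeilCoh.dim at h3 ⊢
    rw [← hη]
    omega
  · rw [← m.dimW x₀]
    exact natDim_le_of_isInducing (m.g x₀ hx₀).isOpenEmbedding.isInducing (finDim m.Z)

/-- The lift as a morphism of objects. -/
@[reducible] noncomputable def gObj (x : X.cdPt (j + 1)) (hx : x ∈ m.B) : (X.ptSub x.1).res (m.p x).W ⟶ m.Z :=
  ⟨m.g x hx, inferInstance, (m.dimW x).trans (m.dimZ ⟨x, hx⟩).symm⟩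

lemma relCodim_W_Z (x : X.cdPt (j + 1)) (hx : x ∈ m.B) :
    relCodim ((m.p x).W : Scheme.{u}) m.Z.scheme = 0 :=
  relCodim_eq_zero ((m.dimW x).trans (m.dimZ ⟨x, hx⟩).symm)

lemma relCodim_W_Up (x : X.cdPt (j + 1)) :
    relCodim ((m.p x).W : Scheme.{u}) (m.Up : Scheme.{u}) = ((j + 1 : ℕ) : ℤ) := by
  rw [relCodim_piece (m.p x).W (m.hWne x) m.Up m.dimUp, x.2]

lemma relCodim_Z_Y (hB : m.B.Nonempty) :
    relCodim m.Z.scheme m.Y.scheme = ((j + 1 : ℕ) : ℤ) := by
  obtain ⟨x, hx⟩ := hB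
  rw [← m.relCodim_W_Up x]
  unfold relCodim
  rw [(m.dimW x).trans (m.dimZ ⟨x, hx⟩).symm]

lemma D_codim (hB : m.B.Nonempty) : m.D.codim = ((j : ℤ) + 1) := by
  have := m.relCodim_Z_Y hB
  show relCodim m.Z.scheme m.Y.scheme = _
  rw [this]; push_cast; ring

end Multi

end Groth.Agent.Lib.Helper27BMCoh
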