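import Mathlib
import Groth.Prelude.Def_BMCoh3
import Groth.Agent.Lib.Helper27BMCohMulti

set_option autoImplicit false
universe u
open CategoryTheory CategoryTheory.Limits AlgebraicGeometry Opposite TopologicalSpace
open BMCoh

namespace Groth.Agent.Lib.Helper27BMCoh

variable {V : ObjectProperty Scheme.{u}} [IsConstructible V]
variable {R : Type u} [CommRing R] {A : Coefs R} (T : PreTheory V R A)

omit [IsConstructible V] in
lemma push_congr {X Y : Obj V} (f f' : X.scheme ⟶ Y.scheme) [IsProper f] [IsProper f'] (h : f = f')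
    (M : A.Cat) (i n i' n' : ℤ) (hi : i' = i + 2 * relCodim X.scheme Y.scheme)
    (hn : n' = n + relCodim X.scheme Y.scheme) :
    T.push f M i n i' n' hi hn = T.push f' M i n i' n' hi hn := by
  subst h; rfl

/-- Push-forward along a closed immersion of objects followed by restriction to a disjoint open
vanishes. -/
theorem pull_push_eq_zero_of_disjoint {W W' Z : Obj V} (g : W ⟶ Z) [IsClosedImmersion g.hom]
    (g' : W' ⟶ Z) (hdisj : Disjoint (Set.range g.hom) (Set.range g'.hom)) (M : A.Cat) (i n : ℤ)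
    (hi : i = i + 2 * relCodim W.scheme Z.scheme) (hn : n = n + relCodim W.scheme Z.scheme)
    (a : T.gp W M i n) :
    (T.pull g' M i n).hom ((T.push g.hom M i n i n hi hn).hom a) = 0 := by
  obtain ⟨k, rfl⟩ : ∃ k, i = k + 1 := ⟨i - 1, by ring⟩
  let O : Z.scheme.Opens := ⟨(Set.range g.hom)ᶜ, g.hom.isClosedEmbedding.isClosed_range.isOpen_compl⟩
  have hsub : Set.range g'.hom ⊆ Set.range O.ι := by
    rw [Scheme.Opens.range_ι]
    intro z hz hz'
    exact Set.disjoint_left.mp hdisj hz' hz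
  let l := IsOpenImmersion.lift O.ι g'.hom hsub
  have hl : l ≫ O.ι = g'.hom := IsOpenImmersion.lift_fac _ _ _
  have hlo : IsOpenImmersion l := by
    have : IsOpenImmersion (l ≫ O.ι) := by rw [hl]; infer_instance
    exact IsOpenImmersion.of_comp l O.ι
  have hdO : WeilCoh.dim (O : Scheme.{u}) = WeilCoh.dim Z.scheme := by
    refine le_antisymm (dim_open_le Z O) ?_
    rw [← g'.dim_eq]
    exact natDim_le_of_isInducing l.isOpenEmbedding.isInducing
      (krullDim_subtype_lt_top (finDim Z) _)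
  let D : Decomp Z := ⟨W, Z.res O, g.hom, inferInstance, Z.resι O hdO, by
    show Set.range O.ι = _
    rw [Scheme.Opens.range_ι]; rfl⟩
  let g'' : W' ⟶ Z.res O := ⟨l, hlo, g'.dim_eq.trans hdO.symm⟩
  have hg'' : g'' ≫ Z.resι O hdO = g' := Hom.ext hl
  have hex := T.exact_push_pull D M k n (k + 1) n hi hn
  have hz := hex.apply_apply_eq_zero a
  rw [← hg'', ← pull_comp_apply]
  have : (T.pull (Z.resι O hdO) M (k + 1) n).hom ((T.push g.hom M (k + 1) n (k + 1) n hi hn).hom a) = 0 := hz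
  rw [this, map_zero]

namespace Multi

variable {T} {X : Obj V} {j : ℕ} (m : Multi X j)

theorem pull_push_same (x : X.cdPt (j + 1)) (hx : x ∈ m.B) (M : A.Cat) (i n : ℤ)
    (hi : i = i + 2 * relCodim ((m.p x).W : Scheme.{u}) m.Z.scheme)
    (hn : n = n + relCodim ((m.p x).W : Scheme.{u}) m.Z.scheme)
    (γ : T.gp ((X.ptSub x.1).res (m.p x).W) M i n) :
    (T.pull (m.gObj x hx) M i n).hom
      ((T.push (X := (X.ptSub x.1).res (m.p x).W) (Y := m.Z) (m.g x hx) M i n i n hi hn).hom γ) = γ := by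
  have := congrArg (fun φ => φ.hom γ) (push_pull_self T (m.gObj x hx) M i n hi hn)
  simpa using this

theorem pull_push_ne (x : X.cdPt (j + 1)) (hx : x ∈ m.B) (y : X.cdPt (j + 1)) (hy : y ∈ m.B)
    (hne : x ≠ y) (M : A.Cat) (i n : ℤ)
    (hi : i = i + 2 * relCodim ((m.p x).W : Scheme.{u}) m.Z.scheme)
    (hn : n = n + relCodim ((m.p x).W : Scheme.{u}) m.Z.scheme)
    (γ : T.gp ((X.ptSub x.1).res (m.p x).W) M i n) :
    (T.pull (m.gObj y hy) M i n).hom
      ((T.push (X := (X.ptSub x.1).res (m.p x).W) (Y := m.Z) (m.g x hx) M i n i n hi hn).hom γ) = 0 :=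
  pull_push_eq_zero_of_disjoint T (m.gObj x hx) (m.gObj y hy) (m.disjoint_range_g x hx y hy hne)
    M i n hi hn γ

/-- Every class on `Z` is the sum of the push-forwards of its restrictions to the pieces. -/
theorem sum_push_pull (M : A.Cat) (i n : ℤ)
    (hi : ∀ x : X.cdPt (j + 1), i = i + 2 * relCodim ((m.p x).W : Scheme.{u}) m.Z.scheme)
    (hn : ∀ x : X.cdPt (j + 1), n = n + relCodim ((m.p x).W : Scheme.{u}) m.Z.scheme)
    (ρ : T.gp m.Z M i n) :
    ρ = ∑ x ∈ m.B.attach,
      (T.push (X := (X.ptSub x.1.1).res (m.p x.1).W) (Y := m.Z) (m.g x.1 x.2) M i n i n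
        (hi x.1) (hn x.1)).hom ((T.pull (m.gObj x.1 x.2) M i n).hom ρ) := by
  classical
  rw [← sub_eq_zero]
  refine eq_zero_of_pull_eq_zero T (fun x : X.cdPt (j + 1) => (X.ptSub x.1).res (m.p x).W) M i n m.B
    m.Z (fun x hx => m.gObj x hx) (fun x hx y hy hne => m.disjoint_range_g x hx y hy hne)
    m.cover_g _ ?_
  intro y hy
  rw [map_sub, map_sum, sub_eq_zero]
  rw [Finset.sum_eq_single ⟨y, hy⟩]
  · rw [m.pull_push_same]
  · intro x _ hxy
    exact m.pull_push_ne x.1 x.2 y hy (fun h => hxy (Subtype.ext h)) M i n _ _ _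
  · intro h
    exact absurd (Finset.mem_attach _ _) h

end Multi

end Groth.Agent.Lib.Helper27BMCoh
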