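import Mathlib
import Groth.Prelude.Def_BMCoh3
import Groth.Agent.Lib.Helper27BMCohMulti2

set_option autoImplicit false
universe u
open CategoryTheory CategoryTheory.Limits AlgebraicGeometry Opposite TopologicalSpace
open BMCoh

namespace Groth.Agent.Lib.Helper27BMCoh

variable {V : ObjectProperty Scheme.{u}} [IsConstructible V]
variable {R : Type u} [CommRing R] {A : Coefs R} (T : PreTheory V R A)

/-- The residue at a point of codimension `j+1` of a class represented on an open containing the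
point vanishes. -/
theorem cpt_fjι_eq_zero_of_mem {X : Obj V} {j : ℕ} (Q : T.ResData X j) (x : X.cdPt (j + 1))
    (M : A.Cat) (i n i' n' : ℤ) (hi : i' = i + 1 - 2 * ((j : ℤ) + 1)) (hn : n' = n - ((j : ℤ) + 1))
    (U : Idx X (ContainsFj X j)) (hxU : x.1 ∈ U.1) (β : T.gp (X.res U.1) M i n) :
    (Q.cpt x M i n i' n' hi hn).hom (((T.fjι X j i n U).app M).hom β) = 0 := by
  let p : Piece X x.1 := Piece.ofOpen U.1
  obtain ⟨zx, hzx⟩ := exists_ptSub_pt X x.1
  have hWne : (p.W : Set (X.ptSub x.1).scheme).Nonempty := ⟨zx, by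
    show X.ptSubι x.1 zx ∈ U.1
    rw [hzx]; exact hxU⟩
  have hUj : ContainsFj X j U.1 := U.2.1
  have hU₀ : ContainsFj X j p.U₀ := fun y hy => ⟨hUj y hy, containsFj_clCompl x.2 y hy⟩
  have hdU : WeilCoh.dim (p.U : Scheme.{u}) = WeilCoh.dim X.scheme := U.2.2
  have hdU₀ : WeilCoh.dim (p.U₀ : Scheme.{u}) = WeilCoh.dim X.scheme :=
    dim_eq_of_containsFj X j p.U₀ hU₀
  have hdim := hdU₀.trans hdU.symm
  have hcod : (p.decomp hdim).codim = ((j : ℤ) + 1) := by
    rw [decomp_codim p hWne hdU hdim, x.2]; push_cast; ring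
  have hiD : i' = i + 1 - 2 * (p.decomp hdim).codim := by rw [hcod]; exact hi
  have hnD : n' = n - (p.decomp hdim).codim := by rw [hcod]; exact hn
  rw [← ocolimι_resLE_apply T X (ContainsFj X j) i n M U (mkFj X j p.U₀ hU₀) p.U₀_le]
  rw [resData_cpt_piece_apply T Q x M i n i' n' hi hn p hWne hU₀ hdU hdim hiD hnD]
  have hex := T.exact_pull_res (p.decomp hdim) M i n i' n' hiD hnD
  have hz := hex.apply_apply_eq_zero β
  have : (T.res (p.decomp hdim) M i n i' n' hiD hnD).hom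
      ((T.pull (X.resLE p.U₀_le hdim) M i n).hom β) = 0 := hz
  rw [this, map_zero]

namespace Multi

variable {T} {X : Obj V} {j : ℕ} (m : Multi X j)

/-- The defining property of residue data for the multi-point decomposition. -/
theorem resData_cpt_multi (Q : T.ResData X j) (x : X.cdPt (j + 1)) (hx : x ∈ m.B) (M : A.Cat)
    (i n i' n' : ℤ) (hi : i' = i + 1 - 2 * ((j : ℤ) + 1)) (hn : n' = n - ((j : ℤ) + 1))
    (hiD : i' = i + 1 - 2 * m.D.codim) (hnD : n' = n - m.D.codim)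
    (β : T.gp (X.res m.U) M i n) :
    (Q.cpt x M i n i' n' hi hn).hom (((T.fjι X j i n (mkFj X j m.U m.hU)).app M).hom β) =
      ((T.ptι X x.1 i' n' (mkPt X x.1 (m.p x).W (m.hWne x))).app M).hom
        ((T.pull (m.gObj x hx) M i' n').hom ((T.res m.D M i n i' n' hiD hnD).hom β)) := by
  have hg : (m.gObj x hx).hom ≫ m.D.i ≫ (X.resι m.Up m.dimUp).hom =
      (m.p x).W.ι ≫ X.ptSubι x.1 := by
    show m.g x hx ≫ m.iZ ≫ m.Up.ι = _
    rw [m.g_fac_assoc]; exact (m.p x).f_fac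
  have hh : (𝟙 (X.res m.U) : X.res m.U ⟶ m.D.U).hom ≫ m.D.j.hom ≫ (X.resι m.Up m.dimUp).hom =
      m.U.ι := by
    show 𝟙 _ ≫ X.scheme.homOfLE m.U_le ≫ m.Up.ι = _
    rw [Category.id_comp, Scheme.homOfLE_ι]
  have := Q.cpt_spec x M i n i' n' hi hn (X.resι m.Up m.dimUp) m.D
    (mkPt X x.1 (m.p x).W (m.hWne x)) (m.gObj x hx) hg (mkFj X j m.U m.hU) (𝟙 _) hh hiD hnD
  have e1 : T.pull (𝟙 (X.res m.U)) M i n = 𝟙 _ := pull_id T _ M i n
  have this' : T.pull (𝟙 (X.res m.U)) M i n ≫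
      (T.fjι X j i n (mkFj X j m.U m.hU)).app M ≫ Q.cpt x M i n i' n' hi hn =
      T.res m.D M i n i' n' hiD hnD ≫ T.pull (m.gObj x hx) M i' n' ≫
          (T.ptι X x.1 i' n' (mkPt X x.1 (m.p x).W (m.hWne x))).app M := this
  rw [e1, Category.id_comp] at this'
  have h2 := congrArg (fun φ => φ.hom β) this'
  simp only [ModuleCat.hom_comp, LinearMap.comp_apply] at h2
  exact h2

/-- The defining property of push-forward data for the multi-point decomposition. -/
theorem pushData_cpt_multi (P : T.PushData X (j + 1)) (x : X.cdPt (j + 1)) (hx : x ∈ m.B)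
    (M : A.Cat) (i n i' n' : ℤ) (hi : i' = i + 2 * ((j + 1 : ℕ) : ℤ))
    (hn : n' = n + ((j + 1 : ℕ) : ℤ))
    (hig : i = i + 2 * relCodim ((m.p x).W : Scheme.{u}) m.Z.scheme)
    (hng : n = n + relCodim ((m.p x).W : Scheme.{u}) m.Z.scheme)
    (hiZ : i' = i + 2 * relCodim m.Z.scheme m.Y.scheme)
    (hnZ : n' = n + relCodim m.Z.scheme m.Y.scheme)
    (γ : T.gp ((X.ptSub x.1).res (m.p x).W) M i n) :
    (P.cpt x M i n i' n' hi hn).hom
        (((T.ptι X x.1 i n (mkPt X x.1 (m.p x).W (m.hWne x))).app M).hom γ) =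
      ((T.fjι X (j + 1) i' n' (mkFj X (j + 1) m.Up m.hUp)).app M).hom
        ((T.push (X := m.Z) (Y := m.Y) m.iZ M i n i' n' hiZ hnZ).hom
          ((T.push (X := (X.ptSub x.1).res (m.p x).W) (Y := m.Z) (m.g x hx) M i n i n
            hig hng).hom γ)) := by
  have hc := m.relCodim_W_Up x
  have hi' : i' = i + 2 * relCodim ((m.p x).W : Scheme.{u}) (m.Up : Scheme.{u}) := by
    rw [hc]; exact hi
  have hn' : n' = n + relCodim ((m.p x).W : Scheme.{u}) (m.Up : Scheme.{u}) := by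
    rw [hc]; exact hn
  rw [pushData_cpt_piece_apply T P x M i n i' n' hi hn (m.p x) (m.hWne x) m.hUp hi' hn' γ]
  have hcomp := T.push_comp (X := (X.ptSub x.1).res (m.p x).W) (Y := m.Z) (Z := m.Y)
    (m.g x hx) m.iZ M i n i n i' n' hig hng hiZ hnZ hi' hn'
  have hcongr := push_congr T (X := (X.ptSub x.1).res (m.p x).W) (Y := m.Y)
    (m.g x hx ≫ m.iZ) (m.p x).f (m.g_fac x hx) M i n i' n' hi' hn'
  rw [hcongr] at hcomp
  have h2 := congrArg (fun φ => φ.hom γ) hcomp
  simp only [ModuleCat.hom_comp, LinearMap.comp_apply] at h2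
  rw [← h2]

end Multi

end Groth.Agent.Lib.Helper27BMCoh
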