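import Mathlib
import Groth.Prelude.Def_BMCoh3
import Groth.Agent.Lib.Helper27BMCohMulti3

set_option autoImplicit false
universe u
open CategoryTheory CategoryTheory.Limits AlgebraicGeometry Opposite TopologicalSpace
open BMCoh

namespace Groth.Agent.Lib.Helper27BMCoh

/-- An element of a direct sum supported in a finite set is the sum of its components. -/
lemma directSum_eq_sum_lof {ι : Type*} [DecidableEq ι] {R : Type*} [Semiring R] {N : ι → Type*}
    [∀ i, AddCommMonoid (N i)] [∀ i, Module R (N i)] (ξ : DirectSum ι N) (B : Finset ι)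
    (h : ∀ x, x ∉ B → ξ x = 0) : ξ = ∑ x ∈ B, DirectSum.lof R ι N x (ξ x) := by
  classical
  have h1 := DirectSum.sum_support_of ξ
  conv_lhs => rw [← h1]
  have hsub : DFinsupp.support ξ ⊆ B := by
    intro x hx
    by_contra hxB
    exact (DFinsupp.mem_support_iff.mp hx) (h x hxB)
  rw [Finset.sum_subset hsub]
  · exact Finset.sum_congr rfl (fun x _ => by rw [DirectSum.lof_eq_of])
  · intro x _ hx
    rw [DFinsupp.notMem_support_iff.mp hx, map_zero]

variable {V : ObjectProperty Scheme.{u}} [IsConstructible V]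

/-- The points of codimension `k` outside an open containing all points of smaller codimension are
finite in number. -/
lemma finite_cdPt_not_mem' (X : Obj V) (k : ℕ) (U : X.scheme.Opens)
    (hU : ∀ y : X.scheme, WeilCoh.codim X.scheme y < k → y ∈ U) :
    Set.Finite {x : X.cdPt k | x.1 ∉ U} := by
  have := noetherianSpace X
  have hCcl : IsClosed ((U : Set X.scheme)ᶜ) := U.2.isClosed_compl
  obtain ⟨S, hSfin, hScl, hSirr, hC⟩ :=
    NoetherianSpace.exists_finite_set_isClosed_irreducible hCcl
  have hmem : ∀ x ∈ {x : X.cdPt k | x.1 ∉ U}, closure ({x.1} : Set X.scheme) ∈ S := by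
    intro x hx
    have hxC : x.1 ∈ (U : Set X.scheme)ᶜ := hx
    rw [hC] at hxC
    obtain ⟨t, htS, hxt⟩ := hxC
    obtain ⟨η, hη⟩ := QuasiSober.sober (hSirr t htS) (hScl t htS)
    have hηt : closure ({η} : Set X.scheme) = t := hη.def
    have hηC : η ∈ (U : Set X.scheme)ᶜ := by
      rw [hC]
      exact ⟨t, htS, hηt ▸ subset_closure rfl⟩
    have hηcod : k ≤ WeilCoh.codim X.scheme η := by
      by_contra hlt
      exact hηC (hU η (by omega))
    have hxcl : x.1 ∈ closure ({η} : Set X.scheme) := hηt ▸ hxt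
    have hxη : x.1 = η := by
      by_contra hne
      have := codim_lt_of_mem_closure X hxcl hne
      have := x.2
      omega
    rw [hxη, hηt]; exact htS
  refine Set.Finite.of_finite_image (f := fun x : X.cdPt k => closure ({x.1} : Set X.scheme))
    (hSfin.subset ?_) ?_
  · rintro _ ⟨x, hx, rfl⟩
    exact hmem x hx
  · intro x _ y _ hxy
    have hxy' : closure ({x.1} : Set X.scheme) = closure ({y.1} : Set X.scheme) := hxy
    have h1 : y.1 ⤳ x.1 := specializes_iff_mem_closure.mpr (hxy' ▸ subset_closure rfl)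
    have h2 : x.1 ⤳ y.1 := specializes_iff_mem_closure.mpr (hxy'.symm ▸ subset_closure rfl)
    exact Subtype.ext (h2.antisymm h1).eq

/-- The points of codimension `j+1` outside an open containing `F_jX` are finite in number. -/
lemma finite_cdPt_not_mem (X : Obj V) (j : ℕ) (U : X.scheme.Opens) (hU : ContainsFj X j U) :
    Set.Finite {x : X.cdPt (j + 1) | x.1 ∉ U} :=
  finite_cdPt_not_mem' X (j + 1) U (fun y hy => hU y (by omega))

/-- The union of the pairwise intersections of the closures of finitely many points. -/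
def pairInter {X : Obj V} {k : ℕ} (B : Finset (X.cdPt k)) : Set X.scheme :=
  ⋃ x ∈ B, ⋃ y ∈ B, {z | x ≠ y ∧ z ∈ closure ({x.1} : Set X.scheme) ∧
    z ∈ closure ({y.1} : Set X.scheme)}

omit [IsConstructible V] in
lemma isClosed_pairInter {X : Obj V} {k : ℕ} (B : Finset (X.cdPt k)) :
    IsClosed (pairInter B) := by
  refine B.finite_toSet.isClosed_biUnion (fun x _ => B.finite_toSet.isClosed_biUnion (fun y _ => ?_))
  by_cases hxy : x = y
  · have : {z | x ≠ y ∧ z ∈ closure ({x.1} : Set X.scheme) ∧
        z ∈ closure ({y.1} : Set X.scheme)} = ∅ := by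
      ext z; simp [hxy]
    rw [this]; exact isClosed_empty
  · have : {z | x ≠ y ∧ z ∈ closure ({x.1} : Set X.scheme) ∧
        z ∈ closure ({y.1} : Set X.scheme)} =
        closure ({x.1} : Set X.scheme) ∩ closure ({y.1} : Set X.scheme) := by
      ext z; simp [hxy]
    rw [this]; exact isClosed_closure.inter isClosed_closure

lemma codim_of_mem_pairInter {X : Obj V} {k : ℕ} (B : Finset (X.cdPt k)) {z : X.scheme}
    (hz : z ∈ pairInter B) : k < WeilCoh.codim X.scheme z := by
  simp only [pairInter, Set.mem_iUnion, Set.mem_setOf_eq] at hz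
  obtain ⟨x, _, y, _, hne, hzx, hzy⟩ := hz
  by_cases hzx' : z = x.1
  · have hzy' : z ≠ y.1 := fun h => hne (Subtype.ext (hzx'.symm.trans h))
    have := codim_lt_of_mem_closure X hzy hzy'
    have := y.2
    omega
  · have := codim_lt_of_mem_closure X hzx hzx'
    have := x.2
    omega

/-- The multi-point setup obtained from an open containing `F_{j+1}X` by removing the pairwise
intersections of the closures. -/
@[reducible] def Multi.ofOpen {X : Obj V} {j : ℕ} (B : Finset (X.cdPt (j + 1)))
    (Up' : X.scheme.Opens) (hUp' : ContainsFj X (j + 1) Up') : Multi X j where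
  B := B
  Up := Up' ⊓ ⟨(pairInter B)ᶜ, (isClosed_pairInter B).isOpen_compl⟩
  hUp := fun y hy => ⟨hUp' y hy, fun hz => by
    have := codim_of_mem_pairInter B hz
    omega⟩
  hdisj := fun x hx y hy hne z hz hzx hzy => hz.2 (by
    simp only [pairInter, Set.mem_iUnion, Set.mem_setOf_eq]
    exact ⟨x, hx, y, hy, hne, hzx, hzy⟩)

lemma Multi.mem_U_of_not_mem_B {X : Obj V} {j : ℕ} (m : Multi X j) (x : X.cdPt (j + 1))
    (hx : x ∉ m.B) : x.1 ∈ m.U := by
  refine ⟨m.x_mem_Up x, ?_⟩
  intro hcl
  obtain ⟨y, hy, hxy⟩ := m.mem_clSet.mp hcl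
  have hne : x.1 ≠ y.1 := fun h => hx ((Subtype.ext h : x = y) ▸ hy)
  have := codim_lt_of_mem_closure X hxy hne
  have := x.2
  have := y.2
  omega

end Groth.Agent.Lib.Helper27BMCoh
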