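import Mathlib
import Groth.Prelude.Def_BMCoh3
import Groth.Agent.Lib.Helper27BMCohMulti4

set_option autoImplicit false
universe u
open CategoryTheory CategoryTheory.Limits AlgebraicGeometry Opposite TopologicalSpace
open BMCoh

namespace Groth.Agent.Lib.Helper27BMCoh

variable {V : ObjectProperty Scheme.{u}} [IsConstructible V]
variable {R : Type u} [CommRing R] {A : Coefs R} (T : PreTheory V R A)

/-- The composite of the total residue and the total push-forward on a class represented on the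
open part of a multi-point setup. -/
theorem Multi.sum_cpt_cpt_eq_zero {X : Obj V} {j : ℕ} (m : Multi X j) (Q : T.ResData X j)
    (P : T.PushData X (j + 1)) (M : A.Cat) (i n i' n' : ℤ)
    (hi : i' = i + 1 - 2 * ((j : ℤ) + 1)) (hn : n' = n - ((j : ℤ) + 1))
    (hi2 : i + 1 = i' + 2 * ((j + 1 : ℕ) : ℤ)) (hn2 : n = n' + ((j + 1 : ℕ) : ℤ))
    (β : T.gp (X.res m.U) M i n) :
    ∑ x ∈ m.B, (P.cpt x M i' n' (i + 1) n hi2 hn2).hom ((Q.cpt x M i n i' n' hi hn).hom
      (((T.fjι X j i n (mkFj X j m.U m.hU)).app M).hom β)) = 0 := by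
  classical
  by_cases hB : m.B.Nonempty
  swap
  · rw [Finset.not_nonempty_iff_eq_empty.mp hB]; simp
  have hcod := m.D_codim hB
  have hiD : i' = i + 1 - 2 * m.D.codim := by rw [hcod]; exact hi
  have hnD : n' = n - m.D.codim := by rw [hcod]; exact hn
  have hZY := m.relCodim_Z_Y hB
  have hiZ : i + 1 = i' + 2 * relCodim m.Z.scheme m.Y.scheme := by rw [hZY]; exact hi2
  have hnZ : n = n' + relCodim m.Z.scheme m.Y.scheme := by rw [hZY]; exact hn2
  have hig : ∀ x : X.cdPt (j + 1), i' = i' + 2 * relCodim ((m.p x).W : Scheme.{u}) m.Z.scheme := by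
    intro x
    have : relCodim ((m.p x).W : Scheme.{u}) m.Z.scheme = 0 :=
      relCodim_eq_zero ((m.dimW x).trans (m.dimZ hB).symm)
    rw [this]; ring
  have hng : ∀ x : X.cdPt (j + 1), n' = n' + relCodim ((m.p x).W : Scheme.{u}) m.Z.scheme := by
    intro x
    have : relCodim ((m.p x).W : Scheme.{u}) m.Z.scheme = 0 :=
      relCodim_eq_zero ((m.dimW x).trans (m.dimZ hB).symm)
    rw [this]; ring
  set ρ := (T.res m.D M i n i' n' hiD hnD).hom β with hρ
  rw [← Finset.sum_attach]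
  have hterm : ∀ x ∈ m.B.attach,
      (P.cpt x.1 M i' n' (i + 1) n hi2 hn2).hom ((Q.cpt x.1 M i n i' n' hi hn).hom
        (((T.fjι X j i n (mkFj X j m.U m.hU)).app M).hom β)) =
      ((T.fjι X (j + 1) (i + 1) n (mkFj X (j + 1) m.Up m.hUp)).app M).hom
        ((T.push (X := m.Z) (Y := m.Y) m.iZ M i' n' (i + 1) n hiZ hnZ).hom
          ((T.push (X := (X.ptSub x.1.1).res (m.p x.1).W) (Y := m.Z) (m.g x.1 x.2) M i' n' i' n'
            (hig x.1) (hng x.1)).hom ((T.pull (m.gObj x.1 x.2) M i' n').hom ρ))) := by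
    intro x _
    rw [m.resData_cpt_multi Q x.1 x.2 M i n i' n' hi hn hiD hnD β]
    rw [m.pushData_cpt_multi P x.1 x.2 M i' n' (i + 1) n hi2 hn2 (hig x.1) (hng x.1) hiZ hnZ]
  rw [Finset.sum_congr rfl hterm, ← map_sum, ← map_sum, ← m.sum_push_pull M i' n' hig hng ρ]
  have hex := T.exact_res_push m.D M i n i' n' hiD hnD hiZ hnZ
  have hz := hex.apply_apply_eq_zero β
  have : (T.push (X := m.Z) (Y := m.Y) m.iZ M i' n' (i + 1) n hiZ hnZ).hom ρ = 0 := hz
  rw [this, map_zero]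

/-- (a): the total push-forward kills the total residue. -/
theorem tot_tot_eq_zero {X : Obj V} {j : ℕ} (Q : T.ResData X j) (P : T.PushData X (j + 1))
    (M : A.Cat) (i n i' n' : ℤ)
    (hi : i' = i + 1 - 2 * ((j : ℤ) + 1)) (hn : n' = n - ((j : ℤ) + 1))
    (hi2 : i + 1 = i' + 2 * ((j + 1 : ℕ) : ℤ)) (hn2 : n = n' + ((j + 1 : ℕ) : ℤ))
    (α : T.fjGp X j M i n) :
    (P.tot M i' n' (i + 1) n hi2 hn2).hom ((Q.tot M i n i' n' hi hn).hom α) = 0 := by
  classical
  obtain ⟨U, β, rfl⟩ := ocolim_exists_rep T X (ContainsFj X j) i n M α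
  have hfin := finite_cdPt_not_mem X j U.1 U.2.1
  let B : Finset (X.cdPt (j + 1)) := hfin.toFinset
  have hBmem : ∀ x, x ∈ B ↔ x.1 ∉ U.1 := fun x => by simp [B]
  have hN : ∀ x : X.cdPt (j + 1), ∃ N : X.scheme.Opens,
      x.1 ∈ N ∧ ContainsFj X j N ∧ N ⊓ clCompl X x.1 ≤ U.1 :=
    fun x => exists_nbhd_piece' X j U.1 U.2.1 x.1 x.2
  choose N hxN hNF hNU using hN
  let Up' : X.scheme.Opens :=
    U.1 ⊔ ⟨⋃ x ∈ B, (N x : Set X.scheme), isOpen_biUnion (fun x _ => (N x).2)⟩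
  have hUp' : ContainsFj X (j + 1) Up' := by
    intro y hy
    by_cases hyU : y ∈ U.1
    · exact Or.inl hyU
    · have hycod : WeilCoh.codim X.scheme y = j + 1 := by
        by_contra hne
        exact hyU (U.2.1 y (by omega))
      refine Or.inr ?_
      simp only [Opens.coe_mk, Set.mem_iUnion]
      exact ⟨⟨y, hycod⟩, (hBmem _).mpr hyU, hxN ⟨y, hycod⟩⟩
  let m : Multi X j := Multi.ofOpen B Up' hUp'
  have hmU : m.U ≤ U.1 := by
    intro z hz
    have hz1 : z ∈ Up' := hz.1.1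
    have hz2 : z ∉ m.clSet := hz.2
    rcases hz1 with hzU | hzN
    · exact hzU
    · simp only [Opens.coe_mk, Set.mem_iUnion] at hzN
      obtain ⟨x, hxB, hzx⟩ := hzN
      refine hNU x ⟨hzx, ?_⟩
      intro hcl
      exact hz2 (m.mem_clSet.mpr ⟨x, hxB, hcl⟩)
  set ξ := (Q.tot M i n i' n' hi hn).hom (((T.fjι X j i n U).app M).hom β) with hξ
  have hsupp : ∀ x, x ∉ B → ξ x = 0 := by
    intro x hx
    rw [hξ, PreTheory.ResData.tot_apply]
    refine cpt_fjι_eq_zero_of_mem T Q x M i n i' n' hi hn U ?_ β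
    by_contra h
    exact hx ((hBmem x).mpr h)
  have hsum := directSum_eq_sum_lof (R := R) ξ B hsupp
  rw [hsum, map_sum]
  have hlof : ∀ x ∈ B, (P.tot M i' n' (i + 1) n hi2 hn2).hom
      (DirectSum.lof R (X.cdPt (j + 1)) (fun y : X.cdPt (j + 1) => T.ptGp X y.1 M i' n') x (ξ x)) =
      (P.cpt x M i' n' (i + 1) n hi2 hn2).hom ((Q.cpt x M i n i' n' hi hn).hom
        (((T.fjι X j i n U).app M).hom β)) := by
    intro x _
    rw [PreTheory.PushData.tot_lof P M i' n' (i + 1) n hi2 hn2 x (ξ x)]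
    rfl
  rw [Finset.sum_congr rfl hlof]
  have hβ' := ocolimι_resLE_apply T X (ContainsFj X j) i n M U (mkFj X j m.U m.hU) hmU β
  have := m.sum_cpt_cpt_eq_zero T Q P M i n i' n' hi hn hi2 hn2
    ((T.pull (X.resLE hmU ((mkFj X j m.U m.hU).2.2.trans U.2.2.symm)) M i n).hom β)
  rw [hβ'] at this
  exact this

end Groth.Agent.Lib.Helper27BMCoh
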