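import Mathlib
import Groth.Prelude.Def_BMCoh3
import Groth.Agent.Lib.Helper27BMCohMulti5

set_option autoImplicit false
universe u
open CategoryTheory CategoryTheory.Limits AlgebraicGeometry Opposite TopologicalSpace
open BMCoh

namespace Groth.Agent.Lib.Helper27BMCoh

variable {V : ObjectProperty Scheme.{u}} [IsConstructible V]
variable {R : Type u} [CommRing R] {A : Coefs R} (T : PreTheory V R A)

/-- Core of (b): a family of classes on the pieces whose push-forwards sum to zero on `Up` is the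
family of residues of a class of `H(F_jX)`. -/
theorem Multi.exists_of_sum_push_eq_zero {X : Obj V} {j : ℕ} (m : Multi X j) (hB : m.B.Nonempty)
    (Q : T.ResData X j) (M : A.Cat) (i n i' n' : ℤ)
    (hi : i' = i + 1 - 2 * ((j : ℤ) + 1)) (hn : n' = n - ((j : ℤ) + 1))
    (hi2 : i + 1 = i' + 2 * ((j + 1 : ℕ) : ℤ)) (hn2 : n = n' + ((j + 1 : ℕ) : ℤ))
    (γ : ∀ x : X.cdPt (j + 1), x ∈ m.B → T.gp ((X.ptSub x.1).res (m.p x).W) M i' n')
    (hif : ∀ x : X.cdPt (j + 1),
      i + 1 = i' + 2 * relCodim ((m.p x).W : Scheme.{u}) (m.Up : Scheme.{u}))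
    (hnf : ∀ x : X.cdPt (j + 1),
      n = n' + relCodim ((m.p x).W : Scheme.{u}) (m.Up : Scheme.{u}))
    (h : ∑ x ∈ m.B.attach, (T.push (X := (X.ptSub x.1.1).res (m.p x.1).W) (Y := m.Y) (m.p x.1).f
      M i' n' (i + 1) n (hif x.1) (hnf x.1)).hom (γ x.1 x.2) = 0) :
    ∃ α : T.fjGp X j M i n,
      (∀ (x : X.cdPt (j + 1)) (hx : x ∈ m.B), (Q.cpt x M i n i' n' hi hn).hom α =
        ((T.ptι X x.1 i' n' (mkPt X x.1 (m.p x).W (m.hWne x))).app M).hom (γ x hx)) ∧
      (∀ x : X.cdPt (j + 1), x ∉ m.B → (Q.cpt x M i n i' n' hi hn).hom α = 0) := by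
  classical
  have hcod := m.D_codim hB
  have hiD : i' = i + 1 - 2 * m.D.codim := by rw [hcod]; exact hi
  have hnD : n' = n - m.D.codim := by rw [hcod]; exact hn
  have hZY := m.relCodim_Z_Y hB
  have hiZ : i + 1 = i' + 2 * relCodim m.Z.scheme m.Y.scheme := by rw [hZY]; exact hi2
  have hnZ : n = n' + relCodim m.Z.scheme m.Y.scheme := by rw [hZY]; exact hn2
  have hig : ∀ x : X.cdPt (j + 1), i' = i' + 2 * relCodim ((m.p x).W : Scheme.{u}) m.Z.scheme := by
    intro x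
    have : relCodim ((m.p x).W : Scheme.{u}) m.Z.scheme = 0 :=
      relCodim_eq_zero ((m.dimW x).trans (m.dimZ hB).symm)
    rw [this]; ring
  have hng : ∀ x : X.cdPt (j + 1), n' = n' + relCodim ((m.p x).W : Scheme.{u}) m.Z.scheme := by
    intro x
    have : relCodim ((m.p x).W : Scheme.{u}) m.Z.scheme = 0 :=
      relCodim_eq_zero ((m.dimW x).trans (m.dimZ hB).symm)
    rw [this]; ring
  set ρ : T.gp m.Z M i' n' := ∑ x ∈ m.B.attach,
    (T.push (X := (X.ptSub x.1.1).res (m.p x.1).W) (Y := m.Z) (m.g x.1 x.2) M i' n' i' n'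
      (hig x.1) (hng x.1)).hom (γ x.1 x.2) with hρ
  have hpush : (T.push (X := m.Z) (Y := m.Y) m.iZ M i' n' (i + 1) n hiZ hnZ).hom ρ = 0 := by
    rw [hρ, map_sum, ← h]
    refine Finset.sum_congr rfl (fun x _ => ?_)
    have hcomp := T.push_comp (X := (X.ptSub x.1.1).res (m.p x.1).W) (Y := m.Z) (Z := m.Y)
      (m.g x.1 x.2) m.iZ M i' n' i' n' (i + 1) n (hig x.1) (hng x.1) hiZ hnZ (hif x.1) (hnf x.1)
    have hcongr := push_congr T (X := (X.ptSub x.1.1).res (m.p x.1).W) (Y := m.Y)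
      (m.g x.1 x.2 ≫ m.iZ) (m.p x.1).f (m.g_fac x.1 x.2) M i' n' (i + 1) n (hif x.1) (hnf x.1)
    rw [hcongr] at hcomp
    have h2 := congrArg (fun φ => φ.hom (γ x.1 x.2)) hcomp
    simp only [ModuleCat.hom_comp, LinearMap.comp_apply] at h2
    exact h2
  have hex := T.exact_res_push m.D M i n i' n' hiD hnD hiZ hnZ
  obtain ⟨β, hβ⟩ := (hex ρ).mp hpush
  refine ⟨((T.fjι X j i n (mkFj X j m.U m.hU)).app M).hom β, ?_, ?_⟩
  · intro x hx
    rw [m.resData_cpt_multi Q x hx M i n i' n' hi hn hiD hnD β]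
    congr 1
    have hβ' : (T.res m.D M i n i' n' hiD hnD).hom β = ρ := hβ
    rw [hβ', hρ, map_sum]
    rw [Finset.sum_eq_single ⟨x, hx⟩]
    · exact m.pull_push_same x hx M i' n' (hig x) (hng x) (γ x hx)
    · intro y _ hyx
      exact m.pull_push_ne y.1 y.2 x hx (fun h => hyx (Subtype.ext h)) M i' n' _ _ _
    · intro h
      exact absurd (Finset.mem_attach _ _) h
  · intro x hx
    exact cpt_fjι_eq_zero_of_mem T Q x M i n i' n' hi hn (mkFj X j m.U m.hU)
      (m.mem_U_of_not_mem_B x hx) β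

end Groth.Agent.Lib.Helper27BMCoh
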