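import Mathlib
import Groth.Prelude.Def_BMCoh3
import Groth.Agent.Lib.Helper27BMCohMulti6

set_option autoImplicit false
universe u
open CategoryTheory CategoryTheory.Limits AlgebraicGeometry Opposite TopologicalSpace
open BMCoh

namespace Groth.Agent.Lib.Helper27BMCoh

variable {V : ObjectProperty Scheme.{u}} [IsConstructible V]
variable {R : Type u} [CommRing R] {A : Coefs R} (T : PreTheory V R A)

/-- (b): every element of the kernel of the total push-forward is a total residue. -/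
theorem exists_of_tot_eq_zero {X : Obj V} {j : ℕ} (Q : T.ResData X j) (P : T.PushData X (j + 1))
    (M : A.Cat) (i n i' n' : ℤ)
    (hi : i' = i + 1 - 2 * ((j : ℤ) + 1)) (hn : n' = n - ((j : ℤ) + 1))
    (hi2 : i + 1 = i' + 2 * ((j + 1 : ℕ) : ℤ)) (hn2 : n = n' + ((j + 1 : ℕ) : ℤ))
    (ξ : T.ptSum X (j + 1) M i' n') (hξ : (P.tot M i' n' (i + 1) n hi2 hn2).hom ξ = 0) :
    ∃ α : T.fjGp X j M i n, (Q.tot M i n i' n' hi hn).hom α = ξ := by
  classical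
  let B : Finset (X.cdPt (j + 1)) := DFinsupp.support ξ
  have hBmem : ∀ x, x ∉ B → ξ x = 0 := fun x hx => DFinsupp.notMem_support_iff.mp hx
  by_cases hBne : B.Nonempty
  swap
  · refine ⟨0, ?_⟩
    rw [map_zero]
    refine (DFinsupp.ext fun x => ?_).symm
    exact hBmem x (by rw [Finset.not_nonempty_iff_eq_empty.mp hBne]; exact Finset.notMem_empty x)
  -- representatives
  have hrep : ∀ x : X.cdPt (j + 1), ∃ (W : ptIdx X x.1)
      (γ : T.gp ((X.ptSub x.1).res W.1) M i' n'), ((T.ptι X x.1 i' n' W).app M).hom γ = ξ x :=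
    fun x => ocolim_exists_rep T (X.ptSub x.1) _ i' n' M (ξ x)
  choose W0 γ0 hγ0 using hrep
  let Up' : X.scheme.Opens := ⟨⋂ x ∈ B, (openCompl X x.1 (W0 x).1 : Set X.scheme),
    isOpen_biInter_finset (fun x _ => (openCompl X x.1 (W0 x).1).2)⟩
  have hUp' : ContainsFj X (j + 1) Up' := by
    intro y hy
    show y ∈ ⋂ x ∈ B, (openCompl X x.1 (W0 x).1 : Set X.scheme)
    simp only [Set.mem_iInter]
    intro x _
    exact containsFj_openCompl (W0 x).1 (W0 x).2.1 x.2 y hy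
  let m₀ : Multi X j := Multi.ofOpen B Up' hUp'
  have hW0 : ∀ x ∈ B, (m₀.p x).W ≤ (W0 x).1 := by
    intro x hx z hz
    have hz1 : X.ptSubι x.1 z ∈ Up' := hz.1
    have hz2 : X.ptSubι x.1 z ∈ ⋂ x ∈ B, (openCompl X x.1 (W0 x).1 : Set X.scheme) := hz1
    simp only [Set.mem_iInter] at hz2
    exact (ptSubι_mem_openCompl z).mp (hz2 x hx)
  -- the sum on Up₀ vanishes in the colimit
  have hsum := directSum_eq_sum_lof (R := R) ξ B hBmem
  have hif0 : ∀ x : X.cdPt (j + 1),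
      i + 1 = i' + 2 * relCodim ((m₀.p x).W : Scheme.{u}) (m₀.Up : Scheme.{u}) := by
    intro x; rw [m₀.relCodim_W_Up x]; exact hi2
  have hnf0 : ∀ x : X.cdPt (j + 1),
      n = n' + relCodim ((m₀.p x).W : Scheme.{u}) (m₀.Up : Scheme.{u}) := by
    intro x; rw [m₀.relCodim_W_Up x]; exact hn2
  have hdW0 : ∀ x (hx : x ∈ B), WeilCoh.dim ((m₀.p x).W : Scheme.{u}) =
      WeilCoh.dim ((W0 x).1 : Scheme.{u}) := fun x hx =>
    (mkPt X x.1 (m₀.p x).W (m₀.hWne x)).2.2.trans (W0 x).2.2.symm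
  let γ : ∀ x : X.cdPt (j + 1), x ∈ B → T.gp ((X.ptSub x.1).res (m₀.p x).W) M i' n' :=
    fun x hx => (T.pull ((X.ptSub x.1).resLE (hW0 x hx) (hdW0 x hx)) M i' n').hom (γ0 x)
  have hγ : ∀ x (hx : x ∈ B),
      ((T.ptι X x.1 i' n' (mkPt X x.1 (m₀.p x).W (m₀.hWne x))).app M).hom (γ x hx) = ξ x := by
    intro x hx
    rw [← hγ0 x]
    exact ocolimι_resLE_apply T (X.ptSub x.1) _ i' n' M (W0 x)
      (mkPt X x.1 (m₀.p x).W (m₀.hWne x)) (hW0 x hx) (γ0 x)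
  have h0 : ((T.fjι X (j + 1) (i + 1) n (mkFj X (j + 1) m₀.Up m₀.hUp)).app M).hom
      (∑ x ∈ B.attach, (T.push (X := (X.ptSub x.1.1).res (m₀.p x.1).W) (Y := m₀.Y) (m₀.p x.1).f
        M i' n' (i + 1) n (hif0 x.1) (hnf0 x.1)).hom (γ x.1 x.2)) = 0 := by
    rw [map_sum, ← hξ]
    conv_rhs => rw [hsum, map_sum, ← Finset.sum_attach]
    refine Finset.sum_congr rfl (fun x _ => ?_)
    rw [PreTheory.PushData.tot_lof P M i' n' (i + 1) n hi2 hn2 x.1 (ξ x.1)]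
    rw [← hγ x.1 x.2]
    exact (pushData_cpt_piece_apply T P x.1 M i' n' (i + 1) n hi2 hn2 (m₀.p x.1) (m₀.hWne x.1)
      m₀.hUp (hif0 x.1) (hnf0 x.1) (γ x.1 x.2)).symm
  obtain ⟨Up₁, hle, hres0⟩ := ocolim_rep_eq_zero T X (ContainsFj X (j + 1)) (i + 1) n M
    (mkFj X (j + 1) m₀.Up m₀.hUp) _ h0
  -- the smaller setup
  let m₁ : Multi X j := ⟨B, Up₁.1, Up₁.2.1,
    fun x hx y hy hne z hz => m₀.hdisj x hx y hy hne z (hle hz)⟩
  have hW1 : ∀ x : X.cdPt (j + 1), (m₁.p x).W ≤ (m₀.p x).W := fun x z hz => hle hz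
  have hdW1 : ∀ x : X.cdPt (j + 1), WeilCoh.dim ((m₁.p x).W : Scheme.{u}) =
      WeilCoh.dim ((m₀.p x).W : Scheme.{u}) := fun x => (m₁.dimW x).trans (m₀.dimW x).symm
  let γ1 : ∀ x : X.cdPt (j + 1), x ∈ m₁.B → T.gp ((X.ptSub x.1).res (m₁.p x).W) M i' n' :=
    fun x hx => (T.pull ((X.ptSub x.1).resLE (hW1 x) (hdW1 x)) M i' n').hom (γ x hx)
  have hγ1 : ∀ x (hx : x ∈ B),
      ((T.ptι X x.1 i' n' (mkPt X x.1 (m₁.p x).W (m₁.hWne x))).app M).hom (γ1 x hx) = ξ x := by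
    intro x hx
    rw [← hγ x hx]
    exact ocolimι_resLE_apply T (X.ptSub x.1) _ i' n' M (mkPt X x.1 (m₀.p x).W (m₀.hWne x))
      (mkPt X x.1 (m₁.p x).W (m₁.hWne x)) (hW1 x) (γ x hx)
  have hif1 : ∀ x : X.cdPt (j + 1),
      i + 1 = i' + 2 * relCodim ((m₁.p x).W : Scheme.{u}) (m₁.Up : Scheme.{u}) := by
    intro x; rw [m₁.relCodim_W_Up x]; exact hi2
  have hnf1 : ∀ x : X.cdPt (j + 1),
      n = n' + relCodim ((m₁.p x).W : Scheme.{u}) (m₁.Up : Scheme.{u}) := by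
    intro x; rw [m₁.relCodim_W_Up x]; exact hn2
  have h1 : ∑ x ∈ m₁.B.attach, (T.push (X := (X.ptSub x.1.1).res (m₁.p x.1).W) (Y := m₁.Y)
      (m₁.p x.1).f M i' n' (i + 1) n (hif1 x.1) (hnf1 x.1)).hom (γ1 x.1 x.2) = 0 := by
    rw [map_sum] at hres0
    rw [← hres0]
    refine Finset.sum_congr rfl (fun x _ => ?_)
    exact (push_pull_piece_apply T (m₀.p x.1) (m₁.p x.1) (hW1 x.1) hle (hdW1 x.1)
      (Up₁.2.2.trans (mkFj X (j + 1) m₀.Up m₀.hUp).2.2.symm) M i' n' (i + 1) n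
      (hif0 x.1) (hnf0 x.1) (hif1 x.1) (hnf1 x.1) (γ x.1 x.2)).symm
  obtain ⟨α, hα1, hα2⟩ := m₁.exists_of_sum_push_eq_zero T hBne Q M i n i' n' hi hn hi2 hn2 γ1
    hif1 hnf1 h1
  refine ⟨α, DFinsupp.ext fun x => ?_⟩
  rw [PreTheory.ResData.tot_apply]
  by_cases hx : x ∈ B
  · rw [hα1 x hx, hγ1 x hx]
  · rw [hα2 x hx, hBmem x hx]

/-- Exactness at the sum of the groups of the points of codimension `j+1`. -/
theorem exact_resTot_pushTot {X : Obj V} {j : ℕ} (Q : T.ResData X j) (P : T.PushData X (j + 1))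
    (M : A.Cat) (i n i' n' : ℤ)
    (hi : i' = i + 1 - 2 * ((j : ℤ) + 1)) (hn : n' = n - ((j : ℤ) + 1))
    (hi2 : i + 1 = i' + 2 * ((j + 1 : ℕ) : ℤ)) (hn2 : n = n' + ((j + 1 : ℕ) : ℤ)) :
    Function.Exact (Q.tot M i n i' n' hi hn).hom (P.tot M i' n' (i + 1) n hi2 hn2).hom := by
  intro ξ
  constructor
  · intro hξ
    exact exists_of_tot_eq_zero T Q P M i n i' n' hi hn hi2 hn2 ξ hξ
  · rintro ⟨α, rfl⟩
    exact tot_tot_eq_zero T Q P M i n i' n' hi hn hi2 hn2 α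

end Groth.Agent.Lib.Helper27BMCoh
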