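import Mathlib
import Groth.Prelude.Def_BMCoh3
import Groth.Agent.Lib.Helper27BMCohMulti7

set_option autoImplicit false
universe u
open CategoryTheory CategoryTheory.Limits AlgebraicGeometry Opposite TopologicalSpace
open BMCoh

namespace Groth.Agent.Lib.Helper27BMCoh

variable {V : ObjectProperty Scheme.{u}} [IsConstructible V]
variable {R : Type u} [CommRing R] {A : Coefs R} (T : PreTheory V R A)

omit [IsConstructible V] in
theorem pull_push_self_apply {W Z : Obj V} (g : W ⟶ Z) [IsProper g.hom] (M : A.Cat) (i n : ℤ)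
    (hi : i = i + 2 * relCodim W.scheme Z.scheme) (hn : n = n + relCodim W.scheme Z.scheme)
    (γ : T.gp W M i n) :
    (T.pull g M i n).hom ((T.push g.hom M i n i n hi hn).hom γ) = γ := by
  have := congrArg (fun φ => φ.hom γ) (push_pull_self T g M i n hi hn)
  simpa using this

/-- Every class on an object covered by finitely many disjoint clopen pieces is the sum of the
push-forwards of its restrictions to the pieces. -/
theorem sum_push_pull_cover {κ : Type*} [DecidableEq κ] (W : κ → Obj V) (B : Finset κ) (Z : Obj V)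
    (g : ∀ x, x ∈ B → (W x ⟶ Z)) (hcl : ∀ x hx, IsClosedImmersion (g x hx).hom)
    (hdisj : ∀ x (hx : x ∈ B) y (hy : y ∈ B), x ≠ y →
        Disjoint (Set.range (g x hx).hom) (Set.range (g y hy).hom))
    (hcov : ∀ z : Z.scheme, ∃ x, ∃ hx : x ∈ B, z ∈ Set.range (g x hx).hom)
    (M : A.Cat) (i n : ℤ)
    (hi : ∀ x, i = i + 2 * relCodim (W x).scheme Z.scheme)
    (hn : ∀ x, n = n + relCodim (W x).scheme Z.scheme)
    (ρ : T.gp Z M i n) :
    ρ = ∑ x ∈ B.attach,
      (haveI := hcl x.1 x.2
       T.push (g x.1 x.2).hom M i n i n (hi x.1) (hn x.1)).hom ((T.pull (g x.1 x.2) M i n).hom ρ) := by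
  rw [← sub_eq_zero]
  refine eq_zero_of_pull_eq_zero T W M i n B Z g hdisj hcov _ ?_
  intro y hy
  rw [map_sub, map_sum, sub_eq_zero]
  rw [Finset.sum_eq_single ⟨y, hy⟩]
  · haveI := hcl y hy
    rw [pull_push_self_apply]
  · intro x _ hxy
    haveI := hcl x.1 x.2
    exact pull_push_eq_zero_of_disjoint T (g x.1 x.2) (g y hy)
      (hdisj x.1 x.2 y hy (fun h => hxy (Subtype.ext h))) M i n _ _ _
  · intro h
    exact absurd (Finset.mem_attach _ _) h

end Groth.Agent.Lib.Helper27BMCoh
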