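import Mathlib
import Groth.Prelude.Def_BMCoh3
import Groth.Agent.Lib.Helper27BMCohCPiece

set_option autoImplicit false
universe u
open CategoryTheory CategoryTheory.Limits AlgebraicGeometry Opposite TopologicalSpace
open BMCoh

namespace Groth.Agent.Lib.Helper27BMCoh

variable {V : ObjectProperty Scheme.{u}} [IsConstructible V]

/-- An open containing `F_jX` together with a point of codimension `j+1`, whose closure is cut
out of the open. -/
structure Cut (X : Obj V) (j : ℕ) where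
  U : X.scheme.Opens
  hU : ContainsFj X j U
  x₀ : X.cdPt (j + 1)

namespace Cut

variable {X : Obj V} {j : ℕ} (c : Cut X j)

/-- The smaller open. -/
def U₁ : X.scheme.Opens := c.U ⊓ clCompl X c.x₀.1

omit [IsConstructible V] in
lemma U₁_le : c.U₁ ≤ c.U := inf_le_left

lemma hU₁ : ContainsFj X j c.U₁ :=
  fun y hy => ⟨c.hU y hy, containsFj_clCompl c.x₀.2 y hy⟩

lemma dimU₁ : WeilCoh.dim (c.U₁ : Scheme.{u}) = WeilCoh.dim X.scheme :=
  dim_eq_of_containsFj X j c.U₁ c.hU₁

/-- The closed complement. -/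
def C : Closeds X.scheme := ⟨(c.U₁ : Set X.scheme)ᶜ, c.U₁.2.isClosed_compl⟩

/-- The reduced closed subscheme on the complement. -/
noncomputable abbrev Z : Obj V := clSub X c.C

noncomputable abbrev ι : c.Z.scheme ⟶ X.scheme := clSubι X c.C

lemma range_ι : Set.range c.ι = (c.U₁ : Set X.scheme)ᶜ := range_clSubι X c.C

lemma ι_not_mem (z : c.Z.scheme) : c.ι z ∉ c.U₁ := by
  have : c.ι z ∈ Set.range c.ι := ⟨z, rfl⟩
  rw [c.range_ι] at this
  exact this

lemma codim_of_not_mem {y : X.scheme} (hy : y ∉ c.U₁) : j + 1 ≤ WeilCoh.codim X.scheme y := by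
  by_contra hlt
  push Not at hlt
  exact hy (c.hU₁ y (by omega))

lemma exists_over_x₀ : ∃ z : c.Z.scheme, c.ι z = c.x₀.1 := by
  have : c.x₀.1 ∈ Set.range c.ι := by
    rw [c.range_ι]
    intro h
    exact h.2 (subset_closure rfl)
  exact this

lemma dimZ : WeilCoh.dim c.Z.scheme + (j + 1) = WeilCoh.dim X.scheme := by
  obtain ⟨z₀, hz₀⟩ := c.exists_over_x₀
  have hne : Nonempty c.Z.scheme := ⟨z₀⟩
  apply le_antisymm
  · obtain ⟨η, hη⟩ := exists_natDim_closure_eq (T := c.Z.scheme) (finDim c.Z)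
    have h1 : WeilCoh.pdim c.Z.scheme η = WeilCoh.dim c.Z.scheme := hη
    rw [pdim_closedImmersion c.ι η] at h1
    have h2 := c.codim_of_not_mem (c.ι_not_mem η)
    have h3 := pdim_le_dim X (c.ι η)
    unfold WeilCoh.codim at h2
    omega
  · have h1 := pdim_le_dim c.Z z₀
    rw [pdim_closedImmersion c.ι z₀, hz₀] at h1
    have h2 := c.x₀.2
    have h3 := pdim_le_dim X c.x₀.1
    unfold WeilCoh.codim at h2
    omega

lemma codim_ι (z : c.Z.scheme) :
    WeilCoh.codim c.Z.scheme z + (j + 1) = WeilCoh.codim X.scheme (c.ι z) := by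
  have h1 := pdim_le_dim c.Z z
  have h2 := c.dimZ
  unfold WeilCoh.codim
  rw [pdim_closedImmersion c.ι z] at h1 ⊢
  omega

lemma containsFj_preimage (m : ℕ) (U' : X.scheme.Opens) (hU' : ContainsFj X (j + 1 + m) U') :
    ContainsFj c.Z m (c.ι ⁻¹ᵁ U') := by
  intro z hz
  show c.ι z ∈ U'
  apply hU'
  have := c.codim_ι z
  omega

lemma containsFj_openComplι (m : ℕ) (W : c.Z.scheme.Opens) (hW : ContainsFj c.Z m W)
    (U' : X.scheme.Opens) (hU' : ContainsFj X (j + 1 + m) U') :
    ContainsFj X (j + 1 + m) (U' ⊓ openComplι c.ι W) := by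
  intro y hy
  refine ⟨hU' y hy, ?_⟩
  by_cases hyr : y ∈ Set.range c.ι
  · obtain ⟨z, rfl⟩ := hyr
    refine (mem_openComplι z).mpr ?_
    apply hW
    have := c.codim_ι z
    omega
  · exact mem_openComplι_of_not_mem_range hyr

lemma mem_U₁_iff (U' : X.scheme.Opens) (hle : c.U₁ ≤ U') (y : X.scheme) :
    y ∈ c.U₁ ↔ y ∈ U' ∧ y ∉ Set.range c.ι := by
  rw [c.range_ι]
  constructor
  · intro hy
    exact ⟨hle hy, fun h => h hy⟩
  · rintro ⟨_, hy⟩
    by_contra h
    exact hy h

lemma U₁_le_openComplι (W : c.Z.scheme.Opens) : c.U₁ ≤ openComplι c.ι W := by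
  intro y hy
  apply mem_openComplι_of_not_mem_range
  rw [c.range_ι]
  exact fun h => h hy

/-- The relative codimension of a piece. -/
lemma relCodim_cpiece (p : CPiece c.ι) (m : ℕ) (hW : ContainsFj c.Z m p.W)
    (hU : WeilCoh.dim (p.U : Scheme.{u}) = WeilCoh.dim X.scheme) :
    relCodim (p.W : Scheme.{u}) (p.U : Scheme.{u}) = ((j : ℤ) + 1) := by
  unfold relCodim
  rw [hU, dim_eq_of_containsFj c.Z m p.W hW, ← c.dimZ]
  push_cast; ring

end Cut

end Groth.Agent.Lib.Helper27BMCoh
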