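import Mathlib
import Groth.Prelude.Def_BMCoh3
import Groth.Agent.Lib.Helper27BMCohCut

set_option autoImplicit false
universe u
open CategoryTheory CategoryTheory.Limits AlgebraicGeometry Opposite TopologicalSpace
open BMCoh

namespace Groth.Agent.Lib.Helper27BMCoh

variable {V : ObjectProperty Scheme.{u}} [IsConstructible V]
variable {R : Type u} [CommRing R] {A : Coefs R} (T : PreTheory V R A)

/-- Surjectivity of `H(F_{j+1+m}X) → H(F_jX)` from the vanishing of `H(F_mZ)` in the residue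
bidegree, for reduced closed subschemes `Z` of codimension `j+1`. -/
theorem cut_surjective {X : Obj V} (M : A.Cat) (j m : ℕ) (i n i' n' : ℤ)
    (hi : i' = i + 1 - 2 * ((j : ℤ) + 1)) (hn : n' = n - ((j : ℤ) + 1))
    (hZ : ∀ (Z : Obj V) (ι : Z.scheme ⟶ X.scheme) [IsClosedImmersion ι] [IsReduced Z.scheme],
      WeilCoh.dim Z.scheme + (j + 1) = WeilCoh.dim X.scheme → IsZero (T.fjGp Z m M i' n'))
    (x₀ : X.cdPt (j + 1)) :
    Function.Surjective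
      ((T.fjRes X ((Nat.le_succ j).trans (Nat.le_add_right (j + 1) m)) i n).app M).hom := by
  intro α
  obtain ⟨U, β, rfl⟩ := ocolim_exists_rep T X (ContainsFj X j) i n M α
  let c : Cut X j := ⟨U.1, U.2.1, x₀⟩
  have hz := hZ c.Z c.ι c.dimZ
  -- restrict to U₁
  have hβ₁ := ocolimι_resLE_apply T X (ContainsFj X j) i n M U (mkFj X j c.U₁ c.hU₁) c.U₁_le β
  set β₁ := (T.pull (X.resLE c.U₁_le ((mkFj X j c.U₁ c.hU₁).2.2.trans U.2.2.symm)) M i n).hom β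
    with hβ₁def
  -- the piece over the whole of X
  let p₀ : CPiece c.ι := CPiece.ofOpen c.ι ⊤
  have hW₀ : ContainsFj c.Z m p₀.W := fun _ _ => trivial
  have hdU₀ : WeilCoh.dim (p₀.U : Scheme.{u}) = WeilCoh.dim X.scheme := dim_top X.scheme
  have hdim₀ : WeilCoh.dim (c.U₁ : Scheme.{u}) = WeilCoh.dim (p₀.U : Scheme.{u}) :=
    c.dimU₁.trans hdU₀.symm
  let D₀ := p₀.decomp c.U₁ (c.mem_U₁_iff p₀.U le_top) hdim₀
  have hcod₀ : D₀.codim = ((j : ℤ) + 1) := c.relCodim_cpiece p₀ m hW₀ hdU₀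
  have hiD₀ : i' = i + 1 - 2 * D₀.codim := by rw [hcod₀]; exact hi
  have hnD₀ : n' = n - D₀.codim := by rw [hcod₀]; exact hn
  set γ := (T.res D₀ M i n i' n' hiD₀ hnD₀).hom β₁ with hγ
  have hγ0 : ((T.fjι c.Z m i' n' (mkFj c.Z m p₀.W hW₀)).app M).hom γ = 0 := by
    have := (ModuleCat.isZero_iff_subsingleton.mp hz)
    exact Subsingleton.elim _ _
  haveI hfil : IsFiltered (Idx c.Z (ContainsFj c.Z m))ᵒᵖ := isFiltered_fj c.Z m
  obtain ⟨Z', hle, hZ'0⟩ := ocolim_rep_eq_zero T c.Z (ContainsFj c.Z m) i' n' M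
    (mkFj c.Z m p₀.W hW₀) γ hγ0
  -- the smaller piece
  let p₁ : CPiece c.ι := CPiece.ofW Z'.1 ⊤ (fun _ _ => trivial)
  have hU₁F : ContainsFj X (j + 1 + m) p₁.U :=
    c.containsFj_openComplι m Z'.1 Z'.2.1 ⊤ (fun _ _ => trivial)
  have hdU₁ : WeilCoh.dim (p₁.U : Scheme.{u}) = WeilCoh.dim X.scheme :=
    dim_eq_of_containsFj X _ p₁.U hU₁F
  have hle₁ : c.U₁ ≤ p₁.U := fun y hy => ⟨trivial, c.U₁_le_openComplι Z'.1 hy⟩
  have hdim₁ : WeilCoh.dim (c.U₁ : Scheme.{u}) = WeilCoh.dim (p₁.U : Scheme.{u}) :=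
    c.dimU₁.trans hdU₁.symm
  let D₁ := p₁.decomp c.U₁ (c.mem_U₁_iff p₁.U hle₁) hdim₁
  have hcod₁ : D₁.codim = ((j : ℤ) + 1) := c.relCodim_cpiece p₁ m Z'.2.1 hdU₁
  have hiD₁ : i' = i + 1 - 2 * D₁.codim := by rw [hcod₁]; exact hi
  have hnD₁ : n' = n - D₁.codim := by rw [hcod₁]; exact hn
  have hUle : p₁.U ≤ p₀.U := le_top
  let g : X.res p₁.U ⟶ X.res p₀.U := X.resLE hUle (hdU₁.trans hdU₀.symm)
  let gZ : c.Z.res Z'.1 ⟶ c.Z.res p₀.W :=
    c.Z.resLE hle (Z'.2.2.trans (mkFj c.Z m p₀.W hW₀).2.2.symm)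
  have c1 : gZ.hom ≫ D₀.i = D₁.i ≫ g.hom := (isPullback_cpiece p₀ p₁ hle hUle).w
  have c2 : (𝟙 (X.res c.U₁) : D₁.U ⟶ D₀.U) ≫ D₀.j = D₁.j ≫ g := by
    apply Hom.ext
    have h := Scheme.homOfLE_homOfLE X.scheme hle₁ hUle
    rw [comp_hom, comp_hom, id_hom, Category.id_comp]
    exact h.symm
  have hrp := T.res_pull D₀ D₁ g gZ (𝟙 _) c1 c2 M i n i' n' hiD₀ hnD₀ hiD₁ hnD₁
  have hrp' := congrArg (fun φ => φ.hom β₁) hrp
  simp only [ModuleCat.hom_comp, LinearMap.comp_apply] at hrp'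
  have e1 : T.pull (𝟙 (X.res c.U₁)) M i n = 𝟙 _ := pull_id T _ M i n
  have hz1 : (T.res D₁ M i n i' n' hiD₁ hnD₁).hom β₁ = 0 := by
    have h2 : (T.res D₁ M i n i' n' hiD₁ hnD₁).hom ((T.pull (𝟙 (X.res c.U₁)) M i n).hom β₁) =
        (T.pull gZ M i' n').hom ((T.res D₀ M i n i' n' hiD₀ hnD₀).hom β₁) := hrp'.symm
    rw [e1] at h2
    have h3 : (T.res D₁ M i n i' n' hiD₁ hnD₁).hom β₁ =
        (T.pull gZ M i' n').hom ((T.res D₀ M i n i' n' hiD₀ hnD₀).hom β₁) := h2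
    rw [h3]
    exact hZ'0
  have hex := T.exact_pull_res D₁ M i n i' n' hiD₁ hnD₁
  obtain ⟨β', hβ'⟩ := (hex β₁).mp hz1
  refine ⟨((T.fjι X (j + 1 + m) i n (mkFj X (j + 1 + m) p₁.U hU₁F)).app M).hom β', ?_⟩
  rw [ocolimι_ocolimMap_apply, ← hβ₁]
  have hβ'' : (T.pull (X.resLE hle₁ hdim₁) M i n).hom β' = β₁ := hβ'
  rw [← hβ'']
  exact (ocolimι_resLE_apply T X (ContainsFj X j) i n M
    ⟨p₁.U, containsFj_mono X ((Nat.le_succ j).trans (Nat.le_add_right (j + 1) m)) _ hU₁F, hdU₁⟩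
    (mkFj X j c.U₁ c.hU₁) hle₁ β').symm

/-- Injectivity of `H(F_{j+1+m}X) → H(F_jX)` from the vanishing of `H(F_mZ)` in the push-forward
bidegree, for reduced closed subschemes `Z` of codimension `j+1`. -/
theorem cut_injective {X : Obj V} (M : A.Cat) (j m : ℕ) (i n i₀ n₀ : ℤ)
    (hi : i = i₀ + 2 * ((j : ℤ) + 1)) (hn : n = n₀ + ((j : ℤ) + 1))
    (hZ : ∀ (Z : Obj V) (ι : Z.scheme ⟶ X.scheme) [IsClosedImmersion ι] [IsReduced Z.scheme],
      WeilCoh.dim Z.scheme + (j + 1) = WeilCoh.dim X.scheme → IsZero (T.fjGp Z m M i₀ n₀))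
    (x₀ : X.cdPt (j + 1)) :
    Function.Injective
      ((T.fjRes X ((Nat.le_succ j).trans (Nat.le_add_right (j + 1) m)) i n).app M).hom := by
  rw [injective_iff_map_eq_zero]
  intro α hα
  obtain ⟨k, rfl⟩ : ∃ k, i = k + 1 := ⟨i - 1, by ring⟩
  obtain ⟨U', β', rfl⟩ := ocolim_exists_rep T X (ContainsFj X (j + 1 + m)) (k + 1) n M α
  rw [ocolimι_ocolimMap_apply] at hα
  have hjm : j ≤ j + 1 + m := (Nat.le_succ j).trans (Nat.le_add_right (j + 1) m)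
  obtain ⟨U, hle, hβ⟩ := ocolim_rep_eq_zero T X (ContainsFj X j) (k + 1) n M
    (⟨U'.1, containsFj_mono X hjm _ U'.2.1, U'.2.2⟩ : Idx X (ContainsFj X j)) β' hα
  let c : Cut X j := ⟨U.1, U.2.1, x₀⟩
  have hz := hZ c.Z c.ι c.dimZ
  have hle₁ : c.U₁ ≤ U'.1 := c.U₁_le.trans hle
  -- the piece over U'
  let p : CPiece c.ι := CPiece.ofOpen c.ι U'.1
  have hW : ContainsFj c.Z m p.W := c.containsFj_preimage m U'.1 U'.2.1
  have hdU : WeilCoh.dim (p.U : Scheme.{u}) = WeilCoh.dim X.scheme := U'.2.2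
  have hdim : WeilCoh.dim (c.U₁ : Scheme.{u}) = WeilCoh.dim (p.U : Scheme.{u}) :=
    c.dimU₁.trans hdU.symm
  let D := p.decomp c.U₁ (c.mem_U₁_iff p.U hle₁) hdim
  have hcod : relCodim (p.W : Scheme.{u}) (p.U : Scheme.{u}) = ((j : ℤ) + 1) :=
    c.relCodim_cpiece p m hW hdU
  have hi' : k + 1 = i₀ + 2 * relCodim D.Z.scheme (X.res p.U).scheme := by
    show k + 1 = i₀ + 2 * relCodim (p.W : Scheme.{u}) (p.U : Scheme.{u})
    rw [hcod]; exact hi
  have hn' : n = n₀ + relCodim D.Z.scheme (X.res p.U).scheme := by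
    show n = n₀ + relCodim (p.W : Scheme.{u}) (p.U : Scheme.{u})
    rw [hcod]; exact hn
  have hex := T.exact_push_pull D M k n i₀ n₀ hi' hn'
  have hβ1 : (T.pull D.j M (k + 1) n).hom β' = 0 := by
    have h1 : X.resLE c.U₁_le (c.dimU₁.trans U.2.2.symm) ≫ X.resLE hle (U.2.2.trans U'.2.2.symm) =
        D.j := resLE_comp X _ _ _ _
    rw [← h1, ← pull_comp_apply]
    have : (T.pull (X.resLE hle (U.2.2.trans U'.2.2.symm)) M (k + 1) n).hom β' = 0 := hβ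
    rw [this, map_zero]
  obtain ⟨γ, hγ⟩ := (hex β').mp hβ1
  have hγ0 : ((T.fjι c.Z m i₀ n₀ (mkFj c.Z m p.W hW)).app M).hom γ = 0 := by
    have := (ModuleCat.isZero_iff_subsingleton.mp hz)
    exact Subsingleton.elim _ _
  haveI hfil : IsFiltered (Idx c.Z (ContainsFj c.Z m))ᵒᵖ := isFiltered_fj c.Z m
  obtain ⟨Z', hleZ, hZ'0⟩ := ocolim_rep_eq_zero T c.Z (ContainsFj c.Z m) i₀ n₀ M
    (mkFj c.Z m p.W hW) γ hγ0
  -- the smaller piece
  let q : CPiece c.ι := CPiece.ofW Z'.1 U'.1 (fun z hz => hleZ hz)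
  have hqF : ContainsFj X (j + 1 + m) q.U :=
    c.containsFj_openComplι m Z'.1 Z'.2.1 U'.1 U'.2.1
  have hdq : WeilCoh.dim (q.U : Scheme.{u}) = WeilCoh.dim X.scheme :=
    dim_eq_of_containsFj X _ q.U hqF
  have hqU : q.U ≤ p.U := inf_le_left
  have hcodq : relCodim (q.W : Scheme.{u}) (q.U : Scheme.{u}) = ((j : ℤ) + 1) :=
    c.relCodim_cpiece q m Z'.2.1 hdq
  have hbc := push_pull_cpiece_apply T p q hleZ hqU
    (Z'.2.2.trans (mkFj c.Z m p.W hW).2.2.symm) (hdq.trans hdU.symm) M i₀ n₀ (k + 1) n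
    (by rw [hcod]; exact hi) (by rw [hcod]; exact hn)
    (by rw [hcodq]; exact hi) (by rw [hcodq]; exact hn) γ
  have hγ' : (T.push (X := c.Z.res p.W) (Y := X.res p.U) p.f M i₀ n₀ (k + 1) n
      (by rw [hcod]; exact hi) (by rw [hcod]; exact hn)).hom γ = β' := hγ
  rw [hγ'] at hbc
  have hZ'0' : (T.pull (c.Z.resLE hleZ (Z'.2.2.trans (mkFj c.Z m p.W hW).2.2.symm)) M i₀ n₀).hom γ
      = 0 := hZ'0
  rw [hZ'0', map_zero] at hbc
  rw [← ocolimι_resLE_apply T X (ContainsFj X (j + 1 + m)) (k + 1) n M U'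
    (mkFj X (j + 1 + m) q.U hqF) hqU β']
  have : (T.pull (X.resLE hqU ((mkFj X (j + 1 + m) q.U hqF).2.2.trans U'.2.2.symm)) M (k + 1) n).hom
      β' = 0 := hbc
  rw [this, map_zero]

end Groth.Agent.Lib.Helper27BMCoh

namespace Groth.Agent.Lib.Helper27BMCoh

variable {V : ObjectProperty Scheme.{u}} [IsConstructible V]
variable {R : Type u} [CommRing R] {A : Coefs R} (T : PreTheory V R A)

/-- The bijectivity criterion for `H(F_{j+1+m}X) → H(F_jX)`. -/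
theorem fjRes_bijective_of_closed_vanish {X : Obj V} (M : A.Cat) (j m : ℕ) (i n : ℤ)
    (hZ : ∀ (Z : Obj V) (ι : Z.scheme ⟶ X.scheme) [IsClosedImmersion ι] [IsReduced Z.scheme],
      WeilCoh.dim Z.scheme + (j + 1) = WeilCoh.dim X.scheme →
      IsZero (T.fjGp Z m M (i - 2 * ((j : ℤ) + 1)) (n - ((j : ℤ) + 1))) ∧
      IsZero (T.fjGp Z m M (i + 1 - 2 * ((j : ℤ) + 1)) (n - ((j : ℤ) + 1)))) :
    Function.Bijective
      ((T.fjRes X ((Nat.le_succ j).trans (Nat.le_add_right (j + 1) m)) i n).app M).hom := by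
  by_cases hdim : WeilCoh.dim X.scheme ≤ j
  · have h1 := fjι_top_bijective T X (j := j + 1 + m) (by omega) M i n
    have h0 := fjι_top_bijective T X (j := j) hdim M i n
    refine (Function.Bijective.of_comp_iff _ h1).mp ?_
    have : ((T.fjRes X ((Nat.le_succ j).trans (Nat.le_add_right (j + 1) m)) i n).app M).hom ∘
        ((T.fjι X (j + 1 + m) i n (mkFj X (j + 1 + m) ⊤ (fun _ _ => trivial))).app M).hom =
        ((T.fjι X j i n (mkFj X j ⊤ (fun _ _ => trivial))).app M).hom := by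
      ext b
      exact ocolimι_ocolimMap_apply T X (ContainsFj X (j + 1 + m)) i n M _ _ b
    rw [this]
    exact h0
  · push Not at hdim
    have hne : Nonempty X.scheme := by
      rcases isEmpty_or_nonempty X.scheme with hE | hN
      · exfalso
        have : WeilCoh.dim X.scheme = 0 := natDim_of_isEmpty
        omega
      · exact hN
    obtain ⟨x, hx⟩ := exists_codim_eq X (j + 1) hdim
    refine ⟨?_, ?_⟩
    · exact cut_injective T M j m i n (i - 2 * ((j : ℤ) + 1)) (n - ((j : ℤ) + 1)) (by ring) (by ring)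
        (fun Z ι _ _ h => (hZ Z ι h).1) ⟨x, hx⟩
    · exact cut_surjective T M j m i n (i + 1 - 2 * ((j : ℤ) + 1)) (n - ((j : ℤ) + 1)) rfl rfl
        (fun Z ι _ _ h => (hZ Z ι h).2) ⟨x, hx⟩

end Groth.Agent.Lib.Helper27BMCoh
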