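import Mathlib
import Groth.Prelude.Def_BMCoh4
import Groth.Agent.Lib.Helper27BMCohDim2

set_option autoImplicit false
universe u
open CategoryTheory AlgebraicGeometry Opposite TopologicalSpace
open BMCoh

namespace Groth.Agent.Lib.Helper27BMCoh

section Top

variable {S T : Type u} [TopologicalSpace S] [TopologicalSpace T]

/-- Points of each smaller dimension in the closure of a point. -/
lemma exists_mem_closure_natDim_eq [QuasiSober T] (h : topologicalKrullDim T < ⊤) (t : T) (k : ℕ)
    (hk : k ≤ WeilCoh.natDim ↥(closure ({t} : Set T))) :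
    ∃ ζ ∈ closure ({t} : Set T), WeilCoh.natDim ↥(closure ({ζ} : Set T)) = k := by
  haveI : Nonempty ↥(closure ({t} : Set T)) := ⟨⟨t, subset_closure rfl⟩⟩
  have hce : Topology.IsClosedEmbedding (Subtype.val : ↥(closure ({t} : Set T)) → T) :=
    isClosed_closure.isClosedEmbedding_subtypeVal
  haveI : QuasiSober ↥(closure ({t} : Set T)) := hce.quasiSober
  obtain ⟨t', ht'⟩ := exists_natDim_closure_eq_of_le (T := ↥(closure ({t} : Set T)))
    (krullDim_subtype_lt_top h _) k hk
  refine ⟨t'.1, t'.2, ?_⟩
  have h1 : closure ({t'.1} : Set T) =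
      Subtype.val '' closure ({t'} : Set ↥(closure ({t} : Set T))) := by
    rw [← hce.closure_image_eq, Set.image_singleton]
  rw [h1, ← ht']
  exact (natDim_eq_of_homeomorph (hce.isEmbedding.homeomorphImage _)).symm

/-- Closed continuous maps do not raise the dimension of the closure of a point. -/
lemma natDim_closure_image_le [QuasiSober T] (hT : topologicalKrullDim T < ⊤)
    (hS : topologicalKrullDim S < ⊤) {f : S → T} (hc : Continuous f) (hcl : IsClosedMap f) :
    ∀ (n : ℕ) (s : S), n ≤ WeilCoh.natDim ↥(closure ({f s} : Set T)) →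
      n ≤ WeilCoh.natDim ↥(closure ({s} : Set S)) := by
  intro n
  induction n with
  | zero => intros; exact Nat.zero_le _
  | succ n ih =>
    intro s hs
    obtain ⟨ζ, hζcl, hζ⟩ := exists_mem_closure_natDim_eq hT (f s) n (by omega)
    have himg : ∀ s₀ : S, closure ({f s₀} : Set T) = f '' closure ({s₀} : Set S) := by
      intro s₀
      rw [← hcl.closure_image_eq_of_continuous hc, Set.image_singleton]
    rw [himg] at hζcl
    obtain ⟨s', hs'cl, rfl⟩ := hζcl
    have h1 := ih s' (le_of_eq hζ.symm)
    have hne : s ∉ closure ({s'} : Set S) := by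
      intro hmem
      have h2 : f s ∈ closure ({f s'} : Set T) := by
        rw [himg]; exact ⟨s, hmem, rfl⟩
      have := natDim_closure_le hT h2
      omega
    have := natDim_closure_lt hS hs'cl hne
    omega

end Top

end Groth.Agent.Lib.Helper27BMCoh
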