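import Mathlib
import Groth.Prelude.Def_BMCoh4
import Groth.Agent.Lib.Helper27BMCohCPiece
import Groth.Agent.Lib.Helper27BMCohDim3
import Groth.Agent.Lib.Helper27BMCohCat

set_option autoImplicit false
universe u
open CategoryTheory CategoryTheory.Limits AlgebraicGeometry Opposite TopologicalSpace
open BMCoh

namespace Groth.Agent.Lib.Helper27BMCoh

variable {V : ObjectProperty Scheme.{u}} [IsConstructible V]

namespace CPiece

variable {X Z : Obj V} {ι : Z.scheme ⟶ X.scheme}

omit [IsConstructible V] in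
/-- The square exhibiting the piece as the base change of `ι` to the open `U`. -/
lemma isPullback_ι (p : CPiece ι) : IsPullback p.f p.W.ι p.U.ι ι := by
  refine IsOpenImmersion.isPullback p.f p.W.ι p.U.ι ι p.f_fac.symm ?_
  ext z
  simp only [Scheme.Opens.opensRange_ι]
  exact (p.hW z).symm

omit [IsConstructible V] in
instance isProper_f (p : CPiece ι) [IsProper ι] : IsProper p.f :=
  MorphismProperty.of_isPullback (P := @IsProper) p.isPullback_ι.flip ‹IsProper ι›

omit [IsConstructible V] in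
/-- The cartesian square relating two nested pieces (any morphism `ι`). -/
lemma isPullback_nested (p q : CPiece ι) (hW : q.W ≤ p.W) (hU : q.U ≤ p.U) :
    IsPullback (Z.scheme.homOfLE hW) q.f p.f (X.scheme.homOfLE hU) := by
  have H : Z.scheme.homOfLE hW ≫ p.f = q.f ≫ X.scheme.homOfLE hU := by
    rw [← cancel_mono p.U.ι, Category.assoc, Category.assoc, Scheme.homOfLE_ι]
    have e1 : p.f ≫ p.U.ι = p.W.ι ≫ ι := p.f_fac
    have e2 : q.f ≫ q.U.ι = q.W.ι ≫ ι := q.f_fac
    rw [e1, e2, Scheme.homOfLE_ι_assoc]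
  refine (IsOpenImmersion.isPullback q.f (Z.scheme.homOfLE hW) (X.scheme.homOfLE hU) p.f
    H ?_).flip
  ext w
  show p.f w ∈ Set.range (X.scheme.homOfLE hU) ↔ w ∈ Set.range (Z.scheme.homOfLE hW)
  rw [mem_range_homOfLE, mem_range_homOfLE, p.f_apply]
  exact (q.hW _).symm

end CPiece

variable {R : Type u} [CommRing R] {A : Coefs R} (T : PreTheory V R A)

/-- Base change for push-forward along nested pieces of a proper morphism. -/
theorem push_pull_nested_apply {X Z : Obj V} {ι : Z.scheme ⟶ X.scheme} [IsProper ι]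
    (p q : CPiece ι) (hW : q.W ≤ p.W) (hU : q.U ≤ p.U)
    (dW : WeilCoh.dim (q.W : Scheme.{u}) = WeilCoh.dim (p.W : Scheme.{u}))
    (dU : WeilCoh.dim (q.U : Scheme.{u}) = WeilCoh.dim (p.U : Scheme.{u}))
    (M : A.Cat) (i n i' n' : ℤ)
    (hi : i' = i + 2 * relCodim (p.W : Scheme.{u}) (p.U : Scheme.{u}))
    (hn : n' = n + relCodim (p.W : Scheme.{u}) (p.U : Scheme.{u}))
    (hi' : i' = i + 2 * relCodim (q.W : Scheme.{u}) (q.U : Scheme.{u}))
    (hn' : n' = n + relCodim (q.W : Scheme.{u}) (q.U : Scheme.{u}))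
    (γ : T.gp (Z.res p.W) M i n) :
    (T.pull (X.resLE hU dU) M i' n').hom
        ((T.push (X := Z.res p.W) (Y := X.res p.U) p.f M i n i' n' hi hn).hom γ) =
      (T.push (X := Z.res q.W) (Y := X.res q.U) q.f M i n i' n' hi' hn').hom
        ((T.pull (Z.resLE hW dW) M i n).hom γ) := by
  have h := T.push_pull (X := Z.res p.W) (Y := X.res p.U) (X' := Z.res q.W)
    (Y' := X.res q.U) p.f q.f (X.resLE hU dU) (Z.resLE hW dW)
    (CPiece.isPullback_nested p q hW hU) M i n i' n' hi hn hi' hn'
  have := congrArg (fun φ => φ.hom γ) h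
  simp only [ModuleCat.hom_comp, LinearMap.comp_apply] at this
  exact this

/-- A proper morphism does not lower codimension beyond the difference of dimensions. -/
lemma codim_add_le_of_proper {X Y : Obj V} (φ : Y.scheme ⟶ X.scheme) [IsProper φ] (q : ℕ)
    (hdim : WeilCoh.dim X.scheme = WeilCoh.dim Y.scheme + q) (z : Y.scheme) :
    WeilCoh.codim Y.scheme z + q ≤ WeilCoh.codim X.scheme (φ z) := by
  have h1 := natDim_closure_image_le (finDim X) (finDim Y) φ.continuous φ.isClosedMap
    (WeilCoh.natDim ↥(closure ({φ z} : Set X.scheme))) z le_rfl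
  have h2 := pdim_le_dim Y z
  have h3 := pdim_le_dim X (φ z)
  have h1' : WeilCoh.pdim X.scheme (φ z) ≤ WeilCoh.pdim Y.scheme z := h1
  unfold WeilCoh.codim
  omega

end Groth.Agent.Lib.Helper27BMCoh
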