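import Mathlib
import Groth.Prelude.Def_BMCoh4
import Groth.Agent.Lib.Helper27BMCohPhi
import Groth.Agent.Lib.Helper27BMCohMulti4
import Groth.Agent.Lib.Helper27BMCohRes

set_option autoImplicit false
universe u
open CategoryTheory CategoryTheory.Limits AlgebraicGeometry Opposite TopologicalSpace
open BMCoh

namespace Groth.Agent.Lib.Helper27BMCoh

variable {V : ObjectProperty Scheme.{u}} [IsConstructible V]

/-- Geometric setup for comparing the residues of `X` at level `q` with those of `Y` at level `0`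
along a proper morphism `φ : Y → X`: compatible multi-point setups on both sides. -/
structure PhiSetup {X Y : Obj V} (φ : Y.scheme ⟶ X.scheme) (q : ℕ) (c : CPiece φ) where
  m : Multi X q
  m' : Multi Y 0
  hmU : m.U ≤ c.U
  hm'U : m'.U ≤ c.W
  hUp : ∀ z, z ∈ m'.Up ↔ φ z ∈ m.Up
  hcl : ∀ z, z ∈ m'.Up → (φ z ∈ m.clSet ↔ z ∈ m'.clSet)
  hB : ∀ x, x ∈ m.B ↔ x.1 ∉ c.U
  hB' : ∀ y, y ∈ m'.B ↔ y.1 ∉ c.W

lemma exists_phiSetup {X Y : Obj V} (φ : Y.scheme ⟶ X.scheme) [IsProper φ] (q : ℕ)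
    (hcod : ∀ z : Y.scheme, WeilCoh.codim Y.scheme z + q ≤ WeilCoh.codim X.scheme (φ z))
    (t : Y.cdPt 1 → X.cdPt (q + 1)) (ht : ∀ y : Y.cdPt 1, φ y.1 = (t y).1)
    (c : CPiece φ) (hcU : ContainsFj X q c.U) (hcW : ContainsFj Y 0 c.W) :
    Nonempty (PhiSetup φ q c) := by
  classical
  have hfinX := finite_cdPt_not_mem X q c.U hcU
  have hfinY := finite_cdPt_not_mem Y 0 c.W hcW
  let BX : Finset (X.cdPt (q + 1)) := hfinX.toFinset
  let BY : Finset (Y.cdPt (0 + 1)) := hfinY.toFinset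
  have hBX : ∀ x, x ∈ BX ↔ x.1 ∉ c.U := fun x => by simp [BX]
  have hBY : ∀ y, y ∈ BY ↔ y.1 ∉ c.W := fun y => by simp [BY]
  have hN : ∀ x : X.cdPt (q + 1), ∃ N : X.scheme.Opens,
      x.1 ∈ N ∧ ContainsFj X q N ∧ N ⊓ clCompl X x.1 ≤ c.U :=
    fun x => exists_nbhd_piece' X q c.U hcU x.1 x.2
  choose N hxN _ hNU using hN
  have hN' : ∀ y : Y.cdPt (0 + 1), ∃ N : Y.scheme.Opens,
      y.1 ∈ N ∧ ContainsFj Y 0 N ∧ N ⊓ clCompl Y y.1 ≤ c.W :=
    fun y => exists_nbhd_piece' Y 0 c.W hcW y.1 y.2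
  choose N' hyN' _ hN'U using hN'
  let Up₀ : X.scheme.Opens :=
    c.U ⊔ ⟨⋃ x ∈ BX, (N x : Set X.scheme), isOpen_biUnion (fun x _ => (N x).2)⟩
  have hUp₀ : ContainsFj X (q + 1) Up₀ := by
    intro y hy
    by_cases hyU : y ∈ c.U
    · exact Or.inl hyU
    · have hycod : WeilCoh.codim X.scheme y = q + 1 := by
        by_contra hne
        exact hyU (hcU y (by omega))
      refine Or.inr ?_
      simp only [Opens.coe_mk, Set.mem_iUnion]
      exact ⟨⟨y, hycod⟩, (hBX _).mpr hyU, hxN ⟨y, hycod⟩⟩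
  let Up₀' : Y.scheme.Opens :=
    c.W ⊔ ⟨⋃ y ∈ BY, (N' y : Set Y.scheme), isOpen_biUnion (fun y _ => (N' y).2)⟩
  have hUp₀' : ContainsFj Y (0 + 1) Up₀' := by
    intro y hy
    by_cases hyU : y ∈ c.W
    · exact Or.inl hyU
    · have hycod : WeilCoh.codim Y.scheme y = 0 + 1 := by
        by_contra hne
        exact hyU (hcW y (by omega))
      refine Or.inr ?_
      simp only [Opens.coe_mk, Set.mem_iUnion]
      exact ⟨⟨y, hycod⟩, (hBY _).mpr hyU, hyN' ⟨y, hycod⟩⟩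
  let m₀ : Multi X q := Multi.ofOpen BX Up₀ hUp₀
  let m₀' : Multi Y 0 := Multi.ofOpen BY Up₀' hUp₀'
  have havoid : ∀ x ∈ BX, ∀ z ∈ closure ({x.1} : Set X.scheme), z ∉ c.U := by
    intro x hx z hz hzU
    have hs : x.1 ⤳ z := specializes_iff_mem_closure.mpr hz
    exact (hBX x).mp hx (hs.mem_open c.U.2 hzU)
  have havoid' : ∀ y ∈ BY, ∀ z ∈ closure ({y.1} : Set Y.scheme), z ∉ c.W := by
    intro y hy z hz hzU
    have hs : y.1 ⤳ z := specializes_iff_mem_closure.mpr hz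
    exact (hBY y).mp hy (hs.mem_open c.W.2 hzU)
  have hcU₀ : c.U ≤ m₀.Up := by
    intro z hz
    refine ⟨Or.inl hz, ?_⟩
    intro hzp
    simp only [pairInter, Set.mem_iUnion, Set.mem_setOf_eq] at hzp
    obtain ⟨x, hx, y, _, _, hzx, _⟩ := hzp
    exact havoid x hx z hzx hz
  have hcW₀ : c.W ≤ m₀'.Up := by
    intro z hz
    refine ⟨Or.inl hz, ?_⟩
    intro hzp
    simp only [pairInter, Set.mem_iUnion, Set.mem_setOf_eq] at hzp
    obtain ⟨x, hx, y, _, _, hzx, _⟩ := hzp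
    exact havoid' x hx z hzx hz
  let Bad : Set Y.scheme := (m₀'.Up : Set Y.scheme)ᶜ
  have hBadcl : IsClosed Bad := m₀'.Up.2.isClosed_compl
  let E : X.scheme.Opens := ⟨(φ '' Bad)ᶜ, (φ.isClosedMap _ hBadcl).isOpen_compl⟩
  have hE : ContainsFj X (q + 1) E := by
    intro y hy
    rintro ⟨z, hz, rfl⟩
    have h1 : ¬ WeilCoh.codim Y.scheme z ≤ 0 + 1 := fun h => hz (m₀'.hUp z h)
    have := hcod z
    omega
  let m : Multi X q := ⟨BX, m₀.Up ⊓ E, fun y hy => ⟨m₀.hUp y hy, hE y hy⟩,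
    fun x hx y hy hne z hz => m₀.hdisj x hx y hy hne z hz.1⟩
  have hcUm : c.U ≤ m.Up := by
    intro z hz
    refine ⟨hcU₀ hz, ?_⟩
    rintro ⟨z', hz', hzz'⟩
    exact hz' (hcW₀ ((c.hW z').mpr (hzz' ▸ hz)))
  let Up' : Y.scheme.Opens := φ ⁻¹ᵁ m.Up
  have hUp'le : Up' ≤ m₀'.Up := by
    intro z hz
    by_contra hzn
    exact hz.2 ⟨z, hzn, rfl⟩
  have hUp' : ContainsFj Y (0 + 1) Up' := by
    intro z hz
    by_cases hzW : z ∈ c.W
    · exact hcUm ((c.hW z).mp hzW)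
    · have hzc : WeilCoh.codim Y.scheme z = 0 + 1 := by
        by_contra hne
        exact hzW (hcW z (by omega))
      show φ z ∈ m.Up
      have h1 := ht ⟨z, hzc⟩
      have h1' : φ z = (t ⟨z, hzc⟩).1 := h1
      rw [h1']
      exact m.hUp _ (t ⟨z, hzc⟩).2.le
  let m' : Multi Y 0 := ⟨BY, Up', hUp',
    fun y hy y' hy' hne z hz => m₀'.hdisj y hy y' hy' hne z (hUp'le hz)⟩
  have hmU : m.U ≤ c.U := by
    intro z hz
    have hz1 : z ∈ Up₀ := hz.1.1.1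
    have hz2 : z ∉ m.clSet := hz.2
    rcases hz1 with hzU | hzN
    · exact hzU
    · simp only [Opens.coe_mk, Set.mem_iUnion] at hzN
      obtain ⟨x, hxB, hzx⟩ := hzN
      refine hNU x ⟨hzx, ?_⟩
      intro hcl
      exact hz2 (m.mem_clSet.mpr ⟨x, hxB, hcl⟩)
  have hm'U : m'.U ≤ c.W := by
    intro z hz
    have hz1 : z ∈ Up₀' := (hUp'le hz.1).1
    have hz2 : z ∉ m'.clSet := hz.2
    rcases hz1 with hzU | hzN
    · exact hzU
    · simp only [Opens.coe_mk, Set.mem_iUnion] at hzN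
      obtain ⟨y, hyB, hzy⟩ := hzN
      refine hN'U y ⟨hzy, ?_⟩
      intro hcl
      exact hz2 (m'.mem_clSet.mpr ⟨y, hyB, hcl⟩)
  refine ⟨⟨m, m', hmU, hm'U, fun z => Iff.rfl, ?_, hBX, hBY⟩⟩
  intro z hz
  constructor
  · intro h
    by_contra hzn
    have hzU : z ∈ m'.U := ⟨hz, hzn⟩
    have hzW := hm'U hzU
    have hφz : φ z ∈ c.U := (c.hW z).mp hzW
    obtain ⟨x, hx, hzx⟩ := m.mem_clSet.mp h
    exact havoid x hx _ hzx hφz
  · intro h
    obtain ⟨y, hy, hzy⟩ := m'.mem_clSet.mp h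
    have h1 : φ y.1 = (t y).1 := ht y
    refine m.mem_clSet.mpr ⟨t y, ?_, ?_⟩
    · rw [hBX, ← h1]
      intro hφy
      exact (hBY y).mp hy ((c.hW _).mpr hφy)
    · rw [← h1]
      have := image_closure_subset_closure_image φ.continuous (s := {y.1}) ⟨z, hzy, rfl⟩
      rwa [Set.image_singleton] at this

end Groth.Agent.Lib.Helper27BMCoh
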