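import Mathlib
import Groth.Prelude.Def_BMCoh4
import Groth.Agent.Lib.Helper27BMCohGC1
import Groth.Agent.Lib.Helper27BMCohMulti3

set_option autoImplicit false
universe u
open CategoryTheory CategoryTheory.Limits AlgebraicGeometry Opposite TopologicalSpace
open BMCoh

namespace Groth.Agent.Lib.Helper27BMCoh

variable {V : ObjectProperty Scheme.{u}} [IsConstructible V]

namespace PhiSetup

variable {X Y : Obj V} {φ : Y.scheme ⟶ X.scheme} {q : ℕ} {c : CPiece φ} (s : PhiSetup φ q c)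

/-- The piece of `φ` over `m.Up`. -/
@[reducible] def cUp : CPiece φ := ⟨s.m'.Up, s.m.Up, s.hUp⟩

omit [IsConstructible V] in
lemma hU (z : Y.scheme) : z ∈ s.m'.U ↔ φ z ∈ s.m.U := by
  rw [s.m'.mem_U, s.m.mem_U]
  constructor
  · rintro ⟨h1, h2⟩
    exact ⟨(s.hUp z).mp h1, fun h => h2 ((s.hcl z h1).mp h)⟩
  · rintro ⟨h1, h2⟩
    have h1' := (s.hUp z).mpr h1
    exact ⟨h1', fun h => h2 ((s.hcl z h1').mpr h)⟩

/-- The piece of `φ` over `m.U`. -/
@[reducible] def cU : CPiece φ := ⟨s.m'.U, s.m.U, s.hU⟩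

lemma range_subset : Set.range (s.m'.iZ ≫ s.cUp.f) ⊆ Set.range s.m.iZ := by
  rintro _ ⟨z', rfl⟩
  rw [s.m.range_iZ, Scheme.Hom.comp_apply]
  show s.m.Up.ι (s.cUp.f (s.m'.iZ z')) ∈ s.m.clSet
  rw [s.cUp.f_apply]
  have h1 : s.m'.iZ z' ∈ Set.range s.m'.iZ := ⟨z', rfl⟩
  rw [s.m'.range_iZ] at h1
  exact (s.hcl _ (mem_of_ι _)).mpr h1

/-- The induced morphism of the reduced closed parts. -/
noncomputable def fZ : s.m'.Z.scheme ⟶ s.m.Z.scheme :=
  (Groth.Agent.Lib.Helper6.exists_lift_of_isReduced_of_range_subset (s.m'.iZ ≫ s.cUp.f) s.m.iZ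
    s.range_subset).choose

@[reassoc]
lemma fZ_fac : s.fZ ≫ s.m.iZ = s.m'.iZ ≫ s.cUp.f :=
  (Groth.Agent.Lib.Helper6.exists_lift_of_isReduced_of_range_subset (s.m'.iZ ≫ s.cUp.f) s.m.iZ
    s.range_subset).choose_spec

instance isProper_fZ [IsProper φ] : IsProper s.fZ := by
  haveI : IsProper (s.fZ ≫ s.m.iZ) := by rw [s.fZ_fac]; infer_instance
  exact IsProper.of_comp s.fZ s.m.iZ

lemma range_fst_eq :
    Set.range (pullback.fst s.cUp.f s.m.iZ) = Set.range s.m'.iZ := by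
  rw [Scheme.Pullback.range_fst, s.m.range_iZ, s.m'.range_iZ]
  ext u
  show s.m.Up.ι (s.cUp.f u) ∈ s.m.clSet ↔ s.m'.Up.ι u ∈ s.m'.clSet
  rw [s.cUp.f_apply]
  exact s.hcl _ (mem_of_ι u)

/-- The scheme-theoretic preimage of the closed part. -/
noncomputable abbrev Zs : Obj V :=
  ⟨pullback s.cUp.f s.m.iZ,
    IsConstructible.of_isClosedImmersion (pullback.fst s.cUp.f s.m.iZ)
      (h := inferInstance) s.m'.Y.mem⟩

/-- The decomposition of `Y.res m'.Up` with the scheme-theoretic preimage as closed part. -/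
@[reducible] noncomputable def Ds : Decomp s.m'.Y where
  Z := s.Zs
  U := Y.res s.m'.U
  i := pullback.fst s.cUp.f s.m.iZ
  closedImm := inferInstance
  j := s.m'.D.j
  range_eq := by
    rw [s.m'.D.range_eq, s.range_fst_eq]

/-- The comparison from the reduced preimage. -/
noncomputable def k : s.m'.Z.scheme ⟶ s.Zs.scheme :=
  pullback.lift s.m'.iZ s.fZ s.fZ_fac.symm

lemma k_fst : s.k ≫ pullback.fst s.cUp.f s.m.iZ = s.m'.iZ := pullback.lift_fst _ _ _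

lemma k_snd : s.k ≫ pullback.snd s.cUp.f s.m.iZ = s.fZ := pullback.lift_snd _ _ _

instance isClosedImmersion_k : IsClosedImmersion s.k := by
  haveI : IsClosedImmersion (s.k ≫ pullback.fst s.cUp.f s.m.iZ) := by
    rw [s.k_fst]; infer_instance
  exact IsClosedImmersion.of_comp s.k (pullback.fst s.cUp.f s.m.iZ)

instance surjective_k : Surjective s.k := by
  constructor
  intro z
  have h1 : pullback.fst s.cUp.f s.m.iZ z ∈ Set.range s.m'.iZ := by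
    rw [← s.range_fst_eq]; exact ⟨z, rfl⟩
  obtain ⟨z', hz'⟩ := h1
  refine ⟨z', ?_⟩
  apply (pullback.fst s.cUp.f s.m.iZ).isClosedEmbedding.injective
  rw [← Scheme.Hom.comp_apply, s.k_fst]
  exact hz'

lemma dim_Zs : WeilCoh.dim s.Zs.scheme = WeilCoh.dim s.m'.Z.scheme := by
  have hk : IsHomeomorph s.k := isHomeomorph_iff_isEmbedding_surjective.mpr
    ⟨s.k.isClosedEmbedding.isEmbedding, (inferInstance : Surjective s.k).surj⟩
  exact (natDim_eq_of_homeomorph (hk.homeomorph s.k)).symm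

variable {R : Type u} [CommRing R] {A : Coefs R} (T : PreTheory V R A)

/-- Compatibility of the residue maps of the two multi-point decompositions with push-forward. -/
theorem star [IsProper φ]
    (hred : ∀ (S : BMCoh.Obj V) (D D'' : BMCoh.Decomp S) (gU : D''.U ⟶ D.U)
      (k : D''.Z.scheme ⟶ D.Z.scheme) [IsClosedImmersion k] [AlgebraicGeometry.Surjective k],
      gU ≫ D.j = D''.j → k ≫ D.i = D''.i →
      ∀ (M : A.Cat) (i n i' n' : ℤ) (hi : i' = i + 1 - 2 * D.codim) (hn : n' = n - D.codim)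
        (hi'' : i' = i + 1 - 2 * D''.codim) (hn'' : n' = n - D''.codim)
        (hk : i' = i' + 2 * BMCoh.relCodim D''.Z.scheme D.Z.scheme)
        (hk' : n' = n' + BMCoh.relCodim D''.Z.scheme D.Z.scheme),
      T.pull gU M i n ≫ T.res D'' M i n i' n' hi'' hn'' ≫ T.push k M i' n' i' n' hk hk' =
        T.res D M i n i' n' hi hn)
    (M : A.Cat) (i₃ n₃ i₁ n₁ i₂ n₂ : ℤ)
    (hiU : i₁ = i₃ + 2 * relCodim (s.m'.U : Scheme.{u}) (s.m.U : Scheme.{u}))
    (hnU : n₁ = n₃ + relCodim (s.m'.U : Scheme.{u}) (s.m.U : Scheme.{u}))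
    (hiD : i₂ = i₁ + 1 - 2 * s.m.D.codim) (hnD : n₂ = n₁ - s.m.D.codim)
    (hiD' : i₂ = i₃ + 1 - 2 * s.m'.D.codim) (hnD' : n₂ = n₃ - s.m'.D.codim)
    (hiZ : i₂ = i₂ + 2 * relCodim s.m'.Z.scheme s.m.Z.scheme)
    (hnZ : n₂ = n₂ + relCodim s.m'.Z.scheme s.m.Z.scheme)
    (β : T.gp (Y.res s.m'.U) M i₃ n₃) :
    (T.res s.m.D M i₁ n₁ i₂ n₂ hiD hnD).hom
        ((T.push (X := Y.res s.m'.U) (Y := X.res s.m.U) s.cU.f M i₃ n₃ i₁ n₁ hiU hnU).hom β) =
      (T.push (X := s.m'.Z) (Y := s.m.Z) s.fZ M i₂ n₂ i₂ n₂ hiZ hnZ).hom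
        ((T.res s.m'.D M i₃ n₃ i₂ n₂ hiD' hnD').hom β) := by
  have hdZ := s.dim_Zs
  have hcs : s.Ds.codim = s.m'.D.codim := by
    show relCodim s.Zs.scheme s.m'.Y.scheme = relCodim s.m'.Z.scheme s.m'.Y.scheme
    unfold relCodim; rw [hdZ]
  have hrs : relCodim s.Zs.scheme s.m.Z.scheme = relCodim s.m'.Z.scheme s.m.Z.scheme := by
    unfold relCodim; rw [hdZ]
  have hr0 : relCodim s.m'.Z.scheme s.Zs.scheme = 0 := relCodim_eq_zero hdZ.symm
  have ha : i₂ = i₃ + 1 - 2 * s.Ds.codim := by rw [hcs]; exact hiD'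
  have hb : n₂ = n₃ - s.Ds.codim := by rw [hcs]; exact hnD'
  have he : i₂ = i₂ + 2 * relCodim s.Ds.Z.scheme s.m.D.Z.scheme := by
    show i₂ = i₂ + 2 * relCodim s.Zs.scheme s.m.Z.scheme
    rw [hrs]; exact hiZ
  have hk : n₂ = n₂ + relCodim s.Ds.Z.scheme s.m.D.Z.scheme := by
    show n₂ = n₂ + relCodim s.Zs.scheme s.m.Z.scheme
    rw [hrs]; exact hnZ
  have h1 := T.res_push (D := s.m.D) (D' := s.Ds) s.cUp.f (pullback.snd s.cUp.f s.m.iZ) s.cU.f
    (IsPullback.of_hasPullback s.cUp.f s.m.iZ)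
    (CPiece.isPullback_nested s.cUp s.cU s.m'.U_le s.m.U_le)
    M i₃ n₃ i₂ n₂ i₁ n₁ i₂ n₂ ha hb hiU hnU he hk hiD hnD
  have hk0 : i₂ = i₂ + 2 * relCodim s.m'.D.Z.scheme s.Ds.Z.scheme := by
    show i₂ = i₂ + 2 * relCodim s.m'.Z.scheme s.Zs.scheme
    rw [hr0]; ring
  have hk0' : n₂ = n₂ + relCodim s.m'.D.Z.scheme s.Ds.Z.scheme := by
    show n₂ = n₂ + relCodim s.m'.Z.scheme s.Zs.scheme
    rw [hr0]; ring
  have h2 := hred s.m'.Y s.Ds s.m'.D (𝟙 _) s.k (Category.id_comp _) s.k_fst M i₃ n₃ i₂ n₂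
    ha hb hiD' hnD' hk0 hk0'
  have h3 := T.push_comp (X := s.m'.Z) (Y := s.Zs) (Z := s.m.Z) s.k
    (pullback.snd s.cUp.f s.m.iZ) M i₂ n₂ i₂ n₂ i₂ n₂ hk0 hk0' he hk hiZ hnZ
  rw [push_congr T (X := s.m'.Z) (Y := s.m.Z) (s.k ≫ pullback.snd s.cUp.f s.m.iZ) s.fZ s.k_snd
    M i₂ n₂ i₂ n₂ hiZ hnZ] at h3
  have h1' := congrArg (fun φ => φ.hom β) h1
  simp only [ModuleCat.hom_comp, LinearMap.comp_apply] at h1'
  have h2' := congrArg (fun φ => φ.hom β) h2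
  simp only [ModuleCat.hom_comp, LinearMap.comp_apply] at h2'
  have h3' := congrArg (fun φ => φ.hom ((T.res s.m'.D M i₃ n₃ i₂ n₂ hiD' hnD').hom β)) h3
  simp only [ModuleCat.hom_comp, LinearMap.comp_apply] at h3'
  have e1 : (T.pull (𝟙 (Y.res s.m'.U)) M i₃ n₃).hom β = β := by
    rw [pull_id]; rfl
  rw [← h1', ← h2', ← h3']
  rw [e1]

end PhiSetup

end Groth.Agent.Lib.Helper27BMCoh
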