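import Mathlib
import Groth.Prelude.Def_BMCoh4
import Groth.Agent.Lib.Helper27BMCohGC2

set_option autoImplicit false
universe u
open CategoryTheory CategoryTheory.Limits AlgebraicGeometry Opposite TopologicalSpace
open BMCoh

namespace Groth.Agent.Lib.Helper27BMCoh

variable {V : ObjectProperty Scheme.{u}} [IsConstructible V]
variable {R : Type u} [CommRing R] {A : Coefs R} (T : PreTheory V R A)

/-- Restricting a sum of push-forwards from pieces to the pieces and summing the classes of the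
points recovers the sum of the classes. -/
theorem Multi.sum_lof_pull_sum_push {X : Obj V} {j : ℕ}
    [DecidableEq (X.cdPt (j + 1))] (m : Multi X j) (M : A.Cat)
    (i n : ℤ)
    (hi : ∀ x : X.cdPt (j + 1), i = i + 2 * relCodim ((m.p x).W : Scheme.{u}) m.Z.scheme)
    (hn : ∀ x : X.cdPt (j + 1), n = n + relCodim ((m.p x).W : Scheme.{u}) m.Z.scheme)
    {κ : Type*} (K : Finset κ) (τ : κ → X.cdPt (j + 1)) (hτ : ∀ k, τ k ∈ m.B)
    (u : ∀ k, T.gp ((X.ptSub (τ k).1).res (m.p (τ k)).W) M i n) :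
    ∑ x ∈ m.B.attach, DirectSum.lof R (X.cdPt (j + 1))
        (fun z : X.cdPt (j + 1) => T.ptGp X z.1 M i n) x.1
        (((T.ptι X x.1.1 i n (mkPt X x.1.1 (m.p x.1).W (m.hWne x.1))).app M).hom
          ((T.pull (m.gObj x.1 x.2) M i n).hom
            (∑ k ∈ K, (T.push (X := (X.ptSub (τ k).1).res (m.p (τ k)).W) (Y := m.Z)
              (m.g (τ k) (hτ k)) M i n i n (hi _) (hn _)).hom (u k)))) =
      ∑ k ∈ K, DirectSum.lof R (X.cdPt (j + 1)) (fun z : X.cdPt (j + 1) => T.ptGp X z.1 M i n)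
        (τ k) (((T.ptι X (τ k).1 i n (mkPt X (τ k).1 (m.p (τ k)).W (m.hWne (τ k)))).app M).hom
          (u k)) := by
  simp_rw [map_sum]
  rw [Finset.sum_comm]
  refine Finset.sum_congr rfl (fun k _ => ?_)
  rw [Finset.sum_eq_single ⟨τ k, hτ k⟩]
  · rw [m.pull_push_same]
  · intro x _ hne
    rw [m.pull_push_ne (τ k) (hτ k) x.1 x.2 (fun h => hne (Subtype.ext h.symm)) M i n _ _ _]
    simp
  · intro h
    exact absurd (Finset.mem_attach _ _) h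

namespace PhiSetup

variable {T} {X Y : Obj V} {φ : Y.scheme ⟶ X.scheme} {q : ℕ} {c : CPiece φ} (s : PhiSetup φ q c)

/-- The proper morphism between the pieces of the closures of `y` and of its image. -/
lemma exists_fy [IsProper φ] (y : Y.cdPt (0 + 1)) (hy : y ∈ s.m'.B) (ty : X.cdPt (q + 1))
    (hty : ty ∈ s.m.B) (hφy : φ y.1 = ty.1) :
    ∃ fy : ((s.m'.p y).W : Scheme.{u}) ⟶ ((s.m.p ty).W : Scheme.{u}), IsProper fy ∧
      fy ≫ s.m.g ty hty = s.m'.g y hy ≫ s.fZ ∧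
      fy ≫ (s.m.p ty).W.ι ≫ X.ptSubι ty.1 = (s.m'.p y).W.ι ≫ Y.ptSubι y.1 ≫ φ := by
  have e1 : (s.m.p ty).f ≫ s.m.Up.ι = (s.m.p ty).W.ι ≫ X.ptSubι ty.1 := (s.m.p ty).f_fac
  have e2 : s.m.g ty hty ≫ s.m.iZ = (s.m.p ty).f := s.m.g_fac ty hty
  have e3 : s.fZ ≫ s.m.iZ = s.m'.iZ ≫ s.cUp.f := s.fZ_fac
  have e4 : s.cUp.f ≫ s.m.Up.ι = s.m'.Up.ι ≫ φ := s.cUp.f_fac
  have e5 : s.m'.g y hy ≫ s.m'.iZ = (s.m'.p y).f := s.m'.g_fac y hy
  have e6 : (s.m'.p y).f ≫ s.m'.Up.ι = (s.m'.p y).W.ι ≫ Y.ptSubι y.1 := (s.m'.p y).f_fac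
  have hmain : (s.m'.g y hy ≫ s.fZ) ≫ s.m.iZ ≫ s.m.Up.ι =
      (s.m'.p y).W.ι ≫ Y.ptSubι y.1 ≫ φ := by
    calc (s.m'.g y hy ≫ s.fZ) ≫ s.m.iZ ≫ s.m.Up.ι
        = s.m'.g y hy ≫ (s.fZ ≫ s.m.iZ) ≫ s.m.Up.ι := by simp only [Category.assoc]
      _ = s.m'.g y hy ≫ s.m'.iZ ≫ (s.cUp.f ≫ s.m.Up.ι) := by
          rw [e3]; simp only [Category.assoc]
      _ = (s.m'.g y hy ≫ s.m'.iZ) ≫ s.m'.Up.ι ≫ φ := by rw [e4]; simp only [Category.assoc]
      _ = (s.m'.p y).W.ι ≫ Y.ptSubι y.1 ≫ φ := by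
          rw [e5, ← Category.assoc, e6, Category.assoc]
  have hrange : Set.range (s.m'.g y hy ≫ s.fZ) ⊆ Set.range (s.m.g ty hty) := by
    rintro _ ⟨w', rfl⟩
    rw [s.m.range_g]
    show s.m.Up.ι (s.m.iZ ((s.m'.g y hy ≫ s.fZ) w')) ∈ closure ({ty.1} : Set X.scheme)
    have h1 := congr($(hmain) w')
    simp only [Scheme.Hom.comp_apply] at h1
    simp only [Scheme.Hom.comp_apply]
    rw [h1, ← hφy]
    have h2 : Y.ptSubι y.1 ((s.m'.p y).W.ι w') ∈ closure ({y.1} : Set Y.scheme) := by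
      rw [← range_ptSubι]; exact ⟨_, rfl⟩
    have := image_closure_subset_closure_image φ.continuous (s := {y.1}) ⟨_, h2, rfl⟩
    rwa [Set.image_singleton] at this
  let fy := IsOpenImmersion.lift (s.m.g ty hty) (s.m'.g y hy ≫ s.fZ) hrange
  have e7 : fy ≫ s.m.g ty hty = s.m'.g y hy ≫ s.fZ := IsOpenImmersion.lift_fac _ _ _
  have hp : IsProper fy := by
    haveI : IsProper (fy ≫ s.m.g ty hty) := by rw [e7]; infer_instance
    exact IsProper.of_comp fy (s.m.g ty hty)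
  refine ⟨fy, hp, e7, ?_⟩
  calc fy ≫ (s.m.p ty).W.ι ≫ X.ptSubι ty.1
      = fy ≫ (s.m.g ty hty ≫ s.m.iZ) ≫ s.m.Up.ι := by rw [e2, e1]
    _ = (fy ≫ s.m.g ty hty) ≫ s.m.iZ ≫ s.m.Up.ι := by simp only [Category.assoc]
    _ = (s.m'.p y).W.ι ≫ Y.ptSubι y.1 ≫ φ := by rw [e7, hmain]

end PhiSetup

end Groth.Agent.Lib.Helper27BMCoh
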