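import Mathlib
import Groth.Prelude.Def_BMCoh4
import Groth.Agent.Lib.Helper27BMCohGC3

set_option autoImplicit false
universe u
open CategoryTheory CategoryTheory.Limits AlgebraicGeometry Opposite TopologicalSpace
open BMCoh

namespace Groth.Agent.Lib.Helper27BMCoh

variable {V : ObjectProperty Scheme.{u}} [IsConstructible V]
variable {R : Type u} [CommRing R] {A : Coefs R} (T : PreTheory V R A)

set_option maxHeartbeats 1600000 in
/-- The general compatibility: the total residue at level `q` of the push-forward of a class on an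
open of `Y` containing `F_0 Y` is the family push-forward of its total residue at level `0`. -/
theorem gc
    (hred : ∀ (S : BMCoh.Obj V) (D D'' : BMCoh.Decomp S) (gU : D''.U ⟶ D.U)
      (k : D''.Z.scheme ⟶ D.Z.scheme) [IsClosedImmersion k] [AlgebraicGeometry.Surjective k],
      gU ≫ D.j = D''.j → k ≫ D.i = D''.i →
      ∀ (M : A.Cat) (i n i' n' : ℤ) (hi : i' = i + 1 - 2 * D.codim) (hn : n' = n - D.codim)
        (hi'' : i' = i + 1 - 2 * D''.codim) (hn'' : n' = n - D''.codim)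
        (hk : i' = i' + 2 * BMCoh.relCodim D''.Z.scheme D.Z.scheme)
        (hk' : n' = n' + BMCoh.relCodim D''.Z.scheme D.Z.scheme),
      T.pull gU M i n ≫ T.res D'' M i n i' n' hi'' hn'' ≫ T.push k M i' n' i' n' hk hk' =
        T.res D M i n i' n' hi hn)
    {X Y : Obj V} (φ : Y.scheme ⟶ X.scheme) [IsProper φ] (q : ℕ)
    (hdim : WeilCoh.dim X.scheme = WeilCoh.dim Y.scheme + q)
    (Q : T.ResData X q) (Q' : T.ResData Y 0) (t : Y.cdPt 1 → X.cdPt (q + 1))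
    (F : ∀ y : Y.cdPt 1, T.PtPush φ y.1 (t y).1)
    (M : A.Cat) (i₃ n₃ i₁ n₁ i₂ n₂ : ℤ)
    (e1 : i₁ = i₃ + 2 * (q : ℤ)) (e1' : n₁ = n₃ + (q : ℤ))
    (h2 : i₂ = i₁ + 1 - 2 * ((q : ℤ) + 1)) (h2' : n₂ = n₁ - ((q : ℤ) + 1))
    (h4 : i₂ = i₃ + 1 - 2 * (((0 : ℕ) : ℤ) + 1)) (h4' : n₂ = n₃ - (((0 : ℕ) : ℤ) + 1))
    (c : CPiece φ) (hcU : ContainsFj X q c.U) (hcW : ContainsFj Y 0 c.W)
    (hUc : ∀ x : X.scheme, x ∉ c.U → x ∈ Set.range φ)
    (hi : i₁ = i₃ + 2 * relCodim (c.W : Scheme.{u}) (c.U : Scheme.{u}))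
    (hn : n₁ = n₃ + relCodim (c.W : Scheme.{u}) (c.U : Scheme.{u}))
    (β : T.gp (Y.res c.W) M i₃ n₃) :
    (Q.tot M i₁ n₁ i₂ n₂ h2 h2').hom (((T.fjι X q i₁ n₁ (mkFj X q c.U hcU)).app M).hom
        ((T.push (X := Y.res c.W) (Y := X.res c.U) c.f M i₃ n₃ i₁ n₁ hi hn).hom β)) =
      (PreTheory.PtPush.famTot t F M i₂ n₂).hom ((Q'.tot M i₃ n₃ i₂ n₂ h4 h4').hom
        (((T.fjι Y 0 i₃ n₃ (mkFj Y 0 c.W hcW)).app M).hom β)) := by
  classical
  have hcod := fun z => codim_add_le_of_proper φ q hdim z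
  have ht : ∀ y : Y.cdPt 1, φ y.1 = (t y).1 := fun y => (F y).maps_pt
  obtain ⟨s⟩ := exists_phiSetup φ q hcod t ht c hcU hcW
  set αX := ((T.fjι X q i₁ n₁ (mkFj X q c.U hcU)).app M).hom
    ((T.push (X := Y.res c.W) (Y := X.res c.U) c.f M i₃ n₃ i₁ n₁ hi hn).hom β) with hαX
  set αY := ((T.fjι Y 0 i₃ n₃ (mkFj Y 0 c.W hcW)).app M).hom β with hαY
  set ξX := (Q.tot M i₁ n₁ i₂ n₂ h2 h2').hom αX with hξX
  set ξY := (Q'.tot M i₃ n₃ i₂ n₂ h4 h4').hom αY with hξY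
  have hsuppX : ∀ x, x ∉ s.m.B → ξX x = 0 := by
    intro x hx
    rw [hξX, PreTheory.ResData.tot_apply]
    refine cpt_fjι_eq_zero_of_mem T Q x M i₁ n₁ i₂ n₂ h2 h2' (mkFj X q c.U hcU) ?_ _
    by_contra h
    exact hx ((s.hB x).mpr h)
  have hsuppY : ∀ y, y ∉ s.m'.B → ξY y = 0 := by
    intro y hy
    rw [hξY, PreTheory.ResData.tot_apply]
    refine cpt_fjι_eq_zero_of_mem T Q' y M i₃ n₃ i₂ n₂ h4 h4' (mkFj Y 0 c.W hcW) ?_ _
    by_contra h
    exact hy ((s.hB' y).mpr h)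
  have hsumX := directSum_eq_sum_lof (R := R) ξX s.m.B hsuppX
  have hsumY := directSum_eq_sum_lof (R := R) ξY s.m'.B hsuppY
  by_cases hB' : s.m'.B.Nonempty
  swap
  · have hBe' : s.m'.B = ∅ := Finset.not_nonempty_iff_eq_empty.mp hB'
    have hBe : s.m.B = ∅ := by
      by_contra hne
      obtain ⟨x, hx⟩ := Finset.nonempty_iff_ne_empty.mpr hne
      have hxU : x.1 ∉ c.U := (s.hB x).mp hx
      obtain ⟨z, hz⟩ := hUc x.1 hxU
      have hzUp : z ∈ s.m'.Up := (s.hUp z).mpr (hz ▸ s.m.x_mem_Up x)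
      have h1 : φ z ∈ s.m.clSet := s.m.mem_clSet.mpr ⟨x, hx, hz ▸ subset_closure rfl⟩
      have h2 := (s.hcl z hzUp).mp h1
      obtain ⟨y, hy, _⟩ := s.m'.mem_clSet.mp h2
      rw [hBe'] at hy
      exact absurd hy (Finset.notMem_empty _)
    rw [hsumX, hsumY, hBe, hBe']
    simp
  have htB : ∀ y : Y.cdPt (0 + 1), y ∈ s.m'.B → t y ∈ s.m.B := by
    intro y hy
    refine (s.hB _).mpr (fun h => (s.hB' y).mp hy ((c.hW _).mpr ?_))
    have := ht y
    rw [this]; exact h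
  have hB : s.m.B.Nonempty := by
    obtain ⟨y, hy⟩ := hB'
    exact ⟨t y, htB y hy⟩
  -- dimensions and index equations
  have hdU := s.m.dimU
  have hdU' := s.m'.dimU
  have hrcU : relCodim (s.m'.U : Scheme.{u}) (s.m.U : Scheme.{u}) = (q : ℤ) := by
    unfold relCodim; rw [hdU, hdU', hdim]; push_cast; ring
  have hiU : i₁ = i₃ + 2 * relCodim (s.m'.U : Scheme.{u}) (s.m.U : Scheme.{u}) := by
    rw [hrcU]; exact e1
  have hnU : n₁ = n₃ + relCodim (s.m'.U : Scheme.{u}) (s.m.U : Scheme.{u}) := by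
    rw [hrcU]; exact e1'
  have hcodD := s.m.D_codim hB
  have hcodD' := s.m'.D_codim hB'
  have hiD : i₂ = i₁ + 1 - 2 * s.m.D.codim := by rw [hcodD]; exact h2
  have hnD : n₂ = n₁ - s.m.D.codim := by rw [hcodD]; exact h2'
  have hiD' : i₂ = i₃ + 1 - 2 * s.m'.D.codim := by rw [hcodD']; exact h4
  have hnD' : n₂ = n₃ - s.m'.D.codim := by rw [hcodD']; exact h4'
  have hZY := s.m.relCodim_Z_Y hB
  have hZY' := s.m'.relCodim_Z_Y hB'
  have hrcZ : relCodim s.m'.Z.scheme s.m.Z.scheme = 0 := by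
    have a1 : (WeilCoh.dim s.m.Y.scheme : ℤ) = WeilCoh.dim X.scheme := by
      exact_mod_cast s.m.dimUp
    have a2 : (WeilCoh.dim s.m'.Y.scheme : ℤ) = WeilCoh.dim Y.scheme := by
      exact_mod_cast s.m'.dimUp
    have a3 : (WeilCoh.dim X.scheme : ℤ) = WeilCoh.dim Y.scheme + q := by exact_mod_cast hdim
    have c1 : (WeilCoh.dim s.m.Y.scheme : ℤ) - (WeilCoh.dim s.m.Z.scheme : ℤ) = (q : ℤ) + 1 := by
      have h := hZY
      push_cast at h
      exact h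
    have c2 : (WeilCoh.dim s.m'.Y.scheme : ℤ) - (WeilCoh.dim s.m'.Z.scheme : ℤ) = 1 := by
      have h := hZY'
      have h' : ((0 + 1 : ℕ) : ℤ) = 1 := by norm_num
      rw [h'] at h
      exact h
    show (WeilCoh.dim s.m.Z.scheme : ℤ) - (WeilCoh.dim s.m'.Z.scheme : ℤ) = 0
    omega
  have hiZ : i₂ = i₂ + 2 * relCodim s.m'.Z.scheme s.m.Z.scheme := by rw [hrcZ]; ring
  have hnZ : n₂ = n₂ + relCodim s.m'.Z.scheme s.m.Z.scheme := by rw [hrcZ]; ring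
  have hig : ∀ x : X.cdPt (q + 1),
      i₂ = i₂ + 2 * relCodim ((s.m.p x).W : Scheme.{u}) s.m.Z.scheme := by
    intro x
    have : relCodim ((s.m.p x).W : Scheme.{u}) s.m.Z.scheme = 0 :=
      relCodim_eq_zero ((s.m.dimW x).trans (s.m.dimZ hB).symm)
    rw [this]; ring
  have hng : ∀ x : X.cdPt (q + 1),
      n₂ = n₂ + relCodim ((s.m.p x).W : Scheme.{u}) s.m.Z.scheme := by
    intro x
    have : relCodim ((s.m.p x).W : Scheme.{u}) s.m.Z.scheme = 0 :=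
      relCodim_eq_zero ((s.m.dimW x).trans (s.m.dimZ hB).symm)
    rw [this]; ring
  have hig' : ∀ y : Y.cdPt (0 + 1),
      i₂ = i₂ + 2 * relCodim ((s.m'.p y).W : Scheme.{u}) s.m'.Z.scheme := by
    intro y
    have : relCodim ((s.m'.p y).W : Scheme.{u}) s.m'.Z.scheme = 0 :=
      relCodim_eq_zero ((s.m'.dimW y).trans (s.m'.dimZ hB').symm)
    rw [this]; ring
  have hng' : ∀ y : Y.cdPt (0 + 1),
      n₂ = n₂ + relCodim ((s.m'.p y).W : Scheme.{u}) s.m'.Z.scheme := by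
    intro y
    have : relCodim ((s.m'.p y).W : Scheme.{u}) s.m'.Z.scheme = 0 :=
      relCodim_eq_zero ((s.m'.dimW y).trans (s.m'.dimZ hB').symm)
    rw [this]; ring
  have hrcWW : ∀ (y : Y.cdPt (0 + 1)) (x : X.cdPt (q + 1)),
      relCodim ((s.m'.p y).W : Scheme.{u}) ((s.m.p x).W : Scheme.{u}) = 0 := by
    intro y x
    have b1 : WeilCoh.dim ((s.m'.p y).W : Scheme.{u}) = WeilCoh.dim s.m'.Z.scheme :=
      (s.m'.dimW y).trans (s.m'.dimZ hB').symm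
    have b2 : WeilCoh.dim ((s.m.p x).W : Scheme.{u}) = WeilCoh.dim s.m.Z.scheme :=
      (s.m.dimW x).trans (s.m.dimZ hB).symm
    unfold relCodim at hrcZ ⊢
    rw [b1, b2]; exact hrcZ
  have hif : ∀ (y : Y.cdPt (0 + 1)) (x : X.cdPt (q + 1)),
      i₂ = i₂ + 2 * relCodim ((s.m'.p y).W : Scheme.{u}) ((s.m.p x).W : Scheme.{u}) := by
    intro y x; rw [hrcWW y x]; ring
  have hnf : ∀ (y : Y.cdPt (0 + 1)) (x : X.cdPt (q + 1)),
      n₂ = n₂ + relCodim ((s.m'.p y).W : Scheme.{u}) ((s.m.p x).W : Scheme.{u}) := by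
    intro y x; rw [hrcWW y x]; ring
  -- the class on the open parts
  have dW : WeilCoh.dim (s.m'.U : Scheme.{u}) = WeilCoh.dim (c.W : Scheme.{u}) :=
    hdU'.trans (dim_eq_of_containsFj Y 0 c.W hcW).symm
  have dU : WeilCoh.dim (s.m.U : Scheme.{u}) = WeilCoh.dim (c.U : Scheme.{u}) :=
    hdU.trans (dim_eq_of_containsFj X q c.U hcU).symm
  set β' := (T.pull (Y.resLE s.hm'U dW) M i₃ n₃).hom β with hβ'
  have hαX1 : αX = ((T.fjι X q i₁ n₁ (mkFj X q s.m.U s.m.hU)).app M).hom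
      ((T.push (X := Y.res s.m'.U) (Y := X.res s.m.U) s.cU.f M i₃ n₃ i₁ n₁ hiU hnU).hom β') := by
    rw [hαX, ← ocolimι_resLE_apply T X (ContainsFj X q) i₁ n₁ M (mkFj X q c.U hcU)
      (mkFj X q s.m.U s.m.hU) s.hmU]
    congr 1
    exact push_pull_nested_apply T c s.cU s.hm'U s.hmU dW dU M i₃ n₃ i₁ n₁ hi hn hiU hnU β
  have hαY1 : αY = ((T.fjι Y 0 i₃ n₃ (mkFj Y 0 s.m'.U s.m'.hU)).app M).hom β' := by
    rw [hαY, ← ocolimι_resLE_apply T Y (ContainsFj Y 0) i₃ n₃ M (mkFj Y 0 c.W hcW)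
      (mkFj Y 0 s.m'.U s.m'.hU) s.hm'U]
  set ρ' := (T.res s.m'.D M i₃ n₃ i₂ n₂ hiD' hnD').hom β' with hρ'
  -- components
  have hcX : ∀ (x : X.cdPt (q + 1)) (hx : x ∈ s.m.B), ξX x =
      ((T.ptι X x.1 i₂ n₂ (mkPt X x.1 (s.m.p x).W (s.m.hWne x))).app M).hom
        ((T.pull (s.m.gObj x hx) M i₂ n₂).hom
          ((T.push (X := s.m'.Z) (Y := s.m.Z) s.fZ M i₂ n₂ i₂ n₂ hiZ hnZ).hom ρ')) := by
    intro x hx
    rw [hξX, PreTheory.ResData.tot_apply, hαX1,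
      s.m.resData_cpt_multi Q x hx M i₁ n₁ i₂ n₂ h2 h2' hiD hnD,
      s.star T hred M i₃ n₃ i₁ n₁ i₂ n₂ hiU hnU hiD hnD hiD' hnD' hiZ hnZ β']
  have hcY : ∀ (y : Y.cdPt (0 + 1)) (hy : y ∈ s.m'.B), ξY y =
      ((T.ptι Y y.1 i₂ n₂ (mkPt Y y.1 (s.m'.p y).W (s.m'.hWne y))).app M).hom
        ((T.pull (s.m'.gObj y hy) M i₂ n₂).hom ρ') := by
    intro y hy
    rw [hξY, PreTheory.ResData.tot_apply, hαY1,
      s.m'.resData_cpt_multi Q' y hy M i₃ n₃ i₂ n₂ h4 h4' hiD' hnD']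
  -- the proper maps between the pieces
  have hfy : ∀ y : {y // y ∈ s.m'.B}, ∃ fy : ((s.m'.p y.1).W : Scheme.{u}) ⟶
      ((s.m.p (t y.1)).W : Scheme.{u}), IsProper fy ∧
      fy ≫ s.m.g (t y.1) (htB y.1 y.2) = s.m'.g y.1 y.2 ≫ s.fZ ∧
      fy ≫ (s.m.p (t y.1)).W.ι ≫ X.ptSubι (t y.1).1 =
        (s.m'.p y.1).W.ι ≫ Y.ptSubι y.1.1 ≫ φ :=
    fun y => s.exists_fy y.1 y.2 (t y.1) (htB y.1 y.2) (ht y.1)
  choose fy hfyP hfy1 hfy2 using hfy
  -- the classes on the pieces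
  let v : ∀ y : {y // y ∈ s.m'.B}, T.gp ((Y.ptSub y.1.1).res (s.m'.p y.1).W) M i₂ n₂ :=
    fun y => (T.pull (s.m'.gObj y.1 y.2) M i₂ n₂).hom ρ'
  let uu : ∀ y : {y // y ∈ s.m'.B},
      T.gp ((X.ptSub (t y.1).1).res (s.m.p (t y.1)).W) M i₂ n₂ := fun y =>
    haveI := hfyP y
    (T.push (X := (Y.ptSub y.1.1).res (s.m'.p y.1).W) (Y := (X.ptSub (t y.1).1).res (s.m.p (t y.1)).W)
      (fy y) M i₂ n₂ i₂ n₂ (hif y.1 (t y.1)) (hnf y.1 (t y.1))).hom (v y)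
  -- push-forward of the residue along fZ
  have hpush : (T.push (X := s.m'.Z) (Y := s.m.Z) s.fZ M i₂ n₂ i₂ n₂ hiZ hnZ).hom ρ' =
      ∑ y ∈ s.m'.B.attach, (T.push (X := (X.ptSub (t y.1).1).res (s.m.p (t y.1)).W) (Y := s.m.Z)
        (s.m.g (t y.1) (htB y.1 y.2)) M i₂ n₂ i₂ n₂ (hig _) (hng _)).hom (uu y) := by
    conv_lhs => rw [s.m'.sum_push_pull M i₂ n₂ hig' hng' ρ']
    rw [map_sum]
    refine Finset.sum_congr rfl (fun y _ => ?_)
    haveI := hfyP y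
    have hc1 := T.push_comp (X := (Y.ptSub y.1.1).res (s.m'.p y.1).W) (Y := s.m'.Z) (Z := s.m.Z)
      (s.m'.g y.1 y.2) s.fZ M i₂ n₂ i₂ n₂ i₂ n₂ (hig' y.1) (hng' y.1) hiZ hnZ
      (by rw [show relCodim ((s.m'.p y.1).W : Scheme.{u}) s.m.Z.scheme = 0 from by
            have := hrcWW y.1 (t y.1)
            have b2 : WeilCoh.dim ((s.m.p (t y.1)).W : Scheme.{u}) = WeilCoh.dim s.m.Z.scheme :=
              (s.m.dimW (t y.1)).trans (s.m.dimZ hB).symm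
            unfold relCodim at this ⊢
            rw [← b2]; exact this]; ring)
      (by rw [show relCodim ((s.m'.p y.1).W : Scheme.{u}) s.m.Z.scheme = 0 from by
            have := hrcWW y.1 (t y.1)
            have b2 : WeilCoh.dim ((s.m.p (t y.1)).W : Scheme.{u}) = WeilCoh.dim s.m.Z.scheme :=
              (s.m.dimW (t y.1)).trans (s.m.dimZ hB).symm
            unfold relCodim at this ⊢
            rw [← b2]; exact this]; ring)
    have hc2 := T.push_comp (X := (Y.ptSub y.1.1).res (s.m'.p y.1).W)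
      (Y := (X.ptSub (t y.1).1).res (s.m.p (t y.1)).W) (Z := s.m.Z)
      (fy y) (s.m.g (t y.1) (htB y.1 y.2)) M i₂ n₂ i₂ n₂ i₂ n₂ (hif y.1 (t y.1)) (hnf y.1 (t y.1))
      (hig _) (hng _)
      (by rw [show relCodim ((s.m'.p y.1).W : Scheme.{u}) s.m.Z.scheme = 0 from by
            have := hrcWW y.1 (t y.1)
            have b2 : WeilCoh.dim ((s.m.p (t y.1)).W : Scheme.{u}) = WeilCoh.dim s.m.Z.scheme :=
              (s.m.dimW (t y.1)).trans (s.m.dimZ hB).symm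
            unfold relCodim at this ⊢
            rw [← b2]; exact this]; ring)
      (by rw [show relCodim ((s.m'.p y.1).W : Scheme.{u}) s.m.Z.scheme = 0 from by
            have := hrcWW y.1 (t y.1)
            have b2 : WeilCoh.dim ((s.m.p (t y.1)).W : Scheme.{u}) = WeilCoh.dim s.m.Z.scheme :=
              (s.m.dimW (t y.1)).trans (s.m.dimZ hB).symm
            unfold relCodim at this ⊢
            rw [← b2]; exact this]; ring)
    rw [push_congr T (X := (Y.ptSub y.1.1).res (s.m'.p y.1).W) (Y := s.m.Z)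
      (fy y ≫ s.m.g (t y.1) (htB y.1 y.2)) (s.m'.g y.1 y.2 ≫ s.fZ) (hfy1 y) M i₂ n₂ i₂ n₂] at hc2
    have hc1' := congrArg (fun ψ => ψ.hom (v y)) hc1
    have hc2' := congrArg (fun ψ => ψ.hom (v y)) hc2
    simp only [ModuleCat.hom_comp, LinearMap.comp_apply] at hc1' hc2'
    exact hc1'.trans hc2'.symm
  -- the left-hand side
  have hL : ξX = ∑ y ∈ s.m'.B.attach, DirectSum.lof R (X.cdPt (q + 1))
      (fun z : X.cdPt (q + 1) => T.ptGp X z.1 M i₂ n₂) (t y.1)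
      (((T.ptι X (t y.1).1 i₂ n₂ (mkPt X (t y.1).1 (s.m.p (t y.1)).W (s.m.hWne (t y.1)))).app M).hom
        (uu y)) := by
    rw [hsumX, ← Finset.sum_attach]
    rw [← s.m.sum_lof_pull_sum_push T M i₂ n₂ hig hng s.m'.B.attach (fun y => t y.1)
      (fun y => htB y.1 y.2) uu]
    refine Finset.sum_congr rfl (fun x _ => ?_)
    rw [hcX x.1 x.2, hpush]
  -- the right-hand side
  have hRterm : ∀ y : {y // y ∈ s.m'.B},
      ((F y.1).cpt M i₂ n₂).hom (ξY y.1) =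
        ((T.ptι X (t y.1).1 i₂ n₂ (mkPt X (t y.1).1 (s.m.p (t y.1)).W (s.m.hWne (t y.1)))).app M).hom
          (uu y) := by
    intro y
    haveI := hfyP y
    rw [hcY y.1 y.2]
    have hsp := (F y.1).cpt_spec M i₂ n₂ (mkPt Y y.1.1 (s.m'.p y.1).W (s.m'.hWne y.1))
      (mkPt X (t y.1).1 (s.m.p (t y.1)).W (s.m.hWne (t y.1))) (fy y) (hfy2 y)
      (hif y.1 (t y.1)) (hnf y.1 (t y.1))
    have := congrArg (fun ψ => ψ.hom (v y)) hsp
    simp only [ModuleCat.hom_comp, LinearMap.comp_apply] at this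
    exact this
  rw [hL, hsumY, map_sum]
  conv_rhs => rw [← Finset.sum_attach]
  refine Finset.sum_congr rfl (fun y _ => ?_)
  rw [← hRterm y]
  exact (PreTheory.PtPush.famTot_lof t F M i₂ n₂ y.1 (ξY y.1)).symm

end Groth.Agent.Lib.Helper27BMCoh
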