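import Mathlib
import Groth.Prelude.Def_BMCoh4
import Groth.Agent.Lib.Helper27BMCohDim3

set_option autoImplicit false
universe u
open CategoryTheory CategoryTheory.Limits AlgebraicGeometry Opposite TopologicalSpace
open BMCoh

namespace Groth.Agent.Lib.Helper27BMCoh

variable {V : ObjectProperty Scheme.{u}} [IsConstructible V]

/-- The closure of the point of `ptSub x` over `x` is everything. -/
lemma closure_ptSub_pt (X : Obj V) (x : X.scheme) (zx : (X.ptSub x).scheme)
    (hzx : X.ptSubι x zx = x) : closure ({zx} : Set (X.ptSub x).scheme) = Set.univ := by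
  have hind : Topology.IsInducing (X.ptSubι x) := (X.ptSubι x).isClosedEmbedding.isInducing
  rw [hind.closure_eq_preimage_closure_image, Set.image_singleton, hzx]
  ext z
  simp only [Set.mem_preimage, Set.mem_univ, iff_true]
  rw [← range_ptSubι]
  exact ⟨z, rfl⟩

lemma natDim_closure_ptSub_pt (X : Obj V) (x : X.scheme) (zx : (X.ptSub x).scheme)
    (hzx : X.ptSubι x zx = x) :
    WeilCoh.natDim ↥(closure ({zx} : Set (X.ptSub x).scheme)) = WeilCoh.dim (X.ptSub x).scheme := by
  rw [closure_ptSub_pt X x zx hzx]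
  exact natDim_eq_of_homeomorph (Homeomorph.Set.univ _)

/-- The geometric input for push-forward data between groups of points: a proper morphism between
pieces of the two closures, with source inside a prescribed nonempty open. -/
lemma exists_proper_piece {Y X : Obj V} (φ : Y.scheme ⟶ X.scheme) [IsProper φ] (y : Y.scheme)
    (x : X.scheme) (hφ : φ y = x)
    (hcod : WeilCoh.dim (Y.ptSub y).scheme = WeilCoh.dim (X.ptSub x).scheme)
    (W : (Y.ptSub y).scheme.Opens) (hW : (W : Set (Y.ptSub y).scheme).Nonempty) :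
    ∃ (W₁ : (Y.ptSub y).scheme.Opens) (_ : (W₁ : Set (Y.ptSub y).scheme).Nonempty) (_ : W₁ ≤ W)
      (W' : (X.ptSub x).scheme.Opens) (_ : (W' : Set (X.ptSub x).scheme).Nonempty)
      (f : (W₁ : Scheme.{u}) ⟶ (W' : Scheme.{u})), IsProper f ∧
        f ≫ W'.ι ≫ X.ptSubι x = W₁.ι ≫ Y.ptSubι y ≫ φ := by
  have hrange : Set.range (Y.ptSubι y ≫ φ) ⊆ Set.range (X.ptSubι x) := by
    rintro _ ⟨z, rfl⟩
    rw [range_ptSubι, Scheme.Hom.comp_apply]
    have h1 : Y.ptSubι y z ∈ closure ({y} : Set Y.scheme) := by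
      rw [← range_ptSubι]; exact ⟨z, rfl⟩
    have h2 := image_closure_subset_closure_image φ.continuous (s := {y}) ⟨_, h1, rfl⟩
    rwa [Set.image_singleton, hφ] at h2
  obtain ⟨ψ, hψ⟩ := Groth.Agent.Lib.Helper6.exists_lift_of_isReduced_of_range_subset
    (Y.ptSubι y ≫ φ) (X.ptSubι x) hrange
  haveI : IsProper (ψ ≫ X.ptSubι x) := by rw [hψ]; infer_instance
  haveI : IsProper ψ := IsProper.of_comp ψ (X.ptSubι x)
  have hψapp : ∀ z, X.ptSubι x (ψ z) = φ (Y.ptSubι y z) := by
    intro z
    have := congr($(hψ) z)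
    rwa [Scheme.Hom.comp_apply, Scheme.Hom.comp_apply] at this
  obtain ⟨zy, hzy⟩ := exists_ptSub_pt Y y
  obtain ⟨zx, hzx⟩ := exists_ptSub_pt X x
  have hzyx : ψ zy = zx := by
    apply (X.ptSubι x).isClosedEmbedding.injective
    rw [hψapp, hzy, hφ, hzx]
  -- only the generic point maps to the generic point
  have honly : ∀ z, ψ z = zx → z = zy := by
    intro z hz
    by_contra hne
    have h1 := natDim_closure_image_le (finDim (X.ptSub x)) (finDim (Y.ptSub y)) ψ.continuous
      ψ.isClosedMap (WeilCoh.natDim ↥(closure ({ψ z} : Set (X.ptSub x).scheme))) z le_rfl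
    rw [hz, natDim_closure_ptSub_pt X x zx hzx, ← hcod] at h1
    have hzcl : z ∈ closure ({zy} : Set (Y.ptSub y).scheme) := by
      rw [closure_ptSub_pt Y y zy hzy]; trivial
    have hnot : zy ∉ closure ({z} : Set (Y.ptSub y).scheme) := by
      intro h'
      apply hne
      have s1 : zy ⤳ z := specializes_iff_mem_closure.mpr hzcl
      have s2 : z ⤳ zy := specializes_iff_mem_closure.mpr h'
      exact (s2.antisymm s1).eq
    have h2 := natDim_closure_lt (finDim (Y.ptSub y)) hzcl hnot
    rw [natDim_closure_ptSub_pt Y y zy hzy] at h2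
    omega
  let W' : (X.ptSub x).scheme.Opens := ⟨(ψ '' (W : Set (Y.ptSub y).scheme)ᶜ)ᶜ,
    (ψ.isClosedMap _ W.2.isClosed_compl).isOpen_compl⟩
  have hzyW : zy ∈ W := generic_mem_of_nonempty W hW zy hzy
  have hzxW' : zx ∈ W' := by
    rintro ⟨z, hzW, hz⟩
    exact hzW ((honly z hz) ▸ hzyW)
  let W₁ : (Y.ptSub y).scheme.Opens := ψ ⁻¹ᵁ W'
  have hW₁ne : (W₁ : Set (Y.ptSub y).scheme).Nonempty := ⟨zy, by
    show ψ zy ∈ W'
    rw [hzyx]; exact hzxW'⟩
  have hle : W₁ ≤ W := by
    intro z hz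
    by_contra hzW
    exact hz ⟨z, hzW, rfl⟩
  refine ⟨W₁, hW₁ne, hle, W', ⟨zx, hzxW'⟩, ψ ∣_ W', inferInstance, ?_⟩
  rw [← Category.assoc, morphismRestrict_ι, Category.assoc, hψ]

variable {R : Type u} [CommRing R] {A : Coefs R} (T : PreTheory V R A)

/-- Push-forward data between groups of points along a proper morphism are unique. -/
theorem subsingleton_ptPush {Y X : Obj V} (φ : Y.scheme ⟶ X.scheme) [IsProper φ] (y : Y.scheme)
    (x : X.scheme) : Subsingleton (T.PtPush φ y x) := by
  constructor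
  intro L L'
  suffices h : L.cpt = L'.cpt by
    cases L; cases L'; cases h; rfl
  funext M i n
  apply ocolim_hom_ext
  intro W
  have hcod : WeilCoh.dim (Y.ptSub y).scheme = WeilCoh.dim (X.ptSub x).scheme := by
    have := L.codim_eq
    unfold relCodim at this
    omega
  obtain ⟨W₁, hW₁ne, hle, W', hW'ne, f, hfp, hfac⟩ :=
    exists_proper_piece φ y x L.maps_pt hcod W.1 W.2.1
  have hrc : relCodim ((Y.ptSub y).res W₁).scheme ((X.ptSub x).res W').scheme = 0 := by
    apply relCodim_eq_zero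
    show WeilCoh.dim (W₁ : Scheme.{u}) = WeilCoh.dim (W' : Scheme.{u})
    rw [dim_ptSub_open Y y W₁ hW₁ne, dim_ptSub_open X x W' hW'ne, hcod]
  have hi' : i = i + 2 * relCodim ((Y.ptSub y).res W₁).scheme ((X.ptSub x).res W').scheme := by
    rw [hrc]; ring
  have hn' : n = n + relCodim ((Y.ptSub y).res W₁).scheme ((X.ptSub x).res W').scheme := by
    rw [hrc]; ring
  have h1 := L.cpt_spec M i n (mkPt Y y W₁ hW₁ne) (mkPt X x W' hW'ne) f hfac hi' hn'
  have h2 := L'.cpt_spec M i n (mkPt Y y W₁ hW₁ne) (mkPt X x W' hW'ne) f hfac hi' hn'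
  have hres := ocolimι_resLE T (Y.ptSub y) (fun U => (U : Set (Y.ptSub y).scheme).Nonempty) i n W
    (mkPt Y y W₁ hW₁ne) hle
  have hres' := congrArg (fun φ => φ.app M) hres
  simp only [NatTrans.comp_app] at hres'
  rw [← hres', Category.assoc, Category.assoc]
  congr 1
  exact h1.trans h2.symm

end Groth.Agent.Lib.Helper27BMCoh
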