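import Mathlib
import Groth.Prelude.Def_BMCoh4
import Groth.Agent.Lib.Helper27BMCohGC4
import Groth.Agent.Lib.Helper27BMCohPtPush
import Groth.Agent.Lib.Helper27BMCohPushA

set_option autoImplicit false
universe u
open CategoryTheory CategoryTheory.Limits AlgebraicGeometry Opposite TopologicalSpace
open BMCoh

namespace Groth.Agent.Lib.Helper27BMCoh

variable {V : ObjectProperty Scheme.{u}} [IsConstructible V]

/-- Every nonempty open of the closure of `y` contains the preimage of a nonempty open of the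
closure of `x = φ y`, when the closures have the same dimension and `φ` is proper. -/
lemma exists_preimage_le {Y X : Obj V} (φ : Y.scheme ⟶ X.scheme) [IsProper φ] (y : Y.scheme)
    (x : X.scheme) (hφ : φ y = x)
    (hcod : WeilCoh.dim (Y.ptSub y).scheme = WeilCoh.dim (X.ptSub x).scheme)
    (ψ : (Y.ptSub y).scheme ⟶ (X.ptSub x).scheme) (hψ : ψ ≫ X.ptSubι x = Y.ptSubι y ≫ φ)
    (W : (Y.ptSub y).scheme.Opens) (hW : (W : Set (Y.ptSub y).scheme).Nonempty) :
    ∃ W' : (X.ptSub x).scheme.Opens, (W' : Set (X.ptSub x).scheme).Nonempty ∧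
      ((ψ ⁻¹ᵁ W' : (Y.ptSub y).scheme.Opens) : Set (Y.ptSub y).scheme).Nonempty ∧
      ψ ⁻¹ᵁ W' ≤ W := by
  haveI : IsProper (ψ ≫ X.ptSubι x) := by rw [hψ]; infer_instance
  haveI : IsProper ψ := IsProper.of_comp ψ (X.ptSubι x)
  have hψapp : ∀ z, X.ptSubι x (ψ z) = φ (Y.ptSubι y z) := by
    intro z
    have := congr($(hψ) z)
    rwa [Scheme.Hom.comp_apply, Scheme.Hom.comp_apply] at this
  obtain ⟨zy, hzy⟩ := exists_ptSub_pt Y y
  obtain ⟨zx, hzx⟩ := exists_ptSub_pt X x
  have hzyx : ψ zy = zx := by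
    apply (X.ptSubι x).isClosedEmbedding.injective
    rw [hψapp, hzy, hφ, hzx]
  have honly : ∀ z, ψ z = zx → z = zy := by
    intro z hz
    by_contra hne
    have h1 := natDim_closure_image_le (finDim (X.ptSub x)) (finDim (Y.ptSub y)) ψ.continuous
      ψ.isClosedMap (WeilCoh.natDim ↥(closure ({ψ z} : Set (X.ptSub x).scheme))) z le_rfl
    rw [hz, natDim_closure_ptSub_pt X x zx hzx, ← hcod] at h1
    have hzcl : z ∈ closure ({zy} : Set (Y.ptSub y).scheme) := by
      rw [closure_ptSub_pt Y y zy hzy]; trivial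
    have hnot : zy ∉ closure ({z} : Set (Y.ptSub y).scheme) := by
      intro h'
      apply hne
      have s1 : zy ⤳ z := specializes_iff_mem_closure.mpr hzcl
      have s2 : z ⤳ zy := specializes_iff_mem_closure.mpr h'
      exact (s2.antisymm s1).eq
    have h2 := natDim_closure_lt (finDim (Y.ptSub y)) hzcl hnot
    rw [natDim_closure_ptSub_pt Y y zy hzy] at h2
    omega
  let W' : (X.ptSub x).scheme.Opens := ⟨(ψ '' (W : Set (Y.ptSub y).scheme)ᶜ)ᶜ,
    (ψ.isClosedMap _ W.2.isClosed_compl).isOpen_compl⟩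
  have hzyW : zy ∈ W := generic_mem_of_nonempty W hW zy hzy
  have hzxW' : zx ∈ W' := by
    rintro ⟨z, hzW, hz⟩
    exact hzW ((honly z hz) ▸ hzyW)
  refine ⟨W', ⟨zx, hzxW'⟩, ⟨zy, ?_⟩, ?_⟩
  · show ψ zy ∈ W'
    rw [hzyx]; exact hzxW'
  · intro z hz
    by_contra hzW
    exact hz ⟨z, hzW, rfl⟩

end Groth.Agent.Lib.Helper27BMCoh
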