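import Mathlib
import Groth.Prelude.Def_BMCoh4
import Groth.Agent.Lib.Helper27BMCohGC5

set_option autoImplicit false
universe u
open CategoryTheory CategoryTheory.Limits AlgebraicGeometry Opposite TopologicalSpace
open BMCoh

namespace Groth.Agent.Lib.Helper27BMCoh

variable {V : ObjectProperty Scheme.{u}} [IsConstructible V]
variable {R : Type u} [CommRing R] {A : Coefs R} (T : PreTheory V R A)

set_option maxHeartbeats 1600000 in
/-- The first differential of the coniveau spectral sequence through the normalisation: general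
form, for any proper `φ : Y → X` from an integral object carrying the push-forward data. -/
theorem resTot_pushCpt_ptPush_eq
    (hred : ∀ (S : BMCoh.Obj V) (D D'' : BMCoh.Decomp S) (gU : D''.U ⟶ D.U)
      (k : D''.Z.scheme ⟶ D.Z.scheme) [IsClosedImmersion k] [AlgebraicGeometry.Surjective k],
      gU ≫ D.j = D''.j → k ≫ D.i = D''.i →
      ∀ (M : A.Cat) (i n i' n' : ℤ) (hi : i' = i + 1 - 2 * D.codim) (hn : n' = n - D.codim)
        (hi'' : i' = i + 1 - 2 * D''.codim) (hn'' : n' = n - D''.codim)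
        (hk : i' = i' + 2 * BMCoh.relCodim D''.Z.scheme D.Z.scheme)
        (hk' : n' = n' + BMCoh.relCodim D''.Z.scheme D.Z.scheme),
      T.pull gU M i n ≫ T.res D'' M i n i' n' hi'' hn'' ≫ T.push k M i' n' i' n' hk hk' =
        T.res D M i n i' n' hi hn)
    (X : BMCoh.Obj V) (q : ℕ) (w : X.cdPt q)
    (Y : BMCoh.Obj V) [IsIntegral Y.scheme]
    (φ : Y.scheme ⟶ X.scheme) [IsProper φ]
    (hη : WeilCoh.codim Y.scheme (genericPoint Y.scheme) = 0)
    (P : T.PushData X q) (Q : T.ResData X q) (L : T.PtPush φ (genericPoint Y.scheme) w.1)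
    (P' : T.PushData Y 0) (Q' : T.ResData Y 0) (t : Y.cdPt 1 → X.cdPt (q + 1))
    (F : ∀ y : Y.cdPt 1, T.PtPush φ y.1 (t y).1)
    (M : A.Cat) (i n i₁ n₁ i₂ n₂ i₃ n₃ : ℤ)
    (h1 : i₁ = i + 2 * (q : ℤ)) (h1' : n₁ = n + (q : ℤ))
    (h2 : i₂ = i₁ + 1 - 2 * ((q : ℤ) + 1)) (h2' : n₂ = n₁ - ((q : ℤ) + 1))
    (h3 : i₃ = i + 2 * ((0 : ℕ) : ℤ)) (h3' : n₃ = n + ((0 : ℕ) : ℤ))
    (h4 : i₂ = i₃ + 1 - 2 * (((0 : ℕ) : ℤ) + 1)) (h4' : n₂ = n₃ - (((0 : ℕ) : ℤ) + 1))
    (a : T.ptGp Y (genericPoint Y.scheme) M i n) :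
    (Q.tot M i₁ n₁ i₂ n₂ h2 h2').hom ((P.cpt w M i n i₁ n₁ h1 h1').hom ((L.cpt M i n).hom a)) =
      (BMCoh.PreTheory.PtPush.famTot t F M i₂ n₂).hom
        ((Q'.tot M i₃ n₃ i₂ n₂ h4 h4').hom
          ((P'.cpt ⟨genericPoint Y.scheme, hη⟩ M i n i₃ n₃ h3 h3').hom a)) := by
  obtain ⟨η, hηdef⟩ : ∃ η : Y.scheme, η = genericPoint Y.scheme := ⟨_, rfl⟩
  have hφη : φ (genericPoint Y.scheme) = w.1 := L.maps_pt
  -- dimensions
  have hcodL : WeilCoh.dim (Y.ptSub (genericPoint Y.scheme)).scheme =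
      WeilCoh.dim (X.ptSub w.1).scheme := by
    have := L.codim_eq
    unfold relCodim at this
    omega
  have hdim : WeilCoh.dim X.scheme = WeilCoh.dim Y.scheme + q := by
    have a1 := dim_ptSub X w.1
    have a2 := dim_ptSub Y (genericPoint Y.scheme)
    have a3 := w.2
    have a4 := pdim_le_dim X w.1
    have a5 := pdim_le_dim Y (genericPoint Y.scheme)
    have a6 := hη
    unfold WeilCoh.codim at a3 a6
    omega
  -- the morphism between the reduced closures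
  have hrange : Set.range (Y.ptSubι (genericPoint Y.scheme) ≫ φ) ⊆ Set.range (X.ptSubι w.1) := by
    rintro _ ⟨z, rfl⟩
    rw [range_ptSubι, Scheme.Hom.comp_apply]
    have h1 : Y.ptSubι (genericPoint Y.scheme) z ∈
        closure ({genericPoint Y.scheme} : Set Y.scheme) := by
      rw [← range_ptSubι]; exact ⟨z, rfl⟩
    have h2 := image_closure_subset_closure_image φ.continuous
      (s := {genericPoint Y.scheme}) ⟨_, h1, rfl⟩
    rwa [Set.image_singleton, hφη] at h2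
  obtain ⟨ψ, hψ⟩ := Groth.Agent.Lib.Helper6.exists_lift_of_isReduced_of_range_subset
    (Y.ptSubι (genericPoint Y.scheme) ≫ φ) (X.ptSubι w.1) hrange
  haveI : IsProper (ψ ≫ X.ptSubι w.1) := by rw [hψ]; infer_instance
  haveI : IsProper ψ := IsProper.of_comp ψ (X.ptSubι w.1)
  have hψapp : ∀ z, X.ptSubι w.1 (ψ z) = φ (Y.ptSubι (genericPoint Y.scheme) z) := by
    intro z
    have := congr($(hψ) z)
    rwa [Scheme.Hom.comp_apply, Scheme.Hom.comp_apply] at this
  -- represent the class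
  obtain ⟨W, γ, rfl⟩ := ocolim_exists_rep T (Y.ptSub (genericPoint Y.scheme)) _ i n M a
  obtain ⟨W', hW'ne, hW₁ne, hle⟩ := exists_preimage_le φ (genericPoint Y.scheme) w.1 hφη hcodL
    ψ hψ W.1 W.2.1
  have hγ₁ := ocolimι_resLE_apply T (Y.ptSub (genericPoint Y.scheme)) _ i n M W
    (mkPt Y (genericPoint Y.scheme) (ψ ⁻¹ᵁ W') hW₁ne) hle γ
  rw [← hγ₁]
  set γ₁ := (T.pull ((Y.ptSub (genericPoint Y.scheme)).resLE hle
    ((mkPt Y (genericPoint Y.scheme) (ψ ⁻¹ᵁ W') hW₁ne).2.2.trans W.2.2.symm)) M i n).hom γ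
    with hγ₁def
  -- the push-forward datum on the piece
  have hrc0 : relCodim ((Y.ptSub (genericPoint Y.scheme)).res (ψ ⁻¹ᵁ W')).scheme
      ((X.ptSub w.1).res W').scheme = 0 := by
    apply relCodim_eq_zero
    show WeilCoh.dim ((ψ ⁻¹ᵁ W' : (Y.ptSub (genericPoint Y.scheme)).scheme.Opens) : Scheme.{u}) =
      WeilCoh.dim (W' : Scheme.{u})
    rw [dim_ptSub_open Y _ _ hW₁ne, dim_ptSub_open X w.1 W' hW'ne, hcodL]
  have hi0 : i = i + 2 * relCodim ((Y.ptSub (genericPoint Y.scheme)).res (ψ ⁻¹ᵁ W')).scheme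
      ((X.ptSub w.1).res W').scheme := by rw [hrc0]; ring
  have hn0 : n = n + relCodim ((Y.ptSub (genericPoint Y.scheme)).res (ψ ⁻¹ᵁ W')).scheme
      ((X.ptSub w.1).res W').scheme := by rw [hrc0]; ring
  have hL : (L.cpt M i n).hom (((T.ptι Y (genericPoint Y.scheme) i n
      (mkPt Y (genericPoint Y.scheme) (ψ ⁻¹ᵁ W') hW₁ne)).app M).hom γ₁) =
      ((T.ptι X w.1 i n (mkPt X w.1 W' hW'ne)).app M).hom
        ((T.push (X := (Y.ptSub (genericPoint Y.scheme)).res (ψ ⁻¹ᵁ W'))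
          (Y := (X.ptSub w.1).res W') (ψ ∣_ W') M i n i n hi0 hn0).hom γ₁) := by
    have hfac : (ψ ∣_ W') ≫ W'.ι ≫ X.ptSubι w.1 =
        (ψ ⁻¹ᵁ W').ι ≫ Y.ptSubι (genericPoint Y.scheme) ≫ φ := by
      rw [← Category.assoc, morphismRestrict_ι, Category.assoc, hψ]
    have h := L.cpt_spec M i n (mkPt Y (genericPoint Y.scheme) (ψ ⁻¹ᵁ W') hW₁ne)
      (mkPt X w.1 W' hW'ne) (ψ ∣_ W') hfac hi0 hn0
    have := congrArg (fun φ => φ.hom γ₁) h
    simp only [ModuleCat.hom_comp, LinearMap.comp_apply] at this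
    exact this
  -- the piece of the closure of `w`
  let p : Piece X w.1 := Piece.ofW W' ⊤ (fun _ _ => trivial)
  have hpU : ContainsFj X q p.U := fun y hy => ⟨trivial, containsFj_openCompl W' hW'ne w.2 y hy⟩
  have hdpU : WeilCoh.dim (p.U : Scheme.{u}) = WeilCoh.dim X.scheme :=
    dim_eq_of_containsFj X q p.U hpU
  have hrcp : relCodim (p.W : Scheme.{u}) (p.U : Scheme.{u}) = (q : ℤ) := by
    rw [relCodim_piece W' hW'ne p.U hdpU, w.2]
  have hip : i₁ = i + 2 * relCodim (p.W : Scheme.{u}) (p.U : Scheme.{u}) := by rw [hrcp]; exact h1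
  have hnp : n₁ = n + relCodim (p.W : Scheme.{u}) (p.U : Scheme.{u}) := by rw [hrcp]; exact h1'
  -- the piece of `φ`
  let c : CPiece φ := CPiece.ofOpen φ p.U
  have hgen : ∀ z : Y.scheme, WeilCoh.codim Y.scheme z = 0 → z = genericPoint Y.scheme := by
    intro z hz
    by_contra hne
    have hcl : z ∈ closure ({genericPoint Y.scheme} : Set Y.scheme) := by
      rw [(genericPoint_spec Y.scheme).def]; trivial
    have := codim_lt_of_mem_closure Y hcl hne
    omega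
  have hwU : w.1 ∈ p.U := hpU w.1 w.2.le
  have hcW : ContainsFj Y 0 c.W := by
    intro z hz
    have hz0 : z = genericPoint Y.scheme := hgen z (by omega)
    show φ z ∈ p.U
    rw [hz0, hφη]; exact hwU
  have hUc : ∀ x : X.scheme, x ∉ c.U → x ∈ Set.range φ := by
    intro x hx
    have hxcl : x ∈ closure ({w.1} : Set X.scheme) := by
      by_contra hncl
      exact hx ⟨trivial, mem_openCompl_of_not_mem_closure hncl⟩
    have hcl : closure ({w.1} : Set X.scheme) ⊆ Set.range φ :=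
      closure_minimal (Set.singleton_subset_iff.mpr ⟨genericPoint Y.scheme, hφη⟩)
        φ.isClosedMap.isClosed_range
    exact hcl hxcl
  have hdcW : WeilCoh.dim (c.W : Scheme.{u}) = WeilCoh.dim Y.scheme :=
    dim_eq_of_containsFj Y 0 c.W hcW
  -- the piece of the closure of the generic point
  let p'' : Piece Y (genericPoint Y.scheme) :=
    { W := ψ ⁻¹ᵁ W'
      U := c.W
      U₀ := c.W ⊓ clCompl Y (genericPoint Y.scheme)
      hW := fun z => by
        show ψ z ∈ W' ↔ φ (Y.ptSubι (genericPoint Y.scheme) z) ∈ p.U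
        rw [← hψapp]
        constructor
        · intro h
          exact ⟨trivial, (ptSubι_mem_openCompl _).mpr h⟩
        · intro h
          exact (ptSubι_mem_openCompl _).mp h.2
      hU₀ := fun y => Iff.rfl }
  have hrcp'' : relCodim (p''.W : Scheme.{u}) (p''.U : Scheme.{u}) = ((0 : ℕ) : ℤ) := by
    rw [relCodim_piece (X := Y) (x := genericPoint Y.scheme) (ψ ⁻¹ᵁ W') hW₁ne c.W hdcW, hη]
  have hip'' : i₃ = i + 2 * relCodim (p''.W : Scheme.{u}) (p''.U : Scheme.{u}) := by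
    rw [hrcp'']; exact h3
  have hnp'' : n₃ = n + relCodim (p''.W : Scheme.{u}) (p''.U : Scheme.{u}) := by
    rw [hrcp'']; exact h3'
  have hrcc : relCodim (c.W : Scheme.{u}) (c.U : Scheme.{u}) = (q : ℤ) := by
    unfold relCodim
    rw [hdcW]
    have : WeilCoh.dim (c.U : Scheme.{u}) = WeilCoh.dim X.scheme := hdpU
    rw [this, hdim]; push_cast; ring
  have e1 : i₁ = i₃ + 2 * (q : ℤ) := by
    rw [h1, h3]; push_cast; ring
  have e1' : n₁ = n₃ + (q : ℤ) := by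
    rw [h1', h3']; push_cast; ring
  have hic : i₁ = i₃ + 2 * relCodim (c.W : Scheme.{u}) (c.U : Scheme.{u}) := by rw [hrcc]; exact e1
  have hnc : n₁ = n₃ + relCodim (c.W : Scheme.{u}) (c.U : Scheme.{u}) := by rw [hrcc]; exact e1'
  -- evaluate both push-forward data
  rw [hL]
  rw [pushData_cpt_piece_apply T P w M i n i₁ n₁ h1 h1' p hW'ne hpU hip hnp]
  rw [pushData_cpt_piece_apply T P' ⟨genericPoint Y.scheme, hη⟩ M i n i₃ n₃ h3 h3' p'' hW₁ne hcW
    hip'' hnp'' γ₁]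
  -- compare the two composite push-forwards
  have hcomp : (ψ ∣_ W') ≫ p.f = p''.f ≫ c.f := by
    rw [← cancel_mono p.U.ι, Category.assoc, Category.assoc]
    have e1 : p.f ≫ p.U.ι = p.W.ι ≫ X.ptSubι w.1 := p.f_fac
    have e2 : c.f ≫ c.U.ι = c.W.ι ≫ φ := c.f_fac
    have e3 : p''.f ≫ p''.U.ι = p''.W.ι ≫ Y.ptSubι (genericPoint Y.scheme) := p''.f_fac
    have e2' : c.f ≫ p.U.ι = c.W.ι ≫ φ := e2
    rw [e1, e2', ← Category.assoc p''.f, e3, Category.assoc]
    show (ψ ∣_ W') ≫ W'.ι ≫ X.ptSubι w.1 = (ψ ⁻¹ᵁ W').ι ≫ Y.ptSubι (genericPoint Y.scheme) ≫ φ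
    rw [← Category.assoc, morphismRestrict_ι, Category.assoc, hψ]
  have hrct : relCodim ((Y.ptSub (genericPoint Y.scheme)).res (ψ ⁻¹ᵁ W')).scheme
      (X.res p.U).scheme = (q : ℤ) := by
    have b1 : relCodim ((Y.ptSub (genericPoint Y.scheme)).res (ψ ⁻¹ᵁ W')).scheme
      ((X.ptSub w.1).res W').scheme = 0 := hrc0
    have b2 : relCodim ((X.ptSub w.1).res W').scheme (X.res p.U).scheme = (q : ℤ) := hrcp
    unfold relCodim at b1 b2 ⊢
    omega
  have hit : i₁ = i + 2 * relCodim ((Y.ptSub (genericPoint Y.scheme)).res (ψ ⁻¹ᵁ W')).scheme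
      (X.res p.U).scheme := by rw [hrct]; exact h1
  have hnt : n₁ = n + relCodim ((Y.ptSub (genericPoint Y.scheme)).res (ψ ⁻¹ᵁ W')).scheme
      (X.res p.U).scheme := by rw [hrct]; exact h1'
  have hc1 := T.push_comp (X := (Y.ptSub (genericPoint Y.scheme)).res (ψ ⁻¹ᵁ W'))
    (Y := (X.ptSub w.1).res W') (Z := X.res p.U) (ψ ∣_ W') p.f M i n i n i₁ n₁ hi0 hn0 hip hnp
    hit hnt
  have hc2 := T.push_comp (X := (Y.ptSub (genericPoint Y.scheme)).res (ψ ⁻¹ᵁ W'))
    (Y := Y.res c.W) (Z := X.res c.U) p''.f c.f M i n i₃ n₃ i₁ n₁ hip'' hnp'' hic hnc hit hnt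
  rw [push_congr T (X := (Y.ptSub (genericPoint Y.scheme)).res (ψ ⁻¹ᵁ W')) (Y := X.res p.U)
    ((ψ ∣_ W') ≫ p.f) (p''.f ≫ c.f) hcomp M i n i₁ n₁ hit hnt] at hc1
  have hc1' := congrArg (fun ψ => ψ.hom γ₁) hc1
  have hc2' := congrArg (fun ψ => ψ.hom γ₁) hc2
  simp only [ModuleCat.hom_comp, LinearMap.comp_apply] at hc1' hc2'
  have hkey : (T.push (X := (X.ptSub w.1).res p.W) (Y := X.res p.U) p.f M i n i₁ n₁ hip hnp).hom
      ((T.push (X := (Y.ptSub (genericPoint Y.scheme)).res (ψ ⁻¹ᵁ W'))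
          (Y := (X.ptSub w.1).res W') (ψ ∣_ W') M i n i n hi0 hn0).hom γ₁) =
      (T.push (X := Y.res c.W) (Y := X.res c.U) c.f M i₃ n₃ i₁ n₁ hic hnc).hom
        ((T.push (X := (Y.ptSub (genericPoint Y.scheme)).res p''.W) (Y := Y.res p''.U) p''.f
          M i n i₃ n₃ hip'' hnp'').hom γ₁) := hc1'.trans hc2'.symm
  rw [hkey]
  exact gc T hred φ q hdim Q Q' t F M i₃ n₃ i₁ n₁ i₂ n₂ e1 e1' h2 h2' h4 h4' c hpU hcW hUc hic hnc _

end Groth.Agent.Lib.Helper27BMCoh
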