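import Mathlib
import Groth.Prelude.Def_BMCoh4
import Groth.Agent.Lib.Helper27BMCohPtPush
import Groth.Agent.Lib.Helper27BMCohCover

set_option autoImplicit false
universe u
open CategoryTheory CategoryTheory.Limits AlgebraicGeometry Opposite TopologicalSpace
open BMCoh

namespace Groth.Agent.Lib.Helper27BMCoh

/-- The normalisation of an integral scheme, when of finite type, is an isomorphism over a
neighbourhood of the generic point. -/
lemma exists_isIso_restrict_normalization (Z : Scheme.{u}) [IsIntegral Z]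
    [QuasiCompact (Z.fromSpecStalk (genericPoint Z))]
    [QuasiSeparated (Z.fromSpecStalk (genericPoint Z))]
    [IsProper (Curv2.normalizationι Z)] :
    ∃ U : Z.Opens, genericPoint Z ∈ U ∧ IsIso (Curv2.normalizationι Z ∣_ U) := by
  let f := Z.fromSpecStalk (genericPoint Z)
  let ν : f.normalization ⟶ Z := f.fromNormalization
  have hν : Curv2.normalizationι Z = ν := rfl
  have : IsProper ν := ‹IsProper (Curv2.normalizationι Z)›
  let t := f.toNormalization
  have ht : t ≫ ν = Z.fromSpecStalk (genericPoint Z) ≫ 𝟙 Z := by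
    rw [Category.comp_id]; exact f.toNormalization_fromNormalization
  obtain ⟨U, hxU, s, hts, hsν⟩ := spread_out_of_isGermInjective' (𝟙 Z) ν t ht
  rw [Category.comp_id] at hsν
  refine ⟨U, hxU, ?_⟩
  rw [hν]
  have hsub : Set.range s ⊆ Set.range (ν ⁻¹ᵁ U).ι := by
    rintro _ ⟨u, rfl⟩
    rw [Scheme.Opens.range_ι]
    show ν (s u) ∈ U
    rw [← Scheme.Hom.comp_apply, hsν]
    exact u.2
  let s' := IsOpenImmersion.lift (ν ⁻¹ᵁ U).ι s hsub
  have hs' : s' ≫ (ν ⁻¹ᵁ U).ι = s := IsOpenImmersion.lift_fac _ _ _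
  have hsec : s' ≫ (ν ∣_ U) = 𝟙 _ := by
    rw [← cancel_mono U.ι, Category.assoc, morphismRestrict_ι, ← Category.assoc, hs', hsν,
      Category.id_comp]
  have : IsClosedImmersion (s' ≫ (ν ∣_ U)) := by rw [hsec]; infer_instance
  have : IsClosedImmersion s' := IsClosedImmersion.of_comp s' (ν ∣_ U)
  have hdense : DenseRange s := by
    have h1 : DenseRange t := (inferInstance : IsDominant t).denseRange
    refine h1.mono ?_
    rw [hts]
    rintro _ ⟨p, rfl⟩
    exact ⟨_, (Scheme.Hom.comp_apply _ _ _).symm⟩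
  have : Surjective s' := by
    constructor
    have hcl : IsClosed (Set.range s') := s'.isClosedEmbedding.isClosed_range
    have hd : closure (Set.range s') = Set.univ := by
      rw [(ν ⁻¹ᵁ U).ι.isOpenEmbedding.isInducing.closure_eq_preimage_closure_image]
      have : (ν ⁻¹ᵁ U).ι '' Set.range s' = Set.range s := by
        ext z
        constructor
        · rintro ⟨_, ⟨u, rfl⟩, rfl⟩
          exact ⟨u, by rw [← hs', Scheme.Hom.comp_apply]⟩
        · rintro ⟨u, rfl⟩
          exact ⟨s' u, ⟨u, rfl⟩, by rw [← hs', Scheme.Hom.comp_apply]⟩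
      rw [this, hdense.closure_range]
      rfl
    intro z
    have : z ∈ closure (Set.range s') := by rw [hd]; trivial
    rwa [hcl.closure_eq] at this
  have : IsReduced (ν ⁻¹ᵁ U).toScheme := isReduced_of_isOpenImmersion (ν ⁻¹ᵁ U).ι
  have : IsIso s' := isIso_of_isClosedImmersion_of_surjective s'
  have : IsIso (s' ≫ (ν ∣_ U)) := by rw [hsec]; infer_instance
  exact IsIso.of_isIso_comp_left s' (ν ∣_ U)


/-- Restrictions of a morphism to nested opens form a cartesian square. -/
lemma isPullback_morphismRestrict_le {X Y : Scheme.{u}} (f : X ⟶ Y) {U' U : Y.Opens} (h : U' ≤ U) :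
    IsPullback (X.homOfLE (f.preimage_mono h)) (f ∣_ U') (f ∣_ U) (Y.homOfLE h) := by
  have H : X.homOfLE (f.preimage_mono h) ≫ (f ∣_ U) = (f ∣_ U') ≫ Y.homOfLE h := by
    rw [← cancel_mono U.ι, Category.assoc, Category.assoc, Scheme.homOfLE_ι, morphismRestrict_ι,
      morphismRestrict_ι, Scheme.homOfLE_ι_assoc]
  refine (IsOpenImmersion.isPullback (f ∣_ U') (X.homOfLE (f.preimage_mono h)) (Y.homOfLE h)
    (f ∣_ U) H ?_).flip
  ext w
  show (f ∣_ U) w ∈ Set.range (Y.homOfLE h) ↔ w ∈ Set.range (X.homOfLE (f.preimage_mono h))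
  rw [mem_range_homOfLE, mem_range_homOfLE]
  have : U.ι ((f ∣_ U) w) = f ((f ⁻¹ᵁ U).ι w) := by
    have := congr($(morphismRestrict_ι f U) w)
    rwa [Scheme.Hom.comp_apply, Scheme.Hom.comp_apply] at this
  rw [this]
  rfl

variable {V : ObjectProperty Scheme.{u}} [IsConstructible V]
variable {R : Type u} [CommRing R] {A : Coefs R} (T : PreTheory V R A)

omit [IsConstructible V] in
/-- Push-forward along an isomorphism is bijective. -/
lemma push_bijective_of_isIso {X Y : Obj V} (f : X.scheme ⟶ Y.scheme) [IsIso f] (M : A.Cat)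
    (i n : ℤ) (hi : i = i + 2 * relCodim X.scheme Y.scheme)
    (hn : n = n + relCodim X.scheme Y.scheme) :
    Function.Bijective (T.push f M i n i n hi hn).hom := by
  have hrc : relCodim X.scheme Y.scheme = 0 := by omega
  have hrc' : relCodim Y.scheme X.scheme = 0 := by unfold relCodim at hrc ⊢; omega
  have hX : relCodim X.scheme X.scheme = 0 := relCodim_eq_zero rfl
  have hY : relCodim Y.scheme Y.scheme = 0 := relCodim_eq_zero rfl
  have hi' : i = i + 2 * relCodim Y.scheme X.scheme := by rw [hrc']; ring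
  have hn' : n = n + relCodim Y.scheme X.scheme := by rw [hrc']; ring
  have hiX : i = i + 2 * relCodim X.scheme X.scheme := by rw [hX]; ring
  have hnX : n = n + relCodim X.scheme X.scheme := by rw [hX]; ring
  have hiY : i = i + 2 * relCodim Y.scheme Y.scheme := by rw [hY]; ring
  have hnY : n = n + relCodim Y.scheme Y.scheme := by rw [hY]; ring
  have h1 := T.push_comp f (inv f) M i n i n i n hi hn hi' hn' hiX hnX
  rw [push_congr T (f ≫ inv f) (𝟙 _) (IsIso.hom_inv_id f) M i n i n hiX hnX, T.push_id] at h1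
  have h2 := T.push_comp (inv f) f M i n i n i n hi' hn' hi hn hiY hnY
  rw [push_congr T (inv f ≫ f) (𝟙 _) (IsIso.inv_hom_id f) M i n i n hiY hnY, T.push_id] at h2
  refine Function.bijective_iff_has_inverse.mpr ⟨(T.push (inv f) M i n i n hi' hn').hom, ?_, ?_⟩
  · intro b
    have := congrArg (fun φ => φ.hom b) h1
    simpa using this
  · intro b
    have := congrArg (fun φ => φ.hom b) h2
    simpa using this

end Groth.Agent.Lib.Helper27BMCoh
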