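import Mathlib
import Groth.Prelude.Def_BMCoh4
import Groth.Agent.Lib.Helper27BMCohNorm

set_option autoImplicit false
universe u
open CategoryTheory CategoryTheory.Limits AlgebraicGeometry Opposite TopologicalSpace
open BMCoh

namespace Groth.Agent.Lib.Helper27BMCoh

variable {V : ObjectProperty Scheme.{u}} [IsConstructible V]
variable {R : Type u} [CommRing R] {A : Coefs R} (T : PreTheory V R A)

/-- A push-forward datum between groups of points is bijective if the induced morphism of the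
reduced closures is an isomorphism over all small enough opens of the target. -/
theorem ptPush_cpt_bijective {Y X : Obj V} (φ : Y.scheme ⟶ X.scheme) [IsProper φ] (y : Y.scheme)
    (x : X.scheme) (L : T.PtPush φ y x)
    (ψ : (Y.ptSub y).scheme ⟶ (X.ptSub x).scheme) (hψ : ψ ≫ X.ptSubι x = Y.ptSubι y ≫ φ)
    (U₀ : (X.ptSub x).scheme.Opens) (hU₀ : (U₀ : Set (X.ptSub x).scheme).Nonempty)
    (hiso : ∀ W' : (X.ptSub x).scheme.Opens, W' ≤ U₀ → IsIso (ψ ∣_ W')) (M : A.Cat) (i n : ℤ) :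
    Function.Bijective (L.cpt M i n).hom := by
  have hφ : φ y = x := L.maps_pt
  have hcod : WeilCoh.dim (Y.ptSub y).scheme = WeilCoh.dim (X.ptSub x).scheme := by
    have := L.codim_eq
    unfold relCodim at this
    omega
  haveI : IsProper (ψ ≫ X.ptSubι x) := by rw [hψ]; infer_instance
  haveI : IsProper ψ := IsProper.of_comp ψ (X.ptSubι x)
  have hψapp : ∀ z, X.ptSubι x (ψ z) = φ (Y.ptSubι y z) := by
    intro z
    have := congr($(hψ) z)
    rwa [Scheme.Hom.comp_apply, Scheme.Hom.comp_apply] at this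
  obtain ⟨zy, hzy⟩ := exists_ptSub_pt Y y
  obtain ⟨zx, hzx⟩ := exists_ptSub_pt X x
  have hzyx : ψ zy = zx := by
    apply (X.ptSubι x).isClosedEmbedding.injective
    rw [hψapp, hzy, hφ, hzx]
  have honly : ∀ z, ψ z = zx → z = zy := by
    intro z hz
    by_contra hne
    have h1 := natDim_closure_image_le (finDim (X.ptSub x)) (finDim (Y.ptSub y)) ψ.continuous
      ψ.isClosedMap (WeilCoh.natDim ↥(closure ({ψ z} : Set (X.ptSub x).scheme))) z le_rfl
    rw [hz, natDim_closure_ptSub_pt X x zx hzx, ← hcod] at h1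
    have hzcl : z ∈ closure ({zy} : Set (Y.ptSub y).scheme) := by
      rw [closure_ptSub_pt Y y zy hzy]; trivial
    have hnot : zy ∉ closure ({z} : Set (Y.ptSub y).scheme) := by
      intro h'
      apply hne
      have s1 : zy ⤳ z := specializes_iff_mem_closure.mpr hzcl
      have s2 : z ⤳ zy := specializes_iff_mem_closure.mpr h'
      exact (s2.antisymm s1).eq
    have h2 := natDim_closure_lt (finDim (Y.ptSub y)) hzcl hnot
    rw [natDim_closure_ptSub_pt Y y zy hzy] at h2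
    omega
  -- preimages of nonempty opens are nonempty
  have hpre : ∀ W' : (X.ptSub x).scheme.Opens, (W' : Set (X.ptSub x).scheme).Nonempty →
      ((ψ ⁻¹ᵁ W' : (Y.ptSub y).scheme.Opens) : Set (Y.ptSub y).scheme).Nonempty := by
    intro W' hW'
    refine ⟨zy, ?_⟩
    show ψ zy ∈ W'
    rw [hzyx]
    exact generic_mem_of_nonempty W' hW' zx hzx
  -- every nonempty open of the source contains such a preimage
  have hsmall : ∀ W : (Y.ptSub y).scheme.Opens, (W : Set (Y.ptSub y).scheme).Nonempty →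
      ∃ W' : (X.ptSub x).scheme.Opens, (W' : Set (X.ptSub x).scheme).Nonempty ∧ ψ ⁻¹ᵁ W' ≤ W := by
    intro W hW
    let W' : (X.ptSub x).scheme.Opens := ⟨(ψ '' (W : Set (Y.ptSub y).scheme)ᶜ)ᶜ,
      (ψ.isClosedMap _ W.2.isClosed_compl).isOpen_compl⟩
    have hzyW : zy ∈ W := generic_mem_of_nonempty W hW zy hzy
    have hzxW' : zx ∈ W' := by
      rintro ⟨z, hzW, hz⟩
      exact hzW ((honly z hz) ▸ hzyW)
    refine ⟨W', ⟨zx, hzxW'⟩, ?_⟩
    intro z hz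
    by_contra hzW
    exact hz ⟨z, hzW, rfl⟩
  -- the defining property for the standard pieces
  have hrc : ∀ (W' : (X.ptSub x).scheme.Opens) (hW' : (W' : Set (X.ptSub x).scheme).Nonempty),
      relCodim ((Y.ptSub y).res (ψ ⁻¹ᵁ W')).scheme ((X.ptSub x).res W').scheme = 0 := by
    intro W' hW'
    apply relCodim_eq_zero
    show WeilCoh.dim ((ψ ⁻¹ᵁ W' : (Y.ptSub y).scheme.Opens) : Scheme.{u}) =
      WeilCoh.dim (W' : Scheme.{u})
    rw [dim_ptSub_open Y y _ (hpre W' hW'), dim_ptSub_open X x W' hW', hcod]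
  have hi' : ∀ (W' : (X.ptSub x).scheme.Opens) (hW' : (W' : Set (X.ptSub x).scheme).Nonempty),
      i = i + 2 * relCodim ((Y.ptSub y).res (ψ ⁻¹ᵁ W')).scheme ((X.ptSub x).res W').scheme := by
    intro W' hW'; rw [hrc W' hW']; ring
  have hn' : ∀ (W' : (X.ptSub x).scheme.Opens) (hW' : (W' : Set (X.ptSub x).scheme).Nonempty),
      n = n + relCodim ((Y.ptSub y).res (ψ ⁻¹ᵁ W')).scheme ((X.ptSub x).res W').scheme := by
    intro W' hW'; rw [hrc W' hW']; ring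
  have hspec : ∀ (W' : (X.ptSub x).scheme.Opens) (hW' : (W' : Set (X.ptSub x).scheme).Nonempty)
      (γ : T.gp ((Y.ptSub y).res (ψ ⁻¹ᵁ W')) M i n),
      (L.cpt M i n).hom (((T.ptι Y y i n (mkPt Y y (ψ ⁻¹ᵁ W') (hpre W' hW'))).app M).hom γ) =
        ((T.ptι X x i n (mkPt X x W' hW')).app M).hom
          ((T.push (X := (Y.ptSub y).res (ψ ⁻¹ᵁ W')) (Y := (X.ptSub x).res W') (ψ ∣_ W') M i n i n
            (hi' W' hW') (hn' W' hW')).hom γ) := by
    intro W' hW' γ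
    have hfac : (ψ ∣_ W') ≫ W'.ι ≫ X.ptSubι x = (ψ ⁻¹ᵁ W').ι ≫ Y.ptSubι y ≫ φ := by
      rw [← Category.assoc, morphismRestrict_ι, Category.assoc, hψ]
    have h := L.cpt_spec M i n (mkPt Y y (ψ ⁻¹ᵁ W') (hpre W' hW')) (mkPt X x W' hW') (ψ ∣_ W')
      hfac (hi' W' hW') (hn' W' hW')
    have := congrArg (fun φ => φ.hom γ) h
    simp only [ModuleCat.hom_comp, LinearMap.comp_apply] at this
    exact this
  constructor
  · -- injectivity
    rw [injective_iff_map_eq_zero]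
    intro a ha
    obtain ⟨W, γ, rfl⟩ := ocolim_exists_rep T (Y.ptSub y) _ i n M a
    obtain ⟨W', hW'ne, hW'le⟩ := hsmall W.1 W.2.1
    -- shrink into U₀
    let W'' : (X.ptSub x).scheme.Opens := W' ⊓ U₀
    have hW''ne : (W'' : Set (X.ptSub x).scheme).Nonempty :=
      nonempty_preirreducible_inter W'.2 U₀.2 hW'ne hU₀
    have hle1 : (ψ ⁻¹ᵁ W'' : (Y.ptSub y).scheme.Opens) ≤ W.1 :=
      (ψ.preimage_mono (inf_le_left : W'' ≤ W')).trans hW'le
    have hγ₁ := ocolimι_resLE_apply T (Y.ptSub y) _ i n M W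
      (mkPt Y y (ψ ⁻¹ᵁ W'') (hpre W'' hW''ne)) hle1 γ
    rw [← hγ₁] at ha ⊢
    set γ₁ := (T.pull ((Y.ptSub y).resLE hle1
      ((mkPt Y y (ψ ⁻¹ᵁ W'') (hpre W'' hW''ne)).2.2.trans W.2.2.symm)) M i n).hom γ with hγ₁def
    rw [hspec W'' hW''ne γ₁] at ha
    obtain ⟨W3, hle3, h0⟩ := ocolim_rep_eq_zero T (X.ptSub x) _ i n M (mkPt X x W'' hW''ne) _ ha
    -- base change to W3
    have hW3ne := W3.2.1
    have hle3' : (ψ ⁻¹ᵁ W3.1 : (Y.ptSub y).scheme.Opens) ≤ ψ ⁻¹ᵁ W'' := ψ.preimage_mono hle3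
    have hd3 : WeilCoh.dim ((ψ ⁻¹ᵁ W3.1 : (Y.ptSub y).scheme.Opens) : Scheme.{u}) =
        WeilCoh.dim ((ψ ⁻¹ᵁ W'' : (Y.ptSub y).scheme.Opens) : Scheme.{u}) :=
      (mkPt Y y (ψ ⁻¹ᵁ W3.1) (hpre W3.1 hW3ne)).2.2.trans
        (mkPt Y y (ψ ⁻¹ᵁ W'') (hpre W'' hW''ne)).2.2.symm
    have hbc := T.push_pull (X := (Y.ptSub y).res (ψ ⁻¹ᵁ W'')) (Y := (X.ptSub x).res W'')
      (X' := (Y.ptSub y).res (ψ ⁻¹ᵁ W3.1)) (Y' := (X.ptSub x).res W3.1)
      (ψ ∣_ W'') (ψ ∣_ W3.1)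
      ((X.ptSub x).resLE hle3 (W3.2.2.trans (mkPt X x W'' hW''ne).2.2.symm))
      ((Y.ptSub y).resLE hle3' hd3)
      (isPullback_morphismRestrict_le ψ hle3) M i n i n (hi' W'' hW''ne) (hn' W'' hW''ne)
      (hi' W3.1 hW3ne) (hn' W3.1 hW3ne)
    have hbc' := congrArg (fun φ => φ.hom γ₁) hbc
    simp only [ModuleCat.hom_comp, LinearMap.comp_apply] at hbc'
    have h0' : (T.pull ((X.ptSub x).resLE hle3 (W3.2.2.trans (mkPt X x W'' hW''ne).2.2.symm))
        M i n).hom ((T.push (X := (Y.ptSub y).res (ψ ⁻¹ᵁ W'')) (Y := (X.ptSub x).res W'')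
          (ψ ∣_ W'') M i n i n (hi' W'' hW''ne) (hn' W'' hW''ne)).hom γ₁) = 0 := h0
    rw [h0'] at hbc'
    haveI : IsIso (ψ ∣_ W3.1) := hiso W3.1 (hle3.trans inf_le_right)
    have hinj := (push_bijective_of_isIso T (X := (Y.ptSub y).res (ψ ⁻¹ᵁ W3.1))
      (Y := (X.ptSub x).res W3.1) (ψ ∣_ W3.1) M i n (hi' W3.1 hW3ne) (hn' W3.1 hW3ne)).1
    have hz : (T.pull ((Y.ptSub y).resLE hle3' hd3) M i n).hom γ₁ = 0 :=
      hinj (by rw [← hbc', map_zero])
    rw [← ocolimι_resLE_apply T (Y.ptSub y) _ i n M (mkPt Y y (ψ ⁻¹ᵁ W'') (hpre W'' hW''ne))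
      (mkPt Y y (ψ ⁻¹ᵁ W3.1) (hpre W3.1 hW3ne)) hle3' γ₁]
    have hz' : (T.pull ((Y.ptSub y).resLE hle3'
        ((mkPt Y y (ψ ⁻¹ᵁ W3.1) (hpre W3.1 hW3ne)).2.2.trans
          (mkPt Y y (ψ ⁻¹ᵁ W'') (hpre W'' hW''ne)).2.2.symm)) M i n).hom γ₁ = 0 := hz
    rw [hz', map_zero]
  · -- surjectivity
    intro b
    obtain ⟨W', δ, rfl⟩ := ocolim_exists_rep T (X.ptSub x) _ i n M b
    let W'' : (X.ptSub x).scheme.Opens := W'.1 ⊓ U₀
    have hW''ne : (W'' : Set (X.ptSub x).scheme).Nonempty :=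
      nonempty_preirreducible_inter W'.1.2 U₀.2 W'.2.1 hU₀
    have hle : W'' ≤ W'.1 := inf_le_left
    have hδ := ocolimι_resLE_apply T (X.ptSub x) _ i n M W' (mkPt X x W'' hW''ne) hle δ
    rw [← hδ]
    set δ'' := (T.pull ((X.ptSub x).resLE hle
      ((mkPt X x W'' hW''ne).2.2.trans W'.2.2.symm)) M i n).hom δ with hδdef
    haveI : IsIso (ψ ∣_ W'') := hiso W'' inf_le_right
    obtain ⟨γ, hγ⟩ := (push_bijective_of_isIso T (X := (Y.ptSub y).res (ψ ⁻¹ᵁ W''))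
      (Y := (X.ptSub x).res W'') (ψ ∣_ W'') M i n (hi' W'' hW''ne) (hn' W'' hW''ne)).2 δ''
    refine ⟨((T.ptι Y y i n (mkPt Y y (ψ ⁻¹ᵁ W'') (hpre W'' hW''ne))).app M).hom γ, ?_⟩
    rw [hspec W'' hW''ne γ, hγ]

end Groth.Agent.Lib.Helper27BMCoh
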