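import Mathlib
import Groth.Prelude.Def_BMCoh4
import Groth.Agent.Lib.Helper27BMCohNorm2

set_option autoImplicit false
universe u
open CategoryTheory CategoryTheory.Limits AlgebraicGeometry Opposite TopologicalSpace
open BMCoh

namespace Groth.Agent.Lib.Helper27BMCoh

variable {V : ObjectProperty Scheme.{u}} [IsConstructible V]
variable {R : Type u} [CommRing R] {A : Coefs R} (T : PreTheory V R A)

/-- The reduced closure of the generic point of an integral object is the object itself. -/
lemma isIso_ptSubι_genericPoint (Y : Obj V) [IsIntegral Y.scheme] :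
    IsIso (Y.ptSubι (genericPoint Y.scheme)) := by
  haveI : Surjective (Y.ptSubι (genericPoint Y.scheme)) := by
    constructor
    intro z
    have : z ∈ Set.range (Y.ptSubι (genericPoint Y.scheme)) := by
      rw [range_ptSubι, (genericPoint_spec Y.scheme).def]
      trivial
    exact this
  exact isIso_of_isClosedImmersion_of_surjective _

/-- The push-forward datum along the normalisation of the closure of a point is bijective. -/
theorem ptPush_normalization_bijective (X : Obj V) (w : X.scheme)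
    [IsIntegral (X.ptSub w).scheme]
    [QuasiCompact ((X.ptSub w).scheme.fromSpecStalk (genericPoint (X.ptSub w).scheme))]
    [QuasiSeparated ((X.ptSub w).scheme.fromSpecStalk (genericPoint (X.ptSub w).scheme))]
    (Y : Obj V) [IsIntegral Y.scheme] (e : Y.scheme ≅ Curv2.normalization (X.ptSub w).scheme)
    (φ : Y.scheme ⟶ X.scheme) [IsProper φ]
    (hφ : φ = e.hom ≫ Curv2.normalizationι (X.ptSub w).scheme ≫ X.ptSubι w)
    (L : T.PtPush φ (genericPoint Y.scheme) w) (M : A.Cat) (i n : ℤ) :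
    Function.Bijective (L.cpt M i n).hom := by
  let ν := Curv2.normalizationι (X.ptSub w).scheme
  haveI h1 : IsProper (e.hom ≫ ν ≫ X.ptSubι w) := by rw [← hφ]; infer_instance
  haveI h2 : IsProper (ν ≫ X.ptSubι w) :=
    (MorphismProperty.cancel_left_of_respectsIso @IsProper e.hom _).mp h1
  haveI h3 : IsProper ν := IsProper.of_comp ν (X.ptSubι w)
  obtain ⟨U, hξU, hUiso⟩ := exists_isIso_restrict_normalization (X.ptSub w).scheme
  haveI := isIso_ptSubι_genericPoint Y
  obtain ⟨a, ha⟩ : ∃ a : (Y.ptSub (genericPoint Y.scheme)).scheme ⟶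
      Curv2.normalization (X.ptSub w).scheme, a = Y.ptSubι (genericPoint Y.scheme) ≫ e.hom :=
    ⟨_, rfl⟩
  haveI : IsIso a := by rw [ha]; infer_instance
  have hψ : (a ≫ ν) ≫ X.ptSubι w = Y.ptSubι (genericPoint Y.scheme) ≫ φ := by
    rw [hφ, ha, Category.assoc, Category.assoc]
  refine ptPush_cpt_bijective T φ (genericPoint Y.scheme) w L (a ≫ ν) hψ U ⟨_, hξU⟩ ?_ M i n
  intro W' hW'
  haveI : IsIso (ν ∣_ U) := hUiso
  haveI : IsIso (ν ∣_ W') :=
    (isPullback_morphismRestrict_le ν hW').isIso_snd_of_isIso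
  have h5 : IsIso (ν ∣_ W') := inferInstance
  have h6 : IsIso (a ∣_ ν ⁻¹ᵁ W' ≫ ν ∣_ W') :=
    @IsIso.comp_isIso Scheme _ _ _ _ (a ∣_ ν ⁻¹ᵁ W') (ν ∣_ W')
      (instIsIsoSchemeMorphismRestrict a (ν ⁻¹ᵁ W')) h5
  have h7 : (a ≫ ν) ∣_ W' = a ∣_ ν ⁻¹ᵁ W' ≫ ν ∣_ W' := morphismRestrict_comp a ν W'
  exact h7 ▸ h6

end Groth.Agent.Lib.Helper27BMCoh
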