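import Mathlib
import Groth.Prelude.Def_BMCoh3
import Groth.Agent.Lib.Helper27BMCohCover

set_option autoImplicit false
universe u
open CategoryTheory CategoryTheory.Limits AlgebraicGeometry Opposite TopologicalSpace
open BMCoh

namespace Groth.Agent.Lib.Helper27BMCoh

variable {V : ObjectProperty Scheme.{u}} [IsConstructible V]

instance finite_cdPt_zero (X : Obj V) : Finite (X.cdPt 0) := by
  have h := finite_cdPt_not_mem' X 0 ⊥ (fun y hy => absurd hy (Nat.not_lt_zero _))
  have : {x : X.cdPt 0 | x.1 ∉ (⊥ : X.scheme.Opens)} = Set.univ := by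
    ext x; simp
  rw [this] at h
  exact Set.finite_univ_iff.mp h

/-- An open containing the points of codimension `0` which is the disjoint union of its
intersections with the closures of these points. -/
structure Multi0 (X : Obj V) where
  Up : X.scheme.Opens
  hUp : ContainsFj X 0 Up
  hdisj : ∀ x y : X.cdPt 0, x ≠ y → ∀ z ∈ Up, z ∈ closure ({x.1} : Set X.scheme) →
    z ∉ closure ({y.1} : Set X.scheme)
  hcov : ∀ z ∈ Up, ∃ x : X.cdPt 0, z ∈ closure ({x.1} : Set X.scheme)

lemma exists_multi0 (X : Obj V) : Nonempty (Multi0 X) := by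
  classical
  have := noetherianSpace X
  obtain ⟨S, hSfin, hScl, hSirr, hC⟩ :=
    NoetherianSpace.exists_finite_set_isClosed_irreducible (isClosed_univ : IsClosed (Set.univ : Set X.scheme))
  let S' : Set (Set X.scheme) := {t ∈ S | ∀ x : X.cdPt 0, t ≠ closure ({x.1} : Set X.scheme)}
  have hS'fin : S'.Finite := hSfin.subset (fun t ht => ht.1)
  have hcl : IsClosed (⋃ t ∈ S', t) := hS'fin.isClosed_biUnion (fun t ht => hScl t ht.1)
  have hfin : Fintype (X.cdPt 0) := Fintype.ofFinite _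
  let B : Finset (X.cdPt 0) := Finset.univ
  let Up : X.scheme.Opens := ⟨(⋃ t ∈ S', t)ᶜ, hcl.isOpen_compl⟩ ⊓
    ⟨(pairInter B)ᶜ, (isClosed_pairInter B).isOpen_compl⟩
  refine ⟨⟨Up, ?_, ?_, ?_⟩⟩
  · intro y hy
    refine ⟨?_, ?_⟩
    · intro hyS
      simp only [Set.mem_iUnion] at hyS
      obtain ⟨t, ht, hyt⟩ := hyS
      obtain ⟨η, hη⟩ := QuasiSober.sober (hSirr t ht.1) (hScl t ht.1)
      have hηt : closure ({η} : Set X.scheme) = t := hη.def
      have hycl : y ∈ closure ({η} : Set X.scheme) := hηt ▸ hyt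
      have h1 := codim_le_of_mem_closure X hycl
      have hη0 : WeilCoh.codim X.scheme η = 0 := by omega
      exact ht.2 ⟨η, hη0⟩ hηt.symm
    · intro hyP
      have := codim_of_mem_pairInter B hyP
      omega
  · intro x y hne z hz hzx hzy
    refine hz.2 ?_
    simp only [pairInter, Set.mem_iUnion, Set.mem_setOf_eq]
    exact ⟨x, Finset.mem_univ _, y, Finset.mem_univ _, hne, hzx, hzy⟩
  · intro z hz
    have hzu : z ∈ (Set.univ : Set X.scheme) := trivial
    rw [hC] at hzu
    obtain ⟨t, ht, hzt⟩ := hzu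
    by_contra hno
    push Not at hno
    refine hz.1 ?_
    simp only [Set.mem_iUnion]
    refine ⟨t, ⟨ht, fun x hx => hno x (hx ▸ hzt)⟩, hzt⟩

namespace Multi0

variable {X : Obj V} (m : Multi0 X)

/-- The ambient object. -/
abbrev Y : Obj V := X.res m.Up

lemma dimUp : WeilCoh.dim (m.Up : Scheme.{u}) = WeilCoh.dim X.scheme :=
  dim_eq_of_containsFj X _ m.Up m.hUp

/-- The piece of the closure of `x` inside `Up`. -/
noncomputable abbrev p (x : X.cdPt 0) : Piece X x.1 := Piece.ofOpen m.Up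

omit [IsConstructible V] in
lemma x_mem_Up (x : X.cdPt 0) : x.1 ∈ m.Up := m.hUp x.1 x.2.le

lemma hWne (x : X.cdPt 0) : ((m.p x).W : Set (X.ptSub x.1).scheme).Nonempty := by
  obtain ⟨zx, hzx⟩ := exists_ptSub_pt X x.1
  exact ⟨zx, by
    show X.ptSubι x.1 zx ∈ m.Up
    rw [hzx]; exact m.x_mem_Up x⟩

lemma disjoint_range_f (x y : X.cdPt 0) (hne : x ≠ y) :
    Disjoint (Set.range (m.p x).f) (Set.range (m.p y).f) := by
  rw [(m.p x).range_f, (m.p y).range_f, Set.disjoint_left]
  intro z hzx hzy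
  exact m.hdisj x y hne (m.Up.ι z) (mem_of_ι _) hzx hzy

lemma cover_f (z : m.Y.scheme) : ∃ x : X.cdPt 0, z ∈ Set.range (m.p x).f := by
  obtain ⟨x, hx⟩ := m.hcov (m.Up.ι z) (mem_of_ι _)
  exact ⟨x, by rw [(m.p x).range_f]; exact hx⟩

lemma isOpen_range_f (x : X.cdPt 0) : IsOpen (Set.range (m.p x).f) := by
  let S : Set m.Y.scheme := ⋃ y ∈ {y : X.cdPt 0 | y ≠ x}, Set.range (m.p y).f
  have hS : IsClosed S := (Set.toFinite {y : X.cdPt 0 | y ≠ x}).isClosed_biUnion (fun y _ =>
    (m.p y).f.isClosedEmbedding.isClosed_range)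
  have : Set.range (m.p x).f = Sᶜ := by
    ext z
    simp only [S, Set.mem_compl_iff, Set.mem_iUnion, not_exists, Set.mem_setOf_eq]
    constructor
    · intro hz y hy hzy
      exact Set.disjoint_left.mp (m.disjoint_range_f x y (Ne.symm hy)) hz hzy
    · intro hz
      obtain ⟨y, hzy⟩ := m.cover_f z
      by_cases hxy : y = x
      · subst hxy; exact hzy
      · exact absurd hzy (hz y hxy)
  rw [this]
  exact hS.isOpen_compl

instance isOpenImmersion_f [IsReduced X.scheme] (x : X.cdPt 0) : IsOpenImmersion (m.p x).f := by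
  haveI : IsReduced (m.Up : Scheme.{u}) := isReduced_of_isOpenImmersion m.Up.ι
  exact isOpenImmersion_of_isClosedImmersion_of_isOpen_range (m.p x).f (m.isOpen_range_f x)

lemma dimW (x : X.cdPt 0) : WeilCoh.dim ((m.p x).W : Scheme.{u}) = WeilCoh.dim X.scheme := by
  rw [dim_ptSub_open X x.1 _ (m.hWne x), dim_ptSub]
  have h1 := x.2
  have h2 := pdim_le_dim X x.1
  unfold WeilCoh.codim at h1
  omega

/-- The piece as a morphism of objects. -/
@[reducible] noncomputable def fObj [IsReduced X.scheme] (x : X.cdPt 0) :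
    (X.ptSub x.1).res (m.p x).W ⟶ m.Y :=
  ⟨(m.p x).f, inferInstance, (m.dimW x).trans m.dimUp.symm⟩

lemma relCodim_W_Up (x : X.cdPt 0) :
    relCodim ((m.p x).W : Scheme.{u}) (m.Up : Scheme.{u}) = 0 :=
  relCodim_eq_zero ((m.dimW x).trans m.dimUp.symm)

/-- Shrinking the open. -/
@[reducible] def shrink (U' : X.scheme.Opens) (hU' : ContainsFj X 0 U') : Multi0 X where
  Up := m.Up ⊓ U'
  hUp := fun y hy => ⟨m.hUp y hy, hU' y hy⟩
  hdisj := fun x y hne z hz => m.hdisj x y hne z hz.1
  hcov := fun z hz => m.hcov z hz.1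

end Multi0

end Groth.Agent.Lib.Helper27BMCoh
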