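import Mathlib
import Groth.Prelude.Def_BMCoh3
import Groth.Agent.Lib.Helper27BMCohZero

set_option autoImplicit false
universe u
open CategoryTheory CategoryTheory.Limits AlgebraicGeometry Opposite TopologicalSpace
open BMCoh

namespace Groth.Agent.Lib.Helper27BMCoh

variable {V : ObjectProperty Scheme.{u}} [IsConstructible V]
variable {R : Type u} [CommRing R] {A : Coefs R} (T : PreTheory V R A)

namespace Multi0

variable {T} {X : Obj V} [IsReduced X.scheme] (m : Multi0 X)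

/-- Orthogonality of the pieces. -/
theorem pull_push_same (x : X.cdPt 0) (M : A.Cat) (i n : ℤ)
    (hi : i = i + 2 * relCodim ((m.p x).W : Scheme.{u}) (m.Up : Scheme.{u}))
    (hn : n = n + relCodim ((m.p x).W : Scheme.{u}) (m.Up : Scheme.{u}))
    (γ : T.gp ((X.ptSub x.1).res (m.p x).W) M i n) :
    (T.pull (m.fObj x) M i n).hom
      ((T.push (X := (X.ptSub x.1).res (m.p x).W) (Y := m.Y) (m.p x).f M i n i n hi hn).hom γ) =
      γ :=
  pull_push_self_apply T (m.fObj x) M i n hi hn γ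

theorem pull_push_ne (x y : X.cdPt 0) (h : x ≠ y) (M : A.Cat) (i n : ℤ)
    (hi : i = i + 2 * relCodim ((m.p x).W : Scheme.{u}) (m.Up : Scheme.{u}))
    (hn : n = n + relCodim ((m.p x).W : Scheme.{u}) (m.Up : Scheme.{u}))
    (γ : T.gp ((X.ptSub x.1).res (m.p x).W) M i n) :
    (T.pull (m.fObj y) M i n).hom
      ((T.push (X := (X.ptSub x.1).res (m.p x).W) (Y := m.Y) (m.p x).f M i n i n hi hn).hom γ) =
      0 :=
  pull_push_eq_zero_of_disjoint T (m.fObj x) (m.fObj y) (m.disjoint_range_f x y h)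
      M i n hi hn γ

/-- Every class on `Up` is the sum of the push-forwards of its restrictions to the pieces. -/
theorem sum_push_pull [Fintype (X.cdPt 0)] (M : A.Cat) (i n : ℤ)
    (hi : ∀ x : X.cdPt 0, i = i + 2 * relCodim ((m.p x).W : Scheme.{u}) (m.Up : Scheme.{u}))
    (hn : ∀ x : X.cdPt 0, n = n + relCodim ((m.p x).W : Scheme.{u}) (m.Up : Scheme.{u}))
    (ρ : T.gp m.Y M i n) :
    ρ = ∑ x : X.cdPt 0,
      (T.push (X := (X.ptSub x.1).res (m.p x).W) (Y := m.Y) (m.p x).f M i n i n (hi x) (hn x)).hom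
        ((T.pull (m.fObj x) M i n).hom ρ) := by
  classical
  have h := sum_push_pull_cover T (fun x : X.cdPt 0 => (X.ptSub x.1).res (m.p x).W) Finset.univ m.Y
    (fun x _ => m.fObj x) (fun x _ => inferInstance)
    (fun x _ y _ hne => m.disjoint_range_f x y hne)
    (fun z => by
      obtain ⟨x, hx⟩ := m.cover_f z
      exact ⟨x, Finset.mem_univ x, hx⟩) M i n hi hn ρ
  rw [Finset.sum_attach Finset.univ (fun x : X.cdPt 0 =>
    (T.push (X := (X.ptSub x.1).res (m.p x).W) (Y := m.Y) (m.p x).f M i n i n (hi x) (hn x)).hom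
        ((T.pull (m.fObj x) M i n).hom ρ))] at h
  exact h

end Multi0

/-- At level `0` on a reduced object the total push-forward is surjective. -/
theorem pushTot_zero_surjective {X : Obj V} [IsReduced X.scheme] (P : T.PushData X 0) (M : A.Cat)
    (i n : ℤ) (hi : i = i + 2 * ((0 : ℕ) : ℤ)) (hn : n = n + ((0 : ℕ) : ℤ)) :
    Function.Surjective (P.tot M i n i n hi hn).hom := by
  classical
  have hfin : Fintype (X.cdPt 0) := Fintype.ofFinite _
  obtain ⟨m₀⟩ := exists_multi0 X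
  intro α
  obtain ⟨U, β, rfl⟩ := ocolim_exists_rep T X (ContainsFj X 0) i n M α
  let m : Multi0 X := m₀.shrink U.1 U.2.1
  have hle : m.Up ≤ U.1 := inf_le_right
  have hβ' := ocolimι_resLE_apply T X (ContainsFj X 0) i n M U (mkFj X 0 m.Up m.hUp) hle β
  set β' := (T.pull (X.resLE hle ((mkFj X 0 m.Up m.hUp).2.2.trans U.2.2.symm)) M i n).hom β
    with hβ'def
  have hi' : ∀ x : X.cdPt 0, i = i + 2 * relCodim ((m.p x).W : Scheme.{u}) (m.Up : Scheme.{u}) := by
    intro x; rw [m.relCodim_W_Up x]; ring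
  have hn' : ∀ x : X.cdPt 0, n = n + relCodim ((m.p x).W : Scheme.{u}) (m.Up : Scheme.{u}) := by
    intro x; rw [m.relCodim_W_Up x]; ring
  have hsum := m.sum_push_pull (T := T) M i n hi' hn' β'
  refine ⟨∑ x : X.cdPt 0, DirectSum.lof R (X.cdPt 0) (fun y : X.cdPt 0 => T.ptGp X y.1 M i n) x
    (((T.ptι X x.1 i n (mkPt X x.1 (m.p x).W (m.hWne x))).app M).hom
      ((T.pull (m.fObj x) M i n).hom β')), ?_⟩
  rw [map_sum, ← hβ']
  conv_rhs => rw [hsum, map_sum]
  refine Finset.sum_congr rfl (fun x _ => ?_)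
  rw [PreTheory.PushData.tot_lof P M i n i n hi hn x]
  exact pushData_cpt_piece_apply T P x M i n i n hi hn (m.p x) (m.hWne x) m.hUp (hi' x) (hn' x) _

/-- At level `0` on a reduced object the total push-forward is injective. -/
theorem pushTot_zero_injective {X : Obj V} [IsReduced X.scheme] (P : T.PushData X 0) (M : A.Cat)
    (i n : ℤ) (hi : i = i + 2 * ((0 : ℕ) : ℤ)) (hn : n = n + ((0 : ℕ) : ℤ)) :
    Function.Injective (P.tot M i n i n hi hn).hom := by
  classical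
  have hfin : Fintype (X.cdPt 0) := Fintype.ofFinite _
  obtain ⟨m₀⟩ := exists_multi0 X
  rw [injective_iff_map_eq_zero]
  intro ξ hξ
  have hrep : ∀ x : X.cdPt 0, ∃ (W : ptIdx X x.1)
      (γ : T.gp ((X.ptSub x.1).res W.1) M i n), ((T.ptι X x.1 i n W).app M).hom γ = ξ x :=
    fun x => ocolim_exists_rep T (X.ptSub x.1) _ i n M (ξ x)
  choose W0 γ0 hγ0 using hrep
  let U' : X.scheme.Opens := ⟨⋂ x : X.cdPt 0, (openCompl X x.1 (W0 x).1 : Set X.scheme),
    isOpen_iInter_of_finite (fun x => (openCompl X x.1 (W0 x).1).2)⟩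
  have hU' : ContainsFj X 0 U' := by
    intro y hy
    show y ∈ ⋂ x : X.cdPt 0, (openCompl X x.1 (W0 x).1 : Set X.scheme)
    simp only [Set.mem_iInter]
    intro x
    exact containsFj_openCompl (W0 x).1 (W0 x).2.1 x.2 y hy
  let m : Multi0 X := m₀.shrink U' hU'
  have hW0 : ∀ x : X.cdPt 0, (m.p x).W ≤ (W0 x).1 := by
    intro x z hz
    have hz1 : X.ptSubι x.1 z ∈ U' := hz.2
    have hz2 : X.ptSubι x.1 z ∈ ⋂ x : X.cdPt 0, (openCompl X x.1 (W0 x).1 : Set X.scheme) := hz1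
    simp only [Set.mem_iInter] at hz2
    exact (ptSubι_mem_openCompl z).mp (hz2 x)
  have hi' : ∀ x : X.cdPt 0, i = i + 2 * relCodim ((m.p x).W : Scheme.{u}) (m.Up : Scheme.{u}) := by
    intro x; rw [m.relCodim_W_Up x]; ring
  have hn' : ∀ x : X.cdPt 0, n = n + relCodim ((m.p x).W : Scheme.{u}) (m.Up : Scheme.{u}) := by
    intro x; rw [m.relCodim_W_Up x]; ring
  have hdW0 : ∀ x : X.cdPt 0, WeilCoh.dim ((m.p x).W : Scheme.{u}) =
      WeilCoh.dim ((W0 x).1 : Scheme.{u}) := fun x =>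
    (mkPt X x.1 (m.p x).W (m.hWne x)).2.2.trans (W0 x).2.2.symm
  let γ : ∀ x : X.cdPt 0, T.gp ((X.ptSub x.1).res (m.p x).W) M i n :=
    fun x => (T.pull ((X.ptSub x.1).resLE (hW0 x) (hdW0 x)) M i n).hom (γ0 x)
  have hγ : ∀ x : X.cdPt 0,
      ((T.ptι X x.1 i n (mkPt X x.1 (m.p x).W (m.hWne x))).app M).hom (γ x) = ξ x := by
    intro x
    rw [← hγ0 x]
    exact ocolimι_resLE_apply T (X.ptSub x.1) _ i n M (W0 x)
      (mkPt X x.1 (m.p x).W (m.hWne x)) (hW0 x) (γ0 x)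
  have hsum := directSum_eq_sum_lof (R := R) ξ Finset.univ (fun x hx => absurd (Finset.mem_univ x) hx)
  have h0 : ((T.fjι X 0 i n (mkFj X 0 m.Up m.hUp)).app M).hom
      (∑ x : X.cdPt 0, (T.push (X := (X.ptSub x.1).res (m.p x).W) (Y := m.Y) (m.p x).f
        M i n i n (hi' x) (hn' x)).hom (γ x)) = 0 := by
    rw [map_sum, ← hξ]
    conv_rhs => rw [hsum, map_sum]
    refine Finset.sum_congr rfl (fun x _ => ?_)
    rw [PreTheory.PushData.tot_lof P M i n i n hi hn x (ξ x)]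
    rw [← hγ x]
    exact (pushData_cpt_piece_apply T P x M i n i n hi hn (m.p x) (m.hWne x)
      m.hUp (hi' x) (hn' x) (γ x)).symm
  obtain ⟨Up₁, hle, hres0⟩ := ocolim_rep_eq_zero T X (ContainsFj X 0) i n M
    (mkFj X 0 m.Up m.hUp) _ h0
  let m₁ : Multi0 X := ⟨Up₁.1, Up₁.2.1, fun x y hne z hz => m.hdisj x y hne z (hle hz),
    fun z hz => m.hcov z (hle hz)⟩
  have hW1 : ∀ x : X.cdPt 0, (m₁.p x).W ≤ (m.p x).W := fun x z hz => hle hz
  have hdW1 : ∀ x : X.cdPt 0, WeilCoh.dim ((m₁.p x).W : Scheme.{u}) =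
      WeilCoh.dim ((m.p x).W : Scheme.{u}) := fun x => (m₁.dimW x).trans (m.dimW x).symm
  let γ1 : ∀ x : X.cdPt 0, T.gp ((X.ptSub x.1).res (m₁.p x).W) M i n :=
    fun x => (T.pull ((X.ptSub x.1).resLE (hW1 x) (hdW1 x)) M i n).hom (γ x)
  have hγ1 : ∀ x : X.cdPt 0,
      ((T.ptι X x.1 i n (mkPt X x.1 (m₁.p x).W (m₁.hWne x))).app M).hom (γ1 x) = ξ x := by
    intro x
    rw [← hγ x]
    exact ocolimι_resLE_apply T (X.ptSub x.1) _ i n M (mkPt X x.1 (m.p x).W (m.hWne x))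
      (mkPt X x.1 (m₁.p x).W (m₁.hWne x)) (hW1 x) (γ x)
  have hi1 : ∀ x : X.cdPt 0, i = i + 2 * relCodim ((m₁.p x).W : Scheme.{u}) (m₁.Up : Scheme.{u}) := by
    intro x; rw [m₁.relCodim_W_Up x]; ring
  have hn1 : ∀ x : X.cdPt 0, n = n + relCodim ((m₁.p x).W : Scheme.{u}) (m₁.Up : Scheme.{u}) := by
    intro x; rw [m₁.relCodim_W_Up x]; ring
  have h1 : ∑ x : X.cdPt 0, (T.push (X := (X.ptSub x.1).res (m₁.p x).W) (Y := m₁.Y)
      (m₁.p x).f M i n i n (hi1 x) (hn1 x)).hom (γ1 x) = 0 := by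
    rw [map_sum] at hres0
    rw [← hres0]
    refine Finset.sum_congr rfl (fun x _ => ?_)
    exact (push_pull_piece_apply T (m.p x) (m₁.p x) (hW1 x) hle (hdW1 x)
      (Up₁.2.2.trans (mkFj X 0 m.Up m.hUp).2.2.symm) M i n i n
      (hi' x) (hn' x) (hi1 x) (hn1 x) (γ x)).symm
  -- each component vanishes
  refine DFinsupp.ext fun y => ?_
  have h2 := congrArg (T.pull (m₁.fObj y) M i n).hom h1
  rw [map_sum, map_zero, Finset.sum_eq_single y] at h2
  · rw [m₁.pull_push_same] at h2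
    rw [← hγ1 y]
    have : γ1 y = 0 := h2
    rw [this, map_zero]
    rfl
  · intro x _ hxy
    exact m₁.pull_push_ne x y hxy M i n _ _ _
  · intro h
    exact absurd (Finset.mem_univ y) h

end Groth.Agent.Lib.Helper27BMCoh
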