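import Mathlib
import Groth.Prelude.Def_BMCoh3
import Groth.Agent.Lib.Helper27BMCohZero2

set_option autoImplicit false
universe u
open CategoryTheory CategoryTheory.Limits AlgebraicGeometry Opposite TopologicalSpace
open BMCoh

namespace Groth.Agent.Lib.Helper27BMCoh

variable {V : ObjectProperty Scheme.{u}} [IsConstructible V]
variable {R : Type u} [CommRing R] {A : Coefs R} (T : PreTheory V R A)

/-- On a reduced object, `H^i(F_0X)` vanishes if the groups of all points of codimension `0`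
vanish. -/
theorem fjGp_zero_isZero {X : Obj V} [IsReduced X.scheme] (M : A.Cat) (i n : ℤ)
    (h0 : ∀ x : X.cdPt 0, IsZero (T.ptGp X x.1 M i n)) : IsZero (T.fjGp X 0 M i n) := by
  classical
  have hfin : Fintype (X.cdPt 0) := Fintype.ofFinite _
  obtain ⟨m₀⟩ := exists_multi0 X
  rw [ModuleCat.isZero_iff_subsingleton]
  refine ⟨fun a b => ?_⟩
  suffices h : ∀ α : T.fjGp X 0 M i n, α = 0 by rw [h a, h b]
  intro α
  obtain ⟨U, β, rfl⟩ := ocolim_exists_rep T X (ContainsFj X 0) i n M α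
  let m : Multi0 X := m₀.shrink U.1 U.2.1
  have hle : m.Up ≤ U.1 := inf_le_right
  have hβ' := ocolimι_resLE_apply T X (ContainsFj X 0) i n M U (mkFj X 0 m.Up m.hUp) hle β
  set β' := (T.pull (X.resLE hle ((mkFj X 0 m.Up m.hUp).2.2.trans U.2.2.symm)) M i n).hom β
    with hβ'def
  rw [← hβ']
  -- the restrictions to the pieces die on smaller pieces
  have hrep : ∀ x : X.cdPt 0, ∃ (W' : ptIdx X x.1) (hW' : W'.1 ≤ (m.p x).W),
      (T.pull ((X.ptSub x.1).resLE hW'
        (W'.2.2.trans (mkPt X x.1 (m.p x).W (m.hWne x)).2.2.symm)) M i n).hom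
        ((T.pull (m.fObj x) M i n).hom β') = 0 := by
    intro x
    have hz : ((T.ptι X x.1 i n (mkPt X x.1 (m.p x).W (m.hWne x))).app M).hom
        ((T.pull (m.fObj x) M i n).hom β') = 0 := by
      have := (ModuleCat.isZero_iff_subsingleton.mp (h0 x))
      exact Subsingleton.elim _ _
    exact ocolim_rep_eq_zero T (X.ptSub x.1) _ i n M (mkPt X x.1 (m.p x).W (m.hWne x)) _ hz
  choose W' hW' hW'0 using hrep
  let U' : X.scheme.Opens := ⟨⋂ x : X.cdPt 0, (openCompl X x.1 (W' x).1 : Set X.scheme),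
    isOpen_iInter_of_finite (fun x => (openCompl X x.1 (W' x).1).2)⟩
  have hU' : ContainsFj X 0 U' := by
    intro y hy
    show y ∈ ⋂ x : X.cdPt 0, (openCompl X x.1 (W' x).1 : Set X.scheme)
    simp only [Set.mem_iInter]
    intro x
    exact containsFj_openCompl (W' x).1 (W' x).2.1 x.2 y hy
  let m₁ : Multi0 X := m.shrink U' hU'
  have hle1 : m₁.Up ≤ m.Up := inf_le_left
  have hW1 : ∀ x : X.cdPt 0, (m₁.p x).W ≤ (W' x).1 := by
    intro x z hz
    have hz1 : X.ptSubι x.1 z ∈ U' := hz.2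
    have hz2 : X.ptSubι x.1 z ∈ ⋂ x : X.cdPt 0, (openCompl X x.1 (W' x).1 : Set X.scheme) := hz1
    simp only [Set.mem_iInter] at hz2
    exact (ptSubι_mem_openCompl z).mp (hz2 x)
  have hβ'' := ocolimι_resLE_apply T X (ContainsFj X 0) i n M (mkFj X 0 m.Up m.hUp)
    (mkFj X 0 m₁.Up m₁.hUp) hle1 β'
  rw [← hβ'']
  set β'' := (T.pull (X.resLE hle1
    ((mkFj X 0 m₁.Up m₁.hUp).2.2.trans (mkFj X 0 m.Up m.hUp).2.2.symm)) M i n).hom β' with hβ''def
  have hi1 : ∀ x : X.cdPt 0, i = i + 2 * relCodim ((m₁.p x).W : Scheme.{u}) (m₁.Up : Scheme.{u}) := by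
    intro x; rw [m₁.relCodim_W_Up x]; ring
  have hn1 : ∀ x : X.cdPt 0, n = n + relCodim ((m₁.p x).W : Scheme.{u}) (m₁.Up : Scheme.{u}) := by
    intro x; rw [m₁.relCodim_W_Up x]; ring
  have hsum := m₁.sum_push_pull (T := T) M i n hi1 hn1 β''
  have hzero : ∀ x : X.cdPt 0, (T.pull (m₁.fObj x) M i n).hom β'' = 0 := by
    intro x
    have hdW : WeilCoh.dim ((m₁.p x).W : Scheme.{u}) = WeilCoh.dim ((W' x).1 : Scheme.{u}) :=
      (mkPt X x.1 (m₁.p x).W (m₁.hWne x)).2.2.trans (W' x).2.2.symm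
    have hcomp : m₁.fObj x ≫ X.resLE hle1
        ((mkFj X 0 m₁.Up m₁.hUp).2.2.trans (mkFj X 0 m.Up m.hUp).2.2.symm) =
        (X.ptSub x.1).resLE (hW1 x) hdW ≫ (X.ptSub x.1).resLE (hW' x)
          ((W' x).2.2.trans (mkPt X x.1 (m.p x).W (m.hWne x)).2.2.symm) ≫ m.fObj x := by
      apply Hom.ext
      show (m₁.p x).f ≫ X.scheme.homOfLE hle1 =
        (X.ptSub x.1).scheme.homOfLE (hW1 x) ≫ (X.ptSub x.1).scheme.homOfLE (hW' x) ≫ (m.p x).f
      rw [← cancel_mono m.Up.ι, Category.assoc, Category.assoc, Category.assoc,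
        Scheme.homOfLE_ι]
      have e1 : (m.p x).f ≫ m.Up.ι = (m.p x).W.ι ≫ X.ptSubι x.1 := (m.p x).f_fac
      have e2 : (m₁.p x).f ≫ m₁.Up.ι = (m₁.p x).W.ι ≫ X.ptSubι x.1 := (m₁.p x).f_fac
      rw [e1, e2, Scheme.homOfLE_ι_assoc, Scheme.homOfLE_ι_assoc]
    rw [hβ''def, pull_comp_apply, hcomp, ← pull_comp_apply, ← pull_comp_apply, hW'0 x, map_zero]
  rw [hsum]
  rw [Finset.sum_eq_zero (fun x _ => by rw [hzero x, map_zero]), map_zero]

end Groth.Agent.Lib.Helper27BMCoh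

namespace Groth.Agent.Lib.Helper27BMCoh

variable {V : ObjectProperty Scheme.{u}} [IsConstructible V]
variable {R : Type u} [CommRing R] {A : Coefs R} (T : PreTheory V R A)

/-- Vanishing of `H^i(F_jX)` above `dim X + j + c` on a reduced object, given the vanishing of the
groups of points above `dim closure + c`. -/
theorem fjGp_isZero_of_dim_add_lt {X : Obj V} [IsReduced X.scheme] (M : A.Cat) (c : ℕ)
    (hc : ∀ (y : X.scheme) (i n : ℤ), (WeilCoh.pdim X.scheme y : ℤ) + c < i →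
      IsZero (T.ptGp X y M i n)) (j : ℕ) :
    ∀ (i n : ℤ), (WeilCoh.dim X.scheme : ℤ) + j + c < i → IsZero (T.fjGp X j M i n) := by
  induction j with
  | zero =>
    intro i n hi
    refine fjGp_zero_isZero T M i n (fun x => hc x.1 i n ?_)
    have h1 := x.2
    have h2 := pdim_le_dim X x.1
    unfold WeilCoh.codim at h1
    have : WeilCoh.pdim X.scheme x.1 = WeilCoh.dim X.scheme := by omega
    rw [this]
    push_cast at hi
    omega
  | succ j IH =>
    intro i n hi
    have hIH : IsZero (T.fjGp X j M i n) := IH i n (by push_cast at hi ⊢; omega)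
    rw [ModuleCat.isZero_iff_subsingleton]
    refine ⟨fun a b => ?_⟩
    suffices h : ∀ α : T.fjGp X (j + 1) M i n, α = 0 by rw [h a, h b]
    intro α
    obtain ⟨U, β, rfl⟩ := ocolim_exists_rep T X (ContainsFj X (j + 1)) i n M α
    have hz : ((T.fjι X j i n ⟨U.1, containsFj_mono X (Nat.le_succ j) _ U.2.1, U.2.2⟩).app M).hom β
        = 0 := by
      have := (ModuleCat.isZero_iff_subsingleton.mp hIH)
      exact Subsingleton.elim _ _
    obtain ⟨U', hle, hβ⟩ := ocolim_rep_eq_zero T X (ContainsFj X j) i n M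
      (⟨U.1, containsFj_mono X (Nat.le_succ j) _ U.2.1, U.2.2⟩ : Idx X (ContainsFj X j)) β hz
    refine vanish_of_vanish_on_Fj T M i n (i - 2 * ((j + 1 : ℕ) : ℤ)) (n - ((j + 1 : ℕ) : ℤ))
      (by ring) (by ring) ?_ U'.1 U'.2.1 U hle β hβ
    intro x hx
    refine hc x _ _ ?_
    have h2 := pdim_le_dim X x
    unfold WeilCoh.codim at hx
    have : (WeilCoh.pdim X.scheme x : ℤ) = (WeilCoh.dim X.scheme : ℤ) - ((j : ℤ) + 1) := by
      have : WeilCoh.dim X.scheme = WeilCoh.pdim X.scheme x + (j + 1) := by omega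
      rw [this]; push_cast; ring
    rw [this]
    push_cast at hi ⊢
    omega

end Groth.Agent.Lib.Helper27BMCoh
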