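import Mathlib
import Groth.Prelude.Def_W4c1nerontoraddGraph

/-!
# Multidegrees on the total blow-up graph
-/

set_option autoImplicit false
universe u
open LabGraph

namespace Groth.Agent.Lib.Helper27BlowGraph

variable {V E : Type u} [Fintype V] [Fintype E] [DecidableEq V] [DecidableEq E]
  (ends : E → V × V) (l : E → ℕ)

omit [Fintype V] [Fintype E] [DecidableEq V] [DecidableEq E] in
theorem pathVert_zero (e : E) : pathVert ends l e 0 = Sum.inl (ends e).1 := by
  simp [pathVert]

omit [Fintype V] [Fintype E] [DecidableEq V] [DecidableEq E] in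
theorem pathVert_of_ge (e : E) (hl : 0 < l e) (j : ℕ) (hj : l e ≤ j) :
    pathVert ends l e j = Sum.inl (ends e).2 := by
  have h0 : j ≠ 0 := by omega
  have h1 : ¬ j < l e := by omega
  simp [pathVert, h0, h1]

omit [Fintype V] [Fintype E] [DecidableEq V] [DecidableEq E] in
theorem pathVert_mid (e : E) (j : ℕ) (h0 : j ≠ 0) (hj : j < l e) :
    pathVert ends l e j = Sum.inr ⟨e, ⟨j - 1, by omega⟩⟩ := by
  simp [pathVert, h0, hj]

omit [Fintype V] [Fintype E] [DecidableEq V] [DecidableEq E] in
theorem pathVert_eq_inr_iff (e' e : E) (i : Fin (l e - 1)) (j : ℕ) :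
    pathVert ends l e' j = Sum.inr ⟨e, i⟩ ↔ e' = e ∧ j = i.val + 1 := by
  constructor
  · intro h
    by_cases h0 : j = 0
    · subst h0
      rw [pathVert_zero] at h
      exact absurd h (by simp)
    by_cases hj : j < l e'
    · rw [pathVert_mid ends l e' j h0 hj] at h
      have h2 := Sum.inr.inj h
      have h3 : e' = e := congrArg Sigma.fst h2
      subst h3
      have h4 := eq_of_heq (Sigma.mk.inj h2).2
      refine ⟨rfl, ?_⟩
      have h5 := congrArg Fin.val h4
      simp only at h5
      omega
    · have : pathVert ends l e' j = Sum.inl (ends e').2 := by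
        simp [pathVert, h0, hj]
      rw [this] at h
      exact absurd h (by simp)
  · rintro ⟨rfl, rfl⟩
    have hi := i.isLt
    rw [pathVert_mid ends l e' (i.val + 1) (by omega) (by omega)]
    simp

omit [Fintype V] [Fintype E] [DecidableEq V] [DecidableEq E] in
theorem pathVert_eq_inl_iff (e : E) (hl : 0 < l e) (v : V) (j : ℕ) :
    pathVert ends l e j = Sum.inl v ↔ (j = 0 ∧ (ends e).1 = v) ∨ (l e ≤ j ∧ (ends e).2 = v) := by
  by_cases h0 : j = 0
  · subst h0
    rw [pathVert_zero]
    constructor
    · intro h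
      exact Or.inl ⟨rfl, Sum.inl.inj h⟩
    · rintro (⟨-, h⟩ | ⟨h, -⟩)
      · rw [h]
      · omega
  by_cases hj : j < l e
  · rw [pathVert_mid ends l e j h0 hj]
    constructor
    · intro h
      exact absurd h (by simp)
    · rintro (⟨h, -⟩ | ⟨h, -⟩)
      · exact absurd h h0
      · omega
  · rw [pathVert_of_ge ends l e hl j (by omega)]
    constructor
    · intro h
      exact Or.inr ⟨by omega, Sum.inl.inj h⟩
    · rintro (⟨h, -⟩ | ⟨-, h⟩)
      · exact absurd h h0
      · rw [h]

/-- the summand of the blow-up multidegree at position `k` of the path of `e` -/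
def term (ψ : BlVert V E l → ℤ) (w : BlVert V E l) (e : E) (k : ℕ) : ℤ :=
  (if pathVert ends l e k = w then
      (ψ (pathVert ends l e (k + 1)) - ψ (pathVert ends l e k)) else 0) +
    (if pathVert ends l e (k + 1) = w then
      (ψ (pathVert ends l e k) - ψ (pathVert ends l e (k + 1))) else 0)

theorem mdeg_bl (ψ : BlVert V E l → ℤ) (w : BlVert V E l) :
    mdeg (blEnds ends l) (fun _ => 1) ψ w =
      ∑ e : E, ∑ k ∈ Finset.range (l e), term ends l ψ w e k := by
  unfold mdeg
  rw [Fintype.sum_sigma]
  refine Finset.sum_congr rfl (fun e _ => ?_)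
  rw [← Fin.sum_univ_eq_sum_range (fun k => term ends l ψ w e k) (l e)]
  refine Finset.sum_congr rfl (fun k _ => ?_)
  simp only [blEnds, term, Nat.cast_one, Int.ediv_one]

theorem mdeg_bl_new (ψ : BlVert V E l → ℤ) (e : E) (i : Fin (l e - 1)) :
    mdeg (blEnds ends l) (fun _ => 1) ψ (Sum.inr ⟨e, i⟩) =
      (ψ (pathVert ends l e (i.val + 2)) - ψ (pathVert ends l e (i.val + 1))) +
        (ψ (pathVert ends l e i.val) - ψ (pathVert ends l e (i.val + 1))) := by
  have hi := i.isLt
  rw [mdeg_bl, Finset.sum_eq_single e]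
  · have hterm : ∀ k, term ends l ψ (Sum.inr ⟨e, i⟩) e k =
        (if k = i.val + 1 then
          (ψ (pathVert ends l e (i.val + 2)) - ψ (pathVert ends l e (i.val + 1))) else 0) +
        (if k = i.val then
          (ψ (pathVert ends l e i.val) - ψ (pathVert ends l e (i.val + 1))) else 0) := by
      intro k
      unfold term
      congr 1
      · by_cases hk : k = i.val + 1
        · subst hk
          rw [if_pos ((pathVert_eq_inr_iff ends l e e i _).mpr ⟨rfl, rfl⟩), if_pos rfl]
        · rw [if_neg, if_neg hk]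
          rw [pathVert_eq_inr_iff]
          exact fun h => hk h.2
      · by_cases hk : k = i.val
        · subst hk
          rw [if_pos ((pathVert_eq_inr_iff ends l e e i _).mpr ⟨rfl, rfl⟩), if_pos rfl]
        · rw [if_neg, if_neg hk]
          rw [pathVert_eq_inr_iff]
          exact fun h => hk (by omega)
    simp_rw [hterm]
    rw [Finset.sum_add_distrib, Finset.sum_ite_eq', Finset.sum_ite_eq',
      if_pos (Finset.mem_range.mpr (by omega)), if_pos (Finset.mem_range.mpr (by omega))]
  · intro e' _ hne
    refine Finset.sum_eq_zero (fun k _ => ?_)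
    unfold term
    rw [if_neg, if_neg, add_zero]
    · rw [pathVert_eq_inr_iff]
      exact fun h => hne h.1
    · rw [pathVert_eq_inr_iff]
      exact fun h => hne h.1
  · intro h
    exact absurd (Finset.mem_univ e) h

theorem mdeg_bl_old (hl : ∀ e, 0 < l e) (ψ : BlVert V E l → ℤ) (v : V) :
    mdeg (blEnds ends l) (fun _ => 1) ψ (Sum.inl v) =
      ∑ e : E, ((if (ends e).1 = v then
          (ψ (pathVert ends l e 1) - ψ (pathVert ends l e 0)) else 0) +
        (if (ends e).2 = v then
          (ψ (pathVert ends l e (l e - 1)) - ψ (pathVert ends l e (l e))) else 0)) := by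
  rw [mdeg_bl]
  refine Finset.sum_congr rfl (fun e _ => ?_)
  have hle := hl e
  have hterm : ∀ k ∈ Finset.range (l e), term ends l ψ (Sum.inl v) e k =
      (if k = 0 then (if (ends e).1 = v then
          (ψ (pathVert ends l e 1) - ψ (pathVert ends l e 0)) else 0) else 0) +
      (if k = l e - 1 then (if (ends e).2 = v then
          (ψ (pathVert ends l e (l e - 1)) - ψ (pathVert ends l e (l e))) else 0) else 0) := by
    intro k hk
    rw [Finset.mem_range] at hk
    unfold term
    congr 1
    · by_cases hk0 : k = 0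
      · subst hk0
        rw [if_pos rfl]
        by_cases hv : (ends e).1 = v
        · rw [if_pos hv, if_pos ((pathVert_eq_inl_iff ends l e hle v 0).mpr (Or.inl ⟨rfl, hv⟩))]
        · rw [if_neg hv, if_neg]
          rw [pathVert_eq_inl_iff ends l e hle]
          rintro (⟨-, h⟩ | ⟨h, -⟩)
          · exact hv h
          · omega
      · rw [if_neg hk0, if_neg]
        rw [pathVert_eq_inl_iff ends l e hle]
        rintro (⟨h, -⟩ | ⟨h, -⟩)
        · exact hk0 h
        · omega
    · by_cases hk1 : k = l e - 1
      · subst hk1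
        rw [if_pos rfl]
        have hk2 : l e - 1 + 1 = l e := by omega
        rw [hk2]
        by_cases hv : (ends e).2 = v
        · rw [if_pos hv, if_pos ((pathVert_eq_inl_iff ends l e hle v _).mpr (Or.inr ⟨le_rfl, hv⟩))]
        · rw [if_neg hv, if_neg]
          rw [pathVert_eq_inl_iff ends l e hle]
          rintro (⟨h, -⟩ | ⟨-, h⟩)
          · omega
          · exact hv h
      · rw [if_neg hk1, if_neg]
        rw [pathVert_eq_inl_iff ends l e hle]
        rintro (⟨h, -⟩ | ⟨h, -⟩)
        · omega
        · omega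
  rw [Finset.sum_congr rfl hterm, Finset.sum_add_distrib, Finset.sum_ite_eq', Finset.sum_ite_eq',
    if_pos (Finset.mem_range.mpr hle), if_pos (Finset.mem_range.mpr (by omega))]

theorem main (hl : ∀ e, 0 < l e) (α : V → ℤ) (ψ : BlVert V E l → ℤ)
    (hψ : ∀ w : BlVert V E l,
      mdeg (blEnds ends l) (fun _ => 1) ψ w = Sum.elim α (fun _ => (0 : ℤ)) w) :
    ∃ φ : V → ℤ, IsCartier ends l φ ∧ ∀ v : V, mdeg ends l φ v = α v := by
  have hd : ∀ e, ∀ j, j + 1 < l e →
      ψ (pathVert ends l e (j + 2)) - ψ (pathVert ends l e (j + 1)) =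
        ψ (pathVert ends l e (j + 1)) - ψ (pathVert ends l e j) := by
    intro e j hj
    have h1 := hψ (Sum.inr ⟨e, ⟨j, by omega⟩⟩)
    rw [mdeg_bl_new] at h1
    simp only [Sum.elim_inr] at h1
    linarith
  have hconst : ∀ e, ∀ j, j < l e →
      ψ (pathVert ends l e (j + 1)) - ψ (pathVert ends l e j) =
        ψ (pathVert ends l e 1) - ψ (pathVert ends l e 0) := by
    intro e j
    induction j with
    | zero => intro _; rfl
    | succ j ih =>
      intro hj
      rw [hd e j hj, ih (by omega)]
  have hlin : ∀ e, ∀ j, j ≤ l e →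
      ψ (pathVert ends l e j) = ψ (pathVert ends l e 0) +
        (j : ℤ) * (ψ (pathVert ends l e 1) - ψ (pathVert ends l e 0)) := by
    intro e j
    induction j with
    | zero => intro _; simp
    | succ j ih =>
      intro hj
      have h1 := hconst e j (by omega)
      have h2 := ih (by omega)
      push_cast
      linarith
  refine ⟨fun v => ψ (Sum.inl v), ?_, ?_⟩
  · intro e
    have h1 := hlin e (l e) le_rfl
    rw [pathVert_of_ge ends l e (hl e) (l e) le_rfl, pathVert_zero] at h1
    refine ⟨-(ψ (pathVert ends l e 1) - ψ (Sum.inl (ends e).1)), ?_⟩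
    show ψ (Sum.inl (ends e).1) - ψ (Sum.inl (ends e).2) = _
    rw [h1]
    ring
  · intro v
    have h0 := hψ (Sum.inl v)
    rw [mdeg_bl_old ends l hl] at h0
    simp only [Sum.elim_inl] at h0
    rw [← h0]
    unfold mdeg
    refine Finset.sum_congr rfl (fun e _ => ?_)
    have hle := hl e
    have hne : ((l e : ℕ) : ℤ) ≠ 0 := by
      have : (0 : ℤ) < (l e : ℤ) := by exact_mod_cast hle
      exact ne_of_gt this
    have h1 := hlin e (l e) le_rfl
    rw [pathVert_of_ge ends l e (hl e) (l e) le_rfl, pathVert_zero] at h1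
    have h2 := hconst e (l e - 1) (by omega)
    have h3 : l e - 1 + 1 = l e := by omega
    rw [h3, pathVert_of_ge ends l e (hl e) (l e) le_rfl] at h2
    have e1 : (ψ (Sum.inl (ends e).2) - ψ (Sum.inl (ends e).1)) / (l e : ℤ) =
        ψ (pathVert ends l e 1) - ψ (pathVert ends l e 0) := by
      rw [h1, pathVert_zero, add_sub_cancel_left]
      exact Int.mul_ediv_cancel_left _ hne
    have e2 : (ψ (Sum.inl (ends e).1) - ψ (Sum.inl (ends e).2)) / (l e : ℤ) =
        ψ (pathVert ends l e (l e - 1)) - ψ (pathVert ends l e (l e)) := by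
      rw [pathVert_of_ge ends l e (hl e) (l e) le_rfl]
      have : ψ (pathVert ends l e (l e - 1)) - ψ (Sum.inl (ends e).2) =
          -(ψ (pathVert ends l e 1) - ψ (pathVert ends l e 0)) := by linarith
      rw [this, h1, pathVert_zero]
      have : ψ (Sum.inl (ends e).1) - (ψ (Sum.inl (ends e).1) +
          (l e : ℤ) * (ψ (pathVert ends l e 1) - ψ (Sum.inl (ends e).1))) =
          (l e : ℤ) * (-(ψ (pathVert ends l e 1) - ψ (Sum.inl (ends e).1))) := by ring
      rw [this]
      exact Int.mul_ediv_cancel_left _ hne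
    show (if (ends e).1 = v then (ψ (Sum.inl (ends e).2) - ψ (Sum.inl (ends e).1)) / (l e : ℤ)
        else 0) + (if (ends e).2 = v then
        (ψ (Sum.inl (ends e).1) - ψ (Sum.inl (ends e).2)) / (l e : ℤ) else 0) = _
    rw [e1, e2]

end Groth.Agent.Lib.Helper27BlowGraph
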