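import Mathlib

/-!
# Cayley–Bacharach for reduced points in projective space: peeling by hyperplanes
-/

namespace Groth.Agent.Lib.Helper27CB

open MvPolynomial

variable {k : Type*} [Field k] {N : ℕ}

/-- The Cayley–Bacharach property in degree `n` for a finite set of points. -/
def CB (Z : Finset (Projectivization k (Fin N → k))) (n : ℕ) : Prop :=
  ∀ z ∈ Z, ∀ p : MvPolynomial (Fin N) k, p.IsHomogeneous n →
    (∀ z' ∈ Z, z' ≠ z → MvPolynomial.eval z'.rep p = 0) → MvPolynomial.eval z.rep p = 0

/-- The linear form attached to a functional. -/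
noncomputable def lin (φ : (Fin N → k) →ₗ[k] k) : MvPolynomial (Fin N) k :=
  ∑ i, C (φ (Pi.single i 1)) * X i

theorem lin_hom (φ : (Fin N → k) →ₗ[k] k) : (lin φ).IsHomogeneous 1 :=
  IsHomogeneous.sum _ _ _ (fun i _ => isHomogeneous_C_mul_X _ _)

theorem eval_lin (φ : (Fin N → k) →ₗ[k] k) (v : Fin N → k) : eval v (lin φ) = φ v := by
  rw [lin, map_sum]
  simp only [map_mul, eval_C, eval_X]
  rw [LinearMap.pi_apply_eq_sum_univ φ v]
  refine Finset.sum_congr rfl (fun i _ => ?_)
  rw [smul_eq_mul, mul_comm]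
  congr 2
  ext j
  simp [Pi.single_apply, eq_comm]

open Classical in
theorem CB.peel {Z : Finset (Projectivization k (Fin N → k))} {n : ℕ} (h : CB Z (n + 1))
    (φ : (Fin N → k) →ₗ[k] k) : CB (Z.filter (fun z => φ z.rep ≠ 0)) n := by
  intro z hz p hp hvan
  rw [Finset.mem_filter] at hz
  have h1 := h z hz.1 (p * lin φ) (hp.mul (lin_hom φ)) (by
    intro z' hz' hne
    rw [map_mul, eval_lin]
    by_cases hφ : φ z'.rep = 0
    · rw [hφ, mul_zero]
    · rw [hvan z' (Finset.mem_filter.mpr ⟨hz', hφ⟩) hne, zero_mul])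
  rw [map_mul, eval_lin] at h1
  exact (mul_eq_zero.mp h1).resolve_right hz.2

theorem CB.two_le {Z : Finset (Projectivization k (Fin N → k))} {n : ℕ} (h : CB Z n)
    (hne : Z.Nonempty) : 2 ≤ Z.card := by
  by_contra hlt
  have hcard : Z.card = 1 := by
    have := hne.card_pos
    omega
  obtain ⟨z, rfl⟩ := Finset.card_eq_one.mp hcard
  obtain ⟨i, hi⟩ : ∃ i, z.rep i ≠ 0 := by
    by_contra hcon
    push Not at hcon
    exact z.rep_nonzero (funext hcon)
  have h1 := h z (Finset.mem_singleton_self z) (X i ^ n) (isHomogeneous_X_pow i n)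
    (fun z' hz' hne' => absurd (Finset.mem_singleton.mp hz') hne')
  rw [map_pow, eval_X] at h1
  exact pow_ne_zero n hi h1

theorem mem_submodule_iff (z : Projectivization k (Fin N → k)) (W : Submodule k (Fin N → k)) :
    z.submodule ≤ W ↔ z.rep ∈ W := by
  rw [Projectivization.submodule_eq, Submodule.span_singleton_le_iff_mem]

theorem exists_sep {z1 z2 : Projectivization k (Fin N → k)} (h : z1 ≠ z2) :
    ∃ φ : (Fin N → k) →ₗ[k] k, φ z1.rep = 0 ∧ φ z2.rep ≠ 0 := by
  have hnot : z2.rep ∉ Submodule.span k {z1.rep} := by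
    intro hmem
    obtain ⟨a, ha⟩ := Submodule.mem_span_singleton.mp hmem
    apply h
    symm
    calc z2 = Projectivization.mk k z2.rep z2.rep_nonzero := z2.mk_rep.symm
      _ = Projectivization.mk k z1.rep z1.rep_nonzero :=
        (Projectivization.mk_eq_mk_iff' k _ _ _ _).mpr ⟨a, ha⟩
      _ = z1 := z1.mk_rep
  obtain ⟨f, hf2, hf1⟩ := Submodule.exists_le_ker_of_notMem hnot
  exact ⟨f, hf1 (Submodule.subset_span rfl), hf2⟩

theorem CB.card_ge : ∀ (n : ℕ) (Z : Finset (Projectivization k (Fin N → k))),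
    CB Z n → Z.Nonempty → n + 2 ≤ Z.card
  | 0, Z, h, hne => by
    have := h.two_le hne
    omega
  | n + 1, Z, h, hne => by
    classical
    have h2 := h.two_le hne
    obtain ⟨z1, hz1, z2, hz2, h12⟩ := Finset.one_lt_card.mp h2
    obtain ⟨φ, hφ1, hφ2⟩ := exists_sep h12
    have hpe := h.peel φ
    have hne' : (Z.filter (fun z => φ z.rep ≠ 0)).Nonempty :=
      ⟨z2, Finset.mem_filter.mpr ⟨hz2, hφ2⟩⟩
    have ih := CB.card_ge n _ hpe hne'
    have hlt : (Z.filter (fun z => φ z.rep ≠ 0)).card < Z.card := by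
      apply Finset.card_lt_card
      refine ⟨Finset.filter_subset _ _, fun hsub => ?_⟩
      have h3 := hsub hz1
      rw [Finset.mem_filter] at h3
      exact h3.2 hφ1
    omega

/-- All points lie on one line. -/
def Collinear (Z : Finset (Projectivization k (Fin N → k))) : Prop :=
  ∃ W : Submodule k (Fin N → k), Module.finrank k W = 2 ∧ ∀ z ∈ Z, z.submodule ≤ W

theorem CB.collinear : ∀ (n : ℕ) (Z : Finset (Projectivization k (Fin N → k))),
    CB Z n → Z.Nonempty → Z.card ≤ 2 * n + 1 → Collinear Z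
  | 0, Z, h, hne, hc => by
    have := h.two_le hne
    omega
  | n + 1, Z, h, hne, hc => by
    classical
    have h2 := h.two_le hne
    obtain ⟨z1, hz1, z2, hz2, h12⟩ := Finset.one_lt_card.mp h2
    have hind : LinearIndependent k (Projectivization.rep ∘ ![z1, z2]) :=
      (Projectivization.independent_iff).mp ((Projectivization.independent_pair_iff_ne z1 z2).mpr h12)
    set W₀ := Submodule.span k (Set.range (Projectivization.rep ∘ ![z1, z2])) with hW₀def
    have hW₀ : Module.finrank k W₀ = 2 := by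
      rw [hW₀def, finrank_span_eq_card hind]
      simp
    have hz1W : z1.rep ∈ W₀ := Submodule.subset_span ⟨0, rfl⟩
    have hz2W : z2.rep ∈ W₀ := Submodule.subset_span ⟨1, rfl⟩
    by_cases hall : ∀ z ∈ Z, z.rep ∈ W₀
    · exact ⟨W₀, hW₀, fun z hz => (mem_submodule_iff z W₀).mpr (hall z hz)⟩
    · push Not at hall
      obtain ⟨z3, hz3, hz3W⟩ := hall
      obtain ⟨φ, hφ3, hφW⟩ := Submodule.exists_le_ker_of_notMem hz3W
      have hφ1 : φ z1.rep = 0 := hφW hz1W
      have hφ2 : φ z2.rep = 0 := hφW hz2W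
      have hpe : CB (Z.filter (fun z => φ z.rep ≠ 0)) n := h.peel φ
      have hne' : (Z.filter (fun z => φ z.rep ≠ 0)).Nonempty :=
        ⟨z3, Finset.mem_filter.mpr ⟨hz3, hφ3⟩⟩
      have hcard' : (Z.filter (fun z => φ z.rep ≠ 0)).card + 2 ≤ Z.card := by
        have hsub : insert z1 (insert z2 (Z.filter (fun z => φ z.rep ≠ 0))) ⊆ Z := by
          intro z hz
          rw [Finset.mem_insert, Finset.mem_insert] at hz
          rcases hz with rfl | rfl | hz
          · exact hz1
          · exact hz2
          · exact (Finset.mem_filter.mp hz).1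
        have hn2 : z2 ∉ Z.filter (fun z => φ z.rep ≠ 0) := fun hz =>
          (Finset.mem_filter.mp hz).2 hφ2
        have hn1 : z1 ∉ insert z2 (Z.filter (fun z => φ z.rep ≠ 0)) := by
          intro hz
          rw [Finset.mem_insert] at hz
          rcases hz with hz | hz
          · exact h12 hz
          · exact (Finset.mem_filter.mp hz).2 hφ1
        have h3 := Finset.card_le_card hsub
        rw [Finset.card_insert_of_notMem hn1, Finset.card_insert_of_notMem hn2] at h3
        omega
      obtain ⟨W', hW', hZ'W'⟩ := CB.collinear n _ hpe hne' (by omega)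
      have hlow := CB.card_ge n _ hpe hne'
      by_cases hall' : ∀ z ∈ Z, z.rep ∈ W'
      · exact ⟨W', hW', fun z hz => (mem_submodule_iff z W').mpr (hall' z hz)⟩
      · exfalso
        push Not at hall'
        obtain ⟨z4, hz4, hz4W⟩ := hall'
        obtain ⟨φ', hφ'4, hφ'W⟩ := Submodule.exists_le_ker_of_notMem hz4W
        have hpe'' : CB (Z.filter (fun z => φ' z.rep ≠ 0)) n := h.peel φ'
        have hne'' : (Z.filter (fun z => φ' z.rep ≠ 0)).Nonempty :=
          ⟨z4, Finset.mem_filter.mpr ⟨hz4, hφ'4⟩⟩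
        have hlow'' := CB.card_ge n _ hpe'' hne''
        have hdisj : Disjoint (Z.filter (fun z => φ z.rep ≠ 0))
            (Z.filter (fun z => φ' z.rep ≠ 0)) := by
          rw [Finset.disjoint_left]
          intro z hz hz''
          have h3 : z.rep ∈ W' := (mem_submodule_iff z W').mp (hZ'W' z hz)
          exact (Finset.mem_filter.mp hz'').2 (hφ'W h3)
        have h4 : (Z.filter (fun z => φ z.rep ≠ 0)).card +
            (Z.filter (fun z => φ' z.rep ≠ 0)).card ≤ Z.card := by
          rw [← Finset.card_union_of_disjoint hdisj]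
          exact Finset.card_le_card
            (Finset.union_subset (Finset.filter_subset _ _) (Finset.filter_subset _ _))
        omega

end Groth.Agent.Lib.Helper27CB
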