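import Mathlib
import Groth.Agent.Lib.Helper27CB

/-!
# Cayley–Bacharach for at most `3n+1` reduced points in projective 3-space
-/

namespace Groth.Agent.Lib.Helper27CB2

open Groth.Agent.Lib.Helper27CB Module

variable {k : Type*} [Field k]

/-- Every subspace of `k⁴` of dimension at most three lies in a plane `ker φ`. -/
theorem exists_plane (U : Submodule k (Fin 4 → k)) (hU : finrank k U ≤ 3) :
    ∃ φ : (Fin 4 → k) →ₗ[k] k, finrank k (LinearMap.ker φ) = 3 ∧ U ≤ LinearMap.ker φ := by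
  have hne : U ≠ ⊤ := by
    intro h
    rw [h, finrank_top, Module.finrank_fin_fun] at hU
    omega
  obtain ⟨v, -, hv⟩ := SetLike.exists_of_lt (lt_top_iff_ne_top.mpr hne)
  obtain ⟨φ, hφv, hφU⟩ := Submodule.exists_le_ker_of_notMem hv
  refine ⟨φ, ?_, hφU⟩
  have hsurj : Function.Surjective φ := by
    intro c
    refine ⟨(c / φ v) • v, ?_⟩
    rw [map_smul, smul_eq_mul, div_mul_cancel₀ _ hφv]
  have h1 := LinearMap.finrank_range_add_finrank_ker φ
  rw [LinearMap.range_eq_top.mpr hsurj, finrank_top, Module.finrank_self,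
    Module.finrank_fin_fun] at h1
  omega

/-- Non-coplanarity. -/
def NC (Z : Finset (Projectivization k (Fin 4 → k))) : Prop :=
  ¬ ∃ W : Submodule k (Fin 4 → k), finrank k W = 3 ∧ ∀ z ∈ Z, z.rep ∈ W

open Classical in
theorem peel_nonempty {Z : Finset (Projectivization k (Fin 4 → k))} (hNC : NC Z)
    {φ : (Fin 4 → k) →ₗ[k] k} (hφ : finrank k (LinearMap.ker φ) = 3) :
    (Z.filter (fun z => φ z.rep ≠ 0)).Nonempty := by
  by_contra hem
  rw [Finset.not_nonempty_iff_eq_empty] at hem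
  apply hNC
  refine ⟨LinearMap.ker φ, hφ, fun z hz => ?_⟩
  by_contra hzW
  have h1 : z ∈ Z.filter (fun z => φ z.rep ≠ 0) := Finset.mem_filter.mpr ⟨hz, hzW⟩
  rw [hem] at h1
  exact Finset.notMem_empty _ h1

theorem line_unique {z z' : Projectivization k (Fin 4 → k)} (hne : z ≠ z')
    {M₁ M₂ : Submodule k (Fin 4 → k)} (hM₁ : finrank k M₁ = 2) (hM₂ : finrank k M₂ = 2)
    (h1 : z.rep ∈ M₁) (h1' : z'.rep ∈ M₁) (h2 : z.rep ∈ M₂) (h2' : z'.rep ∈ M₂) : M₁ = M₂ := by
  have hind : LinearIndependent k (Projectivization.rep ∘ ![z, z']) :=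
    (Projectivization.independent_iff).mp ((Projectivization.independent_pair_iff_ne z z').mpr hne)
  set W₀ := Submodule.span k (Set.range (Projectivization.rep ∘ ![z, z'])) with hW₀def
  have hW₀ : finrank k W₀ = 2 := by
    rw [hW₀def, finrank_span_eq_card hind]
    simp
  have hle : ∀ M : Submodule k (Fin 4 → k), z.rep ∈ M → z'.rep ∈ M → W₀ ≤ M := by
    intro M hz hz'
    rw [hW₀def, Submodule.span_le]
    rintro _ ⟨i, rfl⟩
    fin_cases i
    · exact hz
    · exact hz'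
  rw [← Submodule.eq_of_le_of_finrank_eq (hle M₁ h1 h1') (by rw [hW₀, hM₁]),
    ← Submodule.eq_of_le_of_finrank_eq (hle M₂ h2 h2') (by rw [hW₀, hM₂])]

open Classical in
theorem main_arg (Z : Finset (Projectivization k (Fin 4 → k))) (n : ℕ) (hn : 1 ≤ n)
    (hCB : CB Z n) (hcard : Z.card ≤ 3 * n + 1) (hNC : NC Z)
    (W₁ : Submodule k (Fin 4 → k)) (hW₁ : finrank k W₁ = 2)
    (hcount : n + 1 ≤ (Z.filter (fun z : Projectivization k (Fin 4 → k) => z.rep ∈ W₁)).card) :
    ∃ W₂ : Submodule k (Fin 4 → k), finrank k W₂ = 2 ∧ W₁ ⊓ W₂ = ⊥ ∧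
      (∀ z ∈ Z, z.rep ∈ W₁ ∨ z.rep ∈ W₂) ∧
      n + 1 ≤ (Z.filter (fun z : Projectivization k (Fin 4 → k) => z.rep ∈ W₂)).card ∧
      2 * n + 3 ≤ Z.card := by
  classical
  obtain ⟨m, rfl⟩ : ∃ m, n = m + 1 := ⟨n - 1, by omega⟩
  set Y := Z.filter (fun z => z.rep ∉ W₁) with hY
  have hYcard : (Z.filter (fun z => z.rep ∈ W₁)).card + Y.card = Z.card :=
    Finset.card_filter_add_card_filter_not _
  have key : ∀ y ∈ Y, ∃ φ : (Fin 4 → k) →ₗ[k] k,
      LinearMap.ker φ = W₁ ⊔ Submodule.span k {y.rep} ∧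
      ∃ M : Submodule k (Fin 4 → k), finrank k M = 2 ∧
        (∀ z ∈ Z, φ z.rep ≠ 0 → z.rep ∈ M) ∧
        m + 2 ≤ (Z.filter (fun z => φ z.rep ≠ 0)).card ∧
        (Z.filter (fun z => φ z.rep ≠ 0)).card + 1 ≤ Y.card := by
    intro y hy
    have hyW : y.rep ∉ W₁ := (Finset.mem_filter.mp hy).2
    have hP : finrank k ↥(W₁ ⊔ Submodule.span k {y.rep}) = 3 := by
      rw [Submodule.finrank_sup_span_singleton hyW, hW₁]
    obtain ⟨φ, hφ3, hφP⟩ := exists_plane _ hP.le
    have hker : LinearMap.ker φ = W₁ ⊔ Submodule.span k {y.rep} :=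
      (Submodule.eq_of_le_of_finrank_eq hφP (by rw [hP, hφ3])).symm
    refine ⟨φ, hker, ?_⟩
    have hpe : CB (Z.filter (fun z => φ z.rep ≠ 0)) m := hCB.peel φ
    have hne : (Z.filter (fun z => φ z.rep ≠ 0)).Nonempty := peel_nonempty hNC hφ3
    have hsub : Z.filter (fun z => φ z.rep ≠ 0) ⊆ Y.erase y := by
      intro z hz
      rw [Finset.mem_filter] at hz
      rw [Finset.mem_erase, hY, Finset.mem_filter]
      refine ⟨?_, hz.1, ?_⟩
      · rintro rfl
        apply hz.2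
        have h1 : z.rep ∈ LinearMap.ker φ := by
          rw [hker]
          exact Submodule.mem_sup_right (Submodule.mem_span_singleton_self _)
        exact h1
      · intro hzW
        apply hz.2
        have h1 : z.rep ∈ LinearMap.ker φ := by
          rw [hker]
          exact Submodule.mem_sup_left hzW
        exact h1
    have hc1 : (Z.filter (fun z => φ z.rep ≠ 0)).card + 1 ≤ Y.card := by
      have h1 := Finset.card_le_card hsub
      rw [Finset.card_erase_of_mem hy] at h1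
      have h2 := Finset.card_pos.mpr ⟨y, hy⟩
      omega
    have hlow := CB.card_ge m _ hpe hne
    obtain ⟨M, hM, hZM⟩ := CB.collinear m _ hpe hne (by omega)
    exact ⟨M, hM, fun z hz hφz =>
      (mem_submodule_iff z M).mp (hZM z (Finset.mem_filter.mpr ⟨hz, hφz⟩)), hlow, hc1⟩
  have hYne : Y.Nonempty := by
    by_contra hem
    rw [Finset.not_nonempty_iff_eq_empty] at hem
    apply hNC
    obtain ⟨φ, hφ3, hφU⟩ := exists_plane W₁ (by omega)
    refine ⟨LinearMap.ker φ, hφ3, fun z hz => hφU ?_⟩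
    by_contra hzW
    have h1 : z ∈ Y := Finset.mem_filter.mpr ⟨hz, hzW⟩
    rw [hem] at h1
    exact Finset.notMem_empty _ h1
  obtain ⟨y₀, hy₀⟩ := hYne
  obtain ⟨φ₀, hker₀, M₁, hM₁, hZM₁, hc₁, hc₁'⟩ := key y₀ hy₀
  have hY₁ne : (Z.filter (fun z => φ₀ z.rep ≠ 0)).Nonempty := Finset.card_pos.mp (by omega)
  obtain ⟨y₁, hy₁⟩ := hY₁ne
  have hW₁φ₀ : ∀ w ∈ W₁, φ₀ w = 0 := by
    intro w hw
    have h1 : w ∈ LinearMap.ker φ₀ := by
      rw [hker₀]
      exact Submodule.mem_sup_left hw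
    exact h1
  have hsubY : ∀ φ : (Fin 4 → k) →ₗ[k] k, (∀ w ∈ W₁, φ w = 0) →
      Z.filter (fun z => φ z.rep ≠ 0) ⊆ Y := by
    intro φ hφ z hz
    rw [Finset.mem_filter] at hz
    exact Finset.mem_filter.mpr ⟨hz.1, fun hzW => hz.2 (hφ _ hzW)⟩
  have hy₁Y : y₁ ∈ Y := hsubY φ₀ hW₁φ₀ hy₁
  obtain ⟨φ₁, hker₁, M₂, hM₂, hZM₂, hc₂, hc₂'⟩ := key y₁ hy₁Y
  have hW₁φ₁ : ∀ w ∈ W₁, φ₁ w = 0 := by
    intro w hw
    have h1 : w ∈ LinearMap.ker φ₁ := by
      rw [hker₁]
      exact Submodule.mem_sup_left hw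
    exact h1
  have hcover : Y ⊆ Z.filter (fun z => φ₀ z.rep ≠ 0) ∪ Z.filter (fun z => φ₁ z.rep ≠ 0) := by
    intro y hy
    rw [Finset.mem_union]
    by_contra hcon
    push Not at hcon
    have hyZ : y ∈ Z := (Finset.mem_filter.mp hy).1
    have h0 : φ₀ y.rep = 0 := by
      by_contra h
      exact hcon.1 (Finset.mem_filter.mpr ⟨hyZ, h⟩)
    have h1 : φ₁ y.rep = 0 := by
      by_contra h
      exact hcon.2 (Finset.mem_filter.mpr ⟨hyZ, h⟩)
    have h1' : y.rep ∈ W₁ ⊔ Submodule.span k {y₁.rep} := by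
      rw [← hker₁]
      exact h1
    obtain ⟨w, hw, u, hu, hwu⟩ := Submodule.mem_sup.mp h1'
    obtain ⟨a, rfl⟩ := Submodule.mem_span_singleton.mp hu
    have h2 : φ₀ y.rep = a * φ₀ y₁.rep := by
      rw [← hwu, map_add, hW₁φ₀ w hw, zero_add, map_smul, smul_eq_mul]
    rw [h0] at h2
    have ha : a = 0 := by
      rcases mul_eq_zero.mp h2.symm with h | h
      · exact h
      · exact absurd h (Finset.mem_filter.mp hy₁).2
    rw [ha, zero_smul, add_zero] at hwu
    exact (Finset.mem_filter.mp hy).2 (hwu ▸ hw)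
  have hui := Finset.card_union_add_card_inter (Z.filter (fun z => φ₀ z.rep ≠ 0))
    (Z.filter (fun z => φ₁ z.rep ≠ 0))
  have hule : (Z.filter (fun z => φ₀ z.rep ≠ 0) ∪ Z.filter (fun z => φ₁ z.rep ≠ 0)).card
      ≤ Y.card :=
    Finset.card_le_card (Finset.union_subset (hsubY φ₀ hW₁φ₀) (hsubY φ₁ hW₁φ₁))
  have h2 : 1 < (Z.filter (fun z => φ₀ z.rep ≠ 0) ∩ Z.filter (fun z => φ₁ z.rep ≠ 0)).card := by
    omega
  obtain ⟨a, ha, b, hb, hab⟩ := Finset.one_lt_card.mp h2
  rw [Finset.mem_inter, Finset.mem_filter, Finset.mem_filter] at ha hb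
  have hMM : M₁ = M₂ := line_unique hab hM₁ hM₂ (hZM₁ a ha.1.1 ha.1.2) (hZM₁ b hb.1.1 hb.1.2)
    (hZM₂ a ha.2.1 ha.2.2) (hZM₂ b hb.2.1 hb.2.2)
  subst hMM
  have hYM : ∀ y ∈ Y, y.rep ∈ M₁ := by
    intro y hy
    rcases Finset.mem_union.mp (hcover hy) with h | h
    · exact hZM₁ y (Finset.mem_filter.mp h).1 (Finset.mem_filter.mp h).2
    · exact hZM₂ y (Finset.mem_filter.mp h).1 (Finset.mem_filter.mp h).2
  refine ⟨M₁, hM₁, ?_, ?_, ?_, ?_⟩
  · by_contra hbot
    apply hNC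
    have hfin : finrank k ↥(W₁ ⊔ M₁) ≤ 3 := by
      have h3 := Submodule.finrank_sup_add_finrank_inf_eq W₁ M₁
      have hpos : finrank k ↥(W₁ ⊓ M₁) ≠ 0 := fun h0 => hbot (Submodule.finrank_eq_zero.mp h0)
      omega
    obtain ⟨φ, hφ3, hφU⟩ := exists_plane _ hfin
    refine ⟨LinearMap.ker φ, hφ3, fun z hz => hφU ?_⟩
    by_cases hzW : z.rep ∈ W₁
    · exact Submodule.mem_sup_left hzW
    · exact Submodule.mem_sup_right (hYM z (Finset.mem_filter.mpr ⟨hz, hzW⟩))
  · intro z hz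
    by_cases hzW : z.rep ∈ W₁
    · exact Or.inl hzW
    · exact Or.inr (hYM z (Finset.mem_filter.mpr ⟨hz, hzW⟩))
  · calc m + 1 + 1 ≤ (Z.filter (fun z => φ₀ z.rep ≠ 0)).card := hc₁
      _ ≤ _ := Finset.card_le_card (fun z hz => by
          rw [Finset.mem_filter] at hz ⊢
          exact ⟨hz.1, hZM₁ z hz.1 hz.2⟩)
  · omega

open Classical in
theorem T : ∀ (n : ℕ) (Z : Finset (Projectivization k (Fin 4 → k))), CB Z n →
    Z.card ≤ 3 * n + 1 →
    (∃ W : Submodule k (Fin 4 → k), finrank k W = 3 ∧ ∀ z ∈ Z, z.rep ∈ W) ∨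
    (∃ W₁ W₂ : Submodule k (Fin 4 → k), finrank k W₁ = 2 ∧ finrank k W₂ = 2 ∧ W₁ ⊓ W₂ = ⊥ ∧
      (∀ z ∈ Z, z.rep ∈ W₁ ∨ z.rep ∈ W₂) ∧
      n + 1 ≤ (Z.filter (fun z : Projectivization k (Fin 4 → k) => z.rep ∈ W₁)).card ∧
      n + 1 ≤ (Z.filter (fun z : Projectivization k (Fin 4 → k) => z.rep ∈ W₂)).card ∧
      2 * n + 3 ≤ Z.card)
  | 0, Z, h, hc => by
    left
    have hem : Z = ∅ := by
      by_contra hne
      have := h.two_le (Finset.nonempty_iff_ne_empty.mpr hne)
      omega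
    subst hem
    obtain ⟨φ, hφ3, -⟩ := exists_plane (⊥ : Submodule k (Fin 4 → k)) (by simp)
    exact ⟨_, hφ3, fun z hz => absurd hz (Finset.notMem_empty z)⟩
  | n + 1, Z, h, hc => by
    classical
    by_cases hNC : ∃ W : Submodule k (Fin 4 → k), finrank k W = 3 ∧ ∀ z ∈ Z, z.rep ∈ W
    · exact Or.inl hNC
    right
    suffices hline : ∃ W₁ : Submodule k (Fin 4 → k), finrank k W₁ = 2 ∧
        n + 1 + 1 ≤ (Z.filter (fun z => z.rep ∈ W₁)).card by
      obtain ⟨W₁, hW₁, hcount⟩ := hline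
      obtain ⟨W₂, h2, h3, h4, h5, h6⟩ := main_arg Z (n + 1) (by omega) h hc hNC W₁ hW₁ hcount
      exact ⟨W₁, W₂, hW₁, h2, h3, h4, hcount, h5, h6⟩
    have hne : Z.Nonempty := by
      by_contra hem
      rw [Finset.not_nonempty_iff_eq_empty] at hem
      apply hNC
      obtain ⟨φ, hφ3, -⟩ := exists_plane (⊥ : Submodule k (Fin 4 → k)) (by simp)
      exact ⟨_, hφ3, fun z hz => absurd hz (by rw [hem]; exact Finset.notMem_empty z)⟩
    have h3 := CB.card_ge _ _ h hne
    obtain ⟨z1, hz1, z2, hz2, z3, hz3, h12, h13, h23⟩ := (Finset.two_lt_card (s := Z)).mp (by omega)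
    obtain ⟨φ, hφ3, hφU⟩ := exists_plane
        (Submodule.span k (({z1.rep, z2.rep, z3.rep} : Finset (Fin 4 → k)) : Set (Fin 4 → k))) (by
      refine le_trans (finrank_span_finset_le_card _) ?_
      exact le_trans (Finset.card_insert_le _ _) (by
        have := Finset.card_insert_le z2.rep ({z3.rep} : Finset (Fin 4 → k))
        rw [Finset.card_singleton] at this
        omega))
    have hφ1 : φ z1.rep = 0 := hφU (Submodule.subset_span (by simp))
    have hφ2 : φ z2.rep = 0 := hφU (Submodule.subset_span (by simp))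
    have hφ3' : φ z3.rep = 0 := hφU (Submodule.subset_span (by simp))
    have hpe : CB (Z.filter (fun z => φ z.rep ≠ 0)) n := h.peel φ
    have hne' : (Z.filter (fun z => φ z.rep ≠ 0)).Nonempty := peel_nonempty hNC hφ3
    have hlow' := CB.card_ge n _ hpe hne'
    have hc' : (Z.filter (fun z => φ z.rep ≠ 0)).card + 3 ≤ Z.card := by
      have hsub : insert z1 (insert z2 (insert z3 (Z.filter (fun z => φ z.rep ≠ 0)))) ⊆ Z := by
        intro z hz
        rw [Finset.mem_insert, Finset.mem_insert, Finset.mem_insert] at hz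
        rcases hz with rfl | rfl | rfl | hz
        · exact hz1
        · exact hz2
        · exact hz3
        · exact (Finset.mem_filter.mp hz).1
      have hn3 : z3 ∉ Z.filter (fun z => φ z.rep ≠ 0) := fun hz =>
        (Finset.mem_filter.mp hz).2 hφ3'
      have hn2 : z2 ∉ insert z3 (Z.filter (fun z => φ z.rep ≠ 0)) := by
        intro hz
        rw [Finset.mem_insert] at hz
        rcases hz with hz | hz
        · exact h23 hz
        · exact (Finset.mem_filter.mp hz).2 hφ2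
      have hn1 : z1 ∉ insert z2 (insert z3 (Z.filter (fun z => φ z.rep ≠ 0))) := by
        intro hz
        rw [Finset.mem_insert, Finset.mem_insert] at hz
        rcases hz with hz | hz | hz
        · exact h12 hz
        · exact h13 hz
        · exact (Finset.mem_filter.mp hz).2 hφ1
      have h4 := Finset.card_le_card hsub
      rw [Finset.card_insert_of_notMem hn1, Finset.card_insert_of_notMem hn2,
        Finset.card_insert_of_notMem hn3] at h4
      omega
    have hfin : ∀ (φ' : (Fin 4 → k) →ₗ[k] k), CB (Z.filter (fun z => φ' z.rep ≠ 0)) n →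
        (Z.filter (fun z => φ' z.rep ≠ 0)).Nonempty →
        (Z.filter (fun z => φ' z.rep ≠ 0)).card ≤ 2 * n + 1 →
        ∃ W₁ : Submodule k (Fin 4 → k), finrank k W₁ = 2 ∧
          n + 1 + 1 ≤ (Z.filter (fun z => z.rep ∈ W₁)).card := by
      intro φ' hpe' hne'' hle
      obtain ⟨M, hM, hZM⟩ := CB.collinear n _ hpe' hne'' hle
      refine ⟨M, hM, le_trans (CB.card_ge n _ hpe' hne'') (Finset.card_le_card ?_)⟩
      intro z hz
      rw [Finset.mem_filter] at hz ⊢
      exact ⟨hz.1, (mem_submodule_iff z M).mp (hZM z (Finset.mem_filter.mpr hz))⟩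
    rcases T n _ hpe (by omega) with ⟨H', hH', hZ'H'⟩ | ⟨L₁, L₂, hL₁, hL₂, hL, hcov, hc₁, hc₂, hc₃⟩
    · obtain ⟨φ', hφ'3, hφ'U⟩ := exists_plane H' hH'.le
      have hpe'' : CB (Z.filter (fun z => φ' z.rep ≠ 0)) n := h.peel φ'
      have hne'' : (Z.filter (fun z => φ' z.rep ≠ 0)).Nonempty := peel_nonempty hNC hφ'3
      have hlow'' := CB.card_ge n _ hpe'' hne''
      have hdisj : Disjoint (Z.filter (fun z => φ z.rep ≠ 0))
          (Z.filter (fun z => φ' z.rep ≠ 0)) := by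
        rw [Finset.disjoint_left]
        intro z hz hz''
        exact (Finset.mem_filter.mp hz'').2 (hφ'U (hZ'H' z hz))
      have hsum : (Z.filter (fun z => φ z.rep ≠ 0)).card +
          (Z.filter (fun z => φ' z.rep ≠ 0)).card ≤ Z.card := by
        rw [← Finset.card_union_of_disjoint hdisj]
        exact Finset.card_le_card
          (Finset.union_subset (Finset.filter_subset _ _) (Finset.filter_subset _ _))
      have hor : (Z.filter (fun z => φ z.rep ≠ 0)).card ≤ 2 * n + 1 ∨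
          (Z.filter (fun z => φ' z.rep ≠ 0)).card ≤ 2 * n + 1 := by omega
      rcases hor with hle | hle
      · exact hfin φ hpe hne' hle
      · exact hfin φ' hpe'' hne'' hle
    · have hsub : Z.filter (fun z => φ z.rep ≠ 0) ⊆
          Z.filter (fun z => z.rep ∈ L₁) ∪ Z.filter (fun z => z.rep ∈ L₂) := by
        intro z hz
        rw [Finset.mem_union, Finset.mem_filter, Finset.mem_filter]
        have hzZ := (Finset.mem_filter.mp hz).1
        rcases hcov z hz with h1 | h1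
        · exact Or.inl ⟨hzZ, h1⟩
        · exact Or.inr ⟨hzZ, h1⟩
      have h4 := le_trans (Finset.card_le_card hsub) (Finset.card_union_le _ _)
      have hor : n + 1 + 1 ≤ (Z.filter (fun z => z.rep ∈ L₁)).card ∨
          n + 1 + 1 ≤ (Z.filter (fun z => z.rep ∈ L₂)).card := by omega
      rcases hor with hle | hle
      · exact ⟨L₁, hL₁, hle⟩
      · exact ⟨L₂, hL₂, hle⟩

end Groth.Agent.Lib.Helper27CB2
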