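import Groth.Agent.Lib.Helper27SerreVan
import Groth.Agent.Lib.Helper23LocGen
import Groth.Agent.Lib.Helper23AmpleIso

/-!
# Castelnuovo–Mumford regularity: `m`-regular implies `(m+1)`-regular (helper27)

Abstract setting: a scheme `X` with a family `L d`, `d : ℤ`, of invertible quasi-coherent modules
with `L a ⊗ L b ≅ L (a + b)`, an epimorphism `φ : ∐_{Fin r} L (-1) ⟶ L 0` (the "Euler sequence"),
and vanishing of the cohomology of quasi-coherent modules above degree `N`.

`regular_succ` : if `F` is quasi-coherent and `H^q(F ⊗ L (m - q)) = 0` for all `q ≥ 1`, then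
`H^q(F ⊗ L (m + 1 - q)) = 0` for all `q ≥ 1`.

The proof uses only the kernel `Z` of `φ` (a flat module) and the tensor powers `Z^{⊗ j} ⊗ F`; no
Koszul complex is needed.
-/

set_option autoImplicit false
universe u
open CategoryTheory Limits AlgebraicGeometry TopologicalSpace Opposite Abelian

namespace Groth.Agent.Lib.Helper27CMReg

open Groth.Agent.Lib.Helper23.QCohLocal Groth.Agent.Lib.Helper23.FinType
  Groth.Agent.Lib.Helper27CoprodFin Groth.Agent.Lib.Helper27CohFin
  Groth.Agent.Lib.Helper21.ModTensor3 Groth.Agent.Lib.Helper21.ModTensor5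
  Groth.Agent.Lib.Helper27SerreVan

variable {X : Scheme.{u}}

/-- exactness of the long exact sequence at `H^{i+1}(X₁)`. -/
theorem subsingleton_X₁_of_shortExact (S : ShortComplex X.Modules) (hS : S.ShortExact) (i : ℕ)
    (h3 : Subsingleton (Coh.HH X S.X₃ i)) (h2 : Subsingleton (Coh.HH X S.X₂ (i + 1))) :
    Subsingleton (Coh.HH X S.X₁ (i + 1)) := by
  have key : ∀ x : Coh.HH X S.X₁ (i + 1), x = 0 := by
    intro x
    have hS' := shortExact_toAbF S hS
    obtain ⟨y, hy⟩ := Ext.covariant_sequence_exact₁ _ hS' (n₁ := i + 1) x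
      (Subsingleton.elim (α := Coh.HH X S.X₂ (i + 1)) _ _) (n₀ := i) rfl
    have hy0 : y = 0 := Subsingleton.elim (α := Coh.HH X S.X₃ i) _ _
    rw [← hy, hy0, Ext.zero_comp]
    rfl
  exact ⟨fun x y => (key x).trans (key y).symm⟩

section Abstract

open Groth.Agent.Lib.Helper23.LocGen Groth.Agent.Lib.Helper23.AmpleIso

variable (L : ℤ → X.Modules) {r : ℕ} (φ : (∐ fun _ : Fin r => L (-1)) ⟶ L 0)

/-- the "Euler sequence" `0 → Z → ∐ L(-1) → L 0 → 0`. -/
noncomputable def euler : ShortComplex X.Modules :=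
  ShortComplex.mk (kernel.ι φ) φ (kernel.condition φ)

theorem euler_shortExact (hφ : Epi φ) : (euler L φ).ShortExact :=
  { exact := ShortComplex.exact_of_f_is_kernel _ (kernelIsKernel φ)
    mono_f := (inferInstance : Mono (kernel.ι φ))
    epi_g := hφ }

/-- the tensor powers `Z^{⊗ j} ⊗ F`. -/
noncomputable def M (F : X.Modules) : ℕ → X.Modules
  | 0 => F
  | j + 1 => CohB1.tensorMod (kernel φ) (M F j)

theorem isFlat_of_isInvertible (L₀ : X.Modules) (hL : PicF.IsInvertible L₀) :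
    ModSite.IsFlat (O := X.sheaf) L₀ := by
  have h1 := Groth.Agent.Lib.Helper23.ResProp.isFinLocFree_of_isInvertible L₀ hL
  have h2 := Groth.Agent.Lib.Helper1.Sky.isFlat_of_isFinLocFree' L₀ h1
  exact (Groth.Agent.Lib.Helper1.StalkTensor.modSite_isFlat_iff L₀).2 h2

/-- the Euler sequence tensored with `G` on the right. -/
theorem euler_tensor_shortExact (hφ : Epi φ) (hL0 : PicF.IsInvertible (L 0)) (G : X.Modules) :
    ((euler L φ).map (tw G)).ShortExact :=
  shortExact_tensor X.sheaf (euler L φ) (euler_shortExact L φ hφ)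
    (isFlat_of_isInvertible (L 0) hL0) G

variable (hLL : ∀ a b, Nonempty (CohB1.tensorMod (L a) (L b) ≅ L (a + b)))

include hLL in
theorem nonempty_twIso (a s : ℤ) (A : X.Modules) :
    Nonempty (CohB1.tensorMod (L a) (CohB1.tensorMod A (L s)) ≅ CohB1.tensorMod A (L (s + a))) := by
  obtain ⟨e⟩ := hLL s a
  exact ⟨brdApp X.sheaf (L a) (CohB1.tensorMod A (L s)) ≪≫ tensorAssoc A (L s) (L a) ≪≫
    tensorModIso (Iso.refl A) e⟩

/-- the vanishing statement `P(j, q, s)`: `H^q(Z^{⊗ j} ⊗ F ⊗ L s) = 0`. -/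
def P (F : X.Modules) (j q : ℕ) (s : ℤ) : Prop :=
  Subsingleton (Coh.HH X (CohB1.tensorMod (M L φ F j) (L s)) q)

variable (hφ : Epi φ) (hLinv : ∀ d, PicF.IsInvertible (L d))

/-- the Euler sequence tensored with `G`. -/
noncomputable def eulerT (G : X.Modules) : ShortComplex X.Modules := (euler L φ).map (tw G)

theorem eulerT_X₁ (G : X.Modules) : (eulerT L φ G).X₁ = CohB1.tensorMod (kernel φ) G := rfl
theorem eulerT_X₂ (G : X.Modules) :
    (eulerT L φ G).X₂ = (tw G).obj (∐ fun _ : Fin r => L (-1)) := rfl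
theorem eulerT_X₃ (G : X.Modules) : (eulerT L φ G).X₃ = CohB1.tensorMod (L 0) G := rfl

theorem eulerT_shortExact (hφ : Epi φ) (hL0 : PicF.IsInvertible (L 0)) (G : X.Modules) :
    (eulerT L φ G).ShortExact := euler_tensor_shortExact L φ hφ hL0 G

theorem term1 (F : X.Modules) (j : ℕ) (s : ℤ) (q : ℕ) :
    P L φ F (j + 1) q s ↔ Subsingleton (Coh.HH X
      (CohB1.tensorMod (kernel φ) (CohB1.tensorMod (M L φ F j) (L s))) q) := by
  have e : CohB1.tensorMod (CohB1.tensorMod (kernel φ) (M L φ F j)) (L s) ≅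
      CohB1.tensorMod (kernel φ) (CohB1.tensorMod (M L φ F j) (L s)) :=
    tensorAssoc (kernel φ) (M L φ F j) (L s)
  exact ⟨fun h => subsingleton_HH_of_iso e.symm q h, fun h => subsingleton_HH_of_iso e q h⟩

include hLL in
theorem term2 (F : X.Modules) (j : ℕ) (s : ℤ) (q : ℕ) (h : P L φ F j q (s + -1)) :
    Subsingleton (Coh.HH X
      ((tw (CohB1.tensorMod (M L φ F j) (L s))).obj (∐ fun _ : Fin r => L (-1))) q) := by
  refine subsingleton_HH_map_sigma (fun _ : Fin r => L (-1))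
    (tw (CohB1.tensorMod (M L φ F j) (L s))) q (fun _ => ?_)
  obtain ⟨e⟩ := nonempty_twIso L hLL (-1) s (M L φ F j)
  exact subsingleton_HH_of_iso e q h

include hLL in
theorem term3 (F : X.Modules) (j : ℕ) (s : ℤ) (q : ℕ) :
    P L φ F j q s ↔ Subsingleton (Coh.HH X
      (CohB1.tensorMod (L 0) (CohB1.tensorMod (M L φ F j) (L s))) q) := by
  obtain ⟨e⟩ := nonempty_twIso L hLL 0 s (M L φ F j)
  have e' : CohB1.tensorMod (L 0) (CohB1.tensorMod (M L φ F j) (L s)) ≅
      CohB1.tensorMod (M L φ F j) (L s) :=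
    e ≪≫ tensorModIso (Iso.refl _) (eqToIso (by rw [add_zero]))
  exact ⟨fun h => subsingleton_HH_of_iso e' q h, fun h => subsingleton_HH_of_iso e'.symm q h⟩

include hLL in
/-- rule (a). -/
theorem ruleA (hφ : Epi φ) (hL0 : PicF.IsInvertible (L 0)) (F : X.Modules) (j q : ℕ) (s : ℤ)
    (h1 : P L φ F j q s) (h2 : P L φ F j (q + 1) (s + -1)) : P L φ F (j + 1) (q + 1) s := by
  have hS := eulerT_shortExact L φ hφ hL0 (CohB1.tensorMod (M L φ F j) (L s))
  have t3 : Subsingleton (Coh.HH X (eulerT L φ (CohB1.tensorMod (M L φ F j) (L s))).X₃ q) := by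
    rw [eulerT_X₃]
    exact (term3 L φ hLL F j s q).mp h1
  have t2 : Subsingleton (Coh.HH X (eulerT L φ (CohB1.tensorMod (M L φ F j) (L s))).X₂
      (q + 1)) := by
    rw [eulerT_X₂]
    exact term2 L φ hLL F j s (q + 1) h2
  have t1 := subsingleton_X₁_of_shortExact _ hS q t3 t2
  rw [eulerT_X₁] at t1
  exact (term1 L φ F j s (q + 1)).mpr t1

include hLL in
/-- rule (b). -/
theorem ruleB (hφ : Epi φ) (hL0 : PicF.IsInvertible (L 0)) (F : X.Modules) (j q : ℕ) (s : ℤ)
    (h1 : P L φ F j q (s + -1)) (h2 : P L φ F (j + 1) (q + 1) s) : P L φ F j q s := by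
  have hS := eulerT_shortExact L φ hφ hL0 (CohB1.tensorMod (M L φ F j) (L s))
  have t1 : Subsingleton (Coh.HH X (eulerT L φ (CohB1.tensorMod (M L φ F j) (L s))).X₁
      (q + 1)) := by
    rw [eulerT_X₁]
    exact (term1 L φ F j s (q + 1)).mp h2
  have t2 : Subsingleton (Coh.HH X (eulerT L φ (CohB1.tensorMod (M L φ F j) (L s))).X₂ q) := by
    rw [eulerT_X₂]
    exact term2 L φ hLL F j s q h1
  have t3 := subsingleton_of_shortExact _ hS q t2 t1
  rw [eulerT_X₃] at t3
  exact (term3 L φ hLL F j s q).mpr t3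

section Induction

variable (hLq : ∀ d, (L d).IsQuasicoherent)

include hLq in
theorem isQuasicoherent_kernel_euler : (kernel φ).IsQuasicoherent := by
  haveI : (∐ fun _ : Fin r => L (-1)).IsQuasicoherent :=
    isQuasicoherent_sigma _ (fun _ => hLq (-1))
  haveI : (L 0).IsQuasicoherent := hLq 0
  exact isQuasicoherent_kernel φ

include hLq in
theorem isQuasicoherent_M (F : X.Modules) (hF : F.IsQuasicoherent) :
    ∀ j, (M L φ F j).IsQuasicoherent
  | 0 => hF
  | j + 1 => by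
    haveI := isQuasicoherent_kernel_euler L φ hLq
    haveI := isQuasicoherent_M F hF j
    exact Groth.Agent.Lib.Helper23.TensorQCoh.isQuasicoherent_tensorMod (kernel φ) (M L φ F j)

variable (N : ℕ) (hvan : ∀ G : X.Modules, G.IsQuasicoherent → ∀ i, N < i →
  Subsingleton (Coh.HH X G i))

include hLq hvan in
/-- rule (c). -/
theorem ruleC (F : X.Modules) (hF : F.IsQuasicoherent) (j q : ℕ) (s : ℤ) (hq : N < q) :
    P L φ F j q s := by
  haveI := isQuasicoherent_M L φ hLq F hF j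
  haveI := hLq s
  exact hvan _ (Groth.Agent.Lib.Helper23.TensorQCoh.isQuasicoherent_tensorMod (M L φ F j) (L s))
    q hq

include hLL in
theorem step1 (hφ : Epi φ) (hL0 : PicF.IsInvertible (L 0)) (F : X.Modules) (m : ℤ)
    (hreg : ∀ q : ℕ, 1 ≤ q → P L φ F 0 q (m - q)) :
    ∀ j q : ℕ, j + 1 ≤ q → P L φ F j q (m + j - q) := by
  intro j
  induction j with
  | zero =>
    intro q hq
    have h := hreg q hq
    rw [show m + ((0 : ℕ) : ℤ) - (q : ℤ) = m - q by push_cast; ring]
    exact h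
  | succ j ih =>
    intro q hq
    obtain ⟨q', rfl⟩ : ∃ q', q = q' + 1 := ⟨q - 1, by omega⟩
    have h1 := ih q' (by omega)
    have h2 := ih (q' + 1) (by omega)
    rw [show m + (j : ℤ) - ((q' + 1 : ℕ) : ℤ) = m + (j : ℤ) - (q' : ℤ) + -1 by
      push_cast; ring] at h2
    have h3 := ruleA L φ hLL hφ hL0 F j q' (m + (j : ℤ) - (q' : ℤ)) h1 h2
    rw [show m + ((j + 1 : ℕ) : ℤ) - ((q' + 1 : ℕ) : ℤ) = m + (j : ℤ) - (q' : ℤ) by
      push_cast; ring]
    exact h3

include hLL hLq hvan in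
theorem step2 (hφ : Epi φ) (hL0 : PicF.IsInvertible (L 0)) (F : X.Modules)
    (hF : F.IsQuasicoherent) (m : ℤ)
    (hreg : ∀ q : ℕ, 1 ≤ q → P L φ F 0 q (m - q)) :
    ∀ k j q : ℕ, j + 1 ≤ q → N < q + k → P L φ F j q (m + j + 1 - q) := by
  intro k
  induction k with
  | zero =>
    intro j q _ hN
    exact ruleC L φ hLq N hvan F hF j q _ (by omega)
  | succ k ih =>
    intro j q hq hN
    have h1 := step1 L φ hLL hφ hL0 F m hreg j q hq
    have h2 := ih (j + 1) (q + 1) (by omega) (by omega)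
    rw [show m + ((j + 1 : ℕ) : ℤ) + 1 - ((q + 1 : ℕ) : ℤ) = m + (j : ℤ) + 1 - (q : ℤ) by
      push_cast; ring] at h2
    refine ruleB L φ hLL hφ hL0 F j q (m + (j : ℤ) + 1 - (q : ℤ)) ?_ h2
    rw [show m + (j : ℤ) + 1 - (q : ℤ) + -1 = m + (j : ℤ) - (q : ℤ) by ring]
    exact h1

include hLL hLq hvan in
/-- **Castelnuovo–Mumford**: `m`-regular implies `(m+1)`-regular. -/
theorem regular_succ (hφ : Epi φ) (hL0 : PicF.IsInvertible (L 0)) (F : X.Modules)
    (hF : F.IsQuasicoherent) (m : ℤ)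
    (hreg : ∀ q : ℕ, 1 ≤ q → Subsingleton (Coh.HH X (CohB1.tensorMod F (L (m - q))) q)) :
    ∀ q : ℕ, 1 ≤ q → Subsingleton (Coh.HH X (CohB1.tensorMod F (L (m + 1 - q))) q) := by
  intro q hq
  have h := step2 L φ hLL hLq N hvan hφ hL0 F hF m hreg (N + 1) 0 q (by omega) (by omega)
  rw [show m + ((0 : ℕ) : ℤ) + 1 - (q : ℤ) = m + 1 - q by push_cast; ring] at h
  exact h

end Induction

end Abstract

end Groth.Agent.Lib.Helper27CMReg
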