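import Mathlib

/-!
# Chase's theorem: a ring is coherent iff all products `R^A` are flat
-/

set_option autoImplicit false
universe u

namespace Groth.Agent.Lib.Helper27Chase

variable {R : Type u} [CommRing R]

/-- The surjection `R^l → (f₁, …, f_l)`. -/
noncomputable def genMap {l : ℕ} (f : Fin l → R) :
    (Fin l → R) →ₗ[R] Submodule.span R (Set.range f) :=
  (Fintype.linearCombination R f).codRestrict _ (fun v => by
    rw [← Fintype.range_linearCombination]
    exact LinearMap.mem_range_self _ v)

theorem genMap_apply {l : ℕ} (f : Fin l → R) (v : Fin l → R) :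
    ((genMap f v : Submodule.span R (Set.range f)) : R) = ∑ i, v i * f i := by
  simp [genMap, Fintype.linearCombination_apply]

theorem genMap_surjective {l : ℕ} (f : Fin l → R) : Function.Surjective (genMap f) := by
  rintro ⟨y, hy⟩
  rw [← Fintype.range_linearCombination] at hy
  obtain ⟨v, rfl⟩ := hy
  exact ⟨v, Subtype.ext rfl⟩

theorem mem_ker_genMap {l : ℕ} (f : Fin l → R) (v : Fin l → R) :
    v ∈ LinearMap.ker (genMap f) ↔ ∑ i, f i * v i = 0 := by
  rw [LinearMap.mem_ker, ← Subtype.coe_inj, genMap_apply]
  simp only [ZeroMemClass.coe_zero, mul_comm]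

theorem flat_pi_of_coherent (h : ∀ I : Ideal R, I.FG → Module.FinitePresentation R I)
    (A : Type u) : Module.Flat R (A → R) := by
  apply Module.Flat.of_forall_isTrivialRelation
  intro l f x hfx
  have hfp : Module.FinitePresentation R (Submodule.span R (Set.range f)) :=
    h (Ideal.span (Set.range f)) (Submodule.fg_span (Set.finite_range f))
  have hK : (LinearMap.ker (genMap f)).FG :=
    Module.FinitePresentation.fg_ker (genMap f) (genMap_surjective f)
  obtain ⟨k, b, hb⟩ := Submodule.fg_iff_exists_fin_generating_family.mp hK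
  have hmem : ∀ α : A, (fun i => x i α) ∈ Submodule.span R (Set.range b) := by
    intro α
    rw [hb, mem_ker_genMap]
    have := congrFun hfx α
    simpa using this
  choose c hc using fun α => (Submodule.mem_span_range_iff_exists_fun R).mp (hmem α)
  refine ⟨k, fun i j => b j i, fun j α => c α j, ?_, ?_⟩
  · intro i
    funext α
    have := congrFun (hc α) i
    simp only [Finset.sum_apply, Pi.smul_apply, smul_eq_mul] at this ⊢
    rw [← this]
    exact Finset.sum_congr rfl (fun j _ => mul_comm _ _)
  · intro j
    have hbj : b j ∈ LinearMap.ker (genMap f) := by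
      rw [← hb]
      exact Submodule.subset_span (Set.mem_range_self j)
    exact (mem_ker_genMap f (b j)).mp hbj

theorem coherent_of_flat_pi (h : ∀ A : Type u, Module.Flat R (A → R)) (I : Ideal R)
    (hI : I.FG) : Module.FinitePresentation R I := by
  obtain ⟨l, f, hf⟩ := Submodule.fg_iff_exists_fin_generating_family.mp hI
  subst hf
  refine Module.finitePresentation_of_surjective (genMap f) (genMap_surjective f) ?_
  have hflat := h (LinearMap.ker (genMap f))
  let x : Fin l → (LinearMap.ker (genMap f) → R) := fun i κ => κ.1 i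
  have hx : ∑ i, f i • x i = 0 := by
    funext κ
    simp only [Finset.sum_apply, Pi.smul_apply, smul_eq_mul, Pi.zero_apply, x]
    exact (mem_ker_genMap f κ.1).mp κ.2
  obtain ⟨k, a, y, hxy, hfa⟩ := Module.Flat.isTrivialRelation_of_sum_smul_eq_zero hx
  rw [Submodule.fg_iff_exists_fin_generating_family]
  refine ⟨k, fun j i => a i j, ?_⟩
  apply le_antisymm
  · rw [Submodule.span_le]
    rintro _ ⟨j, rfl⟩
    exact (mem_ker_genMap f _).mpr (hfa j)
  · intro κ hκ
    rw [Submodule.mem_span_range_iff_exists_fun]
    refine ⟨fun j => y j ⟨κ, hκ⟩, ?_⟩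
    funext i
    have := congrFun (hxy i) ⟨κ, hκ⟩
    simp only [Finset.sum_apply, Pi.smul_apply, smul_eq_mul, x] at this ⊢
    rw [this]
    exact Finset.sum_congr rfl (fun j _ => mul_comm _ _)

theorem main : (∀ I : Ideal R, I.FG → Module.FinitePresentation R I) ↔
    ∀ (A : Type u), Module.Flat R (A → R) :=
  ⟨flat_pi_of_coherent, coherent_of_flat_pi⟩

end Groth.Agent.Lib.Helper27Chase
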