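import Mathlib

/-!
# Connected components of a finite open-closed cover of a connected space (helper27)

If `f : X → P` is continuous, open, closed, with finite fibres and `P` is preconnected, then every
connected component of `X` is clopen and maps onto `P`.
-/

set_option autoImplicit false
universe u

namespace Groth.Agent.Lib.Helper27ClopenComp

variable {X P : Type*} [TopologicalSpace X] [TopologicalSpace P] [PreconnectedSpace P]
  {f : X → P}

theorem image_eq_univ (hopen : IsOpenMap f) (hclosed : IsClosedMap f)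
    {Z : Set X} (hZ : IsClopen Z) (hne : Z.Nonempty) : f '' Z = Set.univ :=
  IsClopen.eq_univ ⟨hclosed _ hZ.1, hopen _ hZ.2⟩ (hne.image f)

theorem exists_clopen_preconnected (hopen : IsOpenMap f) (hclosed : IsClosedMap f)
    (x : X) (hfin : (f ⁻¹' {f x}).Finite) :
    ∃ Z : Set X, IsClopen Z ∧ x ∈ Z ∧ IsPreconnected Z := by
  suffices h : ∀ k : ℕ, ∀ Z : Set X, IsClopen Z → x ∈ Z → (Z ∩ f ⁻¹' {f x}).ncard = k →
      ∃ Z' : Set X, IsClopen Z' ∧ x ∈ Z' ∧ IsPreconnected Z' from
    h _ Set.univ isClopen_univ (Set.mem_univ x) rfl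
  intro k
  induction k using Nat.strong_induction_on with
  | _ k ih =>
    intro Z hZ hxZ hk
    by_cases hpre : IsPreconnected Z
    · exact ⟨Z, hZ, hxZ, hpre⟩
    · unfold IsPreconnected at hpre
      push Not at hpre
      obtain ⟨u, v, hu, hv, hcov, hnu, hnv, hdisj⟩ := hpre
      have hdisj' : ∀ z ∈ Z, z ∈ u → z ∈ v → False := by
        intro z hz hzu hzv
        have : z ∈ Z ∩ (u ∩ v) := ⟨hz, hzu, hzv⟩
        rw [hdisj] at this
        exact this
      -- the two pieces
      have h1eq : Z ∩ u = Z ∩ vᶜ := by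
        ext z
        constructor
        · rintro ⟨hz, hzu⟩
          exact ⟨hz, fun hzv => hdisj' z hz hzu hzv⟩
        · rintro ⟨hz, hzv⟩
          rcases hcov hz with h | h
          · exact ⟨hz, h⟩
          · exact absurd h hzv
      have h2eq : Z ∩ v = Z ∩ uᶜ := by
        ext z
        constructor
        · rintro ⟨hz, hzv⟩
          exact ⟨hz, fun hzu => hdisj' z hz hzu hzv⟩
        · rintro ⟨hz, hzu⟩
          rcases hcov hz with h | h
          · exact absurd h hzu
          · exact ⟨hz, h⟩
      have hc1 : IsClopen (Z ∩ u) :=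
        ⟨by rw [h1eq]; exact hZ.1.inter hv.isClosed_compl, hZ.2.inter hu⟩
      have hc2 : IsClopen (Z ∩ v) :=
        ⟨by rw [h2eq]; exact hZ.1.inter hu.isClosed_compl, hZ.2.inter hv⟩
      -- general step: a clopen piece `Za ∋ x` with a disjoint nonempty clopen piece `Zb`
      have step : ∀ Za Zb : Set X, IsClopen Za → IsClopen Zb → Za ⊆ Z → Zb ⊆ Z →
          Disjoint Za Zb → x ∈ Za → Zb.Nonempty →
          ∃ Z' : Set X, IsClopen Z' ∧ x ∈ Z' ∧ IsPreconnected Z' := by
        intro Za Zb hZa hZb hsa hsb hd hxa hnb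
        have himg := image_eq_univ hopen hclosed hZb hnb
        have : f x ∈ f '' Zb := by rw [himg]; trivial
        obtain ⟨y, hyb, hy⟩ := this
        have hlt : (Za ∩ f ⁻¹' {f x}).ncard < (Z ∩ f ⁻¹' {f x}).ncard := by
          apply Set.ncard_lt_ncard
          · refine ⟨Set.inter_subset_inter_left _ hsa, ?_⟩
            intro hsub
            have hyZ : y ∈ Z ∩ f ⁻¹' {f x} := ⟨hsb hyb, hy⟩
            have := hsub hyZ
            exact (Set.disjoint_left.mp hd) this.1 hyb
          · exact hfin.subset Set.inter_subset_right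
        exact ih _ (hk ▸ hlt) Za hZa hxa rfl
      rcases hcov hxZ with hxu | hxv
      · refine step (Z ∩ u) (Z ∩ v) hc1 hc2 Set.inter_subset_left Set.inter_subset_left ?_
          ⟨hxZ, hxu⟩ hnv
        rw [Set.disjoint_left]
        rintro z ⟨hz, hzu⟩ ⟨-, hzv⟩
        exact hdisj' z hz hzu hzv
      · refine step (Z ∩ v) (Z ∩ u) hc2 hc1 Set.inter_subset_left Set.inter_subset_left ?_
          ⟨hxZ, hxv⟩ hnu
        rw [Set.disjoint_left]
        rintro z ⟨hz, hzv⟩ ⟨-, hzu⟩
        exact hdisj' z hz hzu hzv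

theorem isClopen_connectedComponent (hopen : IsOpenMap f) (hclosed : IsClosedMap f)
    (x : X) (hfin : (f ⁻¹' {f x}).Finite) : IsClopen (connectedComponent x) := by
  obtain ⟨Z, hZ, hxZ, hpre⟩ := exists_clopen_preconnected hopen hclosed x hfin
  have : connectedComponent x = Z :=
    le_antisymm (hZ.connectedComponent_subset hxZ) (hpre.subset_connectedComponent hxZ)
  rw [this]
  exact hZ

theorem image_connectedComponent (hopen : IsOpenMap f) (hclosed : IsClosedMap f)
    (x : X) (hfin : (f ⁻¹' {f x}).Finite) : f '' connectedComponent x = Set.univ :=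
  image_eq_univ hopen hclosed (isClopen_connectedComponent hopen hclosed x hfin)
    ⟨x, mem_connectedComponent⟩

end Groth.Agent.Lib.Helper27ClopenComp
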