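import Groth.Agent.Lib.Helper13PullbackUnit
import Groth.Agent.Lib.Helper23SecTw5

/-!
# Generators of modules: locality, and pull-back of a generator (helper27)

* `isGen_of_cover` : helper23's `IsGen` is local on the open
* `isGen_unitSec_affine`, `isGen_pullback` : the pull-back of a generator of a quasi-coherent module
  is a generator of the pull-back.
-/

set_option autoImplicit false
universe u
open CategoryTheory Limits AlgebraicGeometry TopologicalSpace Opposite

namespace Groth.Agent.Lib.Helper27PullGen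
open Groth.Agent.Lib.Helper23.SecTw Groth.Agent.Lib.Helper23.GenLocus
  Groth.Agent.Lib.Helper23.Extend Groth.Agent.Lib.Helper6

variable {X : Scheme.{u}}

/-- `IsGen` is local on the open. -/
theorem isGen_of_cover (N : X.Modules) (Ω : X.Opens) (a : Γ(N, Ω))
    (h : ∀ x ∈ Ω, ∃ (V : X.Opens) (hV : V ≤ Ω), x ∈ V ∧ IsGen N V (res N hV a)) : IsGen N Ω a := by
  choose V hV hxV hgen using h
  intro W' hW'
  have hcov : W' ≤ ⨆ x : W', W' ⊓ V x.1 (hW' x.2) := by
    intro y hy
    exact Opens.mem_iSup.2 ⟨⟨y, hy⟩, hy, hxV y (hW' hy)⟩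
  -- uniqueness of coefficients on small opens
  have hinj : ∀ (x : W') (A : X.Opens) (hA : A ≤ W' ⊓ V x.1 (hW' x.2)) (c c' : Γ(X, A)),
      c • res N (hA.trans (inf_le_left.trans hW')) a = c' • res N (hA.trans (inf_le_left.trans hW')) a →
        c = c' := by
    intro x A hA c c' hcc
    apply ((hgen x.1 (hW' x.2)) A (hA.trans inf_le_right)).1
    change c • res N _ (res N _ a) = c' • res N _ (res N _ a)
    rw [res_res]
    exact hcc
  constructor
  · intro r r' hrr
    replace hrr : r • res N hW' a = r' • res N hW' a := hrr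
    have h1 : toS W' r = toS W' r' := by
      refine (modSheaf (Coh.structureModule X)).eq_of_locally_eq'
        (fun x : W' => W' ⊓ V x.1 (hW' x.2)) W' (fun x => homOfLE inf_le_left) hcov _ _ (fun x => ?_)
      change toS _ (resf inf_le_left r) = toS _ (resf inf_le_left r')
      congr 1
      apply hinj x _ le_rfl
      have := congrArg (res N (inf_le_left : W' ⊓ V x.1 (hW' x.2) ≤ W')) hrr
      rw [res_smul, res_smul, res_res] at this
      exact this
    exact h1
  · intro m
    let c : ∀ x : W', Γ(X, W' ⊓ V x.1 (hW' x.2)) := fun x =>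
      coef (hgen x.1 (hW' x.2)) (inf_le_right : W' ⊓ V x.1 (hW' x.2) ≤ V x.1 (hW' x.2))
        (res N inf_le_left m)
    have hc : ∀ x : W', c x • res N (inf_le_left.trans hW' : W' ⊓ V x.1 (hW' x.2) ≤ Ω) a =
        res N inf_le_left m := by
      intro x
      have := coef_spec (hgen x.1 (hW' x.2)) (inf_le_right : W' ⊓ V x.1 (hW' x.2) ≤ V x.1 (hW' x.2))
        (res N inf_le_left m)
      rw [res_res] at this
      exact this
    have hcompat : TopCat.Presheaf.IsCompatible (modSheaf (Coh.structureModule X)).1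
        (fun x : W' => W' ⊓ V x.1 (hW' x.2)) (fun x => toS _ (c x)) := by
      intro x x'
      change toS _ (resf inf_le_left (c x)) = toS _ (resf inf_le_right (c x'))
      congr 1
      apply hinj x _ inf_le_left
      have e1 := congrArg (res N (inf_le_left :
        (W' ⊓ V x.1 (hW' x.2)) ⊓ (W' ⊓ V x'.1 (hW' x'.2)) ≤ W' ⊓ V x.1 (hW' x.2))) (hc x)
      have e2 := congrArg (res N (inf_le_right :
        (W' ⊓ V x.1 (hW' x.2)) ⊓ (W' ⊓ V x'.1 (hW' x'.2)) ≤ W' ⊓ V x'.1 (hW' x'.2))) (hc x')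
      rw [res_smul, res_res, res_res] at e1 e2
      exact e1.trans e2.symm
    obtain ⟨c₀, hc₀, -⟩ := (modSheaf (Coh.structureModule X)).existsUnique_gluing'
      (fun x : W' => W' ⊓ V x.1 (hW' x.2)) W' (fun x => homOfLE inf_le_left) hcov _ hcompat
    refine ⟨ofS W' c₀, ?_⟩
    refine (modSheaf N).eq_of_locally_eq' (fun x : W' => W' ⊓ V x.1 (hW' x.2)) W'
      (fun x => homOfLE inf_le_left) hcov _ _ (fun x => ?_)
    change res N inf_le_left (ofS W' c₀ • res N hW' a) = res N inf_le_left m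
    rw [res_smul, res_res, ← hc x]
    congr 1
    have := hc₀ x
    exact this

/-- `IsGen` can be checked on arbitrarily small opens. -/
theorem isGen_of_locally_bijective (N : X.Modules) (Ω : X.Opens) (a : Γ(N, Ω))
    (h : ∀ (W' : X.Opens) (hW' : W' ≤ Ω), ∀ x ∈ W', ∃ (U : X.Opens) (hU : U ≤ W'), x ∈ U ∧
      Function.Bijective (fun r : Γ(X, U) => r • res N (hU.trans hW') a)) : IsGen N Ω a := by
  choose U hU hxU hbij using h
  have hcov : ∀ (W' : X.Opens) (hW' : W' ≤ Ω), W' ≤ ⨆ x : W', U W' hW' x.1 x.2 := by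
    intro W' hW' y hy
    exact Opens.mem_iSup.2 ⟨⟨y, hy⟩, hxU W' hW' y hy⟩
  have hinj : ∀ (A : X.Opens) (hA : A ≤ Ω) (c c' : Γ(X, A)),
      c • res N hA a = c' • res N hA a → c = c' := by
    intro A hA c c' hcc
    have h1 : toS A c = toS A c' := by
      refine (modSheaf (Coh.structureModule X)).eq_of_locally_eq'
        (fun x : A => U A hA x.1 x.2) A (fun x => homOfLE (hU A hA x.1 x.2)) (hcov A hA) _ _
        (fun x => ?_)
      change toS _ (resf (hU A hA x.1 x.2) c) = toS _ (resf (hU A hA x.1 x.2) c')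
      congr 1
      apply (hbij A hA x.1 x.2).1
      have := congrArg (res N (hU A hA x.1 x.2)) hcc
      rw [res_smul, res_smul, res_res] at this
      exact this
    exact h1
  intro W' hW'
  refine ⟨fun r r' hrr => hinj W' hW' r r' hrr, fun m => ?_⟩
  have hex : ∀ x : W', ∃ c : Γ(X, U W' hW' x.1 x.2),
      c • res N ((hU W' hW' x.1 x.2).trans hW') a = res N (hU W' hW' x.1 x.2) m :=
    fun x => (hbij W' hW' x.1 x.2).2 _
  choose c hc using hex
  have hcompat : TopCat.Presheaf.IsCompatible (modSheaf (Coh.structureModule X)).1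
      (fun x : W' => U W' hW' x.1 x.2) (fun x => toS _ (c x)) := by
    intro x x'
    change toS _ (resf inf_le_left (c x)) = toS _ (resf inf_le_right (c x'))
    congr 1
    apply hinj _ (inf_le_left.trans ((hU W' hW' x.1 x.2).trans hW'))
    have e1 := congrArg (res N (inf_le_left :
      U W' hW' x.1 x.2 ⊓ U W' hW' x'.1 x'.2 ≤ U W' hW' x.1 x.2)) (hc x)
    have e2 := congrArg (res N (inf_le_right :
      U W' hW' x.1 x.2 ⊓ U W' hW' x'.1 x'.2 ≤ U W' hW' x'.1 x'.2)) (hc x')
    rw [res_smul, res_res, res_res] at e1 e2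
    exact e1.trans e2.symm
  obtain ⟨c₀, hc₀, -⟩ := (modSheaf (Coh.structureModule X)).existsUnique_gluing'
    (fun x : W' => U W' hW' x.1 x.2) W' (fun x => homOfLE (hU W' hW' x.1 x.2)) (hcov W' hW') _
    hcompat
  refine ⟨ofS W' c₀, ?_⟩
  refine (modSheaf N).eq_of_locally_eq' (fun x : W' => U W' hW' x.1 x.2) W'
    (fun x => homOfLE (hU W' hW' x.1 x.2)) (hcov W' hW') _ _ (fun x => ?_)
  change res N (hU W' hW' x.1 x.2) (ofS W' c₀ • res N hW' a) = res N (hU W' hW' x.1 x.2) m
  rw [res_smul, res_res, ← hc x]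
  congr 1
  have := hc₀ x
  exact this

section pull
open Groth.Agent.Helper13PullbackUnit

variable {Y : Scheme.{u}} (f : Y ⟶ X) (F : X.Modules) [F.IsQuasicoherent]

/-- over affine opens, the pull-back of a free generator is a free generator. -/
theorem bijective_smul_unitSec {V : X.Opens} (hV : IsAffineOpen V) {U : Y.Opens}
    (hU : IsAffineOpen U) (hle : U ≤ f ⁻¹ᵁ V) (e : Γ(F, V))
    (he : Function.Bijective (fun r : Γ(X, V) => r • e)) :
    Function.Bijective (fun r : Γ(Y, U) => r • unitSec f F hle e) := by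
  let κ : Γ(X, V) ≃ₗ[Γ(X, V)] Γ(F, V) :=
    LinearEquiv.ofBijective (LinearMap.toSpanSingleton Γ(X, V) Γ(F, V) e) he
  have hκ : ∀ x : Γ(F, V), κ.symm x • e = x := fun x => κ.apply_symm_apply x
  have hκe : κ.symm e = 1 := by
    apply he.1
    change κ.symm e • e = (1 : Γ(X, V)) • e
    rw [hκ, one_smul]
  let l₀ : Γ(F, V) →+ Γ(Y, U) :=
    ((f.appLE V U hle).hom : Γ(X, V) →+* Γ(Y, U)).toAddMonoidHom.comp κ.symm.toLinearMap.toAddMonoidHom
  have hl₀ : ∀ x, l₀ x = (f.appLE V U hle).hom (κ.symm x) := fun _ => rfl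
  have hl : ∀ (r : Γ(X, V)) (x : Γ(F, V)), l₀ (r • x) = (f.appLE V U hle r : Γ(Y, U)) • l₀ x := by
    intro r x
    rw [hl₀, hl₀, map_smul, smul_eq_mul, map_mul]
    rfl
  obtain ⟨l', hl', -⟩ := existsUnique_lift f F hV hU hle Γ(Y, U) l₀ hl
  have hl'e : l' (unitSec f F hle e) = 1 := by
    rw [hl', hl₀, hκe, map_one]
  constructor
  · intro r r' hrr
    have := congrArg l' hrr
    simp only [map_smul, hl'e, smul_eq_mul, mul_one] at this
    exact this
  · intro n
    refine ⟨l' n, ?_⟩
    -- both `id` and `n ↦ l' n • unitSec e` extend `unitSec`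
    obtain ⟨ψ₀, -, huniq⟩ := existsUnique_lift f F hV hU hle
      Γ((Scheme.Modules.pullback f).obj F, U) (unitSec f F hle) (unitSec_smul f F hle)
    let ψ : Γ((Scheme.Modules.pullback f).obj F, U) →ₗ[Γ(Y, U)]
        Γ((Scheme.Modules.pullback f).obj F, U) :=
      (LinearMap.toSpanSingleton Γ(Y, U) _ (unitSec f F hle e)).comp l'
    have hψ : ∀ x, ψ (unitSec f F hle x) = unitSec f F hle x := by
      intro x
      change l' (unitSec f F hle x) • unitSec f F hle e = _
      rw [hl', hl₀, ← unitSec_smul, hκ]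
    have h1 := huniq ψ hψ
    have h2 := huniq LinearMap.id (fun x => rfl)
    have h3 : ψ n = n := by rw [h1, ← h2]; rfl
    exact h3

omit [F.IsQuasicoherent] in
/-- `unitSec` is compatible with restriction on both sides. -/
theorem unitSec_res {V V₁ : X.Opens} (h : V₁ ≤ V) {U : Y.Opens} (hle : U ≤ f ⁻¹ᵁ V₁) (e : Γ(F, V)) :
    unitSec f F hle (res F h e) =
      res ((Scheme.Modules.pullback f).obj F) (hle.trans (f.preimage_mono h))
        (unitSec f F (le_refl (f ⁻¹ᵁ V)) e) := by
  rw [unitSec_apply, unitSec_apply]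
  have h1 : ((Scheme.Modules.pullbackPushforwardAdjunction f).unit.app F).app V₁ (res F h e) =
      res ((Scheme.Modules.pushforward f).obj ((Scheme.Modules.pullback f).obj F)) h
        (((Scheme.Modules.pullbackPushforwardAdjunction f).unit.app F).app V e) :=
    app_map ((Scheme.Modules.pullbackPushforwardAdjunction f).unit.app F) (homOfLE h) e
  rw [h1]
  have key : ∀ y : Γ((Scheme.Modules.pullback f).obj F, f ⁻¹ᵁ V),
      res ((Scheme.Modules.pullback f).obj F) hle
        (res ((Scheme.Modules.pullback f).obj F) (f.preimage_mono h) y) =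
      res ((Scheme.Modules.pullback f).obj F) (hle.trans (f.preimage_mono h))
        (res ((Scheme.Modules.pullback f).obj F) le_rfl y) := by
    intro y
    rw [res_res, res_res]
  exact key _

/-- **the pull-back of a generator is a generator.** -/
theorem isGen_pullback (V : X.Opens) (e : Γ(F, V)) (he : IsGen F V e) :
    IsGen ((Scheme.Modules.pullback f).obj F) (f ⁻¹ᵁ V) (unitSec f F (le_refl (f ⁻¹ᵁ V)) e) := by
  apply isGen_of_locally_bijective
  intro W' hW' x hx
  have hfx : f x ∈ V := hW' hx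
  obtain ⟨V₁, hV₁, hxV₁, hV₁V'⟩ := exists_isAffineOpen_mem_and_subset (x := f x) (U := V) hfx
  have hV₁V : V₁ ≤ V := hV₁V'
  have hx' : x ∈ W' ⊓ f ⁻¹ᵁ V₁ := ⟨hx, hxV₁⟩
  obtain ⟨U₁, hU₁, hxU₁, hU₁W'⟩ := exists_isAffineOpen_mem_and_subset (x := x)
    (U := W' ⊓ f ⁻¹ᵁ V₁) hx'
  have hU₁W : U₁ ≤ W' ⊓ f ⁻¹ᵁ V₁ := hU₁W'
  refine ⟨U₁, hU₁W.trans inf_le_left, hxU₁, ?_⟩
  have hb := bijective_smul_unitSec f F hV₁ hU₁ (hU₁W.trans inf_le_right) (res F hV₁V e)
    (he V₁ hV₁V)
  rw [unitSec_res] at hb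
  exact hb

end pull

end Groth.Agent.Lib.Helper27PullGen
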