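import Groth.Agent.Lib.Helper13ProjQuotIdeal
import Groth.Agent.Lib.Helper27PullGen
import Groth.Agent.Lib.Helper27TwistAmple
import Groth.Agent.Lib.Helper27PnSections

/-!
# Closed subschemes of `P^n_R` via the graded ideal of forms vanishing on them (helper27)
-/

set_option autoImplicit false
universe u

open CategoryTheory CategoryTheory.Limits AlgebraicGeometry TopologicalSpace Opposite
  HomogeneousLocalization

namespace Groth.Agent.Lib.Helper27ClosedProj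

open Groth.Agent.Lib.Helper27GrTildeSect Groth.Agent.Helper13Dehom
  Groth.Agent.Helper13ProjQuotIdeal

section General

variable {R A : Type u} [CommRing R] [CommRing A] [Algebra R A] (𝒜 : ℕ → Submodule R A)
  [GradedAlgebra 𝒜]

theorem basicOpen_le_basicOpen_pow (f : A) (d : ℕ) :
    Proj.basicOpen 𝒜 f ≤ Proj.basicOpen 𝒜 (f ^ d) := by
  intro y hy
  have hy' := (ProjectiveSpectrum.mem_basicOpen 𝒜 f y).mp hy
  exact (ProjectiveSpectrum.mem_basicOpen 𝒜 (f ^ d) y).mpr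
    (fun h => hy' (y.isPrime.mem_of_pow_mem d h))

/-- on `D₊(f)`, `F / 1 = (F / f^d) • (f^d / 1)`. -/
theorem gsec_eq_dehom_smul {f : A} (hf : f ∈ 𝒜 1) (d : ℕ) {F : A} (hF : F ∈ 𝒜 d) :
    gsec 𝒜 d (Proj.basicOpen 𝒜 f) hF =
      dehom hf F • gsec 𝒜 d (Proj.basicOpen 𝒜 f) (pow_mem_deg hf d) := by
  apply sec_ext
  intro y hy
  change (secVal 𝒜 𝒜 (d : ℤ) _ (gsec 𝒜 d (Proj.basicOpen 𝒜 f) hF) y hy : Twist.Loc 𝒜 y) =
    (secVal 𝒜 𝒜 (d : ℤ) _ (dehom hf F • gsec 𝒜 d (Proj.basicOpen 𝒜 f) (pow_mem_deg hf d)) y hy :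
      Twist.Loc 𝒜 y)
  rw [secVal_smul', funVal_dehom hf hF]
  change Localization.mk F (1 : y.asHomogeneousIdeal.toIdeal.primeCompl) =
    Localization.mk F _ * Localization.mk (f ^ d) (1 : y.asHomogeneousIdeal.toIdeal.primeCompl)
  rw [Localization.mk_mul, Localization.mk_eq_mk_iff, Localization.r_iff_exists]
  refine ⟨1, ?_⟩
  simp only [OneMemClass.coe_one, one_mul, mul_one]
  ring


section Pull

open Groth.Agent.Lib.Helper23.SecTw Groth.Agent.Lib.Helper23.GenLocus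
  Groth.Agent.Lib.Helper23.Extend Groth.Agent.Lib.Helper6 Groth.Agent.Helper13PullbackUnit
  Groth.Agent.Lib.Helper27PullGen

variable {Z : Scheme.{u}} (i : Z ⟶ Proj 𝒜)

/-- `pullSec` is `unitSec` over the whole space. -/
theorem pullSec_eq_unitSec (M : (Proj 𝒜).Modules) (σ : Γ(M, ⊤)) :
    ProjUP.pullSec i M σ =
      (show Γ((Scheme.Modules.pullback i).obj M, ⊤) from
        unitSec i M (le_refl (i ⁻¹ᵁ ⊤)) σ) := by
  change _ = unitSec i M (le_refl (i ⁻¹ᵁ ⊤)) σ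
  rw [unitSec_apply]
  exact (res_self ((Scheme.Modules.pullback i).obj M) _).symm

/-- the restriction of the pulled-back section `i^*(F/1)` to `i⁻¹ D₊(f)`. -/
theorem res_unitSec_gsec {f : A} (hf : f ∈ 𝒜 1) (d : ℕ) {F : A} (hF : F ∈ 𝒜 d) :
    res ((Scheme.Modules.pullback i).obj (GrTilde.tilde 𝒜 𝒜 (d : ℤ)))
        (i.preimage_mono (le_top : Proj.basicOpen 𝒜 f ≤ ⊤))
        (unitSec i (GrTilde.tilde 𝒜 𝒜 (d : ℤ)) (le_refl (i ⁻¹ᵁ ⊤)) (gsec 𝒜 d ⊤ hF)) =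
      (i.app (Proj.basicOpen 𝒜 f)).hom (dehom hf F) •
        unitSec i (GrTilde.tilde 𝒜 𝒜 (d : ℤ)) (le_refl (i ⁻¹ᵁ Proj.basicOpen 𝒜 f))
          (gsec 𝒜 d (Proj.basicOpen 𝒜 f) (pow_mem_deg hf d)) := by
  have h1 := unitSec_res i (GrTilde.tilde 𝒜 𝒜 (d : ℤ)) (le_top : Proj.basicOpen 𝒜 f ≤ ⊤)
    (le_refl (i ⁻¹ᵁ Proj.basicOpen 𝒜 f)) (gsec 𝒜 d ⊤ hF)
  rw [res_gsec, gsec_eq_dehom_smul 𝒜 hf d hF, unitSec_smul, Scheme.Hom.appLE_eq_app] at h1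
  exact h1.symm

/-- the pulled-back generator of `O(d)` over `i⁻¹ D₊(f)`. -/
theorem isGen_unitSec_pow {f : A} (hf : f ∈ 𝒜 1) (d : ℕ) :
    IsGen ((Scheme.Modules.pullback i).obj (GrTilde.tilde 𝒜 𝒜 (d : ℤ)))
      (i ⁻¹ᵁ Proj.basicOpen 𝒜 f)
      (unitSec i (GrTilde.tilde 𝒜 𝒜 (d : ℤ)) (le_refl (i ⁻¹ᵁ Proj.basicOpen 𝒜 f))
        (gsec 𝒜 d (Proj.basicOpen 𝒜 f) (pow_mem_deg hf d))) := by
  haveI : (GrTilde.tilde 𝒜 𝒜 (d : ℤ)).IsQuasicoherent := isQuasicoherent_tilde 𝒜 𝒜 _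
  apply isGen_pullback
  exact (isGen_gsec 𝒜 d (pow_mem_deg hf d)).mono (basicOpen_le_basicOpen_pow 𝒜 f d)

/-- **the pulled-back form `i^*(F/1)` vanishes iff all `i^♯(F / f_j^d)` vanish.** -/
theorem pullSec_gsec_eq_zero_iff {ι : Type*} (f : ι → A) (hf : ∀ j, f j ∈ 𝒜 1)
    (hcov : ⨆ j, Proj.basicOpen 𝒜 (f j) = ⊤) (d : ℕ) {F : A} (hF : F ∈ 𝒜 d) :
    ProjUP.pullSec i (GrTilde.tilde 𝒜 𝒜 (d : ℤ)) (gsec 𝒜 d ⊤ hF) = 0 ↔
      ∀ j, (i.app (Proj.basicOpen 𝒜 (f j))).hom (dehom (hf j) F) = 0 := by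
  rw [pullSec_eq_unitSec]
  change unitSec i (GrTilde.tilde 𝒜 𝒜 (d : ℤ)) (le_refl (i ⁻¹ᵁ ⊤)) (gsec 𝒜 d ⊤ hF) = 0 ↔ _
  constructor
  · intro h j
    have h1 := res_unitSec_gsec 𝒜 i (hf j) d hF
    rw [h, res_zero] at h1
    have hinj := ((isGen_unitSec_pow 𝒜 i (hf j) d) (i ⁻¹ᵁ Proj.basicOpen 𝒜 (f j)) le_rfl).1
    apply hinj
    change _ • res _ _ _ = (0 : Γ(Z, i ⁻¹ᵁ Proj.basicOpen 𝒜 (f j))) • res _ _ _
    rw [res_self, zero_smul]
    exact h1.symm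
  · intro h
    have hcovV : i ⁻¹ᵁ ⊤ ≤ ⨆ j, i ⁻¹ᵁ Proj.basicOpen 𝒜 (f j) := by
      intro z _
      have hz : i.base z ∈ (⨆ j, Proj.basicOpen 𝒜 (f j) : (Proj 𝒜).Opens) := by
        rw [hcov]; trivial
      obtain ⟨j, hj⟩ := Opens.mem_iSup.mp hz
      exact Opens.mem_iSup.mpr ⟨j, hj⟩
    refine (modSheaf ((Scheme.Modules.pullback i).obj (GrTilde.tilde 𝒜 𝒜 (d : ℤ)))).eq_of_locally_eq'
      (fun j => i ⁻¹ᵁ Proj.basicOpen 𝒜 (f j)) (i ⁻¹ᵁ ⊤)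
      (fun j => homOfLE (i.preimage_mono le_top)) hcovV _ _ (fun j => ?_)
    have h1 := res_unitSec_gsec 𝒜 i (hf j) d hF
    rw [h j, zero_smul] at h1
    refine h1.trans ?_
    exact (res_zero _ _).symm

end Pull

end General

section Main

open Groth.Agent.Lib.Helper27ProjGamma Groth.Agent.Lib.Helper27PnSections MvPolynomial

variable {R : Type u} [CommRing R] (n : ℕ)

local notation "𝒫" => CohB1.polyGrading n R

theorem exists_iso_proj {Z : Scheme.{u}} (i : Z ⟶ Proj (CohB1.polyGrading n R))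
    [IsClosedImmersion i]
    {B : Type u} [CommRing B] [Algebra R B] (ℬ : ℕ → Submodule R B) [GradedAlgebra ℬ]
    (φ : CohB1.polyGrading n R →+*ᵍ ℬ) (hφs : Function.Surjective φ)
    (hker : ∀ (d : ℕ) (F : MvPolynomial (Fin (n + 1)) R) (hF : F ∈ CohB1.polyGrading n R d),
      φ F = 0 ↔ ProjUP.pullSec i (GrTilde.tilde 𝒫 𝒫 (d : ℤ)) (gsec 𝒫 d ⊤ hF) = 0)
    (hφ : HomogeneousIdeal.irrelevant ℬ ≤
      (HomogeneousIdeal.irrelevant (CohB1.polyGrading n R)).map φ) :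
    ∃ e : Z ≅ Proj ℬ, e.hom ≫ Proj.map φ hφ = i := by
  let f : ULift.{u} (Fin (n + 1)) → MvPolynomial (Fin (n + 1)) R := fun j => X j.down
  have hf : ∀ j, f j ∈ CohB1.polyGrading n R 1 := fun j => hX n R j.down
  have hcov : ⨆ j, Proj.basicOpen 𝒫 (f j) = ⊤ := by
    rw [eq_top_iff]
    intro y _
    obtain ⟨j, hj⟩ := exists_X_not_mem n R y
    exact Opens.mem_iSup.mpr ⟨⟨j⟩, (ProjectiveSpectrum.mem_basicOpen 𝒫 (X j) y).mpr hj⟩
  haveI : IsClosedImmersion (Proj.map φ hφ) :=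
    Groth.Agent.Lib.Helper27ProjClosed.isClosedImmersion_map φ hφs hφ
  have hkey : ∀ (d : ℕ) (F : MvPolynomial (Fin (n + 1)) R) (hF : F ∈ CohB1.polyGrading n R d),
      φ F = 0 ↔ ∀ j, (i.app (Proj.basicOpen 𝒫 (f j))).hom (dehom (hf j) F) = 0 :=
    fun d F hF => (hker d F hF).trans (pullSec_gsec_eq_zero_iff 𝒫 i f hf hcov d hF)
  have hker' : (Proj.map φ hφ).ker = i.ker := by
    refine Scheme.IdealSheafData.ext_of_iSup_eq_top (Uaff hf) hcov (fun j => ?_)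
    rw [Scheme.Hom.ker_apply]
    ext x
    obtain ⟨k, a, ha, rfl⟩ := exists_dehom_eq hf j x
    refine Iff.trans (RingHom.mem_ker
      (f := ((Proj.map φ hφ).app (Proj.basicOpen 𝒫 (f j))).hom)) ?_
    refine (map_app_dehom_eq_zero_iff φ hφ (hf j) ha).trans ?_
    refine Iff.trans ?_ (dehom_mem_iff hf i.ker j ha).symm
    refine exists_congr (fun e => ?_)
    have hmem : f j ^ e * a ∈ CohB1.polyGrading n R (e + k) :=
      SetLike.mul_mem_graded (pow_mem_deg (hf j) e) ha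
    refine (hkey _ _ hmem).trans ?_
    refine Iff.trans ?_ (mem_J_iff hf i.ker hmem).symm
    refine forall_congr' (fun j' => ?_)
    exact ((SetLike.ext_iff.mp (Scheme.Hom.ker_apply i (Uaff hf j')) _).trans
      RingHom.mem_ker).symm
  have := IsClosedImmersion.isIso_lift (Proj.map φ hφ) i hker'
  exact ⟨asIso (IsClosedImmersion.lift (Proj.map φ hφ) i hker'.le),
    IsClosedImmersion.lift_fac _ _ _⟩

end Main

end Groth.Agent.Lib.Helper27ClosedProj
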