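import Groth.Agent.Lib.Helper27TowerGG
import Groth.Agent.Lib.Helper27ProjFormula
import Groth.Agent.Lib.Helper23RelRes
import Groth.Agent.Lib.Helper21HZB9
import Groth.Agent.Lib.Helper17ProjFormulaD

/-!
# Compatible epimorphisms from a coherent module onto an inverse system (helper27)

* `exists_compatible_epi`: abstract recursion — lifting an epimorphism `E ⟶ G_c` along an inverse
  system with a lifting property and a Nakayama property;
* `epi_of_epi_comp`: a Nakayama criterion for such systems of modules killed by powers of `I`;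
* `adjTw`: the adjunction `(- ⊗ P) ⊣ (- ⊗ L)` for mutually inverse `P`, `L`;
* `exists_coh_compatible_epi`: on a Noetherian scheme with an ample invertible module, an inverse
  system of modules with surjective transition maps whose kernels have uniformly vanishing twisted
  `H^1` and which satisfies the Nakayama property from level `c` on (`G_c` coherent) receives
  compatible epimorphisms from a single coherent module.
-/

set_option autoImplicit false
set_option linter.style.haveILetI false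
set_option linter.unusedSectionVars false
universe u
open CategoryTheory Limits AlgebraicGeometry TopologicalSpace Opposite

namespace Groth.Agent.Lib.Helper27CompatEpi

open Groth.Agent.Lib.Helper17.GrSys Groth.Agent.Lib.Helper17.IAdic
  Groth.Agent.Lib.Helper17.FlatDev Groth.Agent.Lib.Helper27FormalKer
  Groth.Agent.Lib.Helper27TowerGG Groth.Agent.Lib.Helper27SerreVan
  Groth.Agent.Lib.Helper27ProjFormula

section Abstract

variable {C : Type*} [Category C]

theorem epi_map_of_epi_succ (Gs : ℕᵒᵖ ⥤ C)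
    (h : ∀ n, Epi (Gs.map (homOfLE (Nat.le_succ n)).op)) {m n : ℕ} (hmn : m ≤ n) :
    Epi (Gs.map (homOfLE hmn).op) := by
  induction n, hmn using Nat.le_induction with
  | base =>
    have e : (homOfLE (le_refl m)).op = 𝟙 (op m) := Quiver.Hom.unop_inj (Subsingleton.elim _ _)
    rw [e, Gs.map_id]
    infer_instance
  | succ n hmn ih =>
    have e : (homOfLE (hmn.trans (Nat.le_succ n))).op =
        (homOfLE (Nat.le_succ n)).op ≫ (homOfLE hmn).op :=
      Quiver.Hom.unop_inj (Subsingleton.elim _ _)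
    rw [e, Gs.map_comp]
    haveI := h n
    haveI := ih
    exact epi_comp _ _

theorem exists_seq (Hs : ℕ → C) (t : ∀ j, Hs (j + 1) ⟶ Hs j) {E : C} (u : E ⟶ Hs 0)
    (hu : Epi u) (LP : ∀ j (v : E ⟶ Hs j), ∃ v' : E ⟶ Hs (j + 1), v' ≫ t j = v)
    (NC : ∀ j (v' : E ⟶ Hs (j + 1)), Epi (v' ≫ t j) → Epi v') :
    ∃ w : ∀ j, E ⟶ Hs j, (∀ j, w (j + 1) ≫ t j = w j) ∧ ∀ j, Epi (w j) := by
  let next : ∀ j, {v : E ⟶ Hs j // Epi v} → {v : E ⟶ Hs (j + 1) // Epi v} := fun j v =>
    ⟨(LP j v.1).choose, NC j _ (by rw [(LP j v.1).choose_spec]; exact v.2)⟩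
  let w : ∀ j, {v : E ⟶ Hs j // Epi v} := fun j => Nat.rec ⟨u, hu⟩ next j
  exact ⟨fun j => (w j).1, fun j => (LP j (w j).1).choose_spec, fun j => (w j).2⟩

/-- lifting an epimorphism along an inverse system with a lifting and a Nakayama property. -/
theorem exists_compatible_epi (Gs : ℕᵒᵖ ⥤ C)
    (hepi : ∀ n, Epi (Gs.map (homOfLE (Nat.le_succ n)).op)) {E : C} (c : ℕ)
    (u : E ⟶ Gs.obj (op c)) (hu : Epi u)
    (LP : ∀ k, c ≤ k → ∀ v : E ⟶ Gs.obj (op k),
      ∃ v' : E ⟶ Gs.obj (op (k + 1)), v' ≫ Gs.map (homOfLE (Nat.le_succ k)).op = v)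
    (NC : ∀ k, c ≤ k → ∀ v' : E ⟶ Gs.obj (op (k + 1)),
      Epi (v' ≫ Gs.map (homOfLE (Nat.le_succ k)).op) → Epi v') :
    ∃ w : ∀ k, E ⟶ Gs.obj (op k),
      (∀ k, w (k + 1) ≫ Gs.map (homOfLE (Nat.le_succ k)).op = w k) ∧ ∀ k, Epi (w k) := by
  obtain ⟨w', hw', hepi'⟩ := exists_seq (fun j => Gs.obj (op (c + j)))
    (fun j => Gs.map (homOfLE (Nat.le_succ (c + j))).op) u hu
    (fun j v => LP (c + j) (Nat.le_add_right c j) v)
    (fun j v' h => NC (c + j) (Nat.le_add_right c j) v' h)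
  refine ⟨fun k => w' k ≫ Gs.map (homOfLE (Nat.le_add_left k c)).op, fun k => ?_, fun k => ?_⟩
  · dsimp only
    rw [Category.assoc, ← Gs.map_comp, ← hw' k, Category.assoc, ← Gs.map_comp]
    congr 2
  · haveI := hepi' k
    haveI := epi_map_of_epi_succ Gs hepi (Nat.le_add_left k c)
    exact epi_comp _ _

end Abstract

section Nak

variable {A : Type u} [CommRing A] {X : Scheme.{u}} [X.Over (Spec (CommRingCat.of A))]

theorem killedBy_of_epi {J : Ideal A} {M N : X.Modules} (q : M ⟶ N) [Epi q]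
    (h : Formal.KilledBy J M) : Formal.KilledBy J N := by
  intro b hb
  rw [← cancel_epi q, comp_zero, comp_smulMod, h b hb, zero_comp]

/-- **A Nakayama criterion**: let `0 ⟶ X₁ ⟶ X₂ ⟶ X₃ ⟶ 0` be exact with `X₂` killed by a power
of `I`, and suppose `X₁` is jointly covered by morphisms `φ_α : Y_α ⟶ X₁` which, as morphisms to
`X₂`, factor through morphisms `ℓ_α : X₃ ⟶ X₂` lifting multiplication by elements of `I`. Then a
morphism `v : E ⟶ X₂` is an epimorphism as soon as `E ⟶ X₂ ⟶ X₃` is. -/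
theorem epi_of_epi_comp {I : Ideal A} (S : ShortComplex X.Modules) (hS : S.ShortExact) (m : ℕ)
    (hk : Formal.KilledBy (I ^ m) S.X₂) {ι : Type*} {Y : ι → X.Modules} (φ : ∀ α, Y α ⟶ S.X₁)
    (hφ : JE φ) (y : ∀ α, Y α ⟶ S.X₃) (ℓ : ι → (S.X₃ ⟶ S.X₂)) (a : ι → A) (ha : ∀ α, a α ∈ I)
    (h1 : ∀ α, φ α ≫ S.f = y α ≫ ℓ α)
    (h2 : ∀ α, S.g ≫ ℓ α = Formal.smulMod A S.X₂ (a α))
    {E : X.Modules} (v : E ⟶ S.X₂) (hv : Epi (v ≫ S.g)) : Epi v := by
  haveI := hS.epi_g
  -- `X₁ ⟶ coker v` is an epimorphism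
  have hepi : ∀ {Z : X.Modules} (g : cokernel v ⟶ Z), S.f ≫ cokernel.π v ≫ g = 0 → g = 0 := by
    intro Z g hg
    let g' : S.X₃ ⟶ Z := hS.gIsCokernel.desc (CokernelCofork.ofπ (cokernel.π v ≫ g) hg)
    have hg' : S.g ≫ g' = cokernel.π v ≫ g :=
      hS.gIsCokernel.fac (CokernelCofork.ofπ (cokernel.π v ≫ g) hg) WalkingParallelPair.one
    have h0 : (v ≫ S.g) ≫ g' = 0 := by
      rw [Category.assoc, hg', cokernel.condition_assoc, zero_comp]
    have h3 : g' = 0 := by rw [← cancel_epi (v ≫ S.g), h0, comp_zero]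
    rw [h3, comp_zero] at hg'
    rw [← cancel_epi (cokernel.π v), ← hg', comp_zero]
  haveI : Epi (Formal.smulFamily I (cokernel v)) := by
    refine Preadditive.epi_of_cancel_zero _ (fun {Z} g hg => ?_)
    have hb : ∀ b (hb : b ∈ I), Formal.smulMod A (cokernel v) b ≫ g = 0 := by
      intro b hb
      have := Sigma.ι (fun _ : I => cokernel v) ⟨b, hb⟩ ≫= hg
      rw [comp_zero, ← Category.assoc, ι_smulFamily] at this
      exact this
    apply hepi
    apply hφ
    intro α
    rw [← Category.assoc, h1, Category.assoc]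
    have h4 : ℓ α ≫ cokernel.π v ≫ g = 0 := by
      rw [← cancel_epi S.g, comp_zero, ← Category.assoc, h2, ← Category.assoc,
        ← comp_smulMod, Category.assoc, hb _ (ha α), comp_zero]
    rw [h4, comp_zero]
  have hz : IsZero (cokernel v) :=
    isZero_of_epi_smulFamily I (cokernel v) m (killedBy_of_epi (cokernel.π v) hk)
  exact Abelian.epi_of_cokernel_π_eq_zero _ (hz.eq_of_tgt _ _)

end Nak

section Tw

variable {X : Scheme.{u}}

/-- the adjunction `(- ⊗ P) ⊣ (- ⊗ L)` for mutually inverse `L`, `P`. -/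
noncomputable def adjTw (L P : X.Modules)
    (e : CohB1.tensorMod L P ≅ Coh.structureModule X)
    (e' : CohB1.tensorMod P L ≅ Coh.structureModule X) : tw P ⊣ tw L :=
  ((adjTL L P e e').ofNatIsoLeft
    ((Groth.Agent.Lib.Helper21.ModTensor5.brd X.sheaf).app P)).ofNatIsoRight
    ((Groth.Agent.Lib.Helper21.ModTensor5.brd X.sheaf).app L)

theorem faithful_tw (L P : X.Modules)
    (e : CohB1.tensorMod L P ≅ Coh.structureModule X)
    (e' : CohB1.tensorMod P L ≅ Coh.structureModule X) : (tw L).Faithful := by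
  let Eq := Groth.Agent.Lib.Helper27ExtTwist1.tLEquiv X.sheaf L P e e'
  haveI : (Groth.Agent.Lib.Helper21.ModTensor3.tL X.sheaf L).IsEquivalence :=
    Eq.isEquivalence_functor
  haveI : (Groth.Agent.Lib.Helper21.ModTensor3.tR X.sheaf L).IsEquivalence :=
    Functor.isEquivalence_of_iso ((Groth.Agent.Lib.Helper21.ModTensor5.brd X.sheaf).app L)
  exact inferInstanceAs (Groth.Agent.Lib.Helper21.ModTensor3.tR X.sheaf L).Faithful

/-- lifting morphisms out of `Φ (O^n)` along a morphism which is surjective on global sections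
after applying the right adjoint. -/
theorem exists_lift_of_adj {Φ Ψ : X.Modules ⥤ X.Modules} (adj : Φ ⊣ Ψ) (n : ℕ)
    {H' H : X.Modules} (t : H' ⟶ H) (ht : Function.Surjective ((Ψ.map t).app ⊤))
    (v : Φ.obj (FlatMod.freeMod X n) ⟶ H) :
    ∃ v' : Φ.obj (FlatMod.freeMod X n) ⟶ H', v' ≫ t = v := by
  have hlift : ∀ j : Fin n, ∃ s : Coh.structureModule X ⟶ Ψ.obj H',
      s ≫ Ψ.map t = Sigma.ι (fun _ : Fin n => Coh.structureModule X) j ≫ adj.homEquiv _ _ v :=
    fun j => exists_lift_of_surjective _ ht _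
  choose s hs using hlift
  refine ⟨(adj.homEquiv _ _).symm (Sigma.desc s), ?_⟩
  rw [← Adjunction.homEquiv_naturality_right_symm]
  apply (adj.homEquiv _ _).injective
  rw [Equiv.apply_symm_apply]
  apply Sigma.hom_ext
  intro j
  rw [Sigma.ι_desc_assoc]
  exact hs j

end Tw

section Main

variable {X : Scheme.{u}}

/-- on a scheme with an ample invertible module `L`, an inverse system `(G_k)` of modules whose
transition maps are epimorphisms with kernels `N_k` such that `H^1(X, N_k ⊗ L^d) = 0` for all `k`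
and all large `d`, with `G_c` coherent, and satisfying the Nakayama property from level `c` on,
receives compatible epimorphisms from a single coherent module. -/
theorem exists_coh_compatible_epi (L : X.Modules) (hL : CohB1.IsAmple L)
    (Gs : ℕᵒᵖ ⥤ X.Modules) (c : ℕ) (hcoh : Coh.IsCoh (Gs.obj (op c)))
    (Ns : ℕ → X.Modules) (j : ∀ k, Ns k ⟶ Gs.obj (op (k + 1)))
    (hj : ∀ k, j k ≫ tr Gs k = 0)
    (hS : ∀ k, (ShortComplex.mk (j k) (tr Gs k) (hj k)).ShortExact)
    (hvan : ∃ d₀ : ℕ, ∀ d, d₀ ≤ d → ∀ k,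
      Subsingleton (Coh.HH X (CohB1.tensorMod (Ns k) (CohB1.tensorPow L d)) 1))
    (NC : ∀ k, c ≤ k → ∀ {E : X.Modules} (v' : E ⟶ Gs.obj (op (k + 1))),
      Epi (v' ≫ tr Gs k) → Epi v') :
    ∃ (𝓔 : X.Modules) (w : ∀ k, 𝓔 ⟶ Gs.obj (op k)), Coh.IsCoh 𝓔 ∧
      (∀ k, w (k + 1) ≫ tr Gs k = w k) ∧ ∀ k, Epi (w k) := by
  obtain ⟨d₀, hd₀⟩ := hvan
  haveI := hcoh.1
  haveI : SheafOfModules.IsFiniteType (R := X.ringCatSheaf) (Gs.obj (op c)) := hcoh.2
  obtain ⟨n₀, hn₀⟩ :=
    Groth.Agent.Lib.Helper23.RelRes.exists_epi_freeMod_twist L hL (Gs.obj (op c))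
  obtain ⟨n, p, hp⟩ := hn₀ (max d₀ n₀) (le_max_right _ _)
  have hLd := Groth.Agent.Lib.Helper23.SecTw.isInvertible_tensorPow hL.1 (max d₀ n₀)
  obtain ⟨P, hP, ⟨e⟩, ⟨e'⟩⟩ :=
    Groth.Agent.Lib.Helper17.ProjFormulaD.nonempty_inverse (CohB1.tensorPow L (max d₀ n₀)) hLd
  let adj := adjTw (CohB1.tensorPow L (max d₀ n₀)) P e e'
  haveI := faithful_tw (CohB1.tensorPow L (max d₀ n₀)) P e e'
  have hcE : Coh.IsCoh ((tw P).obj (FlatMod.freeMod X n)) :=
    Groth.Agent.Lib.Helper21.HZB.isCoh_of_isFinLocFree _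
      (Groth.Agent.Lib.Helper23.ResProp.isFinLocFree_tensorMod _ _
        (Groth.Agent.Lib.Helper23.ResProp.isFinLocFree_freeMod X n)
        (Groth.Agent.Lib.Helper23.ResProp.isFinLocFree_of_isInvertible P hP))
  let p' : FlatMod.freeMod X n ⟶ (tw (CohB1.tensorPow L (max d₀ n₀))).obj (Gs.obj (op c)) := p
  haveI hp' : Epi p' := hp
  let u : (tw P).obj (FlatMod.freeMod X n) ⟶ Gs.obj (op c) := (adj.homEquiv _ _).symm p'
  have hu : Epi u := Groth.Agent.Lib.Helper23.RelRes.epi_homEquiv_symm adj p'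
    (fun Q ψ₁ ψ₂ h =>
      (tw (CohB1.tensorPow L (max d₀ n₀))).map_injective ((cancel_epi p').1 h))
  have hepi : ∀ k, Epi (tr Gs k) := fun k => (hS k).epi_g
  have hsurj : ∀ k, Function.Surjective
      (((tw (CohB1.tensorPow L (max d₀ n₀))).map (tr Gs k)).app ⊤) := fun k =>
    Groth.Agent.Lib.Helper27LesLin.surjective_app_top_of_delta_zero _
      (shortExact_tw _ hLd _ (hS k))
      (fun y => @Subsingleton.elim _ (hd₀ (max d₀ n₀) (le_max_left _ _) k) _ _)
  obtain ⟨w, hw, hwe⟩ := exists_compatible_epi Gs hepi c u hu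
    (fun k _ v => exists_lift_of_adj adj n (tr Gs k) (hsurj k) v)
    (fun k hk v' h => NC k hk v' h)
  exact ⟨_, w, hcE, hw, hwe⟩

end Main

end Groth.Agent.Lib.Helper27CompatEpi
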