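import Groth.Agent.Lib.Helper27ComplHyp

/-!
# Completion commutes with cokernel-preserving `A`-linear functors (helper27)

* `complIso Φ hΦ I hI M : Formal.completion I (Φ.obj M) ≅ Formal.completion I M ⋙ Φ` for an additive
  functor `Φ` preserving finite colimits and commuting with multiplication by elements of `A`, `I`
  finitely generated.
* `isCohFormal_of_iso`: `Formal.IsCohFormal` is invariant under isomorphisms of systems.
-/

set_option autoImplicit false
set_option linter.style.haveILetI false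
set_option linter.unusedSectionVars false
universe u
open CategoryTheory Limits AlgebraicGeometry TopologicalSpace Opposite

namespace Groth.Agent.Lib.Helper27ComplFunctor

open Groth.Agent.Lib.Helper17.GrSys Groth.Agent.Lib.Helper17.IAdic
  Groth.Agent.Lib.Helper17.FlatDev Groth.Agent.Lib.Helper27FormalKer
  Groth.Agent.Lib.Helper27ComplHyp

variable {A : Type u} [CommRing A] {X : Scheme.{u}} [X.Over (Spec (CommRingCat.of A))]
  {Y : Scheme.{u}} [Y.Over (Spec (CommRingCat.of A))] (Φ : X.Modules ⥤ Y.Modules)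
  [Φ.Additive] [PreservesFiniteColimits Φ]
  (hΦ : ∀ (M : X.Modules) (a : A), Φ.map (Formal.smulMod A M a) = Formal.smulMod A (Φ.obj M) a)

/-- the components of the comparison. -/
noncomputable def complApp (I : Ideal A) (M : X.Modules) (n : ℕ) :
    (Formal.completion I (Φ.obj M)).obj ⟨n⟩ ⟶ (Formal.completion I M ⋙ Φ).obj ⟨n⟩ :=
  Qcomp Φ hΦ (I ^ (n + 1)) M

theorem Qmap_Qcomp {J J' : Ideal A} (h : J' ≤ J) (M : X.Modules) :
    Qmap h (Φ.obj M) ≫ Qcomp Φ hΦ J M = Qcomp Φ hΦ J' M ≫ Φ.map (Qmap h M) := by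
  rw [← cancel_epi (πQ J' (Φ.obj M)), πQ_Qmap_assoc, πQ_Qcomp, πQ_Qcomp_assoc,
    ← Φ.map_comp, πQ_Qmap]

theorem complApp_naturality (I : Ideal A) (M : X.Modules) (n : ℕ) :
    (Formal.completion I (Φ.obj M)).map (homOfLE (n.le_add_right 1)).op ≫ complApp Φ hΦ I M n =
      complApp Φ hΦ I M (n + 1) ≫
        (Formal.completion I M ⋙ Φ).map (homOfLE (n.le_add_right 1)).op := by
  have h1 : (Formal.completion I (Φ.obj M)).map (homOfLE (n.le_add_right 1)).op =
      Qmap (Ideal.pow_le_pow_right (Nat.le_succ (n + 1))) (Φ.obj M) :=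
    tr_completion I (Φ.obj M) n
  have h2 : (Formal.completion I M ⋙ Φ).map (homOfLE (n.le_add_right 1)).op =
      Φ.map (Qmap (Ideal.pow_le_pow_right (Nat.le_succ (n + 1))) M) :=
    congrArg Φ.map (tr_completion I M n)
  refine (congrArg (fun t => t ≫ complApp Φ hΦ I M n) h1).trans ?_
  refine Eq.trans ?_ (congrArg (fun t => complApp Φ hΦ I M (n + 1) ≫ t) h2).symm
  exact Qmap_Qcomp Φ hΦ (Ideal.pow_le_pow_right (Nat.le_succ (n + 1))) M

/-- the comparison morphism of systems. -/
noncomputable def complHom (I : Ideal A) (M : X.Modules) :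
    Formal.completion I (Φ.obj M) ⟶ Formal.completion I M ⋙ Φ :=
  NatTrans.ofOpSequence (complApp Φ hΦ I M) (complApp_naturality Φ hΦ I M)

theorem exists_fin_of_fg (J : Ideal A) (hJ : J.FG) :
    ∃ (r : ℕ) (c : Fin r → A), J = Ideal.span (Set.range c) := by
  obtain ⟨r, c, hc⟩ := Submodule.fg_iff_exists_fin_generating_family.1 hJ
  exact ⟨r, c, hc.symm⟩

include hΦ in
theorem isIso_complApp (I : Ideal A) (hI : I.FG) (M : X.Modules) (n : ℕ) :
    IsIso (complApp Φ hΦ I M n) := by
  obtain ⟨r, c, hc⟩ := exists_fin_of_fg (I ^ (n + 1)) (hI.pow (n := n + 1))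
  exact isIso_Qcomp Φ hΦ c (I ^ (n + 1)) hc M

/-- completion commutes with `Φ`. -/
noncomputable def complIso (I : Ideal A) (hI : I.FG) (M : X.Modules) :
    Formal.completion I (Φ.obj M) ≅ Formal.completion I M ⋙ Φ := by
  haveI : ∀ k : ℕᵒᵖ, IsIso ((complHom Φ hΦ I M).app k) := fun k =>
    isIso_complApp Φ hΦ I hI M k.unop
  haveI : IsIso (complHom Φ hΦ I M) := NatIso.isIso_of_isIso_app _
  exact asIso (complHom Φ hΦ I M)

end Groth.Agent.Lib.Helper27ComplFunctor
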