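import Groth.Agent.Lib.Helper27FormalKer
import Groth.Agent.Lib.Helper17FlatDev1

/-!
# The completion system satisfies the hypotheses of `Helper27FormalKer` (helper27)

* `hyp_completion I M : Hyp I (Formal.completion I M)`;
* `isIso_Qcomp`: an additive functor `Φ` on `O_X`-modules preserving cokernels and commuting with
  multiplication by elements of `A` commutes with `M ↦ M / J M` for finitely generated `J`.
-/

set_option autoImplicit false
universe u
open CategoryTheory Limits AlgebraicGeometry TopologicalSpace Opposite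

namespace Groth.Agent.Lib.Helper27ComplHyp

open Groth.Agent.Lib.Helper17.GrSys Groth.Agent.Lib.Helper17.IAdic
  Groth.Agent.Lib.Helper17.FlatDev Groth.Agent.Lib.Helper27FormalKer

variable {A : Type u} [CommRing A] {X : Scheme.{u}} [X.Over (Spec (CommRingCat.of A))]

theorem tr_completion (I : Ideal A) (M : X.Modules) (n : ℕ) :
    tr (Formal.completion I M) n = Formal.modPowTrans I (n + 1) M :=
  Functor.ofOpSequence_map_homOfLE_succ _ n

theorem completion_obj (I : Ideal A) (M : X.Modules) (n : ℕ) :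
    (Formal.completion I M).obj (op n) = Formal.modPow I (n + 1) M := rfl

/-- `M / J M` is killed by `J`. -/
theorem smulMod_Q (J : Ideal A) (M : X.Modules) (b : A) (hb : b ∈ J) :
    Formal.smulMod A (Q J M) b = 0 := by
  rw [← cancel_epi (πQ J M), comp_smulMod, comp_zero]
  exact smulMod_πQ J M b hb

/-- `(M / J' M) / J (M / J' M) ≅ M / J M` for `J' ≤ J`. -/
theorem isIso_desc_Qmap {J J' : Ideal A} (h : J' ≤ J) (M : X.Modules) :
    ∃ w : Formal.smulFamily J (Q J' M) ≫ Qmap h M = 0, IsIso (cokernel.desc _ _ w) := by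
  have w : Formal.smulFamily J (Q J' M) ≫ Qmap h M = 0 := by
    apply Sigma.hom_ext
    intro b
    rw [comp_zero, ← Category.assoc, ι_smulFamily, ← comp_smulMod, smulMod_Q J M b.1 b.2,
      comp_zero]
  refine ⟨w, ?_⟩
  have w' : Formal.smulFamily J M ≫ πQ J' M ≫ πQ J (Q J' M) = 0 := by
    apply Sigma.hom_ext
    intro b
    rw [comp_zero, ← Category.assoc, ι_smulFamily, ← Category.assoc, ← comp_smulMod,
      Category.assoc, smulMod_πQ J (Q J' M) b.1 b.2, comp_zero]
  refine ⟨⟨cokernel.desc _ (πQ J' M ≫ πQ J (Q J' M)) w', ?_, ?_⟩⟩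
  · rw [← cancel_epi (πQ J (Q J' M)), ← cancel_epi (πQ J' M)]
    simp only [cokernel.π_desc_assoc, Category.comp_id]
    rw [πQ_Qmap_assoc]
    exact cokernel.π_desc _ _ _
  · rw [← cancel_epi (πQ J M)]
    simp only [cokernel.π_desc_assoc, Category.assoc, cokernel.π_desc, Category.comp_id]
    exact πQ_Qmap h M

theorem modPowTrans_eq_Qmap (I : Ideal A) (n : ℕ) (M : X.Modules) :
    Formal.modPowTrans I n M = Qmap (Ideal.pow_le_pow_right (Nat.le_succ n)) M := rfl

/-- the completion system satisfies the hypotheses of `Helper27FormalKer`. -/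
theorem hyp_completion (I : Ideal A) (M : X.Modules) : Hyp I (Formal.completion I M) where
  killed n := fun b hb => smulMod_Q (I ^ (n + 1)) M b hb
  quot n := by
    rw [tr_completion, modPowTrans_eq_Qmap]
    exact isIso_desc_Qmap _ M

section Functor

variable {Y : Scheme.{u}} [Y.Over (Spec (CommRingCat.of A))] (Φ : X.Modules ⥤ Y.Modules)
  [Φ.Additive] [PreservesFiniteColimits Φ]
  (hΦ : ∀ (M : X.Modules) (a : A), Φ.map (Formal.smulMod A M a) = Formal.smulMod A (Φ.obj M) a)

include hΦ in
theorem smulFamily_map_πQ (J : Ideal A) (M : X.Modules) :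
    Formal.smulFamily J (Φ.obj M) ≫ Φ.map (πQ J M) = 0 := by
  apply Sigma.hom_ext
  intro b
  rw [comp_zero, ← Category.assoc, ι_smulFamily, ← hΦ, ← Φ.map_comp, smulMod_πQ J M b.1 b.2,
    Φ.map_zero]

/-- the comparison `Φ M / J Φ M ⟶ Φ (M / J M)`. -/
noncomputable def Qcomp (J : Ideal A) (M : X.Modules) : Q J (Φ.obj M) ⟶ Φ.obj (Q J M) :=
  cokernel.desc _ (Φ.map (πQ J M)) (smulFamily_map_πQ Φ hΦ J M)

@[reassoc (attr := simp)]
theorem πQ_Qcomp (J : Ideal A) (M : X.Modules) :
    πQ J (Φ.obj M) ≫ Qcomp Φ hΦ J M = Φ.map (πQ J M) :=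
  cokernel.π_desc _ _ _

attribute [local instance] Abelian.hasFiniteBiproducts

/-- `M ⟶ M / J M` is a cokernel of the finite family of multiplications by generators of `J`. -/
noncomputable def isColimitπQFin {r : ℕ} (c : Fin r → A) (J : Ideal A)
    (hJ : J = Ideal.span (Set.range c)) (M : X.Modules) :
    IsColimit (CokernelCofork.ofπ (f := biproduct.desc (fun i : Fin r => Formal.smulMod A M (c i)))
      (πQ J M) (by
        apply biproduct.hom_ext'
        intro i
        rw [biproduct.ι_desc_assoc, comp_zero]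
        exact smulMod_πQ J M (c i) (hJ ▸ Ideal.subset_span ⟨i, rfl⟩))) :=
  CokernelCofork.IsColimit.ofπ _ _
    (fun {Z} g hg => cokernel.desc _ g (by
      have hg' : ∀ i, Formal.smulMod A M (c i) ≫ g = 0 := fun i => by
        have := biproduct.ι (fun _ : Fin r => M) i ≫= hg
        rwa [biproduct.ι_desc_assoc, comp_zero] at this
      have H : ∀ x, x ∈ Ideal.span (Set.range c) → Formal.smulMod A M x ≫ g = 0 := by
        intro x hx
        induction hx using Submodule.span_induction with
        | mem x hx =>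
          obtain ⟨i, rfl⟩ := hx
          exact hg' i
        | zero => rw [smulMod_zero, zero_comp]
        | add x y _ _ ihx ihy => rw [smulMod_add, Preadditive.add_comp, ihx, ihy, add_zero]
        | smul a x _ ih =>
          rw [smul_eq_mul, smulMod_mul', Category.assoc, ih, comp_zero]
      apply Sigma.hom_ext
      intro b
      rw [comp_zero, ← Category.assoc, ι_smulFamily]
      exact H b.1 (hJ ▸ b.2)))
    (fun g hg => cokernel.π_desc _ _ _)
    (fun g hg m hm => by
      rw [← cancel_epi (πQ J M)]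
      exact hm.trans (cokernel.π_desc _ _ _).symm)

theorem desc_eq_sum {r : ℕ} (c : Fin r → A) (M : X.Modules) :
    biproduct.desc (fun i : Fin r => Formal.smulMod A M (c i)) =
      ∑ i, biproduct.π (fun _ : Fin r => M) i ≫ Formal.smulMod A M (c i) := by
  apply biproduct.hom_ext'
  intro j
  rw [biproduct.ι_desc, Preadditive.comp_sum]
  rw [Finset.sum_eq_single j]
  · rw [biproduct.ι_π_self_assoc]
  · intro i _ hij
    rw [biproduct.ι_π_ne_assoc _ hij.symm, zero_comp]
  · intro h
    exact absurd (Finset.mem_univ j) h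

include hΦ in
/-- `Φ` commutes with `M ↦ M / J M` for finitely generated `J`. -/
theorem isIso_Qcomp {r : ℕ} (c : Fin r → A) (J : Ideal A) (hJ : J = Ideal.span (Set.range c))
    (M : X.Modules) : IsIso (Qcomp Φ hΦ J M) := by
  have hc := isColimitπQFin c J hJ M
  have hc' := CokernelCofork.mapIsColimit _ hc Φ
  have w : Φ.map (biproduct.desc (fun i : Fin r => Formal.smulMod A M (c i))) ≫ πQ J (Φ.obj M) = 0 := by
    rw [desc_eq_sum, Φ.map_sum, Preadditive.sum_comp]
    refine Finset.sum_eq_zero (fun i _ => ?_)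
    rw [Φ.map_comp, hΦ, Category.assoc,
      smulMod_πQ J (Φ.obj M) (c i) (hJ ▸ Ideal.subset_span ⟨i, rfl⟩), comp_zero]
  let inv : Φ.obj (Q J M) ⟶ Q J (Φ.obj M) := hc'.desc (CokernelCofork.ofπ (πQ J (Φ.obj M)) w)
  have hinv : Φ.map (πQ J M) ≫ inv = πQ J (Φ.obj M) :=
    hc'.fac (CokernelCofork.ofπ (πQ J (Φ.obj M)) w) WalkingParallelPair.one
  haveI : Epi (Φ.map (πQ J M)) := by
    have : Φ.map (πQ J M) = πQ J (Φ.obj M) ≫ Qcomp Φ hΦ J M := (πQ_Qcomp Φ hΦ J M).symm
    exact Cofork.IsColimit.epi hc'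
  refine ⟨⟨inv, ?_, ?_⟩⟩
  · rw [← cancel_epi (πQ J (Φ.obj M)), πQ_Qcomp_assoc, hinv, Category.comp_id]
  · rw [← cancel_epi (Φ.map (πQ J M)), ← Category.assoc, hinv, πQ_Qcomp, Category.comp_id]

end Functor

end Groth.Agent.Lib.Helper27ComplHyp
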