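import Groth.Agent.Lib.Helper27ComplHyp

/-!
# Functoriality of the completion system in the module (helper27)

* `Qmod J f : Q J M ⟶ Q J M'`, `complMap I f`, `complMapIso I e : completion I M ≅ completion I M'`;
* `isCohFormal_completion`: the completion system of a coherent module is a coherent formal module.
-/

set_option autoImplicit false
set_option linter.style.haveILetI false
set_option linter.unusedSectionVars false
universe u
open CategoryTheory Limits AlgebraicGeometry TopologicalSpace Opposite

namespace Groth.Agent.Lib.Helper27ComplMap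

open Groth.Agent.Lib.Helper17.GrSys Groth.Agent.Lib.Helper17.IAdic
  Groth.Agent.Lib.Helper17.FlatDev Groth.Agent.Lib.Helper27FormalKer
  Groth.Agent.Lib.Helper27ComplHyp

variable {A : Type u} [CommRing A] {X : Scheme.{u}} [X.Over (Spec (CommRingCat.of A))]

theorem smulFamily_comp_πQ (J : Ideal A) {M M' : X.Modules} (f : M ⟶ M') :
    Formal.smulFamily J M ≫ f ≫ πQ J M' = 0 := by
  apply Sigma.hom_ext
  intro b
  rw [comp_zero, ← Category.assoc, ι_smulFamily, ← Category.assoc, ← comp_smulMod, Category.assoc,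
    smulMod_πQ J M' b.1 b.2, comp_zero]

/-- `M / J M ⟶ M' / J M'` induced by `f : M ⟶ M'`. -/
noncomputable def Qmod (J : Ideal A) {M M' : X.Modules} (f : M ⟶ M') : Q J M ⟶ Q J M' :=
  cokernel.desc _ (f ≫ πQ J M') (smulFamily_comp_πQ J f)

@[reassoc (attr := simp)]
theorem πQ_Qmod (J : Ideal A) {M M' : X.Modules} (f : M ⟶ M') :
    πQ J M ≫ Qmod J f = f ≫ πQ J M' :=
  cokernel.π_desc _ _ _

theorem Qmod_id (J : Ideal A) (M : X.Modules) : Qmod J (𝟙 M) = 𝟙 (Q J M) := by
  rw [← cancel_epi (πQ J M), πQ_Qmod, Category.id_comp, Category.comp_id]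

theorem Qmod_comp (J : Ideal A) {M M' M'' : X.Modules} (f : M ⟶ M') (g : M' ⟶ M'') :
    Qmod J (f ≫ g) = Qmod J f ≫ Qmod J g := by
  rw [← cancel_epi (πQ J M), πQ_Qmod, πQ_Qmod_assoc, πQ_Qmod, Category.assoc]

theorem Qmap_Qmod {J J' : Ideal A} (h : J' ≤ J) {M M' : X.Modules} (f : M ⟶ M') :
    Qmap h M ≫ Qmod J f = Qmod J' f ≫ Qmap h M' := by
  rw [← cancel_epi (πQ J' M), πQ_Qmap_assoc, πQ_Qmod, πQ_Qmod_assoc, πQ_Qmap]

/-- the components of `complMap`. -/
noncomputable def complMapApp (I : Ideal A) {M M' : X.Modules} (f : M ⟶ M') (n : ℕ) :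
    (Formal.completion I M).obj ⟨n⟩ ⟶ (Formal.completion I M').obj ⟨n⟩ :=
  Qmod (I ^ (n + 1)) f

theorem complMapApp_naturality (I : Ideal A) {M M' : X.Modules} (f : M ⟶ M') (n : ℕ) :
    (Formal.completion I M).map (homOfLE (n.le_add_right 1)).op ≫ complMapApp I f n =
      complMapApp I f (n + 1) ≫ (Formal.completion I M').map (homOfLE (n.le_add_right 1)).op := by
  have h1 : (Formal.completion I M).map (homOfLE (n.le_add_right 1)).op =
      Qmap (Ideal.pow_le_pow_right (Nat.le_succ (n + 1))) M := tr_completion I M n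
  have h2 : (Formal.completion I M').map (homOfLE (n.le_add_right 1)).op =
      Qmap (Ideal.pow_le_pow_right (Nat.le_succ (n + 1))) M' := tr_completion I M' n
  refine (congrArg (fun t => t ≫ complMapApp I f n) h1).trans ?_
  refine Eq.trans ?_ (congrArg (fun t => complMapApp I f (n + 1) ≫ t) h2).symm
  exact Qmap_Qmod (Ideal.pow_le_pow_right (Nat.le_succ (n + 1))) f

/-- the completion system is functorial in the module. -/
noncomputable def complMap (I : Ideal A) {M M' : X.Modules} (f : M ⟶ M') :
    Formal.completion I M ⟶ Formal.completion I M' :=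
  NatTrans.ofOpSequence (complMapApp I f) (complMapApp_naturality I f)

theorem isIso_complMapApp (I : Ideal A) {M M' : X.Modules} (f : M ⟶ M') [IsIso f] (n : ℕ) :
    IsIso (complMapApp I f n) := by
  refine ⟨⟨Qmod (I ^ (n + 1)) (inv f), ?_, ?_⟩⟩
  · exact ((Qmod_comp (I ^ (n + 1)) f (inv f)).symm.trans
      ((congrArg (Qmod (I ^ (n + 1))) (IsIso.hom_inv_id f)).trans (Qmod_id _ M)))
  · exact ((Qmod_comp (I ^ (n + 1)) (inv f) f).symm.trans
      ((congrArg (Qmod (I ^ (n + 1))) (IsIso.inv_hom_id f)).trans (Qmod_id _ M')))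

/-- isomorphic modules have isomorphic completion systems. -/
noncomputable def complMapIso (I : Ideal A) {M M' : X.Modules} (e : M ≅ M') :
    Formal.completion I M ≅ Formal.completion I M' := by
  haveI : ∀ k : ℕᵒᵖ, IsIso ((complMap I e.hom).app k) := fun k =>
    isIso_complMapApp I e.hom k.unop
  haveI : IsIso (complMap I e.hom) := NatIso.isIso_of_isIso_app _
  exact asIso (complMap I e.hom)

/-- the completion system of a coherent module is a coherent formal module. -/
theorem isCohFormal_completion (I : Ideal A) (M : X.Modules) (hM : Coh.IsCoh M) :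
    Formal.IsCohFormal I (Formal.completion I M) :=
  ⟨fun n => isCoh_quot (I ^ (n + 1)) M hM, (hyp_completion I M).killed, (hyp_completion I M).quot⟩

end Groth.Agent.Lib.Helper27ComplMap
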