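import Groth.Agent.Lib.Helper27RelProj4
import Groth.Prelude.Def_RelSpec2

/-!
# Affine cones over a general base: vertex section and pointed cone (helper27)
-/

set_option autoImplicit false
universe u

open CategoryTheory AlgebraicGeometry TopologicalSpace Opposite
open scoped HomogeneousIdeal

namespace Groth.Agent.Lib.Helper27Cone

open RelSpec

section Spec

variable {Y : Scheme.{u}}

/-- chart of `Spec(O_Y)` over `U`, with source written `Spec Γ(Y, U)`. -/
noncomputable def unitι (U : Y.Opens) (hU : IsAffineOpen U) :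
    Spec Γ(Y, U) ⟶ (QCAlg.unit Y).spec :=
  (QCAlg.unit Y).ι U hU

instance (U : Y.Opens) (hU : IsAffineOpen U) : IsOpenImmersion (unitι U hU) :=
  inferInstanceAs (IsOpenImmersion ((QCAlg.unit Y).ι U hU))

theorem unitι_π (U : Y.Opens) (hU : IsAffineOpen U) :
    unitι U hU ≫ (QCAlg.unit Y).π = hU.fromSpec := by
  refine ((QCAlg.unit Y).ι_π U hU).trans ?_
  change Spec.map (𝟙 Γ(Y, U)) ≫ hU.fromSpec = hU.fromSpec
  rw [Spec.map_id, Category.id_comp]

theorem unitι_opensRange (U : Y.Opens) (hU : IsAffineOpen U) :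
    (unitι U hU).opensRange = (QCAlg.unit Y).π ⁻¹ᵁ U :=
  ((QCAlg.unit Y).π_preimage U hU).symm

theorem unitι_specMap (A : QCAlg Y) (aug : A ⟶ QCAlg.unit Y) (U : Y.Opens)
    (hU : IsAffineOpen U) :
    unitι U hU ≫ QCAlg.specMap aug = Spec.map (aug.hom.app (op U)) ≫ A.ι U hU :=
  QCAlg.ι_specMap U hU aug

/-- `Spec(O_Y) → Y` is an isomorphism. -/
theorem isIso_unit_π : IsIso (QCAlg.unit Y).π := by
  have : (MorphismProperty.isomorphisms Scheme.{u}) (QCAlg.unit Y).π := by
    apply Helper27RelProj4.of_charts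
    intro y
    obtain ⟨U, hU, hyU, -⟩ := exists_isAffineOpen_mem_and_subset (x := y) (U := ⊤) trivial
    refine ⟨_, _, unitι U hU, hU.fromSpec, inferInstance, inferInstance, 𝟙 _,
      ?_, ?_, ?_, ?_⟩
    · rw [hU.opensRange_fromSpec]
      exact hyU
    · exact MorphismProperty.isomorphisms.infer_property _
    · rw [unitι_π U hU, Category.id_comp]
    · rw [hU.opensRange_fromSpec, unitι_opensRange]
  exact this

/-- the section of `Spec(A) → Y` attached to an algebra map `A → O_Y`. -/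
noncomputable def sectionOf (A : QCAlg Y) (aug : A ⟶ QCAlg.unit Y) : Y ⟶ A.spec :=
  haveI := isIso_unit_π (Y := Y)
  inv (QCAlg.unit Y).π ≫ QCAlg.specMap aug

theorem sectionOf_π (A : QCAlg Y) (aug : A ⟶ QCAlg.unit Y) : sectionOf A aug ≫ A.π = 𝟙 Y := by
  have := isIso_unit_π (Y := Y)
  rw [sectionOf, Category.assoc, QCAlg.specMap_π, IsIso.inv_hom_id]

theorem fromSpec_sectionOf (A : QCAlg Y) (aug : A ⟶ QCAlg.unit Y) (U : Y.Opens)
    (hU : IsAffineOpen U) :
    hU.fromSpec ≫ sectionOf A aug = Spec.map (aug.hom.app (op U)) ≫ A.ι U hU := by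
  have := isIso_unit_π (Y := Y)
  rw [sectionOf, ← unitι_π U hU, Category.assoc, IsIso.hom_inv_id_assoc]
  exact unitι_specMap A aug U hU

theorem hom_ext_fromSpec {Z : Scheme.{u}} (a b : Y ⟶ Z)
    (h : ∀ (U : Y.Opens) (hU : IsAffineOpen U), hU.fromSpec ≫ a = hU.fromSpec ≫ b) : a = b := by
  refine (Y.openCoverOfIsOpenCover (fun U : Y.affineOpens => U.1) (by
    rw [IsOpenCover]; exact iSup_affineOpens_eq_top Y)).hom_ext _ _ fun U => ?_
  have hU : IsAffineOpen U.1 := U.2
  change U.1.ι ≫ a = U.1.ι ≫ b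
  have h1 := h U.1 hU
  rw [IsAffineOpen.fromSpec, Category.assoc, Category.assoc] at h1
  exact (cancel_epi hU.isoSpec.inv).mp h1

theorem aug_str (A : QCAlg Y) (aug : A ⟶ QCAlg.unit Y) (U : Y.Opens) (r : Γ(Y, U)) :
    (aug.hom.app (op U)).hom ((A.str.app (op U)).hom r) = r := by
  have h0 := NatTrans.congr_app aug.comm (op U)
  rw [NatTrans.comp_app] at h0
  have := congrArg (fun ψ => ψ.hom r) h0
  exact this

theorem aug_surjective (A : QCAlg Y) (aug : A ⟶ QCAlg.unit Y) (U : Y.Opens) :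
    Function.Surjective (aug.hom.app (op U)).hom :=
  fun r => ⟨(A.str.app (op U)).hom r, aug_str A aug U r⟩

theorem isClosedImmersion_of_chart (A : QCAlg Y) (aug : A ⟶ QCAlg.unit Y) (ε : Y ⟶ A.spec)
    (hπ : ε ≫ A.π = 𝟙 Y)
    (hc : ∀ (U : Y.Opens) (hU : IsAffineOpen U),
      hU.fromSpec ≫ ε = Spec.map (aug.hom.app (op U)) ≫ A.ι U hU) : IsClosedImmersion ε := by
  apply Helper27RelProj4.of_charts (P := @IsClosedImmersion)
  intro c
  obtain ⟨U, hU, hcU, -⟩ := exists_isAffineOpen_mem_and_subset (x := A.π c) (U := ⊤) trivial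
  refine ⟨_, _, hU.fromSpec, A.ι U hU, inferInstance, inferInstance,
    Spec.map (aug.hom.app (op U)), ?_, ?_, hc U hU, ?_⟩
  · rw [← A.π_preimage U hU]
    exact hcU
  · apply IsClosedImmersion.spec_of_surjective
    exact aug_surjective A aug U
  · rw [hU.opensRange_fromSpec, ← A.π_preimage U hU, ← Scheme.Hom.comp_preimage, hπ]
    rfl

end Spec

end Groth.Agent.Lib.Helper27Cone
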