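import Mathlib
import Groth.Prelude.Def_Cone

/-!
# The canonical retraction `E → Proj S` of the pointed affine cone: point formula (helper27)
-/

set_option autoImplicit false
universe u

open CategoryTheory AlgebraicGeometry HomogeneousLocalization TopologicalSpace Opposite
open scoped HomogeneousIdeal

namespace Groth.Agent.Lib.Helper27ConeRetr

section Away

variable {A σ : Type u} [CommRing A] [SetLike σ A] [AddSubgroupClass σ A]
  (𝒜 : ℕ → σ) [GradedRing 𝒜]

/-- homogeneous elements of positive degree in the prime `awayι 𝔯`. -/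
theorem mem_awayι_iff {d n : ℕ} (hd : 0 < d) (hn : 0 < n) {f a : A} (hf : f ∈ 𝒜 d)
    (ha : a ∈ 𝒜 n) (𝔯 : Spec (CommRingCat.of (Away 𝒜 f))) :
    a ∈ ((Proj.awayι 𝒜 f hf hd) 𝔯).asHomogeneousIdeal ↔
      Away.isLocalizationElem hf ha ∈ 𝔯.asIdeal := by
  have e := Proj.awayι_preimage_basicOpen 𝒜 hf hd ha hn
  have h1 : 𝔯 ∈ (Proj.awayι 𝒜 f hf hd ⁻¹ᵁ Proj.basicOpen 𝒜 a) ↔
      𝔯 ∈ (PrimeSpectrum.basicOpen (Away.isLocalizationElem hf ha)) := by
    rw [e]
    rfl
  have h3 : 𝔯 ∈ (Proj.awayι 𝒜 f hf hd ⁻¹ᵁ Proj.basicOpen 𝒜 a) ↔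
      a ∉ ((Proj.awayι 𝒜 f hf hd) 𝔯).asHomogeneousIdeal := Proj.mem_basicOpen _ _ _
  rw [← not_iff_not]
  exact h3.symm.trans h1

theorem homogeneousIdeal_le_of {I J : HomogeneousIdeal 𝒜}
    (h : ∀ (n : ℕ) (a : A), a ∈ 𝒜 n → a ∈ I → a ∈ J) : I ≤ J := by
  classical
  intro x hx
  rw [← DirectSum.sum_support_decompose 𝒜 x]
  exact Ideal.sum_mem _ fun i _ => h i _ (SetLike.coe_mem _) (I.isHomogeneous i hx)

end Away

section Cone

variable {R A : Type u} [CommRing R] [CommRing A] [Algebra R A] {𝒜 : ℕ → Submodule R A}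
  [GradedAlgebra 𝒜]

theorem chart_ι {d : ℕ} {f : A} (hf : f ∈ 𝒜 d) (hd : 0 < d) :
    Cone.chart hf hd ≫ (Cone.pointed 𝒜).ι =
      Spec.map (CommRingCat.ofHom (algebraMap A (Localization.Away f))) :=
  IsOpenImmersion.lift_fac _ _ _

theorem ι_chart_asIdeal {d : ℕ} {f : A} (hf : f ∈ 𝒜 d) (hd : 0 < d)
    (q : Spec (CommRingCat.of (Localization.Away f))) :
    ((Cone.pointed 𝒜).ι (Cone.chart hf hd q)).asIdeal =
      Ideal.comap (algebraMap A (Localization.Away f)) q.asIdeal := by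
  have := congrArg (fun φ : Spec (CommRingCat.of (Localization.Away f)) ⟶
    Spec (CommRingCat.of A) => (φ q).asIdeal) (chart_ι hf hd)
  exact this

theorem not_mem_ι_chart {d : ℕ} {f : A} (hf : f ∈ 𝒜 d) (hd : 0 < d)
    (q : Spec (CommRingCat.of (Localization.Away f))) :
    f ∉ ((Cone.pointed 𝒜).ι (Cone.chart hf hd q)).asIdeal := by
  rw [ι_chart_asIdeal, Ideal.mem_comap]
  intro hmem
  exact q.isPrime.ne_top
    (Ideal.eq_top_of_isUnit_mem _ hmem (IsLocalization.Away.algebraMap_isUnit f))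

theorem exists_chart_eq (x : (Cone.pointed 𝒜 : Scheme.{u})) :
    ∃ (d : ℕ) (f : A) (hd : 0 < d) (hf : f ∈ 𝒜 d)
      (q : Spec (CommRingCat.of (Localization.Away f))), Cone.chart hf hd q = x := by
  have hx : ¬ ((𝒜₊).toIdeal ≤ ((Cone.pointed 𝒜).ι x).asIdeal) := by
    intro hle
    exact x.2 ((PrimeSpectrum.mem_zeroLocus _ _).mpr hle)
  rw [HomogeneousIdeal.toIdeal_irrelevant_le] at hx
  push Not at hx
  obtain ⟨d, hd, hx⟩ := hx
  obtain ⟨f, hf, hfx⟩ := SetLike.not_le_iff_exists.mp hx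
  have hmem : ((Cone.pointed 𝒜).ι x) ∈ (PrimeSpectrum.basicOpen f : Set (PrimeSpectrum A)) := hfx
  rw [← PrimeSpectrum.localization_away_comap_range (Localization.Away f) f] at hmem
  obtain ⟨q, hq⟩ := hmem
  refine ⟨d, f, hd, hf, q, ?_⟩
  apply (Cone.pointed 𝒜).ι.isOpenEmbedding.injective
  have h1 : (Cone.pointed 𝒜).ι (Cone.chart hf hd q) =
      (Spec.map (CommRingCat.ofHom (algebraMap A (Localization.Away f)))) q :=
    congrArg (fun φ : Spec (CommRingCat.of (Localization.Away f)) ⟶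
      Spec (CommRingCat.of A) => φ q) (chart_ι hf hd)
  rw [h1]
  exact hq

variable (π : (Cone.pointed 𝒜 : Scheme.{u}) ⟶ Proj 𝒜)
  (hπ : ∀ (d : ℕ) (f : A) (hd : 0 < d) (hf : f ∈ 𝒜 d),
    Cone.chart hf hd ≫ π =
      Spec.map (CommRingCat.ofHom (algebraMap (HomogeneousLocalization.Away 𝒜 f)
        (Localization.Away f))) ≫ Proj.awayι 𝒜 f hf hd)

include hπ in
theorem mem_π_chart_iff_pos {d : ℕ} {f : A} (hf : f ∈ 𝒜 d) (hd : 0 < d)
    (q : Spec (CommRingCat.of (Localization.Away f))) {n : ℕ} (hn : 0 < n) {a : A}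
    (ha : a ∈ 𝒜 n) :
    a ∈ (π (Cone.chart hf hd q)).asHomogeneousIdeal ↔
      a ∈ ((Cone.pointed 𝒜).ι (Cone.chart hf hd q)).asIdeal := by
  have e1 : π (Cone.chart hf hd q) = (Proj.awayι 𝒜 f hf hd)
      ((Spec.map (CommRingCat.ofHom (algebraMap (HomogeneousLocalization.Away 𝒜 f)
        (Localization.Away f)))) q) :=
    congrArg (fun φ : Spec (CommRingCat.of (Localization.Away f)) ⟶ Proj 𝒜 => φ q)
      (hπ d f hd hf)
  rw [e1, mem_awayι_iff 𝒜 hd hn hf ha, ι_chart_asIdeal, Ideal.mem_comap]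
  change algebraMap (HomogeneousLocalization.Away 𝒜 f) (Localization.Away f)
    (Away.isLocalizationElem hf ha) ∈ q.asIdeal ↔ _
  rw [HomogeneousLocalization.algebraMap_apply, Away.isLocalizationElem, Away.val_mk]
  have key : Localization.mk (a ^ d) (⟨f ^ n, ⟨n, rfl⟩⟩ : Submonoid.powers f) *
      algebraMap A (Localization.Away f) (f ^ n) = algebraMap A (Localization.Away f) a ^ d := by
    rw [Localization.mk_eq_mk', ← map_pow]
    exact IsLocalization.mk'_spec _ _ _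
  have hunit : IsUnit (algebraMap A (Localization.Away f) (f ^ n)) := by
    rw [map_pow]
    exact (IsLocalization.Away.algebraMap_isUnit f).pow n
  constructor
  · intro h
    have h2 := Ideal.mul_mem_right (algebraMap A (Localization.Away f) (f ^ n)) _ h
    rw [key] at h2
    exact q.isPrime.mem_of_pow_mem d h2
  · intro h
    have h2 : algebraMap A (Localization.Away f) a ^ d ∈ q.asIdeal :=
      Ideal.pow_mem_of_mem _ h d hd
    rw [← key] at h2
    rcases q.isPrime.mem_or_mem h2 with h3 | h3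
    · exact h3
    · exact absurd (Ideal.eq_top_of_isUnit_mem _ h3 hunit) q.isPrime.ne_top

include hπ in
theorem mem_π_iff (x : (Cone.pointed 𝒜 : Scheme.{u})) {n : ℕ} {a : A} (ha : a ∈ 𝒜 n) :
    a ∈ (π x).asHomogeneousIdeal ↔ a ∈ ((Cone.pointed 𝒜).ι x).asIdeal := by
  obtain ⟨d, f, hd, hf, q, rfl⟩ := exists_chart_eq x
  have hf1 : f ∉ ((Cone.pointed 𝒜).ι (Cone.chart hf hd q)).asIdeal := not_mem_ι_chart hf hd q
  have hf2 : f ∉ (π (Cone.chart hf hd q)).asHomogeneousIdeal := by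
    rw [mem_π_chart_iff_pos π hπ hf hd q hd hf]
    exact hf1
  have haf : a * f ∈ 𝒜 (n + d) := SetLike.mul_mem_graded ha hf
  have h1 := mem_π_chart_iff_pos π hπ hf hd q (Nat.add_pos_right n hd) haf
  constructor
  · intro h
    have h2 := h1.mp (Ideal.mul_mem_right f _ h)
    rcases ((Cone.pointed 𝒜).ι (Cone.chart hf hd q)).isPrime.mem_or_mem h2 with h3 | h3
    · exact h3
    · exact absurd h3 hf1
  · intro h
    have h2 := h1.mpr (Ideal.mul_mem_right f _ h)
    rcases (π (Cone.chart hf hd q)).isPrime.mem_or_mem h2 with h3 | h3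
    · exact h3
    · exact absurd h3 hf2

include hπ in
theorem π_asHomogeneousIdeal (x : (Cone.pointed 𝒜 : Scheme.{u})) :
    (π x).asHomogeneousIdeal = (((Cone.pointed 𝒜).ι x).asIdeal).homogeneousCore 𝒜 := by
  apply le_antisymm
  · apply homogeneousIdeal_le_of
    intro n a ha h
    exact Ideal.mem_homogeneousCore_of_homogeneous_of_mem ⟨n, ha⟩
      ((mem_π_iff π hπ x ha).mp h)
  · apply homogeneousIdeal_le_of
    intro n a ha h
    exact (mem_π_iff π hπ x ha).mpr (Ideal.toIdeal_homogeneousCore_le 𝒜 _ h)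

end Cone

end Groth.Agent.Lib.Helper27ConeRetr
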