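import Groth.Agent.Lib.Helper27Cone9
import Groth.Agent.Lib.Helper27ConeRetr

/-!
# The canonical retraction of the pointed projective cone: charts and point formula (helper27)
-/

set_option autoImplicit false
universe u

open CategoryTheory CategoryTheory.Limits AlgebraicGeometry TopologicalSpace Opposite
  HomogeneousLocalization
open scoped HomogeneousIdeal

namespace Groth.Agent.Lib.Helper27Cone

open RelSpec

section Graded

variable {A B σ τ : Type u} [CommRing A] [SetLike σ A] [AddSubgroupClass σ A]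
  [CommRing B] [SetLike τ B] [AddSubgroupClass τ B]
  {𝒜 : ℕ → σ} {ℬ : ℕ → τ} [GradedRing 𝒜] [GradedRing ℬ]
  (ψ : 𝒜 →+*ᵍ ℬ)

theorem map_isLocalizationElem {d n : ℕ} {f a : A} (hf : f ∈ 𝒜 d) (ha : a ∈ 𝒜 n) :
    Away.map ψ f (Away.isLocalizationElem hf ha) =
      Away.isLocalizationElem (ψ.2 hf) (ψ.2 ha) := by
  unfold Away.isLocalizationElem
  rw [Away.map_mk]
  ext
  simp

/-- homogeneous elements of positive degree of the image point under `Spec (Away.map ψ f)`. -/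
theorem mem_awayι_map_iff {d n : ℕ} (hd : 0 < d) (hn : 0 < n) {f a : A} (hf : f ∈ 𝒜 d)
    (ha : a ∈ 𝒜 n) (y : Spec (CommRingCat.of (Away ℬ (ψ f)))) :
    a ∈ ((Proj.awayι 𝒜 f hf hd)
      ((Spec.map (CommRingCat.ofHom (Away.map ψ f))) y)).asHomogeneousIdeal ↔
      ψ a ∈ ((Proj.awayι ℬ (ψ f) (ψ.2 hf) hd) y).asHomogeneousIdeal := by
  refine (Helper27ConeRetr.mem_awayι_iff 𝒜 hd hn hf ha _).trans
    (Iff.trans ?_ (Helper27ConeRetr.mem_awayι_iff ℬ hd hn (ψ.2 hf) (ψ.2 ha) y).symm)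
  rw [← map_isLocalizationElem ψ hf ha]
  rfl

/-- a point of `Proj` is determined by its homogeneous elements of positive degree. -/
theorem proj_ext_of_pos {Q Q' : Proj 𝒜}
    (hQ : ∀ (n : ℕ) (a : A), 0 < n → a ∈ 𝒜 n →
      (a ∈ Q.asHomogeneousIdeal ↔ a ∈ Q'.asHomogeneousIdeal)) : Q = Q' := by
  have key : ∀ (Q Q' : Proj 𝒜), (∀ (n : ℕ) (a : A), 0 < n → a ∈ 𝒜 n →
      (a ∈ Q.asHomogeneousIdeal ↔ a ∈ Q'.asHomogeneousIdeal)) →
      Q.asHomogeneousIdeal ≤ Q'.asHomogeneousIdeal := by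
    intro Q Q' hQ
    apply Helper27ConeRetr.homogeneousIdeal_le_of
    intro n a ha haQ
    have hrel := Q.not_irrelevant_le
    rw [HomogeneousIdeal.irrelevant_le] at hrel
    push Not at hrel
    obtain ⟨d, hd, hrel⟩ := hrel
    obtain ⟨f, hf, hfQ⟩ := SetLike.not_le_iff_exists.mp hrel
    have hf' : f ∈ 𝒜 d := hf
    have hfQ' : f ∉ Q'.asHomogeneousIdeal := fun h => hfQ ((hQ d f hd hf').mpr h)
    have haf : a * f ∈ 𝒜 (n + d) := SetLike.mul_mem_graded ha hf'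
    have h1 : a * f ∈ Q'.asHomogeneousIdeal :=
      (hQ (n + d) (a * f) (Nat.add_pos_right n hd) haf).mp (Ideal.mul_mem_right f _ haQ)
    rcases Q'.isPrime.mem_or_mem h1 with h2 | h2
    · exact h2
    · exact absurd h2 hfQ'
  apply ProjectiveSpectrum.ext
  exact le_antisymm (key Q Q' hQ) (key Q' Q fun n a hn ha => (hQ n a hn ha).symm)

theorem exists_homogeneous_not_mem (I : Ideal B) {a : A}
    (ha : a ∈ (HomogeneousIdeal.irrelevant 𝒜).toIdeal) (hfa : ψ a ∉ I) :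
    ∃ (d : ℕ) (a' : A), 0 < d ∧ a' ∈ 𝒜 d ∧ ψ a' ∉ I := by
  classical
  by_contra hcon
  push Not at hcon
  apply hfa
  rw [← DirectSum.sum_support_decompose 𝒜 a, map_sum]
  refine Ideal.sum_mem _ fun d _ => ?_
  by_cases hd : d = 0
  · subst hd
    have ha' : a ∈ HomogeneousIdeal.irrelevant 𝒜 := ha
    rw [HomogeneousIdeal.mem_irrelevant_iff, GradedRing.proj_apply] at ha'
    rw [ha', map_zero]
    exact zero_mem _
  · exact hcon d _ (Nat.pos_of_ne_zero hd) (SetLike.coe_mem _)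

end Graded

section Rel

variable {Y PC P : Scheme.{u}} {𝒮 𝒮h : RelProj.QCGrAlg Y} {ι : 𝒮.toQCAlg ⟶ 𝒮h.toQCAlg}
  {z : 𝒮h.presheaf.obj (op ⊤)} (hz : RelCone.IsPolyOver 𝒮 𝒮h ι z)
  (pC : PC ⟶ Y)
  (chartC : ∀ (U : Y.Opens) (hU : IsAffineOpen U),
    (((pC ⁻¹ᵁ U : PC.Opens) : Scheme.{u}) ≅ Proj (𝒮h.deg U hU)))

theorem mem_pointedProjCone_iff (c : PC) :
    c ∈ RelCone.pointedProjCone 𝒮 hz pC chartC ↔
      ∃ (U : Y.Opens) (hU : IsAffineOpen U) (Q : Proj (𝒮h.deg U hU)),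
        Q ∈ RelCone.domOpen (RelProj.gradedHomAt ι hz.graded U hU) ∧
          (RelProj.emb pC chartC U hU) Q = c := by
  rw [RelCone.pointedProjCone, Opens.mem_iSup]
  constructor
  · rintro ⟨V, Q, hQ, hq⟩
    exact ⟨V.1, V.2, Q, hQ, hq⟩
  · rintro ⟨U, hU, Q, hQ, hq⟩
    exact ⟨⟨U, hU⟩, Q, hQ, hq⟩

theorem awayι_emb_mem (U : Y.Opens) (hU : IsAffineOpen U) {d : ℕ} (hd : 0 < d)
    {f : 𝒮.presheaf.obj (op U)} (hf : f ∈ 𝒮.deg U hU d)
    (y : Spec (CommRingCat.of (Away (𝒮h.deg U hU) ((RelProj.gradedHomAt ι hz.graded U hU) f)))) :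
    (RelProj.emb pC chartC U hU) ((Proj.awayι (𝒮h.deg U hU)
      ((RelProj.gradedHomAt ι hz.graded U hU) f)
      ((RelProj.gradedHomAt ι hz.graded U hU).2 hf) hd) y) ∈
      RelCone.pointedProjCone 𝒮 hz pC chartC := by
  have hmem : (Proj.awayι (𝒮h.deg U hU) ((RelProj.gradedHomAt ι hz.graded U hU) f)
      ((RelProj.gradedHomAt ι hz.graded U hU).2 hf) hd) y ∈
      (Proj.awayι (𝒮h.deg U hU) ((RelProj.gradedHomAt ι hz.graded U hU) f)
        ((RelProj.gradedHomAt ι hz.graded U hU).2 hf) hd).opensRange := ⟨y, rfl⟩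
  rw [Proj.opensRange_awayι] at hmem
  have hP : (Proj.awayι (𝒮h.deg U hU) ((RelProj.gradedHomAt ι hz.graded U hU) f)
      ((RelProj.gradedHomAt ι hz.graded U hU).2 hf) hd) y ∈
      RelCone.domOpen (RelProj.gradedHomAt ι hz.graded U hU) := by
    rw [RelCone.mem_domOpen]
    exact ⟨f, HomogeneousIdeal.mem_irrelevant_of_mem _ hd hf, (Proj.mem_basicOpen _ _ _).mp hmem⟩
  rw [RelCone.pointedProjCone, Opens.mem_iSup]
  exact ⟨⟨U, hU⟩, _, hP, rfl⟩

/-- the standard charts of the pointed projective cone. -/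
noncomputable def gch (U : Y.Opens) (hU : IsAffineOpen U) {d : ℕ} (hd : 0 < d)
    {f : 𝒮.presheaf.obj (op U)} (hf : f ∈ 𝒮.deg U hU d) :
    Spec (CommRingCat.of (Away (𝒮h.deg U hU) ((RelProj.gradedHomAt ι hz.graded U hU) f))) ⟶
      ((RelCone.pointedProjCone 𝒮 hz pC chartC : PC.Opens) : Scheme.{u}) :=
  IsOpenImmersion.lift (RelCone.pointedProjCone 𝒮 hz pC chartC).ι
    (Proj.awayι (𝒮h.deg U hU) ((RelProj.gradedHomAt ι hz.graded U hU) f)
      ((RelProj.gradedHomAt ι hz.graded U hU).2 hf) hd ≫ RelProj.emb pC chartC U hU)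
    (by
      rw [Scheme.Opens.range_ι]
      rintro _ ⟨y, rfl⟩
      exact awayι_emb_mem hz pC chartC U hU hd hf y)

theorem gch_ι (U : Y.Opens) (hU : IsAffineOpen U) {d : ℕ} (hd : 0 < d)
    {f : 𝒮.presheaf.obj (op U)} (hf : f ∈ 𝒮.deg U hU d) :
    gch hz pC chartC U hU hd hf ≫ (RelCone.pointedProjCone 𝒮 hz pC chartC).ι =
      Proj.awayι (𝒮h.deg U hU) ((RelProj.gradedHomAt ι hz.graded U hU) f)
        ((RelProj.gradedHomAt ι hz.graded U hU).2 hf) hd ≫ RelProj.emb pC chartC U hU :=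
  IsOpenImmersion.lift_fac _ _ _

instance gch_isOpenImmersion (U : Y.Opens) (hU : IsAffineOpen U) {d : ℕ} (hd : 0 < d)
    {f : 𝒮.presheaf.obj (op U)} (hf : f ∈ 𝒮.deg U hU d) :
    IsOpenImmersion (gch hz pC chartC U hU hd hf) := by
  have h1 : IsOpenImmersion (gch hz pC chartC U hU hd hf ≫
      (RelCone.pointedProjCone 𝒮 hz pC chartC).ι) := by
    rw [gch_ι]
    infer_instance
  exact IsOpenImmersion.of_comp _ (RelCone.pointedProjCone 𝒮 hz pC chartC).ι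

theorem exists_gch_eq_of_not_mem (U : Y.Opens) (hU : IsAffineOpen U) {d : ℕ} (hd : 0 < d)
    {f : 𝒮.presheaf.obj (op U)} (hf : f ∈ 𝒮.deg U hU d)
    (x : ((RelCone.pointedProjCone 𝒮 hz pC chartC : PC.Opens) : Scheme.{u}))
    (Q : Proj (𝒮h.deg U hU))
    (hQ : (RelCone.pointedProjCone 𝒮 hz pC chartC).ι x = (RelProj.emb pC chartC U hU) Q)
    (hfQ : (RelProj.gradedHomAt ι hz.graded U hU) f ∉ Q.asHomogeneousIdeal) :
    ∃ y, gch hz pC chartC U hU hd hf y = x ∧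
      (Proj.awayι (𝒮h.deg U hU) ((RelProj.gradedHomAt ι hz.graded U hU) f)
        ((RelProj.gradedHomAt ι hz.graded U hU).2 hf) hd) y = Q := by
  have hmem : Q ∈ (Proj.awayι (𝒮h.deg U hU) ((RelProj.gradedHomAt ι hz.graded U hU) f)
      ((RelProj.gradedHomAt ι hz.graded U hU).2 hf) hd).opensRange := by
    rw [Proj.opensRange_awayι]
    exact (Proj.mem_basicOpen _ _ _).mpr hfQ
  obtain ⟨y, rfl⟩ := hmem
  refine ⟨y, ?_, rfl⟩
  apply (RelCone.pointedProjCone 𝒮 hz pC chartC).ι.isOpenEmbedding.injective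
  rw [hQ]
  exact congrArg (fun φ : Spec (CommRingCat.of (Away (𝒮h.deg U hU)
    ((RelProj.gradedHomAt ι hz.graded U hU) f))) ⟶ PC => φ y) (gch_ι hz pC chartC U hU hd hf)

theorem exists_gch_eq (x : ((RelCone.pointedProjCone 𝒮 hz pC chartC : PC.Opens) : Scheme.{u})) :
    ∃ (U : Y.Opens) (hU : IsAffineOpen U) (d : ℕ) (hd : 0 < d) (f : 𝒮.presheaf.obj (op U))
      (hf : f ∈ 𝒮.deg U hU d) (y : Spec (CommRingCat.of (Away (𝒮h.deg U hU)
        ((RelProj.gradedHomAt ι hz.graded U hU) f)))), gch hz pC chartC U hU hd hf y = x := by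
  obtain ⟨U, hU, Q, hQ, hq⟩ := (mem_pointedProjCone_iff hz pC chartC x.1).mp x.2
  rw [RelCone.mem_domOpen] at hQ
  obtain ⟨a, ha, haQ⟩ := hQ
  obtain ⟨d, f, hd, hf, hfQ⟩ := exists_homogeneous_not_mem
    (RelProj.gradedHomAt ι hz.graded U hU) Q.asHomogeneousIdeal.toIdeal ha haQ
  obtain ⟨y, hy, -⟩ := exists_gch_eq_of_not_mem hz pC chartC U hU hd hf x Q hq.symm hfQ
  exact ⟨U, hU, d, hd, f, hf, y, hy⟩

variable (𝒮) in
/-- index type of the standard charts. -/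
structure GIdx where
  /-- the affine open -/
  U : Y.Opens
  /-- is affine -/
  hU : IsAffineOpen U
  /-- the degree -/
  d : ℕ
  /-- is positive -/
  hd : 0 < d
  /-- the homogeneous element -/
  f : 𝒮.presheaf.obj (op U)
  /-- is homogeneous -/
  hf : f ∈ 𝒮.deg U hU d

/-- the cover of the pointed projective cone by the standard charts. -/
noncomputable def coverG :
    ((RelCone.pointedProjCone 𝒮 hz pC chartC : PC.Opens) : Scheme.{u}).OpenCover :=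
  Scheme.Cover.mkOfCovers (GIdx 𝒮)
    (fun k => Spec (CommRingCat.of (Away (𝒮h.deg k.U k.hU)
      ((RelProj.gradedHomAt ι hz.graded k.U k.hU) k.f))))
    (fun k => gch hz pC chartC k.U k.hU k.hd k.hf)
    (fun x => by
      obtain ⟨U, hU, d, hd, f, hf, y, hy⟩ := exists_gch_eq hz pC chartC x
      exact ⟨⟨U, hU, d, hd, f, hf⟩, y, hy⟩)
    (fun k => by change IsOpenImmersion _; infer_instance)

theorem hom_ext_gch {Z : Scheme.{u}}
    (a b : ((RelCone.pointedProjCone 𝒮 hz pC chartC : PC.Opens) : Scheme.{u}) ⟶ Z)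
    (hab : ∀ (U : Y.Opens) (hU : IsAffineOpen U) (d : ℕ) (hd : 0 < d)
      (f : 𝒮.presheaf.obj (op U)) (hf : f ∈ 𝒮.deg U hU d),
      gch hz pC chartC U hU hd hf ≫ a = gch hz pC chartC U hU hd hf ≫ b) : a = b := by
  refine (coverG hz pC chartC).hom_ext _ _ fun k => ?_
  exact hab k.U k.hU k.d k.hd k.f k.hf

theorem map_fromZero (U : Y.Opens) (hU : IsAffineOpen U) (f : 𝒮.presheaf.obj (op U))
    (a : Γ(Y, U)) :
    Away.map (RelProj.gradedHomAt ι hz.graded U hU) f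
      (fromZeroRingHom (𝒮.deg U hU) (Submonoid.powers f) ((𝒮.strZero U hU).hom a)) =
    fromZeroRingHom (𝒮h.deg U hU)
      (Submonoid.powers ((RelProj.gradedHomAt ι hz.graded U hU) f))
      ((𝒮h.strZero U hU).hom a) := by
  apply HomogeneousLocalization.val_injective
  change (HomogeneousLocalization.map (RelProj.gradedHomAt ι hz.graded U hU) _
    (HomogeneousLocalization.mk ⟨0, (𝒮.strZero U hU).hom a, 1, one_mem _⟩)).val =
    (HomogeneousLocalization.mk ⟨0, (𝒮h.strZero U hU).hom a, 1, one_mem _⟩).val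
  rw [HomogeneousLocalization.map_mk, HomogeneousLocalization.val_mk,
    HomogeneousLocalization.val_mk]
  congr 1
  · exact (str_eq hz U a).symm
  · ext
    exact map_one _

variable {pC chartC} {p : P ⟶ Y}
  {chart : ∀ (U : Y.Opens) (hU : IsAffineOpen U),
    (((p ⁻¹ᵁ U : P.Opens) : Scheme.{u}) ≅ Proj (𝒮.deg U hU))}
  {r : ((RelCone.pointedProjCone 𝒮 hz pC chartC : PC.Opens) : Scheme.{u}) ⟶ P}
  (hr : ∀ (U : Y.Opens) (hU : IsAffineOpen U) (d : ℕ) (hd : 0 < d)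
    (f : 𝒮.presheaf.obj (op U)) (hf : f ∈ 𝒮.deg U hU d)
    (g : Spec (CommRingCat.of (HomogeneousLocalization.Away (𝒮h.deg U hU)
      ((RelProj.gradedHomAt ι hz.graded U hU) f))) ⟶
        ((RelCone.pointedProjCone 𝒮 hz pC chartC : PC.Opens) : Scheme.{u})),
    g ≫ (RelCone.pointedProjCone 𝒮 hz pC chartC).ι =
      Proj.awayι (𝒮h.deg U hU) ((RelProj.gradedHomAt ι hz.graded U hU) f)
        ((RelProj.gradedHomAt ι hz.graded U hU).2 hf) hd ≫ RelProj.emb pC chartC U hU →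
    g ≫ r =
      Spec.map (CommRingCat.ofHom (HomogeneousLocalization.Away.map
        (RelProj.gradedHomAt ι hz.graded U hU) f)) ≫
        Proj.awayι (𝒮.deg U hU) f hf hd ≫ RelProj.emb p chart U hU)

include hr in
theorem gch_r (U : Y.Opens) (hU : IsAffineOpen U) {d : ℕ} (hd : 0 < d)
    {f : 𝒮.presheaf.obj (op U)} (hf : f ∈ 𝒮.deg U hU d) :
    gch hz pC chartC U hU hd hf ≫ r =
      Spec.map (CommRingCat.ofHom (HomogeneousLocalization.Away.map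
        (RelProj.gradedHomAt ι hz.graded U hU) f)) ≫
        Proj.awayι (𝒮.deg U hU) f hf hd ≫ RelProj.emb p chart U hU :=
  hr U hU d hd f hf _ (gch_ι hz pC chartC U hU hd hf)

include hr in
/-- the retraction is a morphism over the base. -/
theorem retr_over (hPC : RelProj.IsRelProj 𝒮h pC chartC) (hP : RelProj.IsRelProj 𝒮 p chart) :
    r ≫ p = (RelCone.pointedProjCone 𝒮 hz pC chartC).ι ≫ pC := by
  apply hom_ext_gch hz pC chartC
  intro U hU d hd f hf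
  rw [← Category.assoc, gch_r hz hr U hU hd hf,
    ← Category.assoc (gch hz pC chartC U hU hd hf), gch_ι]
  simp only [Category.assoc]
  rw [emb_comp hPC U hU, emb_comp hP U hU, Proj.awayι_toSpecZero_assoc,
    Proj.awayι_toSpecZero_assoc, ← Spec.map_comp_assoc, ← Spec.map_comp_assoc,
    ← Spec.map_comp_assoc]
  congr 2
  ext a
  exact congrArg val (map_fromZero hz U hU f a)

include hr in
/-- the point formula of the retraction on the pointed projective cone. -/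
theorem retr_apply (U : Y.Opens) (hU : IsAffineOpen U) {d : ℕ} (hd : 0 < d)
    {f : 𝒮.presheaf.obj (op U)} (hf : f ∈ 𝒮.deg U hU d)
    (x : ((RelCone.pointedProjCone 𝒮 hz pC chartC : PC.Opens) : Scheme.{u}))
    (Q : Proj (𝒮h.deg U hU))
    (hQ : (RelCone.pointedProjCone 𝒮 hz pC chartC).ι x = (RelProj.emb pC chartC U hU) Q)
    (hfQ : (RelProj.gradedHomAt ι hz.graded U hU) f ∉ Q.asHomogeneousIdeal) :
    ∃ Q' : Proj (𝒮.deg U hU), r x = (RelProj.emb p chart U hU) Q' ∧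
      ∀ (n : ℕ) (a : 𝒮.presheaf.obj (op U)), 0 < n → a ∈ 𝒮.deg U hU n →
        (a ∈ Q'.asHomogeneousIdeal ↔
          (RelProj.gradedHomAt ι hz.graded U hU) a ∈ Q.asHomogeneousIdeal) := by
  obtain ⟨y, rfl, rfl⟩ := exists_gch_eq_of_not_mem hz pC chartC U hU hd hf x Q hQ hfQ
  refine ⟨(Proj.awayι (𝒮.deg U hU) f hf hd) ((Spec.map (CommRingCat.ofHom
    (HomogeneousLocalization.Away.map (RelProj.gradedHomAt ι hz.graded U hU) f))) y), ?_, ?_⟩
  · exact congrArg (fun φ : Spec (CommRingCat.of (Away (𝒮h.deg U hU)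
      ((RelProj.gradedHomAt ι hz.graded U hU) f))) ⟶ P => φ y) (gch_r hz hr U hU hd hf)
  · intro n a hn ha
    exact mem_awayι_map_iff (RelProj.gradedHomAt ι hz.graded U hU) hd hn hf ha y

variable {i : 𝒮.toQCAlg.spec ⟶ PC} (hi : RelCone.IsConeImm 𝒮 hz pC chartC i)
  {i' : ((RelCone.pointedCone 𝒮 : 𝒮.toQCAlg.spec.Opens) : Scheme.{u}) ⟶
    ((RelCone.pointedProjCone 𝒮 hz pC chartC : PC.Opens) : Scheme.{u})}
  (hi' : i' ≫ (RelCone.pointedProjCone 𝒮 hz pC chartC).ι = (RelCone.pointedCone 𝒮).ι ≫ i)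

include hi in
/-- the pointed affine cone maps into the pointed projective cone. -/
theorem pointedCone_le_preimage :
    (RelCone.pointedCone 𝒮 : 𝒮.toQCAlg.spec.Opens) ≤
      i ⁻¹ᵁ (RelCone.pointedProjCone 𝒮 hz pC chartC) := by
  intro c hc
  have hc' := hc
  rw [RelCone.pointedCone, Opens.mem_iSup] at hc'
  obtain ⟨⟨U, hU0⟩, 𝔭, h𝔭, rfl⟩ := hc'
  have hU : IsAffineOpen U := hU0
  have h𝔭' : 𝔭 ∈ RelCone.vertexCompl (𝒮.deg U hU) := h𝔭
  rw [mem_vertexCompl_iff, HomogeneousIdeal.toIdeal_irrelevant_le] at h𝔭'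
  push Not at h𝔭'
  obtain ⟨d, hd, h𝔭'⟩ := h𝔭'
  obtain ⟨f, hf, hf𝔭⟩ := SetLike.not_le_iff_exists.mp h𝔭'
  change i ((𝒮.toQCAlg.ι U hU) 𝔭) ∈ RelCone.pointedProjCone 𝒮 hz pC chartC
  rw [coneImm_apply hz hi U hU 𝔭, mem_pointedProjCone_iff]
  refine ⟨U, hU, conePt hz U hU 𝔭, ?_, rfl⟩
  rw [RelCone.mem_domOpen]
  refine ⟨f, HomogeneousIdeal.mem_irrelevant_of_mem _ hd hf, ?_⟩
  exact fun hmem => hf𝔭 ((ι_mem_awayι_iff hz U hU 𝔭 hd f hf).mp hmem)

include hr hi hi' in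
/-- the point formula of the canonical retraction of the pointed affine cone. -/
theorem cone_retr_apply (U : Y.Opens) (hU : IsAffineOpen U)
    (x : ((RelCone.pointedCone 𝒮 : 𝒮.toQCAlg.spec.Opens) : Scheme.{u}))
    (𝔭 : Spec (𝒮.presheaf.obj (op U)))
    (hx : (RelCone.pointedCone 𝒮).ι x = (𝒮.toQCAlg.ι U hU) 𝔭) :
    ∃ Q' : Proj (𝒮.deg U hU), (i' ≫ r) x = (RelProj.emb p chart U hU) Q' ∧
      ∀ (n : ℕ) (a : 𝒮.presheaf.obj (op U)), 0 < n → a ∈ 𝒮.deg U hU n →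
        (a ∈ Q'.asHomogeneousIdeal ↔ a ∈ 𝔭.asIdeal) := by
  have h𝔭 : 𝔭 ∈ RelCone.vertexCompl (𝒮.deg U hU) := by
    rw [← ι_mem_pointedCone_iff 𝒮 U hU 𝔭, ← hx]
    exact x.2
  rw [mem_vertexCompl_iff, HomogeneousIdeal.toIdeal_irrelevant_le] at h𝔭
  push Not at h𝔭
  obtain ⟨d, hd, h𝔭⟩ := h𝔭
  obtain ⟨f, hf, hf𝔭⟩ := SetLike.not_le_iff_exists.mp h𝔭
  have hQ : (RelCone.pointedProjCone 𝒮 hz pC chartC).ι (i' x) =
      (RelProj.emb pC chartC U hU) (conePt hz U hU 𝔭) := by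
    have h1 : (RelCone.pointedProjCone 𝒮 hz pC chartC).ι (i' x) =
        i ((RelCone.pointedCone 𝒮).ι x) :=
      congrArg (fun φ : ((RelCone.pointedCone 𝒮 : 𝒮.toQCAlg.spec.Opens) : Scheme.{u}) ⟶ PC =>
        φ x) hi'
    rw [h1, hx]
    exact coneImm_apply hz hi U hU 𝔭
  have hfQ : (RelProj.gradedHomAt ι hz.graded U hU) f ∉
      (conePt hz U hU 𝔭).asHomogeneousIdeal :=
    fun hmem => hf𝔭 ((ι_mem_awayι_iff hz U hU 𝔭 hd f hf).mp hmem)
  obtain ⟨Q', hQ', hmem⟩ := retr_apply hz hr U hU hd hf (i' x) _ hQ hfQ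
  refine ⟨Q', hQ', fun n a hn ha => (hmem n a hn ha).trans ?_⟩
  exact ι_mem_awayι_iff hz U hU 𝔭 hn a ha

include hr hi hi' in
theorem cone_retr_over (hPC : RelProj.IsRelProj 𝒮h pC chartC)
    (hP : RelProj.IsRelProj 𝒮 p chart) :
    (i' ≫ r) ≫ p = (RelCone.pointedCone 𝒮).ι ≫ 𝒮.toQCAlg.π := by
  rw [Category.assoc, retr_over hz hr hPC hP, ← Category.assoc, hi', Category.assoc,
    coneImm_over hz hPC hi]

include hr hi hi' in
theorem cone_retr_surjective :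
    Function.Surjective (i' ≫ r).base := by
  intro Q₀
  obtain ⟨U, hU, hQU, -⟩ := exists_isAffineOpen_mem_and_subset (x := p Q₀) (U := ⊤) trivial
  obtain ⟨Q, rfl⟩ : ∃ Q, (RelProj.emb p chart U hU) Q = Q₀ := by
    have : Q₀ ∈ p ⁻¹ᵁ U := hQU
    rw [← emb_opensRange (chartC := chart) U hU] at this
    exact this
  let 𝔭 : Spec (𝒮.presheaf.obj (op U)) := ⟨Q.asHomogeneousIdeal.toIdeal, Q.isPrime⟩
  have h𝔭 : 𝔭 ∈ RelCone.vertexCompl (𝒮.deg U hU) := by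
    rw [mem_vertexCompl_iff]
    exact Q.not_irrelevant_le
  have hx : (𝒮.toQCAlg.ι U hU) 𝔭 ∈ RelCone.pointedCone 𝒮 :=
    (ι_mem_pointedCone_iff 𝒮 U hU 𝔭).mpr h𝔭
  obtain ⟨Q', hQ', hmem⟩ := cone_retr_apply hz hr hi hi' U hU ⟨_, hx⟩ 𝔭 rfl
  refine ⟨⟨_, hx⟩, hQ'.trans ?_⟩
  congr 1
  exact proj_ext_of_pos fun n a hn ha => hmem n a hn ha

include hr hi hi' in
theorem cone_retr_preimage (hPC : RelProj.IsRelProj 𝒮h pC chartC)
    (hP : RelProj.IsRelProj 𝒮 p chart) (U : Y.Opens) (hU : IsAffineOpen U) {d : ℕ}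
    (hd : 0 < d) {f : 𝒮.presheaf.obj (op U)} (hf : f ∈ 𝒮.deg U hU d)
    (D : (Spec (𝒮.presheaf.obj (op U))).Opens)
    (hD : ∀ 𝔭 : Spec (𝒮.presheaf.obj (op U)), 𝔭 ∈ D ↔ f ∉ 𝔭.asIdeal) :
    (i' ≫ r) ⁻¹ᵁ ((RelProj.emb p chart U hU) ''ᵁ Proj.basicOpen (𝒮.deg U hU) f) =
      (RelCone.pointedCone 𝒮).ι ⁻¹ᵁ ((𝒮.toQCAlg.ι U hU) ''ᵁ D) := by
  ext x
  simp only [SetLike.mem_coe]
  constructor
  · rintro ⟨Q', hQ', hxQ'⟩
    have hxU : (RelCone.pointedCone 𝒮).ι x ∈ 𝒮.toQCAlg.π ⁻¹ᵁ U := by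
      have h1 : p ((i' ≫ r) x) = 𝒮.toQCAlg.π ((RelCone.pointedCone 𝒮).ι x) :=
        congrArg (fun φ : ((RelCone.pointedCone 𝒮 : 𝒮.toQCAlg.spec.Opens) : Scheme.{u}) ⟶ Y =>
          φ x) (cone_retr_over hz hr hi hi' hPC hP)
      change 𝒮.toQCAlg.π ((RelCone.pointedCone 𝒮).ι x) ∈ U
      rw [← h1, ← hxQ']
      have h2 : (RelProj.emb p chart U hU) Q' ∈ (RelProj.emb p chart U hU).opensRange :=
        ⟨Q', rfl⟩
      rw [emb_opensRange (chartC := chart) U hU] at h2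
      exact h2
    rw [𝒮.toQCAlg.π_preimage U hU] at hxU
    obtain ⟨𝔭, h𝔭⟩ := hxU
    obtain ⟨Q'', hQ'', hmem⟩ := cone_retr_apply hz hr hi hi' U hU x 𝔭 h𝔭.symm
    have hQQ : Q'' = Q' :=
      (RelProj.emb p chart U hU).isOpenEmbedding.injective (hQ''.symm.trans hxQ'.symm)
    subst hQQ
    refine ⟨𝔭, ?_, h𝔭⟩
    rw [SetLike.mem_coe, hD, ← hmem d f hd hf]
    exact (Proj.mem_basicOpen _ _ _).mp hQ'
  · rintro ⟨𝔭, h𝔭f, h𝔭⟩
    obtain ⟨Q'', hQ'', hmem⟩ := cone_retr_apply hz hr hi hi' U hU x 𝔭 h𝔭.symm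
    refine ⟨Q'', ?_, hQ''.symm⟩
    rw [SetLike.mem_coe, Proj.mem_basicOpen, hmem d f hd hf, ← hD]
    exact h𝔭f

include hr hi hi' in
theorem cone_retr_isAffineHom (hPC : RelProj.IsRelProj 𝒮h pC chartC)
    (hP : RelProj.IsRelProj 𝒮 p chart) : IsAffineHom (i' ≫ r) := by
  apply isAffineHom_of_forall_exists_isAffineOpen
  intro Q₀
  obtain ⟨U, hU, hQU, -⟩ := exists_isAffineOpen_mem_and_subset (x := p Q₀) (U := ⊤) trivial
  obtain ⟨Q, rfl⟩ : ∃ Q, (RelProj.emb p chart U hU) Q = Q₀ := by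
    have : Q₀ ∈ p ⁻¹ᵁ U := hQU
    rw [← emb_opensRange (chartC := chart) U hU] at this
    exact this
  have hrel := Q.not_irrelevant_le
  rw [HomogeneousIdeal.irrelevant_le] at hrel
  push Not at hrel
  obtain ⟨d, hd, hrel⟩ := hrel
  obtain ⟨f, hf, hfQ⟩ := SetLike.not_le_iff_exists.mp hrel
  have hf' : f ∈ 𝒮.deg U hU d := hf
  refine ⟨(RelProj.emb p chart U hU) ''ᵁ Proj.basicOpen (𝒮.deg U hU) f,
    ⟨Q, (Proj.mem_basicOpen _ _ _).mpr hfQ, rfl⟩,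
    (Proj.isAffineOpen_basicOpen _ f hf' hd).image_of_isOpenImmersion _, ?_⟩
  let D : (Spec (𝒮.presheaf.obj (op U))).Opens := PrimeSpectrum.basicOpen f
  have hD : ∀ 𝔭 : Spec (𝒮.presheaf.obj (op U)), 𝔭 ∈ D ↔ f ∉ 𝔭.asIdeal := fun 𝔭 => Iff.rfl
  rw [cone_retr_preimage hz hr hi hi' hPC hP U hU hd hf' D hD]
  have hV : IsAffineOpen ((𝒮.toQCAlg.ι U hU) ''ᵁ D) := by
    apply IsAffineOpen.image_of_isOpenImmersion
    have h1 : (Spec (𝒮.presheaf.obj (op U))).basicOpen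
        ((Scheme.ΓSpecIso (𝒮.presheaf.obj (op U))).inv f) = D :=
      basicOpen_eq_of_affine (R := 𝒮.presheaf.obj (op U)) f
    rw [← h1]
    exact (isAffineOpen_top _).basicOpen _
  have hle : (𝒮.toQCAlg.ι U hU) ''ᵁ D ≤ RelCone.pointedCone 𝒮 := by
    rintro _ ⟨𝔭, h𝔭, rfl⟩
    refine (ι_mem_pointedCone_iff 𝒮 U hU 𝔭).mpr ?_
    rw [mem_vertexCompl_iff]
    intro hle
    exact (hD 𝔭).mp h𝔭 (hle (HomogeneousIdeal.mem_irrelevant_of_mem _ hd hf'))
  rw [← (RelCone.pointedCone 𝒮).ι.isAffineOpen_iff_of_isOpenImmersion,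
    Scheme.Hom.image_preimage_eq_opensRange_inf, Scheme.Opens.opensRange_ι,
    inf_eq_right.mpr hle]
  exact hV

end Rel

end Groth.Agent.Lib.Helper27Cone
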