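import Groth.Agent.Lib.Helper27Cone

/-!
# Pointed affine cone: independence of charts (helper27)
-/

set_option autoImplicit false
universe u

open CategoryTheory AlgebraicGeometry TopologicalSpace Opposite
open scoped HomogeneousIdeal

namespace Groth.Agent.Lib.Helper27Cone

open RelSpec

section Graded

variable {A B σ τ : Type u} [CommRing A] [SetLike σ A] [AddSubgroupClass σ A]
  [CommRing B] [SetLike τ B] [AddSubgroupClass τ B]
  {𝒜 : ℕ → σ} {ℬ : ℕ → τ} [GradedRing 𝒜] [GradedRing ℬ]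

/-- a graded homomorphism maps the irrelevant ideal into the irrelevant ideal. -/
theorem map_mem_irrelevant (ψ : 𝒜 →+*ᵍ ℬ) {x : A} (hx : x ∈ (𝒜₊).toIdeal) :
    ψ x ∈ (ℬ₊).toIdeal := by
  have h : (𝒜₊).toIdeal ≤ Ideal.comap (ψ : A →+* B) (ℬ₊).toIdeal := by
    rw [HomogeneousIdeal.toIdeal_irrelevant_le]
    intro i hi x hx
    exact HomogeneousIdeal.mem_irrelevant_of_mem _ hi (ψ.2 hx)
  exact h hx

end Graded

theorem mem_vertexCompl_iff {R : CommRingCat.{u}} (𝒜 : ℕ → AddSubgroup R) [GradedRing 𝒜]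
    (𝔭 : Spec R) :
    𝔭 ∈ RelCone.vertexCompl 𝒜 ↔ ¬ ((𝒜₊).toIdeal ≤ 𝔭.asIdeal) := Iff.rfl

section Rel

variable {Y : Scheme.{u}} (𝒮 : RelProj.QCGrAlg Y)

/-- restriction to a basic open and the vertex complement. -/
theorem mem_vertexCompl_res (U : Y.Opens) (hU : IsAffineOpen U) (r : Γ(Y, U))
    (W : Y.Opens) (hW : IsAffineOpen W) (e : W = Y.basicOpen r)
    (𝔴 : Spec (𝒮.presheaf.obj (op W))) :
    (Spec.map (𝒮.presheaf.map (homOfLE (e.le.trans (Y.basicOpen_le r))).op)) 𝔴 ∈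
        RelCone.vertexCompl (𝒮.deg U hU) ↔
      𝔴 ∈ RelCone.vertexCompl (𝒮.deg W hW) := by
  subst e
  rw [mem_vertexCompl_iff, mem_vertexCompl_iff]
  constructor
  · intro h1 h2
    apply h1
    intro f hf
    change (𝒮.res hU hW (Y.basicOpen_le r)) f ∈ 𝔴.asIdeal
    exact h2 (map_mem_irrelevant (𝒮.res hU hW (Y.basicOpen_le r)) hf)
  · intro h1 h2
    apply h1
    have h3 := 𝒮.irrelevant_le_map U hU r
    have h4 : ((𝒮.deg (Y.basicOpen r) hW)₊).toIdeal ≤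
        Ideal.map (𝒮.res hU hW (Y.basicOpen_le r)) ((𝒮.deg U hU)₊).toIdeal := h3
    refine h4.trans ?_
    rw [Ideal.map, Ideal.span_le]
    rintro _ ⟨f, hf, rfl⟩
    exact h2 hf

/-- the vertex complement does not depend on the chart. -/
theorem mem_vertexCompl_of_ι_eq (U : Y.Opens) (hU : IsAffineOpen U) (V : Y.Opens)
    (hV : IsAffineOpen V) (𝔭 : Spec (𝒮.presheaf.obj (op U))) (𝔮 : Spec (𝒮.presheaf.obj (op V)))
    (h : (𝒮.toQCAlg.ι U hU) 𝔭 = (𝒮.toQCAlg.ι V hV) 𝔮) :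
    𝔭 ∈ RelCone.vertexCompl (𝒮.deg U hU) ↔ 𝔮 ∈ RelCone.vertexCompl (𝒮.deg V hV) := by
  set c := (𝒮.toQCAlg.ι U hU) 𝔭 with hc
  have hcU : 𝒮.toQCAlg.π c ∈ U := by
    have : c ∈ 𝒮.toQCAlg.π ⁻¹ᵁ U := by
      rw [𝒮.toQCAlg.π_preimage U hU]
      exact ⟨𝔭, rfl⟩
    exact this
  have hcV : 𝒮.toQCAlg.π c ∈ V := by
    have : c ∈ 𝒮.toQCAlg.π ⁻¹ᵁ V := by
      rw [𝒮.toQCAlg.π_preimage V hV]
      exact ⟨𝔮, h.symm⟩
    exact this
  obtain ⟨r, s, hrs, hx⟩ := exists_basicOpen_le_affine_inter hU hV (𝒮.toQCAlg.π c) ⟨hcU, hcV⟩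
  have hW : IsAffineOpen (Y.basicOpen r) := hU.basicOpen r
  obtain ⟨𝔴, h𝔴⟩ : ∃ 𝔴, (𝒮.toQCAlg.ι (Y.basicOpen r) hW) 𝔴 = c := by
    have : c ∈ 𝒮.toQCAlg.π ⁻¹ᵁ (Y.basicOpen r) := hx
    rw [𝒮.toQCAlg.π_preimage _ hW] at this
    exact this
  let WW : Y.AffineZariskiSite := ⟨Y.basicOpen r, hW⟩
  let UU : Y.AffineZariskiSite := ⟨U, hU⟩
  let VV : Y.AffineZariskiSite := ⟨V, hV⟩
  have hWU : WW ≤ UU := ⟨r, rfl⟩
  have hWV : WW ≤ VV := ⟨s, hrs.symm⟩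
  have e1 := 𝒮.toQCAlg.ι_res (homOfLE hWU)
  have e2 := 𝒮.toQCAlg.ι_res (homOfLE hWV)
  have h1 : (Spec.map (𝒮.presheaf.map (homOfLE ((rfl : Y.basicOpen r = Y.basicOpen r).le.trans
      (Y.basicOpen_le r))).op)) 𝔴 = 𝔭 := by
    apply (𝒮.toQCAlg.ι U hU).isOpenEmbedding.injective
    rw [← hc, ← h𝔴, ← Scheme.Hom.comp_apply]
    exact congrArg (fun φ : _ ⟶ 𝒮.toQCAlg.spec => φ 𝔴) e1
  have h2 : (Spec.map (𝒮.presheaf.map (homOfLE (hrs.le.trans (Y.basicOpen_le s))).op)) 𝔴 = 𝔮 := by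
    apply (𝒮.toQCAlg.ι V hV).isOpenEmbedding.injective
    rw [← h, ← h𝔴, ← Scheme.Hom.comp_apply]
    exact congrArg (fun φ : _ ⟶ 𝒮.toQCAlg.spec => φ 𝔴) e2
  rw [← h1, ← h2, mem_vertexCompl_res 𝒮 U hU r _ hW rfl, mem_vertexCompl_res 𝒮 V hV s _ hW hrs]

theorem ι_mem_pointedCone_iff (U : Y.Opens) (hU : IsAffineOpen U)
    (𝔭 : Spec (𝒮.presheaf.obj (op U))) :
    (𝒮.toQCAlg.ι U hU) 𝔭 ∈ RelCone.pointedCone 𝒮 ↔ 𝔭 ∈ RelCone.vertexCompl (𝒮.deg U hU) := by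
  constructor
  · intro h
    rw [RelCone.pointedCone, Opens.mem_iSup] at h
    obtain ⟨V, 𝔮, h𝔮, hq⟩ := h
    exact (mem_vertexCompl_of_ι_eq 𝒮 U hU V.1 V.2 𝔭 𝔮 hq.symm).mpr h𝔮
  · intro h
    rw [RelCone.pointedCone, Opens.mem_iSup]
    exact ⟨⟨U, hU⟩, 𝔭, h, rfl⟩

variable (aug : 𝒮.toQCAlg ⟶ RelSpec.QCAlg.unit Y)

theorem irrelevant_le_ker_aug (haug : RelCone.IsAugmentation 𝒮 aug) (U : Y.Opens)
    (hU : IsAffineOpen U) :
    ((𝒮.deg U hU)₊).toIdeal ≤ RingHom.ker (aug.hom.app (op U)).hom := by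
  rw [HomogeneousIdeal.toIdeal_irrelevant_le]
  intro i hi x hx
  obtain ⟨d, rfl⟩ : ∃ d, i = d + 1 := ⟨i - 1, by omega⟩
  exact haug U hU d x hx

theorem ker_aug_le_irrelevant (h0 : RelCone.StrZeroBij 𝒮) (haug : RelCone.IsAugmentation 𝒮 aug)
    (U : Y.Opens) (hU : IsAffineOpen U) :
    RingHom.ker (aug.hom.app (op U)).hom ≤ ((𝒮.deg U hU)₊).toIdeal := by
  classical
  intro x hx
  rw [RingHom.mem_ker] at hx
  set x0 : 𝒮.presheaf.obj (op U) :=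
    ((DirectSum.decompose (𝒮.deg U hU) x 0 : 𝒮.deg U hU 0) : 𝒮.presheaf.obj (op U)) with hx0
  have hx0mem : x0 ∈ 𝒮.deg U hU 0 := SetLike.coe_mem _
  have hsub : x - x0 ∈ ((𝒮.deg U hU)₊).toIdeal := by
    change GradedRing.proj (𝒮.deg U hU) 0 (x - x0) = 0
    rw [map_sub, GradedRing.proj_apply, GradedRing.proj_apply,
      DirectSum.decompose_of_mem_same _ hx0mem, sub_self]
  have h1 : (aug.hom.app (op U)).hom (x - x0) = 0 :=
    irrelevant_le_ker_aug 𝒮 aug haug U hU hsub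
  rw [map_sub, hx, zero_sub, neg_eq_zero] at h1
  obtain ⟨r, hr⟩ := (h0 U hU).2 ⟨x0, hx0mem⟩
  have hr' : (𝒮.str.app (op U)).hom r = x0 := congrArg Subtype.val hr
  have h2 : r = 0 := by
    have := aug_str 𝒮.toQCAlg aug U r
    rw [hr', h1] at this
    exact this.symm
  have h3 : x0 = 0 := by rw [← hr', h2, map_zero]
  change GradedRing.proj (𝒮.deg U hU) 0 x = 0
  rw [GradedRing.proj_apply]
  exact h3

theorem pointedCone_eq_compl_range (h0 : RelCone.StrZeroBij 𝒮)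
    (haug : RelCone.IsAugmentation 𝒮 aug) (ε : Y ⟶ 𝒮.toQCAlg.spec)
    (hε : RelCone.IsVertex 𝒮 aug ε) :
    ((RelCone.pointedCone 𝒮 : 𝒮.toQCAlg.spec.Opens) : Set 𝒮.toQCAlg.spec) =
      (Set.range ε.base)ᶜ := by
  ext c
  simp only [Set.mem_compl_iff, SetLike.mem_coe]
  constructor
  · rintro hc ⟨y, rfl⟩
    obtain ⟨U, hU, hyU, -⟩ := exists_isAffineOpen_mem_and_subset (x := y) (U := ⊤) trivial
    obtain ⟨y', rfl⟩ : ∃ y', hU.fromSpec y' = y := by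
      have : y ∈ hU.fromSpec.opensRange := by rw [hU.opensRange_fromSpec]; exact hyU
      exact this
    have e1 : ε (hU.fromSpec y') =
        (𝒮.toQCAlg.ι U hU) ((Spec.map (aug.hom.app (op U))) y') :=
      congrArg (fun φ : Spec Γ(Y, U) ⟶ 𝒮.toQCAlg.spec => φ y') (hε.chart U hU)
    rw [show ε.base (hU.fromSpec y') = ε (hU.fromSpec y') from rfl, e1,
      ι_mem_pointedCone_iff, mem_vertexCompl_iff] at hc
    apply hc
    intro f hf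
    have := irrelevant_le_ker_aug 𝒮 aug haug U hU hf
    rw [RingHom.mem_ker] at this
    change (aug.hom.app (op U)).hom f ∈ y'.asIdeal
    rw [this]
    exact zero_mem _
  · intro hc
    obtain ⟨U, hU, hcU, -⟩ :=
      exists_isAffineOpen_mem_and_subset (x := 𝒮.toQCAlg.π c) (U := ⊤) trivial
    obtain ⟨𝔭, rfl⟩ : ∃ 𝔭, (𝒮.toQCAlg.ι U hU) 𝔭 = c := by
      have : c ∈ 𝒮.toQCAlg.π ⁻¹ᵁ U := hcU
      rw [𝒮.toQCAlg.π_preimage U hU] at this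
      exact this
    rw [ι_mem_pointedCone_iff, mem_vertexCompl_iff]
    intro hle
    apply hc
    have hker : RingHom.ker (aug.hom.app (op U)).hom ≤ 𝔭.asIdeal :=
      (ker_aug_le_irrelevant 𝒮 aug h0 haug U hU).trans hle
    have hmem : 𝔭 ∈ PrimeSpectrum.zeroLocus (RingHom.ker (aug.hom.app (op U)).hom : Set _) := hker
    rw [← range_comap_of_surjective _ _ (aug_surjective 𝒮.toQCAlg aug U)] at hmem
    obtain ⟨y', hy'⟩ := hmem
    refine ⟨hU.fromSpec y', ?_⟩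
    have e1 : ε (hU.fromSpec y') =
        (𝒮.toQCAlg.ι U hU) ((Spec.map (aug.hom.app (op U))) y') :=
      congrArg (fun φ : Spec Γ(Y, U) ⟶ 𝒮.toQCAlg.spec => φ y') (hε.chart U hU)
    refine e1.trans ?_
    exact congrArg (𝒮.toQCAlg.ι U hU) hy'

end Rel

end Groth.Agent.Lib.Helper27Cone
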