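import Groth.Agent.Lib.Helper27Cone2

/-!
# The open `G(ψ)` of `Proj` is everything iff ... (helper27)
-/

set_option autoImplicit false
universe u

open CategoryTheory AlgebraicGeometry TopologicalSpace Opposite
open scoped HomogeneousIdeal

namespace Groth.Agent.Lib.Helper27Cone

section Graded

variable {A B σ τ : Type u} [CommRing A] [SetLike σ A] [AddSubgroupClass σ A]
  [CommRing B] [SetLike τ B] [AddSubgroupClass τ B]
  {𝒜 : ℕ → σ} {ℬ : ℕ → τ} [GradedRing 𝒜] [GradedRing ℬ]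

theorem domOpen_eq_top_iff (ψ : 𝒜 →+*ᵍ ℬ) :
    RelCone.domOpen ψ = ⊤ ↔
      ∀ 𝔭 : Ideal B, 𝔭.IsPrime → ¬ ((ℬ₊).toIdeal ≤ 𝔭) → ∃ f ∈ (𝒜₊).toIdeal, ψ f ∉ 𝔭 := by
  constructor
  · intro h 𝔭 h𝔭 hirr
    by_contra hcon
    push Not at hcon
    let P : HomogeneousIdeal ℬ := 𝔭.homogeneousCore ℬ
    have hPle : P.toIdeal ≤ 𝔭 := Ideal.toIdeal_homogeneousCore_le ℬ 𝔭
    let x : Proj ℬ := ⟨P, h𝔭.homogeneousCore, fun hle => hirr (le_trans hle hPle)⟩
    have hx : x ∈ RelCone.domOpen ψ := by rw [h]; trivial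
    rw [RelCone.mem_domOpen] at hx
    obtain ⟨f, hf, hfx⟩ := hx
    apply hfx
    have hJ : ((𝒜₊).map ψ).toIdeal ≤ 𝔭 := by
      rw [HomogeneousIdeal.toIdeal_map, Ideal.map_le_iff_le_comap]
      intro g hg
      exact hcon g hg
    have hJP : (𝒜₊).map ψ ≤ P := (Ideal.homogeneousCore.gc ℬ).le_u hJ
    apply hJP
    change ψ f ∈ ((𝒜₊).map ψ).toIdeal
    rw [HomogeneousIdeal.toIdeal_map]
    exact Ideal.mem_map_of_mem _ hf
  · intro h
    rw [eq_top_iff]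
    intro x _
    rw [RelCone.mem_domOpen]
    exact h x.asHomogeneousIdeal.toIdeal x.isPrime x.not_irrelevant_le

end Graded

end Groth.Agent.Lib.Helper27Cone
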