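import Groth.Agent.Lib.Helper27Cone3
import Groth.Agent.Lib.Helper27PolyGraded

/-!
# The projective cone `Proj(𝒮[z])`: the chart `D_+(z) = Spec 𝒮(U)` (helper27)
-/

set_option autoImplicit false
universe u

open CategoryTheory CategoryTheory.Limits AlgebraicGeometry TopologicalSpace Opposite
  HomogeneousLocalization
open scoped HomogeneousIdeal

namespace Groth.Agent.Lib.Helper27Cone

open RelSpec

section Poly

variable {Y : Scheme.{u}} {𝒮 𝒮h : RelProj.QCGrAlg Y} {ι : 𝒮.toQCAlg ⟶ 𝒮h.toQCAlg}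
  {z : 𝒮h.presheaf.obj (op ⊤)} (h : RelCone.IsPolyOver 𝒮 𝒮h ι z) (U : Y.Opens)
  (hU : IsAffineOpen U)

theorem bij' : Function.Bijective (Polynomial.eval₂RingHom
    ((RelProj.gradedHomAt ι h.graded U hU : 𝒮.deg U hU →+*ᵍ 𝒮h.deg U hU) :
      𝒮.presheaf.obj (op U) →+* 𝒮h.presheaf.obj (op U)) (RelCone.restrictTop 𝒮h z U)) :=
  h.bij U hU

theorem awayZToBase_mk (n : ℕ) (a : 𝒮h.presheaf.obj (op U)) (ha : a ∈ 𝒮h.deg U hU (n • 1)) :
    h.awayZToBase U hU (Away.mk (𝒮h.deg U hU) (h.deg_z U hU) n a ha) = h.evalOne U hU a :=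
  h.awayZToBase_of_val U hU _ a n (Away.val_mk ..)

theorem evalOne_eq (a : 𝒮h.presheaf.obj (op U)) :
    h.evalOne U hU a = ((h.polyEquiv U hU).symm a).eval 1 := rfl

theorem awayZToBase_injective : Function.Injective (h.awayZToBase U hU) := by
  rw [injective_iff_map_eq_zero]
  intro q hq
  obtain ⟨n, a, ha, rfl⟩ := Away.mk_surjective (𝒮h.deg U hU) (h.deg_z U hU) q
  rw [awayZToBase_mk, evalOne_eq] at hq
  have ha' : a ∈ 𝒮h.deg U hU n := by simpa using ha
  have hpa : Polynomial.eval₂ ((RelProj.gradedHomAt ι h.graded U hU : 𝒮.deg U hU →+*ᵍ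
      𝒮h.deg U hU) : 𝒮.presheaf.obj (op U) →+* 𝒮h.presheaf.obj (op U))
      (RelCone.restrictTop 𝒮h z U) ((h.polyEquiv U hU).symm a) = a :=
    (h.polyEquiv U hU).apply_symm_apply a
  have hp0 : (h.polyEquiv U hU).symm a = 0 :=
    Helper27PolyGraded.eq_zero_of_eval_one (RelProj.gradedHomAt ι h.graded U hU)
      (h.deg_z U hU) (bij' h U hU).1 _ (hpa.symm ▸ ha') hq
  have ha0 : a = 0 := by
    rw [← hpa, hp0, Polynomial.eval₂_zero]
  subst ha0
  apply HomogeneousLocalization.val_injective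
  rw [Away.val_mk, HomogeneousLocalization.val_zero, Localization.mk_zero]

theorem awayZToBase_surjective : Function.Surjective (h.awayZToBase U hU) := by
  classical
  intro x
  have hk : ∀ k, ((DirectSum.decompose (𝒮.deg U hU) x k : 𝒮.deg U hU k) :
      𝒮.presheaf.obj (op U)) ∈ (h.awayZToBase U hU).range := by
    intro k
    have hmem : (RelProj.gradedHomAt ι h.graded U hU)
        ((DirectSum.decompose (𝒮.deg U hU) x k : 𝒮.deg U hU k) : 𝒮.presheaf.obj (op U)) ∈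
        𝒮h.deg U hU (k • 1) := by
      rw [smul_eq_mul, mul_one]
      exact (RelProj.gradedHomAt ι h.graded U hU).2 (SetLike.coe_mem _)
    refine ⟨Away.mk (𝒮h.deg U hU) (h.deg_z U hU) k _ hmem, ?_⟩
    rw [awayZToBase_mk]
    exact h.evalOne_ι U hU _
  have := Subring.sum_mem (h.awayZToBase U hU).range
    (fun k (_ : k ∈ (DirectSum.decompose (𝒮.deg U hU) x).support) => hk k)
  rw [DirectSum.sum_support_decompose (𝒮.deg U hU) x] at this
  exact this

theorem awayZToBase_bijective : Function.Bijective (h.awayZToBase U hU) :=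
  ⟨awayZToBase_injective h U hU, awayZToBase_surjective h U hU⟩

/-- every prime of `𝒮h(U)_(z)` comes from a prime of `𝒮(U)`. -/
theorem exists_comap_awayZToBase
    (𝔮 : Spec (CommRingCat.of (Away (𝒮h.deg U hU) (RelCone.restrictTop 𝒮h z U)))) :
    ∃ 𝔭 : Spec (𝒮.presheaf.obj (op U)),
      (Spec.map (CommRingCat.ofHom (h.awayZToBase U hU))) 𝔭 = 𝔮 := by
  have : IsIso (CommRingCat.ofHom (h.awayZToBase U hU)) := by
    rw [ConcreteCategory.isIso_iff_bijective]
    exact awayZToBase_bijective h U hU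
  have h2 : IsIso (Spec.map (CommRingCat.ofHom (h.awayZToBase U hU))) := inferInstance
  exact ⟨(inv (Spec.map (CommRingCat.ofHom (h.awayZToBase U hU)))) 𝔮, by
    rw [← Scheme.Hom.comp_apply, IsIso.inv_hom_id]; rfl⟩

/-- membership of `ι f` in the homogeneous prime attached to a prime of `𝒮(U)`. -/
theorem ι_mem_awayι_iff (𝔭 : Spec (𝒮.presheaf.obj (op U))) {d : ℕ} (hd : 0 < d)
    (f : 𝒮.presheaf.obj (op U)) (hf : f ∈ 𝒮.deg U hU d) :
    (RelProj.gradedHomAt ι h.graded U hU) f ∈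
      ((Proj.awayι (𝒮h.deg U hU) (RelCone.restrictTop 𝒮h z U) (h.deg_z U hU) one_pos)
        ((Spec.map (CommRingCat.ofHom (h.awayZToBase U hU))) 𝔭)).asHomogeneousIdeal ↔
      f ∈ 𝔭.asIdeal := by
  set 𝔮 := (Spec.map (CommRingCat.ofHom (h.awayZToBase U hU))) 𝔭 with h𝔮
  have g_deg : (RelProj.gradedHomAt ι h.graded U hU) f ∈ 𝒮h.deg U hU d :=
    (RelProj.gradedHomAt ι h.graded U hU).2 hf
  have e := Proj.awayι_preimage_basicOpen (𝒮h.deg U hU) (h.deg_z U hU) one_pos g_deg hd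
  have h1 : 𝔮 ∈ (Proj.awayι (𝒮h.deg U hU) (RelCone.restrictTop 𝒮h z U) (h.deg_z U hU) one_pos ⁻¹ᵁ
      Proj.basicOpen (𝒮h.deg U hU) ((RelProj.gradedHomAt ι h.graded U hU) f)) ↔
      𝔮 ∈ (PrimeSpectrum.basicOpen (Away.isLocalizationElem (h.deg_z U hU) g_deg)) := by
    rw [e]
    rfl
  have h2 : h.awayZToBase U hU (Away.isLocalizationElem (h.deg_z U hU) g_deg) = f := by
    rw [Away.isLocalizationElem, awayZToBase_mk, pow_one]
    exact h.evalOne_ι U hU f
  rw [← not_iff_not]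
  have h3 : 𝔮 ∈ (Proj.awayι (𝒮h.deg U hU) (RelCone.restrictTop 𝒮h z U) (h.deg_z U hU) one_pos ⁻¹ᵁ
      Proj.basicOpen (𝒮h.deg U hU) ((RelProj.gradedHomAt ι h.graded U hU) f)) ↔
      (RelProj.gradedHomAt ι h.graded U hU) f ∉
        ((Proj.awayι (𝒮h.deg U hU) (RelCone.restrictTop 𝒮h z U) (h.deg_z U hU) one_pos)
          𝔮).asHomogeneousIdeal := Proj.mem_basicOpen _ _ _
  rw [← h3]
  refine h1.trans ?_
  have h5 : 𝔮 ∈ (PrimeSpectrum.basicOpen (Away.isLocalizationElem (h.deg_z U hU) g_deg)) ↔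
      Away.isLocalizationElem (h.deg_z U hU) g_deg ∉ 𝔮.asIdeal := Iff.rfl
  refine h5.trans ?_
  have h4 : Away.isLocalizationElem (h.deg_z U hU) g_deg ∈ 𝔮.asIdeal ↔
      h.awayZToBase U hU (Away.isLocalizationElem (h.deg_z U hU) g_deg) ∈ 𝔭.asIdeal := Iff.rfl
  rw [h4, h2]

end Poly

end Groth.Agent.Lib.Helper27Cone
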