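import Groth.Agent.Lib.Helper27Cone5

/-!
# The pointed projective cone is the complement of the vertex, II (helper27)
-/

set_option autoImplicit false
universe u

open CategoryTheory CategoryTheory.Limits AlgebraicGeometry TopologicalSpace Opposite
  HomogeneousLocalization
open scoped HomogeneousIdeal

namespace Groth.Agent.Lib.Helper27Cone

open RelSpec

section Glob

variable {Y : Scheme.{u}} {𝒮 𝒮h : RelProj.QCGrAlg Y} {ι : 𝒮.toQCAlg ⟶ 𝒮h.toQCAlg}
  {z : 𝒮h.presheaf.obj (op ⊤)} (h : RelCone.IsPolyOver 𝒮 𝒮h ι z)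
  {PC : Scheme.{u}} {pC : PC ⟶ Y}
  {chartC : ∀ (U : Y.Opens) (hU : IsAffineOpen U),
    (((pC ⁻¹ᵁ U : PC.Opens) : Scheme.{u}) ≅ Proj (𝒮h.deg U hU))}
  {i : 𝒮.toQCAlg.spec ⟶ PC} (hi : RelCone.IsConeImm 𝒮 h pC chartC i)

include hi in
theorem coneImm_apply (U : Y.Opens) (hU : IsAffineOpen U) (𝔭 : Spec (𝒮.presheaf.obj (op U))) :
    i ((𝒮.toQCAlg.ι U hU) 𝔭) = (RelProj.emb pC chartC U hU) (conePt h U hU 𝔭) :=
  congrArg (fun φ : Spec (𝒮.presheaf.obj (op U)) ⟶ PC => φ 𝔭) (hi U hU)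

variable {aug : 𝒮.toQCAlg ⟶ RelSpec.QCAlg.unit Y} {ε : Y ⟶ 𝒮.toQCAlg.spec}
  (hε : RelCone.IsVertex 𝒮 aug ε)

include hi hε in
theorem vertex_apply (U : Y.Opens) (hU : IsAffineOpen U) (y' : Spec Γ(Y, U)) :
    (ε ≫ i) (hU.fromSpec y') =
      (RelProj.emb pC chartC U hU) (conePt h U hU ((Spec.map (aug.hom.app (op U))) y')) := by
  have e1 : ε (hU.fromSpec y') = (𝒮.toQCAlg.ι U hU) ((Spec.map (aug.hom.app (op U))) y') :=
    congrArg (fun φ : Spec Γ(Y, U) ⟶ 𝒮.toQCAlg.spec => φ y') (hε.chart U hU)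
  change i (ε (hU.fromSpec y')) = _
  rw [e1]
  exact coneImm_apply h hi U hU _

include hi hε in
theorem pointedProjCone_eq (h0 : RelCone.StrZeroBij 𝒮) (haug : RelCone.IsAugmentation 𝒮 aug)
    (hPC : RelProj.IsRelProj 𝒮h pC chartC) :
    ((RelCone.pointedProjCone 𝒮 h pC chartC : PC.Opens) : Set PC) =
      (Set.range (ε ≫ i).base)ᶜ := by
  ext c
  simp only [Set.mem_compl_iff, SetLike.mem_coe]
  constructor
  · rintro hc ⟨y, rfl⟩
    rw [RelCone.pointedProjCone, Opens.mem_iSup] at hc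
    obtain ⟨V, P', hP', hq⟩ := hc
    have hV : IsAffineOpen V.1 := V.2
    have hyV : y ∈ V.1 := by
      have h1 : (ε ≫ i ≫ pC) y = y := by
        rw [coneImm_over h hPC hi, hε.comp_π]
        rfl
      have h2 : (RelProj.emb pC chartC V.1 hV) P' ∈ pC ⁻¹ᵁ V.1 := by
        rw [← emb_opensRange (chartC := chartC) V.1 hV]
        exact ⟨P', rfl⟩
      have h3 : pC ((RelProj.emb pC chartC V.1 hV) P') ∈ V.1 := h2
      have h4 : (RelProj.emb pC chartC V.1 hV) P' = (ε ≫ i) y := hq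
      rw [h4] at h3
      have h5 : pC ((ε ≫ i) y) = (ε ≫ i ≫ pC) y := rfl
      rw [h5, h1] at h3
      exact h3
    obtain ⟨y', rfl⟩ : ∃ y', hV.fromSpec y' = y := by
      have : y ∈ hV.fromSpec.opensRange := by
        rw [hV.opensRange_fromSpec]
        exact hyV
      exact this
    have hq' : (RelProj.emb pC chartC V.1 hV) P' = (ε ≫ i) (hV.fromSpec y') := hq
    rw [vertex_apply h hi hε V.1 hV y'] at hq'
    have hPeq := (RelProj.emb pC chartC V.1 hV).isOpenEmbedding.injective hq'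
    rw [hPeq] at hP'
    refine conePt_not_mem_domOpen h V.1 hV _ ?_ hP'
    intro f hf
    have := irrelevant_le_ker_aug 𝒮 aug haug V.1 hV hf
    rw [RingHom.mem_ker] at this
    change (aug.hom.app (op V.1)).hom f ∈ y'.asIdeal
    rw [this]
    exact zero_mem _
  · intro hc
    obtain ⟨U, hU, hcU, -⟩ := exists_isAffineOpen_mem_and_subset (x := pC c) (U := ⊤) trivial
    obtain ⟨P, rfl⟩ : ∃ P, (RelProj.emb pC chartC U hU) P = c := by
      have : c ∈ pC ⁻¹ᵁ U := hcU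
      rw [← emb_opensRange (chartC := chartC) U hU] at this
      exact this
    by_contra hcon
    have hP : P ∉ RelCone.domOpen (RelProj.gradedHomAt ι h.graded U hU) := by
      intro hP
      apply hcon
      rw [RelCone.pointedProjCone, Opens.mem_iSup]
      exact ⟨⟨U, hU⟩, P, hP, rfl⟩
    obtain ⟨𝔭, hle, rfl⟩ := exists_of_not_mem_domOpen h U hU P hP
    have hker := (ker_aug_le_irrelevant 𝒮 aug h0 haug U hU).trans hle
    have hmem : 𝔭 ∈ PrimeSpectrum.zeroLocus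
        (RingHom.ker (aug.hom.app (op U)).hom : Set _) := hker
    rw [← range_comap_of_surjective _ _ (aug_surjective 𝒮.toQCAlg aug U)] at hmem
    obtain ⟨y', rfl⟩ := hmem
    apply hc
    exact ⟨hU.fromSpec y', vertex_apply h hi hε U hU y'⟩

end Glob

end Groth.Agent.Lib.Helper27Cone
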