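import Groth.Agent.Lib.Helper27PolyGraded

/-!
# `B = A[z]` graded with a graded retraction `θ : B → A`, `θ z = 0`: the image of `Proj A → Proj B`
(helper27)
-/

set_option autoImplicit false
universe u

open AlgebraicGeometry
open scoped HomogeneousIdeal

namespace Groth.Agent.Lib.Helper27PolyGraded

variable {A B σ τ : Type u} [CommRing A] [CommRing B] [SetLike σ A] [AddSubgroupClass σ A]
  [SetLike τ B] [AddSubgroupClass τ B] {𝒜 : ℕ → σ} {ℬ : ℕ → τ} [GradedRing 𝒜] [GradedRing ℬ]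
  (ψ : 𝒜 →+*ᵍ ℬ) {z : B} (hz : z ∈ ℬ 1) (θ : ℬ →+*ᵍ 𝒜)

theorem sub_mem_span (hsurj : Function.Surjective (Polynomial.eval₂RingHom (ψ : A →+* B) z))
    (hθψ : ∀ a, θ (ψ a) = a) (hθz : θ z = 0) (b : B) : b - ψ (θ b) ∈ Ideal.span {z} := by
  obtain ⟨p, rfl⟩ := hsurj b
  change Polynomial.eval₂ (ψ : A →+* B) z p - ψ (θ (Polynomial.eval₂ (ψ : A →+* B) z p)) ∈ _
  have hp : Polynomial.eval₂ (ψ : A →+* B) z p =
      Polynomial.eval₂ (ψ : A →+* B) z p.divX * z + ψ (p.coeff 0) := by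
    conv_lhs => rw [← Polynomial.divX_mul_X_add p]
    rw [Polynomial.eval₂_add, Polynomial.eval₂_mul, Polynomial.eval₂_X, Polynomial.eval₂_C]
    rfl
  have hθ : θ (Polynomial.eval₂ (ψ : A →+* B) z p) = p.coeff 0 := by
    rw [hp, map_add, map_mul, hθz, mul_zero, zero_add, hθψ]
  rw [hθ]
  nth_rewrite 1 [hp]
  rw [add_sub_cancel_right]
  exact Ideal.mul_mem_left _ _ (Ideal.subset_span rfl)

include hz in
theorem exists_map_eq_iff (hbij : Function.Bijective (Polynomial.eval₂RingHom (ψ : A →+* B) z))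
    (hθψ : ∀ a, θ (ψ a) = a) (hθz : θ z = 0) (hirr : 𝒜₊ ≤ (ℬ₊).map θ) (P : Proj ℬ) :
    (∃ Q : Proj 𝒜, (Proj.map θ hirr) Q = P) ↔ z ∈ P.asHomogeneousIdeal := by
  constructor
  · rintro ⟨Q, rfl⟩
    change θ z ∈ Q.asHomogeneousIdeal
    rw [hθz]
    exact zero_mem _
  · intro hzP
    have hrel : ¬ (𝒜₊ ≤ P.asHomogeneousIdeal.comap ψ) := by
      intro hle
      apply P.not_irrelevant_le
      rw [HomogeneousIdeal.irrelevant_le]
      intro n hn b hb
      have hmem := mem_span_of_pos ψ hz hbij hn b hb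
      have hle2 : Ideal.span ((ψ '' ((𝒜₊).toIdeal : Set A)) ∪ {z}) ≤
          P.asHomogeneousIdeal.toIdeal := by
        rw [Ideal.span_le]
        rintro x (⟨f, hf, rfl⟩ | rfl)
        · exact hle hf
        · exact hzP
      exact hle2 hmem
    let Q : Proj 𝒜 := ⟨P.asHomogeneousIdeal.comap ψ, P.isPrime.comap (ψ : A →+* B), hrel⟩
    refine ⟨Q, ?_⟩
    apply ProjectiveSpectrum.ext
    apply HomogeneousIdeal.toIdeal_injective
    ext b
    change ψ (θ b) ∈ P.asHomogeneousIdeal.toIdeal ↔ b ∈ P.asHomogeneousIdeal.toIdeal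
    have hsub : b - ψ (θ b) ∈ P.asHomogeneousIdeal.toIdeal := by
      have h1 := sub_mem_span ψ θ hbij.2 hθψ hθz b
      have h2 : Ideal.span {z} ≤ P.asHomogeneousIdeal.toIdeal := by
        rw [Ideal.span_le]
        rintro x rfl
        exact hzP
      exact h2 h1
    constructor
    · intro hb
      have := Ideal.add_mem _ hsub hb
      rwa [sub_add_cancel] at this
    · intro hb
      have := Ideal.sub_mem _ hb hsub
      rwa [sub_sub_cancel] at this

end Groth.Agent.Lib.Helper27PolyGraded
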