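import Groth.Agent.Lib.Helper27Cone6
import Groth.Agent.Lib.Helper27PolyGraded2

/-!
# `i(C) = Ĉ - j(X)` for the projective cone (helper27)
-/

set_option autoImplicit false
universe u

open CategoryTheory CategoryTheory.Limits AlgebraicGeometry TopologicalSpace Opposite
  HomogeneousLocalization
open scoped HomogeneousIdeal

namespace Groth.Agent.Lib.Helper27Cone

open RelSpec

section Glob

variable {Y : Scheme.{u}} {𝒮 𝒮h : RelProj.QCGrAlg Y} {ι : 𝒮.toQCAlg ⟶ 𝒮h.toQCAlg}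
  {z : 𝒮h.presheaf.obj (op ⊤)} (h : RelCone.IsPolyOver 𝒮 𝒮h ι z)
  {PC : Scheme.{u}} {pC : PC ⟶ Y}
  {chartC : ∀ (U : Y.Opens) (hU : IsAffineOpen U),
    (((pC ⁻¹ᵁ U : PC.Opens) : Scheme.{u}) ≅ Proj (𝒮h.deg U hU))}
  (hPC : RelProj.IsRelProj 𝒮h pC chartC)
  {i : 𝒮.toQCAlg.spec ⟶ PC} (hi : RelCone.IsConeImm 𝒮 h pC chartC i)

include hPC hi in
/-- chartwise description of the image of the cone immersion. -/
theorem emb_mem_range_coneImm_iff (U : Y.Opens) (hU : IsAffineOpen U) (P : Proj (𝒮h.deg U hU)) :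
    (RelProj.emb pC chartC U hU) P ∈ Set.range i.base ↔
      RelCone.restrictTop 𝒮h z U ∉ P.asHomogeneousIdeal := by
  constructor
  · rintro ⟨x, hx⟩
    have hxU : x ∈ 𝒮.toQCAlg.π ⁻¹ᵁ U := by
      have h1 : (i ≫ pC) x = 𝒮.toQCAlg.π x := by rw [coneImm_over h hPC hi]
      have h2 : (RelProj.emb pC chartC U hU) P ∈ pC ⁻¹ᵁ U := by
        rw [← emb_opensRange (chartC := chartC) U hU]
        exact ⟨P, rfl⟩
      have h3 : pC (i x) ∈ U := by
        have : i x = (RelProj.emb pC chartC U hU) P := hx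
        rw [this]
        exact h2
      have h4 : pC (i x) = (i ≫ pC) x := rfl
      rw [h4, h1] at h3
      exact h3
    rw [𝒮.toQCAlg.π_preimage U hU] at hxU
    obtain ⟨𝔭, rfl⟩ := hxU
    have hx' : i ((𝒮.toQCAlg.ι U hU) 𝔭) = (RelProj.emb pC chartC U hU) P := hx
    rw [coneImm_apply h hi U hU 𝔭] at hx'
    have hPeq := (RelProj.emb pC chartC U hU).isOpenEmbedding.injective hx'
    rw [← hPeq, ← Proj.mem_basicOpen,
      ← Proj.opensRange_awayι _ _ (h.deg_z U hU) one_pos]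
    exact ⟨_, rfl⟩
  · intro hzP
    have hPz : P ∈ Proj.basicOpen (𝒮h.deg U hU) (RelCone.restrictTop 𝒮h z U) :=
      (Proj.mem_basicOpen _ _ _).mpr hzP
    rw [← Proj.opensRange_awayι _ _ (h.deg_z U hU) one_pos] at hPz
    obtain ⟨𝔮, rfl⟩ := hPz
    obtain ⟨𝔭, rfl⟩ := exists_comap_awayZToBase h U hU 𝔮
    exact ⟨(𝒮.toQCAlg.ι U hU) 𝔭, coneImm_apply h hi U hU 𝔭⟩

variable (θ : 𝒮h.toQCAlg ⟶ 𝒮.toQCAlg) (hθ : RelProj.IsGradedHom θ) (hιθ : ι ≫ θ = 𝟙 _)
  (hθz : (θ.hom.app (op ⊤)).hom z = 0)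
  (hirr : ∀ (U : Y.Opens) (hU : IsAffineOpen U),
    (𝒮.deg U hU)₊ ≤ ((𝒮h.deg U hU)₊).map (RelProj.gradedHomAt θ hθ U hU))
  {P : Scheme.{u}} {p : P ⟶ Y}
  {chart : ∀ (U : Y.Opens) (hU : IsAffineOpen U),
    (((p ⁻¹ᵁ U : P.Opens) : Scheme.{u}) ≅ Proj (𝒮.deg U hU))}
  (hP : RelProj.IsRelProj 𝒮 p chart) {j : P ⟶ PC}
  (hj : RelProj.IsRelProjMap θ hθ hirr chartC chart j)

include hθz in
theorem θ_restrictTop (U : Y.Opens) : (θ.hom.app (op U)).hom (RelCone.restrictTop 𝒮h z U) = 0 := by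
  have hnat := θ.hom.naturality (homOfLE (le_top : U ≤ ⊤)).op
  have h1 := congrArg (fun φ => φ.hom z) hnat
  simp only [CommRingCat.hom_comp, RingHom.coe_comp, Function.comp_apply] at h1
  rw [hθz, map_zero] at h1
  exact h1

include hιθ in
theorem θ_ι (U : Y.Opens) (a : 𝒮.presheaf.obj (op U)) :
    (θ.hom.app (op U)).hom ((ι.hom.app (op U)).hom a) = a := by
  have h1 := congrArg (fun φ : 𝒮.toQCAlg ⟶ 𝒮.toQCAlg => (φ.hom.app (op U)).hom a) hιθ
  exact h1

include hj in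
theorem emb_comp_relProjMap (U : Y.Opens) (hU : IsAffineOpen U) :
    RelProj.emb p chart U hU ≫ j =
      Proj.map (RelProj.gradedHomAt θ hθ U hU) (hirr U hU) ≫ RelProj.emb pC chartC U hU := by
  rw [RelProj.emb, Category.assoc, hj U hU, Iso.inv_hom_id_assoc]
  rfl

include h hPC hP hj hιθ hθz in
theorem emb_mem_range_relProjMap_iff (U : Y.Opens) (hU : IsAffineOpen U)
    (Pt : Proj (𝒮h.deg U hU)) :
    (RelProj.emb pC chartC U hU) Pt ∈ Set.range j.base ↔
      RelCone.restrictTop 𝒮h z U ∈ Pt.asHomogeneousIdeal := by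
  have hiff := Helper27PolyGraded.exists_map_eq_iff (RelProj.gradedHomAt ι h.graded U hU)
    (h.deg_z U hU) (RelProj.gradedHomAt θ hθ U hU) (bij' h U hU) (θ_ι θ hιθ U)
    (θ_restrictTop θ hθz U) (hirr U hU) Pt
  rw [← hiff]
  have hcomm := emb_comp_relProjMap θ hθ hirr hj U hU
  constructor
  · rintro ⟨x, hx⟩
    have hover := Helper27RelProj4.relProjMap_over θ hθ hirr hPC hP hj
    have hxU : x ∈ p ⁻¹ᵁ U := by
      have h1 : (j ≫ pC) x = p x := by rw [hover]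
      have h2 : (RelProj.emb pC chartC U hU) Pt ∈ pC ⁻¹ᵁ U := by
        rw [← emb_opensRange (chartC := chartC) U hU]
        exact ⟨Pt, rfl⟩
      have h3 : pC (j x) ∈ U := by
        have : j x = (RelProj.emb pC chartC U hU) Pt := hx
        rw [this]
        exact h2
      have h4 : pC (j x) = (j ≫ pC) x := rfl
      rw [h4, h1] at h3
      exact h3
    rw [← emb_opensRange (chartC := chart) U hU] at hxU
    obtain ⟨Q, rfl⟩ := hxU
    refine ⟨Q, ?_⟩
    have hx' : j ((RelProj.emb p chart U hU) Q) = (RelProj.emb pC chartC U hU) Pt := hx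
    have h5 : j ((RelProj.emb p chart U hU) Q) =
        (RelProj.emb pC chartC U hU) ((Proj.map (RelProj.gradedHomAt θ hθ U hU) (hirr U hU)) Q) :=
      congrArg (fun φ : Proj (𝒮.deg U hU) ⟶ PC => φ Q) hcomm
    rw [h5] at hx'
    exact (RelProj.emb pC chartC U hU).isOpenEmbedding.injective hx'
  · rintro ⟨Q, rfl⟩
    refine ⟨(RelProj.emb p chart U hU) Q, ?_⟩
    exact congrArg (fun φ : Proj (𝒮.deg U hU) ⟶ PC => φ Q) hcomm

include hPC hi hP hj hιθ hθz in
theorem range_coneImm_eq : Set.range i.base = (Set.range j.base)ᶜ := by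
  ext c
  obtain ⟨U, hU, hcU, -⟩ := exists_isAffineOpen_mem_and_subset (x := pC c) (U := ⊤) trivial
  obtain ⟨Pt, rfl⟩ : ∃ Pt, (RelProj.emb pC chartC U hU) Pt = c := by
    have : c ∈ pC ⁻¹ᵁ U := hcU
    rw [← emb_opensRange (chartC := chartC) U hU] at this
    exact this
  rw [Set.mem_compl_iff]
  have h1 := emb_mem_range_coneImm_iff h hPC hi U hU Pt
  have h2 := emb_mem_range_relProjMap_iff h hPC θ hθ hιθ hθz hirr hP hj U hU Pt
  exact h1.trans (not_congr h2.symm)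

end Glob

end Groth.Agent.Lib.Helper27Cone
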