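import Groth.Agent.Lib.Helper27Cone7

/-!
# Existence of the canonical immersion `C → Ĉ` of the affine cone in the projective cone (helper27)
-/

set_option autoImplicit false
universe u

open CategoryTheory CategoryTheory.Limits AlgebraicGeometry TopologicalSpace Opposite
  HomogeneousLocalization
open scoped HomogeneousIdeal

namespace Groth.Agent.Lib.Helper27Cone

open RelSpec

section Graded

variable {A B σ τ : Type u} [CommRing A] [SetLike σ A] [AddSubgroupClass σ A]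
  [CommRing B] [SetLike τ B] [AddSubgroupClass τ B]
  {𝒜 : ℕ → σ} {ℬ : ℕ → τ} [GradedRing 𝒜] [GradedRing ℬ]
  (f : 𝒜 →+*ᵍ ℬ) (hf : ℬ₊ ≤ 𝒜₊.map f)

/-- `Away.map` with a prescribed target element. -/
noncomputable def awayMapTo (s : A) (t : B) (hts : f s = t) : Away 𝒜 s →+* Away ℬ t :=
  HomogeneousLocalization.map f (by
    rintro _ ⟨n, rfl⟩
    exact ⟨n, by simp [hts]⟩)

theorem awayMapTo_mk {d : ℕ} (s : A) (hs : s ∈ 𝒜 d) (t : B) (hts : f s = t) (ht : t ∈ ℬ d) (n : ℕ)
    (x : A) (hx : x ∈ 𝒜 (n • d)) :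
    awayMapTo f s t hts (Away.mk 𝒜 hs n x hx) = Away.mk ℬ ht n (f x) (f.2 hx) := by
  subst hts
  exact Away.map_mk f s hs n x hx

@[reassoc]
theorem awayι_comp_map' {d : ℕ} (hd : 0 < d) (s : A) (hs : s ∈ 𝒜 d) (t : B) (hts : f s = t)
    (ht : t ∈ ℬ d) :
    Proj.awayι ℬ t ht hd ≫ Proj.map f hf =
      Spec.map (CommRingCat.ofHom (awayMapTo f s t hts)) ≫ Proj.awayι 𝒜 s hs hd := by
  subst hts
  exact Proj.awayι_comp_map f hf hd s hs

end Graded

section Poly

variable {Y : Scheme.{u}} {𝒮 𝒮h : RelProj.QCGrAlg Y} {ι : 𝒮.toQCAlg ⟶ 𝒮h.toQCAlg}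
  {z : 𝒮h.presheaf.obj (op ⊤)} (h : RelCone.IsPolyOver 𝒮 𝒮h ι z)

theorem res_restrictTop {U V : Y.Opens} (i : V ≤ U) :
    (𝒮h.presheaf.map (homOfLE i).op).hom (RelCone.restrictTop 𝒮h z U) =
      RelCone.restrictTop 𝒮h z V := by
  unfold RelCone.restrictTop
  rw [← CommRingCat.comp_apply, ← Functor.map_comp]
  rfl

theorem ι_res_apply {U V : Y.Opens} (i : V ≤ U) (a : 𝒮.presheaf.obj (op U)) :
    (𝒮h.presheaf.map (homOfLE i).op).hom ((ι.hom.app (op U)).hom a) =
      (ι.hom.app (op V)).hom ((𝒮.presheaf.map (homOfLE i).op).hom a) :=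
  (congrArg (fun t => t.hom a) (ι.hom.naturality (homOfLE i).op)).symm

/-- "set `z = 1`" commutes with restriction. -/
theorem evalOne_res {U V : Y.Opens} (hU : IsAffineOpen U) (hV : IsAffineOpen V) (i : V ≤ U)
    (a : 𝒮h.presheaf.obj (op U)) :
    h.evalOne V hV ((𝒮h.presheaf.map (homOfLE i).op).hom a) =
      (𝒮.presheaf.map (homOfLE i).op).hom (h.evalOne U hU a) := by
  obtain ⟨p, rfl⟩ := (h.polyEquiv U hU).surjective a
  have h1 : (𝒮h.presheaf.map (homOfLE i).op).hom (h.polyEquiv U hU p) =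
      h.polyEquiv V hV (p.map (𝒮.presheaf.map (homOfLE i).op).hom) := by
    rw [h.polyEquiv_apply, h.polyEquiv_apply, Polynomial.hom_eval₂, Polynomial.eval₂_map,
      res_restrictTop i]
    congr 1
    ext a
    exact ι_res_apply i a
  rw [h1]
  simp only [RelCone.IsPolyOver.evalOne, RingHom.comp_apply, RingEquiv.toRingHom_eq_coe,
    RingHom.coe_coe, RingEquiv.symm_apply_apply, Polynomial.coe_evalRingHom]
  exact Polynomial.eval_one_map _ _

theorem awayZToBase_res {U V : Y.Opens} (hU : IsAffineOpen U) (hV : IsAffineOpen V) (i : V ≤ U) :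
    (𝒮.presheaf.map (homOfLE i).op).hom.comp (h.awayZToBase U hU) =
      (h.awayZToBase V hV).comp (awayMapTo (𝒮h.res hU hV i) (RelCone.restrictTop 𝒮h z U)
        (RelCone.restrictTop 𝒮h z V) (res_restrictTop i)) := by
  ext q
  obtain ⟨n, a, ha, rfl⟩ := Away.mk_surjective (𝒮h.deg U hU) (h.deg_z U hU) q
  rw [RingHom.comp_apply, RingHom.comp_apply, awayZToBase_mk,
    awayMapTo_mk (𝒮h.res hU hV i) _ (h.deg_z U hU) _ (res_restrictTop i) (h.deg_z V hV),
    awayZToBase_mk]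
  exact (evalOne_res h hU hV i a).symm

variable {PC : Scheme.{u}} (pC : PC ⟶ Y)
  (chartC : ∀ (U : Y.Opens) (hU : IsAffineOpen U),
    (((pC ⁻¹ᵁ U : PC.Opens) : Scheme.{u}) ≅ Proj (𝒮h.deg U hU)))

/-- the chart `Spec 𝒮(U) → Ĉ` of the canonical immersion. -/
noncomputable def coneChart (U : Y.Opens) (hU : IsAffineOpen U) :
    Spec (𝒮.presheaf.obj (op U)) ⟶ PC :=
  Spec.map (CommRingCat.ofHom (h.awayZToBase U hU)) ≫
    Proj.awayι (𝒮h.deg U hU) (RelCone.restrictTop 𝒮h z U) (h.deg_z U hU) one_pos ≫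
      RelProj.emb pC chartC U hU

variable {pC chartC}

theorem coneChart_res (hPC : RelProj.IsRelProj 𝒮h pC chartC) (U : Y.Opens) (hU : IsAffineOpen U)
    (r : Γ(Y, U)) :
    Spec.map (𝒮.presheaf.map (homOfLE (Y.basicOpen_le r)).op) ≫ coneChart h pC chartC U hU =
      coneChart h pC chartC (Y.basicOpen r) (hU.basicOpen r) := by
  unfold coneChart
  rw [← RelProj.map_res_emb hPC U hU r,
    awayι_comp_map'_assoc (𝒮h.res hU (hU.basicOpen r) (Y.basicOpen_le r))
      (𝒮h.irrelevant_le_map U hU r) one_pos (RelCone.restrictTop 𝒮h z U) (h.deg_z U hU)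
      (RelCone.restrictTop 𝒮h z (Y.basicOpen r)) (res_restrictTop (Y.basicOpen_le r))
      (h.deg_z _ (hU.basicOpen r)),
    ← Spec.map_comp_assoc, ← Spec.map_comp_assoc]
  congr 2
  ext q
  exact congrArg (fun φ => φ q) (awayZToBase_res h hU (hU.basicOpen r) (Y.basicOpen_le r))

theorem exists_coneImm (hPC : RelProj.IsRelProj 𝒮h pC chartC) :
    ∃ i : 𝒮.toQCAlg.spec ⟶ PC, RelCone.IsConeImm 𝒮 h pC chartC i := by
  let c : Cocone 𝒮.toQCAlg.glueData.functor :=
    { pt := PC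
      ι :=
        { app := fun U => coneChart h pC chartC U.1 U.2
          naturality := by
            intro V U i
            refine Eq.trans ?_ (Category.comp_id _).symm
            obtain ⟨r, hr⟩ := i.le
            obtain rfl : Scheme.AffineZariskiSite.basicOpen U r = V := Subtype.ext hr
            exact coneChart_res h hPC U.1 U.2 r } }
  refine ⟨colimit.desc 𝒮.toQCAlg.glueData.functor c, ?_⟩
  intro U hU
  exact colimit.ι_desc c ⟨U, hU⟩

theorem coneImm_unique {i i' : 𝒮.toQCAlg.spec ⟶ PC} (hi : RelCone.IsConeImm 𝒮 h pC chartC i)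
    (hi' : RelCone.IsConeImm 𝒮 h pC chartC i') : i = i' :=
  spec_hom_ext i i' fun U hU => (hi U hU).trans (hi' U hU).symm

end Poly

end Groth.Agent.Lib.Helper27Cone
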