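import Groth.Agent.Lib.Helper27RelProj

/-!
# `D_+(g)` is schematically dense in `Proj` for a nonzerodivisor `g` (helper27)
-/

set_option autoImplicit false
universe u

open CategoryTheory AlgebraicGeometry HomogeneousLocalization TopologicalSpace Opposite
open scoped HomogeneousIdeal

namespace Groth.Agent.Lib.Helper27RelProj

section GradedRing

variable {A σ : Type u} [CommRing A] [SetLike σ A] [AddSubgroupClass σ A]
  (𝒜 : ℕ → σ) [GradedRing 𝒜]

theorem awayMap_injective {d e : ℕ} {f g : A} (hf : f ∈ 𝒜 d) (hg : g ∈ 𝒜 e)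
    (hnz : g ∈ nonZeroDivisors A) {x : A} (hx : x = f * g) :
    Function.Injective (awayMap 𝒜 hg hx) := by
  rw [injective_iff_map_eq_zero]
  intro s hs
  obtain ⟨n, a, ha, rfl⟩ := Away.mk_surjective 𝒜 hf s
  rw [awayMap_mk] at hs
  have hv := congrArg HomogeneousLocalization.val hs
  rw [Away.val_mk, HomogeneousLocalization.val_zero, Localization.mk_eq_mk',
    IsLocalization.mk'_eq_zero_iff] at hv
  obtain ⟨⟨c, k, rfl⟩, hk⟩ := hv
  simp only at hk
  have h1 : f ^ k * a = 0 := by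
    have h2 : g ^ (k + n) ∈ nonZeroDivisors A := pow_mem hnz _
    apply (mem_nonZeroDivisors_iff.mp h2).2
    rw [← hk, hx]
    ring
  apply HomogeneousLocalization.val_injective
  rw [Away.val_mk, HomogeneousLocalization.val_zero, Localization.mk_eq_mk',
    IsLocalization.mk'_eq_zero_iff]
  exact ⟨⟨f ^ k, k, rfl⟩, h1⟩

theorem res_injective {d e : ℕ} (hd : 0 < d) {f g : A} (hf : f ∈ 𝒜 d) (hg : g ∈ 𝒜 e)
    (hnz : g ∈ nonZeroDivisors A) :
    Function.Injective ((Proj 𝒜).presheaf.map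
      (homOfLE (Proj.basicOpen_mono 𝒜 f (f * g) ⟨g, rfl⟩)).op) := by
  have h1 := Proj.awayMap_awayToSection 𝒜 (f := f) hg (rfl : f * g = f * g)
  have hfg : f * g ∈ 𝒜 (d + e) := SetLike.mul_mem_graded hf hg
  have hiso1 : Function.Bijective (Proj.awayToSection 𝒜 f) :=
    ConcreteCategory.bijective_of_isIso (Proj.basicOpenIsoAway 𝒜 f hf hd).hom
  have hiso2 : Function.Bijective (Proj.awayToSection 𝒜 (f * g)) :=
    ConcreteCategory.bijective_of_isIso
      (Proj.basicOpenIsoAway 𝒜 (f * g) hfg (Nat.add_pos_left hd e)).hom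
  intro s t hst
  obtain ⟨s', rfl⟩ := hiso1.2 s
  obtain ⟨t', rfl⟩ := hiso1.2 t
  have e1 := congr($h1 s')
  have e2 := congr($h1 t')
  rw [CommRingCat.comp_apply, CommRingCat.comp_apply] at e1 e2
  rw [← e1, ← e2] at hst
  have := awayMap_injective 𝒜 hf hg hnz rfl (hiso2.1 hst)
  rw [this]

theorem injective_of_opens_eq {X : Scheme.{u}} {V W W' : X.Opens} (h : W = W') (hW : W ≤ V)
    (hW' : W' ≤ V) (hinj : Function.Injective (X.presheaf.map (homOfLE hW').op)) :
    Function.Injective (X.presheaf.map (homOfLE hW).op) := by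
  subst h
  exact hinj

theorem ker_ι_basicOpen_eq_bot {e : ℕ} (g : A) (hg : g ∈ 𝒜 e)
    (hnz : g ∈ nonZeroDivisors A) : (Proj.basicOpen 𝒜 g).ι.ker = ⊥ := by
  refine le_antisymm ?_ bot_le
  let I := Σ' (i : ℕ) (f : A), 0 < i ∧ f ∈ 𝒜 i
  let U : I → (Proj 𝒜).affineOpens := fun i =>
    ⟨Proj.basicOpen 𝒜 i.2.1, Proj.isAffineOpen_basicOpen 𝒜 i.2.1 i.2.2.2 i.2.2.1⟩
  refine Scheme.IdealSheafData.le_of_iSup_eq_top U ?_ ?_
  · apply Proj.iSup_basicOpen_eq_top 𝒜 (fun i : I => i.2.1)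
    rw [HomogeneousIdeal.irrelevant_eq_span, Ideal.span_le]
    intro x hx
    simp only [Set.mem_iUnion, SetLike.mem_coe, exists_prop] at hx
    obtain ⟨i, hi, hxi⟩ := hx
    exact Ideal.subset_span ⟨⟨i, x, hi, hxi⟩, rfl⟩
  · intro i
    refine (Scheme.Hom.ideal_ker_le _ _).trans ?_
    rw [Scheme.IdealSheafData.ideal_bot]
    change RingHom.ker _ ≤ ⊥
    rw [le_bot_iff, ← RingHom.injective_iff_ker_eq_bot]
    change Function.Injective ((Proj.basicOpen 𝒜 g).ι.app (Proj.basicOpen 𝒜 i.2.1))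
    rw [Scheme.Opens.ι_app]
    refine injective_of_opens_eq (W' := Proj.basicOpen 𝒜 (i.2.1 * g)) ?_ _
      (Proj.basicOpen_mono 𝒜 _ _ ⟨g, rfl⟩) (res_injective 𝒜 i.2.2.1 i.2.2.2 hg hnz)
    rw [Scheme.Hom.image_preimage_eq_opensRange_inf, Scheme.Opens.opensRange_ι,
      Proj.basicOpen_mul, inf_comm]

end GradedRing

end Groth.Agent.Lib.Helper27RelProj
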