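import Groth.Agent.Lib.Helper27Cone8
import Groth.Agent.Lib.Helper27RelProj4
import Groth.Agent.Lib.Helper27RelProj3

/-!
# Properties of the canonical immersion `C → Ĉ` (helper27)
-/

set_option autoImplicit false
universe u

open CategoryTheory CategoryTheory.Limits AlgebraicGeometry TopologicalSpace Opposite
  HomogeneousLocalization
open scoped HomogeneousIdeal

namespace Groth.Agent.Lib.Helper27Cone

open RelSpec

section Ker

/-- the kernel of a quasi-compact morphism vanishes if it does chartwise. -/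
theorem ker_eq_bot_of_charts {X Z : Scheme.{u}} (i : X ⟶ Z) [QuasiCompact i]
    (H : ∀ z : Z, ∃ (U V : Scheme.{u}) (iU : U ⟶ X) (iV : V ⟶ Z) (_ : IsOpenImmersion iU)
      (_ : IsOpenImmersion iV) (e : U ⟶ V), z ∈ iV.opensRange ∧ e.ker = ⊥ ∧ iU ≫ i = e ≫ iV ∧
        iU.opensRange = i ⁻¹ᵁ iV.opensRange) : i.ker = ⊥ := by
  refine le_antisymm ?_ bot_le
  choose U V iU iV hiU hiV e hz hker hcomm hrange using H
  let I := Σ z : Z, (V z).affineOpens
  let W : I → Z.affineOpens := fun p => ⟨iV p.1 ''ᵁ p.2.1, p.2.2.image_of_isOpenImmersion _⟩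
  refine Scheme.IdealSheafData.le_of_iSup_eq_top W ?_ ?_
  · rw [eq_top_iff]
    intro z _
    obtain ⟨q, hq⟩ := hz z
    obtain ⟨_, ⟨W', hW', rfl⟩, hqW, -⟩ :=
      (V z).isBasis_affineOpens.exists_subset_of_mem_open (Set.mem_univ q) isOpen_univ
    exact Opens.mem_iSup.mpr ⟨⟨z, ⟨W', hW'⟩⟩, ⟨q, hqW, hq⟩⟩
  · rintro ⟨z, W'⟩
    have hpb : IsPullback (e z) (iU z) (iV z) i :=
      IsOpenImmersion.isPullback _ _ _ _ (hcomm z) (hrange z).symm
    have h1 := Scheme.ker_ideal_of_isPullback_of_isOpenImmersion i (e z) (iU z) (iV z) hpb W'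
    rw [hker z, Scheme.IdealSheafData.ideal_bot] at h1
    rw [Scheme.IdealSheafData.ideal_bot]
    intro x hx
    have h2 : ((iV z).appIso W'.1).hom.hom x ∈ (⊥ : Ideal Γ(V z, W'.1)) := by
      have : ((iV z).appIso W'.1).hom.hom x ∈ Ideal.comap ((iV z).appIso W'.1).inv.hom
          (i.ker.ideal (W ⟨z, W'⟩)) := by
        rw [Ideal.mem_comap, ← CommRingCat.comp_apply, Iso.hom_inv_id]
        exact hx
      rw [← h1] at this
      exact this
    have h3 : ((iV z).appIso W'.1).hom.hom x = 0 := h2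
    have h4 := congrArg ((iV z).appIso W'.1).inv.hom h3
    rw [← CommRingCat.comp_apply, Iso.hom_inv_id, map_zero] at h4
    exact h4

end Ker

section Glob

variable {Y : Scheme.{u}} {𝒮 𝒮h : RelProj.QCGrAlg Y} {ι : 𝒮.toQCAlg ⟶ 𝒮h.toQCAlg}
  {z : 𝒮h.presheaf.obj (op ⊤)} (h : RelCone.IsPolyOver 𝒮 𝒮h ι z)
  {PC : Scheme.{u}} {pC : PC ⟶ Y}
  {chartC : ∀ (U : Y.Opens) (hU : IsAffineOpen U),
    (((pC ⁻¹ᵁ U : PC.Opens) : Scheme.{u}) ≅ Proj (𝒮h.deg U hU))}
  (hPC : RelProj.IsRelProj 𝒮h pC chartC)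
  {i : 𝒮.toQCAlg.spec ⟶ PC} (hi : RelCone.IsConeImm 𝒮 h pC chartC i)

include hPC hi in
theorem coneImm_preimage (U : Y.Opens) (hU : IsAffineOpen U) :
    (𝒮.toQCAlg.ι U hU).opensRange = i ⁻¹ᵁ (RelProj.emb pC chartC U hU).opensRange := by
  rw [emb_opensRange (chartC := chartC) U hU, ← Scheme.Hom.comp_preimage,
    coneImm_over h hPC hi, 𝒮.toQCAlg.π_preimage U hU]

theorem isIso_awayZToBase (U : Y.Opens) (hU : IsAffineOpen U) :
    IsIso (Spec.map (CommRingCat.ofHom (h.awayZToBase U hU))) := by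
  have : IsIso (CommRingCat.ofHom (h.awayZToBase U hU)) := by
    rw [ConcreteCategory.isIso_iff_bijective]
    exact awayZToBase_bijective h U hU
  infer_instance

include hPC hi in
theorem coneImm_of_charts {P : MorphismProperty Scheme.{u}} [IsZariskiLocalAtTarget P]
    (H : ∀ (U : Y.Opens) (hU : IsAffineOpen U),
      P (Spec.map (CommRingCat.ofHom (h.awayZToBase U hU)) ≫
        Proj.awayι (𝒮h.deg U hU) (RelCone.restrictTop 𝒮h z U) (h.deg_z U hU) one_pos)) : P i := by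
  apply Helper27RelProj4.of_charts
  intro c
  obtain ⟨U, hU, hcU, -⟩ := exists_isAffineOpen_mem_and_subset (x := pC c) (U := ⊤) trivial
  refine ⟨_, _, 𝒮.toQCAlg.ι U hU, RelProj.emb pC chartC U hU, inferInstance, inferInstance,
    _, ?_, H U hU, ?_, coneImm_preimage h hPC hi U hU⟩
  · rw [emb_opensRange (chartC := chartC) U hU]
    exact hcU
  · rw [hi U hU, Category.assoc]

include hPC hi in
theorem isOpenImmersion_coneImm : IsOpenImmersion i := by
  apply coneImm_of_charts (P := @IsOpenImmersion) h hPC hi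
  intro U hU
  have := isIso_awayZToBase h U hU
  infer_instance

set_option backward.isDefEq.respectTransparency.types false in
include hPC hi in
theorem isAffineHom_coneImm : IsAffineHom i := by
  apply coneImm_of_charts (P := @IsAffineHom) h hPC hi
  intro U hU
  have h1 : IsAffineHom ((Spec.map (CommRingCat.ofHom (h.awayZToBase U hU)) ≫
      Proj.awayι (𝒮h.deg U hU) (RelCone.restrictTop 𝒮h z U) (h.deg_z U hU) one_pos) ≫
      Proj.toSpecZero (𝒮h.deg U hU)) := by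
    rw [Category.assoc, Proj.awayι_toSpecZero, ← Spec.map_comp]
    infer_instance
  exact IsAffineHom.of_comp _ (Proj.toSpecZero (𝒮h.deg U hU))

include h in
theorem restrictTop_mem_nonZeroDivisors (U : Y.Opens) (hU : IsAffineOpen U) :
    RelCone.restrictTop 𝒮h z U ∈ nonZeroDivisors (𝒮h.presheaf.obj (op U)) := by
  have e : h.polyEquiv U hU Polynomial.X = RelCone.restrictTop 𝒮h z U := by
    rw [h.polyEquiv_apply, Polynomial.eval₂_X]
  rw [mem_nonZeroDivisors_iff_right]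
  intro b hb
  obtain ⟨p, rfl⟩ := (h.polyEquiv U hU).surjective b
  rw [← e, ← map_mul] at hb
  have hb' : p * Polynomial.X = 0 := (h.polyEquiv U hU).injective (by rw [hb, map_zero])
  have hp : p = 0 := (mem_nonZeroDivisors_iff_right.mp Polynomial.X_mem_nonzeroDivisors) p hb'
  rw [hp, map_zero]

theorem ker_coneChart_eq_bot (U : Y.Opens) (hU : IsAffineOpen U) :
    (Spec.map (CommRingCat.ofHom (h.awayZToBase U hU)) ≫
      Proj.awayι (𝒮h.deg U hU) (RelCone.restrictTop 𝒮h z U) (h.deg_z U hU) one_pos).ker = ⊥ := by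
  have := isIso_awayZToBase h U hU
  rw [Scheme.Hom.ker_comp_of_isIso, Proj.awayι, Scheme.Hom.ker_comp_of_isIso]
  exact Helper27RelProj.ker_ι_basicOpen_eq_bot (𝒮h.deg U hU) _ (h.deg_z U hU)
    (restrictTop_mem_nonZeroDivisors h U hU)

include hPC hi in
theorem ker_coneImm : i.ker = ⊥ := by
  have : IsAffineHom i := isAffineHom_coneImm h hPC hi
  apply ker_eq_bot_of_charts
  intro c
  obtain ⟨U, hU, hcU, -⟩ := exists_isAffineOpen_mem_and_subset (x := pC c) (U := ⊤) trivial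
  refine ⟨_, _, 𝒮.toQCAlg.ι U hU, RelProj.emb pC chartC U hU, inferInstance, inferInstance,
    _, ?_, ker_coneChart_eq_bot h U hU, ?_, coneImm_preimage h hPC hi U hU⟩
  · rw [emb_opensRange (chartC := chartC) U hU]
    exact hcU
  · rw [hi U hU, Category.assoc]

include hPC hi in
/-- the image of the canonical immersion is the open where `z` does not vanish. -/
theorem range_coneImm_eq_of_inf (Xz : PC.Opens)
    (hXz : ∀ (U : Y.Opens) (hU : IsAffineOpen U),
      Xz ⊓ pC ⁻¹ᵁ U = (pC ⁻¹ᵁ U).ι ''ᵁ ((chartC U hU).hom ⁻¹ᵁ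
        Proj.basicOpen (𝒮h.deg U hU) (RelCone.restrictTop 𝒮h z U))) :
    Set.range i.base = (Xz : Set PC) := by
  ext c
  obtain ⟨U, hU, hcU, -⟩ := exists_isAffineOpen_mem_and_subset (x := pC c) (U := ⊤) trivial
  obtain ⟨Pt, rfl⟩ : ∃ Pt, (RelProj.emb pC chartC U hU) Pt = c := by
    have : c ∈ pC ⁻¹ᵁ U := hcU
    rw [← emb_opensRange (chartC := chartC) U hU] at this
    exact this
  rw [emb_mem_range_coneImm_iff h hPC hi U hU Pt]
  have h1 : (RelProj.emb pC chartC U hU) Pt ∈ (Xz : Set PC) ↔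
      (RelProj.emb pC chartC U hU) Pt ∈ Xz ⊓ pC ⁻¹ᵁ U :=
    ⟨fun hx => ⟨hx, hcU⟩, fun hx => hx.1⟩
  rw [h1, hXz U hU, ← Proj.mem_basicOpen]
  have h2 : (RelProj.emb pC chartC U hU) Pt = (pC ⁻¹ᵁ U).ι ((chartC U hU).inv Pt) := rfl
  rw [h2]
  constructor
  · intro hP
    refine ⟨(chartC U hU).inv Pt, ?_, rfl⟩
    change (chartC U hU).hom ((chartC U hU).inv Pt) ∈
      Proj.basicOpen (𝒮h.deg U hU) (RelCone.restrictTop 𝒮h z U)
    rw [← Scheme.Hom.comp_apply, Iso.inv_hom_id]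
    exact hP
  · rintro ⟨Q, hQ, hQe⟩
    have hQ' : Q = (chartC U hU).inv Pt := (pC ⁻¹ᵁ U).ι.isOpenEmbedding.injective hQe
    subst hQ'
    have hQ2 : (chartC U hU).hom ((chartC U hU).inv Pt) ∈
        Proj.basicOpen (𝒮h.deg U hU) (RelCone.restrictTop 𝒮h z U) := hQ
    rw [← Scheme.Hom.comp_apply, Iso.inv_hom_id] at hQ2
    exact hQ2

/-- a homomorphism `𝒮h(U)_(z) → 𝒮(U)` sending `ι x / z^k` to `x` is `awayZToBase`. -/
theorem eq_awayZToBase (U : Y.Opens) (hU : IsAffineOpen U)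
    (θ : CommRingCat.of (Away (𝒮h.deg U hU) (RelCone.restrictTop 𝒮h z U)) ⟶ 𝒮.presheaf.obj (op U))
    (hθ : ∀ (q : Away (𝒮h.deg U hU) (RelCone.restrictTop 𝒮h z U)) (k : ℕ)
      (x : 𝒮.presheaf.obj (op U)), x ∈ 𝒮.deg U hU k →
        q.val = Localization.mk ((ι.hom.app (op U)).hom x)
          ⟨RelCone.restrictTop 𝒮h z U ^ k, pow_mem (Submonoid.mem_powers _) k⟩ → θ.hom q = x) :
    θ = CommRingCat.ofHom (h.awayZToBase U hU) := by
  classical
  ext q
  change θ.hom q = h.awayZToBase U hU q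
  obtain ⟨y, hy⟩ : ∃ y, y = h.awayZToBase U hU q := ⟨_, rfl⟩
  rw [← hy]
  have hmem : ∀ k, (ι.hom.app (op U)).hom
      ((DirectSum.decompose (𝒮.deg U hU) y k : 𝒮.deg U hU k) : 𝒮.presheaf.obj (op U)) ∈
      𝒮h.deg U hU (k • 1) := by
    intro k
    rw [smul_eq_mul, mul_one]
    exact h.graded U hU k _ (SetLike.coe_mem _)
  let qk : ℕ → Away (𝒮h.deg U hU) (RelCone.restrictTop 𝒮h z U) := fun k =>
    Away.mk (𝒮h.deg U hU) (h.deg_z U hU) k _ (hmem k)
  have hqk : ∀ k, h.awayZToBase U hU (qk k) =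
      ((DirectSum.decompose (𝒮.deg U hU) y k : 𝒮.deg U hU k) : 𝒮.presheaf.obj (op U)) := by
    intro k
    rw [awayZToBase_mk]
    exact h.evalOne_ι U hU _
  have hθk : ∀ k, θ.hom (qk k) =
      ((DirectSum.decompose (𝒮.deg U hU) y k : 𝒮.deg U hU k) : 𝒮.presheaf.obj (op U)) :=
    fun k => hθ (qk k) k _ (SetLike.coe_mem _) (Away.val_mk ..)
  have hsum : q = ∑ k ∈ (DirectSum.decompose (𝒮.deg U hU) y).support, qk k := by
    apply awayZToBase_injective h U hU
    rw [map_sum, Finset.sum_congr rfl (fun k _ => hqk k),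
      DirectSum.sum_support_decompose (𝒮.deg U hU) y, hy]
  rw [hsum, map_sum, Finset.sum_congr rfl (fun k _ => hθk k),
    DirectSum.sum_support_decompose (𝒮.deg U hU) y]

end Glob

end Groth.Agent.Lib.Helper27Cone
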