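import Groth.Agent.Lib.Helper27ConeRetr2
import Groth.Agent.Lib.Helper27AwayLaurent
import Groth.Agent.Lib.Helper27Fibre

/-!
# The retraction of the pointed affine cone: finite type and fibres (helper27)
-/

set_option autoImplicit false
universe u

open CategoryTheory CategoryTheory.Limits AlgebraicGeometry HomogeneousLocalization
  TopologicalSpace Opposite
open scoped HomogeneousIdeal

namespace Groth.Agent.Lib.Helper27ConeFibre

open Helper27ConeRetr

variable {R A : Type u} [CommRing R] [CommRing A] [Algebra R A] {𝒜 : ℕ → Submodule R A}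
  [GradedAlgebra 𝒜]

/-- if `𝒜₊` is generated in degree one, a prime not containing `𝒜₊` misses a degree-one element. -/
theorem exists_degOne_not_mem
    (hgen : (HomogeneousIdeal.irrelevant 𝒜).toIdeal = Ideal.span (𝒜 1 : Set A))
    (I : Ideal A) (hI : ¬ (HomogeneousIdeal.irrelevant 𝒜).toIdeal ≤ I) :
    ∃ f ∈ 𝒜 1, f ∉ I := by
  by_contra hcon
  push Not at hcon
  apply hI
  rw [hgen, Ideal.span_le]
  intro f hf
  exact hcon f hf

variable (π : (Cone.pointed 𝒜 : Scheme.{u}) ⟶ Proj 𝒜)
  (hπ : ∀ (d : ℕ) (f : A) (hd : 0 < d) (hf : f ∈ 𝒜 d),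
    Cone.chart hf hd ≫ π =
      Spec.map (CommRingCat.ofHom (algebraMap (HomogeneousLocalization.Away 𝒜 f)
        (Localization.Away f))) ≫ Proj.awayι 𝒜 f hf hd)

/-- the cover of the pointed cone by the degree-one charts. -/
noncomputable def coverOne
    (hgen : (HomogeneousIdeal.irrelevant 𝒜).toIdeal = Ideal.span (𝒜 1 : Set A)) :
    (Cone.pointed 𝒜 : Scheme.{u}).OpenCover :=
  Scheme.Cover.mkOfCovers {f : A // f ∈ 𝒜 1}
    (fun i => Spec (CommRingCat.of (Localization.Away i.1)))
    (fun i => Cone.chart i.2 one_pos)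
    (fun y => by
      have hy : ¬ ((𝒜₊).toIdeal ≤ ((Cone.pointed 𝒜).ι y).asIdeal) := by
        intro hle
        exact y.2 ((PrimeSpectrum.mem_zeroLocus _ _).mpr hle)
      obtain ⟨f, hf, hfy⟩ := exists_degOne_not_mem hgen _ hy
      obtain ⟨q, hq⟩ := exists_chart_eq_of_not_mem hf one_pos y hfy
      exact ⟨⟨f, hf⟩, q, hq⟩)
    (fun i => by change IsOpenImmersion _; infer_instance)

set_option backward.isDefEq.respectTransparency.types false in
include hπ in
theorem locallyOfFiniteType_retraction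
    (hgen : (HomogeneousIdeal.irrelevant 𝒜).toIdeal = Ideal.span (𝒜 1 : Set A)) :
    LocallyOfFiniteType π := by
  rw [IsZariskiLocalAtSource.iff_of_openCover (P := @LocallyOfFiniteType) (coverOne hgen)]
  intro i
  change LocallyOfFiniteType (Cone.chart i.2 one_pos ≫ π)
  rw [hπ 1 i.1 one_pos i.2]
  have h1 : LocallyOfFiniteType (Spec.map (CommRingCat.ofHom
      (algebraMap (HomogeneousLocalization.Away 𝒜 i.1) (Localization.Away i.1)))) := by
    rw [HasRingHomProperty.Spec_iff (P := @LocallyOfFiniteType)]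
    exact Helper27AwayLaurent.finiteType_algebraMap 𝒜 i.2
  infer_instance

include hπ in
theorem exists_fibre_iso_retraction
    (hgen : (HomogeneousIdeal.irrelevant 𝒜).toIdeal = Ideal.span (𝒜 1 : Set A)) (x : Proj 𝒜) :
    ∃ e : pullback π ((Proj 𝒜).fromSpecResidueField x) ≅
        Spec (CommRingCat.of (LaurentPolynomial ((Proj 𝒜).residueField x))),
      e.hom ≫ Spec.map (CommRingCat.ofHom (algebraMap ((Proj 𝒜).residueField x)
        (LaurentPolynomial ((Proj 𝒜).residueField x)))) =
        pullback.snd π ((Proj 𝒜).fromSpecResidueField x) := by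
  obtain ⟨f, hf, hfx⟩ := exists_degOne_not_mem hgen x.asHomogeneousIdeal.toIdeal
    x.not_irrelevant_le
  have hx : x ∈ (Proj.awayι 𝒜 f hf one_pos).opensRange := by
    rw [Proj.opensRange_awayι]
    exact (Proj.mem_basicOpen _ _ _).mpr hfx
  have hrange : π ⁻¹ᵁ (Proj.awayι 𝒜 f hf one_pos).opensRange =
      (Cone.chart hf one_pos).opensRange := by
    rw [Proj.opensRange_awayι]
    ext y
    have h1 : y ∈ π ⁻¹ᵁ Proj.basicOpen 𝒜 f ↔ f ∉ (π y).asHomogeneousIdeal :=
      Proj.mem_basicOpen _ _ _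
    have h2 : y ∈ (Cone.chart hf one_pos).opensRange ↔
        f ∉ ((Cone.pointed 𝒜).ι y).asIdeal := by
      have h3 : y ∈ Set.range (Cone.chart hf one_pos) ↔
          y ∈ {x | f ∉ ((Cone.pointed 𝒜).ι x).asIdeal} := by
        rw [Helper27ConeRetr.range_chart hf one_pos]
      exact h3
    change y ∈ π ⁻¹ᵁ Proj.basicOpen 𝒜 f ↔ y ∈ (Cone.chart hf one_pos).opensRange
    rw [h1, h2, mem_π_iff π hπ y hf]
  exact Helper27Fibre.exists_fibre_iso π x (Proj.awayι 𝒜 f hf one_pos) (Cone.chart hf one_pos)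
    _ (hπ 1 f one_pos hf) hrange hx _
    (fun ψ => Helper27AwayLaurent.exists_isPushout_laurent 𝒜 hf _ ψ)

end Groth.Agent.Lib.Helper27ConeFibre
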