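import Groth.Agent.Lib.Helper27ConeRetr

/-!
# Existence of the canonical retraction `E → Proj S` of the pointed affine cone (helper27)
-/

set_option autoImplicit false
universe u

open CategoryTheory CategoryTheory.Limits AlgebraicGeometry HomogeneousLocalization
  TopologicalSpace Opposite
open scoped HomogeneousIdeal

namespace Groth.Agent.Lib.Helper27ConeRetr

section Glue

variable {R A : Type u} [CommRing R] [CommRing A] [Algebra R A] {𝒜 : ℕ → Submodule R A}
  [GradedAlgebra 𝒜]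

theorem awayι_irrel {x : A} {m m' : ℕ} (hx : x ∈ 𝒜 m) (hm : 0 < m) (hx' : x ∈ 𝒜 m')
    (hm' : 0 < m') : Proj.awayι 𝒜 x hx hm = Proj.awayι 𝒜 x hx' hm' := rfl

instance chart_isOpenImmersion {d : ℕ} {f : A} (hf : f ∈ 𝒜 d) (hd : 0 < d) :
    IsOpenImmersion (Cone.chart hf hd) := by
  have : IsOpenImmersion (Cone.chart hf hd ≫ (Cone.pointed 𝒜).ι) := by
    rw [chart_ι]
    infer_instance
  exact IsOpenImmersion.of_comp _ (Cone.pointed 𝒜).ι

theorem chart_irrel {x : A} {m m' : ℕ} (hx : x ∈ 𝒜 m) (hm : 0 < m) (hx' : x ∈ 𝒜 m')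
    (hm' : 0 < m') : Cone.chart hx hm = Cone.chart hx' hm' := rfl

/-- restriction `A_f → A_x` for `x = f * g`. -/
noncomputable def awayRes {f g x : A} (hx : x = f * g) :
    Localization.Away f →+* Localization.Away x :=
  Localization.awayLift (algebraMap A (Localization.Away x)) f
    (isUnit_of_dvd_unit (map_dvd _ ⟨g, hx⟩) (IsLocalization.Away.algebraMap_isUnit x))

theorem awayRes_comp {f g x : A} (hx : x = f * g) :
    (awayRes hx).comp (algebraMap A (Localization.Away f)) =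
      algebraMap A (Localization.Away x) :=
  IsLocalization.Away.lift_comp f
    (isUnit_of_dvd_unit (map_dvd _ ⟨g, hx⟩) (IsLocalization.Away.algebraMap_isUnit x))

theorem chart_res {d n : ℕ} {f g x : A} (hf : f ∈ 𝒜 d) (hd : 0 < d) (hx : x = f * g)
    (hxm : x ∈ 𝒜 n) (hn : 0 < n) :
    Spec.map (CommRingCat.ofHom (awayRes hx)) ≫ Cone.chart hf hd = Cone.chart hxm hn := by
  rw [← cancel_mono (Cone.pointed 𝒜).ι, Category.assoc, chart_ι, chart_ι, ← Spec.map_comp,
    ← CommRingCat.ofHom_comp, awayRes_comp]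

/-- the chartwise retraction. -/
noncomputable def πloc {d : ℕ} {f : A} (hf : f ∈ 𝒜 d) (hd : 0 < d) :
    Spec (CommRingCat.of (Localization.Away f)) ⟶ Proj 𝒜 :=
  Spec.map (CommRingCat.ofHom (algebraMap (HomogeneousLocalization.Away 𝒜 f)
    (Localization.Away f))) ≫ Proj.awayι 𝒜 f hf hd

theorem πloc_res {d e n : ℕ} {f g x : A} (hf : f ∈ 𝒜 d) (hd : 0 < d) (hg : g ∈ 𝒜 e)
    (hx : x = f * g) (hxm : x ∈ 𝒜 n) (hn : 0 < n) :
    Spec.map (CommRingCat.ofHom (awayRes hx)) ≫ πloc hf hd = πloc hxm hn := by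
  unfold πloc
  rw [awayι_irrel hxm hn (hx ▸ SetLike.mul_mem_graded hf hg) (hd.trans_le (d.le_add_right e)),
    ← Proj.SpecMap_awayMap_awayι 𝒜 hf hd hg hx, ← Spec.map_comp_assoc, ← Spec.map_comp_assoc,
    ← CommRingCat.ofHom_comp, ← CommRingCat.ofHom_comp]
  congr 3
  ext a
  rw [RingHom.comp_apply, RingHom.comp_apply, HomogeneousLocalization.algebraMap_apply,
    HomogeneousLocalization.algebraMap_apply, val_awayMap]
  rfl

theorem exists_chart_eq_of_not_mem {d : ℕ} {f : A} (hf : f ∈ 𝒜 d) (hd : 0 < d)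
    (x : (Cone.pointed 𝒜 : Scheme.{u})) (hfx : f ∉ ((Cone.pointed 𝒜).ι x).asIdeal) :
    ∃ q : Spec (CommRingCat.of (Localization.Away f)), Cone.chart hf hd q = x := by
  have hmem : ((Cone.pointed 𝒜).ι x) ∈ (PrimeSpectrum.basicOpen f : Set (PrimeSpectrum A)) := hfx
  rw [← PrimeSpectrum.localization_away_comap_range (Localization.Away f) f] at hmem
  obtain ⟨q, hq⟩ := hmem
  refine ⟨q, ?_⟩
  apply (Cone.pointed 𝒜).ι.isOpenEmbedding.injective
  have h1 : (Cone.pointed 𝒜).ι (Cone.chart hf hd q) =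
      (Spec.map (CommRingCat.ofHom (algebraMap A (Localization.Away f)))) q :=
    congrArg (fun φ : Spec (CommRingCat.of (Localization.Away f)) ⟶
      Spec (CommRingCat.of A) => φ q) (chart_ι hf hd)
  rw [h1]
  exact hq

theorem range_chart {d : ℕ} {f : A} (hf : f ∈ 𝒜 d) (hd : 0 < d) :
    Set.range (Cone.chart hf hd) = {x | f ∉ ((Cone.pointed 𝒜).ι x).asIdeal} := by
  ext x
  constructor
  · rintro ⟨q, rfl⟩
    exact not_mem_ι_chart hf hd q
  · intro hx
    exact exists_chart_eq_of_not_mem hf hd x hx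

variable (𝒜) in
/-- index type: homogeneous elements of positive degree. -/
abbrev Idx := Σ d : ℕ, {f : A // 0 < d ∧ f ∈ 𝒜 d}

variable (𝒜) in
/-- the cover of the pointed cone by the standard charts. -/
noncomputable def coverE : (Cone.pointed 𝒜 : Scheme.{u}).OpenCover :=
  Scheme.Cover.mkOfCovers (Idx 𝒜) (fun i => Spec (CommRingCat.of (Localization.Away i.2.1)))
    (fun i => Cone.chart i.2.2.2 i.2.2.1)
    (fun x => by
      obtain ⟨d, f, hd, hf, q, hq⟩ := exists_chart_eq x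
      exact ⟨⟨d, f, hd, hf⟩, q, hq⟩)
    (fun i => by change IsOpenImmersion _; infer_instance)

theorem πloc_compat (a b : Idx 𝒜) :
    pullback.fst ((coverE 𝒜).f a) ((coverE 𝒜).f b) ≫ πloc a.2.2.2 a.2.2.1 =
      pullback.snd ((coverE 𝒜).f a) ((coverE 𝒜).f b) ≫ πloc b.2.2.2 b.2.2.1 := by
  obtain ⟨d, f, hd, hf⟩ := a
  obtain ⟨e, g, he, hg⟩ := b
  change pullback.fst (Cone.chart hf hd) (Cone.chart hg he) ≫ πloc hf hd =
    pullback.snd (Cone.chart hf hd) (Cone.chart hg he) ≫ πloc hg he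
  have hxm : f * g ∈ 𝒜 (d + e) := SetLike.mul_mem_graded hf hg
  have hde : 0 < d + e := Nat.add_pos_left hd e
  have hx1 : f * g = f * g := rfl
  have hx2 : f * g = g * f := mul_comm f g
  let κ : Spec (CommRingCat.of (Localization.Away (f * g))) ⟶
      pullback (Cone.chart hf hd) (Cone.chart hg he) :=
    pullback.lift (Spec.map (CommRingCat.ofHom (awayRes hx1)))
      (Spec.map (CommRingCat.ofHom (awayRes hx2)))
      (by rw [chart_res hf hd hx1 hxm hde, chart_res hg he hx2 hxm hde])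
  have hκ1 : κ ≫ pullback.fst _ _ = Spec.map (CommRingCat.ofHom (awayRes hx1)) :=
    pullback.lift_fst _ _ _
  have hκ2 : κ ≫ pullback.snd _ _ = Spec.map (CommRingCat.ofHom (awayRes hx2)) :=
    pullback.lift_snd _ _ _
  have hrange : Set.range (Cone.chart hxm hde) =
      Set.range (pullback.fst (Cone.chart hf hd) (Cone.chart hg he) ≫ Cone.chart hf hd) := by
    rw [IsOpenImmersion.range_pullback_to_base_of_left, range_chart, range_chart, range_chart]
    ext x
    simp only [Set.mem_ofPred_eq, Set.mem_inter_iff]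
    constructor
    · intro h
      exact ⟨fun hf' => h (Ideal.mul_mem_right _ _ hf'), fun hg' => h (Ideal.mul_mem_left _ _ hg')⟩
    · rintro ⟨h1, h2⟩ h
      rcases ((Cone.pointed 𝒜).ι x).isPrime.mem_or_mem h with h3 | h3
      · exact h1 h3
      · exact h2 h3
  let e' := IsOpenImmersion.isoOfRangeEq (Cone.chart hxm hde)
    (pullback.fst (Cone.chart hf hd) (Cone.chart hg he) ≫ Cone.chart hf hd) hrange
  have hκ : κ = e'.hom := by
    rw [← cancel_mono (pullback.fst (Cone.chart hf hd) (Cone.chart hg he) ≫ Cone.chart hf hd),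
      IsOpenImmersion.isoOfRangeEq_hom_fac, ← Category.assoc, hκ1, chart_res hf hd hx1 hxm hde]
  have : IsIso κ := by
    rw [hκ]
    infer_instance
  rw [← cancel_epi κ, ← Category.assoc, ← Category.assoc, hκ1, hκ2,
    πloc_res hf hd hg hx1 hxm hde, πloc_res hg he hf hx2 hxm hde]

variable (𝒜) in
theorem exists_retraction : ∃ π : (Cone.pointed 𝒜 : Scheme.{u}) ⟶ Proj 𝒜,
    ∀ (d : ℕ) (f : A) (hd : 0 < d) (hf : f ∈ 𝒜 d),
      Cone.chart hf hd ≫ π =
        Spec.map (CommRingCat.ofHom (algebraMap (HomogeneousLocalization.Away 𝒜 f)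
          (Localization.Away f))) ≫ Proj.awayι 𝒜 f hf hd := by
  refine ⟨(coverE 𝒜).glueMorphisms (fun i => πloc i.2.2.2 i.2.2.1) πloc_compat, ?_⟩
  intro d f hd hf
  exact (coverE 𝒜).ι_glueMorphisms (fun i => πloc i.2.2.2 i.2.2.1) πloc_compat ⟨d, f, hd, hf⟩

theorem retraction_unique {π π' : (Cone.pointed 𝒜 : Scheme.{u}) ⟶ Proj 𝒜}
    (hπ : ∀ (d : ℕ) (f : A) (hd : 0 < d) (hf : f ∈ 𝒜 d),
      Cone.chart hf hd ≫ π =
        Spec.map (CommRingCat.ofHom (algebraMap (HomogeneousLocalization.Away 𝒜 f)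
          (Localization.Away f))) ≫ Proj.awayι 𝒜 f hf hd)
    (hπ' : ∀ (d : ℕ) (f : A) (hd : 0 < d) (hf : f ∈ 𝒜 d),
      Cone.chart hf hd ≫ π' =
        Spec.map (CommRingCat.ofHom (algebraMap (HomogeneousLocalization.Away 𝒜 f)
          (Localization.Away f))) ≫ Proj.awayι 𝒜 f hf hd) : π = π' := by
  refine (coverE 𝒜).hom_ext _ _ fun i => ?_
  obtain ⟨d, f, hd, hf⟩ := i
  change Cone.chart hf hd ≫ π = Cone.chart hf hd ≫ π'
  rw [hπ d f hd hf, hπ' d f hd hf]

end Glue

end Groth.Agent.Lib.Helper27ConeRetr
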