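import Mathlib
import Groth.Prelude.Def_ConstGrp

/-!
# Self-duality of the constant group scheme `ℤ/n` and primitive roots of unity
-/

namespace Groth.Agent.Lib.Helper27ConstDual

open ConstGrp TensorProduct

universe u v

section General

variable {k : Type u} [Field k] {G : Type v} [Group G] [Fintype G] [DecidableEq G]

theorem isGroupLike_iff (f : F k G) :
    IsGroupLikeElem k f ↔ (f 1 = 1 ∧ ∀ a b, f (a * b) = f a * f b) := by
  constructor
  · intro h
    refine ⟨by simpa using h.counit_eq_one, fun a b => ?_⟩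
    have := congrArg (fun t => pair k G t (a, b)) h.comul_eq_tmul_self
    simpa [pair_comul] using this
  · rintro ⟨h1, hm⟩
    refine ⟨by simpa using h1, ?_⟩
    rw [comul_eq_sum]
    conv_rhs => rw [eq_sum_smul_e f]
    rw [TensorProduct.sum_tmul]
    refine Finset.sum_congr rfl (fun a _ => ?_)
    rw [TensorProduct.tmul_sum]
    refine Finset.sum_congr rfl (fun b _ => ?_)
    rw [hm, TensorProduct.smul_tmul_smul]

theorem pow_apply (f : F k G) (m : ℕ) (g : G) : (f ^ m) g = f g ^ m := by
  induction m with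
  | zero => simp
  | succ m ih => rw [pow_succ, pow_succ, mul_apply, ih]

end General

section Cyclic

variable {k : Type u} [Field k] {n : ℕ} [NeZero n]

theorem pow_mod_eq {ζ : k} (hζ : ζ ^ n = 1) (m : ℕ) : ζ ^ (m % n) = ζ ^ m := by
  conv_rhs => rw [← Nat.div_add_mod m n, pow_add, pow_mul, hζ, one_pow, one_mul]

/-- `ζ ^ z` for `z : ZMod n` -/
def zp (ζ : k) (z : ZMod n) : k := ζ ^ z.val

theorem zp_zero (ζ : k) : zp ζ (0 : ZMod n) = 1 := by simp [zp]

theorem zp_add {ζ : k} (hζ : ζ ^ n = 1) (a b : ZMod n) : zp ζ (a + b) = zp ζ a * zp ζ b := by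
  unfold zp
  rw [ZMod.val_add, pow_mod_eq hζ, pow_add]

/-- the generator of the cyclic group -/
def g0 : Multiplicative (ZMod n) := Multiplicative.ofAdd 1

theorem eq_g0_pow (g : Multiplicative (ZMod n)) : g = g0 ^ (Multiplicative.toAdd g).val := by
  apply Multiplicative.toAdd.injective
  rw [toAdd_pow, g0, toAdd_ofAdd, nsmul_eq_mul, mul_one, ZMod.natCast_zmod_val]

theorem g0_pow_eq_one_iff (m : ℕ) : (g0 : Multiplicative (ZMod n)) ^ m = 1 ↔ n ∣ m := by
  rw [← Multiplicative.toAdd.injective.eq_iff, toAdd_pow, g0, toAdd_ofAdd, toAdd_one,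
    nsmul_eq_mul, mul_one, ZMod.natCast_eq_zero_iff]

variable [Fintype (Multiplicative (ZMod n))] [DecidableEq (Multiplicative (ZMod n))]

theorem exists_primitiveRoot_of_equiv
    (φ : F k (Multiplicative (ZMod n)) ≃ₐc[k] MonoidAlgebra k (Multiplicative (ZMod n))) :
    ∃ ζ : k, IsPrimitiveRoot ζ n := by
  set χ : F k (Multiplicative (ZMod n)) := φ.symm (MonoidAlgebra.of k _ g0) with hχ
  have hgl : IsGroupLikeElem k χ := by
    rw [hχ, isGroupLikeElem_map_equiv]
    exact MonoidAlgebra.isGroupLikeElem_of g0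
  obtain ⟨h1, hm⟩ := (isGroupLike_iff χ).mp hgl
  have hpow : ∀ (g : Multiplicative (ZMod n)) (j : ℕ), χ (g ^ j) = χ g ^ j := by
    intro g j
    induction j with
    | zero => simpa using h1
    | succ j ih => rw [pow_succ, hm, ih, pow_succ]
  refine ⟨χ g0, ?_⟩
  rw [IsPrimitiveRoot.iff_def]
  refine ⟨?_, fun m hmm => ?_⟩
  · rw [← hpow, (g0_pow_eq_one_iff n).mpr dvd_rfl, h1]
  · rw [← g0_pow_eq_one_iff]
    have h2 : χ ^ m = 1 := by
      ext g
      rw [pow_apply, one_apply, eq_g0_pow g, hpow, ← pow_mul, mul_comm, pow_mul, hmm, one_pow]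
    have h3 : φ.symm (MonoidAlgebra.of k _ (g0 ^ m)) = φ.symm 1 := by
      rw [map_pow, map_pow, ← hχ, h2, map_one]
    have h4 := φ.symm.injective h3
    have h5 : MonoidAlgebra.of k (Multiplicative (ZMod n)) (g0 ^ m) =
        MonoidAlgebra.of k (Multiplicative (ZMod n)) 1 := by
      rw [h4, map_one]
    exact MonoidAlgebra.of_injective h5


/-- the character `h ↦ ζ ^ (g * h)` -/
def chi (ζ : k) (g : Multiplicative (ZMod n)) : F k (Multiplicative (ZMod n)) :=
  fun h => zp ζ (Multiplicative.toAdd g * Multiplicative.toAdd h)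

theorem chi_apply (ζ : k) (g h : Multiplicative (ZMod n)) :
    chi ζ g h = zp ζ (Multiplicative.toAdd g * Multiplicative.toAdd h) := rfl

theorem chi_isGroupLike {ζ : k} (hζ : ζ ^ n = 1) (g : Multiplicative (ZMod n)) :
    IsGroupLikeElem k (chi ζ g) := by
  rw [isGroupLike_iff]
  refine ⟨?_, fun a b => ?_⟩
  · rw [chi_apply, toAdd_one, mul_zero, zp_zero]
  · rw [chi_apply, chi_apply, chi_apply, toAdd_mul, mul_add, zp_add hζ]

/-- the group hom to group-like elements -/
def theta {ζ : k} (hζ : ζ ^ n = 1) :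
    Multiplicative (ZMod n) →* GroupLike k (F k (Multiplicative (ZMod n))) where
  toFun g := ⟨chi ζ g, chi_isGroupLike hζ g⟩
  map_one' := by
    apply GroupLike.val_injective
    ext h
    show chi ζ 1 h = (1 : F k (Multiplicative (ZMod n))) h
    rw [chi_apply, toAdd_one, zero_mul, zp_zero, one_apply]
  map_mul' a b := by
    apply GroupLike.val_injective
    ext h
    show chi ζ (a * b) h = (chi ζ a * chi ζ b) h
    rw [mul_apply, chi_apply, chi_apply, chi_apply, toAdd_mul, add_mul, zp_add hζ]

theorem theta_val {ζ : k} (hζ : ζ ^ n = 1) (g : Multiplicative (ZMod n)) :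
    ((theta hζ g : GroupLike k (F k (Multiplicative (ZMod n)))) :
      F k (Multiplicative (ZMod n))) = chi ζ g := rfl

theorem theta_injective {ζ : k} (hζ : IsPrimitiveRoot ζ n) :
    Function.Injective (theta (n := n) hζ.pow_eq_one) := by
  intro a b hab
  have h1 : chi ζ a g0 = chi ζ b g0 := by
    rw [← theta_val hζ.pow_eq_one a, ← theta_val hζ.pow_eq_one b, hab]
  rw [chi_apply, chi_apply, g0, toAdd_ofAdd, mul_one, mul_one] at h1
  apply Multiplicative.toAdd.injective
  apply ZMod.val_injective n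
  exact hζ.pow_inj (ZMod.val_lt _) (ZMod.val_lt _) h1

/-- the bialgebra hom `k[G] → F k G` -/
noncomputable def psi {ζ : k} (hζ : ζ ^ n = 1) :
    MonoidAlgebra k (Multiplicative (ZMod n)) →ₐc[k] F k (Multiplicative (ZMod n)) :=
  (MonoidAlgebra.liftGroupLikeBialgHom).comp (MonoidAlgebra.mapDomainBialgHom k (theta hζ))

theorem psi_single {ζ : k} (hζ : ζ ^ n = 1) (g : Multiplicative (ZMod n)) (r : k) :
    psi hζ (MonoidAlgebra.single g r) = r • chi ζ g := by
  simp [psi, MonoidAlgebra.mapDomainBialgHom_single, theta_val, Algebra.smul_def]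

theorem psi_injective {ζ : k} (hζ : IsPrimitiveRoot ζ n) :
    Function.Injective (psi (n := n) hζ.pow_eq_one) := by
  have hli : LinearIndependent k (fun g : Multiplicative (ZMod n) => chi ζ g) := by
    have h0 := (linearIndep_groupLikeVal (R := k)
      (A := F k (Multiplicative (ZMod n)))).comp _ (theta_injective hζ)
    exact h0
  have key : ∀ x : MonoidAlgebra k (Multiplicative (ZMod n)),
      psi hζ.pow_eq_one x = Finsupp.linearCombination k (fun g => chi ζ g) x.coeff := by
    intro x
    induction x using MonoidAlgebra.induction_linear with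
    | zero => simp
    | add f g hf hg => rw [map_add, hf, hg, MonoidAlgebra.coeff_add, map_add]
    | single g r => rw [psi_single, MonoidAlgebra.coeff_single, Finsupp.linearCombination_single]
  rw [injective_iff_map_eq_zero]
  intro x hx
  rw [key] at hx
  have h2 := (linearIndependent_iff.mp hli) x.coeff hx
  exact MonoidAlgebra.coeff_eq_zero.mp h2

theorem psi_bijective {ζ : k} (hζ : IsPrimitiveRoot ζ n) :
    Function.Bijective (psi (n := n) hζ.pow_eq_one) := by
  refine ⟨psi_injective hζ, ?_⟩
  have hfr : Module.finrank k (MonoidAlgebra k (Multiplicative (ZMod n))) =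
      Module.finrank k (F k (Multiplicative (ZMod n))) := by
    rw [Module.finrank_eq_card_basis (MonoidAlgebra.basis (Multiplicative (ZMod n)) k),
      Module.finrank_eq_card_basis (ConstGrp.basis k (Multiplicative (ZMod n)))]
  have := (LinearMap.injective_iff_surjective_of_finrank_eq_finrank hfr
    (f := (psi (n := n) hζ.pow_eq_one).toCoalgHom.toLinearMap)).mp (psi_injective hζ)
  exact this

theorem nonempty_equiv_of_primitiveRoot {ζ : k} (hζ : IsPrimitiveRoot ζ n) :
    Nonempty (F k (Multiplicative (ZMod n)) ≃ₐc[k] MonoidAlgebra k (Multiplicative (ZMod n))) :=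
  ⟨(BialgEquiv.ofBijective (psi (n := n) hζ.pow_eq_one) (psi_bijective hζ)).symm⟩

end Cyclic

end Groth.Agent.Lib.Helper27ConstDual
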