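import Groth.Agent.Lib.Helper27ComplMap
import Groth.Agent.Lib.Helper17FFaith10
import Groth.Agent.Lib.Helper27EpiGen2
import Groth.Agent.Lib.Helper27AffineCrit
import Groth.Agent.Lib.Helper23QCohAbelian
import Groth.Agent.Lib.Helper20StalkExact
import Mathlib.RingTheory.Filtration

/-!
# The Artin–Rees lemma for coherent modules on a Noetherian scheme (helper27)

`sheafAR`: for a monomorphism `j : M' ⟶ M` of coherent modules on a Noetherian scheme over
`Spec A` and an ideal `I` of `A` there is `r` such that for all `n` the kernel of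
`M'/I^(n+r+1)M' ⟶ M/I^(n+r+1)M` dies in `M'/I^(n+1)M'`.
-/

set_option autoImplicit false
universe u
open CategoryTheory CategoryTheory.Limits AlgebraicGeometry Opposite TopologicalSpace

namespace Groth.Agent.Lib.Helper27SheafAR

open Groth.Agent.Lib.Helper17.FlatDev Groth.Agent.Lib.Helper27ComplMap
  Groth.Agent.Lib.Helper17.GrSysCoh Groth.Agent.Lib.Helper17.FFaith

variable {A : Type u} [CommRing A] {X : Scheme.{u}} [X.Over (Spec (CommRingCat.of A))]

theorem πQ_Qmod_app (J : Ideal A) {M M' : X.Modules} (f : M ⟶ M') (U : X.Opens) (x : Γ(M, U)) :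
    (Qmod J f).app U ((πQ J M).app U x) = (πQ J M').app U (f.app U x) := by
  have := congrArg (fun t => t.app U x) (πQ_Qmod J f)
  exact this

theorem πQ_Qmap_app {J J' : Ideal A} (h : J ≤ J') (M : X.Modules) (U : X.Opens) (x : Γ(M, U)) :
    (Qmap h M).app U ((πQ J M).app U x) = (πQ J' M).app U x := by
  have := congrArg (fun t => t.app U x) (πQ_Qmap h M)
  exact this

/-- the local statement on an affine open. -/
theorem local_AR [IsLocallyNoetherian X] (I : Ideal A) {M' M : X.Modules} (hM' : Coh.IsCoh M')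
    (hM : Coh.IsCoh M) (j : M' ⟶ M) [Mono j] {U : X.Opens} (hU : IsAffineOpen U) :
    ∃ k : ℕ, ∀ (n m : ℕ), n + 1 + k ≤ m → ∀ x : Γ(M', U),
      (πQ (I ^ m) M).app U (j.app U x) = 0 → (πQ (I ^ (n + 1)) M').app U x = 0 := by
  haveI : M'.IsQuasicoherent := hM'.1
  haveI : M.IsQuasicoherent := hM.1
  haveI : IsNoetherianRing Γ(X, U) := IsLocallyNoetherian.component_noetherian ⟨U, hU⟩
  haveI : SheafOfModules.IsFiniteType (R := X.ringCatSheaf) M := hM.2
  haveI : Module.Finite Γ(X, U) Γ(M, U) :=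
    Groth.Agent.Lib.Helper23.FinType.finite_of_isFiniteType M hU
  set Ib : Ideal Γ(X, U) := I.map (ρ U) with hIb
  set N : Submodule Γ(X, U) Γ(M, U) := LinearMap.range (appL j U) with hN
  obtain ⟨k, hk⟩ := Ideal.exists_pow_inf_eq_pow_smul Ib N
  refine ⟨k, fun n m hnm x hx => ?_⟩
  have h1 : j.app U x ∈ (Ib ^ m) • (⊤ : Submodule Γ(X, U) Γ(M, U)) := by
    have := (mem_smul_top_iff_gen hU (I ^ m) M (j.app U x)).1 hx
    rwa [Ideal.map_pow] at this
  have h2 : j.app U x ∈ Ib ^ m • (⊤ : Submodule Γ(X, U) Γ(M, U)) ⊓ N := ⟨h1, ⟨x, rfl⟩⟩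
  rw [hk m (by omega)] at h2
  have h3 : Ib ^ (m - k) • (Ib ^ k • (⊤ : Submodule Γ(X, U) Γ(M, U)) ⊓ N) ≤
      Ib ^ (n + 1) • N :=
    Submodule.smul_mono (Ideal.pow_le_pow_right (by omega)) inf_le_right
  have h4 : j.app U x ∈ Ib ^ (n + 1) • N := h3 h2
  have h5 : Ib ^ (n + 1) • N =
      (Ib ^ (n + 1) • (⊤ : Submodule Γ(X, U) Γ(M', U))).map (appL j U) := by
    rw [Submodule.map_smul'', Submodule.map_top]
  rw [h5] at h4
  obtain ⟨y, hy, hyx⟩ := h4
  have hinj := Groth.Agent.Lib.Helper20.StalkExact.injective_app_of_mono j U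
  have hxy : y = x := hinj hyx
  rw [← hxy]
  apply (mem_smul_top_iff_gen hU (I ^ (n + 1)) M' y).2
  rw [Ideal.map_pow]
  exact hy

theorem sheafAR [IsNoetherian X] (I : Ideal A) {M' M : X.Modules} (hM' : Coh.IsCoh M')
    (hM : Coh.IsCoh M) (j : M' ⟶ M) [Mono j] :
    ∃ r : ℕ, ∀ n : ℕ, kernel.ι (Qmod (I ^ (n + r + 1)) j) ≫
      Qmap (Ideal.pow_le_pow_right (show n + 1 ≤ n + r + 1 by omega)) M' = 0 := by
  haveI : M'.IsQuasicoherent := hM'.1
  haveI : M.IsQuasicoherent := hM.1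
  obtain ⟨t, U, hU, hcov⟩ := Groth.Agent.Lib.Helper27AffineCrit.exists_finite_affine_cover (X := X)
  choose k hk using fun i => local_AR I hM' hM j (hU i)
  refine ⟨Finset.univ.sup k, fun n => ?_⟩
  set m := n + Finset.univ.sup k + 1 with hm
  haveI : (Q (I ^ m) M').IsQuasicoherent :=
    (Groth.Agent.Lib.Helper17.IAdic.isCoh_quot (I ^ m) M' hM').1
  haveI : (Q (I ^ m) M).IsQuasicoherent :=
    (Groth.Agent.Lib.Helper17.IAdic.isCoh_quot (I ^ m) M hM).1
  haveI : (kernel (Qmod (I ^ m) j)).IsQuasicoherent :=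
    Groth.Agent.Lib.Helper23.QCohLocal.isQuasicoherent_kernel _
  refine Groth.Agent.Lib.Helper27EpiGen.hom_ext_of_affine_cover _ _ U hU (fun x => ?_) _ 0
    (fun i s => ?_)
  · have : x ∈ (⨆ i, U i : X.Opens) := by rw [hcov]; trivial
    exact Opens.mem_iSup.1 this
  · have goal : ∀ (h : I ^ m ≤ I ^ (n + 1)),
        (Qmap h M').app (U i) ((kernel.ι (Qmod (I ^ m) j)).app (U i) s) = 0 := by
      intro h
      set w := (kernel.ι (Qmod (I ^ m) j)).app (U i) s with hw
      have hw0 : (Qmod (I ^ m) j).app (U i) w = 0 := by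
        have := congrArg (fun t => t.app (U i) s) (kernel.condition (Qmod (I ^ m) j))
        exact this
      obtain ⟨x, hx⟩ := πQ_app_surjective (I ^ m) M' (hU i) w
      have h1 : (πQ (I ^ m) M).app (U i) (j.app (U i) x) = 0 := by
        rw [← πQ_Qmod_app, hx, hw0]
      have h2 := hk i n m (by
        have : k i ≤ Finset.univ.sup k := Finset.le_sup (Finset.mem_univ i)
        omega) x h1
      rw [← hx, πQ_Qmap_app]
      exact h2
    exact goal (Ideal.pow_le_pow_right (by omega))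

end Groth.Agent.Lib.Helper27SheafAR
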