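import Groth.Agent.Lib.Helper27NModel
import Groth.Agent.Lib.Helper27ARCohD
import Groth.Agent.Lib.Helper27SheafAR
import Groth.Agent.Lib.Helper27ComplMap

/-! The completion functor from coherent modules on a Noetherian scheme to helper17's abelian
category of adic Noetherian systems, and its exactness (helper27). -/
set_option autoImplicit false
set_option backward.isDefEq.respectTransparency false
set_option backward.isDefEq.respectTransparency.types false
universe w v u
open CategoryTheory CategoryTheory.Limits AlgebraicGeometry Opposite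

namespace Groth.Agent.Lib.Helper27CplA

open Groth.Agent.Lib.Helper17.FlatDev Groth.Agent.Lib.Helper27ARCohA
  Groth.Agent.Lib.Helper27ARCohB Groth.Agent.Lib.Helper27ARCohC Groth.Agent.Lib.Helper27NModel
  Groth.Agent.Lib.Helper27ARCohD Groth.Agent.Lib.Helper27ComplMap
  Groth.Agent.Lib.Helper17.ARSys1 Groth.Agent.Lib.Helper17.ARSys23

/-! ### right exactness of quotients modulo an ideal -/
section Abstract
variable {C : Type u} [Category.{v} C] [Abelian C] {R : Type w} [CommRing R] [Linear R C]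

theorem isColimit_quot (𝔞 : Ideal R) {X₁ X₂ X₃ Q₁ Q₂ Q₃ : C} (f : X₁ ⟶ X₂) (g : X₂ ⟶ X₃)
    (w : f ≫ g = 0) (hg : IsColimit (CokernelCofork.ofπ g w)) (p₁ : X₁ ⟶ Q₁) (p₂ : X₂ ⟶ Q₂)
    (p₃ : X₃ ⟶ Q₃) [Epi p₁] (h₂ : ARSys.IsQuot 𝔞 p₂) (h₃ : ARSys.IsQuot 𝔞 p₃)
    (f' : Q₁ ⟶ Q₂) (g' : Q₂ ⟶ Q₃) (hf : p₁ ≫ f' = f ≫ p₂) (hg' : p₂ ≫ g' = g ≫ p₃) :
    ∃ w' : f' ≫ g' = 0, Nonempty (IsColimit (CokernelCofork.ofπ g' w')) := by
  haveI : Epi p₂ := Groth.Agent.Lib.Helper4.AR.isQuot_epi _ _ h₂
  haveI : Epi p₃ := Groth.Agent.Lib.Helper4.AR.isQuot_epi _ _ h₃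
  haveI : Epi g := Cofork.IsColimit.epi hg
  have w' : f' ≫ g' = 0 := by
    rw [← cancel_epi p₁, comp_zero, ← Category.assoc, hf, Category.assoc, hg', ← Category.assoc, w,
      zero_comp]
  haveI : Epi g' := by
    haveI : Epi (p₂ ≫ g') := by rw [hg']; infer_instance
    exact epi_of_epi p₂ g'
  have key : ∀ {T : C} (h : Q₂ ⟶ T), f' ≫ h = 0 → ∃ k : Q₃ ⟶ T, g' ≫ k = h := by
    intro T h hh
    have h1 : f ≫ p₂ ≫ h = 0 := by rw [← Category.assoc, ← hf, Category.assoc, hh, comp_zero]
    obtain ⟨k', hk'⟩ := CokernelCofork.IsColimit.desc' hg (p₂ ≫ h) h1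
    have hk'' : g ≫ k' = p₂ ≫ h := hk'
    have hkill : ARSys.HomKilledBy 𝔞 k' := by
      intro a ha
      rw [← cancel_epi g, comp_zero, Linear.comp_smul, hk'', ← Linear.smul_comp]
      have : a • p₂ = 0 :=
        Groth.Agent.Lib.Helper4.AR.homKilledBy_of_killedBy_tgt _ _ h₂.1 a ha
      rw [this, zero_comp]
    obtain ⟨k, hk, -⟩ := h₃.2 _ k' hkill
    refine ⟨k, ?_⟩
    rw [← cancel_epi p₂, ← Category.assoc, hg', Category.assoc, hk, hk'']
  refine ⟨w', ⟨CokernelCofork.IsColimit.ofπ g' w' (fun h hh => (key h hh).choose)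
    (fun h hh => (key h hh).choose_spec) (fun h hh b hb => ?_)⟩⟩
  rw [← cancel_epi g', hb, (key h hh).choose_spec]

end Abstract

variable {A : Type u} [CommRing A] {X : Scheme.{u}} [X.Over (Spec (CommRingCat.of A))]

/-! ### transition maps of the completion system -/
section Tr

theorem πQ_tr (I : Ideal A) (M : X.Modules) {n m : ℕ} (h : n ≤ m) :
    πQ (I ^ (m + 1)) M ≫ ARSys.tr (Formal.completion I M) h = πQ (I ^ (n + 1)) M := by
  obtain ⟨d, rfl⟩ := Nat.exists_eq_add_of_le h
  induction d with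
  | zero =>
    have : ARSys.tr (Formal.completion I M) h = 𝟙 _ := tr_self _ n h
    rw [this]
    exact Category.comp_id _
  | succ d ih =>
    have h1 : ARSys.tr (Formal.completion I M) h =
        ARSys.tr (Formal.completion I M) (Nat.le_succ (n + d)) ≫
          ARSys.tr (Formal.completion I M) (Nat.le_add_right n d) :=
      (tr_comp _ (Nat.le_add_right n d) (Nat.le_succ (n + d))).symm
    have h2 : ARSys.tr (Formal.completion I M) (Nat.le_succ (n + d)) =
        Qmap (Ideal.pow_le_pow_right (Nat.le_succ (n + d + 1))) M :=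
      Groth.Agent.Lib.Helper27ComplHyp.tr_completion I M (n + d)
    rw [h1, h2]
    have h3 : πQ (I ^ (n + (d + 1) + 1)) M ≫
        Qmap (Ideal.pow_le_pow_right (Nat.le_succ (n + d + 1))) M = πQ (I ^ (n + d + 1)) M :=
      πQ_Qmap _ M
    rw [← Category.assoc]
    erw [h3]
    exact ih (Nat.le_add_right n d)

theorem tr_completion_eq (I : Ideal A) (M : X.Modules) {n m : ℕ} (h : n ≤ m) :
    ARSys.tr (Formal.completion I M) h =
      Qmap (Ideal.pow_le_pow_right (show n + 1 ≤ m + 1 by omega)) M := by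
  rw [← cancel_epi (πQ (I ^ (m + 1)) M), πQ_tr, πQ_Qmap]

theorem complMap_app (I : Ideal A) {M M' : X.Modules} (f : M ⟶ M') (n : ℕ) :
    (complMap I f).app (op n) = Qmod (I ^ (n + 1)) f := rfl

end Tr

/-! ### the completion functor -/
section Functor
variable [IsNoetherian X] (I : Ideal A) {R : Type w} [CommRing R] [IsNoetherianRing R]
  [Linear R (CohCat X)] (J : Ideal R) (hc : Compat (C := CohCat X) I J)

/-- the completion system of a coherent module, as a system of coherent modules. -/
noncomputable def cSys (M : CohCat X) : ARSys.PS (CohCat X) :=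
  liftSys (Formal.completion I M.obj) (isCohFormal_completion I M.obj M.property).1

theorem cSys_obj (M : CohCat X) (n : ℕ) : (cSys I M).obj (op n) = QC (I ^ (n + 1)) M := rfl

theorem cSys_tr_hom (M : CohCat X) {n m : ℕ} (h : n ≤ m) :
    (ARSys.tr (cSys I M) h).hom = ARSys.tr (Formal.completion I M.obj) h := rfl

/-- the morphism of completion systems induced by a morphism of coherent modules. -/
noncomputable def cSysMap {M N : CohCat X} (f : M ⟶ N) : cSys I M ⟶ cSys I N where
  app n := (cohP X).homMk ((complMap I f.hom).app n)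
  naturality n m g := by
    apply hom_ext'
    exact (complMap I f.hom).naturality g

theorem cSysMap_app_hom {M N : CohCat X} (f : M ⟶ N) (n : ℕ) :
    ((cSysMap I f).app (op n)).hom = Qmod (I ^ (n + 1)) f.hom := rfl

include hc in
theorem isAdicNoeth_cSys (M : CohCat X) : ARSys.IsAdicNoeth J (cSys I M) :=
  (hc.isAdicNoeth _).2 (isAdicNoeth_liftSys I _ (isCohFormal_completion I M.obj M.property))

/-- the completion of a coherent module, as an adic Noetherian system. -/
noncomputable def cObj (M : CohCat X) : Dcat (CohCat X) J := ⟨cSys I M, isAdicNoeth_cSys I J hc M⟩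

theorem cSysMap_id (M : CohCat X) : cSysMap I (𝟙 M) = 𝟙 (cSys I M) := by
  apply NatTrans.ext
  funext n
  induction n using Opposite.rec with | _ n => ?_
  apply hom_ext'
  rw [cSysMap_app_hom]
  exact Qmod_id _ _

theorem cSysMap_comp {M N P : CohCat X} (f : M ⟶ N) (g : N ⟶ P) :
    cSysMap I (f ≫ g) = cSysMap I f ≫ cSysMap I g := by
  apply NatTrans.ext
  funext n
  induction n using Opposite.rec with | _ n => ?_
  apply hom_ext'
  rw [cSysMap_app_hom]
  exact Qmod_comp _ _ _

/-- the completion functor. -/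
noncomputable def cFun : CohCat X ⥤ Dcat (CohCat X) J where
  obj M := cObj I J hc M
  map f := ObjectProperty.homMk (cSysMap I f)
  map_id M := by
    apply Groth.Agent.Lib.Helper27ARCohD.hom_ext
    exact cSysMap_id I M
  map_comp f g := by
    apply Groth.Agent.Lib.Helper27ARCohD.hom_ext
    exact cSysMap_comp I f g

end Functor

end Groth.Agent.Lib.Helper27CplA
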