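import Groth.Agent.Lib.Helper27CplA

/-! Exactness of the completion functor from coherent modules to adic Noetherian systems
(helper27). -/
set_option autoImplicit false
set_option backward.isDefEq.respectTransparency false
set_option backward.isDefEq.respectTransparency.types false
universe w v u
open CategoryTheory CategoryTheory.Limits AlgebraicGeometry Opposite

namespace Groth.Agent.Lib.Helper27CplB

open Groth.Agent.Lib.Helper17.FlatDev Groth.Agent.Lib.Helper27ARCohA
  Groth.Agent.Lib.Helper27ARCohB Groth.Agent.Lib.Helper27ARCohC Groth.Agent.Lib.Helper27NModel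
  Groth.Agent.Lib.Helper27ARCohD Groth.Agent.Lib.Helper27ComplMap
  Groth.Agent.Lib.Helper17.ARSys1 Groth.Agent.Lib.Helper17.ARSys23 Groth.Agent.Lib.Helper27CplA

attribute [local instance] Groth.Agent.Lib.Helper17.ARSys26.abelian

variable {A : Type u} [CommRing A] {X : Scheme.{u}} [X.Over (Spec (CommRingCat.of A))]
  [IsNoetherian X] (I : Ideal A) {R : Type w} [CommRing R] [IsNoetherianRing R]
  [Linear R (CohCat X)] (J : Ideal R) (hc : Compat (C := CohCat X) I J)

theorem Qmod_add (K : Ideal A) {M N : X.Modules} (f g : M ⟶ N) :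
    Qmod K (f + g) = Qmod K f + Qmod K g := by
  rw [← cancel_epi (πQ K M), πQ_Qmod, Preadditive.comp_add, Preadditive.add_comp, πQ_Qmod, πQ_Qmod]

theorem cSysMap_add {M N : CohCat X} (f g : M ⟶ N) :
    cSysMap I (f + g) = cSysMap I f + cSysMap I g := by
  apply NatTrans.ext
  funext n
  induction n using Opposite.rec with | _ n => ?_
  apply hom_ext'
  rw [cSysMap_app_hom]
  exact Qmod_add _ _ _

instance cFun_additive : (cFun I J hc).Additive where
  map_add {M N f g} := by
    apply Groth.Agent.Lib.Helper27ARCohD.hom_ext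
    exact cSysMap_add I f g

theorem cFun_map_hom {M N : CohCat X} (f : M ⟶ N) : ((cFun I J hc).map f).hom = cSysMap I f := rfl

theorem πQC_cSysMap_app {M N : CohCat X} (f : M ⟶ N) (n : ℕ) :
    πQC (I ^ (n + 1)) M ≫ (cSysMap I f).app (op n) = f ≫ πQC (I ^ (n + 1)) N := by
  apply hom_ext'
  exact πQ_Qmod _ _

instance epi_πQC (K : Ideal A) (M : CohCat X) : Epi (πQC K M) :=
  Groth.Agent.Lib.Helper4.AR.isQuot_epi _ _ (isQuot_πQC K M)

theorem epi_cSysMap {M N : CohCat X} (f : M ⟶ N) [Epi f] : Epi (cSysMap I f) := by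
  haveI : ∀ n : ℕᵒᵖ, Epi ((cSysMap I f).app n) := by
    intro n
    induction n using Opposite.rec with | _ n => ?_
    haveI : Epi (πQC (I ^ (n + 1)) M ≫ (cSysMap I f).app (op n)) := by
      rw [πQC_cSysMap_app]; infer_instance
    exact epi_of_epi (πQC (I ^ (n + 1)) M) _
  exact NatTrans.epi_of_epi_app _

theorem isARNull_kernel_cSysMap {M N : CohCat X} (f : M ⟶ N) [Mono f] :
    ARSys.IsARNull (kernel (cSysMap I f)) := by
  haveI : Mono f.hom := mono_hom_of_mono f
  obtain ⟨r, hr⟩ := Groth.Agent.Lib.Helper27SheafAR.sheafAR I M.property N.property f.hom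
  refine ⟨r, fun n => ?_⟩
  haveI : Mono (kernel.ι (cSysMap I f)) := inferInstance
  haveI : Mono ((kernel.ι (cSysMap I f)).app (op n)) := inferInstance
  rw [← cancel_mono ((kernel.ι (cSysMap I f)).app (op n)), zero_comp]
  have h1 : ARSys.shiftMap (kernel (cSysMap I f)) r n ≫ (kernel.ι (cSysMap I f)).app (op n) =
      (kernel.ι (cSysMap I f)).app (op (n + r)) ≫ ARSys.tr (cSys I M) (Nat.le_add_right n r) :=
    tr_nat (kernel.ι (cSysMap I f)) (Nat.le_add_right n r)
  rw [h1]
  set k := (kernel.ι (cSysMap I f)).app (op (n + r)) with hk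
  have hk0 : k ≫ (cSysMap I f).app (op (n + r)) = 0 := by
    have := congrArg (fun t => t.app (op (n + r))) (kernel.condition (cSysMap I f))
    exact this
  have hk0' : k.hom ≫ Qmod (I ^ (n + r + 1)) f.hom = 0 := by
    have := congrArg (fun t => t.hom) hk0
    exact this
  apply hom_ext'
  show k.hom ≫ (ARSys.tr (cSys I M) (Nat.le_add_right n r)).hom = 0
  rw [cSys_tr_hom, tr_completion_eq, ← kernel.lift_ι (Qmod (I ^ (n + r + 1)) f.hom) k.hom hk0',
    Category.assoc]
  have := hr n
  rw [this, comp_zero]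

theorem mono_cFun_map {M N : CohCat X} (f : M ⟶ N) [Mono f] : Mono ((cFun I J hc).map f) :=
  mono_of_isARNull_kernel J _ (isARNull_kernel_cSysMap I f)

theorem epi_cFun_map {M N : CohCat X} (f : M ⟶ N) [Epi f] : Epi ((cFun I J hc).map f) := by
  haveI : Epi ((cFun I J hc).map f).hom := epi_cSysMap I f
  exact epi_of_epi_hom J _

theorem exact_cFun (S : ShortComplex (CohCat X)) (hS : S.ShortExact) :
    (S.map (cFun I J hc)).Exact := by
  apply exact_of_epi_kernelLift J
  set f' := cSysMap I S.f with hf'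
  set g' := cSysMap I S.g with hg'
  have w : f' ≫ g' = 0 := by
    rw [hf', hg', ← cSysMap_comp, S.zero]
    have := cSysMap_add I (0 : S.X₁ ⟶ S.X₃) 0
    rw [add_zero] at this
    exact left_eq_add.mp this
  show Epi (kernel.lift g' f' w)
  haveI : ∀ n : ℕᵒᵖ, Epi ((kernel.lift g' f' w).app n) := by
    intro n
    induction n using Opposite.rec with | _ n => ?_
    haveI : Mono S.f := hS.mono_f
    haveI : Epi S.g := hS.epi_g
    obtain ⟨wn, ⟨hcol⟩⟩ := isColimit_quot (I ^ (n + 1)) S.f S.g S.zero hS.gIsCokernel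
      (πQC (I ^ (n + 1)) S.X₁) (πQC (I ^ (n + 1)) S.X₂) (πQC (I ^ (n + 1)) S.X₃)
      (isQuot_πQC _ _) (isQuot_πQC _ _) (f'.app (op n)) (g'.app (op n))
      (πQC_cSysMap_app I S.f n) (πQC_cSysMap_app I S.g n)
    have hex : (ShortComplex.mk (f'.app (op n)) (g'.app (op n)) wn).Exact :=
      ShortComplex.exact_of_g_is_cokernel _ hcol
    have hepi : Epi (kernel.lift (g'.app (op n)) (f'.app (op n)) wn) :=
      (ShortComplex.exact_iff_epi_kernel_lift _).1 hex
    have hlim := KernelFork.mapIsLimit _ (kernelIsKernel g')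
      ((evaluation ℕᵒᵖ (CohCat X)).obj (op n))
    let e := IsLimit.conePointUniqueUpToIso hlim (kernelIsKernel (g'.app (op n)))
    have he : e.hom ≫ kernel.ι (g'.app (op n)) = (kernel.ι g').app (op n) :=
      IsLimit.conePointUniqueUpToIso_hom_comp hlim (kernelIsKernel (g'.app (op n)))
        WalkingParallelPair.zero
    have h2 : (kernel.lift g' f' w).app (op n) ≫ e.hom =
        kernel.lift (g'.app (op n)) (f'.app (op n)) wn := by
      rw [← cancel_mono (kernel.ι (g'.app (op n))), Category.assoc, he, kernel.lift_ι]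
      have := congrArg (fun t => t.app (op n)) (kernel.lift_ι g' f' w)
      exact this
    haveI : Epi ((kernel.lift g' f' w).app (op n) ≫ e.hom) := by rw [h2]; exact hepi
    have h3 : ((kernel.lift g' f' w).app (op n) ≫ e.hom) ≫ e.inv =
        (kernel.lift g' f' w).app (op n) := by
      rw [Category.assoc, e.hom_inv_id]
      exact Category.comp_id _
    rw [← h3]
    infer_instance
  exact NatTrans.epi_of_epi_app _

instance preservesFiniteLimits_cFun : PreservesFiniteLimits (cFun I J hc) := by
  rw [Functor.preservesFiniteLimits_iff_forall_exact_map_and_mono]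
  intro S hS
  haveI : Mono S.f := hS.mono_f
  exact ⟨exact_cFun I J hc S hS, mono_cFun_map I J hc S.f⟩

instance preservesFiniteColimits_cFun : PreservesFiniteColimits (cFun I J hc) := by
  rw [Functor.preservesFiniteColimits_iff_forall_exact_map_and_epi]
  intro S hS
  haveI : Epi S.g := hS.epi_g
  exact ⟨exact_cFun I J hc S hS, epi_cFun_map I J hc S.g⟩

end Groth.Agent.Lib.Helper27CplB
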