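import Groth.Agent.Lib.Helper27CplB

/-! The truncation morphism `Y ⟶ c(Y_L)` of an adic Noetherian system of coherent modules onto
the completion of its `L`-th term (helper27). -/
set_option autoImplicit false
set_option backward.isDefEq.respectTransparency false
set_option backward.isDefEq.respectTransparency.types false
universe w v u
open CategoryTheory CategoryTheory.Limits AlgebraicGeometry Opposite

namespace Groth.Agent.Lib.Helper27CplC

open Groth.Agent.Lib.Helper17.FlatDev Groth.Agent.Lib.Helper27ARCohA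
  Groth.Agent.Lib.Helper27ARCohB Groth.Agent.Lib.Helper27ARCohC Groth.Agent.Lib.Helper27NModel
  Groth.Agent.Lib.Helper27ARCohD Groth.Agent.Lib.Helper27ComplMap
  Groth.Agent.Lib.Helper17.ARSys1 Groth.Agent.Lib.Helper17.ARSys10
  Groth.Agent.Lib.Helper17.ARSys23 Groth.Agent.Lib.Helper27CplA
  Groth.Agent.Lib.Helper27CplB

attribute [local instance] Groth.Agent.Lib.Helper17.ARSys26.abelian

variable {A : Type u} [CommRing A] {X : Scheme.{u}} [X.Over (Spec (CommRingCat.of A))]
  [IsNoetherian X] (I : Ideal A) {R : Type w} [CommRing R] [IsNoetherianRing R]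
  [Linear R (CohCat X)] (J : Ideal R) (hc : Compat (C := CohCat X) I J)

theorem πQC_tr (M : CohCat X) {n m : ℕ} (h : n ≤ m) :
    πQC (I ^ (m + 1)) M ≫ ARSys.tr (cSys I M) h = πQC (I ^ (n + 1)) M := by
  apply hom_ext'
  exact πQ_tr I M.obj h

include hc in
theorem isQuot_πQC' (n : ℕ) (M : CohCat X) : ARSys.IsQuot (J ^ n) (πQC (I ^ n) M) :=
  (hc.isQuot n _).2 (isQuot_πQC _ _)

section Tau
variable (L : ℕ) (Y : Dcat (CohCat X) J)

theorem epi_tr {n m : ℕ} (h : n ≤ m) : Epi (ARSys.tr Y.obj h) :=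
  isStrict_of_isAdic J _ Y.property.1 n m h

/-- the morphism `Y[L] ⟶ c(Y_L)`. -/
noncomputable def tauPre : (ARSys.shift (CohCat X) L).obj Y.obj ⟶ cSys I (Y.obj.obj (op L)) :=
  NatTrans.ofOpSequence
    (fun n => ARSys.tr Y.obj (Nat.le_add_left L n) ≫ πQC (I ^ (n + 1)) (Y.obj.obj (op L)))
    (fun n => by
      have h1 : ((ARSys.shift (CohCat X) L).obj Y.obj).map (homOfLE (n.le_add_right 1)).op =
          ARSys.tr Y.obj (show n + L ≤ n + 1 + L by omega) := rfl
      have h2 : (cSys I (Y.obj.obj (op L))).map (homOfLE (n.le_add_right 1)).op =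
          ARSys.tr (cSys I (Y.obj.obj (op L))) (Nat.le_succ n) := rfl
      rw [h1, h2, Category.assoc, πQC_tr, ← Category.assoc, tr_comp])

theorem tauPre_app (n : ℕ) : (tauPre I J L Y).app (op n) =
    ARSys.tr Y.obj (Nat.le_add_left L n) ≫ πQC (I ^ (n + 1)) (Y.obj.obj (op L)) := rfl

include hc in
theorem exists_tauSys : ∃ g : Y.obj ⟶ cSys I (Y.obj.obj (op L)), ∀ n : ℕ,
    (tauPre I J L Y).app (op n) = ARSys.shiftMap Y.obj L n ≫ g.app (op n) :=
  (Groth.Agent.S13607.result J Y.obj (cSys I (Y.obj.obj (op L))) Y.property.1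
    (isAdicNoeth_cSys I J hc _).1.1 L (tauPre I J L Y)).exists

/-- the truncation morphism `Y ⟶ c(Y_L)`. -/
noncomputable def tau : Y ⟶ cObj I J hc (Y.obj.obj (op L)) :=
  ObjectProperty.homMk (exists_tauSys I J hc L Y).choose

theorem tau_spec (n : ℕ) : ARSys.tr Y.obj (Nat.le_add_right n L) ≫ (tau I J hc L Y).hom.app (op n) =
    ARSys.tr Y.obj (Nat.le_add_left L n) ≫ πQC (I ^ (n + 1)) (Y.obj.obj (op L)) :=
  ((exists_tauSys I J hc L Y).choose_spec n).symm

instance epi_tau : Epi (tau I J hc L Y) := by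
  haveI : ∀ n : ℕᵒᵖ, Epi ((tau I J hc L Y).hom.app n) := by
    intro n
    induction n using Opposite.rec with | _ n => ?_
    haveI := epi_tr J Y (Nat.le_add_left L n)
    haveI : Epi (ARSys.tr Y.obj (Nat.le_add_right n L) ≫ (tau I J hc L Y).hom.app (op n)) := by
      rw [tau_spec]; infer_instance
    exact epi_of_epi (ARSys.tr Y.obj (Nat.le_add_right n L)) _
  haveI : Epi (tau I J hc L Y).hom := NatTrans.epi_of_epi_app _
  exact epi_of_epi_hom J _

/-- naturality of the truncation morphism. -/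
theorem tau_naturality {Y Y' : Dcat (CohCat X) J} (g : Y ⟶ Y') :
    g ≫ tau I J hc L Y' = tau I J hc L Y ≫ (cFun I J hc).map (g.hom.app (op L)) := by
  apply Groth.Agent.Lib.Helper27ARCohD.hom_ext
  apply NatTrans.ext
  funext n
  induction n using Opposite.rec with | _ n => ?_
  haveI := epi_tr J Y (Nat.le_add_right n L)
  rw [← cancel_epi (ARSys.tr Y.obj (Nat.le_add_right n L))]
  show ARSys.tr Y.obj (Nat.le_add_right n L) ≫ g.hom.app (op n) ≫ (tau I J hc L Y').hom.app (op n) =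
    ARSys.tr Y.obj (Nat.le_add_right n L) ≫ (tau I J hc L Y).hom.app (op n) ≫
      (cSysMap I (g.hom.app (op L))).app (op n)
  rw [← Category.assoc, tr_nat g.hom, Category.assoc, tau_spec, ← Category.assoc, ← tr_nat g.hom,
    Category.assoc, ← Category.assoc (ARSys.tr Y.obj (Nat.le_add_right n L)), tau_spec,
    Category.assoc, πQC_cSysMap_app]

/-- the truncation of the completion of a coherent module. -/
theorem tau_cObj (M : CohCat X) :
    (tau I J hc L (cObj I J hc M) : cObj I J hc M ⟶ cObj I J hc (QC (I ^ (L + 1)) M)) =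
      (cFun I J hc).map (πQC (I ^ (L + 1)) M) := by
  apply Groth.Agent.Lib.Helper27ARCohD.hom_ext
  apply NatTrans.ext
  funext n
  induction n using Opposite.rec with | _ n => ?_
  haveI := epi_tr J (cObj I J hc M) (Nat.le_add_right n L)
  rw [← cancel_epi (ARSys.tr (cObj I J hc M).obj (Nat.le_add_right n L)),
    ← cancel_epi (πQC (I ^ (n + L + 1)) M)]
  have e1 := tau_spec I J hc L (cObj I J hc M) n
  have e2 : πQC (I ^ (n + L + 1)) M ≫ ARSys.tr (cSys I M) (Nat.le_add_right n L) =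
      πQC (I ^ (n + 1)) M := πQC_tr I M _
  have e3 : πQC (I ^ (n + L + 1)) M ≫ ARSys.tr (cSys I M) (Nat.le_add_left L n) =
      πQC (I ^ (L + 1)) M := πQC_tr I M _
  calc πQC (I ^ (n + L + 1)) M ≫ ARSys.tr (cObj I J hc M).obj (Nat.le_add_right n L) ≫
        (tau I J hc L (cObj I J hc M)).hom.app (op n)
      = πQC (I ^ (n + L + 1)) M ≫ ARSys.tr (cSys I M) (Nat.le_add_left L n) ≫
          πQC (I ^ (n + 1)) (QC (I ^ (L + 1)) M) := by rw [e1]; rfl
    _ = πQC (I ^ (L + 1)) M ≫ πQC (I ^ (n + 1)) (QC (I ^ (L + 1)) M) := by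
        rw [← Category.assoc, e3]
    _ = πQC (I ^ (n + 1)) M ≫ (cSysMap I (πQC (I ^ (L + 1)) M)).app (op n) :=
        (πQC_cSysMap_app I _ n).symm
    _ = πQC (I ^ (n + L + 1)) M ≫ ARSys.tr (cObj I J hc M).obj (Nat.le_add_right n L) ≫
        ((cFun I J hc).map (πQC (I ^ (L + 1)) M)).hom.app (op n) := by
        rw [← Category.assoc]
        erw [e2]
        rfl

/-- morphisms killed by `J^{L+1}` factor through the truncation. -/
theorem tau_fac {T : Dcat (CohCat X) J} (g : Y ⟶ T)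
    (hg : ∀ n : ℕ, ARSys.HomKilledBy (J ^ (L + 1)) (g.hom.app (op n))) :
    ∃ h : cObj I J hc (Y.obj.obj (op L)) ⟶ T, tau I J hc L Y ≫ h = g := by
  set YL := Y.obj.obj (op L) with hYL
  -- the maps `ψ_n : Y_L ⟶ T_n`
  have hψ : ∀ n : ℕ, ∃ ψ : YL ⟶ T.obj.obj (op n), ARSys.tr Y.obj (Nat.le_add_left L n) ≫ ψ =
      g.hom.app (op (n + L)) ≫ ARSys.tr T.obj (Nat.le_add_right n L) := fun n =>
    ((Y.property.1.2 L (n + L) (Nat.le_add_left L n)).2 _ _
      (Groth.Agent.Lib.Helper4.AR.homKilledBy_comp_right _ _ _ (hg (n + L)))).exists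
  choose ψ hψ using hψ
  have hh : ∀ n : ℕ, ∃ h : QC (I ^ (n + 1)) YL ⟶ T.obj.obj (op n),
      πQC (I ^ (n + 1)) YL ≫ h = ψ n := fun n =>
    ((isQuot_πQC' I J hc (n + 1) YL).2 _ (ψ n)
      (Groth.Agent.Lib.Helper4.AR.homKilledBy_of_killedBy_tgt _ _ (T.property.1.1 n))).exists
  choose h hh using hh
  have hψsucc : ∀ n : ℕ, ψ (n + 1) ≫ ARSys.tr T.obj (Nat.le_succ n) = ψ n := by
    intro n
    haveI := epi_tr J Y (Nat.le_add_left L (n + 1))
    rw [← cancel_epi (ARSys.tr Y.obj (Nat.le_add_left L (n + 1))), ← Category.assoc, hψ,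
      Category.assoc, tr_comp]
    have e1 : ARSys.tr Y.obj (Nat.le_add_left L (n + 1)) =
        ARSys.tr Y.obj (show n + L ≤ n + 1 + L by omega) ≫ ARSys.tr Y.obj (Nat.le_add_left L n) :=
      (tr_comp _ _ _).symm
    rw [e1, Category.assoc, hψ, ← Category.assoc, tr_nat g.hom, Category.assoc, tr_comp]
  let hsys : cSys I YL ⟶ T.obj := NatTrans.ofOpSequence h (fun n => by
    have h2 : (cSys I YL).map (homOfLE (n.le_add_right 1)).op =
        ARSys.tr (cSys I YL) (Nat.le_succ n) := rfl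
    have h3 : T.obj.map (homOfLE (n.le_add_right 1)).op = ARSys.tr T.obj (Nat.le_succ n) := rfl
    rw [h2, h3, ← cancel_epi (πQC (I ^ (n + 1 + 1)) YL), ← Category.assoc, πQC_tr, hh,
      ← Category.assoc, hh, hψsucc])
  refine ⟨ObjectProperty.homMk hsys, ?_⟩
  apply Groth.Agent.Lib.Helper27ARCohD.hom_ext
  apply NatTrans.ext
  funext n
  induction n using Opposite.rec with | _ n => ?_
  haveI := epi_tr J Y (Nat.le_add_right n L)
  rw [← cancel_epi (ARSys.tr Y.obj (Nat.le_add_right n L))]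
  show ARSys.tr Y.obj (Nat.le_add_right n L) ≫ (tau I J hc L Y).hom.app (op n) ≫ h n =
    ARSys.tr Y.obj (Nat.le_add_right n L) ≫ g.hom.app (op n)
  rw [← Category.assoc, tau_spec, Category.assoc, hh, hψ, tr_nat g.hom]

/-- the truncation of a `J^{L+1}`-torsion system is an isomorphism. -/
theorem isIso_tau (hk : ∀ n : ℕ, ARSys.KilledBy (J ^ (L + 1)) (Y.obj.obj (op n))) :
    IsIso (tau I J hc L Y) := by
  obtain ⟨h, hh⟩ := tau_fac I J hc L Y (𝟙 Y) (fun n =>
    Groth.Agent.Lib.Helper4.AR.homKilledBy_of_killedBy_tgt _ _ (hk n))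
  haveI : IsSplitMono (tau I J hc L Y) := ⟨⟨⟨h, hh⟩⟩⟩
  exact isIso_of_epi_of_isSplitMono _

end Tau

/-- the terms of the completion of a torsion module are torsion. -/
theorem killedBy_cSys (M : CohCat X) (s : ℕ) (hM : ARSys.KilledBy (J ^ s) M) (n : ℕ) :
    ARSys.KilledBy (J ^ s) ((cSys I M).obj (op n)) :=
  Groth.Agent.Lib.Helper4.AR.killedBy_of_epi _ (πQC (I ^ (n + 1)) M) hM

end Groth.Agent.Lib.Helper27CplC
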