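import Groth.Agent.Lib.Helper27CplC
import Groth.Agent.Lib.Helper17FFaith11

/-! Full faithfulness of the completion functor on pairs of coherent modules one of which is
torsion, linearity, and the scalar endomorphisms of adic Noetherian systems (helper27). -/
set_option autoImplicit false
set_option backward.isDefEq.respectTransparency false
set_option backward.isDefEq.respectTransparency.types false
universe w v u
open CategoryTheory CategoryTheory.Limits AlgebraicGeometry Opposite

namespace Groth.Agent.Lib.Helper27CplD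

open Groth.Agent.Lib.Helper17.FlatDev Groth.Agent.Lib.Helper27ARCohA
  Groth.Agent.Lib.Helper27ARCohB Groth.Agent.Lib.Helper27ARCohC Groth.Agent.Lib.Helper27NModel
  Groth.Agent.Lib.Helper27ARCohD Groth.Agent.Lib.Helper27ComplMap
  Groth.Agent.Lib.Helper17.ARSys1 Groth.Agent.Lib.Helper17.ARSys10
  Groth.Agent.Lib.Helper17.ARSys23 Groth.Agent.Lib.Helper27CplA
  Groth.Agent.Lib.Helper27CplB Groth.Agent.Lib.Helper27CplC

attribute [local instance] Groth.Agent.Lib.Helper17.ARSys26.abelian

variable {A : Type u} [CommRing A] {X : Scheme.{u}} [X.Over (Spec (CommRingCat.of A))]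
  [IsNoetherian X] (I : Ideal A) {R : Type w} [CommRing R] [IsNoetherianRing R]
  [Linear R (CohCat X)] (J : Ideal R) (hc : Compat (C := CohCat X) I J)

include hc in
theorem formalKilledBy_of_killedBy {M : CohCat X} {s : ℕ} (h : ARSys.KilledBy (J ^ s) M) :
    Formal.KilledBy (I ^ s) M.obj := (killedBy_iff _ _).1 ((hc.killedBy s _).1 h)

/-- a morphism of completion systems, as a morphism of systems of `𝒪_X`-modules. -/
noncomputable def toNat {M N : CohCat X} (ψ : cObj I J hc M ⟶ cObj I J hc N) :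
    Formal.completion I M.obj ⟶ Formal.completion I N.obj :=
  Functor.whiskerRight ψ.hom (cohP X).ι

theorem toNat_app {M N : CohCat X} (ψ : cObj I J hc M ⟶ cObj I J hc N) (n : ℕ) :
    (toNat I J hc ψ).app (op n) = (ψ.hom.app (op n)).hom := rfl

theorem eq_of_toNat_spec {M N : CohCat X} (φ : M ⟶ N) (ψ : cObj I J hc M ⟶ cObj I J hc N)
    (h : ∀ n : ℕ, Formal.modPowπ I (n + 1) M.obj ≫ (toNat I J hc ψ).app (op n) =
      φ.hom ≫ Formal.modPowπ I (n + 1) N.obj) : (cFun I J hc).map φ = ψ := by
  apply Groth.Agent.Lib.Helper27ARCohD.hom_ext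
  apply NatTrans.ext
  funext n
  induction n using Opposite.rec with | _ n => ?_
  apply hom_ext'
  show Qmod (I ^ (n + 1)) φ.hom = (ψ.hom.app (op n)).hom
  rw [← cancel_epi (πQ (I ^ (n + 1)) M.obj), πQ_Qmod]
  exact (h n).symm

theorem toNat_spec_of_eq {M N : CohCat X} (φ : M ⟶ N) (ψ : cObj I J hc M ⟶ cObj I J hc N)
    (h : (cFun I J hc).map φ = ψ) (n : ℕ) :
    Formal.modPowπ I (n + 1) M.obj ≫ (toNat I J hc ψ).app (op n) =
      φ.hom ≫ Formal.modPowπ I (n + 1) N.obj := by
  rw [← h]
  exact πQ_Qmod (I ^ (n + 1)) φ.hom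

/-- fullness of the completion functor when the source or the target is torsion. -/
theorem exists_map_of_killed (M N : CohCat X) (s : ℕ)
    (h : ARSys.KilledBy (J ^ s) M ∨ ARSys.KilledBy (J ^ s) N)
    (ψ : cObj I J hc M ⟶ cObj I J hc N) : ∃ φ : M ⟶ N, (cFun I J hc).map φ = ψ := by
  obtain ⟨φ₀, hφ₀, -⟩ := Groth.Agent.Lib.Helper17.FFaith.existsUnique_of_killedBy I M.obj N.obj
    M.property N.property ⟨s, h.imp (formalKilledBy_of_killedBy I J hc)
      (formalKilledBy_of_killedBy I J hc)⟩ (toNat I J hc ψ)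
  exact ⟨(cohP X).homMk φ₀, eq_of_toNat_spec I J hc _ ψ hφ₀⟩

/-- faithfulness of the completion functor when the source or the target is torsion. -/
theorem map_injective_of_killed (M N : CohCat X) (s : ℕ)
    (h : ARSys.KilledBy (J ^ s) M ∨ ARSys.KilledBy (J ^ s) N) {f g : M ⟶ N}
    (hfg : (cFun I J hc).map f = (cFun I J hc).map g) : f = g := by
  obtain ⟨φ₀, -, huniq⟩ := Groth.Agent.Lib.Helper17.FFaith.existsUnique_of_killedBy I M.obj N.obj
    M.property N.property ⟨s, h.imp (formalKilledBy_of_killedBy I J hc)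
      (formalKilledBy_of_killedBy I J hc)⟩ (toNat I J hc ((cFun I J hc).map f))
  apply hom_ext'
  rw [huniq f.hom (toNat_spec_of_eq I J hc f _ rfl), huniq g.hom (toNat_spec_of_eq I J hc g _ hfg.symm)]

/-! ### scalar endomorphisms -/

/-- the endomorphism `a • 𝟙` of an adic Noetherian system. -/
noncomputable def smulD (a : R) (Y : Dcat (CohCat X) J) : Y ⟶ Y := ObjectProperty.homMk (smulEnd a Y.obj)

theorem smulD_app (a : R) (Y : Dcat (CohCat X) J) (n : ℕ) :
    (smulD J a Y).hom.app (op n) = a • 𝟙 (Y.obj.obj (op n)) := rfl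

theorem smulD_comp (a : R) {Y Y' : Dcat (CohCat X) J} (f : Y ⟶ Y') :
    smulD J a Y ≫ f = f ≫ smulD J a Y' := by
  apply Groth.Agent.Lib.Helper27ARCohD.hom_ext
  apply NatTrans.ext
  funext n
  induction n using Opposite.rec with | _ n => ?_
  show (a • 𝟙 _) ≫ f.hom.app (op n) = f.hom.app (op n) ≫ (a • 𝟙 _)
  rw [Linear.smul_comp, Linear.comp_smul, Category.id_comp, Category.comp_id]

theorem smulD_eq_zero_iff (a : R) (Y : Dcat (CohCat X) J) :
    smulD J a Y = 0 ↔ ∀ n : ℕ, a • 𝟙 (Y.obj.obj (op n)) = 0 := by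
  constructor
  · intro h n
    have := congrArg (fun x => x.hom.app (op n)) h
    exact this
  · intro h
    apply Groth.Agent.Lib.Helper27ARCohD.hom_ext
    apply NatTrans.ext
    funext n
    induction n using Opposite.rec with | _ n => ?_
    exact h n

theorem πQC_smul_app (K : Ideal A) (a : R) (M : CohCat X) :
    πQC K M ≫ (a • 𝟙 (QC K M)) = (a • 𝟙 M) ≫ πQC K M := by
  rw [Linear.comp_smul, Linear.smul_comp, Category.comp_id, Category.id_comp]

/-- the completion functor is compatible with the scalar endomorphisms. -/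
theorem cFun_map_smul_id (a : R) (M : CohCat X) :
    (cFun I J hc).map (a • 𝟙 M) = smulD J a (cObj I J hc M) := by
  apply Groth.Agent.Lib.Helper27ARCohD.hom_ext
  apply NatTrans.ext
  funext n
  induction n using Opposite.rec with | _ n => ?_
  show (cSysMap I (a • 𝟙 M)).app (op n) = a • 𝟙 _
  rw [← cancel_epi (πQC (I ^ (n + 1)) M), πQC_cSysMap_app]
  exact (πQC_smul_app (I ^ (n + 1)) a M).symm

end Groth.Agent.Lib.Helper27CplD
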