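import Groth.Agent.Lib.Helper27GlobGenPn
import Groth.Agent.Lib.Helper27PnCohVanish
import Groth.Agent.Lib.Helper27PnSections
import Groth.Agent.Lib.Helper23QCohAbelian
import Groth.Agent.S0038
import Groth.Agent.Lib.Helper27TwistEq

/-!
# Linear presentations of `m`-regular modules on `P^n_k` (helper27)

`F` coherent on `P^n_k` is `m`-regular iff there is an epimorphism `O(-m)^b ⟶ F` with
`(m+1)`-regular kernel.
-/

set_option autoImplicit false
universe u

open CategoryTheory CategoryTheory.Limits AlgebraicGeometry TopologicalSpace Opposite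
  HomogeneousLocalization MvPolynomial

namespace Groth.Agent.Lib.Helper27LinRes

open Groth.Agent.Lib.Helper27PnHom
  Groth.Agent.Lib.Helper27SerreVan Groth.Agent.Lib.Helper27CMReg Groth.Agent.Lib.Helper27GenTop
  Groth.Agent.Lib.Helper27CoprodFin Groth.Agent.Lib.Helper27CohFin
  Groth.Agent.Lib.Helper21.ModTensor3
  Groth.Agent.Lib.Helper21.ModTensor5
  Groth.Agent.Lib.Helper21.ModTensor6 Groth.Agent.Lib.Helper21.ModTensor7
  Groth.Agent.Lib.Helper27GlobGenPn Groth.Agent.Lib.Helper27PnSections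
  Groth.Agent.Lib.Helper23.GenLocus Groth.Agent.Lib.Helper6 Groth.Agent.Lib.Helper23.QCohLocal

section Abstract

variable {X : Scheme.{u}}

/-- `H^1(X₁) = 0` if `X₂ ⟶ X₃` is surjective on global sections and `H^1(X₂) = 0`. -/
theorem subsingleton_H1_of_surjective_top (S : ShortComplex X.Modules) (hS : S.ShortExact)
    (hsurj : Function.Surjective (S.g.app ⊤)) (h2 : Subsingleton (Coh.HH X S.X₂ 1)) :
    Subsingleton (Coh.HH X S.X₁ 1) := by
  have key : ∀ x : Coh.HH X S.X₁ 1, x = 0 := by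
    intro x
    have hS' := shortExact_toAbF S hS
    obtain ⟨y, hy⟩ := Abelian.Ext.covariant_sequence_exact₁ _ hS' (n₁ := 1) x
      (Subsingleton.elim (α := Coh.HH X S.X₂ 1) _ _) (n₀ := 0) rfl
    have hT : Limits.IsTerminal (⊤ : X.Opens) := Limits.isTerminalTop
    obtain ⟨t, ht⟩ := hsurj (Sheaf.H.equiv₀ (Coh.toAb S.X₃) hT y)
    let z : Coh.HH X S.X₂ 0 := (Sheaf.H.equiv₀ (Coh.toAb S.X₂) hT).symm t
    have hz : Sheaf.H.map ((SheafOfModules.toSheaf X.ringCatSheaf).map S.g) 0 z = y := by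
      apply (Sheaf.H.equiv₀ (Coh.toAb S.X₃) hT).injective
      have e1 := Sheaf.H.equiv₀_naturality hT ((SheafOfModules.toSheaf X.ringCatSheaf).map S.g) z
      refine e1.symm.trans (Eq.trans ?_ ht)
      change S.g.app ⊤ (Sheaf.H.equiv₀ (Coh.toAb S.X₂) hT z) = S.g.app ⊤ t
      rw [(Sheaf.H.equiv₀ (Coh.toAb S.X₂) hT).apply_symm_apply t]
    have hd : delta S hS 0 y = 0 := by
      rw [← hz]
      exact delta_map S hS 0 z
    rw [← hy]
    exact hd
  exact ⟨fun x y => (key x).trans (key y).symm⟩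

theorem epi_of_surjective_top {N M : X.Modules} (p : N ⟶ M) (hM : GenTop M)
    (hs : Function.Surjective (p.app ⊤)) : Epi p := by
  refine ⟨fun {Z} f f' hff => ?_⟩
  refine eq_of_genTop (N := Z) hM f f' (fun x => ?_)
  obtain ⟨z, rfl⟩ := hs x
  have h1 : (p ≫ f).app ⊤ z = (p ≫ f').app ⊤ z := by rw [hff]
  rw [Scheme.Modules.Hom.comp_app, Scheme.Modules.Hom.comp_app] at h1
  exact h1

/-- if `H^0(X, M)` is a finite module over the base ring, finitely many global sections generate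
all global sections. -/
theorem exists_surjective_top (A : Type u) [CommRing A] [X.Over (Spec (CommRingCat.of A))]
    (M : X.Modules) (hfin : Module.Finite A (Coh.HH X M 0)) :
    ∃ (b : ℕ) (p : (∐ fun _ : Fin b => Coh.structureModule X) ⟶ M),
      Function.Surjective (p.app ⊤) := by
  obtain ⟨b, s, hs⟩ := Module.Finite.exists_fin (R := A) (M := Coh.HH X M 0)
  let σ : Fin b → Γ(M, ⊤) := fun i => hh0Equiv X M (s i)
  let p : (∐ fun _ : Fin b => Coh.structureModule X) ⟶ M :=
    Sigma.desc (fun i => Groth.Agent.Lib.Helper23.SecTw.secHom M (σ i))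
  refine ⟨b, p, ?_⟩
  have key : ∀ y : Coh.HH X M 0, ∃ z, p.app ⊤ z = hh0Equiv X M y := by
    intro y
    have hy : y ∈ Submodule.span A (Set.range s) := by rw [hs]; exact Submodule.mem_top
    induction hy using Submodule.span_induction with
    | mem y hy =>
      obtain ⟨i, rfl⟩ := hy
      refine ⟨(Sigma.ι (fun _ : Fin b => Coh.structureModule X) i).app ⊤ (toS ⊤ 1), ?_⟩
      have h1 : (Sigma.ι (fun _ : Fin b => Coh.structureModule X) i ≫ p).app ⊤ (toS ⊤ 1) =
          (Groth.Agent.Lib.Helper23.SecTw.secHom M (σ i)).app ⊤ (toS ⊤ 1) := by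
        rw [Sigma.ι_desc]
      rw [Scheme.Modules.Hom.comp_app] at h1
      refine h1.trans ?_
      have h2 := Groth.Agent.Lib.Helper23.SecTw.sv_secHom M (σ i) ⊤
      rw [Groth.Agent.Lib.Helper23.SecTw.val_eq_app, Groth.Agent.Lib.Helper23.SecTw.res_self] at h2
      exact h2
    | zero =>
      exact ⟨0, (map_zero _).trans (map_zero _).symm⟩
    | add y y' _ _ hy hy' =>
      obtain ⟨z, hz⟩ := hy
      obtain ⟨z', hz'⟩ := hy'
      refine ⟨z + z', (map_add _ z z').trans ?_⟩
      rw [hz, hz']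
      exact (map_add _ y y').symm
    | smul a y _ hy =>
      obtain ⟨z, hz⟩ := hy
      let r : Coh.Γtop X := Coh.toGlobal (X ↘ Spec (CommRingCat.of A)) a
      have h1 : hh0Equiv X M (a • y) = hh0Equiv X M (r • y) := rfl
      rw [h1, hh0Equiv_smul, Coh.smulAb_app, resTop_top, ← hz]
      let r' : Γ(X, ⊤) := r
      exact ⟨r' • z, Scheme.Modules.Hom.app_smul p r' z⟩
  intro x
  obtain ⟨z, hz⟩ := key ((hh0Equiv X M).symm x)
  exact ⟨z, hz.trans ((hh0Equiv X M).apply_symm_apply x)⟩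

/-- an isomorphism `L ⊗ L' ≅ O` gives a natural isomorphism `(G ⊗ L) ⊗ L' ≅ G`. -/
theorem exists_untwist (L L' : X.Modules) (e : CohB1.tensorMod L L' ≅ Coh.structureModule X) :
    ∃ ν : ∀ G : X.Modules, CohB1.tensorMod (CohB1.tensorMod G L) L' ≅ G,
      ∀ {G N : X.Modules} (h : G ⟶ N), wl (wl h L) L' ≫ (ν N).hom = (ν G).hom ≫ h := by
  let ν : tw L ⋙ tw L' ≅ 𝟭 X.Modules :=
    tRTensorIso X.sheaf L L' ≪≫ (ModSite.tensorBi X.sheaf).flip.mapIso e ≪≫
      ((brd X.sheaf).app _).symm ≪≫ tLUnitIso X.sheaf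
  exact ⟨fun G => ν.app G, fun h => ν.hom.naturality h⟩

/-- `(∐ O) ⊗ L ≅ ∐ L`. -/
theorem nonempty_sigma_unit_tensor_iso (b : ℕ) (L : X.Modules) :
    Nonempty ((∐ fun _ : Fin b => L) ≅
      CohB1.tensorMod (∐ fun _ : Fin b => Coh.structureModule X) L) := by
  have hpres : PreservesColimit (Discrete.functor (fun _ : Fin b => Coh.structureModule X))
      (tw L) := inferInstance
  let α1 : (tw L).obj (∐ fun _ : Fin b => Coh.structureModule X) ≅
      ∐ fun _ : Fin b => (tw L).obj (Coh.structureModule X) :=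
    PreservesCoproduct.iso (tw L) _
  let lu : (tw L).obj (Coh.structureModule X) ≅ L := (tLUnitIso X.sheaf).app L
  let α2 : (∐ fun _ : Fin b => (tw L).obj (Coh.structureModule X)) ≅ ∐ fun _ : Fin b => L :=
    Sigma.mapIso (fun _ => lu)
  exact ⟨(α1 ≪≫ α2).symm⟩

end Abstract

section Field

open Groth.Agent.Lib.Helper27SerreVanPn Groth.Agent.Lib.Helper27CMReg2

variable (k : Type u) [Field k] (n : ℕ)

local notation "𝒢" => CohB1.polyGrading n k

/-- an epimorphism `O(-m)^b ⟶ F` with `(m+1)`-regular kernel forces `F` to be `m`-regular. -/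
theorem isMRegular_of_presentation (F : (CohB1.ProjSpace n k).Modules) (hF : Coh.IsCoh F) (m : ℤ)
    (b : ℕ) (φ : (∐ fun _ : Fin b => Twist.twistProjSpace n k (-m)) ⟶ F) (hφ : Epi φ)
    (hK : Curv2.IsMRegular k n (kernel φ) (m + 1)) : Curv2.IsMRegular k n F m := by
  intro i hi1 hin
  let S : ShortComplex (CohB1.ProjSpace n k).Modules :=
    ShortComplex.mk (kernel.ι φ) φ (kernel.condition φ)
  have hS : S.ShortExact :=
    { exact := ShortComplex.exact_of_f_is_kernel _ (kernelIsKernel φ)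
      mono_f := (inferInstance : Mono (kernel.ι φ))
      epi_g := hφ }
  have hS' := shortExact_tw (Twist.twistProjSpace n k (m - i)) (isInvertible_twist n k _) S hS
  refine subsingleton_of_shortExact _ hS' i ?_ ?_
  · refine subsingleton_HH_map_sigma (fun _ : Fin b => Twist.twistProjSpace n k (-m))
      (tw (Twist.twistProjSpace n k (m - i))) i (fun _ => ?_)
    obtain ⟨e⟩ := nonempty_twist_tensor_iso n k (-m) (m - i)
    refine subsingleton_HH_of_iso e i ?_
    exact Groth.Agent.Lib.Helper27PnCohVanish.subsingleton_HH n k (-m + (m - i)) i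
      (by omega) (by omega)
  · have hFq : F.IsQuasicoherent := hF.1
    have hSq : (∐ fun _ : Fin b => Twist.twistProjSpace n k (-m)).IsQuasicoherent :=
      isQuasicoherent_sigma _ (fun _ => (Groth.Agent.Lib.Helper27TwistCoh.isCoh_twist n k (-m)).1)
    have hKq : (kernel φ).IsQuasicoherent :=
      Groth.Agent.Lib.Helper23.QCohLocal.isQuasicoherent_kernel φ
    have := vanishing_of_isMRegular n k (kernel φ) hKq (m + 1) hK (i + 1) (by omega)
    rw [show (m + 1 - ((i + 1 : ℕ) : ℤ)) = m - i by push_cast; ring] at this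
    exact this

theorem surjective_comp_app {X : Scheme.{u}} {A B C : X.Modules} (f : A ⟶ B) (g : B ⟶ C)
    (hf : Function.Surjective (f.app ⊤)) (hg : Function.Surjective (g.app ⊤)) :
    Function.Surjective ((f ≫ g).app ⊤) := by
  rw [Scheme.Modules.Hom.comp_app]
  exact hg.comp hf

/-- the kernel of an epimorphism `φ : O(-m)^b ⟶ F` which is surjective on global sections after
twisting by `O(m)` is `(m+1)`-regular (for `F` `m`-regular). -/
theorem kernel_regular (F : (Proj 𝒢).Modules) (m : ℤ)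
    (hvan : ∀ q : ℕ, 1 ≤ q → ∀ r : ℤ, m - q ≤ r →
      Subsingleton (Coh.HH (Proj 𝒢) (CohB1.tensorMod F (OO n k r)) q))
    (b : ℕ) (φ : (∐ fun _ : Fin b => OO n k (-m)) ⟶ F) (hφe : Epi φ)
    (hsurj : Function.Surjective (((tw (OO n k m)).map φ).app ⊤)) :
    ∀ i : ℕ, 1 ≤ i → i ≤ n →
      Subsingleton (Coh.HH (Proj 𝒢) (CohB1.tensorMod (kernel φ) (OO n k (m + 1 - i))) i) := by
  intro i hi1 hin
  have hS : (ShortComplex.mk (kernel.ι φ) φ (kernel.condition φ)).ShortExact :=
    { exact := ShortComplex.exact_of_f_is_kernel _ (kernelIsKernel φ)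
      mono_f := (inferInstance : Mono (kernel.ι φ))
      epi_g := hφe }
  have hS'T : ∀ T : ℤ, ((ShortComplex.mk (kernel.ι φ) φ (kernel.condition φ)).map
      (tw (OO n k T))).ShortExact := fun T =>
    shortExact_tw (OO n k T) (Groth.Agent.Lib.Helper27KoszReg.isInvertible_OO n k T) _ hS
  -- the middle term
  have hmidT : ∀ (T : ℤ) (q : ℕ), 1 ≤ q → (q = n → -(n : ℤ) - 1 < -m + T) →
      Subsingleton (Coh.HH (Proj 𝒢)
        ((tw (OO n k T)).obj (∐ fun _ : Fin b => OO n k (-m))) q) := by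
    intro T q hq1 hqn
    refine subsingleton_HH_map_sigma (fun _ : Fin b => OO n k (-m))
      (tw (OO n k T)) q (fun _ => ?_)
    obtain ⟨e⟩ := nonempty_OO_tensor_iso n k (-m) T (-m + T) rfl
    refine subsingleton_HH_of_iso e q ?_
    refine Groth.Agent.Lib.Helper27PnCohVanish.subsingleton_HH n k (-m + T) q (by omega) ?_
    rintro ⟨h1, h2⟩
    have := hqn h1
    omega
  by_cases h1 : i = 1
  · subst h1
    have hT : m + 1 - ((1 : ℕ) : ℤ) = m := by push_cast; ring
    rw [hT]
    have key := subsingleton_H1_of_surjective_top _ (hS'T m) hsurj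
      (hmidT m 1 le_rfl (fun h => by omega))
    exact key
  · obtain ⟨j, rfl⟩ : ∃ j, i = j + 1 := ⟨i - 1, by omega⟩
    have hj : 1 ≤ j := by omega
    have key := subsingleton_X₁_of_shortExact _ (hS'T (m + 1 - ((j + 1 : ℕ) : ℤ))) j
      (hvan j hj _ (by push_cast; omega))
      (hmidT _ (j + 1) (by omega) (fun h => by push_cast; omega))
    exact key

/-- core of the construction, entirely over `Proj 𝒢`. -/
theorem exists_presentation_aux (F : (Proj 𝒢).Modules) (m : ℤ)
    (hvan : ∀ q : ℕ, 1 ≤ q → ∀ r : ℤ, m - q ≤ r →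
      Subsingleton (Coh.HH (Proj 𝒢) (CohB1.tensorMod F (OO n k r)) q))
    (b : ℕ) (p : (∐ fun _ : Fin b => Coh.structureModule (Proj 𝒢)) ⟶ CohB1.tensorMod F (OO n k m))
    (hpe : Epi p) (hp : Function.Surjective (p.app ⊤)) :
    ∃ (φ : (∐ fun _ : Fin b => OO n k (-m)) ⟶ F), Epi φ ∧
      ∀ i : ℕ, 1 ≤ i → i ≤ n →
        Subsingleton (Coh.HH (Proj 𝒢) (CohB1.tensorMod (kernel φ) (OO n k (m + 1 - i))) i) := by
  obtain ⟨e0⟩ := nonempty_OO_zero_iso n k
  obtain ⟨e1⟩ := nonempty_OO_tensor_iso n k m (-m) 0 (by ring)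
  obtain ⟨e2⟩ := nonempty_OO_tensor_iso n k (-m) m 0 (by ring)
  obtain ⟨ν, hν⟩ := exists_untwist (OO n k m) (OO n k (-m)) (e1 ≪≫ e0)
  obtain ⟨ν', hν'⟩ := exists_untwist (OO n k (-m)) (OO n k m) (e2 ≪≫ e0)
  obtain ⟨α⟩ := nonempty_sigma_unit_tensor_iso (X := Proj 𝒢) b (OO n k (-m))
  obtain ⟨φ, hφ⟩ : ∃ φ : (∐ fun _ : Fin b => OO n k (-m)) ⟶ F,
      φ = α.hom ≫ wl p (OO n k (-m)) ≫ (ν F).hom := ⟨_, rfl⟩
  have hφe : Epi φ := by
    haveI : (tw (OO n k (-m))).PreservesEpimorphisms :=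
      preservesEpimorphisms_of_preservesColimitsOfShape _
    have h1 : Epi (wl p (OO n k (-m))) := (tw (OO n k (-m))).map_epi p
    have h2 : Epi (wl p (OO n k (-m)) ≫ (ν F).hom) := epi_comp _ _
    rw [hφ]
    exact epi_comp _ _
  -- surjectivity of `φ ⊗ O(m)` on global sections
  have hsurj : Function.Surjective ((wl φ (OO n k m)).app ⊤) := by
    have h1 : wl φ (OO n k m) = wl α.hom (OO n k m) ≫ wl (wl p (OO n k (-m))) (OO n k m) ≫
        wl (ν F).hom (OO n k m) := by
      rw [hφ, ← wl_comp, ← wl_comp]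
    have h2 : wl (wl p (OO n k (-m))) (OO n k m) =
        (ν' _).hom ≫ p ≫ (ν' _).inv := by
      rw [← Category.assoc, ← hν' p, Category.assoc, Iso.hom_inv_id, Category.comp_id]
    rw [h1, h2]
    refine surjective_comp_app _ _ (surjective_app_top_of_iso ((tw (OO n k m)).mapIso α)) ?_
    refine surjective_comp_app _ _ ?_ (surjective_app_top_of_iso ((tw (OO n k m)).mapIso (ν F)))
    refine surjective_comp_app _ _ (surjective_app_top_of_iso (ν' _)) ?_
    exact surjective_comp_app _ _ hp (surjective_app_top_of_iso (ν' _).symm)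
  exact ⟨φ, hφe, kernel_regular k n F m hvan b φ hφe hsurj⟩

end Field

end Groth.Agent.Lib.Helper27LinRes
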