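import Groth.Agent.Lib.Helper27GlobGenPn

/-!
# Global sections of a tensor product generated by pure tensors (helper27)

`CT A B` is the subgroup of `Γ(A ⊗ B, ⊤)` generated by the pure tensors `a ⊗ b` of global
sections.  If `CT A B = ⊤`, the canonical map from the global sections of the sectionwise tensor
product presheaf to those of its sheafification `A ⊗ B` is surjective.

Application: for an `m`-regular coherent `F` on `P^n_k`, `d ≥ m` and `e ≥ 0`, the multiplication
map `H^0(F(d)) ⊗ H^0(O(e)) → H^0(F(d) ⊗ O(e))` is surjective.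
-/

set_option autoImplicit false
universe u

open CategoryTheory CategoryTheory.Limits AlgebraicGeometry TopologicalSpace Opposite
  HomogeneousLocalization MvPolynomial

namespace Groth.Agent.Lib.Helper27SpanTop

open Groth.Agent.Lib.Helper27PnHom Groth.Agent.Lib.Helper27KoszHom
  Groth.Agent.Lib.Helper27KoszPn Groth.Agent.Lib.Helper27KoszReg
  Groth.Agent.Lib.Helper27SerreVan Groth.Agent.Lib.Helper27CMReg Groth.Agent.Lib.Helper27GenTop
  Groth.Agent.Lib.Helper27CoprodFin Groth.Agent.Lib.Helper21.ModTensor3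
  Groth.Agent.Lib.Helper21.ModTensor5
  Groth.Agent.Lib.Helper21.ModTensor6 Groth.Agent.Lib.Helper21.ModTensor7
  Groth.Agent.Lib.Helper27GlobGenPn

section Abstract

variable {X : Scheme.{u}}

/-- the subgroup of global sections of `A ⊗ B` generated by pure tensors. -/
noncomputable def CT (A B : X.Modules) : AddSubgroup Γ(CohB1.tensorMod A B, ⊤) :=
  AddSubgroup.closure
    (Set.range (fun p : Γ(A, ⊤) × Γ(B, ⊤) => (SecTwist.tmul A B ⊤ p.1 p.2 : Γ(CohB1.tensorMod A B, ⊤))))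

theorem tmul_mem_CT (A B : X.Modules) (a : Γ(A, ⊤)) (b : Γ(B, ⊤)) :
    (SecTwist.tmul A B ⊤ a b : Γ(CohB1.tensorMod A B, ⊤)) ∈ CT A B :=
  AddSubgroup.subset_closure ⟨(a, b), rfl⟩

theorem wr_id (G L : X.Modules) : wr G (𝟙 L) = 𝟙 _ := (tl G).map_id L

theorem wr_comp (G : X.Modules) {L L' L'' : X.Modules} (δ : L ⟶ L') (δ' : L' ⟶ L'') :
    wr G (δ ≫ δ') = wr G δ ≫ wr G δ' := (tl G).map_comp δ δ'

theorem wr_sum (G : X.Modules) {L L' : X.Modules} {ι : Type*} (s : Finset ι) (δ : ι → (L ⟶ L')) :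
    wr G (∑ i ∈ s, δ i) = ∑ i ∈ s, wr G (δ i) := (tl G).map_sum δ s

theorem wr_tmul (G : X.Modules) {L L' : X.Modules} (δ : L ⟶ L') (g : Γ(G, ⊤)) (l : Γ(L, ⊤)) :
    (wr G δ).app ⊤ (SecTwist.tmul G L ⊤ g l) = SecTwist.tmul G L' ⊤ g (δ.app ⊤ l) := by
  have h := KoszTw.tensorMap_tmul (𝟙 G) δ ⊤ g l
  rw [← KoszTw.tensorBi_obj_map] at h
  exact h

theorem map_mem_CT (G : X.Modules) {L L' : X.Modules} (δ : L ⟶ L')
    {x : Γ(CohB1.tensorMod G L, ⊤)} (hx : x ∈ CT G L) : (wr G δ).app ⊤ x ∈ CT G L' := by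
  unfold CT at hx
  induction hx using AddSubgroup.closure_induction with
  | mem y hy =>
    obtain ⟨p, rfl⟩ := hy
    change (wr G δ).app ⊤ (SecTwist.tmul G L ⊤ p.1 p.2) ∈ CT G L'
    rw [wr_tmul]
    exact tmul_mem_CT _ _ _ _
  | zero => rw [map_zero]; exact (CT G L').zero_mem
  | add y z _ _ hy hz => rw [map_add]; exact (CT G L').add_mem hy hz
  | neg y _ hy => rw [map_neg]; exact (CT G L').neg_mem hy

theorem inv_hom_app {M N : X.Modules} (e : M ≅ N) (x : Γ(M, ⊤)) :
    e.inv.app ⊤ (e.hom.app ⊤ x) = x := by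
  have h4 : (e.hom ≫ e.inv).app ⊤ x = (𝟙 M : M ⟶ M).app ⊤ x := by rw [e.hom_inv_id]
  rw [Scheme.Modules.Hom.comp_app, Scheme.Modules.Hom.id_app] at h4
  exact h4

theorem CT_unit (G : X.Modules) : CT G (Coh.structureModule X) = ⊤ := by
  rw [eq_top_iff]
  intro x _
  let t : Γ(G, ⊤) := (SecTwist.unitorR G).hom.app ⊤ x
  have h1 : (SecTwist.unitorR G).hom.app ⊤
      (SecTwist.tmul G (Coh.structureModule X) ⊤ t (1 : X.ringCatSheaf.obj.obj (op ⊤))) = t :=
    (SecTwist.unitorR_tmul G ⊤ t 1).trans (one_smul _ _)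
  have h2 : x = SecTwist.tmul G (Coh.structureModule X) ⊤ t (1 : X.ringCatSheaf.obj.obj (op ⊤)) := by
    rw [← inv_hom_app (SecTwist.unitorR G) x,
      ← inv_hom_app (SecTwist.unitorR G)
        (SecTwist.tmul G (Coh.structureModule X) ⊤ t (1 : X.ringCatSheaf.obj.obj (op ⊤))), h1]
  rw [h2]
  exact tmul_mem_CT _ _ _ _

theorem CT_of_iso (G : X.Modules) {L : X.Modules} (e : L ≅ Coh.structureModule X) :
    CT G L = ⊤ := by
  rw [eq_top_iff]
  intro x _
  have h1 : (wr G e.hom).app ⊤ x ∈ CT G (Coh.structureModule X) := by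
    rw [CT_unit]; exact AddSubgroup.mem_top _
  have h2 := map_mem_CT G e.inv h1
  have h3 : (wr G e.inv).app ⊤ ((wr G e.hom).app ⊤ x) = x :=
    inv_hom_app ((tl G).mapIso e) x
  rw [h3] at h2
  exact h2

theorem CT_sigma (G : X.Modules) {r : ℕ} (f : Fin r → X.Modules) (h : ∀ i, CT G (f i) = ⊤) :
    CT G (∐ f) = ⊤ := by
  rw [eq_top_iff]
  intro x _
  have hid : 𝟙 (CohB1.tensorMod G (∐ f)) = ∑ i, wr G (sigmaπ f i) ≫ wr G (Sigma.ι f i) := by
    rw [← wr_id, ← sum_sigmaπ_ι f, wr_sum]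
    refine Finset.sum_congr rfl (fun i _ => ?_)
    rw [wr_comp]
  have key : (∑ i, wr G (sigmaπ f i) ≫ wr G (Sigma.ι f i)).app ⊤ x ∈ CT G (∐ f) := by
    refine Finset.sum_induction (fun i => wr G (sigmaπ f i) ≫ wr G (Sigma.ι f i))
      (fun φ : CohB1.tensorMod G (∐ f) ⟶ CohB1.tensorMod G (∐ f) => φ.app ⊤ x ∈ CT G (∐ f))
      (fun a b ha hb => ?_) ?_ (fun i _ => ?_)
    · rw [Scheme.Modules.Hom.add_app]
      exact (CT G (∐ f)).add_mem ha hb
    · rw [Scheme.Modules.Hom.zero_app]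
      exact (CT G (∐ f)).zero_mem
    · rw [Scheme.Modules.Hom.comp_app]
      change (wr G (Sigma.ι f i)).app ⊤ ((wr G (sigmaπ f i)).app ⊤ x) ∈ _
      exact map_mem_CT G _ (by rw [h i]; exact AddSubgroup.mem_top _)
  rw [← hid, Scheme.Modules.Hom.id_app] at key
  exact key

theorem CT_of_surjective (G : X.Modules) {L L' : X.Modules} (δ : L ⟶ L') (h : CT G L = ⊤)
    (hs : Function.Surjective ((wr G δ).app ⊤)) : CT G L' = ⊤ := by
  rw [eq_top_iff]
  intro x _
  obtain ⟨y, rfl⟩ := hs x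
  apply map_mem_CT
  rw [h]
  exact AddSubgroup.mem_top _

/-- surjectivity of `δ ⊗ G` on global sections implies that of `G ⊗ δ`. -/
theorem surjective_wr_of_wl {L L' : X.Modules} (δ : L ⟶ L') (G : X.Modules)
    (h : Function.Surjective ((wl δ G).app ⊤)) : Function.Surjective ((wr G δ).app ⊤) := by
  let b' : CohB1.tensorMod L' G ≅ CohB1.tensorMod G L' := brdApp X.sheaf L' G
  let b : CohB1.tensorMod L G ≅ CohB1.tensorMod G L := brdApp X.sheaf L G
  have nat : wl δ G ≫ b'.hom = b.hom ≫ wr G δ :=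
    NatTrans.congr_app ((brd X.sheaf).hom.naturality δ) G
  intro y
  obtain ⟨y', hy'⟩ := surjective_app_top_of_iso b' y
  obtain ⟨x', rfl⟩ := h y'
  refine ⟨b.hom.app ⊤ x', ?_⟩
  have h1 : (wl δ G ≫ b'.hom).app ⊤ x' = (b.hom ≫ wr G δ).app ⊤ x' := by rw [nat]
  rw [Scheme.Modules.Hom.comp_app, Scheme.Modules.Hom.comp_app] at h1
  exact h1.symm.trans hy'

/-- if the global sections of `A ⊗ B` are generated by pure tensors, the canonical map from the
global sections of the sectionwise tensor product to those of its sheafification is surjective. -/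
theorem surjective_toSheafify_of_CT (A B : X.Modules) (h : CT A B = ⊤) :
    Function.Surjective
      ((toSheafify (Opens.grothendieckTopology X) (CohB1.tensorPre A B).presheaf).app (op ⊤)) := by
  let φ : (CohB1.tensorPre A B).presheaf.obj (op ⊤) →+ Γ(CohB1.tensorMod A B, ⊤) :=
    ((toSheafify (Opens.grothendieckTopology X) (CohB1.tensorPre A B).presheaf).app (op ⊤)).hom
  have hle : CT A B ≤ φ.range := by
    unfold CT
    rw [AddSubgroup.closure_le]
    rintro _ ⟨p, rfl⟩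
    exact ⟨(p.1 ⊗ₜ p.2 : ↥((CohB1.tensorPre A B).obj (op ⊤))), rfl⟩
  intro y
  have hy : (y : Γ(CohB1.tensorMod A B, ⊤)) ∈ φ.range := hle (by rw [h]; exact AddSubgroup.mem_top _)
  obtain ⟨x, hx⟩ := hy
  exact ⟨x, hx⟩

end Abstract

section Pn

variable (n : ℕ) (R : Type u) [CommRing R]

local notation "𝒢" => CohB1.polyGrading n R
local notation "σ'" => Fin (n + 1)

/-- the top Koszul differential `∐ O(t) ⟶ O(t + 1)`, tensored with a `t`-regular `G`, is
surjective on global sections. -/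
theorem exists_koszul_surjective (G : (Proj 𝒢).Modules) (hG : G.IsQuasicoherent) (t t' : ℤ)
    (htt : t + ((1 : ℕ) : ℤ) = t')
    (hreg : ∀ q : ℕ, 1 ≤ q → q ≤ n →
      Subsingleton (Coh.HH (Proj 𝒢) (CohB1.tensorMod (OO n R (t - q)) G) q)) :
    ∃ δ : (∐ fun _ : Fin (Nat.choose (n + 1) n) => OO n R t) ⟶ OO n R t',
      Function.Surjective ((wl δ G).app ⊤) := by
  have hu : Nat.choose (n + 1) (n + 1) = 1 := Nat.choose_self _
  have : Unique (Fin (Nat.choose (n + 1) (n + 1))) := by rw [hu]; infer_instance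
  let e1 : KK n R (n + 1) t' ≅ OO n R t' := coproductUniqueIso (fun _ => OO n R t')
  refine ⟨dd n R n t t' htt ≫ e1.hom, ?_⟩
  have h1 : Function.Surjective ((wl (dd n R n t t' htt) G).app ⊤) :=
    surjective_koszul_top n R G hG t t' htt hreg
  have h2 : Function.Surjective ((wl e1.hom G).app ⊤) :=
    surjective_app_top_of_iso ((tw G).mapIso e1)
  have h3 : wl (dd n R n t t' htt ≫ e1.hom) G = wl (dd n R n t t' htt) G ≫ wl e1.hom G :=
    wl_comp _ _ _
  rw [h3, Scheme.Modules.Hom.comp_app]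
  exact h2.comp h1

/-- global sections of `G ⊗ O(e)`, `e ≥ 0`, are generated by pure tensors if `G` is `0`-regular.-/
theorem CT_twist (G : (Proj 𝒢).Modules) (hG : G.IsQuasicoherent)
    (hreg : ∀ (t : ℕ) (q : ℕ), 1 ≤ q → q ≤ n →
      Subsingleton (Coh.HH (Proj 𝒢) (CohB1.tensorMod (OO n R ((t : ℤ) - q)) G) q)) (e : ℕ) :
    CT G (OO n R (e : ℤ)) = ⊤ := by
  induction e with
  | zero =>
    obtain ⟨e0⟩ := nonempty_OO_zero_iso n R
    exact CT_of_iso G e0
  | succ e ih =>
    obtain ⟨δ, hδ⟩ := exists_koszul_surjective n R G hG (e : ℤ) ((e + 1 : ℕ) : ℤ)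
      (by push_cast; ring) (hreg e)
    exact CT_of_surjective G δ (CT_sigma G _ (fun _ => ih)) (surjective_wr_of_wl δ G hδ)

end Pn

section Field

variable (k : Type u) [Field k] (n : ℕ)

/-- Castelnuovo–Mumford: for `F` coherent and `m`-regular on `P^n_k`, `d ≥ m`, `e ≥ 0`, the
multiplication map `H^0(F(d)) ⊗ H^0(O(e)) → H^0(F(d) ⊗ O(e))` is surjective. -/
theorem surjective_mul_of_isMRegular (F : (CohB1.ProjSpace n k).Modules) (hF : Coh.IsCoh F)
    (m d : ℤ) (hd : m ≤ d) (h : Curv2.IsMRegular k n F m) (e : ℕ) :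
    Function.Surjective
      ((toSheafify (Opens.grothendieckTopology (CohB1.ProjSpace n k))
        (CohB1.tensorPre (CohB1.tensorMod F (Twist.twistProjSpace n k d))
          (Twist.twistProjSpace n k (e : ℤ))).presheaf).app (Opposite.op ⊤)) := by
  apply surjective_toSheafify_of_CT
  have hG : (CohB1.tensorMod F (Twist.twistProjSpace n k d)).IsQuasicoherent :=
    Groth.Agent.Lib.Helper27CMReg2.isQuasicoherent_twisted n k F hF.1 d
  refine CT_twist n k (CohB1.tensorMod F (Twist.twistProjSpace n k d)) hG (fun t q hq1 _ => ?_) e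
  obtain ⟨i⟩ := nonempty_twIso_pn n k ((t : ℤ) - q) d F
  exact subsingleton_HH_of_iso i q
    (Groth.Agent.Lib.Helper27CMReg2.vanishing_ge_of_isMRegular n k F hF.1 m h q _ hq1 (by omega))

end Field

end Groth.Agent.Lib.Helper27SpanTop
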