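import Groth.Agent.Lib.Helper27LesLin
import Groth.Agent.Lib.Helper27SpanTop
import Groth.Agent.Lib.Helper27LinRes
import Groth.Agent.Lib.Helper27TwistEq
import Groth.Agent.S0038

/-!
# Mumford's lemma on regularity and hyperplane sections (helper27)

`0 → F(-1) → F → G → 0` on `P^n_k` with `G` `m`-regular: then `H^i(F(j)) = 0` for `i ≥ 2`,
`j ≥ m - i`; `h^1(F(j))` is non-increasing for `j ≥ m - 1` and strictly decreasing to zero; `F` is
`(m + h^1(F(m-1)))`-regular.
-/

set_option autoImplicit false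
universe u

open CategoryTheory CategoryTheory.Limits AlgebraicGeometry TopologicalSpace Opposite

namespace Groth.Agent.Lib.Helper27MumfordReg

open Groth.Agent.Lib.Helper27SerreVan Groth.Agent.Lib.Helper27CMReg Groth.Agent.Lib.Helper27GenTop
  Groth.Agent.Lib.Helper27GlobGenPn Groth.Agent.Lib.Helper27LinRes
  Groth.Agent.Lib.Helper27SpanTop Groth.Agent.Lib.Helper27LesLin
  Groth.Agent.Lib.Helper21.ModTensor3 Groth.Agent.Lib.Helper21.ModTensor5
  Groth.Agent.Lib.Helper21.ModTensor6 Groth.Agent.Lib.Helper21.ModTensor7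

section Arith

/-- the arithmetic of a non-increasing function that strictly decreases until it vanishes. -/
theorem eventually_zero (h : ℤ → ℕ) (m : ℤ) (hmono : ∀ j : ℤ, m - 1 ≤ j → h j ≤ h (j - 1))
    (hstrict : ∀ j : ℤ, m ≤ j → h j = h (j - 1) → h (j - 1) = 0) :
    ∀ j : ℤ, m - 1 + (h (m - 1) : ℤ) ≤ j → h j = 0 := by
  have key : ∀ t : ℕ, h (m - 1 + t) + t ≤ h (m - 1) ∨ h (m - 1 + t) = 0 := by
    intro t
    induction t with
    | zero => left; simp
    | succ t ih =>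
      have e1 : m - 1 + ((t + 1 : ℕ) : ℤ) - 1 = m - 1 + t := by push_cast; ring
      have hm := hmono (m - 1 + ((t + 1 : ℕ) : ℤ)) (by push_cast; omega)
      rw [e1] at hm
      rcases ih with ih | ih
      · by_cases heq : h (m - 1 + ((t + 1 : ℕ) : ℤ)) = h (m - 1 + t)
        · have := hstrict (m - 1 + ((t + 1 : ℕ) : ℤ)) (by push_cast; omega) (by rw [e1]; exact heq)
          rw [e1] at this
          right
          omega
        · left
          omega
      · right
        omega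
  have h0 : h (m - 1 + (h (m - 1) : ℤ)) = 0 := by
    rcases key (h (m - 1)) with h1 | h1
    · omega
    · exact h1
  have key2 : ∀ t : ℕ, h (m - 1 + (h (m - 1) : ℤ) + t) = 0 := by
    intro t
    induction t with
    | zero => simpa using h0
    | succ t ih =>
      have e1 : m - 1 + (h (m - 1) : ℤ) + ((t + 1 : ℕ) : ℤ) - 1 = m - 1 + (h (m - 1) : ℤ) + t := by
        push_cast; ring
      have hm := hmono (m - 1 + (h (m - 1) : ℤ) + ((t + 1 : ℕ) : ℤ)) (by push_cast; omega)
      rw [e1, ih] at hm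
      omega
  intro j hj
  have := key2 (j - (m - 1 + (h (m - 1) : ℤ))).toNat
  rw [Int.toNat_of_nonneg (by omega)] at this
  rw [← this]
  congr 1
  ring

end Arith

section Abstract

variable {X : Scheme.{u}}

theorem wl_tmul {A B : X.Modules} (φ : A ⟶ B) (L : X.Modules) (a : Γ(A, ⊤)) (l : Γ(L, ⊤)) :
    (wl φ L).app ⊤ (SecTwist.tmul A L ⊤ a l) = SecTwist.tmul B L ⊤ (φ.app ⊤ a) l := by
  have h := KoszTw.tensorMap_tmul φ (𝟙 L) ⊤ a l
  rw [← KoszTw.tensorBi_map_app] at h
  exact h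

theorem surjective_wl_of_CT {A B : X.Modules} (φ : A ⟶ B) (L : X.Modules)
    (hφ : Function.Surjective (φ.app ⊤)) (hCT : CT B L = ⊤) :
    Function.Surjective ((wl φ L).app ⊤) := by
  intro x
  have hx : x ∈ CT B L := by rw [hCT]; exact AddSubgroup.mem_top _
  unfold CT at hx
  induction hx using AddSubgroup.closure_induction with
  | mem y hy =>
    obtain ⟨p, rfl⟩ := hy
    obtain ⟨a, ha⟩ := hφ p.1
    refine ⟨SecTwist.tmul A L ⊤ a p.2, ?_⟩
    change (wl φ L).app ⊤ (SecTwist.tmul A L ⊤ a p.2) = SecTwist.tmul B L ⊤ p.1 p.2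
    rw [wl_tmul, ha]
  | zero => exact ⟨0, map_zero _⟩
  | add y z _ _ hy hz =>
    obtain ⟨y', hy'⟩ := hy
    obtain ⟨z', hz'⟩ := hz
    exact ⟨y' + z', by rw [map_add, hy', hz']⟩
  | neg y _ hy =>
    obtain ⟨y', hy'⟩ := hy
    exact ⟨-y', by rw [map_neg, hy']⟩

/-- an isomorphism `L ⊗ L' ≅ L''` gives a natural isomorphism `(G ⊗ L) ⊗ L' ≅ G ⊗ L''`. -/
theorem exists_twist_comp (L L' L'' : X.Modules) (e : CohB1.tensorMod L L' ≅ L'') :
    ∃ μ : ∀ G : X.Modules, CohB1.tensorMod (CohB1.tensorMod G L) L' ≅ CohB1.tensorMod G L'',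
      ∀ {G N : X.Modules} (h : G ⟶ N), wl (wl h L) L' ≫ (μ N).hom = (μ G).hom ≫ wl h L'' := by
  let μ : tw L ⋙ tw L' ≅ tw L'' :=
    tRTensorIso X.sheaf L L' ≪≫ (ModSite.tensorBi X.sheaf).flip.mapIso e
  exact ⟨fun G => μ.app G, fun h => μ.hom.naturality h⟩

theorem surjective_wl_comp {F G : X.Modules} (π : F ⟶ G) (L L' L'' : X.Modules)
    (e : CohB1.tensorMod L L' ≅ L'')
    (hs : Function.Surjective ((wl (wl π L) L').app ⊤)) :
    Function.Surjective ((wl π L'').app ⊤) := by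
  obtain ⟨μ, hμ⟩ := exists_twist_comp L L' L'' e
  have h1 : wl π L'' = (μ F).inv ≫ wl (wl π L) L' ≫ (μ G).hom := by
    rw [hμ π, ← Category.assoc, Iso.inv_hom_id, Category.id_comp]
  rw [h1]
  refine surjective_comp_app _ _ (surjective_app_top_of_iso (μ F).symm) ?_
  exact surjective_comp_app _ _ hs (surjective_app_top_of_iso (μ G))

end Abstract

section Pn

open Groth.Agent.Lib.Helper27SerreVanPn Groth.Agent.Lib.Helper27CMReg2
  Groth.Agent.Lib.Helper27PnHom Groth.Agent.Lib.Helper23.LocGen Groth.Agent.Lib.Helper23.AmpleIso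

variable (k : Type u) [Field k] (n : ℕ)

local notation "𝒢" => CohB1.polyGrading n k
local notation "T" => Twist.twistProjSpace n k
local notation "P" => CohB1.ProjSpace n k

theorem isCoh_twisted (F : (P).Modules) (hF : Coh.IsCoh F) (d : ℤ) :
    Coh.IsCoh (CohB1.tensorMod F (T d)) := by
  refine ⟨isQuasicoherent_twisted n k F hF.1 d, ?_⟩
  haveI := hF.1
  haveI := hF.2
  haveI := (Groth.Agent.Lib.Helper27TwistCoh.isCoh_twist n k d).1
  haveI := (Groth.Agent.Lib.Helper27TwistCoh.isCoh_twist n k d).2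
  exact Groth.Agent.Lib.Helper23.TensorQCoh.isFiniteType_tensorMod F (T d)

theorem finite_HH_twisted (F : (P).Modules) (hF : Coh.IsCoh F) (d : ℤ) (i : ℕ) :
    Module.Finite k (Coh.HH (P) (CohB1.tensorMod F (T d)) i) :=
  Groth.Agent.S0038.result n k _ (isCoh_twisted k n F hF d) i

/-- `(F ⊗ O(a)) ⊗ O(b) ≅ F ⊗ O(c)` for `a + b = c`. -/
theorem nonempty_twist_twist_iso (F : (P).Modules) (a b c : ℤ) (h : a + b = c) :
    Nonempty (CohB1.tensorMod (CohB1.tensorMod F (T a)) (T b) ≅ CohB1.tensorMod F (T c)) := by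
  subst h
  obtain ⟨e⟩ := nonempty_twist_tensor_iso n k a b
  exact ⟨tensorAssoc F _ _ ≪≫ tensorModIso (Iso.refl F) e⟩

/-- sections of `F(d) ⊗ O(e)` are generated by pure tensors for `F` `m`-regular, `d ≥ m`. -/
theorem CT_of_isMRegular (F : (P).Modules) (hF : F.IsQuasicoherent) (m d : ℤ) (hd : m ≤ d)
    (h : Curv2.IsMRegular k n F m) (e : ℕ) :
    CT (CohB1.tensorMod F (T d)) (T (e : ℤ)) = ⊤ := by
  have hG : (CohB1.tensorMod F (T d)).IsQuasicoherent := isQuasicoherent_twisted n k F hF d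
  refine CT_twist n k (CohB1.tensorMod F (T d)) hG (fun t q hq1 _ => ?_) e
  obtain ⟨i⟩ := nonempty_twIso_pn n k ((t : ℤ) - q) d F
  exact subsingleton_HH_of_iso i q (vanishing_ge_of_isMRegular n k F hF m h q _ hq1 (by omega))

variable (F : (CohB1.ProjSpace n k).Modules) (hF : Coh.IsCoh F)
  (ι : CohB1.tensorMod F (Twist.twistProjSpace n k (-1)) ⟶ F) [Mono ι]
  (m : ℤ) (hG : Curv2.IsMRegular k n (cokernel ι) m)

/-- the base sequence `0 → F(-1) → F → G → 0`. -/
noncomputable def S₀ : ShortComplex (P).Modules :=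
  ShortComplex.mk ι (cokernel.π ι) (cokernel.condition ι)

theorem S₀_shortExact : (S₀ k n F ι).ShortExact :=
  { exact := ShortComplex.exact_of_g_is_cokernel _ (cokernelIsCokernel ι)
    mono_f := (inferInstance : Mono ι)
    epi_g := (inferInstance : Epi (cokernel.π ι)) }

/-- the twisted sequences. -/
noncomputable def Sd (d : ℤ) : ShortComplex (P).Modules := (S₀ k n F ι).map (tw (T d))

theorem Sd_shortExact (d : ℤ) : (Sd k n F ι d).ShortExact :=
  shortExact_tw (T d) (isInvertible_twist n k d) _ (S₀_shortExact k n F ι)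

theorem Sd_X₁ (d : ℤ) :
    (Sd k n F ι d).X₁ = CohB1.tensorMod (CohB1.tensorMod F (T (-1))) (T d) := rfl
theorem Sd_X₂ (d : ℤ) : (Sd k n F ι d).X₂ = CohB1.tensorMod F (T d) := rfl
theorem Sd_X₃ (d : ℤ) : (Sd k n F ι d).X₃ = CohB1.tensorMod (cokernel ι) (T d) := rfl
theorem Sd_g (d : ℤ) : (Sd k n F ι d).g = wl (cokernel.π ι) (T d) := rfl

include hF in
theorem isQuasicoherent_cokernel_ι : (cokernel ι).IsQuasicoherent := by
  haveI := hF.1
  haveI : (CohB1.tensorMod F (T (-1))).IsQuasicoherent := isQuasicoherent_twisted n k F hF.1 (-1)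
  exact Groth.Agent.Lib.Helper23.QCohLocal.isQuasicoherent_cokernel ι

include hF hG in
theorem vanishing_G (q : ℕ) (r : ℤ) (hq : 1 ≤ q) (hr : m - q ≤ r) :
    Subsingleton (Coh.HH (P) (CohB1.tensorMod (cokernel ι) (T r)) q) :=
  vanishing_ge_of_isMRegular n k (cokernel ι) (isQuasicoherent_cokernel_ι k n F hF ι) m hG q r hq hr

include hF hG in
/-- one downward step for (i). -/
theorem vanishing_step (i : ℕ) (hi : 2 ≤ i) (j : ℤ) (hj : m - i ≤ j)
    (h : Subsingleton (Coh.HH (P) (CohB1.tensorMod F (T (j + 1))) i)) :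
    Subsingleton (Coh.HH (P) (CohB1.tensorMod F (T j)) i) := by
  obtain ⟨q, rfl⟩ : ∃ q, i = q + 1 := ⟨i - 1, by omega⟩
  have h3 : Subsingleton (Coh.HH (P) (Sd k n F ι (j + 1)).X₃ q) :=
    vanishing_G k n F hF ι m hG q (j + 1) (by omega) (by push_cast at hj ⊢; omega)
  have h2 : Subsingleton (Coh.HH (P) (Sd k n F ι (j + 1)).X₂ (q + 1)) := h
  have h1 := subsingleton_X₁_of_shortExact _ (Sd_shortExact k n F ι (j + 1)) q h3 h2
  obtain ⟨e⟩ := nonempty_twist_twist_iso k n F (-1) (j + 1) j (by ring)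
  exact subsingleton_HH_of_iso e.symm (q + 1) h1

include hF hG in
/-- (i): `H^i(F(j)) = 0` for `i ≥ 2`, `j ≥ m - i`. -/
theorem vanishing_i (i : ℕ) (hi : 2 ≤ i) (j : ℤ) (hj : m - i ≤ j) :
    Subsingleton (Coh.HH (P) (CohB1.tensorMod F (T j)) i) := by
  obtain ⟨d₀, hd₀⟩ := serre_vanishing n k F hF
  have key : ∀ t : ℕ, ∀ j : ℤ, m - i ≤ j → d₀ ≤ j + t →
      Subsingleton (Coh.HH (P) (CohB1.tensorMod F (T j)) i) := by
    intro t
    induction t with
    | zero =>
      intro j _ hjd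
      exact hd₀ j (by simpa using hjd) i (by omega)
    | succ t ih =>
      intro j hj hjd
      exact vanishing_step k n F hF ι m hG i hi j hj
        (ih (j + 1) (by omega) (by push_cast at hjd ⊢; omega))
  exact key (d₀ - j).toNat j hj (by omega)

/-- `h^1(F(j))`. -/
noncomputable def h1 (j : ℤ) : ℕ :=
  Module.finrank k (Coh.HH (P) (CohB1.tensorMod F (T j)) 1)

include hF in
theorem finrank_Sd_X₁ (j : ℤ) :
    Module.finrank k (Coh.HH (P) (Sd k n F ι j).X₁ 1) = h1 k n F (j - 1) := by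
  obtain ⟨e⟩ := nonempty_twist_twist_iso k n F (-1) j (j - 1) (by ring)
  exact finrank_HH_of_iso k e 1

include hF in
theorem finite_Sd_X₁ (j : ℤ) : Module.Finite k (Coh.HH (P) (Sd k n F ι j).X₁ 1) :=
  finite_HH_twisted k n _ (isCoh_twisted k n F hF (-1)) j 1

include hF hG in
/-- (ii): `h^1(F(j)) ≤ h^1(F(j-1))` for `j ≥ m - 1`. -/
theorem h1_mono (j : ℤ) (hj : m - 1 ≤ j) : h1 k n F j ≤ h1 k n F (j - 1) := by
  have h3 : Subsingleton (Coh.HH (P) (Sd k n F ι j).X₃ 1) :=
    vanishing_G k n F hF ι m hG 1 j le_rfl (by push_cast; omega)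
  have := finrank_le k (Sd k n F ι j) (Sd_shortExact k n F ι j) h3 (finite_Sd_X₁ k n F hF ι j)
  rw [finrank_Sd_X₁ k n F hF ι j] at this
  exact this

include hF hG in
theorem surj_of_eq (j : ℤ) (hj : m - 1 ≤ j) (heq : h1 k n F j = h1 k n F (j - 1)) :
    Function.Surjective ((wl (cokernel.π ι) (T j)).app ⊤) := by
  have h3 : Subsingleton (Coh.HH (P) (Sd k n F ι j).X₃ 1) :=
    vanishing_G k n F hF ι m hG 1 j le_rfl (by push_cast; omega)
  have hf2 : Module.Finite k (Coh.HH (P) (Sd k n F ι j).X₂ 1) := finite_HH_twisted k n F hF j 1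
  exact surjective_app_top_of_finrank_eq k (Sd k n F ι j) (Sd_shortExact k n F ι j) h3
    (finite_Sd_X₁ k n F hF ι j) hf2 (by rw [finrank_Sd_X₁ k n F hF ι j]; exact heq)

include hF hG in
theorem eq_of_surj (j : ℤ) (hj : m - 1 ≤ j)
    (hs : Function.Surjective ((wl (cokernel.π ι) (T j)).app ⊤)) :
    h1 k n F (j - 1) = h1 k n F j := by
  have h3 : Subsingleton (Coh.HH (P) (Sd k n F ι j).X₃ 1) :=
    vanishing_G k n F hF ι m hG 1 j le_rfl (by push_cast; omega)
  have := finrank_eq_of_surjective_app_top k (Sd k n F ι j) (Sd_shortExact k n F ι j) h3 hs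
  rw [finrank_Sd_X₁ k n F hF ι j] at this
  exact this

include hF hG in
theorem surj_succ (j : ℤ) (hj : m ≤ j)
    (hs : Function.Surjective ((wl (cokernel.π ι) (T j)).app ⊤)) :
    Function.Surjective ((wl (cokernel.π ι) (T (j + 1))).app ⊤) := by
  have hCT : CT (CohB1.tensorMod (cokernel ι) (T j)) (T ((1 : ℕ) : ℤ)) = ⊤ :=
    CT_of_isMRegular k n (cokernel ι) (isQuasicoherent_cokernel_ι k n F hF ι) m j hj hG 1
  obtain ⟨e⟩ := nonempty_twist_tensor_iso n k j ((1 : ℕ) : ℤ)
  have h1 := surjective_wl_of_CT (wl (cokernel.π ι) (T j)) (T ((1 : ℕ) : ℤ)) hs hCT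
  exact surjective_wl_comp (cokernel.π ι) (T j) (T ((1 : ℕ) : ℤ)) (T (j + 1))
    (e ≪≫ eqToIso (by norm_num)) h1

include hF hG in
theorem strict (j : ℤ) (hj : m ≤ j) (heq : h1 k n F j = h1 k n F (j - 1)) :
    h1 k n F (j - 1) = 0 := by
  have hs := surj_of_eq k n F hF ι m hG j (by omega) heq
  have hall : ∀ t : ℕ, Function.Surjective ((wl (cokernel.π ι) (T (j + t))).app ⊤) := by
    intro t
    induction t with
    | zero =>
      have e : j + ((0 : ℕ) : ℤ) = j := by simp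
      rw [e]
      exact hs
    | succ t ih =>
      have := surj_succ k n F hF ι m hG (j + t) (by omega) ih
      have e : j + (t : ℤ) + 1 = j + ((t + 1 : ℕ) : ℤ) := by push_cast; ring
      rw [e] at this
      exact this
  have heqs : ∀ t : ℕ, h1 k n F (j - 1) = h1 k n F (j - 1 + t) := by
    intro t
    induction t with
    | zero =>
      have e : j - 1 + ((0 : ℕ) : ℤ) = j - 1 := by simp
      rw [e]
    | succ t ih =>
      have := eq_of_surj k n F hF ι m hG (j + t) (by omega) (hall t)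
      have e1 : j + (t : ℤ) - 1 = j - 1 + t := by ring
      have e2 : j + (t : ℤ) = j - 1 + ((t + 1 : ℕ) : ℤ) := by push_cast; ring
      rw [e1, e2] at this
      rw [ih, this]
  obtain ⟨d₀, hd₀⟩ := serre_vanishing n k F hF
  rw [heqs (d₀ - (j - 1)).toNat]
  have : Subsingleton (Coh.HH (P) (CohB1.tensorMod F (T (j - 1 + ((d₀ - (j - 1)).toNat : ℤ)))) 1) :=
    hd₀ _ (by omega) 1 Nat.one_pos
  exact Module.finrank_zero_of_subsingleton

include hF hG in
/-- (iii): `H^1(F(j)) = 0` for `j ≥ m - 1 + h^1(F(m-1))`. -/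
theorem vanishing_h1 (j : ℤ) (hj : m - 1 + (h1 k n F (m - 1) : ℤ) ≤ j) :
    Subsingleton (Coh.HH (P) (CohB1.tensorMod F (T j)) 1) := by
  have h0 := eventually_zero (h1 k n F) m (h1_mono k n F hF ι m hG) (strict k n F hF ι m hG) j hj
  have hfin : Module.Finite k (Coh.HH (P) (CohB1.tensorMod F (T j)) 1) :=
    finite_HH_twisted k n F hF j 1
  exact Module.finrank_zero_iff.1 h0

include hF hG in
/-- `F` is `(m + h^1(F(m-1)))`-regular. -/
theorem isMRegular_F : Curv2.IsMRegular k n F (m + (h1 k n F (m - 1) : ℤ)) := by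
  intro i hi1 hin
  by_cases h1' : i = 1
  · subst h1'
    exact vanishing_h1 k n F hF ι m hG _ (by push_cast; omega)
  · exact vanishing_i k n F hF ι m hG i (by omega) _ (by omega)

end Pn

end Groth.Agent.Lib.Helper27MumfordReg
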