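import Groth.Agent.Lib.Helper27SerreVanPn
import Groth.Agent.Lib.Helper27LesLin
import Groth.Agent.Lib.Helper27MumfordReg
import Groth.Agent.Lib.Helper27CplxSES

/-!
# Regularity along short exact sequences on `P^n_k` (helper27)
-/

set_option autoImplicit false
universe u

open CategoryTheory CategoryTheory.Limits AlgebraicGeometry

namespace Groth.Agent.Lib.Helper27CplxReg

open Groth.Agent.Lib.Helper27SerreVan Groth.Agent.Lib.Helper27SerreVanPn
  Groth.Agent.Lib.Helper27LesLin

variable (k : Type u) [Field k] (n : ℕ)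

/-- regularity, tested only in cohomological degrees `≥ 2`. -/
def WReg (F : (CohB1.ProjSpace n k).Modules) (m : ℤ) : Prop :=
  ∀ i : ℕ, 2 ≤ i → i ≤ n →
    Subsingleton (Coh.HH (CohB1.ProjSpace n k)
      (CohB1.tensorMod F (Twist.twistProjSpace n k (m - i))) i)

theorem wreg_of_isMRegular {F : (CohB1.ProjSpace n k).Modules} {m : ℤ}
    (h : Curv2.IsMRegular k n F m) : WReg k n F m :=
  fun i hi hn => h i (by omega) hn

theorem subsingleton_HH_tw_above (F : (CohB1.ProjSpace n k).Modules) (hF : F.IsQuasicoherent)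
    (j : ℤ) (i : ℕ) (hi : n < i) :
    Subsingleton (Coh.HH (CohB1.ProjSpace n k)
      (CohB1.tensorMod F (Twist.twistProjSpace n k j)) i) := by
  haveI : F.IsQuasicoherent := hF
  haveI : (Twist.twistProjSpace n k j).IsQuasicoherent :=
    (Groth.Agent.Lib.Helper27TwistCoh.isCoh_twist n k j).1
  have hq : Coh.IsQCoh (CohB1.tensorMod F (Twist.twistProjSpace n k j)) :=
    Groth.Agent.Lib.Helper23.TensorQCoh.isQuasicoherent_tensorMod F _
  exact Groth.Agent.S0022.result n k _ i hi

/-- `0 → Z → E → B → 0`, `E` `m`-regular, `Z` weakly `(m+1)`-regular: `B` is `m`-regular. -/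
theorem isMRegular_X₃ (S : ShortComplex (CohB1.ProjSpace n k).Modules) (hS : S.ShortExact)
    (hq : S.X₁.IsQuasicoherent) (m : ℤ) (h2 : Curv2.IsMRegular k n S.X₂ m)
    (h1 : WReg k n S.X₁ (m + 1)) : Curv2.IsMRegular k n S.X₃ m := by
  intro i hi hn
  have hL := isInvertible_twist n k (m - i)
  have hS' := shortExact_tw (Twist.twistProjSpace n k (m - i)) hL S hS
  refine subsingleton_of_shortExact _ hS' i (h2 i hi hn) ?_
  by_cases hin : i + 1 ≤ n
  · have h := h1 (i + 1) (by omega) hin
    have e : m + 1 - ((i + 1 : ℕ) : ℤ) = m - (i : ℤ) := by push_cast; ring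
    rw [e] at h
    exact h
  · exact subsingleton_HH_tw_above k n S.X₁ hq (m - i) (i + 1) (by omega)

/-- `0 → B → Z → H → 0`, `B` `m`-regular, the twists of `H` have no cohomology in degrees `≥ 2`:
`Z` is weakly `m`-regular. -/
theorem wreg_X₂ (S : ShortComplex (CohB1.ProjSpace n k).Modules) (hS : S.ShortExact)
    (m : ℤ) (h1 : WReg k n S.X₁ m)
    (h3 : ∀ (j : ℤ) (i : ℕ), 2 ≤ i → Subsingleton (Coh.HH (CohB1.ProjSpace n k)
      (CohB1.tensorMod S.X₃ (Twist.twistProjSpace n k j)) i)) : WReg k n S.X₂ m := by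
  intro i hi hn
  have hL := isInvertible_twist n k (m - i)
  have hS' := shortExact_tw (Twist.twistProjSpace n k (m - i)) hL S hS
  have hsurj := surjective_HHlin_f k _ hS' i (h3 (m - i) i hi)
  haveI : Subsingleton (Coh.HH (CohB1.ProjSpace n k)
      (S.map (tw (Twist.twistProjSpace n k (m - i)))).X₁ i) := h1 i hi hn
  exact hsurj.subsingleton

end Groth.Agent.Lib.Helper27CplxReg
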