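import Mathlib
import Groth.Agent.Lib.Helper27Cubic3

set_option autoImplicit false
open MvPolynomial

namespace Groth.Agent.Lib.Helper27Cubic

local notation "V4" => (Fin 4 → ℂ)

lemma finrank_V4 : Module.finrank ℂ V4 = 4 := by simp

/-- The conditions defining the Eckardt involution of `e`, for a matrix. -/
def IsEckInv (f : MvPolynomial (Fin 4) ℂ) (A : Matrix (Fin 4) (Fin 4) ℂ) (e : V4) : Prop :=
  A * A = 1 ∧ Module.finrank ℂ ↥(LinearMap.ker (Matrix.toLin' A - LinearMap.id)) = 3 ∧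
    A.mulVec e = -e ∧ ∃ c : ℂ, aeval (fun i : Fin 4 => ∑ j : Fin 4, C (A i j) * X j) f = C c * f

/-- The data attached to an Eckardt point of a smooth cubic surface. -/
structure EckData (P : Polar V4) (e : V4) where
  lam : V4 →ₗ[ℂ] ℂ
  lam_e : lam e = 1
  hQ : ∀ x, P.Φ e x x = 2 * P.Φ e e x * lam x
  hFe : P.F e = 0

lemma exists_eckData {P : Polar V4} {e : V4} (hE : IsEckardt P e) (he : e ≠ 0) (hsm : P.Smooth) :
    Nonempty (EckData P e) := by
  obtain ⟨lam, h1, h2⟩ := hE.exists_lam he hsm finrank_V4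
  exact ⟨⟨lam, h1, h2, hE.F_eq_zero⟩⟩

lemma isEckardt_of_eval {f : MvPolynomial (Fin 4) ℂ} {P : Polar V4} (hP : IsPolarOf P f) {e : V4}
    (hE : ∃ U : Fin 3 → Submodule ℂ V4, Function.Injective U ∧
      ∀ i : Fin 3, Module.finrank ℂ ↥(U i) = 2 ∧ e ∈ U i ∧ ∀ u ∈ U i, eval u f = 0) :
    IsEckardt P e := by
  obtain ⟨U, hinj, hU⟩ := hE
  exact ⟨U, hinj, fun i => ⟨(hU i).1, (hU i).2.1, fun u hu => by
    rw [← hP.1]; exact (hU i).2.2 u hu⟩⟩

lemma eval_of_isEckardt {f : MvPolynomial (Fin 4) ℂ} {P : Polar V4} (hP : IsPolarOf P f) {e : V4}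
    (hE : IsEckardt P e) :
    ∃ U : Fin 3 → Submodule ℂ V4, Function.Injective U ∧
      ∀ i : Fin 3, Module.finrank ℂ ↥(U i) = 2 ∧ e ∈ U i ∧ ∀ u ∈ U i, eval u f = 0 := by
  obtain ⟨U, hinj, hU⟩ := hE
  exact ⟨U, hinj, fun i => ⟨(hU i).1, (hU i).2.1, fun u hu => by
    rw [hP.1]; exact (hU i).2.2 u hu⟩⟩

/-- The reflection matrix attached to the data of an Eckardt point is an Eckardt involution. -/
lemma EckData.isEckInv {f : MvPolynomial (Fin 4) ℂ} {P : Polar V4} (hP : IsPolarOf P f) {e : V4}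
    (D : EckData P e) : IsEckInv f (reflMat e D.lam) e := by
  refine ⟨reflMat_mul_self e D.lam D.lam_e, finrank_ker_reflMat e D.lam D.lam_e, ?_, 1, ?_⟩
  · rw [reflMat_mulVec, D.lam_e]; module
  · rw [aeval_subst_eq_iff f P hP]
    intro v
    rw [reflMat, LinearMap.toMatrix'_mulVec, F_refl D.lam D.hFe D.hQ, one_mul]

/-- Any Eckardt involution of `e` is the reflection matrix of the data. -/
lemma EckData.eq_reflMat {f : MvPolynomial (Fin 4) ℂ} {P : Polar V4} (hP : IsPolarOf P f) {e : V4}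
    (he : e ≠ 0) (hsm : P.Smooth) (D : EckData P e) {A : Matrix (Fin 4) (Fin 4) ℂ}
    (hA : IsEckInv f A e) : A = reflMat e D.lam := by
  obtain ⟨_, hfix, hAe, c, hc⟩ := hA
  obtain ⟨lam', hlam', rfl⟩ := exists_lam_of_involution A e he hfix hAe
  have hc' := (aeval_subst_eq_iff f P hP _ c).mp hc
  have : lam' = D.lam := by
    apply lam_unique he hsm finrank_V4 D.lam lam' D.hFe hlam' D.hQ c
    intro x
    have := hc' x
    rw [reflMat, LinearMap.toMatrix'_mulVec] at this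
    exact this
  rw [this]

end Groth.Agent.Lib.Helper27Cubic
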