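import Mathlib
import Groth.Agent.Lib.Helper27Cubic4

set_option autoImplicit false
open MvPolynomial

namespace Groth.Agent.Lib.Helper27Cubic

section General

variable {V : Type*} [AddCommGroup V] [Module ℂ V]

/-- A reflection as a linear equivalence. -/
noncomputable def reflEquiv (e : V) (lam : V →ₗ[ℂ] ℂ) (h : lam e = 1) : V ≃ₗ[ℂ] V :=
  LinearEquiv.ofLinear (refl e lam) (refl e lam)
    (LinearMap.ext fun x => by simp [refl_refl e lam h])
    (LinearMap.ext fun x => by simp [refl_refl e lam h])

@[simp] lemma reflEquiv_apply (e : V) (lam : V →ₗ[ℂ] ℂ) (h : lam e = 1) (x : V) :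
    reflEquiv e lam h x = refl e lam x := rfl

variable [FiniteDimensional ℂ V] {P : Polar V}

/-- Linear automorphisms preserving the cubic form map Eckardt points to Eckardt points. -/
lemma IsEckardt.map {e : V} (hE : IsEckardt P e) (L : V ≃ₗ[ℂ] V) (hL : ∀ x, P.F (L x) = P.F x) :
    IsEckardt P (L e) := by
  obtain ⟨U, hinj, hU⟩ := hE
  refine ⟨fun i => (U i).map (L : V →ₗ[ℂ] V), ?_, fun i => ⟨?_, ?_, ?_⟩⟩
  · intro i j hij
    exact hinj (Submodule.map_injective_of_injective L.injective hij)
  · rw [LinearEquiv.finrank_map_eq]; exact (hU i).1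
  · exact Submodule.mem_map_of_mem (hU i).2.1
  · rintro _ ⟨x, hx, rfl⟩
    show P.F (L x) = 0
    rw [hL]; exact (hU i).2.2 x hx

lemma indep_of_notMem {e e' : V} (he : e ≠ 0) (he' : e' ∉ Submodule.span ℂ {e}) (s t : ℂ)
    (h : s • e + t • e' = 0) : s = 0 ∧ t = 0 :=
  LinearIndependent.pair_iff.mp (linearIndependent_pair_of_notMem he he') s t h

end General

section TwoPoints

local notation "V4" => (Fin 4 → ℂ)

variable {P : Polar V4} {e e' : V4} (D : EckData P e) (D' : EckData P e')

include D D' in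
lemma rel1 : P.Φ e' e' e = 2 * P.Φ e e e' * D.lam e' := by
  have := D.hQ e'
  rw [← P.swap13 e' e' e] at this
  exact this

include D D' in
lemma rel2 : P.Φ e e e' = 2 * P.Φ e' e' e * D'.lam e := by
  have := D'.hQ e
  rw [← P.swap13 e e e'] at this
  exact this

include D D' in
lemma F_on_line (s t : ℂ) :
    P.F (s • e + t • e') = 3 * s * t * (s * P.Φ e e e' + t * P.Φ e' e' e) := by
  rw [P.F_add, P.F_smul, P.F_smul, D.hFe, D'.hFe]
  simp only [P.smul_left, P.smul_mid, P.smul_right]
  have : P.Φ e e' e' = P.Φ e' e' e := P.swap13 e e' e'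
  rw [this]; ring

include D D' in
lemma line_subset_iff :
    (∀ u ∈ Submodule.span ℂ ({e, e'} : Set V4), P.F u = 0) ↔ P.Φ e e e' = 0 := by
  constructor
  · intro h
    have h1 := h (e + e') (Submodule.add_mem _ (Submodule.subset_span (by simp))
      (Submodule.subset_span (by simp)))
    have h2 := h (e - e') (Submodule.sub_mem _ (Submodule.subset_span (by simp))
      (Submodule.subset_span (by simp)))
    have e1 := F_on_line D D' 1 1
    have e2 := F_on_line D D' 1 (-1)
    rw [one_smul, one_smul, h1] at e1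
    rw [one_smul, neg_one_smul, ← sub_eq_add_neg, h2] at e2
    linear_combination (-1 / 6 : ℂ) * e1 + (1 / 6 : ℂ) * e2
  · intro ha u hu
    obtain ⟨s, t, rfl⟩ := Submodule.mem_span_pair.mp hu
    rw [F_on_line D D', rel1 D D', ha]; ring

end TwoPoints

end Groth.Agent.Lib.Helper27Cubic
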