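import Mathlib
import Groth.Agent.Lib.Helper27Cubic5

set_option autoImplicit false
open MvPolynomial

namespace Groth.Agent.Lib.Helper27Cubic

local notation "V4" => (Fin 4 → ℂ)

variable {P : Polar V4} {e e' : V4}

/-- The third Eckardt point on the line through two Eckardt points not contained in the surface. -/
lemma third_point (he : e ≠ 0) (he' : e' ∉ Submodule.span ℂ {e})
    (hE : IsEckardt P e) (D : EckData P e) (D' : EckData P e') (ha : P.Φ e e e' ≠ 0) :
    ∃ e'' : V4, e'' ∈ Submodule.span ℂ {e, e'} ∧ e'' ∉ Submodule.span ℂ {e} ∧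
      e'' ∉ Submodule.span ℂ {e'} ∧ IsEckardt P e'' ∧
      ∀ u ∈ Submodule.span ℂ {e, e'}, P.F u = 0 →
        u ∈ Submodule.span ℂ {e} ∨ u ∈ Submodule.span ℂ {e'} ∨ u ∈ Submodule.span ℂ {e''} := by
  have r1 := rel1 D D'
  have r2 := rel2 D D'
  have hb : P.Φ e' e' e ≠ 0 := by
    intro h; rw [h] at r2; apply ha; rw [r2]; ring
  have hp' : D'.lam e ≠ 0 := by
    intro h; rw [h] at r2; apply ha; rw [r2]; ring
  have hmemE : e ∈ Submodule.span ℂ ({e, e'} : Set V4) := Submodule.subset_span (by simp)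
  have hmemE' : e' ∈ Submodule.span ℂ ({e, e'} : Set V4) := Submodule.subset_span (by simp)
  refine ⟨refl e' D'.lam e, ?_, ?_, ?_, ?_, ?_⟩
  · rw [refl_apply]
    exact Submodule.sub_mem _ hmemE (Submodule.smul_mem _ _ hmemE')
  · rw [refl_apply]
    intro h
    obtain ⟨c, hc⟩ := Submodule.mem_span_singleton.mp h
    have := indep_of_notMem he he' (c - 1) (2 * D'.lam e) (by rw [sub_smul, hc]; module)
    apply hp'
    have h2 := this.2
    linear_combination (1/2 : ℂ) * h2
  · rw [refl_apply]
    intro h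
    obtain ⟨c, hc⟩ := Submodule.mem_span_singleton.mp h
    have := indep_of_notMem he he' 1 (-(2 * D'.lam e) - c)
      (by rw [sub_smul, hc]; module)
    exact one_ne_zero this.1
  · have := hE.map (reflEquiv e' D'.lam D'.lam_e) (fun x => F_refl D'.lam D'.hFe D'.hQ x)
    simpa using this
  · intro u hu hFu
    obtain ⟨s, t, rfl⟩ := Submodule.mem_span_pair.mp hu
    rw [F_on_line D D'] at hFu
    have : s * t * (P.Φ e' e' e * (2 * D'.lam e * s + t)) = 0 := by
      rw [r2] at hFu
      linear_combination (1/3 : ℂ) * hFu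
    rcases mul_eq_zero.mp this with h1 | h1
    · rcases mul_eq_zero.mp h1 with h2 | h2
      · right; left
        rw [h2, zero_smul, zero_add]
        exact Submodule.smul_mem _ _ (Submodule.mem_span_singleton_self _)
      · left
        rw [h2, zero_smul, add_zero]
        exact Submodule.smul_mem _ _ (Submodule.mem_span_singleton_self _)
    · have h2 : 2 * D'.lam e * s + t = 0 := (mul_eq_zero.mp h1).resolve_left hb
      right; right
      rw [Submodule.mem_span_singleton]
      refine ⟨s, ?_⟩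
      rw [refl_apply]
      have ht : t = -(2 * D'.lam e * s) := by linear_combination h2
      rw [ht]; module

/-- If the line through two Eckardt points lies on the surface there is no "third point" picture. -/
lemma no_third_of_line (he : e ≠ 0) (he' : e' ∉ Submodule.span ℂ {e})
    (hL : ∀ u ∈ Submodule.span ℂ ({e, e'} : Set V4), P.F u = 0) :
    ¬ ∃ e'' : V4, e'' ∈ Submodule.span ℂ {e, e'} ∧ e'' ∉ Submodule.span ℂ {e} ∧
      e'' ∉ Submodule.span ℂ {e'} ∧ IsEckardt P e'' ∧
      ∀ u ∈ Submodule.span ℂ {e, e'}, P.F u = 0 →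
        u ∈ Submodule.span ℂ {e} ∨ u ∈ Submodule.span ℂ {e'} ∨ u ∈ Submodule.span ℂ {e''} := by
  rintro ⟨e'', hmem, -, -, -, hz⟩
  have hmemE : e ∈ Submodule.span ℂ ({e, e'} : Set V4) := Submodule.subset_span (by simp)
  have hmemE' : e' ∈ Submodule.span ℂ ({e, e'} : Set V4) := Submodule.subset_span (by simp)
  obtain ⟨s, t, rfl⟩ := Submodule.mem_span_pair.mp hmem
  -- a general point `e + k • e'` with `k ≠ 0` lies in `span {e''}`
  have key : ∀ k : ℂ, k ≠ 0 → ∃ c : ℂ, c * s = 1 ∧ c * t = k := by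
    intro k hk
    have hu : e + k • e' ∈ Submodule.span ℂ ({e, e'} : Set V4) :=
      Submodule.add_mem _ hmemE (Submodule.smul_mem _ _ hmemE')
    rcases hz _ hu (hL _ hu) with h | h | h
    · obtain ⟨c, hc⟩ := Submodule.mem_span_singleton.mp h
      have := indep_of_notMem he he' (c - 1) (-k) (by rw [sub_smul, hc]; module)
      exact absurd (neg_eq_zero.mp this.2) hk
    · obtain ⟨c, hc⟩ := Submodule.mem_span_singleton.mp h
      have := indep_of_notMem he he' 1 (k - c) (by rw [sub_smul, hc]; module)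
      exact absurd this.1 one_ne_zero
    · obtain ⟨c, hc⟩ := Submodule.mem_span_singleton.mp h
      have := indep_of_notMem he he' (c * s - 1) (c * t - k) (by
        rw [sub_smul, sub_smul, mul_smul, mul_smul, one_smul]
        rw [smul_add] at hc
        rw [← sub_eq_zero] at hc
        rw [← hc]; abel)
      exact ⟨c, by linear_combination this.1, by linear_combination this.2⟩
  obtain ⟨c₁, h1s, h1t⟩ := key 1 one_ne_zero
  obtain ⟨c₂, h2s, h2t⟩ := key 2 two_ne_zero
  -- c₁ s = 1, c₁ t = 1, c₂ s = 1, c₂ t = 2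
  have hc1 : c₁ ≠ 0 := by rintro rfl; simp at h1s
  have hst : s = t := by
    have : c₁ * s = c₁ * t := by rw [h1s, h1t]
    exact mul_left_cancel₀ hc1 this
  rw [hst] at h2s
  rw [h2s] at h2t
  norm_num at h2t

/-- The dichotomy for the line through two Eckardt points. -/
lemma xor_line (he : e ≠ 0) (he' : e' ∉ Submodule.span ℂ {e})
    (hE : IsEckardt P e) (D : EckData P e) (D' : EckData P e') :
    Xor (∀ u ∈ Submodule.span ℂ ({e, e'} : Set V4), P.F u = 0)
      (∃ e'' : V4, e'' ∈ Submodule.span ℂ {e, e'} ∧ e'' ∉ Submodule.span ℂ {e} ∧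
      e'' ∉ Submodule.span ℂ {e'} ∧ IsEckardt P e'' ∧
      ∀ u ∈ Submodule.span ℂ {e, e'}, P.F u = 0 →
        u ∈ Submodule.span ℂ {e} ∨ u ∈ Submodule.span ℂ {e'} ∨ u ∈ Submodule.span ℂ {e''}) := by
  by_cases ha : P.Φ e e e' = 0
  · left
    have hL := (line_subset_iff D D').mpr ha
    exact ⟨hL, no_third_of_line he he' hL⟩
  · right
    exact ⟨third_point he he' hE D D' ha, fun hL => ha ((line_subset_iff D D').mp hL)⟩

end Groth.Agent.Lib.Helper27Cubic
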