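import Mathlib
import Groth.Agent.Lib.Helper27Cubic6

set_option autoImplicit false
open MvPolynomial

namespace Groth.Agent.Lib.Helper27Cubic

local notation "V4" => (Fin 4 → ℂ)

lemma reflMat_mulVec' {n : ℕ} (e : Fin n → ℂ) (lam : (Fin n → ℂ) →ₗ[ℂ] ℂ) (x : Fin n → ℂ) :
    (reflMat e lam).mulVec x = refl e lam x := by
  rw [reflMat, LinearMap.toMatrix'_mulVec]

section S3

variable {P : Polar V4} {e e' : V4} (D : EckData P e) (D' : EckData P e')

include D D' in
lemma four_pp (ha : P.Φ e e e' ≠ 0) : 4 * D.lam e' * D'.lam e = 1 := by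
  have r1 := rel1 D D'
  have r2 := rel2 D D'
  rw [r1] at r2
  have : P.Φ e e e' * (4 * D.lam e' * D'.lam e - 1) = 0 := by linear_combination -r2
  rcases mul_eq_zero.mp this with h | h
  · exact absurd h ha
  · linear_combination h

include D D' in
/-- zeros of the cubic on the line through two Eckardt points (line not on the surface) -/
lemma zeros_on_line (ha : P.Φ e e e' ≠ 0) :
    ∀ u ∈ Submodule.span ℂ ({e, e'} : Set V4), P.F u = 0 →
      u ∈ Submodule.span ℂ {e} ∨ u ∈ Submodule.span ℂ {e'} ∨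
        u ∈ Submodule.span ℂ {refl e' D'.lam e} := by
  have r1 := rel1 D D'
  have r2 := rel2 D D'
  have hb : P.Φ e' e' e ≠ 0 := by
    intro h; rw [h] at r2; apply ha; rw [r2]; ring
  intro u hu hFu
  obtain ⟨s, t, rfl⟩ := Submodule.mem_span_pair.mp hu
  rw [F_on_line D D'] at hFu
  have : s * t * (P.Φ e' e' e * (2 * D'.lam e * s + t)) = 0 := by
    rw [r2] at hFu
    linear_combination (1/3 : ℂ) * hFu
  rcases mul_eq_zero.mp this with h1 | h1
  · rcases mul_eq_zero.mp h1 with h2 | h2
    · right; left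
      rw [h2, zero_smul, zero_add]
      exact Submodule.smul_mem _ _ (Submodule.mem_span_singleton_self _)
    · left
      rw [h2, zero_smul, add_zero]
      exact Submodule.smul_mem _ _ (Submodule.mem_span_singleton_self _)
  · have h2 : 2 * D'.lam e * s + t = 0 := (mul_eq_zero.mp h1).resolve_left hb
    right; right
    rw [Submodule.mem_span_singleton]
    refine ⟨s, ?_⟩
    rw [refl_apply]
    have ht : t = -(2 * D'.lam e * s) := by linear_combination h2
    rw [ht]; module

include D D' in
lemma M_step (h4 : 4 * D.lam e' * D'.lam e = 1) (x : V4) (α β : ℂ) :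
    refl e D.lam (refl e' D'.lam (x + α • e + β • e')) =
      x + (-2 * D.lam x + 4 * D.lam e' * D'.lam x + 2 * D.lam e' * β) • e +
        (-β - 2 * D'.lam x - 2 * D'.lam e * α) • e' := by
  simp only [refl_apply, map_sub, map_add, map_smul, smul_eq_mul, D.lam_e, D'.lam_e]
  linear_combination (norm := module) (α * h4) • e

include D D' in
lemma M_cube (h4 : 4 * D.lam e' * D'.lam e = 1) (x : V4) :
    refl e D.lam (refl e' D'.lam (refl e D.lam (refl e' D'.lam
      (refl e D.lam (refl e' D'.lam x))))) = x := by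
  have s1 := M_step D D' h4 x 0 0
  simp only [zero_smul, add_zero, mul_zero, neg_zero, zero_sub, sub_zero] at s1
  rw [s1, M_step D D' h4 x _ _, M_step D D' h4 x _ _]
  linear_combination (norm := module) ((2 * D.lam x - 4 * D.lam e' * D'.lam x) * h4) • e +
    (2 * D'.lam x * h4) • e'

include D D' in
lemma M_e (h4 : 4 * D.lam e' * D'.lam e = 1) :
    refl e D.lam (refl e' D'.lam e) = (-(2 * D'.lam e)) • e' := by
  simp only [refl_apply, map_sub, map_smul, smul_eq_mul, D.lam_e, D'.lam_e]
  linear_combination (norm := module) (h4) • e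

end S3

end Groth.Agent.Lib.Helper27Cubic

namespace Groth.Agent.Lib.Helper27Cubic

local notation "V4" => (Fin 4 → ℂ)

section S3b

variable {P : Polar V4} {e e' e'' : V4} (D : EckData P e) (D' : EckData P e')
  (D'' : EckData P e'')

include D D' D'' in
/-- The involution of the third collinear Eckardt point is the conjugate `A A' A`. -/
lemma third_inv (hsm : P.Smooth) (ha : P.Φ e e e' ≠ 0)
    (he''1 : e'' ∉ Submodule.span ℂ {e}) (he''2 : e'' ∉ Submodule.span ℂ {e'})
    (he''L : e'' ∈ Submodule.span ℂ {e, e'}) :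
    reflMat e'' D''.lam = reflMat e D.lam * reflMat e' D'.lam * reflMat e D.lam := by
  have h4 := four_pp D D' ha
  have he''0 : e'' ≠ 0 := fun h => he''1 (h ▸ Submodule.zero_mem _)
  rcases zeros_on_line D D' ha e'' he''L D''.hFe with h | h | h
  · exact absurd h he''1
  · exact absurd h he''2
  obtain ⟨k, hk⟩ := Submodule.mem_span_singleton.mp h
  have hk0 : k ≠ 0 := by
    rintro rfl
    rw [zero_smul] at hk
    exact he''0 hk.symm
  have hp0 : D.lam e' ≠ 0 := by
    intro h0
    rw [h0] at h4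
    simp at h4
  set m : ℂ := -(2 * D.lam e') * k⁻¹ with hm
  have hm0 : m ≠ 0 := by
    rw [hm]
    exact mul_ne_zero (neg_ne_zero.mpr (mul_ne_zero two_ne_zero hp0)) (inv_ne_zero hk0)
  have hRe' : refl e D.lam e' = m • e'' := by
    rw [← hk, refl_apply, refl_apply, hm, smul_smul]
    have : -(2 * D.lam e') * k⁻¹ * k = -(2 * D.lam e') := by field_simp
    rw [this]
    linear_combination (norm := module) (-h4) • e'
  set ν : V4 →ₗ[ℂ] ℂ := m • (D'.lam ∘ₗ refl e D.lam) with hν
  have hνx : ∀ x, ν x = m * D'.lam (refl e D.lam x) := fun x => by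
    simp [hν]
  have hνe : ν e'' = 1 := by
    have h1 : ν (m • e'') = m := by
      rw [← hRe', hνx, refl_refl e D.lam D.lam_e, D'.lam_e, mul_one]
    rw [map_smul, smul_eq_mul] at h1
    exact mul_left_cancel₀ hm0 (by rw [h1, mul_one])
  have hB : ∀ x, refl e'' ν x = refl e D.lam (refl e' D'.lam (refl e D.lam x)) := by
    intro x
    rw [refl_apply e' D'.lam, map_sub, map_smul, refl_refl e D.lam D.lam_e, hRe', refl_apply,
      hνx]
    module
  have hF : ∀ x, P.F (refl e'' ν x) = 1 * P.F x := by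
    intro x
    rw [hB, F_refl D.lam D.hFe D.hQ, F_refl D'.lam D'.hFe D'.hQ, F_refl D.lam D.hFe D.hQ,
      one_mul]
  have hνeq : ν = D''.lam :=
    lam_unique he''0 hsm finrank_V4 D''.lam ν D''.hFe hνe D''.hQ 1 hF
  apply matrix_ext_mulVec
  intro x
  simp only [← Matrix.mulVec_mulVec, reflMat_mulVec']
  rw [← hνeq, hB]

include D D' in
lemma prod_not_scalar (he : e ≠ 0) (he' : e' ∉ Submodule.span ℂ {e}) (ha : P.Φ e e e' ≠ 0) :
    ¬ ∃ c : ℂ, reflMat e D.lam * reflMat e' D'.lam = c • (1 : Matrix (Fin 4) (Fin 4) ℂ) := by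
  have h4 := four_pp D D' ha
  rintro ⟨c, hc⟩
  have h1 := congrArg (fun M => Matrix.mulVec M e) hc
  simp only [← Matrix.mulVec_mulVec, reflMat_mulVec', Matrix.smul_mulVec, Matrix.one_mulVec] at h1
  rw [M_e D D' h4] at h1
  have := indep_of_notMem he he' c (2 * D'.lam e) (by rw [← h1]; module)
  have h2 : D'.lam e = 0 := by linear_combination (1/2 : ℂ) * this.2
  rw [h2] at h4
  simp at h4

include D D' in
lemma prod_cube (ha : P.Φ e e e' ≠ 0) :
    (reflMat e D.lam * reflMat e' D'.lam) ^ 3 = (1 : ℂ) • (1 : Matrix (Fin 4) (Fin 4) ℂ) := by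
  have h4 := four_pp D D' ha
  apply matrix_ext_mulVec
  intro x
  rw [one_smul, Matrix.one_mulVec, pow_succ, pow_succ, pow_one]
  simp only [← Matrix.mulVec_mulVec, reflMat_mulVec']
  exact M_cube D D' h4 x

end S3b

end Groth.Agent.Lib.Helper27Cubic
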