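import Mathlib
import Groth.Agent.Lib.Helper27Cubic7

set_option autoImplicit false
open MvPolynomial

namespace Groth.Agent.Lib.Helper27Cubic

local notation "V4" => (Fin 4 → ℂ)

section Commute

variable {P : Polar V4} {e e' : V4}

/-- polarisation of the quadric identity of an Eckardt point -/
lemma EckData.hQ2 (D : EckData P e) (x y : V4) :
    P.Φ e x y = P.Φ e e x * D.lam y + P.Φ e e y * D.lam x := by
  have h1 := D.hQ (x + y)
  rw [P.Q_add, D.hQ x, D.hQ y, P.add_right, map_add] at h1
  linear_combination (1/2 : ℂ) * h1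

variable (D : EckData P e) (D' : EckData P e')

include D D' in
/-- If the line through two Eckardt points lies on a smooth cubic surface, each point lies in the
fixed plane of the other involution. -/
lemma lam_eq_zero_of_line (hsm : P.Smooth) (he : e ≠ 0) (he' : e' ∉ Submodule.span ℂ {e})
    (ha : P.Φ e e e' = 0) : D.lam e' = 0 ∧ D'.lam e = 0 := by
  have hb : P.Φ e' e' e = 0 := by rw [rel1 D D', ha]; ring
  have he'0 : e' ≠ 0 := fun h => he' (h ▸ Submodule.zero_mem _)
  -- the key relation
  have hstar : ∀ y, P.Φ e e y * D.lam e' = P.Φ e' e' y * D'.lam e := by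
    intro y
    have h1 := D.hQ2 e' y
    have h2 := D'.hQ2 e y
    rw [ha, zero_mul, zero_add] at h1
    rw [hb, zero_mul, zero_add] at h2
    rw [← h1, ← h2, P.swap12 e e' y]
  obtain ⟨w', hw'⟩ := hsm e' he'0 D'.hFe
  obtain ⟨w, hw⟩ := hsm e he D.hFe
  have hp : D.lam e' = 0 := by
    by_contra hp
    have hp' : D'.lam e ≠ 0 := by
      intro h0
      have := hstar w
      rw [h0, mul_zero] at this
      rcases mul_eq_zero.mp this with h | h
      · exact hw h
      · exact hp h
    -- a root of s² + 2 p s + p / p'
    obtain ⟨z, hz⟩ := IsAlgClosed.exists_pow_nat_eq ((D.lam e') ^ 2 - D.lam e' / D'.lam e)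
      (n := 2) (by norm_num)
    set s : ℂ := -D.lam e' + z with hs
    have hroot : D'.lam e * (s ^ 2 + 2 * D.lam e' * s) + D.lam e' = 0 := by
      have : s ^ 2 + 2 * D.lam e' * s = z ^ 2 - (D.lam e') ^ 2 := by rw [hs]; ring
      rw [this, hz]
      field_simp
      ring
    have hx0 : s • e + e' ≠ 0 := by
      intro h
      have := indep_of_notMem he he' s 1 (by rw [one_smul]; exact h)
      exact one_ne_zero this.2
    have hFx : P.F (s • e + e') = 0 := by
      have := F_on_line D D' s 1
      rw [one_smul] at this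
      rw [this, ha, hb]; ring
    obtain ⟨y, hy⟩ := hsm _ hx0 hFx
    apply hy
    have h1 : P.Φ (s • e + e') (s • e + e') y =
        s ^ 2 * P.Φ e e y + 2 * s * P.Φ e e' y + P.Φ e' e' y := by
      simp only [P.add_left, P.add_mid, P.smul_left, P.smul_mid]
      rw [P.swap12 e' e y]; ring
    have h2 := D.hQ2 e' y
    rw [ha, zero_mul, zero_add] at h2
    have h3 := hstar y
    have : D'.lam e * P.Φ (s • e + e') (s • e + e') y = 0 := by
      rw [h1, h2]
      linear_combination (P.Φ e e y) * hroot - h3
    exact (mul_eq_zero.mp this).resolve_left hp'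
  refine ⟨hp, ?_⟩
  have := hstar w'
  rw [hp, mul_zero] at this
  rcases mul_eq_zero.mp this.symm with h | h
  · exact absurd h hw'
  · exact h

include D D' in
lemma commute_of_lam_eq_zero (hp : D.lam e' = 0) (hp' : D'.lam e = 0) :
    reflMat e D.lam * reflMat e' D'.lam = (1 : ℂ) • (reflMat e' D'.lam * reflMat e D.lam) := by
  apply matrix_ext_mulVec
  intro x
  rw [one_smul]
  simp only [← Matrix.mulVec_mulVec, reflMat_mulVec']
  simp only [refl_apply, map_sub, map_smul, smul_eq_mul, hp, hp']
  module

end Commute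

end Groth.Agent.Lib.Helper27Cubic
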