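import Mathlib
import Groth.Agent.Lib.Helper27Cubic8

set_option autoImplicit false
open MvPolynomial

namespace Groth.Agent.Lib.Helper27Cubic

local notation "V4" => (Fin 4 → ℂ)

section Converse

variable {P : Polar V4} {p : V4}

/-- From an involution with isolated fixed point `p` on the surface to the data of an Eckardt
point. -/
lemma eckData_of_inv (hsm : P.Smooth) (hFp : P.F p = 0) (lam : V4 →ₗ[ℂ] ℂ)
    (hlam : lam p = 1) (c : ℂ) (hc : ∀ x, P.F (refl p lam x) = c * P.F x) :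
    Nonempty (EckData P p) := by
  have hlam0 : lam ≠ 0 := by
    intro h
    rw [h] at hlam
    simp at hlam
  have hc1 : c = 1 := by
    by_contra hne
    apply no_plane P hsm (d := 1) finrank_V4 lam hlam0
    intro x hx
    have h1 := hc x
    rw [refl_apply, LinearMap.mem_ker.mp hx, mul_zero, zero_smul, sub_zero] at h1
    have : (1 - c) * P.F x = 0 := by linear_combination h1
    rcases mul_eq_zero.mp this with h | h
    · exact absurd (by linear_combination -h) hne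
    · exact h
  have hform : ∀ x, lam x * (P.Φ p x x - 2 * P.Φ p p x * lam x) = 0 := by
    intro x
    have h1 := hc x
    rw [hc1, one_mul, refl_apply, sub_eq_add_neg, ← neg_smul, P.F_add_smul, hFp] at h1
    have e1 : P.Φ x x p = P.Φ p x x := P.swap13 x x p
    have e2 : P.Φ x p p = P.Φ p p x := P.swap13 x p p
    rw [e1, e2] at h1
    linear_combination (-1/6 : ℂ) * h1
  have hshift : ∀ x, P.Φ p (x + p) (x + p) - 2 * P.Φ p p (x + p) * lam (x + p) =
      P.Φ p x x - 2 * P.Φ p p x * lam x := by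
    intro x
    have e0 : P.Φ p p p = 0 := hFp
    have e1 : P.Φ p x p = P.Φ p p x := P.swap23 p x p
    rw [P.Q_add, P.add_right, map_add, hlam, e0, e1]; ring
  refine ⟨⟨lam, hlam, ?_, hFp⟩⟩
  intro x
  by_cases hx : lam x = 0
  · have h1 := hform (x + p)
    have h2 : lam (x + p) ≠ 0 := by rw [map_add, hlam, hx, zero_add]; exact one_ne_zero
    have h3 := (mul_eq_zero.mp h1).resolve_left h2
    rw [hshift] at h3
    linear_combination h3
  · have h3 := (mul_eq_zero.mp (hform x)).resolve_left hx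
    linear_combination h3

lemma EckData.cone (D : EckData P p) {w : V4} (h1 : P.Φ p p w = 0) (t : ℂ) :
    P.F (w + t • p) = P.F w := by
  rw [P.F_add_smul, D.hFe]
  have e1 : P.Φ w w p = P.Φ p w w := P.swap13 w w p
  have e2 : P.Φ w p p = P.Φ p p w := P.swap13 w p p
  rw [e1, e2, D.hQ w, h1]; ring

/-- The binary cubic cut out on `W = T_p ∩ ker λ` has no multiple root. -/
lemma EckData.no_double (D : EckData P p) (hsm : P.Smooth) (hp : p ≠ 0) {w₀ : V4} (hw₀ : w₀ ≠ 0)
    (h1 : P.Φ p p w₀ = 0) (h2 : D.lam w₀ = 0) (hF : P.F w₀ = 0)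
    (hd : ∀ w, P.Φ p p w = 0 → D.lam w = 0 → P.Φ w₀ w₀ w = 0) : False := by
  obtain ⟨n₀, hn₀⟩ := hsm p hp D.hFe
  set n : V4 := (P.Φ p p n₀)⁻¹ • n₀ with hn
  have hℓn : P.Φ p p n = 1 := by rw [hn, P.smul_right, inv_mul_cancel₀ hn₀]
  clear_value n
  obtain ⟨t, ht⟩ := IsAlgClosed.exists_pow_nat_eq (-(P.Φ w₀ w₀ n)) (n := 2) (by norm_num)
  have hx0 : w₀ + t • p ≠ 0 := by
    intro h
    have h3 := congrArg D.lam h
    rw [map_add, map_smul, h2, D.lam_e, map_zero, zero_add, smul_eq_mul, mul_one] at h3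
    rw [h3, zero_smul, add_zero] at h
    exact hw₀ h
  have hFx : P.F (w₀ + t • p) = 0 := by rw [D.cone h1, hF]
  obtain ⟨y, hy⟩ := hsm _ hx0 hFx
  apply hy
  set w : V4 := y - (D.lam y - P.Φ p p y * D.lam n) • p - (P.Φ p p y) • n with hw
  have e0 : P.Φ p p p = 0 := D.hFe
  have hw1 : P.Φ p p w = 0 := by
    rw [hw, P.sub_right, P.sub_right, P.smul_right, P.smul_right, hℓn, e0]; ring
  have hw2 : D.lam w = 0 := by
    rw [hw, map_sub, map_sub, map_smul, map_smul, D.lam_e]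
    simp only [smul_eq_mul]; ring
  have hy' : y = w + (D.lam y - P.Φ p p y * D.lam n) • p + (P.Φ p p y) • n := by rw [hw]; abel
  have hpw : P.Φ w₀ w₀ p = 0 := by
    rw [P.swap13 w₀ w₀ p, D.hQ w₀, h1]; ring
  have hpwy : P.Φ p w₀ y = 0 := by
    rw [D.hQ2 w₀ y, h1, h2]; ring
  have h5 : P.Φ w₀ w₀ y = P.Φ p p y * P.Φ w₀ w₀ n := by
    conv_lhs => rw [hy']
    rw [P.add_right, P.add_right, P.smul_right, P.smul_right, hd w hw1 hw2, hpw]; ring
  have h6 : P.Φ (w₀ + t • p) (w₀ + t • p) y =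
      P.Φ w₀ w₀ y + 2 * t * P.Φ p w₀ y + t ^ 2 * P.Φ p p y := by
    simp only [P.add_left, P.add_mid, P.smul_left, P.smul_mid]
    rw [P.swap12 w₀ p y]; ring
  rw [h6, h5, hpwy, ht]; ring

lemma finrank_inf_ker (ℓ lam : V4 →ₗ[ℂ] ℂ) (n p : V4) (h1 : ℓ n = 1) (h2 : ℓ p = 0)
    (h3 : lam p = 1) :
    Module.finrank ℂ ↥(LinearMap.ker ℓ ⊓ LinearMap.ker lam) = 2 := by
  have hker : LinearMap.ker (ℓ.prod lam) = LinearMap.ker ℓ ⊓ LinearMap.ker lam :=
    LinearMap.ker_prod ℓ lam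
  have hsurj : LinearMap.range (ℓ.prod lam) = ⊤ := by
    rw [LinearMap.range_eq_top]
    rintro ⟨a, b⟩
    refine ⟨a • n + (b - a * lam n) • p, ?_⟩
    simp [h1, h2, h3]
  have := LinearMap.finrank_range_add_finrank_ker (ℓ.prod lam)
  rw [hsurj, finrank_top, hker] at this
  simp at this
  omega

/-- A line through `p` inside the tangent cone. -/
lemma EckData.line (D : EckData P p) (hp : p ≠ 0) {w₀ : V4} (hw₀ : w₀ ≠ 0)
    (h1 : P.Φ p p w₀ = 0) (h2 : D.lam w₀ = 0) (hF : P.F w₀ = 0) :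
    Module.finrank ℂ ↥(Submodule.span ℂ ({p, w₀} : Set V4)) = 2 ∧
      p ∈ Submodule.span ℂ ({p, w₀} : Set V4) ∧
      ∀ u ∈ Submodule.span ℂ ({p, w₀} : Set V4), P.F u = 0 := by
  refine ⟨?_, Submodule.subset_span (by simp), ?_⟩
  · apply finrank_span_pair_eq_two hp
    intro h
    obtain ⟨α, hα⟩ := Submodule.mem_span_singleton.mp h
    have h3 := congrArg D.lam hα
    rw [map_smul, D.lam_e, h2, smul_eq_mul, mul_one] at h3
    rw [h3, zero_smul] at hα
    exact hw₀ hα.symm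
  · intro u hu
    obtain ⟨s, t, rfl⟩ := Submodule.mem_span_pair.mp hu
    rw [add_comm]
    have h1' : P.Φ p p (t • w₀) = 0 := by rw [P.smul_right, h1, mul_zero]
    rw [D.cone h1', P.F_smul, hF, mul_zero]

end Converse

end Groth.Agent.Lib.Helper27Cubic
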