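import Mathlib
import Groth.Agent.Lib.Helper27Cubic9

set_option autoImplicit false

namespace Groth.Agent.Lib.Helper27Cubic

local notation "V4" => (Fin 4 → ℂ)

section Converse2

variable {P : Polar V4} {p : V4}

open Polynomial in
/-- The converse: the data of an Eckardt involution forces three lines through `p`. -/
lemma isEckardt_of_eckData (hsm : P.Smooth) (hp : p ≠ 0) (D : EckData P p) : IsEckardt P p := by
  set ℓ : V4 →ₗ[ℂ] ℂ := P.lin p p with hℓ
  obtain ⟨n₀, hn₀⟩ := hsm p hp D.hFe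
  have hℓn : ℓ ((P.Φ p p n₀)⁻¹ • n₀) = 1 := by
    rw [hℓ, Polar.lin_apply, P.smul_right, inv_mul_cancel₀ hn₀]
  have hℓp : ℓ p = 0 := D.hFe
  set W : Submodule ℂ V4 := LinearMap.ker ℓ ⊓ LinearMap.ker D.lam with hW
  have hWdim : Module.finrank ℂ ↥W = 2 := finrank_inf_ker ℓ D.lam _ p hℓn hℓp D.lam_e
  have hmemW : ∀ w, w ∈ W ↔ P.Φ p p w = 0 ∧ D.lam w = 0 := by
    intro w
    rw [hW, Submodule.mem_inf, LinearMap.mem_ker, LinearMap.mem_ker, hℓ, Polar.lin_apply]
  -- the cubic does not vanish identically on `W`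
  have hne : ∃ w₂ ∈ W, P.F w₂ ≠ 0 := by
    by_contra h
    push Not at h
    have hΦ := P.Φ_eq_zero_of_F_eq_zero W h
    have hpos : 0 < Module.finrank ℂ ↥W := by omega
    obtain ⟨⟨w₀, hw₀W⟩, hw₀⟩ := Module.finrank_pos_iff_exists_ne_zero.mp hpos
    have hw₀' : w₀ ≠ 0 := fun h0 => hw₀ (Subtype.ext h0)
    obtain ⟨h1, h2⟩ := (hmemW w₀).mp hw₀W
    exact D.no_double hsm hp hw₀' h1 h2 (h w₀ hw₀W)
      (fun w a b => hΦ w₀ hw₀W w₀ hw₀W w ((hmemW w).mpr ⟨a, b⟩))
  obtain ⟨w₂, hw₂W, hFw₂⟩ := hne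
  have hw₂0 : w₂ ≠ 0 := by
    rintro rfl
    exact hFw₂ P.F_zero
  obtain ⟨w₁, hw₁W, hw₁⟩ := exists_notMem_span_singleton W hWdim w₂
  have hspan := eq_span_pair W hWdim hw₂0 hw₂W hw₁W hw₁
  have hWmem : ∀ r : ℂ, w₁ + r • w₂ ∈ W := fun r => W.add_mem hw₁W (W.smul_mem _ hw₂W)
  have hne0 : ∀ r : ℂ, w₁ + r • w₂ ≠ 0 := by
    intro r h
    have := indep_of_notMem hw₂0 hw₁ r 1 (by rw [one_smul, add_comm]; exact h)
    exact one_ne_zero this.2
  -- the cubic polynomial
  set g : ℂ[X] := C (P.F w₂) * X ^ 3 + C (3 * P.Φ w₁ w₂ w₂) * X ^ 2 + C (3 * P.Φ w₁ w₁ w₂) * X +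
    C (P.F w₁) with hg
  have hg_eval : ∀ t, g.eval t = P.F (w₁ + t • w₂) := by
    intro t
    rw [P.F_add_smul, hg]
    simp only [eval_add, eval_mul, eval_C, eval_pow, eval_X]
    ring
  have hg_deriv : ∀ t, (derivative g).eval t = 3 * P.Φ (w₁ + t • w₂) (w₁ + t • w₂) w₂ := by
    intro t
    rw [hg]
    simp only [derivative_add, derivative_mul, derivative_C, derivative_X_pow, derivative_X,
      eval_add, eval_mul, eval_C, eval_pow, eval_X, P.add_left, P.add_mid, P.smul_left, P.smul_mid]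
    have e1 : P.Φ w₂ w₁ w₂ = P.Φ w₁ w₂ w₂ := P.swap12 w₂ w₁ w₂
    have e2 : P.Φ w₂ w₂ w₂ = P.F w₂ := rfl
    rw [e1, e2]
    simp
    ring
  have hdeg : g.natDegree = 3 := natDegree_cubic hFw₂
  have hg0 : g ≠ 0 := by
    intro h
    rw [h] at hdeg
    simp at hdeg
  have hcard : Multiset.card g.roots = 3 := by
    rw [← hdeg]
    exact splits_iff_card_roots.mp (IsAlgClosed.splits g)
  have hnodup : g.roots.Nodup := by
    rw [Multiset.nodup_iff_count_le_one]
    intro r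
    by_contra hcount
    push Not at hcount
    rw [count_roots] at hcount
    obtain ⟨hr1, hr2⟩ := (one_lt_rootMultiplicity_iff_isRoot hg0).mp hcount
    have hF0 : P.F (w₁ + r • w₂) = 0 := by rw [← hg_eval]; exact hr1
    have hd0 : P.Φ (w₁ + r • w₂) (w₁ + r • w₂) w₂ = 0 := by
      have : (derivative g).eval r = 0 := hr2
      rw [hg_deriv] at this
      linear_combination (1/3 : ℂ) * this
    obtain ⟨h1, h2⟩ := (hmemW _).mp (hWmem r)
    refine D.no_double hsm hp (hne0 r) h1 h2 hF0 ?_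
    intro w a b
    have hwW : w ∈ W := (hmemW w).mpr ⟨a, b⟩
    rw [← hspan] at hwW
    obtain ⟨α, β, rfl⟩ := Submodule.mem_span_pair.mp hwW
    have : α • w₂ + β • w₁ = (α - β * r) • w₂ + β • (w₁ + r • w₂) := by module
    rw [this, P.add_right, P.smul_right, P.smul_right, hd0]
    have e3 : P.Φ (w₁ + r • w₂) (w₁ + r • w₂) (w₁ + r • w₂) = 0 := hF0
    rw [e3]; ring
  have h3 : g.roots.toFinset.card = 3 := by
    rw [Multiset.toFinset_card_of_nodup hnodup, hcard]
  obtain ⟨r₁, r₂, r₃, h12, h13, h23, hset⟩ := Finset.card_eq_three.mp h3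
  have hroot : ∀ r ∈ ({r₁, r₂, r₃} : Finset ℂ), P.F (w₁ + r • w₂) = 0 := by
    intro r hr
    rw [← hset, Multiset.mem_toFinset, mem_roots hg0] at hr
    rw [← hg_eval]
    exact hr
  set r : Fin 3 → ℂ := ![r₁, r₂, r₃] with hr
  have hrinj : Function.Injective r := by
    intro i j hij
    fin_cases i <;> fin_cases j <;> simp [hr] at hij ⊢ <;> first | exact absurd hij ‹_› | exact absurd hij.symm ‹_›
  have hrroot : ∀ i, P.F (w₁ + r i • w₂) = 0 := by
    intro i
    apply hroot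
    fin_cases i <;> simp [hr]
  refine ⟨fun i => Submodule.span ℂ {p, w₁ + r i • w₂}, ?_, ?_⟩
  · intro i j hij
    apply hrinj
    have hmem : w₁ + r j • w₂ ∈ Submodule.span ℂ ({p, w₁ + r i • w₂} : Set V4) := by
      have hij' : Submodule.span ℂ ({p, w₁ + r i • w₂} : Set V4) =
        Submodule.span ℂ ({p, w₁ + r j • w₂} : Set V4) := hij
      rw [hij']
      exact Submodule.subset_span (by simp)
    obtain ⟨α, β, hαβ⟩ := Submodule.mem_span_pair.mp hmem
    obtain ⟨-, hj2⟩ := (hmemW _).mp (hWmem (r j))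
    obtain ⟨-, hi2⟩ := (hmemW _).mp (hWmem (r i))
    have h4 := congrArg D.lam hαβ
    rw [map_add, map_smul, map_smul, D.lam_e, hi2, hj2, smul_eq_mul, smul_eq_mul, mul_one,
      mul_zero, add_zero] at h4
    rw [h4, zero_smul, zero_add] at hαβ
    have := indep_of_notMem hw₂0 hw₁ (β * r i - r j) (β - 1) (by
      rw [sub_smul, sub_smul, mul_smul, one_smul]
      rw [smul_add] at hαβ
      rw [← sub_eq_zero] at hαβ
      rw [← hαβ]; abel)
    have hβ : β = 1 := by linear_combination this.2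
    have := this.1
    rw [hβ] at this
    linear_combination this
  · intro i
    obtain ⟨h1, h2⟩ := (hmemW _).mp (hWmem (r i))
    exact D.line hp (hne0 (r i)) h1 h2 (hrroot i)

end Converse2

end Groth.Agent.Lib.Helper27Cubic
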