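import Mathlib

/-!
# `A[X_ij]/(det)` is faithfully flat over `A`
-/

namespace Groth.Agent.Lib.Helper27DetFlat

open MvPolynomial TensorProduct

variable (n : ℕ)

/-- the generic determinant -/
noncomputable abbrev D (A : Type*) [CommRing A] : MvPolynomial (Fin n × Fin n) A :=
  (Matrix.mvPolynomialX (Fin n) (Fin n) A).det

theorem map_D {A B : Type*} [CommRing A] [CommRing B] (φ : A →+* B) :
    MvPolynomial.map φ (D n A) = D n B := by
  unfold D
  rw [RingHom.map_det]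
  congr 1
  refine Matrix.ext (fun i j => ?_)
  simp [Matrix.mvPolynomialX]

theorem prime_dvd (p : ℕ) (hp : p.Prime) (h : MvPolynomial (Fin n × Fin n) ℤ)
    (hd : C (p : ℤ) ∣ D n ℤ * h) : C (p : ℤ) ∣ h := by
  have := Fact.mk hp
  rw [C_dvd_iff_zmod] at hd ⊢
  rw [map_mul, map_D] at hd
  rcases mul_eq_zero.mp hd with h0 | h0
  · exact absurd h0 (Matrix.det_mvPolynomialX_ne_zero (Fin n) (ZMod p))
  · exact h0

theorem torsion_free_aux (m : ℤ) : m ≠ 0 → ∀ q h : MvPolynomial (Fin n × Fin n) ℤ,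
    C m * q = D n ℤ * h → ∃ h', q = D n ℤ * h' := by
  induction m using UniqueFactorizationMonoid.induction_on_prime with
  | h₁ => intro h; exact absurd rfl h
  | h₂ u hu =>
    intro _ q h hq
    obtain ⟨v, rfl⟩ := hu
    refine ⟨C ((v⁻¹ : ℤˣ) : ℤ) * h, ?_⟩
    have : q = C ((v⁻¹ : ℤˣ) : ℤ) * (C (v : ℤ) * q) := by
      rw [← mul_assoc, ← C_mul, Units.inv_mul, C_1, one_mul]
    rw [this, hq]
    ring
  | h₃ a p ha hp ih =>
    intro _ q h hq
    have hp' : (p.natAbs).Prime := Int.prime_iff_natAbs_prime.mp hp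
    have hpdvd : C ((p.natAbs : ℕ) : ℤ) ∣ D n ℤ * h := by
      have h1 : C p ∣ D n ℤ * h := ⟨C a * q, by rw [← hq, C_mul]; ring⟩
      have h2 : (C ((p.natAbs : ℕ) : ℤ) : MvPolynomial (Fin n × Fin n) ℤ) ∣ C p :=
        (map_dvd C (Int.natAbs_dvd.mpr (dvd_refl p)))
      exact dvd_trans h2 h1
    obtain ⟨h', hh'⟩ := prime_dvd n _ hp' h hpdvd
    have h3 : (C ((p.natAbs : ℕ) : ℤ) : MvPolynomial (Fin n × Fin n) ℤ) = C p * C ((Int.sign p : ℤ)) := by
      rw [← C_mul]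
      congr 1
      rw [mul_comm]
      exact (Int.sign_mul_self_eq_natAbs p).symm
    have hp0 : (C p : MvPolynomial (Fin n × Fin n) ℤ) ≠ 0 := by
      rw [Ne, C_eq_zero]
      exact hp.ne_zero
    have h4 : C a * q = D n ℤ * (C (Int.sign p) * h') := by
      apply mul_left_cancel₀ hp0
      rw [← mul_assoc, ← C_mul, hq, hh', h3]
      ring
    exact ih ha q _ h4

theorem torsion_eq_bot :
    Submodule.torsion ℤ (MvPolynomial (Fin n × Fin n) ℤ ⧸ Ideal.span {D n ℤ}) = ⊥ := by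
  rw [eq_bot_iff]
  intro x hx
  rw [Submodule.mem_torsion_iff] at hx
  obtain ⟨a, ha⟩ := hx
  obtain ⟨q, rfl⟩ := Ideal.Quotient.mk_surjective x
  rw [Submodule.mem_bot]
  have ha0 : (a : ℤ) ≠ 0 := nonZeroDivisors.coe_ne_zero a
  have h1 : (a : ℤ) • (Ideal.Quotient.mk (Ideal.span {D n ℤ}) q) =
      Ideal.Quotient.mk (Ideal.span {D n ℤ}) (C (a : ℤ) * q) := by
    rw [← Ideal.Quotient.mk_eq_mk, ← Submodule.Quotient.mk_smul, Ideal.Quotient.mk_eq_mk,
      MvPolynomial.C_mul']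
  have h2 : (a : ℤ) • (Ideal.Quotient.mk (Ideal.span {D n ℤ}) q) = 0 := ha
  rw [h1, Ideal.Quotient.eq_zero_iff_mem, Ideal.mem_span_singleton] at h2
  obtain ⟨h, hh⟩ := h2
  obtain ⟨h', hh'⟩ := torsion_free_aux n a ha0 q h hh
  rw [Ideal.Quotient.eq_zero_iff_mem, Ideal.mem_span_singleton]
  exact ⟨h', hh'⟩

instance flat_int : Module.Flat ℤ (MvPolynomial (Fin n × Fin n) ℤ ⧸ Ideal.span {D n ℤ}) :=
  Module.Flat.flat_iff_torsion_eq_bot_of_isBezout.mpr (torsion_eq_bot n)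

/-- the retraction `X ↦ 0` -/
noncomputable def eps (hn : 0 < n) :
    (MvPolynomial (Fin n × Fin n) ℤ ⧸ Ideal.span {D n ℤ}) →ₐ[ℤ] ℤ :=
  Ideal.Quotient.liftₐ (Ideal.span {D n ℤ}) (MvPolynomial.aeval (fun _ => (0 : ℤ))) (by
    intro a ha
    rw [Ideal.mem_span_singleton] at ha
    obtain ⟨b, rfl⟩ := ha
    rw [map_mul]
    have : MvPolynomial.aeval (fun _ : Fin n × Fin n => (0 : ℤ)) (D n ℤ) = 0 := by
      unfold D
      rw [AlgHom.map_det]
      have : Nonempty (Fin n) := ⟨⟨0, hn⟩⟩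
      have h0 : (MvPolynomial.aeval (fun _ : Fin n × Fin n => (0 : ℤ))).mapMatrix
          (Matrix.mvPolynomialX (Fin n) (Fin n) ℤ) = 0 := by
        refine Matrix.ext (fun i j => ?_)
        simp [Matrix.mvPolynomialX]
      rw [h0, Matrix.det_zero]
    rw [this, zero_mul])

theorem ff_int (hn : 0 < n) :
    Module.FaithfullyFlat ℤ (MvPolynomial (Fin n × Fin n) ℤ ⧸ Ideal.span {D n ℤ}) := by
  rw [Module.FaithfullyFlat.iff_flat_and_ideal_smul_eq_top]
  refine ⟨inferInstance, fun I hI => ?_⟩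
  rw [Ideal.eq_top_iff_one]
  have h1 : (1 : MvPolynomial (Fin n × Fin n) ℤ ⧸ Ideal.span {D n ℤ}) ∈
      (I • ⊤ : Submodule ℤ (MvPolynomial (Fin n × Fin n) ℤ ⧸ Ideal.span {D n ℤ})) := by
    rw [hI]
    trivial
  have key : ∀ x ∈ (I • ⊤ : Submodule ℤ (MvPolynomial (Fin n × Fin n) ℤ ⧸ Ideal.span {D n ℤ})),
      eps n hn x ∈ I := by
    intro x hx
    refine Submodule.smul_induction_on
      (p := fun x : MvPolynomial (Fin n × Fin n) ℤ ⧸ Ideal.span {D n ℤ} => eps n hn x ∈ I) hx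
      (fun a ha y _ => ?_) (fun y z hy hz => ?_)
    · show eps n hn (a • y) ∈ I
      rw [map_smul, smul_eq_mul]
      exact I.mul_mem_right _ ha
    · show eps n hn (y + z) ∈ I
      rw [map_add]
      exact I.add_mem hy hz
  simpa using key 1 h1

theorem main (A : Type*) [CommRing A] (hn : 0 < n) :
    Module.FaithfullyFlat A (MvPolynomial (Fin n × Fin n) A ⧸ Ideal.span {D n A}) := by
  have := ff_int n hn
  let I : Ideal (MvPolynomial (Fin n × Fin n) ℤ) := Ideal.span {D n ℤ}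
  let e1 := Algebra.TensorProduct.tensorQuotientEquiv (R := ℤ) A (MvPolynomial (Fin n × Fin n) ℤ) A I
  have hIJ : Ideal.span {D n A} = (I.map Algebra.TensorProduct.includeRight).map
      ((MvPolynomial.algebraTensorAlgEquiv ℤ A :
        A ⊗[ℤ] MvPolynomial (Fin n × Fin n) ℤ ≃ₐ[A] MvPolynomial (Fin n × Fin n) A) :
        A ⊗[ℤ] MvPolynomial (Fin n × Fin n) ℤ →+* MvPolynomial (Fin n × Fin n) A) := by
    rw [Ideal.map_span, Ideal.map_span, Set.image_singleton, Set.image_singleton]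
    congr 2
    simp [algebraTensorAlgEquiv_tmul, map_D]
  let e2 := Ideal.quotientEquivAlg _ _ (MvPolynomial.algebraTensorAlgEquiv ℤ A) hIJ
  exact Module.FaithfullyFlat.of_linearEquiv A
    (A ⊗[ℤ] (MvPolynomial (Fin n × Fin n) ℤ ⧸ I)) (e1.trans e2).symm.toLinearEquiv

end Groth.Agent.Lib.Helper27DetFlat
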