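import Groth.Agent.Lib.Helper27GlueAbs

/-! Complements to `Helper27GlueAbs`: the cokernel criterion and the glueing isomorphism with its
compatibilities (helper27). -/
set_option autoImplicit false
universe v v' u u'
open CategoryTheory CategoryTheory.Limits

namespace Groth.Agent.Lib.Helper27GlueAbs2

open Groth.Agent.Lib.Helper27GlueAbs

variable {C : Type u} [Category.{v} C] [Abelian C] {D : Type u'} [Category.{v'} D] [Abelian D]

/-- if `α : F ⟶ P` is an epimorphism with kernel `ι`, and the quotients `ηF`, `ηP` are compatible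
via `β`, then `β` is a cokernel of `ι ≫ ηF` as soon as the maps out of `P` which factor through
`ηF` after `α` factor through `ηP`. -/
theorem isColimit_cokernel_of_fac {F P QF QP N : D} (α : F ⟶ P) [Epi α] (ι : N ⟶ F)
    (w : ι ≫ α = 0) (hι : IsLimit (KernelFork.ofι ι w)) (ηF : F ⟶ QF) [Epi ηF] (ηP : P ⟶ QP)
    [Epi ηP] (β : QF ⟶ QP) (comm : α ≫ ηP = ηF ≫ β)
    (H : ∀ {T : D} (g' : P ⟶ T) (g : QF ⟶ T), α ≫ g' = ηF ≫ g → ∃ h : QP ⟶ T, ηP ≫ h = g') :
    ∃ w' : (ι ≫ ηF) ≫ β = 0, Nonempty (IsColimit (CokernelCofork.ofπ β w')) := by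
  have w' : (ι ≫ ηF) ≫ β = 0 := by
    rw [Category.assoc, ← comm, ← Category.assoc, w, zero_comp]
  have hα : IsColimit (CokernelCofork.ofπ α w) :=
    Abelian.epiIsCokernelOfKernel (KernelFork.ofι ι w) hι
  haveI : Epi β := by
    haveI : Epi (ηF ≫ β) := by rw [← comm]; infer_instance
    exact epi_of_epi ηF β
  have key : ∀ {T : D} (g : QF ⟶ T), (ι ≫ ηF) ≫ g = 0 → ∃ h : QP ⟶ T, β ≫ h = g := by
    intro T g hg
    have h1 : ι ≫ ηF ≫ g = 0 := by rw [← Category.assoc]; exact hg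
    obtain ⟨g', hg'⟩ := CokernelCofork.IsColimit.desc' hα (ηF ≫ g) h1
    have hg'' : α ≫ g' = ηF ≫ g := hg'
    obtain ⟨h, hh⟩ := H g' g hg''
    refine ⟨h, ?_⟩
    rw [← cancel_epi ηF, ← Category.assoc, ← comm, Category.assoc, hh, hg'']
  refine ⟨w', ⟨CokernelCofork.IsColimit.ofπ β w' (fun g hg => (key g hg).choose)
    (fun g hg => (key g hg).choose_spec) (fun g hg b hb => ?_)⟩⟩
  rw [← cancel_epi β, hb, (key g hg).choose_spec]

/-- the glueing isomorphism, with its compatibilities. -/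
theorem exists_iso_of_glue (c : C ⥤ D) [c.Additive] [PreservesFiniteLimits c]
    {F QF : D} {H' E QH : C} (α : F ⟶ c.obj H') [Epi α] (ηH : H' ⟶ QH) (φ : E ⟶ QH)
    (ηF : F ⟶ QF) (ε : c.obj E ≅ QF) (comm : α ≫ c.map ηH = ηF ≫ ε.inv ≫ c.map φ)
    {N : D} (ι : N ⟶ F) (w : ι ≫ α = 0) (hι : IsLimit (KernelFork.ofι ι w)) [Mono (ι ≫ ηF)]
    (w' : (ι ≫ ηF) ≫ ε.inv ≫ c.map φ = 0)
    (hcok : IsColimit (CokernelCofork.ofπ (ε.inv ≫ c.map φ) w')) :
    ∃ e : c.obj (pullback ηH φ) ≅ F, e.hom ≫ α = c.map (pullback.fst ηH φ) ∧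
      e.hom ≫ ηF = c.map (pullback.snd ηH φ) ≫ ε.hom := by
  have hpb : IsPullback α ηF (c.map ηH) (ε.inv ≫ c.map φ) :=
    isPullback_of_mono_kernel α ηF (c.map ηH) (ε.inv ≫ c.map φ) comm ι w hι w' hcok
  have h1 : IsPullback (c.map (pullback.fst ηH φ)) (c.map (pullback.snd ηH φ)) (c.map ηH)
      (c.map φ) := (IsPullback.of_hasPullback ηH φ).map c
  have h2 : IsPullback (c.map (pullback.fst ηH φ)) (c.map (pullback.snd ηH φ) ≫ ε.hom)
      (c.map ηH) (ε.inv ≫ c.map φ) := by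
    refine IsPullback.of_iso h1 (Iso.refl _) (Iso.refl _) ε (Iso.refl _) ?_ ?_ ?_ ?_
    · simp
    · simp
    · simp
    · simp
  exact ⟨h2.isoIsPullback _ _ hpb, h2.isoIsPullback_hom_fst _ _ hpb,
    h2.isoIsPullback_hom_snd _ _ hpb⟩

end Groth.Agent.Lib.Helper27GlueAbs2
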