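import Groth.Agent.Lib.Helper27EasyLeft
import Groth.Agent.Lib.Helper27CplD

/-! Grothendieck's existence theorem, the easy case on the left, in the category of adic
Noetherian systems of coherent modules (helper27). -/
set_option autoImplicit false
set_option backward.isDefEq.respectTransparency false
set_option backward.isDefEq.respectTransparency.types false
universe w v u
open CategoryTheory CategoryTheory.Limits AlgebraicGeometry Opposite

namespace Groth.Agent.Lib.Helper27EasyLeft2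

open Groth.Agent.Lib.Helper17.FlatDev Groth.Agent.Lib.Helper27ARCohA
  Groth.Agent.Lib.Helper27ARCohB Groth.Agent.Lib.Helper27ARCohC Groth.Agent.Lib.Helper27NModel
  Groth.Agent.Lib.Helper27ARCohD Groth.Agent.Lib.Helper27ComplMap
  Groth.Agent.Lib.Helper17.ARSys1 Groth.Agent.Lib.Helper17.ARSys10
  Groth.Agent.Lib.Helper17.ARSys23 Groth.Agent.Lib.Helper17.ARSys24
  Groth.Agent.Lib.Helper27CplA Groth.Agent.Lib.Helper27CplB Groth.Agent.Lib.Helper27CplC
  Groth.Agent.Lib.Helper27GlueAbs Groth.Agent.Lib.Helper27GlueAbs2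
  Groth.Agent.Lib.Helper27EasyLeft Groth.Agent.Lib.Helper27CplD

attribute [local instance] Groth.Agent.Lib.Helper17.ARSys26.abelian

variable {A : Type u} [CommRing A] {X : Scheme.{u}} [X.Over (Spec (CommRingCat.of A))]
  [IsNoetherian X] (I : Ideal A) {R : Type w} [CommRing R] [IsNoetherianRing R]
  [Linear R (CohCat X)] (J : Ideal R) (hc : Compat (C := CohCat X) I J)

/-- the easy case on the left. -/
theorem easyLeft_core (G : CohCat X) (F : Dcat (CohCat X) J) (α : F ⟶ cObj I J hc G) (t : ℕ)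
    (hQk : ∀ n : ℕ, ARSys.KilledBy (J ^ (t + 1)) ((cokerObj J α).obj.obj (op n)))
    (hNk' : ∀ (N : Dcat (CohCat X) J) (ι : N ⟶ F), Mono ι → ι ≫ α = 0 →
      ∀ n : ℕ, ARSys.KilledBy (J ^ (t + 1)) (N.obj.obj (op n))) :
    ∃ (F' : CohCat X) (a : F' ⟶ G) (β : (cFun I J hc).obj F' ≅ F),
      β.hom ≫ α = (cFun I J hc).map a ∧
      (∃ s : ℕ, ARSys.KilledBy (J ^ (s + 1)) (kernel a) ∧
        ARSys.KilledBy (J ^ (s + 1)) (cokernel a)) ∧
      ∀ (G₀ : CohCat X) (u : G₀ ⟶ G) (u' : (cFun I J hc).obj G₀ ⟶ F),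
        u' ≫ α = (cFun I J hc).map u →
        ∃ a₀ : G₀ ⟶ F', (cFun I J hc).map a₀ ≫ β.hom = u' ∧ a₀ ≫ a = u := by
  classical
  let c := cFun I J hc
  -- Step 1: the cokernel
  let Q := cokerObj J α
  let π : cObj I J hc G ⟶ Q := cokerπ J α
  -- Step 2: algebraize the cokernel
  haveI hτQ : IsIso (tau I J hc t Q) := isIso_tau I J hc t Q hQk
  let Q' : CohCat X := Q.obj.obj (op t)
  have hQ'k : ARSys.KilledBy (J ^ (t + 1)) Q' := hQk t
  let q : G ⟶ Q' := πQC (I ^ (t + 1)) G ≫ π.hom.app (op t)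
  have hcq : c.map q = π ≫ tau I J hc t Q := by
    have h1 : c.map q = c.map (πQC (I ^ (t + 1)) G) ≫ c.map (π.hom.app (op t)) := c.map_comp _ _
    rw [h1, ← tau_cObj I J hc t G]
    exact (tau_naturality I J hc t π).symm
  -- Step 3: replace `G` by the kernel of `q`
  let e₀ : cokernel α ≅ Q :=
    IsColimit.coconePointUniqueUpToIso (cokernelIsCokernel α) (cokerIsColimit J α)
  have he₀ : cokernel.π α ≫ e₀.hom = π :=
    IsColimit.comp_coconePointUniqueUpToIso_hom (cokernelIsCokernel α) (cokerIsColimit J α)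
      WalkingParallelPair.one
  let e : cokernel α ≅ c.obj Q' := e₀ ≪≫ asIso (tau I J hc t Q)
  have hq : c.map q = cokernel.π α ≫ e.hom := by
    rw [hcq, ← he₀, Category.assoc]
    rfl
  obtain ⟨α', hα'epi, hα'⟩ := exists_epi_of_cokernel c α q e hq
  haveI := hα'epi
  let H' : CohCat X := kernel q
  -- Step 4: the kernel of `α'`
  let N : Dcat (CohCat X) J := kernel α'
  let ι : N ⟶ F := kernel.ι α'
  have hια' : ι ≫ α' = 0 := kernel.condition α'
  have hια : ι ≫ α = 0 := by rw [← hα', ← Category.assoc, hια', zero_comp]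
  have hNk : ∀ n : ℕ, ARSys.KilledBy (J ^ (t + 1)) (N.obj.obj (op n)) :=
    hNk' N ι inferInstance hια
  -- Step 5: a large level
  obtain ⟨L₀, hL₀⟩ := exists_mono_app_of_mono J ι t hNk
  let L := max L₀ t
  have hLt : t ≤ L := le_max_right _ _
  haveI hιL : Mono (ι.hom.app (op L)) := hL₀ L (le_max_left _ _)
  -- Step 6: the glueing data
  let E : CohCat X := F.obj.obj (op L)
  have hEk : ARSys.KilledBy (J ^ (L + 1)) E := F.property.1.1 L
  let ηF : F ⟶ c.obj E := tau I J hc L F
  let ηH : H' ⟶ QC (I ^ (L + 1)) H' := πQC (I ^ (L + 1)) H'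
  let φ : E ⟶ QC (I ^ (L + 1)) H' := α'.hom.app (op L)
  have hcηH : c.map ηH = tau I J hc L (cObj I J hc H') := (tau_cObj I J hc L H').symm
  have comm : α' ≫ c.map ηH = ηF ≫ (Iso.refl (c.obj E)).inv ≫ c.map φ := by
    rw [hcηH, Iso.refl_inv, Category.id_comp]
    exact tau_naturality I J hc L α'
  -- Step 7: `ι ≫ ηF` is a monomorphism
  haveI hmono : Mono (ι ≫ ηF) := by
    apply mono_of_isARNull_kernel J
    set m := (ι ≫ ηF).hom with hm
    have hzero : ∀ n' : ℕ, L ≤ n' → (kernel.ι m).app (op n') = 0 := by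
      intro n' hn'
      have hk0 : (kernel.ι m).app (op n') ≫ m.app (op n') = 0 := by
        have := congrArg (fun x => x.app (op n')) (kernel.condition m)
        exact this
      have hm' : m.app (op n') = ARSys.tr N.obj hn' ≫ ι.hom.app (op L) ≫ πQC (I ^ (n' + 1)) E := by
        show ι.hom.app (op n') ≫ (tau I J hc L F).hom.app (op n') = _
        rw [tau_app_of_le I J hc L F hn', ← Category.assoc, ← tr_nat ι.hom hn', Category.assoc]
      haveI : IsIso (ARSys.tr N.obj hn') := isIso_tr_of_killed J N.obj N.property.1 t hNk hLt hn'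
      haveI : IsIso (πQC (I ^ (n' + 1)) E) :=
        isIso_πQC_of_killed I J hc (n' + 1) E (killedBy_mono_pow J (by omega) hEk)
      haveI : Mono (m.app (op n')) := by rw [hm']; infer_instance
      rw [← cancel_mono (m.app (op n')), hk0, zero_comp]
    refine ⟨L, fun n => ?_⟩
    haveI : Mono (kernel.ι m) := inferInstance
    haveI : Mono ((kernel.ι m).app (op n)) := inferInstance
    rw [← cancel_mono ((kernel.ι m).app (op n)), zero_comp]
    have h1 : ARSys.shiftMap (kernel m) L n ≫ (kernel.ι m).app (op n) =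
        (kernel.ι m).app (op (n + L)) ≫ ARSys.tr _ (Nat.le_add_right n L) :=
      tr_nat (kernel.ι m) (Nat.le_add_right n L)
    rw [h1, hzero (n + L) (Nat.le_add_left L n), zero_comp]
  -- Step 8: the cokernel of `ι ≫ ηF`
  haveI : Epi (c.map ηH) := epi_cFun_map I J hc ηH
  obtain ⟨w', ⟨hcok'⟩⟩ := isColimit_cokernel_of_fac α' ι hια' (kernelIsKernel α') ηF (c.map ηH)
    ((Iso.refl (c.obj E)).inv ≫ c.map φ) comm (by
      intro T g' g hgg
      rw [hcηH]
      refine tau_fac I J hc L (cObj I J hc H') g' (fun n a ha => ?_)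
      haveI : Epi α'.hom := epi_hom_of_epi J α'
      haveI : Epi (α'.hom.app (op n)) := inferInstance
      have h1 : α'.hom.app (op n) ≫ g'.hom.app (op n) = ηF.hom.app (op n) ≫ g.hom.app (op n) := by
        have := congrArg (fun x => x.hom.app (op n)) hgg
        exact this
      have h2 : a • g.hom.app (op n) = 0 :=
        Groth.Agent.Lib.Helper4.AR.homKilledBy_of_killedBy_src _ _
          (killedBy_cSys I J E (L + 1) hEk n) a ha
      rw [← cancel_epi (α'.hom.app (op n)), comp_zero, Linear.comp_smul, h1, ← Linear.comp_smul,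
        h2, comp_zero])
  -- Step 9: glue
  obtain ⟨β, hβ1, hβ2⟩ := exists_iso_of_glue c α' ηH φ ηF (Iso.refl (c.obj E)) comm ι hια'
    (kernelIsKernel α') w' hcok'
  let F' : CohCat X := pullback ηH φ
  let a : F' ⟶ G := pullback.fst ηH φ ≫ kernel.ι q
  refine ⟨F', a, β, ?_, ⟨max L t, ?_, ?_⟩, ?_⟩
  · rw [← hα', ← Category.assoc, hβ1]
    exact (c.map_comp _ _).symm
  · -- the kernel of `a` embeds into `E`
    haveI : Mono (kernel.ι a ≫ pullback.snd ηH φ) := by
      apply Preadditive.mono_of_cancel_zero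
      intro T x hx
      have h1 : (x ≫ kernel.ι a) ≫ pullback.fst ηH φ = 0 := by
        have h0 : (x ≫ kernel.ι a) ≫ a = 0 := by rw [Category.assoc, kernel.condition, comp_zero]
        rw [← cancel_mono (kernel.ι q), zero_comp, Category.assoc]
        exact h0
      have h2 : (x ≫ kernel.ι a) ≫ pullback.snd ηH φ = 0 := by rw [Category.assoc]; exact hx
      have h3 : x ≫ kernel.ι a = 0 := by
        apply pullback.hom_ext
        · rw [h1, zero_comp]
        · rw [h2, zero_comp]
      exact (cancel_mono (kernel.ι a)).1 (h3.trans zero_comp.symm)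
    exact Groth.Agent.Lib.Helper4.AR.killedBy_of_mono _ (kernel.ι a ≫ pullback.snd ηH φ)
      (killedBy_mono_pow J (by omega) hEk)
  · -- the cokernel of `a` embeds into `Q'`
    haveI : Epi α'.hom := epi_hom_of_epi J α'
    haveI : Epi φ := (inferInstance : Epi (α'.hom.app (op L)))
    haveI : Epi (pullback.fst ηH φ) := Abelian.epi_pullback_of_epi_g ηH φ
    have haq : a ≫ q = 0 := by rw [Category.assoc, kernel.condition, comp_zero]
    let S₁ : ShortComplex (CohCat X) := ShortComplex.mk a q haq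
    let S₂ : ShortComplex (CohCat X) := ShortComplex.mk (kernel.ι q) q (kernel.condition q)
    let ψ : S₁ ⟶ S₂ :=
      { τ₁ := pullback.fst ηH φ
        τ₂ := 𝟙 _
        τ₃ := 𝟙 _
        comm₁₂ := by simp [S₁, S₂, a]
        comm₂₃ := by simp [S₁, S₂] }
    haveI : Epi ψ.τ₁ := (inferInstance : Epi (pullback.fst ηH φ))
    haveI : IsIso ψ.τ₂ := (inferInstance : IsIso (𝟙 G))
    haveI : Mono ψ.τ₃ := (inferInstance : Mono (𝟙 Q'))
    have hS₂ : S₂.Exact := S₂.exact_of_f_is_kernel (kernelIsKernel q)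
    have hS₁ : S₁.Exact := (ShortComplex.exact_iff_of_epi_of_isIso_of_mono ψ).2 hS₂
    haveI : Mono (cokernel.desc a q haq) := (S₁.exact_iff_mono_cokernel_desc).1 hS₁
    exact Groth.Agent.Lib.Helper4.AR.killedBy_of_mono _ (cokernel.desc a q haq)
      (killedBy_mono_pow J (by omega) hQ'k)
  · -- the lifting property
    intro G₀ u ũ hu
    have hπα : α ≫ π = 0 := cokerπ_w J α
    have huq : u ≫ q = 0 := by
      apply map_injective_of_killed I J hc G₀ Q' (t + 1) (Or.inr hQ'k)
      have h1 : c.map (u ≫ q) = c.map u ≫ c.map q := c.map_comp _ _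
      rw [h1, hcq, ← hu, Category.assoc, ← Category.assoc α, hπα, zero_comp, comp_zero]
      exact (c.map_zero _ _).symm
    let u₁ : G₀ ⟶ H' := kernel.lift q u huq
    have hu₁ : u₁ ≫ kernel.ι q = u := kernel.lift_ι _ _ _
    haveI : Mono (c.map (kernel.ι q)) := inferInstance
    have hũα' : ũ ≫ α' = c.map u₁ := by
      rw [← cancel_mono (c.map (kernel.ι q)), Category.assoc, hα', hu, ← c.map_comp, hu₁]
    obtain ⟨v, hv⟩ := exists_map_of_killed I J hc G₀ E (L + 1) (Or.inr hEk) (ũ ≫ ηF)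
    have hcomm : u₁ ≫ ηH = v ≫ φ := by
      apply map_injective_of_killed I J hc G₀ (QC (I ^ (L + 1)) H') (L + 1)
        (Or.inr (isQuot_πQC' I J hc (L + 1) H').1)
      have h1 : c.map (u₁ ≫ ηH) = c.map u₁ ≫ c.map ηH := c.map_comp _ _
      have h2 : c.map (v ≫ φ) = c.map v ≫ c.map φ := c.map_comp _ _
      rw [h1, h2, ← hũα', Category.assoc, comm, hv, Iso.refl_inv, Category.id_comp, Category.assoc]
    let a₀ : G₀ ⟶ F' := pullback.lift u₁ v hcomm
    have ha₀1 : a₀ ≫ pullback.fst ηH φ = u₁ := pullback.lift_fst _ _ _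
    have ha₀2 : a₀ ≫ pullback.snd ηH φ = v := pullback.lift_snd _ _ _
    refine ⟨a₀, ?_, ?_⟩
    · have e1 : (c.map a₀ ≫ β.hom) ≫ α' = ũ ≫ α' := by
        rw [Category.assoc, hβ1, ← c.map_comp, ha₀1, hũα']
      have e2 : (c.map a₀ ≫ β.hom) ≫ ηF = ũ ≫ ηF := by
        rw [Category.assoc, hβ2, Iso.refl_hom, Category.comp_id, ← c.map_comp, ha₀2, hv]
      rw [← sub_eq_zero]
      have d1 : (c.map a₀ ≫ β.hom - ũ) ≫ α' = 0 := by rw [Preadditive.sub_comp, e1, sub_self]
      have d2 : (c.map a₀ ≫ β.hom - ũ) ≫ ηF = 0 := by rw [Preadditive.sub_comp, e2, sub_self]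
      have d3 : kernel.lift α' _ d1 ≫ ι = c.map a₀ ≫ β.hom - ũ := kernel.lift_ι _ _ _
      have d4 : kernel.lift α' _ d1 = 0 := by
        rw [← cancel_mono (ι ≫ ηF), zero_comp, ← Category.assoc, d3, d2]
      rw [← d3, d4, zero_comp]
    · show a₀ ≫ pullback.fst ηH φ ≫ kernel.ι q = u
      rw [← Category.assoc, ha₀1, hu₁]

end Groth.Agent.Lib.Helper27EasyLeft2
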