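import Groth.Agent.Lib.Helper4ARSys
import Mathlib.Algebra.Homology.ShortComplex.ExactFunctor
import Mathlib.CategoryTheory.Abelian.Refinements
import Mathlib.Algebra.Homology.ShortComplex.Abelian

/-! Torsion objects in a linear abelian category: annihilator ideals, extensions, kernels and
cokernels of composites (helper27). -/
set_option autoImplicit false
universe w v u
open CategoryTheory CategoryTheory.Limits

namespace Groth.Agent.Lib.Helper27TorsExt

variable {C : Type u} [Category.{v} C] [Preadditive C] {R : Type w} [CommRing R] [Linear R C]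

/-- the ideal of scalars killing a morphism. -/
noncomputable def annHom {M N : C} (h : M ⟶ N) : Ideal R :=
  LinearMap.ker (LinearMap.toSpanSingleton R (M ⟶ N) h)

theorem mem_annHom {M N : C} (h : M ⟶ N) (a : R) : a ∈ annHom (R := R) h ↔ a • h = 0 := by
  unfold annHom
  rw [LinearMap.mem_ker, LinearMap.toSpanSingleton_apply]

theorem killedBy_iff_le (𝔞 : Ideal R) (M : C) :
    ARSys.KilledBy 𝔞 M ↔ 𝔞 ≤ annHom (R := R) (𝟙 M) := by
  constructor
  · intro h a ha
    exact (mem_annHom _ a).2 (h a ha)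
  · intro h a ha
    exact (mem_annHom _ a).1 (h ha)

theorem homKilledBy_iff_le (𝔞 : Ideal R) {M N : C} (f : M ⟶ N) :
    ARSys.HomKilledBy 𝔞 f ↔ 𝔞 ≤ annHom (R := R) f := by
  constructor
  · intro h a ha
    exact (mem_annHom _ a).2 (h a ha)
  · intro h a ha
    exact (mem_annHom _ a).1 (h ha)

/-- an object killed by generators of an ideal is killed by the ideal. -/
theorem killedBy_span {ι : Type*} (g : ι → R) (M : C) (h : ∀ i, g i • 𝟙 M = 0) :
    ARSys.KilledBy (Ideal.span (Set.range g)) M := by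
  rw [killedBy_iff_le]
  apply Ideal.span_le.2
  rintro _ ⟨i, rfl⟩
  exact (mem_annHom _ _).2 (h i)

theorem homKilledBy_span {ι : Type*} (g : ι → R) {M N : C} (f : M ⟶ N) (h : ∀ i, g i • f = 0) :
    ARSys.HomKilledBy (Ideal.span (Set.range g)) f := by
  rw [homKilledBy_iff_le]
  apply Ideal.span_le.2
  rintro _ ⟨i, rfl⟩
  exact (mem_annHom _ _).2 (h i)

theorem killedBy_mul (𝔞 𝔟 : Ideal R) (M : C)
    (h : ∀ a ∈ 𝔞, ∀ b ∈ 𝔟, (a * b) • 𝟙 M = 0) : ARSys.KilledBy (𝔞 * 𝔟) M := by
  rw [killedBy_iff_le]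
  apply Ideal.mul_le.2
  intro a ha b hb
  exact (mem_annHom _ _).2 (h a ha b hb)

theorem killedBy_of_smul_mono {M N : C} (i : M ⟶ N) [Mono i] (a : R) (h : a • i = 0) :
    a • 𝟙 M = 0 := by
  rw [← cancel_mono i, zero_comp, Linear.smul_comp, Category.id_comp]
  exact h

theorem killedBy_of_smul_epi {M N : C} (p : M ⟶ N) [Epi p] (a : R) (h : a • p = 0) :
    a • 𝟙 N = 0 := by
  rw [← cancel_epi p, comp_zero, Linear.comp_smul, Category.comp_id]
  exact h

theorem killedBy_mono_ideal {𝔞 𝔟 : Ideal R} (h : 𝔞 ≤ 𝔟) {M : C} (hM : ARSys.KilledBy 𝔟 M) :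
    ARSys.KilledBy 𝔞 M := fun a ha => hM a (h ha)

section Abelian

variable {C : Type u} [Category.{v} C] [Abelian C] {R : Type w} [CommRing R] [Linear R C]

/-- a morphism into the source of `f` which is killed by `f` is killed by the scalars killing
the kernel of `f`. -/
theorem smul_eq_zero_of_comp_eq_zero {T M N : C} (f : M ⟶ N) (x : T ⟶ M) (hx : x ≫ f = 0)
    (a : R) (ha : a • 𝟙 (kernel f) = 0) : a • x = 0 := by
  have h1 : kernel.lift f x hx ≫ kernel.ι f = x := kernel.lift_ι _ _ _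
  have h2 : a • kernel.ι f = 0 := by
    have : (a • 𝟙 (kernel f)) ≫ kernel.ι f = a • kernel.ι f := by
      rw [Linear.smul_comp, Category.id_comp]
    rw [← this, ha, zero_comp]
  rw [← h1, ← Linear.comp_smul, h2, comp_zero]

/-- the kernel of a composite of morphisms with torsion kernels is torsion. -/
theorem killedBy_kernel_comp (𝔞 𝔟 : Ideal R) {G G₁ F₁ : C} (p : G ⟶ G₁) (m : G₁ ⟶ F₁)
    (hp : ARSys.KilledBy 𝔞 (kernel p)) (hm : ARSys.KilledBy 𝔟 (kernel m)) :
    ARSys.KilledBy (𝔞 * 𝔟) (kernel (p ≫ m)) := by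
  apply killedBy_mul
  intro a ha b hb
  apply killedBy_of_smul_mono (kernel.ι (p ≫ m))
  have h1 : (kernel.ι (p ≫ m) ≫ p) ≫ m = 0 := by rw [Category.assoc, kernel.condition]
  have h2 : b • (kernel.ι (p ≫ m) ≫ p) = 0 :=
    smul_eq_zero_of_comp_eq_zero m _ h1 b (hm b hb)
  have h3 : (b • kernel.ι (p ≫ m)) ≫ p = 0 := by rw [Linear.smul_comp]; exact h2
  have h4 : a • (b • kernel.ι (p ≫ m)) = 0 :=
    smul_eq_zero_of_comp_eq_zero p _ h3 a (hp a ha)
  rw [mul_smul]
  exact h4

/-- the kernel of the first of two composable morphisms is torsion if the kernel of the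
composite is. -/
theorem killedBy_kernel_of_comp (𝔠 : Ideal R) {G F' F₁ : C} (a : G ⟶ F') (a' : F' ⟶ F₁)
    (h : ARSys.KilledBy 𝔠 (kernel (a ≫ a'))) : ARSys.KilledBy 𝔠 (kernel a) := by
  have w : kernel.ι a ≫ a ≫ a' = 0 := by rw [← Category.assoc, kernel.condition, zero_comp]
  haveI : Mono (kernel.lift (a ≫ a') (kernel.ι a) w) := by
    apply mono_of_mono_fac (kernel.lift_ι _ _ _)
  exact Groth.Agent.Lib.Helper4.AR.killedBy_of_mono _ (kernel.lift (a ≫ a') (kernel.ι a) w) h

/-- the cokernel of the first of two composable morphisms is torsion if the kernel of the second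
and the cokernel of the composite are. -/
theorem killedBy_cokernel_of_comp (𝔞 𝔟 : Ideal R) {G F' F₁ : C} (a : G ⟶ F') (a' : F' ⟶ F₁)
    (hk : ARSys.KilledBy 𝔞 (kernel a')) (hc : ARSys.KilledBy 𝔟 (cokernel (a ≫ a'))) :
    ARSys.KilledBy (𝔞 * 𝔟) (cokernel a) := by
  apply killedBy_mul
  intro a₁ ha₁ b hb
  apply killedBy_of_smul_epi (cokernel.π a)
  -- the exact sequence `G ⟶ F₁ ⟶ coker (a ≫ a')`
  have hS : (ShortComplex.mk (a ≫ a') (cokernel.π (a ≫ a')) (cokernel.condition _)).Exact :=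
    ShortComplex.exact_of_g_is_cokernel _ (cokernelIsCokernel (a ≫ a'))
  have hx : (b • a') ≫ cokernel.π (a ≫ a') = 0 := by
    have : (b • a') ≫ cokernel.π (a ≫ a') = a' ≫ cokernel.π (a ≫ a') ≫ (b • 𝟙 _) := by
      rw [Linear.smul_comp, Linear.comp_smul, Linear.comp_smul, Category.comp_id]
    rw [this, hc b hb, comp_zero, comp_zero]
  obtain ⟨A', π, hπ, x₁, hx₁⟩ := hS.exact_up_to_refinements (b • a') hx
  haveI := hπ
  have hx₁' : π ≫ (b • a') = x₁ ≫ a ≫ a' := hx₁
  have h1 : (b • π - x₁ ≫ a) ≫ a' = 0 := by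
    rw [Preadditive.sub_comp, Linear.smul_comp, ← Linear.comp_smul, hx₁', Category.assoc, sub_self]
  have h2 : a₁ • (b • π - x₁ ≫ a) = 0 :=
    smul_eq_zero_of_comp_eq_zero a' _ h1 a₁ (hk a₁ ha₁)
  have h3 : (a₁ * b) • π = (a₁ • x₁) ≫ a := by
    rw [smul_sub, sub_eq_zero] at h2
    rw [mul_smul, h2, Linear.smul_comp]
  rw [← cancel_epi π, comp_zero, Linear.comp_smul, ← Linear.smul_comp, h3, Category.assoc,
    cokernel.condition, comp_zero]

end Abelian

end Groth.Agent.Lib.Helper27TorsExt
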