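import Groth.Agent.Lib.Helper27EasyLeft2
import Groth.Agent.Lib.Helper27TorsExt

/-! Grothendieck's existence theorem, the easy case on the right: the coimage lemma (helper27). -/
set_option autoImplicit false
set_option backward.isDefEq.respectTransparency false
set_option backward.isDefEq.respectTransparency.types false
universe w v u
open CategoryTheory CategoryTheory.Limits AlgebraicGeometry Opposite

namespace Groth.Agent.Lib.Helper27EasyRightA

open Groth.Agent.Lib.Helper17.FlatDev Groth.Agent.Lib.Helper27ARCohA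
  Groth.Agent.Lib.Helper27ARCohB Groth.Agent.Lib.Helper27ARCohC Groth.Agent.Lib.Helper27NModel
  Groth.Agent.Lib.Helper27ARCohD Groth.Agent.Lib.Helper27ComplMap
  Groth.Agent.Lib.Helper17.ARSys1 Groth.Agent.Lib.Helper17.ARSys10
  Groth.Agent.Lib.Helper17.ARSys23 Groth.Agent.Lib.Helper17.ARSys24
  Groth.Agent.Lib.Helper27CplA Groth.Agent.Lib.Helper27CplB Groth.Agent.Lib.Helper27CplC
  Groth.Agent.Lib.Helper27GlueAbs Groth.Agent.Lib.Helper27GlueAbs2
  Groth.Agent.Lib.Helper27EasyLeft Groth.Agent.Lib.Helper27CplD Groth.Agent.Lib.Helper27TorsExt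

attribute [local instance] Groth.Agent.Lib.Helper17.ARSys26.abelian

variable {A : Type u} [CommRing A] {X : Scheme.{u}} [X.Over (Spec (CommRingCat.of A))]
  [IsNoetherian X] (I : Ideal A) {R : Type w} [CommRing R] [IsNoetherianRing R]
  [Linear R (CohCat X)] (J : Ideal R) (hc : Compat (C := CohCat X) I J)

/-- a subsystem on which a scalar endomorphism of the ambient system vanishes is killed. -/
theorem smulD_eq_zero_of_mono {N Y : Dcat (CohCat X) J} (ι : N ⟶ Y) [Mono ι] (a : R)
    (h : ι ≫ smulD J a Y = 0) : smulD J a N = 0 := by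
  rw [← cancel_mono ι, zero_comp, smulD_comp]
  exact h

/-- the terms of a system killed by generators of an ideal are killed by the ideal. -/
theorem levels_killed_of_smulD {k : ℕ} (g : Fin k → R) (𝔞 : Ideal R)
    (h𝔞 : Submodule.span R (Set.range g) = 𝔞) (Y : Dcat (CohCat X) J)
    (h : ∀ i, smulD J (g i) Y = 0) (n : ℕ) : ARSys.KilledBy 𝔞 (Y.obj.obj (op n)) := by
  rw [← h𝔞]
  exact killedBy_span g _ (fun i => (smulD_eq_zero_iff J (g i) Y).1 (h i) n)

/-- the terms of a subsystem killed by a morphism are killed by the scalars killing the termwise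
kernels of that morphism. -/
theorem levels_killed_of_mono {N F₁ F₂ : Dcat (CohCat X) J} (α : F₁ ⟶ F₂) (ι : N ⟶ F₁) [Mono ι]
    (hια : ι ≫ α = 0) (𝔞 : Ideal R)
    (hker : ∀ n : ℕ, ∀ a ∈ 𝔞, a • (kernel.ι α.hom).app (op n) = 0) (n : ℕ) :
    ARSys.KilledBy 𝔞 (N.obj.obj (op n)) := by
  intro a ha
  refine smul_id_eq_zero_of_mono J ι a (fun m => ?_) n
  have h0 : ι.hom ≫ α.hom = 0 := hom_comp_eq_zero J ι α hια
  have h1 : kernel.lift α.hom ι.hom h0 ≫ kernel.ι α.hom = ι.hom := kernel.lift_ι _ _ _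
  have h2 : ι.hom.app (op m) = (kernel.lift α.hom ι.hom h0).app (op m) ≫
      (kernel.ι α.hom).app (op m) := by
    rw [← NatTrans.comp_app, h1]
  have h3 : a • ι.hom.app (op m) = a • ((kernel.lift α.hom ι.hom h0).app (op m) ≫
      (kernel.ι α.hom).app (op m)) := congrArg (fun x => a • x) h2
  have h4 : a • ((kernel.lift α.hom ι.hom h0).app (op m) ≫ (kernel.ι α.hom).app (op m)) =
      (kernel.lift α.hom ι.hom h0).app (op m) ≫ (a • (kernel.ι α.hom).app (op m)) :=
    (Linear.comp_smul _ _ _ _ _ _).symm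
  rw [h3, h4, hker m a ha, comp_zero]

/-- the coimage lemma: a morphism from the completion of a coherent module whose kernel is
torsion factors through the completion of a quotient as a monomorphism. -/
theorem exists_coimage (G : CohCat X) (F : Dcat (CohCat X) J) (α : cObj I J hc G ⟶ F) (t : ℕ)
    (hN : ∀ n : ℕ, ARSys.KilledBy (J ^ (t + 1)) ((kernel α).obj.obj (op n))) :
    ∃ (G₁ : CohCat X) (p : G ⟶ G₁) (α₁ : cObj I J hc G₁ ⟶ F), Epi p ∧ Mono α₁ ∧
      (cFun I J hc).map p ≫ α₁ = α ∧ ARSys.KilledBy (J ^ (t + 1)) (kernel p) := by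
  classical
  let c := cFun I J hc
  let N : Dcat (CohCat X) J := kernel α
  haveI : IsIso (tau I J hc t N) := isIso_tau I J hc t N hN
  let N₀ : CohCat X := N.obj.obj (op t)
  have hN₀ : ARSys.KilledBy (J ^ (t + 1)) N₀ := hN t
  obtain ⟨ν, hν⟩ := exists_map_of_killed I J hc N₀ G (t + 1) (Or.inl hN₀)
    (inv (tau I J hc t N) ≫ kernel.ι α)
  let p : G ⟶ cokernel ν := cokernel.π ν
  have w0 : c.map ν ≫ c.map p = 0 := by
    rw [← c.map_comp, cokernel.condition, c.map_zero]
  have hcok : IsColimit (CokernelCofork.ofπ (c.map p) w0) :=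
    CokernelCofork.mapIsColimit _ (cokernelIsCokernel ν) c
  have hk : kernel.ι α = tau I J hc t N ≫ c.map ν := by
    rw [hν, IsIso.hom_inv_id_assoc]
  have hcok' := isCokernelEpiComp hcok (tau I J hc t N) hk
  have w : c.map ν ≫ α = 0 := by rw [hν, Category.assoc, kernel.condition, comp_zero]
  obtain ⟨α₁, hα₁⟩ := CokernelCofork.IsColimit.desc' hcok α w
  have hα₁' : c.map p ≫ α₁ = α := hα₁
  haveI : Epi (c.map p) := epi_cFun_map I J hc p
  -- `α₁` is a monomorphism
  haveI hmono : Mono (Abelian.factorThruCoimage α) := inferInstance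
  let e := IsColimit.coconePointUniqueUpToIso hcok' (cokernelIsCokernel (kernel.ι α))
  have he : c.map p ≫ e.hom = cokernel.π (kernel.ι α) :=
    IsColimit.comp_coconePointUniqueUpToIso_hom hcok' (cokernelIsCokernel (kernel.ι α))
      WalkingParallelPair.one
  have hfac : α₁ = e.hom ≫ Abelian.factorThruCoimage α := by
    rw [← cancel_epi (c.map p), hα₁', ← Category.assoc, he]
    exact (Abelian.coimage.fac α).symm
  refine ⟨cokernel ν, p, α₁, inferInstance, ?_, hα₁', ?_⟩
  · rw [hfac]
    infer_instance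
  · exact Groth.Agent.Lib.Helper4.AR.killedBy_of_epi _ (Abelian.factorThruImage ν) hN₀

end Groth.Agent.Lib.Helper27EasyRightA
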