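import Groth.Agent.Lib.Helper27EasyRightA
import Mathlib.CategoryTheory.Limits.Preserves.Shapes.Products

/-! Grothendieck's existence theorem, the easy case on the right, in the category of adic
Noetherian systems of coherent modules (helper27). -/
set_option autoImplicit false
set_option backward.isDefEq.respectTransparency false
set_option backward.isDefEq.respectTransparency.types false
universe w v u
open CategoryTheory CategoryTheory.Limits AlgebraicGeometry Opposite

namespace Groth.Agent.Lib.Helper27EasyRightB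

open Groth.Agent.Lib.Helper17.FlatDev Groth.Agent.Lib.Helper27ARCohA
  Groth.Agent.Lib.Helper27ARCohB Groth.Agent.Lib.Helper27ARCohC Groth.Agent.Lib.Helper27NModel
  Groth.Agent.Lib.Helper27ARCohD Groth.Agent.Lib.Helper27ComplMap
  Groth.Agent.Lib.Helper17.ARSys1 Groth.Agent.Lib.Helper17.ARSys10
  Groth.Agent.Lib.Helper17.ARSys23 Groth.Agent.Lib.Helper17.ARSys24
  Groth.Agent.Lib.Helper27CplA Groth.Agent.Lib.Helper27CplB Groth.Agent.Lib.Helper27CplC
  Groth.Agent.Lib.Helper27GlueAbs Groth.Agent.Lib.Helper27GlueAbs2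
  Groth.Agent.Lib.Helper27EasyLeft Groth.Agent.Lib.Helper27CplD Groth.Agent.Lib.Helper27TorsExt
  Groth.Agent.Lib.Helper27EasyLeft2 Groth.Agent.Lib.Helper27EasyRightA

attribute [local instance] Groth.Agent.Lib.Helper17.ARSys26.abelian

variable {A : Type u} [CommRing A] {X : Scheme.{u}} [X.Over (Spec (CommRingCat.of A))]
  [IsNoetherian X] (I : Ideal A) {R : Type w} [CommRing R] [IsNoetherianRing R]
  [Linear R (CohCat X)] (J : Ideal R) (hc : Compat (C := CohCat X) I J)

/-- the easy case on the right. -/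
theorem easyRight (G : CohCat X) (F : Dcat (CohCat X) J) (α : cObj I J hc G ⟶ F) (t : ℕ)
    (hker : ∀ n : ℕ, ∀ a ∈ J ^ (t + 1), a • (kernel.ι α.hom).app (op n) = 0)
    (hcok : ∀ n : ℕ, ∀ a ∈ J ^ (t + 1), a • (cokernel.π α.hom).app (op n) = 0) :
    ∃ (F' : CohCat X) (a : G ⟶ F') (β : (cFun I J hc).obj F' ≅ F),
      (cFun I J hc).map a ≫ β.hom = α ∧
      ∃ s : ℕ, ARSys.KilledBy (J ^ (s + 1)) (kernel a) ∧
        ARSys.KilledBy (J ^ (s + 1)) (cokernel a) := by
  classical
  let c := cFun I J hc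
  -- Step 0: generators of `J ^ (t + 1)`
  obtain ⟨k, g, hg⟩ := Submodule.fg_iff_exists_fin_generating_family.1
    (IsNoetherian.noetherian (J ^ (t + 1)))
  have hgmem : ∀ i, g i ∈ J ^ (t + 1) := fun i => by
    rw [← hg]
    exact Submodule.subset_span ⟨i, rfl⟩
  have hkill : ∀ M : CohCat X, (∀ i, g i • 𝟙 M = 0) → ARSys.KilledBy (J ^ (t + 1)) M := by
    intro M h
    rw [← hg]
    exact killedBy_span g M h
  -- Step 1: the coimage of `α`
  have hN : ∀ n : ℕ, ARSys.KilledBy (J ^ (t + 1)) ((kernel α).obj.obj (op n)) :=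
    levels_killed_of_mono J α (kernel.ι α) (kernel.condition α) _ hker
  obtain ⟨G₁, p, α₁, hp, hα₁m, hpα₁, hkp⟩ := exists_coimage I J hc G F α t hN
  haveI := hp
  haveI := hα₁m
  -- Step 2: the cokernel of `α₁` is killed by the generators
  have hQ₁ : ∀ i, smulD J (g i) (cokerObj J α₁) = 0 := by
    intro i
    rw [smulD_eq_zero_iff]
    intro n
    haveI : Epi (cokernel.π α₁.hom) := inferInstance
    haveI : Epi ((cokernel.π α₁.hom).app (op n)) := inferInstance
    apply killedBy_of_smul_epi ((cokernel.π α₁.hom).app (op n))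
    have h0 : α.hom ≫ cokernel.π α₁.hom = 0 := by
      have h00 : α.hom = (c.map p).hom ≫ α₁.hom := by rw [← hpα₁]; rfl
      rw [h00, Category.assoc, cokernel.condition, comp_zero]
    have h1 : cokernel.π α.hom ≫ cokernel.desc α.hom (cokernel.π α₁.hom) h0 =
        cokernel.π α₁.hom := cokernel.π_desc _ _ _
    have h2 : (cokernel.π α₁.hom).app (op n) = (cokernel.π α.hom).app (op n) ≫
        (cokernel.desc α.hom (cokernel.π α₁.hom) h0).app (op n) := by
      rw [← NatTrans.comp_app, h1]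
    have h3 : g i • (cokernel.π α₁.hom).app (op n) = g i • ((cokernel.π α.hom).app (op n) ≫
        (cokernel.desc α.hom (cokernel.π α₁.hom) h0).app (op n)) :=
      congrArg (fun x => g i • x) h2
    have h4 : g i • ((cokernel.π α.hom).app (op n) ≫
        (cokernel.desc α.hom (cokernel.π α₁.hom) h0).app (op n)) =
        (g i • (cokernel.π α.hom).app (op n)) ≫
          (cokernel.desc α.hom (cokernel.π α₁.hom) h0).app (op n) :=
      (Linear.smul_comp _ _ _ _ _ _).symm
    rw [h3, h4, hcok n _ (hgmem i), zero_comp]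
  -- the maps `m i` with `m i ≫ α₁ = g i`
  have hker₁ : IsLimit (KernelFork.ofι α₁ (cokerπ_w J α₁)) :=
    Abelian.monoIsKernelOfCokernel (CokernelCofork.ofπ (cokerπ J α₁) (cokerπ_w J α₁))
      (cokerIsColimit J α₁)
  have hm : ∀ i, ∃ m : F ⟶ c.obj G₁, m ≫ α₁ = smulD J (g i) F := by
    intro i
    have hz : smulD J (g i) F ≫ cokerπ J α₁ = 0 := by rw [smulD_comp, hQ₁ i, comp_zero]
    exact ⟨(KernelFork.IsLimit.lift' hker₁ _ hz).1, (KernelFork.IsLimit.lift' hker₁ _ hz).2⟩
  choose m hm using hm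
  have hαm : ∀ i, α₁ ≫ m i = c.map (g i • 𝟙 G₁) := by
    intro i
    rw [← cancel_mono α₁, Category.assoc, hm, ← smulD_comp, cFun_map_smul_id]
  -- Step 3: the sum of copies of `G₁`
  haveI : HasFiniteBiproducts (CohCat X) := Abelian.hasFiniteBiproducts
  let fG : Fin k → CohCat X := fun _ => G₁
  let M : CohCat X := ⨁ fG
  have hlim : IsLimit (Fan.mk (c.obj M) (fun j => c.map (biproduct.π fG j)) :
      Fan (fun j => c.obj (fG j))) :=
    isLimitFanMkObjOfIsLimit c fG (biproduct.π fG) (biproduct.isLimit fG)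
  let mm : F ⟶ c.obj M := Fan.IsLimit.lift hlim m
  have hmm : ∀ i, mm ≫ c.map (biproduct.π fG i) = m i := fun i => Fan.IsLimit.fac hlim m i
  have hext : ∀ {T : Dcat (CohCat X) J} (x y : T ⟶ c.obj M),
      (∀ i, x ≫ c.map (biproduct.π fG i) = y ≫ c.map (biproduct.π fG i)) → x = y :=
    fun x y h => Fan.IsLimit.hom_ext hlim x y h
  -- Step 4: the diagonal map
  let μ : G₁ ⟶ M := biproduct.lift (fun i => g i • 𝟙 G₁)
  have hμ : ∀ i, μ ≫ biproduct.π fG i = g i • 𝟙 G₁ := fun i => biproduct.lift_π _ _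
  have hαmm : α₁ ≫ mm = c.map μ := by
    apply hext
    intro i
    rw [Category.assoc, hmm, hαm, ← c.map_comp, hμ]
  have hmα : ∀ i, smulD J (g i) F ≫ mm = m i ≫ c.map μ := by
    intro i
    rw [← hm, Category.assoc, hαmm]
  -- Step 5: the cokernels
  let p₂ : M ⟶ cokernel μ := cokernel.π μ
  have w₂ : c.map μ ≫ c.map p₂ = 0 := by
    rw [← c.map_comp, cokernel.condition, c.map_zero]
  have hcok₂ : IsColimit (CokernelCofork.ofπ (c.map p₂) w₂) :=
    CokernelCofork.mapIsColimit _ (cokernelIsCokernel μ) c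
  have hμW : c.map μ ≫ cokernel.π mm = 0 := by
    rw [← hαmm, Category.assoc, cokernel.condition, comp_zero]
  obtain ⟨ω, hω'⟩ : ∃ ω : c.obj (cokernel μ) ⟶ cokernel mm, c.map p₂ ≫ ω = cokernel.π mm :=
    ⟨(CokernelCofork.IsColimit.desc' hcok₂ (cokernel.π mm) hμW).1,
      (CokernelCofork.IsColimit.desc' hcok₂ (cokernel.π mm) hμW).2⟩
  haveI : Epi (c.map p₂) := epi_cFun_map I J hc p₂
  haveI hωepi : Epi ω := by
    haveI : Epi (c.map p₂ ≫ ω) := by rw [hω']; infer_instance
    exact epi_of_epi (c.map p₂) ω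
  have hhz : ∀ j, mm ≫ smulD J (g j) (c.obj M) ≫ c.map p₂ = 0 := by
    intro j
    rw [← Category.assoc, ← smulD_comp, hmα, Category.assoc, w₂, comp_zero]
  have hωh : ∀ j, ω ≫ cokernel.desc mm (smulD J (g j) (c.obj M) ≫ c.map p₂) (hhz j) =
      smulD J (g j) (c.obj (cokernel μ)) := by
    intro j
    rw [← cancel_epi (c.map p₂), ← Category.assoc, hω', cokernel.π_desc, smulD_comp]
  have hNω : ∀ n : ℕ, ARSys.KilledBy (J ^ (t + 1)) ((kernel ω).obj.obj (op n)) := by
    apply levels_killed_of_smulD J g (J ^ (t + 1)) hg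
    intro j
    apply smulD_eq_zero_of_mono J (kernel.ι ω)
    rw [← hωh j, ← Category.assoc, kernel.condition, zero_comp]
  -- Step 6: algebraize the cokernel of `mm`
  obtain ⟨M₃, p₃, ω₁, hp₃, hω₁m, hpω₁, hkp₃⟩ := exists_coimage I J hc (cokernel μ) _ ω t hNω
  haveI := hp₃
  haveI := hω₁m
  haveI : Epi ω₁ := by
    haveI : Epi (c.map p₃ ≫ ω₁) := by rw [hpω₁]; infer_instance
    exact epi_of_epi (c.map p₃) ω₁
  haveI : IsIso ω₁ := isIso_of_mono_of_epi ω₁
  let e : cokernel mm ≅ c.obj M₃ := (asIso ω₁).symm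
  let q : M ⟶ M₃ := p₂ ≫ p₃
  have hq : c.map q = cokernel.π mm ≫ e.hom := by
    have h1 : c.map q = c.map p₂ ≫ c.map p₃ := c.map_comp _ _
    have h2 : e.hom = inv ω₁ := rfl
    rw [h1, h2, ← hω', ← hpω₁, Category.assoc, Category.assoc, IsIso.hom_inv_id, Category.comp_id]
  -- Step 7: the epimorphism onto the completion of the kernel of `q`
  obtain ⟨α₂, hα₂epi, hα₂⟩ := exists_epi_of_cokernel c mm q e hq
  haveI := hα₂epi
  -- Step 8: the easy case on the left
  have hQk₂ : ∀ n : ℕ, ARSys.KilledBy (J ^ (t + 1)) ((cokerObj J α₂).obj.obj (op n)) := by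
    intro n a ha
    haveI : Epi α₂.hom := epi_hom_of_epi J α₂
    haveI : Epi (cokernel.π α₂.hom) := inferInstance
    haveI : Epi ((cokernel.π α₂.hom).app (op n)) := inferInstance
    apply killedBy_of_smul_epi ((cokernel.π α₂.hom).app (op n))
    have h0 : cokernel.π α₂.hom = 0 := cokernel.π_of_epi α₂.hom
    have h1 : (cokernel.π α₂.hom).app (op n) = 0 := by rw [h0]; rfl
    rw [h1, smul_zero]
  have hNk₂ : ∀ (N : Dcat (CohCat X) J) (ι : N ⟶ F), Mono ι → ι ≫ α₂ = 0 →
      ∀ n : ℕ, ARSys.KilledBy (J ^ (t + 1)) (N.obj.obj (op n)) := by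
    intro N ι hι hια
    haveI := hι
    apply levels_killed_of_smulD J g (J ^ (t + 1)) hg
    intro j
    apply smulD_eq_zero_of_mono J ι
    have h1 : ι ≫ mm = 0 := by rw [← hα₂, ← Category.assoc, hια, zero_comp]
    rw [← hm j, ← hmm j, ← Category.assoc, ← Category.assoc, h1, zero_comp, zero_comp]
  obtain ⟨F', a', β, hβ, ⟨s, hs1, hs2⟩, hlift⟩ :=
    easyLeft_core I J hc (kernel q) F α₂ t hQk₂ hNk₂
  -- Step 9: the map `a`
  have hμq : μ ≫ q = 0 := by
    show μ ≫ p₂ ≫ p₃ = 0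
    rw [← Category.assoc, cokernel.condition, zero_comp]
  let μ' : G₁ ⟶ kernel q := kernel.lift q μ hμq
  have hμ' : μ' ≫ kernel.ι q = μ := kernel.lift_ι _ _ _
  let u : G ⟶ kernel q := p ≫ μ'
  haveI : Mono (c.map (kernel.ι q)) := inferInstance
  have hu : α ≫ α₂ = c.map u := by
    rw [← cancel_mono (c.map (kernel.ι q)), Category.assoc, hα₂, ← hpα₁, Category.assoc, hαmm,
      ← c.map_comp, ← c.map_comp]
    show c.map (p ≫ μ) = c.map ((p ≫ μ') ≫ kernel.ι q)
    rw [Category.assoc, hμ']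
  obtain ⟨a, ha1, ha2⟩ := hlift G u α hu
  refine ⟨F', a, β, ha1, s + 2 * t + 2, ?_, ?_⟩
  · -- the kernel of `a`
    have hkμ' : ARSys.KilledBy (J ^ (t + 1)) (kernel μ') := by
      apply hkill
      intro i
      apply killedBy_of_smul_mono (kernel.ι μ')
      have h1 : g i • kernel.ι μ' = kernel.ι μ' ≫ (g i • 𝟙 G₁) := by
        rw [Linear.comp_smul, Category.comp_id]
      rw [h1, ← hμ i, ← hμ', Category.assoc, ← Category.assoc, kernel.condition, zero_comp]
    have h2 : ARSys.KilledBy (J ^ (t + 1) * J ^ (t + 1)) (kernel (p ≫ μ')) :=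
      killedBy_kernel_comp _ _ p μ' hkp hkμ'
    have h3 : ARSys.KilledBy (J ^ (t + 1) * J ^ (t + 1)) (kernel (a ≫ a')) := by
      rw [ha2]
      exact h2
    have h4 := killedBy_kernel_of_comp _ a a' h3
    refine killedBy_mono_ideal ?_ h4
    rw [← pow_add]
    exact Ideal.pow_le_pow_right (by omega)
  · -- the cokernel of `a`
    have hcu : ARSys.KilledBy (J ^ (t + 1)) (cokernel u) := by
      apply hkill
      intro i
      apply killedBy_of_smul_epi (cokernel.π u)
      have hS : (ShortComplex.mk μ p₂ (cokernel.condition μ)).Exact :=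
        ShortComplex.exact_of_g_is_cokernel _ (cokernelIsCokernel μ)
      have h1 : (kernel.ι q ≫ p₂) ≫ p₃ = 0 := by rw [Category.assoc]; exact kernel.condition q
      have h2 : g i • (kernel.ι q ≫ p₂) = 0 :=
        smul_eq_zero_of_comp_eq_zero p₃ _ h1 (g i) (hkp₃ _ (hgmem i))
      have h3 : (g i • kernel.ι q) ≫ p₂ = 0 := by rw [Linear.smul_comp]; exact h2
      obtain ⟨A₁, π₁, hπ₁, x₁, hx₁⟩ := hS.exact_up_to_refinements (g i • kernel.ι q) h3
      haveI := hπ₁
      have hx₁' : π₁ ≫ (g i • kernel.ι q) = x₁ ≫ μ := hx₁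
      obtain ⟨A₂, π₂, hπ₂, x₀, hx₀⟩ := surjective_up_to_refinements_of_epi p x₁
      haveI := hπ₂
      have h4 : (π₂ ≫ π₁) ≫ (g i • 𝟙 (kernel q)) = x₀ ≫ u := by
        rw [← cancel_mono (kernel.ι q), Category.assoc, Category.assoc, Linear.smul_comp,
          Category.id_comp, hx₁', ← Category.assoc, hx₀]
        show (x₀ ≫ p) ≫ μ = (x₀ ≫ p ≫ μ') ≫ kernel.ι q
        rw [Category.assoc, Category.assoc, Category.assoc, hμ']
      rw [← cancel_epi (π₂ ≫ π₁), comp_zero]
      have h5 : (π₂ ≫ π₁) ≫ (g i • cokernel.π u) =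
          ((π₂ ≫ π₁) ≫ (g i • 𝟙 (kernel q))) ≫ cokernel.π u := by
        rw [Category.assoc (π₂ ≫ π₁) (g i • 𝟙 (kernel q)) (cokernel.π u), Linear.smul_comp,
          Category.id_comp]
      rw [h5, h4, Category.assoc, cokernel.condition, comp_zero]
    have h3 : ARSys.KilledBy (J ^ (t + 1)) (cokernel (a ≫ a')) := by
      rw [ha2]
      exact hcu
    have h4 := killedBy_cokernel_of_comp _ _ a a' hs1 h3
    refine killedBy_mono_ideal ?_ h4
    rw [← pow_add]
    exact Ideal.pow_le_pow_right (by omega)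

end Groth.Agent.Lib.Helper27EasyRightB
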