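import Groth.Agent.Lib.Helper27EasyLeft

/-! Translation between systems of coherent `𝒪_X`-modules and helper17's category of adic
Noetherian systems (helper27). -/
set_option autoImplicit false
set_option backward.isDefEq.respectTransparency false
set_option backward.isDefEq.respectTransparency.types false
universe w v u
open CategoryTheory CategoryTheory.Limits AlgebraicGeometry Opposite

namespace Groth.Agent.Lib.Helper27EasyWrap

open Groth.Agent.Lib.Helper17.FlatDev Groth.Agent.Lib.Helper17.IAdic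
  Groth.Agent.Lib.Helper27ARCohA
  Groth.Agent.Lib.Helper27ARCohB Groth.Agent.Lib.Helper27ARCohC Groth.Agent.Lib.Helper27NModel
  Groth.Agent.Lib.Helper27ARCohD Groth.Agent.Lib.Helper27ComplMap
  Groth.Agent.Lib.Helper17.ARSys1 Groth.Agent.Lib.Helper17.ARSys10
  Groth.Agent.Lib.Helper17.ARSys23 Groth.Agent.Lib.Helper17.ARSys24
  Groth.Agent.Lib.Helper27CplA Groth.Agent.Lib.Helper27CplB Groth.Agent.Lib.Helper27CplC
  Groth.Agent.Lib.Helper4.Dev

variable {A : Type u} [CommRing A] {X : Scheme.{u}} [X.Over (Spec (CommRingCat.of A))]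
  [IsNoetherian X] (I : Ideal A) {R : Type w} [CommRing R] [IsNoetherianRing R]
  [Linear R (CohCat X)] (J : Ideal R) (hc : Compat (C := CohCat X) I J)

omit [AlgebraicGeometry.IsNoetherian X] in
theorem smulMod_comp_eq_zero_of_kernel {K M N : X.Modules} (k : K ⟶ M) (f : M ⟶ N)
    (h0 : k ≫ f = 0) (𝔞 : Ideal A) (hk : Formal.KilledBy 𝔞 (kernel f)) :
    ∀ a ∈ 𝔞, Formal.smulMod A K a ≫ k = 0 := by
  intro a ha
  calc Formal.smulMod A K a ≫ k
      = Formal.smulMod A K a ≫ (kernel.lift f k h0 ≫ kernel.ι f) := by rw [kernel.lift_ι]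
    _ = kernel.lift f k h0 ≫ (Formal.smulMod A (kernel f) a ≫ kernel.ι f) := by
        rw [← Category.assoc, ← comp_smulMod, Category.assoc]
    _ = 0 := by rw [hk a ha, zero_comp, comp_zero]

omit [AlgebraicGeometry.IsNoetherian X] in
theorem smulMod_comp_eq_zero_of_cokernel {M N C : X.Modules} (f : M ⟶ N) (p : N ⟶ C)
    (h0 : f ≫ p = 0) (𝔞 : Ideal A) (hk : Formal.KilledBy 𝔞 (cokernel f)) :
    ∀ a ∈ 𝔞, Formal.smulMod A N a ≫ p = 0 := by
  intro a ha
  calc Formal.smulMod A N a ≫ p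
      = Formal.smulMod A N a ≫ (cokernel.π f ≫ cokernel.desc f p h0) := by rw [cokernel.π_desc]
    _ = (cokernel.π f ≫ Formal.smulMod A (cokernel f) a) ≫ cokernel.desc f p h0 := by
        rw [comp_smulMod, Category.assoc]
    _ = 0 := by rw [hk a ha, comp_zero, zero_comp]

/-- a morphism of systems of coherent modules, as a morphism of systems in `CohCat X`. -/
noncomputable def liftNat {G₁ G₂ : ℕᵒᵖ ⥤ X.Modules} (h₁ : ∀ n : ℕ, Coh.IsCoh (G₁.obj (op n)))
    (h₂ : ∀ n : ℕ, Coh.IsCoh (G₂.obj (op n))) (α : G₁ ⟶ G₂) : liftSys G₁ h₁ ⟶ liftSys G₂ h₂ where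
  app n := (cohP X).homMk (α.app n)
  naturality n m g := by
    apply hom_ext'
    exact α.naturality g

theorem liftNat_app_hom {G₁ G₂ : ℕᵒᵖ ⥤ X.Modules} (h₁ : ∀ n : ℕ, Coh.IsCoh (G₁.obj (op n)))
    (h₂ : ∀ n : ℕ, Coh.IsCoh (G₂.obj (op n))) (α : G₁ ⟶ G₂) (n : ℕ) :
    ((liftNat h₁ h₂ α).app (op n)).hom = α.app (op n) := rfl

include hc in
/-- a morphism of coherent modules killed (on the level of `𝒪_X`-modules) by `I^s`. -/
theorem smul_eq_zero_of_smulMod {M N : CohCat X} (φ : M ⟶ N) (s : ℕ)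
    (h : ∀ a ∈ I ^ s, Formal.smulMod A M.obj a ≫ φ.hom = 0) : ∀ r ∈ J ^ s, r • φ = 0 := by
  refine (hc.hk s φ).2 ?_
  intro a ha
  apply hom_ext'
  exact h a ha

include hc in
theorem smul_kernelι_eq_zero {G₁ G₂ : ℕᵒᵖ ⥤ X.Modules} (h₁ : ∀ n : ℕ, Coh.IsCoh (G₁.obj (op n)))
    (h₂ : ∀ n : ℕ, Coh.IsCoh (G₂.obj (op n))) (α : G₁ ⟶ G₂) (s n : ℕ)
    (hk : Formal.KilledBy (I ^ s) (kernel (α.app (op n)))) :
    ∀ r ∈ J ^ s, r • (kernel.ι (liftNat h₁ h₂ α)).app (op n) = 0 := by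
  apply smul_eq_zero_of_smulMod I J hc
  intro a ha
  set k := (kernel.ι (liftNat h₁ h₂ α)).app (op n) with hkdef
  have h0 : k ≫ (liftNat h₁ h₂ α).app (op n) = 0 := by
    have := congrArg (fun x => x.app (op n)) (kernel.condition (liftNat h₁ h₂ α))
    exact this
  have h0' : k.hom ≫ α.app (op n) = 0 := by
    have := congrArg (fun x => x.hom) h0
    exact this
  exact smulMod_comp_eq_zero_of_kernel k.hom (α.app (op n)) h0' _ hk a ha

include hc in
theorem smul_cokernelπ_eq_zero {G₁ G₂ : ℕᵒᵖ ⥤ X.Modules} (h₁ : ∀ n : ℕ, Coh.IsCoh (G₁.obj (op n)))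
    (h₂ : ∀ n : ℕ, Coh.IsCoh (G₂.obj (op n))) (α : G₁ ⟶ G₂) (s n : ℕ)
    (hk : Formal.KilledBy (I ^ s) (cokernel (α.app (op n)))) :
    ∀ r ∈ J ^ s, r • (cokernel.π (liftNat h₁ h₂ α)).app (op n) = 0 := by
  apply smul_eq_zero_of_smulMod I J hc
  intro a ha
  set p := (cokernel.π (liftNat h₁ h₂ α)).app (op n) with hpdef
  have h0 : (liftNat h₁ h₂ α).app (op n) ≫ p = 0 := by
    have := congrArg (fun x => x.app (op n)) (cokernel.condition (liftNat h₁ h₂ α))
    exact this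
  have h0' : α.app (op n) ≫ p.hom = 0 := by
    have := congrArg (fun x => x.hom) h0
    exact this
  exact smulMod_comp_eq_zero_of_cokernel (α.app (op n)) p.hom h0' _ hk a ha

include hc in
theorem killedBy_kernel_hom {M N : CohCat X} (f : M ⟶ N) (s : ℕ)
    (h : ARSys.KilledBy (J ^ s) (kernel f)) : Formal.KilledBy (I ^ s) (kernel f.hom) := by
  have h' : Formal.KilledBy (I ^ s) (kernel f).obj := (killedBy_iff _ _).1 ((hc.killedBy s _).1 h)
  let K' : CohCat X := ⟨kernel f.hom, isCoh_kernel f.hom M.property N.property⟩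
  let k' : K' ⟶ M := (cohP X).homMk (kernel.ι f.hom)
  have hk' : k' ≫ f = 0 := by
    apply hom_ext'
    exact kernel.condition f.hom
  let l : K' ⟶ kernel f := kernel.lift f k' hk'
  have hl : l.hom ≫ (kernel.ι f).hom = kernel.ι f.hom := by
    have := congrArg (fun x => x.hom) (kernel.lift_ι f k' hk')
    exact this
  haveI : Mono l.hom := mono_of_mono_fac hl
  intro a ha
  rw [← cancel_mono l.hom, zero_comp, ← comp_smulMod, h' a ha, comp_zero]

include hc in
theorem killedBy_cokernel_hom {M N : CohCat X} (f : M ⟶ N) (s : ℕ)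
    (h : ARSys.KilledBy (J ^ s) (cokernel f)) : Formal.KilledBy (I ^ s) (cokernel f.hom) := by
  have h' : Formal.KilledBy (I ^ s) (cokernel f).obj :=
    (killedBy_iff _ _).1 ((hc.killedBy s _).1 h)
  let C' : CohCat X := ⟨cokernel f.hom, isCoh_cokernel f.hom M.property N.property⟩
  let p' : N ⟶ C' := (cohP X).homMk (cokernel.π f.hom)
  have hp' : f ≫ p' = 0 := by
    apply hom_ext'
    exact cokernel.condition f.hom
  let d : cokernel f ⟶ C' := cokernel.desc f p' hp'
  have hd : (cokernel.π f).hom ≫ d.hom = cokernel.π f.hom := by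
    have := congrArg (fun x => x.hom) (cokernel.π_desc f p' hp')
    exact this
  haveI : Epi d.hom := epi_of_epi_fac hd
  intro a ha
  rw [← cancel_epi d.hom, comp_zero, comp_smulMod, h' a ha, zero_comp]

/-- an isomorphism of adic Noetherian systems, as an isomorphism of systems of `𝒪_X`-modules. -/
noncomputable def isoOfDcatIso {Y Y' : Dcat (CohCat X) J} (e : Y ≅ Y') :
    Y.obj ⋙ (cohP X).ι ≅ Y'.obj ⋙ (cohP X).ι :=
  ((Functor.whiskeringRight ℕᵒᵖ _ _).obj (cohP X).ι).mapIso ((PAN (C := CohCat X) J).ι.mapIso e)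

theorem isoOfDcatIso_hom_app {Y Y' : Dcat (CohCat X) J} (e : Y ≅ Y') (n : ℕ) :
    (isoOfDcatIso J e).hom.app (op n) = (e.hom.hom.app (op n)).hom := rfl

theorem isoOfDcatIso_inv_app {Y Y' : Dcat (CohCat X) J} (e : Y ≅ Y') (n : ℕ) :
    (isoOfDcatIso J e).inv.app (op n) = (e.inv.hom.app (op n)).hom := rfl

end Groth.Agent.Lib.Helper27EasyWrap
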