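import Mathlib
import Groth.Agent.Lib.LeadFF1

/-! Function fields of one variable, part 2: existence of places (Chevalley + discreteness). -/

namespace Groth.Agent.Lib.LeadFF

open Polynomial FunFld WithZero

section Discrete

variable {k K : Type*} [Field k] [Field K] [Algebra k K]
variable {Γ₀ : Type*} [LinearOrderedCommGroupWithZero Γ₀] {v : Valuation K Γ₀}

lemma trivOn_of_le_one (h : ∀ c : k, v (algebraMap k K c) ≤ 1) : TrivOn k v := by
  intro c hc
  apply le_antisymm (h c)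
  have h1 := h c⁻¹
  have h2 : v (algebraMap k K c) * v (algebraMap k K c⁻¹) = 1 := by
    rw [← map_mul, ← map_mul, mul_inv_cancel₀ hc, map_one, map_one]
  calc (1 : Γ₀) = v (algebraMap k K c) * v (algebraMap k K c⁻¹) := h2.symm
    _ ≤ v (algebraMap k K c) * 1 := mul_le_mul' le_rfl h1
    _ = _ := mul_one _

lemma transcendental_of_val_ne_one' (hK : IsFunctionField k K) (hk : TrivOn k v) {z : K}
    (hz0 : z ≠ 0) (hz : v z ≠ 1) : Transcendental k z := by
  intro halg
  obtain ⟨c, rfl⟩ := hK.2 z halg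
  have hc : c ≠ 0 := by rintro rfl; simp at hz0
  exact hz (hk c hc)

/-- Elements whose values lie in distinct cosets of `v(z)^ℤ` are independent over `k(z)`. -/
lemma linearIndependent_of_cosets (hk : TrivOn k v) {z : K} (hz0 : z ≠ 0) (hz : v z < 1)
    {ι : Type*} [Fintype ι] (y : ι → K) (hy0 : ∀ i, y i ≠ 0)
    (hy : ∀ i j, i ≠ j → ∀ m : ℤ, v (y i) ≠ v (y j) * v z ^ m) :
    LinearIndependent (IntermediateField.adjoin k {z}) y := by
  classical
  rw [Fintype.linearIndependent_iff]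
  intro g hg
  by_contra hne
  push Not at hne
  obtain ⟨i₀, hi₀⟩ := hne
  have hvz : v z ≠ 0 := (Valuation.ne_zero_iff v).mpr hz0
  let S : Finset ι := Finset.univ.filter (fun i => g i ≠ 0)
  have hS : i₀ ∈ S := by simp [S, hi₀]
  obtain ⟨i₁, hi₁S, hmax⟩ := Finset.exists_max_image S (fun i => v ((g i : K) * y i)) ⟨i₀, hS⟩
  have hsum : ∑ i ∈ S, (g i : K) * y i = 0 := by
    have h0 : ∑ i, (g i : K) * y i = 0 := by simpa [IntermediateField.smul_def] using hg
    rw [← h0]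
    apply Finset.sum_filter_of_ne
    intro i _ hi h
    apply hi; rw [h]; simp
  have hgS : ∀ i ∈ S, (g i : K) ≠ 0 := fun i hi => by
    have := (Finset.mem_filter.mp hi).2
    simpa using this
  have hval : ∀ i ∈ S, ∃ m : ℤ, v (g i : K) = v z ^ m := fun i hi =>
    val_rat hk hz0 hz (g i).2 (hgS i hi)
  have hlt : ∀ i ∈ S \ {i₁}, v ((g i : K) * y i) < v ((g i₁ : K) * y i₁) := by
    intro i hi
    rw [Finset.mem_sdiff, Finset.mem_singleton] at hi
    refine lt_of_le_of_ne (hmax i hi.1) ?_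
    intro heq
    obtain ⟨m, hm⟩ := hval i hi.1
    obtain ⟨m₁, hm₁⟩ := hval i₁ hi₁S
    rw [map_mul, map_mul, hm, hm₁] at heq
    apply hy i i₁ hi.2 (m₁ - m)
    rw [zpow_sub₀ hvz]
    have hne : v z ^ m ≠ 0 := zpow_ne_zero _ hvz
    have : v (y i) = (v z ^ m₁ * v (y i₁)) / v z ^ m := by
      rw [eq_div_iff hne, mul_comm]; exact heq
    rw [this, mul_comm (v z ^ m₁), mul_div_assoc]
  have h1 := Valuation.map_sum_eq_of_lt v hi₁S hlt
  rw [hsum, map_zero] at h1
  have h2 : v ((g i₁ : K) * y i₁) ≠ 0 := by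
    rw [Valuation.ne_zero_iff]; exact mul_ne_zero (hgS i₁ hi₁S) (hy0 i₁)
  exact h2 h1.symm

lemma card_le_of_cosets (hk : TrivOn k v) {z : K} (hz0 : z ≠ 0) (hz : v z < 1)
    [FiniteDimensional (IntermediateField.adjoin k {z}) K]
    {ι : Type*} [Fintype ι] (y : ι → K) (hy0 : ∀ i, y i ≠ 0)
    (hy : ∀ i j, i ≠ j → ∀ m : ℤ, v (y i) ≠ v (y j) * v z ^ m) :
    Fintype.card ι ≤ Module.finrank (IntermediateField.adjoin k {z}) K :=
  (linearIndependent_of_cosets hk hz0 hz y hy0 hy).fintype_card_le_finrank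

lemma finite_interval (hk : TrivOn k v) {z : K} (hz0 : z ≠ 0) (hz : v z < 1)
    [FiniteDimensional (IntermediateField.adjoin k {z}) K] :
    {γ : Γ₀ | (∃ y : K, v y = γ) ∧ v z ≤ γ ∧ γ < 1}.Finite := by
  classical
  by_contra hinf
  have hvz : v z ≠ 0 := (Valuation.ne_zero_iff v).mpr hz0
  have hvz0 : 0 < v z := zero_lt_iff.mpr hvz
  obtain ⟨s, hsub, hcard⟩ := Set.Infinite.exists_subset_card_eq hinf
    (Module.finrank (IntermediateField.adjoin k {z}) K + 1)
  choose y hy using fun γ : s => (hsub γ.2).1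
  have h1 : ∀ γ : s, v z ≤ (γ : Γ₀) ∧ (γ : Γ₀) < 1 := fun γ => (hsub γ.2).2
  have := card_le_of_cosets hk hz0 hz (fun γ : s => y γ) ?_ ?_
  · simp only [Fintype.card_coe] at this; omega
  · intro γ h0
    have := hy γ
    rw [h0, map_zero] at this
    exact absurd (this ▸ (h1 γ).1) (not_le.mpr hvz0)
  · intro γ γ' hne m heq
    rw [hy, hy] at heq
    rcases lt_trichotomy m 0 with hm | rfl | hm
    · have : v z ^ (-1 : ℤ) ≤ v z ^ m := zpow_le_zpow_right_of_le_one₀ hvz0 hz.le (by omega)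
      have h2 : (1 : Γ₀) ≤ (γ' : Γ₀) * v z ^ m := by
        calc (1 : Γ₀) = v z * v z ^ (-1 : ℤ) := by rw [zpow_neg_one, mul_inv_cancel₀ hvz]
          _ ≤ (γ' : Γ₀) * v z ^ m := mul_le_mul' (h1 γ').1 this
      exact absurd (heq ▸ (h1 γ).2) (not_lt.mpr h2)
    · rw [zpow_zero, mul_one] at heq
      exact hne (Subtype.ext heq)
    · have : v z ^ m ≤ v z ^ (1 : ℤ) := zpow_le_zpow_right_of_le_one₀ hvz0 hz.le (by omega)
      rw [zpow_one] at this
      have h2 : (γ' : Γ₀) * v z ^ m < v z := by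
        calc (γ' : Γ₀) * v z ^ m ≤ (γ' : Γ₀) * v z := mul_le_mul' le_rfl this
          _ < 1 * v z := mul_lt_mul_of_pos_right (h1 γ').2 hvz0
          _ = v z := one_mul _
      exact absurd (heq ▸ (h1 γ).1) (not_le.mpr h2)

lemma exists_max_lt_one (hK : IsFunctionField k K) (hk : TrivOn k v) {z : K} (hz0 : z ≠ 0)
    (hz : v z < 1) : ∃ t : K, t ≠ 0 ∧ v t < 1 ∧ ∀ y : K, v y < 1 → v y ≤ v t := by
  haveI := finite_over_adjoin hK (transcendental_of_val_ne_one' hK hk hz0 hz.ne)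
  have hfin := finite_interval hk hz0 hz
  obtain ⟨q, ⟨⟨t, ht⟩, hq1, hq2⟩, hmax⟩ :=
    Set.exists_max_image _ id hfin ⟨v z, ⟨z, rfl⟩, le_rfl, hz⟩
  have hvz0 : 0 < v z := zero_lt_iff.mpr ((Valuation.ne_zero_iff v).mpr hz0)
  refine ⟨t, ?_, ht ▸ hq2, ?_⟩
  · intro h; rw [h, map_zero] at ht; rw [← ht] at hq1; exact absurd hq1 (not_le.mpr hvz0)
  · intro y hy
    by_contra hlt
    push Not at hlt
    have hmem : v y ∈ {γ : Γ₀ | (∃ y : K, v y = γ) ∧ v z ≤ γ ∧ γ < 1} :=
      ⟨⟨y, rfl⟩, (ht ▸ hq1).trans hlt.le, hy⟩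
    have := hmax _ hmem
    simp only [id] at this
    rw [← ht] at this
    exact absurd hlt (not_lt.mpr this)

lemma exists_zpow_of_max (hK : IsFunctionField k K) (hk : TrivOn k v) {t : K} (ht0 : t ≠ 0)
    (ht1 : v t < 1) (hmax : ∀ y : K, v y < 1 → v y ≤ v t) (y : K) (hy : y ≠ 0) :
    ∃ j : ℤ, v y = v t ^ j := by
  have hvt : v t ≠ 0 := (Valuation.ne_zero_iff v).mpr ht0
  have hvt0 : 0 < v t := zero_lt_iff.mpr hvt
  have main : ∀ y : K, y ≠ 0 → v y < 1 → ∃ j : ℕ, v y = v t ^ j := by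
    intro y hy hy1
    have hvy : v y ≠ 0 := (Valuation.ne_zero_iff v).mpr hy
    haveI := finite_over_adjoin hK (transcendental_of_val_ne_one' hK hk hy hy1.ne)
    have hfin := finite_interval hk hy hy1
    have hex : ∃ i : ℕ, v t ^ (i + 1) < v y := by
      by_contra hcon
      push Not at hcon
      have hinj : Function.Injective (fun i : ℕ => v t ^ (i + 1)) := by
        intro a b hab
        have := pow_right_injective₀ hvt0 ht1.ne hab
        omega
      have hsub : Set.range (fun i : ℕ => v t ^ (i + 1)) ⊆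
          {γ : Γ₀ | (∃ y : K, v y = γ) ∧ v y ≤ γ ∧ γ < 1} := by
        rintro _ ⟨i, rfl⟩
        exact ⟨⟨t ^ (i + 1), by rw [map_pow]⟩, hcon i, pow_lt_one' ht1 (by omega)⟩
      exact (Set.infinite_range_of_injective hinj) (hfin.subset hsub)
    classical
    let N := Nat.find hex
    have hN : v t ^ (N + 1) < v y := Nat.find_spec hex
    have hN' : v y ≤ v t ^ N := by
      rcases Nat.eq_zero_or_pos N with h0 | hpos
      · rw [h0, pow_zero]; exact hy1.le
      · have := Nat.find_min hex (m := N - 1) (by omega)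
        rw [Nat.sub_add_cancel hpos] at this
        exact not_lt.mp this
    refine ⟨N, ?_⟩
    have hpow : v t ^ N ≠ 0 := pow_ne_zero _ hvt
    have hw1 : v (y / t ^ N) ≤ 1 := by
      rw [map_div₀, map_pow, div_le_one₀ (zero_lt_iff.mpr hpow)]; exact hN'
    have hw2 : v t < v (y / t ^ N) := by
      rw [map_div₀, map_pow, lt_div_iff₀ (zero_lt_iff.mpr hpow), ← pow_succ']; exact hN
    have hw3 : v (y / t ^ N) = 1 := by
      rcases hw1.eq_or_lt with h | h
      · exact h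
      · exact absurd (hmax _ h) (not_le.mpr hw2)
    rw [map_div₀, map_pow, div_eq_one_iff_eq hpow] at hw3
    exact hw3
  rcases lt_trichotomy (v y) 1 with h | h | h
  · obtain ⟨j, hj⟩ := main y hy h
    exact ⟨j, by rw [hj, zpow_natCast]⟩
  · exact ⟨0, by rw [h, zpow_zero]⟩
  · have h' : v y⁻¹ < 1 := by
      rw [map_inv₀]; exact inv_lt_one_of_one_lt₀ h
    obtain ⟨j, hj⟩ := main y⁻¹ (inv_ne_zero hy) h'
    refine ⟨-j, ?_⟩
    rw [zpow_neg, zpow_natCast, ← hj, map_inv₀, inv_inv]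

end Discrete

section MkVal

variable {k K : Type*} [Field k] [Field K] [Algebra k K]
variable {Γ₀ : Type*} [LinearOrderedCommGroupWithZero Γ₀]

open Classical in
/-- the exponent of `y` with respect to the generator `t`. -/
noncomputable def expo (v : Valuation K Γ₀) (t : K) (y : K) : ℤ :=
  if h : ∃ j : ℤ, v y = v t ^ j then h.choose else 0

open Classical in
/-- the normalized valuation as a bare function. -/
noncomputable def mkFun (v : Valuation K Γ₀) (t : K) (y : K) : WithZero (Multiplicative ℤ) :=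
  if y = 0 then 0 else exp (-(expo v t y))

variable {v : Valuation K Γ₀} {t : K}

lemma expo_spec (ht0 : t ≠ 0) (ht1 : v t < 1) {y : K} {j : ℤ} (h : v y = v t ^ j) :
    expo v t y = j := by
  have hex : ∃ j : ℤ, v y = v t ^ j := ⟨j, h⟩
  unfold expo
  rw [dif_pos hex]
  have := h.symm.trans hex.choose_spec
  exact (zpow_right_injective₀ (zero_lt_iff.mpr ((Valuation.ne_zero_iff v).mpr ht0)) ht1.ne
    this).symm

lemma mkFun_zero : mkFun v t 0 = 0 := if_pos rfl

lemma mkFun_of_eq (ht0 : t ≠ 0) (ht1 : v t < 1) {y : K} (hy : y ≠ 0) {j : ℤ}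
    (h : v y = v t ^ j) : mkFun v t y = exp (-j) := by
  rw [mkFun, if_neg hy, expo_spec ht0 ht1 h]

lemma mkFun_le_iff (ht0 : t ≠ 0) (ht1 : v t < 1)
    (hgen : ∀ y : K, y ≠ 0 → ∃ j : ℤ, v y = v t ^ j) (x y : K) :
    mkFun v t x ≤ mkFun v t y ↔ v x ≤ v y := by
  have hvt0 : 0 < v t := zero_lt_iff.mpr ((Valuation.ne_zero_iff v).mpr ht0)
  by_cases hx : x = 0
  · simp [hx, mkFun_zero]
  by_cases hy : y = 0
  · subst hy
    obtain ⟨a, ha⟩ := hgen x hx
    rw [mkFun_zero, map_zero, mkFun_of_eq ht0 ht1 hx ha]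
    simp [hx]
  obtain ⟨a, ha⟩ := hgen x hx
  obtain ⟨b, hb⟩ := hgen y hy
  rw [mkFun_of_eq ht0 ht1 hx ha, mkFun_of_eq ht0 ht1 hy hb, ha, hb, exp_le_exp,
    zpow_le_zpow_iff_right_of_lt_one₀ hvt0 ht1]
  omega

/-- The normalized `ℤₘ₀`-valued valuation attached to a valuation with generator `t`. -/
noncomputable def mkVal (ht0 : t ≠ 0) (ht1 : v t < 1)
    (hgen : ∀ y : K, y ≠ 0 → ∃ j : ℤ, v y = v t ^ j) :
    Valuation K (WithZero (Multiplicative ℤ)) where
  toFun := mkFun v t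
  map_zero' := mkFun_zero
  map_one' := by rw [mkFun_of_eq ht0 ht1 one_ne_zero (j := 0) (by simp)]; simp
  map_mul' x y := by
    by_cases hx : x = 0
    · simp [hx, mkFun_zero]
    by_cases hy : y = 0
    · simp [hy, mkFun_zero]
    obtain ⟨a, ha⟩ := hgen x hx
    obtain ⟨b, hb⟩ := hgen y hy
    have hab : v (x * y) = v t ^ (a + b) := by
      rw [map_mul, ha, hb, zpow_add₀ ((Valuation.ne_zero_iff v).mpr ht0)]
    rw [mkFun_of_eq ht0 ht1 hx ha, mkFun_of_eq ht0 ht1 hy hb,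
      mkFun_of_eq ht0 ht1 (mul_ne_zero hx hy) hab, ← exp_add]
    congr 1; ring
  map_add_le_max' x y := by
    rw [le_max_iff, mkFun_le_iff ht0 ht1 hgen, mkFun_le_iff ht0 ht1 hgen, ← le_max_iff]
    exact v.map_add x y

theorem exists_place_of_valuation (hK : IsFunctionField k K) (hk : TrivOn k v) {z : K}
    (hz0 : z ≠ 0) (hz : v z < 1) :
    ∃ P : Place k K, ∀ x y : K, P.1 x ≤ P.1 y ↔ v x ≤ v y := by
  obtain ⟨t, ht0, ht1, hmax⟩ := exists_max_lt_one hK hk hz0 hz
  have hgen := exists_zpow_of_max hK hk ht0 ht1 hmax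
  refine ⟨⟨mkVal ht0 ht1 hgen, ?_, ?_⟩, fun x y => mkFun_le_iff ht0 ht1 hgen x y⟩
  · intro c
    have : (mkVal ht0 ht1 hgen) (algebraMap k K c) ≤ (mkVal ht0 ht1 hgen) 1 :=
      (mkFun_le_iff ht0 ht1 hgen _ _).mpr (by rw [map_one]; exact hk.le_one c)
    rwa [map_one] at this
  · intro γ
    induction γ using WithZero.expRecOn with
    | zero => exact ⟨0, map_zero _⟩
    | exp a =>
      refine ⟨t ^ (-a), ?_⟩
      show mkFun v t (t ^ (-a)) = exp a
      rw [mkFun_of_eq ht0 ht1 (zpow_ne_zero _ ht0) (j := -a) (map_zpow₀ _ _ _), neg_neg]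

/-- Existence of places: every transcendental element has a zero. -/
theorem exists_place_lt_one (hK : IsFunctionField k K) {z : K} (hz : Transcendental k z) :
    ∃ P : Place k K, P.1 z < 1 := by
  have hz0 : z ≠ 0 := fun h => hz (h ▸ isAlgebraic_zero)
  let A : Subring K := (Algebra.adjoin k {z}).toSubring
  have hzA : z ∈ A := Algebra.subset_adjoin (Set.mem_singleton z)
  let I : Ideal A := Ideal.span {⟨z, hzA⟩}
  have hI : I ≠ ⊤ := by
    intro h
    rw [Ideal.span_singleton_eq_top] at h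
    obtain ⟨⟨w, hw⟩, hzw⟩ := isUnit_iff_exists_inv.mp h
    have hw' : w ∈ Algebra.adjoin k {z} := hw
    rw [Algebra.adjoin_singleton_eq_range_aeval] at hw'
    obtain ⟨p, rfl⟩ := hw'
    have h1 : z * aeval z p = 1 := congrArg Subtype.val hzw
    have h2 : aeval z (X * p - 1) = 0 := by simp [h1]
    have h3 := (transcendental_iff.mp hz) _ h2
    have := congrArg (fun q => q.coeff 0) h3
    simp at this
  obtain ⟨B, hAB, hIB⟩ := Ideal.image_subset_nonunits_valuationSubring I hI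
  have hk : TrivOn k B.valuation := trivOn_of_le_one (fun c => by
    rw [ValuationSubring.valuation_le_one_iff]
    exact hAB (Subalgebra.algebraMap_mem _ c))
  have hzB : B.valuation z < 1 := by
    have : z ∈ B.nonunits := hIB ⟨⟨z, hzA⟩, Ideal.subset_span rfl, rfl⟩
    exact B.mem_nonunits_iff.mp this
  obtain ⟨P, hP⟩ := exists_place_of_valuation hK hk hz0 hzB
  refine ⟨P, ?_⟩
  have := hP 1 z
  rw [map_one, map_one] at this
  rw [← not_le, this, not_le]
  exact hzB

end MkVal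

section Consequences

variable {k K : Type*} [Field k] [Field K] [Algebra k K]

lemma ord_pos_iff (P : Place k K) {x : K} (hx : x ≠ 0) : 0 < P.ord x ↔ P.1 x < 1 := by
  have h0 : P.1 x ≠ 0 := (Valuation.ne_zero_iff _).mpr hx
  unfold Place.ord
  rw [neg_pos, log_lt_iff_lt_exp h0, exp_zero]

lemma ord_neg_iff (P : Place k K) {x : K} (hx : x ≠ 0) : P.ord x < 0 ↔ 1 < P.1 x := by
  have h0 : P.1 x ≠ 0 := (Valuation.ne_zero_iff _).mpr hx
  unfold Place.ord
  rw [neg_lt_zero, lt_log_iff_exp_lt h0, exp_zero]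

lemma val_eq_exp_neg_ord (P : Place k K) {x : K} (hx : x ≠ 0) : P.1 x = exp (-(P.ord x)) := by
  have h0 : P.1 x ≠ 0 := (Valuation.ne_zero_iff _).mpr hx
  unfold Place.ord
  rw [neg_neg, exp_log h0]

lemma transcendental_of_not_mem (hK : IsFunctionField k K) {x : K}
    (hx : x ∉ Set.range (algebraMap k K)) : Transcendental k x :=
  fun h => hx (hK.2 x h)

/-- S10972. -/
theorem exists_zero_and_pole (hK : IsFunctionField k K) (x : K)
    (hx : x ∉ Set.range (algebraMap k K)) :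
    (∃ P : Place k K, 0 < P.ord x) ∧ ∃ Q : Place k K, Q.ord x < 0 := by
  have hx0 : x ≠ 0 := by rintro rfl; exact hx ⟨0, map_zero _⟩
  have hxi : x⁻¹ ∉ Set.range (algebraMap k K) := by
    rintro ⟨c, hc⟩
    exact hx ⟨c⁻¹, by rw [map_inv₀, hc, inv_inv]⟩
  obtain ⟨P, hP⟩ := exists_place_lt_one hK (transcendental_of_not_mem hK hx)
  obtain ⟨Q, hQ⟩ := exists_place_lt_one hK (transcendental_of_not_mem hK hxi)
  refine ⟨⟨P, (ord_pos_iff P hx0).mpr hP⟩, ⟨Q, (ord_neg_iff Q hx0).mpr ?_⟩⟩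
  rw [map_inv₀] at hQ
  exact (inv_lt_one₀ (zero_lt_iff.mpr ((Valuation.ne_zero_iff _).mpr hx0))).mp hQ

/-- S10978. -/
theorem L_zero (hK : IsFunctionField k K) : L (0 : Divisor k K) = 1 := by
  ext x
  rw [Submodule.mem_one]
  constructor
  · intro hx
    by_contra hne
    have hne' : x ∉ Set.range (algebraMap k K) := hne
    obtain ⟨-, Q, hQ⟩ := exists_zero_and_pole hK x hne'
    have hx0 : x ≠ 0 := by rintro rfl; exact hne' ⟨0, map_zero _⟩
    have h1 := (ord_neg_iff Q hx0).mp hQ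
    have h2 : Q.1 x ≤ exp ((0 : Divisor k K) Q) := hx Q
    simp only [Finsupp.coe_zero, Pi.zero_apply, exp_zero] at h2
    exact absurd h1 (not_lt.mpr h2)
  · rintro ⟨c, rfl⟩ P
    simp only [Finsupp.coe_zero, Pi.zero_apply, exp_zero]
    exact P.2.1 c

/-- S10973. -/
theorem eq_smul_of_ord_eq (hK : IsFunctionField k K) (x y : K) (hx : x ≠ 0) (hy : y ≠ 0)
    (h : ∀ P : Place k K, P.ord x = P.ord y) : ∃ c : k, x = c • y := by
  by_cases hmem : x / y ∈ Set.range (algebraMap k K)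
  · obtain ⟨c, hc⟩ := hmem
    exact ⟨c, by rw [Algebra.smul_def, hc, div_mul_cancel₀ _ hy]⟩
  · exfalso
    obtain ⟨⟨P, hP⟩, -⟩ := exists_zero_and_pole hK _ hmem
    have hxy : x / y ≠ 0 := div_ne_zero hx hy
    have := (ord_pos_iff P hxy).mp hP
    rw [map_div₀, val_eq_exp_neg_ord P hx, val_eq_exp_neg_ord P hy, h P,
      div_self exp_ne_zero] at this
    exact lt_irrefl _ this

end Consequences

end Groth.Agent.Lib.LeadFF
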