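import Mathlib
import Groth.Agent.Lib.LeadFF2

/-! Function fields of one variable, part 3: independence of places and weak approximation. -/

namespace Groth.Agent.Lib.LeadFF

open Polynomial FunFld WithZero

section ZM0

abbrev ZM0 := WithZero (Multiplicative ℤ)

lemma zm0_lt_one_iff {x : ZM0} : x < 1 ↔ x ≤ exp (-1 : ℤ) := by
  induction x using WithZero.expRecOn with
  | zero => simp
  | exp a =>
    rw [← exp_zero, exp_lt_exp, exp_le_exp]; omega

lemma zm0_one_lt_iff {x : ZM0} : 1 < x ↔ exp (1 : ℤ) ≤ x := by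
  induction x using WithZero.expRecOn with
  | zero => simp
  | exp a =>
    rw [← exp_zero, exp_lt_exp, exp_le_exp]; omega

lemma zm0_lt_exp_iff {x : ZM0} {n : ℤ} : x < exp n ↔ x ≤ exp (n - 1) := by
  induction x using WithZero.expRecOn with
  | zero => simp
  | exp a =>
    rw [exp_lt_exp, exp_le_exp]; omega

lemma zm0_exp_pow (a : ℤ) (r : ℕ) : (exp a : ZM0) ^ r = exp (r * a) := by
  rw [← exp_nsmul]; simp

lemma zm0_exp_zpow (a : ℤ) (r : ℤ) : (exp a : ZM0) ^ r = exp (r * a) := by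
  rw [← exp_zsmul]; simp

lemma zm0_archimedean (a b : ZM0) (ha : 1 < a) : ∃ r₀ : ℕ, ∀ r : ℕ, r₀ ≤ r → b < a ^ r := by
  induction b using WithZero.expRecOn with
  | zero =>
    refine ⟨0, fun r _ => ?_⟩
    exact pow_pos (lt_trans zero_lt_one ha) r
  | exp m =>
    induction a using WithZero.expRecOn with
    | zero => simp at ha
    | exp l =>
      rw [← exp_zero, exp_lt_exp] at ha
      refine ⟨m.toNat + 1, fun r hr => ?_⟩
      rw [zm0_exp_pow, exp_lt_exp]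
      have h1 : m ≤ m.toNat := Int.self_le_toNat m
      have h2 : (r : ℤ) ≤ r * l := by nlinarith
      have h3 : ((m.toNat + 1 : ℕ) : ℤ) ≤ r := by exact_mod_cast hr
      push_cast at h3
      omega

lemma zm0_exists_le_exp (x : ZM0) : ∃ M : ℕ, x ≤ exp (M : ℤ) := by
  induction x using WithZero.expRecOn with
  | zero => exact ⟨0, by simp⟩
  | exp a => exact ⟨a.toNat, by rw [exp_le_exp]; exact Int.self_le_toNat a⟩

lemma zm0_finset_bound {ι : Type*} (s : Finset ι) (f : ι → ZM0) :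
    ∃ M : ℕ, ∀ i ∈ s, f i ≤ exp (M : ℤ) := by
  classical
  induction s using Finset.induction_on with
  | empty => exact ⟨0, by simp⟩
  | insert a s _ ih =>
    obtain ⟨M, hM⟩ := ih
    obtain ⟨M', hM'⟩ := zm0_exists_le_exp (f a)
    refine ⟨max M M', fun i hi => ?_⟩
    rcases Finset.mem_insert.mp hi with rfl | hi
    · exact hM'.trans (by rw [exp_le_exp]; exact_mod_cast le_max_right M M')
    · exact (hM i hi).trans (by rw [exp_le_exp]; exact_mod_cast le_max_left M M')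

end ZM0

section Sep

variable {k K : Type*} [Field k] [Field K] [Algebra k K]

lemma val_eq_one_of_le {P Q : Place k K} (h : ∀ y, P.1 y ≤ 1 → Q.1 y ≤ 1) {u : K}
    (hu : P.1 u = 1) : Q.1 u = 1 := by
  have hu0 : u ≠ 0 := by rintro rfl; simp at hu
  have h1 : Q.1 u ≤ 1 := h u hu.le
  have h2 : Q.1 u⁻¹ ≤ 1 := h u⁻¹ (by rw [map_inv₀, hu, inv_one])
  have h3 : Q.1 u * Q.1 u⁻¹ = 1 := by rw [← map_mul, mul_inv_cancel₀ hu0, map_one]
  apply le_antisymm h1
  calc (1 : ZM0) = Q.1 u * Q.1 u⁻¹ := h3.symm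
    _ ≤ Q.1 u * 1 := mul_le_mul' le_rfl h2
    _ = _ := mul_one _

/-- Valuation rings of places are incomparable. -/
lemma place_eq_of_le {P Q : Place k K} (h : ∀ y, P.1 y ≤ 1 → Q.1 y ≤ 1) : P = Q := by
  obtain ⟨t, ht⟩ := exists_unif P
  have ht0 := unif_ne_zero ht
  -- every y is t^j * unit
  have key : ∀ y : K, y ≠ 0 → Q.1 y = Q.1 t ^ (P.ord y) := by
    intro y hy
    have hu : P.1 (y / t ^ (P.ord y)) = 1 := by
      rw [map_div₀, map_zpow₀, ht, val_eq_exp_neg_ord P hy, zm0_exp_zpow, mul_neg_one,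
        div_self exp_ne_zero]
    have := val_eq_one_of_le h hu
    rw [map_div₀, map_zpow₀, div_eq_one_iff_eq] at this
    · exact this
    · exact zpow_ne_zero _ ((Valuation.ne_zero_iff _).mpr ht0)
  have hq0 : Q.1 t ≠ 0 := (Valuation.ne_zero_iff _).mpr ht0
  have hq1 : Q.1 t ≤ 1 := h t (by rw [ht, ← exp_zero, exp_le_exp]; norm_num)
  obtain ⟨s, hs⟩ := exists_unif Q
  have hs0 := unif_ne_zero hs
  have hqs := key s hs0
  rw [hs] at hqs
  -- Q t = exp a
  obtain ⟨a, ha⟩ : ∃ a : ℤ, Q.1 t = exp a := ⟨log (Q.1 t), (exp_log hq0).symm⟩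
  rw [ha, zm0_exp_zpow, exp_inj] at hqs
  rw [ha, ← exp_zero, exp_le_exp] at hq1
  have ha1 : a = -1 := by
    have hunit : IsUnit a := IsUnit.of_mul_eq_one (-(P.ord s)) (by linarith)
    rcases Int.isUnit_iff.mp hunit with h1 | h1
    · omega
    · exact h1
  have hfun : ∀ y : K, P.1 y = Q.1 y := by
    intro y
    by_cases hy : y = 0
    · simp [hy]
    rw [key y hy, ha, ha1, zm0_exp_zpow, mul_neg_one, val_eq_exp_neg_ord P hy]
  exact Subtype.ext (Valuation.ext hfun)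

lemma exists_sep_two {P Q : Place k K} (h : P ≠ Q) : ∃ z : K, P.1 z < 1 ∧ 1 < Q.1 z := by
  have h1 : ∃ y, P.1 y ≤ 1 ∧ 1 < Q.1 y := by
    by_contra hcon
    push Not at hcon
    exact h (place_eq_of_le hcon)
  have h2 : ∃ y, Q.1 y ≤ 1 ∧ 1 < P.1 y := by
    by_contra hcon
    push Not at hcon
    exact h (place_eq_of_le hcon).symm
  obtain ⟨y₁, hy₁, hy₁'⟩ := h1
  obtain ⟨y₂, hy₂, hy₂'⟩ := h2
  have hy20 : y₂ ≠ 0 := by rintro rfl; simp at hy₂'
  have hP2 : 0 < P.1 y₂ := zero_lt_iff.mpr ((Valuation.ne_zero_iff _).mpr hy20)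
  have hQ2 : 0 < Q.1 y₂ := zero_lt_iff.mpr ((Valuation.ne_zero_iff _).mpr hy20)
  refine ⟨y₁ / y₂, ?_, ?_⟩
  · rw [map_div₀, div_lt_one₀ hP2]; exact lt_of_le_of_lt hy₁ hy₂'
  · rw [map_div₀, one_lt_div₀ hQ2]; exact lt_of_le_of_lt hy₂ hy₁'

/-- Step 1 of weak approximation. -/
lemma exists_sep_finset (P₁ : Place k K) (s : Finset (Place k K)) (h : P₁ ∉ s) :
    ∃ u : K, P₁.1 u < 1 ∧ ∀ Q ∈ s, 1 < Q.1 u := by
  classical
  induction s using Finset.induction_on with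
  | empty => exact ⟨0, by simp, by simp⟩
  | insert Q' s hQ' ih =>
    have hP₁s : P₁ ∉ s := fun h' => h (Finset.mem_insert_of_mem h')
    have hne : P₁ ≠ Q' := fun h' => h (h' ▸ Finset.mem_insert_self _ _)
    obtain ⟨y, hy1, hys⟩ := ih hP₁s
    obtain ⟨z, hz1, hz2⟩ := exists_sep_two hne
    by_cases hQy : 1 < Q'.1 y
    · refine ⟨y, hy1, fun Q hQ => ?_⟩
      rcases Finset.mem_insert.mp hQ with rfl | hQ
      · exact hQy
      · exact hys Q hQ
    push Not at hQy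
    -- choose r large
    have hr : ∃ r₀ : ℕ, ∀ Q ∈ s, ∀ r : ℕ, r₀ ≤ r → 1 < Q.1 z → Q.1 y < Q.1 z ^ r := by
      have : ∀ Q : Place k K, ∃ r₀ : ℕ, ∀ r : ℕ, r₀ ≤ r → 1 < Q.1 z → Q.1 y < Q.1 z ^ r := by
        intro Q
        by_cases hQz : 1 < Q.1 z
        · obtain ⟨r₀, hr₀⟩ := zm0_archimedean (Q.1 z) (Q.1 y) hQz
          exact ⟨r₀, fun r hr _ => hr₀ r hr⟩
        · exact ⟨0, fun r _ h' => absurd h' hQz⟩
      choose r₀ hr₀ using this
      exact ⟨s.sup r₀, fun Q hQ r hr => hr₀ Q r ((Finset.le_sup hQ).trans hr)⟩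
    obtain ⟨r₀, hr₀⟩ := hr
    let r := r₀ + 1
    refine ⟨y + z ^ r, ?_, fun Q hQ => ?_⟩
    · apply Valuation.map_add_lt _ hy1
      rw [map_pow]; exact pow_lt_one' hz1 (by omega)
    · rcases Finset.mem_insert.mp hQ with rfl | hQ
      · have : Q.1 y < Q.1 (z ^ r) := by
          rw [map_pow]; exact lt_of_le_of_lt hQy (one_lt_pow' hz2 (by omega))
        rw [Valuation.map_add_eq_of_lt_right _ this, map_pow]
        exact one_lt_pow' hz2 (by omega)
      · by_cases hQz : 1 < Q.1 z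
        · have : Q.1 y < Q.1 (z ^ r) := by
            rw [map_pow]; exact hr₀ Q hQ r (by omega) hQz
          rw [Valuation.map_add_eq_of_lt_right _ this]
          exact lt_trans (hys Q hQ) this
        · push Not at hQz
          have : Q.1 (z ^ r) < Q.1 y := by
            rw [map_pow]; exact lt_of_le_of_lt (pow_le_one' hQz r) (hys Q hQ)
          rw [Valuation.map_add_eq_of_lt_left _ this]
          exact hys Q hQ

/-- Step 2 of weak approximation. -/
lemma exists_approx_one (P₁ : Place k K) (s : Finset (Place k K)) (h : P₁ ∉ s) (N : ℕ) :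
    ∃ w : K, P₁.1 (w - 1) ≤ exp (-(N : ℤ)) ∧ ∀ Q ∈ s, Q.1 w ≤ exp (-(N : ℤ)) := by
  obtain ⟨u, hu1, hus⟩ := exists_sep_finset P₁ s h
  let r := N + 1
  have hP1 : P₁.1 (u ^ r) < 1 := by rw [map_pow]; exact pow_lt_one' hu1 (by omega)
  have hP2 : P₁.1 (1 + u ^ r) = 1 := by
    rw [Valuation.map_add_eq_of_lt_left _ (by rw [map_one]; exact hP1), map_one]
  have hne : 1 + u ^ r ≠ 0 := by
    intro h0; rw [h0, map_zero] at hP2; exact zero_ne_one hP2
  refine ⟨(1 + u ^ r)⁻¹, ?_, fun Q hQ => ?_⟩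
  · have e : (1 + u ^ r)⁻¹ - 1 = -(u ^ r) / (1 + u ^ r) := by
      field_simp; ring
    rw [e, map_div₀, hP2, div_one, Valuation.map_neg, map_pow]
    have h1 : P₁.1 u ≤ exp (-1 : ℤ) := zm0_lt_one_iff.mp hu1
    calc P₁.1 u ^ r ≤ (exp (-1 : ℤ) : ZM0) ^ r := pow_le_pow_left' h1 r
      _ = exp (-(r : ℤ)) := by rw [zm0_exp_pow]; simp
      _ ≤ exp (-(N : ℤ)) := by rw [exp_le_exp]; simp [r]
  · have hQ1 : 1 < Q.1 (u ^ r) := by rw [map_pow]; exact one_lt_pow' (hus Q hQ) (by omega)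
    have hQ2 : Q.1 (1 + u ^ r) = Q.1 u ^ r := by
      rw [Valuation.map_add_eq_of_lt_right _ (by rw [map_one]; exact hQ1), map_pow]
    rw [map_inv₀, hQ2]
    have h1 : exp (1 : ℤ) ≤ Q.1 u := zm0_one_lt_iff.mp (hus Q hQ)
    have h2 : (exp (r : ℤ) : ZM0) ≤ Q.1 u ^ r := by
      calc (exp (r : ℤ) : ZM0) = (exp (1 : ℤ) : ZM0) ^ r := by rw [zm0_exp_pow]; simp
        _ ≤ Q.1 u ^ r := pow_le_pow_left' h1 r
    calc (Q.1 u ^ r)⁻¹ ≤ (exp (r : ℤ) : ZM0)⁻¹ := by
          rw [inv_le_inv₀ (lt_of_lt_of_le exp_pos h2) exp_pos]; exact h2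
      _ = exp (-(r : ℤ)) := by rw [exp_neg]
      _ ≤ exp (-(N : ℤ)) := by rw [exp_le_exp]; simp [r]

/-- Step 3 of weak approximation. -/
lemma exists_approx (s : Finset (Place k K)) (y : Place k K → K) (N : ℤ) :
    ∃ z : K, ∀ P ∈ s, P.1 (z - y P) ≤ exp (-N) := by
  classical
  obtain ⟨M, hM⟩ := zm0_finset_bound (s ×ˢ s) (fun PQ => PQ.2.1 (y PQ.1))
  have hM' : ∀ P ∈ s, ∀ Q ∈ s, Q.1 (y P) ≤ exp (M : ℤ) := fun P hP Q hQ =>
    hM (P, Q) (Finset.mem_product.mpr ⟨hP, hQ⟩)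
  let N' : ℕ := (N + M).toNat
  have hN' : (N + M : ℤ) ≤ N' := Int.self_le_toNat _
  have hw : ∀ P : Place k K, ∃ w : K, P.1 (w - 1) ≤ exp (-(N' : ℤ)) ∧
      ∀ Q ∈ s.erase P, Q.1 w ≤ exp (-(N' : ℤ)) := fun P =>
    exists_approx_one P (s.erase P) (Finset.notMem_erase P s) N'
  choose w hw1 hw2 using hw
  have hbound : (exp (M : ℤ) : ZM0) * exp (-(N' : ℤ)) ≤ exp (-N) := by
    rw [← exp_add, exp_le_exp]; omega
  refine ⟨∑ P ∈ s, y P * w P, fun Q hQ => ?_⟩
  have e : ∑ P ∈ s, y P * w P - y Q = y Q * (w Q - 1) + ∑ P ∈ s.erase Q, y P * w P := by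
    rw [← Finset.add_sum_erase s _ hQ]; ring
  rw [e]
  apply Valuation.map_add_le
  · rw [map_mul]
    exact (mul_le_mul' (hM' Q hQ Q hQ) (hw1 Q)).trans hbound
  · apply Valuation.map_sum_le
    intro P hP
    have hP' := Finset.mem_erase.mp hP
    rw [map_mul]
    refine (mul_le_mul' (hM' P hP'.2 Q hQ) (hw2 P Q ?_)).trans hbound
    exact Finset.mem_erase.mpr ⟨hP'.1.symm, hQ⟩

/-- Weak approximation theorem. -/
theorem weak_approx (s : Finset (Place k K)) (x : Place k K → K) (r : Place k K → ℤ) :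
    ∃ y : K, ∀ P ∈ s, P.1 (y - x P) = exp (r P) := by
  classical
  let N : ℤ := 1 + ∑ P ∈ s, |r P|
  have hN : ∀ P ∈ s, -N < r P := by
    intro P hP
    have h1 : |r P| ≤ ∑ P ∈ s, |r P| :=
      Finset.single_le_sum (f := fun P => |r P|) (fun _ _ => abs_nonneg _) hP
    have h2 := neg_abs_le (r P)
    simp only [N]; omega
  obtain ⟨z, hz⟩ := exists_approx s x N
  have hzP : ∀ P : Place k K, ∃ zP : K, P.1 zP = exp (r P) := fun P => P.2.2 _
  choose zP hzP using hzP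
  obtain ⟨z', hz'⟩ := exists_approx s zP N
  refine ⟨z + z', fun P hP => ?_⟩
  have h1 : P.1 (z - x P) < exp (r P) := lt_of_le_of_lt (hz P hP) (exp_lt_exp.mpr (hN P hP))
  have h2 : P.1 (z' - zP P) < P.1 (zP P) := by
    rw [hzP]; exact lt_of_le_of_lt (hz' P hP) (exp_lt_exp.mpr (hN P hP))
  have h3 : P.1 z' = exp (r P) := by
    rw [Valuation.map_eq_of_sub_lt _ h2, hzP]
  have e : z + z' - x P = (z - x P) + z' := by ring
  rw [e, Valuation.map_add_eq_of_lt_right _ (by rw [h3]; exact h1), h3]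

end Sep

end Groth.Agent.Lib.LeadFF
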