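import Mathlib
import Groth.Agent.Lib.LeadFF3

/-! Function fields of one variable, part 4: `∑ ord_P(x) deg P ≤ [K : k(x)]` over zeros of `x`;
finiteness of zeros and poles. -/

namespace Groth.Agent.Lib.LeadFF

open Polynomial FunFld WithZero

section Unif

variable {k K : Type*} [Field k] [Field K] [Algebra k K]

lemma leading_poly_unif {x : K} (hx0 : x ≠ 0) {p : k[X]} (hp : p ≠ 0) :
    ∃ (a : ℕ) (c : k), c ≠ 0 ∧ ∀ v : Valuation K ZM0, TrivOn k v → v x < 1 →
      v (aeval x p - algebraMap k K c * x ^ a) < v x ^ a := by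
  obtain ⟨q, hq, hnd⟩ := p.exists_eq_pow_rootMultiplicity_mul_and_not_dvd hp 0
  rw [C_0, sub_zero] at hq hnd
  have hc : q.coeff 0 ≠ 0 := fun h => hnd (X_dvd_iff.mpr h)
  generalize p.rootMultiplicity 0 = a at hq
  refine ⟨a, q.coeff 0, hc, fun v hk hx => ?_⟩
  have : aeval x p - algebraMap k K (q.coeff 0) * x ^ a =
      x ^ a * (aeval x q - algebraMap k K (q.coeff 0)) := by
    rw [hq]
    simp only [map_mul, map_pow, aeval_X]
    ring
  rw [this, map_mul, map_pow]
  have hvx : v x ^ a ≠ 0 := pow_ne_zero _ ((Valuation.ne_zero_iff v).mpr hx0)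
  calc v x ^ _ * v (aeval x q - algebraMap k K (q.coeff 0))
      < v x ^ _ * 1 := by
        apply mul_lt_mul_of_pos_left (val_aeval_sub_coeff_zero_lt hk hx q)
        exact zero_lt_iff.mpr hvx
    _ = _ := mul_one _

lemma leading_rat_unif {x : K} (hx0 : x ≠ 0) {g : K}
    (hg : g ∈ IntermediateField.adjoin k {x}) (hg0 : g ≠ 0) :
    ∃ (m : ℤ) (c : k), c ≠ 0 ∧ ∀ v : Valuation K ZM0, TrivOn k v → v x < 1 →
      v (g - algebraMap k K c * x ^ m) < v x ^ m := by
  obtain ⟨r, s, rfl⟩ := (IntermediateField.mem_adjoin_simple_iff k g).mp hg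
  have hr : r ≠ 0 := by rintro rfl; simp at hg0
  have hs : s ≠ 0 := by rintro rfl; simp at hg0
  have hs' : aeval x s ≠ 0 := by intro h; rw [h, div_zero] at hg0; exact hg0 rfl
  obtain ⟨a, c, hc, hP⟩ := leading_poly_unif hx0 hr
  obtain ⟨b, d, hd, hQ⟩ := leading_poly_unif hx0 hs
  refine ⟨(a : ℤ) - b, c / d, div_ne_zero hc hd, fun v hk hx => ?_⟩
  have hP := hP v hk hx
  have hQ := hQ v hk hx
  have hvx : v x ≠ 0 := (Valuation.ne_zero_iff v).mpr hx0
  have hQv : v (aeval x s) = v x ^ b := by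
    have := val_of_leading (m := (b : ℤ)) hk hd (by simpa using hQ)
    simpa using this
  have hdK : algebraMap k K d ≠ 0 := by simpa using hd
  have hxb : x ^ b ≠ 0 := pow_ne_zero _ hx0
  have key : aeval x r / aeval x s - algebraMap k K (c / d) * x ^ ((a : ℤ) - b) =
      ((aeval x r - algebraMap k K c * x ^ a) * (algebraMap k K d * x ^ b)
        - algebraMap k K c * x ^ a * (aeval x s - algebraMap k K d * x ^ b))
        / (aeval x s * (algebraMap k K d * x ^ b)) := by
    rw [map_div₀, zpow_sub₀ hx0, zpow_natCast, zpow_natCast]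
    field_simp
    ring
  rw [key, map_div₀, map_mul, map_mul, hk d hd, one_mul, map_pow, hQv, zpow_sub₀ hvx, zpow_natCast,
    zpow_natCast]
  have hnum : v ((aeval x r - algebraMap k K c * x ^ a) * (algebraMap k K d * x ^ b)
        - algebraMap k K c * x ^ a * (aeval x s - algebraMap k K d * x ^ b)) < v x ^ a * v x ^ b := by
    apply Valuation.map_sub_lt
    · rw [map_mul, map_mul, hk d hd, one_mul, map_pow]
      exact mul_lt_mul_of_pos_right hP (zero_lt_iff.mpr (pow_ne_zero _ hvx))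
    · rw [map_mul, map_mul, hk c hc, one_mul, map_pow]
      exact mul_lt_mul_of_pos_left hQ (zero_lt_iff.mpr (pow_ne_zero _ hvx))
  have hden : v x ^ b * v x ^ b ≠ 0 := mul_ne_zero (pow_ne_zero _ hvx) (pow_ne_zero _ hvx)
  rw [div_lt_iff₀ (zero_lt_iff.mpr hden)]
  calc _ < v x ^ a * v x ^ b := hnum
    _ = v x ^ a / v x ^ b * (v x ^ b * v x ^ b) := by
      field_simp

lemma val_rat_le (P : Place k K) {x : K} (hx0 : x ≠ 0) (hx : P.1 x < 1) {g : K}
    (hg : g ∈ IntermediateField.adjoin k {x}) (h1 : P.1 g < 1) : P.1 g ≤ P.1 x := by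
  by_cases hg0 : g = 0
  · simp [hg0]
  obtain ⟨m, hm⟩ := val_rat (place_trivOn P) hx0 hx hg hg0
  have hvx : P.1 x ≠ 0 := (Valuation.ne_zero_iff _).mpr hx0
  rw [hm] at h1 ⊢
  have h0 : 0 ≤ m := zpow_le_one_imp hvx hx h1.le
  have hm1 : 1 ≤ m := by
    rcases h0.eq_or_lt with h | h
    · rw [← h, zpow_zero] at h1; exact absurd h1 (lt_irrefl _)
    · omega
  calc P.1 x ^ m ≤ P.1 x ^ (1 : ℤ) :=
        zpow_le_zpow_right_of_le_one₀ (zero_lt_iff.mpr hvx) hx.le hm1
    _ = P.1 x := zpow_one _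

end Unif

section Zeros

variable {k K : Type*} [Field k] [Field K] [Algebra k K]

lemma val_le_one_of_mem_O (P : Place k K) (w : P.O) : P.1 (w : K) ≤ 1 := w.2

/-- A `k`-combination of lifts of a basis of the residue field with some nonzero coefficient
is a unit at `P`. -/
lemma val_comb_eq_one (P : Place k K) {n : ℕ}
    (B : Module.Basis (Fin n) k (IsLocalRing.ResidueField P.O))
    (sl : Fin n → P.O) (hsl : ∀ j, IsLocalRing.residue P.O (sl j) = B j)
    (z : Fin n → K) (hz : ∀ j, P.1 (z j - (sl j : K)) < 1)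
    (b : Fin n → k) (hb : ∃ j, b j ≠ 0) :
    P.1 (∑ j, algebraMap k K (b j) * z j) = 1 := by
  let w : P.O := ∑ j, b j • sl j
  have hwres : IsLocalRing.residue P.O w = ∑ j, b j • B j := by
    simp only [w, map_sum, residue_smul, hsl]
  have hw1 : P.1 (w : K) = 1 := by
    apply le_antisymm (val_le_one_of_mem_O P w)
    rw [← not_lt, ← residue_eq_zero_iff, hwres]
    intro h0
    obtain ⟨j, hj⟩ := hb
    exact hj (Fintype.linearIndependent_iff.mp B.linearIndependent b h0 j)
  have hwK : (w : K) = ∑ j, algebraMap k K (b j) * (sl j : K) := by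
    simp only [w, AddSubmonoidClass.coe_finsetSum, coe_smul_O]
  have hdiff : P.1 (∑ j, algebraMap k K (b j) * z j - (w : K)) < 1 := by
    rw [hwK, ← Finset.sum_sub_distrib]
    apply Valuation.map_sum_lt _ one_ne_zero
    intro j _
    rw [← mul_sub, map_mul]
    calc P.1 (algebraMap k K (b j)) * P.1 (z j - (sl j : K))
        ≤ 1 * P.1 (z j - (sl j : K)) := mul_le_mul' (P.2.1 _) le_rfl
      _ < 1 := by rw [one_mul]; exact hz j
  have e : ∑ j, algebraMap k K (b j) * z j =
      (∑ j, algebraMap k K (b j) * z j - (w : K)) + (w : K) := by ring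
  rw [e, Valuation.map_add_eq_of_lt_right _ (by rw [hw1]; exact hdiff), hw1]

/-- Stichtenoth 1.3.3: `∑ ord_P(x) deg P ≤ [K : k(x)]` over any finite set of zeros of `x`. -/
theorem sum_ord_mul_deg_le (hK : IsFunctionField k K) {x : K} (hx : Transcendental k x)
    (s : Finset (Place k K)) (hs : ∀ P ∈ s, P.1 x < 1) :
    ∑ P ∈ s, (P.ord x).toNat * P.deg ≤ Module.finrank (IntermediateField.adjoin k {x}) K := by
  classical
  have hx0 : x ≠ 0 := fun h => hx (h ▸ isAlgebraic_zero)
  haveI := finite_over_adjoin hK hx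
  let e : Place k K → ℕ := fun P => (P.ord x).toNat
  have he : ∀ P ∈ s, P.1 x = exp (-(e P : ℤ)) := by
    intro P hP
    have h1 := (ord_pos_iff P hx0).mpr (hs P hP)
    rw [val_eq_exp_neg_ord P hx0]
    simp only [e, Int.toNat_of_nonneg h1.le]
  -- uniformizers
  have ht : ∀ P : Place k K, ∃ t : K, P.1 t = exp (-1 : ℤ) ∧ ∀ Q ∈ s, Q ≠ P → Q.1 t = 1 := by
    intro P
    obtain ⟨t, ht⟩ := weak_approx (insert P s) (fun _ => 0) (fun Q => if Q = P then -1 else 0)
    refine ⟨t, ?_, fun Q hQ hne => ?_⟩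
    · have := ht P (Finset.mem_insert_self _ _); simpa using this
    · have := ht Q (Finset.mem_insert_of_mem hQ); simpa [hne] using this
  choose t ht1 ht2 using ht
  haveI : ∀ P : Place k K, FiniteDimensional k (IsLocalRing.ResidueField P.O) :=
    fun P => residueField_finite hK P
  let B : ∀ P : Place k K, Module.Basis (Fin P.deg) k (IsLocalRing.ResidueField P.O) :=
    fun P => Module.finBasis k _
  have hsl : ∀ (P : Place k K) (j : Fin P.deg), ∃ w : P.O, IsLocalRing.residue P.O w = B P j :=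
    fun P j => IsLocalRing.residue_surjective _
  choose sl hsl using hsl
  have hz : ∀ (P : Place k K) (j : Fin P.deg), ∃ z : K,
      P.1 (z - (sl P j : K)) = exp (-1 : ℤ) ∧ ∀ Q ∈ s, Q ≠ P → Q.1 z = exp (-(e Q : ℤ)) := by
    intro P j
    obtain ⟨z, hz⟩ := weak_approx (insert P s) (fun Q => if Q = P then (sl P j : K) else 0)
      (fun Q => if Q = P then -1 else -(e Q : ℤ))
    refine ⟨z, ?_, fun Q hQ hne => ?_⟩
    · have := hz P (Finset.mem_insert_self _ _); simpa using this
    · have := hz Q (Finset.mem_insert_of_mem hQ); simpa [hne] using this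
  choose z hz1 hz2 using hz
  have hz1' : ∀ (P : Place k K) (j : Fin P.deg), P.1 (z P j - (sl P j : K)) < 1 := fun P j => by
    rw [hz1]; exact zm0_lt_one_iff.mpr le_rfl
  have hzle : ∀ (P : Place k K) (j : Fin P.deg), P.1 (z P j) ≤ 1 := fun P j => by
    have e1 : z P j = (z P j - (sl P j : K)) + (sl P j : K) := by ring
    rw [e1]
    exact Valuation.map_add_le _ (hz1' P j).le (val_le_one_of_mem_O P _)
  let ι := Σ p : s, Fin (p : Place k K).deg × Fin (e p)
  let y : ι → K := fun i => t i.1 ^ (i.2.2 : ℕ) * z i.1 i.2.1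
  suffices hli : LinearIndependent (IntermediateField.adjoin k {x}) y by
    have := hli.fintype_card_le_finrank
    simp only [ι, Fintype.card_sigma, Fintype.card_prod, Fintype.card_fin] at this
    rw [Finset.sum_coe_sort s (fun P => P.deg * e P)] at this
    calc _ = ∑ P ∈ s, P.deg * e P := Finset.sum_congr rfl (fun P _ => mul_comm _ _)
      _ ≤ _ := this
  rw [Fintype.linearIndependent_iff]
  intro g hg
  by_contra hne
  push Not at hne
  obtain ⟨i₀, hi₀⟩ := hne
  -- Step A : normalization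
  have hlead : ∀ i : ι, ∃ (m : ℤ) (c : k), (g i ≠ 0 → c ≠ 0 ∧
      ∀ P ∈ s, P.1 ((g i : K) - algebraMap k K c * x ^ m) < P.1 x ^ m) := by
    intro i
    by_cases hgi : g i = 0
    · exact ⟨0, 0, fun h => absurd hgi h⟩
    · obtain ⟨m, c, hc, h⟩ := leading_rat_unif hx0 (g i).2 (by simpa using hgi)
      exact ⟨m, c, fun _ => ⟨hc, fun P hP => h P.1 (place_trivOn P) (hs P hP)⟩⟩
  choose m c hmc using hlead
  let T : Finset ι := Finset.univ.filter (fun i => g i ≠ 0)
  obtain ⟨i₁, hi₁T, hmin⟩ := Finset.exists_min_image T m ⟨i₀, by simp [T, hi₀]⟩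
  have hgi₁ : g i₁ ≠ 0 := (Finset.mem_filter.mp hi₁T).2
  let m₀ := m i₁
  let h : ι → K := fun i => (g i : K) / x ^ m₀
  let b : ι → k := fun i => if g i ≠ 0 ∧ m i = m₀ then c i else 0
  have hb₁ : b i₁ ≠ 0 := by
    have : b i₁ = c i₁ := if_pos ⟨hgi₁, rfl⟩
    rw [this]; exact (hmc i₁ hgi₁).1
  have hsum : ∑ i, h i * y i = 0 := by
    have : ∑ i, (g i : K) * y i = 0 := by simpa [IntermediateField.smul_def] using hg
    simp only [h, div_mul_eq_mul_div]
    rw [← Finset.sum_div, this, zero_div]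
  have hhb : ∀ P ∈ s, ∀ i, P.1 (h i - algebraMap k K (b i)) ≤ P.1 x := by
    intro P hP i
    have hxP := hs P hP
    have hvx : P.1 x ≠ 0 := (Valuation.ne_zero_iff _).mpr hx0
    have hmem : h i - algebraMap k K (b i) ∈ IntermediateField.adjoin k {x} :=
      sub_mem (div_mem (g i).2 (zpow_mem (IntermediateField.mem_adjoin_simple_self k x) _))
        (IntermediateField.algebraMap_mem _ _)
    apply val_rat_le P hx0 hxP hmem
    by_cases hgi : g i = 0
    · have hb0 : b i = 0 := if_neg (fun h' => h'.1 hgi)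
      simp [h, hb0, hgi]
    obtain ⟨hc, hl⟩ := hmc i hgi
    have hl := hl P hP
    have hmi : m₀ ≤ m i := hmin i (by simp [T, hgi])
    by_cases hmeq : m i = m₀
    · have hb : b i = c i := if_pos ⟨hgi, hmeq⟩
      rw [hb]
      have hxm : x ^ m₀ ≠ 0 := zpow_ne_zero _ hx0
      have e1 : h i - algebraMap k K (c i) =
          ((g i : K) - algebraMap k K (c i) * x ^ m i) / x ^ m₀ := by
        rw [hmeq]; simp only [h]; field_simp
      rw [e1, map_div₀, map_zpow₀, div_lt_one₀ (zero_lt_iff.mpr (zpow_ne_zero _ hvx)), ← hmeq]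
      exact hl
    · have hb : b i = 0 := if_neg (fun h' => hmeq h'.2)
      rw [hb, map_zero, sub_zero]
      have hv := val_of_leading (place_trivOn P) hc hl
      simp only [h]
      rw [map_div₀, map_zpow₀, hv, ← zpow_sub₀ hvx]
      have h1 : 1 ≤ m i - m₀ := by omega
      calc P.1 x ^ (m i - m₀) ≤ P.1 x ^ (1 : ℤ) :=
            zpow_le_zpow_right_of_le_one₀ (zero_lt_iff.mpr hvx) hxP.le h1
        _ = P.1 x := zpow_one _
        _ < 1 := hxP
  -- values of the y's
  have hy_le : ∀ (p : s) (i : ι), (p : Place k K).1 (y i) ≤ 1 := by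
    intro p i
    simp only [y]
    rw [map_mul, map_pow]
    by_cases hip : i.1 = p
    · rw [← hip]
      refine mul_le_one' (pow_le_one' ?_ _) (hzle _ _)
      rw [ht1]; exact (zm0_lt_one_iff.mpr le_rfl).le
    · have hne' : (p : Place k K) ≠ (i.1 : Place k K) := fun h' => hip (Subtype.ext h'.symm)
      rw [ht2 i.1 p p.2 hne', one_pow, one_mul, hz2 i.1 i.2.1 p p.2 hne']
      rw [← exp_zero, exp_le_exp]; omega
  have hy_other : ∀ (p : s) (i : ι), i.1 ≠ p → (p : Place k K).1 (y i) = (p : Place k K).1 x := by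
    intro p i hip
    simp only [y]
    have hne' : (p : Place k K) ≠ (i.1 : Place k K) := fun h' => hip (Subtype.ext h'.symm)
    rw [map_mul, map_pow, ht2 i.1 p p.2 hne', one_pow, one_mul, hz2 i.1 i.2.1 p p.2 hne',
      he p p.2]
  -- total sum is small
  have htotal : ∀ p : s, (p : Place k K).1 (∑ i, algebraMap k K (b i) * y i) ≤
      (p : Place k K).1 x := by
    intro p
    have e1 : ∑ i, algebraMap k K (b i) * y i = ∑ i, (algebraMap k K (b i) - h i) * y i := by
      simp only [sub_mul, Finset.sum_sub_distrib, hsum, sub_zero]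
    rw [e1]
    apply Valuation.map_sum_le
    intro i _
    rw [map_mul, Valuation.map_sub_swap]
    calc _ ≤ (p : Place k K).1 x * 1 := mul_le_mul' (hhb p p.2 i) (hy_le p i)
      _ = _ := mul_one _
  -- Step B : all b vanish
  have hball : ∀ i, b i = 0 := by
    rintro ⟨p, j₀, a₀'⟩
    by_contra hbne
    let u : Fin (e p) → K := fun a => ∑ j, algebraMap k K (b ⟨p, (j, a)⟩) * z p j
    let W : K := ∑ a : Fin (e p), t p ^ (a : ℕ) * u a
    have hsplit : ∑ i, algebraMap k K (b i) * y i = ∑ p' : s,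
        ∑ ja : Fin (p' : Place k K).deg × Fin (e p'), algebraMap k K (b ⟨p', ja⟩) * y ⟨p', ja⟩ :=
      Fintype.sum_sigma _
    have hWp : W = ∑ ja : Fin (p : Place k K).deg × Fin (e p),
        algebraMap k K (b ⟨p, ja⟩) * y ⟨p, ja⟩ := by
      rw [Fintype.sum_prod_type_right]
      apply Finset.sum_congr rfl
      intro a _
      simp only [u, y, Finset.mul_sum]
      apply Finset.sum_congr rfl
      intro j _
      ring
    have hother : ∀ p' : s, p' ≠ p → (p : Place k K).1
        (∑ ja, algebraMap k K (b ⟨p', ja⟩) * y ⟨p', ja⟩) ≤ (p : Place k K).1 x := by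
      intro p' hp'
      apply Valuation.map_sum_le
      intro ja _
      rw [map_mul, hy_other p ⟨p', ja⟩ hp']
      calc _ ≤ 1 * (p : Place k K).1 x := mul_le_mul' ((p : Place k K).2.1 _) le_rfl
        _ = _ := one_mul _
    have hW : (p : Place k K).1 W ≤ (p : Place k K).1 x := by
      have e1 : W = ∑ i, algebraMap k K (b i) * y i - ∑ p' ∈ Finset.univ.erase p,
          ∑ ja, algebraMap k K (b ⟨p', ja⟩) * y ⟨p', ja⟩ := by
        rw [hsplit, hWp, eq_sub_iff_add_eq]
        exact Finset.add_sum_erase Finset.univ (fun p' : s =>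
          ∑ ja : Fin (p' : Place k K).deg × Fin (e p'),
            algebraMap k K (b ⟨p', ja⟩) * y ⟨p', ja⟩) (Finset.mem_univ p)
      rw [e1]
      apply Valuation.map_sub_le _ (htotal p)
      apply Valuation.map_sum_le
      intro p' hp'
      exact hother p' (Finset.ne_of_mem_erase hp')
    -- the minimal a with a nonzero coefficient
    let A : Finset (Fin (e p)) := Finset.univ.filter (fun a => ∃ j, b ⟨p, (j, a)⟩ ≠ 0)
    have hA : A.Nonempty := ⟨a₀', by
      simp only [A, Finset.mem_filter, Finset.mem_univ, true_and]; exact ⟨j₀, hbne⟩⟩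
    obtain ⟨a₀, ha₀A, ha₀min⟩ := Finset.exists_min_image A (fun a => (a : ℕ)) hA
    have hu_le : ∀ a, (p : Place k K).1 (u a) ≤ 1 := by
      intro a
      apply Valuation.map_sum_le
      intro j _
      rw [map_mul]
      exact mul_le_one' ((p : Place k K).2.1 _) (hzle _ _)
    have hu_zero : ∀ a, a ∉ A → u a = 0 := by
      intro a ha
      simp only [A, Finset.mem_filter, Finset.mem_univ, true_and, not_exists, not_not] at ha
      simp only [u, ha, map_zero, zero_mul, Finset.sum_const_zero]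
    have hu_one : (p : Place k K).1 (u a₀) = 1 := by
      have hex : ∃ j, b ⟨p, (j, a₀)⟩ ≠ 0 := by simpa [A] using ha₀A
      exact val_comb_eq_one p (B p) (sl p) (hsl p) (z p) (hz1' p) (fun j => b ⟨p, (j, a₀)⟩) hex
    have hWval : (p : Place k K).1 W = exp (-((a₀ : ℕ) : ℤ)) := by
      have hterm : (p : Place k K).1 (t p ^ (a₀ : ℕ) * u a₀) = exp (-((a₀ : ℕ) : ℤ)) := by
        rw [map_mul, map_pow, ht1, hu_one, mul_one, zm0_exp_pow]; simp
      rw [← hterm]
      apply Valuation.map_sum_eq_of_lt _ (Finset.mem_univ a₀)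
      intro a ha
      rw [hterm]
      have hane : a ≠ a₀ := by simpa using ha
      by_cases haA : a ∈ A
      · have h1 : (a₀ : ℕ) ≤ a := ha₀min a haA
        have h2 : (a₀ : ℕ) < a := lt_of_le_of_ne h1 (fun h' => hane (Fin.ext h'.symm))
        rw [map_mul, map_pow, ht1, zm0_exp_pow]
        calc exp (((a : ℕ) : ℤ) * (-1 : ℤ)) * (p : Place k K).1 (u a)
            ≤ exp (((a : ℕ) : ℤ) * (-1 : ℤ)) * 1 := mul_le_mul' le_rfl (hu_le a)
          _ = exp (((a : ℕ) : ℤ) * (-1 : ℤ)) := mul_one _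
          _ < exp (-((a₀ : ℕ) : ℤ)) := by rw [exp_lt_exp]; omega
      · rw [hu_zero a haA, mul_zero, map_zero]; exact exp_pos
    rw [hWval, he p p.2, exp_le_exp] at hW
    have := a₀.2
    omega
  exact hb₁ (hball i₁)

end Zeros

end Groth.Agent.Lib.LeadFF
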