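import Mathlib
import Groth.Agent.Lib.LeadFF5

/-! Function fields of one variable, part 6: divisors, `L(D)` finite-dimensional,
`ℓ(D₂) - ℓ(D₁) ≤ deg D₂ - deg D₁`. -/

namespace Groth.Agent.Lib.LeadFF

open FunFld WithZero

section DivBasics

variable {k K : Type*} [Field k] [Field K] [Algebra k K]

lemma deg_add (D E : Divisor k K) : (D + E).deg = D.deg + E.deg := by
  unfold Divisor.deg
  exact Finsupp.sum_add_index' (fun _ => by simp) (fun _ a b => by ring)

lemma deg_zero : (0 : Divisor k K).deg = 0 := by simp [Divisor.deg]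

lemma deg_single (P : Place k K) (n : ℤ) :
    Divisor.deg (Finsupp.single P n : Divisor k K) = n * P.deg := by
  unfold Divisor.deg
  rw [Finsupp.sum_single_index]; simp

lemma deg_neg (D : Divisor k K) : (-D).deg = -D.deg := by
  have := deg_add D (-D); rw [add_neg_cancel, deg_zero] at this; linarith

lemma deg_sub (D E : Divisor k K) : (D - E).deg = D.deg - E.deg := by
  rw [sub_eq_add_neg, deg_add, deg_neg]; ring

/-- total multiplicity of a divisor. -/
noncomputable def tot (D : Divisor k K) : ℤ := D.sum fun _ n => n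

lemma tot_add (D E : Divisor k K) : tot (D + E) = tot D + tot E := by
  unfold tot
  exact Finsupp.sum_add_index' (fun _ => rfl) (fun _ a b => rfl)

lemma tot_zero : tot (0 : Divisor k K) = 0 := by simp [tot]

lemma tot_single (P : Place k K) (n : ℤ) : tot (Finsupp.single P n : Divisor k K) = n := by
  unfold tot
  rw [Finsupp.sum_single_index]; rfl

lemma tot_neg (D : Divisor k K) : tot (-D) = -tot D := by
  have := tot_add D (-D); rw [add_neg_cancel, tot_zero] at this; linarith

lemma tot_sub (D E : Divisor k K) : tot (D - E) = tot D - tot E := by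
  rw [sub_eq_add_neg, tot_add, tot_neg]; ring

lemma tot_nonneg {D : Divisor k K} (h : 0 ≤ D) : 0 ≤ tot D :=
  Finsupp.sum_nonneg (fun P _ => h P)

lemma eq_zero_of_tot_eq_zero {D : Divisor k K} (h : 0 ≤ D) (h0 : tot D = 0) : D = 0 := by
  unfold tot Finsupp.sum at h0
  have := (Finset.sum_eq_zero_iff_of_nonneg (fun P _ => h P)).mp h0
  ext P
  by_cases hP : P ∈ D.support
  · exact this P hP
  · simpa using hP

lemma exists_pos_of_tot_pos {D : Divisor k K} (h : 0 ≤ D) (h0 : 0 < tot D) : ∃ P, 0 < D P := by
  by_contra hcon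
  push Not at hcon
  have : D = 0 := by
    ext P; exact le_antisymm (hcon P) (h P)
  rw [this, tot_zero] at h0
  exact lt_irrefl _ h0

lemma deg_nonneg (D : Divisor k K) (h : 0 ≤ D) : 0 ≤ D.deg :=
  Finsupp.sum_nonneg (fun P _ => mul_nonneg (h P) (Int.natCast_nonneg _))

end DivBasics

section LinAlg

variable {k : Type*} [Field k]

lemma finite_of_ker_of_codomain {V W : Type*} [AddCommGroup V] [Module k V] [AddCommGroup W]
    [Module k W] [FiniteDimensional k W] (f : V →ₗ[k] W)
    [FiniteDimensional k (LinearMap.ker f)] :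
    FiniteDimensional k V ∧
      Module.finrank k V = Module.finrank k (LinearMap.ker f) + Module.finrank k (LinearMap.range f) := by
  haveI : Module.Finite k (V ⧸ LinearMap.ker f) := Module.Finite.equiv f.quotKerEquivRange.symm
  haveI : Module.Finite k V := Module.Finite.of_submodule_quotient (LinearMap.ker f)
  refine ⟨inferInstance, ?_⟩
  have := LinearMap.finrank_range_add_finrank_ker f
  omega

end LinAlg

section LSpaces

variable {k K : Type*} [Field k] [Field K] [Algebra k K]

lemma mem_L {D : Divisor k K} {x : K} : x ∈ L D ↔ ∀ P : Place k K, P.1 x ≤ exp (D P) := Iff.rfl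

lemma L_mono {D E : Divisor k K} (h : D ≤ E) : L D ≤ L E :=
  fun _ hx P => (hx P).trans (exp_le_exp.mpr (h P))

lemma val_unif_zpow_mul {P : Place k K} {t : K} (ht : P.1 t = exp (-1 : ℤ)) (n : ℤ) (x : K) :
    P.1 (t ^ n * x) = (exp n)⁻¹ * P.1 x := by
  rw [map_mul, map_zpow₀, ht, zm0_exp_zpow, mul_neg_one, exp_neg]

lemma val_unif_mul_le_one_iff {P : Place k K} {t : K} (ht : P.1 t = exp (-1 : ℤ)) (n : ℤ) (x : K) :
    P.1 (t ^ n * x) ≤ 1 ↔ P.1 x ≤ exp n := by
  rw [val_unif_zpow_mul ht, inv_mul_le_iff₀ exp_pos, mul_one]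

lemma val_unif_mul_lt_one_iff {P : Place k K} {t : K} (ht : P.1 t = exp (-1 : ℤ)) (n : ℤ) (x : K) :
    P.1 (t ^ n * x) < 1 ↔ P.1 x < exp n := by
  rw [val_unif_zpow_mul ht, inv_mul_lt_iff₀ exp_pos, mul_one]

lemma resMap_mem (D : Divisor k K) (P : Place k K) (t : K) (ht : P.1 t = exp (-1 : ℤ))
    (x : L (D + Finsupp.single P 1)) : t ^ (D P + 1) * (x : K) ∈ P.O := by
  rw [Valuation.mem_valuationSubring_iff, val_unif_mul_le_one_iff ht]
  have := x.2 P
  simpa using this

/-- The residue map `L(D + P) → κ(P)`, `x ↦ (t^{D(P)+1} x) mod P`. -/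
noncomputable def resMap (D : Divisor k K) (P : Place k K) (t : K) (ht : P.1 t = exp (-1 : ℤ)) :
    L (D + Finsupp.single P 1) →ₗ[k] IsLocalRing.ResidueField P.O where
  toFun x := IsLocalRing.residue P.O ⟨t ^ (D P + 1) * (x : K), resMap_mem D P t ht x⟩
  map_add' x y := by
    rw [← map_add]
    congr 1
    apply Subtype.ext
    simp [mul_add]
  map_smul' c x := by
    have h : (⟨t ^ (D P + 1) * ((c • x : L (D + Finsupp.single P 1)) : K),
        resMap_mem D P t ht (c • x)⟩ : P.O) =
        c • (⟨t ^ (D P + 1) * (x : K), resMap_mem D P t ht x⟩ : P.O) := by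
      apply Subtype.ext
      rw [coe_smul_O]
      simp only [Submodule.coe_smul, Algebra.smul_def]
      ring
    rw [RingHom.id_apply, h, residue_smul]
    rfl

lemma resMap_apply_eq_zero_iff (D : Divisor k K) (P : Place k K) (t : K)
    (ht : P.1 t = exp (-1 : ℤ)) (x : L (D + Finsupp.single P 1)) :
    resMap D P t ht x = 0 ↔ P.1 (x : K) ≤ exp (D P) := by
  show IsLocalRing.residue P.O _ = 0 ↔ _
  rw [residue_eq_zero_iff]
  show P.1 (t ^ (D P + 1) * (x : K)) < 1 ↔ _
  rw [val_unif_mul_lt_one_iff ht, zm0_lt_exp_iff, add_sub_cancel_right]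

lemma ker_resMap (D : Divisor k K) (P : Place k K) (t : K) (ht : P.1 t = exp (-1 : ℤ)) :
    LinearMap.ker (resMap D P t ht) =
      Submodule.comap (L (D + Finsupp.single P 1)).subtype (L D) := by
  classical
  ext x
  rw [LinearMap.mem_ker, resMap_apply_eq_zero_iff, Submodule.mem_comap]
  constructor
  · intro h Q
    by_cases hQ : Q = P
    · subst hQ; exact h
    · have := x.2 Q
      simpa [Finsupp.single_eq_of_ne hQ] using this
  · intro h; exact h P

lemma L_step (hK : IsFunctionField k K) (D : Divisor k K) (P : Place k K)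
    [FiniteDimensional k (L D)] :
    FiniteDimensional k (L (D + Finsupp.single P 1)) ∧
      ell (D + Finsupp.single P 1) ≤ ell D + P.deg := by
  obtain ⟨t, ht⟩ := exists_unif P
  haveI := residueField_finite hK P
  have hle : L D ≤ L (D + Finsupp.single P 1) := L_mono (by
    intro Q; simp only [Finsupp.coe_add, Pi.add_apply]
    have : (0 : ℤ) ≤ (Finsupp.single P (1 : ℤ)) Q := by
      classical
      by_cases hQ : Q = P
      · subst hQ; simp
      · simp [Finsupp.single_eq_of_ne hQ]
    linarith)
  have e := Submodule.comapSubtypeEquivOfLe hle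
  haveI : FiniteDimensional k (LinearMap.ker (resMap D P t ht)) := by
    rw [ker_resMap]; exact Module.Finite.equiv e.symm
  obtain ⟨h1, h2⟩ := finite_of_ker_of_codomain (resMap D P t ht)
  refine ⟨h1, ?_⟩
  have h3 : Module.finrank k (LinearMap.ker (resMap D P t ht)) = ell D := by
    rw [ker_resMap]; exact e.finrank_eq
  have h4 : Module.finrank k (LinearMap.range (resMap D P t ht)) ≤ P.deg := by
    show _ ≤ Module.finrank k (IsLocalRing.ResidueField P.O)
    exact Submodule.finrank_le (LinearMap.range (resMap D P t ht))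
  unfold ell at *
  omega

lemma L_induction (hK : IsFunctionField k K) : ∀ (n : ℕ) (D E : Divisor k K), D ≤ E →
    tot (E - D) = n → FiniteDimensional k (L D) →
    FiniteDimensional k (L E) ∧ (ell E : ℤ) - ell D ≤ E.deg - D.deg := by
  intro n
  induction n with
  | zero =>
    intro D E hDE htot hfin
    have : E - D = 0 := eq_zero_of_tot_eq_zero (sub_nonneg.mpr hDE) (by simpa using htot)
    have hE : E = D := sub_eq_zero.mp this
    subst hE
    exact ⟨hfin, by simp⟩
  | succ n ih =>
    intro D E hDE htot hfin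
    have hpos : 0 < tot (E - D) := by rw [htot]; positivity
    obtain ⟨P, hP⟩ := exists_pos_of_tot_pos (sub_nonneg.mpr hDE) hpos
    let E' : Divisor k K := E - Finsupp.single P 1
    have hDE' : D ≤ E' := by
      classical
      intro Q
      simp only [E', Finsupp.coe_sub, Pi.sub_apply]
      by_cases hQ : Q = P
      · subst hQ
        simp only [Finsupp.single_eq_same]
        simp only [Finsupp.coe_sub, Pi.sub_apply] at hP
        omega
      · simp only [Finsupp.single_eq_of_ne hQ, sub_zero]; exact hDE Q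
    have htot' : tot (E' - D) = n := by
      have : E' - D = (E - D) - Finsupp.single P 1 := by simp only [E']; abel
      rw [this, tot_sub, tot_single, htot]; push_cast; ring
    obtain ⟨hfin', hineq⟩ := ih D E' hDE' htot' hfin
    haveI := hfin'
    have hEE' : E' + Finsupp.single P 1 = E := by simp only [E']; abel
    obtain ⟨h1, h2⟩ := L_step hK E' P
    rw [hEE'] at h1 h2
    refine ⟨h1, ?_⟩
    have hdeg : E.deg = E'.deg + P.deg := by
      rw [← hEE', deg_add, deg_single]; ring
    have h2' : (ell E : ℤ) ≤ ell E' + P.deg := by exact_mod_cast h2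
    linarith

/-- positive part bound: every divisor is ≤ a nonnegative one. -/
lemma exists_nonneg_ge (D : Divisor k K) : ∃ E : Divisor k K, 0 ≤ E ∧ D ≤ E :=
  ⟨D ⊔ 0, le_sup_right, le_sup_left⟩

/-- S10976. -/
theorem L_finite (hK : IsFunctionField k K) (D : Divisor k K) : FiniteDimensional k (L D) := by
  obtain ⟨E, hE0, hDE⟩ := exists_nonneg_ge D
  have h0 : FiniteDimensional k (L (0 : Divisor k K)) := by
    rw [L_zero hK, Submodule.one_eq_span]
    infer_instance
  obtain ⟨hE, -⟩ := L_induction hK (tot (E - 0)).toNat 0 E hE0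
    (by rw [Int.toNat_of_nonneg (tot_nonneg (by simpa using hE0))]) h0
  haveI := hE
  exact Submodule.finiteDimensional_of_le (L_mono hDE)

/-- S10977. -/
theorem ell_sub_le (hK : IsFunctionField k K) (D₁ D₂ : Divisor k K) (h : D₁ ≤ D₂) :
    (ell D₂ : ℤ) - ell D₁ ≤ D₂.deg - D₁.deg :=
  (L_induction hK (tot (D₂ - D₁)).toNat D₁ D₂ h
    (by rw [Int.toNat_of_nonneg (tot_nonneg (sub_nonneg.mpr h))]) (L_finite hK D₁)).2

end LSpaces

end Groth.Agent.Lib.LeadFF
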