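import Mathlib
import Groth.Agent.Lib.LeadFF6

/-! Function fields of one variable, part 7: degree of the zero divisor equals `[K : k(x)]`,
principal divisors have degree zero, `L(D) = 0` for `deg D < 0`. -/

namespace Groth.Agent.Lib.LeadFF

open FunFld WithZero Polynomial

section DegZeros

variable {k K : Type*} [Field k] [Field K] [Algebra k K]

/-- degree as an additive hom. -/
noncomputable def degHom : Divisor k K →+ ℤ where
  toFun := Divisor.deg
  map_zero' := deg_zero
  map_add' := deg_add

lemma degHom_apply (D : Divisor k K) : degHom D = D.deg := rfl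

lemma deg_nsmul (l : ℕ) (D : Divisor k K) : (l • D).deg = l * D.deg := by
  rw [← degHom_apply, map_nsmul, degHom_apply]; simp

lemma deg_mono {D E : Divisor k K} (h : D ≤ E) : D.deg ≤ E.deg := by
  have := deg_nonneg (E - D) (sub_nonneg.mpr h)
  rw [deg_sub] at this; linarith

lemma ell_zero (hK : IsFunctionField k K) : ell (0 : Divisor k K) = 1 := by
  unfold ell
  rw [L_zero hK, Submodule.one_eq_span]
  exact finrank_span_singleton one_ne_zero

lemma not_mem_of_transcendental {x : K} (hx : Transcendental k x) :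
    x ∉ Set.range (algebraMap k K) := by
  rintro ⟨c, rfl⟩
  exact hx (isAlgebraic_algebraMap c)

lemma linearIndependent_pow_of_transcendental {y : K} (hy : Transcendental k y) (l : ℕ)
    (S : IntermediateField k K) (hyS : y ∈ S) :
    LinearIndependent k (fun i : Fin (l + 1) => (⟨y, hyS⟩ : S) ^ (i : ℕ)) := by
  rw [Fintype.linearIndependent_iff]
  intro c hc i
  let p : k[X] := ∑ j : Fin (l + 1), C (c j) * X ^ (j : ℕ)
  have h2 : ∑ j : Fin (l + 1), c j • y ^ (j : ℕ) = 0 := by
    have := congrArg (S.val) hc
    simpa using this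
  have hp : aeval y p = 0 := by
    simp only [p, map_sum, map_mul, aeval_C, map_pow, aeval_X]
    rw [← h2]
    apply Finset.sum_congr rfl
    intro j _
    rw [Algebra.smul_def]
  have hp0 : p = 0 := transcendental_iff.mp hy p hp
  have := congrArg (fun q => q.coeff (i : ℕ)) hp0
  simp only [p, finset_sum_coeff, coeff_C_mul_X_pow, coeff_zero] at this
  rw [Finset.sum_eq_single i] at this
  · simpa using this
  · intro j _ hji; rw [if_neg]; intro h; exact hji (Fin.ext h.symm)
  · intro h; exact absurd (Finset.mem_univ i) h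

variable (k) in
/-- the zero divisor of `x`. -/
noncomputable def zdiv (x : K) : Divisor k K := FunFld.div k x ⊔ 0

lemma zdiv_apply (hK : IsFunctionField k K) (x : K) (P : Place k K) :
    zdiv k x P = max (P.ord x) 0 := by
  rw [zdiv, Finsupp.sup_apply, div_apply hK]; rfl

lemma zdiv_nonneg (x : K) : 0 ≤ zdiv k x := le_sup_right

lemma val_ge_of_zdiv (hK : IsFunctionField k K) {x : K} (hx0 : x ≠ 0) (P : Place k K) :
    exp (-(zdiv k x P)) ≤ P.1 x := by
  rw [val_eq_exp_neg_ord P hx0, exp_le_exp, zdiv_apply hK]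
  have := le_max_left (P.ord x) 0; omega

theorem deg_zdiv_le (hK : IsFunctionField k K) {x : K} (hx : Transcendental k x) :
    (zdiv k x).deg ≤ Module.finrank (IntermediateField.adjoin k {x}) K := by
  have hx0 : x ≠ 0 := fun h => hx (h ▸ isAlgebraic_zero)
  have h := sum_ord_mul_deg_le hK hx (zdiv k x).support (fun P hP => by
    rw [Finsupp.mem_support_iff, zdiv_apply hK] at hP
    have : 0 < P.ord x := by
      by_contra h; push Not at h; exact hP (max_eq_right h)
    exact (ord_pos_iff P hx0).mp this)
  have e : (zdiv k x).deg = ((∑ P ∈ (zdiv k x).support, (P.ord x).toNat * P.deg : ℕ) : ℤ) := by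
    unfold Divisor.deg Finsupp.sum
    push_cast
    apply Finset.sum_congr rfl
    intro P _
    rw [zdiv_apply hK, Int.toNat_eq_max]
  rw [e]; exact_mod_cast h

theorem finrank_le_deg_zdiv (hK : IsFunctionField k K) {x : K} (hx : Transcendental k x) :
    (Module.finrank (IntermediateField.adjoin k {x}) K : ℤ) ≤ (zdiv k x).deg := by
  classical
  have hx0 : x ≠ 0 := fun h => hx (h ▸ isAlgebraic_zero)
  haveI := finite_over_adjoin hK hx
  let n := Module.finrank (IntermediateField.adjoin k {x}) K
  have hn : 0 < n := Module.finrank_pos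
  let u : Module.Basis (Fin n) (IntermediateField.adjoin k {x}) K := Module.finBasis _ K
  let Z := zdiv k x
  let C : Divisor k K := ∑ j, ((-FunFld.div k (u j)) ⊔ 0)
  have hC0 : 0 ≤ C := Finset.sum_nonneg (fun j _ => le_sup_right)
  have hZ0 : 0 ≤ Z := zdiv_nonneg x
  have huC : ∀ j P, P.1 (u j) ≤ exp (C P) := by
    intro j P
    have hu0 : u j ≠ 0 := u.ne_zero j
    rw [val_eq_exp_neg_ord P hu0, exp_le_exp]
    have h1 : ((-FunFld.div k (u j)) ⊔ 0) P ≤ C P := by
      have : (-FunFld.div k (u j)) ⊔ 0 ≤ C :=
        Finset.single_le_sum (f := fun j => (-FunFld.div k (u j)) ⊔ 0)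
          (fun j _ => le_sup_right) (Finset.mem_univ j)
      exact this P
    rw [Finsupp.sup_apply, Finsupp.neg_apply, div_apply hK] at h1
    exact le_trans le_sup_left h1
  have key : ∀ l : ℕ, (((l : ℤ) + 1) * n : ℤ) ≤ 1 + l * Z.deg + C.deg := by
    intro l
    let D : Divisor k K := l • Z + C
    have hD0 : 0 ≤ D := add_nonneg (nsmul_nonneg hZ0 l) hC0
    haveI := L_finite hK D
    have hxi : Transcendental k x⁻¹ := transcendental_inv hK (not_mem_of_transcendental hx)
    have hmemF : x⁻¹ ∈ IntermediateField.adjoin k {x} :=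
      inv_mem (IntermediateField.mem_adjoin_simple_self k x)
    have hb := linearIndependent_pow_of_transcendental hxi l _ hmemF
    have hli := linearIndependent_smul hb u.linearIndependent
    have hmem : ∀ p : Fin (l + 1) × Fin n,
        ((⟨x⁻¹, hmemF⟩ : IntermediateField.adjoin k {x}) ^ (p.1 : ℕ)) • u p.2 ∈ L D := by
      intro p P
      rw [IntermediateField.smul_def]
      simp only [SubmonoidClass.mk_pow, smul_eq_mul, map_mul, map_pow, map_inv₀]
      have h1 : (P.1 x)⁻¹ ≤ exp (Z P) := by
        have := val_ge_of_zdiv hK hx0 P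
        rw [exp_neg] at this
        exact (inv_le_comm₀ exp_pos (zero_lt_iff.mpr ((Valuation.ne_zero_iff _).mpr hx0))).mp this
      have h2 : (1 : ZM0) ≤ exp (Z P) := by rw [← exp_zero, exp_le_exp]; exact hZ0 P
      have h3 : (P.1 x)⁻¹ ^ (p.1 : ℕ) ≤ exp (Z P) ^ l :=
        (pow_le_pow_left' h1 _).trans (pow_le_pow_right' h2 (by omega))
      calc (P.1 x)⁻¹ ^ (p.1 : ℕ) * P.1 (u p.2) ≤ exp (Z P) ^ l * exp (C P) :=
            mul_le_mul' h3 (huC _ P)
        _ = exp (D P) := by
            rw [zm0_exp_pow, ← exp_add]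
            simp [D]
    have hli' : LinearIndependent k (fun p : Fin (l + 1) × Fin n =>
        (⟨_, hmem p⟩ : L D)) := by
      apply LinearIndependent.of_comp (L D).subtype
      exact hli
    have hcard := hli'.fintype_card_le_finrank
    simp only [Fintype.card_prod, Fintype.card_fin] at hcard
    have hell := ell_sub_le hK 0 D hD0
    rw [deg_zero, ell_zero hK] at hell
    have hdegD : D.deg = l * Z.deg + C.deg := by simp only [D]; rw [deg_add, deg_nsmul]
    unfold ell at hell
    have h5 : (((l : ℤ) + 1) * n : ℤ) ≤ Module.finrank k (L D) := by exact_mod_cast hcard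
    rw [hdegD] at hell
    push_cast at hell
    linarith
  by_contra hlt
  push Not at hlt
  have hCdeg : 0 ≤ C.deg := deg_nonneg C hC0
  have h6 := key (1 + C.deg).toNat
  have hl : ((1 + C.deg).toNat : ℤ) = 1 + C.deg := Int.toNat_of_nonneg (by linarith)
  rw [hl] at h6
  have h7 : (1 + C.deg) * Z.deg ≤ (1 + C.deg) * ((n : ℤ) - 1) :=
    mul_le_mul_of_nonneg_left (by change Z.deg < (n : ℤ) at hlt; omega) (by linarith)
  have h8 : (0 : ℤ) < n := by exact_mod_cast hn
  nlinarith

theorem deg_zdiv_eq (hK : IsFunctionField k K) {x : K} (hx : Transcendental k x) :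
    (zdiv k x).deg = Module.finrank (IntermediateField.adjoin k {x}) K :=
  le_antisymm (deg_zdiv_le hK hx) (finrank_le_deg_zdiv hK hx)

/-- S10969. -/
theorem deg_zeros (hK : IsFunctionField k K) (x : K) (hx : Transcendental k x) :
    (∑ P ∈ (FunFld.div k x).support with 0 < FunFld.div k x P,
      FunFld.div k x P * (P.deg : ℤ)) =
      Module.finrank (IntermediateField.adjoin k ({x} : Set K)) K := by
  rw [← deg_zdiv_eq hK hx]
  unfold Divisor.deg Finsupp.sum
  have hsupp : (zdiv k x).support = (FunFld.div k x).support.filter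
      (fun P => 0 < FunFld.div k x P) := by
    ext P
    simp only [Finsupp.mem_support_iff, Finset.mem_filter, zdiv, Finsupp.sup_apply,
      Finsupp.coe_zero, Pi.zero_apply]
    constructor
    · intro h
      have : 0 < FunFld.div k x P := by
        by_contra h'; push Not at h'; exact h (max_eq_right h')
      exact ⟨this.ne', this⟩
    · rintro ⟨-, h⟩
      rw [max_eq_left h.le]; exact h.ne'
  rw [hsupp]
  apply Finset.sum_congr rfl
  intro P hP
  have h := (Finset.mem_filter.mp hP).2
  simp only [zdiv, Finsupp.sup_apply, Finsupp.coe_zero, Pi.zero_apply, max_eq_left h.le]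

lemma ord_inv (P : Place k K) (x : K) : P.ord x⁻¹ = -P.ord x := by
  unfold Place.ord
  rw [map_inv₀, log_inv]

lemma adjoin_inv (x : K) :
    IntermediateField.adjoin k {x⁻¹} = IntermediateField.adjoin k {x} := by
  apply le_antisymm
  · rw [IntermediateField.adjoin_simple_le_iff]
    exact inv_mem (IntermediateField.mem_adjoin_simple_self k x)
  · rw [IntermediateField.adjoin_simple_le_iff]
    have := inv_mem (IntermediateField.mem_adjoin_simple_self k x⁻¹)
    rwa [inv_inv] at this

lemma div_eq_zero_of_mem (hK : IsFunctionField k K) {x : K}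
    (hx : x ∈ Set.range (algebraMap k K)) : FunFld.div k x = 0 := by
  ext P
  rw [div_apply hK]
  obtain ⟨c, rfl⟩ := hx
  by_cases hc : c = 0
  · simp [hc, Place.ord]
  · simp [Place.ord, place_trivOn P c hc]

/-- S10968. -/
theorem deg_div (hK : IsFunctionField k K) (x : K) : (FunFld.div k x).deg = 0 := by
  by_cases hmem : x ∈ Set.range (algebraMap k K)
  · rw [div_eq_zero_of_mem hK hmem, deg_zero]
  · have hx := transcendental_of_not_mem hK hmem
    have hxi := transcendental_inv hK hmem
    have e : FunFld.div k x = zdiv k x - zdiv k x⁻¹ := by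
      ext P
      rw [Finsupp.sub_apply, zdiv_apply hK, zdiv_apply hK, div_apply hK, ord_inv]
      rcases le_total (P.ord x) 0 with h | h
      · rw [max_eq_right h, max_eq_left (by omega)]; ring
      · rw [max_eq_left h, max_eq_right (by omega)]; ring
    rw [e, deg_sub, deg_zdiv_eq hK hx, deg_zdiv_eq hK hxi, adjoin_inv, sub_self]

lemma neg_le_div_of_mem_L (hK : IsFunctionField k K) {D : Divisor k K} {x : K} (hx : x ∈ L D)
    (hx0 : x ≠ 0) : -D ≤ FunFld.div k x := by
  intro P
  rw [Finsupp.neg_apply, div_apply hK]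
  have := hx P
  rw [val_eq_exp_neg_ord P hx0, exp_le_exp] at this
  omega

/-- S10980. -/
theorem L_eq_bot_of_deg_neg (hK : IsFunctionField k K) (D : Divisor k K) (h : D.deg < 0) :
    L D = ⊥ := by
  rw [eq_bot_iff]
  intro x hx
  rw [Submodule.mem_bot]
  by_contra hx0
  have h1 := deg_mono (neg_le_div_of_mem_L hK hx hx0)
  rw [deg_neg, deg_div hK] at h1
  omega

end DegZeros

end Groth.Agent.Lib.LeadFF
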