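import Mathlib
import Groth.Agent.Lib.LeadFF7

/-! Function fields of one variable, part 8: Riemann's theorem. -/

namespace Groth.Agent.Lib.LeadFF

open FunFld WithZero Polynomial

section Riemann

variable {k K : Type*} [Field k] [Field K] [Algebra k K]

/-- `δ(D) = deg D + 1 - ℓ(D)`. -/
noncomputable def delta (D : Divisor k K) : ℤ := D.deg + 1 - ell D

lemma delta_mono (hK : IsFunctionField k K) {D E : Divisor k K} (h : D ≤ E) :
    delta D ≤ delta E := by
  have := ell_sub_le hK D E h; unfold delta; linarith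

lemma div_inv (hK : IsFunctionField k K) (z : K) : FunFld.div k z⁻¹ = -FunFld.div k z := by
  ext P
  rw [Finsupp.neg_apply, div_apply hK, div_apply hK, ord_inv]

lemma mul_mem_L_iff (hK : IsFunctionField k K) (D : Divisor k K) {z : K} (hz : z ≠ 0) (x : K) :
    z * x ∈ L D ↔ x ∈ L (D + FunFld.div k z) := by
  simp only [mem_L]
  apply forall_congr'
  intro P
  rw [map_mul, val_eq_exp_neg_ord P hz, exp_neg, inv_mul_le_iff₀ exp_pos, ← exp_add,
    Finsupp.add_apply, div_apply hK, add_comm]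

theorem ell_add_div (hK : IsFunctionField k K) (D : Divisor k K) {z : K} (hz : z ≠ 0) :
    ell (D + FunFld.div k z) = ell D := by
  unfold ell
  have hinj : Function.Injective (LinearMap.mulLeft k z) := by
    intro a b hab
    simpa [hz] using hab
  have hmap : (L (D + FunFld.div k z)).map (LinearMap.mulLeft k z) = L D := by
    ext y
    rw [Submodule.mem_map]
    constructor
    · rintro ⟨x, hx, rfl⟩
      exact (mul_mem_L_iff hK D hz x).mpr hx
    · intro hy
      refine ⟨z⁻¹ * y, ?_, ?_⟩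
      · rw [← mul_mem_L_iff hK D hz, mul_inv_cancel_left₀ hz]; exact hy
      · simp [mul_inv_cancel_left₀ hz]
  rw [← hmap]
  exact (Submodule.equivMapOfInjective _ hinj _).finrank_eq

lemma deg_add_div (hK : IsFunctionField k K) (D : Divisor k K) (z : K) :
    (D + FunFld.div k z).deg = D.deg := by
  rw [deg_add, deg_div hK, add_zero]

lemma delta_add_div (hK : IsFunctionField k K) (D : Divisor k K) {z : K} (hz : z ≠ 0) :
    delta (D + FunFld.div k z) = delta D := by
  unfold delta; rw [deg_add_div hK, ell_add_div hK D hz]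

lemma exists_C_bound (hK : IsFunctionField k K) {x : K} (hx : Transcendental k x) :
    ∃ C : Divisor k K, 0 ≤ C ∧ ∀ l : ℕ,
      (((l : ℤ) + 1) * Module.finrank (IntermediateField.adjoin k {x}) K : ℤ) ≤
        ell (l • zdiv k x + C) := by
  classical
  have hx0 : x ≠ 0 := fun h => hx (h ▸ isAlgebraic_zero)
  haveI := finite_over_adjoin hK hx
  let n := Module.finrank (IntermediateField.adjoin k {x}) K
  let u : Module.Basis (Fin n) (IntermediateField.adjoin k {x}) K := Module.finBasis _ K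
  let Z := zdiv k x
  let C : Divisor k K := ∑ j, ((-FunFld.div k (u j)) ⊔ 0)
  have hC0 : 0 ≤ C := Finset.sum_nonneg (fun j _ => le_sup_right)
  have hZ0 : 0 ≤ Z := zdiv_nonneg x
  have huC : ∀ j P, P.1 (u j) ≤ exp (C P) := by
    intro j P
    have hu0 : u j ≠ 0 := u.ne_zero j
    rw [val_eq_exp_neg_ord P hu0, exp_le_exp]
    have h1 : ((-FunFld.div k (u j)) ⊔ 0) P ≤ C P := by
      have : (-FunFld.div k (u j)) ⊔ 0 ≤ C :=
        Finset.single_le_sum (f := fun j => (-FunFld.div k (u j)) ⊔ 0)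
          (fun j _ => le_sup_right) (Finset.mem_univ j)
      exact this P
    rw [Finsupp.sup_apply, Finsupp.neg_apply, div_apply hK] at h1
    exact le_trans le_sup_left h1
  refine ⟨C, hC0, fun l => ?_⟩
  let D : Divisor k K := l • Z + C
  haveI := L_finite hK D
  have hxi : Transcendental k x⁻¹ := transcendental_inv hK (not_mem_of_transcendental hx)
  have hmemF : x⁻¹ ∈ IntermediateField.adjoin k {x} :=
    inv_mem (IntermediateField.mem_adjoin_simple_self k x)
  have hb := linearIndependent_pow_of_transcendental hxi l _ hmemF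
  have hli := linearIndependent_smul hb u.linearIndependent
  have hmem : ∀ p : Fin (l + 1) × Fin n,
      ((⟨x⁻¹, hmemF⟩ : IntermediateField.adjoin k {x}) ^ (p.1 : ℕ)) • u p.2 ∈ L D := by
    intro p P
    rw [IntermediateField.smul_def]
    simp only [SubmonoidClass.mk_pow, smul_eq_mul, map_mul, map_pow, map_inv₀]
    have h1 : (P.1 x)⁻¹ ≤ exp (Z P) := by
      have := val_ge_of_zdiv hK hx0 P
      rw [exp_neg] at this
      exact (inv_le_comm₀ exp_pos (zero_lt_iff.mpr ((Valuation.ne_zero_iff _).mpr hx0))).mp this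
    have h2 : (1 : ZM0) ≤ exp (Z P) := by rw [← exp_zero, exp_le_exp]; exact hZ0 P
    have h3 : (P.1 x)⁻¹ ^ (p.1 : ℕ) ≤ exp (Z P) ^ l :=
      (pow_le_pow_left' h1 _).trans (pow_le_pow_right' h2 (by omega))
    calc (P.1 x)⁻¹ ^ (p.1 : ℕ) * P.1 (u p.2) ≤ exp (Z P) ^ l * exp (C P) :=
          mul_le_mul' h3 (huC _ P)
      _ = exp (D P) := by
          rw [zm0_exp_pow, ← exp_add]
          simp [D]
  have hli' : LinearIndependent k (fun p : Fin (l + 1) × Fin n =>
      (⟨_, hmem p⟩ : L D)) := by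
    apply LinearIndependent.of_comp (L D).subtype
    exact hli
  have hcard := hli'.fintype_card_le_finrank
  simp only [Fintype.card_prod, Fintype.card_fin] at hcard
  unfold ell
  exact_mod_cast hcard

lemma delta_nsmul_zdiv_le (hK : IsFunctionField k K) {x : K} (hx : Transcendental k x) :
    ∃ γ : ℤ, ∀ l : ℕ, delta (l • zdiv k x) ≤ γ := by
  obtain ⟨C, hC0, hC⟩ := exists_C_bound hK hx
  refine ⟨1 - Module.finrank (IntermediateField.adjoin k {x}) K + C.deg, fun l => ?_⟩
  have h1 := hC l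
  have h2 := ell_sub_le hK (l • zdiv k x) (l • zdiv k x + C) (le_add_of_nonneg_right hC0)
  rw [deg_add] at h2
  unfold delta
  rw [deg_nsmul, deg_zdiv_eq hK hx]
  linarith

theorem delta_bounded (hK : IsFunctionField k K) : ∃ γ : ℤ, ∀ A : Divisor k K, delta A ≤ γ := by
  obtain ⟨x, hx, -⟩ := hK.1
  obtain ⟨γ, hγ⟩ := delta_nsmul_zdiv_le hK hx
  refine ⟨γ, fun A => ?_⟩
  haveI := finite_over_adjoin hK hx
  have hn : (0 : ℤ) < Module.finrank (IntermediateField.adjoin k {x}) K := by
    exact_mod_cast (Module.finrank_pos : 0 < Module.finrank (IntermediateField.adjoin k {x}) K)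
  let A₁ : Divisor k K := A ⊔ 0
  have hA₁ : 0 ≤ A₁ := le_sup_right
  have hAA₁ : A ≤ A₁ := le_sup_left
  let l : ℕ := (γ + A₁.deg).toNat
  have hl : γ + A₁.deg ≤ l := Int.self_le_toNat _
  have h1 := ell_sub_le hK (l • zdiv k x - A₁) (l • zdiv k x) (sub_le_self _ hA₁)
  rw [deg_sub] at h1
  have h2 := hγ l
  unfold delta at h2
  rw [deg_nsmul, deg_zdiv_eq hK hx] at h2 h1
  have h3 : (0 : ℤ) < ell (l • zdiv k x - A₁) := by nlinarith
  haveI := L_finite hK (l • zdiv k x - A₁)
  have h4 : 0 < Module.finrank k (L (l • zdiv k x - A₁)) := by exact_mod_cast h3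
  obtain ⟨⟨z, hzL⟩, hz0⟩ := Module.finrank_pos_iff_exists_ne_zero.mp h4
  have hz : z ≠ 0 := fun h => hz0 (Subtype.ext h)
  have h5 := neg_le_div_of_mem_L hK hzL hz
  have h6 : A₁ + FunFld.div k z⁻¹ ≤ l • zdiv k x := by
    rw [div_inv hK]
    have : A₁ + -FunFld.div k z ≤ A₁ + (l • zdiv k x - A₁) := by
      have h5' := neg_le_neg h5
      rw [neg_neg] at h5'
      gcongr
    calc A₁ + -FunFld.div k z ≤ A₁ + (l • zdiv k x - A₁) := this
      _ = l • zdiv k x := by abel
  calc delta A ≤ delta A₁ := delta_mono hK hAA₁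
    _ = delta (A₁ + FunFld.div k z⁻¹) := (delta_add_div hK A₁ (inv_ne_zero hz)).symm
    _ ≤ delta (l • zdiv k x) := delta_mono hK h6
    _ ≤ γ := hγ l

lemma genus_eq_sSup : genus k K = sSup (Set.range fun D : Divisor k K => (delta D).toNat) := rfl

lemma genus_bddAbove (hK : IsFunctionField k K) :
    BddAbove (Set.range fun D : Divisor k K => (delta D).toNat) := by
  obtain ⟨γ, hγ⟩ := delta_bounded hK
  refine ⟨γ.toNat, ?_⟩
  rintro _ ⟨D, rfl⟩
  exact Int.toNat_le_toNat (hγ D)

theorem delta_le_genus (hK : IsFunctionField k K) (D : Divisor k K) :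
    delta D ≤ genus k K := by
  have h1 : (delta D).toNat ≤ genus k K := le_csSup (genus_bddAbove hK) ⟨D, rfl⟩
  have h2 := Int.self_le_toNat (delta D)
  have h3 : ((delta D).toNat : ℤ) ≤ genus k K := by exact_mod_cast h1
  linarith

lemma delta_zero (hK : IsFunctionField k K) : delta (0 : Divisor k K) = 0 := by
  unfold delta; rw [deg_zero, ell_zero hK]; simp

theorem exists_delta_eq_genus (hK : IsFunctionField k K) :
    ∃ D₀ : Divisor k K, delta D₀ = genus k K := by
  have hmem := Nat.sSup_mem (s := Set.range fun D : Divisor k K => (delta D).toNat)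
    ⟨_, ⟨0, rfl⟩⟩ (genus_bddAbove hK)
  obtain ⟨D₀, hD₀'⟩ := hmem
  rw [← genus_eq_sSup] at hD₀'
  have hD₀ : (delta D₀).toNat = genus k K := hD₀'
  by_cases h : 0 ≤ delta D₀
  · exact ⟨D₀, by rw [← hD₀, Int.toNat_of_nonneg h]⟩
  · push Not at h
    refine ⟨0, ?_⟩
    rw [delta_zero hK, ← hD₀, Int.toNat_of_nonpos h.le]; simp

/-- S10982 : Riemann's theorem. -/
theorem riemann (hK : IsFunctionField k K) :
    (∀ D : Divisor k K, D.deg + 1 - (ell D : ℤ) ≤ genus k K) ∧
    ∃ N : ℤ, ∀ D : Divisor k K, N ≤ D.deg → D.deg + 1 - (ell D : ℤ) = genus k K := by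
  refine ⟨fun D => delta_le_genus hK D, ?_⟩
  obtain ⟨D₀, hD₀⟩ := exists_delta_eq_genus hK
  refine ⟨D₀.deg + genus k K, fun D hD => ?_⟩
  apply le_antisymm (delta_le_genus hK D)
  have h1 := delta_le_genus hK (D - D₀)
  unfold delta at h1
  rw [deg_sub] at h1
  have h3 : (0 : ℤ) < ell (D - D₀) := by linarith
  haveI := L_finite hK (D - D₀)
  have h4 : 0 < Module.finrank k (L (D - D₀)) := by exact_mod_cast h3
  obtain ⟨⟨z, hzL⟩, hz0⟩ := Module.finrank_pos_iff_exists_ne_zero.mp h4
  have hz : z ≠ 0 := fun h => hz0 (Subtype.ext h)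
  have h5 := neg_le_div_of_mem_L hK hzL hz
  have h6 : D₀ ≤ D + FunFld.div k z := by
    calc D₀ = D + -(D - D₀) := by abel
      _ ≤ D + FunFld.div k z := by gcongr
  have h7 := delta_mono hK h6
  rw [delta_add_div hK D hz, hD₀] at h7
  exact h7

end Riemann

end Groth.Agent.Lib.LeadFF
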