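import Mathlib
import Groth.Agent.Lib.LeadFF8

/-! Function fields of one variable, part 9: relative quotients of subspaces; the adele
spaces `A(D)`. -/

namespace Groth.Agent.Lib.LeadFF

open FunFld WithZero

section RQ

variable {k V : Type*} [Field k] [AddCommGroup V] [Module k V]

/-- relative quotient `B/A` of subspaces of `V`. -/
abbrev RQ (A B : Submodule k V) := ↥B ⧸ Submodule.comap B.subtype A

/-- iso from a surjection with the right kernel. -/
noncomputable def rqEquivOfSurjective {W : Type*} [AddCommGroup W] [Module k W]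
    {A B : Submodule k V} (f : B →ₗ[k] W) (hf : Function.Surjective f)
    (hker : LinearMap.ker f = Submodule.comap B.subtype A) : RQ A B ≃ₗ[k] W :=
  (Submodule.quotEquivOfEq _ _ hker.symm).trans (f.quotKerEquivOfSurjective hf)

lemma rq_self_subsingleton (B : Submodule k V) : Subsingleton (RQ B B) := by
  apply Submodule.Quotient.subsingleton_iff.mpr
  exact Submodule.comap_subtype_self B

lemma rq_mk_eq_zero {A B : Submodule k V} (b : B) :
    (Submodule.comap B.subtype A).mkQ b = 0 ↔ (b : V) ∈ A := by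
  rw [Submodule.mkQ_apply, Submodule.Quotient.mk_eq_zero]; rfl

theorem rq_chain {A B C : Submodule k V} (hAB : A ≤ B) (hBC : B ≤ C)
    [Module.Finite k (RQ A B)] [Module.Finite k (RQ B C)] :
    Module.Finite k (RQ A C) ∧
      Module.finrank k (RQ A C) = Module.finrank k (RQ A B) + Module.finrank k (RQ B C) := by
  have hS : Submodule.comap C.subtype A ≤ Submodule.comap C.subtype B :=
    Submodule.comap_mono hAB
  let π : RQ A C →ₗ[k] RQ B C := Submodule.factor hS
  have hπ : Function.Surjective π := Submodule.factor_surjective hS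
  have hπmk : ∀ c : C, π ((Submodule.comap C.subtype A).mkQ c) =
      (Submodule.comap C.subtype B).mkQ c := fun c => Submodule.factor_mk hS c
  let g₀ : B →ₗ[k] RQ A C := (Submodule.comap C.subtype A).mkQ ∘ₗ Submodule.inclusion hBC
  have hg₀ : ∀ b, g₀ b ∈ LinearMap.ker π := by
    intro b
    rw [LinearMap.mem_ker]
    show π ((Submodule.comap C.subtype A).mkQ (Submodule.inclusion hBC b)) = 0
    rw [hπmk, rq_mk_eq_zero]
    exact b.2
  let g : B →ₗ[k] LinearMap.ker π := g₀.codRestrict _ hg₀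
  have hg_surj : Function.Surjective g := by
    rintro ⟨q, hq⟩
    obtain ⟨c, rfl⟩ := Submodule.mkQ_surjective _ q
    rw [LinearMap.mem_ker, hπmk, rq_mk_eq_zero] at hq
    exact ⟨⟨c, hq⟩, Subtype.ext rfl⟩
  have hg_ker : LinearMap.ker g = Submodule.comap B.subtype A := by
    ext b
    rw [LinearMap.mem_ker, Submodule.mem_comap]
    constructor
    · intro h
      have h' : (Submodule.comap C.subtype A).mkQ (Submodule.inclusion hBC b) = 0 :=
        congrArg Subtype.val h
      rw [rq_mk_eq_zero] at h'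
      exact h'
    · intro h
      apply Subtype.ext
      show (Submodule.comap C.subtype A).mkQ (Submodule.inclusion hBC b) = 0
      rw [rq_mk_eq_zero]
      exact h
  let e : RQ A B ≃ₗ[k] LinearMap.ker π := rqEquivOfSurjective g hg_surj hg_ker
  haveI : Module.Finite k (LinearMap.ker π) := Module.Finite.equiv e
  obtain ⟨h1, h2⟩ := finite_of_ker_of_codomain π
  refine ⟨h1, ?_⟩
  rw [h2, ← e.finrank_eq, LinearMap.range_eq_top.mpr hπ, finrank_top]

theorem rq_sup_inf {A₁ A₂ : Submodule k V} (X : Submodule k V) (h : A₁ ≤ A₂)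
    [Module.Finite k (RQ A₁ A₂)] :
    Module.Finite k (RQ (A₁ ⊔ X) (A₂ ⊔ X)) ∧ Module.Finite k (RQ (A₁ ⊓ X) (A₂ ⊓ X)) ∧
    Module.finrank k (RQ A₁ A₂) =
      Module.finrank k (RQ (A₁ ⊓ X) (A₂ ⊓ X)) + Module.finrank k (RQ (A₁ ⊔ X) (A₂ ⊔ X)) := by
  let T := Submodule.comap (A₂ ⊔ X).subtype (A₁ ⊔ X)
  let φ₀ : A₂ →ₗ[k] RQ (A₁ ⊔ X) (A₂ ⊔ X) :=
    T.mkQ ∘ₗ Submodule.inclusion (le_sup_left : A₂ ≤ A₂ ⊔ X)
  have hφ₀ : Submodule.comap A₂.subtype A₁ ≤ LinearMap.ker φ₀ := by
    intro a ha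
    rw [LinearMap.mem_ker]
    show T.mkQ (Submodule.inclusion (le_sup_left : A₂ ≤ A₂ ⊔ X) a) = 0
    rw [rq_mk_eq_zero]
    exact Submodule.mem_sup_left ha
  let φ : RQ A₁ A₂ →ₗ[k] RQ (A₁ ⊔ X) (A₂ ⊔ X) := Submodule.liftQ _ φ₀ hφ₀
  have hφmk : ∀ a : A₂, φ ((Submodule.comap A₂.subtype A₁).mkQ a) =
      T.mkQ (Submodule.inclusion (le_sup_left : A₂ ≤ A₂ ⊔ X) a) := fun a => rfl
  have hφ : Function.Surjective φ := by
    intro q
    obtain ⟨⟨v, hv⟩, rfl⟩ := Submodule.mkQ_surjective _ q
    obtain ⟨a, ha, x, hx, rfl⟩ := Submodule.mem_sup.mp hv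
    refine ⟨(Submodule.comap A₂.subtype A₁).mkQ ⟨a, ha⟩, ?_⟩
    rw [hφmk, ← sub_eq_zero, ← map_sub, rq_mk_eq_zero]
    show a - (a + x) ∈ A₁ ⊔ X
    have : a - (a + x) = -x := by abel
    rw [this]
    exact Submodule.mem_sup_right (neg_mem hx)
  -- kernel
  let ψ₀ : (A₂ ⊓ X : Submodule k V) →ₗ[k] RQ A₁ A₂ :=
    (Submodule.comap A₂.subtype A₁).mkQ ∘ₗ Submodule.inclusion (inf_le_left : A₂ ⊓ X ≤ A₂)
  have hψ₀ : ∀ y, ψ₀ y ∈ LinearMap.ker φ := by
    intro y
    rw [LinearMap.mem_ker]
    show φ ((Submodule.comap A₂.subtype A₁).mkQ (Submodule.inclusion inf_le_left y)) = 0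
    rw [hφmk, rq_mk_eq_zero]
    exact Submodule.mem_sup_right y.2.2
  let ψ : (A₂ ⊓ X : Submodule k V) →ₗ[k] LinearMap.ker φ := ψ₀.codRestrict _ hψ₀
  have hψ_surj : Function.Surjective ψ := by
    rintro ⟨q, hq⟩
    obtain ⟨⟨a, ha⟩, rfl⟩ := Submodule.mkQ_surjective _ q
    rw [LinearMap.mem_ker, hφmk, rq_mk_eq_zero] at hq
    obtain ⟨a₁, ha₁, x, hx, hax⟩ := Submodule.mem_sup.mp hq
    have hax' : a₁ + x = a := hax
    have hxA₂ : x ∈ A₂ := by
      have : x = a - a₁ := by rw [← hax']; abel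
      rw [this]; exact sub_mem ha (h ha₁)
    refine ⟨⟨x, hxA₂, hx⟩, Subtype.ext ?_⟩
    show (Submodule.comap A₂.subtype A₁).mkQ (Submodule.inclusion inf_le_left ⟨x, hxA₂, hx⟩) =
      (Submodule.comap A₂.subtype A₁).mkQ ⟨a, ha⟩
    rw [← sub_eq_zero, ← map_sub, rq_mk_eq_zero]
    show x - a ∈ A₁
    have : x - a = -a₁ := by rw [← hax']; abel
    rw [this]; exact neg_mem ha₁
  have hψ_ker : LinearMap.ker ψ = Submodule.comap (A₂ ⊓ X).subtype (A₁ ⊓ X) := by
    ext y
    rw [LinearMap.mem_ker, Submodule.mem_comap]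
    constructor
    · intro hy
      have h' : (Submodule.comap A₂.subtype A₁).mkQ (Submodule.inclusion inf_le_left y) = 0 :=
        congrArg Subtype.val hy
      rw [rq_mk_eq_zero] at h'
      exact ⟨h', y.2.2⟩
    · intro hy
      apply Subtype.ext
      show (Submodule.comap A₂.subtype A₁).mkQ (Submodule.inclusion inf_le_left y) = 0
      rw [rq_mk_eq_zero]
      exact hy.1
  let e : RQ (A₁ ⊓ X) (A₂ ⊓ X) ≃ₗ[k] LinearMap.ker φ := rqEquivOfSurjective ψ hψ_surj hψ_ker
  have hfin1 : Module.Finite k (RQ (A₁ ⊔ X) (A₂ ⊔ X)) := Module.Finite.of_surjective φ hφ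
  have hfin2 : Module.Finite k (RQ (A₁ ⊓ X) (A₂ ⊓ X)) := Module.Finite.equiv e.symm
  refine ⟨hfin1, hfin2, ?_⟩
  have := LinearMap.finrank_range_add_finrank_ker φ
  rw [LinearMap.range_eq_top.mpr hφ, finrank_top, ← e.finrank_eq] at this
  omega

/-- for finite-dimensional subspaces the relative quotient has the expected dimension. -/
lemma rq_finrank_of_finite {A B : Submodule k V} (h : A ≤ B) [Module.Finite k B] :
    Module.finrank k (RQ A B) + Module.finrank k A = Module.finrank k B := by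
  have := Submodule.finrank_quotient_add_finrank (Submodule.comap B.subtype A)
  rw [(Submodule.comapSubtypeEquivOfLe h).finrank_eq] at this
  exact this

end RQ

section AD

variable {k K : Type*} [Field k] [Field K] [Algebra k K]

lemma mem_AD {D : Divisor k K} {a : Place k K → K} :
    a ∈ AD D ↔ ∀ P : Place k K, P.1 (a P) ≤ exp (D P) := Iff.rfl

lemma AD_mono {D E : Divisor k K} (h : D ≤ E) : AD D ≤ AD E :=
  fun _ ha P => (ha P).trans (exp_le_exp.mpr (h P))

lemma adResMap_mem (D : Divisor k K) (P : Place k K) (t : K) (ht : P.1 t = exp (-1 : ℤ))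
    (a : AD (D + Finsupp.single P 1)) : t ^ (D P + 1) * (a : Place k K → K) P ∈ P.O := by
  rw [Valuation.mem_valuationSubring_iff, val_unif_mul_le_one_iff ht]
  have := a.2 P
  simpa using this

/-- The residue map `A(D + P) → κ(P)`. -/
noncomputable def adResMap (D : Divisor k K) (P : Place k K) (t : K)
    (ht : P.1 t = exp (-1 : ℤ)) :
    AD (D + Finsupp.single P 1) →ₗ[k] IsLocalRing.ResidueField P.O where
  toFun a := IsLocalRing.residue P.O ⟨t ^ (D P + 1) * (a : Place k K → K) P,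
    adResMap_mem D P t ht a⟩
  map_add' x y := by
    rw [← map_add]
    congr 1
    apply Subtype.ext
    simp [mul_add]
  map_smul' c x := by
    have h : (⟨t ^ (D P + 1) * ((c • x : AD (D + Finsupp.single P 1)) : Place k K → K) P,
        adResMap_mem D P t ht (c • x)⟩ : P.O) =
        c • (⟨t ^ (D P + 1) * (x : Place k K → K) P, adResMap_mem D P t ht x⟩ : P.O) := by
      apply Subtype.ext
      rw [coe_smul_O]
      simp only [Submodule.coe_smul, Pi.smul_apply, Algebra.smul_def]
      ring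
    rw [RingHom.id_apply, h, residue_smul]
    rfl

lemma adResMap_apply_eq_zero_iff (D : Divisor k K) (P : Place k K) (t : K)
    (ht : P.1 t = exp (-1 : ℤ)) (a : AD (D + Finsupp.single P 1)) :
    adResMap D P t ht a = 0 ↔ P.1 ((a : Place k K → K) P) ≤ exp (D P) := by
  show IsLocalRing.residue P.O _ = 0 ↔ _
  rw [residue_eq_zero_iff]
  show P.1 (t ^ (D P + 1) * (a : Place k K → K) P) < 1 ↔ _
  rw [val_unif_mul_lt_one_iff ht, zm0_lt_exp_iff, add_sub_cancel_right]

lemma ker_adResMap (D : Divisor k K) (P : Place k K) (t : K) (ht : P.1 t = exp (-1 : ℤ)) :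
    LinearMap.ker (adResMap D P t ht) =
      Submodule.comap (AD (D + Finsupp.single P 1)).subtype (AD D) := by
  classical
  ext a
  rw [LinearMap.mem_ker, adResMap_apply_eq_zero_iff, Submodule.mem_comap]
  constructor
  · intro h Q
    by_cases hQ : Q = P
    · subst hQ; exact h
    · have := a.2 Q
      simpa [Finsupp.single_eq_of_ne hQ] using this
  · intro h; exact h P

lemma adResMap_surjective (D : Divisor k K) (P : Place k K) (t : K)
    (ht : P.1 t = exp (-1 : ℤ)) : Function.Surjective (adResMap D P t ht) := by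
  classical
  intro r
  obtain ⟨w, rfl⟩ := IsLocalRing.residue_surjective r
  have ht0 := unif_ne_zero ht
  let a : Place k K → K := fun Q => if Q = P then t ^ (-(D P + 1)) * (w : K) else 0
  have ha : a ∈ AD (D + Finsupp.single P 1) := by
    intro Q
    by_cases hQ : Q = P
    · subst hQ
      simp only [a, if_true]
      have h1 : (D + (Finsupp.single Q (1 : ℤ) : Divisor k K)) Q = D Q + 1 := by simp
      rw [h1, val_unif_zpow_mul ht, exp_neg, inv_inv]
      calc exp (D Q + 1) * Q.1 (w : K) ≤ exp (D Q + 1) * 1 :=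
            mul_le_mul' le_rfl (val_le_one_of_mem_O Q w)
        _ = _ := mul_one _
    · simp [a, hQ]
  refine ⟨⟨a, ha⟩, ?_⟩
  show IsLocalRing.residue P.O _ = _
  congr 1
  apply Subtype.ext
  simp only [a, if_true]
  rw [← mul_assoc, ← zpow_add₀ ht0]
  simp

end AD

end Groth.Agent.Lib.LeadFF
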