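import Mathlib
import Groth.Agent.Lib.LeadFF9

/-! Function fields of one variable, part 10: dimensions of `A(D₂)/A(D₁)`,
`(A(D₂)+K)/(A(D₁)+K)`, `A/(A(D)+K)` and of `W(D)`. -/

namespace Groth.Agent.Lib.LeadFF

open FunFld WithZero

section ADdim

variable {k K : Type*} [Field k] [Field K] [Algebra k K]

lemma AD_step (hK : IsFunctionField k K) (D : Divisor k K) (P : Place k K) :
    Module.Finite k (RQ (AD D) (AD (D + Finsupp.single P 1))) ∧
    Module.finrank k (RQ (AD D) (AD (D + Finsupp.single P 1))) = P.deg := by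
  obtain ⟨t, ht⟩ := exists_unif P
  haveI := residueField_finite hK P
  let e := rqEquivOfSurjective (adResMap D P t ht) (adResMap_surjective D P t ht)
    (ker_adResMap D P t ht)
  exact ⟨Module.Finite.equiv e.symm, e.finrank_eq⟩

lemma AD_induction (hK : IsFunctionField k K) : ∀ (n : ℕ) (D E : Divisor k K), D ≤ E →
    tot (E - D) = n →
    Module.Finite k (RQ (AD D) (AD E)) ∧
      (Module.finrank k (RQ (AD D) (AD E)) : ℤ) = E.deg - D.deg := by
  intro n
  induction n with
  | zero =>
    intro D E hDE htot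
    have : E - D = 0 := eq_zero_of_tot_eq_zero (sub_nonneg.mpr hDE) (by simpa using htot)
    have hE : E = D := sub_eq_zero.mp this
    subst hE
    haveI := rq_self_subsingleton (AD E)
    refine ⟨inferInstance, ?_⟩
    rw [Module.finrank_zero_of_subsingleton]; simp
  | succ n ih =>
    intro D E hDE htot
    have hpos : 0 < tot (E - D) := by rw [htot]; positivity
    obtain ⟨P, hP⟩ := exists_pos_of_tot_pos (sub_nonneg.mpr hDE) hpos
    let E' : Divisor k K := E - Finsupp.single P 1
    have hDE' : D ≤ E' := by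
      classical
      intro Q
      simp only [E', Finsupp.coe_sub, Pi.sub_apply]
      by_cases hQ : Q = P
      · subst hQ
        simp only [Finsupp.single_eq_same]
        simp only [Finsupp.coe_sub, Pi.sub_apply] at hP
        omega
      · simp only [Finsupp.single_eq_of_ne hQ, sub_zero]; exact hDE Q
    have htot' : tot (E' - D) = n := by
      have : E' - D = (E - D) - Finsupp.single P 1 := by simp only [E']; abel
      rw [this, tot_sub, tot_single, htot]; push_cast; ring
    obtain ⟨hfin', heq'⟩ := ih D E' hDE' htot'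
    have hEE' : E' + Finsupp.single P 1 = E := by simp only [E']; abel
    obtain ⟨h1, h2⟩ := AD_step hK E' P
    rw [hEE'] at h1 h2
    have hE'E : E' ≤ E := by
      rw [← hEE']
      intro Q
      simp only [Finsupp.coe_add, Pi.add_apply]
      have : (0 : ℤ) ≤ (Finsupp.single P (1 : ℤ)) Q := by
        classical
        by_cases hQ : Q = P
        · subst hQ; simp
        · simp [Finsupp.single_eq_of_ne hQ]
      linarith
    haveI := hfin'
    haveI := h1
    obtain ⟨h3, h4⟩ := rq_chain (AD_mono hDE') (AD_mono hE'E)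
    refine ⟨h3, ?_⟩
    have hdeg : E.deg = E'.deg + P.deg := by
      rw [← hEE', deg_add, deg_single]; ring
    rw [h4, h2]
    push_cast
    rw [heq', hdeg]; ring

/-- S10974. -/
theorem AD_quot (hK : IsFunctionField k K) (D₁ D₂ : Divisor k K) (h : D₁ ≤ D₂) :
    AD D₁ ≤ AD D₂ ∧
    FiniteDimensional k (↥(AD D₂) ⧸ Submodule.comap (AD D₂).subtype (AD D₁)) ∧
    (Module.finrank k (↥(AD D₂) ⧸ Submodule.comap (AD D₂).subtype (AD D₁)) : ℤ) =
      D₂.deg - D₁.deg := by
  obtain ⟨h1, h2⟩ := AD_induction hK (tot (D₂ - D₁)).toNat D₁ D₂ h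
    (by rw [Int.toNat_of_nonneg (tot_nonneg (sub_nonneg.mpr h))])
  exact ⟨AD_mono h, h1, h2⟩

lemma nonempty_place (hK : IsFunctionField k K) : Nonempty (Place k K) := by
  obtain ⟨x, hx, -⟩ := hK.1
  obtain ⟨P, -⟩ := exists_place_lt_one hK hx
  exact ⟨P⟩

lemma diag_injective (hK : IsFunctionField k K) : Function.Injective (diag k K) := by
  obtain ⟨P⟩ := nonempty_place hK
  intro x y hxy
  exact congrFun hxy P

lemma AD_inf_diag (D : Divisor k K) :
    AD D ⊓ LinearMap.range (diag k K) = (L D).map (diag k K) := by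
  ext a
  rw [Submodule.mem_inf, Submodule.mem_map, LinearMap.mem_range]
  constructor
  · rintro ⟨ha, x, rfl⟩
    exact ⟨x, ha, rfl⟩
  · rintro ⟨x, hx, rfl⟩
    exact ⟨hx, x, rfl⟩

lemma finrank_AD_inf_diag (hK : IsFunctionField k K) (D : Divisor k K) :
    Module.finrank k ↥(AD D ⊓ LinearMap.range (diag k K)) = ell D := by
  rw [AD_inf_diag]
  exact (Submodule.equivMapOfInjective _ (diag_injective hK) _).finrank_eq.symm

lemma finite_AD_inf_diag (hK : IsFunctionField k K) (D : Divisor k K) :
    Module.Finite k ↥(AD D ⊓ LinearMap.range (diag k K)) := by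
  rw [AD_inf_diag]
  haveI := L_finite hK D
  exact Module.Finite.equiv (Submodule.equivMapOfInjective _ (diag_injective hK) _)

/-- S10979. -/
theorem ADK_quot (hK : IsFunctionField k K) (D₁ D₂ : Divisor k K) (h : D₁ ≤ D₂) :
    FiniteDimensional k (RQ (AD D₁ ⊔ LinearMap.range (diag k K))
      (AD D₂ ⊔ LinearMap.range (diag k K))) ∧
    (Module.finrank k (RQ (AD D₁ ⊔ LinearMap.range (diag k K))
      (AD D₂ ⊔ LinearMap.range (diag k K))) : ℤ) =
      (D₂.deg + 1 - ell D₂) - (D₁.deg + 1 - ell D₁) := by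
  obtain ⟨hle, hfin, hrank⟩ := AD_quot hK D₁ D₂ h
  haveI : Module.Finite k (RQ (AD D₁) (AD D₂)) := hfin
  obtain ⟨h1, h2, h3⟩ := rq_sup_inf (LinearMap.range (diag k K)) hle
  refine ⟨h1, ?_⟩
  haveI := finite_AD_inf_diag hK D₂
  have h4 := rq_finrank_of_finite (inf_le_inf_right (LinearMap.range (diag k K)) hle)
  rw [finrank_AD_inf_diag hK, finrank_AD_inf_diag hK] at h4
  have hrank' : (Module.finrank k (RQ (AD D₁) (AD D₂)) : ℤ) = D₂.deg - D₁.deg := hrank
  have h3' : (Module.finrank k (RQ (AD D₁) (AD D₂)) : ℤ) =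
      Module.finrank k (RQ (AD D₁ ⊓ LinearMap.range (diag k K))
        (AD D₂ ⊓ LinearMap.range (diag k K))) +
      Module.finrank k (RQ (AD D₁ ⊔ LinearMap.range (diag k K))
        (AD D₂ ⊔ LinearMap.range (diag k K))) := by exact_mod_cast h3
  have h4' : (Module.finrank k (RQ (AD D₁ ⊓ LinearMap.range (diag k K))
        (AD D₂ ⊓ LinearMap.range (diag k K))) : ℤ) + ell D₁ = ell D₂ := by exact_mod_cast h4
  linarith

end ADdim

section Adele

variable {k K : Type*} [Field k] [Field K] [Algebra k K]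

lemma mem_adele {a : Place k K → K} :
    a ∈ adele k K ↔ {P : Place k K | ¬ P.1 (a P) ≤ 1}.Finite := by
  show (∀ᶠ P : Place k K in Filter.cofinite, P.1 (a P) ≤ 1) ↔ _
  rw [Filter.eventually_cofinite]

lemma AD_le_adele (D : Divisor k K) : AD D ≤ adele k K := by
  intro a ha
  rw [mem_adele]
  refine D.support.finite_toSet.subset ?_
  intro P hP
  simp only [Set.mem_setOf_eq] at hP
  rw [Finset.mem_coe, Finsupp.mem_support_iff]
  intro h0
  apply hP
  have := ha P
  rwa [h0, exp_zero] at this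

lemma diag_mem_adele (hK : IsFunctionField k K) (x : K) : diag k K x ∈ adele k K := by
  rw [mem_adele]
  refine (support_ord_finite hK x).subset ?_
  intro P hP
  simp only [Set.mem_setOf_eq, not_le] at hP
  rw [Function.mem_support]
  have hx0 : x ≠ 0 := by
    rintro rfl
    have : (diag k K (0 : K)) P = 0 := rfl
    rw [this, map_zero] at hP
    exact absurd hP (by simp)
  have : P.ord x < 0 := (ord_neg_iff P hx0).mpr hP
  omega

lemma range_diag_le_adele (hK : IsFunctionField k K) :
    LinearMap.range (diag k K) ≤ adele k K := by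
  rintro _ ⟨x, rfl⟩
  exact diag_mem_adele hK x

lemma exists_AD_of_mem_adele {a : Place k K → K} (ha : a ∈ adele k K) :
    ∃ E : Divisor k K, a ∈ AD E := by
  rw [mem_adele] at ha
  have hfin : (Function.support fun P : Place k K => max (log (P.1 (a P))) 0).Finite := by
    refine ha.subset ?_
    intro P hP
    rw [Function.mem_support] at hP
    simp only [Set.mem_setOf_eq]
    intro hle
    apply hP
    apply max_eq_right
    by_cases h0 : P.1 (a P) = 0
    · rw [h0, log_zero]
    · rw [log_le_iff_le_exp h0, exp_zero]; exact hle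
  refine ⟨Finsupp.ofSupportFinite _ hfin, fun P => ?_⟩
  show P.1 (a P) ≤ exp (max (log (P.1 (a P))) 0)
  by_cases h0 : P.1 (a P) = 0
  · rw [h0]; exact zero_le
  · rw [← log_le_iff_le_exp h0]; exact le_max_left _ _

lemma rq_congr {V : Type*} [AddCommGroup V] [Module k V] {A B B' : Submodule k V}
    (h : B = B') {n : ℤ}
    (H : Module.Finite k (RQ A B') ∧ (Module.finrank k (RQ A B') : ℤ) = n) :
    Module.Finite k (RQ A B) ∧ (Module.finrank k (RQ A B) : ℤ) = n := by
  subst h; exact H

/-- For `D₂` with `δ(D₂) = g` (e.g. of large degree) we have `A = A(D₂) + K`. -/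
lemma adele_eq_of_large (hK : IsFunctionField k K) {N : ℤ}
    (hN : ∀ D : Divisor k K, N ≤ D.deg → D.deg + 1 - (ell D : ℤ) = genus k K)
    (D₂ : Divisor k K) (hD₂ : N ≤ D₂.deg) :
    adele k K = AD D₂ ⊔ LinearMap.range (diag k K) := by
  apply le_antisymm
  · intro a ha
    obtain ⟨E, hE⟩ := exists_AD_of_mem_adele ha
    let D₃ := D₂ ⊔ E
    have h23 : D₂ ≤ D₃ := le_sup_left
    have haD₃ : a ∈ AD D₃ := AD_mono le_sup_right hE
    obtain ⟨hfin, hrank⟩ := ADK_quot hK D₂ D₃ h23
    have hdeg : N ≤ D₃.deg := hD₂.trans (deg_mono h23)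
    rw [hN D₂ hD₂, hN D₃ hdeg, sub_self] at hrank
    have h0 : Module.finrank k (RQ (AD D₂ ⊔ LinearMap.range (diag k K))
      (AD D₃ ⊔ LinearMap.range (diag k K))) = 0 := by exact_mod_cast hrank
    haveI := hfin
    have hsub := Module.finrank_zero_iff.mp h0
    have htop := Submodule.Quotient.subsingleton_iff.mp hsub
    have hle := Submodule.comap_subtype_eq_top.mp htop
    exact hle (Submodule.mem_sup_left haD₃)
  · exact sup_le (AD_le_adele D₂) (range_diag_le_adele hK)

lemma exists_large_ge (hK : IsFunctionField k K) (D : Divisor k K) (N : ℤ) :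
    ∃ D₂ : Divisor k K, D ≤ D₂ ∧ N ≤ D₂.deg := by
  obtain ⟨P₀⟩ := nonempty_place hK
  let m : ℕ := (N - D.deg).toNat
  refine ⟨D + m • Finsupp.single P₀ 1, ?_, ?_⟩
  · apply le_add_of_nonneg_right
    apply nsmul_nonneg
    intro Q
    classical
    by_cases hQ : Q = P₀
    · subst hQ; simp
    · simp [Finsupp.single_eq_of_ne hQ]
  · rw [deg_add, deg_nsmul, deg_single]
    have h1 : N - D.deg ≤ m := Int.self_le_toNat _
    have h2 : (1 : ℤ) ≤ P₀.deg := by exact_mod_cast deg_pos hK P₀
    have h3 : (0 : ℤ) ≤ m := Int.natCast_nonneg _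
    nlinarith

/-- S10983. -/
theorem adele_quot (hK : IsFunctionField k K) (D : Divisor k K) :
    FiniteDimensional k (↥(adele k K) ⧸ ADK D) ∧
    (Module.finrank k (↥(adele k K) ⧸ ADK D) : ℤ) =
      (genus k K : ℤ) - (D.deg + 1 - ell D) := by
  obtain ⟨-, N, hN⟩ := riemann hK
  obtain ⟨D₂, hDD₂, hD₂⟩ := exists_large_ge hK D N
  have heq := adele_eq_of_large hK hN D₂ hD₂
  have h := ADK_quot hK D D₂ hDD₂
  rw [hN D₂ hD₂] at h
  exact rq_congr heq h

/-- S10984. -/
theorem WD_dim (hK : IsFunctionField k K) (D : Divisor k K) :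
    FiniteDimensional k (WD D) ∧
    (Module.finrank k (WD D) : ℤ) = (genus k K : ℤ) - (D.deg + 1 - ell D) := by
  obtain ⟨h1, h2⟩ := adele_quot hK D
  haveI := h1
  let e := Submodule.dualQuotEquivDualAnnihilator (ADK D)
  refine ⟨Module.Finite.equiv e, ?_⟩
  rw [← h2]
  congr 1
  rw [← Subspace.dual_finrank_eq (K := k) (V := ↥(adele k K) ⧸ ADK D)]
  exact e.finrank_eq.symm

end Adele

end Groth.Agent.Lib.LeadFF
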