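import Mathlib
import Groth.Agent.Lib.LeadFF10

/-! Function fields of one variable, part 11: Weil differentials, their divisors,
`dim_K W_K = 1`, canonical divisors. -/

namespace Groth.Agent.Lib.LeadFF

open FunFld WithZero

section Weil

variable {k K : Type*} [Field k] [Field K] [Algebra k K]

lemma smul_mem_adele (hK : IsFunctionField k K) (x : K) (a : Place k K → K)
    (ha : a ∈ adele k K) : x • a ∈ adele k K := by
  rw [mem_adele] at ha ⊢
  have hx := (mem_adele.mp (diag_mem_adele hK x))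
  refine (ha.union hx).subset ?_
  intro P hP
  simp only [Set.mem_setOf_eq, Pi.smul_apply, smul_eq_mul, map_mul] at hP
  by_contra hcon
  simp only [Set.mem_union, Set.mem_setOf_eq, not_or, not_not] at hcon
  apply hP
  have h2 : P.1 x ≤ 1 := hcon.2
  exact mul_le_one' h2 hcon.1

lemma mulW_apply (x : K) (hx : ∀ a ∈ adele k K, x • a ∈ adele k K)
    (ω : Module.Dual k (adele k K)) (a : adele k K) :
    mulW x hx ω a = ω ⟨x • (a : Place k K → K), hx a.1 a.2⟩ := rfl

lemma mem_ADK {D : Divisor k K} {a : adele k K} :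
    a ∈ ADK D ↔ (a : Place k K → K) ∈ AD D ⊔ LinearMap.range (diag k K) := Iff.rfl

lemma mem_WD_iff (hK : IsFunctionField k K) {D : Divisor k K} {ω : Module.Dual k (adele k K)} :
    ω ∈ WD D ↔ (∀ a : adele k K, (a : Place k K → K) ∈ AD D → ω a = 0) ∧
      (∀ x : K, ω ⟨diag k K x, diag_mem_adele hK x⟩ = 0) := by
  unfold WD
  rw [Submodule.mem_dualAnnihilator]
  constructor
  · intro h
    exact ⟨fun a ha => h a (mem_ADK.mpr (Submodule.mem_sup_left ha)),
      fun x => h _ (mem_ADK.mpr (Submodule.mem_sup_right ⟨x, rfl⟩))⟩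
  · rintro ⟨h1, h2⟩ a ha
    obtain ⟨b, hb, _, ⟨x, rfl⟩, hsum⟩ := Submodule.mem_sup.mp (mem_ADK.mp ha)
    have : a = ⟨b, AD_le_adele D hb⟩ + ⟨diag k K x, diag_mem_adele hK x⟩ :=
      Subtype.ext hsum.symm
    rw [this, map_add, h1 _ hb, h2, add_zero]

lemma WD_antitone {D E : Divisor k K} (h : D ≤ E) : WD E ≤ WD D := by
  unfold WD
  apply Submodule.dualAnnihilator_anti
  intro a ha
  rw [mem_ADK] at ha ⊢
  exact sup_le_sup_right (AD_mono h) _ ha

lemma AD_sup (D₁ D₂ : Divisor k K) : AD (D₁ ⊔ D₂) = AD D₁ ⊔ AD D₂ := by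
  classical
  apply le_antisymm
  · intro a ha
    rw [Submodule.mem_sup]
    let a₁ : Place k K → K := fun P => if P.1 (a P) ≤ exp (D₁ P) then a P else 0
    refine ⟨a₁, ?_, a - a₁, ?_, by abel⟩
    · intro P
      by_cases h : P.1 (a P) ≤ exp (D₁ P)
      · simp only [a₁, if_pos h]; exact h
      · simp only [a₁, if_neg h, map_zero]; exact zero_le
    · intro P
      by_cases h : P.1 (a P) ≤ exp (D₁ P)
      · simp only [Pi.sub_apply, a₁, if_pos h, sub_self, map_zero]; exact zero_le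
      · simp only [Pi.sub_apply, a₁, if_neg h, sub_zero]
        have := ha P
        rw [Finsupp.sup_apply] at this
        rcases le_total (D₁ P) (D₂ P) with h' | h'
        · rwa [sup_eq_right.mpr h'] at this
        · rw [sup_eq_left.mpr h'] at this; exact absurd this h
  · exact sup_le (AD_mono le_sup_left) (AD_mono le_sup_right)

lemma WD_sup (hK : IsFunctionField k K) {E₁ E₂ : Divisor k K} {ω : Module.Dual k (adele k K)}
    (h1 : ω ∈ WD E₁) (h2 : ω ∈ WD E₂) : ω ∈ WD (E₁ ⊔ E₂) := by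
  rw [mem_WD_iff hK] at h1 h2 ⊢
  refine ⟨fun a ha => ?_, h1.2⟩
  rw [AD_sup] at ha
  obtain ⟨b₁, hb₁, b₂, hb₂, hsum⟩ := Submodule.mem_sup.mp ha
  have : a = ⟨b₁, AD_le_adele _ hb₁⟩ + ⟨b₂, AD_le_adele _ hb₂⟩ := Subtype.ext hsum.symm
  rw [this, map_add, h1.1 _ hb₁, h2.1 _ hb₂, add_zero]

lemma eq_of_le_of_deg_eq (hK : IsFunctionField k K) {D D' : Divisor k K} (h : D ≤ D')
    (hdeg : D.deg = D'.deg) : D = D' := by
  have hF : 0 ≤ D' - D := sub_nonneg.mpr h
  have hdeg0 : (D' - D).deg = 0 := by rw [deg_sub]; omega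
  unfold Divisor.deg Finsupp.sum at hdeg0
  have := (Finset.sum_eq_zero_iff_of_nonneg (fun P _ =>
    mul_nonneg (hF P) (Int.natCast_nonneg _))).mp hdeg0
  have hzero : D' - D = 0 := by
    ext P
    by_cases hP : P ∈ (D' - D).support
    · have h1 := this P hP
      have h2 : (0 : ℤ) < P.deg := by exact_mod_cast deg_pos hK P
      rcases mul_eq_zero.mp h1 with h3 | h3
      · exact h3
      · omega
    · simpa using hP
  exact (sub_eq_zero.mp hzero).symm

/-- degree bound for divisors on which a nonzero differential vanishes. -/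
lemma deg_lt_of_mem_WD (hK : IsFunctionField k K) {N : ℤ}
    (hN : ∀ D : Divisor k K, N ≤ D.deg → D.deg + 1 - (ell D : ℤ) = genus k K)
    {ω : Module.Dual k (adele k K)} (h0 : ω ≠ 0) {E : Divisor k K} (hE : ω ∈ WD E) :
    E.deg < N := by
  by_contra hcon
  push Not at hcon
  obtain ⟨hfin, hrank⟩ := WD_dim hK E
  rw [hN E hcon, sub_self] at hrank
  have h1 : Module.finrank k (WD E) = 0 := by exact_mod_cast hrank
  haveI := hfin
  have hsub := (Module.finrank_zero_iff (R := k) (M := ↥(WD E))).mp h1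
  have : (⟨ω, hE⟩ : WD E) = 0 := Subsingleton.elim _ _
  exact h0 (congrArg Subtype.val this)

/-- S10985. -/
theorem exists_isDivOf (hK : IsFunctionField k K) (ω : Module.Dual k (adele k K))
    (hω : IsWeil ω) (h0 : ω ≠ 0) : ∃ C : Divisor k K, IsDivOf ω C := by
  obtain ⟨-, N, hN⟩ := riemann hK
  obtain ⟨E₁, hE₁⟩ := hω
  obtain ⟨d, ⟨C, hC, rfl⟩, hmax⟩ := Int.exists_greatest_of_bdd
    (P := fun d => ∃ E : Divisor k K, ω ∈ WD E ∧ E.deg = d)
    ⟨N, by rintro z ⟨E, hE, rfl⟩; exact (deg_lt_of_mem_WD hK hN h0 hE).le⟩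
    ⟨E₁.deg, E₁, hE₁, rfl⟩
  refine ⟨C, fun E => ⟨fun hE => ?_, fun hE => WD_antitone hE hC⟩⟩
  have h1 := WD_sup hK hE hC
  have h2 := hmax _ ⟨E ⊔ C, h1, rfl⟩
  have h3 : C.deg ≤ (E ⊔ C).deg := deg_mono le_sup_right
  have h4 : C = E ⊔ C := eq_of_le_of_deg_eq hK le_sup_right (le_antisymm h3 h2)
  rw [h4]; exact le_sup_left

lemma mulW_mem_WD (hK : IsFunctionField k K) {C D : Divisor k K} {x : K} (hxD : x ∈ L D)
    (hx : ∀ a ∈ adele k K, x • a ∈ adele k K) {ω : Module.Dual k (adele k K)}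
    (hω : ω ∈ WD C) : mulW x hx ω ∈ WD (C - D) := by
  rw [mem_WD_iff hK] at hω ⊢
  constructor
  · intro a ha
    rw [mulW_apply]
    apply hω.1
    intro P
    simp only [Pi.smul_apply, smul_eq_mul, map_mul]
    have h1 := hxD P
    have h2 := ha P
    calc P.1 x * P.1 ((a : Place k K → K) P) ≤ exp (D P) * exp ((C - D) P) := mul_le_mul' h1 h2
      _ = exp (C P) := by rw [← exp_add]; simp
  · intro y
    rw [mulW_apply]
    have : (⟨x • diag k K y, hx _ (diag_mem_adele hK y)⟩ : adele k K) =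
        ⟨diag k K (x * y), diag_mem_adele hK (x * y)⟩ := by
      apply Subtype.ext
      funext P
      rfl
    rw [this]; exact hω.2 _

lemma mem_L_neg_div (hK : IsFunctionField k K) {x : K} (hx : x ≠ 0) :
    x ∈ L (-FunFld.div k x) := by
  intro P
  rw [val_eq_exp_neg_ord P hx, Finsupp.neg_apply, div_apply hK]

lemma mulW_mulW (x y : K) (hx : ∀ a ∈ adele k K, x • a ∈ adele k K)
    (hy : ∀ a ∈ adele k K, y • a ∈ adele k K) (hxy : ∀ a ∈ adele k K, (x * y) • a ∈ adele k K)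
    (ω : Module.Dual k (adele k K)) : mulW y hy (mulW x hx ω) = mulW (x * y) hxy ω := by
  ext a
  rw [mulW_apply, mulW_apply, mulW_apply]
  congr 1
  apply Subtype.ext
  show x • y • (a : Place k K → K) = (x * y) • (a : Place k K → K)
  rw [smul_smul]

lemma mulW_one (h1 : ∀ a ∈ adele k K, (1 : K) • a ∈ adele k K)
    (ω : Module.Dual k (adele k K)) : mulW 1 h1 ω = ω := by
  ext a
  rw [mulW_apply]
  congr 1
  apply Subtype.ext
  simp

lemma mulW_zero (h0 : ∀ a ∈ adele k K, (0 : K) • a ∈ adele k K)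
    (ω : Module.Dual k (adele k K)) : mulW 0 h0 ω = 0 := by
  ext a
  rw [mulW_apply]
  have : (⟨(0 : K) • (a : Place k K → K), h0 a.1 a.2⟩ : adele k K) = 0 := by
    apply Subtype.ext
    simp
  rw [this, map_zero]; rfl

lemma mulW_inv_cancel (hK : IsFunctionField k K) {x : K} (hx0 : x ≠ 0)
    (ω : Module.Dual k (adele k K)) :
    mulW x⁻¹ (smul_mem_adele hK x⁻¹) (mulW x (smul_mem_adele hK x) ω) = ω := by
  rw [mulW_mulW x x⁻¹ _ _ (smul_mem_adele hK _)]
  have : ∀ (y : K) (hy : ∀ a ∈ adele k K, y • a ∈ adele k K), y = 1 → mulW y hy ω = ω := by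
    intro y hy h; subst h; exact mulW_one _ ω
  exact this _ _ (mul_inv_cancel₀ hx0)

/-- S10987. -/
theorem isDivOf_mulW (hK : IsFunctionField k K) (x : K) (h0 : x ≠ 0)
    (hx : ∀ a ∈ adele k K, x • a ∈ adele k K) (ω : Module.Dual k (adele k K))
    (C : Divisor k K) (hω : IsDivOf ω C) : IsDivOf (mulW x hx ω) (C + FunFld.div k x) := by
  intro E
  constructor
  · intro hE
    have h1 := mulW_mem_WD hK (mem_L_neg_div hK (inv_ne_zero h0)) (smul_mem_adele hK x⁻¹) hE
    have h2 : mulW x⁻¹ (smul_mem_adele hK x⁻¹) (mulW x hx ω) = ω := mulW_inv_cancel hK h0 ω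
    rw [h2, div_inv hK, neg_neg] at h1
    have h3 := (hω _).mp h1
    calc E = (E - FunFld.div k x) + FunFld.div k x := by abel
      _ ≤ C + FunFld.div k x := by gcongr
  · intro hE
    have h1 : E - FunFld.div k x ≤ C := by
      calc E - FunFld.div k x ≤ (C + FunFld.div k x) - FunFld.div k x := by gcongr
        _ = C := by abel
    have h2 := (hω _).mpr h1
    have h3 := mulW_mem_WD hK (mem_L_neg_div hK h0) hx h2
    have : E - FunFld.div k x - -FunFld.div k x = E := by abel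
    rwa [this] at h3

/-- `x ↦ xω` as a `k`-linear map. -/
noncomputable def mulWHom (hK : IsFunctionField k K) (ω : Module.Dual k (adele k K)) :
    K →ₗ[k] Module.Dual k (adele k K) where
  toFun x := mulW x (smul_mem_adele hK x) ω
  map_add' x y := by
    ext a
    rw [LinearMap.add_apply, mulW_apply, mulW_apply, mulW_apply, ← map_add]
    congr 1
    apply Subtype.ext
    show (x + y) • (a : Place k K → K) = x • (a : Place k K → K) + y • (a : Place k K → K)
    rw [add_smul]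
  map_smul' c x := by
    ext a
    rw [LinearMap.smul_apply, mulW_apply, mulW_apply, RingHom.id_apply, ← map_smul]
    congr 1
    apply Subtype.ext
    show (c • x) • (a : Place k K → K) = c • (x • (a : Place k K → K))
    rw [smul_assoc]

lemma mulWHom_apply (hK : IsFunctionField k K) (ω : Module.Dual k (adele k K)) (x : K) :
    mulWHom hK ω x = mulW x (smul_mem_adele hK x) ω := rfl

lemma mulWHom_injective (hK : IsFunctionField k K) {ω : Module.Dual k (adele k K)}
    (h0 : ω ≠ 0) : Function.Injective (mulWHom hK ω) := by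
  rw [← LinearMap.ker_eq_bot, eq_bot_iff]
  intro x hx
  rw [LinearMap.mem_ker, mulWHom_apply] at hx
  rw [Submodule.mem_bot]
  by_contra hx0
  have := mulW_inv_cancel hK hx0 ω
  rw [hx] at this
  apply h0
  rw [← this]
  ext a
  rw [mulW_apply]; rfl

lemma isWeil_of_isDivOf {ω : Module.Dual k (adele k K)} {C : Divisor k K} (h : IsDivOf ω C) :
    IsWeil ω := ⟨C, (h C).mpr le_rfl⟩

lemma isDivOf_unique {ω : Module.Dual k (adele k K)} {C C' : Divisor k K} (h : IsDivOf ω C)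
    (h' : IsDivOf ω C') : C = C' :=
  le_antisymm ((h' C).mp ((h C).mpr le_rfl)) ((h C').mp ((h' C').mpr le_rfl))

lemma ne_zero_of_isDivOf (hK : IsFunctionField k K) {ω : Module.Dual k (adele k K)}
    {C : Divisor k K} (h : IsDivOf ω C) : ω ≠ 0 := by
  rintro rfl
  obtain ⟨P₀⟩ := nonempty_place hK
  have h1 : (0 : Module.Dual k (adele k K)) ∈ WD (C + Finsupp.single P₀ 1) := Submodule.zero_mem _
  have h2 := (h _).mp h1 P₀
  simp at h2

/-- S10988 : `dim_K W_K = 1`. -/
theorem exists_mulW_eq (hK : IsFunctionField k K) (ω₁ ω₂ : Module.Dual k (adele k K))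
    (h₁ : IsWeil ω₁) (h0 : ω₁ ≠ 0) (h₂ : IsWeil ω₂) :
    ∃ x : K, mulW x (smul_mem_adele hK x) ω₁ = ω₂ := by
  by_cases h20 : ω₂ = 0
  · exact ⟨0, by rw [h20]; exact mulW_zero _ _⟩
  obtain ⟨A₁, hA₁⟩ := h₁
  obtain ⟨A₂, hA₂⟩ := h₂
  obtain ⟨P₀⟩ := nonempty_place hK
  have hP₀ : (1 : ℤ) ≤ P₀.deg := by exact_mod_cast deg_pos hK P₀
  let g : ℤ := genus k K
  let m : ℕ := (3 * g - A₁.deg - A₂.deg).toNat + 1
  have hm : 3 * g - A₁.deg - A₂.deg < m := by
    have := Int.self_le_toNat (3 * g - A₁.deg - A₂.deg)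
    simp only [m]; push_cast; omega
  let B : Divisor k K := m • Finsupp.single P₀ 1
  have hBdeg : B.deg = m * P₀.deg := by
    simp only [B]; rw [deg_nsmul, deg_single]; ring
  have hBpos : (m : ℤ) ≤ B.deg := by
    rw [hBdeg]; have : (0 : ℤ) ≤ m := Int.natCast_nonneg _; nlinarith
  -- the two subspaces
  let U₁ := (L (A₁ + B)).map (mulWHom hK ω₁)
  let U₂ := (L (A₂ + B)).map (mulWHom hK ω₂)
  haveI := L_finite hK (A₁ + B)
  haveI := L_finite hK (A₂ + B)
  have hU₁ : Module.finrank k U₁ = ell (A₁ + B) :=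
    (Submodule.equivMapOfInjective _ (mulWHom_injective hK h0) _).finrank_eq.symm
  have hU₂ : Module.finrank k U₂ = ell (A₂ + B) :=
    (Submodule.equivMapOfInjective _ (mulWHom_injective hK h20) _).finrank_eq.symm
  haveI : FiniteDimensional k U₁ :=
    Module.Finite.equiv (Submodule.equivMapOfInjective _ (mulWHom_injective hK h0) _)
  haveI : FiniteDimensional k U₂ :=
    Module.Finite.equiv (Submodule.equivMapOfInjective _ (mulWHom_injective hK h20) _)
  have hU₁le : U₁ ≤ WD (-B) := by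
    rintro _ ⟨x, hx, rfl⟩
    have := mulW_mem_WD hK hx (smul_mem_adele hK x) hA₁
    have e : A₁ - (A₁ + B) = -B := by abel
    rwa [e] at this
  have hU₂le : U₂ ≤ WD (-B) := by
    rintro _ ⟨x, hx, rfl⟩
    have := mulW_mem_WD hK hx (smul_mem_adele hK x) hA₂
    have e : A₂ - (A₂ + B) = -B := by abel
    rwa [e] at this
  obtain ⟨hWfin, hWrank⟩ := WD_dim hK (-B)
  haveI := hWfin
  have hm1 : (1 : ℤ) ≤ m := by simp only [m]; push_cast; omega
  have hBneg : (-B).deg < 0 := by rw [deg_neg]; omega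
  have hLB : ell (-B) = 0 := by
    unfold ell; rw [L_eq_bot_of_deg_neg hK _ hBneg]; exact finrank_bot k K
  rw [hLB, deg_neg] at hWrank
  have h1 := delta_le_genus hK (A₁ + B)
  have h2 := delta_le_genus hK (A₂ + B)
  unfold delta at h1 h2
  rw [deg_add] at h1 h2
  have h3 := Submodule.finrank_sup_add_finrank_inf_eq U₁ U₂
  have h4 : Module.finrank k ↥(U₁ ⊔ U₂) ≤ Module.finrank k (WD (-B)) :=
    Submodule.finrank_mono (sup_le hU₁le hU₂le)
  have h5 : 0 < Module.finrank k ↥(U₁ ⊓ U₂) := by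
    have h3' : (Module.finrank k ↥(U₁ ⊔ U₂) : ℤ) + Module.finrank k ↥(U₁ ⊓ U₂) =
        ell (A₁ + B) + ell (A₂ + B) := by rw [← hU₁, ← hU₂]; exact_mod_cast h3
    have h4' : (Module.finrank k ↥(U₁ ⊔ U₂) : ℤ) ≤ Module.finrank k (WD (-B)) := by
      exact_mod_cast h4
    have : (0 : ℤ) < Module.finrank k ↥(U₁ ⊓ U₂) := by
      push_cast at hWrank
      linarith
    exact_mod_cast this
  obtain ⟨⟨η, hη⟩, hη0⟩ :=
    (Module.finrank_pos_iff_exists_ne_zero (R := k) (M := ↥(U₁ ⊓ U₂))).mp h5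
  have hη0' : η ≠ 0 := fun h => hη0 (Subtype.ext h)
  obtain ⟨⟨x₁, -, hx₁⟩, ⟨x₂, -, hx₂⟩⟩ := hη
  have hx₂0 : x₂ ≠ 0 := by
    rintro rfl
    rw [map_zero] at hx₂
    exact hη0' hx₂.symm
  refine ⟨x₁ * x₂⁻¹, ?_⟩
  rw [mulWHom_apply] at hx₁ hx₂
  have h6 := mulW_inv_cancel hK hx₂0 ω₂
  rw [hx₂, ← hx₁, mulW_mulW x₁ x₂⁻¹ _ _ (smul_mem_adele hK _)] at h6
  exact h6

/-- S10989. -/
theorem canonical_equiv (hK : IsFunctionField k K) (C₁ C₂ : Divisor k K)
    (h₁ : IsCanonical k K C₁) (h₂ : IsCanonical k K C₂) :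
    ∃ x : K, x ≠ 0 ∧ C₂ = C₁ + FunFld.div k x := by
  obtain ⟨ω₁, h10, hd₁⟩ := h₁
  obtain ⟨ω₂, h20, hd₂⟩ := h₂
  obtain ⟨x, hx⟩ := exists_mulW_eq hK ω₁ ω₂ (isWeil_of_isDivOf hd₁) h10 (isWeil_of_isDivOf hd₂)
  have hx0 : x ≠ 0 := by
    rintro rfl
    rw [mulW_zero] at hx
    exact h20 hx.symm
  refine ⟨x, hx0, ?_⟩
  have := isDivOf_mulW hK x hx0 (smul_mem_adele hK x) ω₁ C₁ hd₁
  rw [hx] at this
  exact isDivOf_unique hd₂ this

/-- S10991. -/
theorem existsUnique_mulW (hK : IsFunctionField k K) (ω : Module.Dual k (adele k K))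
    (C : Divisor k K) (hω : IsDivOf ω C) (D : Divisor k K) (ω' : Module.Dual k (adele k K))
    (hω' : ω' ∈ WD D) :
    ∃! x : K, x ∈ L (C - D) ∧ mulW x (smul_mem_adele hK x) ω = ω' := by
  have h0 := ne_zero_of_isDivOf hK hω
  have huniq : ∀ x y : K, mulW x (smul_mem_adele hK x) ω = ω' →
      mulW y (smul_mem_adele hK y) ω = ω' → x = y := by
    intro x y hx hy
    apply mulWHom_injective hK h0
    rw [mulWHom_apply, mulWHom_apply, hx, hy]
  by_cases h' : ω' = 0
  · refine ⟨0, ⟨Submodule.zero_mem _, by rw [h']; exact mulW_zero _ _⟩, ?_⟩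
    rintro y ⟨-, hy⟩
    exact huniq y 0 hy (by rw [h']; exact mulW_zero _ _)
  · obtain ⟨x, hx⟩ := exists_mulW_eq hK ω ω' (isWeil_of_isDivOf hω) h0 ⟨D, hω'⟩
    have hx0 : x ≠ 0 := by
      rintro rfl
      rw [mulW_zero] at hx
      exact h' hx.symm
    have hdiv := isDivOf_mulW hK x hx0 (smul_mem_adele hK x) ω C hω
    rw [hx] at hdiv
    have hle := (hdiv D).mp hω'
    refine ⟨x, ⟨?_, hx⟩, ?_⟩
    · intro P
      rw [val_eq_exp_neg_ord P hx0, exp_le_exp]
      have := hle P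
      rw [Finsupp.add_apply, div_apply hK] at this
      rw [Finsupp.sub_apply]
      omega
    · rintro y ⟨-, hy⟩
      exact huniq y x hy hx

end Weil

end Groth.Agent.Lib.LeadFF
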