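import Mathlib
import Groth.Agent.Lib.LeadFF11

/-! Function fields of one variable, part 12: Riemann–Roch and first consequences. -/

namespace Groth.Agent.Lib.LeadFF

open FunFld WithZero Polynomial

section RR

variable {k K : Type*} [Field k] [Field K] [Algebra k K]

/-- S10990 : Riemann–Roch. -/
theorem riemann_roch (hK : IsFunctionField k K) (C : Divisor k K) (hC : IsCanonical k K C)
    (D : Divisor k K) :
    (ell D : ℤ) = D.deg + 1 - genus k K + ell (C - D) := by
  obtain ⟨ω, h0, hω⟩ := hC
  have hmap : (L (C - D)).map (mulWHom hK ω) = WD D := by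
    apply le_antisymm
    · rintro _ ⟨x, hx, rfl⟩
      have := mulW_mem_WD hK hx (smul_mem_adele hK x) ((hω C).mpr le_rfl)
      have e : C - (C - D) = D := by abel
      rwa [e] at this
    · intro ω' hω'
      obtain ⟨x, ⟨hx, hxω⟩, -⟩ := existsUnique_mulW hK ω C hω D ω' hω'
      exact ⟨x, hx, hxω⟩
  have h1 : Module.finrank k (WD D) = ell (C - D) := by
    rw [← hmap]
    exact (Submodule.equivMapOfInjective _ (mulWHom_injective hK h0) _).finrank_eq.symm
  obtain ⟨-, h2⟩ := WD_dim hK D
  rw [h1] at h2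
  linarith

theorem exists_canonical (hK : IsFunctionField k K) : ∃ C : Divisor k K, IsCanonical k K C := by
  obtain ⟨P₀⟩ := nonempty_place hK
  have hP₀ : (1 : ℤ) ≤ P₀.deg := by exact_mod_cast deg_pos hK P₀
  let D : Divisor k K := -(Finsupp.single P₀ 2)
  have hdeg : D.deg = -(2 * P₀.deg) := by simp only [D]; rw [deg_neg, deg_single]
  have hneg : D.deg < 0 := by rw [hdeg]; omega
  have hL : ell D = 0 := by
    unfold ell; rw [L_eq_bot_of_deg_neg hK _ hneg]; exact finrank_bot k K
  obtain ⟨hfin, hrank⟩ := WD_dim hK D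
  rw [hL, hdeg] at hrank
  have hpos : 0 < Module.finrank k (WD D) := by
    have : (0 : ℤ) < Module.finrank k (WD D) := by
      rw [hrank]; push_cast
      have : (0 : ℤ) ≤ genus k K := Int.natCast_nonneg _
      omega
    exact_mod_cast this
  haveI := hfin
  obtain ⟨⟨ω, hω⟩, hω0⟩ :=
    (Module.finrank_pos_iff_exists_ne_zero (R := k) (M := ↥(WD D))).mp hpos
  have hω0' : ω ≠ 0 := fun h => hω0 (Subtype.ext h)
  obtain ⟨C, hC⟩ := exists_isDivOf hK ω ⟨D, hω⟩ hω0'
  exact ⟨C, ω, hω0', hC⟩

lemma canonical_ell_deg (hK : IsFunctionField k K) {C : Divisor k K} (hC : IsCanonical k K C) :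
    (ell C : ℤ) = genus k K ∧ C.deg = 2 * genus k K - 2 := by
  have h1 := riemann_roch hK C hC 0
  have h2 := riemann_roch hK C hC C
  rw [sub_zero, deg_zero, ell_zero hK] at h1
  rw [sub_self, ell_zero hK] at h2
  push_cast at h1 h2
  constructor <;> linarith

/-- S10993. -/
theorem ell_of_deg_ge (hK : IsFunctionField k K) (D : Divisor k K)
    (h : 2 * (genus k K : ℤ) - 1 ≤ D.deg) : (ell D : ℤ) = D.deg + 1 - genus k K := by
  obtain ⟨C, hC⟩ := exists_canonical hK
  have h1 := riemann_roch hK C hC D
  have hdeg : (C - D).deg < 0 := by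
    rw [deg_sub, (canonical_ell_deg hK hC).2]; omega
  have hL : ell (C - D) = 0 := by
    unfold ell; rw [L_eq_bot_of_deg_neg hK _ hdeg]; exact finrank_bot k K
  rw [hL] at h1
  push_cast at h1
  linarith

/-- S10992. -/
theorem canonical_iff (hK : IsFunctionField k K) (C : Divisor k K) :
    IsCanonical k K C ↔ (ell C = genus k K ∧ C.deg = 2 * genus k K - 2) := by
  constructor
  · intro hC
    obtain ⟨h1, h2⟩ := canonical_ell_deg hK hC
    exact ⟨by exact_mod_cast h1, h2⟩
  · rintro ⟨h1, h2⟩
    obtain ⟨W, hW⟩ := exists_canonical hK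
    have h3 := riemann_roch hK W hW C
    obtain ⟨-, hWdeg⟩ := canonical_ell_deg hK hW
    rw [h1, h2] at h3
    have h4 : ell (W - C) = 1 := by
      have : (ell (W - C) : ℤ) = 1 := by linarith
      exact_mod_cast this
    haveI := L_finite hK (W - C)
    have hpos : 0 < Module.finrank k (L (W - C)) := by
      have : Module.finrank k (L (W - C)) = 1 := h4
      omega
    obtain ⟨⟨z, hzL⟩, hz0⟩ := Module.finrank_pos_iff_exists_ne_zero.mp hpos
    have hz : z ≠ 0 := fun h => hz0 (Subtype.ext h)
    have h5 := neg_le_div_of_mem_L hK hzL hz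
    have h6 : -(W - C) = FunFld.div k z := by
      apply eq_of_le_of_deg_eq hK h5
      rw [deg_neg, deg_sub, deg_div hK, hWdeg, h2]; ring
    have h7 : C = W + FunFld.div k z := by rw [← h6]; abel
    obtain ⟨ω, hω0, hω⟩ := hW
    have h8 := isDivOf_mulW hK z hz (smul_mem_adele hK z) ω W hω
    rw [← h7] at h8
    exact ⟨_, ne_zero_of_isDivOf hK h8, h8⟩

end RR

section Rational

variable {k K : Type*} [Field k] [Field K] [Algebra k K]

lemma effective_deg_one (hK : IsFunctionField k K) {E : Divisor k K} (hE : 0 ≤ E)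
    (hdeg : E.deg = 1) : ∃ P : Place k K, P.deg = 1 ∧ E = Finsupp.single P 1 := by
  classical
  have hne : E ≠ 0 := by rintro rfl; rw [deg_zero] at hdeg; omega
  obtain ⟨P, hP⟩ : ∃ P, E P ≠ 0 := by
    by_contra h; push Not at h; exact hne (Finsupp.ext h)
  have hP1 : 1 ≤ E P := by have := hE P; simp only [Finsupp.coe_zero, Pi.zero_apply] at this; omega
  have hle : Finsupp.single P 1 ≤ E := by
    intro Q
    by_cases hQ : Q = P
    · subst hQ; simpa using hP1
    · rw [Finsupp.single_eq_of_ne hQ]; exact hE Q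
  have hdeg1 := deg_mono hle
  rw [deg_single, hdeg, one_mul] at hdeg1
  have hdP : (1 : ℤ) ≤ P.deg := by exact_mod_cast deg_pos hK P
  have hdP1 : P.deg = 1 := by omega
  refine ⟨P, hdP1, ?_⟩
  symm
  apply eq_of_le_of_deg_eq hK hle
  rw [deg_single, hdeg, hdP1]; simp

lemma linearIndependent_pow_K {y : K} (hy : Transcendental k y) (l : ℕ) :
    LinearIndependent k (fun i : Fin (l + 1) => y ^ (i : ℕ)) := by
  have h := linearIndependent_pow_of_transcendental hy l ⊤ IntermediateField.mem_top
  have h2 := h.map' (⊤ : IntermediateField k K).val.toLinearMap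
    (LinearMap.ker_eq_bot.mpr (⊤ : IntermediateField k K).val.injective)
  exact h2

/-- pole divisor of `x`. -/
lemma pdiv_apply (hK : IsFunctionField k K) (x : K) (P : Place k K) :
    zdiv k x⁻¹ P = max (-(P.ord x)) 0 := by
  rw [zdiv_apply hK, ord_inv]

lemma finrank_adjoin_eq_deg_pdiv (hK : IsFunctionField k K) {x : K}
    (hx : x ∉ Set.range (algebraMap k K)) :
    (zdiv k x⁻¹).deg = Module.finrank (IntermediateField.adjoin k {x}) K := by
  rw [deg_zdiv_eq hK (transcendental_inv hK hx), adjoin_inv]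

/-- a rational function field has genus zero. -/
lemma genus_eq_zero_of_pole (hK : IsFunctionField k K) {x : K}
    (hx : x ∉ Set.range (algebraMap k K)) {P : Place k K} (hP : P.deg = 1)
    (hpole : zdiv k x⁻¹ = Finsupp.single P 1) : genus k K = 0 := by
  have hxt := transcendental_of_not_mem hK hx
  have hx0 : x ≠ 0 := fun h => hxt (h ▸ isAlgebraic_zero)
  obtain ⟨-, N, hN⟩ := riemann hK
  let r : ℕ := N.toNat
  let D : Divisor k K := r • Finsupp.single P 1
  have hDdeg : D.deg = r := by
    simp only [D]; rw [deg_nsmul, deg_single, hP]; simp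
  have hND : N ≤ D.deg := by rw [hDdeg]; exact Int.self_le_toNat N
  have h1 := hN D hND
  -- ℓ(D) ≥ r + 1
  haveI := L_finite hK D
  have hmem : ∀ i : Fin (r + 1), x ^ (i : ℕ) ∈ L D := by
    intro i Q
    rw [map_pow]
    have h2 : Q.1 x ≤ exp (zdiv k x⁻¹ Q) := by
      rw [val_eq_exp_neg_ord Q hx0, exp_le_exp, pdiv_apply hK]; exact le_max_left _ _
    have h3 : (1 : ZM0) ≤ exp (zdiv k x⁻¹ Q) := by
      rw [← exp_zero, exp_le_exp]; exact zdiv_nonneg x⁻¹ Q
    calc Q.1 x ^ (i : ℕ) ≤ exp (zdiv k x⁻¹ Q) ^ (i : ℕ) := pow_le_pow_left' h2 _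
      _ ≤ exp (zdiv k x⁻¹ Q) ^ r := pow_le_pow_right' h3 (by omega)
      _ = exp (D Q) := by
          rw [zm0_exp_pow, hpole]
          simp only [D, Finsupp.coe_smul, Pi.smul_apply, nsmul_eq_mul]
  have hli : LinearIndependent k (fun i : Fin (r + 1) => (⟨_, hmem i⟩ : L D)) := by
    apply LinearIndependent.of_comp (L D).subtype
    exact linearIndependent_pow_K hxt r
  have hcard := hli.fintype_card_le_finrank
  simp only [Fintype.card_fin] at hcard
  have hcard' : ((r : ℤ) + 1) ≤ ell D := by unfold ell; exact_mod_cast hcard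
  have : (genus k K : ℤ) ≤ 0 := by rw [← h1, hDdeg]; linarith
  omega

lemma exists_pole_of_rational (hK : IsFunctionField k K) {x : K}
    (hx : IntermediateField.adjoin k ({x} : Set K) = ⊤) :
    x ∉ Set.range (algebraMap k K) ∧
      ∃ P : Place k K, P.deg = 1 ∧ zdiv k x⁻¹ = Finsupp.single P 1 := by
  have hxk : x ∉ Set.range (algebraMap k K) := by
    rintro ⟨c, rfl⟩
    obtain ⟨y, hy, -⟩ := hK.1
    have hy' : y ∈ IntermediateField.adjoin k ({algebraMap k K c} : Set K) := by
      rw [hx]; exact IntermediateField.mem_top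
    have hbot : IntermediateField.adjoin k ({algebraMap k K c} : Set K) = ⊥ := by
      rw [IntermediateField.adjoin_simple_eq_bot_iff]
      exact IntermediateField.algebraMap_mem _ c
    rw [hbot, IntermediateField.mem_bot] at hy'
    obtain ⟨d, rfl⟩ := hy'
    exact hy (isAlgebraic_algebraMap d)
  refine ⟨hxk, ?_⟩
  have hdeg := finrank_adjoin_eq_deg_pdiv hK hxk
  rw [hx, IntermediateField.finrank_top] at hdeg
  exact effective_deg_one hK (zdiv_nonneg _) (by exact_mod_cast hdeg)

lemma rational_of_pole (hK : IsFunctionField k K) {x : K}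
    (hx : x ∉ Set.range (algebraMap k K)) {P : Place k K} (hP : P.deg = 1)
    (hpole : zdiv k x⁻¹ = Finsupp.single P 1) :
    IntermediateField.adjoin k ({x} : Set K) = ⊤ := by
  have hdeg := finrank_adjoin_eq_deg_pdiv hK hx
  rw [hpole, deg_single, hP] at hdeg
  rw [← IntermediateField.finrank_eq_one_iff_eq_top]
  have : (Module.finrank (IntermediateField.adjoin k ({x} : Set K)) K : ℤ) = 1 := by
    rw [← hdeg]; simp
  exact_mod_cast this

/-- S10994. -/
theorem genus_zero_iff (hK : IsFunctionField k K) :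
    (genus k K = 0 ∧ ∃ P : Place k K, P.deg = 1) ↔
      ∃ x : K, IntermediateField.adjoin k ({x} : Set K) = ⊤ := by
  constructor
  · rintro ⟨hg, P, hP⟩
    let D : Divisor k K := Finsupp.single P 1
    have hDdeg : D.deg = 1 := by simp only [D]; rw [deg_single, hP]; simp
    have h1 := ell_of_deg_ge hK D (by rw [hg, hDdeg]; simp)
    rw [hg, hDdeg] at h1
    have h2 : ell D = 2 := by
      have : (ell D : ℤ) = 2 := by rw [h1]; simp
      exact_mod_cast this
    -- find x ∈ L(D) not in k
    have hex : ∃ x ∈ L D, x ∉ Set.range (algebraMap k K) := by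
      by_contra hcon
      push Not at hcon
      have hle : L D ≤ (1 : Submodule k K) := by
        intro x hx
        rw [Submodule.mem_one]
        exact hcon x hx
      haveI : FiniteDimensional k (1 : Submodule k K) := by
        rw [Submodule.one_eq_span]; infer_instance
      have h3 := Submodule.finrank_mono hle
      have h4 : Module.finrank k (1 : Submodule k K) = 1 := by
        rw [Submodule.one_eq_span]; exact finrank_span_singleton one_ne_zero
      unfold ell at h2
      omega
    obtain ⟨x, hxL, hxk⟩ := hex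
    have hxt := transcendental_of_not_mem hK hxk
    have hx0 : x ≠ 0 := fun h => hxt (h ▸ isAlgebraic_zero)
    have hle : zdiv k x⁻¹ ≤ D := by
      intro Q
      rw [pdiv_apply hK]
      have := hxL Q
      rw [val_eq_exp_neg_ord Q hx0, exp_le_exp] at this
      have hD0 : 0 ≤ D Q := by
        classical
        simp only [D]
        by_cases hQ : Q = P
        · subst hQ; simp
        · simp [Finsupp.single_eq_of_ne hQ]
      exact max_le this hD0
    have hdeg := finrank_adjoin_eq_deg_pdiv hK hxk
    haveI := finite_over_adjoin hK hxt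
    have hpos : (1 : ℤ) ≤ Module.finrank (IntermediateField.adjoin k ({x} : Set K)) K := by
      exact_mod_cast (Module.finrank_pos : 0 < Module.finrank (IntermediateField.adjoin k {x}) K)
    have hdeg2 := deg_mono hle
    rw [hDdeg] at hdeg2
    refine ⟨x, ?_⟩
    rw [← IntermediateField.finrank_eq_one_iff_eq_top]
    have : (Module.finrank (IntermediateField.adjoin k ({x} : Set K)) K : ℤ) = 1 := by omega
    exact_mod_cast this
  · rintro ⟨x, hx⟩
    obtain ⟨hxk, P, hP, hpole⟩ := exists_pole_of_rational hK hx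
    exact ⟨genus_eq_zero_of_pole hK hxk hP hpole, P, hP⟩

/-- S10995. -/
theorem rational_iff_pole (hK : IsFunctionField k K) :
    (∃ (x : K) (P : Place k K), P.deg = 1 ∧ P.ord x = -1 ∧
      ∀ Q : Place k K, Q ≠ P → 0 ≤ Q.ord x) ↔
      ∃ x : K, IntermediateField.adjoin k ({x} : Set K) = ⊤ := by
  classical
  constructor
  · rintro ⟨x, P, hP, hord, hQ⟩
    have hxk : x ∉ Set.range (algebraMap k K) := by
      intro hmem
      have := div_eq_zero_of_mem hK hmem
      have h2 := div_apply hK x P
      rw [this, hord] at h2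
      simp at h2
    have hpole : zdiv k x⁻¹ = Finsupp.single P 1 := by
      ext Q
      rw [pdiv_apply hK]
      by_cases hQP : Q = P
      · subst hQP; rw [hord]; simp
      · rw [Finsupp.single_eq_of_ne hQP]
        have := hQ Q hQP
        exact max_eq_right (by omega)
    exact ⟨x, rational_of_pole hK hxk hP hpole⟩
  · rintro ⟨x, hx⟩
    obtain ⟨hxk, P, hP, hpole⟩ := exists_pole_of_rational hK hx
    refine ⟨x, P, hP, ?_, fun Q hQ => ?_⟩
    · have := congrArg (fun D : Divisor k K => D P) hpole
      simp only [pdiv_apply hK, Finsupp.single_eq_same] at this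
      have h2 : max (-(P.ord x)) 0 = 1 := this
      rcases max_cases (-(P.ord x)) 0 with ⟨h3, -⟩ | ⟨h3, -⟩ <;> omega
    · have := congrArg (fun D : Divisor k K => D Q) hpole
      simp only [pdiv_apply hK, Finsupp.single_eq_of_ne hQ] at this
      have h2 : max (-(Q.ord x)) 0 = 0 := this
      have := le_max_left (-(Q.ord x)) 0
      omega

/-- S10996. -/
theorem places_not_equiv (hK : IsFunctionField k K) (hg : 0 < genus k K) (P P' : Place k K)
    (hP : P.deg = 1) (hP' : P'.deg = 1) (x : K) (hx : x ≠ 0)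
    (h : Finsupp.single P 1 - Finsupp.single P' 1 = FunFld.div k x) : P = P' := by
  classical
  by_contra hne
  have hxk : x ∉ Set.range (algebraMap k K) := by
    intro hmem
    have h0 := div_eq_zero_of_mem hK hmem
    rw [h0] at h
    have := congrArg (fun D : Divisor k K => D P) h
    simp [Finsupp.single_eq_of_ne hne] at this
  have hpole : zdiv k x⁻¹ = Finsupp.single P' 1 := by
    ext Q
    rw [pdiv_apply hK, ← div_apply hK, ← h, Finsupp.sub_apply]
    by_cases hQP' : Q = P'
    · subst hQP'
      rw [Finsupp.single_eq_of_ne (fun h' => hne h'.symm), Finsupp.single_eq_same]; simp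
    · rw [Finsupp.single_eq_of_ne hQP']
      by_cases hQP : Q = P
      · subst hQP; simp
      · rw [Finsupp.single_eq_of_ne hQP]; simp
  have := genus_eq_zero_of_pole hK hxk hP' hpole
  omega

lemma div_mul (hK : IsFunctionField k K) {x y : K} (hx : x ≠ 0) (hy : y ≠ 0) :
    FunFld.div k (x * y) = FunFld.div k x + FunFld.div k y := by
  ext P
  rw [Finsupp.add_apply, div_apply hK, div_apply hK, div_apply hK]
  unfold Place.ord
  rw [map_mul, log_mul ((Valuation.ne_zero_iff _).mpr hx) ((Valuation.ne_zero_iff _).mpr hy)]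
  ring

/-- S10999. -/
theorem genus_one_bijection (hK : IsFunctionField k K) (hg : genus k K = 1)
    (P₀ : Place k K) (hP : P₀.deg = 1) (D : Divisor k K) (hD : D.deg = 0) :
    ∃! P : Place k K, P.deg = 1 ∧ ∃ x : K, x ≠ 0 ∧
      D = Finsupp.single P 1 - Finsupp.single P₀ 1 + FunFld.div k x := by
  let D' : Divisor k K := D + Finsupp.single P₀ 1
  have hD'deg : D'.deg = 1 := by simp only [D']; rw [deg_add, deg_single, hD, hP]; simp
  have h1 := ell_of_deg_ge hK D' (by rw [hg, hD'deg]; simp)
  rw [hg, hD'deg] at h1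
  haveI := L_finite hK D'
  have hpos : 0 < Module.finrank k (L D') := by
    have : (ell D' : ℤ) = 1 := by rw [h1]; simp
    have : ell D' = 1 := by exact_mod_cast this
    unfold ell at this; omega
  obtain ⟨⟨z, hzL⟩, hz0⟩ := Module.finrank_pos_iff_exists_ne_zero.mp hpos
  have hz : z ≠ 0 := fun h => hz0 (Subtype.ext h)
  have h5 := neg_le_div_of_mem_L hK hzL hz
  have hE0 : 0 ≤ D' + FunFld.div k z := by
    calc (0 : Divisor k K) = D' + -D' := by abel
      _ ≤ D' + FunFld.div k z := by gcongr
  have hEdeg : (D' + FunFld.div k z).deg = 1 := by rw [deg_add_div hK, hD'deg]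
  obtain ⟨P, hPdeg, hPeq⟩ := effective_deg_one hK hE0 hEdeg
  refine ⟨P, ⟨hPdeg, z⁻¹, inv_ne_zero hz, ?_⟩, ?_⟩
  · rw [div_inv hK, ← hPeq]; simp only [D']; abel
  · rintro Q ⟨hQdeg, y, hy0, hy⟩
    have h6 : Finsupp.single Q 1 - Finsupp.single P 1 = FunFld.div k (z⁻¹ * y⁻¹) := by
      rw [div_mul hK (inv_ne_zero hz) (inv_ne_zero hy0), div_inv hK, div_inv hK, ← hPeq]
      simp only [D']
      rw [hy]; abel
    exact places_not_equiv hK (by omega) Q P hQdeg hPdeg _
      (mul_ne_zero (inv_ne_zero hz) (inv_ne_zero hy0)) h6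

end Rational

end Groth.Agent.Lib.LeadFF
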