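import Mathlib
import Groth.Agent.Lib.LeadFF12

/-! Function fields of one variable, part 13: strong approximation; Weierstrass form of
genus one function fields. -/

namespace Groth.Agent.Lib.LeadFF

open FunFld WithZero Polynomial

section Strong

variable {k K : Type*} [Field k] [Field K] [Algebra k K]

lemma sum_single_apply_inj {n : ℕ} (P : Fin n → Place k K) (hP : Function.Injective P)
    (c : Fin n → ℤ) (j : Fin n) :
    (∑ i, Finsupp.single (P i) (c i) : Divisor k K) (P j) = c j := by
  classical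
  rw [Finsupp.finset_sum_apply]
  simp only [Finsupp.single_apply, hP.eq_iff]
  simp

lemma sum_single_apply_not_mem {n : ℕ} (P : Fin n → Place k K) (c : Fin n → ℤ)
    {Q : Place k K} (hQ : Q ∉ Set.range P) :
    (∑ i, Finsupp.single (P i) (c i) : Divisor k K) Q = 0 := by
  classical
  rw [Finsupp.finset_sum_apply]
  apply Finset.sum_eq_zero
  intro i _
  rw [Finsupp.single_apply, if_neg]
  intro h; exact hQ ⟨i, h⟩

lemma strong_approx_le (hK : IsFunctionField k K) (Pinf : Place k K) (n : ℕ)
    (P : Fin n → Place k K) (hP : Function.Injective P) (hinf : Pinf ∉ Set.range P)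
    (x : Fin n → K) (m : Fin n → ℤ) :
    ∃ z : K, (∀ i, (P i).1 (z - x i) ≤ exp (-(m i) - 1)) ∧
      ∀ Q : Place k K, Q ≠ Pinf → Q ∉ Set.range P → Q.1 z ≤ 1 := by
  classical
  obtain ⟨-, N, hN⟩ := riemann hK
  let E : Divisor k K := ∑ i, Finsupp.single (P i) (-(m i) - 1)
  let r : ℕ := (N - E.deg).toNat
  let D₂ : Divisor k K := E + r • Finsupp.single Pinf 1
  have hD₂deg : N ≤ D₂.deg := by
    simp only [D₂]
    rw [deg_add, deg_nsmul, deg_single]
    have h1 : N - E.deg ≤ r := Int.self_le_toNat _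
    have h2 : (1 : ℤ) ≤ Pinf.deg := by exact_mod_cast deg_pos hK Pinf
    have h3 : (0 : ℤ) ≤ r := Int.natCast_nonneg _
    nlinarith
  have hD₂P : ∀ j, D₂ (P j) = -(m j) - 1 := by
    intro j
    have hne : P j ≠ Pinf := fun h => hinf ⟨j, h⟩
    simp only [D₂, Finsupp.coe_add, Pi.add_apply, Finsupp.coe_smul, Pi.smul_apply]
    rw [sum_single_apply_inj P hP, Finsupp.single_eq_of_ne hne]; simp
  have hD₂Q : ∀ Q : Place k K, Q ≠ Pinf → Q ∉ Set.range P → D₂ Q = 0 := by
    intro Q hQ1 hQ2
    simp only [D₂, Finsupp.coe_add, Pi.add_apply, Finsupp.coe_smul, Pi.smul_apply]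
    rw [sum_single_apply_not_mem P _ hQ2, Finsupp.single_eq_of_ne hQ1]; simp
  let α : Place k K → K := fun Q => if h : ∃ i, P i = Q then x h.choose else 0
  have hαP : ∀ j, α (P j) = x j := by
    intro j
    have hex : ∃ i, P i = P j := ⟨j, rfl⟩
    simp only [α, dif_pos hex]
    congr 1
    exact hP hex.choose_spec
  have hαQ : ∀ Q : Place k K, Q ∉ Set.range P → α Q = 0 := by
    intro Q hQ
    have hex : ¬ ∃ i, P i = Q := fun ⟨i, hi⟩ => hQ ⟨i, hi⟩
    simp only [α, dif_neg hex]
  have hα : α ∈ adele k K := by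
    rw [mem_adele]
    refine (Set.finite_range P).subset ?_
    intro Q hQ
    by_contra hQr
    apply hQ
    rw [hαQ Q hQr, map_zero]; exact zero_le
  rw [adele_eq_of_large hK hN D₂ hD₂deg] at hα
  obtain ⟨β, hβ, _, ⟨w, rfl⟩, hsum⟩ := Submodule.mem_sup.mp hα
  refine ⟨w, fun j => ?_, fun Q hQ1 hQ2 => ?_⟩
  · have h1 := congrFun hsum (P j)
    rw [hαP] at h1
    have h2 : w - x j = -β (P j) := by
      rw [← h1]; simp only [Pi.add_apply]
      have : (diag k K w) (P j) = w := rfl
      rw [this]; ring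
    rw [h2, Valuation.map_neg, ← hD₂P j]
    exact hβ (P j)
  · have h1 := congrFun hsum Q
    rw [hαQ Q hQ2] at h1
    have h2 : w = -β Q := by
      have : (diag k K w) Q = w := rfl
      simp only [Pi.add_apply, this] at h1
      linear_combination h1
    rw [h2, Valuation.map_neg]
    have := hβ Q
    rwa [hD₂Q Q hQ1 hQ2, exp_zero] at this

/-- S10997 : strong approximation. -/
theorem strong_approx (hK : IsFunctionField k K) (Pinf : Place k K) (n : ℕ)
    (P : Fin n → Place k K) (hP : Function.Injective P) (hinf : Pinf ∉ Set.range P)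
    (x : Fin n → K) (m : Fin n → ℤ) :
    ∃ y : K, (∀ i, (P i).1 (y - x i) = exp (-(m i))) ∧
      ∀ Q : Place k K, Q ≠ Pinf → Q ∉ Set.range P → Q.1 y ≤ 1 := by
  obtain ⟨z, hz1, hz2⟩ := strong_approx_le hK Pinf n P hP hinf x m
  have hy : ∀ i, ∃ yi : K, (P i).1 yi = exp (-(m i)) := fun i => (P i).2.2 _
  choose y₀ hy₀ using hy
  obtain ⟨z', hz'1, hz'2⟩ := strong_approx_le hK Pinf n P hP hinf y₀ m
  refine ⟨z + z', fun i => ?_, fun Q hQ1 hQ2 => ?_⟩
  · have h1 : (P i).1 (z - x i) < exp (-(m i)) :=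
      lt_of_le_of_lt (hz1 i) (exp_lt_exp.mpr (by omega))
    have h2 : (P i).1 (z' - y₀ i) < (P i).1 (y₀ i) := by
      rw [hy₀]; exact lt_of_le_of_lt (hz'1 i) (exp_lt_exp.mpr (by omega))
    have h3 : (P i).1 z' = exp (-(m i)) := by
      rw [Valuation.map_eq_of_sub_lt _ h2, hy₀]
    have e : z + z' - x i = (z - x i) + z' := by ring
    rw [e, Valuation.map_add_eq_of_lt_right _ (by rw [h3]; exact h1), h3]
  · exact Valuation.map_add_le _ (hz2 Q hQ1 hQ2) (hz'2 Q hQ1 hQ2)

end Strong

section Weierstrass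

variable {k K : Type*} [Field k] [Field K] [Algebra k K]

lemma linearIndependent_of_val_injective {Γ₀ : Type*} [LinearOrderedCommGroupWithZero Γ₀]
    {v : Valuation K Γ₀} (hk : TrivOn k v) {ι : Type*} [Fintype ι] (e : ι → K)
    (he0 : ∀ i, e i ≠ 0) (hinj : Function.Injective (fun i => v (e i))) :
    LinearIndependent k e := by
  classical
  rw [Fintype.linearIndependent_iff]
  intro c hc
  by_contra hne
  push Not at hne
  obtain ⟨i₀, hi₀⟩ := hne
  let S : Finset ι := Finset.univ.filter (fun i => c i ≠ 0)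
  have hS : i₀ ∈ S := by simp [S, hi₀]
  obtain ⟨i₁, hi₁S, hmax⟩ := Finset.exists_max_image S (fun i => v (e i)) ⟨i₀, hS⟩
  have hval : ∀ i ∈ S, v (c i • e i) = v (e i) := by
    intro i hi
    rw [Algebra.smul_def, map_mul, hk _ (Finset.mem_filter.mp hi).2, one_mul]
  have hsum : ∑ i ∈ S, c i • e i = 0 := by
    rw [← hc]
    apply Finset.sum_filter_of_ne
    intro i _ hi h
    apply hi; rw [h, zero_smul]
  have hlt : ∀ i ∈ S \ {i₁}, v (c i • e i) < v (c i₁ • e i₁) := by
    intro i hi
    rw [Finset.mem_sdiff, Finset.mem_singleton] at hi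
    rw [hval i hi.1, hval i₁ hi₁S]
    exact lt_of_le_of_ne (hmax i hi.1) (fun h => hi.2 (hinj h))
  have h1 := Valuation.map_sum_eq_of_lt v hi₁S hlt
  rw [hsum, map_zero, hval i₁ hi₁S] at h1
  exact (Valuation.ne_zero_iff v).mpr (he0 i₁) h1.symm

lemma ell_single_of_genus_one (hK : IsFunctionField k K) (hg : genus k K = 1)
    {P₀ : Place k K} (hP : P₀.deg = 1) (n : ℕ) (hn : 1 ≤ n) :
    ell (Finsupp.single P₀ (n : ℤ) : Divisor k K) = n := by
  have hdeg : Divisor.deg (Finsupp.single P₀ (n : ℤ) : Divisor k K) = n := by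
    rw [deg_single, hP]; simp
  have h1 := ell_of_deg_ge hK (Finsupp.single P₀ (n : ℤ)) (by rw [hg, hdeg]; push_cast; omega)
  rw [hg, hdeg] at h1
  have : (ell (Finsupp.single P₀ (n : ℤ) : Divisor k K) : ℤ) = n := by rw [h1]; simp
  exact_mod_cast this

lemma single_mono (P₀ : Place k K) {a b : ℤ} (h : a ≤ b) :
    (Finsupp.single P₀ a : Divisor k K) ≤ Finsupp.single P₀ b := by
  classical
  intro Q
  by_cases hQ : Q = P₀
  · subst hQ; simpa using h
  · simp [Finsupp.single_eq_of_ne hQ]

lemma exists_pole_order (hK : IsFunctionField k K) (hg : genus k K = 1)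
    {P₀ : Place k K} (hP : P₀.deg = 1) (n : ℕ) (hn : 1 ≤ n) :
    ∃ x : K, x ∈ L (Finsupp.single P₀ ((n : ℤ) + 1) : Divisor k K) ∧
      P₀.ord x = -((n : ℤ) + 1) ∧ (∀ Q : Place k K, Q ≠ P₀ → Q.1 x ≤ 1) ∧
      x ∉ Set.range (algebraMap k K) ∧
      zdiv k x⁻¹ = Finsupp.single P₀ ((n : ℤ) + 1) := by
  classical
  have h1 := ell_single_of_genus_one hK hg hP n hn
  have h2 := ell_single_of_genus_one hK hg hP (n + 1) (by omega)
  push_cast at h2
  have hle : L (Finsupp.single P₀ (n : ℤ) : Divisor k K) ≤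
      L (Finsupp.single P₀ ((n : ℤ) + 1)) := L_mono (single_mono P₀ (by omega))
  have hex : ∃ x ∈ L (Finsupp.single P₀ ((n : ℤ) + 1) : Divisor k K),
      x ∉ L (Finsupp.single P₀ (n : ℤ) : Divisor k K) := by
    by_contra hcon
    push Not at hcon
    haveI := L_finite hK (Finsupp.single P₀ (n : ℤ))
    have := Submodule.finrank_mono (show L (Finsupp.single P₀ ((n : ℤ) + 1) : Divisor k K) ≤
      L (Finsupp.single P₀ (n : ℤ)) from hcon)
    unfold ell at h1 h2
    omega
  obtain ⟨x, hx1, hx2⟩ := hex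
  have hx0 : x ≠ 0 := by rintro rfl; exact hx2 (Submodule.zero_mem _)
  have hQ : ∀ Q : Place k K, Q ≠ P₀ → Q.1 x ≤ 1 := by
    intro Q hQ
    have := hx1 Q
    rwa [Finsupp.single_eq_of_ne hQ, exp_zero] at this
  have hP₀ : exp (n : ℤ) < P₀.1 x := by
    by_contra hcon
    push Not at hcon
    apply hx2
    intro Q
    by_cases hQP : Q = P₀
    · subst hQP; rw [Finsupp.single_eq_same]; exact hcon
    · rw [Finsupp.single_eq_of_ne hQP, exp_zero]; exact hQ Q hQP
  have hP₀' : P₀.1 x ≤ exp ((n : ℤ) + 1) := by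
    have := hx1 P₀
    rwa [Finsupp.single_eq_same] at this
  have hord : P₀.ord x = -((n : ℤ) + 1) := by
    rw [val_eq_exp_neg_ord P₀ hx0, exp_lt_exp] at hP₀
    rw [val_eq_exp_neg_ord P₀ hx0, exp_le_exp] at hP₀'
    omega
  have hxk : x ∉ Set.range (algebraMap k K) := by
    intro hmem
    have := div_eq_zero_of_mem hK hmem
    have h3 := div_apply hK x P₀
    rw [this, hord] at h3
    simp at h3
    omega
  refine ⟨x, hx1, hord, hQ, hxk, ?_⟩
  ext Q
  rw [pdiv_apply hK]
  by_cases hQP : Q = P₀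
  · subst hQP
    rw [hord, Finsupp.single_eq_same, neg_neg]
    exact max_eq_left (by omega)
  · rw [Finsupp.single_eq_of_ne hQP]
    have h3 := hQ Q hQP
    rw [val_eq_exp_neg_ord Q hx0, ← exp_zero, exp_le_exp] at h3
    exact max_eq_right (by omega)

/-- S10998. -/
theorem weierstrass (hK : IsFunctionField k K) (hg : genus k K = 1) (P₀ : Place k K)
    (hP : P₀.deg = 1) :
    ∃ x y : K, x ∈ L (Finsupp.single P₀ 2) ∧ y ∈ L (Finsupp.single P₀ 3) ∧
      P₀.ord x = -2 ∧ P₀.ord y = -3 ∧ IntermediateField.adjoin k ({x, y} : Set K) = ⊤ ∧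
      ∃ f g : Polynomial k, f.natDegree ≤ 1 ∧ g.natDegree = 3 ∧
        y ^ 2 + Polynomial.aeval x f * y + Polynomial.aeval x g = 0 := by
  classical
  obtain ⟨x, hxL, hxord, hxQ, hxk, hxpole⟩ := exists_pole_order hK hg hP 1 le_rfl
  obtain ⟨y, hyL, hyord, hyQ, hyk, hypole⟩ := exists_pole_order hK hg hP 2 (by omega)
  norm_num at hxL hxord hxpole hyL hyord hypole
  have hx0 : x ≠ 0 := by rintro rfl; exact hxk ⟨0, map_zero _⟩
  have hy0 : y ≠ 0 := by rintro rfl; exact hyk ⟨0, map_zero _⟩
  have hvx : P₀.1 x = exp (2 : ℤ) := by rw [val_eq_exp_neg_ord P₀ hx0, hxord]; simp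
  have hvy : P₀.1 y = exp (3 : ℤ) := by rw [val_eq_exp_neg_ord P₀ hy0, hyord]; simp
  refine ⟨x, y, hxL, hyL, hxord, hyord, ?_, ?_⟩
  · -- K = k(x, y)
    have hdx := finrank_adjoin_eq_deg_pdiv hK hxk
    have hdy := finrank_adjoin_eq_deg_pdiv hK hyk
    rw [hxpole, deg_single, hP] at hdx
    rw [hypole, deg_single, hP] at hdy
    have hfx : Module.finrank (IntermediateField.adjoin k ({x} : Set K)) K = 2 := by
      have : ((Module.finrank (IntermediateField.adjoin k ({x} : Set K)) K : ℕ) : ℤ) = 2 := by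
        rw [← hdx]; simp
      exact_mod_cast this
    have hfy : Module.finrank (IntermediateField.adjoin k ({y} : Set K)) K = 3 := by
      have : ((Module.finrank (IntermediateField.adjoin k ({y} : Set K)) K : ℕ) : ℤ) = 3 := by
        rw [← hdy]; simp
      exact_mod_cast this
    have hlex : IntermediateField.adjoin k ({x} : Set K) ≤
        IntermediateField.adjoin k ({x, y} : Set K) :=
      IntermediateField.adjoin.mono k _ _ (by intro a ha; rw [Set.mem_singleton_iff] at ha; simp [ha])
    have hley : IntermediateField.adjoin k ({y} : Set K) ≤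
        IntermediateField.adjoin k ({x, y} : Set K) :=
      IntermediateField.adjoin.mono k _ _ (by intro a ha; rw [Set.mem_singleton_iff] at ha; simp [ha])
    have h2 := IntermediateField.finrank_dvd_of_le_left hlex
    have h3 := IntermediateField.finrank_dvd_of_le_left hley
    rw [hfx] at h2
    rw [hfy] at h3
    rw [← IntermediateField.finrank_eq_one_iff_eq_top]
    have h6 : Module.finrank (IntermediateField.adjoin k ({x, y} : Set K)) K ∣ Nat.gcd 2 3 :=
      Nat.dvd_gcd h2 h3
    have : Nat.gcd 2 3 = 1 := by norm_num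
    rw [this] at h6
    exact Nat.dvd_one.mp h6
  · -- the cubic relation
    let D : Divisor k K := Finsupp.single P₀ 6
    let e : Fin 6 → K := ![1, x, y, x ^ 2, x * y, x ^ 3]
    let p : Fin 6 → ℤ := ![0, 2, 3, 4, 5, 6]
    have hp : Function.Injective p := by decide
    have hve : ∀ i, P₀.1 (e i) = exp (p i) := by
      intro i
      fin_cases i <;> simp [e, p, hvx, hvy, zm0_exp_pow, ← exp_add]
    have he0 : ∀ i, e i ≠ 0 := by
      intro i h
      have := hve i
      rw [h, map_zero] at this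
      exact exp_ne_zero this.symm
    have hinj : Function.Injective (fun i => P₀.1 (e i)) := by
      intro i j hij
      simp only [hve] at hij
      exact hp (exp_injective hij)
    have hli := linearIndependent_of_val_injective (place_trivOn P₀) e he0 hinj
    have hQe : ∀ i, ∀ Q : Place k K, Q ≠ P₀ → Q.1 (e i) ≤ 1 := by
      intro i Q hQ
      have h1 := hxQ Q hQ
      have h2 := hyQ Q hQ
      fin_cases i
      · show Q.1 (1 : K) ≤ 1
        rw [map_one]
      · show Q.1 x ≤ 1
        exact h1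
      · show Q.1 y ≤ 1
        exact h2
      · show Q.1 (x ^ 2) ≤ 1
        rw [map_pow]; exact pow_le_one' h1 2
      · show Q.1 (x * y) ≤ 1
        rw [map_mul]; exact mul_le_one' h1 h2
      · show Q.1 (x ^ 3) ≤ 1
        rw [map_pow]; exact pow_le_one' h1 3
    have hmem : ∀ i, e i ∈ L D := by
      intro i Q
      by_cases hQ : Q = P₀
      · subst hQ
        simp only [D, Finsupp.single_eq_same]
        rw [hve, exp_le_exp]
        fin_cases i <;> simp [p]
      · simp only [D, Finsupp.single_eq_of_ne hQ, exp_zero]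
        exact hQe i Q hQ
    have hy2mem : y ^ 2 ∈ L D := by
      intro Q
      by_cases hQ : Q = P₀
      · subst hQ
        simp only [D, Finsupp.single_eq_same]
        rw [map_pow, hvy, zm0_exp_pow]; simp
      · simp only [D, Finsupp.single_eq_of_ne hQ, exp_zero]
        rw [map_pow]; exact pow_le_one' (hyQ Q hQ) 2
    haveI := L_finite hK D
    have hell : Module.finrank k (L D) = 6 := by
      have := ell_single_of_genus_one hK hg hP 6 (by omega)
      exact this
    have hli' : LinearIndependent k (fun i : Fin 6 => (⟨e i, hmem i⟩ : L D)) := by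
      apply LinearIndependent.of_comp (L D).subtype
      exact hli
    have hspan := hli'.span_eq_top_of_card_eq_finrank' (by rw [hell]; simp)
    have hy2 : (⟨y ^ 2, hy2mem⟩ : L D) ∈ Submodule.span k (Set.range fun i : Fin 6 =>
        (⟨e i, hmem i⟩ : L D)) := by rw [hspan]; exact Submodule.mem_top
    obtain ⟨a, ha⟩ := (Submodule.mem_span_range_iff_exists_fun k).mp hy2
    have hrel : ∑ i, a i • e i = y ^ 2 := by
      have := congrArg (fun w : L D => (w : K)) ha
      simpa using this
    rw [Fin.sum_univ_six] at hrel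
    simp only [e, Matrix.cons_val_zero, Matrix.cons_val_one, Matrix.cons_val] at hrel
    have ha5 : a 5 ≠ 0 := by
      intro h5
      rw [h5, zero_smul, add_zero] at hrel
      have hv : P₀.1 (y ^ 2) = exp (6 : ℤ) := by rw [map_pow, hvy, zm0_exp_pow]; simp
      have hle : P₀.1 (y ^ 2) ≤ exp (5 : ℤ) := by
        rw [← hrel]
        have hterm : ∀ (c : k) (w : K) (q : ℤ), P₀.1 w = exp q → q ≤ 5 →
            P₀.1 (c • w) ≤ exp (5 : ℤ) := by
          intro c w q hw hq
          rw [Algebra.smul_def, map_mul, hw]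
          calc P₀.1 (algebraMap k K c) * exp q ≤ 1 * exp q := mul_le_mul' (P₀.2.1 c) le_rfl
            _ = exp q := one_mul _
            _ ≤ exp 5 := exp_le_exp.mpr hq
        have h0 := hterm (a 0) 1 0 (by simp) (by omega)
        have h1 := hterm (a 1) x 2 hvx (by omega)
        have h2 := hterm (a 2) y 3 hvy (by omega)
        have h3 := hterm (a 3) (x ^ 2) 4 (by rw [map_pow, hvx, zm0_exp_pow]; simp) (by omega)
        have h4 := hterm (a 4) (x * y) 5 (by rw [map_mul, hvx, hvy, ← exp_add]; simp) (by omega)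
        exact Valuation.map_add_le _ (Valuation.map_add_le _ (Valuation.map_add_le _
          (Valuation.map_add_le _ h0 h1) h2) h3) h4
      rw [hv, exp_le_exp] at hle
      omega
    refine ⟨-(C (a 4) * X + C (a 2)), -(C (a 5) * X ^ 3 + C (a 3) * X ^ 2 + C (a 1) * X + C (a 0)),
      ?_, ?_, ?_⟩
    · rw [natDegree_neg]; exact natDegree_linear_le
    · rw [natDegree_neg]; exact natDegree_cubic ha5
    · simp only [map_neg, map_add, map_mul, aeval_C, map_pow, aeval_X]
      simp only [Algebra.smul_def, mul_one] at hrel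
      linear_combination -hrel

end Weierstrass

end Groth.Agent.Lib.LeadFF
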