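import Mathlib
import Groth.Agent.Lib.LeadFF13

/-! Function fields of one variable, part 14: further consequences. -/

namespace Groth.Agent.Lib.LeadFF

open FunFld WithZero

section Extra

variable {k K : Type*} [Field k] [Field K] [Algebra k K]

/-- S11016. -/
theorem L_ne_bot_iff (hK : IsFunctionField k K) (D : Divisor k K) :
    L D ≠ ⊥ ↔ ∃ x : K, x ≠ 0 ∧ 0 ≤ D + FunFld.div k x := by
  constructor
  · intro h
    obtain ⟨x, hx, hx0⟩ := (Submodule.ne_bot_iff _).mp h
    refine ⟨x, hx0, ?_⟩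
    have := neg_le_div_of_mem_L hK hx hx0
    calc (0 : Divisor k K) = D + -D := by abel
      _ ≤ D + FunFld.div k x := by gcongr
  · rintro ⟨x, hx0, hx⟩
    rw [Submodule.ne_bot_iff]
    refine ⟨x, ?_, hx0⟩
    intro P
    rw [val_eq_exp_neg_ord P hx0, exp_le_exp]
    have := hx P
    rw [Finsupp.add_apply, div_apply hK] at this
    simp only [Finsupp.coe_zero, Pi.zero_apply] at this
    omega

/-- S11031. -/
theorem exists_special (hK : IsFunctionField k K) (D : Divisor k K) (hD : 0 ≤ D)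
    (hdeg : D.deg < genus k K) :
    ∃ ω : Module.Dual k (adele k K), ω ≠ 0 ∧ ω ∈ WD D := by
  obtain ⟨hfin, hrank⟩ := WD_dim hK D
  haveI := L_finite hK D
  have h1 : ell (0 : Divisor k K) ≤ ell D := Submodule.finrank_mono (L_mono hD)
  rw [ell_zero hK] at h1
  have h1' : (1 : ℤ) ≤ ell D := by exact_mod_cast h1
  have hpos : 0 < Module.finrank k (WD D) := by
    have : (0 : ℤ) < Module.finrank k (WD D) := by rw [hrank]; linarith
    exact_mod_cast this
  haveI := hfin
  obtain ⟨⟨ω, hω⟩, hω0⟩ :=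
    (Module.finrank_pos_iff_exists_ne_zero (R := k) (M := ↥(WD D))).mp hpos
  exact ⟨ω, fun h => hω0 (Subtype.ext h), hω⟩

end Extra

end Groth.Agent.Lib.LeadFF
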