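import Mathlib
import Groth.Agent.Lib.LeadFF14

/-! Function fields of one variable, part 15: algebraically closed constants, gap numbers. -/

namespace Groth.Agent.Lib.LeadFF

open FunFld WithZero

section AlgClosed

variable {k K : Type*} [Field k] [Field K] [Algebra k K]

lemma residue_surjective_of_algClosed [IsAlgClosed k] (hK : IsFunctionField k K) (P : Place k K) :
    Function.Surjective (algebraMap k (IsLocalRing.ResidueField P.O)) := by
  have h1 := residueField_finite hK P
  have : Algebra.IsIntegral k (IsLocalRing.ResidueField P.O) :=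
    @Algebra.IsIntegral.of_finite k _ _ _ _ h1
  exact (IsAlgClosed.algebraMap_bijective_of_isIntegral (k := k)).2

lemma deg_eq_one_of_algClosed [IsAlgClosed k] (hK : IsFunctionField k K) (P : Place k K) :
    P.deg = 1 := by
  have := residueField_finite hK P
  unfold Place.deg
  rw [finrank_eq_one_iff_of_nonzero' (1 : IsLocalRing.ResidueField P.O) one_ne_zero]
  intro w
  obtain ⟨c, hc⟩ := residue_surjective_of_algClosed hK P w
  exact ⟨c, by rw [← hc, Algebra.algebraMap_eq_smul_one]; rfl⟩

lemma exists_const_sub_lt_one [IsAlgClosed k] (hK : IsFunctionField k K) (P : Place k K) {x : K}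
    (hx : P.1 x ≤ 1) : ∃ c : k, P.1 (x - algebraMap k K c) < 1 := by
  have hxO : x ∈ P.O := (Valuation.mem_valuationSubring_iff P.1 x).mpr hx
  obtain ⟨c, hc⟩ := residue_surjective_of_algClosed hK P (IsLocalRing.residue P.O ⟨x, hxO⟩)
  refine ⟨c, ?_⟩
  have hcO : algebraMap k K c ∈ P.O := (Valuation.mem_valuationSubring_iff P.1 _).mpr (P.2.1 c)
  have h1 : IsLocalRing.residue P.O (⟨x, hxO⟩ - ⟨algebraMap k K c, hcO⟩) = 0 := by
    rw [map_sub, sub_eq_zero, ← hc]; rfl
  rw [IsLocalRing.residue_eq_zero_iff] at h1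
  exact (Valuation.mem_maximalIdeal_iff (v := P.1)).mp h1

end AlgClosed

section Gaps

variable {k K : Type*} [Field k] [Field K] [Algebra k K]

/-- `m` is a gap at `P`. -/
def IsGap (P : Place k K) (m : ℕ) : Prop :=
  L (Finsupp.single P (m : ℤ)) = L (Finsupp.single P ((m : ℤ) - 1))

lemma single_apply_self (P : Place k K) (n : ℤ) : (Finsupp.single P n : Divisor k K) P = n := by
  simp

lemma single_apply_ne {P Q : Place k K} (h : Q ≠ P) (n : ℤ) :
    (Finsupp.single P n : Divisor k K) Q = 0 := by
  classical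
  exact Finsupp.single_eq_of_ne h

lemma mem_L_single {P : Place k K} {n : ℤ} {x : K} :
    x ∈ L (Finsupp.single P n) ↔ P.1 x ≤ exp n ∧ ∀ Q : Place k K, Q ≠ P → Q.1 x ≤ 1 := by
  constructor
  · intro h
    refine ⟨by simpa using h P, fun Q hQ => ?_⟩
    have := h Q
    rwa [single_apply_ne hQ, exp_zero] at this
  · rintro ⟨h1, h2⟩ Q
    by_cases hQ : Q = P
    · subst hQ; simpa using h1
    · rw [single_apply_ne hQ, exp_zero]; exact h2 Q hQ

lemma L_single_le (P : Place k K) (m : ℤ) :
    L (Finsupp.single P (m - 1)) ≤ L (Finsupp.single P m) := by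
  intro x hx
  rw [mem_L_single] at hx ⊢
  exact ⟨hx.1.trans (exp_le_exp.mpr (by omega)), hx.2⟩

/-- `m` is not a gap iff there's a function with pole of exact order `m` at `P` and no other pole. -/
lemma not_isGap_iff (P : Place k K) (m : ℕ) :
    ¬ IsGap P m ↔ ∃ x : K, P.1 x = exp (m : ℤ) ∧ ∀ Q : Place k K, Q ≠ P → Q.1 x ≤ 1 := by
  unfold IsGap
  constructor
  · intro h
    have hlt : L (Finsupp.single P ((m : ℤ) - 1)) < L (Finsupp.single P (m : ℤ)) :=
      lt_of_le_of_ne (L_single_le P m) (Ne.symm h)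
    obtain ⟨x, hx, hx'⟩ := SetLike.exists_of_lt hlt
    rw [mem_L_single] at hx hx'
    refine ⟨x, ?_, hx.2⟩
    have h1 : ¬ P.1 x ≤ exp ((m : ℤ) - 1) := fun h' => hx' ⟨h', hx.2⟩
    rw [not_le] at h1
    have hx0 : x ≠ 0 := by rintro rfl; simp at h1
    rw [val_eq_exp_neg_ord P hx0] at h1 hx ⊢
    rw [exp_lt_exp] at h1
    have := exp_le_exp.mp hx.1
    congr 1; omega
  · rintro ⟨x, hx1, hx2⟩ h
    have hx : x ∈ L (Finsupp.single P (m : ℤ)) := mem_L_single.mpr ⟨hx1.le, hx2⟩
    rw [h, mem_L_single] at hx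
    rw [hx1, exp_le_exp] at hx
    omega

lemma not_isGap_zero (P : Place k K) : ¬ IsGap P 0 := by
  rw [not_isGap_iff]
  exact ⟨1, by simp, fun Q _ => by simp⟩

lemma not_isGap_add {P : Place k K} {m n : ℕ} (hm : ¬ IsGap P m) (hn : ¬ IsGap P n) :
    ¬ IsGap P (m + n) := by
  rw [not_isGap_iff] at hm hn ⊢
  obtain ⟨x, hx1, hx2⟩ := hm
  obtain ⟨y, hy1, hy2⟩ := hn
  refine ⟨x * y, ?_, fun Q hQ => ?_⟩
  · rw [map_mul, hx1, hy1, ← exp_add]; push_cast; rfl
  · rw [map_mul]; exact (mul_le_mul' (hx2 Q hQ) (hy2 Q hQ)).trans_eq (one_mul _)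

lemma isGap_sub {P : Place k K} {m n : ℕ} (hn : IsGap P n) (hm : ¬ IsGap P m) (hmn : m ≤ n) :
    IsGap P (n - m) := by
  by_contra h
  have := not_isGap_add hm h
  rw [Nat.add_sub_cancel' hmn] at this
  exact this hn

open scoped Classical in
/-- The gaps in `[1, n]`. -/
noncomputable def gapsLE (P : Place k K) (n : ℕ) : Finset ℕ :=
  (Finset.Icc 1 n).filter (IsGap P)

open scoped Classical in
/-- S11045 core: if `n` is a gap then at least half of `[1, n-1]` are gaps. -/
theorem gap_half (P : Place k K) (n : ℕ) (hn : 1 ≤ n) (hgap : IsGap P n) :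
    n - 1 ≤ 2 * (gapsLE P (n - 1)).card := by
  classical
  set G := gapsLE P (n - 1) with hG
  set N := (Finset.Icc 1 (n - 1)).filter (fun m => ¬ IsGap P m) with hN
  have hsum : G.card + N.card = n - 1 := by
    rw [hG, hN, gapsLE, Finset.card_filter_add_card_filter_not]
    simp
  have hinj : N.card ≤ G.card := by
    apply Finset.card_le_card_of_injOn (fun m => n - m)
    · intro m hm
      simp only [hN, Finset.coe_filter, Finset.mem_Icc, Set.mem_ofPred_eq] at hm
      simp only [hG, gapsLE, Finset.coe_filter, Finset.mem_Icc, Set.mem_ofPred_eq]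
      refine ⟨⟨by omega, by omega⟩, isGap_sub hgap hm.2 (by omega)⟩
    · intro a ha b hb hab
      simp only [hN, Finset.coe_filter, Finset.mem_Icc, Set.mem_ofPred_eq] at ha hb
      simp only at hab
      omega
  omega

lemma ell_single_step (hK : IsFunctionField k K) (P : Place k K) (hP : P.deg = 1) (m : ℕ) :
    (IsGap P (m + 1) → ell (Finsupp.single P ((m : ℤ) + 1)) = ell (Finsupp.single P (m : ℤ))) ∧
    (¬ IsGap P (m + 1) →
      ell (Finsupp.single P ((m : ℤ) + 1)) = ell (Finsupp.single P (m : ℤ)) + 1) := by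
  have e1 : (((m + 1 : ℕ) : ℤ)) = (m : ℤ) + 1 := by push_cast; rfl
  have e2 : (((m + 1 : ℕ) : ℤ)) - 1 = (m : ℤ) := by push_cast; ring
  constructor
  · intro h
    unfold IsGap at h
    rw [e2, e1] at h
    unfold ell; rw [h]
  · intro h
    unfold IsGap at h
    rw [e2, e1] at h
    haveI := L_finite hK (Finsupp.single P (m : ℤ))
    haveI := L_finite hK (Finsupp.single P ((m : ℤ) + 1))
    have hle : L (Finsupp.single P (m : ℤ)) ≤ L (Finsupp.single P ((m : ℤ) + 1)) := by
      have := L_single_le P ((m : ℤ) + 1)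
      rwa [add_sub_cancel_right] at this
    have hlt : L (Finsupp.single P (m : ℤ)) < L (Finsupp.single P ((m : ℤ) + 1)) :=
      lt_of_le_of_ne hle (Ne.symm h)
    have h1 := Submodule.finrank_lt_finrank_of_lt hlt
    have h2 := (L_step hK (Finsupp.single P (m : ℤ)) P).2
    rw [← Finsupp.single_add, hP] at h2
    unfold ell at *
    omega

open scoped Classical in
/-- `ℓ(nP) + #gaps in [1,n] = n + 1` for a place of degree one. -/
theorem ell_single_add_gaps (hK : IsFunctionField k K) (P : Place k K) (hP : P.deg = 1) (n : ℕ) :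
    ell (Finsupp.single P (n : ℤ)) + (gapsLE P n).card = n + 1 := by
  classical
  induction n with
  | zero =>
    have : (Finsupp.single P ((0 : ℕ) : ℤ) : Divisor k K) = 0 := by simp
    rw [this, ell_zero hK]
    simp [gapsLE]
  | succ n ih =>
    have hset : gapsLE P (n + 1) =
        if IsGap P (n + 1) then insert (n + 1) (gapsLE P n) else gapsLE P n := by
      unfold gapsLE
      rw [← Finset.insert_Icc_right_eq_Icc_add_one (by omega : 1 ≤ n + 1), Finset.filter_insert]
    have hnot : (n + 1) ∉ gapsLE P n := by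
      simp [gapsLE]
    obtain ⟨h1, h2⟩ := ell_single_step hK P hP n
    have e1 : (((n + 1 : ℕ) : ℤ)) = (n : ℤ) + 1 := by push_cast; rfl
    rw [e1, hset]
    by_cases hg : IsGap P (n + 1)
    · rw [if_pos hg, Finset.card_insert_of_notMem hnot, h1 hg]; omega
    · rw [if_neg hg, h2 hg]; omega

lemma gapsLE_mono (P : Place k K) {m n : ℕ} (h : m ≤ n) : gapsLE P m ⊆ gapsLE P n := by
  classical
  unfold gapsLE
  intro x hx
  simp only [Finset.mem_filter, Finset.mem_Icc] at hx ⊢
  exact ⟨⟨hx.1.1, hx.1.2.trans h⟩, hx.2⟩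

/-- Total number of gaps is `g`: for `n ≥ 2g - 1`. -/
theorem card_gaps_of_large (hK : IsFunctionField k K) (P : Place k K) (hP : P.deg = 1) (n : ℕ)
    (hn : 2 * (genus k K : ℤ) - 1 ≤ n) : (gapsLE P n).card = genus k K := by
  have h1 := ell_single_add_gaps hK P hP n
  have h2 := ell_of_deg_ge hK (Finsupp.single P (n : ℤ)) (by rw [deg_single, hP]; simpa using hn)
  rw [deg_single, hP] at h2
  push_cast at h2
  omega

/-- Clifford's bound for multiples of a point (S11046 core). -/
theorem clifford_single (hK : IsFunctionField k K) (P : Place k K) (hP : P.deg = 1) (n : ℕ)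
    (hn : (n : ℤ) ≤ 2 * (genus k K : ℤ) - 2) :
    2 * ell (Finsupp.single P (n : ℤ)) ≤ n + 2 := by
  classical
  have h1 := ell_single_add_gaps hK P hP n
  suffices h : n ≤ 2 * (gapsLE P n).card by omega
  by_cases hex : ∃ N, n < N ∧ IsGap P N
  · let N := Nat.find hex
    obtain ⟨hN1, hN2⟩ : n < N ∧ IsGap P N := Nat.find_spec hex
    have hmin : ∀ m, n < m → m < N → ¬ IsGap P m := fun m h1 h2 h3 =>
      Nat.find_min hex h2 ⟨h1, h3⟩
    have h3 := gap_half P N (by omega) hN2
    have h4 : gapsLE P (N - 1) ⊆ gapsLE P n := by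
      intro x hx
      simp only [gapsLE, Finset.mem_filter, Finset.mem_Icc] at hx ⊢
      refine ⟨⟨hx.1.1, ?_⟩, hx.2⟩
      by_contra hlt
      exact hmin x (by omega) (by omega) hx.2
    have := Finset.card_le_card h4
    omega
  · push Not at hex
    let M := max n (2 * genus k K)
    have hM := card_gaps_of_large hK P hP M (by
      have : 2 * genus k K ≤ M := le_max_right _ _
      omega)
    have h4 : gapsLE P M ⊆ gapsLE P n := by
      intro x hx
      simp only [gapsLE, Finset.mem_filter, Finset.mem_Icc] at hx ⊢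
      refine ⟨⟨hx.1.1, ?_⟩, hx.2⟩
      by_contra hlt
      exact hex x (by omega) hx.2
    have := Finset.card_le_card h4
    omega

/-- In positive genus, `1` is a gap at every place of degree one. -/
theorem isGap_one (hK : IsFunctionField k K) (hg : 0 < genus k K) (P : Place k K)
    (hP : P.deg = 1) : IsGap P 1 := by
  classical
  by_contra h
  rw [not_isGap_iff] at h
  obtain ⟨x, hx1, hx2⟩ := h
  have hlt : (1 : WithZero (Multiplicative ℤ)) < exp ((1 : ℕ) : ℤ) := by
    rw [← exp_zero, exp_lt_exp]; norm_num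
  have hxk : x ∉ Set.range (algebraMap k K) := by
    rintro ⟨c, rfl⟩
    have := P.2.1 c
    rw [hx1] at this
    exact absurd hlt (not_lt.mpr this)
  have hx0 : x ≠ 0 := by rintro rfl; exact hxk ⟨0, map_zero _⟩
  have hpole : zdiv k x⁻¹ = Finsupp.single P 1 := by
    ext Q
    rw [pdiv_apply hK]
    by_cases hQP : Q = P
    · subst hQP
      have : Q.ord x = -1 := by
        unfold Place.ord; rw [hx1, log_exp]; norm_num
      rw [this]; simp
    · rw [Finsupp.single_eq_of_ne hQP]
      have h1 := hx2 Q hQP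
      have h2 : ¬ (Q.ord x < 0) := by
        rw [ord_neg_iff Q hx0]; exact not_lt.mpr h1
      exact max_eq_right (by omega)
  have := genus_eq_zero_of_pole hK hxk hP hpole
  omega

theorem ell_single_one (hK : IsFunctionField k K) (hg : 0 < genus k K) (P : Place k K)
    (hP : P.deg = 1) : ell (Finsupp.single P (1 : ℤ)) = 1 := by
  have h := (ell_single_step hK P hP 0).1 (isGap_one hK hg P hP)
  simp only [Nat.cast_zero, zero_add, Finsupp.single_zero] at h
  rw [h, ell_zero hK]

/-- S11044 core. -/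
theorem ell_sub_single_lt (hK : IsFunctionField k K) (hg : 0 < genus k K) (D : Divisor k K)
    (hD : 2 * (genus k K : ℤ) ≤ D.deg ∨ IsCanonical k K D) (P : Place k K) (hP : P.deg = 1) :
    ell (D - Finsupp.single P 1) < ell D := by
  rcases hD with hD | hD
  · have h1 := ell_of_deg_ge hK D (by omega)
    have h2 := ell_of_deg_ge hK (D - Finsupp.single P 1) (by
      rw [deg_sub, deg_single, hP]; push_cast; omega)
    rw [deg_sub, deg_single, hP] at h2
    push_cast at h2
    omega
  · obtain ⟨h1, h2⟩ := canonical_ell_deg hK hD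
    have h3 := riemann_roch hK D hD (D - Finsupp.single P 1)
    rw [sub_sub_cancel, ell_single_one hK hg P hP, deg_sub, deg_single, hP, h2] at h3
    push_cast at h3
    omega

end Gaps

end Groth.Agent.Lib.LeadFF
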