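import Mathlib
import Groth.Agent.Lib.LeadFF15

/-! Function fields of one variable, part 16: automorphisms and fixed places. -/

namespace Groth.Agent.Lib.LeadFF

open FunFld WithZero

section Aut

variable {k K : Type*} [Field k] [Field K] [Algebra k K]

lemma zeros_finite' (hK : IsFunctionField k K) {x : K} (hx : x ≠ 0) :
    {P : Place k K | P.1 x < 1}.Finite := by
  by_cases h : x ∈ Set.range (algebraMap k K)
  · obtain ⟨c, rfl⟩ := h
    have hc : c ≠ 0 := by rintro rfl; simp at hx
    convert Set.finite_empty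
    ext P
    simp [place_trivOn P c hc]
  · exact zeros_finite hK (transcendental_of_not_mem hK h)

lemma poles_finite' (hK : IsFunctionField k K) (x : K) :
    {P : Place k K | 1 < P.1 x}.Finite := by
  by_cases hx : x = 0
  · subst hx; simp
  · convert zeros_finite' hK (inv_ne_zero hx) using 1
    ext P
    simp only [Set.mem_setOf_eq, map_inv₀]
    have h0 : 0 < P.1 x := zero_lt_iff.mpr ((Valuation.ne_zero_iff _).mpr hx)
    rw [inv_lt_one₀ h0]

theorem infinite_places [Infinite k] (hK : IsFunctionField k K) : Infinite (Place k K) := by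
  obtain ⟨x, hx, -⟩ := hK.1
  have htr : ∀ c : k, Transcendental k (x - algebraMap k K c) := by
    intro c halg
    apply hx
    have := halg.add (isAlgebraic_algebraMap (R := k) (A := K) c)
    simpa using this
  choose f hf using fun c => exists_place_lt_one hK (htr c)
  apply Infinite.of_injective f
  intro c c' hcc
  by_contra hne
  have h1 := hf c
  have h2 := hf c'
  rw [← hcc] at h2
  have h3 : (f c).1 ((x - algebraMap k K c) - (x - algebraMap k K c')) < 1 :=
    lt_of_le_of_lt (Valuation.map_sub _ _ _) (max_lt h1 h2)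
  have h4 : (x - algebraMap k K c) - (x - algebraMap k K c') = algebraMap k K (c' - c) := by
    rw [map_sub]; ring
  rw [h4, place_trivOn (f c) (c' - c) (sub_ne_zero.mpr (Ne.symm hne))] at h3
  exact lt_irrefl _ h3

/-- transport a place along an automorphism: `(comapEquiv σ P) x = P (σ x)`. -/
def comapEquiv (σ : K ≃ₐ[k] K) (P : Place k K) : Place k K :=
  ⟨P.1.comap (σ : K →+* K), fun c => by
    simp only [Valuation.comap_apply, RingHom.coe_coe, AlgEquiv.commutes]; exact P.2.1 c,
   fun g => by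
    obtain ⟨x, hx⟩ := P.2.2 g
    exact ⟨σ.symm x, by simp [Valuation.comap_apply, hx]⟩⟩

@[simp] lemma comapEquiv_apply (σ : K ≃ₐ[k] K) (P : Place k K) (x : K) :
    (comapEquiv σ P).1 x = P.1 (σ x) := rfl

lemma comapEquiv_symm_comapEquiv (σ : K ≃ₐ[k] K) (P : Place k K) :
    comapEquiv σ (comapEquiv σ.symm P) = P := by
  apply Subtype.ext
  ext x
  simp

lemma comapEquiv_comapEquiv_symm (σ : K ≃ₐ[k] K) (P : Place k K) :
    comapEquiv σ.symm (comapEquiv σ P) = P := by
  apply Subtype.ext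
  ext x
  simp

/-- a place whose maximal ideal is mapped into itself by `σ` is fixed. -/
lemma comapEquiv_eq_of_fixed (σ : K ≃ₐ[k] K) (P : Place k K)
    (h : ∀ x : K, P.1 x < 1 → P.1 (σ x) < 1) : comapEquiv σ P = P := by
  apply place_eq_of_le
  intro y hy
  by_contra hlt
  rw [not_le] at hlt
  have hy0 : y ≠ 0 := by rintro rfl; simp at hlt
  have h0 : 0 < P.1 y := zero_lt_iff.mpr ((Valuation.ne_zero_iff _).mpr hy0)
  have h1 : P.1 y⁻¹ < 1 := by rw [map_inv₀, inv_lt_one₀ h0]; exact hlt
  have h2 := h _ h1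
  rw [map_inv₀, map_inv₀] at h2
  have h0' : 0 < P.1 (σ y) := zero_lt_iff.mpr ((Valuation.ne_zero_iff _).mpr (by simpa using hy0))
  rw [inv_lt_one₀ h0'] at h2
  rw [comapEquiv_apply] at hy
  exact absurd h2 (not_lt.mpr hy)

lemma sub_apply_lt_one_of_fixed [IsAlgClosed k] (hK : IsFunctionField k K) (σ : K ≃ₐ[k] K)
    (P : Place k K) (h : ∀ x : K, P.1 x < 1 → P.1 (σ x) < 1) {x : K} (hx : P.1 x ≤ 1) :
    P.1 (x - σ x) < 1 := by
  obtain ⟨c, hc⟩ := exists_const_sub_lt_one hK P hx
  have h1 := h _ hc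
  rw [map_sub, AlgEquiv.commutes] at h1
  have : x - σ x = (x - algebraMap k K c) - (σ x - algebraMap k K c) := by ring
  rw [this]
  exact lt_of_le_of_lt (Valuation.map_sub _ _ _) (max_lt hc h1)

open scoped Classical in
lemma sum_single_one_apply (s : Finset (Place k K)) (R : Place k K) :
    (∑ Q ∈ s, (Finsupp.single Q (1 : ℤ) : Divisor k K)) R = if R ∈ s then 1 else 0 := by
  rw [Finsupp.finsetSum_apply]
  simp [Finsupp.single_apply, Finset.sum_ite_eq']

lemma deg_sum_single_one (s : Finset (Place k K)) (hs : ∀ Q ∈ s, Q.deg = 1) :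
    Divisor.deg (∑ Q ∈ s, (Finsupp.single Q (1 : ℤ) : Divisor k K)) = s.card := by
  have : Divisor.deg (∑ Q ∈ s, (Finsupp.single Q (1 : ℤ) : Divisor k K)) =
      ∑ Q ∈ s, Divisor.deg (Finsupp.single Q (1 : ℤ) : Divisor k K) := by
    rw [← degHom_apply, map_sum]; rfl
  rw [this, Finset.sum_congr rfl (fun Q hQ => by rw [deg_single, hs Q hQ])]
  simp

/-- existence of a non-gap in `[1, g+1]`. -/
lemma exists_nongap (hK : IsFunctionField k K) (P : Place k K) (hP : P.deg = 1) :
    ∃ m : ℕ, 1 ≤ m ∧ m ≤ genus k K + 1 ∧ ¬ IsGap P m := by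
  classical
  by_contra hno
  push Not at hno
  have h1 := ell_single_add_gaps hK P hP (genus k K + 1)
  have h2 : gapsLE P (genus k K + 1) = Finset.Icc 1 (genus k K + 1) := by
    unfold gapsLE
    apply Finset.filter_true_of_mem
    intro m hm
    rw [Finset.mem_Icc] at hm
    exact hno m hm.1 hm.2
  rw [h2] at h1
  simp only [Nat.card_Icc, add_tsub_cancel_right] at h1
  have h3 := (riemann hK).1 (Finsupp.single P ((genus k K + 1 : ℕ) : ℤ))
  rw [deg_single, hP] at h3
  push_cast at h3 h1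
  omega

/-- S11047 core. -/
theorem aut_eq_one_of_fixed [IsAlgClosed k] (hK : IsFunctionField k K) (σ : K ≃ₐ[k] K)
    (h : ((2 * genus k K + 2 : ℕ) : ℕ∞) <
      Set.encard {P : Place k K | ∀ x : K, P.1 x < 1 → P.1 (σ x) < 1}) : σ = 1 := by
  classical
  by_contra hσ
  set F : Set (Place k K) := {P : Place k K | ∀ x : K, P.1 x < 1 → P.1 (σ x) < 1} with hF
  obtain ⟨z, hz⟩ : ∃ z, σ z ≠ z := by
    by_contra hall
    push Not at hall
    exact hσ (AlgEquiv.ext hall)
  -- F is finite
  have hFfin : F.Finite := by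
    have hw : z - σ z ≠ 0 := sub_ne_zero.mpr (Ne.symm hz)
    apply ((poles_finite' hK z).union (zeros_finite' hK hw)).subset
    intro P hP
    by_cases hPz : P.1 z ≤ 1
    · right; exact sub_apply_lt_one_of_fixed hK σ P hP hPz
    · left; exact not_le.mp hPz
  haveI : Infinite k := IsAlgClosed.instInfinite
  haveI := infinite_places hK
  obtain ⟨P, hPF⟩ := hFfin.exists_notMem
  have hP := deg_eq_one_of_algClosed hK P
  set P₁ := comapEquiv σ P with hP₁
  set P₂ := comapEquiv σ.symm P with hP₂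
  have hP₁ne : P₁ ≠ P := by
    intro heq
    apply hPF
    intro x hx
    have := congrArg (fun Q : Place k K => Q.1 x) heq
    simp only [hP₁, comapEquiv_apply] at this
    rw [this]; exact hx
  have hP₂ne : P₂ ≠ P := by
    intro heq
    apply hP₁ne
    rw [hP₁, ← heq, hP₂, comapEquiv_symm_comapEquiv]
    exact heq.symm
  obtain ⟨m, hm1, hm2, hm3⟩ := exists_nongap hK P hP
  rw [not_isGap_iff] at hm3
  obtain ⟨x, hx1, hx2⟩ := hm3
  have hexp : (1 : WithZero (Multiplicative ℤ)) < exp (m : ℤ) := by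
    rw [← exp_zero, exp_lt_exp]; omega
  set y := x - σ x with hy
  -- values of y
  have hyP : P.1 y = exp (m : ℤ) := by
    have h1 : P.1 (σ x) ≤ 1 := hx2 P₁ hP₁ne
    rw [hy, Valuation.map_sub_eq_of_lt_left _ (by rw [hx1]; exact lt_of_le_of_lt h1 hexp), hx1]
  have hyP₂ : P₂.1 y = exp (m : ℤ) := by
    have h1 : P₂.1 x ≤ 1 := hx2 P₂ hP₂ne
    have h2 : P₂.1 (σ x) = exp (m : ℤ) := by
      rw [hP₂, comapEquiv_apply, AlgEquiv.symm_apply_apply, hx1]
    rw [hy, Valuation.map_sub_eq_of_lt_right _ (by rw [h2]; exact lt_of_le_of_lt h1 hexp), h2]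
  have hyQ : ∀ Q : Place k K, Q ≠ P → Q ≠ P₂ → Q.1 y ≤ 1 := by
    intro Q hQ1 hQ2
    have h1 : Q.1 x ≤ 1 := hx2 Q hQ1
    have h2 : Q.1 (σ x) ≤ 1 := by
      have hne : comapEquiv σ Q ≠ P := by
        intro heq
        apply hQ2
        rw [hP₂, ← heq, comapEquiv_comapEquiv_symm]
      exact hx2 _ hne
    exact (Valuation.map_sub _ _ _).trans (max_le h1 h2)
  have hy0 : y ≠ 0 := by
    intro h0
    rw [h0, map_zero] at hyP
    exact exp_ne_zero hyP.symm
  have hP₂F : P₂ ∉ F := by
    intro hmem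
    have := comapEquiv_eq_of_fixed σ P₂ hmem
    rw [hP₂, comapEquiv_symm_comapEquiv] at this
    exact hP₂ne this.symm
  have hyF : ∀ Q ∈ F, Q.1 y < 1 := by
    intro Q hQ
    have hQ1 : Q ≠ P := fun h' => hPF (h' ▸ hQ)
    have h1 : Q.1 x ≤ 1 := hx2 Q hQ1
    exact sub_apply_lt_one_of_fixed hK σ Q hQ h1
  -- choose 2g+3 fixed places
  have hle : ((2 * genus k K + 3 : ℕ) : ℕ∞) ≤ F.encard := by
    have : ((2 * genus k K + 3 : ℕ) : ℕ∞) = ((2 * genus k K + 2 : ℕ) : ℕ∞) + 1 := by
      push_cast; ring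
    rw [this]
    exact Order.add_one_le_of_lt h
  obtain ⟨t, htF, htcard⟩ := Set.exists_subset_encard_eq hle
  have htfin : t.Finite := Set.finite_of_encard_eq_coe htcard
  set s := htfin.toFinset with hs
  have hscard : s.card = 2 * genus k K + 3 := by
    have := htfin.encard_eq_coe_toFinset_card
    rw [htcard] at this
    exact_mod_cast this.symm
  have hsF : ∀ Q ∈ s, Q ∈ F := fun Q hQ => htF (htfin.mem_toFinset.mp hQ)
  set D : Divisor k K := Finsupp.single P (m : ℤ) + Finsupp.single P₂ (m : ℤ) -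
    ∑ Q ∈ s, (Finsupp.single Q (1 : ℤ) : Divisor k K) with hD
  have hyD : y ∈ L D := by
    intro R
    rw [hD, Finsupp.sub_apply, Finsupp.add_apply, sum_single_one_apply]
    by_cases hRs : R ∈ s
    · have hRF := hsF R hRs
      have hR1 : R ≠ P := fun h' => hPF (h' ▸ hRF)
      have hR2 : R ≠ P₂ := fun h' => hP₂F (h' ▸ hRF)
      rw [if_pos hRs, single_apply_ne hR1, single_apply_ne hR2]
      have := hyF R hRF
      rw [zm0_lt_one_iff] at this
      simpa using this
    · rw [if_neg hRs, sub_zero]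
      by_cases hR1 : R = P
      · subst hR1
        rw [single_apply_self, single_apply_ne (Ne.symm hP₂ne), add_zero, hyP]
      · by_cases hR2 : R = P₂
        · subst hR2
          rw [single_apply_self, single_apply_ne hR1, zero_add, hyP₂]
        · rw [single_apply_ne hR1, single_apply_ne hR2, add_zero, exp_zero]
          exact hyQ R hR1 hR2
  have hdeg : D.deg < 0 := by
    rw [hD, deg_sub, deg_add, deg_single, deg_single, hP, deg_eq_one_of_algClosed hK P₂,
      deg_sum_single_one s (fun Q _ => deg_eq_one_of_algClosed hK Q), hscard]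
    push_cast
    omega
  have := L_eq_bot_of_deg_neg hK D hdeg
  rw [this, Submodule.mem_bot] at hyD
  exact hy0 hyD

end Aut

end Groth.Agent.Lib.LeadFF
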