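import Mathlib
import Groth.Agent.Lib.LeadFF16
import Groth.Prelude.Def_W4bk4goldsch45

/-! Function fields of one variable, part 17: projective maps, local rings. -/

namespace Groth.Agent.Lib.LeadFF

open FunFld WithZero

section ProjMap

variable {k K : Type*} [Field k] [Field K] [Algebra k K]

lemma mapDiv_support_finite (hK : IsFunctionField k K) {ι : Type*} [Fintype ι] [Nonempty ι]
    (φ : ι → K) :
    (Function.support fun P : Place k K =>
      -Finset.univ.inf' Finset.univ_nonempty (fun i => P.ord (φ i))).Finite := by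
  apply (Set.finite_iUnion (fun i => support_ord_finite hK (φ i))).subset
  intro P hP
  rw [Function.mem_support] at hP
  simp only [Set.mem_iUnion, Function.mem_support]
  by_contra hall
  push Not at hall
  apply hP
  have : Finset.univ.inf' Finset.univ_nonempty (fun i => P.ord (φ i)) = 0 := by
    apply le_antisymm
    · obtain ⟨i⟩ := ‹Nonempty ι›
      exact (Finset.inf'_le _ (Finset.mem_univ i)).trans (hall i).le
    · apply Finset.le_inf'
      intro i _
      rw [hall i]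
  rw [this, neg_zero]

lemma mapDiv_apply (hK : IsFunctionField k K) {ι : Type*} [Fintype ι] [Nonempty ι]
    (φ : ι → K) (P : Place k K) :
    mapDiv k φ P = -Finset.univ.inf' Finset.univ_nonempty (fun i => P.ord (φ i)) := by
  unfold mapDiv
  rw [dif_pos (mapDiv_support_finite hK φ)]
  rfl

lemma exists_maxIdx {ι : Type*} [Finite ι] [Nonempty ι] (φ : ι → K) (P : Place k K)
    (h : ∃ i, φ i ≠ 0) : ∃ j, φ j ≠ 0 ∧ ∀ i, P.1 (φ i) ≤ P.1 (φ j) := by
  obtain ⟨j, hj⟩ := Finite.exists_max (fun i => P.1 (φ i))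
  refine ⟨j, ?_, hj⟩
  obtain ⟨i, hi⟩ := h
  intro h0
  have := hj i
  simp only [h0, map_zero, le_zero_iff] at this
  exact hi ((map_eq_zero _).mp this)

/-- the affine coordinate ring of the chart `j`. -/
abbrev chart (k : Type*) {K : Type*} [Field k] [Field K] [Algebra k K] {ι : Type*}
    (φ : ι → K) (j : ι) : Subalgebra k K :=
  Algebra.adjoin k (Set.range fun i => φ i / φ j)

/-- membership in the local ring, with the chart `j` fixed. -/
def InLoc {ι : Type*} (φ : ι → K) (P : Place k K) (j : ι) (z : K) : Prop :=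
  ∃ u ∈ chart k φ j, ∃ w ∈ chart k φ j, P.1 w = 1 ∧ z * w = u

lemma inLocRing_def {ι : Type*} (φ : ι → K) (P : Place k K) (z : K) :
    InLocRing φ P z ↔ ∃ j, φ j ≠ 0 ∧ (∀ i, P.1 (φ i) ≤ P.1 (φ j)) ∧ InLoc φ P j z := Iff.rfl

lemma ratio_mem_chart {ι : Type*} (φ : ι → K) (j i : ι) : φ i / φ j ∈ chart k φ j :=
  Algebra.subset_adjoin ⟨i, rfl⟩

lemma chart_change {ι : Type*} (φ : ι → K) (j j' : ι) (hj : φ j ≠ 0) (hj' : φ j' ≠ 0) :
    ∀ u ∈ chart k φ j', ∃ m : ℕ, u * (φ j' / φ j) ^ m ∈ chart k φ j := by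
  have hρ : φ j' / φ j ∈ chart k φ j := ratio_mem_chart φ j j'
  intro u hu
  induction hu using Algebra.adjoin_induction with
  | mem x hx =>
    obtain ⟨i, rfl⟩ := hx
    refine ⟨1, ?_⟩
    have : φ i / φ j' * (φ j' / φ j) ^ 1 = φ i / φ j := by field_simp
    rw [this]; exact ratio_mem_chart φ j i
  | algebraMap c => exact ⟨0, by simpa using Subalgebra.algebraMap_mem _ c⟩
  | add x y _ _ hx hy =>
    obtain ⟨m1, h1⟩ := hx
    obtain ⟨m2, h2⟩ := hy
    refine ⟨m1 + m2, ?_⟩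
    have : (x + y) * (φ j' / φ j) ^ (m1 + m2) =
        x * (φ j' / φ j) ^ m1 * (φ j' / φ j) ^ m2 + y * (φ j' / φ j) ^ m2 * (φ j' / φ j) ^ m1 := by
      ring
    rw [this]
    exact add_mem (mul_mem h1 (pow_mem hρ _)) (mul_mem h2 (pow_mem hρ _))
  | mul x y _ _ hx hy =>
    obtain ⟨m1, h1⟩ := hx
    obtain ⟨m2, h2⟩ := hy
    refine ⟨m1 + m2, ?_⟩
    have : (x * y) * (φ j' / φ j) ^ (m1 + m2) =
        (x * (φ j' / φ j) ^ m1) * (y * (φ j' / φ j) ^ m2) := by ring
    rw [this]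
    exact mul_mem h1 h2

lemma chart_le_one {ι : Type*} (φ : ι → K) (P : Place k K) (j : ι) (hj : φ j ≠ 0)
    (hmax : ∀ i, P.1 (φ i) ≤ P.1 (φ j)) : ∀ u ∈ chart k φ j, P.1 u ≤ 1 := by
  have h0 : 0 < P.1 (φ j) := zero_lt_iff.mpr ((Valuation.ne_zero_iff _).mpr hj)
  intro u hu
  induction hu using Algebra.adjoin_induction with
  | mem x hx =>
    obtain ⟨i, rfl⟩ := hx
    rw [map_div₀, div_le_one₀ h0]; exact hmax i
  | algebraMap c => exact P.2.1 c
  | add x y _ _ hx hy => exact (P.1.map_add x y).trans (max_le hx hy)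
  | mul x y _ _ hx hy => rw [map_mul]; exact mul_le_one' hx hy

lemma inLoc_change {ι : Type*} (φ : ι → K) (P : Place k K) (j j' : ι) (hj : φ j ≠ 0)
    (hj' : φ j' ≠ 0) (hmax : ∀ i, P.1 (φ i) ≤ P.1 (φ j)) (hmax' : ∀ i, P.1 (φ i) ≤ P.1 (φ j'))
    {z : K} (h : InLoc φ P j' z) : InLoc φ P j z := by
  obtain ⟨u, hu, w, hw, hw1, hzw⟩ := h
  obtain ⟨m1, h1⟩ := chart_change φ j j' hj hj' u hu
  obtain ⟨m2, h2⟩ := chart_change φ j j' hj hj' w hw
  have hρ : φ j' / φ j ∈ chart k φ j := ratio_mem_chart φ j j'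
  have hρ1 : P.1 (φ j' / φ j) = 1 := by
    rw [map_div₀, le_antisymm (hmax j') (hmax' j)]
    exact div_self ((Valuation.ne_zero_iff _).mpr hj)
  refine ⟨u * (φ j' / φ j) ^ (m1 + m2), ?_, w * (φ j' / φ j) ^ (m1 + m2), ?_, ?_, ?_⟩
  · rw [pow_add, ← mul_assoc]; exact mul_mem h1 (pow_mem hρ _)
  · rw [pow_add, mul_comm ((φ j' / φ j) ^ m1), ← mul_assoc]; exact mul_mem h2 (pow_mem hρ _)
  · rw [map_mul, map_pow, hρ1, hw1, one_pow, one_mul]
  · rw [← mul_assoc, hzw]

lemma inLocRing_iff {ι : Type*} (φ : ι → K) (P : Place k K) (j : ι) (hj : φ j ≠ 0)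
    (hmax : ∀ i, P.1 (φ i) ≤ P.1 (φ j)) (z : K) : InLocRing φ P z ↔ InLoc φ P j z := by
  constructor
  · rintro ⟨j', hj', hmax', h⟩
    exact inLoc_change φ P j j' hj hj' hmax hmax' h
  · intro h; exact ⟨j, hj, hmax, h⟩

lemma InLoc.of_mem {ι : Type*} {φ : ι → K} {P : Place k K} {j : ι} {u : K}
    (hu : u ∈ chart k φ j) : InLoc φ P j u :=
  ⟨u, hu, 1, one_mem _, by simp, by simp⟩

lemma InLoc.add {ι : Type*} {φ : ι → K} {P : Place k K} {j : ι} {z z' : K}
    (h : InLoc φ P j z) (h' : InLoc φ P j z') : InLoc φ P j (z + z') := by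
  obtain ⟨u, hu, w, hw, hw1, hzw⟩ := h
  obtain ⟨u', hu', w', hw', hw1', hzw'⟩ := h'
  refine ⟨u * w' + u' * w, add_mem (mul_mem hu hw') (mul_mem hu' hw), w * w', mul_mem hw hw',
    by rw [map_mul, hw1, hw1', one_mul], ?_⟩
  rw [← hzw, ← hzw']; ring

lemma InLoc.mul {ι : Type*} {φ : ι → K} {P : Place k K} {j : ι} {z z' : K}
    (h : InLoc φ P j z) (h' : InLoc φ P j z') : InLoc φ P j (z * z') := by
  obtain ⟨u, hu, w, hw, hw1, hzw⟩ := h
  obtain ⟨u', hu', w', hw', hw1', hzw'⟩ := h'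
  refine ⟨u * u', mul_mem hu hu', w * w', mul_mem hw hw',
    by rw [map_mul, hw1, hw1', one_mul], ?_⟩
  rw [← hzw, ← hzw']; ring

lemma InLoc.neg {ι : Type*} {φ : ι → K} {P : Place k K} {j : ι} {z : K}
    (h : InLoc φ P j z) : InLoc φ P j (-z) := by
  obtain ⟨u, hu, w, hw, hw1, hzw⟩ := h
  exact ⟨-u, neg_mem hu, w, hw, hw1, by rw [← hzw]; ring⟩

lemma InLoc.sub {ι : Type*} {φ : ι → K} {P : Place k K} {j : ι} {z z' : K}
    (h : InLoc φ P j z) (h' : InLoc φ P j z') : InLoc φ P j (z - z') := by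
  rw [sub_eq_add_neg]; exact h.add h'.neg

lemma InLoc.inv {ι : Type*} {φ : ι → K} {P : Place k K} {j : ι} {z : K}
    (h : InLoc φ P j z) (hz : P.1 z = 1) : InLoc φ P j z⁻¹ := by
  obtain ⟨u, hu, w, hw, hw1, hzw⟩ := h
  have hz0 : z ≠ 0 := by rintro rfl; simp at hz
  refine ⟨w, hw, u, hu, by rw [← hzw, map_mul, hz, hw1, one_mul], ?_⟩
  rw [← hzw]; field_simp

lemma InLoc.le_one {ι : Type*} {φ : ι → K} {P : Place k K} {j : ι} (hj : φ j ≠ 0)
    (hmax : ∀ i, P.1 (φ i) ≤ P.1 (φ j)) {z : K} (h : InLoc φ P j z) : P.1 z ≤ 1 := by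
  obtain ⟨u, hu, w, hw, hw1, hzw⟩ := h
  have := chart_le_one φ P j hj hmax u hu
  rwa [← hzw, map_mul, hw1, mul_one] at this

lemma InLoc.pow {ι : Type*} {φ : ι → K} {P : Place k K} {j : ι} {z : K}
    (h : InLoc φ P j z) (m : ℕ) : InLoc φ P j (z ^ m) := by
  induction m with
  | zero => simpa using InLoc.of_mem (one_mem _)
  | succ m ih => rw [pow_succ]; exact ih.mul h

lemma InLoc.algebraMap {ι : Type*} {φ : ι → K} {P : Place k K} {j : ι} (c : k) :
    InLoc φ P j (algebraMap k K c) := InLoc.of_mem (Subalgebra.algebraMap_mem _ c)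

/-- common residues of polynomial expressions. -/
lemma adjoin_residue {ι : Type*} (S : Set (Place k K)) (r : ι → K) (c : ι → k)
    (h : ∀ P ∈ S, ∀ i, P.1 (r i - algebraMap k K (c i)) < 1) :
    ∀ u ∈ Algebra.adjoin k (Set.range r), ∃ cu : k, ∀ P ∈ S, P.1 (u - algebraMap k K cu) < 1 := by
  intro u hu
  induction hu using Algebra.adjoin_induction with
  | mem x hx =>
    obtain ⟨i, rfl⟩ := hx
    exact ⟨c i, fun P hP => h P hP i⟩
  | algebraMap a => exact ⟨a, fun P _ => by simp⟩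
  | add x y _ _ hx hy =>
    obtain ⟨cx, hcx⟩ := hx
    obtain ⟨cy, hcy⟩ := hy
    refine ⟨cx + cy, fun P hP => ?_⟩
    have : x + y - algebraMap k K (cx + cy) = (x - algebraMap k K cx) + (y - algebraMap k K cy) := by
      rw [map_add]; ring
    rw [this]
    exact lt_of_le_of_lt (P.1.map_add _ _) (max_lt (hcx P hP) (hcy P hP))
  | mul x y _ _ hx hy =>
    obtain ⟨cx, hcx⟩ := hx
    obtain ⟨cy, hcy⟩ := hy
    refine ⟨cx * cy, fun P hP => ?_⟩
    have hy1 : P.1 y ≤ 1 := by
      have : y = (y - algebraMap k K cy) + algebraMap k K cy := by ring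
      rw [this]
      exact (P.1.map_add _ _).trans (max_le (hcy P hP).le (P.2.1 cy))
    have : x * y - algebraMap k K (cx * cy) =
        (x - algebraMap k K cx) * y + algebraMap k K cx * (y - algebraMap k K cy) := by
      rw [map_mul]; ring
    rw [this]
    refine lt_of_le_of_lt (P.1.map_add _ _) (max_lt ?_ ?_)
    · rw [map_mul]
      calc P.1 (x - algebraMap k K cx) * P.1 y ≤ P.1 (x - algebraMap k K cx) * 1 :=
            mul_le_mul' le_rfl hy1
        _ < 1 := by rw [mul_one]; exact hcx P hP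
    · rw [map_mul]
      calc P.1 (algebraMap k K cx) * P.1 (y - algebraMap k K cy)
          ≤ 1 * P.1 (y - algebraMap k K cy) := mul_le_mul' (P.2.1 cx) le_rfl
        _ < 1 := by rw [one_mul]; exact hcy P hP

lemma residue_unique (P : Place k K) {x : K} {c c' : k} (h : P.1 (x - algebraMap k K c) < 1)
    (h' : P.1 (x - algebraMap k K c') < 1) : c = c' := by
  by_contra hne
  have h3 : P.1 ((x - algebraMap k K c) - (x - algebraMap k K c')) < 1 :=
    lt_of_le_of_lt (Valuation.map_sub _ _ _) (max_lt h h')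
  have h4 : (x - algebraMap k K c) - (x - algebraMap k K c') = algebraMap k K (c' - c) := by
    rw [map_sub]; ring
  rw [h4, place_trivOn P (c' - c) (sub_ne_zero.mpr (Ne.symm hne))] at h3
  exact lt_irrefl _ h3

end ProjMap

end Groth.Agent.Lib.LeadFF

namespace Groth.Agent.Lib.LeadFF

open FunFld WithZero

section Birational

variable {k K : Type*} [Field k] [Field K] [Algebra k K]

lemma chart_le_adjoin {ι : Type*} (φ : ι → K) (i₀ j : ι) (h0 : φ i₀ ≠ 0) :
    chart k φ j ≤ (IntermediateField.adjoin k (Set.range fun i => φ i / φ i₀)).toSubalgebra := by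
  apply Algebra.adjoin_le
  rintro _ ⟨i, rfl⟩
  have h1 : φ i / φ i₀ ∈ IntermediateField.adjoin k (Set.range fun i => φ i / φ i₀) :=
    IntermediateField.subset_adjoin _ _ ⟨i, rfl⟩
  have h2 : φ j / φ i₀ ∈ IntermediateField.adjoin k (Set.range fun i => φ i / φ i₀) :=
    IntermediateField.subset_adjoin _ _ ⟨j, rfl⟩
  by_cases hj : φ j = 0
  · simp only [hj, div_zero]; exact zero_mem _
  · have := div_mem h1 h2
    have e : φ i / φ i₀ / (φ j / φ i₀) = φ i / φ j := by field_simp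
    rw [e] at this
    exact this

/-- S11064 core. -/
theorem birational_of_nonsingular {ι : Type*} (φ : ι → K) (i₀ : ι) (h0 : φ i₀ ≠ 0)
    (P : Place k K) (h : IsNonsingularAt φ P) :
    IntermediateField.adjoin k (Set.range fun i => φ i / φ i₀) = ⊤ := by
  rw [eq_top_iff]
  intro z _
  have key : ∀ z : K, P.1 z ≤ 1 →
      z ∈ IntermediateField.adjoin k (Set.range fun i => φ i / φ i₀) := by
    intro z hz
    obtain ⟨j, hj, hmax, u, hu, w, hw, hw1, hzw⟩ := h z hz
    have hu' := chart_le_adjoin φ i₀ j h0 hu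
    have hw' := chart_le_adjoin φ i₀ j h0 hw
    have hw0 : w ≠ 0 := by rintro rfl; simp at hw1
    have : z = u / w := by rw [← hzw]; field_simp
    rw [this]
    exact div_mem hu' hw'
  by_cases hz : P.1 z ≤ 1
  · exact key z hz
  · rw [not_le] at hz
    have hz0 : z ≠ 0 := by rintro rfl; simp at hz
    have h1 : P.1 z⁻¹ ≤ 1 := by
      rw [map_inv₀]; exact (inv_le_one_of_one_le₀ hz.le)
    have := inv_mem (key _ h1)
    rwa [inv_inv] at this

end Birational

end Groth.Agent.Lib.LeadFF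

namespace Groth.Agent.Lib.LeadFF

open FunFld WithZero

section SameImg

variable {k K : Type*} [Field k] [Field K] [Algebra k K]

lemma lt_one_iff_residue_zero (P : Place k K) {u : K} {c : k}
    (h : P.1 (u - algebraMap k K c) < 1) : P.1 u < 1 ↔ c = 0 := by
  constructor
  · intro hu
    by_contra hc
    have h1 : P.1 (u - (u - algebraMap k K c)) < 1 :=
      lt_of_le_of_lt (Valuation.map_sub _ _ _) (max_lt hu h)
    rw [sub_sub_cancel, place_trivOn P c hc] at h1
    exact lt_irrefl _ h1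
  · rintro rfl; simpa using h

lemma eq_one_of_residue_ne_zero (P : Place k K) {u : K} {c : k}
    (h : P.1 (u - algebraMap k K c) < 1) (hc : c ≠ 0) : P.1 u = 1 := by
  have : u = (u - algebraMap k K c) + algebraMap k K c := by ring
  rw [this, Valuation.map_add_eq_of_lt_right _ (by rw [place_trivOn P c hc]; exact h),
    place_trivOn P c hc]

/-- S11078 core. -/
theorem sameImage_iff [IsAlgClosed k] (hK : IsFunctionField k K) {ι : Type*} [Finite ι]
    [Nonempty ι] (φ : ι → K) (hφ : ∃ i, φ i ≠ 0) (P Q : Place k K) :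
    SameImage φ P Q ↔
      ∀ z : K, InLocRing φ P z → (Q.1 z ≤ 1 ∧ (Q.1 z < 1 ↔ P.1 z < 1)) := by
  constructor
  · rintro ⟨j, hj, hmaxP, hmaxQ, hc⟩ z hz
    choose c hc using hc
    rw [inLocRing_iff φ P j hj hmaxP] at hz
    obtain ⟨u, hu, w, hw, hw1, hzw⟩ := hz
    have hS : ∀ R ∈ ({P, Q} : Set (Place k K)), ∀ i,
        R.1 (φ i / φ j - algebraMap k K (c i)) < 1 := by
      intro R hR i
      rcases hR with rfl | rfl
      · exact (hc i).1
      · exact (hc i).2
    obtain ⟨cu, hcu⟩ := adjoin_residue _ _ c hS u hu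
    obtain ⟨cw, hcw⟩ := adjoin_residue _ _ c hS w hw
    have hcuP := hcu P (by simp)
    have hcuQ := hcu Q (by simp)
    have hcwP := hcw P (by simp)
    have hcwQ := hcw Q (by simp)
    have hcw0 : cw ≠ 0 := by
      intro h0
      have := (lt_one_iff_residue_zero P hcwP).mpr h0
      rw [hw1] at this; exact lt_irrefl _ this
    have hQw : Q.1 w = 1 := eq_one_of_residue_ne_zero Q hcwQ hcw0
    have hQz : Q.1 z = Q.1 u := by rw [← hzw, map_mul, hQw, mul_one]
    have hPz : P.1 z = P.1 u := by rw [← hzw, map_mul, hw1, mul_one]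
    refine ⟨?_, ?_⟩
    · rw [hQz]; exact chart_le_one φ Q j hj hmaxQ u hu
    · rw [hQz, hPz, lt_one_iff_residue_zero Q hcuQ, lt_one_iff_residue_zero P hcuP]
  · intro h
    obtain ⟨j, hj, hmaxP⟩ := exists_maxIdx φ P hφ
    have hin : ∀ i, InLocRing φ P (φ i / φ j) := fun i =>
      (inLocRing_iff φ P j hj hmaxP _).mpr (InLoc.of_mem (ratio_mem_chart φ j i))
    have h0Q : 0 < Q.1 (φ j) := zero_lt_iff.mpr ((Valuation.ne_zero_iff _).mpr hj)
    have h0P : 0 < P.1 (φ j) := zero_lt_iff.mpr ((Valuation.ne_zero_iff _).mpr hj)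
    refine ⟨j, hj, hmaxP, fun i => ?_, fun i => ?_⟩
    · have := (h _ (hin i)).1
      rwa [map_div₀, div_le_one₀ h0Q] at this
    · have hP1 : P.1 (φ i / φ j) ≤ 1 := by rw [map_div₀, div_le_one₀ h0P]; exact hmaxP i
      obtain ⟨c, hc⟩ := exists_const_sub_lt_one hK P hP1
      refine ⟨c, hc, ?_⟩
      have hin' : InLocRing φ P (φ i / φ j - algebraMap k K c) :=
        (inLocRing_iff φ P j hj hmaxP _).mpr
          ((InLoc.of_mem (ratio_mem_chart φ j i)).sub (InLoc.algebraMap c))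
      exact (h _ hin').2.mpr hc

end SameImg

end Groth.Agent.Lib.LeadFF
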