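import Mathlib
import Groth.Agent.Lib.LeadFF17

/-! Function fields of one variable, part 18: first-order expansions in local rings of projective
maps; local parameters. -/

namespace Groth.Agent.Lib.LeadFF

open FunFld WithZero

section Taylor

variable {k K : Type*} [Field k] [Field K] [Algebra k K]

/-- linear form in the centred coordinates. -/
noncomputable def linForm {ι : Type*} [Fintype ι] (r : ι → K) (c : ι → k) (d : ι → k) : K :=
  ∑ i, algebraMap k K (d i) * (r i - algebraMap k K (c i))

lemma linForm_add {ι : Type*} [Fintype ι] (r : ι → K) (c : ι → k) (d d' : ι → k) :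
    linForm r c (d + d') = linForm r c d + linForm r c d' := by
  unfold linForm
  rw [← Finset.sum_add_distrib]
  apply Finset.sum_congr rfl
  intro i _
  rw [Pi.add_apply, map_add, add_mul]

lemma linForm_smul {ι : Type*} [Fintype ι] (r : ι → K) (c : ι → k) (a : k) (d : ι → k) :
    linForm r c (a • d) = algebraMap k K a * linForm r c d := by
  unfold linForm
  rw [Finset.mul_sum]
  apply Finset.sum_congr rfl
  intro i _
  rw [Pi.smul_apply, smul_eq_mul, map_mul, mul_assoc]

lemma linForm_lt_one {ι : Type*} [Fintype ι] (P : Place k K) (r : ι → K) (c : ι → k)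
    (h : ∀ i, P.1 (r i - algebraMap k K (c i)) < 1) (d : ι → k) : P.1 (linForm r c d) < 1 := by
  unfold linForm
  apply Valuation.map_sum_lt _ one_ne_zero
  intro i _
  rw [map_mul]
  calc P.1 (algebraMap k K (d i)) * P.1 (r i - algebraMap k K (c i))
      ≤ 1 * P.1 (r i - algebraMap k K (c i)) := mul_le_mul' (P.2.1 _) le_rfl
    _ < 1 := by rw [one_mul]; exact h i

lemma adjoin_taylor1 {ι : Type*} [Fintype ι] (P : Place k K) (r : ι → K) (c : ι → k)
    (h : ∀ i, P.1 (r i - algebraMap k K (c i)) < 1) :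
    ∀ u ∈ Algebra.adjoin k (Set.range r), ∃ (c0 : k) (d : ι → k),
      P.1 (u - algebraMap k K c0 - linForm r c d) ≤ exp (-2 : ℤ) := by
  classical
  have hexp : (exp (-1 : ℤ) : WithZero (Multiplicative ℤ)) * exp (-1 : ℤ) = exp (-2 : ℤ) := by
    rw [← exp_add]; norm_num
  have hle1 : (exp (-2 : ℤ) : WithZero (Multiplicative ℤ)) ≤ 1 := by
    rw [← exp_zero, exp_le_exp]; norm_num
  intro u hu
  induction hu using Algebra.adjoin_induction with
  | mem x hx =>
    obtain ⟨i, rfl⟩ := hx
    refine ⟨c i, Pi.single i 1, ?_⟩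
    have : linForm r c (Pi.single i 1) = r i - algebraMap k K (c i) := by
      unfold linForm
      rw [Finset.sum_eq_single i]
      · simp
      · intro j _ hj; simp [Pi.single_eq_of_ne hj]
      · intro hi; exact absurd (Finset.mem_univ i) hi
    rw [this, sub_self, map_zero]; exact zero_le'
  | algebraMap a =>
    refine ⟨a, 0, ?_⟩
    have : linForm r c (0 : ι → k) = 0 := by unfold linForm; simp
    rw [this, sub_self, sub_zero, map_zero]; exact zero_le'
  | add x y _ _ hx hy =>
    obtain ⟨a0, d, hxe⟩ := hx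
    obtain ⟨b0, d', hye⟩ := hy
    refine ⟨a0 + b0, d + d', ?_⟩
    have : x + y - algebraMap k K (a0 + b0) - linForm r c (d + d') =
        (x - algebraMap k K a0 - linForm r c d) + (y - algebraMap k K b0 - linForm r c d') := by
      rw [linForm_add, map_add]; ring
    rw [this]
    exact (P.1.map_add _ _).trans (max_le hxe hye)
  | mul x y _ _ hx hy =>
    obtain ⟨a0, d, hxe⟩ := hx
    obtain ⟨b0, d', hye⟩ := hy
    refine ⟨a0 * b0, a0 • d' + b0 • d, ?_⟩
    set la := linForm r c d with hla
    set lb := linForm r c d' with hlb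
    set ea := x - algebraMap k K a0 - la with hea
    set eb := y - algebraMap k K b0 - lb with heb
    have hla1 := linForm_lt_one P r c h d
    have hlb1 := linForm_lt_one P r c h d'
    rw [← hla] at hla1
    rw [← hlb] at hlb1
    have hy1 : P.1 y ≤ 1 := by
      have : y = algebraMap k K b0 + lb + eb := by rw [heb]; ring
      rw [this]
      exact (P.1.map_add _ _).trans (max_le ((P.1.map_add _ _).trans
        (max_le (P.2.1 _) hlb1.le)) (hye.trans hle1))
    have ha1 : P.1 (algebraMap k K a0 + la) ≤ 1 :=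
      (P.1.map_add _ _).trans (max_le (P.2.1 _) hla1.le)
    have key : x * y - algebraMap k K (a0 * b0) - linForm r c (a0 • d' + b0 • d) =
        la * lb + ea * y + eb * (algebraMap k K a0 + la) := by
      rw [linForm_add, linForm_smul, linForm_smul, map_mul, ← hla, ← hlb, hea, heb]; ring
    rw [key]
    refine (P.1.map_add _ _).trans (max_le ((P.1.map_add _ _).trans (max_le ?_ ?_)) ?_)
    · rw [map_mul, ← hexp]
      exact mul_le_mul' (zm0_lt_one_iff.mp hla1) (zm0_lt_one_iff.mp hlb1)
    · rw [map_mul]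
      exact (mul_le_mul' hxe hy1).trans_eq (mul_one _)
    · rw [map_mul]
      exact (mul_le_mul' hye ha1).trans_eq (mul_one _)

lemma sum_smul_ratio_mem_chart {ι : Type*} [Fintype ι] (φ : ι → K) (j : ι) (b : ι → k) :
    ∑ i, b i • (φ i / φ j) ∈ chart k φ j :=
  sum_mem fun i _ => Subalgebra.smul_mem _ (ratio_mem_chart φ j i) _

lemma sum_smul_ratio_mul {ι : Type*} [Fintype ι] (φ : ι → K) (j : ι) (hj : φ j ≠ 0)
    (b : ι → k) : (∑ i, b i • (φ i / φ j)) * φ j = ∑ i, b i • φ i := by
  rw [Finset.sum_mul]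
  apply Finset.sum_congr rfl
  intro i _
  rw [smul_mul_assoc, div_mul_cancel₀ _ hj]

/-- For an effective normalized map, an index of maximal value has value `1`. -/
lemma maxIdx_val_eq_one {ι : Type*} [Fintype ι] (φ : ι → K) (P : Place k K)
    (heff : (1 : K) ∈ Submodule.span k (Set.range φ)) (hnorm : ∀ i, P.1 (φ i) ≤ 1)
    (j : ι) (hmax : ∀ i, P.1 (φ i) ≤ P.1 (φ j)) : P.1 (φ j) = 1 := by
  apply le_antisymm (hnorm j)
  by_contra hlt
  rw [not_le] at hlt
  obtain ⟨a, ha⟩ := Submodule.mem_span_range_iff_exists_fun k |>.mp heff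
  have : P.1 (∑ i, a i • φ i) < 1 := by
    apply Valuation.map_sum_lt _ one_ne_zero
    intro i _
    rw [Algebra.smul_def, map_mul]
    calc P.1 (algebraMap k K (a i)) * P.1 (φ i) ≤ 1 * P.1 (φ j) :=
          mul_le_mul' (P.2.1 _) (hmax i)
      _ < 1 := by rw [one_mul]; exact hlt
  rw [ha, map_one] at this
  exact lt_irrefl _ this

/-- S11066 core. -/
theorem locParam_iff [IsAlgClosed k] (hK : IsFunctionField k K) {ι : Type*} [Fintype ι]
    [Nonempty ι] (φ : ι → K) (P : Place k K)
    (heff : (1 : K) ∈ Submodule.span k (Set.range φ)) (hnorm : ∀ i, P.1 (φ i) ≤ 1) :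
    (∃ t : K, InLocRing φ P t ∧ P.1 t = exp (-1 : ℤ)) ↔
      ∃ t ∈ Submodule.span k (Set.range φ), P.1 t = exp (-1 : ℤ) := by
  classical
  obtain ⟨a, ha⟩ := Submodule.mem_span_range_iff_exists_fun k |>.mp heff
  have hex : ∃ i, φ i ≠ 0 := by
    by_contra hall
    push Not at hall
    simp [hall] at ha
  obtain ⟨j, hj, hmax⟩ := exists_maxIdx φ P hex
  have hPj := maxIdx_val_eq_one φ P heff hnorm j hmax
  set w0 := ∑ i, a i • (φ i / φ j) with hw0
  have hw0mem : w0 ∈ chart k φ j := sum_smul_ratio_mem_chart φ j a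
  have hw0mul : w0 * φ j = 1 := by rw [hw0, sum_smul_ratio_mul φ j hj, ha]
  have hPw0 : P.1 w0 = 1 := by
    have := congrArg P.1 hw0mul
    rwa [map_mul, hPj, mul_one, map_one] at this
  constructor
  · rintro ⟨t, ht, htv⟩
    rw [inLocRing_iff φ P j hj hmax] at ht
    obtain ⟨u, hu, w, hw, hw1, htw⟩ := ht
    have h0 : 0 < P.1 (φ j) := zero_lt_iff.mpr ((Valuation.ne_zero_iff _).mpr hj)
    have hr1 : ∀ i, P.1 (φ i / φ j) ≤ 1 := fun i => by
      rw [map_div₀, div_le_one₀ h0]; exact hmax i
    choose c hc using fun i => exists_const_sub_lt_one hK P (hr1 i)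
    obtain ⟨c0, d, herr⟩ := adjoin_taylor1 P (fun i => φ i / φ j) c hc u hu
    have hPu : P.1 u = exp (-1 : ℤ) := by rw [← htw, map_mul, hw1, mul_one, htv]
    have hlin := linForm_lt_one P (fun i => φ i / φ j) c hc d
    have h21 : (exp (-2 : ℤ) : WithZero (Multiplicative ℤ)) < exp (-1 : ℤ) := by
      rw [exp_lt_exp]; norm_num
    have h11 : (exp (-1 : ℤ) : WithZero (Multiplicative ℤ)) < 1 := by
      rw [← exp_zero, exp_lt_exp]; norm_num
    set lin := linForm (fun i => φ i / φ j) c d with hlindef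
    set err := u - algebraMap k K c0 - lin with herrdef
    have hc0 : c0 = 0 := by
      by_contra hne
      have : algebraMap k K c0 = u - lin - err := by rw [herrdef]; ring
      have h1 : P.1 (algebraMap k K c0) < 1 := by
        rw [this]
        refine lt_of_le_of_lt (Valuation.map_sub _ _ _) (max_lt ?_ (lt_of_le_of_lt herr (h21.trans h11)))
        exact lt_of_le_of_lt (Valuation.map_sub _ _ _) (max_lt (hPu ▸ h11) hlin)
      rw [place_trivOn P c0 hne] at h1
      exact lt_irrefl _ h1
    have hPlin : P.1 lin = exp (-1 : ℤ) := by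
      have : lin = u - err := by rw [herrdef, hc0, map_zero]; ring
      rw [this, Valuation.map_sub_eq_of_lt_left _ (by rw [hPu]; exact lt_of_le_of_lt herr h21), hPu]
    set f := ∑ i, d i • φ i - (∑ i, d i * c i) • φ j with hf
    have hlinmul : lin * φ j = f := by
      rw [hlindef, linForm, Finset.sum_mul, hf, Finset.sum_smul, ← Finset.sum_sub_distrib]
      apply Finset.sum_congr rfl
      intro i _
      rw [Algebra.smul_def, Algebra.smul_def, map_mul]
      field_simp
    refine ⟨f, ?_, ?_⟩
    · rw [hf]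
      apply sub_mem
      · exact sum_mem fun i _ => Submodule.smul_mem _ _ (Submodule.subset_span ⟨i, rfl⟩)
      · exact Submodule.smul_mem _ _ (Submodule.subset_span ⟨j, rfl⟩)
    · rw [← hlinmul, map_mul, hPlin, hPj, mul_one]
  · rintro ⟨t, ht, htv⟩
    obtain ⟨b, hb⟩ := Submodule.mem_span_range_iff_exists_fun k |>.mp ht
    refine ⟨t, (inLocRing_iff φ P j hj hmax t).mpr ?_, htv⟩
    refine ⟨∑ i, b i • (φ i / φ j), sum_smul_ratio_mem_chart φ j b, w0, hw0mem, hPw0, ?_⟩
    rw [← hb, ← sum_smul_ratio_mul φ j hj b, mul_assoc, mul_comm (φ j), hw0mul, mul_one]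

end Taylor

end Groth.Agent.Lib.LeadFF
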