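import Mathlib
import Groth.Agent.Lib.LeadFF18

/-! Function fields of one variable, part 19: finiteness of hypersurface sections and of fibres. -/

namespace Groth.Agent.Lib.LeadFF

open FunFld WithZero

section Fibres

variable {k K : Type*} [Field k] [Field K] [Algebra k K]

lemma aeval_mul_of_homogeneous {σ : Type*} {g : MvPolynomial σ k} {m : ℕ}
    (hg : g.IsHomogeneous m) (a : K) (x : σ → K) :
    MvPolynomial.aeval (fun i => a * x i) g = a ^ m * MvPolynomial.aeval x g := by
  rw [MvPolynomial.aeval_def, MvPolynomial.aeval_def, MvPolynomial.eval₂_eq, MvPolynomial.eval₂_eq,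
    Finset.mul_sum]
  apply Finset.sum_congr rfl
  intro d hd
  have hdeg := hg.degree_eq_sum_deg_support hd
  have : ∏ i ∈ d.support, (a * x i) ^ d i = a ^ m * ∏ i ∈ d.support, x i ^ d i := by
    simp_rw [mul_pow]
    rw [Finset.prod_mul_distrib, Finset.prod_pow_eq_pow_sum, ← hdeg]
  rw [this]; ring

lemma ratio_not_const {ι : Type*} {φ : ι → K} (hφ : LinearIndependent k φ) {i j : ι}
    (hij : i ≠ j) : φ i / φ j ∉ Set.range (algebraMap k K) := by
  classical
  rintro ⟨c, hc⟩
  have hj : φ j ≠ 0 := hφ.ne_zero j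
  have h1 : φ i = c • φ j := by
    rw [Algebra.smul_def, hc]; field_simp
  have := linearIndependent_iff'.mp hφ {i, j} (fun l => if l = i then 1 else -c) (by
    rw [Finset.sum_pair hij]
    simp only [if_true, if_neg (Ne.symm hij)]
    rw [h1]; simp) i (by simp)
  simp at this

lemma finite_common_zero (hK : IsFunctionField k K) (P : Place k K) {x : K}
    (hx : x ∉ Set.range (algebraMap k K)) :
    {Q : Place k K | ∃ c : k, P.1 (x - algebraMap k K c) < 1 ∧
      Q.1 (x - algebraMap k K c) < 1}.Finite := by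
  by_cases h : ∃ c : k, P.1 (x - algebraMap k K c) < 1
  · obtain ⟨c0, hc0⟩ := h
    have hne : x - algebraMap k K c0 ≠ 0 := by
      intro h0; exact hx ⟨c0, (sub_eq_zero.mp h0).symm⟩
    apply (zeros_finite' hK hne).subset
    rintro Q ⟨c, hc1, hc2⟩
    have := residue_unique P hc1 hc0
    subst this
    exact hc2
  · convert Set.finite_empty
    ext Q
    simp only [Set.mem_ofPred_eq, Set.mem_empty_iff_false, iff_false]
    rintro ⟨c, hc, -⟩
    exact h ⟨c, hc⟩

/-- S11075 (a). -/
theorem finite_hypersurface_section (hK : IsFunctionField k K) {ι : Type*} [Finite ι]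
    (φ : ι → K) (g : MvPolynomial ι k) (hg : g.IsHomogeneous g.totalDegree)
    (hgφ : MvPolynomial.aeval φ g ≠ 0) :
    {P : Place k K | ∃ j, φ j ≠ 0 ∧ (∀ i, P.1 (φ i) ≤ P.1 (φ j)) ∧
      P.1 (MvPolynomial.aeval (fun i => φ i / φ j) g) < 1}.Finite := by
  have hsub : {P : Place k K | ∃ j, φ j ≠ 0 ∧ (∀ i, P.1 (φ i) ≤ P.1 (φ j)) ∧
      P.1 (MvPolynomial.aeval (fun i => φ i / φ j) g) < 1} ⊆
      ⋃ j : ι, {P : Place k K | φ j ≠ 0 ∧
        P.1 ((φ j)⁻¹ ^ g.totalDegree * MvPolynomial.aeval φ g) < 1} := by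
    rintro P ⟨j, hj, -, hP⟩
    simp only [Set.mem_iUnion, Set.mem_ofPred_eq]
    refine ⟨j, hj, ?_⟩
    rw [← aeval_mul_of_homogeneous hg]
    have e : (fun i => (φ j)⁻¹ * φ i) = fun i => φ i / φ j := by
      ext i; rw [div_eq_inv_mul]
    rw [e]; exact hP
  apply (Set.finite_iUnion fun j => ?_).subset hsub
  by_cases hj : φ j = 0
  · convert Set.finite_empty
    ext P; simp [hj]
  · apply (zeros_finite' hK (mul_ne_zero (pow_ne_zero _ (inv_ne_zero hj)) hgφ)).subset
    rintro P ⟨-, hP⟩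
    exact hP

/-- S11075 (b). -/
theorem finite_fibre (hK : IsFunctionField k K) {ι : Type*} [Finite ι] [Nontrivial ι]
    (φ : ι → K) (hφ : LinearIndependent k φ) (P : Place k K) :
    {Q : Place k K | SameImage φ P Q}.Finite := by
  have hsub : {Q : Place k K | SameImage φ P Q} ⊆
      ⋃ j : ι, ⋃ i : ι, {Q : Place k K | i ≠ j ∧ ∃ c : k,
        P.1 (φ i / φ j - algebraMap k K c) < 1 ∧ Q.1 (φ i / φ j - algebraMap k K c) < 1} := by
    rintro Q ⟨j, hj, -, -, hc⟩
    obtain ⟨i, hij⟩ := exists_ne j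
    simp only [Set.mem_iUnion, Set.mem_ofPred_eq]
    exact ⟨j, i, hij, hc i⟩
  apply (Set.finite_iUnion fun j => Set.finite_iUnion fun i => ?_).subset hsub
  by_cases hij : i = j
  · convert Set.finite_empty
    ext Q; simp [hij]
  · apply (finite_common_zero hK P (ratio_not_const hφ hij)).subset
    rintro Q ⟨-, h⟩
    exact h

end Fibres

end Groth.Agent.Lib.LeadFF
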