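import Mathlib
import Groth.Agent.Lib.LeadFF19

/-! Function fields of one variable, part 20: affine coordinate rings have finite codimension in
their integral closures (counting argument). -/

namespace Groth.Agent.Lib.LeadFF

open FunFld WithZero

section LinAlg

variable {k V : Type*} [Field k] [AddCommGroup V] [Module k V]

/-- `B+1` vectors in `U` have a nontrivial combination in `W ≤ U` if `dim U ≤ dim W + B`. -/
lemma exists_comb_mem (W U : Submodule k V) (hWU : W ≤ U) [FiniteDimensional k U] (B : ℕ)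
    (hB : Module.finrank k U ≤ Module.finrank k W + B) (z : Fin (B + 1) → V)
    (hz : ∀ i, z i ∈ U) : ∃ g : Fin (B + 1) → k, g ≠ 0 ∧ ∑ i, g i • z i ∈ W := by
  set W' := Submodule.comap U.subtype W with hW'
  have e := Submodule.comapSubtypeEquivOfLe hWU
  have h1 : Module.finrank k W' = Module.finrank k W := e.finrank_eq
  have h2 := Submodule.finrank_quotient_add_finrank W'
  have hq : Module.finrank k (U ⧸ W') ≤ B := by omega
  have hnot : ¬ LinearIndependent k (fun i => W'.mkQ ⟨z i, hz i⟩) := by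
    intro hli
    have := hli.fintype_card_le_finrank
    simp only [Fintype.card_fin] at this
    omega
  rw [Fintype.not_linearIndependent_iff] at hnot
  obtain ⟨g, hg, i, hi⟩ := hnot
  refine ⟨g, fun h0 => hi (by rw [h0]; rfl), ?_⟩
  have h3 : W'.mkQ (∑ i, g i • (⟨z i, hz i⟩ : U)) = 0 := by
    rw [map_sum]
    rw [← hg]
    apply Finset.sum_congr rfl
    intro i _
    rw [map_smul]
  rw [Submodule.mkQ_apply, Submodule.Quotient.mk_eq_zero, hW', Submodule.mem_comap] at h3
  simpa using h3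

end LinAlg

section Generic

variable {k K : Type*} [Field k] [Field K] [Algebra k K]

/-- A generic linear combination has the maximal pole order everywhere. -/
lemma exists_generic [Infinite k] (hK : IsFunctionField k K) {ι : Type*} [Fintype ι]
    (r : ι → K) :
    ∃ a : ι → k, ∀ (Q : Place k K) (i : ι), 1 < Q.1 (r i) → Q.1 (r i) ≤ Q.1 (∑ l, a l • r l) := by
  classical
  set T : Set (Place k K) := {Q | ∃ i, 1 < Q.1 (r i)} with hT
  have hTfin : T.Finite := by
    have : T = ⋃ i, {Q : Place k K | 1 < Q.1 (r i)} := by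
      ext Q; simp [hT]
    rw [this]
    exact Set.finite_iUnion fun i => poles_finite' hK (r i)
  haveI : Finite T := hTfin.to_subtype
  -- for each Q in T choose a maximal index
  have hmaxex : ∀ Q : T, ∃ i, 1 < Q.1.1 (r i) ∧ ∀ l, Q.1.1 (r l) ≤ Q.1.1 (r i) := by
    intro Q
    obtain ⟨i0, hi0⟩ := Q.2
    haveI : Nonempty ι := ⟨i0⟩
    obtain ⟨i, hi⟩ := Finite.exists_max (fun i => Q.1.1 (r i))
    exact ⟨i, lt_of_lt_of_le hi0 (hi i0), hi⟩
  choose iQ hiQ1 hiQ2 using hmaxex
  let V : T → Submodule k (ι → k) := fun Q =>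
    { carrier := {a | Q.1.1 (∑ l, a l • r l) < Q.1.1 (r (iQ Q))}
      add_mem' := by
        intro a b ha hb
        simp only [Set.mem_ofPred_eq, Pi.add_apply, add_smul, Finset.sum_add_distrib] at *
        exact lt_of_le_of_lt (Q.1.1.map_add _ _) (max_lt ha hb)
      zero_mem' := by
        simp only [Set.mem_ofPred_eq, Pi.zero_apply, zero_smul, Finset.sum_const_zero, map_zero]
        exact lt_trans zero_lt_one (hiQ1 Q)
      smul_mem' := by
        intro c a ha
        simp only [Set.mem_ofPred_eq, Pi.smul_apply, smul_eq_mul, mul_smul] at *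
        rw [← Finset.smul_sum, Algebra.smul_def, map_mul]
        calc Q.1.1 (algebraMap k K c) * Q.1.1 (∑ l, a l • r l)
            ≤ 1 * Q.1.1 (∑ l, a l • r l) := mul_le_mul' (Q.1.2.1 c) le_rfl
          _ < _ := by rw [one_mul]; exact ha }
  have hVne : ∀ Q, V Q ≠ ⊤ := by
    intro Q htop
    have : Pi.single (iQ Q) (1 : k) ∈ V Q := by rw [htop]; trivial
    have h2 : ∑ l, (Pi.single (iQ Q) (1 : k) : ι → k) l • r l = r (iQ Q) := by
      rw [Finset.sum_eq_single (iQ Q)]
      · simp
      · intro l _ hl; simp [Pi.single_eq_of_ne hl]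
      · intro h; exact absurd (Finset.mem_univ _) h
    change Q.1.1 (∑ l, (Pi.single (iQ Q) (1 : k) : ι → k) l • r l) < _ at this
    rw [h2] at this
    exact lt_irrefl _ this
  have hcov : ⋃ Q, (V Q : Set (ι → k)) ≠ Set.univ := by
    intro h
    obtain ⟨Q, hQ⟩ := Subspace.exists_eq_top_of_iUnion_eq_univ h
    exact hVne Q hQ
  obtain ⟨a, ha⟩ := (Set.ne_univ_iff_exists_notMem _).mp hcov
  refine ⟨a, fun Q i hi => ?_⟩
  have hQT : Q ∈ T := ⟨i, hi⟩
  have h1 : a ∉ V ⟨Q, hQT⟩ := fun h => ha (Set.mem_iUnion.mpr ⟨⟨Q, hQT⟩, h⟩)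
  have h2 : ¬ (Q.1 (∑ l, a l • r l) < Q.1 (r (iQ ⟨Q, hQT⟩))) := h1
  rw [not_lt] at h2
  exact (hiQ2 ⟨Q, hQT⟩ i).trans h2

lemma mul_mem_L_add {D E : Divisor k K} {u v : K} (hu : u ∈ L D) (hv : v ∈ L E) :
    u * v ∈ L (D + E) := by
  intro Q
  rw [map_mul, Finsupp.add_apply, exp_add]
  exact mul_le_mul' (hu Q) (hv Q)

lemma L_nsmul_mono {D : Divisor k K} (hD : 0 ≤ D) {m m' : ℕ} (h : m ≤ m') :
    L (m • D) ≤ L (m' • D) := L_mono (nsmul_le_nsmul_left hD h)

lemma pow_mem_L_nsmul {D : Divisor k K} {u : K} (hu : u ∈ L D) (m : ℕ) :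
    u ^ m ∈ L (m • D) := by
  induction m with
  | zero =>
    intro Q; simp
  | succ m ih =>
    rw [pow_succ, succ_nsmul]
    exact mul_mem_L_add ih hu

lemma self_mem_L_pdiv (hK : IsFunctionField k K) (x : K) : x ∈ L (zdiv k x⁻¹) := by
  intro Q
  by_cases hx : x = 0
  · simp [hx]
  · rw [pdiv_apply hK, val_eq_exp_neg_ord Q hx, exp_le_exp]
    exact le_max_left _ _

lemma gen_mem_L (hK : IsFunctionField k K) {ι : Type*} (r : ι → K) (x : K)
    (hgen : ∀ (Q : Place k K) (i : ι), 1 < Q.1 (r i) → Q.1 (r i) ≤ Q.1 x) (i : ι) :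
    r i ∈ L (zdiv k x⁻¹) := by
  intro Q
  by_cases h1 : Q.1 (r i) ≤ 1
  · refine h1.trans ?_
    rw [← exp_zero, exp_le_exp]
    exact zdiv_nonneg _ Q
  · rw [not_le] at h1
    exact (hgen Q i h1).trans (self_mem_L_pdiv hK x Q)

lemma adjoin_mem_L (hK : IsFunctionField k K) {ι : Type*} (r : ι → K) (x : K)
    (hgen : ∀ (Q : Place k K) (i : ι), 1 < Q.1 (r i) → Q.1 (r i) ≤ Q.1 x) :
    ∀ u ∈ Algebra.adjoin k (Set.range r), ∃ m : ℕ, u ∈ L (m • zdiv k x⁻¹) := by
  have hD : (0 : Divisor k K) ≤ zdiv k x⁻¹ := zdiv_nonneg _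
  intro u hu
  induction hu using Algebra.adjoin_induction with
  | mem y hy =>
    obtain ⟨i, rfl⟩ := hy
    exact ⟨1, by rw [one_smul]; exact gen_mem_L hK r x hgen i⟩
  | algebraMap c =>
    refine ⟨0, ?_⟩
    intro Q
    simpa using Q.2.1 c
  | add u v _ _ hu hv =>
    obtain ⟨m1, h1⟩ := hu
    obtain ⟨m2, h2⟩ := hv
    exact ⟨m1 + m2, add_mem (L_nsmul_mono hD (Nat.le_add_right _ _) h1)
      (L_nsmul_mono hD (Nat.le_add_left _ _) h2)⟩
  | mul u v _ _ hu hv =>
    obtain ⟨m1, h1⟩ := hu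
    obtain ⟨m2, h2⟩ := hv
    exact ⟨m1 + m2, by rw [add_smul]; exact mul_mem_L_add h1 h2⟩

lemma exists_fraction {ι : Type*} (r : ι → K)
    (hbir : IntermediateField.adjoin k (Set.range r) = ⊤) (z : K) :
    ∃ p ∈ Algebra.adjoin k (Set.range r), ∃ q ∈ Algebra.adjoin k (Set.range r),
      q ≠ 0 ∧ z * q = p := by
  have hz : z ∈ IntermediateField.adjoin k (Set.range r) := by rw [hbir]; trivial
  obtain ⟨p, hp, q, hq, hzpq⟩ := IntermediateField.mem_adjoin_iff_div.mp hz
  by_cases hq0 : q = 0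
  · refine ⟨0, zero_mem _, 1, one_mem _, one_ne_zero, ?_⟩
    rw [hzpq, hq0, div_zero, zero_mul]
  · exact ⟨p, hp, q, hq, hq0, by rw [hzpq]; field_simp⟩

/-- a `k(x)`-independent family of the right size inside the coordinate ring. -/
lemma exists_basis_in_ring (hK : IsFunctionField k K) {ι : Type*} (r : ι → K)
    (hbir : IntermediateField.adjoin k (Set.range r) = ⊤) {x : K} (hx : Transcendental k x) :
    ∃ y : Fin (Module.finrank (IntermediateField.adjoin k {x}) K) → K,
      (∀ i, y i ∈ Algebra.adjoin k (Set.range r)) ∧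
      LinearIndependent (IntermediateField.adjoin k {x}) y := by
  classical
  haveI := finite_over_adjoin hK hx
  let u : Module.Basis (Fin (Module.finrank (IntermediateField.adjoin k {x}) K))
    (IntermediateField.adjoin k {x}) K := Module.finBasis _ K
  choose p hp q hq hq0 hpq using fun i => exists_fraction r hbir (u i)
  set Q := ∏ i, q i with hQ
  have hQ0 : Q ≠ 0 := Finset.prod_ne_zero_iff.mpr fun i _ => hq0 i
  refine ⟨fun i => u i * Q, fun i => ?_, ?_⟩
  · have : u i * Q = p i * ∏ l ∈ Finset.univ.erase i, q l := by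
      rw [hQ, ← Finset.mul_prod_erase Finset.univ q (Finset.mem_univ i), ← mul_assoc, hpq]
    show u i * Q ∈ _
    rw [this]
    exact mul_mem (hp i) (prod_mem fun l _ => hq l)
  · have := u.linearIndependent.map' (LinearMap.mulRight (IntermediateField.adjoin k {x}) Q)
      (LinearMap.ker_eq_bot'.mpr (fun m hm => by
        simpa [hQ0] using hm))
    exact this

/-- the key finite-codimension bound. -/
theorem exists_codim_bound (hK : IsFunctionField k K) {ι : Type*} (r : ι → K)
    (hbir : IntermediateField.adjoin k (Set.range r) = ⊤) {x : K} (hx : Transcendental k x)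
    (hxR : x ∈ Algebra.adjoin k (Set.range r))
    (hgen : ∀ (Q : Place k K) (i : ι), 1 < Q.1 (r i) → Q.1 (r i) ≤ Q.1 x) :
    ∃ B : ℕ, ∀ z : Fin (B + 1) → K, (∀ i, ∃ m : ℕ, z i ∈ L (m • zdiv k x⁻¹)) →
      ∃ g : Fin (B + 1) → k, g ≠ 0 ∧ ∑ i, g i • z i ∈ Algebra.adjoin k (Set.range r) := by
  classical
  set D' : Divisor k K := zdiv k x⁻¹ with hD'
  have hD : (0 : Divisor k K) ≤ D' := zdiv_nonneg _
  set F := IntermediateField.adjoin k ({x} : Set K) with hF
  set N := Module.finrank F K with hN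
  obtain ⟨y, hyR, hyli⟩ := exists_basis_in_ring hK r hbir hx
  choose cy hcy using fun i => adjoin_mem_L hK r x hgen (y i) (hyR i)
  set c := Finset.univ.sup cy with hc
  have hyc : ∀ i, y i ∈ L (c • D') := fun i =>
    L_nsmul_mono hD (Finset.le_sup (Finset.mem_univ i)) (hcy i)
  have hxk : x ∉ Set.range (algebraMap k K) := not_mem_of_transcendental hx
  have hdeg : D'.deg = N := finrank_adjoin_eq_deg_pdiv hK hxk
  refine ⟨c * N + 1, fun z hz => ?_⟩
  choose m hm using hz
  set l := Finset.univ.sup m with hl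
  set U := L ((l + c) • D') with hU
  haveI : FiniteDimensional k U := L_finite hK _
  have hzU : ∀ i, z i ∈ U := fun i =>
    L_nsmul_mono hD ((Finset.le_sup (Finset.mem_univ i)).trans (Nat.le_add_right _ _)) (hm i)
  have hxF : x ∈ F := IntermediateField.mem_adjoin_simple_self k x
  have hb := linearIndependent_pow_of_transcendental hx l F hxF
  have hli := linearIndependent_smul hb hyli
  set fam : Fin (l + 1) × Fin N → K := fun p => ((⟨x, hxF⟩ : F) ^ (p.1 : ℕ)) • y p.2 with hfam
  have hfam_eq : ∀ p, fam p = x ^ (p.1 : ℕ) * y p.2 := by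
    intro p
    show ((⟨x, hxF⟩ : F) ^ (p.1 : ℕ)) • y p.2 = _
    rw [IntermediateField.smul_def]
    simp
  set W := Submodule.span k (Set.range fam) with hW
  have hWrank : Module.finrank k W = (l + 1) * N := by
    rw [hW, finrank_span_eq_card hli]; simp only [Fintype.card_prod, Fintype.card_fin]; rfl
  have hxL : x ∈ L D' := self_mem_L_pdiv hK x
  have hWU : W ≤ U := by
    rw [hW, Submodule.span_le]
    rintro _ ⟨p, rfl⟩
    rw [hfam_eq]
    have h1 := mul_mem_L_add (pow_mem_L_nsmul hxL (p.1 : ℕ)) (hyc p.2)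
    rw [← add_smul] at h1
    exact L_nsmul_mono hD (by have := p.1.2; omega) h1
  have hWR : ∀ v ∈ W, v ∈ Algebra.adjoin k (Set.range r) := by
    intro v hv
    have : W ≤ Subalgebra.toSubmodule (Algebra.adjoin k (Set.range r)) := by
      rw [hW, Submodule.span_le]
      rintro _ ⟨p, rfl⟩
      rw [hfam_eq]
      exact (Algebra.adjoin k (Set.range r)).mul_mem ((Algebra.adjoin k (Set.range r)).pow_mem hxR _) (hyR p.2)
    exact this hv
  have hUrank : Module.finrank k U ≤ (l + c) * N + 1 := by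
    have h1 := ell_sub_le hK 0 ((l + c) • D') (nsmul_nonneg hD _)
    rw [ell_zero hK, deg_zero, deg_nsmul, hdeg] at h1
    have : (Module.finrank k U : ℤ) ≤ (l + c) * N + 1 := by
      have : (ell ((l + c) • D') : ℤ) = Module.finrank k U := rfl
      push_cast at h1 ⊢
      linarith
    exact_mod_cast this
  have hB : Module.finrank k U ≤ Module.finrank k W + (c * N + 1) := by
    rw [hWrank]; nlinarith
  obtain ⟨g, hg0, hg⟩ := exists_comb_mem W U hWU (c * N + 1) hB z hzU
  exact ⟨g, hg0, hWR _ hg⟩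

end Generic

end Groth.Agent.Lib.LeadFF
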