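import Mathlib
import Groth.Agent.Lib.LeadFF20

/-! Function fields of one variable, part 21: a local ring of a birational projective map that is
dominated only by `O_P` and contains a local parameter is `O_P`. -/

namespace Groth.Agent.Lib.LeadFF

open FunFld WithZero Polynomial

section Main

variable {k K : Type*} [Field k] [Field K] [Algebra k K]

/-- the local ring as a subalgebra. -/
def locAlg {ι : Type*} (φ : ι → K) (P : Place k K) (j : ι) : Subalgebra k K where
  carrier := {z | InLoc φ P j z}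
  mul_mem' := InLoc.mul
  add_mem' := InLoc.add
  algebraMap_mem' := InLoc.algebraMap

lemma mem_locAlg {ι : Type*} (φ : ι → K) (P : Place k K) (j : ι) (z : K) :
    z ∈ locAlg φ P j ↔ InLoc φ P j z := Iff.rfl

lemma chart_le_one' {ι : Type*} (φ : ι → K) (Q : Place k K) (j : ι) (hj : φ j ≠ 0)
    (h : ∀ i, Q.1 (φ i / φ j) ≤ 1) : ∀ u ∈ chart k φ j, Q.1 u ≤ 1 := by
  have h0 : 0 < Q.1 (φ j) := zero_lt_iff.mpr ((Valuation.ne_zero_iff _).mpr hj)
  apply chart_le_one φ Q j hj
  intro i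
  have := h i
  rwa [map_div₀, div_le_one₀ h0] at this

variable [IsAlgClosed k] (hK : IsFunctionField k K) {ι : Type*} [Fintype ι] (φ : ι → K)
  (P : Place k K) (j : ι) (hj : φ j ≠ 0) (hmax : ∀ i, P.1 (φ i) ≤ P.1 (φ j))

include hK hj hmax in
/-- Step A: separating multipliers. -/
lemma exists_multiplier
    (hsep : ∀ Q : Place k K, (∀ z : K, InLoc φ P j z → Q.1 z ≤ 1) → Q = P)
    (Q : Place k K) (hQP : Q ≠ P) (hQ : ∀ i, Q.1 (φ i / φ j) ≤ 1) :
    ∃ w ∈ chart k φ j, Q.1 w < 1 ∧ P.1 w = 1 := by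
  have : ¬ ∀ z : K, InLoc φ P j z → Q.1 z ≤ 1 := fun h => hQP (hsep Q h)
  push Not at this
  obtain ⟨z, ⟨u, hu, w, hw, hw1, hzw⟩, hz⟩ := this
  refine ⟨w, hw, ?_, hw1⟩
  have hu1 := chart_le_one' φ Q j hj hQ u hu
  rw [← hzw, map_mul] at hu1
  by_contra hge
  rw [not_lt] at hge
  have : 1 < Q.1 z * Q.1 w := by
    calc (1 : WithZero (Multiplicative ℤ)) < Q.1 z := hz
      _ = Q.1 z * 1 := (mul_one _).symm
      _ ≤ Q.1 z * Q.1 w := mul_le_mul' le_rfl hge
  exact absurd this (not_lt.mpr hu1)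

include hK hj hmax in
lemma exists_clear_aux
    (hsep : ∀ Q : Place k K, (∀ z : K, InLoc φ P j z → Q.1 z ≤ 1) → Q = P)
    (x : K) (hgen : ∀ (Q : Place k K) (i : ι), 1 < Q.1 (φ i / φ j) → Q.1 (φ i / φ j) ≤ Q.1 x) :
    ∀ (s : Finset (Place k K)) (z : K), P.1 z ≤ 1 →
      (∀ Q : Place k K, Q.1 x ≤ 1 → 1 < Q.1 z → Q ∈ s) →
      ∃ w ∈ chart k φ j, P.1 w = 1 ∧ ∀ Q : Place k K, Q.1 x ≤ 1 → Q.1 (z * w) ≤ 1 := by
  classical
  have hfin : ∀ Q : Place k K, Q.1 x ≤ 1 → ∀ i, Q.1 (φ i / φ j) ≤ 1 := by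
    intro Q hQ i
    by_contra h
    rw [not_le] at h
    exact absurd (lt_of_lt_of_le h (hgen Q i h)) (not_lt.mpr hQ)
  intro s
  induction s using Finset.induction_on with
  | empty =>
    intro z _ hbad
    refine ⟨1, one_mem _, by simp, fun Q hQ => ?_⟩
    rw [mul_one]
    by_contra h
    rw [not_le] at h
    simpa using hbad Q hQ h
  | insert Q0 s hQ0 ih =>
    intro z hz hbad
    by_cases hb : Q0.1 x ≤ 1 ∧ 1 < Q0.1 z
    · obtain ⟨hb1, hb2⟩ := hb
      have hQ0P : Q0 ≠ P := by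
        rintro rfl; exact absurd hb2 (not_lt.mpr hz)
      obtain ⟨w0, hw0R, hw0Q, hw0P⟩ :=
        exists_multiplier hK φ P j hj hmax hsep Q0 hQ0P (hfin Q0 hb1)
      obtain ⟨M, hM⟩ := zm0_exists_le_exp (Q0.1 z)
      set z' := z * w0 ^ M with hz'
      have hPz' : P.1 z' ≤ 1 := by
        rw [hz', map_mul, map_pow, hw0P, one_pow, mul_one]; exact hz
      have hQ0z' : Q0.1 z' ≤ 1 := by
        rw [hz', map_mul, map_pow]
        have h1 : Q0.1 w0 ^ M ≤ exp (-1 : ℤ) ^ M := pow_le_pow_left' (zm0_lt_one_iff.mp hw0Q) M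
        rw [zm0_exp_pow] at h1
        calc Q0.1 z * Q0.1 w0 ^ M ≤ exp (M : ℤ) * exp ((M : ℤ) * (-1)) := mul_le_mul' hM h1
          _ = 1 := by rw [← exp_add]; simp
      have hbad' : ∀ Q : Place k K, Q.1 x ≤ 1 → 1 < Q.1 z' → Q ∈ s := by
        intro Q hQ hQz'
        have hw0Q' : Q.1 w0 ≤ 1 := chart_le_one' φ Q j hj (hfin Q hQ) w0 hw0R
        have hQz : 1 < Q.1 z := by
          refine lt_of_lt_of_le hQz' ?_
          rw [hz', map_mul, map_pow]
          calc Q.1 z * Q.1 w0 ^ M ≤ Q.1 z * 1 := mul_le_mul' le_rfl (pow_le_one' hw0Q' M)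
            _ = Q.1 z := mul_one _
        have := hbad Q hQ hQz
        rw [Finset.mem_insert] at this
        rcases this with rfl | h
        · exact absurd hQz' (not_lt.mpr hQ0z')
        · exact h
      obtain ⟨w', hw'R, hw'P, hw'⟩ := ih z' hPz' hbad'
      refine ⟨w0 ^ M * w', mul_mem (pow_mem hw0R M) hw'R, ?_, fun Q hQ => ?_⟩
      · rw [map_mul, map_pow, hw0P, one_pow, one_mul, hw'P]
      · have := hw' Q hQ
        rwa [hz', mul_assoc] at this
    · apply ih z hz
      intro Q hQ hQz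
      have := hbad Q hQ hQz
      rw [Finset.mem_insert] at this
      rcases this with rfl | h
      · exact absurd ⟨hQ, hQz⟩ hb
      · exact h

include hK hj hmax in
/-- Step G1: clearing finite poles. -/
lemma exists_clear
    (hsep : ∀ Q : Place k K, (∀ z : K, InLoc φ P j z → Q.1 z ≤ 1) → Q = P)
    (x : K) (hgen : ∀ (Q : Place k K) (i : ι), 1 < Q.1 (φ i / φ j) → Q.1 (φ i / φ j) ≤ Q.1 x)
    (z : K) (hz : P.1 z ≤ 1) :
    ∃ w ∈ chart k φ j, P.1 w = 1 ∧ ∃ m : ℕ, z * w ∈ L (m • zdiv k x⁻¹) := by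
  classical
  obtain ⟨w, hwR, hwP, hw⟩ := exists_clear_aux hK φ P j hj hmax hsep x hgen
    (poles_finite' hK z).toFinset z hz (fun Q _ hQz => by
      rw [Set.Finite.mem_toFinset]; exact hQz)
  refine ⟨w, hwR, hwP, ?_⟩
  obtain ⟨M, hM⟩ := zm0_finset_bound (poles_finite' hK x).toFinset (fun Q => Q.1 (z * w))
  refine ⟨M, fun Q => ?_⟩
  have hD : (0 : Divisor k K) ≤ zdiv k x⁻¹ := zdiv_nonneg _
  by_cases hQ : Q.1 x ≤ 1
  · refine (hw Q hQ).trans ?_
    rw [← exp_zero, exp_le_exp]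
    exact nsmul_nonneg hD M Q
  · rw [not_le] at hQ
    have h1 := hM Q (by rw [Set.Finite.mem_toFinset]; exact hQ)
    refine h1.trans ?_
    rw [exp_le_exp, Finsupp.smul_apply, pdiv_apply hK]
    have hx0 : x ≠ 0 := by rintro rfl; simp at hQ
    have hneg := (ord_neg_iff Q hx0).mpr hQ
    have : (1 : ℤ) ≤ max (-(Q.ord x)) 0 := le_max_of_le_left (by omega)
    simp only [nsmul_eq_mul]
    nlinarith

include hK hj hmax in
/-- Step G2: finite codimension of the local ring in `O_P`. -/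
lemma exists_dep
    (hbir : IntermediateField.adjoin k (Set.range fun i => φ i / φ j) = ⊤)
    (hsep : ∀ Q : Place k K, (∀ z : K, InLoc φ P j z → Q.1 z ≤ 1) → Q = P) :
    ∃ B : ℕ, ∀ z : Fin (B + 1) → K, (∀ i, P.1 (z i) ≤ 1) →
      ∃ g : Fin (B + 1) → k, g ≠ 0 ∧ InLoc φ P j (∑ i, g i • z i) := by
  classical
  haveI : Infinite k := IsAlgClosed.instInfinite
  obtain ⟨a, hgen⟩ := exists_generic hK (fun i => φ i / φ j)
  set x := ∑ l, a l • (φ l / φ j) with hx
  have hxR : x ∈ chart k φ j := sum_smul_ratio_mem_chart φ j a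
  -- x is transcendental
  have hxtr : Transcendental k x := by
    apply transcendental_of_not_mem hK
    rintro ⟨c, hc⟩
    -- then no r_i has a pole, so all are constants, contradiction with birationality
    have hnopole : ∀ (Q : Place k K) (i : ι), Q.1 (φ i / φ j) ≤ 1 := by
      intro Q i
      by_contra h
      rw [not_le] at h
      have := lt_of_lt_of_le h (hgen Q i h)
      rw [← hc] at this
      exact absurd this (not_lt.mpr (Q.2.1 c))
    have hconst : ∀ i, φ i / φ j ∈ (⊥ : IntermediateField k K) := by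
      intro i
      have : φ i / φ j ∈ L (0 : Divisor k K) := fun Q => by simpa using hnopole Q i
      rw [L_zero hK, Submodule.mem_one] at this
      obtain ⟨c, hc⟩ := this
      rw [IntermediateField.mem_bot]; exact ⟨c, hc⟩
    have hbot : IntermediateField.adjoin k (Set.range fun i => φ i / φ j) = ⊥ := by
      rw [eq_bot_iff, IntermediateField.adjoin_le_iff]
      rintro _ ⟨i, rfl⟩
      exact hconst i
    rw [hbir] at hbot
    obtain ⟨y, hy, -⟩ := hK.1
    have : y ∈ (⊥ : IntermediateField k K) := by rw [← hbot]; trivial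
    rw [IntermediateField.mem_bot] at this
    obtain ⟨d, rfl⟩ := this
    exact hy (isAlgebraic_algebraMap d)
  obtain ⟨B, hB⟩ := exists_codim_bound hK (fun i => φ i / φ j) hbir hxtr hxR hgen
  refine ⟨B, fun z hz => ?_⟩
  choose w hwR hwP m hm using fun i => exists_clear hK φ P j hj hmax hsep x hgen (z i) (hz i)
  set Wt := ∏ i, w i with hWt
  have hWtR : Wt ∈ chart k φ j := prod_mem fun i _ => hwR i
  have hWtP : P.1 Wt = 1 := by
    rw [hWt, map_prod]; exact Finset.prod_eq_one fun i _ => hwP i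
  have hzW : ∀ i, ∃ m' : ℕ, z i * Wt ∈ L (m' • zdiv k x⁻¹) := by
    intro i
    have hrest : ∏ l ∈ Finset.univ.erase i, w l ∈ chart k φ j := prod_mem fun l _ => hwR l
    obtain ⟨m2, hm2⟩ := adjoin_mem_L hK (fun i => φ i / φ j) x hgen _ hrest
    refine ⟨m i + m2, ?_⟩
    have : z i * Wt = (z i * w i) * ∏ l ∈ Finset.univ.erase i, w l := by
      rw [hWt, ← Finset.mul_prod_erase Finset.univ w (Finset.mem_univ i), mul_assoc]
    rw [this, add_smul]
    exact mul_mem_L_add (hm i) hm2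
  obtain ⟨g, hg0, hg⟩ := hB (fun i => z i * Wt) hzW
  refine ⟨g, hg0, ∑ i, g i • (z i * Wt), hg, Wt, hWtR, hWtP, ?_⟩
  rw [Finset.sum_mul]
  apply Finset.sum_congr rfl
  intro i _
  rw [smul_mul_assoc]

lemma inLoc_aeval (t : K) (ht : InLoc φ P j t) (p : k[X]) : InLoc φ P j (aeval t p) := by
  have h1 : aeval t p ∈ Algebra.adjoin k {t} := aeval_mem_adjoin_singleton _ _
  have h2 : Algebra.adjoin k {t} ≤ locAlg φ P j := by
    apply Algebra.adjoin_le
    intro y hy
    rw [Set.mem_singleton_iff] at hy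
    subst hy
    exact ht
  exact h2 h1

include hK hj hmax in
/-- Step G3: the conductor. -/
lemma exists_conductor
    (hbir : IntermediateField.adjoin k (Set.range fun i => φ i / φ j) = ⊤)
    (hsep : ∀ Q : Place k K, (∀ z : K, InLoc φ P j z → Q.1 z ≤ 1) → Q = P)
    (t : K) (ht : InLoc φ P j t) (htv : P.1 t = exp (-1 : ℤ)) :
    ∃ B : ℕ, ∀ z : K, P.1 z ≤ 1 → InLoc φ P j (t ^ B * z) := by
  classical
  obtain ⟨B, hB⟩ := exists_dep hK φ P j hj hmax hbir hsep
  refine ⟨B, fun z hz => ?_⟩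
  have ht1 : P.1 t < 1 := unif_lt_one htv
  have hfam : ∀ i : Fin (B + 1), P.1 (t ^ (i : ℕ) * z) ≤ 1 := by
    intro i
    rw [map_mul, map_pow]
    exact mul_le_one' (pow_le_one' ht1.le _) hz
  obtain ⟨g, hg0, hg⟩ := hB (fun i => t ^ (i : ℕ) * z) hfam
  set p : k[X] := ∑ i : Fin (B + 1), C (g i) * X ^ (i : ℕ) with hp
  have hpcoeff : ∀ i : Fin (B + 1), p.coeff i = g i := by
    intro i
    rw [hp, finset_sum_coeff, Finset.sum_eq_single i]
    · simp
    · intro l _ hl
      rw [coeff_C_mul, coeff_X_pow, if_neg (fun h => hl (Fin.ext h.symm)), mul_zero]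
    · intro h; exact absurd (Finset.mem_univ i) h
  have hp0 : p ≠ 0 := by
    intro h0
    apply hg0
    ext i
    rw [← hpcoeff i, h0]; simp
  have hpdeg : p.natDegree ≤ B := by
    rw [hp]
    apply natDegree_sum_le_of_forall_le
    intro i _
    refine (natDegree_C_mul_X_pow_le _ _).trans ?_
    have := i.2; omega
  have hpz : aeval t p * z = ∑ i : Fin (B + 1), g i • (t ^ (i : ℕ) * z) := by
    rw [hp, map_sum, Finset.sum_mul]
    apply Finset.sum_congr rfl
    intro i _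
    rw [map_mul, aeval_C, map_pow, aeval_X, Algebra.smul_def, mul_assoc]
  rw [← hpz] at hg
  obtain ⟨q, hpq, hq⟩ := exists_eq_pow_rootMultiplicity_mul_and_not_dvd p hp0 0
  rw [C_0, sub_zero] at hpq hq
  set n0 := p.rootMultiplicity 0 with hn0
  have hq0 : q.coeff 0 ≠ 0 := fun h => hq (X_dvd_iff.mpr h)
  have hqne : q ≠ 0 := by rintro rfl; simp at hq0
  have hn0B : n0 ≤ B := by
    have h1 : p.natDegree = n0 + q.natDegree := by
      rw [hpq, natDegree_mul (pow_ne_zero _ X_ne_zero) hqne, natDegree_X_pow]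
    omega
  -- q(t) is a unit of the local ring
  have hqt : InLoc φ P j (aeval t q) := inLoc_aeval φ P j t ht q
  have hqt1 : P.1 (aeval t q) = 1 := by
    apply eq_one_of_residue_ne_zero P (c := q.coeff 0) _ hq0
    have : aeval t q - algebraMap k K (q.coeff 0) = aeval t q.divX * t := by
      conv_lhs => rw [← divX_mul_X_add q]
      simp
    rw [this, map_mul]
    have h2 : P.1 (aeval t q.divX) ≤ 1 :=
      (inLoc_aeval φ P j t ht q.divX).le_one hj hmax
    calc P.1 (aeval t q.divX) * P.1 t ≤ 1 * P.1 t := mul_le_mul' h2 le_rfl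
      _ < 1 := by rw [one_mul]; exact ht1
  have hinv := hqt.inv hqt1
  have h3 : t ^ n0 * z = (aeval t p * z) * (aeval t q)⁻¹ := by
    have hne : aeval t q ≠ 0 := by
      intro h0; rw [h0, map_zero] at hqt1; exact zero_ne_one hqt1
    rw [hpq, map_mul, map_pow, aeval_X]
    field_simp
  have h4 : InLoc φ P j (t ^ n0 * z) := by rw [h3]; exact hg.mul hinv
  have h5 : t ^ B * z = t ^ (B - n0) * (t ^ n0 * z) := by
    rw [← mul_assoc, ← pow_add, Nat.sub_add_cancel hn0B]
  rw [h5]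
  exact (ht.pow _).mul h4

include hK in
/-- Step G4: `O_P = O_a + t^N O_P`. -/
lemma exists_decomp (t : K) (ht : InLoc φ P j t) (htv : P.1 t = exp (-1 : ℤ)) :
    ∀ (N : ℕ) (z : K), P.1 z ≤ 1 →
      ∃ a : K, InLoc φ P j a ∧ ∃ z' : K, P.1 z' ≤ 1 ∧ z = a + t ^ N * z' := by
  intro N
  induction N with
  | zero =>
    intro z hz
    exact ⟨0, by simpa using InLoc.algebraMap (φ := φ) (P := P) (j := j) (0 : k), z, hz, by simp⟩
  | succ N ih =>
    intro z hz
    obtain ⟨a, ha, z', hz', hzz'⟩ := ih z hz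
    obtain ⟨c, hc⟩ := exists_const_sub_lt_one hK P hz'
    have ht0 : t ≠ 0 := unif_ne_zero htv
    refine ⟨a + algebraMap k K c * t ^ N, ha.add ((InLoc.algebraMap c).mul (ht.pow N)),
      (z' - algebraMap k K c) / t, ?_, ?_⟩
    · rw [map_div₀, htv, div_le_iff₀ (by exact exp_pos), one_mul]
      exact zm0_lt_one_iff.mp hc
    · rw [hzz', pow_succ]
      field_simp
      ring

include hK hj hmax in
/-- The main theorem: the local ring is the whole valuation ring. -/
theorem locRing_eq_of_sep_of_param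
    (hbir : IntermediateField.adjoin k (Set.range fun i => φ i / φ j) = ⊤)
    (hsep : ∀ Q : Place k K, (∀ z : K, InLoc φ P j z → Q.1 z ≤ 1) → Q = P)
    (t : K) (ht : InLoc φ P j t) (htv : P.1 t = exp (-1 : ℤ)) :
    ∀ z : K, P.1 z ≤ 1 → InLoc φ P j z := by
  obtain ⟨B, hB⟩ := exists_conductor hK φ P j hj hmax hbir hsep t ht htv
  intro z hz
  obtain ⟨a, ha, z', hz', hzz'⟩ := exists_decomp hK φ P j t ht htv B z hz
  rw [hzz']
  exact ha.add (hB z' hz')

end Main

end Groth.Agent.Lib.LeadFF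

namespace Groth.Agent.Lib.LeadFF

open FunFld WithZero

section Criterion

variable {k K : Type*} [Field k] [Field K] [Algebra k K]

lemma hbir_change {ι : Type*} (φ : ι → K) (i₀ j : ι) (hj : φ j ≠ 0)
    (hbir : IntermediateField.adjoin k (Set.range fun i => φ i / φ i₀) = ⊤) :
    IntermediateField.adjoin k (Set.range fun i => φ i / φ j) = ⊤ := by
  rw [eq_top_iff, ← hbir, IntermediateField.adjoin_le_iff]
  rintro _ ⟨i, rfl⟩
  exact chart_le_adjoin φ j i₀ hj (ratio_mem_chart φ i₀ i)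

/-- S11065 core. -/
theorem nonsingular_iff_sep_param [IsAlgClosed k] (hK : IsFunctionField k K) {ι : Type*}
    [Fintype ι] [Nonempty ι] (φ : ι → K) (hφ : ∃ i, φ i ≠ 0) (i₀ : ι)
    (hbir : IntermediateField.adjoin k (Set.range fun i => φ i / φ i₀) = ⊤) (P : Place k K) :
    IsNonsingularAt φ P ↔
      (∀ Q : Place k K, (∀ z : K, InLocRing φ P z → Q.1 z ≤ 1) → Q = P) ∧
        ∃ t : K, InLocRing φ P t ∧ P.1 t = exp (-1 : ℤ) := by
  constructor
  · intro h
    refine ⟨fun Q hQ => ?_, ?_⟩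
    · exact (place_eq_of_le (fun y hy => hQ y (h y hy))).symm
    · obtain ⟨t, ht⟩ := exists_unif P
      exact ⟨t, h t (unif_lt_one ht).le, ht⟩
  · rintro ⟨hsep, t, ht, htv⟩
    obtain ⟨j, hj, hmax⟩ := exists_maxIdx φ P hφ
    intro z hz
    rw [inLocRing_iff φ P j hj hmax]
    apply locRing_eq_of_sep_of_param hK φ P j hj hmax (hbir_change φ i₀ j hj hbir)
      (fun Q hQ => hsep Q (fun z hz => hQ z ((inLocRing_iff φ P j hj hmax z).mp hz)))
      t ((inLocRing_iff φ P j hj hmax t).mp ht) htv z hz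

end Criterion

end Groth.Agent.Lib.LeadFF
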