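import Mathlib
import Groth.Agent.Lib.LeadFF21

/-! Function fields of one variable, part 22: nonsingularity via codimension two. -/

namespace Groth.Agent.Lib.LeadFF

open FunFld WithZero

section Codim

variable {k K : Type*} [Field k] [Field K] [Algebra k K]

lemma mapDiv_eq_of_max (hK : IsFunctionField k K) {ι : Type*} [Fintype ι] [Nonempty ι]
    (φ : ι → K) (hne : ∀ i, φ i ≠ 0) (R : Place k K) (j : ι)
    (hmax : ∀ i, R.1 (φ i) ≤ R.1 (φ j)) : mapDiv k φ R = -R.ord (φ j) := by
  rw [mapDiv_apply hK, neg_inj]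
  apply le_antisymm (Finset.inf'_le _ (Finset.mem_univ j))
  apply Finset.le_inf'
  intro i _
  have := hmax i
  rwa [val_eq_exp_neg_ord R (hne i), val_eq_exp_neg_ord R (hne j), exp_le_exp, neg_le_neg_iff]
    at this

lemma exp_mapDiv (hK : IsFunctionField k K) {ι : Type*} [Fintype ι] [Nonempty ι]
    (φ : ι → K) (hne : ∀ i, φ i ≠ 0) (R : Place k K) (j : ι)
    (hmax : ∀ i, R.1 (φ i) ≤ R.1 (φ j)) : exp (mapDiv k φ R) = R.1 (φ j) := by
  rw [mapDiv_eq_of_max hK φ hne R j hmax, ← val_eq_exp_neg_ord R (hne j)]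

lemma span_le_L_mapDiv (hK : IsFunctionField k K) {ι : Type*} [Fintype ι] [Nonempty ι]
    (φ : ι → K) (hne : ∀ i, φ i ≠ 0) : Submodule.span k (Set.range φ) ≤ L (mapDiv k φ) := by
  rw [Submodule.span_le]
  rintro _ ⟨i, rfl⟩ R
  obtain ⟨j, -, hmax⟩ := exists_maxIdx φ R ⟨i, hne i⟩
  rw [exp_mapDiv hK φ hne R j hmax]
  exact hmax i

lemma mem_L_sub_single {D : Divisor k K} {R : Place k K} {f : K} :
    f ∈ L (D - Finsupp.single R 1) ↔ f ∈ L D ∧ R.1 f ≤ exp (D R - 1) := by
  constructor
  · intro h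
    refine ⟨L_mono (by
      intro R'
      rw [Finsupp.sub_apply]
      by_cases hR : R' = R
      · subst hR; rw [single_apply_self]; omega
      · rw [single_apply_ne hR]; omega) h, ?_⟩
    have := h R
    rwa [Finsupp.sub_apply, single_apply_self] at this
  · rintro ⟨h1, h2⟩ R'
    rw [Finsupp.sub_apply]
    by_cases hR : R' = R
    · subst hR; rw [single_apply_self]; exact h2
    · rw [single_apply_ne hR, sub_zero]; exact h1 R'

lemma inter_codim_le {V : Type*} [AddCommGroup V] [Module k V] (W A' A : Submodule k V)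
    (hA'A : A' ≤ A) [FiniteDimensional k A] :
    Module.finrank k ↥(W ⊓ A) + Module.finrank k A' ≤
      Module.finrank k ↥(W ⊓ A') + Module.finrank k A := by
  haveI : FiniteDimensional k ↥(W ⊓ A) := Submodule.finiteDimensional_of_le inf_le_right
  haveI : FiniteDimensional k ↥A' := Submodule.finiteDimensional_of_le hA'A
  have h1 := Submodule.finrank_sup_add_finrank_inf_eq (W ⊓ A) A'
  have h2 : (W ⊓ A) ⊓ A' = W ⊓ A' := by
    rw [inf_assoc, inf_eq_right.mpr hA'A]
  have h3 : Module.finrank k ↥((W ⊓ A) ⊔ A') ≤ Module.finrank k A :=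
    Submodule.finrank_mono (sup_le inf_le_right hA'A)
  rw [h2] at h1
  omega

lemma ell_step_one (hK : IsFunctionField k K) (D : Divisor k K) (R : Place k K)
    (hR : R.deg = 1) : ell D ≤ ell (D - Finsupp.single R 1) + 1 := by
  haveI := L_finite hK (D - Finsupp.single R 1)
  have := (L_step hK (D - Finsupp.single R 1) R).2
  rwa [sub_add_cancel, hR] at this

/-- removing a point drops the dimension of `W ∩ L(D)` by at most one. -/
lemma inter_step_le (hK : IsFunctionField k K) (W : Submodule k K) (D : Divisor k K)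
    (R : Place k K) (hR : R.deg = 1) :
    Module.finrank k ↥(W ⊓ L D) ≤ Module.finrank k ↥(W ⊓ L (D - Finsupp.single R 1)) + 1 := by
  haveI := L_finite hK D
  have hle : L (D - Finsupp.single R 1) ≤ L D := fun f hf => (mem_L_sub_single.mp hf).1
  have h1 := inter_codim_le W _ _ hle
  have h2 := ell_step_one hK D R hR
  unfold ell at h2
  omega

end Codim

end Groth.Agent.Lib.LeadFF

namespace Groth.Agent.Lib.LeadFF

open FunFld WithZero

section Codim2

variable {k K : Type*} [Field k] [Field K] [Algebra k K]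

lemma span_div_mem_chart {ι : Type*} [Fintype ι] (φ : ι → K) (j : ι) (hj : φ j ≠ 0) {f : K}
    (hf : f ∈ Submodule.span k (Set.range φ)) : f / φ j ∈ chart k φ j := by
  obtain ⟨b, hb⟩ := Submodule.mem_span_range_iff_exists_fun k |>.mp hf
  have := sum_smul_ratio_mul φ j hj b
  rw [hb] at this
  rw [← this, mul_div_cancel_right₀ _ hj]
  exact sum_smul_ratio_mem_chart φ j b

lemma chart_smul_eq {ι : Type*} (φ : ι → K) (y : K) (hy : y ≠ 0) (j : ι) :
    chart k (fun i => y * φ i) j = chart k φ j := by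
  unfold chart
  congr 2
  ext i
  rw [mul_div_mul_left _ _ hy]

/-- the two-step dimension count. -/
lemma codim2_iff_exists [IsAlgClosed k] (hK : IsFunctionField k K) {ι : Type*} [Fintype ι]
    [Nonempty ι] (φ : ι → K) (hne : ∀ i, φ i ≠ 0) (P Q : Place k K) :
    (Module.finrank k ↥(Submodule.span k (Set.range φ) ⊓
        L (mapDiv k φ - Finsupp.single P 1 - Finsupp.single Q 1)) + 2 =
      Module.finrank k ↥(Submodule.span k (Set.range φ))) ↔
    ∃ f ∈ Submodule.span k (Set.range φ), f ∈ L (mapDiv k φ - Finsupp.single P 1) ∧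
      f ∉ L (mapDiv k φ - Finsupp.single P 1 - Finsupp.single Q 1) := by
  set W := Submodule.span k (Set.range φ) with hW
  set D := mapDiv k φ with hD
  have hWL : W ≤ L D := span_le_L_mapDiv hK φ hne
  obtain ⟨j, hj, hmax⟩ := exists_maxIdx φ P ⟨Classical.arbitrary ι, hne _⟩
  have hPj := exp_mapDiv hK φ hne P j hmax
  rw [← hD] at hPj
  haveI : FiniteDimensional k W := FiniteDimensional.span_of_finite k (Set.finite_range φ)
  haveI : FiniteDimensional k ↥(W ⊓ L (D - Finsupp.single P 1)) :=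
    Submodule.finiteDimensional_of_le inf_le_left
  have hs1 := inter_step_le hK W D P (deg_eq_one_of_algClosed hK P)
  have hs2 := inter_step_le hK W (D - Finsupp.single P 1) Q (deg_eq_one_of_algClosed hK Q)
  rw [inf_eq_left.mpr hWL] at hs1
  have hlt1 : W ⊓ L (D - Finsupp.single P 1) < W := by
    refine lt_of_le_of_ne inf_le_left fun h => ?_
    have hφj : φ j ∈ W ⊓ L (D - Finsupp.single P 1) := by
      rw [h]; exact Submodule.subset_span ⟨j, rfl⟩
    have := (mem_L_sub_single.mp hφj.2).2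
    rw [← hPj, exp_le_exp] at this
    omega
  have h1 := Submodule.finrank_lt_finrank_of_lt hlt1
  have hle2 : W ⊓ L (D - Finsupp.single P 1 - Finsupp.single Q 1) ≤
      W ⊓ L (D - Finsupp.single P 1) :=
    inf_le_inf_left _ fun f hf => (mem_L_sub_single.mp hf).1
  constructor
  · intro h
    have hne' : W ⊓ L (D - Finsupp.single P 1 - Finsupp.single Q 1) ≠
        W ⊓ L (D - Finsupp.single P 1) := by
      intro heq; rw [heq] at h; omega
    obtain ⟨f, hf1, hf2⟩ := SetLike.exists_of_lt (lt_of_le_of_ne hle2 hne')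
    exact ⟨f, hf1.1, hf1.2, fun h' => hf2 ⟨hf1.1, h'⟩⟩
  · rintro ⟨f, hfW, hf1, hf2⟩
    have hlt2 : W ⊓ L (D - Finsupp.single P 1 - Finsupp.single Q 1) <
        W ⊓ L (D - Finsupp.single P 1) := by
      refine lt_of_le_of_ne hle2 fun heq => hf2 ?_
      have : f ∈ W ⊓ L (D - Finsupp.single P 1) := ⟨hfW, hf1⟩
      rw [← heq] at this
      exact this.2
    have h2 := Submodule.finrank_lt_finrank_of_lt hlt2
    omega

end Codim2

end Groth.Agent.Lib.LeadFF

namespace Groth.Agent.Lib.LeadFF

open FunFld WithZero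

section Codim2Main

variable {k K : Type*} [Field k] [Field K] [Algebra k K]

/-- nonsingularity is detected by separating sections. -/
theorem nonsingular_iff_exists_sections [IsAlgClosed k] (hK : IsFunctionField k K) {ι : Type*}
    [Fintype ι] [Nonempty ι] (φ : ι → K) (hne : ∀ i, φ i ≠ 0) (i₀ : ι)
    (hbir : IntermediateField.adjoin k (Set.range fun i => φ i / φ i₀) = ⊤) (P : Place k K) :
    IsNonsingularAt φ P ↔ ∀ Q : Place k K,
      ∃ f ∈ Submodule.span k (Set.range φ), f ∈ L (mapDiv k φ - Finsupp.single P 1) ∧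
        f ∉ L (mapDiv k φ - Finsupp.single P 1 - Finsupp.single Q 1) := by
  classical
  set W := Submodule.span k (Set.range φ) with hW
  have hWL : W ≤ L (mapDiv k φ) := span_le_L_mapDiv hK φ hne
  have hφ0 : ∃ i, φ i ≠ 0 := ⟨i₀, hne i₀⟩
  obtain ⟨j, hj, hmax⟩ := exists_maxIdx φ P hφ0
  have hPj := exp_mapDiv hK φ hne P j hmax
  have h0P : 0 < P.1 (φ j) := zero_lt_iff.mpr ((Valuation.ne_zero_iff _).mpr hj)
  have hr1 : ∀ i, P.1 (φ i / φ j) ≤ 1 := fun i => by
    rw [map_div₀, div_le_one₀ h0P]; exact hmax i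
  choose c hc using fun i => exists_const_sub_lt_one hK P (hr1 i)
  have hφW : ∀ i, φ i ∈ W := fun i => Submodule.subset_span ⟨i, rfl⟩
  -- membership in L(D - P) for elements of W
  have hmemP : ∀ f ∈ W, (f ∈ L (mapDiv k φ - Finsupp.single P 1) ↔ P.1 (f / φ j) < 1) := by
    intro f hf
    rw [mem_L_sub_single, map_div₀, div_lt_one₀ h0P, ← hPj, zm0_lt_exp_iff]
    exact ⟨fun h => h.2, fun h => ⟨hWL hf, h⟩⟩
  -- membership in L(D - P - Q) for Q ≠ P
  have hmemPQ : ∀ (Q : Place k K) (jQ : ι), Q ≠ P → (∀ i, Q.1 (φ i) ≤ Q.1 (φ jQ)) → ∀ f ∈ W,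
      (f ∈ L (mapDiv k φ - Finsupp.single P 1 - Finsupp.single Q 1) ↔
        P.1 (f / φ j) < 1 ∧ Q.1 f < Q.1 (φ jQ)) := by
    intro Q jQ hQP hmaxQ f hf
    rw [mem_L_sub_single, hmemP f hf, Finsupp.sub_apply, single_apply_ne hQP, sub_zero,
      ← zm0_lt_exp_iff, exp_mapDiv hK φ hne Q jQ hmaxQ]
  constructor
  · intro hns Q
    by_cases hQP : Q = P
    · subst hQP
      -- a local parameter in the span
      set φ' : ι → K := fun i => (φ j)⁻¹ * φ i with hφ'
      have hy : (φ j)⁻¹ ≠ 0 := inv_ne_zero hj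
      have heff : (1 : K) ∈ Submodule.span k (Set.range φ') := by
        have : φ' j = 1 := by simp [hφ', hj]
        rw [← this]; exact Submodule.subset_span ⟨j, rfl⟩
      have hnorm : ∀ i, Q.1 (φ' i) ≤ 1 := fun i => by
        have := hr1 i
        rwa [div_eq_inv_mul] at this
      obtain ⟨t, htv⟩ := exists_unif Q
      have htin : InLocRing φ' Q t := by
        have h1 := (inLocRing_iff φ Q j hj hmax t).mp (hns t (unif_lt_one htv).le)
        refine ⟨j, by simp [hφ', hj], fun i => ?_, ?_⟩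
        · simp only [hφ', map_mul]
          exact mul_le_mul' le_rfl (hmax i)
        · have e := chart_smul_eq (k := k) φ _ hy j
          obtain ⟨u, hu, w, hw, hw1, hzw⟩ := h1
          have hu' : u ∈ chart k φ' j := by rw [hφ', e]; exact hu
          have hw' : w ∈ chart k φ' j := by rw [hφ', e]; exact hw
          exact ⟨u, hu', w, hw', hw1, hzw⟩
      obtain ⟨f', hf'W, hf'v⟩ := (locParam_iff hK φ' Q heff hnorm).mp ⟨t, htin, htv⟩
      obtain ⟨b, hb⟩ := Submodule.mem_span_range_iff_exists_fun k |>.mp hf'W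
      set f := ∑ i, b i • φ i with hf
      have hfW : f ∈ W := sum_mem fun i _ => Submodule.smul_mem _ _ (hφW i)
      have hff' : f / φ j = f' := by
        rw [← hb, hf, div_eq_inv_mul, Finset.mul_sum]
        apply Finset.sum_congr rfl
        intro i _
        rw [hφ', mul_smul_comm]
      have hfv : Q.1 (f / φ j) = exp (-1 : ℤ) := by rw [hff', hf'v]
      refine ⟨f, hfW, (hmemP f hfW).mpr (by rw [hfv, ← exp_zero, exp_lt_exp]; norm_num), ?_⟩
      rw [mem_L_sub_single, Finsupp.sub_apply, single_apply_self]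
      rintro ⟨-, h2⟩
      have h3 : Q.1 f = exp (-1 : ℤ) * Q.1 (φ j) := by
        rw [← hfv, map_div₀, div_mul_cancel₀ _ h0P.ne']
      rw [h3, ← hPj, ← exp_add, exp_le_exp] at h2
      omega
    · by_contra hall
      push Not at hall
      obtain ⟨jQ, hjQ, hmaxQ⟩ := exists_maxIdx φ Q hφ0
      have h0Q : 0 < Q.1 (φ jQ) := zero_lt_iff.mpr ((Valuation.ne_zero_iff _).mpr hjQ)
      -- the forms f_i
      have hfi : ∀ i, P.1 ((φ i - c i • φ j) / φ j) < 1 ∧ Q.1 (φ i - c i • φ j) < Q.1 (φ jQ) := by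
        intro i
        have hfW : φ i - c i • φ j ∈ W := sub_mem (hφW i) (Submodule.smul_mem _ _ (hφW j))
        have h1 : P.1 ((φ i - c i • φ j) / φ j) < 1 := by
          have : (φ i - c i • φ j) / φ j = φ i / φ j - algebraMap k K (c i) := by
            rw [Algebra.smul_def]; field_simp
          rw [this]; exact hc i
        have := hall _ hfW ((hmemP _ hfW).mpr h1)
        exact (hmemPQ Q jQ hQP hmaxQ _ hfW).mp this
      -- j is maximal at Q too
      have hjmaxQ : Q.1 (φ jQ) ≤ Q.1 (φ j) := by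
        by_contra hlt
        rw [not_le] at hlt
        have h1 := (hfi jQ).2
        have h2 : Q.1 (c jQ • φ j) < Q.1 (φ jQ) := by
          rw [Algebra.smul_def, map_mul]
          calc Q.1 (algebraMap k K (c jQ)) * Q.1 (φ j) ≤ 1 * Q.1 (φ j) :=
                mul_le_mul' (Q.2.1 _) le_rfl
            _ < _ := by rw [one_mul]; exact hlt
        have h3 : φ jQ = (φ jQ - c jQ • φ j) + c jQ • φ j := by ring
        have h4 : Q.1 (φ jQ) < Q.1 (φ jQ) := by
          conv_lhs => rw [h3]
          exact lt_of_le_of_lt (Q.1.map_add _ _) (max_lt h1 h2)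
        exact lt_irrefl _ h4
      have hmaxQ' : ∀ i, Q.1 (φ i) ≤ Q.1 (φ j) := fun i => (hmaxQ i).trans hjmaxQ
      have h0Qj : 0 < Q.1 (φ j) := zero_lt_iff.mpr ((Valuation.ne_zero_iff _).mpr hj)
      have hsame : SameImage φ P Q := by
        refine ⟨j, hj, hmax, hmaxQ', fun i => ⟨c i, hc i, ?_⟩⟩
        have : φ i / φ j - algebraMap k K (c i) = (φ i - c i • φ j) / φ j := by
          rw [Algebra.smul_def]; field_simp
        rw [this, map_div₀, div_lt_one₀ h0Qj]
        exact lt_of_lt_of_le (hfi i).2 hjmaxQ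
      have h5 := (sameImage_iff hK φ hφ0 P Q).mp hsame
      have : P = Q := place_eq_of_le (fun y hy => (h5 y (hns y hy)).1)
      exact hQP this.symm
  · intro h
    rw [nonsingular_iff_sep_param hK φ hφ0 i₀ hbir P]
    refine ⟨fun Q hQ => ?_, ?_⟩
    · by_contra hQP
      obtain ⟨f, hfW, hf1, hf2⟩ := h Q
      have hin : ∀ z, InLoc φ P j z → Q.1 z ≤ 1 := fun z hz =>
        hQ z ((inLocRing_iff φ P j hj hmax z).mpr hz)
      have h0Qj : 0 < Q.1 (φ j) := zero_lt_iff.mpr ((Valuation.ne_zero_iff _).mpr hj)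
      have hmaxQ : ∀ i, Q.1 (φ i) ≤ Q.1 (φ j) := fun i => by
        have := hin _ (InLoc.of_mem (ratio_mem_chart φ j i))
        rwa [map_div₀, div_le_one₀ h0Qj] at this
      have hcQ : ∀ i, Q.1 (φ i / φ j - algebraMap k K (c i)) < 1 := by
        intro i
        have hQ1 : Q.1 (φ i / φ j) ≤ 1 := hin _ (InLoc.of_mem (ratio_mem_chart φ j i))
        obtain ⟨c', hc'⟩ := exists_const_sub_lt_one hK Q hQ1
        by_cases hcc : c' = c i
        · rw [← hcc]; exact hc'
        · exfalso
          have hin' : InLoc φ P j (φ i / φ j - algebraMap k K c') :=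
            (InLoc.of_mem (ratio_mem_chart φ j i)).sub (InLoc.algebraMap c')
          have hP1 : P.1 (φ i / φ j - algebraMap k K c') = 1 := by
            have e : φ i / φ j - algebraMap k K c' =
                (φ i / φ j - algebraMap k K (c i)) + algebraMap k K (c i - c') := by
              rw [map_sub]; ring
            have hne' : c i - c' ≠ 0 := sub_ne_zero.mpr (Ne.symm hcc)
            rw [e, Valuation.map_add_eq_of_lt_right _
              (by rw [place_trivOn P _ hne']; exact hc i), place_trivOn P _ hne']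
          have := hin _ (hin'.inv hP1)
          rw [map_inv₀] at this
          have hne0 : Q.1 (φ i / φ j - algebraMap k K c') ≠ 0 := by
            intro h0
            rw [h0, inv_zero] at this
            have h1 := congrArg P.1 ((map_eq_zero Q.1).mp h0)
            rw [hP1, map_zero] at h1
            exact one_ne_zero h1
          have h2 := (one_le_inv₀ (zero_lt_iff.mpr hne0)).mp
          have : 1 ≤ Q.1 (φ i / φ j - algebraMap k K c') := by
            by_contra hlt
            rw [not_le] at hlt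
            have := one_lt_inv_iff₀.mpr ⟨zero_lt_iff.mpr hne0, hlt⟩
            exact absurd this (not_lt.mpr ‹(Q.1 (φ i / φ j - algebraMap k K c'))⁻¹ ≤ 1›)
          exact absurd hc' (not_lt.mpr this)
      have hsame : SameImage φ P Q := ⟨j, hj, hmax, hmaxQ, fun i => ⟨c i, hc i, hcQ i⟩⟩
      have h5 := (sameImage_iff hK φ hφ0 P Q).mp hsame
      have hz : InLocRing φ P (f / φ j) :=
        (inLocRing_iff φ P j hj hmax _).mpr (InLoc.of_mem (span_div_mem_chart φ j hj hfW))
      have hPz : P.1 (f / φ j) < 1 := (hmemP f hfW).mp hf1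
      have hQz : Q.1 (f / φ j) < 1 := (h5 _ hz).2.mpr hPz
      apply hf2
      rw [hmemPQ Q j hQP hmaxQ f hfW]
      refine ⟨hPz, ?_⟩
      rwa [map_div₀, div_lt_one₀ h0Qj] at hQz
    · obtain ⟨f, hfW, hf1, hf2⟩ := h P
      refine ⟨f / φ j, (inLocRing_iff φ P j hj hmax _).mpr
        (InLoc.of_mem (span_div_mem_chart φ j hj hfW)), ?_⟩
      have h1 := (mem_L_sub_single.mp hf1).2
      rw [mem_L_sub_single, Finsupp.sub_apply, single_apply_self] at hf2
      have h2 : ¬ P.1 f ≤ exp (mapDiv k φ P - 1 - 1) := fun h' => hf2 ⟨hf1, h'⟩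
      rw [not_le] at h2
      have hf0 : f ≠ 0 := by rintro rfl; simp at h2
      rw [map_div₀, ← hPj, val_eq_exp_neg_ord P hf0, ← exp_sub]
      rw [val_eq_exp_neg_ord P hf0, exp_le_exp] at h1
      rw [val_eq_exp_neg_ord P hf0, exp_lt_exp] at h2
      congr 1; omega

end Codim2Main

end Groth.Agent.Lib.LeadFF
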