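import Mathlib
import Groth.Agent.Lib.LeadFF22

/-! Linear series on function fields: vanishing-dimension functions. -/

namespace Groth.Agent.Lib.Helper27LinSer

open FunFld WithZero Groth.Agent.Lib.LeadFF

variable {k K : Type*} [Field k] [Field K] [Algebra k K]

/-- `dim V(-nP)`. -/
noncomputable def fdim (V : Submodule k K) (D : Divisor k K) (P : Place k K) (n : ℤ) : ℕ :=
  Module.finrank k ↥(V ⊓ L (D - Finsupp.single P n))

lemma fdim_def (V : Submodule k K) (D : Divisor k K) (P : Place k K) (n : ℤ) :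
    fdim V D P n = Module.finrank k ↥(V ⊓ L (D - Finsupp.single P n)) := rfl

lemma fin_inf (hK : IsFunctionField k K) (V : Submodule k K) (E : Divisor k K) :
    FiniteDimensional k ↥(V ⊓ L E) := by
  have := L_finite hK E
  exact Submodule.finiteDimensional_of_le inf_le_right

lemma fdim_of_nonpos {V : Submodule k K} {D : Divisor k K} (hV : V ≤ L D) (P : Place k K)
    {n : ℤ} (hn : n ≤ 0) : fdim V D P n = Module.finrank k ↥V := by
  unfold fdim
  have : V ⊓ L (D - Finsupp.single P n) = V := by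
    apply inf_eq_left.mpr
    refine hV.trans (L_mono ?_)
    intro R
    rw [Finsupp.sub_apply]
    by_cases hR : R = P
    · subst hR; rw [single_apply_self]; omega
    · rw [single_apply_ne hR]; omega
  rw [this]

lemma fdim_succ_le (hK : IsFunctionField k K) (V : Submodule k K) (D : Divisor k K)
    (P : Place k K) (n : ℤ) : fdim V D P (n + 1) ≤ fdim V D P n := by
  unfold fdim
  have := fin_inf hK V (D - Finsupp.single P n)
  apply Submodule.finrank_mono
  refine inf_le_inf_left V (L_mono ?_)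
  intro R
  rw [Finsupp.sub_apply, Finsupp.sub_apply]
  by_cases hR : R = P
  · subst hR; rw [single_apply_self, single_apply_self]; omega
  · rw [single_apply_ne hR, single_apply_ne hR]

lemma fdim_le_succ (hK : IsFunctionField k K) (V : Submodule k K) (D : Divisor k K)
    (P : Place k K) (hP : P.deg = 1) (n : ℤ) : fdim V D P n ≤ fdim V D P (n + 1) + 1 := by
  unfold fdim
  have := inter_step_le hK V (D - Finsupp.single P n) P hP
  rwa [sub_sub, ← Finsupp.single_add] at this

lemma fdim_eq_zero (hK : IsFunctionField k K) (V : Submodule k K) (D : Divisor k K)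
    (P : Place k K) (hP : P.deg = 1) {n : ℤ} (hn : D.deg < n) : fdim V D P n = 0 := by
  unfold fdim
  have h1 : L (D - Finsupp.single P n) = ⊥ :=
    L_eq_bot_of_deg_neg hK _ (by rw [deg_sub, deg_single, hP]; push_cast; omega)
  rw [h1, inf_bot_eq]
  exact finrank_bot k K

lemma inf_L_le {D : Divisor k K} {P Q : Place k K} (hPQ : P ≠ Q) (n m : ℕ) :
    L (D - Finsupp.single P (n : ℤ)) ⊓ L (D - Finsupp.single Q (m : ℤ)) ≤
      L (D - Finsupp.single P (n : ℤ) - Finsupp.single Q (m : ℤ)) := by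
  rintro x ⟨h1, h2⟩ R
  have h1R := h1 R
  have h2R := h2 R
  rw [Finsupp.sub_apply] at h1R h2R
  rw [Finsupp.sub_apply, Finsupp.sub_apply]
  by_cases hRQ : R = Q
  · subst hRQ
    rw [single_apply_ne (Ne.symm hPQ), sub_zero]
    exact h2R
  · rw [single_apply_ne hRQ, sub_zero]
    exact h1R

lemma inf_inf_eq_bot (hK : IsFunctionField k K) (V : Submodule k K) {D : Divisor k K}
    {P Q : Place k K} (hP : P.deg = 1) (hQ : Q.deg = 1) (hPQ : P ≠ Q) (n m : ℕ)
    (hd : D.deg < (n : ℤ) + m) :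
    (V ⊓ L (D - Finsupp.single P (n : ℤ))) ⊓ (V ⊓ L (D - Finsupp.single Q (m : ℤ))) = ⊥ := by
  rw [eq_bot_iff]
  have h1 : L (D - Finsupp.single P (n : ℤ) - Finsupp.single Q (m : ℤ)) = ⊥ :=
    L_eq_bot_of_deg_neg hK _ (by rw [deg_sub, deg_sub, deg_single, deg_single, hP, hQ]; push_cast; omega)
  rw [← h1]
  exact (inf_le_inf inf_le_right inf_le_right).trans (inf_L_le hPQ n m)

lemma fdim_add_le (hK : IsFunctionField k K) {V : Submodule k K} {D : Divisor k K}
    (hV : V ≤ L D) {P Q : Place k K} (hP : P.deg = 1) (hQ : Q.deg = 1) (hPQ : P ≠ Q) (n m : ℕ)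
    (hd : D.deg < (n : ℤ) + m) :
    fdim V D P (n : ℤ) + fdim V D Q (m : ℤ) ≤ Module.finrank k ↥V := by
  unfold fdim
  have := fin_inf hK V (D - Finsupp.single P (n : ℤ))
  have := fin_inf hK V (D - Finsupp.single Q (m : ℤ))
  have : FiniteDimensional k ↥V := by
    have := L_finite hK D
    exact Submodule.finiteDimensional_of_le hV
  have h1 := Submodule.finrank_sup_add_finrank_inf_eq (V ⊓ L (D - Finsupp.single P (n : ℤ)))
    (V ⊓ L (D - Finsupp.single Q (m : ℤ)))
  rw [inf_inf_eq_bot hK V hP hQ hPQ n m hd, finrank_bot, add_zero] at h1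
  rw [← h1]
  exact Submodule.finrank_mono (sup_le inf_le_left inf_le_left)

lemma exists_section (hK : IsFunctionField k K) {V : Submodule k K} {D : Divisor k K}
    (hV : V ≤ L D) {P Q : Place k K} (hPQ : P ≠ Q) (n m : ℕ)
    (hd : Module.finrank k ↥V + 1 ≤ fdim V D P (n : ℤ) + fdim V D Q (m : ℤ)) :
    ∃ s : K, s ≠ 0 ∧ s ∈ V ∧
      s ∈ L (D - Finsupp.single P (n : ℤ) - Finsupp.single Q (m : ℤ)) := by
  unfold fdim at hd
  have := fin_inf hK V (D - Finsupp.single P (n : ℤ))
  have := fin_inf hK V (D - Finsupp.single Q (m : ℤ))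
  have : FiniteDimensional k ↥V := by
    have := L_finite hK D
    exact Submodule.finiteDimensional_of_le hV
  have h1 := Submodule.finrank_sup_add_finrank_inf_eq (V ⊓ L (D - Finsupp.single P (n : ℤ)))
    (V ⊓ L (D - Finsupp.single Q (m : ℤ)))
  have h2 : Module.finrank k ↥((V ⊓ L (D - Finsupp.single P (n : ℤ))) ⊔
      (V ⊓ L (D - Finsupp.single Q (m : ℤ)))) ≤ Module.finrank k ↥V :=
    Submodule.finrank_mono (sup_le inf_le_left inf_le_left)
  have h3 : (V ⊓ L (D - Finsupp.single P (n : ℤ))) ⊓ (V ⊓ L (D - Finsupp.single Q (m : ℤ))) ≠ ⊥ := by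
    intro h
    rw [h, finrank_bot] at h1
    omega
  obtain ⟨s, hs, hs0⟩ := Submodule.exists_mem_ne_zero_of_ne_bot h3
  exact ⟨s, hs0, hs.1.1, inf_L_le hPQ n m ⟨hs.1.2, hs.2.2⟩⟩

/-- The combinatorial heart: two exact pairs. -/
lemma comb (f g : ℕ → ℕ) (d r : ℕ) (hf0 : f 0 = r + 1) (hg0 : g 0 = r + 1)
    (hgd : g (d + 1) = 0) (hgs : ∀ n, g (n + 1) ≤ g n ∧ g n ≤ g (n + 1) + 1)
    (hfg : ∀ n, n ≤ d + 1 → f n + g (d + 1 - n) ≤ r + 1)
    (hw : (r + 1) * d + 1 ≤
      (∑ n ∈ Finset.range d, f (n + 1)) + (∑ n ∈ Finset.range d, g (n + 1)) + r) :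
    ∃ n₁ n₂, n₁ < n₂ ∧ n₂ ≤ d ∧ r + 2 ≤ f n₁ + g (d - n₁) ∧ r + 2 ≤ f n₂ + g (d - n₂) := by
  classical
  -- the jump set of `g`
  set J := (Finset.range (d + 1)).filter (fun m => g m = g (m + 1) + 1) with hJ
  have hJcard : ∀ N, g 0 = g N + ((Finset.range N).filter (fun m => g m = g (m + 1) + 1)).card := by
    intro N
    induction N with
    | zero => simp
    | succ N ih =>
      rw [Finset.range_add_one, Finset.filter_insert]
      obtain ⟨h1, h2⟩ := hgs N
      by_cases h : g N = g (N + 1) + 1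
      · rw [if_pos h, Finset.card_insert_of_notMem (by simp)]
        omega
      · rw [if_neg h]
        omega
  have hJ1 : J.card = r + 1 := by
    have := hJcard (d + 1)
    rw [hg0, hgd, ← hJ] at this
    omega
  set e : ℕ → ℕ := fun m => r + 1 - (f (d - m) + g (m + 1)) with he
  have hsum : ∀ m ∈ Finset.range (d + 1), f (d - m) + g (m + 1) + e m = r + 1 := by
    intro m hm
    rw [Finset.mem_range] at hm
    have := hfg (d - m) (by omega)
    have h2 : d + 1 - (d - m) = m + 1 := by omega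
    rw [h2] at this
    simp only [he]
    omega
  have htot : (∑ m ∈ Finset.range (d + 1), f (d - m)) + (∑ m ∈ Finset.range (d + 1), g (m + 1)) +
      (∑ m ∈ Finset.range (d + 1), e m) = (d + 1) * (r + 1) := by
    rw [← Finset.sum_add_distrib, ← Finset.sum_add_distrib, Finset.sum_congr rfl hsum,
      Finset.sum_const, Finset.card_range, smul_eq_mul]
  have hfsum : (∑ m ∈ Finset.range (d + 1), f (d - m)) =
      (∑ n ∈ Finset.range d, f (n + 1)) + (r + 1) := by
    have := Finset.sum_range_reflect f (d + 1)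
    simp only [add_tsub_cancel_right] at this
    rw [this, Finset.sum_range_succ', hf0]
  have hgsum : (∑ m ∈ Finset.range (d + 1), g (m + 1)) = ∑ n ∈ Finset.range d, g (n + 1) := by
    rw [Finset.sum_range_succ, hgd, add_zero]
  have hesum : (∑ m ∈ Finset.range (d + 1), e m) + 1 ≤ r := by
    rw [hfsum, hgsum] at htot
    have : (d + 1) * (r + 1) = (r + 1) * d + (r + 1) := by ring
    linarith
  set B := J.filter (fun m => ¬ (f (d - m) + g (m + 1) = r + 1)) with hB
  set G := J.filter (fun m => f (d - m) + g (m + 1) = r + 1) with hG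
  have hGB : G.card + B.card = J.card := Finset.card_filter_add_card_filter_not _
  have hBle : B.card ≤ ∑ m ∈ Finset.range (d + 1), e m := by
    rw [Finset.card_eq_sum_ones]
    have hBsub : B ⊆ Finset.range (d + 1) := fun m hm =>
      (Finset.mem_filter.mp (Finset.mem_filter.mp hm).1).1
    refine (Finset.sum_le_sum (f := fun _ => 1) (g := e) ?_).trans
      (Finset.sum_le_sum_of_subset hBsub)
    intro m hm
    have hm1 := (Finset.mem_filter.mp hm).2
    have hm2 := hsum m (hBsub hm)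
    omega
  have hG2 : 1 < G.card := by omega
  obtain ⟨a, ha, b, hb, hab⟩ := Finset.one_lt_card.mp hG2
  have hmem : ∀ m ∈ G, m ≤ d ∧ r + 2 ≤ f (d - m) + g m := by
    intro m hm
    obtain ⟨hmJ, hm1⟩ := Finset.mem_filter.mp hm
    obtain ⟨hmr, hm2⟩ := Finset.mem_filter.mp hmJ
    rw [Finset.mem_range] at hmr
    exact ⟨by omega, by omega⟩
  obtain ⟨ha1, ha2⟩ := hmem a ha
  obtain ⟨hb1, hb2⟩ := hmem b hb
  rcases lt_or_gt_of_ne hab with h | h
  · refine ⟨d - b, d - a, by omega, by omega, ?_, ?_⟩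
    · rw [Nat.sub_sub_self hb1]; exact hb2
    · rw [Nat.sub_sub_self ha1]; exact ha2
  · refine ⟨d - a, d - b, by omega, by omega, ?_, ?_⟩
    · rw [Nat.sub_sub_self ha1]; exact ha2
    · rw [Nat.sub_sub_self hb1]; exact hb2

end Groth.Agent.Lib.Helper27LinSer
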