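import Mathlib
import Groth.Agent.Lib.Helper27LinSer1

/-! Linear series: large weights at two points force a torsion relation. -/

namespace Groth.Agent.Lib.Helper27LinSer

open FunFld WithZero Groth.Agent.Lib.LeadFF

variable {k K : Type*} [Field k] [Field K] [Algebra k K]

lemma div_of_section (hK : IsFunctionField k K) {E : Divisor k K} (hE : E.deg = 0) {s : K}
    (hs0 : s ≠ 0) (hs : s ∈ L E) : FunFld.div k s = -E := by
  have h1 := neg_le_div_of_mem_L hK hs hs0
  exact (eq_of_le_of_deg_eq hK h1 (by rw [deg_neg, hE, deg_div hK, neg_zero])).symm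

theorem torsion_of_weights [IsAlgClosed k] (hK : IsFunctionField k K) (d r : ℕ)
    (D : Divisor k K) (hD : D.deg = d) (V : Submodule k K) (hV : V ≤ L D)
    (hVr : Module.finrank k ↥V = r + 1) (P Q : Place k K) (hPQ : P ≠ Q)
    (hw : (r + 1) * d + 1 ≤
      (∑ n ∈ Finset.range d, Module.finrank k ↥(V ⊓ L (D - Finsupp.single P ((n : ℤ) + 1)))) +
        (∑ n ∈ Finset.range d, Module.finrank k ↥(V ⊓ L (D - Finsupp.single Q ((n : ℤ) + 1)))) + r) :
    ∃ m : ℕ, 1 ≤ m ∧ m ≤ d ∧ ∃ h : K, h ≠ 0 ∧
      FunFld.div k h = Finsupp.single Q (m : ℤ) - Finsupp.single P (m : ℤ) := by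
  have hP := deg_eq_one_of_algClosed hK P
  have hQ := deg_eq_one_of_algClosed hK Q
  set f : ℕ → ℕ := fun n => fdim V D P (n : ℤ) with hf
  set g : ℕ → ℕ := fun n => fdim V D Q (n : ℤ) with hg
  have hfs : ∀ n, f (n + 1) =
      Module.finrank k ↥(V ⊓ L (D - Finsupp.single P ((n : ℤ) + 1))) := by
    intro n; simp only [hf, fdim]; push_cast; rfl
  have hgs' : ∀ n, g (n + 1) =
      Module.finrank k ↥(V ⊓ L (D - Finsupp.single Q ((n : ℤ) + 1))) := by
    intro n; simp only [hg, fdim]; push_cast; rfl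
  have hw' : (r + 1) * d + 1 ≤
      (∑ n ∈ Finset.range d, f (n + 1)) + (∑ n ∈ Finset.range d, g (n + 1)) + r := by
    rw [Finset.sum_congr rfl (fun n _ => hfs n), Finset.sum_congr rfl (fun n _ => hgs' n)]
    exact hw
  obtain ⟨n₁, n₂, h12, h2d, hn1, hn2⟩ := comb f g d r
    (by simp only [hf]; rw [fdim_of_nonpos hV P (by simp), hVr])
    (by simp only [hg]; rw [fdim_of_nonpos hV Q (by simp), hVr])
    (by simp only [hg]; exact fdim_eq_zero hK V D Q hQ (by rw [hD]; push_cast; omega))
    (by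
      intro n
      simp only [hg]
      have e : (((n + 1 : ℕ)) : ℤ) = (n : ℤ) + 1 := by push_cast; rfl
      rw [e]
      exact ⟨fdim_succ_le hK V D Q n, fdim_le_succ hK V D Q hQ n⟩)
    (by
      intro n hn
      simp only [hf, hg]
      have := fdim_add_le hK hV hP hQ hPQ n (d + 1 - n) (by rw [hD]; omega)
      rw [hVr] at this
      exact this)
    hw'
  simp only [hf, hg] at hn1 hn2
  obtain ⟨s₁, hs10, -, hs1⟩ := exists_section hK hV hPQ n₁ (d - n₁) (by rw [hVr]; omega)
  obtain ⟨s₂, hs20, -, hs2⟩ := exists_section hK hV hPQ n₂ (d - n₂) (by rw [hVr]; omega)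
  have hd1 := div_of_section hK (by
    rw [deg_sub, deg_sub, deg_single, deg_single, hP, hQ, hD]; push_cast; omega) hs10 hs1
  have hd2 := div_of_section hK (by
    rw [deg_sub, deg_sub, deg_single, deg_single, hP, hQ, hD]; push_cast; omega) hs20 hs2
  refine ⟨n₂ - n₁, by omega, by omega, s₁ * s₂⁻¹, mul_ne_zero hs10 (inv_ne_zero hs20), ?_⟩
  rw [div_mul hK hs10 (inv_ne_zero hs20), div_inv hK, hd1, hd2]
  ext R
  simp only [Finsupp.coe_add, Finsupp.coe_neg, Finsupp.coe_sub, Pi.add_apply, Pi.neg_apply,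
    Pi.sub_apply]
  by_cases hRP : R = P
  · subst hRP
    rw [single_apply_self, single_apply_self, single_apply_self, single_apply_ne hPQ,
      single_apply_ne hPQ, single_apply_ne hPQ]
    omega
  · by_cases hRQ : R = Q
    · subst hRQ
      rw [single_apply_self, single_apply_self, single_apply_self, single_apply_ne hRP,
        single_apply_ne hRP, single_apply_ne hRP]
      omega
    · rw [single_apply_ne hRP, single_apply_ne hRP, single_apply_ne hRP, single_apply_ne hRQ,
        single_apply_ne hRQ, single_apply_ne hRQ]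
      omega

end Groth.Agent.Lib.Helper27LinSer
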