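import Mathlib
import Groth.Agent.Lib.Helper27LinSer2

/-! Linear series: a chain ending in a curve of positive genus forces a cusp. -/

namespace Groth.Agent.Lib.Helper27LinSer

open FunFld WithZero Groth.Agent.Lib.LeadFF

universe u v w

lemma ell_le_one_of_deg_one {k : Type u} {K : Type v} [Field k] [Field K] [Algebra k K]
    (hK : IsFunctionField k K) (hg : 0 < genus k K) {E : Divisor k K}
    (hE : E.deg = 1) : ell E ≤ 1 := by
  by_cases hbot : L E = ⊥
  · unfold ell; rw [hbot, finrank_bot]; omega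
  · obtain ⟨s, hs, hs0⟩ := Submodule.exists_mem_ne_zero_of_ne_bot hbot
    have h1 := neg_le_div_of_mem_L hK hs hs0
    have hE' : 0 ≤ E + FunFld.div k s := by
      have := add_le_add_right h1 E
      rwa [add_neg_cancel] at this
    obtain ⟨R, hR, hER⟩ := effective_deg_one hK hE' (by rw [deg_add, deg_div hK, hE, add_zero])
    rw [← ell_add_div hK E hs0, hER, ell_single_one hK hg R hR]

lemma fdim_le_one_of_genus_pos {k : Type u} {K : Type v} [Field k] [Field K] [Algebra k K]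
    [IsAlgClosed k] (hK : IsFunctionField k K) (hg : 0 < genus k K)
    (V : Submodule k K) {D : Divisor k K} {d : ℕ} (hD : D.deg = d) (A : Place k K) :
    fdim V D A ((d : ℤ) - 1) ≤ 1 := by
  unfold fdim
  have hA := deg_eq_one_of_algClosed hK A
  have := L_finite hK (D - Finsupp.single A ((d : ℤ) - 1))
  have h1 : Module.finrank k ↥(V ⊓ L (D - Finsupp.single A ((d : ℤ) - 1))) ≤
      Module.finrank k ↥(L (D - Finsupp.single A ((d : ℤ) - 1))) :=
    Submodule.finrank_mono inf_le_right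
  have h2 := ell_le_one_of_deg_one hK hg (E := D - Finsupp.single A ((d : ℤ) - 1)) (by
    rw [deg_sub, deg_single, hA, hD]; push_cast; ring)
  unfold ell at h2
  omega

/-- One step of propagation: a cusp at `B` bounds `dim V(-(d-1)A)` for `A ≠ B`. -/
lemma fdim_le_one_of_cusp {k : Type u} {K : Type v} [Field k] [Field K] [Algebra k K]
    [IsAlgClosed k] (hK : IsFunctionField k K) {V : Submodule k K} {D : Divisor k K} {d r : ℕ}
    (hd : 1 ≤ d) (hD : D.deg = d) (hV : V ≤ L D) (hVr : Module.finrank k ↥V = r + 1)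
    {A B : Place k K} (hAB : A ≠ B) (hcusp : r ≤ fdim V D B 2) :
    fdim V D A ((d : ℤ) - 1) ≤ 1 := by
  have hA := deg_eq_one_of_algClosed hK A
  have hB := deg_eq_one_of_algClosed hK B
  have h := fdim_add_le hK hV hA hB hAB (d - 1) 2 (by rw [hD]; omega)
  have e : ((d - 1 : ℕ) : ℤ) = (d : ℤ) - 1 := by omega
  rw [e, hVr] at h
  have e2 : ((2 : ℕ) : ℤ) = 2 := by norm_num
  rw [e2] at h
  omega

theorem cusp_of_chain {k : Type u} [Field k] [IsAlgClosed k]
    (n : ℕ) (W : Fin n → Type w) [∀ j, Field (W j)] [∀ j, Algebra k (W j)]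
    (hW : ∀ j, IsFunctionField k (W j))
    (hpos : ∀ j : Fin n, (j : ℕ) + 1 = n → 0 < genus k (W j))
    (d r : ℕ) (hd : 1 ≤ d)
    (D : ∀ j, Divisor k (W j)) (hD : ∀ j, (D j).deg = d)
    (V : ∀ j, Submodule k (W j)) (hV : ∀ j, V j ≤ L (D j))
    (hVr : ∀ j, Module.finrank k ↥(V j) = r + 1)
    (A B : ∀ j, Place k (W j))
    (hAB : ∀ j : Fin n, (j : ℕ) + 1 < n → A j ≠ B j)
    (hcomp : ∀ (j : Fin n) (hj : (j : ℕ) + 1 < n) (m : ℕ), m ≤ d + 1 →
      Module.finrank k ↥((V j) ⊓ L ((D j) - Finsupp.single (B j) ((m : ℤ)))) +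
        Module.finrank k ↥((V ⟨(j : ℕ) + 1, hj⟩) ⊓ L ((D ⟨(j : ℕ) + 1, hj⟩) -
          Finsupp.single (A ⟨(j : ℕ) + 1, hj⟩) ((d : ℤ) + 1 - m))) = r + 1) :
    ∀ j : Fin n, fdim (V j) (D j) (A j) ((d : ℤ) - 1) ≤ 1 := by
  have key : ∀ i : ℕ, ∀ j : Fin n, (j : ℕ) + 1 + i = n →
      fdim (V j) (D j) (A j) ((d : ℤ) - 1) ≤ 1 := by
    intro i
    induction i with
    | zero =>
      intro j hj
      exact fdim_le_one_of_genus_pos (hW j) (hpos j (by omega)) (V j) (hD j) (A j)
    | succ i ih =>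
      intro j hj
      have hj' : (j : ℕ) + 1 < n := by omega
      have hnext := ih ⟨(j : ℕ) + 1, hj'⟩ (by simp only; omega)
      have hc := hcomp j hj' 2 (by omega)
      have e : (d : ℤ) + 1 - ((2 : ℕ) : ℤ) = (d : ℤ) - 1 := by push_cast; ring
      rw [e] at hc
      have e2 : ((2 : ℕ) : ℤ) = 2 := by norm_num
      rw [e2] at hc
      unfold fdim at hnext
      refine fdim_le_one_of_cusp (hW j) hd (hD j) (hV j) (hVr j) (hAB j hj') ?_
      unfold fdim
      omega
  intro j
  exact key (n - ((j : ℕ) + 1)) j (by have := j.2; omega)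

end Groth.Agent.Lib.Helper27LinSer
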