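import Mathlib
import Groth.Agent.Lib.Helper27LinSer3

/-! Linear series: weights, the two-point inequality, propagation of weights along a chain. -/

namespace Groth.Agent.Lib.Helper27LinSer

open FunFld WithZero Groth.Agent.Lib.LeadFF

universe u v w

section
variable {k : Type u} {K : Type v} [Field k] [Field K] [Algebra k K]

/-- `∑_{n=1}^{d} dim V(-nP)`. -/
noncomputable def wt (V : Submodule k K) (D : Divisor k K) (P : Place k K) (d : ℕ) : ℕ :=
  ∑ j ∈ Finset.range d, fdim V D P ((j : ℤ) + 1)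

lemma wt_reflect (V : Submodule k K) (D : Divisor k K) (P : Place k K) (d : ℕ) :
    ∑ j ∈ Finset.range d, fdim V D P ((d : ℤ) - j) = wt V D P d := by
  unfold wt
  rw [← Finset.sum_range_reflect (fun j => fdim V D P ((j : ℤ) + 1)) d]
  refine Finset.sum_congr rfl fun j hj => ?_
  rw [Finset.mem_range] at hj
  congr 1
  omega

lemma two_point [IsAlgClosed k] (hK : IsFunctionField k K) {V : Submodule k K} {D : Divisor k K}
    (hV : V ≤ L D) {d : ℕ} (hD : D.deg = d) {P Q : Place k K} (hPQ : P ≠ Q) :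
    wt V D P d + wt V D Q d ≤ d * Module.finrank k ↥V := by
  have hP := deg_eq_one_of_algClosed hK P
  have hQ := deg_eq_one_of_algClosed hK Q
  rw [← wt_reflect V D Q d]
  unfold wt
  rw [← Finset.sum_add_distrib]
  have : ∀ j ∈ Finset.range d, fdim V D P ((j : ℤ) + 1) + fdim V D Q ((d : ℤ) - j) ≤
      Module.finrank k ↥V := by
    intro j hj
    rw [Finset.mem_range] at hj
    have h := fdim_add_le hK hV hP hQ hPQ (j + 1) (d - j) (by rw [hD]; omega)
    have e1 : ((j + 1 : ℕ) : ℤ) = (j : ℤ) + 1 := by push_cast; rfl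
    have e2 : ((d - j : ℕ) : ℤ) = (d : ℤ) - j := by omega
    rwa [e1, e2] at h
  refine (Finset.sum_le_sum this).trans_eq ?_
  rw [Finset.sum_const, Finset.card_range, smul_eq_mul]

end

lemma compat_sum {k : Type u} {K₁ : Type v} {K₂ : Type w} [Field k] [Field K₁] [Algebra k K₁]
    [Field K₂] [Algebra k K₂] (V₁ : Submodule k K₁) (D₁ : Divisor k K₁) (B : Place k K₁)
    (V₂ : Submodule k K₂) (D₂ : Divisor k K₂) (A : Place k K₂) (d r : ℕ)
    (h : ∀ m : ℕ, m ≤ d + 1 → fdim V₁ D₁ B (m : ℤ) + fdim V₂ D₂ A ((d : ℤ) + 1 - m) = r + 1) :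
    wt V₁ D₁ B d + wt V₂ D₂ A d = d * (r + 1) := by
  rw [← wt_reflect V₂ D₂ A d]
  unfold wt
  rw [← Finset.sum_add_distrib]
  have : ∀ j ∈ Finset.range d, fdim V₁ D₁ B ((j : ℤ) + 1) + fdim V₂ D₂ A ((d : ℤ) - j) = r + 1 := by
    intro j hj
    rw [Finset.mem_range] at hj
    have hm := h (j + 1) (by omega)
    have e1 : ((j + 1 : ℕ) : ℤ) = (j : ℤ) + 1 := by push_cast; rfl
    have e2 : (d : ℤ) + 1 - ((j : ℤ) + 1) = (d : ℤ) - j := by ring
    rwa [e1, e2] at hm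
  rw [Finset.sum_congr rfl this, Finset.sum_const, Finset.card_range, smul_eq_mul]

theorem chain_weight {k : Type u} [Field k] [IsAlgClosed k]
    (n : ℕ) (U : Fin (n + 1) → Type w) [∀ l, Field (U l)] [∀ l, Algebra k (U l)]
    (hU : ∀ l, IsFunctionField k (U l))
    (d r : ℕ) (D : ∀ l, Divisor k (U l)) (hD : ∀ l, (D l).deg = d)
    (V : ∀ l, Submodule k (U l)) (hV : ∀ l, V l ≤ L (D l))
    (hVr : ∀ l, Module.finrank k ↥(V l) = r + 1)
    (A B : ∀ l, Place k (U l))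
    (hAB : ∀ l : Fin (n + 1), 0 < (l : ℕ) → (l : ℕ) < n → A l ≠ B l)
    (hcomp : ∀ (l : Fin n) (m : ℕ), m ≤ d + 1 →
      Module.finrank k ↥((V l.castSucc) ⊓ L ((D l.castSucc) - Finsupp.single (B l.castSucc) ((m : ℤ)))) +
        Module.finrank k ↥((V l.succ) ⊓ L ((D l.succ) - Finsupp.single (A l.succ) ((d : ℤ) + 1 - m))) = r + 1)
    (c' : ℕ) (hc : wt (V 0) (D 0) (B 0) d + c' ≤ d * (r + 1)) :
    ∀ l : Fin (n + 1), 0 < (l : ℕ) → c' ≤ wt (V l) (D l) (A l) d := by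
  have key : ∀ i : ℕ, ∀ hi : i < n,
      c' ≤ wt (V (Fin.succ ⟨i, hi⟩)) (D (Fin.succ ⟨i, hi⟩)) (A (Fin.succ ⟨i, hi⟩)) d := by
    intro i
    induction i with
    | zero =>
      intro hi
      have hcs := compat_sum (V (Fin.castSucc ⟨0, hi⟩)) (D (Fin.castSucc ⟨0, hi⟩))
        (B (Fin.castSucc ⟨0, hi⟩)) (V (Fin.succ ⟨0, hi⟩)) (D (Fin.succ ⟨0, hi⟩))
        (A (Fin.succ ⟨0, hi⟩)) d r (hcomp ⟨0, hi⟩)
      have e : (0 : Fin (n + 1)) = Fin.castSucc ⟨0, hi⟩ := Fin.ext (by simp)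
      rw [e] at hc
      omega
    | succ i ih =>
      intro hi
      have hprev := ih (by omega)
      have e : Fin.succ (⟨i, by omega⟩ : Fin n) = Fin.castSucc (⟨i + 1, hi⟩ : Fin n) :=
        Fin.ext rfl
      rw [e] at hprev
      have hcs := compat_sum (V (Fin.castSucc ⟨i + 1, hi⟩)) (D (Fin.castSucc ⟨i + 1, hi⟩))
        (B (Fin.castSucc ⟨i + 1, hi⟩)) (V (Fin.succ ⟨i + 1, hi⟩)) (D (Fin.succ ⟨i + 1, hi⟩))
        (A (Fin.succ ⟨i + 1, hi⟩)) d r (hcomp ⟨i + 1, hi⟩)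
      have htp := two_point (hU (Fin.castSucc ⟨i + 1, hi⟩)) (hV (Fin.castSucc ⟨i + 1, hi⟩))
        (hD (Fin.castSucc ⟨i + 1, hi⟩))
        (hAB (Fin.castSucc ⟨i + 1, hi⟩) (by simp) (by simpa using hi))
      rw [hVr] at htp
      omega
  intro l hl
  obtain ⟨i, rfl⟩ : ∃ i : Fin n, l = i.succ := by
    have hl0 : l ≠ 0 := by
      intro h
      rw [h] at hl
      simp at hl
    obtain ⟨y, hy⟩ := Fin.exists_succ_eq.mpr hl0
    exact ⟨y, hy.symm⟩
  exact key i.1 i.2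

end Groth.Agent.Lib.Helper27LinSer
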