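import Mathlib
import Groth.Agent.Lib.Helper27LinSer4

/-! Genus zero function fields: a coordinate with a simple pole at a given place,
valuations of polynomials in the coordinate. -/

namespace Groth.Agent.Lib.Helper27P1

open FunFld WithZero Polynomial Groth.Agent.Lib.LeadFF

variable {k K : Type*} [Field k] [Field K] [Algebra k K]

/-- In genus zero, `ℓ(E) = deg E + 1` for `deg E ≥ -1`. -/
lemma ell_genus_zero (hK : IsFunctionField k K) (hg : genus k K = 0) (E : Divisor k K)
    (hE : -1 ≤ E.deg) : (ell E : ℤ) = E.deg + 1 := by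
  have := ell_of_deg_ge hK E (by rw [hg]; simpa using hE)
  rw [hg] at this
  simpa using this

lemma exists_coord (hK : IsFunctionField k K) (hg : genus k K = 0) (P : Place k K)
    (hP : P.deg = 1) :
    ∃ x : K, x ∈ L (Finsupp.single P 1 : Divisor k K) ∧ x ∉ Set.range (algebraMap k K) := by
  have h1 := ell_genus_zero hK hg (Finsupp.single P 1) (by rw [deg_single, hP]; norm_num)
  rw [deg_single, hP] at h1
  have h2 : ell (Finsupp.single P 1 : Divisor k K) = 2 := by
    have : (ell (Finsupp.single P 1 : Divisor k K) : ℤ) = 2 := by rw [h1]; norm_num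
    exact_mod_cast this
  by_contra hcon
  push Not at hcon
  have hle : L (Finsupp.single P 1 : Divisor k K) ≤ (1 : Submodule k K) := by
    intro x hx
    rw [Submodule.mem_one]
    exact hcon x hx
  have : FiniteDimensional k (1 : Submodule k K) := by
    rw [Submodule.one_eq_span]; infer_instance
  have h3 := Submodule.finrank_mono hle
  have h4 : Module.finrank k (1 : Submodule k K) = 1 := by
    rw [Submodule.one_eq_span]; exact finrank_span_singleton one_ne_zero
  unfold ell at h2
  omega

section Coord

variable (hK : IsFunctionField k K) {P : Place k K} {x : K}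
  (hx : x ∈ L (Finsupp.single P 1 : Divisor k K)) (hxk : x ∉ Set.range (algebraMap k K))

include hx in
lemma val_le_one_of_ne {Q : Place k K} (hQ : Q ≠ P) : Q.1 x ≤ 1 :=
  (mem_L_single.mp hx).2 Q hQ

include hK hx hxk in
lemma val_coord_eq : P.1 x = exp (1 : ℤ) := by
  apply le_antisymm (mem_L_single.mp hx).1
  rw [← zm0_one_lt_iff]
  by_contra hle
  rw [not_lt] at hle
  apply hxk
  have : x ∈ L (0 : Divisor k K) := by
    intro Q
    rw [Finsupp.zero_apply, exp_zero]
    by_cases hQ : Q = P
    · subst hQ; exact hle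
    · exact val_le_one_of_ne hx hQ
  rw [L_zero hK, Submodule.mem_one] at this
  exact this

include hx in
lemma val_aeval_le_one_of_ne {Q : Place k K} (hQ : Q ≠ P) (p : k[X]) : Q.1 (aeval x p) ≤ 1 :=
  val_aeval_le_one (place_trivOn Q) (val_le_one_of_ne hx hQ) p

include hK hx hxk in
/-- `x - a` is a uniformizer at any zero. -/
lemma val_sub_eq (hP : P.deg = 1) {Q : Place k K} (hQd : Q.deg = 1) (hQ : Q ≠ P) {a : k}
    (ha : Q.1 (x - algebraMap k K a) < 1) : Q.1 (x - algebraMap k K a) = exp (-1 : ℤ) := by
  apply le_antisymm (zm0_lt_one_iff.mp ha)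
  by_contra hlt
  rw [not_le, zm0_lt_exp_iff] at hlt
  have hy0 : x - algebraMap k K a ≠ 0 := by
    intro h
    exact hxk ⟨a, (sub_eq_zero.mp h).symm⟩
  have hmem : x - algebraMap k K a ∈
      L (Finsupp.single P 1 - Finsupp.single Q 2 : Divisor k K) := by
    intro R
    rw [Finsupp.sub_apply]
    by_cases hRP : R = P
    · subst hRP
      rw [single_apply_self, single_apply_ne (Ne.symm hQ), sub_zero]
      exact (Valuation.map_sub _ _ _).trans (max_le (mem_L_single.mp hx).1
        ((R.2.1 a).trans (by rw [← exp_zero, exp_le_exp]; norm_num)))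
    · rw [single_apply_ne hRP, zero_sub]
      by_cases hRQ : R = Q
      · subst hRQ
        rw [single_apply_self]
        exact hlt.trans_eq (by norm_num)
      · rw [single_apply_ne hRQ, neg_zero, exp_zero]
        exact (Valuation.map_sub _ _ _).trans (max_le (val_le_one_of_ne hx hRP) (R.2.1 a))
  have hbot := L_eq_bot_of_deg_neg hK (Finsupp.single P 1 - Finsupp.single Q 2 : Divisor k K)
    (by rw [deg_sub, deg_single, deg_single, hP, hQd]; norm_num)
  rw [hbot, Submodule.mem_bot] at hmem
  exact hy0 hmem

/-- Exact valuation of a polynomial in `x` at a finite place. -/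
lemma val_aeval_finite {Q : Place k K} {a : k}
    (ha : Q.1 (x - algebraMap k K a) = exp (-1 : ℤ)) {p : k[X]} (hp : p ≠ 0) :
    Q.1 (aeval x p) = exp (-(p.rootMultiplicity a : ℤ)) := by
  obtain ⟨q, hq, hnd⟩ := p.exists_eq_pow_rootMultiplicity_mul_and_not_dvd hp a
  have hqa : q.eval a ≠ 0 := by
    intro h
    exact hnd (dvd_iff_isRoot.mpr h)
  have h1 : Q.1 (aeval x q) = 1 := by
    apply eq_one_of_residue_ne_zero Q (c := q.eval a) _ hqa
    obtain ⟨r, hr⟩ := X_sub_C_dvd_sub_C_eval (a := a) (p := q)
    have : aeval x q - algebraMap k K (q.eval a) = (x - algebraMap k K a) * aeval x r := by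
      have := congrArg (aeval x) hr
      simpa using this
    rw [this, map_mul, ha]
    have hQx : Q.1 x ≤ 1 := by
      have : x = (x - algebraMap k K a) + algebraMap k K a := by ring
      rw [this]
      refine (Q.1.map_add _ _).trans (max_le ?_ (Q.2.1 a))
      rw [ha, ← exp_zero, exp_le_exp]; norm_num
    calc exp (-1 : ℤ) * Q.1 (aeval x r) ≤ exp (-1 : ℤ) * 1 :=
          mul_le_mul' le_rfl (val_aeval_le_one (place_trivOn Q) hQx r)
      _ < 1 := by rw [mul_one, ← exp_zero, exp_lt_exp]; norm_num
  have h2 : aeval x p = (x - algebraMap k K a) ^ p.rootMultiplicity a * aeval x q := by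
    conv_lhs => rw [hq]
    simp
  rw [h2, map_mul, map_pow, ha, h1, mul_one, zm0_exp_pow]
  congr 1
  ring

end Coord

end Groth.Agent.Lib.Helper27P1
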