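import Mathlib
import Groth.Agent.Lib.Helper27P1a

/-! Genus zero function fields: polynomials in a coordinate and the spaces `L(dP∞ - nQ)`. -/

namespace Groth.Agent.Lib.Helper27P1

open FunFld WithZero Polynomial Groth.Agent.Lib.LeadFF

variable {k K : Type*} [Field k] [Field K] [Algebra k K]

/-- Exact valuation of a polynomial in `x` at the pole of `x`. -/
lemma val_aeval_infty {P : Place k K} {x : K} (hx : P.1 x = exp (1 : ℤ)) {p : k[X]}
    (hp : p ≠ 0) : P.1 (aeval x p) = exp (p.natDegree : ℤ) := by
  have hx0 : x ≠ 0 := by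
    intro h; rw [h, map_zero] at hx; exact exp_ne_zero hx.symm
  have hz : P.1 (x⁻¹ - algebraMap k K 0) = exp (-1 : ℤ) := by
    rw [map_zero, sub_zero, map_inv₀, hx, ← exp_neg]
  have hrev : p.reverse ≠ 0 := by rwa [Ne, reverse_eq_zero]
  have h1 := val_aeval_finite (x := x⁻¹) hz hrev
  have h2 : p.reverse.rootMultiplicity 0 = 0 := by
    apply rootMultiplicity_eq_zero
    rw [IsRoot.def, ← coeff_zero_eq_eval_zero, coeff_zero_reverse]
    exact leadingCoeff_ne_zero.mpr hp
  rw [h2] at h1
  let _ := invertibleOfNonzero hx0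
  have h3 := eval₂_reverse_mul_pow (algebraMap k K) x p
  rw [invOf_eq_inv] at h3
  rw [aeval_def, ← h3, map_mul, map_pow, hx, zm0_exp_pow]
  rw [aeval_def] at h1
  rw [h1]
  simp

section Coord

variable (hK : IsFunctionField k K) (hg : genus k K = 0) {P : Place k K} (hP : P.deg = 1) {x : K}
  (hx : x ∈ L (Finsupp.single P 1 : Divisor k K)) (hxk : x ∉ Set.range (algebraMap k K))

include hK hx hxk in
lemma aeval_mem_L_infty (d : ℕ) {p : k[X]} (hp : p ∈ degreeLT k (d + 1)) :
    aeval x p ∈ L (Finsupp.single P (d : ℤ) : Divisor k K) := by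
  rw [mem_L_single]
  refine ⟨?_, fun Q hQ => val_aeval_le_one_of_ne hx hQ p⟩
  by_cases hp0 : p = 0
  · rw [hp0, map_zero, map_zero]; exact zero_le
  · rw [val_aeval_infty (val_coord_eq hK hx hxk) hp0, exp_le_exp]
    rw [mem_degreeLT, degree_eq_natDegree hp0] at hp
    have : p.natDegree < d + 1 := by exact_mod_cast hp
    omega

include hK hxk in
lemma aeval_injective : Function.Injective (aeval (R := k) x) :=
  transcendental_iff_injective.mp (transcendental_of_not_mem hK hxk)

include hK hg hP hx hxk in
/-- `L(dP∞)` consists of the polynomials in `x` of degree at most `d`. -/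
lemma exists_poly_of_mem_L (d : ℕ) {f : K} (hf : f ∈ L (Finsupp.single P (d : ℤ) : Divisor k K)) :
    ∃ p ∈ degreeLT k (d + 1), aeval x p = f := by
  let ψ : degreeLT k (d + 1) →ₗ[k] L (Finsupp.single P (d : ℤ) : Divisor k K) :=
    LinearMap.codRestrict _ ((aeval x).toLinearMap.comp (degreeLT k (d + 1)).subtype)
      (fun p => aeval_mem_L_infty hK hx hxk d p.2)
  have hψinj : Function.Injective ψ := by
    intro p q hpq
    have := congrArg (fun z : L (Finsupp.single P (d : ℤ) : Divisor k K) => (z : K)) hpq
    exact Subtype.ext (aeval_injective hK hxk this)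
  have hdim1 : Module.finrank k (degreeLT k (d + 1)) = d + 1 := by
    rw [(degreeLTEquiv k (d + 1)).finrank_eq, Module.finrank_fin_fun]
  have hdim2 : Module.finrank k (L (Finsupp.single P (d : ℤ) : Divisor k K)) = d + 1 := by
    have h := ell_genus_zero hK hg (Finsupp.single P (d : ℤ)) (by
      rw [deg_single, hP]; push_cast; omega)
    rw [deg_single, hP] at h
    unfold ell at h
    have : (Module.finrank k (L (Finsupp.single P (d : ℤ) : Divisor k K)) : ℤ) = (d : ℤ) + 1 := by
      rw [h]; push_cast; ring
    exact_mod_cast this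
  have := L_finite hK (Finsupp.single P (d : ℤ) : Divisor k K)
  have : FiniteDimensional k (degreeLT k (d + 1)) :=
    Module.finite_of_finrank_pos (by rw [hdim1]; omega)
  have hsurj := (LinearMap.injective_iff_surjective_of_finrank_eq_finrank
    (hdim1.trans hdim2.symm)).mp hψinj
  obtain ⟨p, hp⟩ := hsurj ⟨f, hf⟩
  exact ⟨p.1, p.2, congrArg (fun z : L (Finsupp.single P (d : ℤ) : Divisor k K) => (z : K)) hp⟩

include hK hx hxk in
/-- Membership in `L(dP∞ - nQ)` for polynomials in `x`, `Q` a finite place. -/
lemma aeval_mem_L_finite_iff (d n : ℕ) {Q : Place k K} (hQ : Q ≠ P) {a : k}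
    (ha : Q.1 (x - algebraMap k K a) = exp (-1 : ℤ)) {p : k[X]} (hp : p ∈ degreeLT k (d + 1)) :
    aeval x p ∈ L (Finsupp.single P (d : ℤ) - Finsupp.single Q (n : ℤ) : Divisor k K) ↔
      (X - C a) ^ n ∣ p := by
  by_cases hp0 : p = 0
  · rw [hp0, map_zero]
    exact iff_of_true (zero_mem _) (dvd_zero _)
  have hinf := aeval_mem_L_infty hK hx hxk d hp
  rw [← le_rootMultiplicity_iff hp0]
  constructor
  · intro h
    have hQv := h Q
    rw [Finsupp.sub_apply, single_apply_ne hQ, single_apply_self, zero_sub,
      val_aeval_finite ha hp0, exp_le_exp] at hQv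
    omega
  · intro h R
    rw [Finsupp.sub_apply]
    by_cases hRQ : R = Q
    · subst hRQ
      rw [single_apply_ne hQ, single_apply_self, zero_sub, val_aeval_finite ha hp0, exp_le_exp]
      omega
    · rw [single_apply_ne hRQ, sub_zero]
      exact hinf R

include hK hx hxk in
/-- Membership in `L(dP∞ - nP∞)` for polynomials in `x`. -/
lemma aeval_mem_L_infty_iff (d n : ℕ) {p : k[X]} :
    aeval x p ∈ L (Finsupp.single P (d : ℤ) - Finsupp.single P (n : ℤ) : Divisor k K) ↔
      p ∈ degreeLT k (d + 1 - n) := by
  by_cases hp0 : p = 0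
  · rw [hp0, map_zero]
    exact iff_of_true (zero_mem _) (zero_mem _)
  rw [mem_degreeLT, degree_eq_natDegree hp0]
  constructor
  · intro h
    have hPv := h P
    rw [Finsupp.sub_apply, single_apply_self, single_apply_self,
      val_aeval_infty (val_coord_eq hK hx hxk) hp0, exp_le_exp] at hPv
    have : p.natDegree < d + 1 - n := by omega
    exact_mod_cast this
  · intro h R
    have h' : p.natDegree < d + 1 - n := by exact_mod_cast h
    rw [Finsupp.sub_apply]
    by_cases hRP : R = P
    · subst hRP
      rw [single_apply_self, single_apply_self, val_aeval_infty (val_coord_eq hK hx hxk) hp0,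
        exp_le_exp]
      omega
    · rw [single_apply_ne hRP, single_apply_ne hRP, sub_zero, exp_zero]
      exact val_aeval_le_one_of_ne hx hRP p

include hK hx hxk in
/-- Distinct finite places have distinct coordinates. -/
lemma coord_injective (hP : P.deg = 1) {Q Q' : Place k K} (hQd : Q.deg = 1) (hQ'd : Q'.deg = 1)
    (hQ : Q ≠ P) (hQ' : Q' ≠ P) {a : k}
    (ha : Q.1 (x - algebraMap k K a) < 1) (ha' : Q'.1 (x - algebraMap k K a) < 1) : Q = Q' := by
  by_contra hne
  have hy0 : x - algebraMap k K a ≠ 0 := by
    intro h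
    exact hxk ⟨a, (sub_eq_zero.mp h).symm⟩
  have hmem : x - algebraMap k K a ∈
      L (Finsupp.single P 1 - Finsupp.single Q 1 - Finsupp.single Q' 1 : Divisor k K) := by
    intro R
    rw [Finsupp.sub_apply, Finsupp.sub_apply]
    by_cases hRP : R = P
    · subst hRP
      rw [single_apply_self, single_apply_ne (Ne.symm hQ), single_apply_ne (Ne.symm hQ'),
        sub_zero, sub_zero]
      exact (Valuation.map_sub _ _ _).trans (max_le (mem_L_single.mp hx).1
        ((R.2.1 a).trans (by rw [← exp_zero, exp_le_exp]; norm_num)))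
    · rw [single_apply_ne hRP, zero_sub]
      by_cases hRQ : R = Q
      · subst hRQ
        rw [single_apply_self, single_apply_ne hne]
        exact (zm0_lt_one_iff.mp ha).trans_eq (by norm_num)
      · rw [single_apply_ne hRQ]
        by_cases hRQ' : R = Q'
        · subst hRQ'
          rw [single_apply_self]
          exact (zm0_lt_one_iff.mp ha').trans_eq (by norm_num)
        · rw [single_apply_ne hRQ']
          simp only [neg_zero, sub_zero, exp_zero]
          exact (Valuation.map_sub _ _ _).trans (max_le (val_le_one_of_ne hx hRP) (R.2.1 a))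
  have hbot := L_eq_bot_of_deg_neg hK
    (Finsupp.single P 1 - Finsupp.single Q 1 - Finsupp.single Q' 1 : Divisor k K)
    (by rw [deg_sub, deg_sub, deg_single, deg_single, deg_single, hP, hQd, hQ'd]; norm_num)
  rw [hbot, Submodule.mem_bot] at hmem
  exact hy0 hmem

end Coord

end Groth.Agent.Lib.Helper27P1
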