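import Mathlib

/-! Wronskians of polynomials: change of basis, divisibility, degree bound. -/

namespace Groth.Agent.Lib.Helper27Wronsk

open Polynomial

variable {k : Type*} [Field k]

/-- The Wronskian matrix of a family of polynomials. -/
noncomputable def wmat {m : ℕ} (f : Fin m → k[X]) : Matrix (Fin m) (Fin m) k[X] :=
  Matrix.of fun i j => derivative^[(j : ℕ)] (f i)

/-- The Wronskian. -/
noncomputable def wronsk {m : ℕ} (f : Fin m → k[X]) : k[X] := (wmat f).det

lemma wmat_apply {m : ℕ} (f : Fin m → k[X]) (i j : Fin m) :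
    wmat f i j = derivative^[(j : ℕ)] (f i) := rfl

lemma wmat_comb {m : ℕ} (C : Matrix (Fin m) (Fin m) k) (f g : Fin m → k[X])
    (hg : ∀ i, g i = ∑ l, C i l • f l) : wmat g = (C.map Polynomial.C) * wmat f := by
  apply Matrix.ext
  intro i j
  rw [wmat_apply, Matrix.mul_apply, hg i, iterate_derivative_sum]
  apply Finset.sum_congr rfl
  intro l _
  rw [iterate_derivative_smul, Matrix.map_apply, wmat_apply, smul_eq_C_mul]

lemma wronsk_comb {m : ℕ} (C : Matrix (Fin m) (Fin m) k) (f g : Fin m → k[X])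
    (hg : ∀ i, g i = ∑ l, C i l • f l) : wronsk g = Polynomial.C C.det * wronsk f := by
  unfold wronsk
  rw [wmat_comb C f g hg, Matrix.det_mul]
  congr 1
  exact (RingHom.map_det Polynomial.C C).symm

lemma sum_fin_id (m : ℕ) : ∑ i : Fin m, (i : ℕ) = m * (m - 1) / 2 := by
  rw [Fin.sum_univ_eq_sum_range (fun i => i) m, Finset.sum_range_id]

lemma dvd_units_smul (u : ℤˣ) {a x : k[X]} (h : a ∣ x) : a ∣ u • x := by
  rcases Int.units_eq_one_or u with rfl | rfl
  · rwa [one_smul]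
  · rw [Units.neg_smul, one_smul]; exact (dvd_neg).mpr h

/-- Divisibility of the Wronskian by a power of `X - a`. -/
lemma pow_dvd_wronsk {m : ℕ} (f : Fin m → k[X]) (a : k) (μ : Fin m → ℕ)
    (h : ∀ i, (X - C a) ^ μ i ∣ f i) :
    (X - C a) ^ ((∑ i, μ i) - m * (m - 1) / 2) ∣ wronsk f := by
  unfold wronsk
  rw [Matrix.det_apply]
  refine Finset.dvd_sum fun σ _ => ?_
  apply dvd_units_smul
  have h1 : ∀ i : Fin m, (X - C a) ^ (μ (σ i) - (i : ℕ)) ∣ wmat f (σ i) i := fun i =>
    pow_sub_dvd_iterate_derivative_of_pow_dvd _ (h (σ i))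
  have h2 : (∏ i : Fin m, (X - C a) ^ (μ (σ i) - (i : ℕ))) ∣ ∏ i : Fin m, wmat f (σ i) i :=
    Finset.prod_dvd_prod_of_dvd _ _ fun i _ => h1 i
  refine dvd_trans ?_ h2
  rw [Finset.prod_pow_eq_pow_sum]
  apply pow_dvd_pow
  have h3 : ∑ i : Fin m, μ (σ i) = ∑ i, μ i := Equiv.sum_comp σ μ
  have h4 : ∑ i : Fin m, μ (σ i) ≤ ∑ i : Fin m, ((μ (σ i) - (i : ℕ)) + (i : ℕ)) :=
    Finset.sum_le_sum fun i _ => by omega
  rw [Finset.sum_add_distrib, sum_fin_id] at h4
  omega

/-- Degree bound for a nonzero Wronskian. -/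
lemma natDegree_wronsk_le {m : ℕ} (f : Fin m → k[X]) (e : Fin m → ℕ)
    (h : ∀ i, (f i).natDegree ≤ e i) (hW : wronsk f ≠ 0) :
    (wronsk f).natDegree + m * (m - 1) / 2 ≤ ∑ i, e i := by
  unfold wronsk at hW ⊢
  rw [Matrix.det_apply] at hW ⊢
  -- every nonzero term has all factors nonzero
  have hterm : ∀ σ : Equiv.Perm (Fin m), (∏ i : Fin m, wmat f (σ i) i) ≠ 0 →
      (∀ i : Fin m, (i : ℕ) ≤ e (σ i)) := by
    intro σ hσ i
    by_contra hlt
    push Not at hlt
    apply hσ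
    apply Finset.prod_eq_zero (Finset.mem_univ i)
    rw [wmat_apply]
    exact iterate_derivative_eq_zero (lt_of_le_of_lt (h (σ i)) hlt)
  have hsum : ∀ σ : Equiv.Perm (Fin m), (∀ i : Fin m, (i : ℕ) ≤ e (σ i)) →
      (∑ i : Fin m, (e (σ i) - (i : ℕ))) + m * (m - 1) / 2 = ∑ i, e i := by
    intro σ hσ
    rw [← sum_fin_id, ← Finset.sum_add_distrib, ← Equiv.sum_comp σ e]
    exact Finset.sum_congr rfl fun i _ => Nat.sub_add_cancel (hσ i)
  -- there is a nonzero term
  obtain ⟨σ₀, hσ₀⟩ : ∃ σ : Equiv.Perm (Fin m), (∏ i : Fin m, wmat f (σ i) i) ≠ 0 := by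
    by_contra hall
    push Not at hall
    apply hW
    apply Finset.sum_eq_zero
    intro σ _
    rw [hall σ, smul_zero]
  have hM : m * (m - 1) / 2 ≤ ∑ i, e i := by
    have := hsum σ₀ (hterm σ₀ hσ₀)
    omega
  have hdeg : (∑ σ : Equiv.Perm (Fin m), Equiv.Perm.sign σ • ∏ i : Fin m, wmat f (σ i) i).natDegree ≤
      (∑ i, e i) - m * (m - 1) / 2 := by
    apply natDegree_sum_le_of_forall_le
    intro σ _
    by_cases hσ : (∏ i : Fin m, wmat f (σ i) i) = 0
    · rw [hσ, smul_zero, natDegree_zero]; exact Nat.zero_le _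
    · have h1 := hterm σ hσ
      have h2 := hsum σ h1
      have h3 : (Equiv.Perm.sign σ • ∏ i : Fin m, wmat f (σ i) i).natDegree ≤
          (∏ i : Fin m, wmat f (σ i) i).natDegree := by
        rcases Int.units_eq_one_or (Equiv.Perm.sign σ) with hs | hs
        · rw [hs, one_smul]
        · rw [hs, Units.neg_smul, one_smul, natDegree_neg]
      refine h3.trans ?_
      refine (natDegree_prod_le _ _).trans ?_
      have h4 : ∑ i : Fin m, (wmat f (σ i) i).natDegree ≤ ∑ i : Fin m, (e (σ i) - (i : ℕ)) := by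
        refine Finset.sum_le_sum fun i _ => ?_
        rw [wmat_apply]
        refine (natDegree_iterate_derivative _ _).trans ?_
        exact Nat.sub_le_sub_right (h (σ i)) _
      omega
  omega

end Groth.Agent.Lib.Helper27Wronsk
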