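import Mathlib
import Groth.Agent.Lib.Helper27Wronsk1

/-! Wronskians of polynomials in characteristic zero: nonvanishing for independent families. -/

namespace Groth.Agent.Lib.Helper27Wronsk

open Polynomial

variable {k : Type*} [Field k]

/-- The linear map `g ↦ f₀ g' - f₀' g`. -/
noncomputable def wr2 (f₀ : k[X]) : k[X] →ₗ[k] k[X] :=
  (LinearMap.mulLeft k f₀).comp derivative - LinearMap.mulLeft k (derivative f₀)

lemma wr2_apply (f₀ g : k[X]) : wr2 f₀ g = f₀ * derivative g - derivative f₀ * g := by
  simp [wr2]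

lemma wr2_self (f₀ : k[X]) : wr2 f₀ f₀ = 0 := by
  rw [wr2_apply]; ring

/-- If `a` is not a root of `f₀` and `g ≠ 0` vanishes at `a`, then `f₀ g' - f₀' g ≠ 0`
and it vanishes at `a` to order one less. -/
lemma wr2_ne_zero [CharZero k] {f₀ g : k[X]} {a : k} (hf₀ : ¬ f₀.IsRoot a) (hg0 : g ≠ 0)
    (hga : g.IsRoot a) : wr2 f₀ g ≠ 0 := by
  intro h
  rw [wr2_apply, sub_eq_zero] at h
  have hf₀0 : f₀ ≠ 0 := by rintro rfl; exact hf₀ (by simp)
  have hμ : 0 < g.rootMultiplicity a := (rootMultiplicity_pos hg0).mpr hga
  by_cases hd : derivative f₀ = 0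
  · rw [hd, zero_mul] at h
    have hg' : derivative g = 0 := (mul_eq_zero.mp h).resolve_left hf₀0
    have hC := eq_C_of_derivative_eq_zero hg'
    rw [hC] at hga hg0
    exact not_isRoot_C _ _ (C_ne_zero.mp hg0) hga
  · have hg'0 : derivative g ≠ 0 := by
      intro hg'
      rw [hg', mul_zero] at h
      exact (mul_ne_zero hd hg0) h.symm
    have h1 := congrArg (rootMultiplicity a) h
    rw [rootMultiplicity_mul (mul_ne_zero hf₀0 hg'0), rootMultiplicity_mul (mul_ne_zero hd hg0),
      rootMultiplicity_eq_zero hf₀, derivative_rootMultiplicity_of_root hga] at h1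
    omega

lemma pow_dvd_wr2 {f₀ g : k[X]} {a : k} {m : ℕ} (hg : (X - C a) ^ (m + 1) ∣ g) :
    (X - C a) ^ m ∣ wr2 f₀ g := by
  rw [wr2_apply]
  apply dvd_sub
  · apply Dvd.dvd.mul_left
    have := pow_sub_dvd_iterate_derivative_of_pow_dvd 1 hg
    simpa using this
  · exact Dvd.dvd.mul_left ((pow_dvd_pow _ (Nat.le_succ m)).trans hg) _

theorem bad_finite [CharZero k] : ∀ (m : ℕ) (V : Submodule k k[X]) [FiniteDimensional k V],
    Module.finrank k V ≤ m → {a : k | ∃ g ∈ V, g ≠ 0 ∧ (X - C a) ^ m ∣ g}.Finite := by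
  intro m
  induction m with
  | zero =>
    intro V _ hV
    have hbot : V = ⊥ := by
      rw [← Submodule.finrank_eq_zero]; omega
    have : {a : k | ∃ g ∈ V, g ≠ 0 ∧ (X - C a) ^ 0 ∣ g} = ∅ := by
      ext a
      simp only [Set.mem_ofPred_eq, Set.mem_empty_iff_false, iff_false]
      rintro ⟨g, hg, hg0, -⟩
      rw [hbot, Submodule.mem_bot] at hg
      exact hg0 hg
    rw [this]
    exact Set.finite_empty
  | succ m ih =>
    intro V _ hV
    by_cases hbot : V = ⊥
    · have : {a : k | ∃ g ∈ V, g ≠ 0 ∧ (X - C a) ^ (m + 1) ∣ g} = ∅ := by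
        ext a
        simp only [Set.mem_ofPred_eq, Set.mem_empty_iff_false, iff_false]
        rintro ⟨g, hg, hg0, -⟩
        rw [hbot, Submodule.mem_bot] at hg
        exact hg0 hg
      rw [this]
      exact Set.finite_empty
    · obtain ⟨f₀, hf₀V, hf₀0⟩ := Submodule.exists_mem_ne_zero_of_ne_bot hbot
      -- the image of `V` under `wr2 f₀` has smaller dimension
      have hdim : Module.finrank k ↥(V.map (wr2 f₀)) ≤ m := by
        have h1 := LinearMap.finrank_range_add_finrank_ker ((wr2 f₀).domRestrict V)
        have h2 : LinearMap.range ((wr2 f₀).domRestrict V) = V.map (wr2 f₀) := by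
          ext y
          simp only [LinearMap.mem_range, Submodule.mem_map, LinearMap.domRestrict_apply,
            Subtype.exists, exists_prop]
        have h3 : 0 < Module.finrank k ↥(LinearMap.ker ((wr2 f₀).domRestrict V)) := by
          refine (Module.finrank_pos_iff_exists_ne_zero (R := k)
            (M := ↥(LinearMap.ker ((wr2 f₀).domRestrict V)))).mpr ⟨⟨⟨f₀, hf₀V⟩, ?_⟩, ?_⟩
          · rw [LinearMap.mem_ker, LinearMap.domRestrict_apply]
            exact wr2_self f₀
          · intro h
            apply hf₀0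
            have h' := congrArg (fun z : ↥(LinearMap.ker ((wr2 f₀).domRestrict V)) =>
              (((z : ↥V)) : k[X])) h
            simpa using h'
        rw [h2] at h1
        omega
      have hfin := ih (V.map (wr2 f₀)) hdim
      have hroots : {a : k | f₀.IsRoot a}.Finite := by
        classical
        have := (f₀.roots.toFinset).finite_toSet
        refine this.subset ?_
        intro a ha
        simp only [Finset.mem_coe, Multiset.mem_toFinset]
        exact (mem_roots hf₀0).mpr ha
      refine (hroots.union hfin).subset ?_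
      rintro a ⟨g, hgV, hg0, hdvd⟩
      by_cases hfa : f₀.IsRoot a
      · left; exact hfa
      · right
        have hga : g.IsRoot a := by
          rw [← dvd_iff_isRoot]
          exact (dvd_pow_self _ (Nat.succ_ne_zero m)).trans hdvd
        exact ⟨wr2 f₀ g, Submodule.mem_map_of_mem hgV, wr2_ne_zero hfa hg0 hga, pow_dvd_wr2 hdvd⟩

theorem wronsk_ne_zero [CharZero k] {m : ℕ} (f : Fin m → k[X]) (hf : LinearIndependent k f) :
    wronsk f ≠ 0 := by
  rcases Nat.eq_zero_or_pos m with rfl | hm
  · unfold wronsk
    rw [Matrix.det_fin_zero]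
    exact one_ne_zero
  intro hW
  set V := Submodule.span k (Set.range f) with hV
  have : FiniteDimensional k V := FiniteDimensional.span_of_finite k (Set.finite_range f)
  have hVdim : Module.finrank k V = m := by
    rw [hV, finrank_span_eq_card hf, Fintype.card_fin]
  have hbad := bad_finite m V (le_of_eq hVdim)
  obtain ⟨a, ha⟩ := (Set.Infinite.sdiff Set.infinite_univ hbad).nonempty
  have ha' : a ∉ {a : k | ∃ g ∈ V, g ≠ 0 ∧ (X - C a) ^ m ∣ g} := ha.2
  apply ha'
  -- the evaluated matrix is singular
  have hdet : ((wmat f).map (evalRingHom a)).det = 0 := by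
    have := RingHom.map_det (evalRingHom a) (wmat f)
    rw [← RingHom.mapMatrix_apply] 
    rw [← this]
    show (evalRingHom a) (wronsk f) = 0
    rw [hW, map_zero]
  obtain ⟨v, hv0, hv⟩ := Matrix.exists_vecMul_eq_zero_iff.mpr hdet
  refine ⟨∑ i, v i • f i, ?_, ?_, ?_⟩
  · exact Submodule.sum_mem _ fun i _ => Submodule.smul_mem _ _ (Submodule.subset_span ⟨i, rfl⟩)
  · intro h0
    apply hv0
    funext i
    exact (Fintype.linearIndependent_iff.mp hf) v h0 i
  · have hg0 : (∑ i, v i • f i) ≠ 0 := by
      intro h0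
      apply hv0
      funext i
      exact (Fintype.linearIndependent_iff.mp hf) v h0 i
    rw [← le_rootMultiplicity_iff hg0]
    have hlt : m - 1 < (∑ i, v i • f i).rootMultiplicity a := by
      apply lt_rootMultiplicity_of_isRoot_iterate_derivative hg0
      intro j hj
      have hjm : j < m := by omega
      have hcol := congrFun hv ⟨j, hjm⟩
      rw [Matrix.vecMul, dotProduct] at hcol
      simp only [Matrix.map_apply, wmat_apply, coe_evalRingHom, Pi.zero_apply] at hcol
      rw [IsRoot.def, iterate_derivative_sum, eval_finsetSum]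
      rw [← hcol]
      refine Finset.sum_congr rfl fun i _ => ?_
      rw [iterate_derivative_smul, eval_smul, smul_eq_mul]
    omega

end Groth.Agent.Lib.Helper27Wronsk
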