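import Mathlib

/-! Bases adapted to a decreasing flag of subspaces. -/

namespace Groth.Agent.Lib.Helper27Wronsk

variable {k : Type*} [Field k]

theorem exists_adapted {E : Type*} [AddCommGroup E] [Module k E] :
    ∀ (N : ℕ) (F : ℕ → Submodule k E), Antitone F → ∀ (V : Submodule k E)
      [FiniteDimensional k V], V ≤ F 0 → V ⊓ F N = ⊥ →
    ∃ (B : Finset E) (μ : E → ℕ), LinearIndepOn k id (B : Set E) ∧
      Submodule.span k (B : Set E) = V ∧ (∀ v ∈ B, v ∈ F (μ v)) ∧
      (∑ n ∈ Finset.range N, Module.finrank k ↥(V ⊓ F (n + 1))) ≤ ∑ v ∈ B, μ v := by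
  intro N
  induction N with
  | zero =>
    intro F hF V _ hV0 hVN
    have hV : V = ⊥ := by rw [← hVN]; exact (inf_eq_left.mpr hV0).symm
    refine ⟨∅, fun _ => 0, ?_, ?_, ?_, ?_⟩
    · rw [Finset.coe_empty]; exact linearIndepOn_empty k id
    · rw [Finset.coe_empty, Submodule.span_empty, hV]
    · intro v hv; simp at hv
    · simp
  | succ N ih =>
    intro F hF V _ hV0 hVN
    classical
    have hfin1 : FiniteDimensional k ↥(V ⊓ F 1) := Submodule.finiteDimensional_of_le inf_le_left
    obtain ⟨B', μ', hB'li, hB'span, hB'mem, hB'sum⟩ := ih (fun n => F (n + 1))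
      (fun a b hab => hF (by omega)) (V ⊓ F 1) inf_le_right (by
        rw [eq_bot_iff, ← hVN]
        exact inf_le_inf_right _ inf_le_left)
    have hB'V : (B' : Set E) ⊆ (V : Set E) := fun v hv => by
      have hv' : v ∈ Submodule.span k (B' : Set E) := Submodule.subset_span hv
      rw [hB'span] at hv'
      exact hv'.1
    have hBsli := hB'li.linearIndepOn_extend hB'V
    have hBsspan : Submodule.span k (hB'li.extend hB'V) = V := by
      rw [hB'li.span_extend_eq_span hB'V]; exact Submodule.span_eq V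
    have hBsV : hB'li.extend hB'V ⊆ (V : Set E) := hB'li.extend_subset hB'V
    have hB'Bs : (B' : Set E) ⊆ hB'li.extend hB'V := hB'li.subset_extend hB'V
    have hBsfin : (hB'li.extend hB'V).Finite := by
      have hg : LinearIndependent k (fun x : hB'li.extend hB'V => (⟨x.1, hBsV x.2⟩ : V)) := by
        apply LinearIndependent.of_comp V.subtype
        exact hBsli
      have := hg.finite
      exact Set.toFinite _
    refine ⟨hBsfin.toFinset, fun v => if v ∈ B' then μ' v + 1 else 0, ?_, ?_, ?_, ?_⟩
    · rw [Set.Finite.coe_toFinset]; exact hBsli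
    · rw [Set.Finite.coe_toFinset]; exact hBsspan
    · intro v hv
      rw [Set.Finite.mem_toFinset] at hv
      show v ∈ F (if v ∈ B' then μ' v + 1 else 0)
      by_cases hvB' : v ∈ B'
      · rw [if_pos hvB']; exact hB'mem v hvB'
      · rw [if_neg hvB']; exact hV0 (hBsV hv)
    · have hsub : B' ⊆ hBsfin.toFinset := fun v hv => by
        rw [Set.Finite.mem_toFinset]; exact hB'Bs (Finset.mem_coe.mpr hv)
      have h1 : ∑ v ∈ hBsfin.toFinset, (if v ∈ B' then μ' v + 1 else 0) =
          ∑ v ∈ B', (μ' v + 1) := by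
        rw [← Finset.sum_filter]
        congr 1
        ext v
        simp only [Finset.mem_filter]
        exact ⟨fun h => h.2, fun h => ⟨hsub h, h⟩⟩
      rw [h1, Finset.sum_add_distrib, Finset.sum_const, smul_eq_mul, mul_one]
      have hcard : B'.card = Module.finrank k ↥(V ⊓ F 1) := by
        rw [← hB'span, finrank_span_finset_eq_card hB'li]
      rw [Finset.sum_range_succ', hcard]
      have h2 : ∀ n ∈ Finset.range N, Module.finrank k ↥(V ⊓ F (n + 1 + 1)) =
          Module.finrank k ↥(V ⊓ F 1 ⊓ F (n + 1 + 1)) := by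
        intro n _
        have : V ⊓ F (n + 1 + 1) = V ⊓ F 1 ⊓ F (n + 1 + 1) := by
          rw [inf_assoc, inf_eq_right.mpr (hF (by omega : 1 ≤ n + 1 + 1))]
        rw [this]
      rw [Finset.sum_congr rfl h2]
      simpa using hB'sum

/-- Fin-indexed version. -/
theorem exists_adapted_fin {E : Type*} [AddCommGroup E] [Module k E]
    (N : ℕ) (F : ℕ → Submodule k E) (hF : Antitone F) (V : Submodule k E)
    [FiniteDimensional k V] (hV0 : V ≤ F 0) (hVN : V ⊓ F N = ⊥) :
    ∃ (b : Fin (Module.finrank k V) → E) (μ : Fin (Module.finrank k V) → ℕ),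
      LinearIndependent k b ∧ Submodule.span k (Set.range b) = V ∧ (∀ i, b i ∈ F (μ i)) ∧
      (∑ n ∈ Finset.range N, Module.finrank k ↥(V ⊓ F (n + 1))) ≤ ∑ i, μ i := by
  classical
  obtain ⟨B, μ, hli, hspan, hmem, hsum⟩ := exists_adapted N F hF V hV0 hVN
  have hcard : B.card = Module.finrank k V := by
    rw [← hspan, finrank_span_finset_eq_card hli]
  let e : Fin (Module.finrank k V) ≃ B := (B.equivFinOfCardEq hcard).symm
  refine ⟨fun i => (e i : E), fun i => μ (e i : E), ?_, ?_, ?_, ?_⟩
  · have h1 : LinearIndependent k (fun x : B => (x : E)) := hli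
    exact h1.comp e e.injective
  · refine Eq.trans ?_ hspan
    congr 1
    ext v
    simp only [Set.mem_range, Finset.mem_coe]
    constructor
    · rintro ⟨i, rfl⟩; exact (e i).2
    · intro hv; exact ⟨e.symm ⟨v, hv⟩, by simp⟩
  · intro i; exact hmem _ (e i).2
  · refine hsum.trans_eq ?_
    rw [← Finset.sum_coe_sort B μ]
    exact (Equiv.sum_comp e (fun x : B => μ (x : E))).symm

end Groth.Agent.Lib.Helper27Wronsk
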