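import Mathlib
import Groth.Agent.Lib.Helper27Wronsk2
import Groth.Agent.Lib.Helper27Wronsk3

/-! The Plücker inequality for spaces of polynomials in characteristic zero. -/

namespace Groth.Agent.Lib.Helper27Wronsk

open Polynomial

variable {k : Type*} [Field k]

/-- Polynomials divisible by `(X - a)^n`. -/
noncomputable def Fa (a : k) (n : ℕ) : Submodule k k[X] :=
  (Ideal.span {(X - C a) ^ n}).restrictScalars k

lemma mem_Fa {a : k} {n : ℕ} {p : k[X]} : p ∈ Fa a n ↔ (X - C a) ^ n ∣ p := by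
  unfold Fa
  rw [Submodule.restrictScalars_mem, Ideal.mem_span_singleton]

lemma Fa_antitone (a : k) : Antitone (Fa a) := by
  intro n n' h p hp
  rw [mem_Fa] at hp ⊢
  exact (pow_dvd_pow _ h).trans hp

/-- Polynomials of degree at most `d - n`. -/
noncomputable def Finf (d n : ℕ) : Submodule k k[X] := degreeLT k (d + 1 - n)

lemma Finf_antitone (d : ℕ) : Antitone (Finf (k := k) d) := by
  intro n n' h
  exact degreeLT_mono (by omega)

lemma wronsk_assoc [CharZero k] {m : ℕ} (b b' : Fin m → k[X]) (hb : LinearIndependent k b)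
    (hb' : LinearIndependent k b')
    (hspan : Submodule.span k (Set.range b') = Submodule.span k (Set.range b)) :
    ∃ c : k, c ≠ 0 ∧ wronsk b' = C c * wronsk b := by
  let 𝔅 := Module.Basis.span hb
  have hmem : ∀ i, b' i ∈ Submodule.span k (Set.range b) := fun i => by
    rw [← hspan]; exact Submodule.subset_span ⟨i, rfl⟩
  let Cm : Matrix (Fin m) (Fin m) k := fun i l => 𝔅.repr ⟨b' i, hmem i⟩ l
  have hcomb : ∀ i, b' i = ∑ l, Cm i l • b l := by
    intro i
    have h1 := 𝔅.sum_repr ⟨b' i, hmem i⟩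
    have h2 := congrArg (fun z : Submodule.span k (Set.range b) => (z : k[X])) h1
    simp only [AddSubmonoidClass.coe_finsetSum, Submodule.coe_smul] at h2
    rw [← h2]
    refine Finset.sum_congr rfl fun l _ => ?_
    congr 1
    exact (Module.Basis.coe_span_apply hb l)
  have hW := wronsk_comb Cm b b' hcomb
  refine ⟨Cm.det, ?_, hW⟩
  intro h0
  rw [h0, map_zero, zero_mul] at hW
  exact wronsk_ne_zero b' hb' hW

theorem poly_pluecker [CharZero k] (d : ℕ) (V : Submodule k k[X]) [FiniteDimensional k V]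
    (hVd : V ≤ degreeLT k (d + 1)) (S : Finset k) :
    (∑ a ∈ S, ∑ n ∈ Finset.range d, Module.finrank k ↥(V ⊓ Fa a (n + 1))) +
      (∑ n ∈ Finset.range d, Module.finrank k ↥(V ⊓ Finf d (n + 1))) +
        Module.finrank k V * (Module.finrank k V - 1) / 2 ≤
      Module.finrank k V * d + S.card * (Module.finrank k V * (Module.finrank k V - 1) / 2) := by
  classical
  set M := Module.finrank k V * (Module.finrank k V - 1) / 2 with hM
  -- the point at infinity
  obtain ⟨b₀, μ₀, hb₀li, hb₀span, hb₀mem, hb₀sum⟩ := exists_adapted_fin (d + 1) (Finf d)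
    (Finf_antitone d) V (by simpa [Finf] using hVd) (by
      have : Finf (k := k) d (d + 1) = ⊥ := by
        unfold Finf
        rw [Nat.sub_self, eq_bot_iff]
        intro p hp
        rw [mem_degreeLT] at hp
        rw [Submodule.mem_bot, ← degree_eq_bot]
        exact (WithBot.lt_coe_bot.mp (by simpa using hp))
      rw [this, inf_bot_eq])
  have hb₀0 : ∀ i, b₀ i ≠ 0 := fun i => hb₀li.ne_zero i
  have hb₀deg : ∀ i, μ₀ i ≤ d ∧ (b₀ i).natDegree ≤ d - μ₀ i := by
    intro i
    have h1 := hb₀mem i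
    unfold Finf at h1
    rw [mem_degreeLT, degree_eq_natDegree (hb₀0 i)] at h1
    have h2 : (b₀ i).natDegree < d + 1 - μ₀ i := by exact_mod_cast h1
    omega
  have hW₀ : wronsk b₀ ≠ 0 := wronsk_ne_zero b₀ hb₀li
  have hdeg := natDegree_wronsk_le b₀ (fun i => d - μ₀ i) (fun i => (hb₀deg i).2) hW₀
  have hsum₀ : (∑ i, (d - μ₀ i)) + ∑ i, μ₀ i = Module.finrank k V * d := by
    rw [← Finset.sum_add_distrib]
    rw [Finset.sum_congr rfl (fun i _ => Nat.sub_add_cancel (hb₀deg i).1)]
    rw [Finset.sum_const, Finset.card_univ, Fintype.card_fin, smul_eq_mul]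
  have hinf : (∑ n ∈ Finset.range d, Module.finrank k ↥(V ⊓ Finf d (n + 1))) ≤ ∑ i, μ₀ i := by
    refine le_trans ?_ hb₀sum
    rw [Finset.sum_range_succ]
    exact Nat.le_add_right _ _
  -- finite points
  have hfin : ∀ a ∈ S, (X - C a) ^ ((∑ n ∈ Finset.range d, Module.finrank k ↥(V ⊓ Fa a (n + 1))) - M) ∣
      wronsk b₀ := by
    intro a _
    obtain ⟨b, μ, hbli, hbspan, hbmem, hbsum⟩ := exists_adapted_fin (d + 1) (Fa a)
      (Fa_antitone a) V (by
        intro p _
        rw [mem_Fa, pow_zero]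
        exact one_dvd p) (by
        rw [eq_bot_iff]
        rintro p ⟨hpV, hpa⟩
        rw [Submodule.mem_bot]
        by_contra hp0
        have h1 := hVd hpV
        rw [mem_degreeLT, degree_eq_natDegree hp0] at h1
        have h2 : p.natDegree < d + 1 := by exact_mod_cast h1
        have h3 := natDegree_le_of_dvd (mem_Fa.mp hpa) hp0
        rw [natDegree_pow, natDegree_X_sub_C, mul_one] at h3
        omega)
    have h1 := pow_dvd_wronsk b a μ (fun i => mem_Fa.mp (hbmem i))
    obtain ⟨c, hc0, hc⟩ := wronsk_assoc b₀ b hb₀li hbli (by rw [hbspan, hb₀span])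
    rw [hc] at h1
    have h2 : (X - C a) ^ ((∑ i, μ i) - M) ∣ wronsk b₀ :=
      (IsUnit.dvd_mul_left (isUnit_C.mpr (isUnit_iff_ne_zero.mpr hc0))).mp h1
    refine (pow_dvd_pow _ ?_).trans h2
    have : (∑ n ∈ Finset.range d, Module.finrank k ↥(V ⊓ Fa a (n + 1))) ≤ ∑ i, μ i := by
      refine le_trans ?_ hbsum
      rw [Finset.sum_range_succ]
      exact Nat.le_add_right _ _
    omega
  have hprod : (∏ a ∈ S, (X - C a) ^
      ((∑ n ∈ Finset.range d, Module.finrank k ↥(V ⊓ Fa a (n + 1))) - M)) ∣ wronsk b₀ := by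
    apply Finset.prod_dvd_of_coprime _ hfin
    intro a _ a' _ haa'
    exact (isCoprime_X_sub_C_of_isUnit_sub (isUnit_iff_ne_zero.mpr (sub_ne_zero.mpr haa'))).pow
  have hnat := natDegree_le_of_dvd hprod hW₀
  rw [natDegree_prod_of_monic _ _ (fun a _ => (monic_X_sub_C a).pow _)] at hnat
  simp only [natDegree_pow, natDegree_X_sub_C, mul_one] at hnat
  have hS : (∑ a ∈ S, ∑ n ∈ Finset.range d, Module.finrank k ↥(V ⊓ Fa a (n + 1))) ≤
      (∑ a ∈ S, ((∑ n ∈ Finset.range d, Module.finrank k ↥(V ⊓ Fa a (n + 1))) - M)) + S.card * M := by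
    rw [← smul_eq_mul, ← Finset.sum_const, ← Finset.sum_add_distrib]
    exact Finset.sum_le_sum fun a _ => by omega
  omega

end Groth.Agent.Lib.Helper27Wronsk
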