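import Mathlib
import Groth.Agent.Lib.Helper27P1b
import Groth.Agent.Lib.Helper27Wronsk4

/-! The Plücker inequality for linear series on a function field of genus zero. -/

namespace Groth.Agent.Lib.Helper27P1

open FunFld WithZero Polynomial Groth.Agent.Lib.LeadFF Groth.Agent.Lib.Helper27LinSer
  Groth.Agent.Lib.Helper27Wronsk

variable {k K : Type*} [Field k] [Field K] [Algebra k K]

lemma finrank_comap_eq {Φ : k[X] →ₗ[k] K} (hΦ : Function.Injective Φ) (W : Submodule k K)
    (hW : W ≤ LinearMap.range Φ) :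
    Module.finrank k ↥(W.comap Φ) = Module.finrank k ↥W := by
  have h1 := (Submodule.equivMapOfInjective Φ hΦ (W.comap Φ)).finrank_eq
  rw [Submodule.map_comap_eq, inf_eq_right.mpr hW] at h1
  exact h1

theorem pluecker_genus_zero [IsAlgClosed k] [CharZero k] (hK : IsFunctionField k K)
    (hg : genus k K = 0) {d r : ℕ} {D : Divisor k K} (hD : D.deg = d) {V : Submodule k K}
    (hV : V ≤ L D) (hVr : Module.finrank k ↥V = r + 1) (S : Finset (Place k K))
    (P0 : Place k K) (hP0S : P0 ∈ S) :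
    (∑ P ∈ S, wt V D P d) + r * (r + 1) ≤ (r + 1) * d + S.card * (r * (r + 1) / 2) := by
  classical
  have hPd := deg_eq_one_of_algClosed hK P0
  obtain ⟨x, hx, hxk⟩ := exists_coord hK hg P0 hPd
  -- the multiplier
  have hEdeg : (D - Finsupp.single P0 (d : ℤ) : Divisor k K).deg = 0 := by
    rw [deg_sub, deg_single, hPd, hD]; simp
  have hEell := ell_genus_zero hK hg (D - Finsupp.single P0 (d : ℤ)) (by rw [hEdeg]; norm_num)
  obtain ⟨s, hsE, hs0⟩ : ∃ s ∈ L (D - Finsupp.single P0 (d : ℤ) : Divisor k K), s ≠ 0 := by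
    have : L (D - Finsupp.single P0 (d : ℤ) : Divisor k K) ≠ ⊥ := by
      intro h
      unfold ell at hEell
      rw [h, finrank_bot, hEdeg] at hEell
      norm_num at hEell
    exact Submodule.exists_mem_ne_zero_of_ne_bot this
  have hdivs : FunFld.div k s = -(D - Finsupp.single P0 (d : ℤ)) :=
    div_of_section hK hEdeg hs0 hsE
  let Φ : k[X] →ₗ[k] K := (LinearMap.mulLeft k s).comp (aeval x).toLinearMap
  have hΦ : ∀ p, Φ p = s * aeval x p := fun p => rfl
  have hΦinj : Function.Injective Φ := fun p q h =>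
    aeval_injective hK hxk (mul_left_cancel₀ hs0 h)
  have hkey : ∀ (G : Divisor k K) (p : k[X]),
      Φ p ∈ L (D - G) ↔ aeval x p ∈ L (Finsupp.single P0 (d : ℤ) - G) := by
    intro G p
    rw [hΦ, mul_mem_L_iff hK _ hs0, hdivs]
    have : D - G + -(D - Finsupp.single P0 (d : ℤ)) = Finsupp.single P0 (d : ℤ) - G := by abel
    rw [this]
  have hV'deg : V.comap Φ ≤ degreeLT k (d + 1) := by
    intro p hp
    have h1 : Φ p ∈ L (D - 0) := by rw [sub_zero]; exact hV hp
    rw [hkey] at h1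
    have h2 := (aeval_mem_L_infty_iff hK hx hxk d 0 (p := p)).mp (by
      rw [Nat.cast_zero, Finsupp.single_zero]; exact h1)
    simpa using h2
  have hVrange : V ≤ LinearMap.range Φ := by
    intro f hf
    have h1 : s * (s⁻¹ * f) ∈ L D := by
      rw [mul_inv_cancel_left₀ hs0]; exact hV hf
    rw [mul_mem_L_iff hK _ hs0, hdivs] at h1
    have h2 : D + -(D - Finsupp.single P0 (d : ℤ)) = Finsupp.single P0 (d : ℤ) := by abel
    rw [h2] at h1
    obtain ⟨p, -, hp⟩ := exists_poly_of_mem_L hK hg hPd hx hxk d h1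
    exact ⟨p, by rw [hΦ, hp, mul_inv_cancel_left₀ hs0]⟩
  have hV'fin : FiniteDimensional k ↥(V.comap Φ) := by
    have : FiniteDimensional k (degreeLT k (d + 1)) := by
      have hdim1 : Module.finrank k (degreeLT k (d + 1)) = d + 1 := by
        rw [(degreeLTEquiv k (d + 1)).finrank_eq, Module.finrank_fin_fun]
      exact Module.finite_of_finrank_pos (by rw [hdim1]; omega)
    exact Submodule.finiteDimensional_of_le hV'deg
  have hV'dim : Module.finrank k ↥(V.comap Φ) = r + 1 := by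
    rw [finrank_comap_eq hΦinj V hVrange, hVr]
  -- coordinates of the finite places
  have hex : ∀ Q : Place k K, ∃ a : k, Q ≠ P0 → Q.1 (x - algebraMap k K a) < 1 := by
    intro Q
    by_cases hQ : Q = P0
    · exact ⟨0, fun h => absurd hQ h⟩
    · obtain ⟨a, ha⟩ := exists_const_sub_lt_one hK Q (val_le_one_of_ne hx hQ)
      exact ⟨a, fun _ => ha⟩
  choose aa haa using hex
  have hfinite : ∀ Q : Place k K, Q ≠ P0 → ∀ n : ℕ,
      fdim V D Q (n : ℤ) = Module.finrank k ↥(V.comap Φ ⊓ Fa (aa Q) n) := by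
    intro Q hQ n
    unfold fdim
    rw [← finrank_comap_eq hΦinj (V ⊓ L (D - Finsupp.single Q (n : ℤ))) (inf_le_left.trans hVrange)]
    have hset : (V ⊓ L (D - Finsupp.single Q (n : ℤ))).comap Φ = V.comap Φ ⊓ Fa (aa Q) n := by
      ext p
      simp only [Submodule.mem_comap, Submodule.mem_inf]
      constructor
      · rintro ⟨h1, h2⟩
        refine ⟨h1, ?_⟩
        rw [hkey] at h2
        rw [mem_Fa]
        exact (aeval_mem_L_finite_iff hK hx hxk d n hQ (val_sub_eq hK hx hxk hPd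
          (deg_eq_one_of_algClosed hK Q) hQ (haa Q hQ)) (hV'deg h1)).mp h2
      · rintro ⟨h1, h2⟩
        refine ⟨h1, ?_⟩
        rw [hkey]
        rw [mem_Fa] at h2
        exact (aeval_mem_L_finite_iff hK hx hxk d n hQ (val_sub_eq hK hx hxk hPd
          (deg_eq_one_of_algClosed hK Q) hQ (haa Q hQ)) (hV'deg h1)).mpr h2
    rw [hset]
  have hinfty : ∀ n : ℕ,
      fdim V D P0 (n : ℤ) = Module.finrank k ↥(V.comap Φ ⊓ Finf d n) := by
    intro n
    unfold fdim
    rw [← finrank_comap_eq hΦinj (V ⊓ L (D - Finsupp.single P0 (n : ℤ))) (inf_le_left.trans hVrange)]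
    have hset : (V ⊓ L (D - Finsupp.single P0 (n : ℤ))).comap Φ = V.comap Φ ⊓ Finf d n := by
      ext p
      simp only [Submodule.mem_comap, Submodule.mem_inf]
      unfold Finf
      rw [hkey, aeval_mem_L_infty_iff hK hx hxk d n]
    rw [hset]
  have hcast : ∀ j : ℕ, ((j : ℤ) + 1) = ((j + 1 : ℕ) : ℤ) := fun j => by push_cast; rfl
  have hwt_fin : ∀ Q : Place k K, Q ≠ P0 → wt V D Q d =
      ∑ n ∈ Finset.range d, Module.finrank k ↥(V.comap Φ ⊓ Fa (aa Q) (n + 1)) := by
    intro Q hQ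
    unfold wt
    refine Finset.sum_congr rfl fun j _ => ?_
    rw [hcast, hfinite Q hQ]
  have hwt_inf : wt V D P0 d =
      ∑ n ∈ Finset.range d, Module.finrank k ↥(V.comap Φ ⊓ Finf d (n + 1)) := by
    unfold wt
    refine Finset.sum_congr rfl fun j _ => ?_
    rw [hcast, hinfty]
  have hinj : Set.InjOn aa (S.erase P0 : Set (Place k K)) := by
    intro Q hQ Q' hQ' hQQ'
    have hQne : Q ≠ P0 := (Finset.mem_erase.mp (Finset.mem_coe.mp hQ)).1
    have hQ'ne : Q' ≠ P0 := (Finset.mem_erase.mp (Finset.mem_coe.mp hQ')).1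
    have h1 := haa Q hQne
    have h2 := haa Q' hQ'ne
    rw [← hQQ'] at h2
    exact coord_injective hK hx hxk hPd (deg_eq_one_of_algClosed hK Q)
      (deg_eq_one_of_algClosed hK Q') hQne hQ'ne h1 h2
  have hpp := poly_pluecker d (V.comap Φ) hV'deg ((S.erase P0).image aa)
  rw [Finset.sum_image hinj, Finset.card_image_of_injOn hinj, Finset.card_erase_of_mem hP0S,
    hV'dim] at hpp
  have hsumS : ∑ P ∈ S, wt V D P d = wt V D P0 d + ∑ P ∈ S.erase P0, wt V D P d :=
    (Finset.add_sum_erase S (fun P => wt V D P d) hP0S).symm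
  have hsum2 : ∑ P ∈ S.erase P0, wt V D P d = ∑ Q ∈ S.erase P0,
      ∑ n ∈ Finset.range d, Module.finrank k ↥(V.comap Φ ⊓ Fa (aa Q) (n + 1)) :=
    Finset.sum_congr rfl fun Q hQ => hwt_fin Q (Finset.mem_erase.mp hQ).1
  rw [hsumS, hsum2, hwt_inf]
  have hcardpos : 0 < S.card := Finset.card_pos.mpr ⟨P0, hP0S⟩
  have heven : r * (r + 1) = 2 * (r * (r + 1) / 2) := by
    obtain ⟨t, ht⟩ := Nat.even_mul_succ_self r
    omega
  have hmm : (r + 1) * (r + 1 - 1) / 2 = r * (r + 1) / 2 := by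
    rw [Nat.add_sub_cancel, mul_comm]
  rw [hmm] at hpp
  obtain ⟨c, hc⟩ : ∃ c, S.card = c + 1 := ⟨S.card - 1, by omega⟩
  rw [hc] at hpp ⊢
  rw [Nat.add_sub_cancel] at hpp
  have hexp : (c + 1) * (r * (r + 1) / 2) = c * (r * (r + 1) / 2) + r * (r + 1) / 2 := by ring
  rw [hexp]
  omega

end Groth.Agent.Lib.Helper27P1
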