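import Mathlib
import Groth.Agent.Lib.Helper27LinSer4
import Groth.Agent.Lib.Helper27P1c

/-! Linear series: cusps, and small-set Plücker inequalities on genus-zero function fields. -/

namespace Groth.Agent.Lib.Helper27LinSer

open FunFld WithZero Groth.Agent.Lib.LeadFF

section
variable {k K : Type*} [Field k] [Field K] [Algebra k K]

lemma fdim_add_ge (hK : IsFunctionField k K) {V : Submodule k K} {D : Divisor k K}
    (hV : V ≤ L D) {r : ℕ} (hVr : Module.finrank k ↥V = r + 1) (P : Place k K) (hP : P.deg = 1)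
    (n : ℕ) : r + 1 ≤ fdim V D P (n : ℤ) + n := by
  induction n with
  | zero =>
    rw [Nat.cast_zero, fdim_of_nonpos hV P le_rfl, hVr]
  | succ n ih =>
    have := fdim_le_succ hK V D P hP (n : ℤ)
    push_cast
    omega

lemma r_le_d (hK : IsFunctionField k K) {V : Submodule k K} {D : Divisor k K}
    (hV : V ≤ L D) {r d : ℕ} (hVr : Module.finrank k ↥V = r + 1) (hD : D.deg = d)
    (P : Place k K) (hP : P.deg = 1) : r ≤ d := by
  have h := fdim_add_ge hK hV hVr P hP (d + 1)
  have h0 := fdim_eq_zero hK V D P hP (n := ((d + 1 : ℕ) : ℤ)) (by rw [hD]; push_cast; omega)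
  omega

lemma fdim_cusp_ge (hK : IsFunctionField k K) (V : Submodule k K) (D : Divisor k K)
    (P : Place k K) (hP : P.deg = 1) {r : ℕ} (hc : r ≤ fdim V D P 2) (n : ℕ) :
    r ≤ fdim V D P ((n : ℤ) + 2) + n := by
  induction n with
  | zero => simpa using hc
  | succ n ih =>
    have := fdim_le_succ hK V D P hP ((n : ℤ) + 2)
    have e : ((n : ℤ) + 2 + 1) = ((n + 1 : ℕ) : ℤ) + 2 := by push_cast; ring
    rw [e] at this
    omega

lemma sum_sub_eq (r : ℕ) : ∑ j ∈ Finset.range r, (r - j) = r * (r + 1) / 2 := by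
  have h1 : ∑ j ∈ Finset.range r, (r - j) = ∑ j ∈ Finset.range r, (j + 1) := by
    rw [← Finset.sum_range_reflect (fun j => j + 1) r]
    refine Finset.sum_congr rfl fun j hj => ?_
    rw [Finset.mem_range] at hj
    omega
  have h2 := Finset.sum_range_id_mul_two (r + 1)
  rw [Finset.sum_range_succ', add_zero] at h2
  rw [h1]
  have h3 : (r + 1) * (r + 1 - 1) = r * (r + 1) := by
    rw [Nat.add_sub_cancel, mul_comm]
  rw [h3] at h2
  omega

/-- A cusp (`dim V(-2P) ≥ r`) has weight at least `r`. -/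
lemma wt_ge_of_cusp (hK : IsFunctionField k K) {V : Submodule k K} {D : Divisor k K}
    {r d : ℕ} (hD : D.deg = d)
    (P : Place k K) (hP : P.deg = 1) (hc : r ≤ fdim V D P 2) :
    r + r * (r + 1) / 2 ≤ wt V D P d := by
  rcases Nat.eq_zero_or_pos r with hr | hr
  · subst hr; simp
  -- `r + 1 ≤ d`
  have hd : r + 1 ≤ d := by
    rcases Nat.eq_zero_or_pos d with hd0 | hd0
    · exfalso
      have h0 := fdim_eq_zero hK V D P hP (n := (1 : ℤ)) (by rw [hD, hd0]; norm_num)
      have h1 := fdim_succ_le hK V D P 1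
      have e : (1 : ℤ) + 1 = 2 := by norm_num
      rw [e] at h1
      omega
    · have h := fdim_cusp_ge hK V D P hP hc (d - 1)
      have e : (((d - 1 : ℕ) : ℤ) + 2) = ((d + 1 : ℕ) : ℤ) := by
        push_cast
        omega
      rw [e] at h
      have h0 := fdim_eq_zero hK V D P hP (n := ((d + 1 : ℕ) : ℤ)) (by
        rw [hD]; push_cast; omega)
      omega
  unfold wt
  have hsub : ∑ j ∈ Finset.range (r + 1), fdim V D P ((j : ℤ) + 1) ≤
      ∑ j ∈ Finset.range d, fdim V D P ((j : ℤ) + 1) :=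
    Finset.sum_le_sum_of_subset (Finset.range_mono hd)
  refine le_trans ?_ hsub
  rw [Finset.sum_range_succ']
  have h0 : r ≤ fdim V D P (((0 : ℕ) : ℤ) + 1) := by
    have h1 := fdim_succ_le hK V D P 1
    have e : (1 : ℤ) + 1 = 2 := by norm_num
    rw [e] at h1
    have e' : (((0 : ℕ) : ℤ) + 1) = 1 := by norm_num
    rw [e']
    omega
  have hs : ∑ j ∈ Finset.range r, (r - j) ≤
      ∑ j ∈ Finset.range r, fdim V D P (((j + 1 : ℕ) : ℤ) + 1) := by
    refine Finset.sum_le_sum fun j _ => ?_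
    have h := fdim_cusp_ge hK V D P hP hc j
    have e : (((j + 1 : ℕ) : ℤ) + 1) = (j : ℤ) + 2 := by push_cast; ring
    rw [e]
    omega
  rw [sum_sub_eq] at hs
  omega

end

section genus0

variable {k K : Type*} [Field k] [Field K] [Algebra k K] [IsAlgClosed k] [CharZero k]
  (hK : IsFunctionField k K) (hg : genus k K = 0) {d r : ℕ} {D : Divisor k K}
  (hD : D.deg = d) {V : Submodule k K} (hV : V ≤ L D) (hVr : Module.finrank k ↥V = r + 1)
include hK hg hD hV hVr

lemma pl1 (P : Place k K) :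
    wt V D P d + r * (r + 1) ≤ (r + 1) * d + r * (r + 1) / 2 := by
  classical
  have h := Groth.Agent.Lib.Helper27P1.pluecker_genus_zero hK hg hD hV hVr {P} P
    (Finset.mem_singleton_self P)
  rw [Finset.sum_singleton, Finset.card_singleton, one_mul] at h
  exact h

lemma pl2 {P Q : Place k K} (hPQ : P ≠ Q) :
    wt V D P d + wt V D Q d + r * (r + 1) ≤ (r + 1) * d + 2 * (r * (r + 1) / 2) := by
  classical
  have hP : P ∉ ({Q} : Finset (Place k K)) := by simp [hPQ]
  have h := Groth.Agent.Lib.Helper27P1.pluecker_genus_zero hK hg hD hV hVr {P, Q} P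
    (Finset.mem_insert_self _ _)
  rw [Finset.sum_insert hP, Finset.sum_singleton, Finset.card_insert_of_notMem hP,
    Finset.card_singleton] at h
  omega

lemma pl3 {P Q R : Place k K} (hPQ : P ≠ Q) (hPR : P ≠ R) (hQR : Q ≠ R) :
    wt V D P d + wt V D Q d + wt V D R d + r * (r + 1) ≤
      (r + 1) * d + 3 * (r * (r + 1) / 2) := by
  classical
  have hP : P ∉ ({Q, R} : Finset (Place k K)) := by simp [hPQ, hPR]
  have hQ : Q ∉ ({R} : Finset (Place k K)) := by simp [hQR]
  have h := Groth.Agent.Lib.Helper27P1.pluecker_genus_zero hK hg hD hV hVr {P, Q, R} P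
    (Finset.mem_insert_self _ _)
  rw [Finset.sum_insert hP, Finset.sum_insert hQ, Finset.sum_singleton,
    Finset.card_insert_of_notMem hP, Finset.card_insert_of_notMem hQ,
    Finset.card_singleton] at h
  omega

lemma pl4 {P Q R S : Place k K} (hPQ : P ≠ Q) (hPR : P ≠ R) (hPS : P ≠ S) (hQR : Q ≠ R)
    (hQS : Q ≠ S) (hRS : R ≠ S) :
    wt V D P d + wt V D Q d + wt V D R d + wt V D S d + r * (r + 1) ≤
      (r + 1) * d + 4 * (r * (r + 1) / 2) := by
  classical
  have hP : P ∉ ({Q, R, S} : Finset (Place k K)) := by simp [hPQ, hPR, hPS]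
  have hQ : Q ∉ ({R, S} : Finset (Place k K)) := by simp [hQR, hQS]
  have hR : R ∉ ({S} : Finset (Place k K)) := by simp [hRS]
  have h := Groth.Agent.Lib.Helper27P1.pluecker_genus_zero hK hg hD hV hVr {P, Q, R, S} P
    (Finset.mem_insert_self _ _)
  rw [Finset.sum_insert hP, Finset.sum_insert hQ, Finset.sum_insert hR, Finset.sum_singleton,
    Finset.card_insert_of_notMem hP, Finset.card_insert_of_notMem hQ,
    Finset.card_insert_of_notMem hR, Finset.card_singleton] at h
  omega

/-- Plücker with one mandatory and up to three optional further points, each optional point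
carrying a lower bound `l + r(r+1)/2` for its weight sum. -/
lemma pl_opt (P0 : Place k K) (b1 b2 b3 : Prop) (P1 P2 P3 : Place k K) (l1 l2 l3 : ℕ)
    (h01 : b1 → P0 ≠ P1) (h02 : b2 → P0 ≠ P2) (h03 : b3 → P0 ≠ P3)
    (h12 : b1 → b2 → P1 ≠ P2) (h13 : b1 → b3 → P1 ≠ P3) (h23 : b2 → b3 → P2 ≠ P3)
    (hl1 : b1 → l1 + r * (r + 1) / 2 ≤ wt V D P1 d)
    (hl2 : b2 → l2 + r * (r + 1) / 2 ≤ wt V D P2 d)
    (hl3 : b3 → l3 + r * (r + 1) / 2 ≤ wt V D P3 d)
    (hn1 : ¬ b1 → l1 = 0) (hn2 : ¬ b2 → l2 = 0) (hn3 : ¬ b3 → l3 = 0) :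
    wt V D P0 d + l1 + l2 + l3 + r * (r + 1) ≤ (r + 1) * d + r * (r + 1) / 2 := by
  by_cases c1 : b1 <;> by_cases c2 : b2 <;> by_cases c3 : b3
  · have h := pl4 hK hg hD hV hVr (h01 c1) (h02 c2) (h03 c3) (h12 c1 c2) (h13 c1 c3) (h23 c2 c3)
    have := hl1 c1
    have := hl2 c2
    have := hl3 c3
    omega
  · have h := pl3 hK hg hD hV hVr (h01 c1) (h02 c2) (h12 c1 c2)
    have := hl1 c1
    have := hl2 c2
    have := hn3 c3
    omega
  · have h := pl3 hK hg hD hV hVr (h01 c1) (h03 c3) (h13 c1 c3)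
    have := hl1 c1
    have := hn2 c2
    have := hl3 c3
    omega
  · have h := pl2 hK hg hD hV hVr (h01 c1)
    have := hl1 c1
    have := hn2 c2
    have := hn3 c3
    omega
  · have h := pl3 hK hg hD hV hVr (h02 c2) (h03 c3) (h23 c2 c3)
    have := hn1 c1
    have := hl2 c2
    have := hl3 c3
    omega
  · have h := pl2 hK hg hD hV hVr (h02 c2)
    have := hn1 c1
    have := hl2 c2
    have := hn3 c3
    omega
  · have h := pl2 hK hg hD hV hVr (h03 c3)
    have := hn1 c1
    have := hn2 c2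
    have := hl3 c3
    omega
  · have h := pl1 hK hg hD hV hVr P0
    have := hn1 c1
    have := hn2 c2
    have := hn3 c3
    omega

end genus0

end Groth.Agent.Lib.Helper27LinSer
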