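import Mathlib
import Groth.Agent.Lib.Helper27LinSer5

/-! Function fields of genus one: dimension bookkeeping for `L`-spaces. -/

namespace Groth.Agent.Lib.Helper27Ell

open FunFld WithZero Groth.Agent.Lib.LeadFF Groth.Agent.Lib.Helper27LinSer

variable {k K : Type*} [Field k] [Field K] [Algebra k K]

lemma L_inf (D E : Divisor k K) : L D ⊓ L E = L (D ⊓ E) := by
  apply le_antisymm
  · rintro x ⟨h1, h2⟩ P
    rw [Finsupp.inf_apply]
    rcases le_total (D P) (E P) with h | h
    · rw [inf_eq_left.mpr h]; exact h1 P
    · rw [inf_eq_right.mpr h]; exact h2 P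
  · exact le_inf (L_mono inf_le_left) (L_mono inf_le_right)

lemma ell_genus_one (hK : IsFunctionField k K) (hg : genus k K = 1) (D : Divisor k K)
    (hD : 1 ≤ D.deg) : (ell D : ℤ) = D.deg := by
  have := ell_of_deg_ge hK D (by rw [hg]; push_cast; omega)
  rw [hg] at this
  push_cast at this
  omega

lemma ell_le_one_of_deg_zero (hK : IsFunctionField k K) {D : Divisor k K} (hD : D.deg = 0) :
    ell D ≤ 1 := by
  by_cases hbot : L D = ⊥
  · unfold ell; rw [hbot, finrank_bot]; omega
  · obtain ⟨s, hs, hs0⟩ := Submodule.exists_mem_ne_zero_of_ne_bot hbot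
    have hdiv := div_of_section hK hD hs0 hs
    rw [← ell_add_div hK D hs0, hdiv, add_neg_cancel, ell_zero hK]

lemma ell_eq_zero_of_deg_neg (hK : IsFunctionField k K) {D : Divisor k K} (hD : D.deg < 0) :
    ell D = 0 := by
  unfold ell; rw [L_eq_bot_of_deg_neg hK _ hD]; exact finrank_bot k K

/-- Two `L`-spaces inside a finite-dimensional `V`. -/
lemma ell_add_le (hK : IsFunctionField k K) {V : Submodule k K} [FiniteDimensional k ↥V]
    {D E : Divisor k K} (hD : L D ≤ V) (hE : L E ≤ V) :
    ell D + ell E ≤ Module.finrank k ↥V + ell (D ⊓ E) := by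
  unfold ell
  have := L_finite hK D
  have := L_finite hK E
  have h1 := Submodule.finrank_sup_add_finrank_inf_eq (L D) (L E)
  have h2 : Module.finrank k ↥(L D ⊔ L E) ≤ Module.finrank k ↥V :=
    Submodule.finrank_mono (sup_le hD hE)
  rw [L_inf] at h1
  omega

lemma single_inf_sub {A Q : Place k K} (hAQ : A ≠ Q) (a b m : ℤ) (hm : 0 ≤ m) :
    (Finsupp.single A a : Divisor k K) ⊓ (Finsupp.single A b - Finsupp.single Q m) =
      Finsupp.single A (min a b) - Finsupp.single Q m := by
  ext R
  rw [Finsupp.inf_apply, Finsupp.sub_apply, Finsupp.sub_apply]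
  by_cases h1 : R = A
  · subst h1
    rw [single_apply_self, single_apply_self, single_apply_self, single_apply_ne hAQ, sub_zero,
      sub_zero]
  · by_cases h2 : R = Q
    · subst h2
      rw [single_apply_ne h1, single_apply_ne h1, single_apply_ne h1, single_apply_self]
      rw [inf_eq_right.mpr (by omega)]
    · rw [single_apply_ne h1, single_apply_ne h1, single_apply_ne h1, single_apply_ne h2]
      simp

lemma deg_single_sub [IsAlgClosed k] (hK : IsFunctionField k K) (A Q : Place k K) (a m : ℤ) :
    Divisor.deg (Finsupp.single A a - Finsupp.single Q m : Divisor k K) = a - m := by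
  rw [deg_sub, deg_single, deg_single, deg_eq_one_of_algClosed hK A,
    deg_eq_one_of_algClosed hK Q]
  push_cast
  ring

lemma div_one (hK : IsFunctionField k K) : FunFld.div k (1 : K) = 0 :=
  div_eq_zero_of_mem hK ⟨1, map_one _⟩

lemma div_pow (hK : IsFunctionField k K) {x : K} (hx : x ≠ 0) (n : ℕ) :
    FunFld.div k (x ^ n) = n • FunFld.div k x := by
  induction n with
  | zero => rw [pow_zero, zero_smul, div_one hK]
  | succ n ih =>
    rw [pow_succ, div_mul hK (pow_ne_zero n hx) hx, ih, succ_nsmul]

/-- On a curve of genus one distinct places are not linearly equivalent. -/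
lemma no_simple_quotient [IsAlgClosed k] (hK : IsFunctionField k K) (hg : genus k K = 1)
    {A Q : Place k K} (hAQ : A ≠ Q) {u : K} (hu0 : u ≠ 0)
    (hu : FunFld.div k u = Finsupp.single Q 1 - Finsupp.single A 1) : False := by
  have hA := deg_eq_one_of_algClosed hK A
  have h1 : u ∈ L (Finsupp.single A 1 : Divisor k K) := by
    have : u ∈ L (-(FunFld.div k u)) := (mem_L_neg_div hK hu0)
    refine L_mono ?_ this
    rw [hu]
    intro R
    rw [Finsupp.neg_apply, Finsupp.sub_apply]
    by_cases h1 : R = A
    · subst h1
      rw [single_apply_self, single_apply_ne hAQ]; omega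
    · rw [single_apply_ne h1]
      by_cases h2 : R = Q
      · subst h2; rw [single_apply_self]; omega
      · rw [single_apply_ne h2]; simp
  have hL : L (0 : Divisor k K) = L (Finsupp.single A 1 : Divisor k K) := by
    have := L_finite hK (Finsupp.single A 1 : Divisor k K)
    apply Submodule.eq_of_le_of_finrank_eq
    · apply L_mono
      intro R
      by_cases h1 : R = A
      · subst h1; rw [single_apply_self]; simp
      · rw [single_apply_ne h1]; simp
    · have e1 := ell_zero hK (k := k) (K := K)
      have e2 := ell_single_of_genus_one hK hg hA 1 le_rfl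
      unfold ell at e1 e2
      rw [e1]
      exact_mod_cast e2.symm
  rw [← hL] at h1
  have h2 := neg_le_div_of_mem_L hK h1 hu0 A
  rw [hu, Finsupp.neg_apply, Finsupp.sub_apply, single_apply_self, single_apply_ne hAQ] at h2
  simp at h2

end Groth.Agent.Lib.Helper27Ell
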