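import Mathlib
import Groth.Agent.Lib.Helper27Ell1

/-! Genus one: weights of a hyperplane `L((g-2)A) ⊆ V₁ ⊆ L(gA)` (with `g = h + 3`). -/

namespace Groth.Agent.Lib.Helper27Ell

open FunFld WithZero Groth.Agent.Lib.LeadFF Groth.Agent.Lib.Helper27LinSer

section
variable {k K : Type*} [Field k] [Field K] [Algebra k K] [IsAlgClosed k]
  (hK : IsFunctionField k K) (hg1 : genus k K = 1) (h : ℕ) (A : Place k K)
  (V₁ : Submodule k K) (hlo : L (Finsupp.single A ((h : ℤ) + 1)) ≤ V₁)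
  (hhi : V₁ ≤ L (Finsupp.single A ((h : ℤ) + 3))) (hdim : Module.finrank k ↥V₁ = h + 2)

omit [IsAlgClosed k] in
include hK hhi in
lemma V1_finite : FiniteDimensional k ↥V₁ := by
  have := L_finite hK (Finsupp.single A ((h : ℤ) + 3) : Divisor k K)
  exact Submodule.finiteDimensional_of_le hhi

/-- `dim (V₁ ∩ L(jA))`. -/
noncomputable def G (A : Place k K) (V₁ : Submodule k K) (j : ℤ) : ℕ :=
  Module.finrank k ↥(V₁ ⊓ L (Finsupp.single A j : Divisor k K))

omit [IsAlgClosed k] in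
include hhi hdim in
lemma G_large (j : ℤ) (hj : (h : ℤ) + 3 ≤ j) : G A V₁ j = h + 2 := by
  unfold G
  rw [inf_eq_left.mpr (hhi.trans (L_mono (single_mono A hj))), hdim]

include hK hg1 hlo in
lemma G_small (j : ℕ) (hj1 : 1 ≤ j) (hj : j ≤ h + 1) : G A V₁ (j : ℤ) = j := by
  unfold G
  rw [inf_eq_right.mpr ((L_mono (single_mono A (by omega))).trans hlo)]
  exact ell_single_of_genus_one hK hg1 (deg_eq_one_of_algClosed hK A) j hj1

omit [IsAlgClosed k] in
include hK hlo in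
lemma G_zero : G A V₁ 0 = 1 := by
  unfold G
  rw [inf_eq_right.mpr ((L_mono (single_mono A (by omega))).trans hlo), Finsupp.single_zero]
  exact ell_zero hK

include hK hg1 hlo hhi hdim in
lemma G_mid : h + 1 ≤ G A V₁ ((h : ℤ) + 2) ∧ G A V₁ ((h : ℤ) + 2) ≤ h + 2 := by
  have hfin := V1_finite hK h A V₁ hhi
  constructor
  · have h1 := G_small hK hg1 h A V₁ hlo (h + 1) (by omega) le_rfl
    rw [← h1]
    unfold G
    have := fin_inf hK V₁ (Finsupp.single A ((h : ℤ) + 2))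
    apply Submodule.finrank_mono
    refine inf_le_inf_left _ (L_mono (single_mono A ?_))
    push_cast
    omega
  · rw [← hdim]
    unfold G
    exact Submodule.finrank_mono inf_le_left

include hK hg1 hlo hhi hdim in
/-- S17248 in the `g = h + 3` normalisation. -/
theorem weight_at_A : ∃ ε : ℕ, ε ≤ 1 ∧
    ∑ n ∈ Finset.range ((h + 2) + (h + 2)), G A V₁ (2 * (h : ℤ) + 3 - n) =
      (h + 2).choose 2 + (h + 2) ^ 2 + ε := by
  obtain ⟨hm1, hm2⟩ := G_mid hK hg1 h A V₁ hlo hhi hdim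
  refine ⟨G A V₁ ((h : ℤ) + 2) - (h + 1), by omega, ?_⟩
  rw [Finset.sum_range_add,
    Finset.sum_range_succ (fun n => G A V₁ (2 * (h : ℤ) + 3 - (n : ℕ))) (h + 1),
    Finset.sum_range_succ (fun x => G A V₁ (2 * (h : ℤ) + 3 - ((h + 2 + x : ℕ) : ℤ))) (h + 1)]
  have s1 : ∑ n ∈ Finset.range (h + 1), G A V₁ (2 * (h : ℤ) + 3 - n) = (h + 1) * (h + 2) := by
    rw [Finset.sum_congr rfl (fun n hn => G_large h A V₁ hhi hdim _ (by
      rw [Finset.mem_range] at hn; omega)), Finset.sum_const, Finset.card_range, smul_eq_mul]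
  have s2 : G A V₁ (2 * (h : ℤ) + 3 - ((h + 1 : ℕ) : ℤ)) = G A V₁ ((h : ℤ) + 2) := by
    congr 1; push_cast; ring
  have s3 : ∑ x ∈ Finset.range (h + 1), G A V₁ (2 * (h : ℤ) + 3 - ((h + 2 + x : ℕ) : ℤ)) =
      (h + 1) * (h + 1 + 1) / 2 := by
    rw [← sum_sub_eq (h + 1)]
    refine Finset.sum_congr rfl fun x hx => ?_
    rw [Finset.mem_range] at hx
    have e : 2 * (h : ℤ) + 3 - ((h + 2 + x : ℕ) : ℤ) = ((h + 1 - x : ℕ) : ℤ) := by
      push_cast; omega
    rw [e]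
    exact G_small hK hg1 h A V₁ hlo (h + 1 - x) (by omega) (by omega)
  have s4 : G A V₁ (2 * (h : ℤ) + 3 - ((h + 2 + (h + 1) : ℕ) : ℤ)) = 1 := by
    have e : 2 * (h : ℤ) + 3 - ((h + 2 + (h + 1) : ℕ) : ℤ) = 0 := by push_cast; ring
    rw [e]
    exact G_zero hK h A V₁ hlo
  rw [s1, s2, s3, s4, Nat.choose_two_right]
  have e5 : (h + 2) * (h + 2 - 1) = (h + 1) * (h + 1 + 1) := by
    have : h + 2 - 1 = h + 1 := by omega
    rw [this]; ring
  rw [e5]
  obtain ⟨M, hM⟩ := Nat.even_mul_succ_self (h + 1)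
  have e6 : (h + 1) * (h + 1 + 1) / 2 = M := by omega
  rw [e6]
  have e7 : (h + 2) ^ 2 = (h + 1) * (h + 2) + (h + 2) := by ring
  rw [e7]
  omega

end

end Groth.Agent.Lib.Helper27Ell
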