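import Mathlib
import Groth.Agent.Lib.Helper27Ell2

/-! Genus one: weight of a hyperplane `L((g-2)A) ⊆ V₁ ⊆ L(gA)` (`g = h + 3` odd) at `Q ≠ A`. -/

namespace Groth.Agent.Lib.Helper27Ell

open FunFld WithZero Groth.Agent.Lib.LeadFF Groth.Agent.Lib.Helper27LinSer

section
variable {k K : Type*} [Field k] [Field K] [Algebra k K]

lemma div_pow_apply (hK : IsFunctionField k K) {x : K} (hx : x ≠ 0) (n : ℕ) (P : Place k K) :
    FunFld.div k (x ^ n) P = n * FunFld.div k x P := by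
  induction n with
  | zero => rw [pow_zero, div_one hK]; simp
  | succ n ih =>
    rw [pow_succ, div_mul hK (pow_ne_zero n hx) hx, Finsupp.add_apply, ih]
    push_cast
    ring

end

section
variable {k K : Type*} [Field k] [Field K] [Algebra k K] [IsAlgClosed k]
  (hK : IsFunctionField k K) (hg1 : genus k K = 1) (h : ℕ) (A : Place k K)
  (V₁ : Submodule k K) (hlo : L (Finsupp.single A ((h : ℤ) + 1)) ≤ V₁)
  (hhi : V₁ ≤ L (Finsupp.single A ((h : ℤ) + 3))) (hdim : Module.finrank k ↥V₁ = h + 2)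
  (Q : Place k K) (hQ : Q ≠ A)

/-- `dim (V₁ ∩ L(gA - mQ))`, `g = h + 3`. -/
noncomputable def E (A Q : Place k K) (V₁ : Submodule k K) (h : ℕ) (m : ℤ) : ℕ :=
  Module.finrank k ↥(V₁ ⊓ L (Finsupp.single A ((h : ℤ) + 3) - Finsupp.single Q m : Divisor k K))

omit [IsAlgClosed k] in
include hK in
lemma E_le_ell (m : ℤ) :
    E A Q V₁ h m ≤ ell (Finsupp.single A ((h : ℤ) + 3) - Finsupp.single Q m : Divisor k K) := by
  unfold E ell
  have := L_finite hK (Finsupp.single A ((h : ℤ) + 3) - Finsupp.single Q m : Divisor k K)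
  exact Submodule.finrank_mono inf_le_right

omit [IsAlgClosed k] in
include hK in
lemma E_lt_of_not_le (m : ℤ)
    (hn : ¬ L (Finsupp.single A ((h : ℤ) + 3) - Finsupp.single Q m : Divisor k K) ≤ V₁) :
    E A Q V₁ h m + 1 ≤
      ell (Finsupp.single A ((h : ℤ) + 3) - Finsupp.single Q m : Divisor k K) := by
  unfold E ell
  have := L_finite hK (Finsupp.single A ((h : ℤ) + 3) - Finsupp.single Q m : Divisor k K)
  exact Submodule.finrank_lt_finrank_of_lt (inf_lt_right.mpr hn)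

include hK hg1 in
lemma ell_AQ (a m : ℤ) (ham : 1 ≤ a - m) :
    (ell (Finsupp.single A a - Finsupp.single Q m : Divisor k K) : ℤ) = a - m := by
  rw [ell_genus_one hK hg1 _ (by rw [deg_single_sub hK]; exact ham), deg_single_sub hK]

include hK hg1 in
lemma ell_A (a : ℤ) (ha : 1 ≤ a) :
    (ell (Finsupp.single A a : Divisor k K) : ℤ) = a := by
  have hd : Divisor.deg (Finsupp.single A a : Divisor k K) = a := by
    rw [deg_single, deg_eq_one_of_algClosed hK A]; push_cast; ring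
  rw [ell_genus_one hK hg1 _ (by rw [hd]; exact ha), hd]

include hK hg1 hlo hhi hdim hQ in
lemma K1 : ¬ L (Finsupp.single A ((h : ℤ) + 3) - Finsupp.single Q (h : ℤ) : Divisor k K) ≤ V₁ := by
  intro hle
  have hfin := V1_finite hK h A V₁ hhi
  have h1 := ell_add_le hK (V := V₁) hlo hle
  rw [single_inf_sub hQ.symm _ _ _ (by omega : (0 : ℤ) ≤ h)] at h1
  have e : min ((h : ℤ) + 1) ((h : ℤ) + 3) = (h : ℤ) + 1 := by omega
  rw [e, hdim] at h1
  have a1 := ell_A hK hg1 A ((h : ℤ) + 1) (by omega)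
  have a2 := ell_AQ hK hg1 A Q ((h : ℤ) + 3) (h : ℤ) (by omega)
  have a3 := ell_AQ hK hg1 A Q ((h : ℤ) + 1) (h : ℤ) (by omega)
  omega

include hK hg1 hlo hhi hdim hQ in
lemma K1' (m : ℕ) (hm : m ≤ h) :
    ¬ L (Finsupp.single A ((h : ℤ) + 3) - Finsupp.single Q (m : ℤ) : Divisor k K) ≤ V₁ := by
  intro hle
  refine K1 hK hg1 h A V₁ hlo hhi hdim Q hQ (le_trans (L_mono ?_) hle)
  intro R
  rw [Finsupp.sub_apply, Finsupp.sub_apply]
  by_cases hR : R = Q
  · subst hR; rw [single_apply_self, single_apply_self]; omega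
  · rw [single_apply_ne hR, single_apply_ne hR]

include hK hg1 hlo hhi hdim hQ in
lemma K2 (hodd : Odd (h + 3))
    (hle : L (Finsupp.single A ((h : ℤ) + 3) - Finsupp.single Q ((h : ℤ) + 1) : Divisor k K) ≤ V₁)
    (hpos : 1 ≤ E A Q V₁ h ((h : ℤ) + 3)) : False := by
  have hfin := V1_finite hK h A V₁ hhi
  have hAQ : A ≠ Q := hQ.symm
  have h1 := ell_add_le hK (V := V₁) hlo hle
  rw [single_inf_sub hAQ _ _ _ (by omega : (0 : ℤ) ≤ (h : ℤ) + 1)] at h1
  have e : min ((h : ℤ) + 1) ((h : ℤ) + 3) = (h : ℤ) + 1 := by omega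
  rw [e, hdim] at h1
  have a1 := ell_A hK hg1 A ((h : ℤ) + 1) (by omega)
  have a2 := ell_AQ hK hg1 A Q ((h : ℤ) + 3) ((h : ℤ) + 1) (by omega)
  have hpos1 : 1 ≤ ell (Finsupp.single A ((h : ℤ) + 1) - Finsupp.single Q ((h : ℤ) + 1) :
      Divisor k K) := by omega
  have hpos2 : 1 ≤ ell (Finsupp.single A ((h : ℤ) + 3) - Finsupp.single Q ((h : ℤ) + 3) :
      Divisor k K) := hpos.trans (E_le_ell hK h A V₁ Q _)
  have hex : ∀ D : Divisor k K, 1 ≤ ell D → ∃ s ∈ L D, s ≠ 0 := by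
    intro D hD
    have : L D ≠ ⊥ := by
      intro hb
      unfold ell at hD
      rw [hb, finrank_bot] at hD
      omega
    exact Submodule.exists_mem_ne_zero_of_ne_bot this
  obtain ⟨s, hs, hs0⟩ := hex _ hpos1
  obtain ⟨s', hs', hs'0⟩ := hex _ hpos2
  have hds := div_of_section hK (by rw [deg_single_sub hK]; ring) hs0 hs
  have hds' := div_of_section hK (by rw [deg_single_sub hK]; ring) hs'0 hs'
  obtain ⟨l, hl⟩ : ∃ l, h = 2 * l := by
    obtain ⟨t, ht⟩ := hodd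
    exact ⟨t - 1, by omega⟩
  refine no_simple_quotient hK hg1 hAQ (u := s ^ (l + 1) * (s' ^ l)⁻¹)
    (mul_ne_zero (pow_ne_zero _ hs0) (inv_ne_zero (pow_ne_zero _ hs'0))) ?_
  ext R
  rw [div_mul hK (pow_ne_zero _ hs0) (inv_ne_zero (pow_ne_zero _ hs'0)), div_inv hK,
    Finsupp.add_apply, Finsupp.neg_apply, div_pow_apply hK hs0, div_pow_apply hK hs'0, hds, hds',
    Finsupp.neg_apply, Finsupp.neg_apply, Finsupp.sub_apply, Finsupp.sub_apply, Finsupp.sub_apply]
  have hh : (h : ℤ) = 2 * l := by exact_mod_cast hl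
  by_cases hRA : R = A
  · subst hRA
    rw [single_apply_self, single_apply_self, single_apply_self, single_apply_ne hAQ,
      single_apply_ne hAQ, single_apply_ne hAQ, hh]
    push_cast
    ring
  · by_cases hRQ : R = Q
    · subst hRQ
      rw [single_apply_self, single_apply_self, single_apply_self, single_apply_ne hRA,
        single_apply_ne hRA, single_apply_ne hRA, hh]
      push_cast
      ring
    · rw [single_apply_ne hRA, single_apply_ne hRA, single_apply_ne hRA, single_apply_ne hRQ,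
        single_apply_ne hRQ, single_apply_ne hRQ]
      ring

include hK hg1 hlo hhi hdim hQ in
/-- S17247 in the `g = h + 3` normalisation. -/
theorem weight_at_Q (hodd : Odd (h + 3)) :
    ∑ n ∈ Finset.range (h + (3 + (h + 1))), E A Q V₁ h ((n : ℤ) + 1) ≤ (h + 2).choose 2 + 2 := by
  -- bounds
  have b1 : ∀ n : ℕ, n < h → E A Q V₁ h ((n : ℤ) + 1) ≤ (h - n) + 1 := by
    intro n hn
    have hk := K1' hK hg1 h A V₁ hlo hhi hdim Q hQ (n + 1) (by omega)
    have e : (((n + 1 : ℕ)) : ℤ) = (n : ℤ) + 1 := by push_cast; ring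
    rw [e] at hk
    have h2 := E_lt_of_not_le hK h A V₁ Q _ hk
    have h3 := ell_AQ hK hg1 A Q ((h : ℤ) + 3) ((n : ℤ) + 1) (by omega)
    omega
  have b2 : E A Q V₁ h ((h : ℤ) + 1) ≤ 2 := by
    have h2 := E_le_ell hK h A V₁ Q ((h : ℤ) + 1)
    have h3 := ell_AQ hK hg1 A Q ((h : ℤ) + 3) ((h : ℤ) + 1) (by omega)
    omega
  have b3 : E A Q V₁ h ((h : ℤ) + 2) ≤ 1 := by
    have h2 := E_le_ell hK h A V₁ Q ((h : ℤ) + 2)
    have h3 := ell_AQ hK hg1 A Q ((h : ℤ) + 3) ((h : ℤ) + 2) (by omega)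
    omega
  have b4 : E A Q V₁ h ((h : ℤ) + 3) ≤ 1 := by
    have h2 := E_le_ell hK h A V₁ Q ((h : ℤ) + 3)
    have h3 := ell_le_one_of_deg_zero hK (D := (Finsupp.single A ((h : ℤ) + 3) -
      Finsupp.single Q ((h : ℤ) + 3) : Divisor k K)) (by rw [deg_single_sub hK]; ring)
    omega
  have b5 : ∀ m : ℤ, (h : ℤ) + 4 ≤ m → E A Q V₁ h m = 0 := by
    intro m hm
    have h2 := E_le_ell hK h A V₁ Q m
    have h3 := ell_eq_zero_of_deg_neg hK (D := (Finsupp.single A ((h : ℤ) + 3) -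
      Finsupp.single Q m : Divisor k K)) (by rw [deg_single_sub hK]; omega)
    omega
  have b6 : E A Q V₁ h ((h : ℤ) + 1) + E A Q V₁ h ((h : ℤ) + 3) ≤ 2 := by
    by_cases hp : 1 ≤ E A Q V₁ h ((h : ℤ) + 3)
    · have hnle : ¬ L (Finsupp.single A ((h : ℤ) + 3) - Finsupp.single Q ((h : ℤ) + 1) :
          Divisor k K) ≤ V₁ := fun hle => K2 hK hg1 h A V₁ hlo hhi hdim Q hQ hodd hle hp
      have h2 := E_lt_of_not_le hK h A V₁ Q _ hnle
      have h3 := ell_AQ hK hg1 A Q ((h : ℤ) + 3) ((h : ℤ) + 1) (by omega)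
      omega
    · omega
  rw [Finset.sum_range_add]
  have s1 : ∑ n ∈ Finset.range h, E A Q V₁ h ((n : ℤ) + 1) ≤ h * (h + 1) / 2 + h := by
    refine (Finset.sum_le_sum fun n hn => b1 n (Finset.mem_range.mp hn)).trans_eq ?_
    rw [Finset.sum_add_distrib, sum_sub_eq, Finset.sum_const, Finset.card_range, smul_eq_mul,
      mul_one]
  have s2 : ∑ x ∈ Finset.range (3 + (h + 1)), E A Q V₁ h (((h + x : ℕ) : ℤ) + 1) =
      E A Q V₁ h ((h : ℤ) + 1) + E A Q V₁ h ((h : ℤ) + 2) + E A Q V₁ h ((h : ℤ) + 3) := by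
    rw [Finset.sum_range_add]
    have t0 : ∑ x ∈ Finset.range (h + 1), E A Q V₁ h (((h + (3 + x) : ℕ) : ℤ) + 1) = 0 := by
      refine Finset.sum_eq_zero fun x _ => b5 _ ?_
      push_cast
      omega
    have t3 : ∑ x ∈ Finset.range 3, E A Q V₁ h (((h + x : ℕ) : ℤ) + 1) =
        E A Q V₁ h ((h : ℤ) + 1) + E A Q V₁ h ((h : ℤ) + 2) + E A Q V₁ h ((h : ℤ) + 3) := by
      rw [Finset.sum_range_succ, Finset.sum_range_succ, Finset.sum_range_one]
      have e0 : (((h + 0 : ℕ) : ℤ) + 1) = (h : ℤ) + 1 := by push_cast; ring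
      have e1 : (((h + 1 : ℕ) : ℤ) + 1) = (h : ℤ) + 2 := by push_cast; ring
      have e2 : (((h + 2 : ℕ) : ℤ) + 1) = (h : ℤ) + 3 := by push_cast; ring
      rw [e0, e1, e2]
    rw [t0, t3, add_zero]
  rw [s2, Nat.choose_two_right]
  have e5 : (h + 2) * (h + 2 - 1) = h * (h + 1) + 2 * (h + 1) := by
    have : h + 2 - 1 = h + 1 := by omega
    rw [this]; ring
  rw [e5]
  obtain ⟨M, hM⟩ := Nat.even_mul_succ_self h
  omega

end

end Groth.Agent.Lib.Helper27Ell
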