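import Mathlib

/-! Existence of a derivation `∂` on a field `K` algebraic over `k(x)` with `∂ x = 1`. -/

namespace Groth.Agent.Lib.Helper27Tors

open Polynomial TensorProduct

theorem exists_derivation {k K : Type*} [Field k] [Field K] [Algebra k K] [CharZero k] (x : K)
    (hx : Transcendental k x) (halg : Algebra.IsAlgebraic (Algebra.adjoin k {x}) K) :
    ∃ d : Derivation k K K, d x = 1 := by
  let _ : Algebra k[X] K := (aeval x).toRingHom.toAlgebra
  have hmap : ∀ p : k[X], algebraMap k[X] K p = aeval x p := fun p => rfl
  have hst : IsScalarTower k k[X] K := IsScalarTower.of_algebraMap_eq (fun c => by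
    rw [hmap, ← Polynomial.C_eq_algebraMap, aeval_C])
  have hinj : Function.Injective (algebraMap k[X] K) := transcendental_iff_injective.mp hx
  let _ : Algebra (RatFunc k) K := (IsFractionRing.lift hinj).toAlgebra
  have hst2 : IsScalarTower k[X] (RatFunc k) K := IsScalarTower.of_algebraMap_eq (fun p =>
    (IsFractionRing.lift_algebraMap hinj p).symm)
  have halg1 : Algebra.IsAlgebraic k[X] K := by
    let f : k[X] →+* Algebra.adjoin k {x} :=
      ((aeval x).codRestrict (Algebra.adjoin k {x}) (fun p => by
        rw [Algebra.adjoin_singleton_eq_range_aeval]; exact ⟨p, rfl⟩)).toRingHom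
    have hf : Function.Surjective f := by
      rintro ⟨u, hu⟩
      rw [Algebra.adjoin_singleton_eq_range_aeval] at hu
      obtain ⟨p, rfl⟩ := hu
      exact ⟨p, rfl⟩
    exact Algebra.IsAlgebraic.of_ringHom_of_comp_eq (S := Algebra.adjoin k {x}) (B := K) f
      (RingHom.id K) hf Function.injective_id (RingHom.ext fun p => rfl)
  have halg2 : Algebra.IsAlgebraic (RatFunc k) K := Algebra.IsAlgebraic.extendScalars (R := k[X]) (IsFractionRing.injective k[X] (RatFunc k))
  have hcz : CharZero (RatFunc k) := charZero_of_injective_algebraMap (algebraMap k (RatFunc k)).injective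
  have he1 : Algebra.FormallyEtale (RatFunc k) K := Algebra.FormallyEtale.of_isSeparable _ _
  have he2 : Algebra.FormallyEtale k[X] (RatFunc k) :=
    Algebra.FormallyEtale.of_isLocalization (nonZeroDivisors k[X])
  have he : Algebra.FormallyEtale k[X] K := Algebra.FormallyEtale.comp k[X] (RatFunc k) K
  let e := KaehlerDifferential.tensorKaehlerEquivOfFormallyEtale k k[X] K
  let d₀ : Derivation k k[X] K := Polynomial.mkDerivation k (1 : K)
  let l : Ω[K⁄k] →ₗ[K] K := (d₀.liftKaehlerDifferential.liftBaseChange K) ∘ₗ e.symm.toLinearMap
  refine ⟨l.compDer (KaehlerDifferential.D k K), ?_⟩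
  have hx' : x = algebraMap k[X] K X := by rw [hmap, aeval_X]
  change (d₀.liftKaehlerDifferential.liftBaseChange K) (e.symm (KaehlerDifferential.D k K x)) = 1
  rw [hx', KaehlerDifferential.tensorKaehlerEquivOfFormallyEtale_symm_D_algebraMap,
    LinearMap.liftBaseChange_tmul, Derivation.liftKaehlerDifferential_comp_D, one_smul]
  exact Polynomial.mkDerivation_X k (1 : K)

/-- The field of constants of a derivation. -/
def constField {k K : Type*} [Field k] [Field K] [Algebra k K] (d : Derivation k K K) :
    IntermediateField k K where
  carrier := {z | d z = 0}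
  mul_mem' := by
    intro a b ha hb
    simp only [Set.mem_ofPred_eq] at *
    rw [d.leibniz, ha, hb, smul_zero, smul_zero, add_zero]
  add_mem' := by
    intro a b ha hb
    simp only [Set.mem_ofPred_eq] at *
    rw [map_add, ha, hb, add_zero]
  one_mem' := d.map_one_eq_zero
  zero_mem' := map_zero d
  algebraMap_mem' := fun c => d.map_algebraMap c
  inv_mem' := by
    intro a ha
    simp only [Set.mem_ofPred_eq] at *
    rw [Derivation.leibniz_inv, ha, smul_zero]

lemma mem_constField {k K : Type*} [Field k] [Field K] [Algebra k K] (d : Derivation k K K)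
    (z : K) : z ∈ constField d ↔ d z = 0 := Iff.rfl

lemma deriv_aeval_of_vanish {k K : Type*} [Field k] [Field K] [Algebra k K]
    (d : Derivation k K K) (M : IntermediateField k K) (hM : ∀ c : M, d (c : K) = 0) (x : K)
    (p : M[X]) : d (aeval x p) = aeval x (derivative p) * d x := by
  induction p using Polynomial.induction_on' with
  | add p q hp hq => rw [map_add, map_add, hp, hq, derivative_add, map_add, add_mul]
  | monomial n c =>
    rw [aeval_monomial, derivative_monomial, aeval_monomial, Derivation.leibniz,
      Derivation.leibniz_pow]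
    have : (algebraMap (↥M) K) c = (c : K) := rfl
    rw [this, hM c, smul_zero, add_zero, map_mul, map_natCast]
    simp only [smul_eq_mul, nsmul_eq_mul]
    have : (algebraMap (↥M) K) c = (c : K) := rfl
    rw [this]
    ring

/-- A derivation with `d x = 1` has only algebraic constants, provided `K` is algebraic over
`k(u)` for every transcendental `u`. -/
theorem isAlgebraic_of_deriv_eq_zero {k K : Type*} [Field k] [Field K] [Algebra k K] [CharZero k]
    (d : Derivation k K K) (x : K) (hdx : d x = 1) {u : K} (hu : d u = 0)
    (halg : Algebra.IsAlgebraic (IntermediateField.adjoin k {u}) K) : False := by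
  have hle : IntermediateField.adjoin k {u} ≤ constField d :=
    IntermediateField.adjoin_le_iff.mpr (Set.singleton_subset_iff.mpr hu)
  have hM : ∀ c : IntermediateField.adjoin k {u}, d (c : K) = 0 := fun c => hle c.2
  have hcz : CharZero (IntermediateField.adjoin k {u}) :=
    charZero_of_injective_algebraMap (algebraMap k (IntermediateField.adjoin k {u})).injective
  have hint : IsIntegral (IntermediateField.adjoin k {u}) x :=
    (halg.isAlgebraic x).isIntegral
  have hsep : (minpoly (IntermediateField.adjoin k {u}) x).Separable :=
    (minpoly.irreducible hint).separable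
  have h0 := deriv_aeval_of_vanish d _ hM x (minpoly (IntermediateField.adjoin k {u}) x)
  rw [minpoly.aeval, map_zero, hdx, mul_one] at h0
  exact hsep.aeval_derivative_ne_zero (minpoly.aeval _ x) h0.symm

end Groth.Agent.Lib.Helper27Tors
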