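import Mathlib
import Groth.Agent.Lib.LeadFF17
import Groth.Agent.Lib.Helper27Tors1

/-! Abstract "hyperosculation points are finite" for a function field with a derivation. -/

namespace Groth.Agent.Lib.Helper27Tors

open FunFld WithZero Groth.Agent.Lib.LeadFF

variable {k K : Type*} [Field k] [Field K] [Algebra k K]

/-- A place is good for `d` if `d` preserves the valuation ring and lowers orders of vanishing by
at most one. -/
def GoodPl (d : Derivation k K K) (Q : Place k K) : Prop :=
  (∀ u : K, Q.1 u ≤ 1 → Q.1 (d u) ≤ 1) ∧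
  (∀ (u : K) (n : ℕ), Q.1 u ≤ exp (-((n : ℤ) + 1)) → Q.1 (d u) ≤ exp (-(n : ℤ)))

/-- The linear map `g ↦ f₀ g' - f₀' g`. -/
noncomputable def wr (d : Derivation k K K) (f₀ : K) : K →ₗ[k] K :=
  (LinearMap.mulLeft k f₀).comp d.toLinearMap - LinearMap.mulLeft k (d f₀)

lemma wr_apply (d : Derivation k K K) (f₀ g : K) : wr d f₀ g = f₀ * d g - d f₀ * g := by
  simp [wr]

lemma wr_self (d : Derivation k K K) (f₀ : K) : wr d f₀ f₀ = 0 := by
  rw [wr_apply]; ring

lemma wr_eq_zero (d : Derivation k K K)
    (hconst : ∀ u : K, d u = 0 → u ∈ Set.range (algebraMap k K)) {f₀ g : K} (hf₀ : f₀ ≠ 0)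
    (h : wr d f₀ g = 0) : ∃ c : k, g = algebraMap k K c * f₀ := by
  have h1 : d (g / f₀) = 0 := by
    rw [Derivation.leibniz_div]
    rw [wr_apply] at h
    simp only [smul_eq_mul]
    rw [mul_comm g (d f₀), h, mul_zero]
  obtain ⟨c, hc⟩ := hconst _ h1
  refine ⟨c, ?_⟩
  rw [hc, div_mul_cancel₀ _ hf₀]

lemma val_ne_one_finite (hK : IsFunctionField k K) {f₀ : K} (hf₀ : f₀ ≠ 0) :
    {Q : Place k K | Q.1 f₀ ≠ 1}.Finite := by
  refine ((zeros_finite' hK hf₀).union (zeros_finite' hK (inv_ne_zero hf₀))).subset ?_
  intro Q hQ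
  simp only [Set.mem_ofPred_eq] at hQ
  rcases lt_or_gt_of_ne hQ with h | h
  · left; exact h
  · right
    simp only [Set.mem_ofPred_eq]
    rw [map_inv₀]
    exact inv_lt_one_of_one_lt₀ h

theorem bad_finite (hK : IsFunctionField k K) (d : Derivation k K K)
    (hconst : ∀ u : K, d u = 0 → u ∈ Set.range (algebraMap k K)) :
    ∀ (n : ℕ) (V : Submodule k K) [FiniteDimensional k V], Module.finrank k V ≤ n →
      {Q : Place k K | GoodPl d Q ∧ ∃ h ∈ V, h ≠ 0 ∧ Q.1 h ≤ exp (-(n : ℤ))}.Finite := by
  intro n
  induction n with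
  | zero =>
    intro V _ hV
    have hbot : V = ⊥ := by
      rw [← Submodule.finrank_eq_zero]; omega
    convert Set.finite_empty
    ext Q
    simp only [Set.mem_ofPred_eq, Set.mem_empty_iff_false, iff_false]
    rintro ⟨-, h, hh, hh0, -⟩
    rw [hbot, Submodule.mem_bot] at hh
    exact hh0 hh
  | succ n ih =>
    intro V _ hV
    by_cases hbot : V = ⊥
    · convert Set.finite_empty
      ext Q
      simp only [Set.mem_ofPred_eq, Set.mem_empty_iff_false, iff_false]
      rintro ⟨-, h, hh, hh0, -⟩
      rw [hbot, Submodule.mem_bot] at hh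
      exact hh0 hh
    · obtain ⟨f₀, hf₀V, hf₀0⟩ := Submodule.exists_mem_ne_zero_of_ne_bot hbot
      have hdim : Module.finrank k ↥(V.map (wr d f₀)) ≤ n := by
        have h1 := LinearMap.finrank_range_add_finrank_ker ((wr d f₀).domRestrict V)
        have h2 : LinearMap.range ((wr d f₀).domRestrict V) = V.map (wr d f₀) := by
          ext y
          simp only [LinearMap.mem_range, Submodule.mem_map, LinearMap.domRestrict_apply,
            Subtype.exists, exists_prop]
        have h3 : 0 < Module.finrank k ↥(LinearMap.ker ((wr d f₀).domRestrict V)) := by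
          refine (Module.finrank_pos_iff_exists_ne_zero (R := k)
            (M := ↥(LinearMap.ker ((wr d f₀).domRestrict V)))).mpr ⟨⟨⟨f₀, hf₀V⟩, ?_⟩, ?_⟩
          · rw [LinearMap.mem_ker, LinearMap.domRestrict_apply]
            exact wr_self d f₀
          · intro h
            apply hf₀0
            have h' := congrArg (fun z : ↥(LinearMap.ker ((wr d f₀).domRestrict V)) =>
              (((z : ↥V)) : K)) h
            simpa using h'
        rw [h2] at h1
        omega
      have hfin := ih (V.map (wr d f₀)) hdim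
      refine ((val_ne_one_finite hK hf₀0).union hfin).subset ?_
      rintro Q ⟨hgood, g, hgV, hg0, hval⟩
      by_cases hfa : Q.1 f₀ = 1
      · right
        refine ⟨hgood, wr d f₀ g, Submodule.mem_map_of_mem hgV, ?_, ?_⟩
        · intro h0
          obtain ⟨c, hc⟩ := wr_eq_zero d hconst hf₀0 h0
          have hc0 : c ≠ 0 := by
            rintro rfl
            rw [map_zero, zero_mul] at hc
            exact hg0 hc
          rw [hc, map_mul, hfa, mul_one, place_trivOn Q c hc0, ← exp_zero, exp_le_exp] at hval
          push_cast at hval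
          omega
        · rw [wr_apply]
          refine (Valuation.map_sub _ _ _).trans (max_le ?_ ?_)
          · rw [map_mul, hfa, one_mul]
            have := hgood.2 g n (by push_cast at hval; exact hval)
            exact this
          · rw [map_mul]
            have h1 : Q.1 (d f₀) ≤ 1 := hgood.1 f₀ hfa.le
            have h2 : Q.1 g ≤ exp (-(n : ℤ)) := hval.trans (by
              rw [exp_le_exp]; push_cast; omega)
            calc Q.1 (d f₀) * Q.1 g ≤ 1 * exp (-(n : ℤ)) := mul_le_mul' h1 h2
              _ = exp (-(n : ℤ)) := one_mul _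
      · left; exact hfa

end Groth.Agent.Lib.Helper27Tors
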