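import Mathlib
import Groth.Agent.Lib.LeadFF17
import Groth.Agent.Lib.Helper27Tors2

/-! Good places for the derivation on a Weierstrass model `y² = F(x)`. -/

namespace Groth.Agent.Lib.Helper27Tors

open FunFld WithZero Groth.Agent.Lib.LeadFF Polynomial

variable {k K : Type*} [Field k] [Field K] [Algebra k K]

/-- Elements `A(x) + B(x) y`. -/
noncomputable def bel (x y : K) (A B : k[X]) : K := aeval x A + aeval x B * y

lemma bel_mul {x y : K} {F : k[X]} (hF : y ^ 2 = aeval x F) (A B C D : k[X]) :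
    bel x y A B * bel x y C D = bel x y (A * C + F * B * D) (A * D + B * C) := by
  simp only [bel, map_add, map_mul]
  rw [← hF]; ring

lemma bel_add (x y : K) (A B C D : k[X]) :
    bel x y A B + bel x y C D = bel x y (A + C) (B + D) := by
  simp only [bel, map_add]; ring

/-- The subalgebra `k[x] + k[x] y`. -/
noncomputable def BK {x y : K} {F : k[X]} (hF : y ^ 2 = aeval x F) : Subalgebra k K where
  carrier := {s | ∃ A B : k[X], s = bel x y A B}
  mul_mem' := by
    rintro _ _ ⟨A, B, rfl⟩ ⟨C, D, rfl⟩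
    exact ⟨_, _, bel_mul hF A B C D⟩
  add_mem' := by
    rintro _ _ ⟨A, B, rfl⟩ ⟨C, D, rfl⟩
    exact ⟨_, _, bel_add x y A B C D⟩
  algebraMap_mem' := fun c => ⟨C c, 0, by simp [bel]⟩

lemma exists_frac {x y : K} {F : k[X]} (hF : y ^ 2 = aeval x F)
    (htop : IntermediateField.adjoin k ({x, y} : Set K) = ⊤) (u : K) :
    ∃ A B C D : k[X], u = bel x y A B / bel x y C D := by
  have hu : u ∈ IntermediateField.adjoin k ({x, y} : Set K) := by rw [htop]; trivial
  obtain ⟨r, hr, s, hs, rfl⟩ := IntermediateField.mem_adjoin_iff_div.mp hu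
  have hle : Algebra.adjoin k ({x, y} : Set K) ≤ BK hF := by
    apply Algebra.adjoin_le
    intro z hz
    rcases hz with rfl | rfl
    · exact ⟨X, 0, by simp [bel]⟩
    · exact ⟨0, 1, by simp [bel]⟩
  obtain ⟨A, B, rfl⟩ := hle hr
  obtain ⟨C, D, rfl⟩ := hle hs
  exact ⟨A, B, C, D, rfl⟩

lemma res_aeval (Q : Place k K) {x : K} {a : k} (hxa : Q.1 (x - algebraMap k K a) < 1)
    (A : k[X]) : Q.1 (aeval x A - algebraMap k K (A.eval a)) < 1 := by
  obtain ⟨r, hr⟩ := X_sub_C_dvd_sub_C_eval (a := a) (p := A)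
  have h1 : aeval x A - algebraMap k K (A.eval a) = (x - algebraMap k K a) * aeval x r := by
    have := congrArg (aeval x) hr
    simpa using this
  have hQx : Q.1 x ≤ 1 := by
    have : x = (x - algebraMap k K a) + algebraMap k K a := by ring
    rw [this]
    exact (Q.1.map_add _ _).trans (max_le hxa.le (Q.2.1 a))
  rw [h1, map_mul]
  calc Q.1 (x - algebraMap k K a) * Q.1 (aeval x r)
      ≤ Q.1 (x - algebraMap k K a) * 1 :=
        mul_le_mul' le_rfl (val_aeval_le_one (place_trivOn Q) hQx r)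
    _ < 1 := by rw [mul_one]; exact hxa

lemma val_le_of_res (Q : Place k K) {u : K} {c : k} (h : Q.1 (u - algebraMap k K c) < 1) :
    Q.1 u ≤ 1 := by
  have : u = (u - algebraMap k K c) + algebraMap k K c := by ring
  rw [this]
  exact (Q.1.map_add _ _).trans (max_le h.le (Q.2.1 c))

lemma res_mul (Q : Place k K) {u v : K} {c e : k} (hu : Q.1 (u - algebraMap k K c) < 1)
    (hv : Q.1 (v - algebraMap k K e) < 1) : Q.1 (u * v - algebraMap k K (c * e)) < 1 := by
  have : u * v - algebraMap k K (c * e) =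
      (u - algebraMap k K c) * v + algebraMap k K c * (v - algebraMap k K e) := by
    rw [map_mul]; ring
  rw [this]
  refine lt_of_le_of_lt (Q.1.map_add _ _) (max_lt ?_ ?_)
  · rw [map_mul]
    calc Q.1 (u - algebraMap k K c) * Q.1 v ≤ Q.1 (u - algebraMap k K c) * 1 :=
          mul_le_mul' le_rfl (val_le_of_res Q hv)
      _ < 1 := by rw [mul_one]; exact hu
  · rw [map_mul]
    calc Q.1 (algebraMap k K c) * Q.1 (v - algebraMap k K e)
        ≤ 1 * Q.1 (v - algebraMap k K e) := mul_le_mul' (Q.2.1 c) le_rfl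
      _ < 1 := by rw [one_mul]; exact hv

lemma res_add (Q : Place k K) {u v : K} {c e : k} (hu : Q.1 (u - algebraMap k K c) < 1)
    (hv : Q.1 (v - algebraMap k K e) < 1) : Q.1 (u + v - algebraMap k K (c + e)) < 1 := by
  have : u + v - algebraMap k K (c + e) =
      (u - algebraMap k K c) + (v - algebraMap k K e) := by
    rw [map_add]; ring
  rw [this]
  exact lt_of_le_of_lt (Q.1.map_add _ _) (max_lt hu hv)

lemma res_bel (Q : Place k K) {x y : K} {a b : k} (hxa : Q.1 (x - algebraMap k K a) < 1)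
    (hyb : Q.1 (y - algebraMap k K b) < 1) (A B : k[X]) :
    Q.1 (bel x y A B - algebraMap k K (A.eval a + B.eval a * b)) < 1 :=
  res_add Q (res_aeval Q hxa A) (res_mul Q (res_aeval Q hxa B) hyb)

section Good

set_option linter.unusedSectionVars false

variable [CharZero k] (d : Derivation k K K) {x y : K} {F : k[X]}
  (hF : y ^ 2 = aeval x F) (hdx : d x = 1)
  {Q : Place k K} {a b : k} (hxa : Q.1 (x - algebraMap k K a) = exp (-1 : ℤ))
  (hyb : Q.1 (y - algebraMap k K b) < 1) (hb : b ≠ 0)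

/-- `u` and `d u` are both integral at `Q`. -/
def Gd (d : Derivation k K K) (Q : Place k K) (u : K) : Prop := Q.1 u ≤ 1 ∧ Q.1 (d u) ≤ 1

lemma Gd.mul {d : Derivation k K K} {Q : Place k K} {u v : K} (hu : Gd d Q u) (hv : Gd d Q v) :
    Gd d Q (u * v) := by
  refine ⟨by rw [map_mul]; exact mul_le_one' hu.1 hv.1, ?_⟩
  rw [d.leibniz, smul_eq_mul, smul_eq_mul]
  refine (Q.1.map_add _ _).trans (max_le ?_ ?_)
  · rw [map_mul]; exact mul_le_one' hu.1 hv.2
  · rw [map_mul]; exact mul_le_one' hv.1 hu.2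

lemma Gd.one {d : Derivation k K K} {Q : Place k K} : Gd d Q 1 := by
  refine ⟨by rw [map_one], ?_⟩
  rw [d.map_one_eq_zero, map_zero]; exact zero_le

lemma Gd.pow {d : Derivation k K K} {Q : Place k K} {u : K} (hu : Gd d Q u) (n : ℕ) :
    Gd d Q (u ^ n) := by
  induction n with
  | zero => rw [pow_zero]; exact Gd.one
  | succ n ih => rw [pow_succ]; exact ih.mul hu

lemma Gd.inv {d : Derivation k K K} {Q : Place k K} {u : K} (hu : Gd d Q u) (h1 : Q.1 u = 1) :
    Gd d Q u⁻¹ := by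
  refine ⟨by rw [map_inv₀, h1, inv_one], ?_⟩
  rw [Derivation.leibniz_inv, smul_eq_mul, neg_mul, Valuation.map_neg, map_mul, map_pow, map_inv₀,
    h1, inv_one, one_pow, one_mul]
  exact hu.2

include hxa in
lemma val_x_le : Q.1 x ≤ 1 :=
  val_le_of_res Q (c := a) (by rw [hxa, ← exp_zero, exp_lt_exp]; norm_num)

include hyb hb in
lemma val_y_eq : Q.1 y = 1 := eq_one_of_residue_ne_zero Q hyb hb

include hyb hb in
lemma val_w_eq : Q.1 (y + algebraMap k K b) = 1 := by
  have h2 : (2 : k) * b ≠ 0 := mul_ne_zero two_ne_zero hb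
  apply eq_one_of_residue_ne_zero Q (c := 2 * b) _ h2
  have : y + algebraMap k K b - algebraMap k K (2 * b) = y - algebraMap k K b := by
    rw [map_mul, map_ofNat]; ring
  rw [this]
  exact hyb

include hF hxa hyb in
lemma eval_F : F.eval a = b ^ 2 := by
  have hxa' : Q.1 (x - algebraMap k K a) < 1 := by
    rw [hxa, ← exp_zero, exp_lt_exp]; norm_num
  have h1 := res_aeval Q hxa' F
  have h2 := res_mul Q hyb hyb
  rw [← pow_two, hF, ← pow_two] at h2
  exact residue_unique Q h1 h2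

include hF hdx in
lemma d_y (hy0 : y ≠ 0) : d y = aeval x (derivative F) / (2 * y) := by
  have h1 := congrArg d hF
  rw [Derivation.leibniz_pow, Derivation.map_aeval, hdx] at h1
  simp only [smul_eq_mul, nsmul_eq_mul, mul_one, pow_one, Nat.add_one_sub_one] at h1
  have hcz : CharZero K := charZero_of_injective_algebraMap (algebraMap k K).injective
  have h2 : (2 : K) ≠ 0 := two_ne_zero
  rw [eq_div_iff (mul_ne_zero h2 hy0), ← h1]
  push_cast
  ring

include hF hdx hxa hyb hb in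
lemma Gd_bel (A B : k[X]) : Gd d Q (bel x y A B) := by
  have hQx := val_x_le hxa
  have hQy := val_y_eq hyb hb
  have hy0 : y ≠ 0 := by
    rintro rfl
    rw [map_zero] at hQy
    exact zero_ne_one hQy
  have hdy : Q.1 (d y) ≤ 1 := by
    rw [d_y d hF hdx hy0, map_div₀, map_mul, hQy, mul_one]
    have h2 : Q.1 (2 : K) = 1 := by
      have : (2 : K) = algebraMap k K 2 := by rw [map_ofNat]
      rw [this, place_trivOn Q 2 two_ne_zero]
    rw [h2, div_one]
    exact val_aeval_le_one (place_trivOn Q) hQx _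
  constructor
  · unfold bel
    refine (Q.1.map_add _ _).trans (max_le (val_aeval_le_one (place_trivOn Q) hQx A) ?_)
    rw [map_mul, hQy, mul_one]
    exact val_aeval_le_one (place_trivOn Q) hQx B
  · unfold bel
    rw [map_add, d.leibniz, Derivation.map_aeval, Derivation.map_aeval, hdx]
    simp only [smul_eq_mul, mul_one]
    refine (Q.1.map_add _ _).trans (max_le (val_aeval_le_one (place_trivOn Q) hQx _) ?_)
    refine (Q.1.map_add _ _).trans (max_le ?_ ?_)
    · rw [map_mul]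
      exact mul_le_one' (val_aeval_le_one (place_trivOn Q) hQx B) hdy
    · rw [map_mul, hQy, one_mul]
      exact val_aeval_le_one (place_trivOn Q) hQx _

include hF hxa hyb in
lemma beta_step (A B : k[X]) (h0 : A.eval a + B.eval a * b = 0) :
    ∃ A' B' : k[X], bel x y A B * (y + algebraMap k K b) =
      (x - algebraMap k K a) * bel x y A' B' := by
  have hFa := eval_F hF hxa hyb
  have hw : y + algebraMap k K b = bel x y (C b) 1 := by
    simp only [bel, aeval_C, map_one, one_mul]; ring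
  rw [hw, bel_mul hF]
  have h1 : (A * C b + F * B * 1).IsRoot a := by
    simp only [IsRoot.def, eval_add, eval_mul, eval_C, mul_one]
    rw [hFa]; linear_combination b * h0
  have h2 : (A * 1 + B * C b).IsRoot a := by
    simp only [IsRoot.def, eval_add, eval_mul, eval_C, mul_one]
    exact h0
  obtain ⟨A', hA'⟩ := dvd_iff_isRoot.mpr h1
  obtain ⟨B', hB'⟩ := dvd_iff_isRoot.mpr h2
  refine ⟨A', B', ?_⟩
  rw [hA', hB']
  simp only [bel, map_mul, map_sub, aeval_X, aeval_C]
  ring

include hF hxa hyb hb in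
lemma decomp : ∀ (n : ℕ) (A B : k[X]), Q.1 (bel x y A B) = exp (-(n : ℤ)) →
    ∃ A' B' : k[X], bel x y A B * (y + algebraMap k K b) ^ n =
      (x - algebraMap k K a) ^ n * bel x y A' B' ∧ Q.1 (bel x y A' B') = 1 := by
  intro n
  induction n with
  | zero =>
    intro A B h
    exact ⟨A, B, by simp, by simpa using h⟩
  | succ n ih =>
    intro A B h
    have hxa' : Q.1 (x - algebraMap k K a) < 1 := by
      rw [hxa, ← exp_zero, exp_lt_exp]; norm_num
    have hres := res_bel Q hxa' hyb A B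
    have hlt : Q.1 (bel x y A B) < 1 := by
      rw [h, ← exp_zero, exp_lt_exp]; push_cast; omega
    have h0 := (lt_one_iff_residue_zero Q hres).mp hlt
    obtain ⟨A₁, B₁, h1⟩ := beta_step hF hxa hyb A B h0
    have hv : Q.1 (bel x y A₁ B₁) = exp (-(n : ℤ)) := by
      have h2 := congrArg Q.1 h1
      rw [map_mul, map_mul, h, val_w_eq hyb hb, mul_one, hxa] at h2
      have h3 : Q.1 (bel x y A₁ B₁) = exp (1 : ℤ) * (exp (-1 : ℤ) * Q.1 (bel x y A₁ B₁)) := by
        rw [← mul_assoc, ← exp_add]; simp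
      rw [h3, ← h2, ← exp_add]
      congr 1
      push_cast; ring
    obtain ⟨A', B', h2, h3⟩ := ih A₁ B₁ hv
    refine ⟨A', B', ?_, h3⟩
    calc bel x y A B * (y + algebraMap k K b) ^ (n + 1)
        = (bel x y A B * (y + algebraMap k K b)) * (y + algebraMap k K b) ^ n := by ring
      _ = (x - algebraMap k K a) * (bel x y A₁ B₁ * (y + algebraMap k K b) ^ n) := by
          rw [h1]; ring
      _ = (x - algebraMap k K a) ^ (n + 1) * bel x y A' B' := by rw [h2]; ring

omit [CharZero k] in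
lemma exists_nat_ord (Q : Place k K) {s : K} (hs : s ≠ 0) (h1 : Q.1 s ≤ 1) :
    ∃ n : ℕ, Q.1 s = exp (-(n : ℤ)) := by
  have h2 := val_eq_exp_neg_ord Q hs
  rw [h2, ← exp_zero, exp_le_exp] at h1
  refine ⟨(Q.ord s).toNat, ?_⟩
  rw [h2, Int.toNat_of_nonneg (by omega)]

include hF hdx hxa hyb hb in
lemma Gd_of_le (htop : IntermediateField.adjoin k ({x, y} : Set K) = ⊤) (u : K)
    (hu : Q.1 u ≤ 1) : Gd d Q u := by
  by_cases hu0 : u = 0
  · subst hu0
    exact ⟨hu, by rw [map_zero, map_zero]; exact zero_le⟩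
  obtain ⟨A, B, C', D, rfl⟩ := exists_frac hF htop u
  have hs1 : bel x y A B ≠ 0 := fun h => hu0 (by rw [h, zero_div])
  have hs2 : bel x y C' D ≠ 0 := fun h => hu0 (by rw [h, div_zero])
  obtain ⟨n₁, hn₁⟩ := exists_nat_ord Q hs1 (Gd_bel d hF hdx hxa hyb hb A B).1
  obtain ⟨n₂, hn₂⟩ := exists_nat_ord Q hs2 (Gd_bel d hF hdx hxa hyb hb C' D).1
  obtain ⟨A₁, B₁, e1, u1⟩ := decomp hF hxa hyb hb n₁ A B hn₁
  obtain ⟨A₂, B₂, e2, u2⟩ := decomp hF hxa hyb hb n₂ C' D hn₂
  have hle : n₂ ≤ n₁ := by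
    rw [map_div₀, hn₁, hn₂, ← exp_sub, ← exp_zero, exp_le_exp] at hu
    omega
  obtain ⟨e, rfl⟩ := Nat.exists_eq_add_of_le hle
  have hwv := val_w_eq hyb hb
  have hw0 : y + algebraMap k K b ≠ 0 := by
    intro h; rw [h, map_zero] at hwv; exact zero_ne_one hwv
  have ht0 : x - algebraMap k K a ≠ 0 := by
    intro h; rw [h, map_zero] at hxa; exact (exp_ne_zero).symm hxa
  have hs2' : bel x y A₂ B₂ ≠ 0 := by
    intro h; rw [h, map_zero] at u2; exact zero_ne_one u2
  have key : bel x y A B / bel x y C' D =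
      ((x - algebraMap k K a) * (y + algebraMap k K b)⁻¹) ^ e * bel x y A₁ B₁ *
        (bel x y A₂ B₂)⁻¹ := by
    rw [div_eq_iff hs2]
    apply mul_right_cancel₀ (pow_ne_zero (n₂ + e) hw0)
    rw [e1]
    have h3 : ((x - algebraMap k K a) * (y + algebraMap k K b)⁻¹) ^ e * bel x y A₁ B₁ *
        (bel x y A₂ B₂)⁻¹ * bel x y C' D * (y + algebraMap k K b) ^ (n₂ + e) =
        ((x - algebraMap k K a) * (y + algebraMap k K b)⁻¹) ^ e * (y + algebraMap k K b) ^ e *
          bel x y A₁ B₁ * (bel x y A₂ B₂)⁻¹ * (bel x y C' D * (y + algebraMap k K b) ^ n₂) := by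
      ring
    rw [h3, e2, mul_pow, inv_pow]
    field_simp
    ring
  rw [key]
  have gt : Gd d Q (x - algebraMap k K a) := by
    have := Gd_bel d hF hdx hxa hyb hb (X - C a) 0
    simpa [bel] using this
  have gw : Gd d Q (y + algebraMap k K b) := by
    have := Gd_bel d hF hdx hxa hyb hb (C b) 1
    simpa [bel, add_comm] using this
  exact ((gt.mul (gw.inv hwv)).pow e |>.mul (Gd_bel d hF hdx hxa hyb hb A₁ B₁)).mul
    ((Gd_bel d hF hdx hxa hyb hb A₂ B₂).inv u2)

include hF hdx hxa hyb hb in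
theorem goodPl (htop : IntermediateField.adjoin k ({x, y} : Set K) = ⊤) : GoodPl d Q := by
  refine ⟨fun u hu => (Gd_of_le d hF hdx hxa hyb hb htop u hu).2, fun u n hu => ?_⟩
  have ht0 : x - algebraMap k K a ≠ 0 := by
    intro h; rw [h, map_zero] at hxa; exact (exp_ne_zero).symm hxa
  have hdt : d (x - algebraMap k K a) = 1 := by
    rw [map_sub, hdx, d.map_algebraMap, sub_zero]
  have hvt : Q.1 ((x - algebraMap k K a) ^ (n + 1)) = exp (-((n : ℤ) + 1)) := by
    rw [map_pow, hxa, zm0_exp_pow]; congr 1; push_cast; ring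
  have hu' : Q.1 (u / (x - algebraMap k K a) ^ (n + 1)) ≤ 1 := by
    rw [map_div₀, hvt, div_eq_mul_inv]
    calc Q.1 u * (exp (-((n : ℤ) + 1)))⁻¹ ≤ exp (-((n : ℤ) + 1)) * (exp (-((n : ℤ) + 1)))⁻¹ :=
          mul_le_mul' hu le_rfl
      _ = 1 := mul_inv_cancel₀ exp_ne_zero
  have hg := Gd_of_le d hF hdx hxa hyb hb htop _ hu'
  have hu_eq : u = (x - algebraMap k K a) ^ (n + 1) * (u / (x - algebraMap k K a) ^ (n + 1)) := by
    field_simp
  rw [hu_eq, d.leibniz, Derivation.leibniz_pow, hdt]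
  simp only [smul_eq_mul, nsmul_eq_mul, mul_one, Nat.add_one_sub_one]
  refine (Q.1.map_add _ _).trans (max_le ?_ ?_)
  · rw [map_mul, hvt]
    calc exp (-((n : ℤ) + 1)) * Q.1 (d (u / (x - algebraMap k K a) ^ (n + 1)))
        ≤ exp (-((n : ℤ) + 1)) * 1 := mul_le_mul' le_rfl hg.2
      _ ≤ exp (-(n : ℤ)) := by rw [mul_one, exp_le_exp]; omega
  · rw [map_mul, map_mul, map_pow, hxa, zm0_exp_pow]
    have hn1 : Q.1 ((n + 1 : ℕ) : K) ≤ 1 := by
      have : ((n + 1 : ℕ) : K) = algebraMap k K ((n + 1 : ℕ) : k) := by rw [map_natCast]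
      rw [this]; exact Q.2.1 _
    calc Q.1 (u / (x - algebraMap k K a) ^ (n + 1)) * (Q.1 ((n + 1 : ℕ) : K) * exp ((n : ℤ) * -1))
        ≤ 1 * (1 * exp ((n : ℤ) * -1)) := mul_le_mul' hg.1 (mul_le_mul' hn1 le_rfl)
      _ = exp (-(n : ℤ)) := by rw [one_mul, one_mul]; congr 1; ring

end Good

end Groth.Agent.Lib.Helper27Tors
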