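import Mathlib
import Groth.Agent.Lib.LeadFF17
import Groth.Agent.Lib.Helper27Tors3

/-! Endomorphisms of a function field with a Weierstrass model `y² = F(x)`. -/

namespace Groth.Agent.Lib.Helper27EllAut

open FunFld WithZero Groth.Agent.Lib.LeadFF Polynomial Groth.Agent.Lib.Helper27Tors

variable {k K : Type*} [Field k] [Field K] [Algebra k K]

lemma val_aeval_le_pow {Γ₀ : Type*} [LinearOrderedCommGroupWithZero Γ₀] {v : Valuation K Γ₀}
    (hk : TrivOn k v) {x : K} (hx : 1 ≤ v x) (A : k[X]) : v (aeval x A) ≤ v x ^ A.natDegree := by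
  rw [aeval_eq_sum_range]
  apply Valuation.map_sum_le
  intro i hi
  rw [Finset.mem_range] at hi
  rw [Algebra.smul_def, map_mul, map_pow]
  calc v (algebraMap k K (A.coeff i)) * v x ^ i ≤ 1 * v x ^ A.natDegree :=
        mul_le_mul' (hk.le_one _) (pow_le_pow_right₀ hx (by omega))
    _ = v x ^ A.natDegree := one_mul _

lemma val_aeval_pole {Γ₀ : Type*} [LinearOrderedCommGroupWithZero Γ₀] {v : Valuation K Γ₀}
    (hk : TrivOn k v) {x : K} (hx : 1 < v x) {A : k[X]} (hA : A ≠ 0) :
    v (aeval x A) = v x ^ A.natDegree := by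
  have h1 : aeval x A = aeval x A.eraseLead +
      algebraMap k K A.leadingCoeff * x ^ A.natDegree := by
    have := congrArg (aeval x) (eraseLead_add_C_mul_X_pow A)
    rw [map_add, map_mul, aeval_C, map_pow, aeval_X] at this
    exact this.symm
  have h2 : v (algebraMap k K A.leadingCoeff * x ^ A.natDegree) = v x ^ A.natDegree := by
    rw [map_mul, map_pow, hk _ (leadingCoeff_ne_zero.mpr hA), one_mul]
  rw [h1]
  by_cases he : A.eraseLead = 0
  · rw [he, map_zero, zero_add, h2]
  · have hlt : A.eraseLead.natDegree < A.natDegree := by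
      rcases eraseLead_natDegree_lt_or_eraseLead_eq_zero A with h | h
      · exact h
      · exact absurd h he
    rw [Valuation.map_add_eq_of_lt_right _ (by
      rw [h2]
      exact lt_of_le_of_lt (val_aeval_le_pow hk hx.le _) (pow_lt_pow_right₀ hx hlt)), h2]

/-- Uniqueness of the representation `A(x) + B(x) y`. -/
lemma bel_eq_zero {P : Place k K} {x y : K} (hvx : P.1 x = exp (2 : ℤ))
    (hvy : P.1 y = exp (3 : ℤ)) {A B : k[X]} (h : bel x y A B = 0) : A = 0 ∧ B = 0 := by
  have hx1 : 1 < P.1 x := by rw [hvx, ← exp_zero, exp_lt_exp]; norm_num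
  have hA : ∀ A : k[X], A ≠ 0 → P.1 (aeval x A) = exp ((2 * A.natDegree : ℕ) : ℤ) := by
    intro A hA
    rw [val_aeval_pole (place_trivOn P) hx1 hA, hvx, zm0_exp_pow]
    congr 1; push_cast; ring
  have hB : ∀ B : k[X], B ≠ 0 → P.1 (aeval x B * y) = exp ((2 * B.natDegree + 3 : ℕ) : ℤ) := by
    intro B hB
    rw [map_mul, hA B hB, hvy, ← exp_add]
    congr 1
  by_contra hne
  have h0 : P.1 (bel x y A B) = 0 := by rw [h, map_zero]
  unfold bel at h0
  by_cases hA0 : A = 0
  · have hB0 : B ≠ 0 := fun hB0 => hne ⟨hA0, hB0⟩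
    rw [hA0, map_zero, zero_add, hB B hB0] at h0
    exact exp_ne_zero h0
  · by_cases hB0 : B = 0
    · rw [hB0, map_zero, zero_mul, add_zero, hA A hA0] at h0
      exact exp_ne_zero h0
    · have hd : P.1 (aeval x A) ≠ P.1 (aeval x B * y) := by
        rw [hA A hA0, hB B hB0]
        intro h
        have := exp_injective h
        omega
      rw [Valuation.map_add_of_distinct_val _ hd, hA A hA0, hB B hB0] at h0
      rcases max_choice (exp ((2 * A.natDegree : ℕ) : ℤ) : WithZero (Multiplicative ℤ))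
        (exp ((2 * B.natDegree + 3 : ℕ) : ℤ)) with hm | hm
      · rw [hm] at h0; exact exp_ne_zero h0
      · rw [hm] at h0; exact exp_ne_zero h0

/-- The abstract coordinate ring maps to `K`. -/
noncomputable def phi {x y : K} {F : k[X]} (hF : y ^ 2 = aeval x F) :
    QuadraticAlgebra k[X] F 0 →ₐ[k] K where
  toFun z := bel x y z.re z.im
  map_one' := by simp [bel, QuadraticAlgebra.re_one, QuadraticAlgebra.im_one]
  map_mul' z w := by
    rw [QuadraticAlgebra.re_mul, QuadraticAlgebra.im_mul, bel_mul hF]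
    congr 1
    ring
  map_zero' := by simp [bel]
  map_add' z w := by rw [bel_add]; rfl
  commutes' c := by
    have h1 : (algebraMap k (QuadraticAlgebra k[X] F 0) c).re = C c := rfl
    have h2 : (algebraMap k (QuadraticAlgebra k[X] F 0) c).im = 0 := rfl
    rw [h1, h2]
    simp [bel]

lemma phi_apply {x y : K} {F : k[X]} (hF : y ^ 2 = aeval x F) (z : QuadraticAlgebra k[X] F 0) :
    phi hF z = bel x y z.re z.im := rfl

lemma phi_injective {P : Place k K} {x y : K} {F : k[X]} (hF : y ^ 2 = aeval x F)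
    (hvx : P.1 x = exp (2 : ℤ)) (hvy : P.1 y = exp (3 : ℤ)) : Function.Injective (phi hF) := by
  rw [injective_iff_map_eq_zero]
  intro z hz
  rw [phi_apply] at hz
  obtain ⟨h1, h2⟩ := bel_eq_zero hvx hvy hz
  exact QuadraticAlgebra.ext h1 h2

lemma algHom_ext_xy {x y : K} (hxy : IntermediateField.adjoin k ({x, y} : Set K) = ⊤)
    (f g : K →ₐ[k] K) (hx : f x = g x) (hy : f y = g y) : f = g := by
  ext z
  have hz : z ∈ IntermediateField.adjoin k ({x, y} : Set K) := by rw [hxy]; trivial
  induction hz using IntermediateField.adjoin_induction with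
  | mem z hz =>
    rcases hz with rfl | hz
    · exact hx
    · rw [Set.mem_singleton_iff.mp hz]; exact hy
  | algebraMap c => rw [f.commutes, g.commutes]
  | add a b _ _ ha hb => rw [map_add, map_add, ha, hb]
  | inv a _ ha => rw [map_inv₀, map_inv₀, ha]
  | mul a b _ _ ha hb => rw [map_mul, map_mul, ha, hb]

/-- Existence of an endomorphism with prescribed images of `x` and `y`. -/
theorem exists_algHom {P : Place k K} {x y : K} {F : k[X]} (hF : y ^ 2 = aeval x F)
    (hxy : IntermediateField.adjoin k ({x, y} : Set K) = ⊤)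
    (hvx : P.1 x = exp (2 : ℤ)) (hvy : P.1 y = exp (3 : ℤ))
    {x' y' : K} (hF' : y' ^ 2 = aeval x' F)
    (hvx' : P.1 x' = exp (2 : ℤ)) (hvy' : P.1 y' = exp (3 : ℤ)) :
    ∃ σ : K →ₐ[k] K, σ x = x' ∧ σ y = y' := by
  let _ : Algebra (QuadraticAlgebra k[X] F 0) K := (phi hF).toRingHom.toAlgebra
  have hmap : ∀ z, algebraMap (QuadraticAlgebra k[X] F 0) K z = phi hF z := fun z => rfl
  have hst : IsScalarTower k (QuadraticAlgebra k[X] F 0) K :=
    IsScalarTower.of_algebraMap_eq (fun c => by rw [hmap, (phi hF).commutes])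
  have hinj : Function.Injective (algebraMap (QuadraticAlgebra k[X] F 0) K) :=
    phi_injective hF hvx hvy
  have hfs : FaithfulSMul (QuadraticAlgebra k[X] F 0) K :=
    (faithfulSMul_iff_algebraMap_injective _ _).mpr hinj
  have hfr : IsFractionRing (QuadraticAlgebra k[X] F 0) K := by
    apply IsFractionRing.of_field
    intro z
    obtain ⟨A, B, C', D, rfl⟩ := exists_frac hF hxy z
    exact ⟨⟨A, B⟩, ⟨C', D⟩, rfl⟩
  refine ⟨IsFractionRing.liftAlgHom (g := phi hF') (phi_injective hF' hvx' hvy'), ?_, ?_⟩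
  · have : x = algebraMap (QuadraticAlgebra k[X] F 0) K ⟨X, 0⟩ := by
      rw [hmap, phi_apply]; simp [bel]
    rw [this, IsFractionRing.liftAlgHom_apply, IsFractionRing.lift_algebraMap]
    change phi hF' ⟨X, 0⟩ = x'
    rw [phi_apply]; simp [bel]
  · have : y = algebraMap (QuadraticAlgebra k[X] F 0) K ⟨0, 1⟩ := by
      rw [hmap, phi_apply]; simp [bel]
    rw [this, IsFractionRing.liftAlgHom_apply, IsFractionRing.lift_algebraMap]
    change phi hF' ⟨0, 1⟩ = y'
    rw [phi_apply]; simp [bel]

end Groth.Agent.Lib.Helper27EllAut
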