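import Mathlib
import Groth.Agent.Lib.LeadFF17
import Groth.Agent.Lib.Helper27EllAut1

/-! Automorphisms of an elliptic function field fixing the point at infinity. -/

namespace Groth.Agent.Lib.Helper27EllAut

open FunFld WithZero Groth.Agent.Lib.LeadFF Polynomial Groth.Agent.Lib.Helper27Tors

variable {k K : Type*} [Field k] [Field K] [Algebra k K]

lemma card_pow_eq_one (k : Type*) [Field k] [IsAlgClosed k] (n : ℕ) (hn : (n : k) ≠ 0) :
    Nat.card {u : k // u ^ n = 1} = n := by
  have : NeZero (n : k) := ⟨hn⟩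
  have hn0 : NeZero n := .of_neZero_natCast k
  have h := HasEnoughRootsOfUnity.natCard_rootsOfUnity k n
  have e : {u : k // u ^ n = 1} ≃ rootsOfUnity n k :=
    ((rootsOfUnityEquivNthRoots k n).trans (Equiv.subtypeEquivRight (fun x => by
      rw [mem_nthRoots (Nat.pos_of_ne_zero hn0.out)]))).symm
  rw [Nat.card_congr e, h]

/-- The place `Q ∘ σ`. -/
def placeComap (σ : K ≃ₐ[k] K) (Q : Place k K) : Place k K :=
  ⟨Q.1.comap (σ : K →+* K), by
    constructor
    · intro c
      rw [Valuation.comap_apply]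
      have : (σ : K →+* K) (algebraMap k K c) = algebraMap k K c := σ.commutes c
      rw [this]
      exact Q.2.1 c
    · intro g
      obtain ⟨z, hz⟩ := Q.2.2 g
      refine ⟨σ.symm z, ?_⟩
      rw [Valuation.comap_apply]
      have : (σ : K →+* K) (σ.symm z) = z := σ.apply_symm_apply z
      rw [this, hz]⟩

lemma placeComap_apply (σ : K ≃ₐ[k] K) (Q : Place k K) (z : K) :
    (placeComap σ Q).1 z = Q.1 (σ z) := rfl

lemma placeComap_ne {σ : K ≃ₐ[k] K} {P : Place k K} (hσ : ∀ z, P.1 (σ z) = P.1 z)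
    {Q : Place k K} (hQ : Q ≠ P) : placeComap σ Q ≠ P := by
  intro h
  apply hQ
  apply Subtype.ext
  ext z
  have h1 := placeComap_apply σ Q (σ.symm z)
  rw [h, σ.apply_symm_apply] at h1
  rw [← h1, ← hσ (σ.symm z), σ.apply_symm_apply]

lemma map_mem_L {σ : K ≃ₐ[k] K} {P : Place k K} (hσ : ∀ z, P.1 (σ z) = P.1 z) {n : ℤ} {z : K}
    (hz : z ∈ L (Finsupp.single P n : Divisor k K)) :
    σ z ∈ L (Finsupp.single P n : Divisor k K) := by
  rw [mem_L_single] at hz ⊢
  refine ⟨by rw [hσ]; exact hz.1, fun Q hQ => ?_⟩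
  rw [← placeComap_apply]
  exact hz.2 _ (placeComap_ne hσ hQ)

lemma mem_span_of_ell (hK : IsFunctionField k K) {D : Divisor k K} {n : ℕ} (e : Fin n → K)
    (he : ∀ i, e i ∈ L D) (hli : LinearIndependent k e) (hell : ell D = n) {w : K}
    (hw : w ∈ L D) : w ∈ Submodule.span k (Set.range e) := by
  have hfin := L_finite hK D
  have hle : Submodule.span k (Set.range e) ≤ L D := by
    rw [Submodule.span_le]
    rintro _ ⟨i, rfl⟩
    exact he i
  have h1 : Module.finrank k ↥(Submodule.span k (Set.range e)) = n := by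
    rw [finrank_span_eq_card hli, Fintype.card_fin]
  have h2 : Submodule.span k (Set.range e) = L D :=
    Submodule.eq_of_le_of_finrank_eq hle (by rw [h1]; exact hell.symm)
  rw [h2]; exact hw

end Groth.Agent.Lib.Helper27EllAut
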