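import Mathlib
import Groth.Agent.Lib.LeadFF17
import Groth.Agent.Lib.Helper27EllAut2

/-! Automorphisms of an elliptic function field `y² = x³ + a x + b` fixing infinity. -/

namespace Groth.Agent.Lib.Helper27EllAut

open FunFld WithZero Groth.Agent.Lib.LeadFF Polynomial Groth.Agent.Lib.Helper27Tors

variable {k K : Type*} [Field k] [Field K] [Algebra k K]

/-- The Weierstrass cubic. -/
noncomputable def Fp (a b : k) : k[X] := X ^ 3 + C a * X + C b

lemma cubic_coeffs {c3 c2 c1 c0 d3 d2 d1 d0 : k}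
    (h : C c3 * X ^ 3 + C c2 * X ^ 2 + C c1 * X + C c0 =
      C d3 * X ^ 3 + C d2 * X ^ 2 + C d1 * X + C d0) :
    c3 = d3 ∧ c2 = d2 ∧ c1 = d1 ∧ c0 = d0 := by
  refine ⟨?_, ?_, ?_, ?_⟩
  · have := congrArg (fun p => coeff p 3) h
    simpa [coeff_X_pow, coeff_X, coeff_C] using this
  · have := congrArg (fun p => coeff p 2) h
    simpa [coeff_X_pow, coeff_X, coeff_C] using this
  · have := congrArg (fun p => coeff p 1) h
    simpa [coeff_X_pow, coeff_X, coeff_C] using this
  · have := congrArg (fun p => coeff p 0) h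
    simpa [coeff_X_pow, coeff_X, coeff_C] using this

lemma bel_sub (x y : K) (A B C' D : k[X]) :
    bel x y A B - bel x y C' D = bel x y (A - C') (B - D) := by
  simp only [bel, map_sub]; ring

section Main

variable [IsAlgClosed k] (h2 : (2 : k) ≠ 0) (h3 : (3 : k) ≠ 0) (hK : IsFunctionField k K)
  (hgen : genus k K = 1) {P : Place k K} {a b : k} {x y : K}
  (heq : y ^ 2 = x ^ 3 + algebraMap k K a * x + algebraMap k K b)
  (hxy : IntermediateField.adjoin k ({x, y} : Set K) = ⊤)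
  (hx : x ∈ L (Finsupp.single P 2 : Divisor k K)) (hvx : P.1 x = exp (2 : ℤ))
  (hy : y ∈ L (Finsupp.single P 3 : Divisor k K)) (hvy : P.1 y = exp (3 : ℤ))

include heq in
omit [IsAlgClosed k] in
lemma hFp : y ^ 2 = aeval x (Fp a b) := by
  simp only [Fp, map_add, map_mul, map_pow, aeval_X, aeval_C]
  exact heq

include heq hxy hvx hvy in
omit [IsAlgClosed k] in
lemma exists_hom (u : k) (hu : u ≠ 0) (ha : a * u ^ 4 = a) (hb : b * u ^ 6 = b) :
    ∃ σ : K →ₐ[k] K, σ x = algebraMap k K (u ^ 2) * x ∧ σ y = algebraMap k K (u ^ 3) * y := by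
  apply exists_algHom (hFp heq) hxy hvx hvy ?_ ?_ ?_
  · simp only [Fp, map_add, map_mul, map_pow, aeval_X, aeval_C]
    rw [mul_pow, heq]
    have ha' : algebraMap k K a * algebraMap k K u ^ 6 =
        algebraMap k K a * algebraMap k K u ^ 2 := by
      rw [← map_pow, ← map_pow, ← map_mul, ← map_mul]
      congr 1
      calc a * u ^ 6 = (a * u ^ 4) * u ^ 2 := by ring
        _ = a * u ^ 2 := by rw [ha]
    have hb' : algebraMap k K b * algebraMap k K u ^ 6 = algebraMap k K b := by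
      rw [← map_pow, ← map_mul, hb]
    linear_combination x * ha' + hb'
  · rw [map_mul, place_trivOn P _ (pow_ne_zero 2 hu), one_mul, hvx]
  · rw [map_mul, place_trivOn P _ (pow_ne_zero 3 hu), one_mul, hvy]

include heq hxy hx hvx hvy in
omit [IsAlgClosed k] in
theorem exists_aut (u : k) (hu : u ≠ 0) (ha : a * u ^ 4 = a) (hb : b * u ^ 6 = b) :
    ∃ σ : K ≃ₐ[k] K, (∀ z, P.1 (σ z) = P.1 z) ∧ σ x = algebraMap k K (u ^ 2) * x ∧
      σ y = algebraMap k K (u ^ 3) * y := by
  obtain ⟨σ, hσx, hσy⟩ := exists_hom heq hxy hvx hvy u hu ha hb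
  have ha' : a * u⁻¹ ^ 4 = a := by
    rw [inv_pow, mul_inv_eq_iff_eq_mul₀ (pow_ne_zero 4 hu)]; exact ha.symm
  have hb' : b * u⁻¹ ^ 6 = b := by
    rw [inv_pow, mul_inv_eq_iff_eq_mul₀ (pow_ne_zero 6 hu)]; exact hb.symm
  obtain ⟨τ, hτx, hτy⟩ := exists_hom heq hxy hvx hvy u⁻¹ (inv_ne_zero hu) ha' hb'
  have hc2 : algebraMap k K (u⁻¹ ^ 2) * algebraMap k K (u ^ 2) = 1 := by
    rw [← map_mul, inv_pow, inv_mul_cancel₀ (pow_ne_zero 2 hu), map_one]
  have hc3 : algebraMap k K (u⁻¹ ^ 3) * algebraMap k K (u ^ 3) = 1 := by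
    rw [← map_mul, inv_pow, inv_mul_cancel₀ (pow_ne_zero 3 hu), map_one]
  have h₁ : σ.comp τ = AlgHom.id k K := by
    apply algHom_ext_xy hxy
    · rw [AlgHom.comp_apply, hτx, map_mul, σ.commutes, hσx, ← mul_assoc, hc2, one_mul]; rfl
    · rw [AlgHom.comp_apply, hτy, map_mul, σ.commutes, hσy, ← mul_assoc, hc3, one_mul]; rfl
  have h₂ : τ.comp σ = AlgHom.id k K := by
    apply algHom_ext_xy hxy
    · rw [AlgHom.comp_apply, hσx, map_mul, τ.commutes, hτx, ← mul_assoc, mul_comm _ (algebraMap k K (u⁻¹ ^ 2)),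
        hc2, one_mul]; rfl
    · rw [AlgHom.comp_apply, hσy, map_mul, τ.commutes, hτy, ← mul_assoc, mul_comm _ (algebraMap k K (u⁻¹ ^ 3)),
        hc3, one_mul]; rfl
  let e : K ≃ₐ[k] K := AlgEquiv.ofAlgHom σ τ h₁ h₂
  have hex : e x = algebraMap k K (u ^ 2) * x := hσx
  have hey : e y = algebraMap k K (u ^ 3) * y := hσy
  refine ⟨e, ?_, hex, hey⟩
  have hP' : placeComap e P = P := by
    by_contra hne
    have h1 := (mem_L_single.mp hx).2 _ hne
    rw [placeComap_apply, hex, map_mul, place_trivOn P _ (pow_ne_zero 2 hu), one_mul, hvx,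
      ← exp_zero, exp_le_exp] at h1
    norm_num at h1
  intro z
  rw [← placeComap_apply, hP']

include h2 h3 hK hgen heq hx hvx hy hvy in
theorem shape (σ : K ≃ₐ[k] K) (hσ : ∀ z, P.1 (σ z) = P.1 z) :
    ∃ u : k, u ≠ 0 ∧ a * u ^ 4 = a ∧ b * u ^ 6 = b ∧ σ x = algebraMap k K (u ^ 2) * x ∧
      σ y = algebraMap k K (u ^ 3) * y := by
  have hP := deg_eq_one_of_algClosed hK P
  have hell2 : ell (Finsupp.single P 2 : Divisor k K) = 2 := by
    have := ell_single_of_genus_one hK hgen hP 2 (by norm_num)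
    exact_mod_cast this
  have hell3 : ell (Finsupp.single P 3 : Divisor k K) = 3 := by
    have := ell_single_of_genus_one hK hgen hP 3 (by norm_num)
    exact_mod_cast this
  have hx0 : x ≠ 0 := by
    intro h; rw [h, map_zero] at hvx; exact (exp_ne_zero).symm hvx
  have hy0 : y ≠ 0 := by
    intro h; rw [h, map_zero] at hvy; exact (exp_ne_zero).symm hvy
  have hone : ∀ n : ℤ, 0 ≤ n → (1 : K) ∈ L (Finsupp.single P n : Divisor k K) := by
    intro n hn
    rw [mem_L_single]
    refine ⟨by rw [map_one, ← exp_zero, exp_le_exp]; exact hn, fun Q _ => by rw [map_one]⟩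
  have hx3 : x ∈ L (Finsupp.single P 3 : Divisor k K) := by
    rw [mem_L_single]
    refine ⟨by rw [hvx, exp_le_exp]; norm_num, (mem_L_single.mp hx).2⟩
  -- bases
  have hli2 : LinearIndependent k ![(1 : K), x] := by
    apply linearIndependent_of_val_injective (place_trivOn P)
    · intro i; fin_cases i
      · exact one_ne_zero
      · exact hx0
    · have hm : ∀ i : Fin 2, P.1 (![(1 : K), x] i) = exp ((![0, 2] : Fin 2 → ℤ) i) := by
        intro i; fin_cases i
        · simp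
        · simpa using hvx
      intro i j hij
      simp only [hm] at hij
      have := exp_injective hij
      revert this
      fin_cases i <;> fin_cases j <;> simp
  have hli3 : LinearIndependent k ![(1 : K), x, y] := by
    apply linearIndependent_of_val_injective (place_trivOn P)
    · intro i; fin_cases i
      · exact one_ne_zero
      · exact hx0
      · exact hy0
    · have hm : ∀ i : Fin 3, P.1 (![(1 : K), x, y] i) = exp ((![0, 2, 3] : Fin 3 → ℤ) i) := by
        intro i; fin_cases i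
        · simp
        · simpa using hvx
        · simpa using hvy
      intro i j hij
      simp only [hm] at hij
      have := exp_injective hij
      revert this
      fin_cases i <;> fin_cases j <;> simp
  have hs2 := mem_span_of_ell hK ![(1 : K), x] (by
      intro i; fin_cases i
      · exact hone 2 (by norm_num)
      · exact hx) hli2 hell2 (map_mem_L hσ hx)
  have hs3 := mem_span_of_ell hK ![(1 : K), x, y] (by
      intro i; fin_cases i
      · exact hone 3 (by norm_num)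
      · exact hx3
      · exact hy) hli3 hell3 (map_mem_L hσ hy)
  obtain ⟨c, hc⟩ := (Submodule.mem_span_range_iff_exists_fun k).mp hs2
  obtain ⟨d, hd⟩ := (Submodule.mem_span_range_iff_exists_fun k).mp hs3
  rw [Fin.sum_univ_two] at hc
  rw [Fin.sum_univ_three] at hd
  simp only [Matrix.cons_val_zero, Matrix.cons_val_one, Matrix.cons_val_two, Matrix.tail_cons,
    Matrix.head_cons, Algebra.smul_def, mul_one] at hc hd
  set β := c 0
  set α := c 1
  set ε := d 0
  set δ := d 1
  set γ := d 2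
  have hα : α ≠ 0 := by
    intro h0
    rw [h0, map_zero, zero_mul, add_zero] at hc
    have h1 := hσ x
    rw [← hc, hvx] at h1
    have h4 := P.2.1 β
    rw [h1, ← exp_zero, exp_le_exp] at h4
    norm_num at h4
  have hγ : γ ≠ 0 := by
    intro h0
    rw [h0, map_zero, zero_mul, add_zero] at hd
    have h1 := hσ y
    rw [← hd, hvy] at h1
    have h4 : P.1 (algebraMap k K ε + algebraMap k K δ * x) ≤ exp (2 : ℤ) := by
      refine (P.1.map_add _ _).trans (max_le ?_ ?_)
      · exact (P.2.1 ε).trans (by rw [← exp_zero, exp_le_exp]; norm_num)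
      · rw [map_mul, hvx]
        calc P.1 (algebraMap k K δ) * exp (2 : ℤ) ≤ 1 * exp (2 : ℤ) :=
              mul_le_mul' (P.2.1 δ) le_rfl
          _ = exp (2 : ℤ) := one_mul _
    rw [h1, exp_le_exp] at h4
    norm_num at h4
  -- polynomial form
  have hF := hFp heq
  have hsx : σ x = bel x y (C β + C α * X) 0 := by
    rw [← hc]; simp [bel]
  have hsy : σ y = bel x y (C ε + C δ * X) (C γ) := by
    rw [← hd]; simp [bel]
  have hrel : σ y ^ 2 = σ x ^ 3 + algebraMap k K a * σ x + algebraMap k K b := by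
    have := congrArg σ heq
    rwa [map_pow, map_add, map_add, map_mul, map_pow, σ.commutes, σ.commutes] at this
  have hL : σ y ^ 2 = bel x y ((C ε + C δ * X) * (C ε + C δ * X) + Fp a b * C γ * C γ)
      ((C ε + C δ * X) * C γ + C γ * (C ε + C δ * X)) := by
    rw [hsy, pow_two, bel_mul hF]
  have hR : σ x ^ 3 + algebraMap k K a * σ x + algebraMap k K b =
      bel x y ((C β + C α * X) ^ 3 + C a * (C β + C α * X) + C b) 0 := by
    rw [hsx]; simp [bel]
  rw [hL, hR, ← sub_eq_zero, bel_sub] at hrel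
  obtain ⟨hA, hB⟩ := bel_eq_zero hvx hvy hrel
  rw [sub_zero] at hB
  have hLp : C ε + C δ * X = (0 : k[X]) := by
    have h4 : C (2 * γ) * (C ε + C δ * X) = 0 := by
      rw [← hB, map_mul, map_ofNat]; ring
    rcases mul_eq_zero.mp h4 with h5 | h5
    · exact absurd (C_eq_zero.mp h5) (mul_ne_zero h2 hγ)
    · exact h5
  have hε : ε = 0 := by
    have := congrArg (fun p => coeff p 0) hLp
    simpa using this
  have hδ : δ = 0 := by
    have := congrArg (fun p => coeff p 1) hLp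
    simpa using this
  rw [hLp, zero_mul, zero_add, sub_eq_zero] at hA
  have hL' : Fp a b * C γ * C γ =
      C (γ ^ 2) * X ^ 3 + C 0 * X ^ 2 + C (γ ^ 2 * a) * X + C (γ ^ 2 * b) := by
    simp only [Fp, map_mul, map_pow, map_zero]; ring
  have hR' : (C β + C α * X) ^ 3 + C a * (C β + C α * X) + C b =
      C (α ^ 3) * X ^ 3 + C (3 * β * α ^ 2) * X ^ 2 + C (3 * β ^ 2 * α + a * α) * X +
        C (β ^ 3 + a * β + b) := by
    simp only [map_add, map_mul, map_pow, map_ofNat]; ring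
  rw [hL', hR'] at hA
  obtain ⟨e3, e2, e1, e0⟩ := cubic_coeffs hA
  have hβ : β = 0 := by
    have : 3 * α ^ 2 * β = 0 := by rw [show 3 * α ^ 2 * β = 3 * β * α ^ 2 by ring, ← e2]
    rcases mul_eq_zero.mp this with h5 | h5
    · exact absurd h5 (mul_ne_zero h3 (pow_ne_zero 2 hα))
    · exact h5
  rw [hβ] at e1 e0
  refine ⟨γ / α, div_ne_zero hγ hα, ?_, ?_, ?_, ?_⟩
  · -- a * (γ/α)^4 = a
    have h5 : a * α ^ 2 = a := by
      have h6 : a * α ^ 2 * α = a * α := by
        calc a * α ^ 2 * α = α ^ 3 * a := by ring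
          _ = γ ^ 2 * a := by rw [e3]
          _ = a * α := by rw [e1]; ring
      exact mul_right_cancel₀ hα h6
    have h7 : (γ / α) ^ 4 = α ^ 2 := by
      rw [div_pow, div_eq_iff (pow_ne_zero 4 hα)]
      calc γ ^ 4 = (γ ^ 2) ^ 2 := by ring
        _ = (α ^ 3) ^ 2 := by rw [e3]
        _ = α ^ 2 * α ^ 4 := by ring
    rw [h7, h5]
  · have h7 : (γ / α) ^ 6 = γ ^ 2 := by
      rw [div_pow, div_eq_iff (pow_ne_zero 6 hα)]
      calc γ ^ 6 = (γ ^ 2) ^ 2 * γ ^ 2 := by ring
        _ = (α ^ 3) ^ 2 * γ ^ 2 := by rw [e3]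
        _ = γ ^ 2 * α ^ 6 := by ring
    rw [h7]
    have : γ ^ 2 * b = b := by rw [e0]; ring
    rw [mul_comm]; exact this
  · have h7 : (γ / α) ^ 2 = α := by
      rw [div_pow, div_eq_iff (pow_ne_zero 2 hα), e3]; ring
    rw [h7, ← hc, hβ, map_zero, zero_add]
  · have h7 : (γ / α) ^ 3 = γ := by
      rw [div_pow, div_eq_iff (pow_ne_zero 3 hα)]
      calc γ ^ 3 = γ * γ ^ 2 := by ring
        _ = γ * α ^ 3 := by rw [e3]
    rw [h7, ← hd, hε, hδ, map_zero, zero_mul, zero_add, zero_add]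

include h2 h3 hK hgen heq hxy hx hvx hy hvy in
theorem card_aut :
    Nat.card {σ : K ≃ₐ[k] K // ∀ z : K, P.1 (σ z) = P.1 z} =
      Nat.card {u : k // u ≠ 0 ∧ a * u ^ 4 = a ∧ b * u ^ 6 = b} := by
  have hx0 : x ≠ 0 := by
    intro h; rw [h, map_zero] at hvx; exact (exp_ne_zero).symm hvx
  have hy0 : y ≠ 0 := by
    intro h; rw [h, map_zero] at hvy; exact (exp_ne_zero).symm hvy
  have hex : ∀ u : {u : k // u ≠ 0 ∧ a * u ^ 4 = a ∧ b * u ^ 6 = b},
      ∃ σ : {σ : K ≃ₐ[k] K // ∀ z : K, P.1 (σ z) = P.1 z},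
        σ.1 x = algebraMap k K (u.1 ^ 2) * x ∧ σ.1 y = algebraMap k K (u.1 ^ 3) * y := by
    intro u
    obtain ⟨σ, h1, h4, h5⟩ := exists_aut heq hxy hx hvx hvy u.1 u.2.1 u.2.2.1 u.2.2.2
    exact ⟨⟨σ, h1⟩, h4, h5⟩
  choose f hfx hfy using hex
  have hinj : Function.Injective f := by
    intro u u' huu
    have e2 : u.1 ^ 2 = u'.1 ^ 2 := by
      have h1 := hfx u
      rw [huu, hfx u'] at h1
      exact (algebraMap k K).injective (mul_right_cancel₀ hx0 h1).symm
    have e3 : u.1 ^ 3 = u'.1 ^ 3 := by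
      have h1 := hfy u
      rw [huu, hfy u'] at h1
      exact (algebraMap k K).injective (mul_right_cancel₀ hy0 h1).symm
    apply Subtype.ext
    have h4 : u.1 * u.1 ^ 2 = u'.1 * u.1 ^ 2 := by
      calc u.1 * u.1 ^ 2 = u.1 ^ 3 := by ring
        _ = u'.1 ^ 3 := e3
        _ = u'.1 * u'.1 ^ 2 := by ring
        _ = u'.1 * u.1 ^ 2 := by rw [e2]
    exact mul_right_cancel₀ (pow_ne_zero 2 u.2.1) h4
  have hsurj : Function.Surjective f := by
    intro σ
    obtain ⟨u, hu0, hua, hub, hsx, hsy⟩ := shape h2 h3 hK hgen heq hx hvx hy hvy σ.1 σ.2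
    refine ⟨⟨u, hu0, hua, hub⟩, ?_⟩
    apply Subtype.ext
    apply AlgEquiv.coe_toAlgHom_injective
    apply algHom_ext_xy hxy
    · change (f ⟨u, hu0, hua, hub⟩).1 x = σ.1 x
      rw [hfx, hsx]
    · change (f ⟨u, hu0, hua, hub⟩).1 y = σ.1 y
      rw [hfy, hsy]
  exact (Nat.card_congr (Equiv.ofBijective f ⟨hinj, hsurj⟩)).symm

end Main

section Count

variable [IsAlgClosed k] (h2 : (2 : k) ≠ 0) (h3 : (3 : k) ≠ 0) {a b : k}

include h2 h3 in
lemma card_U_six (ha : a = 0) (hb : b ≠ 0) :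
    Nat.card {u : k // u ≠ 0 ∧ a * u ^ 4 = a ∧ b * u ^ 6 = b} = 6 := by
  have h6 : ((6 : ℕ) : k) ≠ 0 := by
    have : ((6 : ℕ) : k) = 2 * 3 := by push_cast; norm_num
    rw [this]; exact mul_ne_zero h2 h3
  refine (Nat.card_congr (Equiv.subtypeEquivRight ?_)).trans (card_pow_eq_one k 6 h6)
  intro u
  constructor
  · rintro ⟨-, -, h⟩
    have : b * u ^ 6 = b * 1 := by rw [h, mul_one]
    exact mul_left_cancel₀ hb this
  · intro h
    refine ⟨?_, by rw [ha, zero_mul], by rw [h, mul_one]⟩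
    rintro rfl
    simp at h

include h2 in
lemma card_U_four (ha : a ≠ 0) (hb : b = 0) :
    Nat.card {u : k // u ≠ 0 ∧ a * u ^ 4 = a ∧ b * u ^ 6 = b} = 4 := by
  have h4 : ((4 : ℕ) : k) ≠ 0 := by
    have : ((4 : ℕ) : k) = 2 * 2 := by push_cast; norm_num
    rw [this]; exact mul_ne_zero h2 h2
  refine (Nat.card_congr (Equiv.subtypeEquivRight ?_)).trans (card_pow_eq_one k 4 h4)
  intro u
  constructor
  · rintro ⟨-, h, -⟩
    have : a * u ^ 4 = a * 1 := by rw [h, mul_one]
    exact mul_left_cancel₀ ha this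
  · intro h
    refine ⟨?_, by rw [h, mul_one], by rw [hb, zero_mul]⟩
    rintro rfl
    simp at h

include h2 in
lemma card_U_two (ha : a ≠ 0) (hb : b ≠ 0) :
    Nat.card {u : k // u ≠ 0 ∧ a * u ^ 4 = a ∧ b * u ^ 6 = b} = 2 := by
  have h2' : ((2 : ℕ) : k) ≠ 0 := by
    push_cast; exact h2
  refine (Nat.card_congr (Equiv.subtypeEquivRight ?_)).trans (card_pow_eq_one k 2 h2')
  intro u
  constructor
  · rintro ⟨hu, h4, h6⟩
    have e4 : u ^ 4 = 1 := by
      have : a * u ^ 4 = a * 1 := by rw [h4, mul_one]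
      exact mul_left_cancel₀ ha this
    have e6 : u ^ 6 = 1 := by
      have : b * u ^ 6 = b * 1 := by rw [h6, mul_one]
      exact mul_left_cancel₀ hb this
    calc u ^ 2 = u ^ 4 * u ^ 2 := by rw [e4, one_mul]
      _ = u ^ 6 := by ring
      _ = 1 := e6
  · intro h
    refine ⟨?_, ?_, ?_⟩
    · rintro rfl
      simp at h
    · have : u ^ 4 = (u ^ 2) ^ 2 := by ring
      rw [this, h, one_pow, mul_one]
    · have : u ^ 6 = (u ^ 2) ^ 3 := by ring
      rw [this, h, one_pow, mul_one]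

end Count

end Groth.Agent.Lib.Helper27EllAut
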