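import Groth.Agent.Lib.Helper23SecTw5

/-!
# Morphisms out of a module with local generators; epimorphisms from free modules (helper27)
-/

set_option autoImplicit false
universe u
open CategoryTheory Limits AlgebraicGeometry TopologicalSpace Opposite

namespace Groth.Agent.Lib.Helper27EpiGen
open Groth.Agent.Lib.Helper23.SecTw Groth.Agent.Lib.Helper23.GenLocus
  Groth.Agent.Lib.Helper23.Extend Groth.Agent.Lib.Helper6

variable {X : Scheme.{u}}

/-- two morphisms out of `L` agreeing on local generators of `L` agree. -/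
theorem hom_ext_of_isGen (L Z : X.Modules) {ι : Type*} (W : ι → X.Opens)
    (hcov : ∀ x : X, ∃ i, x ∈ W i) (a : ∀ i, Γ(L, W i)) (ha : ∀ i, IsGen L (W i) (a i))
    (g h : L ⟶ Z) (hgh : ∀ i, g.app (W i) (a i) = h.app (W i) (a i)) : g = h := by
  ext U m
  change g.app U m = h.app U m
  have hcovV : U ≤ ⨆ i, U ⊓ W i := by
    intro x hx
    obtain ⟨i, hi⟩ := hcov x
    exact Opens.mem_iSup.2 ⟨i, hx, hi⟩
  refine (modSheaf Z).eq_of_locally_eq' (fun i => U ⊓ W i) U (fun i => homOfLE inf_le_left) hcovV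
    _ _ (fun i => ?_)
  change res Z (inf_le_left : U ⊓ W i ≤ U) (g.app U m) = res Z inf_le_left (h.app U m)
  have h1 : ∀ k : L ⟶ Z, res Z (inf_le_left : U ⊓ W i ≤ U) (k.app U m) =
      coef (ha i) (inf_le_right : U ⊓ W i ≤ W i) (res L inf_le_left m) •
        res Z (inf_le_right : U ⊓ W i ≤ W i) (k.app (W i) (a i)) := by
    intro k
    have e1 : res Z (inf_le_left : U ⊓ W i ≤ U) (k.app U m) =
        k.app (U ⊓ W i) (res L inf_le_left m) := (app_map k (homOfLE inf_le_left) m).symm
    have e2 : res Z (inf_le_right : U ⊓ W i ≤ W i) (k.app (W i) (a i)) =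
        k.app (U ⊓ W i) (res L inf_le_right (a i)) := (app_map k (homOfLE inf_le_right) (a i)).symm
    rw [e1, e2, ← Scheme.Modules.Hom.app_smul, coef_spec]
  rw [h1 g, h1 h, hgh i]

/-- the morphism from a free module attached to a family of global sections is an epimorphism as
soon as, locally, one of the sections is a generator. -/
theorem epi_desc_secHom (L : X.Modules) {k : ℕ} (σ : Fin k → Γ(L, ⊤))
    (hcov : ∀ x : X, ∃ (i : Fin k) (W : X.Opens), x ∈ W ∧ IsGen L W (res L le_top (σ i))) :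
    Epi (Sigma.desc (fun i => secHom L (σ i)) : (∐ fun _ : Fin k => Coh.structureModule X) ⟶ L) := by
  refine ⟨fun {Z} g h hgh => ?_⟩
  have hi : ∀ i, secHom L (σ i) ≫ g = secHom L (σ i) ≫ h := by
    intro i
    have := congrArg (fun t => Sigma.ι (fun _ : Fin k => Coh.structureModule X) i ≫ t) hgh
    simpa using this
  refine hom_ext_of_isGen L Z
    (ι := {p : Fin k × X.Opens // IsGen L p.2 (res L le_top (σ p.1))})
    (fun p => p.1.2) (fun x => ?_) (fun p => res L le_top (σ p.1.1)) (fun p => p.2) g h (fun p => ?_)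
  · obtain ⟨i, W, hxW, hW⟩ := hcov x
    exact ⟨⟨(i, W), hW⟩, hxW⟩
  · have e : ∀ t : L ⟶ Z, t.app p.1.2 (res L le_top (σ p.1.1)) =
        (secHom L (σ p.1.1) ≫ t).app p.1.2 (toS p.1.2 1) := by
      intro t
      rw [← sv_secHom L (σ p.1.1) p.1.2, val_eq_app]
      rfl
    rw [e g, e h, hi]

end Groth.Agent.Lib.Helper27EpiGen
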