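import Groth.Agent.Lib.Helper27EpiGen2
import Groth.Agent.Lib.Helper23SecTw4

/-!
# Morphisms out of a module with the extension property on an affine cover (helper27)
-/

set_option autoImplicit false
universe u
open CategoryTheory Limits AlgebraicGeometry TopologicalSpace Opposite

namespace Groth.Agent.Lib.Helper27EpiGen
open Groth.Agent.Lib.Helper23.SecTw Groth.Agent.Lib.Helper23.GenLocus
  Groth.Agent.Lib.Helper23.Extend Groth.Agent.Lib.Helper6

variable {X : Scheme.{u}}

/-- two morphisms out of `F` agreeing on the sections over the members of an affine open cover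
agree, provided sections of `F` over basic opens extend after multiplication by a power. -/
theorem hom_ext_of_ext_cover (F Z : X.Modules) {ι : Type*}
    (W : ι → X.Opens) (hW : ∀ i, IsAffineOpen (W i)) (hcov : ∀ x : X, ∃ i, x ∈ W i)
    (hext : ∀ (i : ι) (f : Γ(X, W i)) (z : Γ(F, X.basicOpen f)), ∃ (n : ℕ) (t : Γ(F, W i)),
      F.presheaf.map (homOfLE (X.basicOpen_le f)).op t =
        (X.presheaf.map (homOfLE (X.basicOpen_le f)).op f) ^ n • z)
    (g h : F ⟶ Z) (hgh : ∀ i (m : Γ(F, W i)), g.app (W i) m = h.app (W i) m) : g = h := by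
  have key : ∀ (i : ι) (f : Γ(X, W i)) (z : Γ(F, X.basicOpen f)),
      g.app (X.basicOpen f) z = h.app (X.basicOpen f) z := by
    intro i f z
    obtain ⟨n, t, ht⟩ := hext i f z
    have hu : IsUnit ((X.presheaf.map (homOfLE (X.basicOpen_le f)).op f) ^ n) :=
      IsUnit.pow _ (X.toRingedSpace.isUnit_res_basicOpen f)
    have e1 : ∀ k : F ⟶ Z, (X.presheaf.map (homOfLE (X.basicOpen_le f)).op f) ^ n •
        k.app (X.basicOpen f) z =
        res Z (X.basicOpen_le f) (k.app (W i) t) := by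
      intro k
      rw [← Scheme.Modules.Hom.app_smul, ← ht]
      exact app_map k (homOfLE (X.basicOpen_le f)) t
    have e2 : (X.presheaf.map (homOfLE (X.basicOpen_le f)).op f) ^ n • g.app (X.basicOpen f) z =
        (X.presheaf.map (homOfLE (X.basicOpen_le f)).op f) ^ n • h.app (X.basicOpen f) z := by
      rw [e1 g, e1 h, hgh i t]
    obtain ⟨u, hu'⟩ := hu
    rw [← hu'] at e2
    have e3 := congrArg (fun w => (↑u⁻¹ : Γ(X, X.basicOpen f)) • w) e2
    simp only [smul_smul, Units.inv_mul, one_smul] at e3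
    exact e3
  ext U m
  change g.app U m = h.app U m
  have hcovU : U ≤ ⨆ p : {p : Σ i, Γ(X, W i) // X.basicOpen p.2 ≤ U}, X.basicOpen p.1.2 := by
    intro x hx
    obtain ⟨i, hi⟩ := hcov x
    obtain ⟨f, hfU, hxf⟩ := (hW i).exists_basicOpen_le (V := U) ⟨x, hx⟩ hi
    exact Opens.mem_iSup.2 ⟨⟨⟨i, f⟩, hfU⟩, hxf⟩
  refine (modSheaf Z).eq_of_locally_eq'
    (fun p : {p : Σ i, Γ(X, W i) // X.basicOpen p.2 ≤ U} => X.basicOpen p.1.2) U
    (fun p => homOfLE p.2) hcovU _ _ (fun p => ?_)
  change res Z p.2 (g.app U m) = res Z p.2 (h.app U m)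
  have e4 : ∀ k : F ⟶ Z, res Z p.2 (k.app U m) = k.app (X.basicOpen p.1.2) (res F p.2 m) :=
    fun k => (app_map k (homOfLE p.2) m).symm
  rw [e4 g, e4 h]
  exact key p.1.1 p.1.2 _

/-- the extension property passes to the tensor product with a module having a generator. -/
theorem ext_tensor_of_isGen (F L : X.Modules) {W : X.Opens} (e : Γ(L, W)) (he : IsGen L W e)
    (hext : ∀ (f : Γ(X, W)) (z : Γ(F, X.basicOpen f)), ∃ (n : ℕ) (t : Γ(F, W)),
      F.presheaf.map (homOfLE (X.basicOpen_le f)).op t =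
        (X.presheaf.map (homOfLE (X.basicOpen_le f)).op f) ^ n • z)
    (f : Γ(X, W)) (z : Γ(CohB1.tensorMod F L, X.basicOpen f)) :
    ∃ (n : ℕ) (t : Γ(F, W)),
      (CohB1.tensorMod F L).presheaf.map (homOfLE (X.basicOpen_le f)).op (tm F L W t e) =
        (X.presheaf.map (homOfLE (X.basicOpen_le f)).op f) ^ n • z := by
  obtain ⟨m, hm⟩ := (bijective_tm_of_isGen F L W e he (X.basicOpen f) (X.basicOpen_le f)).2 z
  obtain ⟨n, t, ht⟩ := hext f m
  refine ⟨n, t, ?_⟩
  change res (CohB1.tensorMod F L) (X.basicOpen_le f) (tm F L W t e) = _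
  rw [res_tm]
  change tm F L _ (F.presheaf.map (homOfLE (X.basicOpen_le f)).op t) _ = _
  rw [ht, tm_smul_left]
  congr 1

end Groth.Agent.Lib.Helper27EpiGen
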