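import Groth.Prelude.Def_W4c5stcicurvesp3Euclid
import Mathlib.Tactic

set_option autoImplicit false

namespace Groth.Agent.Lib.Helper27

open W4c5stcicurvesp3

theorem irem_zero (a b : ℕ) : irem a b 0 = b := by
  simp [irem]

theorem irem_one (a b : ℕ) : irem a b 1 = a % b := by
  simp [irem]

theorem irem_add_two (a b n : ℕ) :
    irem a b (n + 2) = if irem a b (n + 1) = 0 then 0 else irem a b n % irem a b (n + 1) := by
  rw [irem]

theorem idiv_zero (a b : ℕ) : idiv a b 0 = 0 := by
  simp [idiv]

theorem idiv_one (a b : ℕ) : idiv a b 1 = a / b := by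
  simp [idiv]

theorem idiv_add_two (a b n : ℕ) :
    idiv a b (n + 2) = if irem a b (n + 1) = 0 then 0 else irem a b n / irem a b (n + 1) := by
  rw [idiv]

/-- shift: the remainders of `(a, b)` from index one on are the remainders of `(b, a % b)`. -/
theorem irem_succ_eq (a b : ℕ) (h : a % b ≠ 0) (n : ℕ) :
    irem a b (n + 1) = irem b (a % b) n := by
  induction n using Nat.strong_induction_on with
  | _ n ih =>
    match n with
    | 0 => simp [irem]
    | 1 =>
      rw [irem_add_two, irem_one, irem_zero, irem_one, if_neg]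
      simpa [irem_one] using h
    | (m + 2) =>
      rw [irem_add_two a b (m + 1), irem_add_two b (a % b) m, ih (m + 1) (by omega), ih m (by omega)]

theorem idiv_succ_eq (a b : ℕ) (h : a % b ≠ 0) (n : ℕ) (hn : 0 < n) :
    idiv a b (n + 1) = idiv b (a % b) n := by
  match n, hn with
  | 1, _ =>
    rw [idiv_add_two, idiv_one, irem_zero, irem_one, if_neg h]
  | (m + 2), _ =>
    rw [idiv_add_two a b (m + 1), idiv_add_two b (a % b) m, irem_succ_eq a b h (m + 1),
      irem_succ_eq a b h m]

end Groth.Agent.Lib.Helper27
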