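import Groth.Agent.Lib.Helper17GrSysCoh

/-!
# The kernel system of a morphism of graded systems (helper27)

* `SysHom F F'`: a morphism of graded systems (helper17's `GrSys.Sys`);
* `kerMap γ`: the kernel system, with the induced operators;
* `kerMap_FT`: on a Noetherian scheme, the kernel system of a morphism from a system of finite type
  of coherent modules is of finite type (Hilbert's basis theorem for graded systems).
-/

set_option autoImplicit false
set_option linter.style.haveILetI false
set_option linter.unusedSectionVars false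
universe v u
open CategoryTheory Limits AlgebraicGeometry TopologicalSpace Opposite

namespace Groth.Agent.Lib.Helper27GrSysKerMap

open Groth.Agent.Lib.Helper17.GrSys Groth.Agent.Lib.Helper17.GrSysCoh
  Groth.Agent.Lib.Helper23.QCohLocal
  Groth.Agent.Lib.Helper23.FinType Groth.Agent.Lib.Helper23.Extend Groth.Agent.Lib.Helper4.Dev

section General

variable {C : Type u} [Category.{v} C] [Abelian C] {r : ℕ}

/-- a morphism of graded systems. -/
structure SysHom (F F' : Sys C r) where
  app : ∀ n, F.obj n ⟶ F'.obj n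
  comm : ∀ i n, F.T i n ≫ app (n + 1) = app n ≫ F'.T i n

/-- the kernel system of a morphism of graded systems. -/
noncomputable abbrev kerMap {F F' : Sys C r} (γ : SysHom F F') : Sys C r where
  obj n := kernel (γ.app n)
  T i n := kernel.map (γ.app n) (γ.app (n + 1)) (F.T i n) (F'.T i n) (γ.comm i n).symm
  comm i j n := by
    rw [← cancel_mono (kernel.ι _)]
    simp only [Category.assoc, kernel.lift_ι, kernel.lift_ι_assoc]
    rw [F.comm]

@[reassoc]
theorem kerMapT_ι {F F' : Sys C r} (γ : SysHom F F') (i : Fin r) (n : ℕ) :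
    (kerMap γ).T i n ≫ kernel.ι (γ.app (n + 1)) = kernel.ι (γ.app n) ≫ F.T i n :=
  kernel.lift_ι _ _ _

end General

section Coh

variable {X : Scheme.{u}} [IsNoetherian X] {r : ℕ}

/-- **Hilbert's basis theorem for morphisms of systems of coherent modules**: the kernel system of
a morphism out of a system of finite type of coherent modules is of finite type. -/
theorem kerMap_FT {F F' : Sys X.Modules r} (γ : SysHom F F') (hF : ∀ n, Coh.IsCoh (F.obj n))
    (hF' : ∀ n, (F'.obj n).IsQuasicoherent) (h : F.FT) : (kerMap γ).FT := by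
  obtain ⟨n₀, hn₀⟩ := h
  haveI hq : ∀ n, (F.obj n).IsQuasicoherent := fun n => (hF n).1
  haveI hq' : ∀ n, (F'.obj n).IsQuasicoherent := hF'
  haveI hqk : ∀ n, ((kerMap γ).obj n).IsQuasicoherent := fun n => isQuasicoherent_kernel (γ.app n)
  have hcov : IsOpenCover (fun V : X.affineOpens => (V : X.Opens)) := iSup_affineOpens_eq_top X
  obtain ⟨s, hs⟩ := hcov.exists_finite_of_compactSpace
  have key : ∀ V : X.affineOpens, ∃ n₁, ∀ n, n₁ ≤ n → ∀ σ : Γ((kerMap γ).obj (n + 1), V.1),
      ∃ y : ∀ i : Fin r, Γ((kerMap γ).obj n, V.1),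
        σ = ∑ i, ((kerMap γ).T i n).app V.1 (y i) := by
    intro V
    haveI : IsNoetherianRing Γ(X, V.1) := IsLocallyNoetherian.component_noetherian V
    haveI : ∀ n, Module.Finite Γ(X, V.1) Γ(F.obj n, V.1) := fun n => by
      haveI := (hF n).2
      exact finite_of_isFiniteType (F.obj n) V.2
    obtain ⟨n₁, hn₁⟩ := Groth.Agent.Lib.Helper17.GrHB.hilbert_basis (A := Γ(X, V.1))
      (fun n => Γ(F.obj n, V.1)) (fun j n => appL (F.T j n) V.1)
      (fun i j n x => by
        simp only [appL_apply]
        rw [← app_comp_apply, ← app_comp_apply, F.comm])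
      ⟨n₀, fun n hn x => exists_sections_of_JE (fun j => F.T j n) (fun _ => hq n) (hn₀ n hn) V.2 x⟩
      (fun n => LinearMap.ker (appL (γ.app n) V.1))
      (fun j n x hx => by
        rw [LinearMap.mem_ker] at hx ⊢
        simp only [appL_apply] at hx ⊢
        rw [← app_comp_apply, γ.comm, app_comp_apply, hx, map_zero])
    refine ⟨n₁, fun n hn σ => ?_⟩
    have hx : (kernel.ι (γ.app (n + 1))).app V.1 σ ∈
        LinearMap.ker (appL (γ.app (n + 1)) V.1) := by
      rw [LinearMap.mem_ker, appL_apply, ← app_comp_apply, kernel.condition]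
      rfl
    obtain ⟨y, hy, e⟩ := hn₁ n hn _ hx
    have hz : ∀ i : Fin r, ∃ z : Γ((kerMap γ).obj n, V.1),
        (kernel.ι (γ.app n)).app V.1 z = y i := fun i => by
      have h0 : appL (γ.app n) V.1 (y i) = 0 := LinearMap.mem_ker.1 (hy i)
      exact exists_app_kernel_ι (γ.app n) V.1 (y i) h0
    choose z hz using hz
    refine ⟨z, ?_⟩
    apply injective_app_of_mono (kernel.ι (γ.app (n + 1))) V.1
    rw [e, map_sum]
    refine Finset.sum_congr rfl (fun i _ => ?_)
    rw [appL_apply, ← hz i, ← app_comp_apply, ← app_comp_apply, kerMapT_ι]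
  choose n₁ hn₁ using key
  refine ⟨s.sup n₁, fun n hn => ?_⟩
  refine je_of_sections (fun i => (kerMap γ).T i n) (fun _ => hqk n)
    (fun V : s => (V.1 : X.Opens)) hs
    (fun V => V.1.2) (fun V σ => hn₁ V.1 n ((Finset.le_sup V.2).trans hn) σ)

end Coh

end Groth.Agent.Lib.Helper27GrSysKerMap
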