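import Groth.Agent.Lib.Helper27FormalKer
import Groth.Agent.Lib.Helper27GrSysKerMap

/-!
# Morphisms of adic inverse systems and their kernels (helper27)

For a morphism `ρ : E ⟶ G` of inverse systems satisfying `Helper27FormalKer.Hyp` (with respect to
the same ideal `I`), which is an epimorphism on each level:

* `γ ρ n : K E n ⟶ K G n`, the induced (epi)morphism on the kernels of the transition maps,
  compatible with the operators of the kernel systems (`kerSysHom`);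
* `H ρ n = ker (ρ_n)`, with transition maps `tH ρ n : H ρ (n+1) ⟶ H ρ n`, which are epimorphisms
  (`epi_tH`), with kernels `N ρ n = ker (γ ρ n)` (`shortExact_H`);
* `liftH`: multiplication by `a ∈ I` on `H ρ (n+1)` factors through `tH ρ n`.
-/

set_option autoImplicit false
set_option linter.style.haveILetI false
set_option linter.unusedSectionVars false
universe u
open CategoryTheory Limits AlgebraicGeometry TopologicalSpace Opposite

namespace Groth.Agent.Lib.Helper27FormalMap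

open Groth.Agent.Lib.Helper17.GrSys Groth.Agent.Lib.Helper17.IAdic
  Groth.Agent.Lib.Helper27FormalKer Groth.Agent.Lib.Helper27GrSysKerMap

variable {A : Type u} [CommRing A] {X : Scheme.{u}} [X.Over (Spec (CommRingCat.of A))]
  {I : Ideal A} {E G : ℕᵒᵖ ⥤ X.Modules} (hE : Hyp I E) (hG : Hyp I G) (ρ : E ⟶ G)

/-- the component of `ρ` at level `n`. -/
abbrev ρn (n : ℕ) : E.obj (op n) ⟶ G.obj (op n) := ρ.app (op n)

theorem tr_ρ (n : ℕ) : tr E n ≫ ρn ρ n = ρn ρ (n + 1) ≫ tr G n :=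
  ρ.naturality _

/-- the induced map on the kernels of the transition maps. -/
noncomputable def γ (n : ℕ) : K E n ⟶ K G n :=
  kernel.map (tr E n) (tr G n) (ρn ρ (n + 1)) (ρn ρ n) (tr_ρ ρ n)

@[reassoc]
theorem γ_ι (n : ℕ) : γ ρ n ≫ Kι G n = Kι E n ≫ ρn ρ (n + 1) :=
  kernel.lift_ι _ _ _

theorem lift_ρ (n : ℕ) (a : A) (ha : a ∈ I) :
    lift hE n a ha ≫ ρn ρ (n + 1) = ρn ρ n ≫ lift hG n a ha := by
  haveI := epi_tr hE n
  rw [← cancel_epi (tr E n), tr_lift_assoc, ← Category.assoc, tr_ρ, Category.assoc, tr_lift,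
    comp_smulMod]

theorem γ_T (n : ℕ) (a : A) (ha : a ∈ I) :
    T hE n a ha ≫ γ ρ (n + 1) = γ ρ n ≫ T hG n a ha := by
  rw [← cancel_mono (Kι G (n + 1)), Category.assoc, Category.assoc, γ_ι,
    Groth.Agent.Lib.Helper27FormalKer.T_ι, Groth.Agent.Lib.Helper27FormalKer.T_ι_assoc,
    γ_ι_assoc, lift_ρ hE hG ρ (n + 1) a ha]

theorem toK_γ (n : ℕ) (c : A) (hc : c ∈ I ^ (n + 1)) :
    toK hE n c hc ≫ γ ρ n = ρn ρ (n + 1) ≫ toK hG n c hc := by
  rw [← cancel_mono (Kι G n), Category.assoc, Category.assoc, γ_ι, toK_ι, toK_ι_assoc,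
    comp_smulMod]

include hE hG in
theorem epi_γ (n : ℕ) [Epi (ρn ρ (n + 1))] : Epi (γ ρ n) := by
  refine ⟨fun {Z} g h w => ?_⟩
  apply K_hom_ext hG n
  intro c hc
  rw [← cancel_epi (ρn ρ (n + 1)), ← Category.assoc, ← Category.assoc, ← toK_γ hE hG ρ n c hc,
    Category.assoc, Category.assoc, w]

variable {r : ℕ} (a : Fin r → A) (ha : ∀ i, a i ∈ I)

/-- `γ` as a morphism of graded systems. -/
noncomputable def kerSysHom : SysHom (kerSys hE a ha) (kerSys hG a ha) where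
  app n := γ ρ n
  comm i n := γ_T hE hG ρ n (a i) (ha i)

/-- the kernel of `ρ` at level `n`. -/
noncomputable abbrev H (n : ℕ) : X.Modules := kernel (ρn ρ n)

/-- the inclusion `H_n ⟶ E_n`. -/
noncomputable abbrev Hι (n : ℕ) : H ρ n ⟶ E.obj (op n) := kernel.ι (ρn ρ n)

/-- the transition maps of the kernels. -/
noncomputable def tH (n : ℕ) : H ρ (n + 1) ⟶ H ρ n :=
  kernel.map (ρn ρ (n + 1)) (ρn ρ n) (tr E n) (tr G n) (tr_ρ ρ n).symm

@[reassoc]
theorem tH_ι (n : ℕ) : tH ρ n ≫ Hι ρ n = Hι ρ (n + 1) ≫ tr E n :=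
  kernel.lift_ι _ _ _

include hE hG in
theorem epi_tH (n : ℕ) [Epi (ρn ρ (n + 1))] : Epi (tH ρ n) := by
  haveI := epi_tr hE n
  haveI := epi_γ hE hG ρ n
  rw [epi_iff_surjective_up_to_refinements]
  intro T₀ y
  obtain ⟨T₁, e₁, he₁, z, hz⟩ := surjective_up_to_refinements_of_epi (tr E n) (y ≫ Hι ρ n)
  have h0 : (z ≫ ρn ρ (n + 1)) ≫ tr G n = 0 := by
    rw [Category.assoc, ← tr_ρ, ← Category.assoc, ← hz, Category.assoc, Category.assoc,
      kernel.condition, comp_zero, comp_zero]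
  obtain ⟨T₂, e₂, he₂, z', hz'⟩ := surjective_up_to_refinements_of_epi (γ ρ n)
    (kernel.lift (tr G n) (z ≫ ρn ρ (n + 1)) h0)
  have h1 : (e₂ ≫ z - z' ≫ Kι E n) ≫ ρn ρ (n + 1) = 0 := by
    rw [Preadditive.sub_comp, Category.assoc, Category.assoc, ← γ_ι, ← Category.assoc z', ← hz',
      Category.assoc, kernel.lift_ι, sub_self]
  refine ⟨T₂, e₂ ≫ e₁, inferInstance, kernel.lift (ρn ρ (n + 1)) _ h1, ?_⟩
  rw [← cancel_mono (Hι ρ n), Category.assoc, Category.assoc, Category.assoc, tH_ι,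
    kernel.lift_ι_assoc, Preadditive.sub_comp, Category.assoc, Category.assoc, kernel.condition,
    comp_zero, sub_zero, ← hz]

/-- the kernel of `γ` at level `n`. -/
noncomputable abbrev N (n : ℕ) : X.Modules := kernel (γ ρ n)

/-- the inclusion `N_n ⟶ H_{n+1}`. -/
noncomputable def jN (n : ℕ) : N ρ n ⟶ H ρ (n + 1) :=
  kernel.lift (ρn ρ (n + 1)) (kernel.ι (γ ρ n) ≫ Kι E n) (by
    rw [Category.assoc, ← γ_ι, kernel.condition_assoc, zero_comp])

@[reassoc]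
theorem jN_ι (n : ℕ) : jN ρ n ≫ Hι ρ (n + 1) = kernel.ι (γ ρ n) ≫ Kι E n :=
  kernel.lift_ι _ _ _

instance mono_jN (n : ℕ) : Mono (jN ρ n) := by
  haveI : Mono (jN ρ n ≫ Hι ρ (n + 1)) := by
    rw [jN_ι]
    exact mono_comp _ _
  exact mono_of_mono (jN ρ n) (Hι ρ (n + 1))

@[reassoc]
theorem jN_tH (n : ℕ) : jN ρ n ≫ tH ρ n = 0 := by
  rw [← cancel_mono (Hι ρ n), Category.assoc, tH_ι, jN_ι_assoc, kernel.condition,
    comp_zero, zero_comp]

/-- `0 ⟶ N_n ⟶ H_{n+1} ⟶ H_n ⟶ 0`. -/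
noncomputable abbrev sesH (n : ℕ) : ShortComplex X.Modules :=
  ShortComplex.mk (jN ρ n) (tH ρ n) (jN_tH ρ n)

include hE hG in
theorem shortExact_H (n : ℕ) [Epi (ρn ρ (n + 1))] : (sesH ρ n).ShortExact := by
  haveI := epi_tH hE hG ρ n
  refine { exact := ?_, mono_f := mono_jN ρ n, epi_g := inferInstanceAs (Epi (tH ρ n)) }
  refine ShortComplex.exact_of_f_is_kernel _ ?_
  refine KernelFork.IsLimit.ofι _ _
    (fun {W} (g : W ⟶ H ρ (n + 1)) (hg : g ≫ tH ρ n = 0) =>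
      kernel.lift (γ ρ n) (kernel.lift (tr E n) (g ≫ Hι ρ (n + 1)) (by
        rw [Category.assoc, ← tH_ι, ← Category.assoc, hg, zero_comp])) (by
        rw [← cancel_mono (Kι G n), Category.assoc, γ_ι, kernel.lift_ι_assoc, Category.assoc,
          kernel.condition, comp_zero, zero_comp]))
    (fun g hg => ?_) (fun g hg m hm => ?_)
  · rw [← cancel_mono (Hι ρ (n + 1)), Category.assoc, jN_ι, kernel.lift_ι_assoc, kernel.lift_ι]
  · rw [← cancel_mono (jN ρ n), ← cancel_mono (Hι ρ (n + 1))]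
    simp only [Category.assoc, jN_ι, kernel.lift_ι_assoc, kernel.lift_ι]
    rw [← jN_ι, ← Category.assoc, hm]

/-- multiplication by `a ∈ I` on `H_{n+1}` factors through `H_{n+1} ⟶ H_n`. -/
noncomputable def liftH (n : ℕ) (a : A) (ha : a ∈ I) : H ρ n ⟶ H ρ (n + 1) :=
  kernel.lift (ρn ρ (n + 1)) (Hι ρ n ≫ lift hE n a ha) (by
    rw [Category.assoc, lift_ρ hE hG ρ n a ha, kernel.condition_assoc, zero_comp])

@[reassoc]
theorem liftH_ι (n : ℕ) (a : A) (ha : a ∈ I) :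
    liftH hE hG ρ n a ha ≫ Hι ρ (n + 1) = Hι ρ n ≫ lift hE n a ha :=
  kernel.lift_ι _ _ _

theorem tH_liftH (n : ℕ) (a : A) (ha : a ∈ I) :
    tH ρ n ≫ liftH hE hG ρ n a ha = Formal.smulMod A (H ρ (n + 1)) a := by
  rw [← cancel_mono (Hι ρ (n + 1)), Category.assoc, liftH_ι, tH_ι_assoc, tr_lift, comp_smulMod]

/-- the operator `N_n ⟶ N_{n+1}` induced by multiplication by `a ∈ I`. -/
noncomputable def TN (n : ℕ) (a : A) (ha : a ∈ I) : N ρ n ⟶ N ρ (n + 1) :=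
  kernel.map (γ ρ n) (γ ρ (n + 1)) (T hE n a ha) (T hG n a ha) (γ_T hE hG ρ n a ha).symm

@[reassoc]
theorem TN_ι (n : ℕ) (a : A) (ha : a ∈ I) :
    TN hE hG ρ n a ha ≫ kernel.ι (γ ρ (n + 1)) = kernel.ι (γ ρ n) ≫ T hE n a ha :=
  kernel.lift_ι _ _ _

theorem TN_jN (n : ℕ) (a : A) (ha : a ∈ I) :
    TN hE hG ρ n a ha ≫ jN ρ (n + 1) = jN ρ n ≫ liftH hE hG ρ (n + 1) a ha := by
  rw [← cancel_mono (Hι ρ (n + 1 + 1)), Category.assoc, Category.assoc, jN_ι, liftH_ι,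
    jN_ι_assoc, TN_ι_assoc, Groth.Agent.Lib.Helper27FormalKer.T_ι]

/-- the graded system `(N_n)_n`. -/
noncomputable abbrev NSys : Sys X.Modules r where
  obj n := N ρ n
  T i n := TN hE hG ρ n (a i) (ha i)
  comm i j n := (kerMap (kerSysHom hE hG ρ a ha)).comm i j n

theorem NSys_FT [IsNoetherian X] (hcE : ∀ n, Coh.IsCoh (K E n))
    (hqG : ∀ n, (K G n).IsQuasicoherent) (hFT : (kerSys hE a ha).FT) :
    (NSys hE hG ρ a ha).FT :=
  kerMap_FT (kerSysHom hE hG ρ a ha) hcE hqG hFT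

end Groth.Agent.Lib.Helper27FormalMap
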