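import Groth.Agent.Lib.Helper27CompatEpi
import Groth.Agent.Lib.Helper27FormalMap
import Groth.Agent.Lib.Helper17FFaith9
import Groth.Agent.S0051

/-!
# Grothendieck's existence theorem for a proper scheme with an ample invertible module (helper27)

Let `A` be a Noetherian ring complete for an ideal `I`, `X` proper over `Spec A` carrying an ample
invertible module `L`.  Then every coherent formal module `(G_n)` on `X` is isomorphic to the
completion `(M / I^(n+1) M)` of a coherent module `M` (`exists_algebraization`).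

Steps:
* `exists_epi_completion`: there are a coherent `E₀` and a levelwise epimorphism
  `ρ : (E₀ / I^(n+1) E₀) ⟶ (G_n)`;
* `exists_epi_kernels`: there are a coherent `E₁` and compatible epimorphisms `E₁ ⟶ ker ρ_n`
  (the graded module `⊕ ker (ker ρ_{n+1} ⟶ ker ρ_n)` is of finite type by Hilbert's basis theorem,
  which gives uniform vanishing and a Nakayama property);
* `exists_of_presentation`: full faithfulness of completion (helper17) algebraizes
  `Ê₁ ⟶ Ê₀`, and `M` is its cokernel.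
-/

set_option autoImplicit false
set_option linter.style.haveILetI false
set_option linter.unusedSectionVars false
universe u
open CategoryTheory Limits AlgebraicGeometry TopologicalSpace Opposite

namespace Groth.Agent.Lib.Helper27ExistProj

open Groth.Agent.Lib.Helper17.GrSys Groth.Agent.Lib.Helper17.IAdic
  Groth.Agent.Lib.Helper17.FlatDev Groth.Agent.Lib.Helper27FormalKer
  Groth.Agent.Lib.Helper27ComplHyp Groth.Agent.Lib.Helper27FormalMap
  Groth.Agent.Lib.Helper27CompatEpi Groth.Agent.Lib.Helper27GrSysVan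
  Groth.Agent.Lib.Helper27FinSurjAmple Groth.Agent.Lib.Helper27TowerStep
  Groth.Agent.Lib.Helper27FibreVan Groth.Agent.Lib.Helper4.Dev

section Desc

variable {A : Type u} [CommRing A] {X : Scheme.{u}} [X.Over (Spec (CommRingCat.of A))]

theorem smulFamily_comp_of_killed (J : Ideal A) {M N : X.Modules} (f : M ⟶ N)
    (hN : Formal.KilledBy J N) : Formal.smulFamily J M ≫ f = 0 := by
  apply Sigma.hom_ext
  intro b
  rw [comp_zero, ← Category.assoc, ι_smulFamily, ← comp_smulMod, hN b.1 b.2, comp_zero]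

/-- a morphism to a module killed by `J` factors through `M / J M`. -/
noncomputable def descK (J : Ideal A) {M N : X.Modules} (f : M ⟶ N)
    (hN : Formal.KilledBy J N) : Q J M ⟶ N :=
  cokernel.desc _ f (smulFamily_comp_of_killed J f hN)

@[reassoc (attr := simp)]
theorem πQ_descK (J : Ideal A) {M N : X.Modules} (f : M ⟶ N) (hN : Formal.KilledBy J N) :
    πQ J M ≫ descK J f hN = f :=
  cokernel.π_desc _ _ _

theorem killedBy_of_mono {J : Ideal A} {M N : X.Modules} (i : M ⟶ N) [Mono i]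
    (h : Formal.KilledBy J N) : Formal.KilledBy J M := by
  intro b hb
  rw [← cancel_mono i, zero_comp, ← comp_smulMod, h b hb, comp_zero]

theorem shortExact_of_eq {C : Type*} [Category C] [HasZeroMorphisms C] {X₁ X₂ X₃ : C}
    (f : X₁ ⟶ X₂) (g g' : X₂ ⟶ X₃) (w : f ≫ g = 0) (e : g' = g)
    (h : (ShortComplex.mk f g w).ShortExact) :
    (ShortComplex.mk f g' (by rw [e]; exact w)).ShortExact := by
  subst e
  exact h

/-- the Nakayama property for a system satisfying `Hyp`. -/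
theorem nc_of_hyp {I : Ideal A} {G : ℕᵒᵖ ⥤ X.Modules} (hG : Hyp I G) (k : ℕ) {E : X.Modules}
    (v' : E ⟶ G.obj (op (k + 1))) (h : Epi (v' ≫ tr G k)) : Epi v' :=
  epi_of_epi_comp (I := I) (ShortComplex.mk (Kι G k) (tr G k) (kernel.condition _))
    (shortExact_K hG k) (k + 1 + 1) (hG.killed (k + 1))
    (ι := {c : A // c ∈ I ^ (k + 1)}) (Y := fun _ => G.obj (op (k + 1)))
    (fun c => toK hG k c.1 c.2)
    (fun Z g hg => K_hom_ext hG k (fun c hc => by rw [hg ⟨c, hc⟩, comp_zero]))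
    (fun _ => tr G k) (fun c => lift hG k c.1 (Ideal.pow_le_self (Nat.succ_ne_zero k) c.2))
    (fun c => c.1) (fun c => Ideal.pow_le_self (Nat.succ_ne_zero k) c.2)
    (fun c => by rw [toK_ι, tr_lift]) (fun c => tr_lift hG k c.1 _) v' h

end Desc

section Step1

variable {A : Type u} [CommRing A] [IsNoetherianRing A] (I : Ideal A) {X : Scheme.{u}}
  [X.Over (Spec (CommRingCat.of A))] [IsProper (X ↘ Spec (CommRingCat.of A))]
  (L : X.Modules) (hL : CohB1.IsAmple L)

include hL in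
/-- a coherent formal module is levelwise a quotient of the completion of a coherent module. -/
theorem exists_epi_completion {G : ℕᵒᵖ ⥤ X.Modules} (hG : Formal.IsCohFormal I G) :
    ∃ (𝓔 : X.Modules) (ρ : Formal.completion I 𝓔 ⟶ G), Coh.IsCoh 𝓔 ∧
      ∀ n, Epi (ρ.app (op n)) := by
  haveI : IsLocallyNoetherian X :=
    LocallyOfFiniteType.isLocallyNoetherian (X ↘ Spec (CommRingCat.of A))
  haveI : CompactSpace X := QuasiCompact.compactSpace_of_compactSpace (X ↘ Spec (CommRingCat.of A))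
  haveI : IsNoetherian X := { }
  have hfg : I.FG := (isNoetherianRing_iff_ideal_fg A).1 inferInstance I
  obtain ⟨r, a, ha⟩ := Submodule.fg_iff_exists_fin_generating_family.1 hfg
  have hspan : I = Ideal.span (Set.range a) := ha.symm
  have haI : ∀ i, a i ∈ I := fun i => by
    rw [hspan]; exact Ideal.subset_span ⟨i, rfl⟩
  have hH := hyp_of_isCohFormal hG
  have hSV : ∀ M : X.Modules, Coh.IsCoh M → SV L M :=
    (Groth.Agent.S0051.result A X (X ↘ Spec (CommRingCat.of A)) L hL.1).1 hL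
  obtain ⟨d₀, hd₀⟩ := usv_of_FT L hL.1 hSV (kerSys hH a haI) (isCoh_K hG.1)
    (kerSys_FT hH a haI hspan)
  obtain ⟨𝓔, w, hcE, hw, hwe⟩ := exists_coh_compatible_epi L hL G 0 (hG.1 0)
    (fun k => K G k) (fun k => Kι G k) (fun k => kernel.condition _) (fun k => shortExact_K hH k)
    ⟨d₀, fun d hd k => hd₀ d hd k 1 one_pos⟩ (fun k _ {E} v' h => nc_of_hyp hH k v' h)
  let ρn : ∀ k, Formal.modPow I (k + 1) 𝓔 ⟶ G.obj (op k) := fun k =>
    descK (I ^ (k + 1)) (w k) (hH.killed k)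
  have hρ : ∀ k, Formal.modPowπ I (k + 1) 𝓔 ≫ ρn k = w k := fun k => πQ_descK _ _ _
  have hnat : ∀ k, Formal.modPowTrans I (k + 1) 𝓔 ≫ ρn k = ρn (k + 1) ≫ tr G k := by
    intro k
    rw [← cancel_epi (Formal.modPowπ I (k + 1 + 1) 𝓔), ← Category.assoc, Formal.modPowπ_trans,
      hρ k, ← Category.assoc, hρ (k + 1)]
    exact (hw k).symm
  refine ⟨𝓔, NatTrans.ofOpSequence (F := Formal.completion I 𝓔) (G := G) ρn (fun k => ?_), hcE,
    fun k => ?_⟩
  · refine Eq.trans ?_ (hnat k)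
    exact congrArg (fun t => t ≫ ρn k) (tr_completion I 𝓔 k)
  · haveI := hwe k
    haveI : Epi (Formal.modPowπ I (k + 1) 𝓔 ≫ ρn k) := by rw [hρ k]; infer_instance
    exact epi_of_epi (Formal.modPowπ I (k + 1) 𝓔) (ρn k)

end Step1

section Step2

variable {A : Type u} [CommRing A] [IsNoetherianRing A] (I : Ideal A) {X : Scheme.{u}}
  [X.Over (Spec (CommRingCat.of A))] [IsProper (X ↘ Spec (CommRingCat.of A))]
  (L : X.Modules) (hL : CohB1.IsAmple L)

include hL in
/-- the kernels of a levelwise epimorphism from the completion of a coherent module onto a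
coherent formal module receive compatible epimorphisms from a single coherent module. -/
theorem exists_epi_kernels {G : ℕᵒᵖ ⥤ X.Modules} (hG : Formal.IsCohFormal I G) (𝓔₀ : X.Modules)
    (h₀ : Coh.IsCoh 𝓔₀) (ρ : Formal.completion I 𝓔₀ ⟶ G) (hρ : ∀ n, Epi (ρ.app (op n))) :
    ∃ (𝓔₁ : X.Modules) (w : ∀ k, 𝓔₁ ⟶ H ρ k), Coh.IsCoh 𝓔₁ ∧
      (∀ k, w (k + 1) ≫ tH ρ k = w k) ∧ ∀ k, Epi (w k) := by
  haveI : IsLocallyNoetherian X :=
    LocallyOfFiniteType.isLocallyNoetherian (X ↘ Spec (CommRingCat.of A))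
  haveI : CompactSpace X := QuasiCompact.compactSpace_of_compactSpace (X ↘ Spec (CommRingCat.of A))
  haveI : IsNoetherian X := { }
  have hfg : I.FG := (isNoetherianRing_iff_ideal_fg A).1 inferInstance I
  obtain ⟨r, a, ha⟩ := Submodule.fg_iff_exists_fin_generating_family.1 hfg
  have hspan : I = Ideal.span (Set.range a) := ha.symm
  have haI : ∀ i, a i ∈ I := fun i => by
    rw [hspan]; exact Ideal.subset_span ⟨i, rfl⟩
  have hE := hyp_completion I 𝓔₀
  have hH := hyp_of_isCohFormal hG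
  have hSV : ∀ M : X.Modules, Coh.IsCoh M → SV L M :=
    (Groth.Agent.S0051.result A X (X ↘ Spec (CommRingCat.of A)) L hL.1).1 hL
  have hEcoh : ∀ n, Coh.IsCoh ((Formal.completion I 𝓔₀).obj (op n)) := fun n =>
    isCoh_quot (I ^ (n + 1)) 𝓔₀ h₀
  have hcKE : ∀ n, Coh.IsCoh (K (Formal.completion I 𝓔₀) n) := isCoh_K hEcoh
  have hcKG : ∀ n, Coh.IsCoh (K G n) := isCoh_K hG.1
  haveI : ∀ n, Epi (ρn ρ n) := hρ
  have hFT := NSys_FT hE hH ρ a haI hcKE (fun n => (hcKG n).1) (kerSys_FT hE a haI hspan)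
  have hcN : ∀ n, Coh.IsCoh ((NSys hE hH ρ a haI).obj n) := fun n =>
    isCoh_kernel (γ ρ n) (hcKE n) (hcKG n)
  obtain ⟨d₀, hd₀⟩ := usv_of_FT L hL.1 hSV (NSys hE hH ρ a haI) hcN hFT
  obtain ⟨n₀, hn₀⟩ := hFT
  let Hs : ℕᵒᵖ ⥤ X.Modules := Functor.ofOpSequence (tH ρ)
  have htr : ∀ k, tr Hs k = tH ρ k := fun k => Functor.ofOpSequence_map_homOfLE_succ _ k
  have hcH : ∀ k, Coh.IsCoh (H ρ k) := fun k => isCoh_kernel (ρn ρ k) (hEcoh k) (hG.1 k)
  obtain ⟨𝓔₁, w, hc1, hw, hwe⟩ := exists_coh_compatible_epi L hL Hs (n₀ + 1) (hcH (n₀ + 1))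
    (fun k => N ρ k) (fun k => jN ρ k) (fun k => by rw [htr]; exact jN_tH ρ k)
    (fun k => shortExact_of_eq (jN ρ k) (tH ρ k) (tr Hs k) (jN_tH ρ k) (htr k)
      (shortExact_H hE hH ρ k))
    ⟨d₀, fun d hd k => hd₀ d hd k 1 one_pos⟩
    (fun k hk {E} v' h => by
      obtain ⟨n, rfl⟩ : ∃ n, k = n + 1 := ⟨k - 1, by omega⟩
      have hn : n₀ ≤ n := by omega
      have h' : Epi (v' ≫ tH ρ (n + 1)) := by rw [← htr (n + 1)]; exact h
      exact epi_of_epi_comp (I := I) (sesH ρ (n + 1)) (shortExact_H hE hH ρ (n + 1))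
        (n + 1 + 1 + 1) (killedBy_of_mono (Hι ρ (n + 1 + 1)) (hE.killed (n + 1 + 1)))
        (ι := Fin r) (Y := fun _ => N ρ n) (fun i => TN hE hH ρ n (a i) (haI i)) (hn₀ n hn)
        (fun _ => jN ρ n) (fun i => liftH hE hH ρ (n + 1) (a i) (haI i)) a haI
        (fun i => TN_jN hE hH ρ n (a i) (haI i))
        (fun i => tH_liftH hE hH ρ (n + 1) (a i) (haI i)) v' h')
  exact ⟨𝓔₁, w, hc1, fun k => by rw [← htr]; exact hw k, hwe⟩

end Step2

section Step3

variable {A : Type u} [CommRing A] [IsNoetherianRing A] (I : Ideal A) [IsAdicComplete I A]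
  {X : Scheme.{u}} [X.Over (Spec (CommRingCat.of A))] [IsProper (X ↘ Spec (CommRingCat.of A))]

theorem isProperOver_of_isClosed (Z : Set X) (hZ : IsClosed Z) :
    ClSub.IsProperOver (X ↘ Spec (CommRingCat.of A)) Z :=
  ⟨hZ, inferInstance⟩

/-- full faithfulness of completion on a proper scheme (existence part). -/
theorem exists_hom_of_completion (M N : X.Modules) (hM : Coh.IsCoh M) (hN : Coh.IsCoh N)
    (ψ : Formal.completion I M ⟶ Formal.completion I N) :
    ∃ φ : M ⟶ N, ∀ n : ℕ,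
      Formal.modPowπ I (n + 1) M ≫ ψ.app (op n) = φ ≫ Formal.modPowπ I (n + 1) N := by
  haveI : IsLocallyNoetherian X :=
    LocallyOfFiniteType.isLocallyNoetherian (X ↘ Spec (CommRingCat.of A))
  have hcl : IsClosed (CohB1.support M ∩ CohB1.support N) :=
    (isClosed_support M hM).inter (isClosed_support N hN)
  obtain ⟨φ, hφ, -⟩ := Groth.Agent.Lib.Helper17.FFaith.existsUnique_of_properInter I M N hM hN
    (isProperOver_of_isClosed _ hcl) ψ
  exact ⟨φ, hφ⟩

/-- a coherent formal module with a presentation by completions of coherent modules is the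
completion of a coherent module. -/
theorem exists_of_presentation {G : ℕᵒᵖ ⥤ X.Modules} (hG : Hyp I G) (𝓔₀ 𝓔₁ : X.Modules)
    (h₀ : Coh.IsCoh 𝓔₀) (h₁ : Coh.IsCoh 𝓔₁) (ρ : Formal.completion I 𝓔₀ ⟶ G)
    (hρ : ∀ n, Epi (ρ.app (op n))) (w : ∀ k, 𝓔₁ ⟶ H ρ k)
    (hw : ∀ k, w (k + 1) ≫ tH ρ k = w k) (hwe : ∀ k, Epi (w k)) :
    ∃ M : X.Modules, Coh.IsCoh M ∧ Nonempty (Formal.completion I M ≅ G) := by
  haveI : IsLocallyNoetherian X :=
    LocallyOfFiniteType.isLocallyNoetherian (X ↘ Spec (CommRingCat.of A))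
  have hE := hyp_completion I 𝓔₀
  haveI : ∀ n, Epi (ρn ρ n) := hρ
  haveI := hwe
  -- the levels of `ρ`, with explicit types
  let ρ' : ∀ k, Formal.modPow I (k + 1) 𝓔₀ ⟶ G.obj (op k) := fun k => ρn ρ k
  let ι' : ∀ k, H ρ k ⟶ Formal.modPow I (k + 1) 𝓔₀ := fun k => Hι ρ k
  have hιρ : ∀ k, ι' k ≫ ρ' k = 0 := fun k => kernel.condition _
  have htrρ : ∀ k, Formal.modPowTrans I (k + 1) 𝓔₀ ≫ ρ' k = ρ' (k + 1) ≫ tr G k := fun k =>
    (congrArg (fun t => t ≫ ρ' k) (tr_completion I 𝓔₀ k)).symm.trans (tr_ρ ρ k)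
  have htHι : ∀ k, tH ρ k ≫ ι' k = ι' (k + 1) ≫ Formal.modPowTrans I (k + 1) 𝓔₀ := fun k =>
    (tH_ι ρ k).trans (congrArg (fun t => ι' (k + 1) ≫ t) (tr_completion I 𝓔₀ k))
  -- the morphism of completions
  let σn : ∀ k, Formal.modPow I (k + 1) 𝓔₁ ⟶ Formal.modPow I (k + 1) 𝓔₀ := fun k =>
    descK (I ^ (k + 1)) (w k ≫ ι' k) (hE.killed k)
  have hσ : ∀ k, Formal.modPowπ I (k + 1) 𝓔₁ ≫ σn k = w k ≫ ι' k := fun k => πQ_descK _ _ _
  have hσnat : ∀ k, Formal.modPowTrans I (k + 1) 𝓔₁ ≫ σn k =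
      σn (k + 1) ≫ Formal.modPowTrans I (k + 1) 𝓔₀ := by
    intro k
    rw [← cancel_epi (Formal.modPowπ I (k + 1 + 1) 𝓔₁), ← Category.assoc, Formal.modPowπ_trans,
      hσ k, ← Category.assoc, hσ (k + 1), Category.assoc, ← htHι k, ← Category.assoc, hw k]
  let σ : Formal.completion I 𝓔₁ ⟶ Formal.completion I 𝓔₀ :=
    NatTrans.ofOpSequence (F := Formal.completion I 𝓔₁) (G := Formal.completion I 𝓔₀) σn
      (fun k => by
        refine Eq.trans ?_ ((hσnat k).trans ?_)
        · exact congrArg (fun t => t ≫ σn k) (tr_completion I 𝓔₁ k)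
        · exact (congrArg (fun t => σn (k + 1) ≫ t) (tr_completion I 𝓔₀ k)).symm)
  obtain ⟨φ, hφ⟩ := exists_hom_of_completion I 𝓔₁ 𝓔₀ h₁ h₀ σ
  have hφ' : ∀ k, w k ≫ ι' k = φ ≫ Formal.modPowπ I (k + 1) 𝓔₀ := fun k =>
    (hσ k).symm.trans (hφ k)
  -- the cokernel
  refine ⟨cokernel φ, isCoh_cokernel φ h₁ h₀, ?_⟩
  let c : 𝓔₀ ⟶ cokernel φ := cokernel.π φ
  have hφc : φ ≫ c = 0 := cokernel.condition φ
  -- forward maps
  have hm : ∀ k, φ ≫ Formal.modPowπ I (k + 1) 𝓔₀ ≫ ρ' k = 0 := by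
    intro k
    rw [← Category.assoc, ← hφ' k, Category.assoc, hιρ k, comp_zero]
  let m : ∀ k, cokernel φ ⟶ G.obj (op k) := fun k =>
    cokernel.desc φ (Formal.modPowπ I (k + 1) 𝓔₀ ≫ ρ' k) (hm k)
  have hcm : ∀ k, c ≫ m k = Formal.modPowπ I (k + 1) 𝓔₀ ≫ ρ' k := fun k => cokernel.π_desc _ _ _
  let f : ∀ k, Formal.modPow I (k + 1) (cokernel φ) ⟶ G.obj (op k) := fun k =>
    descK (I ^ (k + 1)) (m k) (hG.killed k)
  have hf : ∀ k, Formal.modPowπ I (k + 1) (cokernel φ) ≫ f k = m k := fun k => πQ_descK _ _ _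
  -- backward maps
  let qf : ∀ k, Formal.modPow I (k + 1) 𝓔₀ ⟶ Formal.modPow I (k + 1) (cokernel φ) := fun k =>
    Qf (I ^ (k + 1)) c
  have hπQf : ∀ k, Formal.modPowπ I (k + 1) 𝓔₀ ≫ qf k =
      c ≫ Formal.modPowπ I (k + 1) (cokernel φ) := fun k => πQ_Qf _ c
  have hb : ∀ k, ι' k ≫ qf k = 0 := by
    intro k
    rw [← cancel_epi (w k), comp_zero, ← Category.assoc, hφ' k, Category.assoc, hπQf k,
      ← Category.assoc, hφc, zero_comp]
  let g : ∀ k, G.obj (op k) ⟶ Formal.modPow I (k + 1) (cokernel φ) := fun k =>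
    (Abelian.epiIsCokernelOfKernel _ (kernelIsKernel (ρn ρ k))).desc
      (CokernelCofork.ofπ (qf k) (hb k))
  have hg : ∀ k, ρ' k ≫ g k = qf k := fun k =>
    (Abelian.epiIsCokernelOfKernel _ (kernelIsKernel (ρn ρ k))).fac
      (CokernelCofork.ofπ (qf k) (hb k)) WalkingParallelPair.one
  have hfg : ∀ k, f k ≫ g k = 𝟙 _ := by
    intro k
    rw [← cancel_epi (Formal.modPowπ I (k + 1) (cokernel φ)), ← cancel_epi c,
      ← Category.assoc (Formal.modPowπ I (k + 1) (cokernel φ)), hf k, ← Category.assoc, hcm k,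
      Category.assoc, hg k, hπQf k, Category.comp_id]
  have hgf : ∀ k, g k ≫ f k = 𝟙 _ := by
    intro k
    haveI : Epi (ρ' k) := hρ k
    rw [← cancel_epi (ρ' k), ← cancel_epi (Formal.modPowπ I (k + 1) 𝓔₀), ← Category.assoc (ρ' k),
      hg k, ← Category.assoc, hπQf k, Category.assoc, hf k, hcm k, Category.comp_id]
  have hfnat : ∀ k, Formal.modPowTrans I (k + 1) (cokernel φ) ≫ f k = f (k + 1) ≫ tr G k := by
    intro k
    rw [← cancel_epi (Formal.modPowπ I (k + 1 + 1) (cokernel φ)), ← cancel_epi c,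
      ← Category.assoc (Formal.modPowπ I (k + 1 + 1) (cokernel φ)), Formal.modPowπ_trans, hf k,
      hcm k, ← Category.assoc (Formal.modPowπ I (k + 1 + 1) (cokernel φ)), hf (k + 1),
      ← Category.assoc, hcm (k + 1), Category.assoc, ← htrρ k, ← Category.assoc,
      Formal.modPowπ_trans]
  let fN : Formal.completion I (cokernel φ) ⟶ G :=
    NatTrans.ofOpSequence (F := Formal.completion I (cokernel φ)) (G := G) f (fun k => by
      refine Eq.trans ?_ (hfnat k)
      exact congrArg (fun t => t ≫ f k) (tr_completion I (cokernel φ) k))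
  haveI : ∀ Y : ℕᵒᵖ, IsIso (fN.app Y) := fun Y => by
    induction Y using Opposite.rec with
    | _ k => exact ⟨⟨g k, hfg k, hgf k⟩⟩
  haveI : IsIso fN := NatIso.isIso_of_isIso_app fN
  exact ⟨asIso fN⟩

end Step3

section Main

variable {A : Type u} [CommRing A] [IsNoetherianRing A] (I : Ideal A) [IsAdicComplete I A]
  {X : Scheme.{u}} [X.Over (Spec (CommRingCat.of A))] [IsProper (X ↘ Spec (CommRingCat.of A))]

/-- **Grothendieck's existence theorem** for a proper scheme over a complete Noetherian ring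
carrying an ample invertible module: every coherent formal module is algebraizable. -/
theorem exists_algebraization (L : X.Modules) (hL : CohB1.IsAmple L) (G : ℕᵒᵖ ⥤ X.Modules)
    (hG : Formal.IsCohFormal I G) :
    ∃ M : X.Modules, Coh.IsCoh M ∧ Nonempty (Formal.completion I M ≅ G) := by
  obtain ⟨𝓔₀, ρ, h₀, hρ⟩ := exists_epi_completion I L hL hG
  obtain ⟨𝓔₁, w, h₁, hw, hwe⟩ := exists_epi_kernels I L hL hG 𝓔₀ h₀ ρ hρ
  exact exists_of_presentation I (hyp_of_isCohFormal hG) 𝓔₀ 𝓔₁ h₀ h₁ ρ hρ w hw hwe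

end Main

end Groth.Agent.Lib.Helper27ExistProj
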