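import Groth.Agent.Lib.Helper27DualRes
import Groth.Prelude.Def_KLin
import Mathlib.Algebra.Homology.DerivedCategory.Ext.Linear

/-!
# Helper27: the duality map as a linear map (for `X` over `Spec A`)

* `HHlin_add`, `HHlin_smul` : `φ ↦ H^r(φ)` is `A`-linear in `φ` (for `KLin.linearOver`);
* `dualityLin ω N t M : (M ⟶ ω) →ₗ[A] (H^N(X, M))^*`;
* `dualityEquiv` : it is an equivalence when `IsDual A ω N t M`;
* `extZeroEquiv` : the same for `Ext^0(M, ω)`; `extZeroEquiv_comp` its naturality.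
-/

set_option autoImplicit false
universe u
open CategoryTheory Limits AlgebraicGeometry TopologicalSpace Opposite Abelian

namespace Groth.Agent.Lib.Helper27ExtDual1

open Groth.Agent.Lib.Helper27DualRes Groth.Agent.Lib.Helper27CoprodFin
  Groth.Agent.Lib.Helper23.QCohLocal

variable {A : Type u} [CommRing A] {X : Scheme.{u}} [X.Over (Spec (CommRingCat.of A))]

theorem HHlin_add {M N : X.Modules} (φ ψ : M ⟶ N) (r : ℕ) (x : Coh.HH X M r) :
    Canon.HHlin A (φ + ψ) r x = Canon.HHlin A φ r x + Canon.HHlin A ψ r x :=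
  map_add (evalH (N := N) r (x : Sheaf.H ((toAbF X).obj M) r)) φ ψ

theorem HHlin_smulMod (M : X.Modules) (a : A) (r : ℕ) (x : Coh.HH X M r) :
    Canon.HHlin A (Formal.smulMod A M a) r x = a • x := rfl

theorem HHlin_smul {M N : X.Modules} (a : A) (φ : M ⟶ N) (r : ℕ) (x : Coh.HH X M r) :
    Canon.HHlin A (a • φ) r x = a • Canon.HHlin A φ r x := by
  rw [KLin.smul_def, HHlin_comp, HHlin_smulMod, map_smul]

variable (ω : X.Modules) (N : ℕ) (t : Coh.HH X ω N →ₗ[A] A)

/-- the duality map `φ ↦ t ∘ H^N(φ)`, as an `A`-linear map. -/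
noncomputable def dualityLin (M : X.Modules) :
    (M ⟶ ω) →ₗ[A] Module.Dual A (Coh.HH X M N) where
  toFun φ := t ∘ₗ Canon.HHlin A φ N
  map_add' φ ψ := by
    apply LinearMap.ext
    intro x
    simp only [LinearMap.comp_apply, LinearMap.add_apply]
    rw [HHlin_add, map_add]
  map_smul' a φ := by
    apply LinearMap.ext
    intro x
    simp only [LinearMap.comp_apply, LinearMap.smul_apply, RingHom.id_apply]
    rw [HHlin_smul, map_smul]

theorem dualityLin_apply (M : X.Modules) (φ : M ⟶ ω) (x : Coh.HH X M N) :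
    dualityLin ω N t M φ x = t (Canon.HHlin A φ N x) := rfl

variable {ω N t}

theorem dualityLin_bijective {M : X.Modules} (h : IsDual A ω N t M) :
    Function.Bijective (dualityLin ω N t M) := by
  constructor
  · intro φ φ' hφ
    obtain ⟨φ₀, _, hu⟩ := h (dualityLin ω N t M φ)
    have h1 : φ = φ₀ := hu φ (fun x => rfl)
    have h2 : φ' = φ₀ := hu φ' (fun x => by rw [hφ]; rfl)
    rw [h1, h2]
  · intro ψ
    obtain ⟨φ, hφ, _⟩ := h ψ
    refine ⟨φ, ?_⟩
    apply LinearMap.ext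
    intro x
    exact (hφ x).symm

/-- the duality equivalence `Hom(M, ω) ≃ (H^N(X, M))^*`. -/
noncomputable def dualityEquiv {M : X.Modules} (h : IsDual A ω N t M) :
    (M ⟶ ω) ≃ₗ[A] Module.Dual A (Coh.HH X M N) :=
  LinearEquiv.ofBijective (dualityLin ω N t M) (dualityLin_bijective h)

theorem dualityEquiv_apply {M : X.Modules} (h : IsDual A ω N t M) (φ : M ⟶ ω)
    (x : Coh.HH X M N) : dualityEquiv h φ x = t (Canon.HHlin A φ N x) := rfl

variable [HasExt.{u} X.Modules]

/-- the duality equivalence `Ext^0(M, ω) ≃ (H^N(X, M))^*`. -/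
noncomputable def extZeroEquiv {M : X.Modules} (h : IsDual A ω N t M) :
    Ext.{u} M ω 0 ≃ₗ[A] Module.Dual A (Coh.HH X M N) :=
  (Ext.linearEquiv₀ (R := A)) ≪≫ₗ dualityEquiv h

theorem extZeroEquiv_mk₀ {M : X.Modules} (h : IsDual A ω N t M) (φ : M ⟶ ω)
    (x : Coh.HH X M N) : extZeroEquiv h (Ext.mk₀ φ) x = t (Canon.HHlin A φ N x) := by
  change dualityEquiv h (Ext.linearEquiv₀ (R := A) (Ext.mk₀ φ)) x = _
  have : Ext.linearEquiv₀ (R := A) (Ext.mk₀ φ) = φ := by
    apply (Ext.linearEquiv₀ (R := A)).symm.injective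
    rw [LinearEquiv.symm_apply_apply]
    rfl
  rw [this]
  rfl

/-- naturality of the duality equivalence. -/
theorem extZeroEquiv_comp {M M' : X.Modules} (h : IsDual A ω N t M) (h' : IsDual A ω N t M')
    (f : M' ⟶ M) (y : Ext.{u} M ω 0) :
    extZeroEquiv h' ((Ext.mk₀ f).comp y (zero_add 0)) =
      (Canon.HHlin A f N).dualMap (extZeroEquiv h y) := by
  obtain ⟨φ, rfl⟩ := (Ext.mk₀_bijective M ω).2 y
  rw [Ext.mk₀_comp_mk₀]
  apply LinearMap.ext
  intro x
  rw [extZeroEquiv_mk₀, LinearMap.dualMap_apply, extZeroEquiv_mk₀, HHlin_comp]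

end Groth.Agent.Lib.Helper27ExtDual1
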