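import Mathlib

/-!
# Helper27: linear algebra for the dimension-shifting step of Serre duality

* `nonempty_quot_dual_equiv` : over a field, `V^* / range u^* ≃ (ker u)^*`;
* `step_one` : if `A₂ → A₁ → Y → 0` is exact and `A₁ ≃ V^*`, `A₂ ↠ W^*` compatibly with
  `u^*` for `u : V → W`, then `Y ≃ (ker u)^*`.
-/

set_option autoImplicit false
universe u

namespace Groth.Agent.Lib.Helper27ExtDualLA

variable {k : Type*} [Field k] {V W : Type*} [AddCommGroup V] [Module k V] [AddCommGroup W]
  [Module k W]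

/-- restriction of functionals to the kernel of `u`. -/
noncomputable def res (u : V →ₗ[k] W) : Module.Dual k V →ₗ[k] Module.Dual k (LinearMap.ker u) :=
  (LinearMap.ker u).subtype.dualMap

theorem res_surjective (u : V →ₗ[k] W) : Function.Surjective (res u) :=
  LinearMap.dualMap_surjective_of_injective (LinearMap.ker u).injective_subtype

theorem ker_res (u : V →ₗ[k] W) : LinearMap.ker (res u) = LinearMap.range u.dualMap := by
  rw [LinearMap.range_dualMap_eq_dualAnnihilator_ker]
  exact Submodule.dualRestrict_ker_eq_dualAnnihilator (LinearMap.ker u)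

variable {A₁ A₂ Y : Type*} [AddCommGroup A₁] [Module k A₁] [AddCommGroup A₂] [Module k A₂]
  [AddCommGroup Y] [Module k Y]

/-- the `i = 1` step. -/
theorem step_one (a : A₂ →ₗ[k] A₁) (b : A₁ →ₗ[k] Y) (hb : Function.Surjective b)
    (hba : ∀ y, b (a y) = 0) (hex : ∀ x, b x = 0 → ∃ y, a y = x)
    (u : V →ₗ[k] W) (θ₁ : A₁ ≃ₗ[k] Module.Dual k V) (θ₂ : A₂ →ₗ[k] Module.Dual k W)
    (hθ₂ : Function.Surjective θ₂) (hcomp : ∀ y, θ₁ (a y) = u.dualMap (θ₂ y)) :
    Nonempty (Y ≃ₗ[k] Module.Dual k (LinearMap.ker u)) := by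
  let g : A₁ →ₗ[k] Module.Dual k (LinearMap.ker u) := (res u).comp θ₁.toLinearMap
  have hg : Function.Surjective g := (res_surjective u).comp θ₁.surjective
  have hker : LinearMap.ker g = LinearMap.ker b := by
    ext x
    rw [LinearMap.mem_ker, LinearMap.mem_ker]
    constructor
    · intro hx
      have h1 : θ₁ x ∈ LinearMap.ker (res u) := hx
      rw [ker_res] at h1
      obtain ⟨w, hw⟩ := h1
      obtain ⟨y, rfl⟩ := hθ₂ w
      rw [← hcomp] at hw
      rw [← θ₁.injective hw]
      exact hba y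
    · intro hx
      obtain ⟨y, rfl⟩ := hex x hx
      change res u (θ₁ (a y)) = 0
      rw [hcomp]
      have : u.dualMap (θ₂ y) ∈ LinearMap.ker (res u) := by
        rw [ker_res]
        exact ⟨_, rfl⟩
      exact this
  exact ⟨(LinearMap.quotKerEquivOfSurjective b hb).symm ≪≫ₗ
    (Submodule.quotEquivOfEq _ _ hker.symm) ≪≫ₗ LinearMap.quotKerEquivOfSurjective g hg⟩

/-- an injective map onto the kernel of `u` identifies its source with `ker u`. -/
theorem nonempty_equiv_ker {Z : Type*} [AddCommGroup Z] [Module k Z] (c : Z →ₗ[k] V)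
    (u : V →ₗ[k] W) (hc : Function.Injective c) (huc : ∀ z, u (c z) = 0)
    (hex : ∀ v, u v = 0 → ∃ z, c z = v) : Nonempty (Z ≃ₗ[k] LinearMap.ker u) := by
  let c' : Z →ₗ[k] LinearMap.ker u := c.codRestrict _ (fun z => huc z)
  have h1 : Function.Injective c' := fun z z' h => hc (congrArg Subtype.val h)
  have h2 : Function.Surjective c' := by
    rintro ⟨v, hv⟩
    obtain ⟨z, hz⟩ := hex v hv
    exact ⟨z, Subtype.ext hz⟩
  exact ⟨LinearEquiv.ofBijective c' ⟨h1, h2⟩⟩

theorem subsingleton_ker_of_injective (u : V →ₗ[k] W) (hu : Function.Injective u) :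
    Subsingleton (LinearMap.ker u) := by
  rw [LinearMap.ker_eq_bot.mpr hu]
  infer_instance

end Groth.Agent.Lib.Helper27ExtDualLA
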