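import Groth.Agent.Lib.Helper27ExtDual1
import Groth.Agent.Lib.Helper27ExtDualLA
import Groth.Agent.Lib.Helper27CohFin
import Groth.Agent.Lib.Helper27LesLin

/-!
# Helper27: `Ext^i(F, ω) ≃ (H^{n-i}(X, F))^*` by dimension shifting (abstract form)

`X` a scheme over a field `k`, `(ω, t)` a pair satisfying top-degree duality (`IsDual`) on coherent
modules.  If every coherent `F` is a quotient of a coherent `E` with coherent kernel,
`H^j(X, E) = 0` for `j < n` and `Ext^i(E, ω) = 0` for `i > 0`, then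
`Ext^i(F, ω) ≃ (H^{n-i}(X, F))^*` for `i ≤ n` and `Ext^i(F, ω) = 0` for `i > n`
(`ext_duality`).
-/

set_option autoImplicit false
universe u
open CategoryTheory Limits AlgebraicGeometry TopologicalSpace Opposite Abelian

namespace Groth.Agent.Lib.Helper27ExtDual2

open Groth.Agent.Lib.Helper27DualRes Groth.Agent.Lib.Helper27CohFin
  Groth.Agent.Lib.Helper27ExtDual1 Groth.Agent.Lib.Helper27ExtDualLA
  Groth.Agent.Lib.Helper23.QCohLocal

variable {k : Type u} [Field k] {X : Scheme.{u}} [X.Over (Spec (CommRingCat.of k))]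

section LES

variable (S : ShortComplex X.Modules) (hS : S.ShortExact)

theorem exact_delta₁ (i : ℕ) (z : Coh.HH X S.X₁ (i + 1))
    (hz : Canon.HHlin k S.f (i + 1) z = 0) :
    ∃ y : Coh.HH X S.X₃ i, deltaLin k S hS i y = z :=
  Ext.covariant_sequence_exact₁ _ (shortExact_toAbF S hS) (n₁ := i + 1) z hz (n₀ := i) rfl

theorem HHlin_f_deltaLin (i : ℕ) (y : Coh.HH X S.X₃ i) :
    Canon.HHlin k S.f (i + 1) (deltaLin k S hS i y) = 0 :=
  Groth.Agent.Lib.Helper27LesLin.HHlin_f_delta k S hS i y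

theorem injective_deltaLin (i : ℕ) (h2 : Subsingleton (Coh.HH X S.X₂ i)) :
    Function.Injective (deltaLin k S hS i) := by
  rw [injective_iff_map_eq_zero]
  intro x hx
  obtain ⟨y, rfl⟩ := exact_delta S hS i x hx
  have : y = 0 := Subsingleton.elim _ _
  rw [this]
  exact map_zero (Canon.HHlin k S.g i)

include hS in
/-- `H^i(F) ≃ H^{i+1}(K)` when `H^i(E) = 0 = H^{i+1}(E)`. -/
theorem nonempty_delta_equiv (i : ℕ) (h2 : Subsingleton (Coh.HH X S.X₂ i))
    (h2' : Subsingleton (Coh.HH X S.X₂ (i + 1))) :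
    Nonempty (Coh.HH X S.X₃ i ≃ₗ[k] Coh.HH X S.X₁ (i + 1)) := by
  refine ⟨LinearEquiv.ofBijective (deltaLin k S hS i) ⟨injective_deltaLin S hS i h2, ?_⟩⟩
  intro z
  exact exact_delta₁ S hS i z (Subsingleton.elim _ _)

include hS in
/-- `H^i(F) ≃ ker(H^{i+1}(K) → H^{i+1}(E))` when `H^i(E) = 0`. -/
theorem nonempty_equiv_ker_HHlin (i : ℕ) (h2 : Subsingleton (Coh.HH X S.X₂ i)) :
    Nonempty (Coh.HH X S.X₃ i ≃ₗ[k] LinearMap.ker (Canon.HHlin k S.f (i + 1))) :=
  nonempty_equiv_ker (deltaLin k S hS i) (Canon.HHlin k S.f (i + 1))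
    (injective_deltaLin S hS i h2) (HHlin_f_deltaLin S hS i) (exact_delta₁ S hS i)

include hS in
theorem injective_HHlin_f_zero : Function.Injective (Canon.HHlin k S.f 0) := by
  have : Mono ((toAbF X).map S.f) := (shortExact_toAbF S hS).mono_f
  exact Ext.postcomp_mk₀_injective_of_mono _ ((toAbF X).map S.f)

variable [HasExt.{u} X.Modules] (ω : X.Modules)

variable (k) in
/-- the connecting map `Ext^i(K, ω) → Ext^{i+1}(F, ω)`. -/
noncomputable def extDelta (i : ℕ) : Ext.{u} S.X₁ ω i →ₗ[k] Ext.{u} S.X₃ ω (i + 1) :=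
  hS.extClass.precompOfLinear k ω (add_comm 1 i)

theorem extDelta_apply (i : ℕ) (x : Ext.{u} S.X₁ ω i) :
    extDelta k S hS ω i x = hS.extClass.comp x (add_comm 1 i) := rfl

theorem surjective_extDelta (i : ℕ) (h2' : Subsingleton (Ext.{u} S.X₂ ω (i + 1))) :
    Function.Surjective (extDelta k S hS ω i) := by
  intro x₃
  obtain ⟨x₁, hx₁⟩ := Ext.contravariant_sequence_exact₃ hS ω x₃
    (Subsingleton.elim _ _) (add_comm 1 i)
  exact ⟨x₁, hx₁⟩

theorem exact_extDelta (i : ℕ) (x : Ext.{u} S.X₁ ω i) (hx : extDelta k S hS ω i x = 0) :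
    ∃ y : Ext.{u} S.X₂ ω i, (Ext.mk₀ S.f).comp y (zero_add i) = x :=
  Ext.contravariant_sequence_exact₁ hS ω x (add_comm 1 i) hx

include hS in
/-- `Ext^i(K, ω) ≃ Ext^{i+1}(F, ω)` when `Ext^i(E, ω) = 0 = Ext^{i+1}(E, ω)`. -/
theorem nonempty_extDelta_equiv (i : ℕ) (h2 : Subsingleton (Ext.{u} S.X₂ ω i))
    (h2' : Subsingleton (Ext.{u} S.X₂ ω (i + 1))) :
    Nonempty (Ext.{u} S.X₁ ω i ≃ₗ[k] Ext.{u} S.X₃ ω (i + 1)) := by
  refine ⟨LinearEquiv.ofBijective (extDelta k S hS ω i) ⟨?_, surjective_extDelta S hS ω i h2'⟩⟩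
  rw [injective_iff_map_eq_zero]
  intro x hx
  obtain ⟨y, rfl⟩ := exact_extDelta S hS ω i x hx
  have : y = 0 := Subsingleton.elim _ _
  rw [this, Ext.comp_zero]

end LES

section Main

variable [HasExt.{u} X.Modules]

/-- the `i = 1` step: `Ext^1(F, ω) ≃ (ker(H^n(K) → H^n(E)))^*`. -/
theorem nonempty_ext_one_equiv (ω : X.Modules) (n : ℕ) (t : Coh.HH X ω n →ₗ[k] k)
    (S : ShortComplex X.Modules) (hS : S.ShortExact)
    (h1 : IsDual k ω n t S.X₁) (h2 : IsDual k ω n t S.X₂)
    (hE : Subsingleton (Ext.{u} S.X₂ ω 1)) :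
    Nonempty (Ext.{u} S.X₃ ω 1 ≃ₗ[k] Module.Dual k (LinearMap.ker (Canon.HHlin k S.f n))) := by
  refine step_one ((Ext.mk₀ S.f).precompOfLinear k ω (zero_add 0)) (extDelta k S hS ω 0)
    (surjective_extDelta S hS ω 0 hE) ?_ ?_ (Canon.HHlin k S.f n)
    (extZeroEquiv h1) (extZeroEquiv h2).toLinearMap (extZeroEquiv h2).surjective ?_
  · intro y
    exact hS.extClass_comp_assoc (h := add_comm 1 0) y
  · intro x hx
    exact exact_extDelta S hS ω 0 x hx
  · intro y
    exact extZeroEquiv_comp h2 h1 S.f y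

theorem ext_duality (ω : X.Modules) (n : ℕ) (t : Coh.HH X ω n →ₗ[k] k)
    (hdual : ∀ M : X.Modules, Coh.IsCoh M → IsDual k ω n t M)
    (hres : ∀ F : X.Modules, Coh.IsCoh F → ∃ (E : X.Modules) (p : E ⟶ F), Coh.IsCoh E ∧ Epi p ∧
      Coh.IsCoh (kernel p) ∧ (∀ j, j < n → Subsingleton (Coh.HH X E j)) ∧
      (∀ i, 0 < i → Subsingleton (Ext.{u} E ω i)))
    (i : ℕ) : ∀ F : X.Modules, Coh.IsCoh F →
      (∀ j, j + i = n → Nonempty (Ext.{u} F ω i ≃ₗ[k] Module.Dual k (Coh.HH X F j))) ∧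
      (n < i → Subsingleton (Ext.{u} F ω i)) := by
  induction i with
  | zero =>
    intro F hF
    refine ⟨fun j hj => ?_, fun h => absurd h (Nat.not_lt_zero _)⟩
    obtain rfl : j = n := by omega
    exact ⟨extZeroEquiv (hdual F hF)⟩
  | succ i ih =>
    intro F hF
    obtain ⟨E, p, hE, hp, hK, hvan, hext⟩ := hres F hF
    let S : ShortComplex X.Modules := ShortComplex.mk (kernel.ι p) p (kernel.condition p)
    have hS : S.ShortExact :=
      { exact := ShortComplex.exact_of_f_is_kernel _ (kernelIsKernel p)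
        mono_f := (inferInstance : Mono (kernel.ι p))
        epi_g := hp }
    rcases Nat.eq_zero_or_pos i with hi | hi
    · subst hi
      obtain ⟨e⟩ := nonempty_ext_one_equiv ω n t S hS (hdual _ hK) (hdual _ hE)
        (hext 1 Nat.one_pos)
      constructor
      · intro j hj
        obtain rfl : n = j + 1 := by omega
        obtain ⟨e'⟩ := nonempty_equiv_ker_HHlin (k := k) S hS j (hvan j (Nat.lt_succ_self j))
        exact ⟨e ≪≫ₗ e'.dualMap⟩
      · intro hn
        obtain rfl : n = 0 := by omega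
        have : Subsingleton (LinearMap.ker (Canon.HHlin k S.f 0)) :=
          subsingleton_ker_of_injective _ (injective_HHlin_f_zero S hS)
        exact e.toEquiv.subsingleton
    · obtain ⟨e⟩ := nonempty_extDelta_equiv (k := k) S hS ω i (hext i hi) (hext (i + 1) (Nat.succ_pos i))
      have ihK := ih (kernel p) hK
      constructor
      · intro j hj
        obtain ⟨e₁⟩ := ihK.1 (j + 1) (by omega)
        obtain ⟨e₂⟩ := nonempty_delta_equiv (k := k) S hS j (hvan j (by omega)) (hvan (j + 1) (by omega))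
        exact ⟨e.symm ≪≫ₗ e₁ ≪≫ₗ e₂.dualMap⟩
      · intro hn
        rcases Nat.lt_or_ge n i with h | h
        · have := ihK.2 h
          exact e.symm.toEquiv.subsingleton
        · obtain rfl : n = i := by omega
          obtain ⟨e₁⟩ := ihK.1 0 (by omega)
          have : Subsingleton (Coh.HH X (kernel p) 0) := by
            have := hvan 0 hi
            exact (injective_HHlin_f_zero (k := k) S hS).subsingleton
          exact (e.symm ≪≫ₗ e₁).toEquiv.subsingleton
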