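import Groth.Agent.Lib.Helper27MinPres2

/-!
# Minimal linear presentations of regular sheaves on `P^n_k`, part 3 (helper27)

Cohomology of the kernel of a minimal presentation.
-/

set_option autoImplicit false
universe u

open CategoryTheory CategoryTheory.Limits AlgebraicGeometry TopologicalSpace Opposite

namespace Groth.Agent.Lib.Helper27MinPres

open Groth.Agent.Lib.Helper27SerreVan Groth.Agent.Lib.Helper27CMReg Groth.Agent.Lib.Helper27GenTop
  Groth.Agent.Lib.Helper27GlobGenPn Groth.Agent.Lib.Helper27LinRes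
  Groth.Agent.Lib.Helper27ResChase Groth.Agent.Lib.Helper23.GenLocus
  Groth.Agent.Lib.Helper23.AmpleIso Groth.Agent.Lib.Helper27CohFin
  Groth.Agent.Lib.Helper27CoprodFin Groth.Agent.Lib.Helper27LesLin
  Groth.Agent.Lib.Helper27PnMor Groth.Agent.Lib.Helper27PnSections
  Groth.Agent.Lib.Helper23.QCohLocal Groth.Agent.Lib.Helper27Horrocks
  Groth.Agent.Lib.Helper27SerreVanPn Groth.Agent.Lib.Helper27CMReg2
  Groth.Agent.Lib.Helper27MumfordReg

section Field

variable (k : Type u) [Field k] (n : ℕ)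

theorem finrank_HH_zero_unit :
    Module.finrank k (Coh.HH (CohB1.ProjSpace n k) (Twist.twistProjSpace n k 0) 0) = 1 := by
  obtain ⟨l⟩ := nonempty_linearEquiv n k 0
  have h1 := l.finrank_eq
  rw [Nat.cast_zero] at h1
  rw [h1, MvPolynomial.homogeneousSubmodule_zero, Submodule.one_eq_span]
  exact finrank_span_singleton one_ne_zero

theorem isCoh_sigma_twist (b : ℕ) (m : ℤ) :
    Coh.IsCoh (∐ fun _ : Fin b => Twist.twistProjSpace n k m) :=
  ⟨isQuasicoherent_sigma _ (fun _ => (Groth.Agent.Lib.Helper27TwistCoh.isCoh_twist n k m).1),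
    isFiniteType_sigma _ (fun _ => (Groth.Agent.Lib.Helper27TwistCoh.isCoh_twist n k m).1)
      (fun _ => (Groth.Agent.Lib.Helper27TwistCoh.isCoh_twist n k m).2)⟩

theorem finrank_source (b : ℕ) (m : ℤ) :
    Module.finrank k (Coh.HH (CohB1.ProjSpace n k)
      (CohB1.tensorMod (∐ fun _ : Fin b => Twist.twistProjSpace n k (-m))
        (Twist.twistProjSpace n k m)) 0) = b := by
  have hpres : PreservesColimit (Discrete.functor (fun _ : Fin b => Twist.twistProjSpace n k (-m)))
      (Groth.Agent.Lib.Helper27SerreVan.tw (Twist.twistProjSpace n k m)) := inferInstance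
  let α1 : (Groth.Agent.Lib.Helper27SerreVan.tw (Twist.twistProjSpace n k m)).obj
      (∐ fun _ : Fin b => Twist.twistProjSpace n k (-m)) ≅
      ∐ fun _ : Fin b => (Groth.Agent.Lib.Helper27SerreVan.tw (Twist.twistProjSpace n k m)).obj
        (Twist.twistProjSpace n k (-m)) :=
    PreservesCoproduct.iso (Groth.Agent.Lib.Helper27SerreVan.tw (Twist.twistProjSpace n k m)) _
  obtain ⟨e⟩ := nonempty_twist_tensor_iso n k (-m) m
  let α2 : (∐ fun _ : Fin b => (Groth.Agent.Lib.Helper27SerreVan.tw
      (Twist.twistProjSpace n k m)).obj (Twist.twistProjSpace n k (-m))) ≅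
      ∐ fun _ : Fin b => Twist.twistProjSpace n k 0 :=
    Sigma.mapIso (fun _ => e ≪≫ eqToIso (by rw [neg_add_cancel]))
  have hfin : Module.Finite k (Coh.HH (CohB1.ProjSpace n k) (Twist.twistProjSpace n k 0) 0) :=
    Module.finite_of_finrank_pos (by rw [finrank_HH_zero_unit]; exact Nat.one_pos)
  have h1 := finrank_HH_of_iso k (α1 ≪≫ α2) 0
  rw [finrank_HH_sigma_const k (Twist.twistProjSpace n k 0) 0 hfin, finrank_HH_zero_unit,
    mul_one] at h1
  exact h1

/-- a minimal presentation is injective on `H^0` after the twist by `O(m)`. -/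
theorem injective_HHlin_of_min (F : (CohB1.ProjSpace n k).Modules) (hF : Coh.IsCoh F) (m : ℤ)
    (b : ℕ) (φ : (∐ fun _ : Fin b => Twist.twistProjSpace n k (-m)) ⟶ F)
    (hb : b = Module.finrank k (Coh.HH (CohB1.ProjSpace n k)
      (CohB1.tensorMod F (Twist.twistProjSpace n k m)) 0))
    (hs : Function.Surjective ((wl φ (Twist.twistProjSpace n k m)).app ⊤)) :
    Function.Injective (Canon.HHlin k (wl φ (Twist.twistProjSpace n k m)) 0) := by
  have hsurj := surjective_HHlin_zero k _ hs
  have hfin : Module.Finite k (Coh.HH (CohB1.ProjSpace n k)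
      (CohB1.tensorMod F (Twist.twistProjSpace n k m)) 0) := finite_HH_twisted k n F hF m 0
  have hfin' : Module.Finite k (Coh.HH (CohB1.ProjSpace n k)
      (CohB1.tensorMod (∐ fun _ : Fin b => Twist.twistProjSpace n k (-m))
        (Twist.twistProjSpace n k m)) 0) :=
    finite_HH_twisted k n _ (isCoh_sigma_twist k n b (-m)) m 0
  have heq : Module.finrank k (Coh.HH (CohB1.ProjSpace n k)
      (CohB1.tensorMod (∐ fun _ : Fin b => Twist.twistProjSpace n k (-m))
        (Twist.twistProjSpace n k m)) 0) =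
      Module.finrank k (Coh.HH (CohB1.ProjSpace n k)
        (CohB1.tensorMod F (Twist.twistProjSpace n k m)) 0) := by
    rw [finrank_source, ← hb]
  exact (LinearMap.injective_iff_surjective_of_finrank_eq_finrank heq).2 hsurj

theorem subsingleton_HH_source (b : ℕ) (m t : ℤ) (q : ℕ) (h₀ : ¬ (q = 0 ∧ 0 ≤ -m + t))
    (hn : ¬ (q = n ∧ -m + t ≤ -((n : ℤ) + 1))) :
    Subsingleton (Coh.HH (CohB1.ProjSpace n k)
      (CohB1.tensorMod (∐ fun _ : Fin b => Twist.twistProjSpace n k (-m))
        (Twist.twistProjSpace n k t)) q) := by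
  refine subsingleton_HH_map_sigma (fun _ : Fin b => Twist.twistProjSpace n k (-m))
    (Groth.Agent.Lib.Helper27SerreVan.tw (Twist.twistProjSpace n k t)) q (fun _ => ?_)
  obtain ⟨e⟩ := nonempty_twist_tensor_iso n k (-m) t
  refine Groth.Agent.Lib.Helper27SerreVan.subsingleton_HH_of_iso e q ?_
  exact Groth.Agent.Lib.Helper27PnCohVanish.subsingleton_HH n k (-m + t) q h₀ hn

variable {k n}

theorem shortExact_kernel_tw {F : (CohB1.ProjSpace n k).Modules} {b : ℕ} {m : ℤ}
    (φ : (∐ fun _ : Fin b => Twist.twistProjSpace n k (-m)) ⟶ F) (hφ : Epi φ) (t : ℤ) :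
    ((ShortComplex.mk (kernel.ι φ) φ (kernel.condition φ)).map
      (Groth.Agent.Lib.Helper27SerreVan.tw (Twist.twistProjSpace n k t))).ShortExact := by
  have hS : (ShortComplex.mk (kernel.ι φ) φ (kernel.condition φ)).ShortExact :=
    { exact := ShortComplex.exact_of_f_is_kernel _ (kernelIsKernel φ)
      mono_f := (inferInstance : Mono (kernel.ι φ))
      epi_g := hφ }
  exact shortExact_tw _ (isInvertible_twist n k t) _ hS

/-- `H^0(K(m)) = 0` for the kernel `K` of a minimal presentation. -/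
theorem subsingleton_H0_kernel_eq {F : (CohB1.ProjSpace n k).Modules} {b : ℕ} {m : ℤ}
    (φ : (∐ fun _ : Fin b => Twist.twistProjSpace n k (-m)) ⟶ F) (hφ : Epi φ)
    (hinj : Function.Injective (Canon.HHlin k (wl φ (Twist.twistProjSpace n k m)) 0)) :
    Subsingleton (Coh.HH (CohB1.ProjSpace n k)
      (CohB1.tensorMod (kernel φ) (Twist.twistProjSpace n k m)) 0) := by
  have hS' := shortExact_kernel_tw φ hφ m
  have hmono : Mono (wl (kernel.ι φ) (Twist.twistProjSpace n k m)) := hS'.mono_f
  have hι := injective_HHlin_zero_of_mono k (wl (kernel.ι φ) (Twist.twistProjSpace n k m))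
  have key : ∀ x : Coh.HH (CohB1.ProjSpace n k)
      (CohB1.tensorMod (kernel φ) (Twist.twistProjSpace n k m)) 0, x = 0 := by
    intro x
    apply hι
    apply hinj
    rw [← HHlin_comp', ← wl_comp, kernel.condition, map_zero, map_zero]
    have h0 : wl (0 : kernel φ ⟶ F) (Twist.twistProjSpace n k m) = 0 :=
      (Groth.Agent.Lib.Helper27SerreVan.tw (Twist.twistProjSpace n k m)).map_zero _ _
    rw [h0, HHlin_zero']
  exact ⟨fun x y => (key x).trans (key y).symm⟩

/-- `H^0(K(t)) = 0` for `t < m` (needs `n ≥ 1`). -/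
theorem subsingleton_H0_kernel_lt {F : (CohB1.ProjSpace n k).Modules} {b : ℕ} {m : ℤ}
    (φ : (∐ fun _ : Fin b => Twist.twistProjSpace n k (-m)) ⟶ F) (hφ : Epi φ) (hn : 1 ≤ n)
    (t : ℤ) (ht : t < m) :
    Subsingleton (Coh.HH (CohB1.ProjSpace n k)
      (CohB1.tensorMod (kernel φ) (Twist.twistProjSpace n k t)) 0) := by
  have hS' := shortExact_kernel_tw φ hφ t
  have hmono : Mono (wl (kernel.ι φ) (Twist.twistProjSpace n k t)) := hS'.mono_f
  have hι := injective_HHlin_zero_of_mono k (wl (kernel.ι φ) (Twist.twistProjSpace n k t))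
  have hsrc := subsingleton_HH_source k n b m t 0 (fun h => by omega) (fun h => by omega)
  exact hι.subsingleton

/-- the cohomology of the kernel of a presentation, one degree up. -/
theorem subsingleton_Hsucc_kernel {F : (CohB1.ProjSpace n k).Modules} {b : ℕ} {m : ℤ}
    (φ : (∐ fun _ : Fin b => Twist.twistProjSpace n k (-m)) ⟶ F) (hφ : Epi φ) (i : ℕ) (t : ℤ)
    (h3 : Subsingleton (Coh.HH (CohB1.ProjSpace n k)
      (CohB1.tensorMod F (Twist.twistProjSpace n k t)) i))
    (h2 : Subsingleton (Coh.HH (CohB1.ProjSpace n k)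
      (CohB1.tensorMod (∐ fun _ : Fin b => Twist.twistProjSpace n k (-m))
        (Twist.twistProjSpace n k t)) (i + 1))) :
    Subsingleton (Coh.HH (CohB1.ProjSpace n k)
      (CohB1.tensorMod (kernel φ) (Twist.twistProjSpace n k t)) (i + 1)) :=
  subsingleton_X₁_of_shortExact _ (shortExact_kernel_tw φ hφ t) i h3 h2

end Field

end Groth.Agent.Lib.Helper27MinPres
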