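import Groth.Agent.Lib.Helper27PicPn2
import Groth.Agent.Lib.Helper23Extend

/-!
# `O(d) ≅ O(d')` on `P^n_R`, `n ≥ 1`, `R` a domain, forces `d = d'` (helper27)
-/

set_option autoImplicit false
set_option linter.unusedSectionVars false
universe u

open CategoryTheory CategoryTheory.Limits AlgebraicGeometry TopologicalSpace Opposite
  HomogeneousLocalization MvPolynomial
open Groth.Agent.Lib.Helper23.SecTw Groth.Agent.Lib.Helper6 Groth.Agent.Lib.Helper27GrTildeSect
open Groth.Agent.Lib.Helper23.Extend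

namespace Groth.Agent.Lib.Helper27PicPn

variable {n : ℕ} {R : Type u} [CommRing R] [IsDomain R]

local notation "𝒢" => CohB1.polyGrading n R

theorem toNat_eq (d : ℤ) : ((d.toNat : ℕ) : ℤ) = ((-d).toNat : ℕ) + d := by omega

/-- the standard frame `X_i^d` of `O(d)` over `D₊(X_i)`. -/
noncomputable def stdFrame (d : ℤ) (i : Fin (n + 1)) :
    Γ(GrTilde.tilde 𝒢 𝒢 d, U (n := n) (R := R) i) :=
  fracSec 𝒢 d (U i) (monomial_single_mem i d.toNat (1 : R))
    (monomial_single_mem i (-d).toNat (1 : R)) (toNat_eq d)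
    (fun y => monomial_single_not_mem i _ 1 y)

theorem isGen_stdFrame (d : ℤ) (i : Fin (n + 1)) :
    IsGen (GrTilde.tilde 𝒢 𝒢 d) (U (n := n) (R := R) i) (stdFrame d i) :=
  isGen_fracSec 𝒢 _ _ _ _ (toNat_eq d) _ (fun y => monomial_single_not_mem i _ 1 y)

/-- the transition functions of the standard frames of `O(d)`. -/
theorem isMon_of_stdFrame (d : ℤ) (i j : Fin (n + 1)) (g : Γ(Proj 𝒢, U (n := n) (R := R) i ⊓ U j))
    (hg : res (GrTilde.tilde 𝒢 𝒢 d) inf_le_left (stdFrame d i) =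
      g • res (GrTilde.tilde 𝒢 𝒢 d) inf_le_right (stdFrame d j)) :
    IsMon (U i ⊓ U j) g 1 (Finsupp.single i d.toNat + Finsupp.single j (-d).toNat)
      (Finsupp.single i (-d).toNat + Finsupp.single j d.toNat) := by
  have hres1 : res (GrTilde.tilde 𝒢 𝒢 d) inf_le_left (stdFrame d i) =
      fracSec 𝒢 d (U i ⊓ U j) (monomial_single_mem i d.toNat (1 : R))
        (monomial_single_mem i (-d).toNat (1 : R)) (toNat_eq d)
        (fun y => monomial_single_not_mem i _ 1 ⟨y.1, y.2.1⟩) := rfl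
  have hres2 : res (GrTilde.tilde 𝒢 𝒢 d) inf_le_right (stdFrame d j) =
      fracSec 𝒢 d (U i ⊓ U j) (monomial_single_mem j d.toNat (1 : R))
        (monomial_single_mem j (-d).toNat (1 : R)) (toNat_eq d)
        (fun y => monomial_single_not_mem j _ 1 ⟨y.1, y.2.2⟩) := rfl
  rw [hres1, hres2, fracSec_eq_smul_iff] at hg
  intro y hy
  have hjP : (monomial (Finsupp.single j d.toNat) (1 : R) : MvPolynomial (Fin (n + 1)) R) ∉
      y.asHomogeneousIdeal := by
    have := monomial_single_not_mem j d.toNat (1 : Rˣ) ⟨y, hy.2⟩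
    simpa using this
  have hiQ : (monomial (Finsupp.single i (-d).toNat) (1 : R) : MvPolynomial (Fin (n + 1)) R) ∉
      y.asHomogeneousIdeal := by
    have := monomial_single_not_mem i (-d).toNat (1 : Rˣ) ⟨y, hy.1⟩
    simpa using this
  have hjQ : (monomial (Finsupp.single j (-d).toNat) (1 : R) : MvPolynomial (Fin (n + 1)) R) ∉
      y.asHomogeneousIdeal := by
    have := monomial_single_not_mem j (-d).toNat (1 : Rˣ) ⟨y, hy.2⟩
    simpa using this
  have hm : (monomial (Finsupp.single i (-d).toNat + Finsupp.single j d.toNat) (1 : R) :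
      MvPolynomial (Fin (n + 1)) R) =
      monomial (Finsupp.single i (-d).toNat) 1 * monomial (Finsupp.single j d.toNat) 1 := by
    rw [monomial_mul, mul_one]
  have hnot : (monomial (Finsupp.single i (-d).toNat + Finsupp.single j d.toNat) (1 : R) :
      MvPolynomial (Fin (n + 1)) R) ∉ y.asHomogeneousIdeal := by
    rw [hm]
    intro hmem
    rcases y.isPrime.mem_or_mem hmem with h | h
    · exact hiQ h
    · exact hjP h
  refine ⟨hnot, ?_⟩
  have h1 := hg y hy
  have hunit : (Localization.mk (monomial (Finsupp.single j d.toNat) (1 : R))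
      (⟨monomial (Finsupp.single j (-d).toNat) 1, hjQ⟩ :
        y.asHomogeneousIdeal.toIdeal.primeCompl) : Twist.Loc 𝒢 y) *
      Localization.mk (monomial (Finsupp.single j (-d).toNat) (1 : R))
      (⟨monomial (Finsupp.single j d.toNat) 1, hjP⟩ :
        y.asHomogeneousIdeal.toIdeal.primeCompl) = 1 := by
    rw [Localization.mk_mul, ← Localization.mk_one, mk_eq_mk_iff']
    change _ * (1 : MvPolynomial (Fin (n + 1)) R) = 1 * (_ * _)
    rw [mul_one, one_mul, mul_comm]
  calc (funVal 𝒢 (U i ⊓ U j) g y hy).val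
      = (funVal 𝒢 (U i ⊓ U j) g y hy).val * 1 := (mul_one _).symm
    _ = _ := by
      rw [← hunit, ← mul_assoc, ← h1, Localization.mk_mul, mk_eq_mk_iff']
      change monomial _ (1 : R) * monomial _ (1 : R) * monomial _ (1 : R) =
        monomial _ (1 : R) * (monomial _ (1 : R) * monomial _ (1 : R))
      simp only [monomial_mul, mul_one]

/-- units on a standard chart are constants: pointwise form on the overlap `U 1 ⊓ U 0`. -/
theorem exists_isMon_of_isUnit_chart (i : Fin (n + 1)) (w : Γ(Proj 𝒢, U (n := n) (R := R) i))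
    (hw : IsUnit w) :
    ∃ (u : Rˣ) (t : Fin (n + 1) →₀ ℕ) (k : ℕ),
      IsMon (U i) w u t (k • (Finsupp.single i 1 + Finsupp.single i 1)) ∧
      t i = 2 * k ∧ ∀ x, x ≠ i → t x = 0 := by
  have hle : U (n := n) (R := R) i ⊓ U i ≤ U i := inf_le_left
  obtain ⟨u, t, k, hmon, hdeg, hsupp⟩ := exists_isMon_of_isUnit i i (resf hle w) (hw.map _)
  refine ⟨u, t, k, ?_, ?_, fun x hx => hsupp x hx hx⟩
  · intro y hy
    obtain ⟨h1, h2⟩ := hmon y ⟨hy, hy⟩
    exact ⟨h1, h2⟩
  · rw [Groth.Agent.Lib.Helper27PicPnComb.apply_eq_degree (fun x hx => hsupp x hx hx), hdeg]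

/-- twisting sheaves of different degrees on `P^n_R`, `n ≥ 1`, are not isomorphic. -/
theorem eq_of_iso_tilde (hn : 1 ≤ n) (d d' : ℤ)
    (Φ : GrTilde.tilde 𝒢 𝒢 d ≅ GrTilde.tilde 𝒢 𝒢 d') : d = d' := by
  classical
  have h10 : (1 : Fin (n + 1)) ≠ 0 := by
    intro h
    have := congrArg Fin.val h
    rw [Fin.val_one', Fin.val_zero] at this
    have h2 : 1 % (n + 1) = 1 := Nat.mod_eq_of_lt (by omega)
    omega
  set N := GrTilde.tilde 𝒢 𝒢 d' with hN
  -- the frames
  have hb := fun i => isGen_stdFrame (n := n) (R := R) d i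
  have hb' := fun i => isGen_stdFrame (n := n) (R := R) d' i
  let c : ∀ i : Fin (n + 1), Γ(N, U (n := n) (R := R) i) := fun i =>
    Φ.hom.app (U i) (stdFrame d i)
  have hc : ∀ i, IsGen N (U i) (c i) := fun i =>
    Groth.Agent.Lib.Helper23.PB.isGen_of_iso Φ (hb i)
  let w : ∀ i : Fin (n + 1), Γ(Proj 𝒢, U (n := n) (R := R) i) := fun i =>
    coef (hb' i) le_rfl (c i)
  have hwc : ∀ i, w i • stdFrame d' i = c i := fun i => by
    have := coef_spec (hb' i) le_rfl (c i)
    rwa [res_self] at this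
  have hwu : ∀ i, IsUnit (w i) := fun i =>
    Groth.Agent.Lib.Helper23.PB.isUnit_coef_of_isGen (hb' i) (hc i)
  -- transition functions
  set τ := tr hb 1 0 with hτ
  set τ' := tr hb' 1 0 with hτ'
  have hτs := tr_spec hb 1 0
  have hτs' := tr_spec hb' 1 0
  have hle1 : U (n := n) (R := R) 1 ⊓ U 0 ≤ U 1 := inf_le_left
  have hle0 : U (n := n) (R := R) 1 ⊓ U 0 ≤ U 0 := inf_le_right
  have key : resf hle1 (w 1) * τ' = τ * resf hle0 (w 0) := by
    apply (hb' 0 _ hle0).1
    change (resf hle1 (w 1) * τ') • res N hle0 (stdFrame d' 0) =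
      (τ * resf hle0 (w 0)) • res N hle0 (stdFrame d' 0)
    have e1 : res N hle1 (c 1) = τ • res N hle0 (c 0) := by
      change res N hle1 (Φ.hom.app (U 1) (stdFrame d 1)) =
        τ • res N hle0 (Φ.hom.app (U 0) (stdFrame d 0))
      have a1 : Φ.hom.app (U 1 ⊓ U 0) (res (GrTilde.tilde 𝒢 𝒢 d) hle1 (stdFrame d 1)) =
          res N hle1 (Φ.hom.app (U 1) (stdFrame d 1)) :=
        app_map Φ.hom (homOfLE hle1) (stdFrame d 1)
      have a0 : Φ.hom.app (U 1 ⊓ U 0) (res (GrTilde.tilde 𝒢 𝒢 d) hle0 (stdFrame d 0)) =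
          res N hle0 (Φ.hom.app (U 0) (stdFrame d 0)) :=
        app_map Φ.hom (homOfLE hle0) (stdFrame d 0)
      rw [← a1, ← a0, ← Scheme.Modules.Hom.app_smul]
      congr 1
      exact hτs.symm
    rw [mul_smul, hτs', mul_smul, ← res_smul, ← res_smul, hwc, hwc]
    exact e1
  -- monomial forms
  obtain ⟨u₁, t₁, k₁, hm₁, ht₁, hs₁⟩ := exists_isMon_of_isUnit_chart 1 (w 1) (hwu 1)
  obtain ⟨u₀, t₀, k₀, hm₀, ht₀, hs₀⟩ := exists_isMon_of_isUnit_chart 0 (w 0) (hwu 0)
  have mτ := isMon_of_stdFrame d 1 0 τ hτs.symm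
  have mτ' := isMon_of_stdFrame d' 1 0 τ' hτs'.symm
  have L := (hm₁.res hle1).mul mτ'
  have Rr := mτ.mul (hm₀.res hle0)
  rw [key] at L
  have hη : (η (n := n) (R := R)) ∈ U (n := n) (R := R) 1 ⊓ U 0 := ⟨η_mem_U 1, η_mem_U 0⟩
  obtain ⟨-, hexp⟩ := IsMon.unique hη (mul_ne_zero u₁.ne_zero one_ne_zero) L Rr
  have h1 := DFunLike.congr_fun hexp 1
  have h01 : t₀ 1 = 0 := hs₀ 1 h10
  simp only [Finsupp.coe_add, Finsupp.coe_smul, Pi.add_apply, Pi.smul_apply,
    Finsupp.single_apply, smul_eq_mul, ↓reduceIte, if_neg (Ne.symm h10), ht₁, h01, add_zero,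
    mul_zero] at h1
  omega

end Groth.Agent.Lib.Helper27PicPn
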