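import Groth.Agent.Lib.Helper27LinRes
import Groth.Agent.S10960

/-!
# Extensions of `O(b)` by `O(a)` on `P^n`, `n ≥ 2`, split (helper27)
-/

set_option autoImplicit false
universe u

open CategoryTheory CategoryTheory.Limits AlgebraicGeometry TopologicalSpace Opposite

namespace Groth.Agent.Lib.Helper27SplitPn

open Groth.Agent.Lib.Helper27SerreVan Groth.Agent.Lib.Helper27CMReg Groth.Agent.Lib.Helper27GenTop
  Groth.Agent.Lib.Helper27GlobGenPn Groth.Agent.Lib.Helper27LinRes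
  Groth.Agent.Lib.Helper27ResChase Groth.Agent.Lib.Helper23.GenLocus
  Groth.Agent.Lib.Helper23.AmpleIso

section Abstract

variable {X : Scheme.{u}}

/-- a short exact sequence splits if, after twisting by an invertible `L`, its third term becomes
trivial and `H^1` of its first term vanishes. -/
theorem nonempty_splitting (S : ShortComplex X.Modules) (hS : S.ShortExact) (L L' : X.Modules)
    (hL : PicF.IsInvertible L) (e : CohB1.tensorMod L L' ≅ Coh.structureModule X)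
    (c : CohB1.tensorMod S.X₃ L ≅ Coh.structureModule X)
    (h1 : Subsingleton (Coh.HH X (CohB1.tensorMod S.X₁ L) 1)) : Nonempty S.Splitting := by
  have hS' := shortExact_tw L hL S hS
  have hsurj : Function.Surjective ((wl S.g L).app ⊤) :=
    surjective_app_top_of_shortExact (S.map (tw L)) hS' h1
  obtain ⟨σ, hσ⟩ := hsurj (c.inv.app ⊤ (toS ⊤ 1))
  -- the section of the twisted sequence
  have h2 : Groth.Agent.Lib.Helper23.SecTw.secHom (CohB1.tensorMod S.X₂ L) σ ≫ wl S.g L = c.inv := by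
    rw [Groth.Agent.Lib.Helper27PnMor.secHom_comp, hσ]
    exact Groth.Agent.Lib.Helper27PnMor.secHom_sv _ c.inv
  obtain ⟨s', hs'⟩ : ∃ s' : CohB1.tensorMod S.X₃ L ⟶ CohB1.tensorMod S.X₂ L,
      s' ≫ wl S.g L = 𝟙 _ :=
    ⟨c.hom ≫ Groth.Agent.Lib.Helper23.SecTw.secHom (CohB1.tensorMod S.X₂ L) σ, by
      rw [Category.assoc, h2, Iso.hom_inv_id]⟩
  obtain ⟨ν, hν⟩ := exists_untwist L L' e
  have hsg : ((ν S.X₃).inv ≫ wl s' L' ≫ (ν S.X₂).hom) ≫ S.g = 𝟙 S.X₃ := by
    rw [Category.assoc, Category.assoc, ← hν S.g, ← Category.assoc (wl s' L'), ← wl_comp, hs',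
      wl_id, Category.id_comp, Iso.inv_hom_id]
  have hm : Mono S.f := hS.mono_f
  exact ⟨ShortComplex.Splitting.ofExactOfSection S hS.exact _ hsg hm⟩

end Abstract

section Pn

open Groth.Agent.Lib.Helper27SerreVanPn Groth.Agent.Lib.Helper27PnHom

variable (k : Type u) [Field k] (n : ℕ)

local notation "𝒢" => CohB1.polyGrading n k

theorem nonempty_twist_zero_iso :
    Nonempty (Twist.twistProjSpace n k 0 ≅ Coh.structureModule (CohB1.ProjSpace n k)) := by
  obtain ⟨e0⟩ := nonempty_OO_zero_iso n k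
  exact ⟨eqToIso (Groth.Agent.Lib.Helper27TwistEq.twistProjSpace_apply n k 0) ≪≫ e0⟩

theorem nonempty_twist_inv_iso (b : ℤ) :
    Nonempty (CohB1.tensorMod (Twist.twistProjSpace n k (-b)) (Twist.twistProjSpace n k b) ≅
      Coh.structureModule (CohB1.ProjSpace n k)) := by
  obtain ⟨e0⟩ := nonempty_twist_zero_iso k n
  obtain ⟨e1⟩ := nonempty_twist_tensor_iso n k (-b) b
  exact ⟨e1 ≪≫ eqToIso (by rw [neg_add_cancel]) ≪≫ e0⟩

/-- on `P^n_k`, `n ≥ 2`, extensions of `O(b)` by `O(a)` split. -/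
theorem nonempty_splitting_pn (hn : 2 ≤ n) (a b : ℤ)
    (S : ShortComplex (CohB1.ProjSpace n k).Modules) (hS : S.ShortExact)
    (ha : Nonempty (S.X₁ ≅ Twist.twistProjSpace n k a))
    (hb : Nonempty (S.X₃ ≅ Twist.twistProjSpace n k b)) : Nonempty S.Splitting := by
  obtain ⟨ia⟩ := ha
  obtain ⟨ib⟩ := hb
  obtain ⟨e⟩ := nonempty_twist_inv_iso k n b
  obtain ⟨e'⟩ := nonempty_twist_inv_iso k n (-b)
  rw [neg_neg] at e'
  obtain ⟨e2⟩ := nonempty_twist_tensor_iso n k a (-b)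
  refine nonempty_splitting S hS (Twist.twistProjSpace n k (-b)) (Twist.twistProjSpace n k b)
    (isInvertible_twist n k _) e (tensorModIso ib (Iso.refl _) ≪≫ e') ?_
  refine subsingleton_HH_of_iso (tensorModIso ia (Iso.refl _) ≪≫ e2) 1 ?_
  exact Groth.Agent.Lib.Helper27PnCohVanish.subsingleton_HH n k (a + -b) 1 (by omega) (by omega)

theorem isInvertible_of_rank_one {X : Scheme.{u}} (M : X.Modules)
    (h : FlatMod.IsFinLocFreeOfRank 1 M) : PicF.IsInvertible M := by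
  intro x
  obtain ⟨U, hxU, ⟨e⟩⟩ := h x
  exact ⟨U, hxU, ⟨e ≪≫ coproductUniqueIso (fun _ : Fin 1 => Coh.structureModule (↑U))⟩⟩

/-- on `P^n_k`, `n ≥ 2`, an extension of line bundles is a sum of twisting sheaves. -/
theorem exists_iso_biprod (hn : 2 ≤ n)
    (S : ShortComplex (CohB1.ProjSpace n k).Modules) (hS : S.ShortExact)
    (h₁ : FlatMod.IsFinLocFreeOfRank 1 S.X₁) (h₃ : FlatMod.IsFinLocFreeOfRank 1 S.X₃) :
    ∃ a b : ℤ, Nonempty (S.X₂ ≅ Twist.twistProjSpace n k a ⊞ Twist.twistProjSpace n k b) := by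
  have h1 := isInvertible_of_rank_one S.X₁ h₁
  have h3 := isInvertible_of_rank_one S.X₃ h₃
  obtain ⟨a, ⟨ia⟩, -⟩ := Groth.Agent.S10960.result k n (by omega) S.X₁ h1
  obtain ⟨b, ⟨ib⟩, -⟩ := Groth.Agent.S10960.result k n (by omega) S.X₃ h3
  obtain ⟨σ⟩ := nonempty_splitting_pn k n hn a b S hS ⟨ia⟩ ⟨ib⟩
  exact ⟨a, b, ⟨σ.isoBinaryBiproduct ≪≫ biprod.mapIso ia ib⟩⟩

end Pn

end Groth.Agent.Lib.Helper27SplitPn
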