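import Groth.Agent.Lib.Helper27MinPres3

/-!
# Hilbert's syzygy theorem for coherent sheaves on `P^n_k` (helper27)

Every coherent module on `P^n_k` has a resolution of length at most `n + 1` by finite direct
sums of twisting sheaves: iterate minimal linear presentations; the `(n+1)`-st syzygy satisfies
the hypotheses of Horrocks' criterion.
-/

set_option autoImplicit false
universe u

open CategoryTheory CategoryTheory.Limits AlgebraicGeometry TopologicalSpace Opposite

namespace Groth.Agent.Lib.Helper27Syzygy

open Groth.Agent.Lib.Helper27SerreVan Groth.Agent.Lib.Helper27CMReg Groth.Agent.Lib.Helper27GenTop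
  Groth.Agent.Lib.Helper27GlobGenPn Groth.Agent.Lib.Helper27LinRes
  Groth.Agent.Lib.Helper27CohFin Groth.Agent.Lib.Helper27CoprodFin Groth.Agent.Lib.Helper27LesLin
  Groth.Agent.Lib.Helper23.QCohLocal Groth.Agent.Lib.Helper27Horrocks
  Groth.Agent.Lib.Helper27SerreVanPn Groth.Agent.Lib.Helper27CMReg2
  Groth.Agent.Lib.Helper27MumfordReg Groth.Agent.Lib.Helper27MinPres

variable (k : Type u) [Field k] (n : ℕ)

theorem isCoh_kernel_pn {A B : (CohB1.ProjSpace n k).Modules} (φ : A ⟶ B) (hA : Coh.IsCoh A)
    (hB : Coh.IsCoh B) : Coh.IsCoh (kernel φ) := by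
  have hN := Groth.Agent.Lib.Helper27QProjCover.isNoetherian_projSpace n k
  have : IsLocallyNoetherian (CohB1.ProjSpace n k) := inferInstance
  have := hA.1
  have := hB.1
  have := hA.2
  have hq : (kernel φ).IsQuasicoherent := isQuasicoherent_kernel φ
  exact ⟨hq, Groth.Agent.Lib.Helper23.FinType.isFiniteType_of_mono (kernel.ι φ)⟩

theorem isMRegular_of_isZero {K : (CohB1.ProjSpace n k).Modules} (hK : IsZero K) (m : ℤ) :
    Curv2.IsMRegular k n K m := by
  intro i _ _
  have h0 : IsZero (CohB1.tensorMod K (Twist.twistProjSpace n k (m - i))) :=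
    (Groth.Agent.Lib.Helper27SerreVan.tw (Twist.twistProjSpace n k (m - i))).map_isZero hK
  have h1 : IsZero ((toAbF (CohB1.ProjSpace n k)).obj
      (CohB1.tensorMod K (Twist.twistProjSpace n k (m - i)))) :=
    (toAbF (CohB1.ProjSpace n k)).map_isZero h0
  exact Sheaf.subsingleton_H_of_isZero h1 i

/-- a stage of the resolution: a coherent `m`-regular module. -/
structure Stage where
  K : (CohB1.ProjSpace n k).Modules
  m : ℤ
  coh : Coh.IsCoh K
  reg : Curv2.IsMRegular k n K m

variable {k n}

/-- one step: an epimorphism from a coherent module with regular kernel. -/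
structure Step (S : Stage k n) where
  E : (CohB1.ProjSpace n k).Modules
  φ : E ⟶ S.K
  epi : Epi φ
  cohE : Coh.IsCoh E
  reg : Curv2.IsMRegular k n (kernel φ) (S.m + 1)

noncomputable def Stage.b (S : Stage k n) : ℕ :=
  (exists_presentation_min k n S.K S.coh S.m S.reg).choose

noncomputable def Stage.φ (S : Stage k n) :
    (∐ fun _ : Fin S.b => Twist.twistProjSpace n k (-S.m)) ⟶ S.K :=
  (exists_presentation_min k n S.K S.coh S.m S.reg).choose_spec.choose

theorem Stage.spec (S : Stage k n) :
    S.b = Module.finrank k (Coh.HH (CohB1.ProjSpace n k)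
        (CohB1.tensorMod S.K (Twist.twistProjSpace n k S.m)) 0) ∧
      Epi S.φ ∧ Curv2.IsMRegular k n (kernel S.φ) (S.m + 1) ∧
      Function.Surjective ((wl S.φ (Twist.twistProjSpace n k S.m)).app ⊤) :=
  (exists_presentation_min k n S.K S.coh S.m S.reg).choose_spec.choose_spec

/-- the minimal step. -/
noncomputable def stepMin (S : Stage k n) : Step S where
  E := ∐ fun _ : Fin S.b => Twist.twistProjSpace n k (-S.m)
  φ := S.φ
  epi := S.spec.2.1
  cohE := isCoh_sigma_twist k n S.b (-S.m)
  reg := S.spec.2.2.1

/-- the trivial step. -/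
noncomputable def stepId (S : Stage k n) : Step S where
  E := S.K
  φ := 𝟙 S.K
  epi := inferInstance
  cohE := S.coh
  reg := isMRegular_of_isZero k n (isZero_kernel_of_mono (𝟙 S.K)) _

noncomputable def Step.next {S : Stage k n} (s : Step S) : Stage k n where
  K := kernel s.φ
  m := S.m + 1
  coh := isCoh_kernel_pn k n s.φ s.cohE S.coh
  reg := s.reg

open Classical in
/-- minimal steps below `N`, trivial steps from `N` on. -/
noncomputable def stepAt (N j : ℕ) (S : Stage k n) : Step S :=
  if j < N then stepMin S else stepId S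

theorem stepAt_lt {N j : ℕ} (h : j < N) (S : Stage k n) : stepAt N j S = stepMin S := by
  unfold stepAt
  rw [if_pos h]

theorem stepAt_ge {N j : ℕ} (h : N ≤ j) (S : Stage k n) : stepAt N j S = stepId S := by
  unfold stepAt
  rw [if_neg (by omega)]

/-- the sequence of stages. -/
noncomputable def seq (N : ℕ) (S₀ : Stage k n) : ℕ → Stage k n
  | 0 => S₀
  | j + 1 => (stepAt N j (seq N S₀ j)).next

/-- the infinite minimal sequence. -/
noncomputable def mseq (S₀ : Stage k n) : ℕ → Stage k n
  | 0 => S₀
  | j + 1 => (stepMin (mseq S₀ j)).next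

theorem seq_eq_mseq (N : ℕ) (S₀ : Stage k n) : ∀ j, j ≤ N → seq N S₀ j = mseq S₀ j := by
  intro j
  induction j with
  | zero => intro _; rfl
  | succ j ih =>
    intro hj
    change (stepAt N j (seq N S₀ j)).next = (stepMin (mseq S₀ j)).next
    rw [stepAt_lt (by omega), ih (by omega)]

theorem mseq_m (S₀ : Stage k n) : ∀ j, (mseq S₀ j).m = S₀.m + j := by
  intro j
  induction j with
  | zero => simp [mseq]
  | succ j ih =>
    change (mseq S₀ j).m + 1 = _
    rw [ih]
    push_cast
    ring

end Groth.Agent.Lib.Helper27Syzygy
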