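import Groth.Agent.Lib.Helper27ExtDual2
import Groth.Agent.Lib.Helper27ExtTwist1
import Groth.Agent.Lib.Helper27ExtTwist2
import Groth.Agent.Lib.Helper27PnDualCoh
import Groth.Agent.Lib.Helper27MinPres3
import Groth.Agent.Lib.Helper27Syzygy
import Groth.Agent.Lib.Helper27SplitPn

/-!
# Helper27: Serre duality with `Ext` on `P^n_k`

`ext_duality_pn` : for a coherent `F` on `P^n_k` and `ω = O(-n-1)`:
`Ext^i(F, ω) ≃ₗ[k] (H^{n-i}(P^n_k, F))^*` for `i ≤ n`, and `Ext^i(F, ω) = 0` for `i > n`.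
-/

set_option autoImplicit false
universe u
open CategoryTheory Limits AlgebraicGeometry TopologicalSpace Opposite Abelian

namespace Groth.Agent.Lib.Helper27ExtDual3

open Groth.Agent.Lib.Helper27DualRes Groth.Agent.Lib.Helper27ExtDual2
  Groth.Agent.Lib.Helper27ExtTwist1 Groth.Agent.Lib.Helper27ExtTwist2
  Groth.Agent.Lib.Helper27PnDualCoh Groth.Agent.Lib.Helper27SerreVanPn
  Groth.Agent.Lib.Helper27MinPres Groth.Agent.Lib.Helper27Syzygy
  Groth.Agent.Lib.Helper27SplitPn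

variable (k : Type u) [Field k] (n : ℕ) [HasExt.{u} (CohB1.ProjSpace n k).Modules]

/-- `Ext^i(O(-m), O(-n-1)) = 0` for `i > 0` and `m ≥ 1`. -/
theorem subsingleton_ext_twist (ω : (CohB1.ProjSpace n k).Modules)
    (hω : ω = Twist.twistProjSpace n k (-((n : ℤ) + 1))) (m : ℤ) (hm : 1 ≤ m) (i : ℕ)
    (hi : 0 < i) : Subsingleton (Ext.{u} (Twist.twistProjSpace n k (-m)) ω i) := by
  subst hω
  obtain ⟨e0⟩ := nonempty_twist_zero_iso k n
  obtain ⟨e1⟩ := nonempty_twist_tensor_iso n k m (-m)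
  obtain ⟨e1'⟩ := nonempty_twist_tensor_iso n k (-m) m
  obtain ⟨e2⟩ := nonempty_twist_tensor_iso n k m (-((n : ℤ) + 1))
  let e : CohB1.tensorMod (Twist.twistProjSpace n k m) (Twist.twistProjSpace n k (-m)) ≅
      Coh.structureModule (CohB1.ProjSpace n k) :=
    e1 ≪≫ eqToIso (by rw [add_neg_cancel]) ≪≫ e0
  let e' : CohB1.tensorMod (Twist.twistProjSpace n k (-m)) (Twist.twistProjSpace n k m) ≅
      Coh.structureModule (CohB1.ProjSpace n k) :=
    e1' ≪≫ eqToIso (by rw [neg_add_cancel]) ≪≫ e0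
  have hO : HasExt.{u} (ModSite.Mod (CohB1.ProjSpace n k).sheaf) :=
    ‹HasExt.{u} (CohB1.ProjSpace n k).Modules›
  refine @subsingleton_ext_of_tensor _ _ _ (CohB1.ProjSpace n k).sheaf hO
    (Twist.twistProjSpace n k m) (Twist.twistProjSpace n k (-m)) e e'
    (Twist.twistProjSpace n k (-m)) (Twist.twistProjSpace n k (-((n : ℤ) + 1))) i ?_
  have hv : Subsingleton (Coh.HH (CohB1.ProjSpace n k)
      (Twist.twistProjSpace n k (m + -((n : ℤ) + 1))) i) :=
    Groth.Agent.Lib.Helper27PnCohVanish.subsingleton_HH n k _ i (by omega) (by omega)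
  exact subsingleton_ext_of_iso e.symm e2.symm i (subsingleton_ext_unit _ i hv)

/-- every coherent module on `P^n_k` is a quotient of some `O(-m)^b`, `m ≥ 1`. -/
theorem exists_good_presentation (ω : (CohB1.ProjSpace n k).Modules)
    (hω : ω = Twist.twistProjSpace n k (-((n : ℤ) + 1)))
    (F : (CohB1.ProjSpace n k).Modules) (hF : Coh.IsCoh F) :
    ∃ (E : (CohB1.ProjSpace n k).Modules) (p : E ⟶ F), Coh.IsCoh E ∧ Epi p ∧
      Coh.IsCoh (kernel p) ∧ (∀ j, j < n → Subsingleton (Coh.HH (CohB1.ProjSpace n k) E j)) ∧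
      (∀ i, 0 < i → Subsingleton (Ext.{u} E ω i)) := by
  obtain ⟨d₀, hd₀⟩ := serre_vanishing n k F hF
  have hreg : Curv2.IsMRegular k n F (max (d₀ + n) 1) :=
    fun i hi1 hin => hd₀ _ (by omega) i hi1
  obtain ⟨b, φ, -, hφ, -, -⟩ := exists_presentation_min k n F hF (max (d₀ + n) 1) hreg
  have hE : Coh.IsCoh (∐ fun _ : Fin b => Twist.twistProjSpace n k (-(max (d₀ + n) 1))) :=
    isCoh_sigma_twist k n b _
  refine ⟨_, φ, hE, hφ, isCoh_kernel_pn k n φ hE hF, fun j hj => ?_, fun i hi => ?_⟩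
  · have : ∀ _ : Fin b, Subsingleton (Coh.HH (CohB1.ProjSpace n k)
        (Twist.twistProjSpace n k (-(max (d₀ + n) 1))) j) := fun _ =>
      Groth.Agent.Lib.Helper27PnCohVanish.subsingleton_HH n k _ j (by omega) (by omega)
    exact (HHsigmaEquiv (A := k)
      (fun _ : Fin b => Twist.twistProjSpace n k (-(max (d₀ + n) 1))) j).toEquiv.subsingleton
  · exact subsingleton_ext_sigma _ ω i
      (fun _ => subsingleton_ext_twist k n ω hω _ (le_max_right _ _) i hi)

theorem ext_duality_pn_aux (ω : (CohB1.ProjSpace n k).Modules)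
    (hω : ω = OX n k (-((n : ℤ) + 1)))
    (F : (CohB1.ProjSpace n k).Modules) (hF : Coh.IsCoh F) (i : ℕ) :
    (∀ j, j + i = n → Nonempty (Ext.{u} F ω i ≃ₗ[k]
      Module.Dual k (Coh.HH (CohB1.ProjSpace n k) F j))) ∧
    (n < i → Subsingleton (Ext.{u} F ω i)) := by
  subst hω
  exact ext_duality (OX n k (-((n : ℤ) + 1))) n (trace n k)
    (fun M hM => duality_coh n k M hM)
    (fun F hF => exists_good_presentation k n _
      (Groth.Agent.Lib.Helper27TwistEq.twistProjSpace_apply n k _).symm F hF) i F hF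

/-- Serre duality on `P^n_k` with `Ext`. -/
theorem ext_duality_pn (F : (CohB1.ProjSpace n k).Modules) (hF : Coh.IsCoh F) (i : ℕ) :
    (∀ j, j + i = n → Nonempty (Ext.{u} F (Twist.twistProjSpace n k (-((n : ℤ) + 1))) i ≃ₗ[k]
      Module.Dual k (Coh.HH (CohB1.ProjSpace n k) F j))) ∧
    (n < i → Subsingleton (Ext.{u} F (Twist.twistProjSpace n k (-((n : ℤ) + 1))) i)) :=
  ext_duality_pn_aux k n _ (Groth.Agent.Lib.Helper27TwistEq.twistProjSpace_apply n k _) F hF i

end Groth.Agent.Lib.Helper27ExtDual3
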