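import Groth.Agent.Lib.Helper27ProjUniq2

/-!
# Uniqueness of morphisms to `Proj`, part 2: through the coordinate ratios (helper27)

* `appLE_eq_of_cfun`, `proj_hom_ext_of_cfun` : two morphisms `r r' : X ⟶ Proj 𝒜` over `Spec R`
  (`𝒜` generated in degree one by the `G j`) with `r⁻¹ D₊(G i) ≤ r'⁻¹ D₊(G i)` and the same
  pull-backs of the ratios `G j / G i` are equal.
-/

set_option autoImplicit false
universe u

open CategoryTheory CategoryTheory.Limits AlgebraicGeometry TopologicalSpace Opposite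
  HomogeneousLocalization
open Groth.Agent.Lib.Helper23.SecTw Groth.Agent.Lib.Helper6 Groth.Agent.Helper13PullbackUnit
  Groth.Agent.Lib.Helper27PullGen Groth.Agent.Lib.Helper27AwayGen

namespace Groth.Agent.Lib.Helper27GrTildeSect

variable {R A : Type u} [CommRing R] [CommRing A] [Algebra R A] (𝒜 : ℕ → Submodule R A)
  [GradedAlgebra 𝒜]

section Main

variable {ι : Type*} (G : ι → A) (hG : ∀ j, G j ∈ 𝒜 1)
variable {X : Scheme.{u}} (r r' : X ⟶ Proj 𝒜)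

include hG in
theorem appLE_eq_of_cfun (hgen : Algebra.adjoin R (Set.range G) = ⊤)
    (hrr' : r ≫ toBase 𝒜 = r' ≫ toBase 𝒜) (i : ι)
    (hΩ' : r ⁻¹ᵁ Proj.basicOpen 𝒜 (G i) ≤ r' ⁻¹ᵁ Proj.basicOpen 𝒜 (G i))
    (hc : ∀ j, r.appLE (Proj.basicOpen 𝒜 (G i)) (r ⁻¹ᵁ Proj.basicOpen 𝒜 (G i)) le_rfl
        (cfun 𝒜 1 G hG j i) =
      r'.appLE (Proj.basicOpen 𝒜 (G i)) (r ⁻¹ᵁ Proj.basicOpen 𝒜 (G i)) hΩ' (cfun 𝒜 1 G hG j i)) :
    r.appLE (Proj.basicOpen 𝒜 (G i)) (r ⁻¹ᵁ Proj.basicOpen 𝒜 (G i)) le_rfl =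
      r'.appLE (Proj.basicOpen 𝒜 (G i)) (r ⁻¹ᵁ Proj.basicOpen 𝒜 (G i)) hΩ' := by
  set W := Proj.basicOpen 𝒜 (G i) with hW
  set Ω := r ⁻¹ᵁ W with hΩ
  set ψ := r.appLE W Ω le_rfl with hψ
  set ψ' := r'.appLE W Ω hΩ' with hψ'
  have hsurj : Function.Surjective (Proj.awayToSection 𝒜 (G i)).hom := by
    intro c
    obtain ⟨k, a, ha, h⟩ := exists_awayToSection_eq (hG i) Nat.one_pos c
    exact ⟨_, h⟩
  let E : Subring (Away 𝒜 (G i)) :=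
    RingHom.eqLocus (ψ.hom.comp (Proj.awayToSection 𝒜 (G i)).hom)
      (ψ'.hom.comp (Proj.awayToSection 𝒜 (G i)).hom)
  have hE : E = ⊤ := by
    apply subring_eq_top 𝒜 (hG i) G hG hgen E
    · intro r₀
      change ψ ((Proj.awayToSection 𝒜 (G i)).hom _) = ψ' ((Proj.awayToSection 𝒜 (G i)).hom _)
      rw [mk'_zero_eq, awayToSection_const 𝒜 (hG i) Nat.one_pos, hψ, hψ', appLE_resf_top,
        appLE_resf_top]
      congr 1
      rw [constFun]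
      have h1 := congrArg Scheme.Hom.appTop hrr'
      rw [Scheme.Hom.comp_appTop, Scheme.Hom.comp_appTop] at h1
      exact congr($h1 _)
    · intro j
      change ψ ((Proj.awayToSection 𝒜 (G i)).hom _) = ψ' ((Proj.awayToSection 𝒜 (G i)).hom _)
      rw [awayToSection_mk'_one]
      exact hc j
  ext c
  obtain ⟨a, rfl⟩ := hsurj c
  have : a ∈ E := by rw [hE]; trivial
  exact this

include hG in
/-- **Uniqueness of morphisms to `Proj`**, through the coordinate ratios. -/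
theorem proj_hom_ext_of_cfun (hgen : Algebra.adjoin R (Set.range G) = ⊤)
    (hrr' : r ≫ toBase 𝒜 = r' ≫ toBase 𝒜)
    (h : ∀ i, ∃ hΩ' : r ⁻¹ᵁ Proj.basicOpen 𝒜 (G i) ≤ r' ⁻¹ᵁ Proj.basicOpen 𝒜 (G i),
      ∀ j, r.appLE (Proj.basicOpen 𝒜 (G i)) (r ⁻¹ᵁ Proj.basicOpen 𝒜 (G i)) le_rfl
          (cfun 𝒜 1 G hG j i) =
        r'.appLE (Proj.basicOpen 𝒜 (G i)) (r ⁻¹ᵁ Proj.basicOpen 𝒜 (G i)) hΩ'
          (cfun 𝒜 1 G hG j i)) : r = r' := by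
  have hcov : ∀ y : Proj 𝒜, ∃ i, G i ∉ (show ProjectiveSpectrum 𝒜 from y).asHomogeneousIdeal := by
    intro y
    obtain ⟨i, _, hi⟩ := Groth.Agent.Lib.Helper27ProjCover.exists_not_mem 𝒜 G (fun _ => 1) hG hgen
      (show ProjectiveSpectrum 𝒜 from y)
    exact ⟨i, hi⟩
  apply Scheme.hom_ext_of_forall
  intro x
  obtain ⟨i, hi⟩ := hcov (r x)
  have hx : x ∈ r ⁻¹ᵁ Proj.basicOpen 𝒜 (G i) :=
    (ProjectiveSpectrum.mem_basicOpen 𝒜 (G i) (r x)).mpr hi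
  refine ⟨r ⁻¹ᵁ Proj.basicOpen 𝒜 (G i), hx, ?_⟩
  obtain ⟨hΩ', hc⟩ := h i
  have hE := appLE_eq_of_cfun 𝒜 G hG r r' hgen hrr' i hΩ' hc
  have haff : IsAffine (Proj.basicOpen 𝒜 (G i)).toScheme :=
    Proj.isAffineOpen_basicOpen 𝒜 (G i) (hG i) Nat.one_pos
  have h1 : r.resLE (Proj.basicOpen 𝒜 (G i)) _ le_rfl =
      r'.resLE (Proj.basicOpen 𝒜 (G i)) _ hΩ' := by
    apply ext_of_isAffine
    have e1 : (r.resLE (Proj.basicOpen 𝒜 (G i)) (r ⁻¹ᵁ Proj.basicOpen 𝒜 (G i)) le_rfl).appTop =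
        (Proj.basicOpen 𝒜 (G i)).topIso.hom ≫ r.appLE _ _ le_rfl ≫
          (r ⁻¹ᵁ Proj.basicOpen 𝒜 (G i)).topIso.inv := Scheme.Hom.resLE_app_top r le_rfl
    have e2 : (r'.resLE (Proj.basicOpen 𝒜 (G i)) (r ⁻¹ᵁ Proj.basicOpen 𝒜 (G i)) hΩ').appTop =
        (Proj.basicOpen 𝒜 (G i)).topIso.hom ≫ r'.appLE _ _ hΩ' ≫
          (r ⁻¹ᵁ Proj.basicOpen 𝒜 (G i)).topIso.inv := Scheme.Hom.resLE_app_top r' hΩ'
    rw [e1, e2, hE]
  rw [← Scheme.Hom.resLE_comp_ι r le_rfl, ← Scheme.Hom.resLE_comp_ι r' hΩ', h1]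

end Main

end Groth.Agent.Lib.Helper27GrTildeSect
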