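import Groth.Agent.Lib.Helper27PnMor
import Groth.Agent.Lib.Helper27ProjUniq3

/-!
# Morphisms `P^n_k → P^m_k` in coordinates (helper27)

For `g : P^n_k ⟶ P^m_k` (`n ≥ 1`): there are `d` and forms `F_0, …, F_m` of degree `d` with
`g^* O(1) ≅ O(d)`, `g^* Y_j ↦ F_j`, `g⁻¹ D₊(Y_j) = D₊(F_j)`, `g^♯(Y_i / Y_j) = F_i / F_j`.
-/

set_option autoImplicit false
set_option linter.unusedSectionVars false
universe u

open CategoryTheory CategoryTheory.Limits AlgebraicGeometry TopologicalSpace Opposite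
  HomogeneousLocalization MvPolynomial
open Groth.Agent.Lib.Helper23.SecTw Groth.Agent.Lib.Helper6 Groth.Agent.Lib.Helper27GrTildeSect
open Groth.Agent.Lib.Helper23.AmpleIso Groth.Agent.Lib.Helper27PnSections
open Groth.Agent.Lib.Helper27ProjGamma

namespace Groth.Agent.Lib.Helper27PnMor

section General

variable {X : Scheme.{u}}

theorem sv_comp {M N : X.Modules} (s : Coh.structureModule X ⟶ M) (φ : M ⟶ N) (U : X.Opens) :
    sv (s ≫ φ) U = φ.app U (sv s U) := rfl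

theorem secHom_comp {M N : X.Modules} (σ : Γ(M, ⊤)) (φ : M ⟶ N) :
    secHom M σ ≫ φ = secHom N (φ.app ⊤ σ) := by
  rw [← secHom_sv N (secHom M σ ≫ φ), sv_comp, sv_secHom, res_self]

end General

section Data

variable (k : Type u) [Field k] (n m : ℕ)

local notation "𝒢n" => CohB1.polyGrading n k
local notation "𝒢m" => CohB1.polyGrading m k

/-- the coordinate data of a morphism `P^n_k ⟶ P^m_k`. -/
structure Data (g : Proj 𝒢n ⟶ Proj 𝒢m) where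
  d : ℕ
  F : Fin (m + 1) → MvPolynomial (Fin (n + 1)) k
  hF : ∀ j, F j ∈ 𝒢n d
  Φ : (Scheme.Modules.pullback g).obj (GrTilde.tilde 𝒢m 𝒢m ((1 : ℕ) : ℤ)) ≅
    GrTilde.tilde 𝒢n 𝒢n (d : ℤ)
  hΦ : ∀ j, Φ.hom.app ⊤ (ProjUP.pullSec g (GrTilde.tilde 𝒢m 𝒢m ((1 : ℕ) : ℤ))
    (gsec 𝒢m 1 ⊤ (hX m k j))) = gsec 𝒢n d ⊤ (hF j)

variable {k n m}

theorem cov (g : Proj 𝒢n ⟶ Proj 𝒢m) (x : Proj 𝒢n) :
    ∃ j, g x ∈ Proj.basicOpen 𝒢m (X j : MvPolynomial (Fin (m + 1)) k) := by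
  obtain ⟨j, hj⟩ := exists_X_not_mem m k (g x)
  exact ⟨j, (ProjectiveSpectrum.mem_basicOpen 𝒢m _ _).mpr hj⟩

theorem nonempty_data (hn : 1 ≤ n) (g : Proj 𝒢n ⟶ Proj 𝒢m) : Nonempty (Data k n m g) := by
  classical
  have hL := isInvertible_pullback_of_cover 𝒢m 1
    (fun j : Fin (m + 1) => (X j : MvPolynomial (Fin (m + 1)) k)) (hX m k) g (cov g)
  obtain ⟨d, ⟨Φ₀⟩⟩ := Groth.Agent.Lib.Helper27PicPn.exists_iso_twist (n := n) (R := k) _ hL
  have Φ : (Scheme.Modules.pullback g).obj (GrTilde.tilde 𝒢m 𝒢m ((1 : ℕ) : ℤ)) ≅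
    GrTilde.tilde 𝒢n 𝒢n d := Φ₀
  have hs : ∀ j, CohB1.genLocus (GrTilde.tilde 𝒢n 𝒢n d)
      (secHom _ (Φ.hom.app ⊤ (ProjUP.pullSec g (GrTilde.tilde 𝒢m 𝒢m ((1 : ℕ) : ℤ))
        (gsec 𝒢m 1 ⊤ (hX m k j))))) =
      g ⁻¹ᵁ Proj.basicOpen 𝒢m (X j : MvPolynomial (Fin (m + 1)) k) := by
    intro j
    rw [← secHom_comp]
    exact (genLocus_comp_iso Φ _).trans (genLocus_pullSec_gsec 𝒢m 1 _ (hX m k) g (cov g) j)
  rcases lt_or_ge d 0 with hd | hd
  · exfalso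
    have hinv : PicF.IsInvertible (GrTilde.tilde 𝒢n 𝒢n d) :=
      isInvertible_tilde 𝒢n (cover_X n k) d
    let x0 : Proj 𝒢n := Groth.Agent.Lib.Helper27PicPn.η (n := n) (R := k)
    obtain ⟨j, hj⟩ := cov g x0
    have h1 := hs j
    have h0 : Φ.hom.app ⊤ (ProjUP.pullSec g (GrTilde.tilde 𝒢m 𝒢m ((1 : ℕ) : ℤ))
        (gsec 𝒢m 1 ⊤ (hX m k j))) = 0 := eq_zero_of_neg n k hn d hd _
    rw [h0, secHom_zero, genLocus_zero _ hinv] at h1
    have : x0 ∈ (⊥ : (Proj 𝒢n).Opens) := by rw [h1]; exact hj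
    exact this
  · obtain ⟨e, rfl⟩ := Int.eq_ofNat_of_zero_le hd
    have hpoly : ∀ j, ∃ (F : MvPolynomial (Fin (n + 1)) k) (hF : F ∈ 𝒢n e),
        Φ.hom.app ⊤ (ProjUP.pullSec g (GrTilde.tilde 𝒢m 𝒢m ((1 : ℕ) : ℤ))
          (gsec 𝒢m 1 ⊤ (hX m k j))) = gsec 𝒢n e ⊤ hF := fun j => exists_global_poly n k e _
    choose F hF hFs using hpoly
    exact ⟨⟨e, F, hF, Φ, hFs⟩⟩

theorem Data.preimage_eq {g : Proj 𝒢n ⟶ Proj 𝒢m} (D : Data k n m g) (j : Fin (m + 1)) :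
    g ⁻¹ᵁ Proj.basicOpen 𝒢m (X j : MvPolynomial (Fin (m + 1)) k) = Proj.basicOpen 𝒢n (D.F j) := by
  rw [← genLocus_secHom_gsec n k D.d (D.hF j), ← D.hΦ j, ← secHom_comp]
  exact ((genLocus_comp_iso D.Φ _).trans
    (genLocus_pullSec_gsec 𝒢m 1 _ (hX m k) g (cov g) j)).symm

theorem Data.not_mem_of_mem {g : Proj 𝒢n ⟶ Proj 𝒢m} (D : Data k n m g)
    {j : Fin (m + 1)} {y : ProjectiveSpectrum 𝒢n}
    (hy : y ∈ g ⁻¹ᵁ Proj.basicOpen 𝒢m (X j : MvPolynomial (Fin (m + 1)) k)) :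
    D.F j ∉ y.asHomogeneousIdeal := by
  rw [D.preimage_eq j] at hy
  exact (ProjectiveSpectrum.mem_basicOpen 𝒢n _ y).mp hy

/-- `g^♯(Y_i / Y_j) = F_i / F_j`. -/
theorem Data.funVal_appLE_cfun {g : Proj 𝒢n ⟶ Proj 𝒢m} (D : Data k n m g)
    (i j : Fin (m + 1)) (y : ProjectiveSpectrum 𝒢n)
    (hy : y ∈ g ⁻¹ᵁ Proj.basicOpen 𝒢m (X j : MvPolynomial (Fin (m + 1)) k)) :
    (funVal 𝒢n _ (g.appLE (Proj.basicOpen 𝒢m (X j : MvPolynomial (Fin (m + 1)) k))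
      (g ⁻¹ᵁ Proj.basicOpen 𝒢m (X j : MvPolynomial (Fin (m + 1)) k)) le_rfl
      (cfun 𝒢m 1 (fun j : Fin (m + 1) => (X j : MvPolynomial (Fin (m + 1)) k)) (hX m k) i j))
      y hy).val =
    (Localization.mk (D.F i) (⟨D.F j, D.not_mem_of_mem hy⟩ :
      y.asHomogeneousIdeal.toIdeal.primeCompl) : Twist.Loc 𝒢n y) := by
  set W := Proj.basicOpen 𝒢m (X j : MvPolynomial (Fin (m + 1)) k) with hW
  set Ω := g ⁻¹ᵁ W with hΩ
  set c := g.appLE W Ω le_rfl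
    (cfun 𝒢m 1 (fun j : Fin (m + 1) => (X j : MvPolynomial (Fin (m + 1)) k)) (hX m k) i j) with hc
  have h1 := res_pullSec_eq 𝒢m (fun j : Fin (m + 1) => (X j : MvPolynomial (Fin (m + 1)) k))
    (hX m k) g i j
  have h2 := res_pullSec_eq 𝒢m (fun j : Fin (m + 1) => (X j : MvPolynomial (Fin (m + 1)) k))
    (hX m k) g j j
  rw [cfun_self, map_one, one_smul] at h2
  rw [← h2] at h1
  -- apply `Φ`
  have h3 := congrArg (D.Φ.hom.app Ω) h1
  rw [Groth.Agent.Lib.Helper2.ModExact.app_smul] at h3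
  have e1 : ∀ l, D.Φ.hom.app Ω (res _ (le_top : Ω ≤ ⊤)
      (ProjUP.pullSec g (GrTilde.tilde 𝒢m 𝒢m ((1 : ℕ) : ℤ)) (gsec 𝒢m 1 ⊤ (hX m k l)))) =
      gsec 𝒢n D.d Ω (D.hF l) := by
    intro l
    have := Groth.Agent.Lib.Helper2.ModExact.app_map D.Φ.hom (homOfLE (le_top : Ω ≤ ⊤))
      (ProjUP.pullSec g (GrTilde.tilde 𝒢m 𝒢m ((1 : ℕ) : ℤ)) (gsec 𝒢m 1 ⊤ (hX m k l)))
    refine this.trans ?_
    rw [D.hΦ l]
    rfl
  rw [e1 i, e1 j] at h3
  have h4 := (fracSec_eq_smul_iff (D.d : ℤ) Ω (D.hF i)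
    (SetLike.GradedOne.one_mem : (1 : MvPolynomial (Fin (n + 1)) k) ∈ 𝒢n 0) (by simp)
    (fun y => one_not_mem 𝒢n y.1) (D.hF j)
    (SetLike.GradedOne.one_mem : (1 : MvPolynomial (Fin (n + 1)) k) ∈ 𝒢n 0) (by simp)
    (fun y => one_not_mem 𝒢n y.1) c).mp h3 y hy
  apply (isUnit_mk (D.not_mem_of_mem hy) (one_not_mem 𝒢n y)).mul_left_injective
  change _ * _ = _ * _
  rw [← h4, Localization.mk_mul, Localization.mk_eq_mk_iff, Localization.r_iff_exists]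
  refine ⟨1, ?_⟩
  simp only [OneMemClass.coe_one, one_mul, Submonoid.coe_mul, mul_one]
  ring

end Data

section Scaling

theorem eval₂_mul_pow {σ R S : Type*} [Fintype σ] [CommSemiring R] [CommSemiring S]
    (f : R →+* S) (c : σ → S) (u : S) {e : ℕ} {H : MvPolynomial σ R} (hH : H.IsHomogeneous e) :
    eval₂ f (fun i => c i * u) H = eval₂ f c H * u ^ e := by
  classical
  rw [eval₂_eq', eval₂_eq', Finset.sum_mul]
  refine Finset.sum_congr rfl (fun d hd => ?_)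
  have h1 : ∑ i, d i = e := by
    have h2 : Finsupp.weight (1 : σ → ℕ) d = e := hH (mem_support_iff.mp hd)
    have h3 : Finsupp.weight (1 : σ → ℕ) d = Finsupp.degree d := by
      rw [Finsupp.degree_eq_weight_one]; rfl
    rw [h3, Finsupp.degree_eq_sum] at h2
    exact h2
  simp_rw [mul_pow]
  rw [Finset.prod_mul_distrib, Finset.prod_pow_eq_pow_sum, h1, mul_assoc]

end Scaling

section FunValHom

variable {R A : Type u} [CommRing R] [CommRing A] [Algebra R A] (𝒜 : ℕ → Submodule R A)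
  [GradedAlgebra 𝒜]

/-- evaluation of functions at a point, as a ring homomorphism. -/
def funValHom (W : (Proj 𝒜).Opens) (y : ProjectiveSpectrum 𝒜) (hy : y ∈ W) :
    Γ(Proj 𝒜, W) →+* Twist.A0 𝒜 y where
  toFun c := funVal 𝒜 W c y hy
  map_one' := rfl
  map_mul' _ _ := rfl
  map_zero' := rfl
  map_add' _ _ := rfl

end FunValHom

section MemIff

open Groth.Agent.Lib.Helper27DehomAway Groth.Agent.Lib.Helper27AwayGen

variable {k : Type u} [Field k] {n m : ℕ}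

local notation "𝒢n" => CohB1.polyGrading n k
local notation "𝒢m" => CohB1.polyGrading m k

theorem pow_not_mem' {y : ProjectiveSpectrum 𝒢n} {f : MvPolynomial (Fin (n + 1)) k}
    (hf : f ∉ y.asHomogeneousIdeal) (e : ℕ) : f ^ e ∉ y.asHomogeneousIdeal :=
  fun h => hf (y.isPrime.mem_of_pow_mem e h)

/-- `g^♯(H / Y_j^e) = H(F) / F_j^e`. -/
theorem Data.val_funVal_appLE_dehA {g : Proj 𝒢n ⟶ Proj 𝒢m} (D : Data k n m g)
    (hg : g ≫ toBase 𝒢m = toBase 𝒢n) (j : Fin (m + 1)) (y : ProjectiveSpectrum 𝒢n)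
    (hy : y ∈ g ⁻¹ᵁ Proj.basicOpen 𝒢m (X j : MvPolynomial (Fin (m + 1)) k))
    {e : ℕ} {H : MvPolynomial (Fin (m + 1)) k} (hH : H ∈ 𝒢m e) :
    (funVal 𝒢n _ (g.appLE (Proj.basicOpen 𝒢m (X j : MvPolynomial (Fin (m + 1)) k))
      (g ⁻¹ᵁ Proj.basicOpen 𝒢m (X j : MvPolynomial (Fin (m + 1)) k)) le_rfl
      ((Proj.awayToSection 𝒢m (X j)).hom (dehA (hX m k j) H))) y hy).val =
    (Localization.mk (aeval D.F H) (⟨D.F j ^ e, pow_not_mem' (D.not_mem_of_mem hy) e⟩ :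
      y.asHomogeneousIdeal.toIdeal.primeCompl) : Twist.Loc 𝒢n y) := by
  set W := Proj.basicOpen 𝒢m (X j : MvPolynomial (Fin (m + 1)) k) with hW
  set Ω := g ⁻¹ᵁ W with hΩ
  let ρ1 : MvPolynomial (Fin (m + 1)) k →+* Twist.Loc 𝒢n y :=
    (algebraMap (Twist.A0 𝒢n y) (Twist.Loc 𝒢n y)).comp ((funValHom 𝒢n Ω y hy).comp
      ((g.appLE W Ω le_rfl).hom.comp ((Proj.awayToSection 𝒢m (X j)).hom.comp (dehA (hX m k j)))))
  let u : Twist.Loc 𝒢n y := Localization.mk 1 (⟨D.F j, D.not_mem_of_mem hy⟩ :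
      y.asHomogeneousIdeal.toIdeal.primeCompl)
  let ρ2 : MvPolynomial (Fin (m + 1)) k →+* Twist.Loc 𝒢n y :=
    eval₂Hom (algebraMap k (Twist.Loc 𝒢n y))
      (fun i => algebraMap (MvPolynomial (Fin (n + 1)) k) (Twist.Loc 𝒢n y) (D.F i) * u)
  have key : ρ1 = ρ2 := by
    apply MvPolynomial.ringHom_ext
    · intro c
      have hρ2 : ρ2 (C c) = algebraMap k (Twist.Loc 𝒢n y) c := by
        change eval₂ _ _ (C c) = _
        rw [eval₂_C]
      rw [hρ2]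
      change (funVal 𝒢n Ω (g.appLE W Ω le_rfl
        ((Proj.awayToSection 𝒢m (X j)).hom (dehA (hX m k j) (C c)))) y hy).val = _
      have hd : dehA (hX m k j) (C c : MvPolynomial (Fin (m + 1)) k) =
          mk' 𝒢m (hX m k j) 0 (algebraMap k _ c) (SetLike.algebraMap_mem_graded 𝒢m c) :=
        dehA_of_mem (hX m k j) (SetLike.algebraMap_mem_graded 𝒢m c)
      rw [hd, mk'_zero_eq, awayToSection_const 𝒢m (hX m k j) Nat.one_pos, appLE_resf_top]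
      have hc : g.appTop (constFun 𝒢m c) = constFun 𝒢n c := by
        rw [constFun, constFun, ← hg, Scheme.Hom.comp_appTop]
        rfl
      rw [hc]
      obtain ⟨i, hi⟩ := exists_X_not_mem n k y
      have h5 := funVal_constFun_val 𝒢n (hX n k i) Nat.one_pos c y hi
      have h6 : funVal 𝒢n Ω ((Proj 𝒢n).presheaf.map (homOfLE (le_top : Ω ≤ ⊤)).op
          (constFun 𝒢n c)) y hy = funVal 𝒢n ⊤ (constFun 𝒢n c) y trivial :=
        funVal_map 𝒢n le_top _ y hy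
      rw [h6, h5, Localization.mk_one_eq_algebraMap]
      exact (IsScalarTower.algebraMap_apply k (MvPolynomial (Fin (n + 1)) k)
        (Twist.Loc 𝒢n y) c).symm
    · intro i
      have hρ2 : ρ2 (X i) = algebraMap (MvPolynomial (Fin (n + 1)) k) (Twist.Loc 𝒢n y) (D.F i) * u := by
        change eval₂ _ _ (X i) = _
        rw [eval₂_X]
      rw [hρ2]
      change (funVal 𝒢n Ω (g.appLE W Ω le_rfl
        ((Proj.awayToSection 𝒢m (X j)).hom (dehA (hX m k j) (X i)))) y hy).val = _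
      have hd : dehA (hX m k j) (X i : MvPolynomial (Fin (m + 1)) k) =
          mk' 𝒢m (hX m k j) 1 (X i) (hX m k i) := dehA_of_mem (hX m k j) (hX m k i)
      rw [hd, awayToSection_mk'_one 𝒢m (fun j : Fin (m + 1) => (X j : MvPolynomial (Fin (m + 1)) k))
        (hX m k) i j, D.funVal_appLE_cfun i j y hy, ← Localization.mk_one_eq_algebraMap,
        Localization.mk_mul]
      congr 1
      · rw [mul_one]
      · ext
        simp
  have h1 : ρ1 H = ρ2 H := by rw [key]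
  change ρ1 H = _
  rw [h1]
  change eval₂ _ _ H = _
  rw [eval₂_mul_pow _ _ _ hH]
  have h2 : eval₂ (algebraMap k (Twist.Loc 𝒢n y))
      (fun i => algebraMap (MvPolynomial (Fin (n + 1)) k) (Twist.Loc 𝒢n y) (D.F i)) H =
      algebraMap (MvPolynomial (Fin (n + 1)) k) (Twist.Loc 𝒢n y) (aeval D.F H) := by
    rw [aeval_def, eval₂_comp_left, ← IsScalarTower.algebraMap_eq]
    rfl
  rw [h2, ← Localization.mk_one_eq_algebraMap, Localization.mk_pow, Localization.mk_mul]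
  congr 1
  · rw [one_pow, mul_one]
  · ext
    simp

/-- the point `g y` in coordinates: `H ∈ g y ↔ H(F) ∈ y`. -/
theorem Data.mem_iff {g : Proj 𝒢n ⟶ Proj 𝒢m} (D : Data k n m g)
    (hg : g ≫ toBase 𝒢m = toBase 𝒢n) {e : ℕ} {H : MvPolynomial (Fin (m + 1)) k} (hH : H ∈ 𝒢m e)
    (y : ProjectiveSpectrum 𝒢n) :
    H ∈ (show ProjectiveSpectrum 𝒢m from g y).asHomogeneousIdeal ↔
      aeval D.F H ∈ y.asHomogeneousIdeal := by
  obtain ⟨j, hj⟩ := exists_X_not_mem m k (g y)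
  have hy : y ∈ g ⁻¹ᵁ Proj.basicOpen 𝒢m (X j : MvPolynomial (Fin (m + 1)) k) :=
    (ProjectiveSpectrum.mem_basicOpen 𝒢m _ _).mpr hj
  set W := Proj.basicOpen 𝒢m (X j : MvPolynomial (Fin (m + 1)) k) with hW
  set Ω := g ⁻¹ᵁ W with hΩ
  have hd : dehA (hX m k j) H = Away.mk 𝒢m (hX m k j) e H (mem_smul_one hH) :=
    dehA_of_mem (hX m k j) hH
  set uH := (Proj.awayToSection 𝒢m (X j)).hom (dehA (hX m k j) H) with huH
  -- step A
  have hA : (show ProjectiveSpectrum 𝒢m from g y) ∈ (Proj 𝒢m).basicOpen uH ↔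
      H ∉ (show ProjectiveSpectrum 𝒢m from g y).asHomogeneousIdeal := by
    rw [huH, hd, mem_basicOpen_awayToSection_iff (hX m k j) e H (mem_smul_one hH)]
    constructor
    · intro h h'
      exact h (Ideal.mul_mem_right _ _ h')
    · intro h h'
      exact ((show ProjectiveSpectrum 𝒢m from g y).isPrime.mem_or_mem h').elim h hj
  -- step B
  have hB : (show ProjectiveSpectrum 𝒢m from g y) ∈ (Proj 𝒢m).basicOpen uH ↔
      y ∈ (Proj 𝒢n).basicOpen (g.appLE W Ω le_rfl uH) := by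
    rw [Scheme.Hom.appLE_eq_app, ← Scheme.preimage_basicOpen]
    rfl
  -- step C
  have hC : y ∈ (Proj 𝒢n).basicOpen (g.appLE W Ω le_rfl uH) ↔
      aeval D.F H ∉ y.asHomogeneousIdeal := by
    rw [mem_basicOpen_iff_isUnit_funVal 𝒢n Ω _ y hy,
      isUnit_of_val_eq_mk _ _ (D.val_funVal_appLE_dehA hg j y hy hH)]
  rw [← not_iff_not, ← hA, hB, hC]

end MemIff

end Groth.Agent.Lib.Helper27PnMor
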