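import Groth.Agent.Lib.Helper27TensorLin
import Groth.Agent.Lib.Helper27PnMor2
import Groth.Agent.Lib.Helper27ExtDual1
import Groth.Agent.Lib.Helper21SheafHomFree

/-!
# Helper27: `Hom(F, N) ≃ H^0(X, ℋ N)` for a right adjoint `ℋ` of `F ⊗ -` (linear and natural)

For `X` over `Spec k`, `adj : (F ⊗ -) ⊣ ℋ`:
* `T adj N : Ext^0(F, N) ≃ₗ[k] H^0(X, ℋ N)`;
* `T_nat` : naturality in `N`.
-/

set_option autoImplicit false
universe u
open CategoryTheory Limits AlgebraicGeometry TopologicalSpace Opposite Abelian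

namespace Groth.Agent.Lib.Helper27ExtHom1

open Groth.Agent.Lib.Helper23.SecTw Groth.Agent.Lib.Helper27PnMor
  Groth.Agent.Lib.Helper27PnSections Groth.Agent.Lib.Helper27TensorLin
  Groth.Agent.Lib.Helper21.ModTensor3 Groth.Agent.Lib.Helper21.ModTensor5
  Groth.Agent.Lib.Helper21.SheafHomFree Groth.Agent.Lib.Helper27DualRes
  Groth.Agent.Lib.Helper27ExtDual1

variable {k : Type u} [CommRing k] {X : Scheme.{u}} [X.Over (Spec (CommRingCat.of k))]

/-- `F ⊗ -` as an endofunctor of `X.Modules`. -/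
noncomputable abbrev tensL (F : X.Modules) : X.Modules ⥤ X.Modules :=
  (DCoh.tensorBi (X := X)).obj F

theorem tensL_map_smulModΓ (F A : X.Modules) (r : Coh.Γtop X) :
    (tensL F).map (Formal.smulModΓ A r) = Formal.smulModΓ ((tensL F).obj A) r :=
  tL_map_smulModΓ F A r

theorem tL_map_smul (F A : X.Modules) (a : k) :
    (tensL F).map (a • 𝟙 A) = a • 𝟙 ((tensL F).obj A) := by
  rw [KLin.smul_id, KLin.smul_id]
  exact tensL_map_smulModΓ F A _

/-- `F ≅ F ⊗ O`. -/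
noncomputable def unitIso (F : X.Modules) : F ≅ (tensL F).obj (Coh.structureModule X) :=
  aIso X.sheaf F

/-- `H^0(X, M) ≃+ Γ(X, M)`, typed with `Γ(M, ⊤)`. -/
noncomputable def h0 (M : X.Modules) : Coh.HH X M 0 ≃+ Γ(M, ⊤) := hh0Equiv X M

theorem h0_HHlin {M N : X.Modules} (φ : M ⟶ N) (y : Coh.HH X M 0) :
    h0 N (Canon.HHlin k φ 0 y) = φ.app ⊤ (h0 M y) := by
  have hT : Limits.IsTerminal (⊤ : X.Opens) := Limits.isTerminalTop
  have e1 := Sheaf.H.equiv₀_naturality hT ((SheafOfModules.toSheaf X.ringCatSheaf).map φ) y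
  exact e1.symm

theorem h0_smul (M : X.Modules) (r : Coh.Γtop X) (x : Coh.HH X M 0) :
    h0 M (r • x) = X.presheaf.map (homOfLE (le_top : (⊤ : X.Opens) ≤ ⊤)).op r • h0 M x :=
  hh0Equiv_smul X M r x

variable (F : X.Modules) (ℋ : X.Modules ⥤ X.Modules) (adj : tensL F ⊣ ℋ)

/-- `Hom(F, N) ≃ Hom(O, ℋ N)`. -/
noncomputable def homUnitEquiv (N : X.Modules) :
    (F ⟶ N) ≃ (Coh.structureModule X ⟶ ℋ.obj N) :=
  (Iso.homCongr (unitIso F) (Iso.refl N)).trans (adj.homEquiv (Coh.structureModule X) N)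

theorem homUnitEquiv_apply (N : X.Modules) (f : F ⟶ N) :
    homUnitEquiv F ℋ adj N f =
      adj.homEquiv (Coh.structureModule X) N ((unitIso F).inv ≫ f) := by
  change adj.homEquiv _ N ((unitIso F).inv ≫ f ≫ 𝟙 N) = _
  rw [Category.comp_id]

theorem homUnitEquiv_comp {N N' : X.Modules} (f : F ⟶ N) (g : N ⟶ N') :
    homUnitEquiv F ℋ adj N' (f ≫ g) = homUnitEquiv F ℋ adj N f ≫ ℋ.map g := by
  rw [homUnitEquiv_apply, homUnitEquiv_apply, ← Category.assoc,
    Adjunction.homEquiv_naturality_right]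

theorem homUnitEquiv_add (N : X.Modules) (f f' : F ⟶ N) :
    homUnitEquiv F ℋ adj N (f + f') = homUnitEquiv F ℋ adj N f + homUnitEquiv F ℋ adj N f' := by
  haveI : ℋ.Additive := adj.right_adjoint_additive
  rw [homUnitEquiv_apply, homUnitEquiv_apply, homUnitEquiv_apply, Preadditive.comp_add,
    Adjunction.homEquiv_unit, Adjunction.homEquiv_unit, Adjunction.homEquiv_unit,
    Functor.map_add, Preadditive.comp_add]

theorem homUnitEquiv_smul (N : X.Modules) (a : k) (f : F ⟶ N) :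
    homUnitEquiv F ℋ adj N (a • f) = a • homUnitEquiv F ℋ adj N f := by
  rw [homUnitEquiv_apply, homUnitEquiv_apply, Linear.comp_smul]
  have h1 : a • ((unitIso F).inv ≫ f) =
      (tensL F).map (a • 𝟙 (Coh.structureModule X)) ≫ ((unitIso F).inv ≫ f) := by
    rw [tL_map_smul, Linear.smul_comp, Category.id_comp]
  rw [h1, Adjunction.homEquiv_naturality_left, Linear.smul_comp, Category.id_comp]

theorem sv_add {M : X.Modules} (s s' : Coh.structureModule X ⟶ M) :
    sv (s + s') ⊤ = sv s ⊤ + sv s' ⊤ := by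
  rw [val_eq_app, val_eq_app, val_eq_app]
  rfl

theorem sv_smul {M : X.Modules} (a : k) (s : Coh.structureModule X ⟶ M) :
    sv (a • s) ⊤ = X.presheaf.map (homOfLE (le_top : (⊤ : X.Opens) ≤ ⊤)).op
      (Coh.toGlobal (X ↘ Spec (CommRingCat.of k)) a) • sv s ⊤ := by
  rw [val_eq_app, val_eq_app, KLin.smul_app_apply]

theorem sv_injective {M : X.Modules} (s s' : Coh.structureModule X ⟶ M)
    (h : sv s ⊤ = sv s' ⊤) : s = s' := by
  rw [← secHom_sv M s, ← secHom_sv M s', h]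

variable [HasExt.{u} X.Modules]

/-- `Ext^0(F, N) → H^0(X, ℋ N)`. -/
noncomputable def Tfun (N : X.Modules) (x : Ext.{u} F N 0) :
    Coh.HH X (ℋ.obj N) 0 :=
  (h0 (ℋ.obj N)).symm (sv (homUnitEquiv F ℋ adj N (Ext.linearEquiv₀ (R := k) x)) ⊤)

theorem Tfun_add (N : X.Modules) (x y : Ext.{u} F N 0) :
    Tfun (k := k) F ℋ adj N (x + y) = Tfun (k := k) F ℋ adj N x + Tfun (k := k) F ℋ adj N y := by
  unfold Tfun
  rw [map_add, homUnitEquiv_add, sv_add, map_add]

theorem Tfun_smul (N : X.Modules) (a : k) (x : Ext.{u} F N 0) :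
    Tfun (k := k) F ℋ adj N (a • x) = a • Tfun (k := k) F ℋ adj N x := by
  apply (h0 (ℋ.obj N)).injective
  have h1 : a • Tfun (k := k) F ℋ adj N x =
      (Coh.toGlobal (X ↘ Spec (CommRingCat.of k)) a) • Tfun (k := k) F ℋ adj N x := rfl
  rw [h1, h0_smul]
  unfold Tfun
  rw [AddEquiv.apply_symm_apply, AddEquiv.apply_symm_apply, map_smul, homUnitEquiv_smul, sv_smul]

theorem Tfun_bijective (N : X.Modules) : Function.Bijective (Tfun (k := k) F ℋ adj N) := by
  constructor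
  · intro x y h
    unfold Tfun at h
    have h2 := sv_injective _ _ ((h0 (ℋ.obj N)).symm.injective h)
    exact (Ext.linearEquiv₀ (R := k)).injective ((homUnitEquiv F ℋ adj N).injective h2)
  · intro y
    refine ⟨(Ext.linearEquiv₀ (R := k)).symm ((homUnitEquiv F ℋ adj N).symm
      (secHom (ℋ.obj N) (h0 (ℋ.obj N) y))), ?_⟩
    unfold Tfun
    rw [LinearEquiv.apply_symm_apply, Equiv.apply_symm_apply, sv_secHom, res_self,
      AddEquiv.symm_apply_apply]

/-- `Ext^0(F, N) ≃ₗ[k] H^0(X, ℋ N)`. -/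
noncomputable def T (N : X.Modules) : Ext.{u} F N 0 ≃ₗ[k] Coh.HH X (ℋ.obj N) 0 :=
  LinearEquiv.ofBijective
    { toFun := Tfun (k := k) F ℋ adj N
      map_add' := Tfun_add F ℋ adj N
      map_smul' := Tfun_smul F ℋ adj N }
    (Tfun_bijective F ℋ adj N)

theorem T_apply (N : X.Modules) (x : Ext.{u} F N 0) :
    T (k := k) F ℋ adj N x = Tfun (k := k) F ℋ adj N x := rfl

/-- naturality of `T`. -/
theorem T_nat {N N' : X.Modules} (g : N ⟶ N') (x : Ext.{u} F N 0) :
    T (k := k) F ℋ adj N' (x.comp (Ext.mk₀ g) (add_zero 0)) =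
      Canon.HHlin k (ℋ.map g) 0 (T (k := k) F ℋ adj N x) := by
  obtain ⟨f, rfl⟩ := (Ext.mk₀_bijective F N).2 x
  rw [Ext.mk₀_comp_mk₀, T_apply, T_apply]
  apply (h0 (ℋ.obj N')).injective
  rw [h0_HHlin]
  unfold Tfun
  rw [AddEquiv.apply_symm_apply, AddEquiv.apply_symm_apply]
  have h1 : ∀ {M : X.Modules} (h : F ⟶ M), Ext.linearEquiv₀ (R := k) (Ext.mk₀ h) = h := by
    intro M h
    apply (Ext.linearEquiv₀ (R := k)).symm.injective
    rw [LinearEquiv.symm_apply_apply]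
    rfl
  rw [h1, h1, homUnitEquiv_comp]
  rfl

end Groth.Agent.Lib.Helper27ExtHom1
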