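import Mathlib

/-!
# Helper27: comparison of cokernels (linear algebra)
-/

set_option autoImplicit false
universe u

namespace Groth.Agent.Lib.Helper27ExtHomLA

variable {k : Type*} [Field k]
variable {A₁ A₂ Y B₁ B₂ Y' : Type*} [AddCommGroup A₁] [Module k A₁] [AddCommGroup A₂] [Module k A₂]
  [AddCommGroup Y] [Module k Y] [AddCommGroup B₁] [Module k B₁] [AddCommGroup B₂] [Module k B₂]
  [AddCommGroup Y'] [Module k Y']

/-- if `A₂ → A₁ → Y → 0` and `B₂ → B₁ → Y' → 0` are exact and compatible `A₁ ≃ B₁`, `A₂ ↠ B₂` are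
given, then `Y ≃ Y'`. -/
theorem step_coker (a : A₂ →ₗ[k] A₁) (b : A₁ →ₗ[k] Y) (hb : Function.Surjective b)
    (hba : ∀ y, b (a y) = 0) (hex : ∀ x, b x = 0 → ∃ y, a y = x)
    (a' : B₂ →ₗ[k] B₁) (b' : B₁ →ₗ[k] Y') (hb' : Function.Surjective b')
    (hba' : ∀ y, b' (a' y) = 0) (hex' : ∀ x, b' x = 0 → ∃ y, a' y = x)
    (θ₁ : A₁ ≃ₗ[k] B₁) (θ₂ : A₂ →ₗ[k] B₂) (hθ₂ : Function.Surjective θ₂)
    (hcomp : ∀ y, θ₁ (a y) = a' (θ₂ y)) : Nonempty (Y ≃ₗ[k] Y') := by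
  let g : A₁ →ₗ[k] Y' := b'.comp θ₁.toLinearMap
  have hg : Function.Surjective g := hb'.comp θ₁.surjective
  have hker : LinearMap.ker g = LinearMap.ker b := by
    ext x
    rw [LinearMap.mem_ker, LinearMap.mem_ker]
    constructor
    · intro hx
      obtain ⟨w, hw⟩ := hex' (θ₁ x) hx
      obtain ⟨y, rfl⟩ := hθ₂ w
      rw [← hcomp] at hw
      rw [← θ₁.injective hw]
      exact hba y
    · intro hx
      obtain ⟨y, rfl⟩ := hex x hx
      change b' (θ₁ (a y)) = 0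
      rw [hcomp]
      exact hba' _
  exact ⟨(LinearMap.quotKerEquivOfSurjective b hb).symm ≪≫ₗ
    (Submodule.quotEquivOfEq _ _ hker.symm) ≪≫ₗ LinearMap.quotKerEquivOfSurjective g hg⟩

end Groth.Agent.Lib.Helper27ExtHomLA
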