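import Groth.Agent.Lib.Helper27ExtHom1
import Groth.Agent.Lib.Helper27ExtHomLA
import Groth.Agent.Lib.Helper27ExtDual2
import Groth.Agent.S0485

/-!
# Helper27: `Ext^p(F, N) ≃ₗ[k] H^p(X, ℋ N)` for an exact right adjoint `ℋ` of `F ⊗ -`

`X` over a field `k`, `adj : (F ⊗ -) ⊣ ℋ` with `ℋ` exact and `ℋ I` acyclic for injective `I`.
-/

set_option autoImplicit false
universe u
open CategoryTheory Limits AlgebraicGeometry TopologicalSpace Opposite Abelian

namespace Groth.Agent.Lib.Helper27ExtHom2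

open Groth.Agent.Lib.Helper27ExtHom1 Groth.Agent.Lib.Helper27ExtHomLA
  Groth.Agent.Lib.Helper27ExtDual2 Groth.Agent.Lib.Helper27CohFin
  Groth.Agent.Lib.Helper23.QCohLocal

variable {k : Type u} [Field k] {X : Scheme.{u}} [X.Over (Spec (CommRingCat.of k))]
  [HasExt.{u} X.Modules]

section LES

variable (F : X.Modules) (S : ShortComplex X.Modules) (hS : S.ShortExact)

variable (k) in
/-- the connecting map `Ext^p(F, Q) → Ext^{p+1}(F, N)`. -/
noncomputable def extDeltaCov (p : ℕ) : Ext.{u} F S.X₃ p →ₗ[k] Ext.{u} F S.X₁ (p + 1) :=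
  hS.extClass.postcompOfLinear k F rfl

theorem extDeltaCov_apply (p : ℕ) (x : Ext.{u} F S.X₃ p) :
    extDeltaCov k F S hS p x = x.comp hS.extClass rfl := rfl

theorem surjective_extDeltaCov (p : ℕ) (h2 : Subsingleton (Ext.{u} F S.X₂ (p + 1))) :
    Function.Surjective (extDeltaCov k F S hS p) := by
  intro x₁
  obtain ⟨x₃, hx₃⟩ := Ext.covariant_sequence_exact₁ F hS x₁ (Subsingleton.elim _ _) rfl
  exact ⟨x₃, hx₃⟩

theorem exact_extDeltaCov (p : ℕ) (x : Ext.{u} F S.X₃ p) (hx : extDeltaCov k F S hS p x = 0) :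
    ∃ y : Ext.{u} F S.X₂ p, y.comp (Ext.mk₀ S.g) (add_zero p) = x :=
  Ext.covariant_sequence_exact₃ F hS x rfl hx

theorem extDeltaCov_comp (p : ℕ) (y : Ext.{u} F S.X₂ p) :
    extDeltaCov k F S hS p (y.comp (Ext.mk₀ S.g) (add_zero p)) = 0 := by
  rw [extDeltaCov_apply, Ext.comp_assoc_of_second_deg_zero, hS.comp_extClass, Ext.comp_zero]

include hS in
theorem nonempty_extDeltaCov_equiv (p : ℕ) (h2 : Subsingleton (Ext.{u} F S.X₂ p))
    (h2' : Subsingleton (Ext.{u} F S.X₂ (p + 1))) :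
    Nonempty (Ext.{u} F S.X₃ p ≃ₗ[k] Ext.{u} F S.X₁ (p + 1)) := by
  refine ⟨LinearEquiv.ofBijective (extDeltaCov k F S hS p)
    ⟨?_, surjective_extDeltaCov F S hS p h2'⟩⟩
  rw [injective_iff_map_eq_zero]
  intro x hx
  obtain ⟨y, rfl⟩ := exact_extDeltaCov F S hS p x hx
  have : y = 0 := Subsingleton.elim _ _
  rw [this, Ext.zero_comp]

theorem surjective_deltaLin (S' : ShortComplex X.Modules) (hS' : S'.ShortExact) (p : ℕ)
    (h2 : Subsingleton (Coh.HH X S'.X₂ (p + 1))) :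
    Function.Surjective (deltaLin k S' hS' p) := by
  intro z
  exact exact_delta₁ S' hS' p z (Subsingleton.elim _ _)

end LES

variable (F : X.Modules) (ℋ : X.Modules ⥤ X.Modules) (adj : tensL F ⊣ ℋ)

include adj in
theorem ext_equiv_HH [PreservesFiniteColimits ℋ]
    (hac : ∀ I : X.Modules, Injective I → ∀ q : ℕ, 0 < q → Subsingleton (Coh.HH X (ℋ.obj I) q))
    (p : ℕ) : ∀ N : X.Modules, Nonempty (Ext.{u} F N p ≃ₗ[k] Coh.HH X (ℋ.obj N) p) := by
  have : EnoughInjectives X.Modules :=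
    Groth.Agent.S0485.result (Opens.grothendieckTopology X) X.ringCatSheaf
  have : ℋ.IsRightAdjoint := adj.isRightAdjoint
  have : ℋ.Additive := adj.right_adjoint_additive
  induction p with
  | zero => exact fun N => ⟨T F ℋ adj N⟩
  | succ p ih =>
    intro N
    let S : ShortComplex X.Modules :=
      ShortComplex.mk (Injective.ι N) (cokernel.π (Injective.ι N)) (cokernel.condition _)
    have hS : S.ShortExact :=
      { exact := ShortComplex.exact_of_g_is_cokernel _ (cokernelIsCokernel _)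
        mono_f := (inferInstance : Mono (Injective.ι N))
        epi_g := (inferInstance : Epi (cokernel.π (Injective.ι N))) }
    have hS' : (S.map ℋ).ShortExact := hS.map_of_exact ℋ
    have hI : Injective S.X₂ := (inferInstance : Injective (Injective.under N))
    have hE1 : Subsingleton (Ext.{u} F S.X₂ (p + 1)) := Ext.subsingleton_of_injective F S.X₂ p
    have hH1 : Subsingleton (Coh.HH X (S.map ℋ).X₂ (p + 1)) := hac S.X₂ hI (p + 1) (Nat.succ_pos p)
    rcases Nat.eq_zero_or_pos p with hp | hp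
    · subst hp
      refine (step_coker
        ((Ext.mk₀ S.g).postcompOfLinear k F (add_zero 0)) (extDeltaCov k F S hS 0)
        (surjective_extDeltaCov F S hS 0 hE1) (extDeltaCov_comp F S hS 0)
        (exact_extDeltaCov F S hS 0)
        (Canon.HHlin k (S.map ℋ).g 0) (deltaLin k (S.map ℋ) hS' 0)
        (surjective_deltaLin (S.map ℋ) hS' 0 hH1)
        (fun y => delta_map (S.map ℋ) hS' 0 y)
        (fun x hx => exact_delta (S.map ℋ) hS' 0 x hx)
        (T F ℋ adj S.X₃) (T F ℋ adj S.X₂).toLinearMap (T F ℋ adj S.X₂).surjective ?_)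
      intro y
      exact T_nat F ℋ adj S.g y
    · obtain ⟨q, rfl⟩ : ∃ q, p = q + 1 := ⟨p - 1, by omega⟩
      have hE0 : Subsingleton (Ext.{u} F S.X₂ (q + 1)) := Ext.subsingleton_of_injective F S.X₂ q
      have hH0 : Subsingleton (Coh.HH X (S.map ℋ).X₂ (q + 1)) :=
        hac S.X₂ hI (q + 1) (Nat.succ_pos q)
      obtain ⟨e₁⟩ := nonempty_extDeltaCov_equiv (k := k) F S hS (q + 1) hE0 hE1
      obtain ⟨e₂⟩ := ih S.X₃
      obtain ⟨e₃⟩ := nonempty_delta_equiv (k := k) (S.map ℋ) hS' (q + 1) hH0 hH1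
      exact ⟨e₁.symm ≪≫ₗ e₂ ≪≫ₗ e₃⟩

end Groth.Agent.Lib.Helper27ExtHom2
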