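import Groth.Agent.Lib.Helper27ExtHom2
import Groth.Agent.Lib.Helper21ExtLocFree
import Groth.Agent.Lib.Helper27LesLin

/-!
# Helper27: `Ext^p(F, N) ≃ₗ[k] H^p(X, ℋom(F, N))` for `F` finite locally free

`X` a scheme over a field `k`; `ℋom(F, -) = DCoh.sheafHom F` is the chosen right adjoint of `F ⊗ -`.
-/

set_option autoImplicit false
universe u
open CategoryTheory Limits AlgebraicGeometry TopologicalSpace Opposite Abelian

namespace Groth.Agent.Lib.Helper27ExtHom3

open Groth.Agent.Lib.Helper27ExtHom1 Groth.Agent.Lib.Helper27ExtHom2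
  Groth.Agent.Lib.Helper21.ModTensor3 Groth.Agent.Lib.Helper21.ModTensor5
  Groth.Agent.Lib.Helper21.FreeAb Groth.Agent.Lib.Helper21.TorsFree

variable {k : Type u} [Field k] {X : Scheme.{u}} [X.Over (Spec (CommRingCat.of k))]
  [HasExt.{u} X.Modules]

theorem ext_equiv_HH_sheafHom (F : X.Modules) (hF : FlatMod.IsFinLocFree F)
    [DCoh.HasSheafHom F] (p : ℕ) (N : X.Modules) :
    Nonempty (Ext.{u} F N p ≃ₗ[k] Coh.HH X ((DCoh.sheafHom F).obj N) p) := by
  haveI hM : ModSite.HasSheafHom (O := X.sheaf) F :=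
    Groth.Agent.Lib.Helper21.ExtShDelta.hasSheafHom X.sheaf F
  haveI : EnoughInjectives (ModSite.Mod X.sheaf) :=
    Groth.Agent.S0485.result (Opens.grothendieckTopology X) X.ringCatSheaf
  let ℋM : X.Modules ⥤ X.Modules := ModSite.sheafHom (O := X.sheaf) F
  let adjM : tensL F ⊣ ℋM :=
    (ModSite.sheafHomAdj (O := X.sheaf) F).ofNatIsoLeft ((brd X.sheaf).app F).symm
  haveI : PreservesFiniteColimits ℋM :=
    Groth.Agent.Lib.Helper21.ExtLocFree.preservesFiniteColimits_sheafHom X.sheaf F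
      (fun G q => Groth.Agent.Lib.Helper21.ExtShLocFree.isZero_extSh_of_isFinLocFree F G hF q)
  have hac : ∀ I : X.Modules, Injective I → ∀ q : ℕ, 0 < q →
      Subsingleton (Coh.HH X (ℋM.obj I) q) := by
    intro I hI q hq
    obtain ⟨q', rfl⟩ : ∃ q', q = q' + 1 := ⟨q - 1, by omega⟩
    haveI : Injective (show ModSite.Mod X.sheaf from I) := hI
    exact ⟨fun x y =>
      (ext_sheafHom_eq_zero X.sheaf F I q' _ TF_Zc x).trans
        (ext_sheafHom_eq_zero X.sheaf F I q' _ TF_Zc y).symm⟩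
  obtain ⟨e₁⟩ := ext_equiv_HH (k := k) F ℋM adjM hac p N
  let ι : DCoh.sheafHom F ≅ ℋM := Adjunction.rightAdjointUniq (DCoh.sheafHomAdj F) adjM
  exact ⟨e₁ ≪≫ₗ Groth.Agent.Lib.Helper27LesLin.HHequiv k (ι.app N).symm p⟩

end Groth.Agent.Lib.Helper27ExtHom3
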