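import Groth.Agent.Lib.Helper27FibreStalk
import Groth.Agent.Lib.Helper26StalkLim
import Groth.Agent.Lib.Helper23RestrJ
import Groth.Agent.S9223

/-!
# Ampleness on a fibre spreads to a neighbourhood (helper27)

For `f : X ⟶ Y` proper, `Y` Noetherian, `y : Y` and `L` invertible on `X` with `L|X_y` ample,
`L` is ample on `f⁻¹(W)` for all affine opens `W` in some open neighbourhood of `y`.

The proof: `X ×_Y Spec O_{Y,y}` is the cofiltered limit of the `f⁻¹(W)`, `W` running over the affine
open neighbourhoods of `y` (`preIsLimit`); `L` is ample on the limit (`isAmple_localBase`), hence on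
some stage (`S9223`).
-/

set_option autoImplicit false
universe u
open CategoryTheory Limits AlgebraicGeometry TopologicalSpace Opposite

namespace Groth.Agent.Lib.Helper27FibreSpread

open Groth.Agent.Lib.Helper26.StalkLim

variable {X Y : Scheme.{u}} (f : X ⟶ Y)

/-- pullback square for restrictions to nested opens -/
theorem isPullback_homOfLE {W W' : Y.Opens} (h : W ≤ W') :
    IsPullback (X.homOfLE (f.preimage_mono h)) (f ∣_ W) (f ∣_ W') (Y.homOfLE h) := by
  refine IsPullback.of_right ?_ ?_ (isPullback_morphismRestrict f W').flip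
  · simpa using (isPullback_morphismRestrict f W).flip
  · rw [← cancel_mono W'.ι]
    simp [morphismRestrict_ι]

theorem isAffineHom_homOfLE {W W' : Y.Opens} (h : W ≤ W') (hW : IsAffineOpen W)
    (hW' : IsAffineOpen W') : IsAffineHom (X.homOfLE (f.preimage_mono h)) := by
  have : IsAffine ↑W := hW
  have : IsAffine ↑W' := hW'
  exact MorphismProperty.of_isPullback (P := @IsAffineHom) (isPullback_homOfLE f h).flip
    inferInstance

theorem quasiCompact_morphismRestrict [QuasiCompact f] (W : Y.Opens) : QuasiCompact (f ∣_ W) :=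
  MorphismProperty.of_isPullback (P := @QuasiCompact) (isPullback_morphismRestrict f W).flip
    inferInstance

theorem quasiSeparated_morphismRestrict [QuasiSeparated f] (W : Y.Opens) :
    QuasiSeparated (f ∣_ W) :=
  MorphismProperty.of_isPullback (P := @QuasiSeparated) (isPullback_morphismRestrict f W).flip
    inferInstance

variable (y : Y)

/-- the diagram `W ↦ f⁻¹(W)` over the affine open neighbourhoods of `y`. -/
noncomputable def preDiagram : (AffNhd y)ᵒᵖ ⥤ Scheme.{u} where
  obj i := ↑(f ⁻¹ᵁ i.unop.U)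
  map {i j} g := X.homOfLE (f.preimage_mono (leOfHom g.unop : i.unop.U ≤ j.unop.U))
  map_id i := by simp
  map_comp g h := by simp

/-- the inclusion of a stage into `X`. -/
noncomputable def preι (i : (AffNhd y)ᵒᵖ) : (preDiagram f y).obj i ⟶ X := (f ⁻¹ᵁ i.unop.U).ι

instance (i : (AffNhd y)ᵒᵖ) : IsOpenImmersion (preι f y i) :=
  inferInstanceAs (IsOpenImmersion (f ⁻¹ᵁ i.unop.U).ι)

theorem range_preι (i : (AffNhd y)ᵒᵖ) :
    Set.range (preι f y i) = ((f ⁻¹ᵁ i.unop.U : X.Opens) : Set X) :=
  Scheme.Opens.range_ι _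

/-- the map of a stage to the base `Spec Γ(Y, W)`. -/
noncomputable def preBase (i : (AffNhd y)ᵒᵖ) : (preDiagram f y).obj i ⟶ (specDiagram y).obj i :=
  (f ∣_ i.unop.U) ≫ i.unop.isAffine.isoSpec.hom

/-- the leg of the cone of spectra, with its source stated plainly. -/
noncomputable def specπ (i : (AffNhd y)ᵒᵖ) : Spec (Y.presheaf.stalk y) ⟶ (specDiagram y).obj i :=
  (specCone y).π.app i

@[reassoc]
theorem specπ_toX (i : (AffNhd y)ᵒᵖ) : specπ y i ≫ toX y i = Y.fromSpecStalk y :=
  π_toX y i

@[reassoc]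
theorem preBase_toX (i : (AffNhd y)ᵒᵖ) : preBase f y i ≫ toX y i = preι f y i ≫ f := by
  show ((f ∣_ i.unop.U) ≫ i.unop.isAffine.isoSpec.hom) ≫ i.unop.isAffine.fromSpec =
    (f ⁻¹ᵁ i.unop.U).ι ≫ f
  rw [Category.assoc, IsAffineOpen.isoSpec_hom_fromSpec, morphismRestrict_ι]

@[reassoc]
theorem preDiagram_map_ι {i j : (AffNhd y)ᵒᵖ} (g : i ⟶ j) :
    (preDiagram f y).map g ≫ preι f y j = preι f y i := by
  simp [preDiagram, preι]

instance (i j : (AffNhd y)ᵒᵖ) (g : i ⟶ j) : IsAffineHom ((preDiagram f y).map g) :=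
  isAffineHom_homOfLE f (leOfHom g.unop : i.unop.U ≤ j.unop.U) i.unop.isAffine j.unop.isAffine

instance [QuasiCompact f] (i : (AffNhd y)ᵒᵖ) : CompactSpace ((preDiagram f y).obj i) := by
  have h1 : IsAffine ↑i.unop.U := i.unop.isAffine
  have h2 : QuasiCompact (f ∣_ i.unop.U) := quasiCompact_morphismRestrict f i.unop.U
  exact @QuasiCompact.compactSpace_of_compactSpace _ _ (f ∣_ i.unop.U) h2 inferInstance

instance [QuasiSeparated f] (i : (AffNhd y)ᵒᵖ) :
    QuasiSeparatedSpace ((preDiagram f y).obj i) := by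
  have h1 : IsAffine ↑i.unop.U := i.unop.isAffine
  have h2 : QuasiSeparated (f ∣_ i.unop.U) := quasiSeparated_morphismRestrict f i.unop.U
  exact @quasiSeparatedSpace_of_quasiSeparated _ _ (f ∣_ i.unop.U) inferInstance h2

theorem fromSpecStalk_mem (i : (AffNhd y)ᵒᵖ) (w : Spec (Y.presheaf.stalk y)) :
    (Y.fromSpecStalk y) w ∈ i.unop.U := by
  have h1 : (Y.fromSpecStalk y) w = (toX y i) ((specπ y i) w) := by
    rw [← specπ_toX y i]; rfl
  rw [h1, ← SetLike.mem_coe, ← range_toX y i]
  exact ⟨_, rfl⟩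

/-- the legs of the cone. -/
noncomputable def preLeg (i : (AffNhd y)ᵒᵖ) :
    pullback f (Y.fromSpecStalk y) ⟶ (preDiagram f y).obj i :=
  IsOpenImmersion.lift (preι f y i) (pullback.fst f (Y.fromSpecStalk y)) (by
    rw [range_preι]
    rintro _ ⟨z, rfl⟩
    have h1 : f ((pullback.fst f (Y.fromSpecStalk y)) z) =
        (Y.fromSpecStalk y) ((pullback.snd f (Y.fromSpecStalk y)) z) := by
      rw [← Scheme.Hom.comp_apply, ← Scheme.Hom.comp_apply, pullback.condition]
    show f ((pullback.fst f (Y.fromSpecStalk y)) z) ∈ i.unop.U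
    rw [h1]
    exact fromSpecStalk_mem y i _)

@[reassoc]
theorem preLeg_ι (i : (AffNhd y)ᵒᵖ) :
    preLeg f y i ≫ preι f y i = pullback.fst f (Y.fromSpecStalk y) :=
  IsOpenImmersion.lift_fac _ _ _

theorem preLeg_base (i : (AffNhd y)ᵒᵖ) :
    preLeg f y i ≫ preBase f y i = pullback.snd f (Y.fromSpecStalk y) ≫ specπ y i := by
  rw [← cancel_mono (toX y i), Category.assoc, Category.assoc, preBase_toX, specπ_toX,
    ← pullback.condition, preLeg_ι_assoc]

/-- the cone with vertex `X ×_Y Spec O_{Y,y}`. -/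
noncomputable def preCone : Cone (preDiagram f y) where
  pt := pullback f (Y.fromSpecStalk y)
  π :=
    { app := preLeg f y
      naturality := fun i j g => by
        show 𝟙 _ ≫ preLeg f y j = preLeg f y i ≫ (preDiagram f y).map g
        rw [Category.id_comp, ← cancel_mono (preι f y j), Category.assoc, preDiagram_map_ι,
          preLeg_ι, preLeg_ι] }

/-- the component of the induced cone over the spectra. -/
noncomputable def baseLeg (s : Cone (preDiagram f y)) (i : (AffNhd y)ᵒᵖ) :
    s.pt ⟶ (specDiagram y).obj i := s.π.app i ≫ preBase f y i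

theorem baseLeg_toX (s : Cone (preDiagram f y)) (i : (AffNhd y)ᵒᵖ) :
    baseLeg f y s i ≫ toX y i = (s.π.app i ≫ preι f y i) ≫ f := by
  unfold baseLeg
  rw [Category.assoc, preBase_toX, Category.assoc]

theorem cone_ι_eq (s : Cone (preDiagram f y)) (i j : (AffNhd y)ᵒᵖ) :
    s.π.app i ≫ preι f y i = s.π.app j ≫ preι f y j := by
  obtain ⟨c, hc⟩ := AffNhd.exists_le y (i.unop.U ⊓ j.unop.U) ⟨i.unop.mem, j.unop.mem⟩
  have hc1 : i.unop ≤ c := hc.trans inf_le_left
  have hc2 : j.unop ≤ c := hc.trans inf_le_right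
  have e1 : (op c : (AffNhd y)ᵒᵖ) ⟶ i := (homOfLE hc1).op
  have e2 : (op c : (AffNhd y)ᵒᵖ) ⟶ j := (homOfLE hc2).op
  rw [← s.w e1, ← s.w e2, Category.assoc, Category.assoc, preDiagram_map_ι, preDiagram_map_ι]

/-- compatible family of maps to the `Spec Γ(Y, W)` from a cone. -/
noncomputable def baseCone (s : Cone (preDiagram f y)) : Cone (specDiagram y) where
  pt := s.pt
  π :=
    { app := baseLeg f y s
      naturality := fun i j g => by
        show 𝟙 _ ≫ baseLeg f y s j = baseLeg f y s i ≫ (specDiagram y).map g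
        rw [Category.id_comp, ← cancel_mono (toX y j), Category.assoc, map_toX, baseLeg_toX,
          baseLeg_toX, cone_ι_eq f y s i j] }

/-- the induced map to `Spec O_{Y,y}`. -/
noncomputable def toStalk (s : Cone (preDiagram f y)) : s.pt ⟶ Spec (Y.presheaf.stalk y) :=
  (specIsLimit y).lift (baseCone f y s)

theorem toStalk_specπ (s : Cone (preDiagram f y)) (i : (AffNhd y)ᵒᵖ) :
    toStalk f y s ≫ specπ y i = baseLeg f y s i :=
  (specIsLimit y).fac (baseCone f y s) i

theorem toStalk_uniq (s : Cone (preDiagram f y)) (m : s.pt ⟶ Spec (Y.presheaf.stalk y))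
    (hm : ∀ i, m ≫ specπ y i = baseLeg f y s i) : m = toStalk f y s :=
  (specIsLimit y).uniq (baseCone f y s) m hm

/-- the induced map to `X ×_Y Spec O_{Y,y}`. -/
noncomputable def preLift (s : Cone (preDiagram f y)) : s.pt ⟶ pullback f (Y.fromSpecStalk y) :=
  pullback.lift
    (s.π.app (op (Classical.arbitrary (AffNhd y))) ≫
      preι f y (op (Classical.arbitrary (AffNhd y))))
    (toStalk f y s) (by
      rw [← specπ_toX y (op (Classical.arbitrary (AffNhd y))), ← Category.assoc, toStalk_specπ,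
        baseLeg_toX])

theorem preLift_leg (s : Cone (preDiagram f y)) (i : (AffNhd y)ᵒᵖ) :
    preLift f y s ≫ preLeg f y i = s.π.app i := by
  unfold preLift
  rw [← cancel_mono (preι f y i), Category.assoc, preLeg_ι, pullback.lift_fst]
  exact cone_ι_eq f y s _ _

theorem preLift_uniq (s : Cone (preDiagram f y)) (m : s.pt ⟶ pullback f (Y.fromSpecStalk y))
    (hm : ∀ i, m ≫ preLeg f y i = s.π.app i) : m = preLift f y s := by
  unfold preLift
  apply pullback.hom_ext
  · rw [pullback.lift_fst, ← hm, Category.assoc, preLeg_ι]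
  · rw [pullback.lift_snd]
    refine toStalk_uniq f y s _ (fun i => ?_)
    unfold baseLeg
    rw [Category.assoc, ← preLeg_base f y i, ← Category.assoc, hm]

/-- `X ×_Y Spec O_{Y,y}` is the limit of the `f⁻¹(W)`. -/
noncomputable def preIsLimit : IsLimit (preCone f y) where
  lift s := preLift f y s
  fac s i := preLift_leg f y s i
  uniq s m hm := preLift_uniq f y s m hm

/-- pulling back a restriction to an open subscheme. -/
noncomputable def pullbackRestrictIso (L : X.Modules) {X' P : Scheme.{u}} (k : X' ⟶ X)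
    [IsOpenImmersion k] (j : P ⟶ X') (p : P ⟶ X) (w : j ≫ k = p) :
    (Scheme.Modules.pullback j).obj (L.restrict k) ≅ (Scheme.Modules.pullback p).obj L :=
  (Scheme.Modules.pullback j).mapIso ((Scheme.Modules.restrictFunctorIsoPullback k).app L) ≪≫
    (Scheme.Modules.pullbackComp j k).app L ≪≫ (Scheme.Modules.pullbackCongr w).app L

/-- ampleness on the fibre over `y` spreads to a neighbourhood of `y`. -/
theorem spread [IsProper f] [IsNoetherian Y] (L : X.Modules) (hL : PicF.IsInvertible L)
    (hy : CohB1.IsAmple ((Scheme.Modules.pullback (f.fiberι y)).obj L)) :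
    ∃ V : Y.Opens, y ∈ V ∧ ∀ W : Y.Opens, W ≤ V → IsAffineOpen W →
      CohB1.IsAmple (L.restrict (f ⁻¹ᵁ W).ι) := by
  have h1 := Groth.Agent.Lib.Helper27FibreStalk.isAmple_localBase f y L hL hy
  let i₀ : (AffNhd y)ᵒᵖ := op (Classical.arbitrary (AffNhd y))
  have hL₀ : PicF.IsInvertible (L.restrict (preι f y i₀)) :=
    Groth.Agent.Lib.Helper23.RestrJ.isInvertible_restrict (preι f y i₀) L hL
  have h2 : CohB1.IsAmple ((Scheme.Modules.pullback ((preCone f y).π.app i₀)).obj
      (L.restrict (preι f y i₀))) :=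
    Groth.Agent.Lib.Helper23.AmpleIso.isAmple_of_iso
      (pullbackRestrictIso L (preι f y i₀) (preLeg f y i₀) _ (preLeg_ι f y i₀)).symm h1
  obtain ⟨i, φ, h3⟩ := Groth.Agent.S9223.result (preDiagram f y) (preCone f y) (preIsLimit f y) i₀
    (L.restrict (preι f y i₀)) hL₀ h2
  have h4 : CohB1.IsAmple (L.restrict (preι f y i)) :=
    Groth.Agent.Lib.Helper23.AmpleIso.isAmple_of_iso
      (pullbackRestrictIso L (preι f y i₀) ((preDiagram f y).map φ) (preι f y i)
        (preDiagram_map_ι f y φ) ≪≫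
        ((Scheme.Modules.restrictFunctorIsoPullback (preι f y i)).app L).symm) h3
  refine ⟨i.unop.U, i.unop.mem, fun W hW hWa => ?_⟩
  refine Groth.Agent.Lib.Helper23.RestrJ.isAmple_restrict_of_le L (f.preimage_mono hW) ?_ h4
  exact QuasiCompact.isCompact_preimage (f := f) _ W.isOpen hWa.isCompact

end Groth.Agent.Lib.Helper27FibreSpread
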