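import Groth.Agent.Lib.Helper17GrSys

/-!
# Functoriality of graded systems (helper27)

`mapSys Φ F`: the image of a graded system under a functor; `mapSys_FT`: finite type is preserved
by additive functors preserving epimorphisms.
-/

set_option autoImplicit false
universe v v' u u'
open CategoryTheory Limits

namespace Groth.Agent.Lib.Helper27GrSysMap

open Groth.Agent.Lib.Helper17.GrSys

variable {C : Type u} [Category.{v} C] {D : Type u'} [Category.{v'} D] {r : ℕ}

/-- the image of a graded system under a functor. -/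
def mapSys (Φ : C ⥤ D) (F : Sys C r) : Sys D r where
  obj n := Φ.obj (F.obj n)
  T i n := Φ.map (F.T i n)
  comm i j n := by rw [← Φ.map_comp, ← Φ.map_comp, F.comm]

attribute [local instance] Abelian.hasFiniteBiproducts

theorem je_map [Abelian C] [Abelian D] (Φ : C ⥤ D) [Φ.Additive] [Φ.PreservesEpimorphisms]
    {ι : Type} [Finite ι] {A : ι → C} {B : C} (f : ∀ i, A i ⟶ B) (h : JE f) :
    JE (fun i => Φ.map (f i)) := by
  haveI : Fintype ι := Fintype.ofFinite ι
  haveI : Epi (biproduct.desc f) := (je_iff_epi_desc f).1 h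
  intro Z g hg
  have h1 : (∑ i, biproduct.π A i ≫ f i) = biproduct.desc f := by
    have : ∀ i, biproduct.π A i ≫ f i = (biproduct.π A i ≫ biproduct.ι A i) ≫ biproduct.desc f := by
      intro i; rw [Category.assoc, biproduct.ι_desc]
    simp_rw [this]
    rw [← Preadditive.sum_comp, biproduct.total, Category.id_comp]
  haveI : Epi (Φ.map (biproduct.desc f)) := Φ.map_epi _
  apply zero_of_epi_comp (Φ.map (biproduct.desc f))
  rw [← h1, Φ.map_sum, Preadditive.sum_comp]
  refine Finset.sum_eq_zero (fun i _ => ?_)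
  rw [Φ.map_comp, Category.assoc, hg i, comp_zero]

theorem mapSys_FT [Abelian C] [Abelian D] (Φ : C ⥤ D) [Φ.Additive] [Φ.PreservesEpimorphisms]
    (F : Sys C r) (h : F.FT) : (mapSys Φ F).FT := by
  obtain ⟨n₀, hn₀⟩ := h
  exact ⟨n₀, fun n hn => je_map Φ (fun i => F.T i n) (hn₀ n hn)⟩

end Groth.Agent.Lib.Helper27GrSysMap
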