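import Groth.Agent.Lib.Helper27ComplHyp
import Groth.Agent.Lib.Helper27GrSysMap
import Groth.Agent.Lib.Helper17FlatDev4
import Groth.Agent.Lib.Helper27TensorLin
import Groth.Agent.Lib.Helper23RestrTensor
import Groth.Agent.Lib.Helper23PB
import Groth.Agent.S0051
import Groth.Agent.S0059
import Groth.Agent.S0002
import Groth.Agent.Lib.Helper21HZB9

/-!
# Serre vanishing from ampleness on the closed fibre (helper27)

Let `A ⟶ A'` be a surjection of Noetherian rings with kernel `I` contained in the Jacobson radical,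
`X` proper over `A`, `Z = X ×_A A'` with `j : Z ⟶ X`, and `L` an invertible `O_X`-module such that
`j^* L` is ample.  Then for every coherent `O_X`-module `N` the higher cohomology of `N ⊗ L^d`
vanishes for all large `d` (`sv_of_fibre_ample`), hence `L` is ample (`isAmple_of_fibre_ample`).

The proof: the kernels `K_n` of `N/I^(n+2) ⟶ N/I^(n+1)` form a graded system of finite type, whose
pullback to `Z` has uniformly vanishing twisted cohomology; transfer to `X`, induction on `n`, and
the theorem on formal functions.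
-/

set_option autoImplicit false
universe u
open CategoryTheory Limits AlgebraicGeometry TopologicalSpace Opposite

namespace Groth.Agent.Lib.Helper27FibreVan

open Groth.Agent.Lib.Helper17.GrSys Groth.Agent.Lib.Helper17.IAdic
  Groth.Agent.Lib.Helper17.FlatDev Groth.Agent.Lib.Helper27FormalKer
  Groth.Agent.Lib.Helper27ComplHyp Groth.Agent.Lib.Helper27GrSysMap
  Groth.Agent.Lib.Helper27GrSysVan Groth.Agent.Lib.Helper27FinSurjAmple
  Groth.Agent.Lib.Helper27SerreVan

variable {A A' : Type u} [CommRing A] [CommRing A'] (φ : A →+* A')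
  {X Z : Scheme.{u}} [X.Over (Spec (CommRingCat.of A))] (j : Z ⟶ X)
  (z : Z ⟶ Spec (CommRingCat.of A'))
  (hsq : IsPullback j z (X ↘ Spec (CommRingCat.of A)) (Spec.map (CommRingCat.ofHom φ)))

theorem smulMod_tensorMod (K E : X.Modules) (a : A) :
    Formal.smulMod A (CohB1.tensorMod K E) a = (tw E).map (Formal.smulMod A K a) :=
  (Groth.Agent.Lib.Helper27TensorLin.tR_map_smulModΓ E K
    (Coh.toGlobal (X ↘ Spec (CommRingCat.of A)) a)).symm

theorem killedBy_tensorMod (J : Ideal A) (K E : X.Modules) (h : Formal.KilledBy J K) :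
    Formal.KilledBy J (CohB1.tensorMod K E) := by
  intro a ha
  rw [smulMod_tensorMod, h a ha]
  exact (tw E).map_zero _ _

theorem isIso_πQ_of_killed (J : Ideal A) (M : X.Modules) (h : Formal.KilledBy J M) :
    IsIso (πQ J M) := by
  have h0 : Formal.smulFamily J M = 0 := by
    apply Sigma.hom_ext
    intro b
    rw [ι_smulFamily, comp_zero]
    exact h b.1 b.2
  have e : πQ J M = cokernel.π (0 : (∐ fun _ : J => M) ⟶ M) ≫ (cokernelIsoOfEq h0).inv := by
    rw [Iso.eq_comp_inv]
    exact π_comp_cokernelIsoOfEq_hom h0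
  rw [e]
  infer_instance

include hsq in
/-- transfer of vanishing from the closed fibre, for modules killed by the kernel. -/
theorem subsingleton_HH_of_fibre (hφ : Function.Surjective φ) (K : X.Modules)
    [K.IsQuasicoherent] (hK : Formal.KilledBy (RingHom.ker φ) K) (L : X.Modules)
    (hL : PicF.IsInvertible L) (d p : ℕ)
    (h : Subsingleton (Coh.HH Z (CohB1.tensorMod ((Scheme.Modules.pullback j).obj K)
      (CohB1.tensorPow ((Scheme.Modules.pullback j).obj L) d)) p)) :
    Subsingleton (Coh.HH X (CohB1.tensorMod K (CohB1.tensorPow L d)) p) := by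
  have hLd := Groth.Agent.Lib.Helper23.SecTw.isInvertible_tensorPow hL d
  haveI : (CohB1.tensorPow L d).IsQuasicoherent :=
    Groth.Agent.Lib.Helper23.SecTw.isQuasicoherent_of_isInvertible _ hLd
  haveI : (CohB1.tensorMod K (CohB1.tensorPow L d)).IsQuasicoherent :=
    Groth.Agent.Lib.Helper23.TensorQCoh.isQuasicoherent_tensorMod K (CohB1.tensorPow L d)
  obtain ⟨Θ⟩ := Groth.Agent.Lib.Helper23.PB.nonempty_pullback_tensorPow_iso j L hL d
  let e : (Scheme.Modules.pullback j).obj (CohB1.tensorMod K (CohB1.tensorPow L d)) ≅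
      CohB1.tensorMod ((Scheme.Modules.pullback j).obj K)
        (CohB1.tensorPow ((Scheme.Modules.pullback j).obj L) d) :=
    Groth.Agent.Lib.Helper23.RestrTensor.pullbackTensorIso K (CohB1.tensorPow L d) j ≪≫
      PicGrp.tensorModIso (Iso.refl _) Θ
  have h' := subsingleton_HH_of_iso e p h
  have h2 := subsingleton_HH_Q_of_fibre φ j z hsq (CohB1.tensorMod K (CohB1.tensorPow L d)) hφ p h'
  haveI := isIso_πQ_of_killed (RingHom.ker φ) _ (killedBy_tensorMod _ K (CohB1.tensorPow L d) hK)
  exact subsingleton_HH_of_iso (asIso (πQ (RingHom.ker φ) (CohB1.tensorMod K (CohB1.tensorPow L d))))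
    p h2

/-- `K_n` is killed by `I`. -/
theorem killedBy_K {I : Ideal A} {G : ℕᵒᵖ ⥤ X.Modules} (hG : Hyp I G) (n : ℕ) :
    Formal.KilledBy I (K G n) := by
  intro a ha
  rw [← cancel_mono (Kι G n), zero_comp, ← comp_smulMod]
  exact Kι_smulMod hG n a ha

/-- the short exact sequence `0 → K_n → G_{n+1} → G_n → 0`. -/
theorem shortExact_K {I : Ideal A} {G : ℕᵒᵖ ⥤ X.Modules} (hG : Hyp I G) (n : ℕ) :
    (ShortComplex.mk (Kι G n) (tr G n) (kernel.condition _)).ShortExact :=
  { exact := ShortComplex.exact_kernel (tr G n)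
    mono_f := inferInstanceAs (Mono (kernel.ι (tr G n)))
    epi_g := epi_tr hG n }

theorem subsingleton_of_adicCompletion {R : Type*} [CommRing R] (I : Ideal R)
    (hI : I ≤ Ideal.jacobson ⊥) (M : Type*) [AddCommGroup M] [Module R M] [Module.Finite R M]
    [Subsingleton (AdicCompletion I M)] : Subsingleton M := by
  have h1 : Subsingleton (M ⧸ (I ^ 1 • ⊤ : Submodule R M)) :=
    (AdicCompletion.eval_surjective I M 1).subsingleton
  have h2 : (I ^ 1 • ⊤ : Submodule R M) = ⊤ := Submodule.Quotient.subsingleton_iff.1 h1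
  rw [pow_one] at h2
  have h3 : (⊤ : Submodule R M) = ⊥ :=
    Submodule.eq_bot_of_le_smul_of_le_jacobson_bot I ⊤ Module.Finite.fg_top (by rw [h2]) hI
  exact (Submodule.subsingleton_iff R).1 (subsingleton_of_bot_eq_top h3.symm)

include hsq in
/-- **Serre vanishing from ampleness on the closed fibre.** -/
theorem sv_of_fibre_ample [IsNoetherianRing A] (hφ : Function.Surjective φ)
    (hjac : RingHom.ker φ ≤ Ideal.jacobson ⊥) [IsProper (X ↘ Spec (CommRingCat.of A))]
    (L : X.Modules) (hL : PicF.IsInvertible L)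
    (hamp : CohB1.IsAmple ((Scheme.Modules.pullback j).obj L)) (N : X.Modules)
    (hN : Coh.IsCoh N) : SV L N := by
  haveI : IsLocallyNoetherian X :=
    LocallyOfFiniteType.isLocallyNoetherian (X ↘ Spec (CommRingCat.of A))
  haveI : IsNoetherianRing A' := isNoetherianRing_of_surjective A A' φ hφ
  haveI : IsProper z := MorphismProperty.of_isPullback (P := @IsProper) hsq inferInstance
  haveI : IsLocallyNoetherian Z := LocallyOfFiniteType.isLocallyNoetherian z
  haveI : CompactSpace Z := QuasiCompact.compactSpace_of_compactSpace z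
  haveI : IsNoetherian Z := { }
  set I : Ideal A := RingHom.ker φ with hI
  have hfg : I.FG := (isNoetherianRing_iff_ideal_fg A).1 inferInstance I
  obtain ⟨r, a, ha⟩ := Submodule.fg_iff_exists_fin_generating_family.1 hfg
  have hspan : I = Ideal.span (Set.range a) := ha.symm
  have haI : ∀ i, a i ∈ I := fun i => by
    rw [hspan]; exact Ideal.subset_span ⟨i, rfl⟩
  have hH : Hyp I (Formal.completion I N) := hyp_completion I N
  have hGcoh : ∀ n, Coh.IsCoh ((Formal.completion I N).obj (op n)) := fun n =>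
    isCoh_quot (I ^ (n + 1)) N hN
  have hGq : ∀ n, ((Formal.completion I N).obj (op n)).IsQuasicoherent := fun n => (hGcoh n).1
  have hKcoh : ∀ n, Coh.IsCoh (K (Formal.completion I N) n) := isCoh_K hGcoh
  have hL₀ := Groth.Agent.Lib.Helper23.PB.isInvertible_pullback j L hL
  have hSV₀ : ∀ M : Z.Modules, Coh.IsCoh M → SV ((Scheme.Modules.pullback j).obj L) M :=
    (Groth.Agent.S0051.result A' Z z _ hL₀).1 hamp
  have hpc : ∀ M : X.Modules, Coh.IsCoh M → Coh.IsCoh ((Scheme.Modules.pullback j).obj M) := by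
    intro M hM
    haveI : M.IsQuasicoherent := hM.1
    haveI : SheafOfModules.IsFiniteType (R := X.ringCatSheaf) M := hM.2
    exact ⟨Groth.Agent.Lib.Helper2.PullbackSec.isQuasicoherent_pullback j M,
      Groth.Agent.Lib.Helper20.FormalPull.isFiniteType_pullback j M⟩
  obtain ⟨d₀, hd₀⟩ := usv_of_FT ((Scheme.Modules.pullback j).obj L) hL₀ hSV₀
    (mapSys (Scheme.Modules.pullback j) (kerSys hH a haI))
    (fun n => hpc _ (hKcoh n))
    (mapSys_FT (Scheme.Modules.pullback j) _ (kerSys_FT hH a haI hspan))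
  obtain ⟨d₁, hd₁⟩ := hSV₀ _ (hpc _ (hGcoh 0))
  refine ⟨max d₀ d₁, fun d hd p hp => ?_⟩
  have hd0 : d₀ ≤ d := (le_max_left _ _).trans hd
  have hd1 : d₁ ≤ d := (le_max_right _ _).trans hd
  have hLd := Groth.Agent.Lib.Helper23.SecTw.isInvertible_tensorPow hL d
  -- vanishing on all levels
  have hlev : ∀ n, Subsingleton (Coh.HH X (CohB1.tensorMod ((Formal.completion I N).obj (op n))
      (CohB1.tensorPow L d)) p) := by
    intro n
    induction n with
    | zero =>
      haveI := hGq 0
      refine subsingleton_HH_of_fibre φ j z hsq hφ _ ?_ L hL d p (hd₁ d hd1 p hp)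
      have := hH.killed 0
      rwa [zero_add, pow_one] at this
    | succ n ih =>
      haveI : (K (Formal.completion I N) n).IsQuasicoherent := (hKcoh n).1
      have hK : Subsingleton (Coh.HH X (CohB1.tensorMod (K (Formal.completion I N) n)
          (CohB1.tensorPow L d)) p) :=
        subsingleton_HH_of_fibre φ j z hsq hφ _ (killedBy_K hH n) L hL d p (hd₀ d hd0 n p hp)
      have e := shortExact_tw _ hLd _ (shortExact_K hH n)
      exact Groth.Agent.Lib.Helper27AmpleGlue.subsingleton_mid _ e p hK ih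
  -- pass to the completion system of `N ⊗ L^d`
  have hΦ : ∀ (M : X.Modules) (b : A), (tw (CohB1.tensorPow L d)).map (Formal.smulMod A M b) =
      Formal.smulMod A ((tw (CohB1.tensorPow L d)).obj M) b := fun M b =>
    (smulMod_tensorMod M (CohB1.tensorPow L d) b).symm
  have hmod : ∀ n, Subsingleton (Formal.HHmodPow I (CohB1.tensorMod N (CohB1.tensorPow L d)) p n) := by
    intro n
    have hfg' : (I ^ (n + 1)).FG := (isNoetherianRing_iff_ideal_fg A).1 inferInstance _
    obtain ⟨s, c, hc⟩ := Submodule.fg_iff_exists_fin_generating_family.1 hfg'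
    haveI := isIso_Qcomp (tw (CohB1.tensorPow L d)) hΦ c (I ^ (n + 1)) hc.symm N
    exact subsingleton_HH_of_iso (asIso (Qcomp (tw (CohB1.tensorPow L d)) hΦ (I ^ (n + 1)) N)) p
      (hlev n)
  haveI : Subsingleton (Formal.HHlim I (CohB1.tensorMod N (CohB1.tensorPow L d)) p) := by
    refine ⟨fun x y => Subtype.ext (funext fun n => ?_)⟩
    exact (hmod n).elim _ _
  have hcohT : Coh.IsCoh (CohB1.tensorMod N (CohB1.tensorPow L d)) := by
    haveI : N.IsQuasicoherent := hN.1
    haveI : SheafOfModules.IsFiniteType (R := X.ringCatSheaf) N := hN.2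
    haveI : (CohB1.tensorPow L d).IsQuasicoherent :=
      Groth.Agent.Lib.Helper23.SecTw.isQuasicoherent_of_isInvertible _ hLd
    have hft : SheafOfModules.IsFiniteType (R := X.ringCatSheaf) (CohB1.tensorPow L d) :=
      (Groth.Agent.Lib.Helper21.HZB.isCoh_of_isFinLocFree _
        (Groth.Agent.Lib.Helper23.ResProp.isFinLocFree_of_isInvertible _ hLd)).2
    exact ⟨Groth.Agent.Lib.Helper23.TensorQCoh.isQuasicoherent_tensorMod N (CohB1.tensorPow L d),
      Groth.Agent.Lib.Helper23.TensorQCoh.isFiniteType_tensorMod N (CohB1.tensorPow L d)⟩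
  obtain ⟨e⟩ := Groth.Agent.S0059.result A I X (CohB1.tensorMod N (CohB1.tensorPow L d)) hcohT p
  haveI : Subsingleton (AdicCompletion I (Coh.HH X (CohB1.tensorMod N (CohB1.tensorPow L d)) p)) :=
    e.toEquiv.subsingleton
  haveI : Module.Finite A (Coh.HH X (CohB1.tensorMod N (CohB1.tensorPow L d)) p) :=
    Groth.Agent.S0002.result A X _ hcohT p
  exact subsingleton_of_adicCompletion I hjac _

include hsq in
/-- an invertible module which is ample on the closed fibre is ample. -/
theorem isAmple_of_fibre_ample [IsNoetherianRing A] (hφ : Function.Surjective φ)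
    (hjac : RingHom.ker φ ≤ Ideal.jacobson ⊥) [IsProper (X ↘ Spec (CommRingCat.of A))]
    (L : X.Modules) (hL : PicF.IsInvertible L)
    (hamp : CohB1.IsAmple ((Scheme.Modules.pullback j).obj L)) : CohB1.IsAmple L :=
  (Groth.Agent.S0051.result A X (X ↘ Spec (CommRingCat.of A)) L hL).2
    (fun N hN => sv_of_fibre_ample φ j z hsq hφ hjac L hL hamp N hN)

end Groth.Agent.Lib.Helper27FibreVan
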