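import Mathlib
import Groth.Agent.Lib.Helper4Chev
import Groth.Agent.Lib.Helper27AmpleGlue
import Groth.Agent.Lib.Helper27ProjFormula
import Groth.Agent.S0051

/-!
# Ampleness descends along finite surjective morphisms (helper27)

* `SV L M`: eventual vanishing of the higher cohomology of `M ⊗ L^n`;
* `sv_of_iso`, `sv_of_retract`, `sv_of_isZero`, `sv_of_shortExact`, `sv_push`;
* `forall_sv_of_finite_surjective`: for `f : Y ⟶ X` finite surjective, `X` Noetherian, if every
  coherent module on `Y` satisfies `SV (f^*L)`, every coherent module on `X` satisfies `SV L`;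
* `isAmple_of_pullback_finite_surjective`.
-/

set_option autoImplicit false
set_option linter.style.haveILetI false
set_option linter.unusedSectionVars false
universe u
open CategoryTheory Limits AlgebraicGeometry TopologicalSpace Opposite Abelian

namespace Groth.Agent.Lib.Helper27FinSurjAmple
open Groth.Agent.Lib.Helper4.Dev Groth.Agent.Lib.Helper23.QCohLocal Groth.Agent.Lib.Helper27CoprodFin
  Groth.Agent.Lib.Helper23.FinType Groth.Agent.Lib.Helper27SerreVan Groth.Agent.Lib.Helper27CohFin

variable {X : Scheme.{u}}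

/-- eventual vanishing of higher cohomology of the twists `M ⊗ L^n`. -/
def SV (L M : X.Modules) : Prop :=
  ∃ n₀ : ℕ, ∀ n : ℕ, n₀ ≤ n → ∀ p : ℕ, 0 < p →
    Subsingleton (Coh.HH X (CohB1.tensorMod M (CohB1.tensorPow L n)) p)

theorem subsingleton_HH_of_retract {M N : X.Modules} (ι : M ⟶ N) (π : N ⟶ M) (h : ι ≫ π = 𝟙 M)
    (i : ℕ) (hN : Subsingleton (Coh.HH X N i)) : Subsingleton (Coh.HH X M i) := by
  have key : ∀ x : Coh.HH X M i, x = 0 := by
    intro x
    let x' : Sheaf.H ((toAbF X).obj M) i := x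
    have h1 : evalH i x' (ι ≫ π) = x' := by
      rw [h]
      exact evalH_id i x'
    rw [evalH_comp] at h1
    have h2 : evalH i x' ι = 0 := Subsingleton.elim (α := Coh.HH X N i) _ _
    rw [h2, evalH_zero] at h1
    exact h1.symm
  exact ⟨fun x y => (key x).trans (key y).symm⟩

theorem subsingleton_HH_of_isZero {M : X.Modules} (hM : IsZero M) (i : ℕ) :
    Subsingleton (Coh.HH X M i) := by
  have key : ∀ x : Coh.HH X M i, x = 0 := by
    intro x
    let x' : Sheaf.H ((toAbF X).obj M) i := x
    have h1 : evalH i x' (𝟙 M) = x' := evalH_id i x'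
    rw [hM.eq_of_src (𝟙 M) 0, map_zero] at h1
    exact h1.symm
  exact ⟨fun x y => (key x).trans (key y).symm⟩

theorem sv_of_retract (L : X.Modules) {M N : X.Modules} (ι : M ⟶ N) (π : N ⟶ M)
    (h : ι ≫ π = 𝟙 M) (hN : SV L N) : SV L M := by
  obtain ⟨n₀, hn₀⟩ := hN
  refine ⟨n₀, fun n hn p hp => ?_⟩
  refine subsingleton_HH_of_retract ((tw (CohB1.tensorPow L n)).map ι)
    ((tw (CohB1.tensorPow L n)).map π) ?_ p (hn₀ n hn p hp)
  rw [← CategoryTheory.Functor.map_comp, h, CategoryTheory.Functor.map_id]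

theorem sv_of_iso (L : X.Modules) {M N : X.Modules} (e : M ≅ N) (h : SV L M) : SV L N :=
  sv_of_retract L e.inv e.hom e.inv_hom_id h

theorem sv_of_isZero (L : X.Modules) {M : X.Modules} (hM : IsZero M) : SV L M := by
  refine ⟨0, fun n _ p _ => ?_⟩
  exact subsingleton_HH_of_isZero ((tw (CohB1.tensorPow L n)).map_isZero hM) p

theorem sv_of_shortExact (L : X.Modules) (hL : PicF.IsInvertible L) (S : ShortComplex X.Modules)
    (hS : S.ShortExact) (h1 : SV L S.X₁) (h3 : SV L S.X₃) : SV L S.X₂ := by
  obtain ⟨n₁, hn₁⟩ := h1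
  obtain ⟨n₃, hn₃⟩ := h3
  refine ⟨max n₁ n₃, fun n hn p hp => ?_⟩
  have hLn := Groth.Agent.Lib.Helper23.SecTw.isInvertible_tensorPow hL n
  have hS' := shortExact_tw (CohB1.tensorPow L n) hLn S hS
  exact Groth.Agent.Lib.Helper27AmpleGlue.subsingleton_mid _ hS' p
    (hn₁ n ((le_max_left _ _).trans hn) p hp) (hn₃ n ((le_max_right _ _).trans hn) p hp)

/-- `SV` is transported by pushforward along an affine morphism. -/
theorem sv_push {Y : Scheme.{u}} (f : Y ⟶ X) [IsAffineHom f] (L : X.Modules)
    (hL : PicF.IsInvertible L) (N : Y.Modules) [N.IsQuasicoherent]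
    (hN : SV ((Scheme.Modules.pullback f).obj L) N) :
    SV L ((Scheme.Modules.pushforward f).obj N) := by
  obtain ⟨n₀, hn₀⟩ := hN
  refine ⟨n₀, fun n hn p hp => ?_⟩
  have h1 := hn₀ n hn p hp
  obtain ⟨e1⟩ := Groth.Agent.Lib.Helper23.PB.nonempty_pullback_tensorPow_iso f L hL n
  have h2 : Subsingleton (Coh.HH Y
      (CohB1.tensorMod N ((Scheme.Modules.pullback f).obj (CohB1.tensorPow L n))) p) :=
    subsingleton_HH_of_iso (Groth.Agent.Lib.Helper23.AmpleIso.tensorModIso (Iso.refl _) e1) p h1
  have hLn := Groth.Agent.Lib.Helper23.SecTw.isInvertible_tensorPow hL n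
  haveI : (CohB1.tensorPow L n).IsQuasicoherent :=
    Groth.Agent.Lib.Helper23.SecTw.isQuasicoherent_of_isInvertible _ hLn
  haveI : ((Scheme.Modules.pullback f).obj (CohB1.tensorPow L n)).IsQuasicoherent :=
    Groth.Agent.Lib.Helper2.PullbackSec.isQuasicoherent_pullback f _
  haveI hq : (CohB1.tensorMod N ((Scheme.Modules.pullback f).obj (CohB1.tensorPow L n))).IsQuasicoherent :=
    Groth.Agent.Lib.Helper23.TensorQCoh.isQuasicoherent_tensorMod _ _
  haveI : Coh.IsQCoh (CohB1.tensorMod N ((Scheme.Modules.pullback f).obj (CohB1.tensorPow L n))) := hq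
  obtain ⟨e2⟩ := Groth.Agent.S0012.result f
    (CohB1.tensorMod N ((Scheme.Modules.pullback f).obj (CohB1.tensorPow L n))) p
  have h3 : Subsingleton (Coh.HH X ((Scheme.Modules.pushforward f).obj
      (CohB1.tensorMod N ((Scheme.Modules.pullback f).obj (CohB1.tensorPow L n)))) p) :=
    @Equiv.subsingleton _ _ e2.symm.toEquiv h2
  obtain ⟨e⟩ := Groth.Agent.Lib.Helper23.InvDual.nonempty_tensorMod_dual_iso _ hLn
  obtain ⟨c⟩ := Groth.Agent.Lib.Helper23.SecTw.nonempty_tensorMod_comm_iso
    (RefHull.dual (CohB1.tensorPow L n)) (CohB1.tensorPow L n)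
    (Groth.Agent.Lib.Helper23.InvDual.isInvertible_dual _ hLn) hLn
  exact subsingleton_HH_of_iso
    (Groth.Agent.Lib.Helper27ProjFormula.projIsoR f (CohB1.tensorPow L n)
      (RefHull.dual (CohB1.tensorPow L n)) e (c ≪≫ e) N).symm p h3

/-- dévissage: eventual vanishing descends along a finite surjective morphism. -/
theorem forall_sv_of_finite_surjective {Y : Scheme.{u}} (f : Y ⟶ X) [IsFinite f] [Surjective f]
    [IsNoetherian X] (L : X.Modules) (hL : PicF.IsInvertible L)
    (hY : ∀ N : Y.Modules, Coh.IsCoh N → SV ((Scheme.Modules.pullback f).obj L) N)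
    (F : X.Modules) (hF : Coh.IsCoh F) : SV L F := by
  haveI : IsLocallyNoetherian X := inferInstance
  haveI : CompactSpace X := inferInstance
  haveI : QuasiSeparatedSpace X := inferInstance
  haveI : IsLocallyNoetherian Y := LocallyOfFiniteType.isLocallyNoetherian f
  have hiso : ∀ M N : X.Modules, Nonempty (M ≅ N) → SV L M → SV L N := fun M N ⟨e⟩ h => sv_of_iso L e h
  have hzero : ∀ M : X.Modules, IsZero M → SV L M := fun M hM => sv_of_isZero L hM
  have hext : ∀ S : ShortComplex X.Modules, S.ShortExact → Coh.IsCoh S.X₁ → Coh.IsCoh S.X₂ →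
      Coh.IsCoh S.X₃ → SV L S.X₁ → SV L S.X₃ → SV L S.X₂ :=
    fun S hS _ _ _ h1 h3 => sv_of_shortExact L hL S hS h1 h3
  refine noetherian_induction_coh (SV L) Set.univ hiso hzero
    (fun S hS c1 c2 c3 _ => hext S hS c1 c2 c3) ?_ F hF (Set.subset_univ _)
  intro y _ IH F hF hsF
  refine Groth.Agent.S9522.result X (closure {y}) isClosed_closure isIrreducible_singleton.closure y
    ⟨subset_closure rfl, rfl⟩ (SV L) hiso hzero hext ?_ ?_ ?_ F hF hsF
  · intro F r _ hr h
    exact sv_of_retract L (Sigma.ι (fun _ : Fin r => F) ⟨0, hr⟩) (Sigma.desc (fun _ => 𝟙 F))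
      (by simp) h
  · intro Z i hci hint hsub hne I ι hι hIq
    haveI := hci
    haveI := hint
    haveI := hι
    haveI : IsLocallyNoetherian Z := LocallyOfFiniteType.isLocallyNoetherian i
    haveI : I.IsQuasicoherent := hIq
    have hIc : Coh.IsCoh I := by
      haveI : (Coh.structureModule Z).IsQuasicoherent := (isCoh_structureModule Z).1
      haveI : SheafOfModules.IsFiniteType (R := Z.ringCatSheaf) (Coh.structureModule Z) :=
        (isCoh_structureModule Z).2
      exact ⟨hIq, isFiniteType_of_mono ι⟩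
    have hpc := isCoh_push_closed i I hIc
    have hs := support_push_subset i I
    refine IH _ hpc (hs.trans hsub) ?_
    by_contra hns
    have hy : y ∈ Set.range ⇑i := hs hns
    apply hne
    exact subset_antisymm hsub
      (closure_minimal (Set.singleton_subset_iff.2 hy) i.isClosedEmbedding.isClosed_range)
  · obtain ⟨Z, i, hci, hint, hrange, hgen, hker⟩ := exists_integral_closed' y
    haveI := hci
    haveI := hint
    subst hgen
    obtain ⟨F', hF', hsupp', hkill'⟩ := Groth.Agent.S0820.result f Z i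
    haveI : F'.IsQuasicoherent := hF'.1
    let G : X.Modules := (Scheme.Modules.pushforward f).obj F'
    have hG : Coh.IsCoh G := ⟨isQuasicoherent_pushforward f F',
      (Groth.Agent.Lib.Helper2.FinPushFP.isFiniteType_pushforward_iff f F').1 hF'.2⟩
    refine ⟨G, hG, hsupp'.trans hrange, hkill', ?_⟩
    intro J hyJ
    obtain ⟨e, he⟩ := idealMul_pushforward_iso f F' J
    refine ⟨(Dual3.idealMul J).obj G, 𝟙 _, inferInstance, (isCoh_idealMul J G hG).1, ?_, ?_⟩
    · rw [Category.id_comp]
      exact (ConcreteCategory.isIso_iff_bijective _).2 (stalkL_idealMulι_bijective J G _ hyJ)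
    · have hM : Coh.IsCoh ((Dual3.idealMul (J.comap f)).obj F') := isCoh_idealMul (J.comap f) F' hF'
      haveI : ((Dual3.idealMul (J.comap f)).obj F').IsQuasicoherent := hM.1
      exact sv_of_iso L e.symm (sv_push f L hL _ (hY _ hM))

/-- **Ampleness descends along finite surjective morphisms** of schemes proper over a Noetherian
ring. -/
theorem isAmple_of_pullback_finite_surjective (R : Type u) [CommRing R] [IsNoetherianRing R]
    {Y : Scheme.{u}} (gX : X ⟶ Spec (CommRingCat.of R)) (gY : Y ⟶ Spec (CommRingCat.of R))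
    [IsProper gX] [IsProper gY] (f : Y ⟶ X) [IsFinite f] [Surjective f] (L : X.Modules)
    (hL : PicF.IsInvertible L) (h : CohB1.IsAmple ((Scheme.Modules.pullback f).obj L)) :
    CohB1.IsAmple L := by
  haveI : IsLocallyNoetherian X := LocallyOfFiniteType.isLocallyNoetherian gX
  haveI : CompactSpace X := by
    have h1 : IsCompact (gX ⁻¹' (Set.univ : Set (Spec (CommRingCat.of R)))) :=
      QuasiCompact.isCompact_preimage (f := gX) _ isOpen_univ isCompact_univ
    rw [Set.preimage_univ] at h1
    exact isCompact_univ_iff.1 h1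
  haveI : IsNoetherian X := {}
  have hY := (Groth.Agent.S0051.result R Y gY ((Scheme.Modules.pullback f).obj L)
    (Groth.Agent.Lib.Helper23.PB.isInvertible_pullback f L hL)).mp h
  refine (Groth.Agent.S0051.result R X gX L hL).mpr (fun M hM => ?_)
  exact forall_sv_of_finite_surjective f L hL (fun N hN => hY N hN) M hM

end Groth.Agent.Lib.Helper27FinSurjAmple
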