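import Groth.Agent.Lib.Helper17GrSysCoh
import Groth.Agent.Lib.Helper27FinSurjAmple

/-!
# Uniform Serre vanishing for graded systems of coherent modules (helper27)

`usv_of_FT`: on a Noetherian scheme `X` with an invertible module `L` such that every coherent
module has eventually vanishing higher cohomology after twisting by powers of `L`, a graded system
of finite type (in the sense of helper17's `GrSys`) of coherent modules satisfies this vanishing
uniformly: there is `d₀` with `H^p(X, F_n ⊗ L^d) = 0` for all `n`, all `p > 0` and all `d ≥ d₀`.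
-/

set_option autoImplicit false
universe u
open CategoryTheory Limits AlgebraicGeometry TopologicalSpace Opposite

namespace Groth.Agent.Lib.Helper27GrSysVan

open Groth.Agent.Lib.Helper17.GrSys Groth.Agent.Lib.Helper17.GrSysCoh Groth.Agent.Lib.Helper4.Dev
  Groth.Agent.Lib.Helper27FinSurjAmple Groth.Agent.Lib.Helper27SerreVan

variable {X : Scheme.{u}}

/-- uniform eventual vanishing of the higher cohomology of the twists of a graded system. -/
def USV (L : X.Modules) {r : ℕ} (F : Sys X.Modules r) : Prop :=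
  ∃ d₀ : ℕ, ∀ d : ℕ, d₀ ≤ d → ∀ n p : ℕ, 0 < p →
    Subsingleton (Coh.HH X (CohB1.tensorMod (F.obj n) (CohB1.tensorPow L d)) p)

/-- **Uniform Serre vanishing** for graded systems of finite type of coherent modules. -/
theorem usv_of_FT [IsNoetherian X] (L : X.Modules) (hL : PicF.IsInvertible L)
    (hSV : ∀ M : X.Modules, Coh.IsCoh M → SV L M) :
    ∀ {r : ℕ} (F : Sys X.Modules r), (∀ n, Coh.IsCoh (F.obj n)) → F.FT → USV L F := by
  intro r
  induction r with
  | zero =>
    intro F hF hFT
    obtain ⟨n₀, hn₀⟩ := hFT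
    have h : ∀ n, ∃ d₀ : ℕ, ∀ d, d₀ ≤ d → ∀ p, 0 < p →
        Subsingleton (Coh.HH X (CohB1.tensorMod (F.obj n) (CohB1.tensorPow L d)) p) :=
      fun n => hSV _ (hF n)
    choose d₀ hd₀ using h
    refine ⟨(Finset.range (n₀ + 1)).sup d₀, fun d hd n p hp => ?_⟩
    by_cases hn : n ≤ n₀
    · exact hd₀ n d ((Finset.le_sup (f := d₀) (Finset.mem_range.2 (by omega))).trans hd) p hp
    · obtain ⟨m, rfl⟩ : ∃ m, n = m + 1 := ⟨n - 1, by omega⟩
      have h0 : (𝟙 (F.obj (m + 1))) = 0 := hn₀ m (by omega) _ (fun i => i.elim0)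
      have hz : IsZero (F.obj (m + 1)) := (IsZero.iff_id_eq_zero _).2 h0
      exact subsingleton_HH_of_isZero ((tw (CohB1.tensorPow L d)).map_isZero hz) p
  | succ r ih =>
    intro F hF hFT
    have hcK : ∀ n, Coh.IsCoh (F.ker.obj n) := fun n => isCoh_kernel (F.L n) (hF n) (hF (n + 1))
    have hcC : ∀ n, Coh.IsCoh (F.coker.obj n) := fun n =>
      isCoh_cokernel (F.L n) (hF n) (hF (n + 1))
    obtain ⟨d₁, hd₁⟩ := ih F.ker hcK (ker_FT F hF hFT)
    obtain ⟨d₂, hd₂⟩ := ih F.coker hcC (F.coker_FT hFT)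
    obtain ⟨d₃, hd₃⟩ := hSV _ (hF 0)
    refine ⟨max d₁ (max d₂ d₃), fun d hd n => ?_⟩
    have hd1 : d₁ ≤ d := (le_max_left _ _).trans hd
    have hd2 : d₂ ≤ d := ((le_max_left _ _).trans (le_max_right _ _)).trans hd
    have hd3 : d₃ ≤ d := ((le_max_right _ _).trans (le_max_right _ _)).trans hd
    have hLd := Groth.Agent.Lib.Helper23.SecTw.isInvertible_tensorPow hL d
    induction n with
    | zero => exact fun p hp => hd₃ d hd3 p hp
    | succ n ihn =>
      intro p hp
      have e1 := shortExact_tw _ hLd (F.ses1 n) (F.ses1_shortExact n)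
      have e2 := shortExact_tw _ hLd (F.ses2 n) (F.ses2_shortExact n)
      have him : Subsingleton (Coh.HH X ((tw (CohB1.tensorPow L d)).obj (F.im.obj n)) p) :=
        subsingleton_of_shortExact _ e1 p (ihn p hp) (hd₁ d hd1 n (p + 1) (by omega))
      exact Groth.Agent.Lib.Helper27AmpleGlue.subsingleton_mid _ e2 p him (hd₂ d hd2 n p hp)

end Groth.Agent.Lib.Helper27GrSysVan
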