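import Groth.Agent.Lib.Helper17IAdic
import Groth.Agent.Lib.Helper27GrSysVan

/-!
# The kernel system of a coherent formal module (helper27)

For a scheme `X` over `Spec A`, an ideal `I` of `A` with generators `a_1, …, a_r`, and an inverse
system `G : ℕᵒᵖ ⥤ X.Modules` with `G_n` killed by `I^(n+1)` and `G_{n+1}/I^(n+1) G_{n+1} ≅ G_n`
(e.g. a coherent formal module), the kernels `K_n = ker (G_{n+1} ⟶ G_n) = I^(n+1) G_{n+1}` form a
graded system of finite type (`kerSys`, `kerSys_FT`) with operators induced by multiplication by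
the `a_i` (`K_n = I^(n+1)G_{n+2}/I^(n+2)G_{n+2} ⟶ I^(n+2) G_{n+2} = K_{n+1}`).
-/

set_option autoImplicit false
universe u
open CategoryTheory Limits AlgebraicGeometry TopologicalSpace Opposite

namespace Groth.Agent.Lib.Helper27FormalKer

open Groth.Agent.Lib.Helper17.GrSys Groth.Agent.Lib.Helper17.IAdic

variable {A : Type u} [CommRing A] {X : Scheme.{u}} [X.Over (Spec (CommRingCat.of A))]

/-- the transition map `G_{n+1} ⟶ G_n`. -/
abbrev tr (G : ℕᵒᵖ ⥤ X.Modules) (n : ℕ) : G.obj (op (n + 1)) ⟶ G.obj (op n) :=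
  G.map (homOfLE (Nat.le_succ n)).op

/-- the hypotheses on the inverse system. -/
structure Hyp (I : Ideal A) (G : ℕᵒᵖ ⥤ X.Modules) : Prop where
  killed : ∀ n, Formal.KilledBy (I ^ (n + 1)) (G.obj (op n))
  quot : ∀ n, ∃ h : Formal.smulFamily (I ^ (n + 1)) (G.obj (op (n + 1))) ≫ tr G n = 0,
    IsIso (cokernel.desc _ _ h)

theorem hyp_of_isCohFormal {I : Ideal A} {G : ℕᵒᵖ ⥤ X.Modules} (hG : Formal.IsCohFormal I G) :
    Hyp I G := ⟨hG.2.1, hG.2.2⟩

variable {I : Ideal A} {G : ℕᵒᵖ ⥤ X.Modules} (hG : Hyp I G)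

include hG in
theorem epi_tr (n : ℕ) : Epi (tr G n) := by
  obtain ⟨h, hiso⟩ := hG.quot n
  have e : tr G n = cokernel.π _ ≫ cokernel.desc _ _ h := (cokernel.π_desc _ _ h).symm
  rw [e]
  have h2 : Epi (cokernel.desc _ _ h) := @IsIso.epi_of_iso _ _ _ _ _ hiso
  exact @epi_comp _ _ _ _ _ _ inferInstance _ h2

include hG in
theorem smulMod_tr (n : ℕ) (c : A) (hc : c ∈ I ^ (n + 1)) :
    Formal.smulMod A (G.obj (op (n + 1))) c ≫ tr G n = 0 := by
  obtain ⟨h, -⟩ := hG.quot n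
  have := Sigma.ι (fun _ : (I ^ (n + 1) : Ideal A) => G.obj (op (n + 1))) ⟨c, hc⟩ ≫= h
  rw [comp_zero, ← Category.assoc] at this
  simpa [Formal.smulFamily] using this

/-- the kernel `K_n` of the transition map `G_{n+1} ⟶ G_n`. -/
noncomputable abbrev K (G : ℕᵒᵖ ⥤ X.Modules) (n : ℕ) : X.Modules := kernel (tr G n)

/-- the inclusion `K_n ⟶ G_{n+1}`. -/
noncomputable abbrev Kι (G : ℕᵒᵖ ⥤ X.Modules) (n : ℕ) : K G n ⟶ G.obj (op (n + 1)) :=
  kernel.ι (tr G n)

/-- multiplication by `c ∈ I^(n+1)`, as a morphism `G_{n+1} ⟶ K_n`. -/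
noncomputable def toK (n : ℕ) (c : A) (hc : c ∈ I ^ (n + 1)) : G.obj (op (n + 1)) ⟶ K G n :=
  kernel.lift (tr G n) (Formal.smulMod A (G.obj (op (n + 1))) c) (smulMod_tr hG n c hc)

@[reassoc (attr := simp)]
theorem toK_ι (n : ℕ) (c : A) (hc : c ∈ I ^ (n + 1)) :
    toK hG n c hc ≫ Kι G n = Formal.smulMod A (G.obj (op (n + 1))) c :=
  kernel.lift_ι _ _ _

theorem toK_congr (n : ℕ) {c c' : A} (h : c = c') (hc : c ∈ I ^ (n + 1)) :
    toK hG n c hc = toK hG n c' (h ▸ hc) := by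
  subst h; rfl

theorem toK_add (n : ℕ) (c c' : A) (hc : c ∈ I ^ (n + 1)) (hc' : c' ∈ I ^ (n + 1)) :
    toK hG n (c + c') (add_mem hc hc') = toK hG n c hc + toK hG n c' hc' := by
  rw [← cancel_mono (Kι G n), Preadditive.add_comp, toK_ι, toK_ι, toK_ι, smulMod_add]

theorem toK_zero (n : ℕ) : toK hG n 0 (zero_mem _) = 0 := by
  rw [← cancel_mono (Kι G n), zero_comp, toK_ι, smulMod_zero]

/-- the comparison `I^(n+1) · G_{n+1} ⟶ K_n`. -/
noncomputable def fromIM (n : ℕ) : IM (I ^ (n + 1)) (G.obj (op (n + 1))) ⟶ K G n :=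
  kernel.lift (tr G n) (IMι (I ^ (n + 1)) (G.obj (op (n + 1)))) (by
    apply IM_hom_ext
    intro c hc
    rw [comp_zero, toIM_ι_assoc, smulMod_tr hG n c hc])

@[reassoc (attr := simp)]
theorem fromIM_ι (n : ℕ) :
    fromIM hG n ≫ Kι G n = IMι (I ^ (n + 1)) (G.obj (op (n + 1))) :=
  kernel.lift_ι _ _ _

theorem toIM_fromIM (n : ℕ) (c : A) (hc : c ∈ I ^ (n + 1)) :
    toIM (I ^ (n + 1)) (G.obj (op (n + 1))) c hc ≫ fromIM hG n = toK hG n c hc := by
  rw [← cancel_mono (Kι G n), Category.assoc, fromIM_ι, toIM_ι, toK_ι]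

theorem epi_fromIM (n : ℕ) : Epi (fromIM hG n) := by
  obtain ⟨h, hiso⟩ := hG.quot n
  haveI := hiso
  have h0 : Kι G n ≫ cokernel.π (Formal.smulFamily (I ^ (n + 1)) (G.obj (op (n + 1)))) = 0 := by
    rw [← cancel_mono (cokernel.desc _ _ h), Category.assoc, cokernel.π_desc, zero_comp]
    exact kernel.condition _
  let v : K G n ⟶ IM (I ^ (n + 1)) (G.obj (op (n + 1))) := kernel.lift _ (Kι G n) h0
  have hv : v ≫ fromIM hG n = 𝟙 _ := by
    rw [← cancel_mono (Kι G n), Category.assoc, fromIM_ι, Category.id_comp]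
    exact kernel.lift_ι _ _ _
  exact (IsSplitEpi.mk' ⟨v, hv⟩).epi

/-- morphisms out of `K_n` are determined by their composites with the `toK c`. -/
theorem K_hom_ext (n : ℕ) {Z : X.Modules} {g h : K G n ⟶ Z}
    (w : ∀ (c : A) (hc : c ∈ I ^ (n + 1)), toK hG n c hc ≫ g = toK hG n c hc ≫ h) : g = h := by
  haveI := epi_fromIM hG n
  rw [← cancel_epi (fromIM hG n)]
  apply IM_hom_ext
  intro c hc
  rw [← Category.assoc, ← Category.assoc, toIM_fromIM]
  exact w c hc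

include hG in
/-- `K_n` is killed by `I`. -/
theorem Kι_smulMod (n : ℕ) (a : A) (ha : a ∈ I) :
    Kι G n ≫ Formal.smulMod A (G.obj (op (n + 1))) a = 0 := by
  apply K_hom_ext hG n
  intro c hc
  rw [comp_zero, toK_ι_assoc, ← smulMod_mul']
  exact hG.killed (n + 1) (c * a) (by rw [pow_succ]; exact Ideal.mul_mem_mul hc ha)

/-- multiplication by `a ∈ I` on `G_{n+1}` factors through `G_{n+1} ⟶ G_n`. -/
noncomputable def lift (n : ℕ) (a : A) (ha : a ∈ I) : G.obj (op n) ⟶ G.obj (op (n + 1)) :=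
  haveI := epi_tr hG n
  (Abelian.epiIsCokernelOfKernel _ (kernelIsKernel (tr G n))).desc
    (CokernelCofork.ofπ (Formal.smulMod A (G.obj (op (n + 1))) a) (Kι_smulMod hG n a ha))

@[reassoc]
theorem tr_lift (n : ℕ) (a : A) (ha : a ∈ I) :
    tr G n ≫ lift hG n a ha = Formal.smulMod A (G.obj (op (n + 1))) a := by
  haveI := epi_tr hG n
  exact (Abelian.epiIsCokernelOfKernel _ (kernelIsKernel (tr G n))).fac
    (CokernelCofork.ofπ (Formal.smulMod A (G.obj (op (n + 1))) a) (Kι_smulMod hG n a ha))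
    WalkingParallelPair.one

@[reassoc]
theorem lift_tr (n : ℕ) (a : A) (ha : a ∈ I) :
    lift hG n a ha ≫ tr G n = Formal.smulMod A (G.obj (op n)) a := by
  haveI := epi_tr hG n
  rw [← cancel_epi (tr G n), tr_lift_assoc, comp_smulMod]

theorem lift_smulMod (n : ℕ) (a b : A) (ha : a ∈ I) (hb : b ∈ I) :
    lift hG n a ha ≫ Formal.smulMod A (G.obj (op (n + 1))) b =
      lift hG n b hb ≫ Formal.smulMod A (G.obj (op (n + 1))) a := by
  haveI := epi_tr hG n
  rw [← cancel_epi (tr G n), tr_lift_assoc, tr_lift_assoc, ← smulMod_mul', ← smulMod_mul', mul_comm]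

theorem lift_comm (n : ℕ) (a b : A) (ha : a ∈ I) (hb : b ∈ I) :
    lift hG n b hb ≫ lift hG (n + 1) a ha = lift hG n a ha ≫ lift hG (n + 1) b hb := by
  haveI := epi_tr hG n
  rw [← cancel_epi (tr G n), tr_lift_assoc, tr_lift_assoc, ← comp_smulMod, ← comp_smulMod]
  exact lift_smulMod hG (n + 1) a b ha hb

/-- the operator `K_n ⟶ K_{n+1}` induced by multiplication by `a ∈ I`. -/
noncomputable def T (n : ℕ) (a : A) (ha : a ∈ I) : K G n ⟶ K G (n + 1) :=
  kernel.lift (tr G (n + 1)) (Kι G n ≫ lift hG (n + 1) a ha) (by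
    rw [Category.assoc, lift_tr, Kι_smulMod hG n a ha])

@[reassoc (attr := simp)]
theorem T_ι (n : ℕ) (a : A) (ha : a ∈ I) :
    T hG n a ha ≫ Kι G (n + 1) = Kι G n ≫ lift hG (n + 1) a ha :=
  kernel.lift_ι _ _ _

theorem T_comm (n : ℕ) (a b : A) (ha : a ∈ I) (hb : b ∈ I) :
    T hG n a ha ≫ T hG (n + 1) b hb = T hG n b hb ≫ T hG (n + 1) a ha := by
  rw [← cancel_mono (Kι G (n + 1 + 1))]
  simp only [Category.assoc, T_ι, T_ι_assoc]
  rw [lift_comm hG (n + 1) b a hb ha]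

/-- `c ↦ (a c) ·` on `G_{n+2}` is `G_{n+2} ⟶ G_{n+1} ⟶ K_n ⟶ K_{n+1}`. -/
theorem toK_mul (n : ℕ) (a y : A) (ha : a ∈ I) (hy : y ∈ I ^ (n + 1))
    (hay : a * y ∈ I ^ (n + 1 + 1)) :
    toK hG (n + 1) (a * y) hay = tr G (n + 1) ≫ toK hG n y hy ≫ T hG n a ha := by
  rw [← cancel_mono (Kι G (n + 1))]
  simp only [Category.assoc, T_ι, toK_ι, toK_ι_assoc]
  rw [← Category.assoc, comp_smulMod, Category.assoc, tr_lift, ← smulMod_mul', mul_comm]

variable {r : ℕ} (a : Fin r → A) (ha : ∀ i, a i ∈ I)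

/-- the kernel system `(K_n)_n` with the operators `a_i`. -/
noncomputable abbrev kerSys : Sys X.Modules r where
  obj n := K G n
  T i n := T hG n (a i) (ha i)
  comm i j n := T_comm hG n (a i) (a j) (ha i) (ha j)

variable (hspan : I = Ideal.span (Set.range a))

include hspan in
/-- the kernel system is of finite type. -/
theorem kerSys_FT : (kerSys hG a ha).FT := by
  refine ⟨0, fun n _ Z g hg => ?_⟩
  have hg' : ∀ i, T hG n (a i) (ha i) ≫ g = 0 := hg
  have key : ∀ x ∈ I, ∀ y (hy : y ∈ I ^ (n + 1)) (hxy : x * y ∈ I ^ (n + 1 + 1)),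
      toK hG (n + 1) (x * y) hxy ≫ g = 0 := by
    intro x hx
    rw [hspan] at hx
    induction hx using Submodule.span_induction with
    | mem x hx =>
      obtain ⟨i, rfl⟩ := hx
      intro y hy hxy
      rw [toK_mul hG n (a i) y (ha i) hy hxy, Category.assoc, Category.assoc, hg' i, comp_zero,
        comp_zero]
    | zero =>
      intro y hy hxy
      rw [toK_congr hG (n + 1) (zero_mul y) hxy, toK_zero, zero_comp]
    | add x x' hx hx' ih ih' =>
      intro y hy hxy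
      have h1 : x * y ∈ I ^ (n + 1 + 1) := by
        rw [pow_succ']; exact Ideal.mul_mem_mul (hspan ▸ hx) hy
      have h2 : x' * y ∈ I ^ (n + 1 + 1) := by
        rw [pow_succ']; exact Ideal.mul_mem_mul (hspan ▸ hx') hy
      rw [toK_congr hG (n + 1) (add_mul x x' y) hxy, toK_add hG (n + 1) _ _ h1 h2,
        Preadditive.add_comp, ih y hy h1, ih' y hy h2, add_zero]
    | smul c x hx ih =>
      intro y hy hxy
      have h1 : x * (c * y) ∈ I ^ (n + 1 + 1) := by
        rw [pow_succ']; exact Ideal.mul_mem_mul (hspan ▸ hx) (Ideal.mul_mem_left _ c hy)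
      rw [toK_congr hG (n + 1) (show c • x * y = x * (c * y) by rw [smul_eq_mul]; ring) hxy]
      exact ih (c * y) (Ideal.mul_mem_left _ c hy) h1
  apply K_hom_ext hG (n + 1)
  intro c hc
  rw [comp_zero]
  have hc' : c ∈ I * I ^ (n + 1) := by rw [← pow_succ']; exact hc
  have H : ∀ c, c ∈ I * I ^ (n + 1) →
      ∃ hc : c ∈ I ^ (n + 1 + 1), toK hG (n + 1) c hc ≫ g = 0 := by
    intro c hc'
    refine Submodule.mul_induction_on hc' (fun x hx y hy => ?_) (fun x y ihx ihy => ?_)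
    · have hxy : x * y ∈ I ^ (n + 1 + 1) := by rw [pow_succ']; exact Ideal.mul_mem_mul hx hy
      exact ⟨hxy, key x hx y hy hxy⟩
    · obtain ⟨hx, ex⟩ := ihx
      obtain ⟨hy, ey⟩ := ihy
      exact ⟨add_mem hx hy, by
        rw [toK_add hG (n + 1) _ _ hx hy, Preadditive.add_comp, ex, ey, add_zero]⟩
  obtain ⟨_, e⟩ := H c hc'
  exact e

theorem isCoh_K [IsLocallyNoetherian X] (hc : ∀ n, Coh.IsCoh (G.obj (op n))) (n : ℕ) :
    Coh.IsCoh (K G n) :=
  Groth.Agent.Lib.Helper4.Dev.isCoh_kernel (tr G n) (hc (n + 1)) (hc n)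

end Groth.Agent.Lib.Helper27FormalKer
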