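import Mathlib

/-!
# The coefficient of `(x_0 ⋯ x_n)^{pQ-1}` in `F * G^p`
-/

namespace Groth.Agent.Lib.Helper27FrobCoeff

open MvPolynomial

variable {k : Type*} [CommRing k] (p : ℕ) [Fact p.Prime] [CharP k p]
variable {σ : Type*} [Fintype σ] [DecidableEq σ]

theorem pow_char_eq (φ : MvPolynomial σ k) :
    φ ^ p = MvPolynomial.map (frobenius k p) (MvPolynomial.expand p φ) := by
  induction φ using MvPolynomial.induction_on with
  | C a => rw [expand_C, map_C, ← C_pow, frobenius_def]
  | add f g hf hg => rw [add_pow_char, hf, hg, map_add, map_add]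
  | mul_X f i hf => rw [mul_pow, hf, map_mul, map_mul, expand_X, map_pow, map_X]

/-- The constant exponent vector. -/
noncomputable def cst (a : ℕ) : σ →₀ ℕ := Finsupp.equivFunOnFinite.symm fun _ : σ => a

omit [DecidableEq σ] in
@[simp] theorem cst_apply (a : ℕ) (j : σ) : (cst a : σ →₀ ℕ) j = a := rfl

theorem coeff_mul_pow_char [IsDomain k] (F G : MvPolynomial σ k)
    (hF : F.IsHomogeneous (Fintype.card σ * (p - 1))) (Q : ℕ) (hQ : 1 ≤ Q) :
    coeff (cst (p * Q - 1)) (F * G ^ p) = coeff (cst (p - 1)) F * (coeff (cst (Q - 1)) G) ^ p := by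
  have hp : p.Prime := Fact.out
  have hp1 : 1 ≤ p := hp.one_lt.le
  have hpQ : p ≤ p * Q := Nat.le_mul_of_pos_right p hQ
  have hGp : ∀ δ : σ →₀ ℕ, coeff δ (G ^ p) = (coeff δ (expand p G)) ^ p := by
    intro δ
    rw [pow_char_eq, coeff_map, frobenius_def]
  rw [coeff_mul, Finset.sum_eq_single ((cst (p - 1) : σ →₀ ℕ), p • (cst (Q - 1) : σ →₀ ℕ))]
  · rw [hGp, coeff_expand_smul p hp.ne_zero]
  · rintro ⟨α, δ⟩ hmem hne
    rw [Finset.HasAntidiagonal.mem_antidiagonal] at hmem
    simp only at hmem
    by_contra hcon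
    have hα : coeff α F ≠ 0 := fun h => hcon (by rw [h, zero_mul])
    have hδ : coeff δ (G ^ p) ≠ 0 := fun h => hcon (by rw [h, mul_zero])
    have hdeg : α.degree = Fintype.card σ * (p - 1) := by
      by_contra hd
      exact hα (hF.coeff_eq_zero hd)
    have hdvd : ∀ j, p ∣ δ j := by
      intro j
      by_contra hj
      apply hδ
      rw [hGp, coeff_expand_of_not_dvd G hj, zero_pow hp.ne_zero]
    have hsum : ∀ j, α j + δ j = p * Q - 1 := by
      intro j
      have := DFunLike.congr_fun hmem j
      simpa using this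
    have hge : ∀ j, p - 1 ≤ α j := by
      intro j
      obtain ⟨t, ht⟩ := hdvd j
      have h1 := hsum j
      rw [ht] at h1
      -- α j = p * Q - 1 - p * t, so α j ≡ p - 1 mod p
      have h2 : α j + 1 = p * (Q - t) := by
        have h3 : p * t ≤ p * Q - 1 := by omega
        have h4 : t < Q := by
          by_contra h5
          push Not at h5
          have := Nat.mul_le_mul_left p h5
          omega
        rw [Nat.mul_sub]
        omega
      have h5 : 1 ≤ Q - t := by
        rcases Nat.eq_zero_or_pos (Q - t) with h6 | h6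
        · rw [h6, mul_zero] at h2
          omega
        · exact h6
      have := Nat.le_mul_of_pos_right p h5
      omega
    have hαeq : ∀ j, α j = p - 1 := by
      have h1 : ∑ j, (α j - (p - 1)) = 0 := by
        rw [Finset.sum_tsub_distrib _ (fun j _ => hge j), ← Finsupp.degree_eq_sum, hdeg]
        simp
      intro j
      have h2 := (Finset.sum_eq_zero_iff.mp h1) j (Finset.mem_univ j)
      have := hge j
      omega
    apply hne
    have hα' : α = cst (p - 1) := by
      ext j
      rw [hαeq j, cst_apply]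
    have hδ' : δ = p • (cst (Q - 1) : σ →₀ ℕ) := by
      ext j
      have h1 := hsum j
      rw [hαeq j] at h1
      rw [Finsupp.smul_apply, cst_apply, smul_eq_mul, Nat.mul_sub, mul_one]
      omega
    rw [hα', hδ']
  · intro h
    exfalso
    apply h
    rw [Finset.HasAntidiagonal.mem_antidiagonal]
    ext j
    simp only [Finsupp.add_apply, Finsupp.smul_apply, cst_apply, smul_eq_mul]
    rw [Nat.mul_sub, mul_one]
    omega

end Groth.Agent.Lib.Helper27FrobCoeff
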