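import Mathlib
import Groth.Agent.Lib.Helper27Ell1

/-! Function fields of genus two: Riemann–Roch bookkeeping. -/

namespace Groth.Agent.Lib.Helper27G2

open FunFld WithZero Groth.Agent.Lib.LeadFF Groth.Agent.Lib.Helper27LinSer
  Groth.Agent.Lib.Helper27Ell

variable {k K : Type*} [Field k] [Field K] [Algebra k K]

lemma one_mem_L_iff (D : Divisor k K) : (1 : K) ∈ L D ↔ ∀ P, 0 ≤ D P := by
  rw [mem_L]
  refine forall_congr' fun P => ?_
  rw [map_one, ← exp_zero, exp_le_exp]

lemma L_eq_of_le_of_ell_eq (hK : IsFunctionField k K) {D E : Divisor k K} (h : D ≤ E)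
    (he : ell D = ell E) : L D = L E := by
  have := L_finite hK E
  exact Submodule.eq_of_le_of_finrank_eq (L_mono h) he

lemma exists_div_eq (hK : IsFunctionField k K) {D : Divisor k K} (hD : D.deg = 0)
    (hl : 1 ≤ ell D) : ∃ f : K, f ≠ 0 ∧ FunFld.div k f = -D := by
  have : L D ≠ ⊥ := by
    intro hb
    unfold ell at hl
    rw [hb, finrank_bot] at hl
    omega
  obtain ⟨s, hs, hs0⟩ := Submodule.exists_mem_ne_zero_of_ne_bot this
  exact ⟨s, hs0, div_of_section hK hD hs0 hs⟩

section
variable (hK : IsFunctionField k K) (hg : genus k K = 2) (C : Divisor k K)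
  (hC : IsCanonical k K C)

include hK hg hC in
lemma rr2 (D : Divisor k K) : (ell D : ℤ) = D.deg - 1 + ell (C - D) := by
  have := riemann_roch hK C hC D
  rw [hg] at this
  push_cast at this
  omega

include hK hg in
lemma ell_deg3 (D : Divisor k K) (hD : 3 ≤ D.deg) : (ell D : ℤ) = D.deg - 1 := by
  have := ell_of_deg_ge hK D (by rw [hg]; push_cast; omega)
  rw [hg] at this
  push_cast at this
  omega

include hK hg hC in
lemma degC : C.deg = 2 ∧ ell C = 2 := by
  have := canonical_ell_deg hK hC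
  rw [hg] at this
  push_cast at this
  obtain ⟨h1, h2⟩ := this
  refine ⟨by omega, by exact_mod_cast h1⟩

end

section
variable [IsAlgClosed k] (hK : IsFunctionField k K) (hg : genus k K = 2) (C : Divisor k K)
  (hC : IsCanonical k K C)

include hK hg hC in
/-- S17249. -/
theorem no_weight3 (A P Q : Place k K)
    (hA : ell (Finsupp.single A (2 : ℤ) : Divisor k K) = 1) (hQ : Q ≠ A)
    (h2 : ell (C + Finsupp.single A (2 : ℤ) - Finsupp.single P (1 : ℤ) -
      Finsupp.single Q (1 : ℤ)) = 2) : False := by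
  have hAd := deg_eq_one_of_algClosed hK A
  have hPd := deg_eq_one_of_algClosed hK P
  have hQd := deg_eq_one_of_algClosed hK Q
  obtain ⟨hCd, -⟩ := degC hK hg C hC
  have hrr := rr2 hK hg C hC (C + Finsupp.single A (2 : ℤ) - Finsupp.single P (1 : ℤ) -
      Finsupp.single Q (1 : ℤ))
  have hdeg : (C + Finsupp.single A (2 : ℤ) - Finsupp.single P (1 : ℤ) -
      Finsupp.single Q (1 : ℤ)).deg = 2 := by
    rw [deg_sub, deg_sub, deg_add, deg_single, deg_single, deg_single, hAd, hPd, hQd, hCd]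
    norm_num
  have hE : C - (C + Finsupp.single A (2 : ℤ) - Finsupp.single P (1 : ℤ) -
      Finsupp.single Q (1 : ℤ)) = Finsupp.single P (1 : ℤ) + Finsupp.single Q (1 : ℤ) -
        Finsupp.single A (2 : ℤ) := by abel
  rw [hdeg, h2, hE] at hrr
  have hl : 1 ≤ ell (Finsupp.single P (1 : ℤ) + Finsupp.single Q (1 : ℤ) -
        Finsupp.single A (2 : ℤ) : Divisor k K) := by
    have : (ell (Finsupp.single P (1 : ℤ) + Finsupp.single Q (1 : ℤ) -
        Finsupp.single A (2 : ℤ) : Divisor k K) : ℤ) = 1 := by push_cast at hrr; omega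
    omega
  obtain ⟨f, hf0, hdf⟩ := exists_div_eq hK (by
    rw [deg_sub, deg_add, deg_single, deg_single, deg_single, hAd, hPd, hQd]; norm_num) hl
  -- `f⁻¹ ∈ L(2A) = L(0)`
  have hfi : f⁻¹ ∈ L (Finsupp.single A (2 : ℤ) : Divisor k K) := by
    have : f⁻¹ ∈ L (-(FunFld.div k f⁻¹)) := mem_L_neg_div hK (inv_ne_zero hf0)
    refine L_mono ?_ this
    rw [div_inv hK, hdf]
    intro R
    simp only [Finsupp.neg_apply, Finsupp.sub_apply, Finsupp.add_apply, neg_neg]
    have h1 : (0 : ℤ) ≤ (Finsupp.single P (1 : ℤ) : Divisor k K) R := by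
      by_cases h : R = P
      · subst h; rw [single_apply_self]; norm_num
      · rw [single_apply_ne h]
    have h2 : (0 : ℤ) ≤ (Finsupp.single Q (1 : ℤ) : Divisor k K) R := by
      by_cases h : R = Q
      · subst h; rw [single_apply_self]; norm_num
      · rw [single_apply_ne h]
    omega
  have hL : L (0 : Divisor k K) = L (Finsupp.single A (2 : ℤ) : Divisor k K) := by
    refine L_eq_of_le_of_ell_eq hK ?_ (by rw [ell_zero hK, hA])
    intro R
    by_cases h : R = A
    · subst h; rw [single_apply_self]; simp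
    · rw [single_apply_ne h]; simp
  rw [← hL] at hfi
  have h3 := neg_le_div_of_mem_L hK hfi (inv_ne_zero hf0) A
  rw [div_inv hK, hdf] at h3
  simp only [Finsupp.sub_apply, Finsupp.add_apply, neg_neg,
    Finsupp.coe_zero, Pi.zero_apply, neg_zero] at h3
  rw [single_apply_self, single_apply_ne hQ.symm] at h3
  have h4 : (Finsupp.single P (1 : ℤ) : Divisor k K) A ≤ 1 := by
    by_cases h : A = P
    · rw [h, single_apply_self]
    · rw [single_apply_ne h]; norm_num
  omega


include hK hg hC in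
/-- S17250. -/
theorem no_S17250 (A P Q : Place k K)
    (hP : P ≠ A)
    (h1 : ell (C + Finsupp.single A (3 : ℤ) - Finsupp.single P (1 : ℤ) -
      Finsupp.single Q (4 : ℤ)) = 1)
    (h2 : ell (C + Finsupp.single A (3 : ℤ) - Finsupp.single P (1 : ℤ) -
      Finsupp.single Q (2 : ℤ)) = 2) : False := by
  have hAd := deg_eq_one_of_algClosed hK A
  have hPd := deg_eq_one_of_algClosed hK P
  have hQd := deg_eq_one_of_algClosed hK Q
  obtain ⟨hCd, hCl⟩ := degC hK hg C hC
  -- `P + 2Q ~ 3A`
  have hrr := rr2 hK hg C hC (C + Finsupp.single A (3 : ℤ) - Finsupp.single P (1 : ℤ) -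
      Finsupp.single Q (2 : ℤ))
  have hdeg : (C + Finsupp.single A (3 : ℤ) - Finsupp.single P (1 : ℤ) -
      Finsupp.single Q (2 : ℤ)).deg = 2 := by
    rw [deg_sub, deg_sub, deg_add, deg_single, deg_single, deg_single, hAd, hPd, hQd, hCd]
    norm_num
  have hE : C - (C + Finsupp.single A (3 : ℤ) - Finsupp.single P (1 : ℤ) -
      Finsupp.single Q (2 : ℤ)) = Finsupp.single P (1 : ℤ) + Finsupp.single Q (2 : ℤ) -
        Finsupp.single A (3 : ℤ) := by abel
  rw [hdeg, h2, hE] at hrr
  have hl : 1 ≤ ell (Finsupp.single P (1 : ℤ) + Finsupp.single Q (2 : ℤ) -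
        Finsupp.single A (3 : ℤ) : Divisor k K) := by
    have : (ell (Finsupp.single P (1 : ℤ) + Finsupp.single Q (2 : ℤ) -
        Finsupp.single A (3 : ℤ) : Divisor k K) : ℤ) = 1 := by push_cast at hrr; omega
    omega
  obtain ⟨f, hf0, hdf⟩ := exists_div_eq hK (by
    rw [deg_sub, deg_add, deg_single, deg_single, deg_single, hAd, hPd, hQd]; norm_num) hl
  -- `C + 3A - P ~ 4Q`
  obtain ⟨e, he0, hde⟩ := exists_div_eq hK (D := C + Finsupp.single A (3 : ℤ) -
      Finsupp.single P (1 : ℤ) - Finsupp.single Q (4 : ℤ)) (by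
    rw [deg_sub, deg_sub, deg_add, deg_single, deg_single, deg_single, hAd, hPd, hQd, hCd]
    norm_num) (by rw [h1])
  -- `3A - P ~ C`
  have hx0 : e⁻¹ * f⁻¹ * f⁻¹ ≠ 0 :=
    mul_ne_zero (mul_ne_zero (inv_ne_zero he0) (inv_ne_zero hf0)) (inv_ne_zero hf0)
  have hl3 := ell_add_div hK (Finsupp.single A (3 : ℤ) - Finsupp.single P (1 : ℤ)) hx0
  rw [div_mul hK (mul_ne_zero (inv_ne_zero he0) (inv_ne_zero hf0)) (inv_ne_zero hf0),
    div_mul hK (inv_ne_zero he0) (inv_ne_zero hf0), div_inv hK, div_inv hK, hde, hdf] at hl3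
  have e4 : (Finsupp.single Q (4 : ℤ) : Divisor k K) =
      Finsupp.single Q (2 : ℤ) + Finsupp.single Q (2 : ℤ) := by
    rw [← Finsupp.single_add]; norm_num
  have hEq : Finsupp.single A (3 : ℤ) - Finsupp.single P (1 : ℤ) +
      (-(-(C + Finsupp.single A (3 : ℤ) - Finsupp.single P (1 : ℤ) - Finsupp.single Q (4 : ℤ))) +
        -(-(Finsupp.single P (1 : ℤ) + Finsupp.single Q (2 : ℤ) - Finsupp.single A (3 : ℤ))) +
        -(-(Finsupp.single P (1 : ℤ) + Finsupp.single Q (2 : ℤ) - Finsupp.single A (3 : ℤ)))) =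
      C := by
    rw [e4]; abel
  rw [hEq, hCl] at hl3
  -- `L(3A - P) = L(3A) ∋ 1`
  have hl3A : ell (Finsupp.single A (3 : ℤ) : Divisor k K) = 2 := by
    have := ell_deg3 hK hg (Finsupp.single A (3 : ℤ)) (by rw [deg_single, hAd]; norm_num)
    rw [deg_single, hAd] at this
    have h' : (ell (Finsupp.single A (3 : ℤ) : Divisor k K) : ℤ) = 2 := by rw [this]; norm_num
    exact_mod_cast h'
  have hLeq := L_eq_of_le_of_ell_eq hK (D := Finsupp.single A (3 : ℤ) - Finsupp.single P (1 : ℤ))
    (E := Finsupp.single A (3 : ℤ)) (by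
      intro R
      rw [Finsupp.sub_apply]
      by_cases h : R = P
      · subst h; rw [single_apply_self]; omega
      · rw [single_apply_ne h, sub_zero]) (by rw [← hl3, hl3A])
  have h1mem : (1 : K) ∈ L (Finsupp.single A (3 : ℤ) : Divisor k K) := by
    rw [one_mem_L_iff]
    intro R
    by_cases h : R = A
    · subst h; rw [single_apply_self]; norm_num
    · rw [single_apply_ne h]
  rw [← hLeq, one_mem_L_iff] at h1mem
  have := h1mem P
  rw [Finsupp.sub_apply, single_apply_self, single_apply_ne hP] at this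
  omega

include hK hg hC in
/-- S17251. -/
theorem no_S17251 (B Q : Place k K)
    (hB : ell (Finsupp.single B (2 : ℤ) : Divisor k K) = 1) (hQ : Q ≠ B)
    (h1 : ell (C + Finsupp.single B (1 : ℤ) - Finsupp.single Q (2 : ℤ)) = 1)
    (h2 : ell (C + Finsupp.single B (3 : ℤ) - Finsupp.single Q (4 : ℤ)) = 1) : False := by
  have hBd := deg_eq_one_of_algClosed hK B
  have hQd := deg_eq_one_of_algClosed hK Q
  obtain ⟨hCd, hCl⟩ := degC hK hg C hC
  -- `ℓ(2Q - B) = 1`
  have hrr := rr2 hK hg C hC (C + Finsupp.single B (1 : ℤ) - Finsupp.single Q (2 : ℤ))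
  have hdeg : (C + Finsupp.single B (1 : ℤ) - Finsupp.single Q (2 : ℤ)).deg = 1 := by
    rw [deg_sub, deg_add, deg_single, deg_single, hBd, hQd, hCd]
    norm_num
  have hE : C - (C + Finsupp.single B (1 : ℤ) - Finsupp.single Q (2 : ℤ)) =
      Finsupp.single Q (2 : ℤ) - Finsupp.single B (1 : ℤ) := by abel
  rw [hdeg, h1, hE] at hrr
  have hl : 1 ≤ ell (Finsupp.single Q (2 : ℤ) - Finsupp.single B (1 : ℤ) : Divisor k K) := by
    have : (ell (Finsupp.single Q (2 : ℤ) - Finsupp.single B (1 : ℤ) : Divisor k K) : ℤ) = 1 := by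
      push_cast at hrr; omega
    omega
  obtain ⟨s, hs, hs0⟩ : ∃ s ∈ L (Finsupp.single Q (2 : ℤ) - Finsupp.single B (1 : ℤ) :
      Divisor k K), s ≠ 0 := by
    have : L (Finsupp.single Q (2 : ℤ) - Finsupp.single B (1 : ℤ) : Divisor k K) ≠ ⊥ := by
      intro hb
      unfold ell at hl
      rw [hb, finrank_bot] at hl
      omega
    exact Submodule.exists_mem_ne_zero_of_ne_bot this
  -- `ℓ(2Q) = 2`
  have hrr2 := rr2 hK hg C hC (Finsupp.single Q (2 : ℤ))
  rw [deg_single, hQd] at hrr2
  have hle1 := ell_le_one_of_deg_zero hK (D := C - Finsupp.single Q (2 : ℤ)) (by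
    rw [deg_sub, deg_single, hQd, hCd]; norm_num)
  have hge : 1 ≤ ell (C - Finsupp.single Q (2 : ℤ)) := by
    by_contra hlt
    have h0 : ell (C - Finsupp.single Q (2 : ℤ)) = 0 := by omega
    rw [h0] at hrr2
    have h2Q : ell (Finsupp.single Q (2 : ℤ) : Divisor k K) = 1 := by
      have : (ell (Finsupp.single Q (2 : ℤ) : Divisor k K) : ℤ) = 1 := by
        rw [hrr2]; norm_num
      exact_mod_cast this
    have hL : L (0 : Divisor k K) = L (Finsupp.single Q (2 : ℤ) : Divisor k K) := by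
      refine L_eq_of_le_of_ell_eq hK ?_ (by rw [ell_zero hK, h2Q])
      intro R
      by_cases h : R = Q
      · subst h; rw [single_apply_self]; simp
      · rw [single_apply_ne h]; simp
    have hs2 : s ∈ L (Finsupp.single Q (2 : ℤ) : Divisor k K) := by
      refine L_mono ?_ hs
      intro R
      rw [Finsupp.sub_apply]
      by_cases h : R = B
      · subst h; rw [single_apply_self]; omega
      · rw [single_apply_ne h, sub_zero]
    rw [← hL, L_zero hK, Submodule.mem_one] at hs2
    have hd0 := div_eq_zero_of_mem hK (x := s) hs2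
    have h3 := neg_le_div_of_mem_L hK hs hs0 B
    rw [hd0, Finsupp.neg_apply, Finsupp.sub_apply, single_apply_self, single_apply_ne hQ.symm] at h3
    simp at h3
  obtain ⟨c, hc0, hdc⟩ := exists_div_eq hK (D := C - Finsupp.single Q (2 : ℤ)) (by
    rw [deg_sub, deg_single, hQd, hCd]; norm_num) hge
  -- `ℓ(3B - C) = 1`
  have hl3 := ell_add_div hK (C + Finsupp.single B (3 : ℤ) - Finsupp.single Q (4 : ℤ))
    (mul_ne_zero hc0 hc0)
  rw [div_mul hK hc0 hc0, hdc] at hl3
  have e4 : (Finsupp.single Q (4 : ℤ) : Divisor k K) =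
      Finsupp.single Q (2 : ℤ) + Finsupp.single Q (2 : ℤ) := by
    rw [← Finsupp.single_add]; norm_num
  have hEq : C + Finsupp.single B (3 : ℤ) - Finsupp.single Q (4 : ℤ) +
      (-(C - Finsupp.single Q (2 : ℤ)) + -(C - Finsupp.single Q (2 : ℤ))) =
      Finsupp.single B (3 : ℤ) - C := by
    rw [e4]; abel
  rw [hEq, h2] at hl3
  obtain ⟨s', hs', hs'0⟩ : ∃ s' ∈ L (Finsupp.single B (3 : ℤ) - C : Divisor k K), s' ≠ 0 := by
    have : L (Finsupp.single B (3 : ℤ) - C : Divisor k K) ≠ ⊥ := by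
      intro hb
      unfold ell at hl3
      rw [hb, finrank_bot] at hl3
      omega
    exact Submodule.exists_mem_ne_zero_of_ne_bot this
  have hEff : 0 ≤ FunFld.div k s' + (Finsupp.single B (3 : ℤ) - C) := by
    have := neg_le_div_of_mem_L hK hs' hs'0
    intro R
    have hR := this R
    rw [Finsupp.neg_apply] at hR
    rw [Finsupp.add_apply]
    simp only [Finsupp.coe_zero, Pi.zero_apply]
    omega
  obtain ⟨R', -, hR'⟩ := effective_deg_one hK hEff (by
    rw [deg_add, deg_div hK, deg_sub, deg_single, hBd, hCd]; norm_num)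
  -- `ℓ(3B - R') = ℓ(C) = 2`
  have hl4 := ell_add_div hK C (inv_ne_zero hs'0)
  rw [div_inv hK] at hl4
  have hEq2 : C + -FunFld.div k s' = Finsupp.single B (3 : ℤ) - Finsupp.single R' 1 := by
    rw [← hR']; abel
  rw [hEq2, hCl] at hl4
  have hl3B : ell (Finsupp.single B (3 : ℤ) : Divisor k K) = 2 := by
    have := ell_deg3 hK hg (Finsupp.single B (3 : ℤ)) (by rw [deg_single, hBd]; norm_num)
    rw [deg_single, hBd] at this
    have h' : (ell (Finsupp.single B (3 : ℤ) : Divisor k K) : ℤ) = 2 := by rw [this]; norm_num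
    exact_mod_cast h'
  have hLeq := L_eq_of_le_of_ell_eq hK (D := Finsupp.single B (3 : ℤ) - Finsupp.single R' (1 : ℤ))
    (E := Finsupp.single B (3 : ℤ)) (by
      intro R
      rw [Finsupp.sub_apply]
      by_cases h : R = R'
      · subst h; rw [single_apply_self]; omega
      · rw [single_apply_ne h, sub_zero]) (by rw [hl4, hl3B])
  have h1mem : (1 : K) ∈ L (Finsupp.single B (3 : ℤ) : Divisor k K) := by
    rw [one_mem_L_iff]
    intro R
    by_cases h : R = B
    · subst h; rw [single_apply_self]; norm_num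
    · rw [single_apply_ne h]
  rw [← hLeq, one_mem_L_iff] at h1mem
  have hRB : R' = B := by
    by_contra hne
    have := h1mem R'
    rw [Finsupp.sub_apply, single_apply_self, single_apply_ne hne] at this
    omega
  rw [hRB, ← Finsupp.single_sub] at hl4
  norm_num at hl4
  rw [hB] at hl4
  omega

end

end Groth.Agent.Lib.Helper27G2
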