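import Groth.Agent.Lib.Helper27EpiGen
import Groth.Agent.Lib.Helper27PnMor2
import Groth.Agent.Lib.Helper27CoprodFin

/-!
# Modules generated by their global sections (helper27)

`GenTop M` : every morphism out of `M` that kills all global sections of `M` is zero.  This is the
usual "generated by global sections" property, and it implies `Curv2.IsGloballyGenerated M`.
-/

set_option autoImplicit false
universe u
open CategoryTheory Limits AlgebraicGeometry TopologicalSpace Opposite

namespace Groth.Agent.Lib.Helper27GenTop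
open Groth.Agent.Lib.Helper23.SecTw Groth.Agent.Lib.Helper23.GenLocus
  Groth.Agent.Lib.Helper23.Extend Groth.Agent.Lib.Helper6 Groth.Agent.Lib.Helper27CoprodFin

variable {X : Scheme.{u}}

/-- `M` is generated by its global sections. -/
def GenTop (M : X.Modules) : Prop :=
  ∀ (N : X.Modules) (f : M ⟶ N), (∀ s : Γ(M, ⊤), f.app ⊤ s = 0) → f = 0

theorem genTop_of_epi {M M' : X.Modules} (p : M ⟶ M') [Epi p] (h : GenTop M) : GenTop M' := by
  intro N f hf
  have h0 : p ≫ f = 0 := by
    apply h
    intro s
    rw [Scheme.Modules.Hom.comp_app]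
    exact hf _
  exact (cancel_epi p).1 (h0.trans comp_zero.symm)

theorem genTop_of_iso {M M' : X.Modules} (e : M ≅ M') (h : GenTop M) : GenTop M' :=
  genTop_of_epi e.hom h

theorem eq_of_genTop {M N : X.Modules} (h : GenTop M) (g g' : M ⟶ N)
    (hgg : ∀ s : Γ(M, ⊤), g.app ⊤ s = g'.app ⊤ s) : g = g' := by
  have h0 : g - g' = 0 := by
    apply h
    intro s
    rw [Scheme.Modules.Hom.sub_app]
    simp [hgg s]
  exact sub_eq_zero.1 h0

theorem cancel_desc_of_genTop (M : X.Modules) (h : GenTop M) (Z : X.Modules) (g g' : M ⟶ Z)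
    (hgg : (Sigma.desc (fun s => secHom M s) :
      (∐ fun _ : Γ(M, ⊤) => Coh.structureModule X) ⟶ M) ≫ g = Sigma.desc (fun s => secHom M s) ≫ g') :
    g = g' := by
  have hi : ∀ s : Γ(M, ⊤), secHom M s ≫ g = secHom M s ≫ g' := by
    intro s
    have := congrArg (fun t => Sigma.ι (fun _ : Γ(M, ⊤) => Coh.structureModule X) s ≫ t) hgg
    rw [← Category.assoc, ← Category.assoc, Sigma.ι_desc] at this
    exact this
  refine eq_of_genTop h g g' (fun s => ?_)
  have h1 := hi s
  rw [Groth.Agent.Lib.Helper27PnMor.secHom_comp, Groth.Agent.Lib.Helper27PnMor.secHom_comp] at h1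
  have := congrArg (fun t => sv t ⊤) h1
  simpa [sv_secHom, res_self] using this

theorem isGloballyGenerated_of_genTop (M : X.Modules) (h : GenTop M) :
    Curv2.IsGloballyGenerated M :=
  ⟨Γ(M, ⊤), Sigma.desc (fun s => secHom M s),
    ⟨fun {Z} g g' hgg => cancel_desc_of_genTop M h Z g g' hgg⟩⟩

/-- an additive functor applied to a finite coproduct of modules whose images are generated by
global sections gives a module generated by global sections. -/
theorem genTop_map_sigma {r : ℕ} (f : Fin r → X.Modules) (T : X.Modules ⥤ X.Modules) [T.Additive]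
    (h : ∀ i, GenTop (T.obj (f i))) : GenTop (T.obj (∐ f)) := by
  intro N g hg
  have hid : 𝟙 (T.obj (∐ f)) = ∑ i, T.map (sigmaπ f i) ≫ T.map (Sigma.ι f i) := by
    rw [← T.map_id, ← sum_sigmaπ_ι f, T.map_sum]
    simp
  have hz : ∀ i, T.map (Sigma.ι f i) ≫ g = 0 := by
    intro i
    apply h i
    intro s
    rw [Scheme.Modules.Hom.comp_app]
    exact hg _
  calc g = 𝟙 _ ≫ g := (Category.id_comp g).symm
    _ = 0 := by
      rw [hid, Preadditive.sum_comp]
      refine Finset.sum_eq_zero (fun i _ => ?_)
      rw [Category.assoc, hz i, comp_zero]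

theorem genTop_sigma {r : ℕ} (f : Fin r → X.Modules) (h : ∀ i, GenTop (f i)) : GenTop (∐ f) :=
  genTop_map_sigma f (𝟭 _) h

end Groth.Agent.Lib.Helper27GenTop
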