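import Mathlib

/-!
# Geometric transitivity of a finite group action from transitivity on fibres
-/

set_option autoImplicit false
universe u
open AlgebraicGeometry CategoryTheory

namespace Groth.Agent.Lib.Helper27GeomTrans

theorem exists_algEquiv_of_normal {k K Ω : Type*} [Field k] [Field K] [Field Ω] [Algebra k K]
    [Normal k K] (ι₁ ι₂ : K →+* Ω)
    (h : ι₁.comp (algebraMap k K) = ι₂.comp (algebraMap k K)) :
    ∃ σ : K ≃ₐ[k] K, ∀ x, ι₁ (σ x) = ι₂ x := by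
  letI algk : Algebra k Ω := (ι₁.comp (algebraMap k K)).toAlgebra
  let i1 : Algebra K Ω := ι₂.toAlgebra
  let i2 : Algebra K Ω := ι₁.toAlgebra
  have t1 : @IsScalarTower k K Ω _ i1.toSMul algk.toSMul := by
    letI := i1
    refine IsScalarTower.of_algebraMap_eq (fun x => ?_)
    exact RingHom.congr_fun h x
  have t2 : @IsScalarTower k K Ω _ i2.toSMul algk.toSMul := by
    letI := i2
    refine IsScalarTower.of_algebraMap_eq (fun x => ?_)
    rfl
  refine ⟨@AlgHom.restrictNormal' k _ Ω Ω _ _ algk algk (AlgHom.id k Ω) K _ _ i1 i2 t1 t2 _,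
    fun x => ?_⟩
  exact @AlgHom.restrictNormal_commutes k _ Ω Ω _ _ algk algk (AlgHom.id k Ω) K _ _ i1 i2 t1 t2 _ x

variable {X S : Scheme.{u}} (q : X ⟶ S) {G : Type u} [Group G] (ρ : G →* Aut X)

theorem exists_factor (Ω : Type u) [Field Ω] (τ : Spec (CommRingCat.of Ω) ⟶ X) (x : X)
    (hx : τ (IsLocalRing.closedPoint Ω) = x) :
    ∃ ι : X.residueField x ⟶ CommRingCat.of Ω, τ = Spec.map ι ≫ X.fromSpecResidueField x := by
  subst hx
  exact ⟨_, (Scheme.descResidueField_stalkClosedPointTo_fromSpecResidueField Ω X τ).symm⟩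

theorem conj_of_same_point (x : X)
    (h2 : @Normal (S.residueField (q x)) (X.residueField x) _ _
      (q.residueFieldMap x).hom.toAlgebra)
    (h3 : ∀ (σ : X.residueField x ≅ X.residueField x),
      q.residueFieldMap x ≫ σ.hom = q.residueFieldMap x →
      ∃ g : G, X.fromSpecResidueField x ≫ (ρ g).hom = Spec.map σ.hom ≫ X.fromSpecResidueField x)
    (Ω : Type u) [Field Ω] (ι₁ ι₂ : X.residueField x ⟶ CommRingCat.of Ω)
    (h : (Spec.map ι₁ ≫ X.fromSpecResidueField x) ≫ q =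
      (Spec.map ι₂ ≫ X.fromSpecResidueField x) ≫ q) :
    ∃ g : G, (Spec.map ι₁ ≫ X.fromSpecResidueField x) ≫ (ρ g).hom =
      Spec.map ι₂ ≫ X.fromSpecResidueField x := by
  rw [Category.assoc, Category.assoc, ← Scheme.Hom.SpecMap_residueFieldMap_fromSpecResidueField,
    ← Spec.map_comp_assoc, ← Spec.map_comp_assoc] at h
  have h4 : (⟨q x, q.residueFieldMap x ≫ ι₁⟩ : Σ s, S.residueField s ⟶ CommRingCat.of Ω) =
      ⟨q x, q.residueFieldMap x ≫ ι₂⟩ := by
    apply (Scheme.SpecToEquivOfField Ω S).symm.injective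
    simpa using h
  have h5 : q.residueFieldMap x ≫ ι₁ = q.residueFieldMap x ≫ ι₂ :=
    eq_of_heq (Sigma.mk.inj h4).2
  letI alg : Algebra (S.residueField (q x)) (X.residueField x) :=
    (q.residueFieldMap x).hom.toAlgebra
  haveI : Normal (S.residueField (q x)) (X.residueField x) := h2
  have h6 : ι₁.hom.comp (algebraMap (S.residueField (q x)) (X.residueField x)) =
      ι₂.hom.comp (algebraMap (S.residueField (q x)) (X.residueField x)) := by
    rw [RingHom.algebraMap_toAlgebra, ← CommRingCat.hom_comp, ← CommRingCat.hom_comp, h5]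
  obtain ⟨σ, hσ⟩ := exists_algEquiv_of_normal ι₁.hom ι₂.hom h6
  let σ' : X.residueField x ≅ X.residueField x := σ.toRingEquiv.toCommRingCatIso
  have h7 : q.residueFieldMap x ≫ σ'.hom = q.residueFieldMap x := by
    ext y
    exact σ.commutes y
  obtain ⟨g, hg⟩ := h3 σ' h7
  refine ⟨g, ?_⟩
  rw [Category.assoc, hg, ← Spec.map_comp_assoc]
  congr 2
  ext y
  exact hσ y

theorem main (hρ : ∀ g : G, (ρ g).hom ≫ q = q)
    (h1 : ∀ x y : X, q x = q y → ∃ g : G, (ρ g).hom x = y)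
    (h2 : ∀ x : X, @Normal (S.residueField (q x)) (X.residueField x) _ _
      (q.residueFieldMap x).hom.toAlgebra)
    (h3 : ∀ (x : X) (σ : X.residueField x ≅ X.residueField x),
      q.residueFieldMap x ≫ σ.hom = q.residueFieldMap x →
      ∃ g : G, X.fromSpecResidueField x ≫ (ρ g).hom = Spec.map σ.hom ≫ X.fromSpecResidueField x)
    (Ω : Type u) [Field Ω] (τ₁ τ₂ : Spec (CommRingCat.of Ω) ⟶ X) (hτ : τ₁ ≫ q = τ₂ ≫ q) :
    ∃ g : G, τ₁ ≫ (ρ g).hom = τ₂ := by
  let pt : Spec (CommRingCat.of Ω) := IsLocalRing.closedPoint Ω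
  have hq : q (τ₁ pt) = q (τ₂ pt) := by
    have := congrArg (fun f : Spec (CommRingCat.of Ω) ⟶ S => f pt) hτ
    exact this
  obtain ⟨g₀, hg₀⟩ := h1 _ _ hq
  have hx1 : (τ₁ ≫ (ρ g₀).hom) pt = τ₂ pt := hg₀
  obtain ⟨ι₁, hι₁⟩ := exists_factor Ω (τ₁ ≫ (ρ g₀).hom) (τ₂ pt) hx1
  obtain ⟨ι₂, hι₂⟩ := exists_factor Ω τ₂ (τ₂ pt) rfl
  have h : (Spec.map ι₁ ≫ X.fromSpecResidueField (τ₂ pt)) ≫ q =
      (Spec.map ι₂ ≫ X.fromSpecResidueField (τ₂ pt)) ≫ q := by
    rw [← hι₁, ← hι₂, Category.assoc, hρ, hτ]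
  obtain ⟨g, hg⟩ := conj_of_same_point q ρ (τ₂ pt) (h2 _) (h3 _) Ω ι₁ ι₂ h
  refine ⟨g * g₀, ?_⟩
  rw [← hι₁, ← hι₂] at hg
  have hmul : (ρ (g * g₀)).hom = (ρ g₀).hom ≫ (ρ g).hom := by
    rw [map_mul]
    rfl
  rw [hmul, ← Category.assoc]
  exact hg

end Groth.Agent.Lib.Helper27GeomTrans
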