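import Mathlib

/-!
# Geometric transitivity: irreducible components
-/

set_option autoImplicit false
universe u

open AlgebraicGeometry CategoryTheory CategoryTheory.Limits TensorProduct

namespace Groth.Agent.Lib.Helper27GeomTransComp

variable {X S : Scheme.{u}} (q : X ⟶ S) {G : Type u} [Group G] (ρ : G →* Aut X)

/-- Geometric transitivity implies transitivity on the points of the fibres. -/
theorem exists_smul_eq
    (htrans : ∀ (Ω : Type u) [Field Ω] [IsAlgClosed Ω] (τ₁ τ₂ : Spec (CommRingCat.of Ω) ⟶ X),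
      τ₁ ≫ q = τ₂ ≫ q → ∃ g : G, τ₁ ≫ (ρ g).hom = τ₂)
    (x y : X) (hxy : q x = q y) : ∃ g : G, (ρ g).hom x = y := by
  let i₁ : S.residueField (q x) ⟶ X.residueField x := q.residueFieldMap x
  let i₂ : S.residueField (q x) ⟶ X.residueField y :=
    (S.residueFieldCongr hxy).hom ≫ q.residueFieldMap y
  let _ : Algebra (S.residueField (q x)) (X.residueField x) := i₁.hom.toAlgebra
  let _ : Algebra (S.residueField (q x)) (X.residueField y) := i₂.hom.toAlgebra
  have hnt : Nontrivial (X.residueField x ⊗[S.residueField (q x)] X.residueField y) :=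
    Algebra.TensorProduct.nontrivial_of_algebraMap_injective_of_flat_left _ _ _
      (RingHom.injective _)
  obtain ⟨m, hm⟩ := Ideal.exists_maximal
    (X.residueField x ⊗[S.residueField (q x)] X.residueField y)
  let _ := Ideal.Quotient.field m
  let j₁ : X.residueField x →+*
      AlgebraicClosure ((X.residueField x ⊗[S.residueField (q x)] X.residueField y) ⧸ m) :=
    (algebraMap _ _).comp ((Ideal.Quotient.mk m).comp
      (Algebra.TensorProduct.includeLeft (R := S.residueField (q x))
        (S := S.residueField (q x)) (A := X.residueField x) (B := X.residueField y)).toRingHom)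
  let j₂ : X.residueField y →+*
      AlgebraicClosure ((X.residueField x ⊗[S.residueField (q x)] X.residueField y) ⧸ m) :=
    (algebraMap _ _).comp ((Ideal.Quotient.mk m).comp
      (Algebra.TensorProduct.includeRight (R := S.residueField (q x))
        (A := X.residueField x) (B := X.residueField y)).toRingHom)
  have hj : j₁.comp i₁.hom = j₂.comp i₂.hom := by
    ext a
    simp only [RingHom.comp_apply, j₁, j₂]
    congr 2
    change Algebra.TensorProduct.includeLeft (algebraMap _ _ a) =
      Algebra.TensorProduct.includeRight (algebraMap _ _ a)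
    rw [AlgHom.commutes, AlgHom.commutes]
  let J₁ : X.residueField x ⟶ CommRingCat.of (AlgebraicClosure
      ((X.residueField x ⊗[S.residueField (q x)] X.residueField y) ⧸ m)) := CommRingCat.ofHom j₁
  let J₂ : X.residueField y ⟶ CommRingCat.of (AlgebraicClosure
      ((X.residueField x ⊗[S.residueField (q x)] X.residueField y) ⧸ m)) := CommRingCat.ofHom j₂
  have hj' : i₁ ≫ J₁ = i₂ ≫ J₂ := by
    ext a
    exact RingHom.congr_fun hj a
  let τ₁ : Spec (CommRingCat.of (AlgebraicClosure
      ((X.residueField x ⊗[S.residueField (q x)] X.residueField y) ⧸ m))) ⟶ X :=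
    Spec.map J₁ ≫ X.fromSpecResidueField x
  let τ₂ : Spec (CommRingCat.of (AlgebraicClosure
      ((X.residueField x ⊗[S.residueField (q x)] X.residueField y) ⧸ m))) ⟶ X :=
    Spec.map J₂ ≫ X.fromSpecResidueField y
  have hτ : τ₁ ≫ q = τ₂ ≫ q := by
    have e1 : τ₁ ≫ q = Spec.map (i₁ ≫ J₁) ≫ S.fromSpecResidueField (q x) := by
      calc τ₁ ≫ q = Spec.map J₁ ≫ (X.fromSpecResidueField x ≫ q) := Category.assoc _ _ _
        _ = Spec.map J₁ ≫ (Spec.map (q.residueFieldMap x) ≫ S.fromSpecResidueField (q x)) := by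
          rw [Scheme.Hom.SpecMap_residueFieldMap_fromSpecResidueField]
        _ = (Spec.map J₁ ≫ Spec.map (q.residueFieldMap x)) ≫ S.fromSpecResidueField (q x) :=
          (Category.assoc _ _ _).symm
        _ = Spec.map (i₁ ≫ J₁) ≫ S.fromSpecResidueField (q x) :=
          congrArg (· ≫ S.fromSpecResidueField (q x)) (Spec.map_comp _ _).symm
    have e2 : τ₂ ≫ q = Spec.map (i₂ ≫ J₂) ≫ S.fromSpecResidueField (q x) := by
      calc τ₂ ≫ q = Spec.map J₂ ≫ (X.fromSpecResidueField y ≫ q) := Category.assoc _ _ _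
        _ = Spec.map J₂ ≫ (Spec.map (q.residueFieldMap y) ≫ S.fromSpecResidueField (q y)) := by
          rw [Scheme.Hom.SpecMap_residueFieldMap_fromSpecResidueField]
        _ = Spec.map J₂ ≫ (Spec.map (q.residueFieldMap y) ≫
            (Spec.map (S.residueFieldCongr hxy).hom ≫ S.fromSpecResidueField (q x))) := by
          rw [Scheme.residueFieldCongr_fromSpecResidueField]
        _ = (Spec.map J₂ ≫ (Spec.map (q.residueFieldMap y) ≫
            Spec.map (S.residueFieldCongr hxy).hom)) ≫ S.fromSpecResidueField (q x) := by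
          simp only [Category.assoc]
        _ = Spec.map (i₂ ≫ J₂) ≫ S.fromSpecResidueField (q x) := by
          refine congrArg (· ≫ S.fromSpecResidueField (q x)) ?_
          rw [← Spec.map_comp, ← Spec.map_comp]
    rw [e1, e2, hj']
  obtain ⟨g, hg⟩ := htrans _ τ₁ τ₂ hτ
  refine ⟨g, ?_⟩
  let pt : ↥(Spec (CommRingCat.of (AlgebraicClosure
      ((X.residueField x ⊗[S.residueField (q x)] X.residueField y) ⧸ m)))) :=
    (IsLocalRing.closedPoint (AlgebraicClosure
      ((X.residueField x ⊗[S.residueField (q x)] X.residueField y) ⧸ m)) : PrimeSpectrum _)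
  have h1 : (τ₁ ≫ (ρ g).hom) pt = τ₂ pt := by
    rw [hg]
  have h2 : τ₁ pt = x := by
    change (Spec.map J₁ ≫ X.fromSpecResidueField x) pt = x
    rw [Scheme.Hom.comp_apply, Scheme.fromSpecResidueField_apply]
  have h3 : τ₂ pt = y := by
    change (Spec.map J₂ ≫ X.fromSpecResidueField y) pt = y
    rw [Scheme.Hom.comp_apply, Scheme.fromSpecResidueField_apply]
  rw [Scheme.Hom.comp_apply, h2, h3] at h1
  exact h1

section Components

variable [IrreducibleSpace ↥S] [UniversallyClosed q] [Surjective q]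

/-- Every irreducible component is a translate of a fixed one dominating `S`. -/
theorem exists_component
    (htrans : ∀ (Ω : Type u) [Field Ω] [IsAlgClosed Ω] (τ₁ τ₂ : Spec (CommRingCat.of Ω) ⟶ X),
      τ₁ ≫ q = τ₂ ≫ q → ∃ g : G, τ₁ ≫ (ρ g).hom = τ₂) :
    ∃ T₀ ∈ irreducibleComponents ↥X, Set.image (fun x => q x) T₀ = Set.univ ∧
      ∀ T ∈ irreducibleComponents ↥X, ∃ g : G, Set.image (fun x => (ρ g).hom x) T₀ = T := by
  obtain ⟨x₀, hx₀⟩ := q.surjective (genericPoint ↥S)
  have hT₀ := irreducibleComponent_mem_irreducibleComponents x₀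
  have hT₀closed : IsClosed (irreducibleComponent x₀) :=
    isClosed_of_mem_irreducibleComponents _ hT₀
  have himg : Set.image (fun x => q x) (irreducibleComponent x₀) = Set.univ := by
    have hcl : IsClosed (Set.image (fun x => q x) (irreducibleComponent x₀)) :=
      q.isClosedMap _ hT₀closed
    have hmem : genericPoint ↥S ∈ Set.image (fun x => q x) (irreducibleComponent x₀) :=
      ⟨x₀, mem_irreducibleComponent, hx₀⟩
    apply Set.eq_univ_of_univ_subset
    rw [← genericPoint_closure]
    exact closure_minimal (Set.singleton_subset_iff.mpr hmem) hcl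
  refine ⟨irreducibleComponent x₀, hT₀, himg, ?_⟩
  intro T hT
  have hTirr : IsIrreducible T := hT.1
  have hTclosed : IsClosed T := isClosed_of_mem_irreducibleComponents _ hT
  have hgen := hTirr.isGenericPoint_genericPoint hTclosed
  set η := hTirr.genericPoint with hη
  have : q η ∈ Set.image (fun x => q x) (irreducibleComponent x₀) := by
    rw [himg]
    trivial
  obtain ⟨x, hxT₀, hxη⟩ := this
  obtain ⟨g, hg⟩ := exists_smul_eq q ρ htrans x η hxη
  refine ⟨g, ?_⟩
  have hirr : IsIrreducible (Set.image (fun x => (ρ g).hom x) (irreducibleComponent x₀)) :=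
    isIrreducible_irreducibleComponent.image _ (ρ g).hom.continuous.continuousOn
  have hiso : IsIso (ρ g).hom := ⟨(ρ g).inv, (ρ g).hom_inv_id, (ρ g).inv_hom_id⟩
  have hcl : IsClosed (Set.image (fun x => (ρ g).hom x) (irreducibleComponent x₀)) :=
    (ρ g).hom.homeomorph.isClosedMap _ hT₀closed
  have hsub : T ⊆ Set.image (fun x => (ρ g).hom x) (irreducibleComponent x₀) := by
    rw [← hgen.def]
    exact closure_minimal (Set.singleton_subset_iff.mpr ⟨x, hxT₀, hg⟩) hcl
  exact Set.Subset.antisymm (hT.2 hirr hsub) hsub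

theorem main (hρ : ∀ g : G, (ρ g).hom ≫ q = q)
    (htrans : ∀ (Ω : Type u) [Field Ω] [IsAlgClosed Ω] (τ₁ τ₂ : Spec (CommRingCat.of Ω) ⟶ X),
      τ₁ ≫ q = τ₂ ≫ q → ∃ g : G, τ₁ ≫ (ρ g).hom = τ₂) :
    (∀ T ∈ irreducibleComponents ↥X, Set.image (fun x => q x) T = Set.univ) ∧
      ∀ T₁ ∈ irreducibleComponents ↥X, ∀ T₂ ∈ irreducibleComponents ↥X,
        ∃ g : G, Set.image (fun x => (ρ g).hom x) T₁ = T₂ := by
  obtain ⟨T₀, hT₀, himg, hall⟩ := exists_component q ρ htrans
  have hq : ∀ (g : G) (x : X), q ((ρ g).hom x) = q x := by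
    intro g x
    rw [← Scheme.Hom.comp_apply, hρ g]
  constructor
  · intro T hT
    obtain ⟨g, rfl⟩ := hall T hT
    rw [Set.image_image]
    simp only [hq]
    exact himg
  · intro T₁ hT₁ T₂ hT₂
    obtain ⟨g₁, rfl⟩ := hall T₁ hT₁
    obtain ⟨g₂, rfl⟩ := hall T₂ hT₂
    refine ⟨g₂ * g₁⁻¹, ?_⟩
    rw [Set.image_image]
    apply Set.image_congr
    intro x _
    have h1 : (ρ (g₂ * g₁⁻¹)).hom = (ρ g₁⁻¹).hom ≫ (ρ g₂).hom := by
      rw [map_mul]
      rfl
    have h2 : (ρ g₁).hom ≫ (ρ g₁⁻¹).hom = 𝟙 X := by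
      rw [map_inv]
      exact (ρ g₁).hom_inv_id
    rw [h1, Scheme.Hom.comp_apply, ← Scheme.Hom.comp_apply (ρ g₁).hom, h2]
    rfl

end Components

end Groth.Agent.Lib.Helper27GeomTransComp
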