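import Mathlib.Algebra.Homology.ShortComplex.ShortExact
import Mathlib.Algebra.Homology.ShortComplex.ExactFunctor
import Mathlib.CategoryTheory.Abelian.Basic
import Mathlib.CategoryTheory.Abelian.Exact
import Mathlib.CategoryTheory.Limits.Preserves.Shapes.Kernels
import Mathlib.CategoryTheory.Limits.Preserves.Shapes.Pullbacks
import Mathlib.CategoryTheory.Limits.Shapes.Pullback.CommSq

/-!
# Abstract gluing lemmas in abelian categories (helper27)

For an exact functor `c : C ⥤ D` of abelian categories: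
* `exists_epi_of_cokernel`: a morphism `α : F ⟶ c H` whose cokernel is in the image of `c`
  (compatibly) factors through an epimorphism onto `c (ker q)`;
* `isPullback_of_mono_kernel`: for an epimorphism `α : F ⟶ P` with kernel `N` and a commutative
  square to `β : QF ⟶ QP` such that `N ⟶ QF` is a monomorphism with cokernel `β`, the square is
  cartesian;
* `nonempty_iso_of_glue`: the resulting algebraization `c (H' ×_{QH} E) ≅ F`.
-/

set_option autoImplicit false
universe v v' u u'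
open CategoryTheory CategoryTheory.Limits

namespace Groth.Agent.Lib.Helper27GlueAbs

variable {C : Type u} [Category.{v} C] [Abelian C] {D : Type u'} [Category.{v'} D] [Abelian D]

theorem exists_epi_of_cokernel (c : C ⥤ D) [c.Additive] [PreservesFiniteLimits c]
    {F : D} {H E : C} (α : F ⟶ c.obj H) (q : H ⟶ E) (e : cokernel α ≅ c.obj E)
    (hq : c.map q = cokernel.π α ≫ e.hom) :
    ∃ α' : F ⟶ c.obj (kernel q), Epi α' ∧ α' ≫ c.map (kernel.ι q) = α := by
  -- `c (ker q)` is a kernel of `coker.π α`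
  have hk : IsLimit (KernelFork.ofι (c.map (kernel.ι q))
      (show c.map (kernel.ι q) ≫ c.map q = 0 by rw [← c.map_comp, kernel.condition, c.map_zero])) :=
    KernelFork.mapIsLimit _ (kernelIsKernel q) c
  have w : c.map (kernel.ι q) ≫ cokernel.π α = 0 := by
    rw [← cancel_mono e.hom, Category.assoc, ← hq, zero_comp, ← c.map_comp, kernel.condition,
      c.map_zero]
  haveI : Mono (c.map (kernel.ι q)) := inferInstance
  have hk' : IsLimit (KernelFork.ofι (c.map (kernel.ι q)) w) :=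
    KernelFork.IsLimit.ofι' _ _ (fun {W} x hx => by
      have hx' : x ≫ c.map q = 0 := by rw [hq, ← Category.assoc, hx, zero_comp]
      exact ⟨hk.lift (KernelFork.ofι x hx'), hk.fac (KernelFork.ofι x hx') WalkingParallelPair.zero⟩)
  let i : Abelian.image α ≅ c.obj (kernel q) :=
    IsLimit.conePointUniqueUpToIso (kernelIsKernel (cokernel.π α)) hk'
  have hi : i.hom ≫ c.map (kernel.ι q) = Abelian.image.ι α :=
    IsLimit.conePointUniqueUpToIso_hom_comp (kernelIsKernel (cokernel.π α)) hk'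
      WalkingParallelPair.zero
  refine ⟨Abelian.factorThruImage α ≫ i.hom, inferInstance, ?_⟩
  rw [Category.assoc, hi, Abelian.image.fac]

theorem isPullback_of_mono_kernel {F P QF QP N : D} (α : F ⟶ P) [Epi α] (ηF : F ⟶ QF)
    (ηP : P ⟶ QP) (β : QF ⟶ QP) (comm : α ≫ ηP = ηF ≫ β) (ι : N ⟶ F) (w : ι ≫ α = 0)
    (hι : IsLimit (KernelFork.ofι ι w)) (w' : (ι ≫ ηF) ≫ β = 0)
    (hβ : IsColimit (CokernelCofork.ofπ β w')) [Mono (ι ≫ ηF)] : IsPullback α ηF ηP β := by
  haveI : Epi β := epi_of_isColimit_cofork hβ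
  -- `ι ≫ ηF` is a kernel of `β`
  have hkβ : IsLimit (KernelFork.ofι (ι ≫ ηF) w') :=
    Abelian.monoIsKernelOfCokernel (CokernelCofork.ofπ β w') hβ
  let p₁ : pullback ηP β ⟶ P := pullback.fst ηP β
  let p₂ : pullback ηP β ⟶ QF := pullback.snd ηP β
  haveI : Epi p₁ := Abelian.epi_pullback_of_epi_g ηP β
  let θ : F ⟶ pullback ηP β := pullback.lift α ηF comm
  let ι' : N ⟶ pullback ηP β := pullback.lift 0 (ι ≫ ηF) (by rw [zero_comp, w'])
  have hι'1 : ι' ≫ p₁ = 0 := pullback.lift_fst _ _ _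
  have hι'2 : ι' ≫ p₂ = ι ≫ ηF := pullback.lift_snd _ _ _
  have hθ1 : θ ≫ p₁ = α := pullback.lift_fst _ _ _
  have hθ2 : θ ≫ p₂ = ηF := pullback.lift_snd _ _ _
  have hιθ : ι ≫ θ = ι' := by
    apply pullback.hom_ext
    · rw [Category.assoc, hθ1, w, hι'1]
    · rw [Category.assoc, hθ2, hι'2]
  haveI : Mono ι' := mono_of_mono_fac hι'2
  haveI : Mono ι := mono_of_isLimit_fork hι
  let S₁ : ShortComplex D := ShortComplex.mk ι α w
  let S₂ : ShortComplex D := ShortComplex.mk ι' p₁ hι'1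
  have h₁ : S₁.ShortExact := { exact := ShortComplex.exact_of_f_is_kernel _ hι }
  have hk₂ : IsLimit (KernelFork.ofι ι' hι'1) :=
    KernelFork.IsLimit.ofι' _ _ (fun {W} x hx => by
      have h0 : (x ≫ p₂) ≫ β = 0 := by
        rw [Category.assoc, ← pullback.condition, ← Category.assoc, hx, zero_comp]
      refine ⟨hkβ.lift (KernelFork.ofι (x ≫ p₂) h0), ?_⟩
      have hfac : hkβ.lift (KernelFork.ofι (x ≫ p₂) h0) ≫ ι ≫ ηF = x ≫ p₂ :=
        hkβ.fac (KernelFork.ofι (x ≫ p₂) h0) WalkingParallelPair.zero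
      apply pullback.hom_ext
      · rw [Category.assoc, hι'1, comp_zero, hx]
      · rw [Category.assoc, hι'2, hfac])
  have h₂ : S₂.ShortExact := { exact := ShortComplex.exact_of_f_is_kernel _ hk₂ }
  let φ : S₁ ⟶ S₂ :=
    { τ₁ := 𝟙 N
      τ₂ := θ
      τ₃ := 𝟙 P
      comm₁₂ := by
        show 𝟙 N ≫ ι' = ι ≫ θ
        rw [Category.id_comp, hιθ]
      comm₂₃ := by
        show θ ≫ p₁ = α ≫ 𝟙 P
        rw [hθ1, Category.comp_id] }
  haveI : IsIso φ.τ₁ := (inferInstance : IsIso (𝟙 N))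
  haveI : IsIso φ.τ₃ := (inferInstance : IsIso (𝟙 P))
  have hiso : IsIso θ := ShortComplex.isIso₂_of_shortExact_of_isIso₁₃ φ h₁ h₂
  exact IsPullback.of_iso_pullback ⟨comm⟩ (asIso θ) hθ1 hθ2

theorem nonempty_iso_of_glue (c : C ⥤ D) [c.Additive] [PreservesFiniteLimits c]
    {F QF : D} {H' E QH : C} (α : F ⟶ c.obj H') [Epi α] (ηH : H' ⟶ QH) (φ : E ⟶ QH)
    (ηF : F ⟶ QF) (ε : c.obj E ≅ QF) (comm : α ≫ c.map ηH = ηF ≫ ε.inv ≫ c.map φ)
    {N : D} (ι : N ⟶ F) (w : ι ≫ α = 0) (hι : IsLimit (KernelFork.ofι ι w)) [Mono (ι ≫ ηF)]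
    (w' : (ι ≫ ηF) ≫ ε.inv ≫ c.map φ = 0)
    (hcok : IsColimit (CokernelCofork.ofπ (ε.inv ≫ c.map φ) w')) :
    Nonempty (c.obj (pullback ηH φ) ≅ F) := by
  have hpb : IsPullback α ηF (c.map ηH) (ε.inv ≫ c.map φ) :=
    isPullback_of_mono_kernel α ηF (c.map ηH) (ε.inv ≫ c.map φ) comm ι w hι w' hcok
  -- the image of the pullback square of `C`
  have h1 : IsPullback (c.map (pullback.fst ηH φ)) (c.map (pullback.snd ηH φ)) (c.map ηH)
      (c.map φ) := (IsPullback.of_hasPullback ηH φ).map c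
  -- change the corner `c E` to `QF`
  have h2 : IsPullback (c.map (pullback.fst ηH φ)) (c.map (pullback.snd ηH φ) ≫ ε.hom)
      (c.map ηH) (ε.inv ≫ c.map φ) := by
    refine IsPullback.of_iso h1 (Iso.refl _) (Iso.refl _) ε (Iso.refl _) ?_ ?_ ?_ ?_
    · simp
    · simp
    · simp
    · simp
  exact ⟨h2.isoIsPullback _ _ hpb⟩

end Groth.Agent.Lib.Helper27GlueAbs
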