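import Mathlib

/-!
# Finite product gradings `Fin r → A` (helper27)

For a graded algebra `𝒜 : ℕ → Submodule R A`, the free module `κ → A` (`κ` finite) with the grading
`(piGr 𝒜 κ) k = {v | ∀ j, v j ∈ 𝒜 k}`: its decomposition, graded action, and the coordinate maps.
-/

set_option autoImplicit false
universe u

open DirectSum

namespace Groth.Agent.Lib.Helper27GrPiNat

variable {R A : Type u} [CommRing R] [CommRing A] [Algebra R A] (𝒜 : ℕ → Submodule R A)
variable (κ : Type) [Fintype κ] [DecidableEq κ]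

/-- the product grading. -/
def piGr : ℕ → Submodule R (κ → A) := fun k =>
  { carrier := {v | ∀ b, v b ∈ 𝒜 k}
    zero_mem' := fun _ => zero_mem _
    add_mem' := fun hv hw b => add_mem (hv b) (hw b)
    smul_mem' := fun r _ hv b => Submodule.smul_mem _ r (hv b) }

variable {𝒜 κ}

theorem mem_piGr {k : ℕ} {v : κ → A} : v ∈ piGr 𝒜 κ k ↔ ∀ b, v b ∈ 𝒜 k := Iff.rfl

theorem single_mem (b : κ) (k : ℕ) {x : A} (hx : x ∈ 𝒜 k) :
    (Pi.single b x : κ → A) ∈ piGr 𝒜 κ k := by
  intro b'
  by_cases h : b' = b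
  · subst h
    rw [Pi.single_eq_same]
    exact hx
  · rw [Pi.single_eq_of_ne h]
    exact zero_mem _

variable (𝒜 κ)

/-- inclusion of a factor, on pieces. -/
def singlePiece (b : κ) (k : ℕ) : ↥(𝒜 k) →+ ↥(piGr 𝒜 κ k) where
  toFun x := ⟨Pi.single b (x : A), single_mem b k x.2⟩
  map_zero' := Subtype.ext (Pi.single_zero (M := fun _ : κ => A) b)
  map_add' x y := by
    apply Subtype.ext
    show (Pi.single b ((x : A) + (y : A)) : κ → A) =
      (Pi.single b (x : A) : κ → A) + (Pi.single b (y : A) : κ → A)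
    exact Pi.single_add (f := fun _ : κ => A) b (x : A) (y : A)

theorem coe_map_singlePiece (b : κ) (y : ⨁ k, 𝒜 k) :
    DirectSum.coeAddMonoidHom (piGr 𝒜 κ) (DirectSum.map (singlePiece 𝒜 κ b) y) =
      Pi.single b (DirectSum.coeAddMonoidHom 𝒜 y) := by
  classical
  induction y using DirectSum.induction_on with
  | zero =>
    rw [map_zero, map_zero, map_zero, Pi.single_zero]
  | of g x =>
    rw [DirectSum.map_of, DirectSum.coeAddMonoidHom_of, DirectSum.coeAddMonoidHom_of]
    rfl
  | add x y hx hy =>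
    rw [map_add, map_add, map_add, hx, hy, Pi.single_add]

variable [DirectSum.Decomposition 𝒜]

/-- the decomposition map. -/
noncomputable def decHom : (κ → A) →+ ⨁ k, piGr 𝒜 κ k :=
  ∑ b : κ, (DirectSum.map (singlePiece 𝒜 κ b)).comp
    ((DirectSum.decomposeAddEquiv 𝒜).toAddMonoidHom.comp
      (Pi.evalAddMonoidHom (fun _ : κ => A) b))

theorem decHom_apply (v : κ → A) :
    decHom 𝒜 κ v = ∑ b : κ, DirectSum.map (singlePiece 𝒜 κ b) (DirectSum.decompose 𝒜 (v b)) := by
  unfold decHom
  rw [AddMonoidHom.finsetSum_apply]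
  rfl

/-- the product decomposition. -/
@[instance_reducible]
noncomputable def piDecomposition : DirectSum.Decomposition (piGr 𝒜 κ) :=
  DirectSum.Decomposition.ofAddHom (piGr 𝒜 κ) (decHom 𝒜 κ)
    (by
      apply AddMonoidHom.ext
      intro v
      rw [AddMonoidHom.comp_apply, decHom_apply, map_sum]
      have h : ∀ b : κ, DirectSum.coeAddMonoidHom (piGr 𝒜 κ)
          (DirectSum.map (singlePiece 𝒜 κ b) (DirectSum.decompose 𝒜 (v b))) =
          Pi.single b (v b) := by
        intro b
        rw [coe_map_singlePiece]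
        congr 1
        exact DirectSum.Decomposition.left_inv (v b)
      rw [Finset.sum_congr rfl fun b _ => h b, Finset.univ_sum_single]
      rfl)
    (by
      apply DirectSum.addHom_ext
      rintro g ⟨v, hv⟩
      rw [AddMonoidHom.comp_apply, DirectSum.coeAddMonoidHom_of]
      change decHom 𝒜 κ v = _
      rw [decHom_apply]
      have h : ∀ b : κ, DirectSum.map (singlePiece 𝒜 κ b) (DirectSum.decompose 𝒜 (v b)) =
          DirectSum.of (fun g => ↥(piGr 𝒜 κ g)) g (singlePiece 𝒜 κ b g ⟨v b, hv b⟩) := by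
        intro b
        rw [DirectSum.decompose_of_mem 𝒜 (hv b), DirectSum.map_of]
      rw [Finset.sum_congr rfl fun b _ => h b, ← map_sum]
      have h2 : ∑ b : κ, singlePiece 𝒜 κ b g ⟨v b, hv b⟩ = (⟨v, hv⟩ : ↥(piGr 𝒜 κ g)) := by
        apply Subtype.ext
        rw [AddSubmonoidClass.coe_finsetSum]
        exact Finset.univ_sum_single v
      rw [h2]
      rfl)

omit [Fintype κ] [DecidableEq κ] [DirectSum.Decomposition 𝒜] in
theorem pi_gradedSMul [SetLike.GradedMonoid 𝒜] : SetLike.GradedSMul 𝒜 (piGr 𝒜 κ) where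
  smul_mem := by
    intro i j a v ha hv b
    exact SetLike.mul_mem_graded ha (hv b)

/-- the coordinate projections. -/
def proj (b : κ) : (κ → A) →ₗ[A] A := LinearMap.proj b

/-- the coordinate inclusions. -/
def incl (b : κ) : A →ₗ[A] (κ → A) := LinearMap.single A (fun _ : κ => A) b

theorem proj_mem (b : κ) (i : ℕ) (v : κ → A) (hv : v ∈ piGr 𝒜 κ i) : proj κ b v ∈ 𝒜 i := hv b

theorem incl_mem (b : κ) (i : ℕ) (a : A) (ha : a ∈ 𝒜 i) : incl κ b a ∈ piGr 𝒜 κ i :=
  single_mem b i ha

theorem proj_incl (b b' : κ) (a : A) : proj κ b' (incl κ b a) = if b' = b then a else 0 := by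
  change (Pi.single b a : κ → A) b' = _
  rw [Pi.single_apply]

theorem sum_incl_proj (v : κ → A) : ∑ b : κ, incl κ b (proj κ b v) = v :=
  Finset.univ_sum_single v

end Groth.Agent.Lib.Helper27GrPiNat
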