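import Mathlib
import Groth.Prelude.Def_GrMod2

/-!
# Truncated shifts of `ℕ`-gradings (helper27)

For a grading `ℳ : ℕ → Submodule R M` and `c : ℕ`, the grading `shGr ℳ c` with
`(shGr ℳ c) k = ℳ (k - c)` for `c ≤ k` and `⊥` below `c` (the graded module `M(-c)`), with its
decomposition and graded action.
-/

set_option autoImplicit false
universe u

open DirectSum

namespace Groth.Agent.Lib.Helper27GrShiftNat

variable {R A : Type u} [CommRing R] [CommRing A] [Algebra R A] (𝒜 : ℕ → Submodule R A)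
  [GradedAlgebra 𝒜]
variable {M : Type u} [AddCommGroup M] [Module R M] [Module A M]
  (ℳ : ℕ → Submodule R M)

/-- the grading of `M(-c)`. -/
def shGr (c : ℕ) : ℕ → Submodule R M := fun k => if c ≤ k then ℳ (k - c) else ⊥

theorem mem_shGr_of_le {c k : ℕ} (h : c ≤ k) {m : M} : m ∈ shGr ℳ c k ↔ m ∈ ℳ (k - c) := by
  unfold shGr
  rw [if_pos h]

theorem mem_shGr_add (c i : ℕ) {m : M} : m ∈ shGr ℳ c (i + c) ↔ m ∈ ℳ i := by
  rw [mem_shGr_of_le ℳ (Nat.le_add_left c i), Nat.add_sub_cancel]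

theorem eq_zero_of_mem_shGr_of_lt {c k : ℕ} (h : k < c) {m : M} (hm : m ∈ shGr ℳ c k) : m = 0 := by
  unfold shGr at hm
  rw [if_neg (by omega)] at hm
  exact (Submodule.mem_bot R).mp hm

theorem mem_shGr_of_mem {c i k : ℕ} (h : i + c = k) {m : M} (hm : m ∈ ℳ i) : m ∈ shGr ℳ c k := by
  subst h
  exact (mem_shGr_add ℳ c i).mpr hm

theorem mem_or_eq_zero {c k : ℕ} {m : M} (hm : m ∈ shGr ℳ c k) :
    (c ≤ k ∧ m ∈ ℳ (k - c)) ∨ m = 0 := by
  by_cases h : c ≤ k
  · exact Or.inl ⟨h, (mem_shGr_of_le ℳ h).mp hm⟩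
  · exact Or.inr (eq_zero_of_mem_shGr_of_lt ℳ (by omega) hm)

theorem of_congr {c : ℕ} {k k' : ℕ} (h : k = k') (x : shGr ℳ c k) (x' : shGr ℳ c k')
    (hx : (x : M) = x') :
    DirectSum.of (fun k => shGr ℳ c k) k x = DirectSum.of (fun k => shGr ℳ c k) k' x' := by
  subst h
  congr 1
  exact Subtype.ext hx

variable [DirectSum.Decomposition ℳ]

/-- pieces of `ℳ` as pieces of the shifted grading. -/
def castPiece (c i : ℕ) : ℳ i →+ shGr ℳ c (i + c) where
  toFun x := ⟨x.1, (mem_shGr_add ℳ c i).mpr x.2⟩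
  map_zero' := rfl
  map_add' _ _ := rfl

/-- the decomposition map of the shifted grading. -/
noncomputable def decHom (c : ℕ) : M →+ ⨁ k, shGr ℳ c k :=
  (DirectSum.toAddMonoid fun i =>
    (DirectSum.of (fun k => shGr ℳ c k) (i + c)).comp (castPiece ℳ c i)).comp
    (DirectSum.decomposeAddEquiv ℳ).toAddMonoidHom

theorem decHom_of_mem (c : ℕ) {i : ℕ} {m : M} (hm : m ∈ ℳ i) :
    decHom ℳ c m = DirectSum.of (fun k => shGr ℳ c k) (i + c)
      ⟨m, (mem_shGr_add ℳ c i).mpr hm⟩ := by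
  unfold decHom
  rw [AddMonoidHom.comp_apply]
  change DirectSum.toAddMonoid _ (DirectSum.decompose ℳ m) = _
  rw [DirectSum.decompose_of_mem ℳ hm, DirectSum.toAddMonoid_of]
  rfl

/-- the decomposition of the shifted grading. -/
@[instance_reducible]
noncomputable def shDecomposition (c : ℕ) : DirectSum.Decomposition (shGr ℳ c) :=
  DirectSum.Decomposition.ofAddHom (shGr ℳ c) (decHom ℳ c)
    (by
      apply AddMonoidHom.ext
      intro m
      rw [AddMonoidHom.comp_apply, AddMonoidHom.id_apply]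
      induction m using DirectSum.Decomposition.inductionOn ℳ with
      | zero => rw [map_zero, map_zero]
      | homogeneous m =>
        rw [decHom_of_mem ℳ c m.2, DirectSum.coeAddMonoidHom_of]
      | add m m' h h' => rw [map_add, map_add, h, h'])
    (by
      apply DirectSum.addHom_ext
      rintro k ⟨m, hm⟩
      rw [AddMonoidHom.comp_apply, AddMonoidHom.id_apply, DirectSum.coeAddMonoidHom_of]
      change decHom ℳ c m = _
      rcases mem_or_eq_zero ℳ hm with ⟨hck, hm'⟩ | rfl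
      · rw [decHom_of_mem ℳ c hm']
        exact of_congr ℳ (Nat.sub_add_cancel hck) ⟨m, _⟩ ⟨m, hm⟩ rfl
      · rw [map_zero]
        have : (⟨0, hm⟩ : shGr ℳ c k) = 0 := rfl
        rw [this, map_zero])

variable [SetLike.GradedSMul 𝒜 ℳ]

omit [DirectSum.Decomposition ℳ] in
theorem sh_gradedSMul (c : ℕ) : SetLike.GradedSMul 𝒜 (shGr ℳ c) where
  smul_mem := by
    intro i j a m ha hm
    rcases mem_or_eq_zero ℳ hm with ⟨hcj, hm'⟩ | rfl
    · have h1 : a • m ∈ ℳ (i + (j - c)) := SetLike.GradedSMul.smul_mem ha hm'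
      exact mem_shGr_of_mem ℳ (show i + (j - c) + c = i +ᵥ j by rw [vadd_eq_add]; omega) h1
    · rw [smul_zero]
      exact zero_mem _

end Groth.Agent.Lib.Helper27GrShiftNat
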