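import Mathlib
import Groth.Prelude.Def_GrMod3
import Groth.Agent.Lib.Helper27GrShiftNat

/-!
# `M(-c)~(n) ≅ M~(n - c)` on `Proj` (helper27)

For a graded module `ℳ : ℕ → Submodule R M` over a graded algebra `𝒜` and `c : ℕ`, the module on
`Proj 𝒜` attached to the shifted grading `shGr ℳ c` at twist `n` is the module attached to `ℳ` at
twist `n - c` (the two have the same sections inside the same localized modules).
-/

set_option autoImplicit false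
universe u

open CategoryTheory CategoryTheory.Limits AlgebraicGeometry TopologicalSpace Opposite

namespace Groth.Agent.Lib.Helper27GrShiftIso

open Groth.Agent.Lib.Helper27GrShiftNat

variable {R A : Type u} [CommRing R] [CommRing A] [Algebra R A] (𝒜 : ℕ → Submodule R A)
  [GradedAlgebra 𝒜]
variable {M : Type u} [AddCommGroup M] [Module R M] [Module A M]
  (ℳ : ℕ → Submodule R M) [SetLike.GradedSMul 𝒜 ℳ] (c : ℕ)

instance instShGradedSMul : SetLike.GradedSMul 𝒜 (shGr ℳ c) := sh_gradedSMul 𝒜 ℳ c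

omit [SetLike.GradedSMul 𝒜 ℳ] in
theorem tildeAt_sh (n : ℤ) (x : ProjectiveSpectrum 𝒜) :
    GrMod.tildeAt 𝒜 (shGr ℳ c) n x = GrMod.tildeAt 𝒜 ℳ (n - c) x := by
  apply le_antisymm
  · apply Submodule.span_le.mpr
    rintro q ⟨i, j, m, s, hs, hij, rfl⟩
    rcases mem_or_eq_zero ℳ m.2 with ⟨hci, hm⟩ | hm
    · exact Submodule.subset_span ⟨i - c, j, ⟨m.1, hm⟩, s, hs, by
        rw [Nat.cast_sub hci]; omega, rfl⟩
    · rw [hm, LocalizedModule.zero_mk]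
      exact zero_mem _
  · apply Submodule.span_le.mpr
    rintro q ⟨i, j, m, s, hs, hij, rfl⟩
    exact Submodule.subset_span ⟨i + c, j, ⟨m.1, (mem_shGr_add ℳ c i).mpr m.2⟩, s, hs, by
      push_cast; omega, rfl⟩

variable (U : (Opens (ProjectiveSpectrum.top 𝒜))ᵒᵖ) (n : ℤ)

/-- the pointwise comparison. -/
def toFn (f : ∀ x : U.unop, GrMod.tildeAt 𝒜 (shGr ℳ c) n x.1) (x : U.unop) :
    GrMod.tildeAt 𝒜 ℳ (n - c) x.1 :=
  ⟨(f x).1, (tildeAt_sh 𝒜 ℳ c n x.1) ▸ (f x).2⟩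

/-- the pointwise comparison, backwards. -/
def ofFn (f : ∀ x : U.unop, GrMod.tildeAt 𝒜 ℳ (n - c) x.1) (x : U.unop) :
    GrMod.tildeAt 𝒜 (shGr ℳ c) n x.1 :=
  ⟨(f x).1, (tildeAt_sh 𝒜 ℳ c n x.1).symm ▸ (f x).2⟩

omit [SetLike.GradedSMul 𝒜 ℳ] in
theorem isLocFrac_toFn (f : ∀ x : U.unop, GrMod.tildeAt 𝒜 (shGr ℳ c) n x.1)
    (hf : (GrMod.isLocFrac 𝒜 (shGr ℳ c) n).pred f) :
    (GrMod.isLocFrac 𝒜 ℳ (n - c)).pred (toFn 𝒜 ℳ c U n f) := fun x => by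
  rcases hf x with ⟨V, mV, iV, i, j, m, s, nin, cond, w⟩
  rcases mem_or_eq_zero ℳ m.2 with ⟨hci, hm⟩ | hm
  · refine ⟨V, mV, iV, i - c, j, ⟨m.1, hm⟩, s, nin, ?_, fun y => w y⟩
    rcases cond with h | h
    · exact Or.inl (by rw [Nat.cast_sub hci]; omega)
    · exact Or.inr h
  · refine ⟨V, mV, iV, 0, j, 0, s, nin, Or.inr rfl, fun y => ?_⟩
    refine (w y).trans ?_
    change LocalizedModule.mk (m : M) _ = LocalizedModule.mk (0 : M) _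
    rw [hm]

omit [SetLike.GradedSMul 𝒜 ℳ] in
theorem isLocFrac_ofFn (f : ∀ x : U.unop, GrMod.tildeAt 𝒜 ℳ (n - c) x.1)
    (hf : (GrMod.isLocFrac 𝒜 ℳ (n - c)).pred f) :
    (GrMod.isLocFrac 𝒜 (shGr ℳ c) n).pred (ofFn 𝒜 ℳ c U n f) := fun x => by
  rcases hf x with ⟨V, mV, iV, i, j, m, s, nin, cond, w⟩
  refine ⟨V, mV, iV, i + c, j, ⟨m.1, (mem_shGr_add ℳ c i).mpr m.2⟩, s, nin, ?_, fun y => w y⟩
  rcases cond with h | h
  · exact Or.inl (by push_cast; omega)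
  · exact Or.inr h

/-- the comparison on sections. -/
def toApp : GrMod.sect 𝒜 (shGr ℳ c) n U →+ GrMod.sect 𝒜 ℳ (n - c) U where
  toFun f := ⟨toFn 𝒜 ℳ c U n f.1, isLocFrac_toFn 𝒜 ℳ c U n f.1 f.2⟩
  map_zero' := rfl
  map_add' _ _ := rfl

/-- the comparison on sections, backwards. -/
def ofApp : GrMod.sect 𝒜 ℳ (n - c) U →+ GrMod.sect 𝒜 (shGr ℳ c) n U where
  toFun f := ⟨ofFn 𝒜 ℳ c U n f.1, isLocFrac_ofFn 𝒜 ℳ c U n f.1 f.2⟩
  map_zero' := rfl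
  map_add' _ _ := rfl

theorem toApp_smul (r : GrTwist.O (𝒜 := 𝒜) U) (f : GrMod.sect 𝒜 (shGr ℳ c) n U) :
    toApp 𝒜 ℳ c U n (r • f) = r • toApp 𝒜 ℳ c U n f := rfl

theorem ofApp_smul (r : GrTwist.O (𝒜 := 𝒜) U) (f : GrMod.sect 𝒜 ℳ (n - c) U) :
    ofApp 𝒜 ℳ c U n (r • f) = r • ofApp 𝒜 ℳ c U n f := rfl

/-- the comparison morphism `M(-c)(n)~ ⟶ M(n - c)~`. -/
noncomputable def shiftHom : GrMod.tilde 𝒜 (shGr ℳ c) n ⟶ GrMod.tilde 𝒜 ℳ (n - c) :=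
  ⟨PresheafOfModules.homMk
    { app := fun U => AddCommGrpCat.ofHom (toApp 𝒜 ℳ c U n)
      naturality := fun _ _ _ => rfl }
    fun U r s => toApp_smul 𝒜 ℳ c U n r s⟩

/-- the comparison morphism `M(n - c)~ ⟶ M(-c)(n)~`. -/
noncomputable def shiftInv : GrMod.tilde 𝒜 ℳ (n - c) ⟶ GrMod.tilde 𝒜 (shGr ℳ c) n :=
  ⟨PresheafOfModules.homMk
    { app := fun U => AddCommGrpCat.ofHom (ofApp 𝒜 ℳ c U n)
      naturality := fun _ _ _ => rfl }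
    fun U r s => ofApp_smul 𝒜 ℳ c U n r s⟩

/-- `M(-c)(n)~ ≅ M(n - c)~`. -/
noncomputable def shiftIso : GrMod.tilde 𝒜 (shGr ℳ c) n ≅ GrMod.tilde 𝒜 ℳ (n - c) where
  hom := shiftHom 𝒜 ℳ c n
  inv := shiftInv 𝒜 ℳ c n
  hom_inv_id := by
    apply Scheme.Modules.hom_ext
    intro V
    rfl
  inv_hom_id := by
    apply Scheme.Modules.hom_ext
    intro V
    rfl

end Groth.Agent.Lib.Helper27GrShiftIso
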