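import Groth.Agent.Lib.Helper17GrSys

/-!
# The limit of a compatible family of truncated graded systems (helper27)

Given graded systems `S K` (`K : ℕ`) with morphisms `Θ K : S (K+1) ⟶ S K` (families of morphisms
commuting with the operators) which are isomorphisms in degrees `< K`, `limSys` is the graded
system with `obj n = (S (n+1)).obj n`; it is isomorphic to `S K` in every degree `n < K`.
-/

set_option autoImplicit false
set_option linter.style.haveILetI false
set_option linter.unusedSectionVars false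
universe v u
open CategoryTheory Limits

namespace Groth.Agent.Lib.Helper27GrSysLim

open Groth.Agent.Lib.Helper17.GrSys

variable {C : Type u} [Category.{v} C] {r : ℕ}
  (S : ℕ → Sys C r) (Θ : ∀ K n, (S (K + 1)).obj n ⟶ (S K).obj n)
  (hΘ : ∀ K (i : Fin r) n, (S (K + 1)).T i n ≫ Θ K (n + 1) = Θ K n ≫ (S K).T i n)
  (hiso : ∀ K n, n < K → IsIso (Θ K n))

/-- the inverse of `Θ K n` in degrees `n < K`. -/
noncomputable def Θinv (K n : ℕ) (h : n < K) : (S K).obj n ⟶ (S (K + 1)).obj n :=
  haveI := hiso K n h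
  inv (Θ K n)

@[reassoc (attr := simp)]
theorem Θ_Θinv (K n : ℕ) (h : n < K) : Θ K n ≫ Θinv S Θ hiso K n h = 𝟙 _ := by
  haveI := hiso K n h
  exact IsIso.hom_inv_id _

@[reassoc (attr := simp)]
theorem Θinv_Θ (K n : ℕ) (h : n < K) : Θinv S Θ hiso K n h ≫ Θ K n = 𝟙 _ := by
  haveI := hiso K n h
  exact IsIso.inv_hom_id _

include hΘ in
theorem T_Θinv (K : ℕ) (i : Fin r) (n : ℕ) (h : n + 1 < K) :
    (S K).T i n ≫ Θinv S Θ hiso K (n + 1) h =
      Θinv S Θ hiso K n (Nat.lt_of_succ_lt h) ≫ (S (K + 1)).T i n := by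
  haveI := hiso K n (Nat.lt_of_succ_lt h)
  rw [← cancel_epi (Θ K n), Θ_Θinv_assoc, ← Category.assoc, ← hΘ, Category.assoc, Θ_Θinv,
    Category.comp_id]

/-- the limit system. -/
noncomputable def limSys : Sys C r where
  obj n := (S (n + 1)).obj n
  T i n := Θinv S Θ hiso (n + 1) n (Nat.lt_succ_self n) ≫ (S (n + 1 + 1)).T i n
  comm i j n := by
    have h1 := T_Θinv S Θ hΘ hiso (n + 1 + 1) i n (Nat.lt_succ_self (n + 1))
    have h2 := T_Θinv S Θ hΘ hiso (n + 1 + 1) j n (Nat.lt_succ_self (n + 1))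
    simp only [Category.assoc]
    rw [reassoc_of% h1, reassoc_of% h2, (S (n + 1 + 1 + 1)).comm]

theorem limSys_obj (n : ℕ) : (limSys S Θ hΘ hiso).obj n = (S (n + 1)).obj n := rfl

/-- the limit system agrees with `S K` in degrees `< K`. -/
theorem nonempty_limIso (n : ℕ) : ∀ K, n < K →
    Nonempty ((S K).obj n ≅ (limSys S Θ hΘ hiso).obj n) := by
  intro K hK
  obtain ⟨m, rfl⟩ : ∃ m, K = n + 1 + m := ⟨K - (n + 1), by omega⟩
  clear hK
  induction m with
  | zero => exact ⟨Iso.refl _⟩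
  | succ m ih =>
    obtain ⟨e⟩ := ih
    haveI := hiso (n + 1 + m) n (by omega)
    exact ⟨(asIso (Θ (n + 1 + m) n)) ≪≫ e⟩

variable [Abelian C]

/-- the limit system is of finite type if the operators of all `S K` are jointly epimorphic in
every degree. -/
theorem limSys_FT (hje : ∀ K n, JE (fun i => (S K).T i n)) : (limSys S Θ hΘ hiso).FT := by
  refine ⟨0, fun n _ Z g hg => ?_⟩
  refine hje (n + 1 + 1) n g (fun i => ?_)
  have := hg i
  change (Θinv S Θ hiso (n + 1) n (Nat.lt_succ_self n) ≫ (S (n + 1 + 1)).T i n) ≫ g = 0 at this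
  rw [Category.assoc] at this
  have h2 := Θ (n + 1) n ≫= this
  rwa [Θ_Θinv_assoc, comp_zero] at h2

end Groth.Agent.Lib.Helper27GrSysLim
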