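import Mathlib
import Groth.Agent.Lib.Helper23SecTw4

/-!
# Tensoring on the left with a generator is bijective on sections (helper27)

Left-handed versions of helper23's `bijective_tm_of_isGen` (`Helper23SecTw4`): if `e` generates `L`
on `W` then `t ↦ e ⊗ t` is bijective `Γ(M, V) → Γ(L ⊗ M, V)` for `V ≤ W`.
-/

set_option autoImplicit false
universe u
open CategoryTheory Limits AlgebraicGeometry TopologicalSpace Opposite TensorProduct MonoidalCategory

namespace Groth.Agent.Lib.Helper27TmLeft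
open Groth.Agent.Lib.Helper23.GenLocus Groth.Agent.Lib.Helper23.Extend Groth.Agent.Lib.Helper6
  Groth.Agent.Lib.Helper23.SecTw

section general
variable {C : Type*} [Category C] {R : Cᵒᵖ ⥤ CommRingCat.{u}}
variable (P Q : PresheafOfModules.{u} (R ⋙ forget₂ CommRingCat RingCat)) (Z : Cᵒᵖ)

theorem bijective_pt_of_bijective_smul_left (p : P.obj Z)
    (hp : Function.Bijective (fun r : R.obj Z => r • p)) :
    Function.Bijective (fun q : Q.obj Z => pt P Q Z p q) := by
  let ℓ : (R.obj Z) ≃ₗ[R.obj Z] (P.obj Z) :=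
    LinearEquiv.ofBijective (LinearMap.toSpanSingleton (R.obj Z) (P.obj Z) p) hp
  let E : (Q.obj Z) ≃ₗ[R.obj Z] ((P.obj Z) ⊗[R.obj Z] (Q.obj Z)) :=
    (TensorProduct.lid (R.obj Z) (Q.obj Z)).symm ≪≫ₗ TensorProduct.congr ℓ (LinearEquiv.refl _ _)
  have hE : ∀ q : Q.obj Z, E q = pt P Q Z p q := by
    intro q
    change (TensorProduct.congr ℓ (LinearEquiv.refl _ _))
      ((TensorProduct.lid (R.obj Z) (Q.obj Z)).symm q) = _
    rw [TensorProduct.lid_symm_apply, TensorProduct.congr_tmul]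
    change ((1 : R.obj Z) • p) ⊗ₜ[R.obj Z] q = _
    rw [one_smul]
    rfl
  have : (fun q : Q.obj Z => pt P Q Z p q) = E := by
    funext q
    exact (hE q).symm
  rw [this]
  exact E.bijective

end general

variable {X : Scheme.{u}}

theorem bijective_ptm_left (M N : X.Modules) (V : X.Opens) (e : Γ(M, V))
    (he : Function.Bijective (fun r : Γ(X, V) => r • e)) :
    Function.Bijective (fun n : Γ(N, V) => ptm M N V e n) :=
  bijective_pt_of_bijective_smul_left (CohB1.toPMod M) (CohB1.toPMod N) (op V) e he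

theorem injective_tm_of_isGen_left (L M : X.Modules) (W : X.Opens) (e : Γ(L, W))
    (hgen : IsGen L W e) (V : X.Opens) (hV : V ≤ W) :
    Function.Injective (fun t : Γ(M, V) => tm L M V (res L hV e) t) := by
  intro t t' htt
  replace htt : toT L M V (ptm L M V (res L hV e) t) = toT L M V (ptm L M V (res L hV e) t') := htt
  have hloc := locInj L M V _ _ htt
  choose V' hV' hxV' heq using hloc
  refine (modSheaf M).eq_of_locally_eq' (fun x : V => V' x.1 x.2) V
    (fun x => homOfLE (hV' x.1 x.2)) ?_ t t' (fun x => ?_)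
  · intro y hy
    exact Opens.mem_iSup.2 ⟨⟨y, hy⟩, hxV' y hy⟩
  · have h1 := heq x.1 x.2
    rw [resP_ptm, resP_ptm, res_res] at h1
    exact (bijective_ptm_left L M (V' x.1 x.2) _ (hgen _ ((hV' x.1 x.2).trans hV))).1 h1

theorem bijective_tm_of_isGen_left (L M : X.Modules) (W : X.Opens) (e : Γ(L, W))
    (hgen : IsGen L W e) (V : X.Opens) (hV : V ≤ W) :
    Function.Bijective (fun t : Γ(M, V) => tm L M V (res L hV e) t) := by
  refine ⟨injective_tm_of_isGen_left L M W e hgen V hV, fun y => ?_⟩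
  have hloc := locSurj L M V y
  choose V' hV' p hxV' hp using hloc
  have hq : ∀ (x : X) (hx : x ∈ V), ∃ t : Γ(M, V' x hx),
      ptm L M (V' x hx) (res L ((hV' x hx).trans hV) e) t = p x hx :=
    fun x hx => (bijective_ptm_left L M (V' x hx) _ (hgen _ ((hV' x hx).trans hV))).2 (p x hx)
  choose t ht using hq
  have hτ : ∀ (x : X) (hx : x ∈ V),
      tm L M (V' x hx) (res L ((hV' x hx).trans hV) e) (t x hx) =
      res (CohB1.tensorMod L M) (hV' x hx) y := by
    intro x hx
    rw [tm_eq_toT, ht, hp]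
  have hL : ∀ (x : V) (A : X.Opens) (hA : A ≤ V' x.1 x.2),
      tm L M A (res L (hA.trans ((hV' x.1 x.2).trans hV)) e) (res M hA (t x.1 x.2)) =
        res _ (hA.trans (hV' x.1 x.2)) y := by
    intro x A hA
    have := congrArg (res _ hA) (hτ x.1 x.2)
    rw [res_tm, res_res, res_res] at this
    exact this
  have hcompat : TopCat.Presheaf.IsCompatible (modSheaf M).1 (fun x : V => V' x.1 x.2)
      (fun x => t x.1 x.2) := by
    intro x x'
    change res M (inf_le_left : V' x.1 x.2 ⊓ V' x'.1 x'.2 ≤ V' x.1 x.2) (t x.1 x.2) =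
      res M (inf_le_right : V' x.1 x.2 ⊓ V' x'.1 x'.2 ≤ V' x'.1 x'.2) (t x'.1 x'.2)
    apply injective_tm_of_isGen_left L M W e hgen _ (inf_le_left.trans ((hV' x.1 x.2).trans hV))
    change tm L M _ (res L _ e) (res M inf_le_left (t x.1 x.2)) =
      tm L M _ (res L _ e) (res M inf_le_right (t x'.1 x'.2))
    exact (hL x _ inf_le_left).trans (hL x' _ inf_le_right).symm
  have hcov : V ≤ ⨆ x : V, V' x.1 x.2 := by
    intro y hy
    exact Opens.mem_iSup.2 ⟨⟨y, hy⟩, hxV' y hy⟩
  obtain ⟨t₀, ht₀⟩ : ∃ t₀ : Γ(M, V), ∀ x : V, res M (hV' x.1 x.2) t₀ = t x.1 x.2 := by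
    obtain ⟨t₀, ht₀, -⟩ := (modSheaf M).existsUnique_gluing' (fun x : V => V' x.1 x.2) V
      (fun x => homOfLE (hV' x.1 x.2)) hcov _ hcompat
    exact ⟨t₀, ht₀⟩
  refine ⟨t₀, ?_⟩
  refine (modSheaf (CohB1.tensorMod L M)).eq_of_locally_eq' (fun x : V => V' x.1 x.2) V
    (fun x => homOfLE (hV' x.1 x.2)) hcov _ _ (fun x => ?_)
  change res _ (hV' x.1 x.2) (tm L M V (res L hV e) t₀) = res _ (hV' x.1 x.2) y
  rw [res_tm, ht₀, res_res, hτ]

end Groth.Agent.Lib.Helper27TmLeft
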