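import Groth.Agent.Lib.Helper27GrTildeMul
import Groth.Agent.Lib.Helper27TmLeft

/-!
# The multiplication map `M(p)~ ⊗ O(k) ⟶ M(p+k)~` when the left factor is generated by a fraction
(helper27)
-/

set_option autoImplicit false
universe u

open CategoryTheory CategoryTheory.Limits AlgebraicGeometry TopologicalSpace Opposite
  HomogeneousLocalization
open Groth.Agent.Helper18Tens Groth.Agent.Lib.Helper23.SecTw Groth.Agent.Lib.Helper6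

namespace Groth.Agent.Lib.Helper27GrTildeSect

variable {R A : Type u} [CommRing R] [CommRing A] [Algebra R A] (𝒜 : ℕ → Submodule R A)
  [GradedAlgebra 𝒜]

/-- multiplication of sections of `O(k)` by a nowhere vanishing fraction of degree `p`. -/
theorem bijective_mulSec_fracSec_left {p k q : ℤ} (h : p + k = q) (W : (Proj 𝒜).Opens) {i j : ℕ}
    {a b : A} (ha : a ∈ 𝒜 i) (hb : b ∈ 𝒜 j) (hij : (i : ℤ) = j + p)
    (hWb : ∀ y : W, b ∉ y.1.asHomogeneousIdeal) (hWa : ∀ y : W, a ∉ y.1.asHomogeneousIdeal) :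
    Function.Bijective (fun t : Γ(GrTilde.tilde 𝒜 𝒜 k, W) =>
      mulSec 𝒜 𝒜 h W (fracSec 𝒜 p W ha hb hij hWb) t) := by
  have h' : -p + q = k := by omega
  have hji : (j : ℤ) = i + (-p) := by omega
  rw [Function.bijective_iff_has_inverse]
  refine ⟨fun t' => mulSec 𝒜 𝒜 h' W (fracSec 𝒜 (-p) W hb ha hji hWa) t', ?_, ?_⟩
  · intro t
    apply sec_ext
    intro y hy
    rw [secVal_mulSec, secVal_mulSec, secVal_fracSec, secVal_fracSec]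
    change (secVal 𝒜 𝒜 k W t y hy : Twist.Loc 𝒜 y) *
      (Localization.mk a (⟨b, hWb ⟨y, hy⟩⟩ : y.asHomogeneousIdeal.toIdeal.primeCompl) :
        Twist.Loc 𝒜 y) *
      (Localization.mk b (⟨a, hWa ⟨y, hy⟩⟩ : y.asHomogeneousIdeal.toIdeal.primeCompl) :
        Twist.Loc 𝒜 y) = _
    rw [mul_assoc, mk_mul_mk_swap 𝒜 (hWb ⟨y, hy⟩) (hWa ⟨y, hy⟩), mul_one]
  · intro t
    apply sec_ext
    intro y hy
    rw [secVal_mulSec, secVal_mulSec, secVal_fracSec, secVal_fracSec]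
    change (secVal 𝒜 𝒜 q W t y hy : Twist.Loc 𝒜 y) *
      (Localization.mk b (⟨a, hWa ⟨y, hy⟩⟩ : y.asHomogeneousIdeal.toIdeal.primeCompl) :
        Twist.Loc 𝒜 y) *
      (Localization.mk a (⟨b, hWb ⟨y, hy⟩⟩ : y.asHomogeneousIdeal.toIdeal.primeCompl) :
        Twist.Loc 𝒜 y) = _
    rw [mul_assoc, mk_mul_mk_swap 𝒜 (hWa ⟨y, hy⟩) (hWb ⟨y, hy⟩), mul_one]

open Groth.Agent.Lib.Helper23.Extend Groth.Agent.Lib.Helper27TmLeft in
/-- the multiplication map `O(p) ⊗ O(k) ⟶ O(p+k)` is an isomorphism over an open on which `O(p)`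
is generated by a nowhere vanishing fraction. -/
theorem isoOn_mulHom_left {p k q : ℤ} (h : p + k = q) (W : (Proj 𝒜).Opens) {i j : ℕ}
    {a b : A} (ha : a ∈ 𝒜 i) (hb : b ∈ 𝒜 j) (hij : (i : ℤ) = j + p)
    (hWb : ∀ y : W, b ∉ y.1.asHomogeneousIdeal) (hWa : ∀ y : W, a ∉ y.1.asHomogeneousIdeal) :
    IsoOn (mulHom 𝒜 𝒜 h) W := by
  intro W' hle
  rw [ConcreteCategory.isIso_iff_bijective]
  have hT := bijective_tm_of_isGen_left (GrTilde.tilde 𝒜 𝒜 p) (GrTilde.tilde 𝒜 𝒜 k) W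
    (fracSec 𝒜 p W ha hb hij hWb) (isGen_fracSec 𝒜 p W ha hb hij hWb hWa) W' hle
  have hcomp : Function.Bijective (⇑((mulHom 𝒜 𝒜 h).app W') ∘
      (fun t : Γ(GrTilde.tilde 𝒜 𝒜 k, W') => tm (GrTilde.tilde 𝒜 𝒜 p) (GrTilde.tilde 𝒜 𝒜 k) W'
        (res (GrTilde.tilde 𝒜 𝒜 p) hle (fracSec 𝒜 p W ha hb hij hWb)) t)) := by
    have hfun : (⇑((mulHom 𝒜 𝒜 h).app W') ∘
      (fun t : Γ(GrTilde.tilde 𝒜 𝒜 k, W') => tm (GrTilde.tilde 𝒜 𝒜 p) (GrTilde.tilde 𝒜 𝒜 k) W'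
        (res (GrTilde.tilde 𝒜 𝒜 p) hle (fracSec 𝒜 p W ha hb hij hWb)) t)) =
      fun t : Γ(GrTilde.tilde 𝒜 𝒜 k, W') => mulSec 𝒜 𝒜 h W'
        (fracSec 𝒜 p W' ha hb hij (fun y => hWb ⟨y.1, hle y.2⟩)) t := by
      funext t
      exact mulHom_tm 𝒜 𝒜 h W' _ t
    rw [hfun]
    exact bijective_mulSec_fracSec_left 𝒜 h W' ha hb hij _ (fun y => hWa ⟨y.1, hle y.2⟩)
  exact (Function.Bijective.of_comp_iff _ hT).mp hcomp

/-- if `Proj` is covered by opens on each of which `O(p)` is generated by a nowhere vanishing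
fraction, then `O(p) ⊗ O(k) ≅ O(p+k)`. -/
theorem nonempty_tensor_iso_of_cover {p k q : ℤ} (h : p + k = q)
    (hcov : ∀ y : Proj 𝒜, ∃ (W : (Proj 𝒜).Opens) (i j : ℕ) (a b : A), y ∈ W ∧ a ∈ 𝒜 i ∧ b ∈ 𝒜 j ∧
      (i : ℤ) = j + p ∧ (∀ z : W, b ∉ z.1.asHomogeneousIdeal) ∧
      (∀ z : W, a ∉ z.1.asHomogeneousIdeal)) :
    Nonempty (CohB1.tensorMod (GrTilde.tilde 𝒜 𝒜 p) (GrTilde.tilde 𝒜 𝒜 k) ≅
      GrTilde.tilde 𝒜 𝒜 q) := by
  have hiso : IsIso (mulHom 𝒜 𝒜 h) := by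
    rw [Scheme.Modules.Hom.isIso_iff_isIso_app]
    intro V
    rw [ConcreteCategory.isIso_iff_bijective]
    apply bijective_app_of_cover
    intro x _
    obtain ⟨W, i, j, a, b, hxW, ha, hb, hij, hWb, hWa⟩ := hcov x
    exact ⟨W, hxW, isoOn_mulHom_left 𝒜 h W ha hb hij hWb hWa⟩
  exact ⟨asIso (mulHom 𝒜 𝒜 h)⟩

end Groth.Agent.Lib.Helper27GrTildeSect
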