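import Groth.Agent.Lib.Helper27GrTildeMul

/-!
# Multiplication by a global section of `O(k)` as a morphism `M(p)~ ⟶ M(p+k)~` (helper27)
-/

set_option autoImplicit false
universe u

open CategoryTheory CategoryTheory.Limits AlgebraicGeometry TopologicalSpace Opposite

namespace Groth.Agent.Lib.Helper27GrTildeSect

variable {R A : Type u} [CommRing R] [CommRing A] [Algebra R A] (𝒜 : ℕ → Submodule R A)
  [GradedAlgebra 𝒜]
variable {M : Type u} [AddCommGroup M] [Module R M] [Module A M] [IsScalarTower R A M]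
  (ℳ : ℕ → Submodule R M) [DirectSum.Decomposition ℳ] [SetLike.GradedSMul 𝒜 ℳ]

/-- multiplication by a global section of `O(k)`, on the underlying abelian presheaves. -/
noncomputable def mulByPre {p k q : ℤ} (h : p + k = q)
    (t : Γ(GrTilde.tilde 𝒜 𝒜 k, (⊤ : (Proj 𝒜).Opens))) :
    (GrTilde.tilde 𝒜 ℳ p).presheaf ⟶ (GrTilde.tilde 𝒜 ℳ q).presheaf where
  app U := AddCommGrpCat.ofHom (AddMonoidHom.mk'
    (fun m : Γ(GrTilde.tilde 𝒜 ℳ p, U.unop) => mulSec 𝒜 ℳ h U.unop m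
      ((GrTilde.tilde 𝒜 𝒜 k).presheaf.map (homOfLE (le_top : U.unop ≤ ⊤)).op t))
    (fun m m' => mulSec_add_left 𝒜 ℳ h U.unop m m' _))
  naturality U V f := by
    ext m
    rfl

/-- multiplication by a global section of `O(k)`, as a morphism of modules. -/
noncomputable def mulBy {p k q : ℤ} (h : p + k = q)
    (t : Γ(GrTilde.tilde 𝒜 𝒜 k, (⊤ : (Proj 𝒜).Opens))) :
    GrTilde.tilde 𝒜 ℳ p ⟶ GrTilde.tilde 𝒜 ℳ q :=
  (⟨PresheafOfModules.homMk (mulByPre 𝒜 ℳ h t) (fun U r m =>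
    mulSec_smul_left 𝒜 ℳ h U.unop r m _)⟩ : SheafOfModules.Hom _ _)

theorem mulBy_app {p k q : ℤ} (h : p + k = q)
    (t : Γ(GrTilde.tilde 𝒜 𝒜 k, (⊤ : (Proj 𝒜).Opens))) (W : (Proj 𝒜).Opens)
    (m : Γ(GrTilde.tilde 𝒜 ℳ p, W)) :
    (mulBy 𝒜 ℳ h t).app W m = mulSec 𝒜 ℳ h W m
      ((GrTilde.tilde 𝒜 𝒜 k).presheaf.map (homOfLE (le_top : W ≤ ⊤)).op t) := rfl

end Groth.Agent.Lib.Helper27GrTildeSect
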