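import Mathlib
import Groth.Prelude.Def_GrMod2

/-!
# Sections of `M(n)~` over `D₊(f)` are single fractions: algebraic lemmas (helper27)
-/

set_option autoImplicit false
universe u

open CategoryTheory AlgebraicGeometry TopologicalSpace Opposite

namespace Groth.Agent.Lib.Helper27GrTildeSect

variable {R A : Type u} [CommRing R] [CommRing A] [Algebra R A] (𝒜 : ℕ → Submodule R A)
  [GradedAlgebra 𝒜]

/-- a homogeneous element of positive degree lies in the radical of a homogeneous ideal `J`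
as soon as `J` is contained in no relevant homogeneous prime avoiding the element. -/
theorem mem_radical_of_forall {J : Ideal A} (hJ : J.IsHomogeneous 𝒜) {e : ℕ} (he : 0 < e) {g : A}
    (hg : g ∈ 𝒜 e)
    (H : ∀ y : ProjectiveSpectrum 𝒜, g ∉ y.asHomogeneousIdeal →
      ∃ u ∈ J, u ∉ y.asHomogeneousIdeal) :
    g ∈ J.radical := by
  by_contra hcon
  rw [Ideal.radical_eq_sInf, Ideal.mem_sInf] at hcon
  push Not at hcon
  obtain ⟨P, ⟨hJP, hP⟩, hgP⟩ := hcon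
  have hQprime : (P.homogeneousCore 𝒜).toIdeal.IsPrime := Ideal.IsPrime.homogeneousCore hP
  have hgQ : g ∉ (P.homogeneousCore 𝒜).toIdeal :=
    fun h => hgP (Ideal.toIdeal_homogeneousCore_le 𝒜 P h)
  have hJQ : J ≤ (P.homogeneousCore 𝒜).toIdeal := by
    have h1 : (⟨J, hJ⟩ : HomogeneousIdeal 𝒜) ≤ P.homogeneousCore 𝒜 :=
      (Ideal.homogeneousCore.gc 𝒜 ⟨J, hJ⟩ P).mp hJP
    exact h1
  have hrel : ¬ HomogeneousIdeal.irrelevant 𝒜 ≤ P.homogeneousCore 𝒜 := by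
    intro h
    apply hgQ
    apply h
    rw [HomogeneousIdeal.mem_irrelevant_iff, GradedRing.proj_apply,
      DirectSum.decompose_of_mem_ne 𝒜 hg (Nat.pos_iff_ne_zero.mp he)]
  obtain ⟨u, huJ, hu⟩ := H ⟨P.homogeneousCore 𝒜, hQprime, hrel⟩ hgQ
  exact hu (hJQ huJ)

/-- powers: any large power lies in `J`. -/
theorem exists_pow_mem_of_forall {J : Ideal A} (hJ : J.IsHomogeneous 𝒜) {e : ℕ} (he : 0 < e)
    {g : A} (hg : g ∈ 𝒜 e)
    (H : ∀ y : ProjectiveSpectrum 𝒜, g ∉ y.asHomogeneousIdeal →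
      ∃ u ∈ J, u ∉ y.asHomogeneousIdeal) :
    ∃ N : ℕ, ∀ K : ℕ, N ≤ K → g ^ K ∈ J := by
  obtain ⟨N, hN⟩ := mem_radical_of_forall 𝒜 hJ he hg H
  exact ⟨N, fun K hK => J.pow_mem_of_pow_mem hN hK⟩

variable {M : Type u} [AddCommGroup M] [Module R M] [Module A M] [IsScalarTower R A M]
  (ℳ : ℕ → Submodule R M) [DirectSum.Decomposition ℳ] [SetLike.GradedSMul 𝒜 ℳ]

theorem decompose_smul {i : ℕ} {μ : M} (hμ : μ ∈ ℳ i) (a : A) (j : ℕ) :
    (DirectSum.decompose ℳ (a • μ) (j + i) : M) = (DirectSum.decompose 𝒜 a j : A) • μ := by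
  classical
  induction a using DirectSum.Decomposition.inductionOn 𝒜 with
  | zero => simp
  | @homogeneous k a =>
    have ha : (a : A) • μ ∈ ℳ (k + i) := SetLike.GradedSMul.smul_mem a.2 hμ
    by_cases hjk : k = j
    · subst hjk
      rw [DirectSum.decompose_of_mem_same ℳ ha, DirectSum.decompose_of_mem_same 𝒜 a.2]
    · have hne : k + i ≠ j + i := fun h => hjk (Nat.add_right_cancel h)
      rw [DirectSum.decompose_of_mem_ne ℳ ha hne, DirectSum.decompose_of_mem_ne 𝒜 a.2 hjk,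
        zero_smul]
  | add a b ha hb =>
    rw [add_smul, DirectSum.decompose_add, DirectSum.decompose_add, DirectSum.add_apply,
      DirectSum.add_apply, Submodule.coe_add, Submodule.coe_add, ha, hb, add_smul]

theorem torsionOf_isHomogeneous {i : ℕ} {μ : M} (hμ : μ ∈ ℳ i) :
    (Ideal.torsionOf A M μ).IsHomogeneous 𝒜 := by
  intro j a ha
  rw [Ideal.mem_torsionOf_iff] at ha ⊢
  rw [← decompose_smul 𝒜 ℳ hμ a j, ha, DirectSum.decompose_zero]
  rfl

theorem exists_pow_smul_eq_zero {e : ℕ} (he : 0 < e) {g : A} (hg : g ∈ 𝒜 e) {i : ℕ} {μ : M}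
    (hμ : μ ∈ ℳ i)
    (H : ∀ y : ProjectiveSpectrum 𝒜, g ∉ y.asHomogeneousIdeal →
      ∃ u : A, u ∉ y.asHomogeneousIdeal ∧ u • μ = 0) :
    ∃ N : ℕ, ∀ K : ℕ, N ≤ K → g ^ K • μ = 0 := by
  obtain ⟨N, hN⟩ := exists_pow_mem_of_forall 𝒜 (torsionOf_isHomogeneous 𝒜 ℳ hμ) he hg
    (fun y hy => by
      obtain ⟨u, hu, hu0⟩ := H y hy
      exact ⟨u, (Ideal.mem_torsionOf_iff _ _).mpr hu0, hu⟩)
  exact ⟨N, fun K hK => (Ideal.mem_torsionOf_iff _ _).mp (hN K hK)⟩

end Groth.Agent.Lib.Helper27GrTildeSect
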