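import Groth.Agent.Lib.Helper27GrTildeZero

/-!
# `M~ = 0` iff `M` satisfies (TN), for `M` satisfying (TF) (helper27)
-/

set_option autoImplicit false
universe u

open CategoryTheory CategoryTheory.Limits AlgebraicGeometry TopologicalSpace Opposite

namespace Groth.Agent.Lib.Helper27GrTildeSect

variable {R A : Type u} [CommRing R] [CommRing A] [Algebra R A] (𝒜 : ℕ → Submodule R A)
  [GradedAlgebra 𝒜]

/-- when `S₊` is generated in degree one, `S_N ⊆ S₊^N`. -/
theorem mem_irrelevant_pow_of_mem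
    (hgen : (HomogeneousIdeal.irrelevant 𝒜).toIdeal = Ideal.span (𝒜 1 : Set A)) :
    ∀ (N : ℕ) (a : A), a ∈ 𝒜 N → a ∈ (HomogeneousIdeal.irrelevant 𝒜).toIdeal ^ N
  | 0, a, _ => by simp
  | N + 1, a, ha => by
    classical
    have h1 : a ∈ (HomogeneousIdeal.irrelevant 𝒜).toIdeal := by
      change a ∈ HomogeneousIdeal.irrelevant 𝒜
      rw [HomogeneousIdeal.mem_irrelevant_iff, GradedRing.proj_apply,
        DirectSum.decompose_of_mem_ne 𝒜 ha (Nat.succ_ne_zero N)]
    rw [hgen] at h1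
    obtain ⟨c, hc⟩ := (Finsupp.mem_span_iff_linearCombination A (𝒜 1 : Set A) a).mp h1
    rw [Finsupp.linearCombination_apply, Finsupp.sum] at hc
    have h2 : a = ∑ g ∈ c.support, (DirectSum.decompose 𝒜 (c g) N : A) * (g : A) := by
      have h3 := congrArg (GradedRing.proj 𝒜 (N + 1)) hc
      rw [map_sum, GradedRing.proj_apply, DirectSum.decompose_of_mem_same 𝒜 ha] at h3
      rw [← h3]
      refine Finset.sum_congr rfl (fun g _ => ?_)
      rw [GradedRing.proj_apply, smul_eq_mul,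
        DirectSum.coe_decompose_mul_of_right_mem_of_le 𝒜 (g.2 : (g : A) ∈ 𝒜 1)
          (Nat.le_add_left 1 N), Nat.add_sub_cancel]
    rw [h2, pow_succ]
    refine Ideal.sum_mem _ (fun g _ => Ideal.mul_mem_mul ?_ ?_)
    · exact mem_irrelevant_pow_of_mem hgen N _ (DirectSum.decompose 𝒜 (c g) N).2
    · rw [hgen]
      exact Ideal.subset_span g.2

variable {M : Type u} [AddCommGroup M] [Module R M] [Module A M] [IsScalarTower R A M]
  (ℳ : ℕ → Submodule R M) [DirectSum.Decomposition ℳ] [SetLike.GradedSMul 𝒜 ℳ]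

/-- (TN) implies local torsion. -/
theorem exists_pow_smul_eq_zero_of_TN {n : ℕ} (hn : ∀ k : ℕ, n ≤ k → ℳ k = ⊥) (z : M) {d : ℕ}
    (hd : 0 < d) {f : A} (hf : f ∈ 𝒜 d) : f ^ n • z = 0 := by
  classical
  have hz := DirectSum.sum_support_decompose ℳ z
  generalize (DirectSum.decompose ℳ z).support = F at hz
  rw [← hz, Finset.smul_sum]
  refine Finset.sum_eq_zero (fun i _ => ?_)
  have h1 : f ^ n • (DirectSum.decompose ℳ z i : M) ∈ ℳ (n • d + i) :=
    SetLike.GradedSMul.smul_mem (SetLike.pow_mem_graded n hf) (DirectSum.decompose ℳ z i).2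
  have h2 : n ≤ n • d + i := by
    have : n ≤ n * d := Nat.le_mul_of_pos_right _ hd
    rw [smul_eq_mul]
    omega
  rw [hn _ h2] at h1
  exact (Submodule.mem_bot R).mp h1

/-- local torsion + (TF) + `S₊` finitely generated in degree one imply (TN). -/
theorem TN_of_torsion (hfg : (HomogeneousIdeal.irrelevant 𝒜).toIdeal.FG)
    (hgen : (HomogeneousIdeal.irrelevant 𝒜).toIdeal = Ideal.span (𝒜 1 : Set A))
    (hTF : ∃ n : ℕ, (Submodule.span A (⋃ k ∈ Set.Ici n, (ℳ k : Set M))).FG)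
    (H : ∀ (z : M) (g : A), g ∈ 𝒜 1 → ∃ k : ℕ, g ^ k • z = 0) :
    ∃ n : ℕ, ∀ k : ℕ, n ≤ k → ℳ k = ⊥ := by
  classical
  obtain ⟨n₁, hTF⟩ := hTF
  obtain ⟨T, hTsub, hTspan⟩ := (Submodule.fg_span_iff_fg_span_finset_subset _).mp hTF
  -- degrees of the generators
  have hdegT : ∀ t : T, ∃ k : ℕ, (t : M) ∈ ℳ k := by
    intro t
    have := hTsub t.2
    simp only [Set.mem_iUnion, Set.mem_Ici, SetLike.mem_coe, exists_prop] at this
    obtain ⟨k, _, hk⟩ := this
    exact ⟨k, hk⟩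
  choose degT hdegT using hdegT
  -- the annihilator of the tail
  let J : Ideal A := (Submodule.span A (T : Set M)).annihilator
  have hrad : (HomogeneousIdeal.irrelevant 𝒜).toIdeal ≤ J.radical := by
    rw [hgen, Ideal.span_le]
    intro g hg
    choose kk hkk using fun t : T => H (t : M) g hg
    refine ⟨Finset.univ.sup kk, ?_⟩
    rw [Submodule.mem_annihilator_span]
    intro t
    have hle : kk ⟨t.1, t.2⟩ ≤ Finset.univ.sup kk := Finset.le_sup (Finset.mem_univ _)
    obtain ⟨e, he⟩ := Nat.exists_eq_add_of_le hle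
    rw [he, pow_add, mul_comm, mul_smul]
    have := hkk ⟨t.1, t.2⟩
    rw [this, smul_zero]
  obtain ⟨N, hN⟩ := Ideal.exists_pow_le_of_le_radical_of_fg hrad hfg
  have hkill : ∀ (N' : ℕ), N ≤ N' → ∀ a ∈ 𝒜 N', ∀ t : T, a • (t : M) = 0 := by
    intro N' hN' a ha t
    have h1 : a ∈ J := hN (Ideal.pow_le_pow_right hN' (mem_irrelevant_pow_of_mem 𝒜 hgen N' a ha))
    exact (Submodule.mem_annihilator_span _ _).mp h1 t
  refine ⟨N + Finset.univ.sup degT + n₁, fun k hk => ?_⟩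
  rw [eq_bot_iff]
  intro m hm
  rw [Submodule.mem_bot]
  have hm1 : m ∈ Submodule.span A (⋃ k ∈ Set.Ici n₁, (ℳ k : Set M)) := by
    apply Submodule.subset_span
    simp only [Set.mem_iUnion, Set.mem_Ici, SetLike.mem_coe, exists_prop]
    exact ⟨k, by omega, hm⟩
  rw [hTspan] at hm1
  obtain ⟨c, hc⟩ := (Finsupp.mem_span_iff_linearCombination A (T : Set M) m).mp hm1
  rw [Finsupp.linearCombination_apply, Finsupp.sum] at hc
  have hk_decomp : (DirectSum.decompose ℳ m k : M) = m := DirectSum.decompose_of_mem_same ℳ hm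
  rw [← hk_decomp, ← hc, DirectSum.decompose_sum, DFinsupp.finsetSum_apply,
    AddSubmonoidClass.coe_finsetSum]
  refine Finset.sum_eq_zero (fun t _ => ?_)
  have hdt : degT ⟨t.1, t.2⟩ ≤ k := by
    have : degT ⟨t.1, t.2⟩ ≤ Finset.univ.sup degT := Finset.le_sup (Finset.mem_univ _)
    omega
  obtain ⟨j, hj⟩ := Nat.exists_eq_add_of_le hdt
  have hj' : k = j + degT ⟨t.1, t.2⟩ := by omega
  rw [hj', decompose_smul 𝒜 ℳ (hdegT ⟨t.1, t.2⟩) (c t) j]
  have hNj : N ≤ j := by
    have : degT ⟨t.1, t.2⟩ ≤ Finset.univ.sup degT := Finset.le_sup (Finset.mem_univ _)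
    omega
  exact hkill j hNj _ (DirectSum.decompose 𝒜 (c t) j).2 ⟨t.1, t.2⟩

end Groth.Agent.Lib.Helper27GrTildeSect
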