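import Mathlib
import Groth.Prelude.Def_W4c5m1nsnscurvesC

/-!
# A small Gröbner-style normal form: `R[x, y] / (x y² - x² y - a x y - b x - c y - d)`

Custom monomial order on `Fin 2 →₀ ℕ` (the exponent of variable `1` is compared first), the
leading term of the cubic, and the standard monomials.
-/

namespace Groth.Agent.Lib.Helper27Grob

open MvPolynomial MonomialOrder

/-- Lex order with variable `1` more significant than variable `0`. -/
noncomputable def mrev : MonomialOrder (Fin 2) where
  syn := ℕ ×ₗ ℕ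
  toSyn :=
    { toFun := fun c => toLex (c 1, c 0)
      invFun := fun p => Finsupp.single 1 (ofLex p).1 + Finsupp.single 0 (ofLex p).2
      left_inv := by
        intro c
        ext i
        fin_cases i <;> simp
      right_inv := by
        intro p
        simp
      map_add' := by
        intro a b
        rfl }
  toSyn_monotone := by
    intro a b hab
    have h1 := hab 1
    have h0 := hab 0
    show toLex (a 1, a 0) ≤ toLex (b 1, b 0)
    rw [Prod.Lex.toLex_le_toLex]
    rcases h1.lt_or_eq with h | h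
    · exact Or.inl h
    · exact Or.inr ⟨h, h0⟩

theorem mrev_lt_iff (a b : Fin 2 →₀ ℕ) :
    a ≺[mrev] b ↔ a 1 < b 1 ∨ a 1 = b 1 ∧ a 0 < b 0 := by
  show toLex (a 1, a 0) < toLex (b 1, b 0) ↔ _
  rw [Prod.Lex.toLex_lt_toLex]

theorem mrev_le_iff (a b : Fin 2 →₀ ℕ) :
    a ≼[mrev] b ↔ a 1 < b 1 ∨ a 1 = b 1 ∧ a 0 ≤ b 0 := by
  show toLex (a 1, a 0) ≤ toLex (b 1, b 0) ↔ _
  rw [Prod.Lex.toLex_le_toLex]

variable (R : Type*) [CommRing R] (a b c d : R)

/-- The cubic. -/
noncomputable abbrev fpoly : MvPolynomial (Fin 2) R :=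
  X 0 * X 1 ^ 2 - X 0 ^ 2 * X 1 - (C a * X 0 * X 1 + C b * X 0 + C c * X 1 + C d)

/-- The leading exponent `x y²`. -/
noncomputable def d₀ : Fin 2 →₀ ℕ := Finsupp.single 0 1 + Finsupp.single 1 2

theorem d₀_zero : d₀ 0 = 1 := by simp [d₀]
theorem d₀_one : d₀ 1 = 2 := by simp [d₀]

theorem fpoly_eq : fpoly R a b c d =
    monomial d₀ 1 - monomial (Finsupp.single 0 2 + Finsupp.single 1 1) 1 -
      (monomial (Finsupp.single 0 1 + Finsupp.single 1 1) a + monomial (Finsupp.single 0 1) b +
        monomial (Finsupp.single 1 1) c + monomial 0 d) := by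
  simp only [fpoly, d₀, X_pow_eq_monomial]
  simp only [X, C_apply, monomial_mul, mul_one, zero_add]

theorem coeff_fpoly (e : Fin 2 →₀ ℕ) : coeff e (fpoly R a b c d) =
    (if d₀ = e then 1 else 0) - (if Finsupp.single 0 2 + Finsupp.single 1 1 = e then 1 else 0) -
      ((if Finsupp.single 0 1 + Finsupp.single 1 1 = e then a else 0) +
        (if Finsupp.single 0 1 = e then b else 0) +
        (if Finsupp.single 1 1 = e then c else 0) + (if 0 = e then d else 0)) := by
  rw [fpoly_eq]
  simp only [coeff_sub, coeff_add, coeff_monomial]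

theorem coeff_fpoly_of_lt (e : Fin 2 →₀ ℕ) (h : d₀ ≺[mrev] e) : coeff e (fpoly R a b c d) = 0 := by
  rw [mrev_lt_iff, d₀_zero, d₀_one] at h
  rw [coeff_fpoly]
  have h1 : d₀ ≠ e := by
    intro h'
    rw [← h', d₀_zero, d₀_one] at h
    omega
  have h2 : Finsupp.single 0 2 + Finsupp.single 1 1 ≠ e := by
    intro h'
    rw [← h'] at h
    simp at h
  have h3 : Finsupp.single 0 1 + Finsupp.single 1 1 ≠ e := by
    intro h'
    rw [← h'] at h
    simp at h
  have h4 : Finsupp.single 0 1 ≠ e := by
    intro h'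
    rw [← h'] at h
    simp at h
  have h5 : Finsupp.single 1 1 ≠ e := by
    intro h'
    rw [← h'] at h
    simp at h
  have h6 : (0 : Fin 2 →₀ ℕ) ≠ e := by
    intro h'
    rw [← h'] at h
    simp at h
  rw [if_neg h1, if_neg h2, if_neg h3, if_neg h4, if_neg h5, if_neg h6]
  simp

theorem coeff_fpoly_d₀ : coeff d₀ (fpoly R a b c d) = 1 := by
  rw [coeff_fpoly]
  have h2 : Finsupp.single 0 2 + Finsupp.single 1 1 ≠ d₀ := by
    intro h'
    have := congrArg (fun e : Fin 2 →₀ ℕ => e 1) h'
    simp [d₀] at this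
  have h3 : Finsupp.single 0 1 + Finsupp.single 1 1 ≠ d₀ := by
    intro h'
    have := congrArg (fun e : Fin 2 →₀ ℕ => e 1) h'
    simp [d₀] at this
  have h4 : Finsupp.single 0 1 ≠ d₀ := by
    intro h'
    have := congrArg (fun e : Fin 2 →₀ ℕ => e 1) h'
    simp [d₀] at this
  have h5 : Finsupp.single 1 1 ≠ d₀ := by
    intro h'
    have := congrArg (fun e : Fin 2 →₀ ℕ => e 1) h'
    simp [d₀] at this
  have h6 : (0 : Fin 2 →₀ ℕ) ≠ d₀ := by
    intro h'
    have := congrArg (fun e : Fin 2 →₀ ℕ => e 1) h'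
    simp [d₀] at this
  rw [if_pos rfl, if_neg h2, if_neg h3, if_neg h4, if_neg h5, if_neg h6]
  simp

theorem degree_fpoly [Nontrivial R] : mrev.degree (fpoly R a b c d) = d₀ := by
  have hmem : d₀ ∈ (fpoly R a b c d).support := by
    rw [mem_support_iff, coeff_fpoly_d₀]
    exact one_ne_zero
  have h1 : d₀ ≼[mrev] mrev.degree (fpoly R a b c d) := mrev.le_degree hmem
  have h2 : mrev.degree (fpoly R a b c d) ≼[mrev] d₀ := by
    rw [MonomialOrder.degree_le_iff]
    intro e he
    by_contra hlt
    rw [not_le] at hlt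
    exact (mem_support_iff.mp he) (coeff_fpoly_of_lt R a b c d e hlt)
  exact mrev.toSyn.injective (le_antisymm h2 h1)

theorem leadingCoeff_fpoly [Nontrivial R] : mrev.leadingCoeff (fpoly R a b c d) = 1 := by
  rw [MonomialOrder.leadingCoeff, degree_fpoly, coeff_fpoly_d₀]

/-- Exponents of the standard monomials. -/
noncomputable def E : Option (ℕ ⊕ (Fin 2 × ℕ)) → (Fin 2 →₀ ℕ)
  | none => 0
  | some (Sum.inl k) => Finsupp.single 0 (k + 1) + Finsupp.single 1 1
  | some (Sum.inr (y, k)) => Finsupp.single y (k + 1)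

@[simp] theorem E_none : E none = 0 := rfl
@[simp] theorem E_inl_zero (k : ℕ) : E (some (Sum.inl k)) 0 = k + 1 := by simp [E]
@[simp] theorem E_inl_one (k : ℕ) : E (some (Sum.inl k)) 1 = 1 := by simp [E]
@[simp] theorem E_inr0_zero (k : ℕ) : E (some (Sum.inr (0, k))) 0 = k + 1 := by simp [E]
@[simp] theorem E_inr0_one (k : ℕ) : E (some (Sum.inr (0, k))) 1 = 0 := by simp [E]
@[simp] theorem E_inr1_zero (k : ℕ) : E (some (Sum.inr (1, k))) 0 = 0 := by simp [E]
@[simp] theorem E_inr1_one (k : ℕ) : E (some (Sum.inr (1, k))) 1 = k + 1 := by simp [E]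

theorem fin2_cases (y : Fin 2) : y = 0 ∨ y = 1 := by
  revert y
  decide

theorem E_injective : Function.Injective E := by
  intro i j h
  have h0 := DFunLike.congr_fun h 0
  have h1 := DFunLike.congr_fun h 1
  rcases i with _ | k | ⟨y, k⟩
  · rcases j with _ | l | ⟨z, l⟩
    · rfl
    · simp at h1
    · rcases fin2_cases z with rfl | rfl
      · simp at h0
      · simp at h1
  · rcases j with _ | l | ⟨z, l⟩
    · simp at h1
    · simp at h0
      subst h0
      rfl
    · rcases fin2_cases z with rfl | rfl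
      · simp at h1
      · simp at h0
  · rcases fin2_cases y with rfl | rfl
    · rcases j with _ | l | ⟨z, l⟩
      · simp at h0
      · simp at h1
      · rcases fin2_cases z with rfl | rfl
        · simp at h0
          subst h0
          rfl
        · simp at h0
    · rcases j with _ | l | ⟨z, l⟩
      · simp at h1
      · simp at h0
      · rcases fin2_cases z with rfl | rfl
        · simp at h0
        · simp at h1
          subst h1
          rfl

theorem not_le_E (i : Option (ℕ ⊕ (Fin 2 × ℕ))) : ¬ d₀ ≤ E i := by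
  intro h
  have h0 := h 0
  have h1 := h 1
  rw [d₀_zero] at h0
  rw [d₀_one] at h1
  rcases i with _ | k | ⟨y, k⟩
  · simp at h0
  · simp at h1
  · rcases fin2_cases y with rfl | rfl
    · simp at h1
    · simp at h0

theorem exists_E (e : Fin 2 →₀ ℕ) (h : ¬ d₀ ≤ e) : ∃ i, E i = e := by
  have h' : e 0 < 1 ∨ e 1 < 2 := by
    by_contra hcon
    push Not at hcon
    apply h
    intro j
    rcases fin2_cases j with rfl | rfl
    · rw [d₀_zero]
      exact hcon.1
    · rw [d₀_one]
      exact hcon.2
  have hext : ∀ e' : Fin 2 →₀ ℕ, e' 0 = e 0 → e' 1 = e 1 → e' = e := by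
    intro e' h0 h1
    ext j
    rcases fin2_cases j with rfl | rfl
    · exact h0
    · exact h1
  by_cases h0 : e 0 = 0
  · by_cases h1 : e 1 = 0
    · exact ⟨none, hext _ (by simp [h0]) (by simp [h1])⟩
    · refine ⟨some (Sum.inr (1, e 1 - 1)), hext _ (by simp [h0]) ?_⟩
      rw [E_inr1_one]
      omega
  · have h1 : e 1 < 2 := by omega
    by_cases h2 : e 1 = 0
    · refine ⟨some (Sum.inr (0, e 0 - 1)), hext _ ?_ (by simp [h2])⟩
      rw [E_inr0_zero]
      omega
    · refine ⟨some (Sum.inl (e 0 - 1)), hext _ ?_ ?_⟩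
      · rw [E_inl_zero]
        omega
      · rw [E_inl_one]
        omega

open W4c5m1nsnscurves

theorem cmon3_eq (i : Option (ℕ ⊕ (Fin 2 × ℕ))) :
    cmon3 R a b c d i = Ideal.Quotient.mk _ (monomial (E i) (1 : R)) := by
  rcases i with _ | k | ⟨y, k⟩
  · show (1 : CurveAlg3 R a b c d) = Ideal.Quotient.mk _ (monomial 0 (1 : R))
    rw [← C_apply, C_1, map_one]
  · show Ideal.Quotient.mk _ (X 0 ^ (k + 1) * X 1) = Ideal.Quotient.mk _ (monomial
      (Finsupp.single 0 (k + 1) + Finsupp.single 1 1) (1 : R))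
    congr 1
    rw [X_pow_eq_monomial, X, monomial_mul, mul_one]
  · show Ideal.Quotient.mk _ (X y ^ (k + 1)) = Ideal.Quotient.mk _ (monomial
      (Finsupp.single y (k + 1)) (1 : R))
    congr 1
    exact X_pow_eq_monomial

theorem mk_fpoly : (Ideal.Quotient.mk (Ideal.span {fpoly R a b c d}) (fpoly R a b c d)) = 0 :=
  Ideal.Quotient.eq_zero_iff_mem.mpr (Ideal.subset_span rfl)

theorem span_cmon3 [Nontrivial R] : Submodule.span R (Set.range (cmon3 R a b c d)) = ⊤ := by
  rw [eq_top_iff]
  intro x _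
  obtain ⟨P, rfl⟩ := Ideal.Quotient.mk_surjective x
  have hu : IsUnit (mrev.leadingCoeff (fpoly R a b c d)) := by
    rw [leadingCoeff_fpoly]
    exact isUnit_one
  obtain ⟨g, r, hP, -, hr⟩ := mrev.div_single hu P
  rw [degree_fpoly] at hr
  have h1 : Ideal.Quotient.mk (Ideal.span {fpoly R a b c d}) P =
      Ideal.Quotient.mk (Ideal.span {fpoly R a b c d}) r := by
    rw [hP, map_add, map_mul, mk_fpoly, mul_zero, zero_add]
  show Ideal.Quotient.mk (Ideal.span {fpoly R a b c d}) P ∈
    Submodule.span R (Set.range (cmon3 R a b c d))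
  rw [h1, r.as_sum, map_sum]
  refine Submodule.sum_mem _ (fun e he => ?_)
  obtain ⟨i, hi⟩ := exists_E e (hr e he)
  have h2 : monomial e (coeff e r) = (coeff e r) • monomial e (1 : R) := by
    rw [smul_monomial, smul_eq_mul, mul_one]
  rw [h2]
  show Ideal.Quotient.mkₐ R (Ideal.span {fpoly R a b c d}) (coeff e r • monomial e (1 : R)) ∈
    Submodule.span R (Set.range (cmon3 R a b c d))
  rw [map_smul]
  refine Submodule.smul_mem _ _ (Submodule.subset_span ⟨i, ?_⟩)
  rw [cmon3_eq, hi]
  rfl

theorem linearIndependent_cmon3 [Nontrivial R] : LinearIndependent R (cmon3 R a b c d) := by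
  classical
  rw [linearIndependent_iff]
  intro l hl
  set P : MvPolynomial (Fin 2) R := l.sum (fun i c => monomial (E i) c) with hPdef
  have hPmk : Ideal.Quotient.mk (Ideal.span {fpoly R a b c d}) P = 0 := by
    rw [← hl, Finsupp.linearCombination_apply, hPdef, Finsupp.sum, Finsupp.sum, map_sum]
    refine Finset.sum_congr rfl (fun i _ => ?_)
    rw [cmon3_eq]
    have h2 : monomial (E i) (l i) = (l i) • monomial (E i) (1 : R) := by
      rw [smul_monomial, smul_eq_mul, mul_one]
    rw [h2]
    show Ideal.Quotient.mkₐ R (Ideal.span {fpoly R a b c d}) (l i • monomial (E i) (1 : R)) = _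
    rw [map_smul]
    rfl
  have hPmem : P ∈ Ideal.span {fpoly R a b c d} := Ideal.Quotient.eq_zero_iff_mem.mp hPmk
  obtain ⟨q, hq⟩ := Ideal.mem_span_singleton'.mp hPmem
  have hcoef : ∀ i, coeff (E i) P = l i := by
    intro i
    rw [hPdef, Finsupp.sum, coeff_sum]
    simp only [coeff_monomial]
    rw [Finset.sum_eq_single i]
    · rw [if_pos rfl]
    · intro j _ hji
      rw [if_neg]
      intro h
      exact hji (E_injective h)
    · intro hi
      rw [if_pos rfl]
      exact Finsupp.notMem_support_iff.mp hi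
  have hsupp : ∀ e ∈ P.support, ∃ i, E i = e := by
    intro e he
    rw [mem_support_iff, hPdef, Finsupp.sum, coeff_sum] at he
    simp only [coeff_monomial] at he
    by_contra hcon
    push Not at hcon
    apply he
    refine Finset.sum_eq_zero (fun i _ => ?_)
    rw [if_neg (hcon i)]
  by_cases hq0 : q = 0
  · have hP0 : P = 0 := by rw [← hq, hq0, zero_mul]
    ext i
    rw [← hcoef i, hP0, coeff_zero]
    rfl
  · exfalso
    have hreg : IsRegular (mrev.leadingCoeff (fpoly R a b c d)) := by
      rw [leadingCoeff_fpoly]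
      exact isRegular_one
    have hdeg : mrev.degree (q * fpoly R a b c d) = mrev.degree q + d₀ := by
      rw [mrev.degree_mul_of_isRegular_right hq0 hreg, degree_fpoly]
    have hne : q * fpoly R a b c d ≠ 0 := by
      intro h0
      have h3 := mrev.leadingCoeff_mul_of_isRegular_right (f := q) hreg
      rw [h0, MonomialOrder.leadingCoeff_zero, leadingCoeff_fpoly, mul_one] at h3
      exact (mrev.leadingCoeff_ne_zero_iff.mpr hq0) h3.symm
    have hmem := mrev.degree_mem_support hne
    rw [hq] at hmem hdeg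
    obtain ⟨i, hi⟩ := hsupp _ hmem
    apply not_le_E i
    rw [hi, hdeg]
    exact le_add_self

end Groth.Agent.Lib.Helper27Grob
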