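import Groth.Agent.Lib.Helper27LesLin
import Groth.Agent.Lib.Helper27PnSections
import Groth.Agent.Lib.Helper16ClosedEmb
import Groth.Agent.Lib.Helper27SerreVan

/-!
# Tools for `H^0` of modules: monomorphisms, short exact sequences (helper27)
-/

set_option autoImplicit false
universe u
open CategoryTheory CategoryTheory.Limits AlgebraicGeometry TopologicalSpace Opposite

namespace Groth.Agent.Lib.Helper27H0Tools

open Groth.Agent.Lib.Helper23.QCohLocal Groth.Agent.Lib.Helper27CohFin
  Groth.Agent.Lib.Helper27LesLin Groth.Agent.Lib.Helper27SerreVan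
  Groth.Agent.Lib.Helper27PnSections

variable {X : Scheme.{u}}

theorem injective_toAb_app_of_mono {M N : X.Modules} (φ : M ⟶ N) [Mono φ] (V : Opens X) :
    Function.Injective (((toAbF X).map φ).hom.app (op V)) := by
  haveI : Mono ((toAbF X).map φ) := (toAbF X).map_mono φ
  exact Groth.Agent.Lib.Helper16.ClosedEmb.injective_of_mono _ V

/-- a morphism injective on global sections reflects vanishing of `H^0`. -/
theorem subsingleton_HH_zero_of_injective {M N : X.Modules} (φ : M ⟶ N)
    (hinj : Function.Injective (((toAbF X).map φ).hom.app (op ⊤)))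
    (h : Subsingleton (Coh.HH X N 0)) : Subsingleton (Coh.HH X M 0) := by
  have key : ∀ x : Coh.HH X M 0, x = 0 := by
    intro x
    apply (hh0Equiv X M).injective
    apply hinj
    have h1 : ((toAbF X).map φ).hom.app (op ⊤) (hh0Equiv X M x) =
        hh0Equiv X N (Sheaf.H.map ((toAbF X).map φ) 0 x) :=
      Sheaf.H.equiv₀_naturality _ _ x
    have h2 : Sheaf.H.map ((toAbF X).map φ) 0 x = 0 := @Subsingleton.elim _ h _ _
    have h3 : hh0Equiv X M 0 = 0 := map_zero _
    have h4 : hh0Equiv X N 0 = 0 := map_zero _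
    refine h1.trans ?_
    refine (congrArg (hh0Equiv X N) h2).trans ?_
    refine h4.trans ?_
    refine Eq.trans ?_ (congrArg (((toAbF X).map φ).hom.app (op ⊤)).hom h3.symm)
    exact (map_zero (((toAbF X).map φ).hom.app (op ⊤)).hom).symm
  exact ⟨fun x y => (key x).trans (key y).symm⟩

theorem subsingleton_HH_zero_of_mono {M N : X.Modules} (φ : M ⟶ N) [Mono φ]
    (h : Subsingleton (Coh.HH X N 0)) : Subsingleton (Coh.HH X M 0) :=
  subsingleton_HH_zero_of_injective φ (injective_toAb_app_of_mono φ ⊤) h

/-- `H^0` of the middle term of a short exact sequence vanishes iff it does for the outer terms,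
provided `H^1` of the kernel vanishes. -/
theorem subsingleton_HH_zero_X₂_iff (k : Type u) [Field k] [X.Over (Spec (CommRingCat.of k))]
    (S : ShortComplex X.Modules) (hS : S.ShortExact)
    (h1 : Subsingleton (Coh.HH X S.X₁ 1)) :
    Subsingleton (Coh.HH X S.X₂ 0) ↔
      Subsingleton (Coh.HH X S.X₁ 0) ∧ Subsingleton (Coh.HH X S.X₃ 0) := by
  constructor
  · intro h2
    haveI := hS.mono_f
    exact ⟨subsingleton_HH_zero_of_mono S.f h2, subsingleton_of_shortExact S hS 0 h2 h1⟩
  · rintro ⟨h1', h3⟩
    have hsurj := surjective_HHlin_f k S hS 0 h3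
    haveI := h1'
    exact hsurj.subsingleton

end Groth.Agent.Lib.Helper27H0Tools
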