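import Mathlib
import Groth.Agent.Lib.Helper27AmpleSerre

/-!
# Eventual vanishing of higher cohomology of twists on closed subschemes of `P^r_A` (helper27)

* `exists_vanishing_twists` : `A` Noetherian, `i : X ⟶ P^r_A` a closed immersion, `F` coherent:
  `H^p(X, F ⊗ i^* O(n)) = 0` for `n ≥ N`, `p > 0`
* `leadingCoeff_nonneg_of_eventually_nonneg` : a rational polynomial with nonnegative values at all large integers
  has nonnegative leading coefficient
-/

set_option autoImplicit false
universe u

open CategoryTheory CategoryTheory.Limits AlgebraicGeometry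

namespace Groth.Agent.Lib.Helper27HilbEventually

theorem exists_vanishing_twists (A : Type u) [CommRing A] [IsNoetherianRing A] (r : ℕ) {X : Scheme.{u}}
    (i : X ⟶ CohB1.ProjSpace r A) [IsClosedImmersion i] (F : X.Modules) (hF : Coh.IsCoh F) :
    ∃ N : ℤ, ∀ n : ℤ, N ≤ n → ∀ p : ℕ, 0 < p →
      Subsingleton (Coh.HH X (CohB1.tensorMod F
        ((Scheme.Modules.pullback i).obj (Twist.twistProjSpace r A n))) p) := by
  have hN := Groth.Agent.Lib.Helper27QProjCover.isNoetherian_projSpace r A
  haveI : IsLocallyNoetherian (CohB1.ProjSpace r A) := inferInstance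
  have hpush : Coh.IsCoh ((Scheme.Modules.pushforward i).obj F) :=
    Groth.Agent.Lib.Helper4.Dev.isCoh_push_closed i F hF
  obtain ⟨d₀, hd₀⟩ := Groth.Agent.Lib.Helper27SerreVanPn.serre_vanishing r A _ hpush
  refine ⟨d₀, fun n hn p hp => ?_⟩
  obtain ⟨ei⟩ := Groth.Agent.Lib.Helper27AmpleSerre.nonempty_twist_inv r A n
  obtain ⟨ei'⟩ := Groth.Agent.Lib.Helper27AmpleSerre.nonempty_twist_inv' r A n
  exact (Groth.Agent.Lib.Helper27ClosedTransfer.subsingleton_HH_twist_iff i
    (Twist.twistProjSpace r A n) (Twist.twistProjSpace r A (-n)) ei ei' F p).2 (hd₀ n hn p hp)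

theorem leadingCoeff_nonneg_of_eventually_nonneg (P : Polynomial ℚ) (N : ℤ)
    (h : ∀ n : ℤ, N ≤ n → 0 ≤ P.eval (n : ℚ)) : 0 ≤ P.leadingCoeff := by
  by_contra hneg
  push Not at hneg
  by_cases hdeg : 0 < P.degree
  · have ht := Polynomial.tendsto_atBot_of_leadingCoeff_nonpos P hdeg hneg.le
    have ht' : Filter.Tendsto (fun n : ℤ => P.eval (n : ℚ)) Filter.atTop Filter.atBot :=
      ht.comp tendsto_intCast_atTop_atTop
    have h1 := (ht'.eventually (Filter.eventually_lt_atBot (0 : ℚ))).and
      (Filter.eventually_ge_atTop N)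
    obtain ⟨n, hn1, hn2⟩ := h1.exists
    exact absurd (h n hn2) (not_le.mpr hn1)
  · have hd : P.degree ≤ 0 := not_lt.mp hdeg
    have hC := Polynomial.eq_C_of_degree_le_zero hd
    have h1 := h N le_rfl
    rw [hC, Polynomial.eval_C] at h1
    have h2 : P.leadingCoeff = P.coeff 0 := by
      rw [Polynomial.leadingCoeff, Polynomial.natDegree_eq_zero_iff_degree_le_zero.mpr hd]
    rw [h2] at hneg
    exact absurd h1 (not_le.mpr hneg)

end Groth.Agent.Lib.Helper27HilbEventually
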