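import Groth.Agent.Lib.Helper27MumfordReg
import Groth.Agent.Lib.Helper27SplitPn
import Groth.Agent.Lib.Helper27ProjGamma2
import Groth.Agent.S11314

/-!
# Horrocks' splitting criterion on `P^d_K` (helper27)

A coherent module `F` on `P^d_K` with `H^0(F(n)) = 0` for `n ≪ 0` and `H^i(F(n)) = 0` for
`0 < i < d` and all `n` is a finite direct sum of twisting sheaves.  The proof peels off summands
`O(-m)`, `m` the Castelnuovo–Mumford regularity, using duality and global generation.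
-/

set_option autoImplicit false
universe u

open CategoryTheory CategoryTheory.Limits AlgebraicGeometry TopologicalSpace Opposite

namespace Groth.Agent.Lib.Helper27Horrocks

open Groth.Agent.Lib.Helper27SerreVan Groth.Agent.Lib.Helper27CMReg Groth.Agent.Lib.Helper27GenTop
  Groth.Agent.Lib.Helper27GlobGenPn Groth.Agent.Lib.Helper27LinRes
  Groth.Agent.Lib.Helper27ResChase Groth.Agent.Lib.Helper23.GenLocus
  Groth.Agent.Lib.Helper23.AmpleIso Groth.Agent.Lib.Helper27CohFin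
  Groth.Agent.Lib.Helper27CoprodFin Groth.Agent.Lib.Helper27LesLin
  Groth.Agent.Lib.Helper23.SecTw Groth.Agent.Lib.Helper27PnMor
  Groth.Agent.Lib.Helper23.QCohLocal
  Groth.Agent.Lib.Helper21.ModTensor3 Groth.Agent.Lib.Helper21.ModTensor5
  Groth.Agent.Lib.Helper21.ModTensor6 Groth.Agent.Lib.Helper21.ModTensor7

section Abstract

variable {X : Scheme.{u}}

theorem secHom_one :
    secHom (Coh.structureModule X) (toS ⊤ 1) = 𝟙 (Coh.structureModule X) := by
  have h := secHom_sv (Coh.structureModule X) (𝟙 (Coh.structureModule X))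
  rw [← h]
  rfl

/-- if every nonzero global function is a unit, a nonzero morphism from a globally generated
module to the structure module is a split epimorphism. -/
theorem exists_section_of_genTop (hU : ∀ a : Γ(X, ⊤), a ≠ 0 → IsUnit a) (G : X.Modules)
    (hG : GenTop G) (ψ : G ⟶ Coh.structureModule X) (hψ : ψ ≠ 0) :
    ∃ s : Coh.structureModule X ⟶ G, s ≫ ψ = 𝟙 _ := by
  obtain ⟨σ, hσ⟩ : ∃ σ : Γ(G, ⊤), ψ.app ⊤ σ ≠ 0 := by
    by_contra h
    push Not at h
    exact hψ (hG _ ψ h)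
  have ha : ofS ⊤ (ψ.app ⊤ σ) ≠ 0 := hσ
  obtain ⟨b, hb⟩ := (hU _ ha).exists_left_inv
  refine ⟨secHom G (b • σ), ?_⟩
  rw [secHom_comp, Scheme.Modules.Hom.app_smul]
  have h1 : (b • ψ.app ⊤ σ : Γ(Coh.structureModule X, ⊤)) = toS ⊤ 1 := by
    have h2 : ψ.app ⊤ σ = toS ⊤ (ofS ⊤ (ψ.app ⊤ σ)) := rfl
    rw [h2, smul_toS, hb]
  rw [h1]
  exact secHom_one

/-- cohomology of a retract vanishes if that of the ambient module does. -/
theorem subsingleton_HH_of_retract {A B : X.Modules} (t : A ⟶ B) (q : B ⟶ A) (h : t ≫ q = 𝟙 A)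
    (i : ℕ) (hB : Subsingleton (Coh.HH X B i)) : Subsingleton (Coh.HH X A i) := by
  have key : ∀ x : Coh.HH X A i, x = 0 := by
    intro x
    let x' : Sheaf.H ((toAbF X).obj A) i := x
    have h1 : evalH i x' (t ≫ q) = x' := by
      rw [h]
      exact evalH_id i x'
    rw [evalH_comp] at h1
    have h2 : evalH i x' t = 0 := Subsingleton.elim (α := Coh.HH X B i) _ _
    rw [h2, evalH_zero] at h1
    exact h1.symm
  exact ⟨fun x y => (key x).trans (key y).symm⟩

/-- the twisted version. -/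
theorem subsingleton_HH_tw_of_retract {A B : X.Modules} (t : A ⟶ B) (q : B ⟶ A) (h : t ≫ q = 𝟙 A)
    (L : X.Modules) (i : ℕ) (hB : Subsingleton (Coh.HH X (CohB1.tensorMod B L) i)) :
    Subsingleton (Coh.HH X (CohB1.tensorMod A L) i) :=
  subsingleton_HH_of_retract (wl t L) (wl q L) (by rw [← wl_comp, h, wl_id]) i hB

/-- untwisting a retraction. -/
theorem exists_untwist_retract (L L' : X.Modules) (e : CohB1.tensorMod L L' ≅ Coh.structureModule X)
    (F : X.Modules) (s₀ : Coh.structureModule X ⟶ CohB1.tensorMod F L)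
    (r₀ : CohB1.tensorMod F L ⟶ Coh.structureModule X) (h : s₀ ≫ r₀ = 𝟙 _) :
    ∃ (s : L' ⟶ F) (r : F ⟶ L'), s ≫ r = 𝟙 _ := by
  obtain ⟨ν, -⟩ := exists_untwist L L' e
  let lam : CohB1.tensorMod (Coh.structureModule X) L' ≅ L' := (tLUnitIso X.sheaf).app L'
  refine ⟨lam.inv ≫ wl s₀ L' ≫ (ν F).hom, (ν F).inv ≫ wl r₀ L' ≫ lam.hom, ?_⟩
  rw [Category.assoc, Category.assoc, Iso.hom_inv_id_assoc, ← Category.assoc (wl s₀ L'),
    ← wl_comp, h, wl_id, Category.id_comp, Iso.inv_hom_id]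

/-- `wl · L` is faithful for invertible `L`. -/
theorem wl_eq_zero (L L' : X.Modules) (e : CohB1.tensorMod L L' ≅ Coh.structureModule X)
    {G N : X.Modules} (h : G ⟶ N) (hh : wl h L = 0) : h = 0 := by
  obtain ⟨ν, hν⟩ := exists_untwist L L' e
  have h1 := hν h
  rw [hh] at h1
  have h2 : wl (0 : CohB1.tensorMod G L ⟶ CohB1.tensorMod N L) L' = 0 := (Groth.Agent.Lib.Helper27SerreVan.tw L').map_zero _ _
  rw [h2, zero_comp] at h1
  have h3 : (ν G).inv ≫ (ν G).hom ≫ h = 0 := by rw [← h1, comp_zero]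
  rwa [Iso.inv_hom_id_assoc] at h3

/-- a zero twist of an invertible module comes from a zero module. -/
theorem isZero_of_isZero_tw (L L' : X.Modules) (e : CohB1.tensorMod L L' ≅ Coh.structureModule X)
    (F : X.Modules) (h : IsZero (CohB1.tensorMod F L)) : IsZero F := by
  rw [IsZero.iff_id_eq_zero]
  apply wl_eq_zero L L' e
  rw [wl_id]
  exact h.eq_of_src _ _

end Abstract

section Cat

variable {C : Type*} [Category C] [Abelian C]

theorem nonempty_biprod_sigma_iso {β : Type*} (T : β → C) (b : β) {r : ℕ} (a : Fin r → β) :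
    Nonempty (T b ⊞ (∐ fun j => T (a j)) ≅
      ∐ fun j : Fin (r + 1) => T ((Fin.cons b a : Fin (r + 1) → β) j)) := by
  let a' : Fin (r + 1) → β := Fin.cons b a
  let h0 : T b ⟶ ∐ fun j : Fin (r + 1) => T (a' j) := Sigma.ι (fun j : Fin (r + 1) => T (a' j)) 0
  let hs : ∀ i : Fin r, T (a i) ⟶ ∐ fun j : Fin (r + 1) => T (a' j) :=
    fun i => Sigma.ι (fun j : Fin (r + 1) => T (a' j)) i.succ
  let inv : ∀ j : Fin (r + 1), T (a' j) ⟶ T b ⊞ (∐ fun j => T (a j)) :=
    fun j => Fin.cases (motive := fun j => T (a' j) ⟶ T b ⊞ (∐ fun j => T (a j)))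
      biprod.inl (fun i => Sigma.ι (fun j => T (a j)) i ≫ biprod.inr) j
  refine ⟨⟨biprod.desc h0 (Sigma.desc hs), Sigma.desc inv, ?_, ?_⟩⟩
  · apply biprod.hom_ext'
    · rw [biprod.inl_desc_assoc, Category.comp_id]
      exact Sigma.ι_desc inv 0
    · rw [biprod.inr_desc_assoc, Category.comp_id]
      apply Sigma.hom_ext
      intro i
      rw [Sigma.ι_desc_assoc]
      exact Sigma.ι_desc inv i.succ
  · apply Sigma.hom_ext
    intro j
    rw [Sigma.ι_desc_assoc, Category.comp_id]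
    refine Fin.cases ?_ (fun i => ?_) j
    · exact biprod.inl_desc _ _
    · change (Sigma.ι (fun j => T (a j)) i ≫ biprod.inr) ≫ biprod.desc h0 (Sigma.desc hs) = _
      rw [Category.assoc, biprod.inr_desc, Sigma.ι_desc]

theorem isZero_sigma_fin_zero (f : Fin 0 → C) : IsZero (∐ f) := by
  rw [IsZero.iff_id_eq_zero]
  apply Sigma.hom_ext
  intro j
  exact j.elim0

end Cat

section Measure

variable {X : Scheme.{u}} (A : Type u) [Field A] [X.Over (Spec (CommRingCat.of A))]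

theorem HHlin_comp' {M M' M'' : X.Modules} (φ : M ⟶ M') (φ' : M' ⟶ M'') (i : ℕ)
    (x : Coh.HH X M i) :
    Canon.HHlin A (φ ≫ φ') i x = Canon.HHlin A φ' i (Canon.HHlin A φ i x) :=
  evalH_comp i (x : Sheaf.H ((toAbF X).obj M) i) φ φ'

theorem HHlin_id' {M : X.Modules} (i : ℕ) (x : Coh.HH X M i) :
    Canon.HHlin A (𝟙 M) i x = x :=
  evalH_id i (x : Sheaf.H ((toAbF X).obj M) i)

theorem HHlin_zero' {M M' : X.Modules} (i : ℕ) (x : Coh.HH X M i) :
    Canon.HHlin A (0 : M ⟶ M') i x = 0 :=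
  (evalH (N := M') i (x : Sheaf.H ((toAbF X).obj M) i)).map_zero

/-- a complementary summand of a summand with nonzero cohomology has smaller cohomology. -/
theorem finrank_lt_of_retract {B C' D : X.Modules} (t : C' ⟶ B) (q : B ⟶ C') (htq : t ≫ q = 𝟙 C')
    (s : D ⟶ B) (r : B ⟶ D) (hsr : s ≫ r = 𝟙 D) (htr : t ≫ r = 0) (i : ℕ)
    (hD : Nontrivial (Coh.HH X D i)) (hfin : Module.Finite A (Coh.HH X B i)) :
    Module.finrank A (Coh.HH X C' i) < Module.finrank A (Coh.HH X B i) := by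
  have hinj : Function.Injective (Canon.HHlin A t i) := by
    intro x y hxy
    have := congrArg (Canon.HHlin A q i) hxy
    rwa [← HHlin_comp', ← HHlin_comp', htq, HHlin_id', HHlin_id'] at this
  have hle : LinearMap.range (Canon.HHlin A t i) ≤ LinearMap.ker (Canon.HHlin A r i) := by
    rintro _ ⟨x, rfl⟩
    rw [LinearMap.mem_ker, ← HHlin_comp', htr, HHlin_zero']
  have hne : LinearMap.range (Canon.HHlin A t i) ≠ ⊤ := by
    intro htop
    obtain ⟨y, hy⟩ := exists_ne (0 : Coh.HH X D i)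
    apply hy
    have h1 : Canon.HHlin A s i y ∈ LinearMap.ker (Canon.HHlin A r i) :=
      hle (htop ▸ Submodule.mem_top)
    rw [LinearMap.mem_ker, ← HHlin_comp', hsr, HHlin_id'] at h1
    exact h1
  rw [← LinearMap.finrank_range_of_inj hinj]
  exact Submodule.finrank_lt hne

end Measure

section Pn

open Groth.Agent.Lib.Helper27SerreVanPn Groth.Agent.Lib.Helper27CMReg2
  Groth.Agent.Lib.Helper27PnHom Groth.Agent.Lib.Helper23.LocGen
  Groth.Agent.Lib.Helper27MumfordReg Groth.Agent.Lib.Helper27SplitPn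

variable (K : Type u) [Field K] (d : ℕ)


/-- nonzero global functions on `P^d_K` are units. -/
theorem isUnit_of_ne_zero (a : Γ(CohB1.ProjSpace d K, ⊤)) (ha : a ≠ 0) : IsUnit a := by
  have h1 : IsIso (CohB1.ProjSpace.toSpec d K).appTop :=
    Groth.Agent.Lib.Helper27ProjGamma.isIso_toSpec_appTop d K
  let e1 : Γ(Spec (CommRingCat.of K), ⊤) ≅ Γ(CohB1.ProjSpace d K, ⊤) :=
    asIso (CohB1.ProjSpace.toSpec d K).appTop
  let e : Γ(CohB1.ProjSpace d K, ⊤) ≃+* K :=
    (e1.symm ≪≫ Scheme.ΓSpecIso (CommRingCat.of K)).commRingCatIsoToRingEquiv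
  have h2 : e a ≠ 0 := (map_ne_zero_iff e e.injective).2 ha
  have hu : IsUnit (e a) := isUnit_iff_ne_zero.2 h2
  exact (isUnit_map_iff e a).1 hu

theorem nonempty_pair_iso (a b : ℤ) (h : a + b = 0) :
    Nonempty (CohB1.tensorMod (Twist.twistProjSpace d K a) (Twist.twistProjSpace d K b) ≅
      Coh.structureModule (CohB1.ProjSpace d K)) := by
  obtain ⟨e0⟩ := nonempty_twist_zero_iso K d
  obtain ⟨e1⟩ := nonempty_twist_tensor_iso d K a b
  exact ⟨e1 ≪≫ eqToIso (by rw [h]) ≪≫ e0⟩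

/-- duality produces a nonzero morphism to `ω` from nonvanishing top cohomology. -/
theorem exists_nonzero_to_omega (E : (CohB1.ProjSpace d K).Modules) (hE : Coh.IsCoh E)
    (hne : ¬ Subsingleton (Coh.HH (CohB1.ProjSpace d K) E d)) :
    ∃ φ : E ⟶ Twist.twistProjSpace d K (-((d : ℤ) + 1)), φ ≠ 0 := by
  obtain ⟨t, ht⟩ := Groth.Agent.S11314.result K d
  rw [not_subsingleton_iff_nontrivial] at hne
  obtain ⟨x, hx⟩ := exists_ne (0 : Coh.HH (CohB1.ProjSpace d K) E d)
  obtain ⟨ψ, hψ⟩ : ∃ ψ : Coh.HH (CohB1.ProjSpace d K) E d →ₗ[K] K, ψ x ≠ 0 := by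
    by_contra h
    push Not at h
    exact hx ((Module.forall_dual_apply_eq_zero_iff K x).1 h)
  obtain ⟨φ, hφ, -⟩ := ht E hE ψ
  refine ⟨φ, fun h0 => hψ ?_⟩
  rw [hφ x, h0]
  have : Sheaf.H.map ((SheafOfModules.toSheaf (CohB1.ProjSpace d K).ringCatSheaf).map
      (0 : E ⟶ Twist.twistProjSpace d K (-((d : ℤ) + 1)))) d x = 0 := HHlin_zero' K d x
  rw [this, map_zero]

/-- the Horrocks conditions. -/
def Hor (F : (CohB1.ProjSpace d K).Modules) : Prop :=
  (∃ n₀ : ℤ, ∀ n : ℤ, n ≤ n₀ → Subsingleton (Coh.HH (CohB1.ProjSpace d K)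
    (CohB1.tensorMod F (Twist.twistProjSpace d K n)) 0)) ∧
  ∀ (n : ℤ) (i : ℕ), 1 ≤ i → i < d → Subsingleton (Coh.HH (CohB1.ProjSpace d K)
    (CohB1.tensorMod F (Twist.twistProjSpace d K n)) i)

variable {K d}

theorem hor_of_retract {F F' : (CohB1.ProjSpace d K).Modules} (t : F' ⟶ F) (q : F ⟶ F')
    (h : t ≫ q = 𝟙 F') (hF : Hor K d F) : Hor K d F' := by
  obtain ⟨⟨n₀, h0⟩, h1⟩ := hF
  exact ⟨⟨n₀, fun n hn => subsingleton_HH_tw_of_retract t q h _ 0 (h0 n hn)⟩,
    fun n i hi hid => subsingleton_HH_tw_of_retract t q h _ i (h1 n i hi hid)⟩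

theorem isMRegular_of_retract {F F' : (CohB1.ProjSpace d K).Modules} (t : F' ⟶ F) (q : F ⟶ F')
    (h : t ≫ q = 𝟙 F') (m : ℤ) (hF : Curv2.IsMRegular K d F m) : Curv2.IsMRegular K d F' m :=
  fun i hi1 hid => subsingleton_HH_tw_of_retract t q h _ i (hF i hi1 hid)

theorem isMRegular_of_top {F : (CohB1.ProjSpace d K).Modules} (hH : Hor K d F) (m : ℤ)
    (htop : Subsingleton (Coh.HH (CohB1.ProjSpace d K)
      (CohB1.tensorMod F (Twist.twistProjSpace d K (m - d))) d)) :
    Curv2.IsMRegular K d F m := by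
  intro i hi1 hid
  by_cases hlt : i < d
  · exact hH.2 _ i hi1 hlt
  · obtain rfl : i = d := by omega
    exact htop

variable (K d)

theorem genTop_of_isMRegular (F : (CohB1.ProjSpace d K).Modules) (hF : Coh.IsCoh F) (m : ℤ)
    (h : Curv2.IsMRegular K d F m) (r : ℤ) (hr : m ≤ r) :
    GenTop (CohB1.tensorMod F (Twist.twistProjSpace d K r)) :=
  genTop_of_regular d K F hF m
    (fun q hq r hr => vanishing_ge_of_isMRegular d K F hF.1 m h q r hq hr) r hr

theorem isZero_of_genTop_of_subsingleton {X : Scheme.{u}} (M : X.Modules) (hM : GenTop M)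
    (h0 : Subsingleton (Coh.HH X M 0)) : IsZero M := by
  rw [IsZero.iff_id_eq_zero]
  apply hM
  intro s
  have hs : Subsingleton ((Coh.toAb M).obj.obj (op (⊤ : Opens X))) :=
    (Groth.Agent.Lib.Helper27PnSections.hh0Equiv X M).symm.injective.subsingleton
  have : s = 0 := Subsingleton.elim (α := (Coh.toAb M).obj.obj (op (⊤ : Opens X))) s 0
  rw [this, map_zero]

theorem exists_reg (F : (CohB1.ProjSpace d K).Modules) (hF : Coh.IsCoh F) (hH : Hor K d F)
    (hne : ¬ IsZero F) (hd : 1 ≤ d) (N : ℤ) (hN : Curv2.IsMRegular K d F N) :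
    ∃ m : ℤ, m ≤ N ∧ Curv2.IsMRegular K d F m ∧
      ¬ Subsingleton (Coh.HH (CohB1.ProjSpace d K)
        (CohB1.tensorMod F (Twist.twistProjSpace d K (m - 1 - d))) d) := by
  classical
  let Q : ℤ → Prop := fun z => Subsingleton (Coh.HH (CohB1.ProjSpace d K)
    (CohB1.tensorMod F (Twist.twistProjSpace d K (z - d))) d)
  have hQN : Q N := hN d hd le_rfl
  -- some `m₁ ≤ N` fails `Q`
  obtain ⟨m₁, hm₁N, hm₁⟩ : ∃ m₁ : ℤ, m₁ ≤ N ∧ ¬ Q m₁ := by
    by_contra hcon
    push Not at hcon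
    obtain ⟨n₀, hn₀⟩ := hH.1
    apply hne
    have hz : min N n₀ ≤ N := min_le_left _ _
    have hreg : Curv2.IsMRegular K d F (min N n₀) := isMRegular_of_top hH _ (hcon _ hz)
    have hgen := genTop_of_isMRegular K d F hF _ hreg (min N n₀) le_rfl
    have hzero : IsZero (CohB1.tensorMod F (Twist.twistProjSpace d K (min N n₀))) :=
      isZero_of_genTop_of_subsingleton _ hgen (hn₀ _ (min_le_right _ _))
    obtain ⟨e⟩ := nonempty_pair_iso K d (min N n₀) (-(min N n₀)) (by ring)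
    exact isZero_of_isZero_tw _ _ e F hzero
  obtain ⟨lb, ⟨hlb1, hlb2⟩, hmin⟩ := Int.exists_least_of_bdd (P := fun z => m₁ ≤ z ∧ Q z)
    ⟨m₁, fun z hz => hz.1⟩ ⟨N, hm₁N, hQN⟩
  have hlbN : lb ≤ N := hmin N ⟨hm₁N, hQN⟩
  have hne1 : lb ≠ m₁ := fun h => hm₁ (h ▸ hlb2)
  refine ⟨lb, hlbN, isMRegular_of_top hH _ hlb2, fun hsub => ?_⟩
  have : lb ≤ lb - 1 := hmin (lb - 1) ⟨by omega, hsub⟩
  omega

/-- peeling off the summand `O(-m)`, `m` the regularity. -/
theorem exists_summand (F : (CohB1.ProjSpace d K).Modules) (hF : Coh.IsCoh F) (m : ℤ)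
    (hreg : Curv2.IsMRegular K d F m)
    (hne : ¬ Subsingleton (Coh.HH (CohB1.ProjSpace d K)
      (CohB1.tensorMod F (Twist.twistProjSpace d K (m - 1 - d))) d)) :
    ∃ (s : Twist.twistProjSpace d K (-m) ⟶ F) (r : F ⟶ Twist.twistProjSpace d K (-m)),
      s ≫ r = 𝟙 _ := by
  have hE := isCoh_twisted K d F hF (m - 1 - d)
  obtain ⟨φ, hφ⟩ := exists_nonzero_to_omega K d _ hE hne
  obtain ⟨e1⟩ := nonempty_twist_twist_iso K d F (m - 1 - d) ((d : ℤ) + 1) m (by ring)
  obtain ⟨e2⟩ := nonempty_pair_iso K d (-((d : ℤ) + 1)) ((d : ℤ) + 1) (by ring)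
  obtain ⟨e3⟩ := nonempty_pair_iso K d ((d : ℤ) + 1) (-((d : ℤ) + 1)) (by ring)
  obtain ⟨e4⟩ := nonempty_pair_iso K d m (-m) (by ring)
  obtain ⟨r₀, hr₀⟩ : ∃ r₀ : CohB1.tensorMod F (Twist.twistProjSpace d K m) ⟶
      Coh.structureModule (CohB1.ProjSpace d K),
      r₀ = e1.inv ≫ wl φ (Twist.twistProjSpace d K ((d : ℤ) + 1)) ≫ e2.hom := ⟨_, rfl⟩
  have hr₀ne : r₀ ≠ 0 := by
    intro h0
    apply hφ
    apply wl_eq_zero _ _ e3
    have h1 : e1.hom ≫ r₀ ≫ e2.inv = wl φ (Twist.twistProjSpace d K ((d : ℤ) + 1)) := by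
      rw [hr₀]
      simp
    rw [← h1, h0, zero_comp, comp_zero]
  have hgen := genTop_of_isMRegular K d F hF m hreg m le_rfl
  obtain ⟨s₀, hs₀⟩ := exists_section_of_genTop (isUnit_of_ne_zero K d) _ hgen r₀ hr₀ne
  exact exists_untwist_retract _ _ e4 F s₀ r₀ hs₀

theorem nontrivial_HH_zero (e : ℕ) :
    Nontrivial (Coh.HH (CohB1.ProjSpace d K) (Twist.twistProjSpace d K (e : ℤ)) 0) := by
  obtain ⟨l⟩ := Groth.Agent.Lib.Helper27PnSections.nonempty_linearEquiv d K e
  have hmem : (MvPolynomial.X (0 : Fin (d + 1)) ^ e : MvPolynomial (Fin (d + 1)) K) ∈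
      MvPolynomial.homogeneousSubmodule (Fin (d + 1)) K e := by
    have := (MvPolynomial.isHomogeneous_X K (0 : Fin (d + 1))).pow e
    simpa using this
  have hne : (⟨_, hmem⟩ : MvPolynomial.homogeneousSubmodule (Fin (d + 1)) K e) ≠ 0 := by
    intro h
    have := congrArg Subtype.val h
    exact pow_ne_zero e (MvPolynomial.X_ne_zero (0 : Fin (d + 1))) this
  have : Nontrivial (MvPolynomial.homogeneousSubmodule (Fin (d + 1)) K e) := ⟨⟨_, _, hne⟩⟩
  exact l.toEquiv.nontrivial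

theorem splits_aux (hd : 1 ≤ d) : ∀ (c : ℕ) (F : (CohB1.ProjSpace d K).Modules), Coh.IsCoh F →
    Hor K d F → ∀ N : ℤ, Curv2.IsMRegular K d F N →
    Module.finrank K (Coh.HH (CohB1.ProjSpace d K)
      (CohB1.tensorMod F (Twist.twistProjSpace d K N)) 0) ≤ c →
    ∃ (r : ℕ) (a : Fin r → ℤ),
      Nonempty (F ≅ ∐ fun j => Twist.twistProjSpace d K (a j)) := by
  intro c
  induction c with
  | zero =>
    intro F hF hH N hN hc
    have h0 : Subsingleton (Coh.HH (CohB1.ProjSpace d K)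
        (CohB1.tensorMod F (Twist.twistProjSpace d K N)) 0) := by
      have hfin := finite_HH_twisted K d F hF N 0
      exact Module.finrank_zero_iff.1 (Nat.le_zero.1 hc)
    have hgen := genTop_of_isMRegular K d F hF N hN N le_rfl
    have hzero := isZero_of_genTop_of_subsingleton _ hgen h0
    obtain ⟨e⟩ := nonempty_pair_iso K d N (-N) (by ring)
    have hz : IsZero F := isZero_of_isZero_tw _ _ e F hzero
    exact ⟨0, Fin.elim0, ⟨hz.iso (isZero_sigma_fin_zero _)⟩⟩
  | succ c ih =>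
    intro F hF hH N hN hc
    by_cases hz : IsZero F
    · exact ⟨0, Fin.elim0, ⟨hz.iso (isZero_sigma_fin_zero _)⟩⟩
    obtain ⟨m, hmN, hreg, hne⟩ := exists_reg K d F hF hH hz hd N hN
    obtain ⟨s, r, hsr⟩ := exists_summand K d F hF m hreg hne
    have hmono : Mono s := mono_of_mono_fac hsr
    let S : ShortComplex (CohB1.ProjSpace d K).Modules :=
      ShortComplex.mk s (cokernel.π s) (cokernel.condition s)
    have hS : S.ShortExact :=
      { exact := ShortComplex.exact_of_g_is_cokernel _ (cokernelIsCokernel s)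
        mono_f := hmono
        epi_g := (inferInstance : Epi (cokernel.π s)) }
    have hepi : Epi S.g := hS.epi_g
    obtain ⟨σ, hσr⟩ : ∃ σ : S.Splitting, σ.r = r :=
      ⟨ShortComplex.Splitting.ofExactOfRetraction S hS.exact r hsr hepi, rfl⟩
    have htπ : σ.s ≫ cokernel.π s = 𝟙 (cokernel s) := σ.s_g
    have htr : σ.s ≫ r = 0 := by
      rw [← hσr]
      exact σ.s_r
    -- coherence of the complement
    have hF'q : (cokernel s).IsQuasicoherent := by
      haveI := hF.1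
      haveI : (Twist.twistProjSpace d K (-m)).IsQuasicoherent :=
        (Groth.Agent.Lib.Helper27TwistCoh.isCoh_twist d K (-m)).1
      exact Groth.Agent.Lib.Helper23.QCohLocal.isQuasicoherent_cokernel s
    have hF' : Coh.IsCoh (cokernel s) := by
      refine ⟨hF'q, ?_⟩
      haveI := hF.1
      haveI := hF.2
      haveI := hF'q
      exact Groth.Agent.Lib.Helper23.FinType.isFiniteType_of_epi (cokernel.π s)
    have hH' : Hor K d (cokernel s) := hor_of_retract σ.s (cokernel.π s) htπ hH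
    have hN' : Curv2.IsMRegular K d (cokernel s) N :=
      isMRegular_of_retract σ.s (cokernel.π s) htπ N hN
    -- the measure drops
    obtain ⟨e, he⟩ : ∃ e : ℕ, (e : ℤ) = -m + N := ⟨(-m + N).toNat, by omega⟩
    obtain ⟨i1⟩ := nonempty_twist_tensor_iso d K (-m) N
    have hnt : Nontrivial (Coh.HH (CohB1.ProjSpace d K)
        (CohB1.tensorMod (Twist.twistProjSpace d K (-m)) (Twist.twistProjSpace d K N)) 0) := by
      have h1 := nontrivial_HH_zero K d e
      rw [he] at h1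
      exact (HHequiv K i1 0).toEquiv.nontrivial
    have hfin := finite_HH_twisted K d F hF N 0
    have hlt : Module.finrank K (Coh.HH (CohB1.ProjSpace d K)
        (CohB1.tensorMod (cokernel s) (Twist.twistProjSpace d K N)) 0) <
        Module.finrank K (Coh.HH (CohB1.ProjSpace d K)
          (CohB1.tensorMod F (Twist.twistProjSpace d K N)) 0) :=
      finrank_lt_of_retract K (wl σ.s (Twist.twistProjSpace d K N))
      (wl (cokernel.π s) (Twist.twistProjSpace d K N)) (by rw [← wl_comp, htπ, wl_id])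
      (wl s (Twist.twistProjSpace d K N)) (wl r (Twist.twistProjSpace d K N))
      (by rw [← wl_comp, hsr, wl_id])
      (by
        rw [← wl_comp, htr]
        exact (Groth.Agent.Lib.Helper27SerreVan.tw (Twist.twistProjSpace d K N)).map_zero _ _)
      0 hnt hfin
    obtain ⟨r', a, ⟨ea⟩⟩ := ih (cokernel s) hF' hH' N hN' (by omega)
    obtain ⟨eb⟩ := nonempty_biprod_sigma_iso (fun j : ℤ => Twist.twistProjSpace d K j) (-m) a
    exact ⟨r' + 1, Fin.cons (-m) a,
      ⟨σ.isoBinaryBiproduct ≪≫ biprod.mapIso (Iso.refl _) ea ≪≫ eb⟩⟩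

/-- Horrocks' criterion, the hard direction. -/
theorem horrocks (hd : 1 ≤ d) (F : (CohB1.ProjSpace d K).Modules) (hF : Coh.IsCoh F)
    (hH : Hor K d F) :
    ∃ (r : ℕ) (a : Fin r → ℤ),
      Nonempty (F ≅ ∐ fun j => Twist.twistProjSpace d K (a j)) := by
  obtain ⟨d₀, hd₀⟩ := serre_vanishing d K F hF
  have hN : Curv2.IsMRegular K d F (d₀ + d) := fun i hi1 hid => hd₀ _ (by omega) i hi1
  exact splits_aux K d hd _ F hF hH (d₀ + d) hN le_rfl

/-- the easy direction. -/
theorem hor_sigma (hd : 1 ≤ d) {r : ℕ} (a : Fin r → ℤ) :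
    Hor K d (∐ fun j => Twist.twistProjSpace d K (a j)) := by
  constructor
  · refine ⟨-(∑ j, |a j|) - 1, fun n hn => ?_⟩
    refine subsingleton_HH_map_sigma (fun j => Twist.twistProjSpace d K (a j))
      (Groth.Agent.Lib.Helper27SerreVan.tw (Twist.twistProjSpace d K n)) 0 (fun j => ?_)
    obtain ⟨e⟩ := nonempty_twist_tensor_iso d K (a j) n
    refine Groth.Agent.Lib.Helper27SerreVan.subsingleton_HH_of_iso e 0 ?_
    have h1 : |a j| ≤ ∑ j, |a j| :=
      Finset.single_le_sum (f := fun j => |a j|) (fun i _ => abs_nonneg _) (Finset.mem_univ j)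
    have h2 := le_abs_self (a j)
    exact Groth.Agent.Lib.Helper27PnCohVanish.subsingleton_HH d K (a j + n) 0
      (fun h => by omega) (fun h => by omega)
  · intro n i hi1 hid
    refine subsingleton_HH_map_sigma (fun j => Twist.twistProjSpace d K (a j))
      (Groth.Agent.Lib.Helper27SerreVan.tw (Twist.twistProjSpace d K n)) i (fun j => ?_)
    obtain ⟨e⟩ := nonempty_twist_tensor_iso d K (a j) n
    refine Groth.Agent.Lib.Helper27SerreVan.subsingleton_HH_of_iso e i ?_
    exact Groth.Agent.Lib.Helper27PnCohVanish.subsingleton_HH d K (a j + n) i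
      (fun h => by omega) (fun h => by omega)

end Pn

end Groth.Agent.Lib.Helper27Horrocks
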