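import Groth.Agent.Lib.Helper27Horrocks

/-!
# Helper27: every coherent module on `P^0_K` is a finite direct sum of twisting sheaves
-/

set_option autoImplicit false
universe u

open CategoryTheory CategoryTheory.Limits AlgebraicGeometry TopologicalSpace Opposite

namespace Groth.Agent.Lib.Helper27HorrocksZero

open Groth.Agent.Lib.Helper27Horrocks
open Groth.Agent.Lib.Helper27SerreVan Groth.Agent.Lib.Helper27CMReg Groth.Agent.Lib.Helper27GenTop
  Groth.Agent.Lib.Helper27GlobGenPn Groth.Agent.Lib.Helper27LinRes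
  Groth.Agent.Lib.Helper27ResChase Groth.Agent.Lib.Helper23.GenLocus
  Groth.Agent.Lib.Helper23.AmpleIso Groth.Agent.Lib.Helper27CohFin
  Groth.Agent.Lib.Helper27CoprodFin Groth.Agent.Lib.Helper27LesLin
  Groth.Agent.Lib.Helper23.SecTw Groth.Agent.Lib.Helper27PnMor
  Groth.Agent.Lib.Helper23.QCohLocal
  Groth.Agent.Lib.Helper21.ModTensor3 Groth.Agent.Lib.Helper21.ModTensor5
  Groth.Agent.Lib.Helper21.ModTensor6 Groth.Agent.Lib.Helper21.ModTensor7
open Groth.Agent.Lib.Helper27SerreVanPn Groth.Agent.Lib.Helper27CMReg2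
  Groth.Agent.Lib.Helper27PnHom Groth.Agent.Lib.Helper23.LocGen
  Groth.Agent.Lib.Helper27MumfordReg Groth.Agent.Lib.Helper27SplitPn

variable (K : Type u) [Field K]

theorem isMRegular_zero (F : (CohB1.ProjSpace 0 K).Modules) (m : ℤ) :
    Curv2.IsMRegular K 0 F m := fun i hi1 hi0 => absurd hi0 (by omega)

theorem splits_zero_aux : ∀ (c : ℕ) (F : (CohB1.ProjSpace 0 K).Modules), Coh.IsCoh F →
    Module.finrank K (Coh.HH (CohB1.ProjSpace 0 K)
      (CohB1.tensorMod F (Twist.twistProjSpace 0 K 0)) 0) ≤ c →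
    ∃ (r : ℕ) (a : Fin r → ℤ),
      Nonempty (F ≅ ∐ fun j => Twist.twistProjSpace 0 K (a j)) := by
  intro c
  induction c with
  | zero =>
    intro F hF hc
    have h0 : Subsingleton (Coh.HH (CohB1.ProjSpace 0 K)
        (CohB1.tensorMod F (Twist.twistProjSpace 0 K 0)) 0) := by
      have hfin := finite_HH_twisted K 0 F hF 0 0
      exact Module.finrank_zero_iff.1 (Nat.le_zero.1 hc)
    have hgen := genTop_of_isMRegular K 0 F hF 0 (isMRegular_zero K F 0) 0 le_rfl
    have hzero := isZero_of_genTop_of_subsingleton _ hgen h0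
    obtain ⟨e⟩ := nonempty_pair_iso K 0 0 (-0) (by ring)
    have hz : IsZero F := isZero_of_isZero_tw _ _ e F hzero
    exact ⟨0, Fin.elim0, ⟨hz.iso (isZero_sigma_fin_zero _)⟩⟩
  | succ c ih =>
    intro F hF hc
    by_cases hz : IsZero F
    · exact ⟨0, Fin.elim0, ⟨hz.iso (isZero_sigma_fin_zero _)⟩⟩
    have hne : ¬ Subsingleton (Coh.HH (CohB1.ProjSpace 0 K)
        (CohB1.tensorMod F (Twist.twistProjSpace 0 K (0 - 1 - (0 : ℕ)))) 0) := by
      intro hsub
      apply hz
      have hgen := genTop_of_isMRegular K 0 F hF (0 - 1 - (0 : ℕ))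
        (isMRegular_zero K F _) (0 - 1 - (0 : ℕ)) le_rfl
      have hzero := isZero_of_genTop_of_subsingleton _ hgen hsub
      obtain ⟨e⟩ := nonempty_pair_iso K 0 (0 - 1 - (0 : ℕ)) (-(0 - 1 - (0 : ℕ))) (by ring)
      exact isZero_of_isZero_tw _ _ e F hzero
    obtain ⟨s, r, hsr⟩ := exists_summand K 0 F hF 0 (isMRegular_zero K F 0) hne
    have hmono : Mono s := mono_of_mono_fac hsr
    let S : ShortComplex (CohB1.ProjSpace 0 K).Modules :=
      ShortComplex.mk s (cokernel.π s) (cokernel.condition s)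
    have hS : S.ShortExact :=
      { exact := ShortComplex.exact_of_g_is_cokernel _ (cokernelIsCokernel s)
        mono_f := hmono
        epi_g := (inferInstance : Epi (cokernel.π s)) }
    have hepi : Epi S.g := hS.epi_g
    obtain ⟨σ, hσr⟩ : ∃ σ : S.Splitting, σ.r = r :=
      ⟨ShortComplex.Splitting.ofExactOfRetraction S hS.exact r hsr hepi, rfl⟩
    have htπ : σ.s ≫ cokernel.π s = 𝟙 (cokernel s) := σ.s_g
    have htr : σ.s ≫ r = 0 := by
      rw [← hσr]
      exact σ.s_r
    have hF'q : (cokernel s).IsQuasicoherent := by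
      haveI := hF.1
      haveI : (Twist.twistProjSpace 0 K (-0)).IsQuasicoherent :=
        (Groth.Agent.Lib.Helper27TwistCoh.isCoh_twist 0 K (-0)).1
      exact Groth.Agent.Lib.Helper23.QCohLocal.isQuasicoherent_cokernel s
    have hF' : Coh.IsCoh (cokernel s) := by
      refine ⟨hF'q, ?_⟩
      haveI := hF.1
      haveI := hF.2
      haveI := hF'q
      exact Groth.Agent.Lib.Helper23.FinType.isFiniteType_of_epi (cokernel.π s)
    obtain ⟨i1⟩ := nonempty_twist_tensor_iso 0 K (-0) 0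
    have hnt : Nontrivial (Coh.HH (CohB1.ProjSpace 0 K)
        (CohB1.tensorMod (Twist.twistProjSpace 0 K (-0)) (Twist.twistProjSpace 0 K 0)) 0) := by
      have h1 := nontrivial_HH_zero K 0 0
      have he : ((0 : ℕ) : ℤ) = -0 + 0 := by norm_num
      rw [he] at h1
      exact (HHequiv K i1 0).toEquiv.nontrivial
    have hfin := finite_HH_twisted K 0 F hF 0 0
    have hlt : Module.finrank K (Coh.HH (CohB1.ProjSpace 0 K)
        (CohB1.tensorMod (cokernel s) (Twist.twistProjSpace 0 K 0)) 0) <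
        Module.finrank K (Coh.HH (CohB1.ProjSpace 0 K)
          (CohB1.tensorMod F (Twist.twistProjSpace 0 K 0)) 0) :=
      finrank_lt_of_retract K (wl σ.s (Twist.twistProjSpace 0 K 0))
      (wl (cokernel.π s) (Twist.twistProjSpace 0 K 0)) (by rw [← wl_comp, htπ, wl_id])
      (wl s (Twist.twistProjSpace 0 K 0)) (wl r (Twist.twistProjSpace 0 K 0))
      (by rw [← wl_comp, hsr, wl_id])
      (by
        rw [← wl_comp, htr]
        exact (Groth.Agent.Lib.Helper27SerreVan.tw (Twist.twistProjSpace 0 K 0)).map_zero _ _)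
      0 hnt hfin
    obtain ⟨r', a, ⟨ea⟩⟩ := ih (cokernel s) hF' (by omega)
    obtain ⟨eb⟩ := nonempty_biprod_sigma_iso (fun j : ℤ => Twist.twistProjSpace 0 K j) (-0) a
    exact ⟨r' + 1, Fin.cons (-0) a,
      ⟨σ.isoBinaryBiproduct ≪≫ biprod.mapIso (Iso.refl _) ea ≪≫ eb⟩⟩

/-- every coherent module on `P^0_K` splits. -/
theorem splits_zero (F : (CohB1.ProjSpace 0 K).Modules) (hF : Coh.IsCoh F) :
    ∃ (r : ℕ) (a : Fin r → ℤ),
      Nonempty (F ≅ ∐ fun j => Twist.twistProjSpace 0 K (a j)) :=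
  splits_zero_aux K _ F hF le_rfl

end Groth.Agent.Lib.Helper27HorrocksZero
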