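import Groth.Agent.Lib.Helper27PnDual
import Groth.Agent.Lib.Helper27TwistEq
import Groth.Agent.Lib.Helper27PnSections
import Groth.Agent.Lib.Helper27PnCohVanish
import Groth.Agent.Lib.Helper24CIHilb

/-!
# Helper27: dimensions of `H^0` and `H^n` of `O(m)` on `P^n_k`
-/

set_option autoImplicit false
set_option linter.style.haveILetI false
universe u
open CategoryTheory Limits AlgebraicGeometry TopologicalSpace Opposite MvPolynomial

namespace Groth.Agent.Lib.Helper27HypDim

variable (k : Type u) [Field k] (n : ℕ)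

/-- `h^0(P^n, O(m)) = C(m + n, n)` (zero for `m < 0`). -/
theorem finrank_HH_zero (hn : 1 ≤ n) (m : ℤ) :
    Module.Finite k (Coh.HH (CohB1.ProjSpace n k) (Twist.twistProjSpace n k m) 0) ∧
    Module.finrank k (Coh.HH (CohB1.ProjSpace n k) (Twist.twistProjSpace n k m) 0) =
      Nat.choose (m + (n : ℤ)).toNat n := by
  by_cases hm : 0 ≤ m
  · obtain ⟨d, rfl⟩ := Int.eq_ofNat_of_zero_le hm
    obtain ⟨l⟩ := Groth.Agent.Lib.Helper27PnSections.nonempty_linearEquiv n k d
    haveI := Groth.Agent.Lib.Helper24CIHilb.finite_homog k (n + 1) d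
    refine ⟨Module.Finite.equiv l.symm, ?_⟩
    rw [l.finrank_eq, Groth.Agent.Lib.Helper24CIHilb.finrank_homog]
    have h1 : ((d : ℤ) + (n : ℤ)).toNat = d + n := by omega
    rw [h1]
    have h2 : n + 1 + d - 1 = d + n := by omega
    rw [h2]
    exact Nat.choose_symm_add
  · have hs : Subsingleton (Coh.HH (CohB1.ProjSpace n k) (Twist.twistProjSpace n k m) 0) :=
      Groth.Agent.Lib.Helper27PnCohVanish.subsingleton_HH n k m 0 (fun h => hm h.2) (by
        rintro ⟨h1, h2⟩
        omega)
    refine ⟨inferInstance, ?_⟩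
    rw [Module.finrank_zero_of_subsingleton]
    symm
    apply Nat.choose_eq_zero_of_lt
    omega

/-- `h^n(P^n, O(m)) = C(-m - 1, n)` for `n ≥ 1`. -/
theorem finrank_HH_top (hn : 1 ≤ n) (m : ℤ) :
    Module.Finite k (Coh.HH (CohB1.ProjSpace n k) (Twist.twistProjSpace n k m) n) ∧
    Module.finrank k (Coh.HH (CohB1.ProjSpace n k) (Twist.twistProjSpace n k m) n) =
      Nat.choose (-m - 1).toNat n := by
  by_cases hm : m ≤ -((n : ℤ) + 1)
  · obtain ⟨κ, hκ⟩ : ∃ κ : ℕ, m = -((n : ℤ) + 1 + κ) :=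
      ⟨(-m - (n + 1)).toNat, by omega⟩
    have heq := Groth.Agent.Lib.Helper27TwistEq.twistProjSpace_apply n k m
    let l := Groth.Agent.Lib.Helper27PnDual.T n k m κ hκ
    haveI := Groth.Agent.Lib.Helper24CIHilb.finite_homog k (n + 1) κ
    rw [heq]
    refine ⟨Module.Finite.equiv l.symm, ?_⟩
    rw [l.finrank_eq, Groth.Agent.Lib.Helper24CIHilb.finrank_homog]
    have h1 : (-m - 1).toNat = n + κ := by omega
    rw [h1]
    have h2 : n + 1 + κ - 1 = n + κ := by omega
    rw [h2]
    exact (Nat.choose_symm_add).symm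
  · have hs : Subsingleton (Coh.HH (CohB1.ProjSpace n k) (Twist.twistProjSpace n k m) n) :=
      Groth.Agent.Lib.Helper27PnCohVanish.subsingleton_HH n k m n (by
        rintro ⟨h1, h2⟩
        omega) (by
        rintro ⟨h1, h2⟩
        omega)
    refine ⟨inferInstance, ?_⟩
    rw [Module.finrank_zero_of_subsingleton]
    symm
    apply Nat.choose_eq_zero_of_lt
    omega

end Groth.Agent.Lib.Helper27HypDim
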