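import Groth.Agent.Lib.Helper27KoszHom
import Groth.Agent.Lib.Helper27PnDualCoh
import Groth.Agent.Lib.Helper27TwistEq
import Groth.Agent.Lib.Helper27LesLin

/-!
# Helper27: a monomorphism between twisting sheaves on `P^n_k` is surjective on `H^n`
-/

set_option autoImplicit false
set_option linter.style.haveILetI false
universe u

open CategoryTheory CategoryTheory.Limits AlgebraicGeometry TopologicalSpace Opposite
  HomogeneousLocalization MvPolynomial

namespace Groth.Agent.Lib.Helper27HypTop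

open Groth.Agent.Lib.Helper27GrTildeSect Groth.Agent.Lib.Helper27ProjGamma
  Groth.Agent.Lib.Helper27PnSections Groth.Agent.Lib.Helper27Laurent
  Groth.Agent.Lib.Helper27PnLau Groth.Agent.Lib.Helper27PnLauMul
  Groth.Agent.Lib.Helper27PnHom Groth.Agent.Lib.Helper27KoszHom
  Groth.Agent.Lib.Helper27DualRes Groth.Agent.Lib.Helper27PnDualCoh
  Groth.Agent.Lib.Helper27LesLin

section Abstract

variable {X : Scheme.{u}} (k : Type u) [Field k] [X.Over (Spec (CommRingCat.of k))]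
variable {ω : X.Modules} {N : ℕ} {t : Coh.HH X ω N →ₗ[k] k}

/-- if `α ≫ β = 0` forces `β = 0` for `β : B ⟶ ω`, then `H^N(α)` is surjective. -/
theorem surjective_HHlin_of_dual {A B : X.Modules} (hA : IsDual k ω N t A)
    (hB : IsDual k ω N t B) (α : A ⟶ B) (h : ∀ β : B ⟶ ω, α ≫ β = 0 → β = 0) :
    Function.Surjective (Canon.HHlin k α N) := by
  rw [← LinearMap.range_eq_top]
  by_contra hne
  obtain ⟨ψ, hψ0, hψ⟩ := (LinearMap.range (Canon.HHlin k α N)).exists_le_ker_of_lt_top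
    (lt_top_iff_ne_top.2 hne)
  obtain ⟨β, hβ, -⟩ := hB ψ
  have h1 : ∀ x : Coh.HH X A N, (0 : Coh.HH X A N →ₗ[k] k) x =
      t (Sheaf.H.map ((SheafOfModules.toSheaf X.ringCatSheaf).map (α ≫ β)) N x) := by
    intro x
    have h2 : Canon.HHlin k (α ≫ β) N x = Canon.HHlin k β N (Canon.HHlin k α N x) :=
      HHlin_comp α β x
    have h3 : ψ (Canon.HHlin k α N x) = 0 := hψ ⟨x, rfl⟩
    rw [hβ] at h3
    change (0 : k) = t (Canon.HHlin k (α ≫ β) N x)
    rw [h2]
    exact h3.symm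
  have h0 : ∀ x : Coh.HH X A N, (0 : Coh.HH X A N →ₗ[k] k) x =
      t (Sheaf.H.map ((SheafOfModules.toSheaf X.ringCatSheaf).map (0 : A ⟶ ω)) N x) := by
    intro x
    change (0 : k) = t (Canon.HHlin k (0 : A ⟶ ω) N x)
    rw [HHlin_zero, map_zero]
  obtain ⟨φ, -, huniq⟩ := hA 0
  have h4 : α ≫ β = 0 := (huniq _ h1).trans (huniq _ h0).symm
  have h5 := h β h4
  apply hψ0
  ext x
  rw [hβ x, h5]
  change t (Canon.HHlin k (0 : B ⟶ ω) N x) = 0
  rw [HHlin_zero, map_zero]

end Abstract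

section Pn

variable {n : ℕ} {R : Type u} [CommRing R] [Nontrivial R]

theorem sym_ne_zero_of_mono {a b : ℤ} (α : OO n R a ⟶ OO n R b) [Mono α] : sym α ≠ 0 := by
  intro h0
  have h1 : α = 0 := eq_of_sym_eq α 0 (h0.trans sym_zero.symm)
  have h2 : (𝟙 (OO n R a)) = 0 := by
    rw [← cancel_mono α, h1, comp_zero, comp_zero]
  have h3 := lau_app_gen (𝟙 (OO n R a)) (0 : Fin (n + 1))
  have h4 : Scheme.Modules.Hom.app (𝟙 (OO n R a)) (Ui n R 0) (gen a 0) = gen a 0 := by
    rw [Scheme.Modules.Hom.id_app]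
    rfl
  rw [h4, lau_gen] at h3
  rw [h2, sym_zero, zero_mul] at h3
  exact one_ne_zero (AddMonoidAlgebra.single_eq_zero.1 h3)

end Pn

section Field

variable (k : Type u) [Field k] (n : ℕ)

/-- a monomorphism between twisting sheaves on `P^n_k` is surjective on `H^n`. -/
theorem surjective_top_tilde {a b : ℤ} (α : OX n k a ⟶ OX n k b) [Mono α] :
    Function.Surjective (Canon.HHlin k α n) := by
  refine surjective_HHlin_of_dual k (duality_coh n k _ (isCoh_OX n k a))
    (duality_coh n k _ (isCoh_OX n k b)) α (fun β hβ => ?_)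
  let α₀ : OO n k a ⟶ OO n k b := α
  let β₀ : OO n k b ⟶ OO n k (-((n : ℤ) + 1)) := β
  haveI : Mono α₀ := ‹Mono α›
  have hβ₀ : α₀ ≫ β₀ = 0 := hβ
  have h1 : sym (α₀ ≫ β₀) = sym β₀ * sym α₀ := sym_comp α₀ β₀
  rw [hβ₀, sym_zero] at h1
  have h2 : β₀ = 0 := by
    rcases mul_eq_zero.1 h1.symm with h | h
    · exact eq_of_sym_eq β₀ 0 (h.trans sym_zero.symm)
    · exact absurd h (sym_ne_zero_of_mono α₀)
  exact h2

/-- the same for modules isomorphic to twisting sheaves. -/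
theorem surjective_top {A B : (CohB1.ProjSpace n k).Modules} (a b : ℤ)
    (eA : A ≅ Twist.twistProjSpace n k a) (eB : B ≅ Twist.twistProjSpace n k b)
    (α : A ⟶ B) [Mono α] :
    Function.Surjective (Canon.HHlin k α n) := by
  have ha : Twist.twistProjSpace n k a = OX n k a :=
    Groth.Agent.Lib.Helper27TwistEq.twistProjSpace_apply n k a
  have hb : Twist.twistProjSpace n k b = OX n k b :=
    Groth.Agent.Lib.Helper27TwistEq.twistProjSpace_apply n k b
  let eA' : A ≅ OX n k a := eA ≪≫ eqToIso ha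
  let eB' : B ≅ OX n k b := eB ≪≫ eqToIso hb
  let α' : OX n k a ⟶ OX n k b := eA'.inv ≫ α ≫ eB'.hom
  haveI : Mono α' := by
    haveI : Mono (α ≫ eB'.hom) := mono_comp _ _
    exact mono_comp _ _
  have hs := surjective_top_tilde k n α'
  have hα : α = eA'.hom ≫ α' ≫ eB'.inv := by
    change α = eA'.hom ≫ (eA'.inv ≫ α ≫ eB'.hom) ≫ eB'.inv
    simp
  intro y
  obtain ⟨x', hx'⟩ := hs (Canon.HHlin k eB'.hom n y)
  refine ⟨Canon.HHlin k eA'.inv n x', ?_⟩
  rw [hα]
  have e1 : Canon.HHlin k (eA'.hom ≫ α' ≫ eB'.inv) n (Canon.HHlin k eA'.inv n x') =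
      Canon.HHlin k eB'.inv n (Canon.HHlin k α' n (Canon.HHlin k eA'.hom n
        (Canon.HHlin k eA'.inv n x'))) := by
    rw [HHlin_comp, HHlin_comp]
  rw [e1]
  have e2 : Canon.HHlin k eA'.hom n (Canon.HHlin k eA'.inv n x') = x' :=
    (HHequiv k eA' n).apply_symm_apply x'
  rw [e2, hx']
  exact (HHequiv k eB' n).symm_apply_apply y

end Field

end Groth.Agent.Lib.Helper27HypTop
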