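import Groth.Agent.Lib.Helper27LesDim
import Groth.Agent.Lib.Helper27HypTop
import Groth.Agent.Lib.Helper27HypDim
import Groth.Agent.Lib.Helper27SerreVanPn
import Groth.Agent.Lib.Helper21ExtCartier2

/-!
# Helper27: cohomology of `O_X(n)` for a hypersurface `X ⊆ P^N_k` of degree `κ`
-/

set_option autoImplicit false
set_option linter.style.haveILetI false
universe u
open CategoryTheory Limits AlgebraicGeometry TopologicalSpace Opposite Abelian

namespace Groth.Agent.Lib.Helper27HypSES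

open Groth.Agent.Lib.Helper27SerreVan Groth.Agent.Lib.Helper27SerreVanPn
  Groth.Agent.Lib.Helper27LesLin Groth.Agent.Lib.Helper27LesDim
  Groth.Agent.Lib.Helper27HypTop Groth.Agent.Lib.Helper27HypDim
  Groth.Agent.Lib.Helper21.ExtCartier Groth.Agent.Lib.Helper21.ModTensor7
  Groth.Agent.Lib.Helper27PnCohVanish

variable (k : Type u) [Field k] (N : ℕ) (I : (CohB1.ProjSpace N k).IdealSheafData)

/-- the ideal sequence twisted by `O(n)`. -/
noncomputable def tS (n : ℤ) : ShortComplex (CohB1.ProjSpace N k).Modules :=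
  (idealSES I).map (tw (Twist.twistProjSpace N k n))

theorem tS_shortExact (n : ℤ) : (tS k N I n).ShortExact :=
  shortExact_tw _ (isInvertible_twist N k n) _ (idealSES_shortExact I)

theorem tS_X₃ (n : ℤ) :
    (tS k N I n).X₃ = CohB1.tensorMod (ClSub.quotMod I) (Twist.twistProjSpace N k n) := rfl

theorem tS_X₁ (n : ℤ) :
    (tS k N I n).X₁ = (tw (Twist.twistProjSpace N k n)).obj (ClSub.idealMod I) := rfl

theorem tS_X₂ (n : ℤ) :
    (tS k N I n).X₂ = (tw (Twist.twistProjSpace N k n)).obj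
      (Coh.structureModule (CohB1.ProjSpace N k)) := rfl

theorem aux₁ {X : Scheme.{u}} (L M M' P : X.Modules) (e : M ≅ M')
    (e1 : CohB1.tensorMod M' L ≅ P) : Nonempty ((tw L).obj M ≅ P) :=
  ⟨(tw L).mapIso e ≪≫ e1⟩

theorem aux₂ {X : Scheme.{u}} (L : X.Modules) :
    Nonempty ((tw L).obj (Coh.structureModule X) ≅ L) :=
  ⟨(tLUnitIso X.sheaf).app L⟩

variable (κ : ℕ) (e : ClSub.idealMod I ≅ Twist.twistProjSpace N k (-(κ : ℤ)))

include e in
theorem nonempty_iso₁ (n : ℤ) :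
    Nonempty ((tS k N I n).X₁ ≅ Twist.twistProjSpace N k (n - κ)) := by
  obtain ⟨e1⟩ := nonempty_twist_tensor_iso N k (-(κ : ℤ)) n
  have h : (-(κ : ℤ) + n) = n - κ := neg_add_eq_sub _ _
  rw [tS_X₁]
  exact aux₁ (Twist.twistProjSpace N k n) (ClSub.idealMod I) _ _ e
    (e1 ≪≫ eqToIso (congrArg (Twist.twistProjSpace N k) h))

theorem nonempty_iso₂ (n : ℤ) :
    Nonempty ((tS k N I n).X₂ ≅ Twist.twistProjSpace N k n) := by
  rw [tS_X₂]
  exact aux₂ _

include e in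
theorem surjective_f_top (n : ℤ) :
    Function.Surjective (Canon.HHlin k (tS k N I n).f N) := by
  obtain ⟨e1⟩ := nonempty_iso₁ k N I κ e n
  obtain ⟨e2⟩ := nonempty_iso₂ k N I n
  haveI : Mono (tS k N I n).f := (tS_shortExact k N I n).mono_f
  exact surjective_top k N (n - κ) n e1 e2 (tS k N I n).f

include e in
theorem subsingleton_X₁ (n : ℤ) (q : ℕ) (h₀ : ¬ (q = 0 ∧ 0 ≤ n - κ))
    (hn : ¬ (q = N ∧ n - κ ≤ -((N : ℤ) + 1))) :
    Subsingleton (Coh.HH (CohB1.ProjSpace N k) (tS k N I n).X₁ q) := by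
  obtain ⟨e1⟩ := nonempty_iso₁ k N I κ e n
  exact subsingleton_HH_of_iso e1.symm q (subsingleton_HH N k (n - κ) q h₀ hn)

theorem subsingleton_X₂ (n : ℤ) (q : ℕ) (h₀ : ¬ (q = 0 ∧ 0 ≤ n))
    (hn : ¬ (q = N ∧ n ≤ -((N : ℤ) + 1))) :
    Subsingleton (Coh.HH (CohB1.ProjSpace N k) (tS k N I n).X₂ q) := by
  obtain ⟨e2⟩ := nonempty_iso₂ k N I n
  exact subsingleton_HH_of_iso e2.symm q (subsingleton_HH N k n q h₀ hn)

include e in
/-- `H^p(P^N, O_X(n)) = 0` for `p ≠ 0, N - 1`. -/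
theorem hyp_vanish (n : ℤ) (p : ℕ) (hp0 : p ≠ 0) (hpN : p + 1 ≠ N) :
    Subsingleton (Coh.HH (CohB1.ProjSpace N k)
      (CohB1.tensorMod (ClSub.quotMod I) (Twist.twistProjSpace N k n)) p) := by
  have hS := tS_shortExact k N I n
  by_cases hpe : p = N
  · refine subsingleton_of_surjective k (tS k N I n) hS p ?_ ?_
    · rw [hpe]
      exact surjective_f_top k N I κ e n
    · exact subsingleton_X₁ k N I κ e n (p + 1) (by omega) (by omega)
  · refine subsingleton_of_shortExact (tS k N I n) hS p ?_ ?_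
    · exact subsingleton_X₂ k N I n p (fun h => hp0 h.1) (fun h => hpe h.1)
    · exact subsingleton_X₁ k N I κ e n (p + 1) (by omega) (fun h => hpN h.1)

include e in
theorem finite_finrank_X₁ (hN : 1 ≤ N) (n : ℤ) :
    (Module.Finite k (Coh.HH (CohB1.ProjSpace N k) (tS k N I n).X₁ 0) ∧
      Module.finrank k (Coh.HH (CohB1.ProjSpace N k) (tS k N I n).X₁ 0) =
        Nat.choose (n - κ + (N : ℤ)).toNat N) ∧
    (Module.Finite k (Coh.HH (CohB1.ProjSpace N k) (tS k N I n).X₁ N) ∧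
      Module.finrank k (Coh.HH (CohB1.ProjSpace N k) (tS k N I n).X₁ N) =
        Nat.choose (-(n - κ) - 1).toNat N) := by
  obtain ⟨e1⟩ := nonempty_iso₁ k N I κ e n
  obtain ⟨f0, r0⟩ := finrank_HH_zero k N hN (n - κ)
  obtain ⟨fN, rN⟩ := finrank_HH_top k N hN (n - κ)
  exact ⟨⟨Module.Finite.equiv (HHequiv k e1 0).symm, by rw [(HHequiv k e1 0).finrank_eq, r0]⟩,
    ⟨Module.Finite.equiv (HHequiv k e1 N).symm, by rw [(HHequiv k e1 N).finrank_eq, rN]⟩⟩

theorem finite_finrank_X₂ (hN : 1 ≤ N) (n : ℤ) :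
    (Module.Finite k (Coh.HH (CohB1.ProjSpace N k) (tS k N I n).X₂ 0) ∧
      Module.finrank k (Coh.HH (CohB1.ProjSpace N k) (tS k N I n).X₂ 0) =
        Nat.choose (n + (N : ℤ)).toNat N) ∧
    (Module.Finite k (Coh.HH (CohB1.ProjSpace N k) (tS k N I n).X₂ N) ∧
      Module.finrank k (Coh.HH (CohB1.ProjSpace N k) (tS k N I n).X₂ N) =
        Nat.choose (-n - 1).toNat N) := by
  obtain ⟨e2⟩ := nonempty_iso₂ k N I n
  obtain ⟨f0, r0⟩ := finrank_HH_zero k N hN n
  obtain ⟨fN, rN⟩ := finrank_HH_top k N hN n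
  exact ⟨⟨Module.Finite.equiv (HHequiv k e2 0).symm, by rw [(HHequiv k e2 0).finrank_eq, r0]⟩,
    ⟨Module.Finite.equiv (HHequiv k e2 N).symm, by rw [(HHequiv k e2 N).finrank_eq, rN]⟩⟩

end Groth.Agent.Lib.Helper27HypSES
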