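import Mathlib
import Groth.Prelude.Def_CohB1

/-!
# A nonzero linear form `ℓ` on `k^{n+2}`: the graded surjection `k[X_0..X_{n+1}] → k[Y_0..Y_n]` with
kernel `(ℓ)` (helper27)
-/

set_option autoImplicit false
universe u

open MvPolynomial

namespace Groth.Agent.Lib.Helper27Hyperplane

variable {k : Type u} [Field k] {n : ℕ}
variable (a : Fin (n + 1 + 1) → k) (j0 : Fin (n + 1 + 1))

/-- the linear form `Σ a_i X_i`. -/
noncomputable def lin : MvPolynomial (Fin (n + 1 + 1)) k := ∑ i, C (a i) * X i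

/-- the image of `X_{j0}`. -/
noncomputable def v : MvPolynomial (Fin (n + 1)) k :=
  - C (a j0)⁻¹ * ∑ m, C (a (j0.succAbove m)) * X m

/-- the images of the variables. -/
noncomputable def img : Fin (n + 1 + 1) → MvPolynomial (Fin (n + 1)) k :=
  Fin.insertNth (α := fun _ => MvPolynomial (Fin (n + 1)) k) j0 (v a j0) (fun m => X m)

/-- the substitution. -/
noncomputable def ψ : MvPolynomial (Fin (n + 1 + 1)) k →ₐ[k] MvPolynomial (Fin (n + 1)) k :=
  aeval (img a j0)

theorem ψ_X_succAbove (m : Fin (n + 1)) : ψ a j0 (X (j0.succAbove m)) = X m := by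
  rw [ψ, aeval_X, img, Fin.insertNth_apply_succAbove]

theorem ψ_X_self : ψ a j0 (X j0) = v a j0 := by
  rw [ψ, aeval_X, img, Fin.insertNth_apply_same]

theorem lin_eq : lin a = C (a j0) * X j0 + ∑ m, C (a (j0.succAbove m)) * X (j0.succAbove m) := by
  rw [lin, Fin.sum_univ_succAbove _ j0]

variable {a j0}

theorem ψ_lin (ha : a j0 ≠ 0) : ψ a j0 (lin a) = 0 := by
  rw [lin_eq a j0, map_add, map_mul, map_sum, ψ_X_self]
  have h1 : ∀ m, ψ a j0 (C (a (j0.succAbove m)) * X (j0.succAbove m)) =
      C (a (j0.succAbove m)) * X m := by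
    intro m
    rw [map_mul, ψ_X_succAbove]
    congr 1
    exact (ψ a j0).commutes _
  rw [Finset.sum_congr rfl (fun m _ => h1 m)]
  have h2 : ψ a j0 (C (a j0)) = C (a j0) := (ψ a j0).commutes _
  rw [h2, v]
  have h3 : (C (a j0) : MvPolynomial (Fin (n + 1)) k) * C (a j0)⁻¹ = 1 := by
    rw [← C_mul, mul_inv_cancel₀ ha, C_1]
  linear_combination (-(∑ m, C (a (j0.succAbove m)) * X m : MvPolynomial (Fin (n + 1)) k)) * h3

theorem ψ_surjective : Function.Surjective (ψ a j0) := by
  intro p
  refine ⟨rename j0.succAbove p, ?_⟩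
  have h : (ψ a j0).comp (rename j0.succAbove) = AlgHom.id k _ := by
    apply MvPolynomial.algHom_ext
    intro m
    rw [AlgHom.comp_apply, rename_X, ψ_X_succAbove]
    rfl
  exact congr($h p)

/-- `θ ∘ ψ ≡ id` modulo `ℓ`. -/
theorem rename_ψ_sub_mem (ha : a j0 ≠ 0) (p : MvPolynomial (Fin (n + 1 + 1)) k) :
    rename j0.succAbove (ψ a j0 p) - p ∈ Ideal.span {lin a} := by
  have h : ((Ideal.Quotient.mkₐ k (Ideal.span {lin a})).comp
      ((rename j0.succAbove).comp (ψ a j0))) =
      Ideal.Quotient.mkₐ k (Ideal.span {lin a}) := by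
    apply MvPolynomial.algHom_ext
    intro i
    rw [AlgHom.comp_apply, AlgHom.comp_apply, Ideal.Quotient.mkₐ_eq_mk, Ideal.Quotient.eq]
    rcases Fin.eq_self_or_eq_succAbove j0 i with rfl | ⟨m, rfl⟩
    · rw [ψ_X_self, v, map_mul, map_neg, map_sum]
      have h1 : ∀ m, rename i.succAbove (C (a (i.succAbove m)) * X m) =
          C (a (i.succAbove m)) * X (i.succAbove m) := by
        intro m
        rw [map_mul, rename_C, rename_X]
      rw [Finset.sum_congr rfl (fun m _ => h1 m), rename_C]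
      have h2 : (∑ m, C (a (i.succAbove m)) * X (i.succAbove m) :
          MvPolynomial (Fin (n + 1 + 1)) k) = lin a - C (a i) * X i := by
        rw [lin_eq a i]; ring
      rw [h2]
      have h3 : (C (a i)⁻¹ : MvPolynomial (Fin (n + 1 + 1)) k) * C (a i) = 1 := by
        rw [← C_mul, inv_mul_cancel₀ ha, C_1]
      have h4 : -C (a i)⁻¹ * (lin a - C (a i) * X i) - X i = -C (a i)⁻¹ * lin a := by
        linear_combination (X i : MvPolynomial (Fin (n + 1 + 1)) k) * h3
      rw [h4]
      exact Ideal.mul_mem_left _ _ (Ideal.subset_span rfl)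
    · rw [ψ_X_succAbove, rename_X, sub_self]
      exact zero_mem _
  have h2 := congr($h p)
  rw [AlgHom.comp_apply, AlgHom.comp_apply, Ideal.Quotient.mkₐ_eq_mk, Ideal.Quotient.eq] at h2
  exact h2

theorem ker_ψ (ha : a j0 ≠ 0) : RingHom.ker (ψ a j0) = Ideal.span {lin a} := by
  apply le_antisymm
  · intro p hp
    rw [RingHom.mem_ker] at hp
    have h := rename_ψ_sub_mem ha p
    rw [hp, map_zero, zero_sub] at h
    exact (neg_mem_iff.mp h)
  · rw [Ideal.span_le]
    intro p hp
    rw [Set.mem_singleton_iff] at hp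
    rw [hp]
    exact ψ_lin ha

theorem isHomogeneous_v : (v a j0).IsHomogeneous 1 := by
  rw [v]
  have h1 : (∑ m, C (a (j0.succAbove m)) * X m : MvPolynomial (Fin (n + 1)) k).IsHomogeneous 1 := by
    apply IsHomogeneous.sum
    intro m _
    have := (isHomogeneous_C (Fin (n + 1)) (a (j0.succAbove m))).mul (isHomogeneous_X k m)
    simpa using this
  have := (isHomogeneous_C (Fin (n + 1)) (-(a j0)⁻¹)).mul h1
  simpa using this

theorem isHomogeneous_img (i : Fin (n + 1 + 1)) : (img a j0 i).IsHomogeneous 1 := by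
  rcases Fin.eq_self_or_eq_succAbove j0 i with rfl | ⟨m, rfl⟩
  · rw [img, Fin.insertNth_apply_same]
    exact isHomogeneous_v
  · rw [img, Fin.insertNth_apply_succAbove]
    exact isHomogeneous_X k m

theorem isHomogeneous_ψ {d : ℕ} {F : MvPolynomial (Fin (n + 1 + 1)) k} (hF : F.IsHomogeneous d) :
    (ψ a j0 F).IsHomogeneous d := by
  have := hF.aeval (img a j0) (fun i => isHomogeneous_img i)
  rw [one_mul] at this
  exact this

omit [Field k] in
theorem eq_lin_of_isHomogeneous_one {K : Type u} [CommRing K] {N : ℕ}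
    (ℓ : MvPolynomial (Fin N) K) (hℓ : ℓ.IsHomogeneous 1) :
    ℓ = ∑ i, C (coeff (Finsupp.single i 1) ℓ) * X i := by
  classical
  ext m
  rw [coeff_sum]
  simp only [coeff_C_mul, coeff_X']
  by_cases hm : ∃ i0, Finsupp.single i0 1 = m
  · obtain ⟨i0, rfl⟩ := hm
    rw [Finset.sum_eq_single i0]
    · rw [if_pos rfl, mul_one]
    · intro i _ hi
      rw [if_neg, mul_zero]
      intro h
      exact hi (Finsupp.single_left_injective one_ne_zero h)
    · intro h
      exact absurd (Finset.mem_univ i0) h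
  · rw [Finset.sum_eq_zero]
    · by_contra hne
      have h1 : Finsupp.weight (1 : Fin N → ℕ) m = 1 := hℓ hne
      have h0 : Finsupp.weight (1 : Fin N → ℕ) m = Finsupp.degree m := by
        rw [Finsupp.degree_eq_weight_one]; rfl
      rw [h0] at h1
      have h2 : m ∈ {d : Fin N →₀ ℕ | d.degree = 1} := h1
      rw [← Finsupp.range_single_one] at h2
      obtain ⟨a', ha'⟩ := h2
      exact hm ⟨a', ha'⟩
    · intro i _
      rw [if_neg, mul_zero]
      intro h
      exact hm ⟨i, h⟩

end Groth.Agent.Lib.Helper27Hyperplane
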