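import Groth.Agent.Lib.Helper27ZeroScheme
import Groth.Agent.Lib.Helper27ClosedProj

/-!
# The zero scheme of a degree-one form on `Proj 𝒜` is `Proj (A / ℓ)` (helper27)
-/

set_option autoImplicit false
universe u

open CategoryTheory CategoryTheory.Limits AlgebraicGeometry TopologicalSpace Opposite
  HomogeneousLocalization

namespace Groth.Agent.Lib.Helper27HyperplaneProj

open Groth.Agent.Lib.Helper27GrTildeSect Groth.Agent.Helper13Dehom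
  Groth.Agent.Helper13ProjQuotIdeal Groth.Agent.Lib.Helper27ClosedProj
  Groth.Agent.Lib.Helper23.SecTw Groth.Agent.Lib.Helper23.GenLocus
  Groth.Agent.Lib.Helper23.Extend Groth.Agent.Lib.Helper6 Groth.Agent.Lib.Helper27ZeroScheme

variable {R A : Type u} [CommRing R] [CommRing A] [Algebra R A] (𝒜 : ℕ → Submodule R A)
  [GradedAlgebra 𝒜] [IsDomain A]

/-- `ℓ / f` is a non-zero-divisor on every open subset of `D₊(f)`. -/
theorem nzd_dehom {f : A} (hf : f ∈ 𝒜 1) {ℓ : A} (hℓ : ℓ ∈ 𝒜 1) (hℓ0 : ℓ ≠ 0)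
    (W' : (Proj 𝒜).Opens) (h : W' ≤ Proj.basicOpen 𝒜 f) (b : Γ(Proj 𝒜, W'))
    (hb : b * resf h (dehom hf ℓ) = 0) : b = 0 := by
  apply Groth.Agent.Helper13Dehom.fun_ext
  intro y hy
  rw [Groth.Agent.Helper13Dehom.funVal_zero, HomogeneousLocalization.val_zero]
  have h1 : funVal 𝒜 W' (b * resf h (dehom hf ℓ)) y hy = 0 := by rw [hb, Groth.Agent.Helper13Dehom.funVal_zero]
  rw [Groth.Agent.Helper13Dehom.funVal_mul] at h1
  have h2 := congrArg HomogeneousLocalization.val h1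
  rw [HomogeneousLocalization.val_mul, HomogeneousLocalization.val_zero] at h2
  have h3 : (funVal 𝒜 W' (resf h (dehom hf ℓ)) y hy).val =
      (Localization.mk ℓ (⟨f ^ 1, Groth.Agent.Helper13GrTildeFrac.pow_not_mem 1 y (h hy)⟩ :
        y.asHomogeneousIdeal.toIdeal.primeCompl) : Twist.Loc 𝒜 y) :=
    funVal_dehom hf hℓ y (h hy)
  rw [h3] at h2
  have : IsDomain (Localization y.asHomogeneousIdeal.toIdeal.primeCompl) :=
    IsLocalization.isDomain_localization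
      (Ideal.primeCompl_le_nonZeroDivisors y.asHomogeneousIdeal.toIdeal)
  rcases mul_eq_zero.mp h2 with h4 | h4
  · exact h4
  · exfalso
    rw [Localization.mk_eq_mk', IsLocalization.mk'_eq_zero_iff] at h4
    obtain ⟨m, hm⟩ := h4
    rcases mul_eq_zero.mp hm with h5 | h5
    · exact m.2 (by rw [h5]; exact zero_mem _)
    · exact hℓ0 h5

section Main

variable {B : Type u} [CommRing B] [Algebra R B] {ℬ : ℕ → Submodule R B} [GradedAlgebra ℬ]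
  (ψ : 𝒜 →+*ᵍ ℬ)
  (hψ : HomogeneousIdeal.irrelevant ℬ ≤ (HomogeneousIdeal.irrelevant 𝒜).map ψ)
  {ℓ : A} (hker : ∀ x : A, ψ x = 0 ↔ x ∈ Ideal.span {ℓ})

omit [IsDomain A] in
include hker in
theorem ker_le_span {f : A} (hf : f ∈ 𝒜 1) (x : Γ(Proj 𝒜, Proj.basicOpen 𝒜 f))
    (hx : ((Proj.map ψ hψ).app (Proj.basicOpen 𝒜 f)).hom x = 0) :
    x ∈ Ideal.span {dehom hf ℓ} := by
  obtain ⟨k, a, ha, rfl⟩ := exists_dehom_eq (ι := PUnit.{u + 1}) (f := fun _ => f)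
    (fun _ => hf) PUnit.unit x
  obtain ⟨e, he⟩ := (map_app_dehom_eq_zero_iff ψ hψ hf ha).mp hx
  obtain ⟨G, hG⟩ := Ideal.mem_span_singleton'.mp ((hker _).mp he)
  have h1 : dehom hf a = dehom hf G * dehom hf ℓ := by
    have h2 := congrArg (dehom hf) hG
    rw [map_mul, map_mul, map_pow, dehom_self, one_pow, one_mul] at h2
    exact h2.symm
  rw [h1]
  exact Ideal.mul_mem_left _ _ (Ideal.subset_span rfl)

omit [IsDomain A] in
include hker in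
theorem dehom_mem_ker {f : A} (hf : f ∈ 𝒜 1) (hℓ : ℓ ∈ 𝒜 1) :
    ((Proj.map ψ hψ).app (Proj.basicOpen 𝒜 f)).hom (dehom hf ℓ) = 0 := by
  refine (map_app_dehom_eq_zero_iff ψ hψ hf hℓ).mpr ⟨0, ?_⟩
  rw [pow_zero, one_mul]
  exact (hker ℓ).mpr (Ideal.subset_span rfl)

include hker in
theorem zeroScheme_eq_ker [IsClosedImmersion (Proj.map ψ hψ)] {ι : Type u} (f : ι → A)
    (hf : ∀ j, f j ∈ 𝒜 1) (hcov : ⨆ j, Proj.basicOpen 𝒜 (f j) = ⊤)
    (hℓ : ℓ ∈ 𝒜 1) (hℓ0 : ℓ ≠ 0)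
    (s : Coh.structureModule (Proj 𝒜) ⟶ GrTilde.tilde 𝒜 𝒜 ((1 : ℕ) : ℤ))
    (hs : sv s ⊤ = gsec 𝒜 1 ⊤ hℓ) :
    PicF2.zeroScheme (GrTilde.tilde 𝒜 𝒜 ((1 : ℕ) : ℤ)) s = (Proj.map ψ hψ).ker := by
  have he : ∀ j, IsGen (GrTilde.tilde 𝒜 𝒜 ((1 : ℕ) : ℤ)) (Proj.basicOpen 𝒜 (f j))
      (gsec 𝒜 1 (Proj.basicOpen 𝒜 (f j)) (pow_mem_deg (hf j) 1)) := fun j =>
    (isGen_gsec 𝒜 1 (pow_mem_deg (hf j) 1)).mono (basicOpen_le_basicOpen_pow 𝒜 (f j) 1)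
  have hc : ∀ j, sv s (Proj.basicOpen 𝒜 (f j)) =
      dehom (hf j) ℓ • gsec 𝒜 1 (Proj.basicOpen 𝒜 (f j)) (pow_mem_deg (hf j) 1) := by
    intro j
    rw [← res_sv s (le_top : Proj.basicOpen 𝒜 (f j) ≤ ⊤), hs, res_gsec,
      gsec_eq_dehom_smul 𝒜 (hf j) 1 hℓ]
  have hU : ∀ j, IsAffineOpen (Proj.basicOpen 𝒜 (f j)) := fun j =>
    Proj.isAffineOpen_basicOpen 𝒜 (f j) (hf j) one_pos
  have hkerU : ∀ j, (Proj.map ψ hψ).ker.ideal ⟨Proj.basicOpen 𝒜 (f j), hU j⟩ =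
      RingHom.ker ((Proj.map ψ hψ).app (Proj.basicOpen 𝒜 (f j))).hom := fun j =>
    Scheme.Hom.ker_apply (Proj.map ψ hψ) ⟨Proj.basicOpen 𝒜 (f j), hU j⟩
  apply le_antisymm
  · refine zeroScheme_le _ s (fun j => Proj.basicOpen 𝒜 (f j)) _ he _ hc _ hU hcov (fun j => ?_)
    rw [hkerU j, RingHom.mem_ker]
    exact dehom_mem_ker 𝒜 ψ hψ hker (hf j) hℓ
  · refine le_zeroScheme _ s (fun j => Proj.basicOpen 𝒜 (f j)) _ he _ hc _
      (fun x => ?_) (fun j => nzd_dehom 𝒜 (hf j) hℓ hℓ0) ?_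
    · have hx : x ∈ (⨆ j, Proj.basicOpen 𝒜 (f j) : (Proj 𝒜).Opens) := by rw [hcov]; trivial
      exact Opens.mem_iSup.mp hx
    · intro V a ha j x hxV hxU
      obtain ⟨f', g, hfg, hxf⟩ := exists_basicOpen_le_affine_inter V.2 (hU j) x ⟨hxV, hxU⟩
      have hNW : (Proj 𝒜).basicOpen g ≤ Proj.basicOpen 𝒜 (f j) := (Proj 𝒜).basicOpen_le g
      have hNV : (Proj 𝒜).basicOpen g ≤ V.1 := hfg ▸ (Proj 𝒜).basicOpen_le f'
      refine ⟨(Proj 𝒜).basicOpen g, hNV, hNW, hfg ▸ hxf, ?_⟩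
      let Uj : (Proj 𝒜).affineOpens := ⟨Proj.basicOpen 𝒜 (f j), hU j⟩
      have h1 : resf hNV a ∈ (Proj.map ψ hψ).ker.ideal ((Proj 𝒜).affineBasicOpen (U := Uj) g) :=
        (Proj.map ψ hψ).ker.ideal_le_comap_ideal
          (U := (Proj 𝒜).affineBasicOpen (U := Uj) g) (V := V) hNV ha
      rw [← (Proj.map ψ hψ).ker.map_ideal_basicOpen Uj g] at h1
      have h2 : (Proj.map ψ hψ).ker.ideal Uj ≤ Ideal.span {dehom (hf j) ℓ} := by
        intro y hy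
        rw [hkerU j, RingHom.mem_ker] at hy
        exact ker_le_span 𝒜 ψ hψ hker (hf j) y hy
      have h3 := Ideal.map_mono (f := ((Proj 𝒜).presheaf.map
        (homOfLE ((Proj 𝒜).basicOpen_le g)).op).hom) h2 h1
      rw [Ideal.map_span, Set.image_singleton] at h3
      obtain ⟨b, hb⟩ := Ideal.mem_span_singleton'.mp h3
      exact ⟨b, hb.symm⟩

end Main

end Groth.Agent.Lib.Helper27HyperplaneProj
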