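import Groth.Agent.Lib.Helper27ClosedProj

/-!
# `(Proj.map φ)^* O(1) ≅ O(1)` (helper27)
-/

set_option autoImplicit false
universe u

open CategoryTheory CategoryTheory.Limits AlgebraicGeometry TopologicalSpace Opposite
  HomogeneousLocalization

namespace Groth.Agent.Lib.Helper27ProjMapTwist

open Groth.Agent.Lib.Helper27GrTildeSect Groth.Agent.Helper13Dehom
  Groth.Agent.Helper13ProjQuotIdeal Groth.Agent.Lib.Helper27ClosedProj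
  Groth.Agent.Lib.Helper23.SecTw Groth.Agent.Lib.Helper23.GenLocus
  Groth.Agent.Lib.Helper23.Extend Groth.Agent.Lib.Helper6 Groth.Agent.Helper13PullbackUnit
  Groth.Agent.Lib.Helper27PullGen

variable {R A B : Type u} [CommRing R] [CommRing A] [Algebra R A] {𝒜 : ℕ → Submodule R A}
  [GradedAlgebra 𝒜] [CommRing B] [Algebra R B] {ℬ : ℕ → Submodule R B} [GradedAlgebra ℬ]
  (φ : 𝒜 →+*ᵍ ℬ)
  (hφ : HomogeneousIdeal.irrelevant ℬ ≤ (HomogeneousIdeal.irrelevant 𝒜).map φ)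

/-- `(Proj.map φ)^♯ (a / g^k) = φ a / (φ g)^k`. -/
theorem map_app_dehom {g : A} (hg : g ∈ 𝒜 1) {k : ℕ} {a : A} (ha : a ∈ 𝒜 k) :
    ((Proj.map φ hφ).app (Proj.basicOpen 𝒜 g)).hom (dehom hg a) =
      dehom (Graded.map_mem φ hg) (φ a) := by
  have ha' : a ∈ 𝒜 (k • 1) := by simpa using ha
  rw [dehom_eq_awayToSection hg ha',
    dehom_eq_awayToSection (Graded.map_mem φ hg) (Graded.map_mem φ ha')]
  have h1 := Proj.awayToSection_comp_appLE φ hφ hg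
  have h2 := CategoryTheory.congr_fun h1 (Away.mk 𝒜 hg k a ha')
  rw [ConcreteCategory.comp_apply, ConcreteCategory.comp_apply] at h2
  have h3 : ((Proj.map φ hφ).app (Proj.basicOpen 𝒜 g)).hom
      ((Proj.awayToSection 𝒜 g).hom (Away.mk 𝒜 hg k a ha')) =
      (Proj.awayToSection ℬ (φ g)).hom (Away.map φ g (Away.mk 𝒜 hg k a ha')) := h2
  exact h3.trans (congrArg _ (Away.map_mk φ g hg k a ha'))

variable (𝒜) in
/-- the transition of the frames `G i / 1` of `O(1)`. -/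
theorem res_gsec_eq_smul {ι : Type*} (G : ι → A) (hG : ∀ i, G i ∈ 𝒜 1) (i k : ι) :
    res (GrTilde.tilde 𝒜 𝒜 ((1 : ℕ) : ℤ))
        (inf_le_left : Proj.basicOpen 𝒜 (G i) ⊓ Proj.basicOpen 𝒜 (G k) ≤ _)
        (gsec 𝒜 1 (Proj.basicOpen 𝒜 (G i)) (pow_mem_deg (hG i) 1)) =
      resf (inf_le_right : Proj.basicOpen 𝒜 (G i) ⊓ Proj.basicOpen 𝒜 (G k) ≤ _)
          (dehom (hG k) (G i ^ 1)) •
        res (GrTilde.tilde 𝒜 𝒜 ((1 : ℕ) : ℤ))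
          (inf_le_right : Proj.basicOpen 𝒜 (G i) ⊓ Proj.basicOpen 𝒜 (G k) ≤ _)
          (gsec 𝒜 1 (Proj.basicOpen 𝒜 (G k)) (pow_mem_deg (hG k) 1)) := by
  have h1 := congrArg (res (GrTilde.tilde 𝒜 𝒜 ((1 : ℕ) : ℤ))
    (inf_le_right : Proj.basicOpen 𝒜 (G i) ⊓ Proj.basicOpen 𝒜 (G k) ≤ _))
    (gsec_eq_dehom_smul 𝒜 (hG k) 1 (pow_mem_deg (hG i) 1))
  rw [res_smul] at h1
  exact h1

theorem nonempty_pullback_twist_one_iso {ι : Type*} (G : ι → A) (hG : ∀ i, G i ∈ 𝒜 1)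
    (hcov : ⨆ i, Proj.basicOpen 𝒜 (G i) = ⊤) :
    Nonempty ((Scheme.Modules.pullback (Proj.map φ hφ)).obj (GrTilde.tilde 𝒜 𝒜 ((1 : ℕ) : ℤ)) ≅
      GrTilde.tilde ℬ ℬ ((1 : ℕ) : ℤ)) := by
  haveI : (GrTilde.tilde 𝒜 𝒜 ((1 : ℕ) : ℤ)).IsQuasicoherent := isQuasicoherent_tilde 𝒜 𝒜 _
  have hH : ∀ i, φ (G i) ∈ ℬ 1 := fun i => Graded.map_mem φ (hG i)
  let a : ∀ i, Γ((Scheme.Modules.pullback (Proj.map φ hφ)).obj (GrTilde.tilde 𝒜 𝒜 ((1 : ℕ) : ℤ)),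
      Proj.map φ hφ ⁻¹ᵁ Proj.basicOpen 𝒜 (G i)) := fun i =>
    unitSec (Proj.map φ hφ) (GrTilde.tilde 𝒜 𝒜 ((1 : ℕ) : ℤ))
      (le_refl (Proj.map φ hφ ⁻¹ᵁ Proj.basicOpen 𝒜 (G i)))
      (gsec 𝒜 1 (Proj.basicOpen 𝒜 (G i)) (pow_mem_deg (hG i) 1))
  let b : ∀ i, Γ(GrTilde.tilde ℬ ℬ ((1 : ℕ) : ℤ), Proj.map φ hφ ⁻¹ᵁ Proj.basicOpen 𝒜 (G i)) :=
    fun i => gsec ℬ 1 (Proj.basicOpen ℬ (φ (G i))) (pow_mem_deg (hH i) 1)
  have ha : ∀ i, IsGen _ _ (a i) := fun i => isGen_unitSec_pow 𝒜 (Proj.map φ hφ) (hG i) 1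
  have hb : ∀ i, IsGen _ _ (b i) := fun i =>
    (isGen_gsec ℬ 1 (pow_mem_deg (hH i) 1)).mono (basicOpen_le_basicOpen_pow ℬ (φ (G i)) 1)
  have hcovW : ∀ x : Proj ℬ, ∃ i, x ∈ Proj.map φ hφ ⁻¹ᵁ Proj.basicOpen 𝒜 (G i) := by
    intro x
    have hx : (Proj.map φ hφ).base x ∈ (⨆ i, Proj.basicOpen 𝒜 (G i) : (Proj 𝒜).Opens) := by
      rw [hcov]; trivial
    obtain ⟨i, hi⟩ := Opens.mem_iSup.mp hx
    exact ⟨i, hi⟩
  obtain ⟨Φ, -⟩ := exists_iso_of_frames _ _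
    (fun i => Proj.map φ hφ ⁻¹ᵁ Proj.basicOpen 𝒜 (G i)) hcovW a b ha hb (by
      intro i k g hg
      -- the transition of the pulled-back frames
      have u1 := unitSec_res (Proj.map φ hφ) (GrTilde.tilde 𝒜 𝒜 ((1 : ℕ) : ℤ))
        (inf_le_left : Proj.basicOpen 𝒜 (G i) ⊓ Proj.basicOpen 𝒜 (G k) ≤ _)
        (le_refl (Proj.map φ hφ ⁻¹ᵁ (Proj.basicOpen 𝒜 (G i) ⊓ Proj.basicOpen 𝒜 (G k))))
        (gsec 𝒜 1 (Proj.basicOpen 𝒜 (G i)) (pow_mem_deg (hG i) 1))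
      have u2 := unitSec_res (Proj.map φ hφ) (GrTilde.tilde 𝒜 𝒜 ((1 : ℕ) : ℤ))
        (inf_le_right : Proj.basicOpen 𝒜 (G i) ⊓ Proj.basicOpen 𝒜 (G k) ≤ _)
        (le_refl (Proj.map φ hφ ⁻¹ᵁ (Proj.basicOpen 𝒜 (G i) ⊓ Proj.basicOpen 𝒜 (G k))))
        (gsec 𝒜 1 (Proj.basicOpen 𝒜 (G k)) (pow_mem_deg (hG k) 1))
      have s1 : res _ (inf_le_left : Proj.map φ hφ ⁻¹ᵁ Proj.basicOpen 𝒜 (G i) ⊓
            Proj.map φ hφ ⁻¹ᵁ Proj.basicOpen 𝒜 (G k) ≤ _) (a i) =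
          (Proj.map φ hφ).appLE (Proj.basicOpen 𝒜 (G i) ⊓ Proj.basicOpen 𝒜 (G k))
            (Proj.map φ hφ ⁻¹ᵁ Proj.basicOpen 𝒜 (G i) ⊓
              Proj.map φ hφ ⁻¹ᵁ Proj.basicOpen 𝒜 (G k)) le_rfl
            (resf (inf_le_right : Proj.basicOpen 𝒜 (G i) ⊓ Proj.basicOpen 𝒜 (G k) ≤ _)
              (dehom (hG k) (G i ^ 1))) •
          res _ (inf_le_right : Proj.map φ hφ ⁻¹ᵁ Proj.basicOpen 𝒜 (G i) ⊓
            Proj.map φ hφ ⁻¹ᵁ Proj.basicOpen 𝒜 (G k) ≤ _) (a k) := by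
        refine u1.symm.trans ?_
        rw [res_gsec_eq_smul 𝒜 G hG i k, unitSec_smul]
        congr 1
      have hgP : g = (Proj.map φ hφ).appLE (Proj.basicOpen 𝒜 (G i) ⊓ Proj.basicOpen 𝒜 (G k))
            (Proj.map φ hφ ⁻¹ᵁ Proj.basicOpen 𝒜 (G i) ⊓
              Proj.map φ hφ ⁻¹ᵁ Proj.basicOpen 𝒜 (G k)) le_rfl
            (resf (inf_le_right : Proj.basicOpen 𝒜 (G i) ⊓ Proj.basicOpen 𝒜 (G k) ≤ _)
              (dehom (hG k) (G i ^ 1))) := by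
        apply ((ha k).mono (inf_le_right : Proj.map φ hφ ⁻¹ᵁ Proj.basicOpen 𝒜 (G i) ⊓
          Proj.map φ hφ ⁻¹ᵁ Proj.basicOpen 𝒜 (G k) ≤ _) _ le_rfl).1
        change g • res _ le_rfl (res _ _ (a k)) = _ • res _ le_rfl (res _ _ (a k))
        rw [res_self, ← hg, s1]
      have e1 : (Proj.map φ hφ).appLE (Proj.basicOpen 𝒜 (G i) ⊓ Proj.basicOpen 𝒜 (G k))
            (Proj.map φ hφ ⁻¹ᵁ Proj.basicOpen 𝒜 (G i) ⊓
              Proj.map φ hφ ⁻¹ᵁ Proj.basicOpen 𝒜 (G k)) le_rfl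
            (resf (inf_le_right : Proj.basicOpen 𝒜 (G i) ⊓ Proj.basicOpen 𝒜 (G k) ≤ _)
              (dehom (hG k) (G i ^ 1))) =
          resf (inf_le_right : Proj.map φ hφ ⁻¹ᵁ Proj.basicOpen 𝒜 (G i) ⊓
              Proj.map φ hφ ⁻¹ᵁ Proj.basicOpen 𝒜 (G k) ≤ _)
            ((Proj.map φ hφ).appLE (Proj.basicOpen 𝒜 (G k))
              (Proj.map φ hφ ⁻¹ᵁ Proj.basicOpen 𝒜 (G k)) le_rfl (dehom (hG k) (G i ^ 1))) := by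
        have h1 := Scheme.Hom.map_appLE (Proj.map φ hφ)
          (le_refl (Proj.map φ hφ ⁻¹ᵁ Proj.basicOpen 𝒜 (G i) ⊓
              Proj.map φ hφ ⁻¹ᵁ Proj.basicOpen 𝒜 (G k)))
          (homOfLE (inf_le_right : Proj.basicOpen 𝒜 (G i) ⊓ Proj.basicOpen 𝒜 (G k) ≤ _)).op
        have h2 := Scheme.Hom.appLE_map (Proj.map φ hφ)
          (le_refl (Proj.map φ hφ ⁻¹ᵁ Proj.basicOpen 𝒜 (G k)))
          (homOfLE (inf_le_right : Proj.map φ hφ ⁻¹ᵁ Proj.basicOpen 𝒜 (G i) ⊓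
              Proj.map φ hφ ⁻¹ᵁ Proj.basicOpen 𝒜 (G k) ≤ _)).op
        exact (congr($h1 (dehom (hG k) (G i ^ 1)))).trans
          (congr($h2 (dehom (hG k) (G i ^ 1)))).symm
      have e2 : (Proj.map φ hφ).appLE (Proj.basicOpen 𝒜 (G k))
            (Proj.map φ hφ ⁻¹ᵁ Proj.basicOpen 𝒜 (G k)) le_rfl (dehom (hG k) (G i ^ 1)) =
          dehom (hH k) (φ (G i) ^ 1) := by
        rw [Scheme.Hom.appLE_eq_app]
        have := map_app_dehom φ hφ (hG k) (pow_mem_deg (hG i) 1)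
        have hp : φ (G i ^ 1) = φ (G i) ^ 1 := map_pow φ _ _
        rw [hp] at this
        exact this
      rw [hgP, e1, e2]
      exact res_gsec_eq_smul ℬ (fun i => φ (G i)) hH i k)
  exact ⟨Φ⟩

end Groth.Agent.Lib.Helper27ProjMapTwist
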