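import Groth.Agent.Lib.Helper27Hyperplane
import Groth.Agent.Lib.Helper27HyperplaneProj
import Groth.Agent.Lib.Helper27ProjMapTwist
import Groth.Agent.Lib.Helper27PnSections

/-!
# A hyperplane in `P^{n+1}_k` is `P^n_k`, with `O(1)` restricting to `O(1)` (helper27)
-/

set_option autoImplicit false
universe u

open CategoryTheory CategoryTheory.Limits AlgebraicGeometry TopologicalSpace Opposite
  HomogeneousLocalization MvPolynomial

namespace Groth.Agent.Lib.Helper27HyperplaneFinal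

open Groth.Agent.Lib.Helper27GrTildeSect Groth.Agent.Helper13Dehom
  Groth.Agent.Helper13ProjQuotIdeal Groth.Agent.Lib.Helper27ClosedProj
  Groth.Agent.Lib.Helper23.SecTw Groth.Agent.Lib.Helper23.GenLocus
  Groth.Agent.Lib.Helper23.Extend Groth.Agent.Lib.Helper6
  Groth.Agent.Lib.Helper27Hyperplane Groth.Agent.Lib.Helper27HyperplaneProj
  Groth.Agent.Lib.Helper27ProjMapTwist Groth.Agent.Lib.Helper27PnSections
  Groth.Agent.Lib.Helper27ProjGamma

variable (k : Type u) [Field k] (n : ℕ)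

/-- the graded substitution. -/
noncomputable def ψg (a : Fin (n + 1 + 1) → k) (j0 : Fin (n + 1 + 1)) :
    CohB1.polyGrading (n + 1) k →+*ᵍ CohB1.polyGrading n k :=
  { toRingHom := (ψ a j0 : MvPolynomial (Fin (n + 1 + 1)) k →+* MvPolynomial (Fin (n + 1)) k)
    map_mem := fun {_ _} hx => isHomogeneous_ψ hx }

theorem ψg_apply (a : Fin (n + 1 + 1) → k) (j0 : Fin (n + 1 + 1))
    (x : MvPolynomial (Fin (n + 1 + 1)) k) : ψg k n a j0 x = ψ a j0 x := rfl

theorem exists_iso_hyperplane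
    (s : Coh.structureModule (Proj (CohB1.polyGrading (n + 1) k)) ⟶
      GrTilde.tilde (CohB1.polyGrading (n + 1) k) (CohB1.polyGrading (n + 1) k) ((1 : ℕ) : ℤ))
    (hs : s ≠ 0) :
    ∃ φ : Proj (CohB1.polyGrading n k) ≅ (PicF2.zeroScheme
        (GrTilde.tilde (CohB1.polyGrading (n + 1) k) (CohB1.polyGrading (n + 1) k) ((1 : ℕ) : ℤ))
          s).subscheme,
      Nonempty ((Scheme.Modules.pullback (φ.hom ≫ (PicF2.zeroScheme
        (GrTilde.tilde (CohB1.polyGrading (n + 1) k) (CohB1.polyGrading (n + 1) k) ((1 : ℕ) : ℤ))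
          s).subschemeι)).obj
        (GrTilde.tilde (CohB1.polyGrading (n + 1) k) (CohB1.polyGrading (n + 1) k) ((1 : ℕ) : ℤ)) ≅
        GrTilde.tilde (CohB1.polyGrading n k) (CohB1.polyGrading n k) ((1 : ℕ) : ℤ)) := by
  obtain ⟨ℓ, hℓ, hσ⟩ := exists_global_poly (n + 1) k 1 (sv s ⊤)
  have hℓ0 : ℓ ≠ 0 := by
    rintro rfl
    apply hs
    apply hom_ext_of_sv
    rw [hσ, sv_zero]
    exact fracSec_zero (CohB1.polyGrading (n + 1) k) _ ⊤ _ _ _
  -- the coefficients
  have hlin := eq_lin_of_isHomogeneous_one ℓ hℓ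
  set a : Fin (n + 1 + 1) → k := fun i => coeff (Finsupp.single i 1) ℓ with ha
  have hlin' : ℓ = lin a := hlin
  obtain ⟨j0, hj0⟩ : ∃ j0, a j0 ≠ 0 := by
    by_contra hcon
    push Not at hcon
    apply hℓ0
    rw [hlin', lin]
    exact Finset.sum_eq_zero (fun i _ => by rw [hcon i, C_0, zero_mul])
  have hψs : Function.Surjective (ψg k n a j0) := ψ_surjective
  have hψ := irrelevant_le_map (ψg k n a j0) hψs
  have : IsClosedImmersion (Proj.map (ψg k n a j0) hψ) :=
    Groth.Agent.Lib.Helper27ProjClosed.isClosedImmersion_map _ hψs hψ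
  have hker : ∀ x : MvPolynomial (Fin (n + 1 + 1)) k,
      ψg k n a j0 x = 0 ↔ x ∈ Ideal.span {ℓ} := by
    intro x
    rw [ψg_apply, ← RingHom.mem_ker, ker_ψ hj0, hlin']
  let f : ULift.{u} (Fin (n + 1 + 1)) → MvPolynomial (Fin (n + 1 + 1)) k := fun j => X j.down
  have hf : ∀ j, f j ∈ CohB1.polyGrading (n + 1) k 1 := fun j => hX (n + 1) k j.down
  have hcov : ⨆ j, Proj.basicOpen (CohB1.polyGrading (n + 1) k) (f j) = ⊤ := by
    rw [eq_top_iff]
    intro y _
    obtain ⟨j, hj⟩ := exists_X_not_mem (n + 1) k y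
    exact Opens.mem_iSup.mpr ⟨⟨j⟩, (ProjectiveSpectrum.mem_basicOpen _ (X j) y).mpr hj⟩
  have hZ := zeroScheme_eq_ker (CohB1.polyGrading (n + 1) k) (ψg k n a j0) hψ hker f hf hcov
    hℓ hℓ0 s hσ
  -- the isomorphism
  have hker' : (Proj.map (ψg k n a j0) hψ).ker =
      ((PicF2.zeroScheme (GrTilde.tilde (CohB1.polyGrading (n + 1) k)
        (CohB1.polyGrading (n + 1) k) ((1 : ℕ) : ℤ)) s).subschemeι).ker := by
    rw [Scheme.IdealSheafData.ker_subschemeι, hZ]
  have hiso := IsClosedImmersion.isIso_lift (Proj.map (ψg k n a j0) hψ)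
    ((PicF2.zeroScheme (GrTilde.tilde (CohB1.polyGrading (n + 1) k)
        (CohB1.polyGrading (n + 1) k) ((1 : ℕ) : ℤ)) s).subschemeι) hker'
  have hfac := IsClosedImmersion.lift_fac (Proj.map (ψg k n a j0) hψ)
    ((PicF2.zeroScheme (GrTilde.tilde (CohB1.polyGrading (n + 1) k)
        (CohB1.polyGrading (n + 1) k) ((1 : ℕ) : ℤ)) s).subschemeι) hker'.le
  refine ⟨(asIso (IsClosedImmersion.lift (Proj.map (ψg k n a j0) hψ)
    ((PicF2.zeroScheme (GrTilde.tilde (CohB1.polyGrading (n + 1) k)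
        (CohB1.polyGrading (n + 1) k) ((1 : ℕ) : ℤ)) s).subschemeι) hker'.le)).symm, ?_⟩
  have hcomp : (asIso (IsClosedImmersion.lift (Proj.map (ψg k n a j0) hψ)
      ((PicF2.zeroScheme (GrTilde.tilde (CohB1.polyGrading (n + 1) k)
        (CohB1.polyGrading (n + 1) k) ((1 : ℕ) : ℤ)) s).subschemeι) hker'.le)).symm.hom ≫
      (PicF2.zeroScheme (GrTilde.tilde (CohB1.polyGrading (n + 1) k)
        (CohB1.polyGrading (n + 1) k) ((1 : ℕ) : ℤ)) s).subschemeι =
      Proj.map (ψg k n a j0) hψ := by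
    rw [Iso.symm_hom, asIso_inv, IsIso.inv_comp_eq, hfac]
  rw [hcomp]
  exact nonempty_pullback_twist_one_iso (ψg k n a j0) hψ
    (fun j : Fin (n + 1 + 1) => (X j : MvPolynomial (Fin (n + 1 + 1)) k))
    (fun j => hX (n + 1) k j)
    (by
      rw [eq_top_iff]
      intro y _
      obtain ⟨j, hj⟩ := exists_X_not_mem (n + 1) k y
      exact Opens.mem_iSup.mpr ⟨j, (ProjectiveSpectrum.mem_basicOpen _ (X j) y).mpr hj⟩)

end Groth.Agent.Lib.Helper27HyperplaneFinal
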