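import Groth.Agent.Lib.Helper27HyperplaneFinal

/-!
# A hyperplane in `P^{n+1}_k` is `P^n_k`: restatement for the frozen names (helper27)
-/

set_option autoImplicit false
universe u

open CategoryTheory CategoryTheory.Limits AlgebraicGeometry TopologicalSpace Opposite

namespace Groth.Agent.Lib.Helper27HyperplaneFinal

theorem twist_eq (k : Type u) [Field k] (n : ℕ) (d : ℤ) :
    Twist.twistProjSpace n k d =
      GrTilde.tilde (CohB1.polyGrading n k) (CohB1.polyGrading n k) d := rfl

theorem twist_one_eq (k : Type u) [Field k] (n : ℕ) :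
    Twist.twistProjSpace n k 1 =
      GrTilde.tilde (CohB1.polyGrading n k) (CohB1.polyGrading n k) ((1 : ℕ) : ℤ) :=
  (twist_eq k n 1).trans
    (congrArg (GrTilde.tilde (CohB1.polyGrading n k) (CohB1.polyGrading n k)) Nat.cast_one.symm)

theorem exists_iso_hyperplane' (k : Type u) [Field k] (n : ℕ)
    (L : (Proj (CohB1.polyGrading (n + 1) k)).Modules)
    (hL : L = GrTilde.tilde (CohB1.polyGrading (n + 1) k) (CohB1.polyGrading (n + 1) k)
      ((1 : ℕ) : ℤ))
    (L' : (Proj (CohB1.polyGrading n k)).Modules)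
    (hL' : L' = GrTilde.tilde (CohB1.polyGrading n k) (CohB1.polyGrading n k) ((1 : ℕ) : ℤ))
    (s : Coh.structureModule (Proj (CohB1.polyGrading (n + 1) k)) ⟶ L) (hs : s ≠ 0) :
    ∃ φ : Proj (CohB1.polyGrading n k) ≅ (PicF2.zeroScheme L s).subscheme,
      Nonempty ((Scheme.Modules.pullback (φ.hom ≫ (PicF2.zeroScheme L s).subschemeι)).obj L ≅
        L') := by
  subst hL hL'
  exact exists_iso_hyperplane k n s hs

end Groth.Agent.Lib.Helper27HyperplaneFinal
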