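import Groth.Agent.Lib.Helper27H0Tools
import Groth.Agent.Lib.Helper27GlobGenPn
import Groth.Agent.Lib.Helper27KoszHom
import Groth.Agent.Lib.Helper27MumfordReg
import Groth.Agent.Lib.Helper27HypDim
import Groth.Agent.Lib.Helper13ProjUPb
import Groth.Agent.Lib.Helper27HypSES

/-!
# Twists of an ideal sheaf on `P^n`: `H^0(J(d)) ↪ H^0(J(d+1))` (helper27)
-/

set_option autoImplicit false
universe u
open CategoryTheory CategoryTheory.Limits AlgebraicGeometry TopologicalSpace Opposite MvPolynomial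

namespace Groth.Agent.Lib.Helper27IdealTwist

open Groth.Agent.Lib.Helper27PnHom Groth.Agent.Lib.Helper27KoszHom
  Groth.Agent.Lib.Helper27PnLau Groth.Agent.Lib.Helper27PnLauMul
  Groth.Agent.Lib.Helper27GlobGenPn Groth.Agent.Lib.Helper27H0Tools
  Groth.Agent.Lib.Helper27SerreVan Groth.Agent.Lib.Helper23.QCohLocal
  Groth.Agent.Lib.Helper23.SecTw Groth.Agent.Lib.Helper6 Groth.Agent.Lib.Helper23.Extend

section Mul

variable {n : ℕ} {R : Type u} [CommRing R]

local notation "𝒢" => CohB1.polyGrading n R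
local notation "σ'" => Fin (n + 1)

/-- multiplication by `x₀`, `O(d) ⟶ O(d + 1)`. -/
noncomputable def mulX (d : ℤ) : OO n R d ⟶ OO n R (d + 1) :=
  mulF 1 (by norm_num) (X 0) (X_mem 0)

theorem injective_mulX_app_top (d : ℤ) :
    Function.Injective ((mulX (n := n) (R := R) d).app ⊤) := by
  intro s t hst
  apply Groth.Agent.Helper13ProjUP.sec_ext_cover (OO n R d) (fun i : σ' => Ui n R i)
    (cover_Ui n R) s t
  intro i
  apply lau_injective d (Finsupp.single i 1) (Ui n R i) rfl (by simp) (torus_le_Ui n R i)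
  have h1 : ∀ u : Γ(OO n R d, ⊤),
      lau (d + 1) (Ui n R i) (torus_le_Ui n R i)
        ((mulX (n := n) (R := R) d).app (Ui n R i) (res (OO n R d) le_top u)) =
      toL (X 0 : MvPolynomial σ' R) * lau d (Ui n R i) (torus_le_Ui n R i)
        (res (OO n R d) le_top u) := by
    intro u
    rw [lau_app, mulX, sym_mulF]
  have h2 : (mulX (n := n) (R := R) d).app (Ui n R i) (res (OO n R d) le_top s) =
      (mulX (n := n) (R := R) d).app (Ui n R i) (res (OO n R d) le_top t) := by
    have e1 := app_map (mulX (n := n) (R := R) d) (homOfLE (le_top : Ui n R i ≤ ⊤)) s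
    have e2 := app_map (mulX (n := n) (R := R) d) (homOfLE (le_top : Ui n R i ≤ ⊤)) t
    exact e1.trans ((congrArg _ hst).trans e2.symm)
  have h3 := (h1 s).symm.trans ((congrArg _ h2).trans (h1 t))
  have hu : (toL (X 0 : MvPolynomial σ' R)) *
      AddMonoidAlgebra.single (-(ev 0 (1 : ℤ))) 1 = 1 := by
    rw [toL_X]
    exact single_ev_mul 0 1
  calc lau d (Ui n R i) (torus_le_Ui n R i) (res (OO n R d) le_top s)
      = (AddMonoidAlgebra.single (-(ev 0 (1 : ℤ))) 1 * toL (X 0 : MvPolynomial σ' R)) *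
          lau d (Ui n R i) (torus_le_Ui n R i) (res (OO n R d) le_top s) := by
        rw [mul_comm (AddMonoidAlgebra.single _ _), hu, one_mul]
    _ = (AddMonoidAlgebra.single (-(ev 0 (1 : ℤ))) 1 * toL (X 0 : MvPolynomial σ' R)) *
          lau d (Ui n R i) (torus_le_Ui n R i) (res (OO n R d) le_top t) := by
        rw [mul_assoc, h3, ← mul_assoc]
    _ = lau d (Ui n R i) (torus_le_Ui n R i) (res (OO n R d) le_top t) := by
        rw [mul_comm (AddMonoidAlgebra.single _ _), hu, one_mul]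

end Mul

section General

variable {X : Scheme.{u}}

/-- the map on global sections of the underlying abelian sheaves. -/
noncomputable abbrev T {M N : X.Modules} (f : M ⟶ N) :=
  (((toAbF X).map f).hom.app (op (⊤ : Opens X))).hom

theorem T_comp {M N P : X.Modules} (f : M ⟶ N) (g : N ⟶ P) (x) :
    T (f ≫ g) x = T g (T f x) := by
  unfold T
  rw [Functor.map_comp]
  rfl

theorem T_injective_of_comp {M N P : X.Modules} (f : M ⟶ N) (g : N ⟶ P)
    (h : Function.Injective (T (f ≫ g))) : Function.Injective (T f) := by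
  intro a b hab
  apply h
  rw [T_comp, T_comp, hab]

theorem T_injective_comp {M N P : X.Modules} (f : M ⟶ N) (g : N ⟶ P)
    (hf : Function.Injective (T f)) (hg : Function.Injective (T g)) :
    Function.Injective (T (f ≫ g)) := by
  intro a b hab
  rw [T_comp, T_comp] at hab
  exact hf (hg hab)

theorem T_injective_of_mono {M N : X.Modules} (f : M ⟶ N) [Mono f] : Function.Injective (T f) :=
  injective_toAb_app_of_mono f ⊤

theorem T_eq_app {M N : X.Modules} (f : M ⟶ N) (x : Γ(M, ⊤)) : T f x = f.app ⊤ x := rfl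

end General

section Ideal

variable {n : ℕ} {R : Type u} [CommRing R]

local notation "𝒢" => CohB1.polyGrading n R

/-- `H^0(J(d + 1)) = 0` implies `H^0(J(d)) = 0` for a submodule `J` of `O`. -/
theorem subsingleton_HH_zero_of_succ (J : (Proj 𝒢).Modules)
    (ι : J ⟶ Coh.structureModule (Proj 𝒢)) [Mono ι] (d : ℤ)
    (h : Subsingleton (Coh.HH (Proj 𝒢) (CohB1.tensorMod J (OO n R (d + 1))) 0)) :
    Subsingleton (Coh.HH (Proj 𝒢) (CohB1.tensorMod J (OO n R d)) 0) := by
  obtain ⟨η, hη⟩ := exists_eta (Coh.structureModule (Proj 𝒢)) (Iso.refl _)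
  have hinv : ∀ e : ℤ, PicF.IsInvertible (OO n R e) := fun e =>
    Groth.Agent.Lib.Helper27GrTildeSect.isInvertible_tilde 𝒢
      (Groth.Agent.Lib.Helper27PnMor.cover_X n R) e
  have hm : ∀ e : ℤ, Mono (wl ι (OO n R e)) := by
    intro e
    haveI := preservesFiniteLimits_tw (OO n R e) (hinv e)
    exact (Groth.Agent.Lib.Helper27SerreVan.tw (OO n R e)).map_mono ι
  have sq : wr J (mulX (n := n) (R := R) d) ≫ (wl ι (OO n R (d + 1)) ≫ (η _).hom) =
      (wl ι (OO n R d) ≫ (η _).hom) ≫ mulX (n := n) (R := R) d := by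
    rw [← Category.assoc, ← interchange, Category.assoc, hη, Category.assoc]
  refine subsingleton_HH_zero_of_injective (wr J (mulX (n := n) (R := R) d)) ?_ h
  apply T_injective_of_comp _ (wl ι (OO n R (d + 1)) ≫ (η _).hom)
  rw [sq]
  apply T_injective_comp
  · haveI := hm d
    exact T_injective_of_mono _
  · intro a b hab
    exact injective_mulX_app_top d hab

theorem subsingleton_HH_zero_of_le (J : (Proj 𝒢).Modules)
    (ι : J ⟶ Coh.structureModule (Proj 𝒢)) [Mono ι] (b : ℤ)
    (h : Subsingleton (Coh.HH (Proj 𝒢) (CohB1.tensorMod J (OO n R b)) 0)) :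
    ∀ (t : ℕ), Subsingleton (Coh.HH (Proj 𝒢) (CohB1.tensorMod J (OO n R (b - t))) 0) := by
  intro t
  induction t with
  | zero =>
    rw [show b - ((0 : ℕ) : ℤ) = b by push_cast; ring]
    exact h
  | succ t ih =>
    apply subsingleton_HH_zero_of_succ J ι
    rw [show b - ((t + 1 : ℕ) : ℤ) + 1 = b - (t : ℤ) by push_cast; ring]
    exact ih

end Ideal

section Core

open Groth.Agent.Lib.Helper27SerreVanPn Groth.Agent.Lib.Helper21.ModTensor7

variable (k : Type u) [Field k] (n : ℕ)

theorem subsingleton_HH_zero_ideal_of_le (I : (CohB1.ProjSpace n k).IdealSheafData) (b d : ℤ)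
    (hd : d ≤ b)
    (h : Subsingleton (Coh.HH (CohB1.ProjSpace n k)
      (CohB1.tensorMod (ClSub.idealMod I) (Twist.twistProjSpace n k b)) 0)) :
    Subsingleton (Coh.HH (CohB1.ProjSpace n k)
      (CohB1.tensorMod (ClSub.idealMod I) (Twist.twistProjSpace n k d)) 0) := by
  obtain ⟨t, rfl⟩ : ∃ t : ℕ, d = b - t := ⟨(b - d).toNat, by omega⟩
  rw [Groth.Agent.Lib.Helper27TwistEq.twistProjSpace_apply] at h ⊢
  have hm : Mono (ClSub.idealModι I) :=
    (Groth.Agent.Lib.Helper21.ExtCartier.idealSES_shortExact I).mono_f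
  exact @subsingleton_HH_zero_of_le n k _ (ClSub.idealMod I) (ClSub.idealModι I) hm b h t

/-- `H^0(P^n, O(t)) = 0` iff `t < 0` (`n ≥ 1`). -/
theorem subsingleton_HH_zero_twist_iff (hn : 1 ≤ n) (t : ℤ) :
    Subsingleton (Coh.HH (CohB1.ProjSpace n k) (Twist.twistProjSpace n k t) 0) ↔ t < 0 := by
  constructor
  · intro h
    by_contra hcon
    push Not at hcon
    obtain ⟨hfin, hrk⟩ := Groth.Agent.Lib.Helper27HypDim.finrank_HH_zero k n hn t
    have h0 : Module.finrank k (Coh.HH (CohB1.ProjSpace n k) (Twist.twistProjSpace n k t) 0) = 0 :=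
      Module.finrank_zero_of_subsingleton
    rw [hrk] at h0
    have hpos : 0 < Nat.choose (t + (n : ℤ)).toNat n := Nat.choose_pos (by omega)
    omega
  · intro ht
    exact Groth.Agent.Lib.Helper27PnCohVanish.subsingleton_HH n k t 0 (by omega) (by omega)

set_option maxHeartbeats 800000 in
/-- For `0 → O → E → J(c) → 0` on `P^n_k`, `n ≥ 2`: `H^0(E(t)) = 0` iff `t < 0` and
`H^0(J(d)) = 0` for all `d ≤ c + t`. -/
theorem h0_extension_iff (hn : 2 ≤ n) (I : (CohB1.ProjSpace n k).IdealSheafData) (c : ℤ)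
    (S : ShortComplex (CohB1.ProjSpace n k).Modules) (hS : S.ShortExact)
    (h₁ : Nonempty (S.X₁ ≅ Coh.structureModule (CohB1.ProjSpace n k)))
    (h₃ : Nonempty (S.X₃ ≅ CohB1.tensorMod (ClSub.idealMod I) (Twist.twistProjSpace n k c)))
    (t : ℤ) :
    Subsingleton (Coh.HH (CohB1.ProjSpace n k)
        (CohB1.tensorMod S.X₂ (Twist.twistProjSpace n k t)) 0) ↔
      (t < 0 ∧ ∀ d : ℤ, d ≤ c + t → Subsingleton (Coh.HH (CohB1.ProjSpace n k)
        (CohB1.tensorMod (ClSub.idealMod I) (Twist.twistProjSpace n k d)) 0)) := by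
  obtain ⟨e₁⟩ := h₁
  obtain ⟨e₃⟩ := h₃
  have hL := isInvertible_twist n k t
  have hSt := shortExact_tw (Twist.twistProjSpace n k t) hL S hS
  -- identify the outer terms
  obtain ⟨f₁⟩ : Nonempty ((S.map (Groth.Agent.Lib.Helper27SerreVan.tw
      (Twist.twistProjSpace n k t))).X₁ ≅ Twist.twistProjSpace n k t) := by
    obtain ⟨e0⟩ := Groth.Agent.Lib.Helper27HypSES.aux₂ (Twist.twistProjSpace n k t)
    exact Groth.Agent.Lib.Helper27HypSES.aux₁ (Twist.twistProjSpace n k t) S.X₁ _ _ e₁ e0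
  obtain ⟨f₃⟩ : Nonempty ((S.map (Groth.Agent.Lib.Helper27SerreVan.tw
      (Twist.twistProjSpace n k t))).X₃ ≅
      CohB1.tensorMod (ClSub.idealMod I) (Twist.twistProjSpace n k (c + t))) := by
    obtain ⟨e₃'⟩ := Groth.Agent.Lib.Helper27MumfordReg.nonempty_twist_twist_iso k n
      (ClSub.idealMod I) c t (c + t) rfl
    exact Groth.Agent.Lib.Helper27HypSES.aux₁ (Twist.twistProjSpace n k t) S.X₃ _ _ e₃ e₃'
  have hH1 : Subsingleton (Coh.HH (CohB1.ProjSpace n k)
      (S.map (Groth.Agent.Lib.Helper27SerreVan.tw (Twist.twistProjSpace n k t))).X₁ 1) :=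
    subsingleton_HH_of_iso f₁ 1
      (Groth.Agent.Lib.Helper27PnCohVanish.subsingleton_HH n k t 1 (by omega) (by omega))
  have key := subsingleton_HH_zero_X₂_iff k _ hSt hH1
  have k₁ : Subsingleton (Coh.HH (CohB1.ProjSpace n k)
      (S.map (Groth.Agent.Lib.Helper27SerreVan.tw (Twist.twistProjSpace n k t))).X₁ 0) ↔ t < 0 :=
    ⟨fun h => (subsingleton_HH_zero_twist_iff k n (by omega) t).1
        (subsingleton_HH_of_iso f₁.symm 0 h),
      fun h => subsingleton_HH_of_iso f₁ 0 ((subsingleton_HH_zero_twist_iff k n (by omega) t).2 h)⟩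
  have k₃ : Subsingleton (Coh.HH (CohB1.ProjSpace n k)
      (S.map (Groth.Agent.Lib.Helper27SerreVan.tw (Twist.twistProjSpace n k t))).X₃ 0) ↔
      ∀ d : ℤ, d ≤ c + t → Subsingleton (Coh.HH (CohB1.ProjSpace n k)
        (CohB1.tensorMod (ClSub.idealMod I) (Twist.twistProjSpace n k d)) 0) :=
    ⟨fun h d hd => subsingleton_HH_zero_ideal_of_le k n I (c + t) d hd
        (subsingleton_HH_of_iso f₃.symm 0 h),
      fun h => subsingleton_HH_of_iso f₃ 0 (h (c + t) le_rfl)⟩
  exact key.trans (and_congr k₁ k₃)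

end Core

end Groth.Agent.Lib.Helper27IdealTwist
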