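import Mathlib.Tactic
import Mathlib.Algebra.Group.ForwardDiff
import Mathlib.RingTheory.Polynomial.Pochhammer
import Mathlib.Algebra.Polynomial.Roots

set_option autoImplicit false

namespace Groth.Agent.Lib.Helper27

open Polynomial Finset fwdDiff

/-- Newton expansion on the naturals for a polynomial of degree at most `g`. -/
theorem eval_add_nat_eq_sum (g : ℕ) (R : ℚ[X]) (hdeg : R.natDegree ≤ g) (y : ℚ) (n : ℕ) :
    R.eval (y + n) = ∑ k ∈ range (g + 1), (n.choose k : ℚ) * (Δ_[1]^[k] R.eval y) := by
  have h := shift_eq_sum_fwdDiff_iter (1 : ℚ) R.eval n y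
  simp only [nsmul_eq_mul, mul_one] at h
  rw [h]
  -- both sums equal the sum over range (max (n+1) (g+1))
  have hz : ∀ k, g < k → Δ_[1]^[k] R.eval y = 0 := by
    intro k hk
    have := Polynomial.fwdDiff_iter_eq_zero_of_degree_lt (P := R) (n := k) (by omega)
    rw [this]; rfl
  have hc : ∀ k, n < k → (n.choose k : ℚ) = 0 := by
    intro k hk
    rw [Nat.choose_eq_zero_of_lt hk, Nat.cast_zero]
  rcases le_total (n + 1) (g + 1) with hle | hle
  · apply Finset.sum_subset (Finset.range_subset_range.mpr hle)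
    intro k _ hk2
    rw [Finset.mem_range, not_lt] at hk2
    rw [hc k (by omega), zero_mul]
  · symm
    apply Finset.sum_subset (Finset.range_subset_range.mpr hle)
    intro k _ hk2
    rw [Finset.mem_range, not_lt] at hk2
    rw [hz k (by omega), mul_zero]

/-- A rational polynomial of degree at most `g` taking integer values at `g + 1` consecutive
integers becomes integral after multiplication by `g!`. -/
theorem exists_int_poly_of_int_values (g : ℕ) (R : ℚ[X]) (hdeg : R.natDegree ≤ g) (a₀ : ℤ)
    (hval : ∀ i : ℕ, i ≤ g → ∃ z : ℤ, R.eval ((a₀ : ℚ) + i) = z) :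
    ∃ T : ℤ[X], C (g.factorial : ℚ) * R = T.map (Int.castRingHom ℚ) := by
  -- the forward differences at a₀ are integers
  have hd : ∀ k : ℕ, k ≤ g → ∃ z : ℤ, Δ_[1]^[k] R.eval (a₀ : ℚ) = z := by
    intro k hk
    rw [fwdDiff_iter_eq_sum_shift]
    choose! Z hZ using hval
    refine ⟨∑ i ∈ range (k + 1), ((-1 : ℤ) ^ (k - i) * k.choose i) * Z i, ?_⟩
    push_cast
    apply Finset.sum_congr rfl
    intro i hi
    rw [Finset.mem_range] at hi
    rw [zsmul_eq_mul, nsmul_eq_mul, mul_one, hZ i (by omega)]
    push_cast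
    ring
  choose! D hD using hd
  -- the integer polynomial
  let T₀ : ℤ[X] := ∑ k ∈ range (g + 1),
    C (D k * ((g.factorial / k.factorial : ℕ) : ℤ)) * descPochhammer ℤ k
  have hkey : C (g.factorial : ℚ) * R.comp (X + C (a₀ : ℚ)) = T₀.map (Int.castRingHom ℚ) := by
    apply Polynomial.eq_of_infinite_eval_eq
    apply Set.infinite_of_injective_forall_mem (f := fun n : ℕ => (n : ℚ)) Nat.cast_injective
    intro n
    simp only [Set.mem_ofPred_eq, eval_mul, eval_C, eval_comp, eval_add, eval_X]
    rw [add_comm (n : ℚ) (a₀ : ℚ), eval_add_nat_eq_sum g R hdeg]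
    simp only [T₀, Polynomial.map_sum, Polynomial.map_mul, Polynomial.map_C, eval_finsetSum,
      eval_mul, eval_C, descPochhammer_map, descPochhammer_eval_eq_descFactorial]
    rw [Finset.mul_sum]
    apply Finset.sum_congr rfl
    intro k hk
    rw [Finset.mem_range] at hk
    rw [hD k (by omega), Nat.descFactorial_eq_factorial_mul_choose]
    have hdiv : (k.factorial : ℕ) ∣ g.factorial := Nat.factorial_dvd_factorial (by omega)
    have : ((g.factorial / k.factorial : ℕ) : ℚ) = (g.factorial : ℚ) / (k.factorial : ℚ) := by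
      rw [Nat.cast_div hdiv]
      exact_mod_cast (Nat.factorial_ne_zero k)
    simp only [eq_intCast, Int.cast_mul, Int.cast_natCast, Nat.cast_mul]
    rw [this]
    have hk0 : (k.factorial : ℚ) ≠ 0 := by exact_mod_cast (Nat.factorial_ne_zero k)
    field_simp
  refine ⟨T₀.comp (X - C a₀), ?_⟩
  rw [Polynomial.map_comp, ← hkey]
  simp only [Polynomial.map_sub, Polynomial.map_X, eq_intCast, mul_comp, C_comp]
  congr 1
  rw [comp_assoc]
  simp

end Groth.Agent.Lib.Helper27
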