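import Mathlib.RingTheory.Invariant.Galois
import Mathlib.RingTheory.Invariant.Basic
import Mathlib.FieldTheory.Normal.Basic

/-!
# Field-valued points of a ring with finite group action: fibres over the invariants are orbits
-/

set_option linter.style.haveILetI false

namespace Groth.Agent.Lib.Helper27InvPts

open Ideal

variable {A B Ω : Type*} [CommRing A] [CommRing B] [Algebra A B] [Field Ω]
  (G : Type*) [Group G] [Finite G] [MulSemiringAction G B] [SMulCommClass G A B]
  [Algebra.IsInvariant A B G]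

theorem exists_smul_of_ker_eq (α β : B →+* Ω) (hker : RingHom.ker α = RingHom.ker β)
    (h : α.comp (algebraMap A B) = β.comp (algebraMap A B)) :
    ∃ g : G, ∀ b, β b = α (g • b) := by
  let Q : Ideal B := RingHom.ker α
  have hQ : Q.IsPrime := RingHom.ker_isPrime α
  let P : Ideal A := Q.under A
  have hP : P.IsPrime := Ideal.IsPrime.under A Q
  have hPQ : Q.LiesOver P := Ideal.over_under Q
  let K₀ := FractionRing (A ⧸ P)
  let L := FractionRing (B ⧸ Q)
  letI := FractionRing.liftAlgebra (A ⧸ P) (FractionRing (B ⧸ Q))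
  -- the two embeddings of `B ⧸ Q`
  let α₀ : B ⧸ Q →+* Ω := Ideal.Quotient.lift Q α (fun b hb => hb)
  let β₀ : B ⧸ Q →+* Ω := Ideal.Quotient.lift Q β (fun b hb => by
    have : b ∈ RingHom.ker β := hker ▸ hb
    exact this)
  have hα₀ : Function.Injective α₀ := by
    rw [injective_iff_map_eq_zero]
    intro x hx
    obtain ⟨b, rfl⟩ := Ideal.Quotient.mk_surjective x
    rw [Ideal.Quotient.eq_zero_iff_mem]
    exact hx
  have hβ₀ : Function.Injective β₀ := by
    rw [injective_iff_map_eq_zero]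
    intro x hx
    obtain ⟨b, rfl⟩ := Ideal.Quotient.mk_surjective x
    rw [Ideal.Quotient.eq_zero_iff_mem]
    have : b ∈ RingHom.ker β := hx
    rw [← hker] at this
    exact this
  let αL : L →+* Ω := IsFractionRing.lift hα₀
  let βL : L →+* Ω := IsFractionRing.lift hβ₀
  have hαL : ∀ x : B ⧸ Q, αL (algebraMap (B ⧸ Q) L x) = α₀ x := fun x =>
    IsFractionRing.lift_algebraMap hα₀ x
  have hβL : ∀ x : B ⧸ Q, βL (algebraMap (B ⧸ Q) L x) = β₀ x := fun x =>
    IsFractionRing.lift_algebraMap hβ₀ x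
  have hagree : βL.comp (algebraMap K₀ L) = αL.comp (algebraMap K₀ L) := by
    apply IsLocalization.ringHom_ext (nonZeroDivisors (A ⧸ P))
    refine RingHom.ext fun x => ?_
    obtain ⟨a, rfl⟩ := Ideal.Quotient.mk_surjective x
    simp only [RingHom.comp_apply]
    rw [← IsScalarTower.algebraMap_apply (A ⧸ P) K₀ L,
      IsScalarTower.algebraMap_apply (A ⧸ P) (B ⧸ Q) L, hαL, hβL]
    have e : algebraMap (A ⧸ P) (B ⧸ Q) (Ideal.Quotient.mk P a) =
        Ideal.Quotient.mk Q (algebraMap A B a) := rfl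
    rw [e]
    change β (algebraMap A B a) = α (algebraMap A B a)
    exact (RingHom.congr_fun h a).symm
  letI algLΩ : Algebra L Ω := αL.toAlgebra
  letI algKΩ : Algebra K₀ Ω := (αL.comp (algebraMap K₀ L)).toAlgebra
  haveI : IsScalarTower K₀ L Ω := IsScalarTower.of_algebraMap_eq (fun _ => rfl)
  let βA : L →ₐ[K₀] Ω := { βL with commutes' := fun r => RingHom.congr_fun hagree r }
  haveI : Normal K₀ L := Ideal.IsFractionRing.normal G P Q K₀ L
  let τ : L ≃ₐ[K₀] L := βA.restrictNormal' L
  have hτ : ∀ x : L, αL (τ x) = βL x := fun x => AlgHom.restrictNormal_commutes βA L x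
  obtain ⟨σ, hσ⟩ := IsFractionRing.stabilizerHom_surjective G P Q K₀ L τ
  refine ⟨σ.val, fun b => ?_⟩
  have h1 : β b = βL (algebraMap (B ⧸ Q) L (Ideal.Quotient.mk Q b)) := by
    rw [hβL]; rfl
  rw [h1, ← hτ, ← hσ, IsFractionRing.stabilizerHom_apply_apply_mk, hαL]
  rfl

theorem exists_smul_of_comp_eq (α β : B →+* Ω)
    (h : α.comp (algebraMap A B) = β.comp (algebraMap A B)) :
    ∃ g : G, ∀ b, β b = α (g • b) := by
  let Q : Ideal B := RingHom.ker α
  let Q' : Ideal B := RingHom.ker β
  have hQ : Q.IsPrime := RingHom.ker_isPrime α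
  have hQ' : Q'.IsPrime := RingHom.ker_isPrime β
  have hunder : Q.under A = Q'.under A := by
    ext a
    simp only [Ideal.under_def, Ideal.mem_comap, Q, Q', RingHom.mem_ker]
    rw [← RingHom.comp_apply, ← RingHom.comp_apply, h]
  obtain ⟨g, hg⟩ := Algebra.IsInvariant.exists_smul_of_under_eq A B G Q Q' hunder
  -- `hg : Q' = g • Q`
  let α' : B →+* Ω := α.comp (MulSemiringAction.toRingHom G B g⁻¹)
  have hα' : ∀ b, α' b = α (g⁻¹ • b) := fun b => rfl
  have hker : RingHom.ker α' = RingHom.ker β := by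
    change _ = Q'
    rw [hg]
    ext b
    rw [RingHom.mem_ker, hα', Ideal.mem_pointwise_smul_iff_inv_smul_mem]
    rfl
  have h' : α'.comp (algebraMap A B) = β.comp (algebraMap A B) := by
    rw [← h]
    ext a
    simp only [RingHom.comp_apply, hα', smul_algebraMap]
  obtain ⟨g', hg'⟩ := exists_smul_of_ker_eq G α' β hker h'
  refine ⟨g⁻¹ * g', fun b => ?_⟩
  rw [hg', hα', mul_smul]

end Groth.Agent.Lib.Helper27InvPts
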