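import Mathlib
import Groth.Prelude.Def_SGA6
import Groth.Agent.Lib.Helper17K0a

/-!
# `K₀` of a class of objects: generalities (helper27)

* `hom_ext_clSub` : additive maps out of `K0sub P` agreeing on classes agree.
* `liftK`, `liftK_clSub` : the additive map out of `K0sub P` defined by an additive invariant.
* `mapSub_clSub`.
* `clSub_sigma_const` : `[∐_{Fin k} M] = k • [M]`.
-/

set_option autoImplicit false
universe v u v' u'

open CategoryTheory CategoryTheory.Limits

namespace Groth.Agent.Lib.Helper27K0Gen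

open KZero Groth.Agent.Lib.Helper17.K0a

variable {C : Type u} [Category.{v} C] [Abelian C] (P : ObjectProperty C)

theorem hom_ext_clSub {G : Type*} [AddCommGroup G] (a b : K0sub P →+ G)
    (h : ∀ X : C, P X → a (clSub P X) = b (clSub P X)) : a = b := by
  refine AddMonoidHom.ext fun y => ?_
  induction y using QuotientAddGroup.induction_on with
  | H z =>
    induction z using FreeAbelianGroup.induction_on with
    | zero => simp
    | of E =>
      have h1 : ((FreeAbelianGroup.of E : FreeAbelianGroup (Subtype P)) : K0sub P) =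
          clSub P E.1 := (clSub_of_prop P E.2).symm
      rw [h1]
      exact h E.1 E.2
    | neg E ih =>
      rw [QuotientAddGroup.mk_neg, map_neg, map_neg, ih]
    | add x y hx hy =>
      rw [QuotientAddGroup.mk_add, map_add, map_add, hx, hy]

/-- the additive map out of `K0sub P` defined by an invariant additive on short exact sequences. -/
noncomputable def liftK {G : Type*} [AddCommGroup G] (t : C → G)
    (ht : ∀ S : ShortComplex C, S.ShortExact → P S.X₁ → P S.X₂ → P S.X₃ →
      t S.X₂ = t S.X₁ + t S.X₃) : K0sub P →+ G :=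
  QuotientAddGroup.lift (relSub P) (FreeAbelianGroup.lift (fun E : Subtype P => t E.1)) (by
    rw [relSub, AddSubgroup.closure_le]
    rintro x ⟨S, h₁, h₂, h₃, hS, rfl⟩
    rw [SetLike.mem_coe, AddMonoidHom.mem_ker, map_sub, map_sub, FreeAbelianGroup.lift_apply_of,
      FreeAbelianGroup.lift_apply_of, FreeAbelianGroup.lift_apply_of, ht S hS h₁ h₂ h₃]
    abel)

theorem liftK_clSub {G : Type*} [AddCommGroup G] (t : C → G)
    (ht : ∀ S : ShortComplex C, S.ShortExact → P S.X₁ → P S.X₂ → P S.X₃ →
      t S.X₂ = t S.X₁ + t S.X₃) (X : C) (hX : P X) : liftK P t ht (clSub P X) = t X := by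
  rw [clSub_of_prop P hX]
  unfold liftK
  rw [QuotientAddGroup.lift_mk, FreeAbelianGroup.lift_apply_of]

theorem mapSub_clSub {D : Type u'} [Category.{v'} D] [Abelian D] (F : C ⥤ D) [F.Additive]
    [PreservesFiniteLimits F] [PreservesFiniteColimits F] (Q : ObjectProperty D)
    (h : ∀ X, P X → Q (F.obj X)) (X : C) (hX : P X) :
    SGA6.mapSub F P Q h (clSub P X) = clSub Q (F.obj X) := by
  rw [clSub_of_prop P hX, clSub_of_prop Q (h X hX)]
  unfold SGA6.mapSub
  rw [QuotientAddGroup.map_mk, FreeAbelianGroup.map_of_apply]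
  rfl

variable [P.IsClosedUnderIsomorphisms] [P.ContainsZero]

/-- the split sequence `0 → M → ∐_{k+1} M → ∐_k M → 0`. -/
theorem clSub_sigma_succ (M : C) (hM : P M) (k : ℕ)
    (h₂ : P (∐ fun _ : Fin (k + 1) => M)) (h₃ : P (∐ fun _ : Fin k => M)) :
    clSub P (∐ fun _ : Fin (k + 1) => M) = clSub P M + clSub P (∐ fun _ : Fin k => M) := by
  let f : M ⟶ ∐ fun _ : Fin (k + 1) => M := Sigma.ι (fun _ : Fin (k + 1) => M) 0
  let g : (∐ fun _ : Fin (k + 1) => M) ⟶ ∐ fun _ : Fin k => M :=
    Limits.Sigma.desc (Fin.cases 0 (fun j => Sigma.ι (fun _ : Fin k => M) j))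
  let r : (∐ fun _ : Fin (k + 1) => M) ⟶ M :=
    Limits.Sigma.desc (Fin.cases (𝟙 M) (fun _ => 0))
  let s : (∐ fun _ : Fin k => M) ⟶ ∐ fun _ : Fin (k + 1) => M :=
    Limits.Sigma.desc (fun j => Sigma.ι (fun _ : Fin (k + 1) => M) j.succ)
  have hfg : f ≫ g = 0 := by
    dsimp only [f, g]
    rw [Sigma.ι_desc]
    rfl
  let S : ShortComplex C := ShortComplex.mk f g hfg
  have hfr : f ≫ r = 𝟙 M := by
    dsimp only [f, r]
    rw [Sigma.ι_desc]
    rfl
  have hsg : s ≫ g = 𝟙 _ := by
    dsimp only [s, g]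
    refine Sigma.hom_ext _ _ (fun j => ?_)
    rw [Sigma.ι_desc_assoc, Sigma.ι_desc, Category.comp_id]
    rfl
  have hid : r ≫ f + g ≫ s = 𝟙 _ := by
    dsimp only [f, g, r, s]
    refine Sigma.hom_ext _ _ (fun j => ?_)
    rw [Preadditive.comp_add, Sigma.ι_desc_assoc, Sigma.ι_desc_assoc, Category.comp_id]
    refine Fin.cases ?_ (fun i => ?_) j
    · simp
    · simp
  let sp : S.Splitting := { r := r, s := s, f_r := hfr, s_g := hsg, id := hid }
  exact clSub_shortExact P S sp.shortExact hM h₂ h₃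

theorem clSub_sigma_const (hsig : ∀ (M : C) (k : ℕ), P M → P (∐ fun _ : Fin k => M))
    (M : C) (hM : P M) (k : ℕ) :
    clSub P (∐ fun _ : Fin k => M) = k • clSub P M := by
  induction k with
  | zero =>
    rw [zero_smul]
    refine clSub_of_isZero P ?_
    rw [IsZero.iff_id_eq_zero]
    exact Sigma.hom_ext _ _ (fun j => j.elim0)
  | succ k ih =>
    rw [clSub_sigma_succ P M hM k (hsig M (k + 1) hM) (hsig M k hM), ih, succ_nsmul, add_comm]

end Groth.Agent.Lib.Helper27K0Gen
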