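import Groth.Agent.Lib.Helper27AmpleElt
import Groth.Agent.Lib.Helper1FLF1

/-!
# More calculus of classes in `Kvb X` (helper27)

* `isFinLocFree_sigma_const`, `cl_sigma_const` : `[∐_{Fin k} M] = k • [M]`.
* `telescope` : `Σ_{i<m} (-1)^i • (z i + z (i+1)) = z 0 - (-1)^m • z m` in an additive group.
* `rec_forward`, `rec_backward` : sequences satisfying the `(n+1)`-st order binomial recurrence.
-/

set_option autoImplicit false
universe v u

open CategoryTheory CategoryTheory.Limits AlgebraicGeometry TopologicalSpace Opposite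
open scoped ZeroObject
open fwdDiff

namespace Groth.Agent.Lib.Helper27KClass

open Groth.Agent.Lib.Helper27AmpleElt

variable {X : Scheme.{u}}

theorem isFinLocFree_sigma_const (M : X.Modules) (hM : FlatMod.IsFinLocFree M) (k : ℕ) :
    FlatMod.IsFinLocFree (∐ fun _ : Fin k => M) := by
  have h := Groth.Agent.Lib.Helper1.FLF.isFinLocFree_biproduct (fun _ : Fin k => M) (fun _ => hM)
  exact Groth.Agent.Lib.Helper26.ModLocFree.isFinLocFree_of_iso (biproduct.isoCoproduct _) h

theorem cl_sigma_const (M : X.Modules) (hM : FlatMod.IsFinLocFree M) (k : ℕ) :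
    KRR.cl X (∐ fun _ : Fin k => M) = k • KRR.cl X M := by
  induction k with
  | zero =>
    rw [zero_smul]
    refine cl_of_isZero ?_
    rw [IsZero.iff_id_eq_zero]
    exact Sigma.hom_ext _ _ (fun j => j.elim0)
  | succ k ih =>
    rw [cl_sigma_succ M hM k (isFinLocFree_sigma_const M hM (k + 1))
      (isFinLocFree_sigma_const M hM k), ih, succ_nsmul, add_comm]

theorem telescope {G : Type*} [AddCommGroup G] (z : ℕ → G) (m : ℕ) :
    (Finset.range m).sum (fun i => (-1 : ℤ) ^ i • (z i + z (i + 1))) =
      z 0 - (-1 : ℤ) ^ m • z m := by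
  induction m with
  | zero => simp
  | succ m ih =>
    rw [Finset.sum_range_succ, ih, pow_succ, smul_add]
    simp only [mul_neg, mul_one, neg_smul]
    abel

/-- the `(n+1)`-st difference of `k ↦ choose k n` vanishes. -/
theorem choose_rec (n b : ℕ) :
    (Finset.range (n + 2)).sum (fun j => ((-1 : ℤ) ^ j * ((n + 1).choose j : ℤ)) *
      ((b + j).choose n : ℤ)) = 0 := by
  have h1 : (Δ_[1])^[n + 1] (fun x : ℕ => (x.choose n : ℤ)) b = 0 := by
    rw [Function.iterate_succ_apply']
    have h := fwdDiff_iter_choose 0 n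
    rw [add_zero] at h
    rw [h]
    simp [fwdDiff]
  rw [fwdDiff_iter_eq_sum_shift] at h1
  have h2 : ∀ j ∈ Finset.range (n + 1 + 1),
      ((-1 : ℤ) ^ (n + 1 - j) * ((n + 1).choose j : ℤ)) • ((b + j • 1).choose n : ℤ) =
        (-1 : ℤ) ^ (n + 1) * (((-1 : ℤ) ^ j * ((n + 1).choose j : ℤ)) * ((b + j).choose n : ℤ)) := by
    intro j hj
    have hj' : j ≤ n + 1 := Nat.lt_succ_iff.mp (Finset.mem_range.mp hj)
    have h3 : (-1 : ℤ) ^ (n + 1 - j) = (-1 : ℤ) ^ (n + 1) * (-1 : ℤ) ^ j := by
      rw [← pow_add]
      have : n + 1 + j = (n + 1 - j) + 2 * j := by omega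
      rw [this, pow_add, pow_mul]
      simp
    rw [h3, smul_eq_mul, smul_eq_mul, mul_one]
    ring
  rw [Finset.sum_congr rfl h2, ← Finset.mul_sum] at h1
  have h4 : ((-1 : ℤ) ^ (n + 1)) ≠ 0 := pow_ne_zero _ (by norm_num)
  exact (mul_eq_zero.mp h1).resolve_left h4

section Rec

variable {G : Type*} [AddCommGroup G] (n : ℕ) (w : ℕ → G)

/-- the recurrence. -/
def IsRec : Prop :=
  ∀ b : ℕ, (Finset.range (n + 2)).sum (fun j => ((-1 : ℤ) ^ j * ((n + 1).choose j : ℤ)) • w (b + j)) = 0

theorem isRec_choose (e : G) : IsRec n (fun k => (k.choose n : ℤ) • e) := by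
  intro b
  have h := choose_rec n b
  have h2 : (Finset.range (n + 2)).sum (fun j => ((-1 : ℤ) ^ j * ((n + 1).choose j : ℤ)) •
      (((b + j).choose n : ℤ) • e)) =
      ((Finset.range (n + 2)).sum (fun j => ((-1 : ℤ) ^ j * ((n + 1).choose j : ℤ)) *
      ((b + j).choose n : ℤ))) • e := by
    rw [Finset.sum_smul]
    exact Finset.sum_congr rfl (fun j _ => (mul_smul _ _ _).symm)
  rw [h2, h, zero_smul]

theorem isRec_sub {w w' : ℕ → G} (h : IsRec n w) (h' : IsRec n w') :
    IsRec n (fun k => w k - w' k) := by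
  intro b
  simp only [smul_sub, Finset.sum_sub_distrib]
  rw [h b, h' b, sub_zero]

/-- forward: a solution vanishing on `0..n` vanishes. -/
theorem rec_forward_zero (h : IsRec n w) (h0 : ∀ k, k ≤ n → w k = 0) : ∀ k, w k = 0 := by
  intro k
  induction k using Nat.strong_induction_on with
  | _ k ih =>
    by_cases hk : k ≤ n
    · exact h0 k hk
    · push Not at hk
      obtain ⟨b, rfl⟩ : ∃ b, k = b + (n + 1) := ⟨k - (n + 1), by omega⟩
      have hb := h b
      rw [Finset.sum_range_succ] at hb
      have hz : (Finset.range (n + 1)).sum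
          (fun j => ((-1 : ℤ) ^ j * ((n + 1).choose j : ℤ)) • w (b + j)) = 0 := by
        refine Finset.sum_eq_zero (fun j hj => ?_)
        rw [ih (b + j) (by have := Finset.mem_range.mp hj; omega), smul_zero]
      rw [hz, zero_add, Nat.choose_self, Nat.cast_one, mul_one] at hb
      rcases neg_one_pow_eq_or ℤ (n + 1) with h1 | h1
      · rw [h1, one_smul] at hb; exact hb
      · rw [h1, neg_smul, one_smul, neg_eq_zero] at hb; exact hb

/-- backward: a solution vanishing on `[n, ∞)` vanishes. -/
theorem rec_backward_zero (h : IsRec n w) (h0 : ∀ k, n ≤ k → w k = 0) : ∀ k, w k = 0 := by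
  have key : ∀ p k : ℕ, k + p = n → w k = 0 := by
    intro p
    induction p using Nat.strong_induction_on with
    | _ p ih =>
      intro k hk
      by_cases hp : p = 0
      · exact h0 k (by omega)
      · have hb := h k
        rw [Finset.sum_range_succ'] at hb
        have hz : (Finset.range (n + 1)).sum
            (fun j => ((-1 : ℤ) ^ (j + 1) * ((n + 1).choose (j + 1) : ℤ)) • w (k + (j + 1))) = 0 := by
          refine Finset.sum_eq_zero (fun j hj => ?_)
          have hw : w (k + (j + 1)) = 0 := by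
            by_cases hle : n ≤ k + (j + 1)
            · exact h0 _ hle
            · push Not at hle
              exact ih (n - (k + (j + 1))) (by omega) _ (by omega)
          rw [hw, smul_zero]
        rw [hz, zero_add] at hb
        simpa using hb
  intro k
  by_cases hk : n ≤ k
  · exact h0 k hk
  · push Not at hk
    exact key (n - k) k (by omega)

theorem rec_forward (e : G) (h : IsRec n w) (h0 : ∀ k, k ≤ n → w k = (k.choose n : ℤ) • e) :
    ∀ k, w k = (k.choose n : ℤ) • e := by
  intro k
  have := rec_forward_zero n _ (isRec_sub n h (isRec_choose n e))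
    (fun k hk => by rw [h0 k hk, sub_self]) k
  exact sub_eq_zero.mp this

theorem rec_backward (e : G) (h : IsRec n w) (h0 : ∀ k, n ≤ k → w k = (k.choose n : ℤ) • e) :
    ∀ k, w k = (k.choose n : ℤ) • e := by
  intro k
  have := rec_backward_zero n _ (isRec_sub n h (isRec_choose n e))
    (fun k hk => by rw [h0 k hk, sub_self]) k
  exact sub_eq_zero.mp this

end Rec

end Groth.Agent.Lib.Helper27KClass
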