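import Groth.Agent.Lib.Helper27FormalKer
import Groth.Agent.Lib.Helper27GrSysMap
import Groth.Agent.Lib.Helper17FlatDev1

/-!
# Functoriality of the kernel system of a formal module (helper27)

Let `Φ : X.Modules ⥤ Y.Modules` be an additive functor preserving epimorphisms and commuting with
multiplication by elements of `A`, `G` (on `X`) and `G'` (on `Y`) inverse systems satisfying
`Helper27FormalKer.Hyp`, and `θ_n : Φ G_n ≅ G'_n` compatible isomorphisms.  Then there are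
canonical epimorphisms `γ_n : Φ (K_n G) ⟶ K_n G'` compatible with the operators of the kernel
systems; `γ_n` is an isomorphism as soon as `Φ` maps `K_n G ⟶ G_{n+1}` to a monomorphism.

Also `kerSys_je`: the operators of the kernel system are jointly epimorphic in every degree.
-/

set_option autoImplicit false
set_option linter.style.haveILetI false
set_option linter.unusedSectionVars false
universe u
open CategoryTheory Limits AlgebraicGeometry TopologicalSpace Opposite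

namespace Groth.Agent.Lib.Helper27KerSysMap

open Groth.Agent.Lib.Helper17.GrSys Groth.Agent.Lib.Helper17.IAdic
  Groth.Agent.Lib.Helper27FormalKer Groth.Agent.Lib.Helper27GrSysMap

variable {A : Type u} [CommRing A] {X Y : Scheme.{u}} [X.Over (Spec (CommRingCat.of A))]
  [Y.Over (Spec (CommRingCat.of A))]

section JE

variable {I : Ideal A} {G : ℕᵒᵖ ⥤ X.Modules} (hG : Hyp I G) {r : ℕ} (a : Fin r → A)
  (ha : ∀ i, a i ∈ I) (hspan : I = Ideal.span (Set.range a))

include hspan in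
/-- the operators of the kernel system are jointly epimorphic in every degree. -/
theorem kerSys_je (n : ℕ) : JE (fun i => (kerSys hG a ha).T i n) := by
  intro Z g hg
  have hg' : ∀ i, T hG n (a i) (ha i) ≫ g = 0 := hg
  have key : ∀ x ∈ I, ∀ y (hy : y ∈ I ^ (n + 1)) (hxy : x * y ∈ I ^ (n + 1 + 1)),
      toK hG (n + 1) (x * y) hxy ≫ g = 0 := by
    intro x hx
    rw [hspan] at hx
    induction hx using Submodule.span_induction with
    | mem x hx =>
      obtain ⟨i, rfl⟩ := hx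
      intro y hy hxy
      rw [toK_mul hG n (a i) y (ha i) hy hxy, Category.assoc, Category.assoc, hg' i, comp_zero,
        comp_zero]
    | zero =>
      intro y hy hxy
      rw [toK_congr hG (n + 1) (zero_mul y) hxy, toK_zero, zero_comp]
    | add x x' hx hx' ih ih' =>
      intro y hy hxy
      have h1 : x * y ∈ I ^ (n + 1 + 1) := by
        rw [pow_succ']; exact Ideal.mul_mem_mul (hspan ▸ hx) hy
      have h2 : x' * y ∈ I ^ (n + 1 + 1) := by
        rw [pow_succ']; exact Ideal.mul_mem_mul (hspan ▸ hx') hy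
      rw [toK_congr hG (n + 1) (add_mul x x' y) hxy, toK_add hG (n + 1) _ _ h1 h2,
        Preadditive.add_comp, ih y hy h1, ih' y hy h2, add_zero]
    | smul c x hx ih =>
      intro y hy hxy
      have h1 : x * (c * y) ∈ I ^ (n + 1 + 1) := by
        rw [pow_succ']; exact Ideal.mul_mem_mul (hspan ▸ hx) (Ideal.mul_mem_left _ c hy)
      rw [toK_congr hG (n + 1) (show c • x * y = x * (c * y) by rw [smul_eq_mul]; ring) hxy]
      exact ih (c * y) (Ideal.mul_mem_left _ c hy) h1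
  apply K_hom_ext hG (n + 1)
  intro c hc
  rw [comp_zero]
  have hc' : c ∈ I * I ^ (n + 1) := by rw [← pow_succ']; exact hc
  have H : ∀ c, c ∈ I * I ^ (n + 1) →
      ∃ hc : c ∈ I ^ (n + 1 + 1), toK hG (n + 1) c hc ≫ g = 0 := by
    intro c hc'
    refine Submodule.mul_induction_on hc' (fun x hx y hy => ?_) (fun x y ihx ihy => ?_)
    · have hxy : x * y ∈ I ^ (n + 1 + 1) := by rw [pow_succ']; exact Ideal.mul_mem_mul hx hy
      exact ⟨hxy, key x hx y hy hxy⟩
    · obtain ⟨hx, ex⟩ := ihx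
      obtain ⟨hy, ey⟩ := ihy
      exact ⟨add_mem hx hy, by
        rw [toK_add hG (n + 1) _ _ hx hy, Preadditive.add_comp, ex, ey, add_zero]⟩
  obtain ⟨_, e⟩ := H c hc'
  exact e

/-- generators of `I^(n+1)` give a jointly epimorphic family onto `K_n`. -/
theorem je_toK (n : ℕ) {s : ℕ} (c : Fin s → A) (hc : I ^ (n + 1) = Ideal.span (Set.range c)) :
    JE (fun t => toK hG n (c t) (hc ▸ Ideal.subset_span ⟨t, rfl⟩)) := by
  intro Z g hg
  haveI := epi_fromIM hG n
  rw [← cancel_epi (fromIM hG n), comp_zero]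
  refine Groth.Agent.Lib.Helper17.FlatDev.je_toIM c (I ^ (n + 1)) hc (G.obj (op (n + 1))) _
    (fun t => ?_)
  rw [← Category.assoc, toIM_fromIM]
  exact hg t

end JE

section Map

variable (Φ : X.Modules ⥤ Y.Modules) [Φ.Additive] [Φ.PreservesEpimorphisms]
  (hΦ : ∀ (M : X.Modules) (a : A), Φ.map (Formal.smulMod A M a) = Formal.smulMod A (Φ.obj M) a)
  {I : Ideal A} {G : ℕᵒᵖ ⥤ X.Modules} (hG : Hyp I G) {G' : ℕᵒᵖ ⥤ Y.Modules} (hG' : Hyp I G')
  (θ : ∀ n, Φ.obj (G.obj (op n)) ≅ G'.obj (op n))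
  (hθ : ∀ n, Φ.map (tr G n) ≫ (θ n).hom = (θ (n + 1)).hom ≫ tr G' n)

include hθ in
theorem map_Kι_tr (n : ℕ) : (Φ.map (Kι G n) ≫ (θ (n + 1)).hom) ≫ tr G' n = 0 := by
  rw [Category.assoc, ← hθ, ← Φ.map_comp_assoc, kernel.condition, Φ.map_zero, zero_comp]

/-- the comparison `Φ (K_n G) ⟶ K_n G'`. -/
noncomputable def γ (n : ℕ) : Φ.obj (K G n) ⟶ K G' n :=
  kernel.lift (tr G' n) (Φ.map (Kι G n) ≫ (θ (n + 1)).hom) (map_Kι_tr Φ θ hθ n)

@[reassoc]
theorem γ_ι (n : ℕ) : γ Φ θ hθ n ≫ Kι G' n = Φ.map (Kι G n) ≫ (θ (n + 1)).hom :=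
  kernel.lift_ι _ _ _

include hΦ hθ in
theorem map_lift (n : ℕ) (a : A) (ha : a ∈ I) :
    Φ.map (lift hG n a ha) ≫ (θ (n + 1)).hom = (θ n).hom ≫ lift hG' n a ha := by
  haveI : Epi (tr G n) := epi_tr hG n
  haveI : Epi (Φ.map (tr G n)) := Φ.map_epi _
  rw [← cancel_epi (Φ.map (tr G n)), ← Φ.map_comp_assoc, tr_lift, hΦ, ← Category.assoc, hθ,
    Category.assoc, tr_lift, comp_smulMod]

include hΦ in
theorem γ_T (n : ℕ) (a : A) (ha : a ∈ I) :
    Φ.map (T hG n a ha) ≫ γ Φ θ hθ (n + 1) = γ Φ θ hθ n ≫ T hG' n a ha := by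
  rw [← cancel_mono (Kι G' (n + 1)), Category.assoc, Category.assoc, γ_ι,
    Groth.Agent.Lib.Helper27FormalKer.T_ι, γ_ι_assoc,
    ← Φ.map_comp_assoc, Groth.Agent.Lib.Helper27FormalKer.T_ι, Φ.map_comp_assoc, map_lift Φ hΦ hG hG' θ hθ (n + 1) a ha]

include hΦ in
theorem map_toK (n : ℕ) (c : A) (hc : c ∈ I ^ (n + 1)) :
    Φ.map (toK hG n c hc) ≫ γ Φ θ hθ n = (θ (n + 1)).hom ≫ toK hG' n c hc := by
  rw [← cancel_mono (Kι G' n), Category.assoc, Category.assoc, γ_ι, toK_ι, ← Φ.map_comp_assoc,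
    toK_ι, hΦ, comp_smulMod]

include hΦ hG hG' in
theorem epi_γ (n : ℕ) : Epi (γ Φ θ hθ n) := by
  refine ⟨fun {Z} g h w => ?_⟩
  apply K_hom_ext hG' n
  intro c hc
  have e : toK hG' n c hc = (θ (n + 1)).inv ≫ Φ.map (toK hG n c hc) ≫ γ Φ θ hθ n := by
    rw [map_toK Φ hΦ hG hG' θ hθ n c hc, Iso.inv_hom_id_assoc]
  rw [e]
  simp only [Category.assoc, w]

include hΦ hG hG' in
/-- `γ_n` is an isomorphism if `Φ` maps the inclusion `K_n ⟶ G_{n+1}` to a monomorphism. -/
theorem isIso_γ (n : ℕ) (hm : Mono (Φ.map (Kι G n))) : IsIso (γ Φ θ hθ n) := by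
  haveI := epi_γ Φ hΦ hG hG' θ hθ n
  haveI : Mono (γ Φ θ hθ n) := by
    haveI : Mono (γ Φ θ hθ n ≫ Kι G' n) := by
      rw [γ_ι]
      exact mono_comp _ _
    exact mono_of_mono (γ Φ θ hθ n) (Kι G' n)
  exact isIso_of_mono_of_epi _

end Map

end Groth.Agent.Lib.Helper27KerSysMap
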