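import Mathlib
import Groth.Prelude.Def_KRR
import Groth.Agent.Lib.Helper17K0a
import Groth.Agent.Lib.Helper1Sky4
import Groth.Agent.Lib.Helper1Sky9

/-!
# Pull-back on `K₀` of finite locally free modules (helper4)

* `pullK f : Kvb Y →+ Kvb X` with `pullK f [E] = [f^* E]`.
* `existsUnique_isPull`: on models of `K(X)`, `K(Y)` there is a unique additive map with `g [E] = [f^* E]`.
-/

set_option autoImplicit false
set_option linter.style.haveILetI false
set_option linter.unusedSectionVars false
universe v w u
open CategoryTheory CategoryTheory.Limits AlgebraicGeometry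

namespace Groth.Agent.Lib.Helper4.KPull
open Groth.Agent.Lib.Helper17.K0a Groth.Agent.Lib.Helper1.Sky

variable {X Y : Scheme.{u}} (f : X ⟶ Y)

/-- pull-back on `K₀` of finite locally free modules -/
noncomputable def pullK : SGA6.Kvb Y →+ SGA6.Kvb X :=
  QuotientAddGroup.lift (KZero.relSub (KRR.vbP Y))
    (FreeAbelianGroup.lift (fun E : Subtype (KRR.vbP Y) =>
      KRR.cl X ((Scheme.Modules.pullback f).obj E.1))) (by
    rw [KZero.relSub, AddSubgroup.closure_le]
    rintro x ⟨S, h₁, h₂, h₃, hS, rfl⟩
    rw [SetLike.mem_coe, AddMonoidHom.mem_ker, map_sub, map_sub, FreeAbelianGroup.lift_apply_of,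
      FreeAbelianGroup.lift_apply_of, FreeAbelianGroup.lift_apply_of]
    have hS' := shortExact_map_pullback f S hS (isFlat_of_isFinLocFree' S.X₃ h₃)
    have h := clSub_shortExact (KRR.vbP X) (S.map (Scheme.Modules.pullback f)) hS'
      (isFinLocFree_pullback f _ h₁) (isFinLocFree_pullback f _ h₂) (isFinLocFree_pullback f _ h₃)
    have h' : KRR.cl X ((Scheme.Modules.pullback f).obj S.X₂) =
        KRR.cl X ((Scheme.Modules.pullback f).obj S.X₁) +
          KRR.cl X ((Scheme.Modules.pullback f).obj S.X₃) := h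
    rw [h']
    abel)

theorem pullK_cl (E : Y.Modules) (hE : FlatMod.IsFinLocFree E) :
    pullK f (KRR.cl Y E) = KRR.cl X ((Scheme.Modules.pullback f).obj E) := by
  change pullK f (KZero.clSub (KRR.vbP Y) E) = _
  rw [clSub_of_prop (KRR.vbP Y) hE]
  unfold pullK
  rw [QuotientAddGroup.lift_mk, FreeAbelianGroup.lift_apply_of]

/-- additive maps out of `Kvb Y` agreeing on classes of finite locally free modules agree -/
theorem hom_ext_cl {G : Type*} [AddCommGroup G] (a b : SGA6.Kvb Y →+ G)
    (h : ∀ E : Y.Modules, FlatMod.IsFinLocFree E → a (KRR.cl Y E) = b (KRR.cl Y E)) : a = b := by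
  refine AddMonoidHom.ext fun y => ?_
  induction y using QuotientAddGroup.induction_on with
  | H z =>
    induction z using FreeAbelianGroup.induction_on with
    | zero => simp
    | of E =>
      have h1 : ((FreeAbelianGroup.of E : FreeAbelianGroup (Subtype (KRR.vbP Y))) : SGA6.Kvb Y) =
          KRR.cl Y E.1 := (clSub_of_prop (KRR.vbP Y) E.2).symm
      rw [h1]
      exact h E.1 E.2
    | neg E ih =>
      rw [QuotientAddGroup.mk_neg, map_neg, map_neg, ih]
    | add x y hx hy =>
      rw [QuotientAddGroup.mk_add, map_add, map_add, hx, hy]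

theorem existsUnique_isPull {KX : Type v} {KY : Type w} [CommRing KX] [CommRing KY]
    (φX : SGA6.Kvb X →+ KX) (φY : SGA6.Kvb Y →+ KY) (hφY : Function.Bijective φY) :
    ∃! g : KY →+ KX, KRR.IsPull f φY φX g := by
  let eY : SGA6.Kvb Y ≃+ KY := AddEquiv.ofBijective φY hφY
  refine ⟨(φX.comp (pullK f)).comp eY.symm.toAddMonoidHom, ?_, ?_⟩
  · intro E hE
    change φX (pullK f (eY.symm (φY (KRR.cl Y E)))) = _
    have : eY.symm (φY (KRR.cl Y E)) = KRR.cl Y E := eY.symm_apply_apply _
    rw [this, pullK_cl f E hE]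
  · intro g hg
    have h1 : g.comp φY = φX.comp (pullK f) := by
      apply hom_ext_cl
      intro E hE
      change g (φY (KRR.cl Y E)) = φX (pullK f (KRR.cl Y E))
      rw [hg E hE, pullK_cl f E hE]
    refine AddMonoidHom.ext fun k => ?_
    obtain ⟨y, rfl⟩ := hφY.2 k
    change g (φY y) = φX (pullK f (eY.symm (φY y)))
    have : eY.symm (φY y) = y := eY.symm_apply_apply _
    rw [this]
    exact congr($h1 y)

end Groth.Agent.Lib.Helper4.KPull
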