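import Groth.Agent.Lib.Helper27KoszPush
import Groth.Agent.Lib.Helper4KPull

/-!
# The Koszul relation in `Kvb (P^n_Y)` (helper27)

`koszul_relation_PY : Σ_i (-1)^i C(n+1,i) [O_{P^n_Y}(a+i)] = 0` in `Kvb (P^n_Y)`, for every scheme `Y` and
`a : ℤ` (the relation of `P^n_ℤ`, transported by helper4's `pullK`), and `cl_twF_structureModule`.
-/

set_option autoImplicit false
universe u

open CategoryTheory CategoryTheory.Limits AlgebraicGeometry TopologicalSpace Opposite

namespace Groth.Agent.Lib.Helper27KoszPull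

open Groth.Agent.Lib.Helper27PnHom Groth.Agent.Lib.Helper27KoszVb Groth.Agent.Lib.Helper27KoszPush
  Groth.Agent.Lib.Helper27AmpleElt Groth.Agent.Helper18KRR

variable (n : ℕ) (Y : Scheme.{u})

theorem koszul_relation_PY (a : ℤ) :
    (Finset.range (n + 2)).sum (fun i => ((-1 : ℤ) ^ i * ((n + 1).choose i : ℤ)) •
      KRR.cl (KRR.PY n Y) (Twist.twistOver n Y (a + i))) = 0 := by
  have h := (congrArg (Groth.Agent.Lib.Helper4.KPull.pullK (fstP n Y))
    (koszul_relation_cl n RZ a)).trans (Groth.Agent.Lib.Helper4.KPull.pullK (fstP n Y)).map_zero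
  rw [← h]
  refine Eq.trans ?_ (map_sum (Groth.Agent.Lib.Helper4.KPull.pullK (fstP n Y)) _ _).symm
  refine Finset.sum_congr rfl (fun i _ => ?_)
  refine Eq.trans ?_ ((Groth.Agent.Lib.Helper4.KPull.pullK (fstP n Y)).map_zsmul _ _).symm
  have h2 := Groth.Agent.Lib.Helper4.KPull.pullK_cl (fstP n Y) _ (isFinLocFree_OO n RZ (a + i))
  refine congrArg (fun z => ((-1 : ℤ) ^ i * ((n + 1).choose i : ℤ)) • z) ?_
  exact (congrArg (KRR.cl (KRR.PY n Y)) (fS_OO n Y (a + i)).symm).trans h2.symm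

theorem isFinLocFree_twistOver (d : ℤ) : FlatMod.IsFinLocFree (Twist.twistOver n Y d) :=
  Groth.Agent.Lib.Helper23.ResProp.isFinLocFree_of_isInvertible _ (isInvertible_twistOver n Y d)

/-- `[O(d) ⊗ O_P] = [O(d)]`. -/
theorem cl_twF_structureModule (d : ℤ) :
    KRR.cl (KRR.PY n Y) (KRR.twF n Y d (Coh.structureModule (KRR.PY n Y))) =
      KRR.cl (KRR.PY n Y) (Twist.twistOver n Y d) := by
  have e : KRR.twF n Y d (Coh.structureModule (KRR.PY n Y)) ≅ Twist.twistOver n Y d :=
    Groth.Agent.Lib.Helper23.TensorUnit.tensorUnitIso (Twist.twistOver n Y d)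
  exact cl_of_iso e (Groth.Agent.Lib.Helper26.ModLocFree.isFinLocFree_of_iso e.symm
    (isFinLocFree_twistOver n Y d))

end Groth.Agent.Lib.Helper27KoszPull
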