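import Groth.Agent.Lib.Helper17TwistBC3
import Groth.Agent.Lib.Helper27CMRegPn
import Groth.Agent.Lib.Helper27GlobGenPn
import Groth.Agent.Lib.Helper23RestrTensor
import Groth.Agent.Lib.Helper23TensorUnit

/-!
# Relative Castelnuovo–Mumford regularity on `P^n_T` (helper27)

`KRR.IsRegSheaf n T F` (vanishing of `R^i p_* F(-i)`, `i ≥ 1`) is translated, over every affine open
`V = Spec B` of `T`, into the absolute regularity of the pullback of `F` to `P^n_B` (along helper17's
chart `chartOver`), where `Helper27CMRegPn.regular_add_pn` applies.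

* `nonempty_HE_opensRange_equiv` : cohomology over the image of an open immersion (two-sided form of
  helper17's `subsingleton_HE_opensRange`).
* `isZero_RpushAb_iff` : `R^i p_* M = 0` iff `H^i(P^n_B, M|) = 0` for all affine opens `Spec B ⊆ T`.
* `nonempty_pullback_twF_iso` : `(O(d) ⊗ F)| ≅ F| ⊗ O(d)`.
* `isRegSheaf_twF` : `F` regular, quasi-coherent `⇒` `F(m)` regular, `m ≥ 0`.
* `isZero_RpushAb_of_isRegSheaf` : `F` regular, quasi-coherent `⇒` `R^i p_* F = 0`, `i ≥ 1`.
-/

set_option autoImplicit false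
universe u

open CategoryTheory CategoryTheory.Limits AlgebraicGeometry TopologicalSpace Opposite

namespace Groth.Agent.Lib.Helper27RelRegA

open Groth.Agent.Lib.Helper17 Groth.Agent.Lib.Helper23.AffVanish Groth.Agent.Lib.Helper17.LerayTop
  Groth.Agent.Lib.Helper17.BCVan Groth.Agent.Lib.Helper17.TwistBC

/-- cohomology over the image of an open immersion `c : W ⟶ P`. -/
theorem nonempty_HE_opensRange_equiv {W P : Scheme.{u}} (c : W ⟶ P) [IsOpenImmersion c]
    (M : P.Modules) [Coh.IsQCoh M] (N : W.Modules)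
    (φ : (Scheme.Modules.pullback c).obj M ≅ N) (i : ℕ) :
    Nonempty (HE (ab' M) i c.opensRange ≃+ Coh.HH W N i) := by
  let e := c.isoOpensRange
  have he : e.hom ≫ c.opensRange.ι = c := c.isoOpensRange_hom_ι
  let K : (c.opensRange : Scheme.{u}).Modules := M.restrict c.opensRange.ι
  let N' : W.Modules := (Scheme.Modules.restrictFunctor e.hom).obj K
  haveI : Coh.IsQCoh K := Scheme.Modules.isQuasicoherent_restrictFunctor c.opensRange.ι M
  haveI : Coh.IsQCoh N' := Scheme.Modules.isQuasicoherent_restrictFunctor e.hom K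
  have e4 : N' ≅ N :=
    (Scheme.Modules.restrictFunctorComp e.hom c.opensRange.ι).symm.app M ≪≫
      (Scheme.Modules.restrictFunctorCongr he).app M ≪≫
      (Scheme.Modules.restrictFunctorIsoPullback c).app M ≪≫ φ
  obtain ⟨a⟩ := nonempty_HE_equiv_HHon M c.opensRange i
  obtain ⟨b⟩ := Groth.Agent.S0012.result e.hom N' i
  haveI := isIso_unit_of_isIso e.hom K
  obtain ⟨c'⟩ := nonempty_HH_equiv_of_iso
    (asIso ((Scheme.Modules.restrictAdjunction e.hom).unit.app K)) i
  obtain ⟨d⟩ := nonempty_HH_equiv_of_iso e4 i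
  exact ⟨a.trans (c'.trans (b.symm.trans d))⟩

section Rel

variable (n : ℕ) (T : Scheme.{u})

/-- `R^i p_* M = 0` on `P^n_T` iff `H^i(P^n_B, M|_{P^n_B}) = 0` for every affine open `Spec B` of `T`. -/
theorem isZero_RpushAb_iff (M : (KRR.PY n T).Modules) [Coh.IsQCoh M] (i : ℕ) :
    IsZero ((Coh.RpushAb (KRR.pr n T) i).obj (Coh.toAb M)) ↔
      ∀ (V : T.Opens) (hV : IsAffineOpen V),
        Subsingleton (Coh.HH (CohB1.ProjSpace n Γ(T, V))
          ((Scheme.Modules.pullback (chartOver n hV)).obj M) i) := by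
  haveI := Groth.Agent.Lib.Helper27ProjSpaceFibres.isProper_toBase n T
  constructor
  · intro h V hV
    have h1 := subsingleton_HE_preimage_of_isZero (KRR.pr n T) M hV i h
    obtain ⟨a⟩ := nonempty_HE_opensRange_equiv (chartOver n hV) M _ (Iso.refl _) i
    have h2 : Subsingleton (HE (ab' M) i (chartOver n hV).opensRange) := by
      rw [opensRange_chartOver n hV]
      exact h1
    exact a.symm.toEquiv.subsingleton
  · intro h
    refine isZero_RpushAb_of_forall_affine _ _ i (fun V hV => ?_)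
    obtain ⟨a⟩ := nonempty_HE_opensRange_equiv (chartOver n hV) M _ (Iso.refl _) i
    haveI := h V hV
    have h2 : Subsingleton (HE (ab' M) i (chartOver n hV).opensRange) := a.toEquiv.subsingleton
    rw [opensRange_chartOver n hV] at h2
    exact h2

open Groth.Agent.Lib.Helper21.ModTensor5 Groth.Agent.Lib.Helper23.LocGen

theorem isQCoh_twF (d : ℤ) (F : (KRR.PY n T).Modules) (hF : Coh.IsQCoh F) :
    Coh.IsQCoh (KRR.twF n T d F) := by
  haveI := isQCoh_twistOver n T d
  haveI := hF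
  exact Groth.Agent.Lib.Helper23.TensorQCoh.isQuasicoherent_tensorMod (Twist.twistOver n T d) F

/-- `(O(d) ⊗ F)|_{P^n_B} ≅ F|_{P^n_B} ⊗ O(d)`. -/
theorem nonempty_pullback_twF_iso {V : T.Opens} (hV : IsAffineOpen V) (d : ℤ)
    (F : (KRR.PY n T).Modules) :
    Nonempty ((Scheme.Modules.pullback (chartOver n hV)).obj (KRR.twF n T d F) ≅
      CohB1.tensorMod ((Scheme.Modules.pullback (chartOver n hV)).obj F)
        (Twist.twistProjSpace n Γ(T, V) d)) := by
  obtain ⟨e⟩ := nonempty_pullback_chartOver_twist n hV d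
  have e1 : (Scheme.Modules.pullback (chartOver n hV)).obj (KRR.twF n T d F) ≅
      CohB1.tensorMod ((Scheme.Modules.pullback (chartOver n hV)).obj (Twist.twistOver n T d))
        ((Scheme.Modules.pullback (chartOver n hV)).obj F) :=
    Groth.Agent.Lib.Helper23.RestrTensor.pullbackTensorIso (Twist.twistOver n T d) F
      (chartOver n hV)
  have e2 : CohB1.tensorMod
        ((Scheme.Modules.pullback (chartOver n hV)).obj (Twist.twistOver n T d))
        ((Scheme.Modules.pullback (chartOver n hV)).obj F) ≅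
      CohB1.tensorMod (Twist.twistProjSpace n Γ(T, V) d)
        ((Scheme.Modules.pullback (chartOver n hV)).obj F) :=
    PicGrp.tensorModIso e (Iso.refl _)
  have e3 : CohB1.tensorMod (Twist.twistProjSpace n Γ(T, V) d)
        ((Scheme.Modules.pullback (chartOver n hV)).obj F) ≅
      CohB1.tensorMod ((Scheme.Modules.pullback (chartOver n hV)).obj F)
        (Twist.twistProjSpace n Γ(T, V) d) :=
    brdApp (CohB1.ProjSpace n Γ(T, V)).sheaf (Twist.twistProjSpace n Γ(T, V) d)
      ((Scheme.Modules.pullback (chartOver n hV)).obj F)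
  exact ⟨e1 ≪≫ e2 ≪≫ e3⟩

/-- relative regularity on `P^n_T` gives absolute regularity on `P^n_B`. -/
theorem regular_pullback (F : (KRR.PY n T).Modules) (hF : Coh.IsQCoh F)
    (hreg : KRR.IsRegSheaf n T F) {V : T.Opens} (hV : IsAffineOpen V) :
    ∀ q : ℕ, 1 ≤ q → Subsingleton (Coh.HH (CohB1.ProjSpace n Γ(T, V))
      (CohB1.tensorMod ((Scheme.Modules.pullback (chartOver n hV)).obj F)
        (Twist.twistProjSpace n Γ(T, V) (0 - q))) q) := by
  intro q hq
  haveI : Coh.IsQCoh (KRR.twF n T (-(q : ℤ)) F) := isQCoh_twF n T _ F hF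
  have h := (isZero_RpushAb_iff n T _ q).1 (hreg q hq) V hV
  obtain ⟨e⟩ := nonempty_pullback_twF_iso n T hV (-(q : ℤ)) F
  rw [zero_sub]
  exact Groth.Agent.Lib.Helper27PnCohVanish.subsingleton_HH_of_iso e q h

theorem regular_pullback_add (F : (KRR.PY n T).Modules) (hF : Coh.IsQCoh F)
    (hreg : KRR.IsRegSheaf n T F) {V : T.Opens} (hV : IsAffineOpen V) (t : ℕ) :
    ∀ q : ℕ, 1 ≤ q → Subsingleton (Coh.HH (CohB1.ProjSpace n Γ(T, V))
      (CohB1.tensorMod ((Scheme.Modules.pullback (chartOver n hV)).obj F)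
        (Twist.twistProjSpace n Γ(T, V) (0 + t - q))) q) := by
  haveI := hF
  have hq : ((Scheme.Modules.pullback (chartOver n hV)).obj F).IsQuasicoherent :=
    Groth.Agent.Lib.Helper2.PullbackSec.isQuasicoherent_pullback _ _
  exact Groth.Agent.Lib.Helper27CMRegPn.regular_add_pn n Γ(T, V) _ hq 0
    (regular_pullback n T F hF hreg hV) t

/-- **Castelnuovo–Mumford, relative form**: a regular quasi-coherent module on `P^n_T` stays regular
after twisting by `O(m)`, `m ≥ 0`. -/
theorem isRegSheaf_twF (F : (KRR.PY n T).Modules) (hF : Coh.IsQCoh F)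
    (hreg : KRR.IsRegSheaf n T F) (m : ℕ) : KRR.IsRegSheaf n T (KRR.twF n T (m : ℤ) F) := by
  intro i hi
  haveI : Coh.IsQCoh (KRR.twF n T (-(i : ℤ)) (KRR.twF n T (m : ℤ) F)) :=
    isQCoh_twF n T _ _ (isQCoh_twF n T _ F hF)
  refine (isZero_RpushAb_iff n T _ i).2 (fun V hV => ?_)
  have h := regular_pullback_add n T F hF hreg hV m i hi
  obtain ⟨e1⟩ := nonempty_pullback_twF_iso n T hV (-(i : ℤ)) (KRR.twF n T (m : ℤ) F)
  obtain ⟨e2⟩ := nonempty_pullback_twF_iso n T hV (m : ℤ) F
  obtain ⟨e3⟩ := Groth.Agent.Lib.Helper27SerreVanPn.nonempty_twist_tensor_iso n Γ(T, V)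
    (m : ℤ) (-(i : ℤ))
  rw [show (0 : ℤ) + (m : ℤ) - (i : ℤ) = (m : ℤ) + -(i : ℤ) by ring] at h
  exact Groth.Agent.Lib.Helper27PnCohVanish.subsingleton_HH_of_iso
    (e1 ≪≫ PicGrp.tensorModIso e2 (Iso.refl _) ≪≫ tensorAssoc _ _ _ ≪≫
      PicGrp.tensorModIso (Iso.refl _) e3).symm i h

/-- a regular quasi-coherent module on `P^n_T` has no higher direct images. -/
theorem isZero_RpushAb_of_isRegSheaf (F : (KRR.PY n T).Modules) (hF : Coh.IsQCoh F)
    (hreg : KRR.IsRegSheaf n T F) (i : ℕ) (hi : 1 ≤ i) :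
    IsZero ((Coh.RpushAb (KRR.pr n T) i).obj (Coh.toAb F)) := by
  haveI := hF
  refine (isZero_RpushAb_iff n T F i).2 (fun V hV => ?_)
  have h := regular_pullback_add n T F hF hreg hV i i hi
  rw [show (0 : ℤ) + (i : ℤ) - (i : ℤ) = 0 by ring] at h
  obtain ⟨e0⟩ := Groth.Agent.Lib.Helper27GlobGenPn.nonempty_OO_zero_iso n Γ(T, V)
  have e0' : Twist.twistProjSpace n Γ(T, V) 0 ≅ Coh.structureModule (CohB1.ProjSpace n Γ(T, V)) :=
    e0
  exact Groth.Agent.Lib.Helper27PnCohVanish.subsingleton_HH_of_iso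
    (PicGrp.tensorModIso (Iso.refl _) e0' ≪≫
      Groth.Agent.Lib.Helper23.TensorUnit.tensorUnitIso _) i h

end Rel

end Groth.Agent.Lib.Helper27RelRegA
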