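import Groth.Agent.S2427
import Groth.Agent.Lib.Helper27ChartPoly
import Groth.Agent.Lib.Helper21HZB9
import Groth.Agent.Lib.Helper26ModLocFree
import Groth.Agent.Lib.Helper2LocFree
import Groth.Agent.Lib.Helper21ModTensor5

/-!
# Direct images of twists of a locally free module on `P^n_Y` (helper27)

* `isFlatOver_of_isFlat` : a flat `O_X`-module is flat over `Y` along a flat morphism `X ⟶ Y`.
* `exists_isFinLocFree_push_twF` : for `F` finite locally free on `P^n_Y`, `Y` Noetherian, the direct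
  images `p_*(O(m) ⊗ F)` are finite locally free for `m ≫ 0` (from helper2's `S2427`).
-/

set_option autoImplicit false
universe u

open CategoryTheory CategoryTheory.Limits AlgebraicGeometry TopologicalSpace Opposite

namespace Groth.Agent.Lib.Helper27RelRegC

/-- a (stalkwise) flat module on `X` is flat over `Y` along a flat morphism. -/
theorem isFlatOver_of_isFlat {X Y : Scheme.{u}} (f : X ⟶ Y) [Flat f] (F : X.Modules)
    (hF : FlatMod.IsFlat F) : FlatMod.IsFlatOver f F := by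
  intro x
  letI := FlatMod.moduleStalkOver f F x
  change Module.Flat (Y.presheaf.stalk (f.base x)) (F.presheaf.stalk x)
  have hfl := Flat.stalkMap f x
  algebraize [(f.stalkMap x).hom]
  haveI : IsScalarTower (Y.presheaf.stalk (f.base x)) (X.presheaf.stalk x)
      (F.presheaf.stalk x) :=
    ⟨fun a b m => by
      change ((f.stalkMap x).hom a * b) • m = (f.stalkMap x).hom a • (b • m)
      exact mul_smul _ _ _⟩
  haveI : Module.Flat (X.presheaf.stalk x) (F.presheaf.stalk x) := hF x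
  exact Module.Flat.trans (Y.presheaf.stalk (f.base x)) (X.presheaf.stalk x)
    (F.presheaf.stalk x)

open Groth.Agent.Lib.Helper21.ModTensor5 in
/-- for a finite locally free `F` on `P^n_Y`, `Y` Noetherian, `p_*(O(m) ⊗ F)` is finite locally
free for `m ≫ 0`. -/
theorem exists_isFinLocFree_push_twF (n : ℕ) (Y : Scheme.{u}) [IsNoetherian Y]
    (F : (KRR.PY n Y).Modules) (hF : FlatMod.IsFinLocFree F) :
    ∃ m₀ : ℕ, ∀ m : ℕ, m₀ ≤ m → FlatMod.IsFinLocFree
      ((Scheme.Modules.pushforward (KRR.pr n Y)).obj (KRR.twF n Y (m : ℤ) F)) := by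
  have hcoh := Groth.Agent.Lib.Helper21.HZB.isCoh_of_isFinLocFree F hF
  haveI : F.IsQuasicoherent := hcoh.1
  haveI : Smooth (CohB1.ProjSpaceOver.toBase n Y) :=
    Groth.Agent.Lib.Helper27ChartPoly.smooth_toBase n Y
  have hflat0 : FlatMod.IsFlatOver (CohB1.ProjSpaceOver.toBase n Y) F :=
    isFlatOver_of_isFlat _ F (Groth.Agent.Lib.Helper2.LocFree.isFlat_of_isFinLocFree F hF)
  have hid : 𝟙 (CohB1.ProjSpaceOver n Y) ≫ CohB1.ProjSpaceOver.toBase n Y =
      CohB1.ProjSpaceOver.toBase n Y := Category.id_comp _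
  have hflat : FlatMod.IsFlatOver
      (𝟙 (CohB1.ProjSpaceOver n Y) ≫ CohB1.ProjSpaceOver.toBase n Y) F := by
    rw [hid]; exact hflat0
  obtain ⟨n₀, h⟩ := (Groth.Agent.S2427.result n (𝟙 (CohB1.ProjSpaceOver n Y)) F hcoh).1 hflat
  refine ⟨n₀.toNat, fun m hm => ?_⟩
  have h1 := h (m : ℤ) (by omega)
  have e1 : CohB1.tensorMod F ((Scheme.Modules.pullback (𝟙 (CohB1.ProjSpaceOver n Y))).obj
      (Twist.twistOver n Y (m : ℤ))) ≅ CohB1.tensorMod F (Twist.twistOver n Y (m : ℤ)) :=
    PicGrp.tensorModIso (Iso.refl F)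
      ((Scheme.Modules.pullbackId (CohB1.ProjSpaceOver n Y)).app (Twist.twistOver n Y (m : ℤ)))
  have e2 : CohB1.tensorMod F (Twist.twistOver n Y (m : ℤ)) ≅ KRR.twF n Y (m : ℤ) F :=
    brdApp (CohB1.ProjSpaceOver n Y).sheaf F (Twist.twistOver n Y (m : ℤ))
  have e3 := (Scheme.Modules.pushforward
    (𝟙 (CohB1.ProjSpaceOver n Y) ≫ CohB1.ProjSpaceOver.toBase n Y)).mapIso (e1 ≪≫ e2)
  have e4 := (Scheme.Modules.pushforwardCongr hid).app (KRR.twF n Y (m : ℤ) F)
  exact Groth.Agent.Lib.Helper26.ModLocFree.isFinLocFree_of_iso (e3 ≪≫ e4) h1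

end Groth.Agent.Lib.Helper27RelRegC
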