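import Groth.Agent.S2390
import Groth.Agent.Lib.Helper27RelRegA
import Groth.Agent.Lib.Helper27RelRegC
import Groth.Agent.Lib.Helper21RelExtSS
import Groth.Agent.Lib.Helper23ModAbBridge

/-!
# The direct image of a regular locally free module on `P^n_Y` is locally free (helper27)

From helper?'s `S2390` (`R^i f_* F = 0` for `i > 0`, `F` flat over `Y` `⇒` `f_* F` locally free) and
the vanishing `R^i p_* F = 0` for regular `F` (`Helper27RelRegA`).
-/

set_option autoImplicit false
universe u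

open CategoryTheory CategoryTheory.Limits AlgebraicGeometry TopologicalSpace Opposite

namespace Groth.Agent.Lib.Helper27RelRegF

attribute [local instance] Groth.Agent.Lib.Helper17.QCPush.enoughInjectives in
theorem isFinLocFree_push_of_isRegSheaf (n : ℕ) (Y : Scheme.{u}) [IsNoetherian Y]
    (F : (KRR.PY n Y).Modules) (hF : FlatMod.IsFinLocFree F) (hreg : KRR.IsRegSheaf n Y F) :
    FlatMod.IsFinLocFree ((Scheme.Modules.pushforward (KRR.pr n Y)).obj F) := by
  have hcoh := Groth.Agent.Lib.Helper21.HZB.isCoh_of_isFinLocFree F hF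
  haveI : F.IsQuasicoherent := hcoh.1
  haveI := Groth.Agent.Lib.Helper27ProjSpaceFibres.isProper_toBase n Y
  haveI : HasInjectiveResolutions (KRR.PY n Y).Modules := inferInstance
  haveI : Smooth (CohB1.ProjSpaceOver.toBase n Y) :=
    Groth.Agent.Lib.Helper27ChartPoly.smooth_toBase n Y
  have hflat : FlatMod.IsFlatOver (KRR.pr n Y) F :=
    Groth.Agent.Lib.Helper27RelRegC.isFlatOver_of_isFlat _ F
      (Groth.Agent.Lib.Helper2.LocFree.isFlat_of_isFinLocFree F hF)
  have hR : ∀ i : ℕ, 0 < i → IsZero ((Coh.Rpush (KRR.pr n Y) i).obj F) := by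
    intro i hi
    have h1 := Groth.Agent.Lib.Helper27RelRegA.isZero_RpushAb_of_isRegSheaf n Y F hcoh.1 hreg i hi
    obtain ⟨e⟩ := Groth.Agent.Lib.Helper23.ModAbBridge.nonempty_toAb_Rpush_iso (KRR.pr n Y) F i
    exact Groth.Agent.Lib.Helper21.RelExtSS.isZero_of_isZero_toAb _ (IsZero.of_iso h1 e)
  obtain ⟨-, h⟩ := Groth.Agent.S2390.result (KRR.pr n Y) F hcoh hflat hR
  intro y
  obtain ⟨U, hy, ⟨e⟩⟩ := h y
  exact ⟨U, _, hy, ⟨e⟩⟩

end Groth.Agent.Lib.Helper27RelRegF
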