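import Groth.Agent.Lib.Helper27RelRegE
import Groth.Agent.Lib.Helper27RelRegF
import Groth.Agent.Lib.Helper27CohSum
import Groth.Agent.Lib.Helper27ExtHom1
import Groth.Agent.Lib.Helper27FinSurjAmple

/-!
# `p_*`-acyclic modules on `P^n_T` (helper27)

`Acyc n T M` : `R^i p_* M = 0` for all `i ≥ 1` (`p : P^n_T ⟶ T`).

* `acyc_X₃` : two-out-of-three for short exact sequences of quasi-coherent modules.
* `acyc_sigma_const`, `acyc_of_iso`, `acyc_twistOver`.
* `epi_push_map`, `shortExact_map_push` : `p_*` is exact on short exact sequences of quasi-coherent modules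
  whose kernel term has `R^1 p_* = 0`.
* `isFinLocFree_push_of_acyc` : `p_*` of an acyclic finite locally free module is finite locally free
  (`T` Noetherian).
* `isZero_push_twistOver` : `p_* O(d) = 0` for `d < 0`.
-/

set_option autoImplicit false
universe u

open CategoryTheory CategoryTheory.Limits AlgebraicGeometry TopologicalSpace Opposite

namespace Groth.Agent.Lib.Helper27PushAcyc

open Groth.Agent.Lib.Helper17 Groth.Agent.Lib.Helper17.TwistBC Groth.Agent.Lib.Helper17.LerayTop
  Groth.Agent.Lib.Helper23.AffVanish Groth.Agent.Lib.Helper17.BCVan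
  Groth.Agent.Lib.Helper27RelRegA Groth.Agent.Lib.Helper27RelRegD Groth.Agent.Lib.Helper27RelRegE
  Groth.Agent.Lib.Helper27SerreVan Groth.Agent.Lib.Helper27ResChase
  Groth.Agent.Lib.Helper23.QCohLocal

section General

/-- surjectivity on global sections of the pullback along an open immersion gives surjectivity on the
sections over its range. -/
theorem surjective_app_opensRange_of_pullback {W P : Scheme.{u}} (c : W ⟶ P) [IsOpenImmersion c]
    {A B : P.Modules} (φ : A ⟶ B)
    (h : Function.Surjective (((Scheme.Modules.pullback c).map φ).app ⊤)) :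
    Function.Surjective (φ.app c.opensRange) := by
  have hnat := (Scheme.Modules.restrictFunctorIsoPullback c).hom.naturality φ
  have h1 : (Scheme.Modules.restrictFunctor c).map φ =
      (Scheme.Modules.restrictFunctorIsoPullback c).hom.app A ≫
        (Scheme.Modules.pullback c).map φ ≫
          (Scheme.Modules.restrictFunctorIsoPullback c).inv.app B := by
    rw [← Category.assoc, ← hnat, Category.assoc, Iso.hom_inv_id_app, Category.comp_id]
  have s1 : Function.Surjective
      (((Scheme.Modules.restrictFunctorIsoPullback c).hom.app A).app ⊤) :=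
    Groth.Agent.Lib.Helper27GlobGenPn.surjective_app_top_of_iso
      ((Scheme.Modules.restrictFunctorIsoPullback c).app A)
  have s3 : Function.Surjective
      (((Scheme.Modules.restrictFunctorIsoPullback c).inv.app B).app ⊤) :=
    Groth.Agent.Lib.Helper27GlobGenPn.surjective_app_top_of_iso
      ((Scheme.Modules.restrictFunctorIsoPullback c).symm.app B)
  have s2 : Function.Surjective (((Scheme.Modules.restrictFunctor c).map φ).app ⊤) := by
    rw [h1, Scheme.Modules.Hom.comp_app, Scheme.Modules.Hom.comp_app]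
    exact s3.comp (h.comp s1)
  have e : c.opensRange = c ''ᵁ (⊤ : W.Opens) := (Scheme.Hom.image_top_eq_opensRange c).symm
  exact Groth.Agent.Lib.Helper27KoszPn.surjective_app_of_eq φ e s2

end General

variable (n : ℕ) (T : Scheme.{u})

/-- `R^i p_* M = 0` for all `i ≥ 1`. -/
def Acyc (M : (KRR.PY n T).Modules) : Prop :=
  ∀ i : ℕ, 1 ≤ i → IsZero ((Coh.RpushAb (KRR.pr n T) i).obj (Coh.toAb M))

variable {n T}

theorem acyc_X₃ (S : ShortComplex (KRR.PY n T).Modules) (hS : S.ShortExact)
    (q₁ : Coh.IsQCoh S.X₁) (q₂ : Coh.IsQCoh S.X₂) (q₃ : Coh.IsQCoh S.X₃)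
    (h₁ : Acyc n T S.X₁) (h₂ : Acyc n T S.X₂) : Acyc n T S.X₃ := by
  intro i hi
  haveI := q₁; haveI := q₂; haveI := q₃
  refine (isZero_RpushAb_iff n T S.X₃ i).2 (fun V hV => ?_)
  have hS₁ := shortExact_map_pullback_of_flat (chartOver n hV) S hS
  have a2 := (isZero_RpushAb_iff n T S.X₂ i).1 (h₂ i hi) V hV
  have a1 := (isZero_RpushAb_iff n T S.X₁ (i + 1)).1 (h₁ (i + 1) (by omega)) V hV
  exact subsingleton_of_shortExact _ hS₁ i a2 a1

theorem acyc_of_iso {M N : (KRR.PY n T).Modules} (e : M ≅ N) (h : Acyc n T M) : Acyc n T N :=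
  fun i hi => IsZero.of_iso (h i hi)
    ((Coh.RpushAb (KRR.pr n T) i).mapIso ((SheafOfModules.toSheaf _).mapIso e)).symm

theorem acyc_sigma_const (M : (KRR.PY n T).Modules) (hq : Coh.IsQCoh M) (hM : Acyc n T M) (k : ℕ) :
    Acyc n T (∐ fun _ : Fin k => M) := by
  intro i hi
  haveI := hq
  haveI hqs : Coh.IsQCoh (∐ fun _ : Fin k => M) :=
    Groth.Agent.Lib.Helper27CoprodFin.isQuasicoherent_sigma _ (fun _ => hq)
  refine (isZero_RpushAb_iff n T _ i).2 (fun V hV => ?_)
  let e1 : (Scheme.Modules.pullback (chartOver n hV)).obj (∐ fun _ : Fin k => M) ≅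
      ∐ fun _ : Fin k => (Scheme.Modules.pullback (chartOver n hV)).obj M :=
    PreservesCoproduct.iso (Scheme.Modules.pullback (chartOver n hV)) _
  let g : ULift.{u} (Fin k) → (CohB1.ProjSpace n Γ(T, V)).Modules :=
    fun _ => (Scheme.Modules.pullback (chartOver n hV)).obj M
  let e2 : ∐ g ≅ ∐ fun _ : Fin k => (Scheme.Modules.pullback (chartOver n hV)).obj M :=
    Sigma.reindex (Equiv.ulift : ULift.{u} (Fin k) ≃ Fin k)
      (fun _ : Fin k => (Scheme.Modules.pullback (chartOver n hV)).obj M)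
  obtain ⟨p, rfl⟩ : ∃ p, i = p + 1 := ⟨i - 1, by omega⟩
  have hgq : ∀ j, (g j).IsQuasicoherent := fun _ =>
    Groth.Agent.Lib.Helper2.PullbackSec.isQuasicoherent_pullback _ _
  have h1 : Subsingleton (Coh.HH (CohB1.ProjSpace n Γ(T, V)) (∐ g) (p + 1)) :=
    Groth.Agent.Lib.Helper27CohSum.subsingleton_HH_coprod g
      (Groth.Agent.Lib.Helper27PnCech.V n Γ(T, V))
      (Groth.Agent.Lib.Helper27PnCohVanish.iSup_V n Γ(T, V))
      (Groth.Agent.Lib.Helper27PnCohVanish.isAffineOpen_iInf_V n Γ(T, V)) hgq p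
      (fun _ => (isZero_RpushAb_iff n T M (p + 1)).1 (hM (p + 1) hi) V hV)
  exact Groth.Agent.Lib.Helper27PnCohVanish.subsingleton_HH_of_iso (e1 ≪≫ e2.symm).symm (p + 1) h1

theorem acyc_twistOver (d : ℤ) (hd : -(n : ℤ) ≤ d) : Acyc n T (Twist.twistOver n T d) :=
  fun i hi => isZero_RpushAb_twistOver T n i d (by omega)

theorem acyc_of_isZero {M : (KRR.PY n T).Modules} (hq : Coh.IsQCoh M) (h : IsZero M) :
    Acyc n T M := by
  intro i hi
  haveI := hq
  refine (isZero_RpushAb_iff n T M i).2 (fun V hV => ?_)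
  exact Groth.Agent.Lib.Helper27FinSurjAmple.subsingleton_HH_of_isZero
    ((Scheme.Modules.pullback (chartOver n hV)).map_isZero h) i

theorem epi_push_map (S : ShortComplex (KRR.PY n T).Modules) (hS : S.ShortExact)
    (q₁ : Coh.IsQCoh S.X₁) (q₂ : Coh.IsQCoh S.X₂) (q₃ : Coh.IsQCoh S.X₃)
    (h₁ : IsZero ((Coh.RpushAb (KRR.pr n T) 1).obj (Coh.toAb S.X₁))) :
    Epi ((Scheme.Modules.pushforward (KRR.pr n T)).map S.g) := by
  haveI := q₁; haveI := q₂; haveI := q₃
  haveI := Groth.Agent.Lib.Helper27ProjSpaceFibres.isProper_toBase n T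
  haveI : ((Scheme.Modules.pushforward (KRR.pr n T)).obj S.X₂).IsQuasicoherent :=
    isQuasicoherent_pushforward _ S.X₂
  haveI : ((Scheme.Modules.pushforward (KRR.pr n T)).obj S.X₃).IsQuasicoherent :=
    isQuasicoherent_pushforward _ S.X₃
  refine Groth.Agent.Lib.Helper27KoszPn.epi_of_surjective_app_cover _
    (fun V : T.affineOpens => V.1) (iSup_affineOpens_eq_top T) (fun V => V.2) (fun V => ?_)
  change Function.Surjective (S.g.app ((KRR.pr n T) ⁻¹ᵁ V.1))
  refine Groth.Agent.Lib.Helper27KoszPn.surjective_app_of_eq S.g (opensRange_chartOver n V.2).symm ?_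
  apply surjective_app_opensRange_of_pullback
  exact surjective_app_top_of_shortExact _ (shortExact_map_pullback_of_flat (chartOver n V.2) S hS)
    ((isZero_RpushAb_iff n T S.X₁ 1).1 h₁ V.1 V.2)

theorem shortExact_map_push (S : ShortComplex (KRR.PY n T).Modules) (hS : S.ShortExact)
    (q₁ : Coh.IsQCoh S.X₁) (q₂ : Coh.IsQCoh S.X₂) (q₃ : Coh.IsQCoh S.X₃)
    (h₁ : IsZero ((Coh.RpushAb (KRR.pr n T) 1).obj (Coh.toAb S.X₁))) :
    (S.map (Scheme.Modules.pushforward (KRR.pr n T))).ShortExact := by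
  haveI := hS.mono_f
  haveI : Mono ((Scheme.Modules.pushforward (KRR.pr n T)).map S.f) := inferInstance
  exact
    { exact := ShortComplex.exact_of_f_is_kernel _
        (KernelFork.mapIsLimit _ hS.fIsKernel (Scheme.Modules.pushforward (KRR.pr n T)))
      mono_f := (inferInstance : Mono ((Scheme.Modules.pushforward (KRR.pr n T)).map S.f))
      epi_g := epi_push_map S hS q₁ q₂ q₃ h₁ }

/-- `p_* O(d) = 0` for `d < 0`. -/
theorem isZero_push_twistOver (d : ℤ) (hd : d < 0) (hd' : -(n : ℤ) ≤ d) :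
    IsZero ((Scheme.Modules.pushforward (KRR.pr n T)).obj (Twist.twistOver n T d)) := by
  apply Groth.Agent.Lib.Helper21.RelExtSS.isZero_of_isZero_toAb
  refine isZero_of_subsingleton_affine _ (fun V hV => ?_)
  haveI := isQCoh_twistOver n T d
  obtain ⟨φ⟩ := nonempty_pullback_chartOver_twist n hV d
  have h0 : Subsingleton (HE (ab' (Twist.twistOver n T d)) 0 (chartOver n hV).opensRange) :=
    subsingleton_HE_opensRange (chartOver n hV) _ _ φ 0
      (Groth.Agent.Lib.Helper27PnCohVanish.subsingleton_HH n Γ(T, V) d 0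
        (fun h => by omega) (fun h => by omega))
  rw [opensRange_chartOver n hV] at h0
  exact (Groth.Agent.Lib.Helper23.AffVanish.h0Equiv (ab' (Twist.twistOver n T d))
    ((CohB1.ProjSpaceOver.toBase n T) ⁻¹ᵁ V)).symm.toEquiv.subsingleton

attribute [local instance] Groth.Agent.Lib.Helper17.QCPush.enoughInjectives in
/-- `p_*` of an acyclic finite locally free module is finite locally free. -/
theorem isFinLocFree_push_of_acyc (Y : Scheme.{u}) [IsNoetherian Y]
    (F : (KRR.PY n Y).Modules) (hF : FlatMod.IsFinLocFree F) (hac : Acyc n Y F) :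
    FlatMod.IsFinLocFree ((Scheme.Modules.pushforward (KRR.pr n Y)).obj F) := by
  have hcoh := Groth.Agent.Lib.Helper21.HZB.isCoh_of_isFinLocFree F hF
  haveI : F.IsQuasicoherent := hcoh.1
  haveI := Groth.Agent.Lib.Helper27ProjSpaceFibres.isProper_toBase n Y
  haveI : HasInjectiveResolutions (KRR.PY n Y).Modules := inferInstance
  haveI : Smooth (CohB1.ProjSpaceOver.toBase n Y) :=
    Groth.Agent.Lib.Helper27ChartPoly.smooth_toBase n Y
  have hflat : FlatMod.IsFlatOver (KRR.pr n Y) F :=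
    Groth.Agent.Lib.Helper27RelRegC.isFlatOver_of_isFlat _ F
      (Groth.Agent.Lib.Helper2.LocFree.isFlat_of_isFinLocFree F hF)
  have hR : ∀ i : ℕ, 0 < i → IsZero ((Coh.Rpush (KRR.pr n Y) i).obj F) := by
    intro i hi
    have h1 := hac i hi
    obtain ⟨e⟩ := Groth.Agent.Lib.Helper23.ModAbBridge.nonempty_toAb_Rpush_iso (KRR.pr n Y) F i
    exact Groth.Agent.Lib.Helper21.RelExtSS.isZero_of_isZero_toAb _ (IsZero.of_iso h1 e)
  obtain ⟨-, h⟩ := Groth.Agent.S2390.result (KRR.pr n Y) F hcoh hflat hR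
  intro y
  obtain ⟨U, hy, ⟨e⟩⟩ := h y
  exact ⟨U, _, hy, ⟨e⟩⟩

end Groth.Agent.Lib.Helper27PushAcyc
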