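import Mathlib
import Groth.Prelude.Def_KRR
import Groth.Agent.Lib.Helper17TwistBC3
import Groth.Agent.Lib.Helper27ProjGamma2
import Groth.Agent.Lib.Helper23Serre
import Groth.Agent.Lib.Helper23TensorUnit
import Groth.Agent.Lib.Helper20ZClos2
import Groth.Agent.Lib.Helper17K0a
import Groth.Agent.Lib.Helper1PC5
import Groth.Agent.Lib.Helper26ModLocFree
import Groth.Agent.Lib.Helper23ResProp

/-!
# `p_* O_P = O_Y` for `p : P^n_Y ⟶ Y`, and `O_P` is regular (helper27)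

* `isIso_app_toBase` : `Γ(Y, V) ⟶ Γ(P^n_Y, p⁻¹ V)` is an isomorphism for affine `V`.
* `isIso_unitPush_toBase` : `O_Y ⟶ p_* O_P` is an isomorphism.
* `isRegSheaf_structureModule` : `O_P` is regular.
-/

set_option autoImplicit false
universe u

open CategoryTheory CategoryTheory.Limits AlgebraicGeometry TopologicalSpace Opposite

namespace Groth.Agent.Lib.Helper27PushStr

open Groth.Agent.Lib.Helper17.TwistBC
open scoped ZeroObject

theorem isIso_appLE_top {X Y : Scheme.{u}} (f : X ⟶ Y) [IsOpenImmersion f] (W : Y.Opens)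
    (h : W = f ''ᵁ ⊤) (hle : (⊤ : X.Opens) ≤ f ⁻¹ᵁ W) : IsIso (f.appLE W ⊤ hle) := by
  subst h
  have : f.appLE (f ''ᵁ ⊤) ⊤ hle = (f.appIso ⊤).hom := (f.appIso_hom' ⊤).symm
  rw [this]
  infer_instance

theorem isIso_app_toBase (n : ℕ) (Y : Scheme.{u}) {V : Y.Opens} (hV : IsAffineOpen V) :
    IsIso ((CohB1.ProjSpaceOver.toBase n Y).app V) := by
  set p := CohB1.ProjSpaceOver.toBase n Y with hp
  set c := chartOver n hV with hc
  set π := CohB1.ProjSpace.toSpec n Γ(Y, V) with hπ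
  have hcomm : c ≫ p = π ≫ hV.fromSpec := chartOver_toBase n hV
  have hrange : c ''ᵁ ⊤ = p ⁻¹ᵁ V :=
    (Scheme.Hom.image_top_eq_opensRange c).trans (opensRange_chartOver n hV)
  have hle1 : (⊤ : (CohB1.ProjSpace n Γ(Y, V)).Opens) ≤ c ⁻¹ᵁ (p ⁻¹ᵁ V) := by
    rw [← hrange]
    exact (Scheme.Hom.preimage_image_eq c ⊤).ge
  have hle2 : (⊤ : (Spec Γ(Y, V)).Opens) ≤ hV.fromSpec ⁻¹ᵁ V := by
    rw [hV.fromSpec_preimage_self]
  haveI i1 : IsIso (c.appLE (p ⁻¹ᵁ V) ⊤ hle1) := isIso_appLE_top c _ hrange.symm hle1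
  haveI i2 : IsIso (hV.fromSpec.appLE V ⊤ hle2) :=
    isIso_appLE_top hV.fromSpec V
      ((Scheme.Hom.image_top_eq_opensRange hV.fromSpec).trans hV.opensRange_fromSpec).symm hle2
  haveI i3 : IsIso π.appTop := Groth.Agent.Lib.Helper27ProjGamma.isIso_toSpec_appTop n Γ(Y, V)
  have hle3 : (⊤ : (CohB1.ProjSpace n Γ(Y, V)).Opens) ≤ (c ≫ p) ⁻¹ᵁ V := hle1
  have hle4 : (⊤ : (CohB1.ProjSpace n Γ(Y, V)).Opens) ≤ (π ≫ hV.fromSpec) ⁻¹ᵁ V := by
    rw [← hcomm]; exact hle3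
  have e1 : (c ≫ p).appLE V ⊤ hle3 = p.app V ≫ c.appLE (p ⁻¹ᵁ V) ⊤ hle1 := by
    rw [Scheme.Hom.app_eq_appLE, Scheme.Hom.appLE_comp_appLE]
  have e2 : (π ≫ hV.fromSpec).appLE V ⊤ hle4 = hV.fromSpec.appLE V ⊤ hle2 ≫ π.appTop := by
    rw [show π.appTop = π.appLE ⊤ ⊤ le_top from (Scheme.Hom.appLE_eq_app _).symm ▸ rfl,
      Scheme.Hom.appLE_comp_appLE]
  have e3 : (c ≫ p).appLE V ⊤ hle3 = (π ≫ hV.fromSpec).appLE V ⊤ hle4 := by
    congr 1
  have e4 : p.app V ≫ c.appLE (p ⁻¹ᵁ V) ⊤ hle1 = hV.fromSpec.appLE V ⊤ hle2 ≫ π.appTop := by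
    rw [← e1, e3, e2]
  have e5 : p.app V = (hV.fromSpec.appLE V ⊤ hle2 ≫ π.appTop) ≫ inv (c.appLE (p ⁻¹ᵁ V) ⊤ hle1) := by
    rw [← e4, Category.assoc, IsIso.hom_inv_id, Category.comp_id]
  rw [e5]
  infer_instance

theorem isIso_unitPush_toBase (n : ℕ) (Y : Scheme.{u}) :
    IsIso (Groth.Agent.Lib.Helper23.Serre.unitPush (CohB1.ProjSpaceOver.toBase n Y)) := by
  refine Groth.Agent.Lib.Helper20.ZClosLib.isIso_of_bijective_on_affines _ (fun V hV => ?_)
  haveI := isIso_app_toBase n Y hV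
  exact (ConcreteCategory.bijective_of_isIso ((CohB1.ProjSpaceOver.toBase n Y).app V))

/-- `O_P` on `P^n_Y` is regular. -/
theorem isRegSheaf_structureModule (n : ℕ) (Y : Scheme.{u}) :
    KRR.IsRegSheaf n Y (Coh.structureModule (KRR.PY n Y)) := by
  intro i hi
  have h := isZero_RpushAb_twistOver Y n i (-(i : ℤ)) (by
    rintro (⟨h0, -⟩ | ⟨hn, hd⟩)
    · omega
    · subst hn
      omega)
  have e : KRR.twF n Y (-(i : ℤ)) (Coh.structureModule (KRR.PY n Y)) ≅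
      Twist.twistOver n Y (-(i : ℤ)) :=
    Groth.Agent.Lib.Helper23.TensorUnit.tensorUnitIso _
  exact h.of_iso ((Coh.RpushAb (KRR.pr n Y) i).mapIso
    ((SheafOfModules.toSheaf (KRR.PY n Y).ringCatSheaf).mapIso e))

/-- `p_K [O_P] = [O_Y]`. -/
theorem cl_push_structureModule (n : ℕ) (Y : Scheme.{u}) :
    KRR.cl Y ((Scheme.Modules.pushforward (KRR.pr n Y)).obj (Coh.structureModule (KRR.PY n Y))) =
      KRR.cl Y (Coh.structureModule Y) := by
  haveI := isIso_unitPush_toBase n Y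
  have e : Coh.structureModule Y ≅
      (Scheme.Modules.pushforward (KRR.pr n Y)).obj (Coh.structureModule (KRR.PY n Y)) :=
    asIso (Groth.Agent.Lib.Helper23.Serre.unitPush (CohB1.ProjSpaceOver.toBase n Y))
  have hO : FlatMod.IsFinLocFree (Coh.structureModule Y) :=
    Groth.Agent.Lib.Helper23.ResProp.isFinLocFree_of_isInvertible _
      (Groth.Agent.Lib.Helper23.TensorUnit.isInvertible_structureModule Y)
  have hO' : FlatMod.IsFinLocFree
      ((Scheme.Modules.pushforward (KRR.pr n Y)).obj (Coh.structureModule (KRR.PY n Y))) :=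
    Groth.Agent.Lib.Helper26.ModLocFree.isFinLocFree_of_iso e hO
  have h0 : FlatMod.IsFinLocFree (0 : Y.Modules) :=
    Groth.Agent.Lib.Helper1.SPL.isFinLocFree_of_isZero _ (isZero_zero _)
  let S : ShortComplex Y.Modules := ShortComplex.mk e.hom
    (0 : (Scheme.Modules.pushforward (KRR.pr n Y)).obj (Coh.structureModule (KRR.PY n Y)) ⟶
      (0 : Y.Modules)) (by simp)
  have hS : S.ShortExact :=
    { exact := by
        have : Epi S.f := by dsimp [S]; infer_instance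
        exact (ShortComplex.exact_iff_epi _ rfl).2 this
      mono_f := by dsimp [S]; infer_instance
      epi_g := ⟨fun _ _ _ => (isZero_zero _).eq_of_src _ _⟩ }
  have h1 := Groth.Agent.Lib.Helper17.K0a.clSub_shortExact (KRR.vbP Y) S hS hO hO' h0
  have h2 : KZero.clSub (KRR.vbP Y) (0 : Y.Modules) = 0 := by
    let S0 : ShortComplex Y.Modules := ShortComplex.mk (0 : (0 : Y.Modules) ⟶ (0 : Y.Modules))
      (0 : (0 : Y.Modules) ⟶ (0 : Y.Modules)) (by simp)
    have hS0 : S0.ShortExact :=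
      { exact := ShortComplex.exact_of_isZero_X₂ _ (isZero_zero _)
        mono_f := ⟨fun _ _ _ => (isZero_zero _).eq_of_tgt _ _⟩
        epi_g := ⟨fun _ _ _ => (isZero_zero _).eq_of_src _ _⟩ }
    have h := Groth.Agent.Lib.Helper17.K0a.clSub_shortExact (KRR.vbP Y) S0 hS0 h0 h0 h0
    have h' : KZero.clSub (KRR.vbP Y) (0 : Y.Modules) =
      KZero.clSub (KRR.vbP Y) (0 : Y.Modules) + KZero.clSub (KRR.vbP Y) (0 : Y.Modules) := h
    have := congrArg (fun t => t - KZero.clSub (KRR.vbP Y) (0 : Y.Modules)) h'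
    simpa using this.symm
  have h1' : KZero.clSub (KRR.vbP Y)
      ((Scheme.Modules.pushforward (KRR.pr n Y)).obj (Coh.structureModule (KRR.PY n Y))) =
      KZero.clSub (KRR.vbP Y) (Coh.structureModule Y) + KZero.clSub (KRR.vbP Y) (0 : Y.Modules) := h1
  rw [h2, add_zero] at h1'
  exact h1'

end Groth.Agent.Lib.Helper27PushStr
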