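import Groth.Agent.Lib.Helper27KoszVb
import Groth.Agent.Lib.Helper27PushAcyc
import Groth.Agent.Lib.Helper27PushStr
import Groth.Agent.Lib.Helper27TwistEq
import Groth.Agent.Lib.Helper18KRR
import Groth.Agent.Lib.Helper1Sky4
import Groth.Agent.Lib.Helper1Sky9

/-!
# The class of `p_* O(m)` on `P^n_Y` (helper27)

Pulling the Koszul complex of `P^n_ℤ` back to `P^n_Y` and pushing it forward to `Y` (it consists of
`p_*`-acyclic modules in the twists `≥ -n`):

* `push_koszul_relation` : `Σ_i (-1)^i C(n+1,i) [p_* O(a+i)] = 0` in `Kvb Y`, `a ≥ -n`.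
* `cl_push_twistOver` : `[p_* O(m)] = C(n+m,n) • [O_Y]` for `m ≥ 0` (`Y` Noetherian).
-/

set_option autoImplicit false
universe u

open CategoryTheory CategoryTheory.Limits AlgebraicGeometry TopologicalSpace Opposite

namespace Groth.Agent.Lib.Helper27KoszPush

open Groth.Agent.Lib.Helper27PnHom Groth.Agent.Lib.Helper27KoszPn Groth.Agent.Lib.Helper27KoszCx
  Groth.Agent.Lib.Helper27KoszReg Groth.Agent.Lib.Helper27ResChase
  Groth.Agent.Lib.Helper27AmpleElt Groth.Agent.Lib.Helper27KClass Groth.Agent.Lib.Helper27KoszVb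
  Groth.Agent.Lib.Helper27PushAcyc Groth.Agent.Helper18KRR

section General

variable {C D : Type*} [Category C] [Category D] [Preadditive C] [Preadditive D]
  [HasFiniteBiproducts C] [HasFiniteBiproducts D]

/-- an additive functor commutes with finite constant coproducts. -/
noncomputable def sigmaConstIso (Φ : C ⥤ D) [Φ.Additive] (N : C) (k : ℕ) :
    Φ.obj (∐ fun _ : Fin k => N) ≅ ∐ fun _ : Fin k => Φ.obj N :=
  Φ.mapIso (biproduct.isoCoproduct (fun _ : Fin k => N)).symm ≪≫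
    Φ.mapBiproduct (fun _ : Fin k => N) ≪≫ biproduct.isoCoproduct (fun _ : Fin k => Φ.obj N)

end General

/-- the integers, in the universe `u`. -/
abbrev RZ : Type u := ULift.{u} ℤ

variable (n : ℕ) (Y : Scheme.{u})

local notation "𝒢" => CohB1.polyGrading n RZ

/-- `f^*`, `f : P^n_Y ⟶ P^n_ℤ`. -/
noncomputable abbrev fS : (Proj 𝒢).Modules ⥤ (KRR.PY n Y).Modules :=
  Scheme.Modules.pullback (fstP n Y)

/-- `p_*`, `p : P^n_Y ⟶ Y`. -/
noncomputable abbrev pS : (KRR.PY n Y).Modules ⥤ Y.Modules :=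
  Scheme.Modules.pushforward (KRR.pr n Y)

theorem fS_OO (t : ℤ) : (fS n Y).obj (OO n RZ t) = Twist.twistOver n Y t := by
  rw [twistOver_eq, Groth.Agent.Lib.Helper27TwistEq.twistProjSpace_apply]
  rfl

theorem isFinLocFree_fS (M : (Proj 𝒢).Modules) (hM : FlatMod.IsFinLocFree M) :
    FlatMod.IsFinLocFree ((fS n Y).obj M) :=
  Groth.Agent.Lib.Helper1.Sky.isFinLocFree_pullback (fstP n Y) M hM

theorem isQCoh_fS (M : (Proj 𝒢).Modules) (hM : FlatMod.IsFinLocFree M) :
    Coh.IsQCoh ((fS n Y).obj M) :=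
  Groth.Agent.Lib.Helper21.HZB.isQuasicoherent_of_isFinLocFree _ (isFinLocFree_fS n Y M hM)

theorem shortExact_fS (S : ShortComplex (Proj 𝒢).Modules) (hS : S.ShortExact)
    (h₃ : FlatMod.IsFinLocFree S.X₃) : (S.map (fS n Y)).ShortExact :=
  Groth.Agent.Lib.Helper1.Sky.shortExact_map_pullback (fstP n Y) S hS
    (Groth.Agent.Lib.Helper1.Sky.isFlat_of_isFinLocFree' S.X₃ h₃)

theorem acyc_fS_KK (i : ℕ) (t : ℤ) (ht : -(n : ℤ) ≤ t) :
    Acyc n Y ((fS n Y).obj (KK n RZ i t)) := by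
  have e : (fS n Y).obj (KK n RZ i t) ≅
      ∐ fun _ : Fin (Nat.choose (n + 1) i) => (fS n Y).obj (OO n RZ t) :=
    PreservesCoproduct.iso (fS n Y) _
  refine acyc_of_iso e.symm ?_
  have hq : Coh.IsQCoh ((fS n Y).obj (OO n RZ t)) := by
    rw [fS_OO]
    exact Groth.Agent.Lib.Helper17.TwistBC.isQCoh_twistOver n Y t
  have hac : Acyc n Y ((fS n Y).obj (OO n RZ t)) := by
    rw [fS_OO]
    exact acyc_twistOver t ht
  exact acyc_sigma_const _ hq hac _

variable (a : ℤ)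

theorem acyc_fS_Z (ha : -(n : ℤ) ≤ a) :
    ∀ j : ℕ, j ≤ n + 2 → Acyc n Y ((fS n Y).obj (Z (Kx n RZ a) (dK n RZ a) j)) := by
  intro j
  induction j with
  | zero =>
    intro _
    exact acyc_of_isZero (isQCoh_fS n Y _ (isFinLocFree_ZK n RZ a 0 (by omega)))
      ((fS n Y).map_isZero (isZero_Z_zero n RZ a))
  | succ j ih =>
    intro hj
    have hS := shortExact_fS n Y _ (sesK_shortExact n RZ a j) (isFinLocFree_ZK n RZ a (j + 1) hj)
    exact acyc_X₃ _ hS (isQCoh_fS n Y _ (isFinLocFree_ZK n RZ a j (by omega)))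
      (isQCoh_fS n Y _ (isFinLocFree_KK n RZ j _))
      (isQCoh_fS n Y _ (isFinLocFree_ZK n RZ a (j + 1) hj)) (ih (by omega))
      (acyc_fS_KK n Y j _ (by omega))

variable [IsNoetherian Y]

theorem isFinLocFree_push_twistOver (t : ℤ) (ht : -(n : ℤ) ≤ t) :
    FlatMod.IsFinLocFree ((pS n Y).obj (Twist.twistOver n Y t)) :=
  isFinLocFree_push_of_acyc Y _
    (Groth.Agent.Lib.Helper23.ResProp.isFinLocFree_of_isInvertible _ (isInvertible_twistOver n Y t))
    (acyc_twistOver t ht)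

theorem cl_push_KK (i : ℕ) (t : ℤ) (ht : -(n : ℤ) ≤ t) :
    KRR.cl Y ((pS n Y).obj ((fS n Y).obj (KK n RZ i t))) =
      (Nat.choose (n + 1) i) • KRR.cl Y ((pS n Y).obj (Twist.twistOver n Y t)) := by
  have e : (pS n Y).obj ((fS n Y).obj (KK n RZ i t)) ≅
      ∐ fun _ : Fin (Nat.choose (n + 1) i) => (pS n Y).obj ((fS n Y).obj (OO n RZ t)) :=
    sigmaConstIso (fS n Y ⋙ pS n Y) (OO n RZ t) _
  have hvb : FlatMod.IsFinLocFree ((pS n Y).obj ((fS n Y).obj (OO n RZ t))) := by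
    rw [fS_OO]
    exact isFinLocFree_push_twistOver n Y t ht
  have hvb' : FlatMod.IsFinLocFree ((pS n Y).obj ((fS n Y).obj (KK n RZ i t))) :=
    Groth.Agent.Lib.Helper26.ModLocFree.isFinLocFree_of_iso e.symm
      (isFinLocFree_sigma_const _ hvb _)
  rw [cl_of_iso e hvb', cl_sigma_const _ hvb, fS_OO]

/-- **the pushed-forward Koszul relation.** -/
theorem push_koszul_relation (ha : -(n : ℤ) ≤ a) :
    (Finset.range (n + 2)).sum (fun i => ((-1 : ℤ) ^ i * ((n + 1).choose i : ℤ)) •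
      KRR.cl Y ((pS n Y).obj (Twist.twistOver n Y (a + i)))) = 0 := by
  have hacZ := acyc_fS_Z n Y a ha
  have hvbZ : ∀ j, j ≤ n + 2 → FlatMod.IsFinLocFree
      ((pS n Y).obj ((fS n Y).obj (Z (Kx n RZ a) (dK n RZ a) j))) := fun j hj =>
    isFinLocFree_push_of_acyc Y _ (isFinLocFree_fS n Y _ (isFinLocFree_ZK n RZ a j hj)) (hacZ j hj)
  have hvbK : ∀ j, FlatMod.IsFinLocFree ((pS n Y).obj ((fS n Y).obj (Kx n RZ a j))) := fun j =>
    isFinLocFree_push_of_acyc Y _ (isFinLocFree_fS n Y _ (isFinLocFree_KK n RZ j _))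
      (acyc_fS_KK n Y j _ (by omega))
  have h := telescope_of_add (Kx n RZ a) (dK n RZ a)
    (fun M => KRR.cl Y ((pS n Y).obj ((fS n Y).obj M))) (n + 2)
    (fun i hi => by
      have hS := shortExact_fS n Y _ (sesK_shortExact n RZ a i)
        (isFinLocFree_ZK n RZ a (i + 1) (by omega))
      have hS' := shortExact_map_push _ hS
        (isQCoh_fS n Y _ (isFinLocFree_ZK n RZ a i (by omega)))
        (isQCoh_fS n Y _ (isFinLocFree_KK n RZ i _))
        (isQCoh_fS n Y _ (isFinLocFree_ZK n RZ a (i + 1) (by omega)))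
        (hacZ i (by omega) 1 le_rfl)
      exact cl_shortExact _ hS' (hvbZ i (by omega)) (hvbK i) (hvbZ (i + 1) (by omega)))
    (cl_of_isZero ((pS n Y).map_isZero ((fS n Y).map_isZero (isZero_Z_zero n RZ a))))
    (cl_of_isZero ((pS n Y).map_isZero ((fS n Y).map_isZero (isZero_Z_top n RZ a))))
  rw [← h]
  refine Finset.sum_congr rfl (fun i _ => ?_)
  rw [cl_push_KK n Y i _ (by omega), mul_smul, natCast_zsmul]

/-- `w k = [p_* O(k - n)]`. -/
noncomputable def wcl (k : ℕ) : SGA6.Kvb Y :=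
  KRR.cl Y ((pS n Y).obj (Twist.twistOver n Y ((k : ℤ) - n)))

theorem isRec_wcl : IsRec n (wcl n Y) := by
  intro b
  have h := push_koszul_relation n Y ((b : ℤ) - n) (by omega)
  rw [← h]
  refine Finset.sum_congr rfl (fun i _ => ?_)
  unfold wcl
  rw [show ((b + i : ℕ) : ℤ) - n = (b : ℤ) - n + i by push_cast; ring]

theorem wcl_eq (k : ℕ) : wcl n Y k = (k.choose n : ℤ) • KRR.cl Y (Coh.structureModule Y) := by
  refine rec_forward n (wcl n Y) _ (isRec_wcl n Y) (fun k hk => ?_) k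
  rcases Nat.lt_or_eq_of_le hk with hlt | rfl
  · rw [Nat.choose_eq_zero_of_lt hlt, Nat.cast_zero, zero_smul]
    unfold wcl
    exact cl_of_isZero (isZero_push_twistOver _ (by omega) (by omega))
  · rw [Nat.choose_self, Nat.cast_one, one_smul]
    unfold wcl
    rw [sub_self]
    obtain ⟨e0⟩ := nonempty_twistOver_zero_iso k Y
    have hvb := isFinLocFree_push_twistOver k Y 0 (by omega)
    rw [cl_of_iso ((pS k Y).mapIso e0) hvb]
    exact Groth.Agent.Lib.Helper27PushStr.cl_push_structureModule k Y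

/-- **`[p_* O(m)] = C(n+m,n) • [O_Y]`** for `m ≥ 0`. -/
theorem cl_push_twistOver (m : ℕ) :
    KRR.cl Y ((pS n Y).obj (Twist.twistOver n Y (m : ℤ))) =
      ((n + m).choose n) • KRR.cl Y (Coh.structureModule Y) := by
  have h := wcl_eq n Y (n + m)
  unfold wcl at h
  rw [show ((n + m : ℕ) : ℤ) - n = (m : ℤ) by push_cast; ring, natCast_zsmul] at h
  exact h

end Groth.Agent.Lib.Helper27KoszPush
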