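import Groth.Agent.Lib.Helper27KClass
import Groth.Agent.Lib.Helper27HilbPolyC

/-!
# The Koszul relation in `Kvb (P^n_R)` (helper27)

* `isFinLocFree_X₁` : the kernel term of a short exact sequence of finite locally free modules.
* `isFinLocFree_Z` : the cycles of a bounded exact complex of finite locally free modules are finite
  locally free.
* `telescope_of_add` : `Σ (-1)^i χ(K^i) = 0` for an invariant additive on the sequences
  `0 → Z^i → K^i → Z^{i+1} → 0`.
* `Kx a i = KK i (a + i)`, `dK`, ... : the Koszul complex with its twist normalised, its cycles are finite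
  locally free; `koszul_relation_cl : Σ_i (-1)^i C(n+1,i) [O(a+i)] = 0` in `Kvb (P^n_R)`.
-/

set_option autoImplicit false
universe u

open CategoryTheory CategoryTheory.Limits AlgebraicGeometry TopologicalSpace Opposite

namespace Groth.Agent.Lib.Helper27KoszVb

open Groth.Agent.Lib.Helper27PnHom Groth.Agent.Lib.Helper27KoszHom
  Groth.Agent.Lib.Helper27KoszMat Groth.Agent.Lib.Helper27KoszPn Groth.Agent.Lib.Helper27KoszCx
  Groth.Agent.Lib.Helper27KoszReg Groth.Agent.Lib.Helper27ResChase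
  Groth.Agent.Lib.Helper27AmpleElt Groth.Agent.Lib.Helper27KClass Groth.Agent.Lib.Helper27HilbPolyC

section General

variable {X : Scheme.{u}}

theorem isFinLocFree_X₁ (S : ShortComplex X.Modules) (hS : S.ShortExact)
    (h₂ : FlatMod.IsFinLocFree S.X₂) (h₃ : FlatMod.IsFinLocFree S.X₃) :
    FlatMod.IsFinLocFree S.X₁ := by
  haveI := hS.epi_g
  have h := Groth.Agent.Lib.Helper1.SPL.isFinLocFree_kernel S.g h₂ h₃
  let e : kernel S.g ≅ S.X₁ := IsLimit.conePointUniqueUpToIso (kernelIsKernel S.g) hS.fIsKernel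
  exact Groth.Agent.Lib.Helper26.ModLocFree.isFinLocFree_of_iso e h

variable (Kx : ℕ → X.Modules) (d : ∀ i, Kx i ⟶ Kx (i + 1)) (hd : ∀ i, d i ≫ d (i + 1) = 0)
  (hex : ∀ i, (ShortComplex.mk (d i) (d (i + 1)) (hd i)).Exact)
  (T : ℕ) (hepi : Epi (d T)) (hvb : ∀ i, FlatMod.IsFinLocFree (Kx i))

include hex hepi hvb in
theorem isFinLocFree_Z_aux : ∀ p j : ℕ, j + p = T → FlatMod.IsFinLocFree (Z Kx d j) := by
  intro p
  induction p with
  | zero =>
    intro j hj
    have hj' : j = T := by omega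
    subst hj'
    exact isFinLocFree_X₁ (sesTop Kx d j) (sesTop_shortExact Kx d j hepi) (hvb j) (hvb (j + 1))
  | succ p ih =>
    intro j hj
    exact isFinLocFree_X₁ (ses Kx d hd j) (ses_shortExact Kx d hd j (hex j)) (hvb j)
      (ih (j + 1) (by omega))

include hex hepi hvb in
theorem isFinLocFree_Z (j : ℕ) (hj : j ≤ T) : FlatMod.IsFinLocFree (Z Kx d j) :=
  isFinLocFree_Z_aux Kx d hd hex T hepi hvb (T - j) j (by omega)

/-- the alternating sum of an invariant additive on the cycle sequences. -/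
theorem telescope_of_add {G : Type*} [AddCommGroup G] (χ : X.Modules → G) (m : ℕ)
    (hadd : ∀ i, i < m → χ (Kx i) = χ (Z Kx d i) + χ (Z Kx d (i + 1)))
    (h0 : χ (Z Kx d 0) = 0) (hT : χ (Z Kx d m) = 0) :
    (Finset.range m).sum (fun i => (-1 : ℤ) ^ i • χ (Kx i)) = 0 := by
  have h1 : (Finset.range m).sum (fun i => (-1 : ℤ) ^ i • χ (Kx i)) =
      (Finset.range m).sum (fun i => (-1 : ℤ) ^ i •
        ((fun j => χ (Z Kx d j)) i + (fun j => χ (Z Kx d j)) (i + 1))) :=
    Finset.sum_congr rfl (fun i hi => by rw [hadd i (Finset.mem_range.mp hi)])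
  rw [h1, Groth.Agent.Lib.Helper27KClass.telescope, h0, hT, smul_zero, sub_zero]

end General

variable (n : ℕ) (R : Type u) [CommRing R] (a : ℤ)

local notation "𝒢" => CohB1.polyGrading n R

/-- the terms of the Koszul complex `0 → O(a) → O(a+1)^{n+1} → ⋯ → O(a+n+1) → 0`. -/
noncomputable abbrev Kx (i : ℕ) : (Proj 𝒢).Modules := KK n R i (a + i)

noncomputable abbrev dK (i : ℕ) : Kx n R a i ⟶ Kx n R a (i + 1) :=
  dd n R i (a + i) (a + ((i + 1 : ℕ) : ℤ)) (twist_succ a i)

theorem dK_comp (i : ℕ) : dK n R a i ≫ dK n R a (i + 1) = 0 := dd_comp n R i _ _ _ _ _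

theorem exact_dK (i : ℕ) :
    (ShortComplex.mk (dK n R a i) (dK n R a (i + 1)) (dK_comp n R a i)).Exact :=
  exact_dd_succ n R i _ _ _ (twist_succ a i) (twist_succ a (i + 1))

theorem isZero_Kx (i : ℕ) (hi : n + 1 < i) : IsZero (Kx n R a i) := isZero_KK n R i hi _

theorem epi_dK_top : Epi (dK n R a (n + 2)) :=
  epi_of_isZero_tgt _ (isZero_Kx n R a (n + 2 + 1) (by omega))

theorem mono_dK_zero : Mono (dK n R a 0) := by
  have h0 := exact_dd_zero n R (a + ((0 : ℕ) : ℤ)) (a + ((0 + 1 : ℕ) : ℤ)) (twist_succ a 0)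
  exact h0.mono_g rfl

theorem isZero_Z_zero : IsZero (Z (Kx n R a) (dK n R a) 0) := by
  haveI := mono_dK_zero n R a
  exact Limits.isZero_kernel_of_mono (dK n R a 0)

theorem isZero_Z_top : IsZero (Z (Kx n R a) (dK n R a) (n + 2)) :=
  isZero_kernel_of_isZero_src _ (isZero_Kx n R a (n + 2) (by omega))

theorem isFinLocFree_OO (t : ℤ) : FlatMod.IsFinLocFree (OO n R t) :=
  Groth.Agent.Lib.Helper23.ResProp.isFinLocFree_of_isInvertible _ (isInvertible_OO n R t)

theorem isFinLocFree_KK (i : ℕ) (t : ℤ) : FlatMod.IsFinLocFree (KK n R i t) :=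
  isFinLocFree_sigma_const _ (isFinLocFree_OO n R t) _

theorem cl_KK (i : ℕ) (t : ℤ) :
    KRR.cl (Proj 𝒢) (KK n R i t) = (Nat.choose (n + 1) i) • KRR.cl (Proj 𝒢) (OO n R t) :=
  cl_sigma_const _ (isFinLocFree_OO n R t) _

theorem isFinLocFree_ZK (j : ℕ) (hj : j ≤ n + 2) :
    FlatMod.IsFinLocFree (Z (Kx n R a) (dK n R a) j) :=
  isFinLocFree_Z (Kx n R a) (dK n R a) (dK_comp n R a) (exact_dK n R a) (n + 2) (epi_dK_top n R a)
    (fun i => isFinLocFree_KK n R i _) j hj

theorem sesK_shortExact (i : ℕ) : (ses (Kx n R a) (dK n R a) (dK_comp n R a) i).ShortExact :=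
  ses_shortExact _ _ _ i (exact_dK n R a i)

/-- **the Koszul relation** `Σ_i (-1)^i C(n+1,i) [O(a+i)] = 0` in `Kvb (P^n_R)`. -/
theorem koszul_relation_cl :
    (Finset.range (n + 2)).sum (fun i => ((-1 : ℤ) ^ i * ((n + 1).choose i : ℤ)) •
      KRR.cl (Proj 𝒢) (OO n R (a + i))) = 0 := by
  have h := telescope_of_add (Kx n R a) (dK n R a) (KRR.cl (Proj 𝒢)) (n + 2)
    (fun i hi => cl_shortExact _ (sesK_shortExact n R a i) (isFinLocFree_ZK n R a i (by omega))
      (isFinLocFree_KK n R i _) (isFinLocFree_ZK n R a (i + 1) (by omega)))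
    (cl_of_isZero (isZero_Z_zero n R a)) (cl_of_isZero (isZero_Z_top n R a))
  rw [← h]
  refine Finset.sum_congr rfl (fun i _ => ?_)
  rw [cl_KK, mul_smul, natCast_zsmul]

end Groth.Agent.Lib.Helper27KoszVb
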