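import Mathlib

/-!
# Augmented chain complexes and quasi-isomorphisms onto `single₀` (helper27)

Abstract homological algebra used for finite resolutions by finite locally free modules:

* `quasiIso_aug_iff`: a map `C ⟶ single₀ M` given by an augmentation `ε : C.X 0 ⟶ M` is a
  quasi-isomorphism iff `C₁ → C₀ → M` is exact, `ε` is an epimorphism and `C` is exact in positive
  degrees;
* `exists_splice`: splicing a resolution of the kernel of an epimorphism `S.g : S.X₂ ⟶ S.X₃` with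
  `S.X₂` to get a resolution of `S.X₃`;
* `shortExact_of_factor`: the short exact sequence `0 → ker f → P → Q' → 0` attached to a
  factorization `f = e ≫ m` with `e` epi and `m` mono.
-/

set_option autoImplicit false
universe v u
open CategoryTheory CategoryTheory.Limits

namespace Groth.Agent.Lib.Helper27LFResA

variable {A : Type u} [Category.{v} A] [Abelian A]

/-- the augmentation of a map to `single₀`. -/
noncomputable def aug {C : ChainComplex A ℕ} {M : A} (π : C ⟶ (ChainComplex.single₀ A).obj M) :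
    C.X 0 ⟶ M :=
  ((ChainComplex.toSingle₀Equiv C M) π).1

lemma d_aug {C : ChainComplex A ℕ} {M : A} (π : C ⟶ (ChainComplex.single₀ A).obj M) :
    C.d 1 0 ≫ aug π = 0 :=
  ((ChainComplex.toSingle₀Equiv C M) π).2

lemma mk_aug {C : ChainComplex A ℕ} {M : A} (π : C ⟶ (ChainComplex.single₀ A).obj M) :
    (ChainComplex.toSingle₀Equiv C M).symm ⟨aug π, d_aug π⟩ = π :=
  (ChainComplex.toSingle₀Equiv C M).symm_apply_apply π

theorem quasiIsoAt_zero_iff (C : ChainComplex A ℕ) (M : A) (ε : C.X 0 ⟶ M)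
    (hε : C.d 1 0 ≫ ε = 0) :
    QuasiIsoAt ((ChainComplex.toSingle₀Equiv C M).symm ⟨ε, hε⟩) 0 ↔
      (ShortComplex.mk _ _ hε).Exact ∧ Epi ε := by
  rw [ChainComplex.quasiIsoAt₀_iff]
  have hg₁ : ((HomologicalComplex.shortComplexFunctor' A
      (ComplexShape.down ℕ) 1 0 0).obj C).g = 0 := by
    show C.d 0 0 = 0
    exact HomologicalComplex.shape _ _ _ (by simp)
  rw [ShortComplex.quasiIso_iff_of_zeros' _ hg₁ rfl rfl]
  have hτ : ((ChainComplex.toSingle₀Equiv C M).symm ⟨ε, hε⟩).f 0 = ε :=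
    ChainComplex.toSingle₀Equiv_symm_apply_f_zero _ _
  have e : ShortComplex.mk _ _ hε ≅ ShortComplex.mk (C.d 1 0)
      (((ChainComplex.toSingle₀Equiv C M).symm ⟨ε, hε⟩).f 0) (by rw [hτ]; exact hε) := by
    refine ShortComplex.isoMk (Iso.refl _) (Iso.refl _) (Iso.refl _) ?_ ?_
    · show 𝟙 _ ≫ C.d 1 0 = C.d 1 0 ≫ 𝟙 _
      rw [Category.id_comp, Category.comp_id]
    · show 𝟙 _ ≫ ((ChainComplex.toSingle₀Equiv C M).symm ⟨ε, hε⟩).f 0 = ε ≫ 𝟙 _
      rw [hτ, Category.id_comp, Category.comp_id]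
  constructor
  · rintro ⟨h1, h2⟩
    refine ⟨ShortComplex.exact_of_iso e.symm h1, ?_⟩
    have h2' : Epi (((ChainComplex.toSingle₀Equiv C M).symm ⟨ε, hε⟩).f 0) := h2
    rw [hτ] at h2'
    exact h2'
  · rintro ⟨h1, h2⟩
    refine ⟨ShortComplex.exact_of_iso e h1, ?_⟩
    show Epi (((ChainComplex.toSingle₀Equiv C M).symm ⟨ε, hε⟩).f 0)
    rw [hτ]
    exact h2

theorem quasiIsoAt_succ_iff (C : ChainComplex A ℕ) (M : A)
    (π : C ⟶ (ChainComplex.single₀ A).obj M) (n : ℕ) :
    QuasiIsoAt π (n + 1) ↔ C.ExactAt (n + 1) := by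
  rw [quasiIsoAt_iff_exactAt']
  apply ChainComplex.exactAt_succ_single_obj

/-- characterization of the quasi-isomorphisms onto `single₀`. -/
theorem quasiIso_aug_iff (C : ChainComplex A ℕ) (M : A) (ε : C.X 0 ⟶ M)
    (hε : C.d 1 0 ≫ ε = 0) :
    QuasiIso ((ChainComplex.toSingle₀Equiv C M).symm ⟨ε, hε⟩) ↔
      (ShortComplex.mk _ _ hε).Exact ∧ Epi ε ∧ ∀ n, C.ExactAt (n + 1) := by
  rw [quasiIso_iff]
  constructor
  · intro h
    have h0 := (quasiIsoAt_zero_iff C M ε hε).1 (h 0)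
    exact ⟨h0.1, h0.2, fun n => (quasiIsoAt_succ_iff C M _ n).1 (h (n + 1))⟩
  · rintro ⟨h1, h2, h3⟩ n
    cases n with
    | zero => exact (quasiIsoAt_zero_iff C M ε hε).2 ⟨h1, h2⟩
    | succ n => exact (quasiIsoAt_succ_iff C M _ n).2 (h3 n)

/-- the consequences of `QuasiIso π` for `π : C ⟶ single₀ M`. -/
theorem aug_of_quasiIso {C : ChainComplex A ℕ} {M : A} (π : C ⟶ (ChainComplex.single₀ A).obj M)
    (hπ : QuasiIso π) :
    (ShortComplex.mk _ _ (d_aug π)).Exact ∧ Epi (aug π) ∧ ∀ n, C.ExactAt (n + 1) := by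
  rw [← mk_aug π] at hπ
  exact (quasiIso_aug_iff C M (aug π) (d_aug π)).1 hπ

/-- splicing: from a short exact sequence `0 → K → Q → M → 0` and a resolution of `K`, a resolution
of `M` whose terms are `Q` and those of the given resolution, shifted by one. -/
theorem exists_splice (S : ShortComplex A) (hS : S.ShortExact) (L' : ChainComplex A ℕ)
    (π' : L' ⟶ (ChainComplex.single₀ A).obj S.X₁) (hπ' : QuasiIso π') :
    ∃ (L : ChainComplex A ℕ) (π : L ⟶ (ChainComplex.single₀ A).obj S.X₃), QuasiIso π ∧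
      L.X 0 = S.X₂ ∧ ∀ n : ℕ, L.X (n + 1) = L'.X n := by
  have hmono : Mono S.f := hS.mono_f
  have hepi : Epi S.g := hS.epi_g
  obtain ⟨hex', hepi', hexn'⟩ := aug_of_quasiIso π' hπ'
  have w : L'.d 1 0 ≫ (aug π' ≫ S.f) = 0 := by
    rw [← Category.assoc, d_aug, zero_comp]
  let C' := ChainComplex.augment L' (aug π' ≫ S.f) w
  have hε : C'.d 1 0 ≫ S.g = 0 := by
    change (aug π' ≫ S.f) ≫ S.g = 0
    rw [Category.assoc, S.zero, comp_zero]
  have hex0 : (ShortComplex.mk _ _ hε).Exact := by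
    let φ : ShortComplex.mk _ _ hε ⟶ S :=
      { τ₁ := aug π'
        τ₂ := 𝟙 _
        τ₃ := 𝟙 _
        comm₁₂ := by
          change aug π' ≫ S.f = (aug π' ≫ S.f) ≫ 𝟙 _
          rw [Category.comp_id]
        comm₂₃ := by
          change 𝟙 _ ≫ S.g = S.g ≫ 𝟙 _
          rw [Category.id_comp, Category.comp_id] }
    have : Epi φ.τ₁ := hepi'
    have : IsIso φ.τ₂ := inferInstanceAs (IsIso (𝟙 S.X₂))
    have : Mono φ.τ₃ := inferInstanceAs (Mono (𝟙 S.X₃))
    exact (ShortComplex.exact_iff_of_epi_of_isIso_of_mono φ).2 hS.exact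
  have hex : ∀ n, C'.ExactAt (n + 1) := by
    intro n
    cases n with
    | zero =>
      rw [C'.exactAt_iff' 2 1 0 (by simp) (by simp)]
      let φ : ShortComplex.mk (L'.d 1 0) (aug π') (d_aug π') ⟶ C'.sc' 2 1 0 :=
        { τ₁ := 𝟙 _
          τ₂ := 𝟙 _
          τ₃ := S.f
          comm₁₂ := by
            change 𝟙 _ ≫ L'.d 1 0 = L'.d 1 0 ≫ 𝟙 _
            rw [Category.id_comp, Category.comp_id]
          comm₂₃ := by
            change 𝟙 _ ≫ (aug π' ≫ S.f) = aug π' ≫ S.f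
            rw [Category.id_comp] }
      have : Epi φ.τ₁ := inferInstanceAs (Epi (𝟙 (L'.X 1)))
      have : IsIso φ.τ₂ := inferInstanceAs (IsIso (𝟙 (L'.X 0)))
      have : Mono φ.τ₃ := inferInstanceAs (Mono S.f)
      exact (ShortComplex.exact_iff_of_epi_of_isIso_of_mono φ).1 hex'
    | succ n =>
      rw [C'.exactAt_iff' (n + 3) (n + 2) (n + 1) (by simp) (by simp)]
      have h := hexn' n
      rw [L'.exactAt_iff' (n + 2) (n + 1) n (by simp) (by simp)] at h
      exact h
  exact ⟨C', (ChainComplex.toSingle₀Equiv C' S.X₃).symm ⟨S.g, hε⟩,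
    (quasiIso_aug_iff C' S.X₃ S.g hε).2 ⟨hex0, hepi, hex⟩, rfl, fun n => rfl⟩

/-- the trivial resolution of an object by itself. -/
theorem quasiIso_single_id (M : A) :
    QuasiIso (𝟙 ((ChainComplex.single₀ A).obj M)) := inferInstance

/-- a factorization `f = e ≫ m` with `e` epi and `m` mono gives a short exact sequence
`0 → ker f → P → Q' → 0`. -/
theorem shortExact_of_factor {P Q Q' : A} (f : P ⟶ Q) (m : Q' ⟶ Q) [Mono m] (e : P ⟶ Q') [Epi e]
    (h : e ≫ m = f) :
    (ShortComplex.mk (kernel.ι f) e (by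
      rw [← cancel_mono m, Category.assoc, h, kernel.condition, zero_comp])).ShortExact := by
  have hw : kernel.ι f ≫ e = 0 := by
    rw [← cancel_mono m, Category.assoc, h, kernel.condition, zero_comp]
  refine ShortComplex.ShortExact.mk (ShortComplex.exact_of_f_is_kernel _ ?_)
  exact isKernelOfComp m f (kernelIsKernel f) hw h

end Groth.Agent.Lib.Helper27LFResA
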