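import Mathlib
import Groth.Prelude.Def_KRR
import Groth.Agent.Lib.Helper27LFResA
import Groth.Agent.Lib.Helper1ResLen
import Groth.Agent.Lib.Helper1LF2
import Groth.Agent.Lib.Helper1KBC2
import Groth.Agent.Lib.Helper1PC5
import Groth.Agent.Lib.Helper1PC7
import Groth.Agent.Lib.Helper1FLF1
import Groth.Agent.Lib.Helper2LocFree
import Groth.Agent.Lib.Helper23FinPres
import Groth.Agent.Lib.Helper4DevD
import Groth.Agent.Lib.Helper4CohThick
import Groth.Agent.Lib.Helper12XiFibreC
import Groth.Agent.Lib.Helper21HZB9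

/-!
# Stalkwise projective dimension and finite resolutions by finite locally free modules (helper27)

`PdLTAt M x m`: the stalk `M_x` has projective dimension `< m` over `O_{X,x}`; `PdLT M m`: at all
points.

* `pdLT_of_isLFRes`: a module with a resolution of length `≤ n` by finite locally free modules has
  stalkwise projective dimension `≤ n`;
* `hasLFRes_of_pdLT`: on a Noetherian scheme with enough locally free modules, a coherent module of
  stalkwise projective dimension `≤ d` has a resolution of length `≤ d` by finite locally free modules;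
* `isFinLocFree_cycles`: in any (infinite) resolution of such a module by finite locally free modules
  the cycles `Z_{d+1}` are finite locally free.
-/

set_option autoImplicit false
universe u
open CategoryTheory CategoryTheory.Limits AlgebraicGeometry

namespace Groth.Agent.Lib.Helper27LFResB

open Groth.Agent.Lib.Helper1.Sky Groth.Agent.Lib.Helper1.KBC Groth.Agent.Lib.Helper27LFResA

variable {X : Scheme.{u}}

/-- the stalk of `M` at `x` has projective dimension `< m`. -/
def PdLTAt (M : X.Modules) (x : X) (m : ℕ) : Prop :=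
  HasProjectiveDimensionLT ((stalkFun x).obj M) m

/-- all stalks of `M` have projective dimension `< m`. -/
def PdLT (M : X.Modules) (m : ℕ) : Prop := ∀ x : X, PdLTAt M x m

theorem pdLTAt_of_iso {M N : X.Modules} (e : M ≅ N) {x : X} {m : ℕ} (h : PdLTAt M x m) :
    PdLTAt N x m := by
  haveI : HasProjectiveDimensionLT ((stalkFun x).obj M) m := h
  exact hasProjectiveDimensionLT_of_iso ((stalkFun x).mapIso e) m

theorem pdLTAt_mono {M : X.Modules} {x : X} {m n : ℕ} (hmn : m ≤ n) (h : PdLTAt M x m) :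
    PdLTAt M x n := by
  haveI : HasProjectiveDimensionLT ((stalkFun x).obj M) m := h
  exact hasProjectiveDimensionLT_of_ge _ m n hmn

theorem pdLT_of_iso {M N : X.Modules} (e : M ≅ N) {m : ℕ} (h : PdLT M m) : PdLT N m :=
  fun x => pdLTAt_of_iso e (h x)

theorem pdLT_mono {M : X.Modules} {m n : ℕ} (hmn : m ≤ n) (h : PdLT M m) : PdLT M n :=
  fun x => pdLTAt_mono hmn (h x)

theorem pdLTAt_one_of_free {M : X.Modules} {x : X}
    (h : Module.Free (Ox x) ((stalkFun x).obj M)) : PdLTAt M x 1 := by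
  haveI := h
  haveI : Module.Projective (Ox x) ((stalkFun x).obj M) := Module.Projective.of_free
  haveI : Projective ((stalkFun x).obj M) :=
    (IsProjective.iff_projective (R := Ox x) ((stalkFun x).obj M)).1 inferInstance
  exact (inferInstance : HasProjectiveDimensionLT ((stalkFun x).obj M) 1)

theorem pdLT_one_of_isFinLocFree (M : X.Modules) (h : FlatMod.IsFinLocFree M) : PdLT M 1 := fun x =>
  pdLTAt_one_of_free (Groth.Agent.Lib.Helper1.LF.free_finite_stalk_of_isFinLocFree x M h).1

theorem isFlatAt_of_pdLTAt_one {M : X.Modules} {x : X} (h : PdLTAt M x 1) :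
    FlatMod.IsFlatAt M x := by
  haveI : HasProjectiveDimensionLT ((stalkFun x).obj M) 1 := h
  haveI : Projective ((stalkFun x).obj M) := inferInstance
  haveI : Module.Projective (Ox x) ((stalkFun x).obj M) :=
    (IsProjective.iff_projective (R := Ox x) ((stalkFun x).obj M)).2 inferInstance
  show Module.Flat (Ox x) ((stalkFun x).obj M)
  infer_instance

/-- a coherent module with projective stalk at `x` is free near `x`. -/
theorem exists_free_nhds_of_pdLTAt_one [IsLocallyNoetherian X] (M : X.Modules) (hM : Coh.IsCoh M)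
    (x : X) (h : PdLTAt M x 1) :
    ∃ (D : X.Opens) (m : ℕ), x ∈ D ∧
      Nonempty (M.restrict D.ι ≅ FlatMod.freeMod (D : Scheme.{u}) m) := by
  haveI : M.IsQuasicoherent := hM.1
  haveI : SheafOfModules.IsFiniteType (R := X.ringCatSheaf) M := hM.2
  haveI := Groth.Agent.Lib.Helper23.FinType.isFinitePresentation_of_isFiniteType M
  exact Groth.Agent.Lib.Helper2.LocFree.exists_restrict_iso_freeMod_of_isFlatAt M x
    (isFlatAt_of_pdLTAt_one h)

/-- a coherent module with projective stalks is finite locally free. -/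
theorem isFinLocFree_of_pdLT_one [IsLocallyNoetherian X] (M : X.Modules) (hM : Coh.IsCoh M)
    (h : PdLT M 1) : FlatMod.IsFinLocFree M := fun x => by
  obtain ⟨D, m, hxD, h⟩ := exists_free_nhds_of_pdLTAt_one M hM x (h x)
  exact ⟨D, m, hxD, h⟩

section SES

variable (S : ShortComplex X.Modules) (hS : S.ShortExact)
include hS

theorem pdLTAt_X₁ (x : X) (n : ℕ) (h₂ : PdLTAt S.X₂ x n) (h₃ : PdLTAt S.X₃ x (n + 1)) :
    PdLTAt S.X₁ x n :=
  (hS.map_of_exact (stalkFun x)).hasProjectiveDimensionLT_X₁ n h₂ h₃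

theorem pdLTAt_X₂ (x : X) (n : ℕ) (h₁ : PdLTAt S.X₁ x n) (h₃ : PdLTAt S.X₃ x n) :
    PdLTAt S.X₂ x n :=
  (hS.map_of_exact (stalkFun x)).hasProjectiveDimensionLT_X₂ n h₁ h₃

theorem pdLTAt_X₃ (x : X) (n : ℕ) (h₁ : PdLTAt S.X₁ x n) (h₂ : PdLTAt S.X₂ x (n + 1)) :
    PdLTAt S.X₃ x (n + 1) :=
  (hS.map_of_exact (stalkFun x)).hasProjectiveDimensionLT_X₃ n h₁ h₂

theorem pdLT_X₁ (n : ℕ) (h₂ : PdLT S.X₂ n) (h₃ : PdLT S.X₃ (n + 1)) : PdLT S.X₁ n :=
  fun x => pdLTAt_X₁ S hS x n (h₂ x) (h₃ x)

theorem pdLT_X₂ (n : ℕ) (h₁ : PdLT S.X₁ n) (h₃ : PdLT S.X₃ n) : PdLT S.X₂ n :=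
  fun x => pdLTAt_X₂ S hS x n (h₁ x) (h₃ x)

theorem pdLT_X₃ (n : ℕ) (h₁ : PdLT S.X₁ n) (h₂ : PdLT S.X₂ (n + 1)) : PdLT S.X₃ (n + 1) :=
  fun x => pdLTAt_X₃ S hS x n (h₁ x) (h₂ x)

/-- the left term of a short exact sequence is isomorphic to the kernel. -/
noncomputable def isoKernel : S.X₁ ≅ kernel S.g := by
  have e := IsLimit.conePointUniqueUpToIso hS.fIsKernel (kernelIsKernel S.g)
  exact e

theorem isCoh_X₁ [IsLocallyNoetherian X] (h₂ : Coh.IsCoh S.X₂) (h₃ : Coh.IsCoh S.X₃) :
    Coh.IsCoh S.X₁ :=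
  Groth.Agent.Lib.Helper4.Dev.isCoh_of_iso (isoKernel S hS).symm
    (Groth.Agent.Lib.Helper4.Dev.isCoh_kernel S.g h₂ h₃)

end SES

/-- **`HasLFRes ⇒` bounded stalkwise projective dimension.** -/
theorem pdLT_of_isLFRes {M : X.Modules} {n : ℕ} {L : ChainComplex X.Modules ℕ}
    {π : L ⟶ (ChainComplex.single₀ X.Modules).obj M} (hL : KRR.IsLFRes M n L π) :
    PdLT M (n + 1) := by
  intro x
  obtain ⟨hex0, hepi, hexn⟩ := aug_of_quasiIso π hL.quasiIso
  let F := stalkFun x
  let C : ChainComplex (ModuleCat.{u} (Ox x)) ℕ :=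
    (F.mapHomologicalComplex (ComplexShape.down ℕ)).obj L
  have hε : C.d 1 0 ≫ F.map (aug π) = 0 := by
    show F.map (L.d 1 0) ≫ F.map (aug π) = 0
    rw [← F.map_comp, d_aug, F.map_zero]
  have hex0' : (ShortComplex.mk _ _ hε).Exact := hex0.map F
  have hepi' : Epi (F.map (aug π)) := inferInstance
  have hexn' : ∀ k, C.ExactAt (k + 1) := by
    intro k
    have h := hexn k
    rw [L.exactAt_iff' (k + 2) (k + 1) k (by simp) (by simp)] at h
    rw [C.exactAt_iff' (k + 2) (k + 1) k (by simp) (by simp)]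
    exact h.map F
  have hproj : ∀ k, Projective (C.X k) := by
    intro k
    have hfree := (Groth.Agent.Lib.Helper1.LF.free_finite_stalk_of_isFinLocFree x (L.X k)
      (hL.finLocFree k)).1
    haveI := hfree
    haveI : Module.Projective (Ox x) ((stalkFun x).obj (L.X k)) := Module.Projective.of_free
    exact (IsProjective.iff_projective (R := Ox x) ((stalkFun x).obj (L.X k))).1 inferInstance
  let P := Groth.Agent.Lib.Helper1.ResLen.mkRes C (F.obj M) hproj (F.map (aug π)) hε hex0' hepi'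
    hexn'
  exact Groth.Agent.Lib.Helper1.ResLen.pd_of_res P n
    (fun i hi => F.map_isZero (hL.isZero i hi))

/-- a finite locally free module is its own resolution. -/
theorem hasLFRes_of_isFinLocFree (M : X.Modules) (h : FlatMod.IsFinLocFree M) :
    KRR.HasLFRes M := by
  refine ⟨0, (ChainComplex.single₀ X.Modules).obj M, 𝟙 _, ⟨fun i => ?_, fun i hi => ?_,
    inferInstance⟩⟩
  · cases i with
    | zero => exact h
    | succ i =>
      exact Groth.Agent.Lib.Helper1.SPL.isFinLocFree_of_isZero _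
        (HomologicalComplex.isZero_single_obj_X _ _ _ _ (by omega))
  · exact HomologicalComplex.isZero_single_obj_X _ _ _ _ (by omega)

/-- splicing a resolution of the kernel. -/
theorem hasLFRes_of_ses (S : ShortComplex X.Modules) (hS : S.ShortExact)
    (h₂ : FlatMod.IsFinLocFree S.X₂) (h₁ : KRR.HasLFRes S.X₁) : KRR.HasLFRes S.X₃ := by
  obtain ⟨n, L', π', hL'⟩ := h₁
  obtain ⟨L, π, hπ, h0, hs⟩ := exists_splice S hS L' π' hL'.quasiIso
  refine ⟨n + 1, L, π, ⟨fun i => ?_, fun i hi => ?_, hπ⟩⟩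
  · cases i with
    | zero =>
      rw [h0]
      exact h₂
    | succ i =>
      rw [hs i]
      exact hL'.finLocFree i
  · obtain ⟨j, rfl⟩ : ∃ j, i = j + 1 := ⟨i - 1, by omega⟩
    rw [hs j]
    exact hL'.isZero j (by omega)

/-- **bounded stalkwise projective dimension `⇒ HasLFRes`** on a Noetherian scheme with enough
locally free modules. -/
theorem hasLFRes_of_pdLT [IsLocallyNoetherian X] (hX : KRR.HasEnoughLocFree X) :
    ∀ (d : ℕ) (M : X.Modules), Coh.IsCoh M → PdLT M (d + 1) → KRR.HasLFRes M := by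
  intro d
  induction d with
  | zero =>
    intro M hM h
    exact hasLFRes_of_isFinLocFree M (isFinLocFree_of_pdLT_one M hM h)
  | succ d ih =>
    intro M hM h
    obtain ⟨E, p, hE, hp⟩ := hX M hM
    haveI := hp
    have hS := Groth.Agent.Lib.Helper17.Res.kernel_shortExact p
    have hEc : Coh.IsCoh E := Groth.Agent.Lib.Helper21.HZB.isCoh_of_isFinLocFree E hE
    have hK : Coh.IsCoh (kernel p) := Groth.Agent.Lib.Helper4.Dev.isCoh_kernel p hEc hM
    have hpd : PdLT (kernel p) (d + 1) :=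
      pdLT_X₁ _ hS (d + 1) (pdLT_mono (by omega) (pdLT_one_of_isFinLocFree E hE)) h
    exact hasLFRes_of_ses _ hS hE (ih _ hK hpd)

/-- the cycles `Z_{d+1}` of a resolution by finite locally free modules of a module of stalkwise
projective dimension `≤ d` are finite locally free. -/
theorem isFinLocFree_cycles [IsLocallyNoetherian X] (A : X.Modules) (d : ℕ) (hA : PdLT A (d + 1))
    (L : ChainComplex X.Modules ℕ) (hL : ∀ i, FlatMod.IsFinLocFree (L.X i))
    (hex : ∀ i, 1 ≤ i → L.ExactAt i) (e : L.homology 0 ≅ A) :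
    FlatMod.IsFinLocFree (L.cycles (d + 1)) := by
  have hc : ∀ i, Coh.IsCoh (L.X i) := fun i =>
    Groth.Agent.Lib.Helper21.HZB.isCoh_of_isFinLocFree _ (hL i)
  have hp1 : ∀ i, PdLT (L.X i) 1 := fun i => pdLT_one_of_isFinLocFree _ (hL i)
  -- the cokernel of `d 1 0`
  have eC0 := IsColimit.coconePointUniqueUpToIso (cokernelIsCokernel (L.d 1 0))
    (L.opcyclesIsCokernel 1 0 (by simp))
  have eC : cokernel (L.d 1 0) ≅ A := eC0 ≪≫ L.isoHomologyι₀.symm ≪≫ e
  have hC : PdLT (cokernel (L.d 1 0)) (d + 1) := pdLT_of_iso eC.symm hA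
  -- the image of `d 1 0`
  have h0 : PdLT (Abelian.image (L.d 1 0)) ((d - 1) + 1) := by
    have hS := Groth.Agent.Lib.Helper17.Res.kernel_shortExact (cokernel.π (L.d 1 0))
    exact pdLT_X₁ _ hS ((d - 1) + 1) (pdLT_mono (by omega) (hp1 0)) (pdLT_mono (by omega) hC)
  -- the kernels of the differentials
  have hk : ∀ k : ℕ, PdLT (kernel (L.d (k + 1) k)) ((d - 1 - (k + 1)) + 1) := by
    intro k
    induction k with
    | zero =>
      have hS := shortExact_of_factor (L.d 1 0) (Abelian.image.ι (L.d 1 0))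
        (Abelian.factorThruImage (L.d 1 0)) (Abelian.image.fac (L.d 1 0))
      exact pdLT_X₁ _ hS _ (pdLT_mono (by omega) (hp1 1)) (pdLT_mono (by omega) h0)
    | succ k ih =>
      have hexk : (L.sc' (k + 2) (k + 1) k).Exact := by
        have h := hex (k + 1) (by omega)
        rw [L.exactAt_iff' (k + 2) (k + 1) k (by simp) (by simp)] at h
        exact h
      haveI : Epi (kernel.lift (L.d (k + 1) k) (L.d (k + 2) (k + 1)) (L.d_comp_d _ _ _)) :=
        (ShortComplex.exact_iff_epi_kernel_lift _).1 hexk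
      have hS := shortExact_of_factor (L.d (k + 2) (k + 1)) (kernel.ι (L.d (k + 1) k))
        (kernel.lift (L.d (k + 1) k) (L.d (k + 2) (k + 1)) (L.d_comp_d _ _ _))
        (kernel.lift_ι _ _ _)
      exact pdLT_X₁ _ hS _ (pdLT_mono (by omega) (hp1 (k + 2))) (pdLT_mono (by omega) ih)
  have hd : PdLT (kernel (L.d (d + 1) d)) 1 := pdLT_mono (by omega) (hk d)
  have hcoh : Coh.IsCoh (kernel (L.d (d + 1) d)) :=
    Groth.Agent.Lib.Helper4.Dev.isCoh_kernel _ (hc (d + 1)) (hc d)
  have hvb := isFinLocFree_of_pdLT_one _ hcoh hd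
  have eZ0 := IsLimit.conePointUniqueUpToIso (L.cyclesIsKernel (d + 1) d (by simp))
    (kernelIsKernel (L.d (d + 1) d))
  have eZ : L.cycles (d + 1) ≅ kernel (L.d (d + 1) d) := eZ0
  exact Groth.Agent.Lib.Helper1.FLF.isFinLocFree_of_iso eZ.symm hvb

end Groth.Agent.Lib.Helper27LFResB
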