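import Mathlib
import Groth.Agent.Lib.Helper27LFResB
import Groth.Agent.Lib.Helper17Res5
import Groth.Agent.Lib.Helper1PC15
import Groth.Agent.S0563

/-!
# The resolution theorem for `K₀` of a Noetherian scheme with enough locally free modules (helper27)

* `bijective_mapSub_lfres`: `K₀(vector bundles) ⟶ K₀(coherent modules with a finite resolution by
  vector bundles)` is bijective (via helper17's abstract resolution theorem and the stalkwise
  projective dimension);
* `hasLFRes_of_regular`: on a regular Noetherian scheme with enough locally free modules every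
  coherent module has a finite resolution by vector bundles;
* `bijective_mapSub_coh_of_regular`: `K₀(vector bundles) ⟶ K₀(Coh)` is bijective for such schemes.
-/

set_option autoImplicit false
universe u
open CategoryTheory CategoryTheory.Limits AlgebraicGeometry

namespace Groth.Agent.Lib.Helper27LFResC

open Groth.Agent.Lib.Helper1.Sky Groth.Agent.Lib.Helper1.KBC Groth.Agent.Lib.Helper27LFResA
  Groth.Agent.Lib.Helper27LFResB Groth.Agent.Lib.Helper17.Res

variable (X : Scheme.{u})

/-- coherent modules of bounded stalkwise projective dimension. -/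
def P₁ : ObjectProperty X.Modules := fun M => Coh.IsCoh M ∧ ∃ d : ℕ, PdLT M (d + 1)

variable {X}

theorem isCoh_biprod [IsLocallyNoetherian X] (A B : X.Modules) (hA : Coh.IsCoh A)
    (hB : Coh.IsCoh B) : Coh.IsCoh (A ⊞ B) := by
  let S : ShortComplex X.Modules := ShortComplex.mk (biprod.inl : A ⟶ A ⊞ B) biprod.snd (by simp)
  have hS : S.ShortExact := (ShortComplex.Splitting.ofHasBinaryBiproduct A B).shortExact
  exact Groth.Agent.Lib.Helper4.CohThick.isCoh_of_shortExact S hS hA hB

theorem isCoh_pullback [IsLocallyNoetherian X] {A B D : X.Modules} (u : A ⟶ B) (v : D ⟶ B)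
    (hA : Coh.IsCoh A) (hB : Coh.IsCoh B) (hD : Coh.IsCoh D) : Coh.IsCoh (pullback u v) := by
  have e0 := IsLimit.conePointUniqueUpToIso
      (Abelian.PullbackToBiproductIsKernel.isLimitPullbackToBiproduct u v)
      (kernelIsKernel (biprod.desc u (-v)))
  have e : pullback u v ≅ kernel (biprod.desc u (-v)) := e0
  exact Groth.Agent.Lib.Helper4.Dev.isCoh_of_iso e.symm
    (Groth.Agent.Lib.Helper4.Dev.isCoh_kernel _ (isCoh_biprod A D hA hD) hB)

/-- the hypotheses of helper17's resolution theorem. -/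
theorem hyp [IsLocallyNoetherian X] (hX : KRR.HasEnoughLocFree X) :
    Hyp (KRR.vbP X) (P₁ X) where
  iso₀ := fun e h => Groth.Agent.Lib.Helper1.FLF.isFinLocFree_of_iso e h
  iso₁ := fun e h => ⟨Groth.Agent.Lib.Helper4.Dev.isCoh_of_iso e h.1, h.2.choose,
    pdLT_of_iso e h.2.choose_spec⟩
  le := fun M hM => ⟨Groth.Agent.Lib.Helper21.HZB.isCoh_of_isFinLocFree M hM, 0,
    pdLT_one_of_isFinLocFree M hM⟩
  ext₀ := fun S hS h1 h3 => Groth.Agent.Lib.Helper12.XiC.isFinLocFree_of_shortExact S hS h1 h3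
  ext₁ := by
    rintro S hS ⟨c1, d1, p1⟩ ⟨c3, d3, p3⟩
    exact ⟨Groth.Agent.Lib.Helper4.CohThick.isCoh_of_shortExact S hS c1 c3, max d1 d3,
      pdLT_X₂ S hS _ (pdLT_mono (by omega) p1) (pdLT_mono (by omega) p3)⟩
  ker₀ := by
    intro S hS h2 h3
    have c2 := Groth.Agent.Lib.Helper21.HZB.isCoh_of_isFinLocFree _ h2
    have c3 := Groth.Agent.Lib.Helper21.HZB.isCoh_of_isFinLocFree _ h3
    exact isFinLocFree_of_pdLT_one _ (isCoh_X₁ S hS c2 c3)
      (pdLT_X₁ S hS 1 (pdLT_one_of_isFinLocFree _ h2)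
        (pdLT_mono (by omega) (pdLT_one_of_isFinLocFree _ h3)))
  ker₁ := by
    rintro S hS ⟨c2, d2, p2⟩ ⟨c3, d3, p3⟩
    exact ⟨isCoh_X₁ S hS c2 c3, max d2 d3,
      pdLT_X₁ S hS (max d2 d3 + 1) (pdLT_mono (by omega) p2) (pdLT_mono (by omega) p3)⟩
  lift := by
    rintro A B D u v hu ⟨cA, -⟩ ⟨cB, -⟩ ⟨cD, -⟩
    haveI := hu
    have hPb : Coh.IsCoh (pullback u v) := isCoh_pullback u v cA cB cD
    obtain ⟨E, p, hE, hp⟩ := hX _ hPb
    haveI := hp
    refine ⟨E, p ≫ pullback.snd u v, p ≫ pullback.fst u v, hE, epi_comp _ _, ?_⟩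
    rw [Category.assoc, Category.assoc, pullback.condition]

/-- the resolution theorem for `P₁`. -/
theorem bijective_mapSub_P₁ [IsLocallyNoetherian X] (hX : KRR.HasEnoughLocFree X) :
    Function.Bijective (SGA6.mapSub (𝟭 X.Modules) (KRR.vbP X) (P₁ X) (hyp hX).le) := by
  refine bijective_mapSub (hyp hX) ?_
  rintro A ⟨-, d, hd⟩
  exact ⟨d, fun L hL hex ⟨e⟩ => isFinLocFree_cycles A d hd L hL hex e⟩

theorem P₁_eq [IsLocallyNoetherian X] (hX : KRR.HasEnoughLocFree X) :
    (fun M : X.Modules => Coh.IsCoh M ∧ KRR.HasLFRes M) = P₁ X := by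
  funext M
  apply propext
  constructor
  · rintro ⟨hc, n, L, π, hL⟩
    exact ⟨hc, n, pdLT_of_isLFRes hL⟩
  · rintro ⟨hc, d, hd⟩
    exact ⟨hc, hasLFRes_of_pdLT hX d M hc hd⟩

theorem bijective_of_eq {C : Type*} [Category C] [Abelian C] {P₀ Q Q' : ObjectProperty C}
    (heq : Q = Q') (h : ∀ X, P₀ X → Q X) (h' : ∀ X, P₀ X → Q' X)
    (hb : Function.Bijective (SGA6.mapSub (𝟭 C) P₀ Q' h')) :
    Function.Bijective (SGA6.mapSub (𝟭 C) P₀ Q h) := by
  subst heq
  exact hb

/-- **Resolution theorem**: `K₀` of vector bundles maps bijectively onto `K₀` of the coherent modules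
with a finite resolution by vector bundles. -/
theorem bijective_mapSub_lfres [IsLocallyNoetherian X] (hX : KRR.HasEnoughLocFree X)
    (h : ∀ M : X.Modules, FlatMod.IsFinLocFree M → Coh.IsCoh M ∧ KRR.HasLFRes M) :
    Function.Bijective (SGA6.mapSub (𝟭 X.Modules) (KRR.vbP X)
      (fun M : X.Modules => Coh.IsCoh M ∧ KRR.HasLFRes M) h) :=
  bijective_of_eq (P₁_eq hX) h _ (bijective_mapSub_P₁ hX)

/-! ### The regular case -/

/-- a bound on the stalkwise projective dimension at `x` propagates to a neighbourhood. -/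
theorem exists_nhds_pdLTAt [IsLocallyNoetherian X] (hX : KRR.HasEnoughLocFree X) :
    ∀ (m : ℕ) (M : X.Modules), Coh.IsCoh M → ∀ x : X, PdLTAt M x (m + 1) →
      ∃ W : X.Opens, x ∈ W ∧ ∀ y ∈ W, PdLTAt M y (m + 1) := by
  intro m
  induction m with
  | zero =>
    intro M hM x h
    obtain ⟨D, k, hxD, ⟨e⟩⟩ := exists_free_nhds_of_pdLTAt_one M hM x h
    refine ⟨D, hxD, fun y hy => ?_⟩
    exact pdLTAt_one_of_free
      (Groth.Agent.Lib.Helper1.SPL.free_finite_stalk_of_restrict_iso_freeMod M D.ι k e ⟨y, hy⟩).1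
  | succ m ih =>
    intro M hM x h
    obtain ⟨E, p, hE, hp⟩ := hX M hM
    haveI := hp
    have hS := kernel_shortExact p
    have hEc : Coh.IsCoh E := Groth.Agent.Lib.Helper21.HZB.isCoh_of_isFinLocFree E hE
    have hK : Coh.IsCoh (kernel p) := Groth.Agent.Lib.Helper4.Dev.isCoh_kernel p hEc hM
    have hE1 := pdLT_one_of_isFinLocFree E hE
    have hpd : PdLTAt (kernel p) x (m + 1) :=
      pdLTAt_X₁ _ hS x (m + 1) (pdLTAt_mono (by omega) (hE1 x)) h
    obtain ⟨W, hxW, hW⟩ := ih _ hK x hpd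
    refine ⟨W, hxW, fun y hy => ?_⟩
    exact pdLTAt_X₃ _ hS y (m + 1) (hW y hy) (pdLTAt_mono (by omega) (hE1 y))

/-- over a regular local ring every stalk has finite projective dimension. -/
theorem exists_pdLTAt_of_regular (M : X.Modules) (x : X)
    (hreg : IsRegularLocalRing (X.presheaf.stalk x)) : ∃ d : ℕ, PdLTAt M x (d + 1) := by
  haveI := hreg
  refine ⟨(IsLocalRing.maximalIdeal (X.presheaf.stalk x)).spanFinrank, ?_⟩
  exact Groth.Agent.S0563.result (X.presheaf.stalk x) _
    (IsRegularLocalRing.spanFinrank_maximalIdeal (R := X.presheaf.stalk x)).symm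
    ((stalkFun x).obj M)

/-- on a regular Noetherian scheme with enough locally free modules, coherent modules have bounded
stalkwise projective dimension. -/
theorem exists_pdLT_of_regular [IsNoetherian X]
    (hreg : ∀ x : X, IsRegularLocalRing (X.presheaf.stalk x)) (hX : KRR.HasEnoughLocFree X)
    (M : X.Modules) (hM : Coh.IsCoh M) : ∃ d : ℕ, PdLT M (d + 1) := by
  choose dd hdd using fun x => exists_pdLTAt_of_regular M x (hreg x)
  choose W hxW hW using fun x => exists_nhds_pdLTAt hX (dd x) M hM x (hdd x)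
  obtain ⟨t, ht⟩ := isCompact_univ.elim_finite_subcover (fun x => (W x : Set X))
    (fun x => (W x).isOpen) (fun x _ => Set.mem_iUnion.2 ⟨x, hxW x⟩)
  refine ⟨t.sup dd, fun y => ?_⟩
  obtain ⟨x, hx⟩ := Set.mem_iUnion.1 (ht (Set.mem_univ y))
  obtain ⟨hxt, hyW⟩ := Set.mem_iUnion.1 hx
  exact pdLTAt_mono (by have := Finset.le_sup (f := dd) hxt; omega) (hW x y hyW)

theorem hasLFRes_of_regular [IsNoetherian X]
    (hreg : ∀ x : X, IsRegularLocalRing (X.presheaf.stalk x)) (hX : KRR.HasEnoughLocFree X)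
    (M : X.Modules) (hM : Coh.IsCoh M) : KRR.HasLFRes M := by
  obtain ⟨d, hd⟩ := exists_pdLT_of_regular hreg hX M hM
  exact hasLFRes_of_pdLT hX d M hM hd

/-- **`K₀(vector bundles) ≅ K₀(Coh)`** for a regular Noetherian scheme with enough locally free
modules. -/
theorem bijective_mapSub_coh_of_regular [IsNoetherian X]
    (hreg : ∀ x : X, IsRegularLocalRing (X.presheaf.stalk x)) (hX : KRR.HasEnoughLocFree X)
    (h : ∀ M : X.Modules, FlatMod.IsFinLocFree M → Coh.IsCoh M) :
    Function.Bijective (SGA6.mapSub (𝟭 X.Modules) (KRR.vbP X)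
      (fun M : X.Modules => Coh.IsCoh M) h) := by
  have heq : (fun M : X.Modules => Coh.IsCoh M) =
      (fun M : X.Modules => Coh.IsCoh M ∧ KRR.HasLFRes M) := by
    funext M
    exact propext ⟨fun hc => ⟨hc, hasLFRes_of_regular hreg hX M hc⟩, fun hc => hc.1⟩
  exact bijective_of_eq heq h
    (fun M hM => ⟨h M hM, hasLFRes_of_isFinLocFree M hM⟩)
    (bijective_mapSub_lfres hX _)

end Groth.Agent.Lib.Helper27LFResC
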