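import Groth.Prelude.Def_W4stkremschemesLRS
import Mathlib.AlgebraicGeometry.AffineScheme
import Mathlib.AlgebraicGeometry.GammaSpecAdjunction

/-!
# Closed immersions of locally ringed spaces into schemes (helper27)
-/

set_option autoImplicit false
universe u

open CategoryTheory TopologicalSpace Opposite AlgebraicGeometry

namespace Groth.Agent.Lib.Helper27LRSImm

variable {X : Scheme.{u}} {Z : LocallyRingedSpace.{u}} (i : Z ⟶ X.toLocallyRingedSpace)

/-- the kernel ideal of the stalk map, as an ideal of `X.presheaf.stalk x`. -/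
noncomputable def stalkKer (x : X) : Ideal (X.presheaf.stalk x) :=
  RingHom.ker ((TopCat.Presheaf.stalkFunctor CommRingCat x).map i.c).hom

theorem mem_stalkKer {x : X} (v : X.presheaf.stalk x) :
    v ∈ stalkKer i x ↔ ((TopCat.Presheaf.stalkFunctor CommRingCat x).map i.c).hom v = 0 :=
  Iff.rfl

/-- germ of a section killed by `i.c` lies in the kernel of the stalk map. -/
theorem germ_mem_ker {V : X.Opens} (b : Γ(X, V)) (hb : i.c.app (op V) b = 0)
    (x : X) (hx : x ∈ V) :
    X.presheaf.germ V x hx b ∈ stalkKer i x := by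
  rw [mem_stalkKer]
  have := TopCat.Presheaf.stalkFunctor_map_germ_apply V x hx i.c b
  exact this.trans (by rw [hb, map_zero]; rfl)

/-- L1: on an affine open `U` where the kernel is generated by `s`, a section `b` killed on
`D(f)` satisfies `f^N b ∈ span s`. -/
theorem exists_pow_mul_mem_span {U : X.Opens} (hU : IsAffineOpen U) {ι : Type*} (s : ι → Γ(X, U))
    (hgen : ∀ (x' : X) (hx' : x' ∈ U),
      Ideal.span (Set.range fun j => X.presheaf.germ U x' hx' (s j)) = stalkKer i x')
    (b f : Γ(X, U))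
    (hb : i.c.app (op (X.basicOpen f))
      (X.presheaf.map (homOfLE (X.basicOpen_le f)).op b) = 0) :
    ∃ N : ℕ, f ^ N * b ∈ Ideal.span (Set.range s) := by
  have hV : IsAffineOpen (X.basicOpen f) := hU.basicOpen f
  have hloc : IsLocalization.Away f Γ(X, X.basicOpen f) := hU.isLocalization_basicOpen f
  set J := Ideal.span (Set.range s) with hJ
  have hmem : algebraMap Γ(X, U) Γ(X, X.basicOpen f) b ∈
      J.map (algebraMap Γ(X, U) Γ(X, X.basicOpen f)) := by
    rw [hV.mem_ideal_iff]
    intro x hx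
    have hxU : x ∈ U := X.basicOpen_le f hx
    rw [Ideal.map_map]
    have hcomp : (X.presheaf.germ (X.basicOpen f) x hx).hom.comp
        (algebraMap Γ(X, U) Γ(X, X.basicOpen f)) = (X.presheaf.germ U x hxU).hom := by
      ext y
      exact TopCat.Presheaf.germ_res_apply X.presheaf (homOfLE (X.basicOpen_le f)) x hx y
    rw [hcomp, hJ, Ideal.map_span, ← Set.range_comp]
    have := hgen x hxU
    change Ideal.span (Set.range ((X.presheaf.germ U x hxU).hom ∘ s)) = _ at this
    rw [this]
    exact germ_mem_ker i _ hb x hx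
  obtain ⟨⟨⟨j, hj⟩, ⟨m, n, rfl⟩⟩, h⟩ :=
    (IsLocalization.mem_map_algebraMap_iff (Submonoid.powers f) _).mp hmem
  rw [← map_mul] at h
  obtain ⟨⟨c, k, rfl⟩, hc⟩ := (IsLocalization.eq_iff_exists (Submonoid.powers f) _).mp h
  refine ⟨k + n, ?_⟩
  have : f ^ (k + n) * b = f ^ k * j := by
    simp only at hc
    rw [← hc]; ring
  rw [this]
  exact Ideal.mul_mem_left _ _ hj

/-- preimage of opens is monotone -/
theorem map_le {V W : X.Opens} (h : V ≤ W) :
    (Opens.map i.base).obj V ≤ (Opens.map i.base).obj W := fun _ hz => h hz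

/-- naturality of `i.c` on elements. -/
theorem c_app_map {V W : X.Opens} (h : V ≤ W) (y : Γ(X, W)) :
    i.c.app (op V) (X.presheaf.map (homOfLE h).op y) =
      Z.presheaf.map (homOfLE (map_le i h)).op (i.c.app (op W) y) := by
  have := i.c.naturality (homOfLE h).op
  exact congr($this y)

/-- local form of L2. -/
theorem exists_nhd_pow_mul (hker : LRSImm.KerLocallyGenerated i) {U : X.Opens}
    (hU : IsAffineOpen U) (a f : Γ(X, U))
    (ha : i.c.app (op (X.basicOpen f))
      (X.presheaf.map (homOfLE (X.basicOpen_le f)).op a) = 0) (x : X) (hx : x ∈ U) :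
    ∃ (V : X.Opens) (hVU : V ≤ U), x ∈ V ∧ ∃ N : ℕ, ∀ M, N ≤ M →
      i.c.app (op V) (X.presheaf.map (homOfLE hVU).op (f ^ M * a)) = 0 := by
  obtain ⟨U', hxU', ι, s, hs0, hsgen⟩ := hker x
  obtain ⟨h, hle, hxh⟩ := hU.exists_basicOpen_le ⟨x, hxU'⟩ hx
  have hVU : X.basicOpen h ≤ U := X.basicOpen_le h
  have hV : IsAffineOpen (X.basicOpen h) := hU.basicOpen h
  refine ⟨X.basicOpen h, hVU, hxh, ?_⟩
  set s' : ι → Γ(X, X.basicOpen h) := fun j => X.presheaf.map (homOfLE hle).op (s j) with hs'
  have hgen' : ∀ (x' : X) (hx' : x' ∈ X.basicOpen h),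
      Ideal.span (Set.range fun j => X.presheaf.germ (X.basicOpen h) x' hx' (s' j)) =
        stalkKer i x' := by
    intro x' hx'
    have := hsgen x' (hle hx')
    refine Eq.trans ?_ this
    congr 2
    funext j
    exact TopCat.Presheaf.germ_res_apply X.presheaf (homOfLE hle) x' hx' (s j)
  set b : Γ(X, X.basicOpen h) := X.presheaf.map (homOfLE hVU).op a with hb
  set f' : Γ(X, X.basicOpen h) := X.presheaf.map (homOfLE hVU).op f with hf'
  have hle2 : X.basicOpen f' ≤ X.basicOpen f := by
    rw [hf', Scheme.basicOpen_res]; exact inf_le_right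
  have hb0 : i.c.app (op (X.basicOpen f'))
      (X.presheaf.map (homOfLE (X.basicOpen_le f')).op b) = 0 := by
    have e1 : X.presheaf.map (homOfLE (X.basicOpen_le f')).op b =
        X.presheaf.map (homOfLE hle2).op
          (X.presheaf.map (homOfLE (X.basicOpen_le f)).op a) := by
      rw [hb, ← ConcreteCategory.comp_apply, ← ConcreteCategory.comp_apply,
        ← Functor.map_comp, ← Functor.map_comp]
      rfl
    rw [e1, c_app_map, ha, map_zero]
  obtain ⟨N, hN⟩ := exists_pow_mul_mem_span i hV s' hgen' b f' hb0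
  have hkill : Ideal.span (Set.range s') ≤ RingHom.ker (i.c.app (op (X.basicOpen h))).hom := by
    rw [Ideal.span_le]
    rintro _ ⟨j, rfl⟩
    rw [SetLike.mem_coe, RingHom.mem_ker]
    change i.c.app (op (X.basicOpen h)) (X.presheaf.map (homOfLE hle).op (s j)) = 0
    rw [c_app_map, hs0, map_zero]
  refine ⟨N, fun M hM => ?_⟩
  have : X.presheaf.map (homOfLE hVU).op (f ^ M * a) = f' ^ (M - N) * (f' ^ N * b) := by
    rw [map_mul, map_pow, ← mul_assoc, ← pow_add, Nat.sub_add_cancel hM]
  rw [this]
  exact hkill (Ideal.mul_mem_left _ _ hN)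

/-- L2: a section over an affine open `U` whose image in `O_Z` vanishes over `D(f)` is killed
(in `O_Z`) by a power of `f`. -/
theorem exists_pow_mul_app_eq_zero (hker : LRSImm.KerLocallyGenerated i) {U : X.Opens}
    (hU : IsAffineOpen U) (a f : Γ(X, U))
    (ha : i.c.app (op (X.basicOpen f))
      (X.presheaf.map (homOfLE (X.basicOpen_le f)).op a) = 0) :
    ∃ N : ℕ, i.c.app (op U) (f ^ N * a) = 0 := by
  choose V hVU hxV N hN using exists_nhd_pow_mul i hker hU a f ha
  obtain ⟨t, ht⟩ := hU.isCompact.elim_finite_subcover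
    (fun x : U => ((V x.1 x.2 : X.Opens) : Set X)) (fun x => (V x.1 x.2).isOpen)
    (fun x hx => Set.mem_iUnion.mpr ⟨⟨x, hx⟩, hxV x hx⟩)
  refine ⟨t.sup (fun x => N x.1 x.2), ?_⟩
  set M := t.sup (fun x => N x.1 x.2) with hM
  refine TopCat.Sheaf.eq_of_locally_eq' Z.sheaf
    (fun x : t => (Opens.map i.base).obj (V x.1.1 x.1.2)) ((Opens.map i.base).obj U)
    (fun x => homOfLE (map_le i (hVU x.1.1 x.1.2))) ?_ _ 0 ?_
  · intro z hz
    have hz' : i.base z ∈ (U : Set X) := hz
    obtain ⟨x, hx⟩ := Set.mem_iUnion.mp (ht hz')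
    obtain ⟨hxt, hx⟩ := Set.mem_iUnion.mp hx
    exact Opens.mem_iSup.mpr ⟨⟨x, hxt⟩, hx⟩
  · intro x
    have := hN x.1.1 x.1.2 M (Finset.le_sup (f := fun x : U => N x.1 x.2) x.2)
    rw [c_app_map] at this
    exact this.trans (map_zero (Z.presheaf.map _).hom).symm

/-- kernel ideal of sections over `U`. -/
noncomputable def secKer (U : X.Opens) : Ideal Γ(X, U) := RingHom.ker (i.c.app (op U)).hom

theorem mem_secKer {U : X.Opens} (a : Γ(X, U)) : a ∈ secKer i U ↔ i.c.app (op U) a = 0 :=
  Iff.rfl

/-- (a): on an affine open the stalk kernel is generated by the section kernel. -/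
theorem stalkKer_eq_map (hker : LRSImm.KerLocallyGenerated i) {U : X.Opens}
    (hU : IsAffineOpen U) (x : X) (hx : x ∈ U) :
    stalkKer i x = (secKer i U).map (X.presheaf.germ U x hx).hom := by
  apply le_antisymm
  · obtain ⟨U', hxU', ι, s, hs0, hsgen⟩ := hker x
    have h1 : stalkKer i x =
        Ideal.span (Set.range fun j => X.presheaf.germ U' x hxU' (s j)) := (hsgen x hxU').symm
    rw [h1, Ideal.span_le]
    rintro _ ⟨j, rfl⟩
    obtain ⟨f, hle, hxf⟩ := hU.exists_basicOpen_le ⟨x, hxU'⟩ hx
    have hloc : IsLocalization.Away f Γ(X, X.basicOpen f) := hU.isLocalization_basicOpen f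
    set s' : Γ(X, X.basicOpen f) := X.presheaf.map (homOfLE hle).op (s j) with hs'
    obtain ⟨⟨a, ⟨_, n, rfl⟩⟩, ha⟩ := IsLocalization.surj (Submonoid.powers f) s'
    have hs'0 : i.c.app (op (X.basicOpen f)) s' = 0 := by
      rw [hs', c_app_map, hs0, map_zero]
    have ha0 : i.c.app (op (X.basicOpen f))
        (X.presheaf.map (homOfLE (X.basicOpen_le f)).op a) = 0 := by
      have : X.presheaf.map (homOfLE (X.basicOpen_le f)).op a =
          s' * algebraMap Γ(X, U) Γ(X, X.basicOpen f) (f ^ n) := ha.symm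
      rw [this, map_mul, hs'0, zero_mul]
    obtain ⟨N, hN⟩ := exists_pow_mul_app_eq_zero i hker hU a f ha0
    have hmem : X.presheaf.germ U x hx (f ^ N * a) ∈
        (secKer i U).map (X.presheaf.germ U x hx).hom :=
      Ideal.mem_map_of_mem _ hN
    have hunit : IsUnit (X.presheaf.germ U x hx f) := (X.mem_basicOpen f x hx).mp hxf
    have hga : X.presheaf.germ U x hx a =
        X.presheaf.germ U' x hxU' (s j) * (X.presheaf.germ U x hx f) ^ n := by
      have e1 : X.presheaf.germ U x hx a = X.presheaf.germ (X.basicOpen f) x hxf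
          (X.presheaf.map (homOfLE (X.basicOpen_le f)).op a) :=
        (TopCat.Presheaf.germ_res_apply X.presheaf (homOfLE (X.basicOpen_le f)) x hxf a).symm
      have e2 : X.presheaf.map (homOfLE (X.basicOpen_le f)).op a =
          s' * X.presheaf.map (homOfLE (X.basicOpen_le f)).op (f ^ n) := ha.symm
      rw [e1, e2, map_mul, hs',
        TopCat.Presheaf.germ_res_apply X.presheaf (homOfLE hle) x hxf (s j),
        TopCat.Presheaf.germ_res_apply X.presheaf (homOfLE (X.basicOpen_le f)) x hxf (f ^ n),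
        map_pow]
    rw [map_mul, map_pow, hga, mul_comm (X.presheaf.germ U' x hxU' (s j)), ← mul_assoc,
      ← pow_add] at hmem
    exact (Ideal.unit_mul_mem_iff_mem _ (hunit.pow _)).mp hmem
  · rw [Ideal.map_le_iff_le_comap]
    intro a ha
    exact germ_mem_ker i a ha x hx

/-- (b), forward direction: points of the image lie in the zero locus of the section kernel. -/
theorem not_mem_basicOpen_of_mem_secKer {U : X.Opens} (a : Γ(X, U)) (ha : a ∈ secKer i U)
    (z : Z) : i.base z ∉ X.basicOpen a := by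
  intro hz
  have hzU : i.base z ∈ U := X.basicOpen_le a hz
  have hunit : IsUnit (X.presheaf.germ U (i.base z) hzU a) := (X.mem_basicOpen a _ hzU).mp hz
  have h0 : i.stalkMap z (X.presheaf.germ U (i.base z) hzU a) = 0 := by
    have := LocallyRingedSpace.stalkMap_germ_apply i U z hzU a
    rw [this, (mem_secKer i a).mp ha, map_zero]
  have := hunit.map (i.stalkMap z).hom
  rw [h0] at this
  exact not_isUnit_zero this

/-- (b), backward direction. -/
theorem mem_range_of_forall_not_mem_basicOpen (hker : LRSImm.KerLocallyGenerated i)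
    (hcl : IsClosed (Set.range i.base)) {U : X.Opens} (hU : IsAffineOpen U) (x : X) (hx : x ∈ U)
    (h : ∀ a ∈ secKer i U, x ∉ X.basicOpen a) : x ∈ Set.range i.base := by
  by_contra hxr
  let W : X.Opens := ⟨(Set.range i.base)ᶜ, hcl.isOpen_compl⟩
  obtain ⟨f, hle, hxf⟩ := hU.exists_basicOpen_le (V := W) ⟨x, hxr⟩ hx
  have hbot : (Opens.map i.base).obj (X.basicOpen f) = ⊥ := by
    ext z
    simp only [Opens.coe_bot, Set.mem_empty_iff_false, iff_false]
    intro hz
    exact hle hz ⟨z, rfl⟩
  have hsub : Subsingleton (Z.presheaf.obj (op ((Opens.map i.base).obj (X.basicOpen f)))) :=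
    CommRingCat.subsingleton_of_isTerminal (Z.sheaf.isTerminalOfEqEmpty hbot)
  obtain ⟨N, hN⟩ := exists_pow_mul_app_eq_zero i hker hU 1 f (hsub.elim _ _)
  rw [mul_one] at hN
  refine h (f ^ N) hN ?_
  rw [X.mem_basicOpen _ x hx, map_pow]
  exact ((X.mem_basicOpen f x hx).mp hxf).pow N

theorem stalkMap_eq (z : Z) :
    i.stalkMap z = (TopCat.Presheaf.stalkFunctor CommRingCat (i.base z)).map i.c ≫
      Z.presheaf.stalkPushforward CommRingCat i.base z := rfl

theorem stalkMap_surjective (hemb : Topology.IsInducing i.base)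
    (hsurj : TopCat.Presheaf.IsLocallySurjective i.c) (z : Z) :
    Function.Surjective (i.stalkMap z) := by
  have h1 := (TopCat.Presheaf.locally_surjective_iff_surjective_on_stalks i.c).mp hsurj (i.base z)
  have h2 : IsIso (Z.presheaf.stalkPushforward CommRingCat i.base z) :=
    TopCat.Presheaf.stalkPushforward.stalkPushforward_iso_of_isInducing _ hemb _ _
  have h3 : Function.Bijective (Z.presheaf.stalkPushforward CommRingCat i.base z) :=
    ConcreteCategory.bijective_of_isIso _
  rw [stalkMap_eq]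
  intro w
  obtain ⟨w', rfl⟩ := h3.2 w
  obtain ⟨v, rfl⟩ := h1 w'
  exact ⟨v, rfl⟩

theorem mem_stalkKer_of_stalkMap_eq_zero (hemb : Topology.IsInducing i.base) (z : Z)
    (v : X.presheaf.stalk (i.base z)) (hv : i.stalkMap z v = 0) : v ∈ stalkKer i (i.base z) := by
  have h2 : IsIso (Z.presheaf.stalkPushforward CommRingCat i.base z) :=
    TopCat.Presheaf.stalkPushforward.stalkPushforward_iso_of_isInducing _ hemb _ _
  have h3 : Function.Bijective (Z.presheaf.stalkPushforward CommRingCat i.base z) :=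
    ConcreteCategory.bijective_of_isIso _
  rw [mem_stalkKer]
  apply h3.1
  exact hv.trans (map_zero (Z.presheaf.stalkPushforward CommRingCat i.base z).hom).symm

end Groth.Agent.Lib.Helper27LRSImm
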