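import Groth.Agent.Lib.Helper27LRSImm
import Mathlib.AlgebraicGeometry.Morphisms.ClosedImmersion

/-!
# Closed immersions of locally ringed spaces into affine schemes: assembly (helper27)
-/

set_option autoImplicit false
universe u

open CategoryTheory TopologicalSpace Opposite AlgebraicGeometry

namespace Groth.Agent.Lib.Helper27LRSImm

section Assembly

variable (R : Type u) [CommRing R] (I : Ideal R) {Z : LocallyRingedSpace.{u}}

/-- the closed immersion `Spec (R/I) ⟶ Spec R` as a morphism of locally ringed spaces. -/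
noncomputable abbrev cI :
    (Spec (CommRingCat.of (R ⧸ I))).toLocallyRingedSpace ⟶
      (Spec (CommRingCat.of R)).toLocallyRingedSpace :=
  (Spec.map (CommRingCat.ofHom (Ideal.Quotient.mk I))).toLRSHom

/-- the map `R → O_{Spec R, x}`. -/
noncomputable abbrev toStalk' (x : Spec (CommRingCat.of R)) :
    R →+* (Spec (CommRingCat.of R)).presheaf.stalk x :=
  ((Scheme.ΓSpecIso (CommRingCat.of R)).inv ≫
    (Spec (CommRingCat.of R)).presheaf.germ ⊤ x trivial).hom

theorem cI_stalkMap_toStalk' (y : Spec (CommRingCat.of (R ⧸ I))) (a : R) (ha : a ∈ I) :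
    (cI R I).stalkMap y (toStalk' R ((cI R I).base y) a) = 0 := by
  have h1 := LocallyRingedSpace.stalkMap_germ_apply (cI R I) ⊤ y trivial
    ((Scheme.ΓSpecIso (CommRingCat.of R)).inv a)
  have h2 : (cI R I).c.app (op ⊤) ((Scheme.ΓSpecIso (CommRingCat.of R)).inv a) = 0 := by
    have := Scheme.ΓSpecIso_inv_naturality (CommRingCat.ofHom (Ideal.Quotient.mk I))
    have h3 := congr($this a)
    have h4 : (CommRingCat.ofHom (Ideal.Quotient.mk I)) a = 0 := Ideal.Quotient.eq_zero_iff_mem.mpr ha
    rw [CommRingCat.comp_apply, h4, map_zero] at h3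
    exact h3.symm
  rw [h2, map_zero] at h1
  exact h1

theorem cI_isClosedImmersion :
    IsClosedImmersion (Spec.map (CommRingCat.ofHom (Ideal.Quotient.mk I))) :=
  IsClosedImmersion.spec_of_surjective _ Ideal.Quotient.mk_surjective

theorem cI_isClosedEmbedding : Topology.IsClosedEmbedding (cI R I).base :=
  have := cI_isClosedImmersion R I
  (Spec.map (CommRingCat.ofHom (Ideal.Quotient.mk I))).isClosedEmbedding

theorem cI_range : Set.range (cI R I).base = PrimeSpectrum.zeroLocus (I : Set R) := by
  have := range_comap_of_surjective (R ⧸ I) (Ideal.Quotient.mk I)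
    Ideal.Quotient.mk_surjective
  rw [Ideal.mk_ker] at this
  exact this

theorem isIso_of_comp (e₀ : Z ⟶ (Spec (CommRingCat.of (R ⧸ I))).toLocallyRingedSpace)
    (hemb : Topology.IsEmbedding (e₀ ≫ cI R I).base)
    (hrange : Set.range (e₀ ≫ cI R I).base = PrimeSpectrum.zeroLocus (I : Set R))
    (hsurj : ∀ z, Function.Surjective ((e₀ ≫ cI R I).stalkMap z))
    (hkerle : ∀ z v, (e₀ ≫ cI R I).stalkMap z v = 0 →
      v ∈ I.map (toStalk' R ((e₀ ≫ cI R I).base z))) :
    IsIso e₀ := by
  have hcemb := cI_isClosedEmbedding R I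
  have hcrange := cI_range R I
  have hemb0 : Topology.IsEmbedding e₀.base :=
    Topology.IsEmbedding.of_comp e₀.base.hom.continuous (cI R I).base.hom.continuous hemb
  have hsurj0 : Function.Surjective e₀.base := by
    intro q
    have : (cI R I).base q ∈ Set.range (e₀ ≫ cI R I).base := by
      rw [hrange, ← hcrange]; exact ⟨q, rfl⟩
    obtain ⟨z, hz⟩ := this
    exact ⟨z, hcemb.injective hz⟩
  have hopen : Topology.IsOpenEmbedding e₀.base :=
    ⟨hemb0, by rw [hsurj0.range_eq]; exact isOpen_univ⟩
  have hstalk : ∀ z, IsIso (e₀.stalkMap z) := by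
    intro z
    have hcomp := LocallyRingedSpace.stalkMap_comp e₀ (cI R I) z
    have hs : Function.Surjective (e₀.stalkMap z) := by
      have := hsurj z
      rw [hcomp] at this
      intro w
      obtain ⟨v, hv⟩ := this w
      exact ⟨(cI R I).stalkMap (e₀.base z) v, hv⟩
    have hi : Function.Injective (e₀.stalkMap z) := by
      rw [injective_iff_map_eq_zero]
      intro u hu
      have := cI_isClosedImmersion R I
      obtain ⟨v, rfl⟩ :=
        (Spec.map (CommRingCat.ofHom (Ideal.Quotient.mk I))).stalkMap_surjective (e₀.base z) u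
      have h0 : (e₀ ≫ cI R I).stalkMap z v = 0 := by rw [hcomp]; exact hu
      have hv := hkerle z v h0
      have hle : I.map (toStalk' R ((cI R I).base (e₀.base z))) ≤
          RingHom.ker ((cI R I).stalkMap (e₀.base z)).hom := by
        rw [Ideal.map_le_iff_le_comap]
        intro a ha
        exact cI_stalkMap_toStalk' R I _ a ha
      exact hle hv
    exact (ConcreteCategory.isIso_iff_bijective _).mpr ⟨hi, hs⟩
  have := LocallyRingedSpace.IsOpenImmersion.of_stalk_iso e₀ hopen
  have : Epi e₀.base := (TopCat.epi_iff_surjective _).mpr hsurj0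
  exact LocallyRingedSpace.IsOpenImmersion.to_iso e₀

/-- Assembly: a morphism to `Spec R` with the four properties is `Spec (R/I) ⟶ Spec R`. -/
theorem exists_iso_of_props (j : Z ⟶ (Spec (CommRingCat.of R)).toLocallyRingedSpace)
    (hI : I = RingHom.ker ((Scheme.ΓSpecIso (CommRingCat.of R)).inv ≫ j.c.app (op ⊤)).hom)
    (hemb : Topology.IsEmbedding j.base)
    (hrange : Set.range j.base = PrimeSpectrum.zeroLocus (I : Set R))
    (hsurj : ∀ z, Function.Surjective (j.stalkMap z))
    (hkerle : ∀ z v, j.stalkMap z v = 0 → v ∈ I.map (toStalk' R (j.base z))) :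
    ∃ e : Z ≅ (Spec (CommRingCat.of (R ⧸ I))).toLocallyRingedSpace,
      e.hom ≫ (Spec.map (CommRingCat.ofHom (Ideal.Quotient.mk I))).toLRSHom = j := by
  let φ : CommRingCat.of R ⟶ Z.presheaf.obj (op ⊤) :=
    (Scheme.ΓSpecIso (CommRingCat.of R)).inv ≫ j.c.app (op ⊤)
  let ψ : CommRingCat.of (R ⧸ I) ⟶ Z.presheaf.obj (op ⊤) :=
    CommRingCat.ofHom (Ideal.Quotient.lift I φ.hom (fun a ha => by rw [hI] at ha; exact ha))
  let adj := ΓSpec.locallyRingedSpaceAdjunction
  let e₀ : Z ⟶ (Spec (CommRingCat.of (R ⧸ I))).toLocallyRingedSpace :=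
    adj.homEquiv Z (op (CommRingCat.of (R ⧸ I))) ψ.op
  let j' : Z ⟶ Spec.toLocallyRingedSpace.obj (op (CommRingCat.of R)) := j
  have hcomp : e₀ ≫ cI R I = j := by
    have hnat := adj.homEquiv_naturality_right ψ.op (CommRingCat.ofHom (Ideal.Quotient.mk I)).op
    refine hnat.symm.trans ?_
    have h3 : ((adj.homEquiv Z (op (CommRingCat.of R))).symm j').unop = φ := by
      have := Adjunction.homEquiv_counit adj (X := Z) (Y := op (CommRingCat.of R)) (g := j')
      rw [this]
      rfl
    have h4 : CommRingCat.ofHom (Ideal.Quotient.mk I) ≫ ψ = φ := by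
      ext a
      rfl
    have h2 : ψ.op ≫ (CommRingCat.ofHom (Ideal.Quotient.mk I)).op =
        (adj.homEquiv Z (op (CommRingCat.of R))).symm j' :=
      Quiver.Hom.unop_inj (h4.trans h3.symm)
    exact (congrArg (adj.homEquiv Z (op (CommRingCat.of R))) h2).trans
      (Equiv.apply_symm_apply _ _)
  have hiso : IsIso e₀ := isIso_of_comp R I e₀ (by rw [hcomp]; exact hemb)
    (by rw [hcomp]; exact hrange) (by rw [hcomp]; exact hsurj) (by rw [hcomp]; exact hkerle)
  exact ⟨asIso e₀, hcomp⟩

end Assembly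

section SpecCase

variable (R : Type u) [CommRing R] {Z : LocallyRingedSpace.{u}}
  (i : Z ⟶ (Spec (CommRingCat.of R)).toLocallyRingedSpace) (I : Ideal R)
  (hI : I = RingHom.ker ((Scheme.ΓSpecIso (CommRingCat.of R)).inv ≫ i.c.app (op ⊤)).hom)

include hI in
theorem mem_I_iff (a : R) :
    a ∈ I ↔ (Scheme.ΓSpecIso (CommRingCat.of R)).inv a ∈
      secKer (X := Spec (CommRingCat.of R)) i ⊤ := by
  rw [hI]
  rfl

include hI in
theorem secKer_top_eq_map :
    secKer (X := Spec (CommRingCat.of R)) i ⊤ =
      I.map (Scheme.ΓSpecIso (CommRingCat.of R)).inv.hom := by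
  have hsurj : Function.Surjective (Scheme.ΓSpecIso (CommRingCat.of R)).inv.hom :=
    (ConcreteCategory.bijective_of_isIso (Scheme.ΓSpecIso (CommRingCat.of R)).inv).2
  have : I = (secKer (X := Spec (CommRingCat.of R)) i ⊤).comap
      (Scheme.ΓSpecIso (CommRingCat.of R)).inv.hom := by
    ext a
    rw [mem_I_iff R i I hI]
    rfl
  rw [this, Ideal.map_comap_of_surjective _ hsurj]

include hI in
theorem range_eq_zeroLocus (hker : LRSImm.KerLocallyGenerated i)
    (hcl : IsClosed (Set.range i.base)) :
    Set.range i.base = PrimeSpectrum.zeroLocus (I : Set R) := by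
  apply Set.Subset.antisymm
  · rintro _ ⟨z, rfl⟩ a ha
    have h1 := not_mem_basicOpen_of_mem_secKer (X := Spec (CommRingCat.of R)) i _
      ((mem_I_iff R i I hI a).mp ha) z
    rw [basicOpen_eq_of_affine] at h1
    by_contra h2
    exact h1 h2
  · intro p hp
    apply mem_range_of_forall_not_mem_basicOpen (X := Spec (CommRingCat.of R)) i hker hcl
      (isAffineOpen_top _) p trivial
    intro a' ha'
    rw [basicOpen_eq_of_affine']
    have : (Scheme.ΓSpecIso (CommRingCat.of R)).hom a' ∈ I := by
      rw [mem_I_iff R i I hI]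
      have := Iso.hom_inv_id_apply (Scheme.ΓSpecIso (CommRingCat.of R)) a'
      rw [this]
      exact ha'
    intro h2
    exact h2 (hp this)

include hI in
theorem mem_map_of_stalkMap_eq_zero (hker : LRSImm.KerLocallyGenerated i)
    (hemb : Topology.IsInducing i.base) (z : Z)
    (v : (Spec (CommRingCat.of R)).presheaf.stalk (i.base z)) (hv : i.stalkMap z v = 0) :
    v ∈ I.map (toStalk' R (i.base z)) := by
  have h1 := mem_stalkKer_of_stalkMap_eq_zero (X := Spec (CommRingCat.of R)) i hemb z v hv
  rw [stalkKer_eq_map (X := Spec (CommRingCat.of R)) i hker (isAffineOpen_top _) _ trivial,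
    secKer_top_eq_map R i I hI, Ideal.map_map] at h1
  exact h1

end SpecCase

end Groth.Agent.Lib.Helper27LRSImm
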