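import Groth.Agent.Lib.Helper27LRSImm
import Mathlib.AlgebraicGeometry.Morphisms.QuasiCompact

/-!
# Scheme morphisms: kernel locally generated by sections (helper27)
-/

set_option autoImplicit false
universe u

open CategoryTheory TopologicalSpace Opposite AlgebraicGeometry

namespace Groth.Agent.Lib.Helper27LRSImm

theorem presheaf_map_map {T : TopCat.{u}} (F : TopCat.Presheaf CommRingCat.{u} T)
    {A B C : Opens T} (h1 : A ≤ B) (h2 : B ≤ C) (x : F.obj (op C)) :
    F.map (homOfLE h1).op (F.map (homOfLE h2).op x) = F.map (homOfLE (h1.trans h2)).op x := by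
  rw [← ConcreteCategory.comp_apply, ← Functor.map_comp]
  rfl

variable {X Y : Scheme.{u}} (f : X ⟶ Y)

/-- for a scheme morphism with quasi-compact preimage of the affine open `U`, the stalk kernel
is generated by the section kernel. -/
theorem stalkKer_le_map_of_isCompact {U : Y.Opens} (hU : IsAffineOpen U)
    (hc : IsCompact ((f ⁻¹ᵁ U : X.Opens) : Set X)) (y : Y) (hy : y ∈ U) :
    stalkKer f.toLRSHom y ≤ (secKer f.toLRSHom U).map (Y.presheaf.germ U y hy).hom := by
  intro v hv
  obtain ⟨V, hyV, b, rfl⟩ := Y.presheaf.exists_germ_eq v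
  rw [mem_stalkKer] at hv
  have h1 := TopCat.Presheaf.stalkFunctor_map_germ_apply V y hyV f.toLRSHom.c b
  have h2 : ((TopCat.Presheaf.pushforward CommRingCat f.toLRSHom.base).obj X.presheaf).germ V y hyV
      (f.toLRSHom.c.app (op V) b) =
      ((TopCat.Presheaf.pushforward CommRingCat f.toLRSHom.base).obj X.presheaf).germ V y hyV 0 := by
    rw [map_zero]
    exact h1.symm.trans hv
  obtain ⟨W, hyW, iU, iV, hW⟩ := TopCat.Presheaf.germ_eq _ y hyV hyV _ _ h2
  rw [map_zero] at hW
  obtain ⟨g, hgW, hyg⟩ := hU.exists_basicOpen_le ⟨y, hyW⟩ hy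
  have hgV : Y.basicOpen g ≤ V := hgW.trans iU.le
  have hloc : IsLocalization.Away g Γ(Y, Y.basicOpen g) := hU.isLocalization_basicOpen g
  set b' : Γ(Y, Y.basicOpen g) := Y.presheaf.map (homOfLE hgV).op b with hb'
  have hb'0 : f.toLRSHom.c.app (op (Y.basicOpen g)) b' = 0 := by
    rw [hb', c_app_map]
    have e1 : X.presheaf.map (homOfLE (map_le f.toLRSHom hgV)).op
        (f.toLRSHom.c.app (op V) b) =
        X.presheaf.map (homOfLE (map_le f.toLRSHom hgW)).op
          (X.presheaf.map (homOfLE (map_le f.toLRSHom iU.le)).op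
            (f.toLRSHom.c.app (op V) b)) :=
      (presheaf_map_map X.presheaf (map_le f.toLRSHom hgW) (map_le f.toLRSHom iU.le) _).symm
    rw [e1]
    have e2 : X.presheaf.map (homOfLE (map_le f.toLRSHom iU.le)).op
        (f.toLRSHom.c.app (op V) b) = 0 := hW
    rw [e2, map_zero]
  obtain ⟨⟨a, ⟨_, n, rfl⟩⟩, ha⟩ := IsLocalization.surj (Submonoid.powers g) b'
  have ha0 : f.toLRSHom.c.app (op (Y.basicOpen g))
      (Y.presheaf.map (homOfLE (Y.basicOpen_le g)).op a) = 0 := by
    have : Y.presheaf.map (homOfLE (Y.basicOpen_le g)).op a =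
        b' * algebraMap Γ(Y, U) Γ(Y, Y.basicOpen g) (g ^ n) := ha.symm
    rw [this, map_mul, hb'0, zero_mul]
  rw [c_app_map] at ha0
  -- now use quasi-compactness of `f ⁻¹ U`
  have hpre : f ⁻¹ᵁ Y.basicOpen g = X.basicOpen (f.app U g) := Scheme.preimage_basicOpen f g
  have H : X.presheaf.map (homOfLE (X.basicOpen_le (f.app U g))).op (f.app U a) = 0 := by
    have : ∀ (W' : X.Opens) (hW' : W' = f ⁻¹ᵁ Y.basicOpen g) (hle : W' ≤ f ⁻¹ᵁ U),
        X.presheaf.map (homOfLE hle).op (f.app U a) = 0 := by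
      intro W' hW' hle
      subst hW'
      exact ha0
    exact this _ hpre.symm _
  obtain ⟨m, hm⟩ := exists_pow_mul_eq_zero_of_res_basicOpen_eq_zero_of_isCompact X hc
    (f.app U a) (f.app U g) H
  have hmem : g ^ m * a ∈ secKer f.toLRSHom U := by
    rw [mem_secKer]
    change f.app U (g ^ m * a) = 0
    rw [map_mul, map_pow, hm]
  have hmem' : Y.presheaf.germ U y hy (g ^ m * a) ∈
      (secKer f.toLRSHom U).map (Y.presheaf.germ U y hy).hom := Ideal.mem_map_of_mem _ hmem
  have hunit : IsUnit (Y.presheaf.germ U y hy g) := (Y.mem_basicOpen g y hy).mp hyg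
  have hga : Y.presheaf.germ U y hy a =
      Y.presheaf.germ V y hyV b * (Y.presheaf.germ U y hy g) ^ n := by
    have e1 : Y.presheaf.germ U y hy a = Y.presheaf.germ (Y.basicOpen g) y hyg
        (Y.presheaf.map (homOfLE (Y.basicOpen_le g)).op a) :=
      (TopCat.Presheaf.germ_res_apply Y.presheaf (homOfLE (Y.basicOpen_le g)) y hyg a).symm
    have e2 : Y.presheaf.map (homOfLE (Y.basicOpen_le g)).op a =
        b' * Y.presheaf.map (homOfLE (Y.basicOpen_le g)).op (g ^ n) := ha.symm
    rw [e1, e2, map_mul, hb',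
      TopCat.Presheaf.germ_res_apply Y.presheaf (homOfLE hgV) y hyg b,
      TopCat.Presheaf.germ_res_apply Y.presheaf (homOfLE (Y.basicOpen_le g)) y hyg (g ^ n),
      map_pow]
  rw [map_mul, map_pow, hga, mul_comm (Y.presheaf.germ V y hyV b), ← mul_assoc,
    ← pow_add] at hmem'
  exact (Ideal.unit_mul_mem_iff_mem _ (hunit.pow _)).mp hmem'

end Groth.Agent.Lib.Helper27LRSImm
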