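import Groth.Agent.Lib.Helper27LRSImm2
import Mathlib.AlgebraicGeometry.OpenImmersion

/-!
# Closed immersions of locally ringed spaces into schemes: the source is a scheme (helper27)
-/

set_option autoImplicit false
universe u

open CategoryTheory TopologicalSpace Opposite AlgebraicGeometry

namespace Groth.Agent.Lib.Helper27LRSImm

theorem mem_map_germ_of_stalkSpecializes {T : TopCat.{u}} (F : TopCat.Presheaf CommRingCat.{u} T)
    {V : Opens T} (J : Ideal (F.obj (op V))) {x y : T} (h : x ⤳ y) (h' : y ⤳ x) (hy : y ∈ V)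
    (hx : x ∈ V) (v : F.stalk y)
    (hv : F.stalkSpecializes h v ∈ J.map (F.germ V x hx).hom) :
    v ∈ J.map (F.germ V y hy).hom := by
  have h1 : F.stalkSpecializes h' (F.stalkSpecializes h v) = v := by
    have := F.stalkSpecializes_comp h' h
    rw [show h'.trans h = specializes_refl y from rfl, TopCat.Presheaf.stalkSpecializes_refl] at this
    exact congr($this v)
  have h2 := Ideal.mem_map_of_mem (F.stalkSpecializes h').hom hv
  rw [Ideal.map_map, h1] at h2
  have h3 : (F.stalkSpecializes h').hom.comp (F.germ V x hx).hom = (F.germ V y hy).hom := by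
    have := F.germ_stalkSpecializes hx h'
    exact congrArg CommRingCat.Hom.hom this
  rwa [h3] at h2

section Restrict

variable {X : Scheme.{u}} {Z : LocallyRingedSpace.{u}} (i : Z ⟶ X.toLocallyRingedSpace)
  {U : X.Opens} (hU : IsAffineOpen U)

/-- P2: stalk map of `fromSpec` on germs of sections over `U`. -/
theorem fromSpec_stalkMap_germ (p : Spec Γ(X, U)) (hp : hU.fromSpec.base p ∈ U) (a : Γ(X, U)) :
    hU.fromSpec.toLRSHom.stalkMap p (X.presheaf.germ U (hU.fromSpec.base p) hp a) =
      toStalk' Γ(X, U) p a := by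
  have h1 := LocallyRingedSpace.stalkMap_germ_apply hU.fromSpec.toLRSHom U p hp a
  refine h1.trans ?_
  have h2 : hU.fromSpec.toLRSHom.c.app (op U) = hU.fromSpec.app U := rfl
  rw [h2, hU.fromSpec_app_self]
  exact TopCat.Presheaf.germ_res_apply (Spec Γ(X, U)).presheaf
    (eqToHom hU.fromSpec_preimage_self) p hp _

variable {Z₁ : LocallyRingedSpace.{u}} (κ : Z₁ ⟶ Z)
  (j : Z₁ ⟶ (Spec Γ(X, U)).toLocallyRingedSpace)
  (hfac : j ≫ hU.fromSpec.toLRSHom = κ ≫ i)

include hfac in
theorem base_eq (w : Z₁) : i.base (κ.base w) = hU.fromSpec.base (j.base w) := by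
  have := congrArg (fun f => f.base w) hfac
  exact this.symm

include hfac in
theorem stalk_eq (w : Z₁) (v' : X.presheaf.stalk (hU.fromSpec.base (j.base w))) :
    j.stalkMap w (hU.fromSpec.toLRSHom.stalkMap (j.base w) v') =
      κ.stalkMap w (i.stalkMap (κ.base w)
        (X.presheaf.stalkSpecializes (specializes_of_eq (base_eq i hU κ j hfac w)) v')) := by
  have e1 := LocallyRingedSpace.stalkMap_comp j hU.fromSpec.toLRSHom w
  have e2 := LocallyRingedSpace.stalkMap_comp κ i w
  have e3 := LocallyRingedSpace.stalkMap_congr_hom _ _ hfac w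
  rw [e1, e2] at e3
  exact congr($e3 v')

include hfac in
theorem exists_affine_iso (hi : LRSImm.IsClosedImmersion i)
    [hκ : LocallyRingedSpace.IsOpenImmersion κ]
    (hrange : Set.range κ.base = i.base ⁻¹' (U : Set X)) :
    ∃ e : Z₁ ≅ (Spec (CommRingCat.of (Γ(X, U) ⧸
        RingHom.ker ((Scheme.ΓSpecIso Γ(X, U)).inv ≫ j.c.app (op ⊤)).hom))).toLocallyRingedSpace,
      True := by
  obtain ⟨h1, h2, h3⟩ := hi
  set Ij : Ideal Γ(X, U) :=
    RingHom.ker ((Scheme.ΓSpecIso Γ(X, U)).inv ≫ j.c.app (op ⊤)).hom with hIj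
  have hFopen : Topology.IsOpenEmbedding hU.fromSpec.base := hU.fromSpec.isOpenEmbedding
  have hFU : ∀ p, hU.fromSpec.base p ∈ U := fun p => by
    have : hU.fromSpec.base p ∈ Set.range hU.fromSpec.base := ⟨p, rfl⟩
    rw [hU.range_fromSpec] at this
    exact this
  have hiU : ∀ w, i.base (κ.base w) ∈ U := fun w => by
    rw [base_eq i hU κ j hfac w]; exact hFU _
  -- J ≤ Ij
  have hJ : ∀ a ∈ secKer i U, a ∈ Ij := by
    intro a ha
    rw [hIj, RingHom.mem_ker]
    apply TopCat.Presheaf.section_ext Z₁.sheaf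
    intro w hw
    have e1 := LocallyRingedSpace.stalkMap_germ_apply j ⊤ w trivial
      ((Scheme.ΓSpecIso Γ(X, U)).inv a)
    refine e1.symm.trans (Eq.trans ?_ (map_zero (Z₁.presheaf.germ _ w hw).hom).symm)
    have e2 := fromSpec_stalkMap_germ hU (j.base w) (hFU _) a
    change j.stalkMap w (toStalk' Γ(X, U) (j.base w) a) = 0
    rw [← e2, stalk_eq i hU κ j hfac w]
    have e3 := TopCat.Presheaf.germ_stalkSpecializes X.presheaf (hFU (j.base w))
      (specializes_of_eq (base_eq i hU κ j hfac w))
    have e4 := congr($e3 a)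
    rw [CommRingCat.comp_apply] at e4
    rw [e4]
    have e5 := LocallyRingedSpace.stalkMap_germ_apply i U (κ.base w) (hiU w) a
    rw [e5, (mem_secKer i a).mp ha, map_zero, map_zero]
  have hκopen : Topology.IsOpenEmbedding κ.base := hκ.base_open
  -- (i) embedding
  have hemb : Topology.IsEmbedding j.base := by
    have hb : (j ≫ hU.fromSpec.toLRSHom).base = (κ ≫ i).base := congrArg (fun f => f.base) hfac
    have : Topology.IsEmbedding (j ≫ hU.fromSpec.toLRSHom).base := by
      rw [hb]
      exact h1.isEmbedding.comp hκopen.isEmbedding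
    exact Topology.IsEmbedding.of_comp j.base.hom.continuous
      hU.fromSpec.toLRSHom.base.hom.continuous this
  -- (iii) surjective stalk maps
  have hFbij : ∀ p, Function.Bijective (hU.fromSpec.toLRSHom.stalkMap p) := fun p => by
    have : IsIso (hU.fromSpec.toLRSHom.stalkMap p) :=
      LocallyRingedSpace.IsOpenImmersion.stalk_iso hU.fromSpec.toLRSHom p
    exact ConcreteCategory.bijective_of_isIso _
  have hκbij : ∀ w, Function.Bijective (κ.stalkMap w) := fun w => by
    have : IsIso (κ.stalkMap w) := LocallyRingedSpace.IsOpenImmersion.stalk_iso κ w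
    exact ConcreteCategory.bijective_of_isIso _
  have hsurj : ∀ w, Function.Surjective (j.stalkMap w) := by
    intro w t
    obtain ⟨t₁, rfl⟩ := (hκbij w).2 t
    obtain ⟨t₂, rfl⟩ := stalkMap_surjective i h1.isInducing h2 (κ.base w) t₁
    have hs : X.presheaf.stalkSpecializes (specializes_of_eq (base_eq i hU κ j hfac w))
        (X.presheaf.stalkSpecializes (specializes_of_eq (base_eq i hU κ j hfac w).symm) t₂) =
        t₂ := by
      have := X.presheaf.stalkSpecializes_comp
        (specializes_of_eq (base_eq i hU κ j hfac w))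
        (specializes_of_eq (base_eq i hU κ j hfac w).symm)
      rw [show (specializes_of_eq (base_eq i hU κ j hfac w)).trans
        (specializes_of_eq (base_eq i hU κ j hfac w).symm) = specializes_refl _ from rfl,
        TopCat.Presheaf.stalkSpecializes_refl] at this
      exact congr($this t₂)
    refine ⟨hU.fromSpec.toLRSHom.stalkMap (j.base w)
      (X.presheaf.stalkSpecializes (specializes_of_eq (base_eq i hU κ j hfac w).symm) t₂), ?_⟩
    rw [stalk_eq i hU κ j hfac w, hs]
  -- (iv) kernel
  have hkerle : ∀ w v, j.stalkMap w v = 0 → v ∈ Ij.map (toStalk' Γ(X, U) (j.base w)) := by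
    intro w v hv
    obtain ⟨v', rfl⟩ := (hFbij (j.base w)).2 v
    rw [stalk_eq i hU κ j hfac w] at hv
    have hv2 : i.stalkMap (κ.base w)
        (X.presheaf.stalkSpecializes (specializes_of_eq (base_eq i hU κ j hfac w)) v') = 0 :=
      (hκbij w).1 (hv.trans (map_zero (κ.stalkMap w).hom).symm)
    have hv3 := mem_stalkKer_of_stalkMap_eq_zero i h1.isInducing (κ.base w) _ hv2
    rw [stalkKer_eq_map i h3 hU _ (hiU w)] at hv3
    have hv4 := mem_map_germ_of_stalkSpecializes X.presheaf (secKer i U)
      (specializes_of_eq (base_eq i hU κ j hfac w))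
      (specializes_of_eq (base_eq i hU κ j hfac w).symm) (hFU _) (hiU w) v' hv3
    have hv5 := Ideal.mem_map_of_mem (hU.fromSpec.toLRSHom.stalkMap (j.base w)).hom hv4
    rw [Ideal.map_map] at hv5
    have hcomp : (hU.fromSpec.toLRSHom.stalkMap (j.base w)).hom.comp
        (X.presheaf.germ U (hU.fromSpec.base (j.base w)) (hFU _)).hom =
        toStalk' Γ(X, U) (j.base w) := by
      ext a
      exact fromSpec_stalkMap_germ hU (j.base w) (hFU _) a
    rw [hcomp] at hv5
    exact Ideal.map_mono (fun a ha => hJ a ha) hv5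
  -- (ii) range
  have hrange' : Set.range j.base = PrimeSpectrum.zeroLocus (Ij : Set Γ(X, U)) := by
    apply Set.Subset.antisymm
    · rintro _ ⟨w, rfl⟩ a ha
      have h4 := not_mem_basicOpen_of_mem_secKer (X := Spec Γ(X, U)) j _
        ((mem_I_iff Γ(X, U) j Ij hIj a).mp ha) w
      rw [basicOpen_eq_of_affine] at h4
      by_contra h5
      exact h4 h5
    · intro p hp
      have hFp : hU.fromSpec.base p ∈ Set.range i.base := by
        refine mem_range_of_forall_not_mem_basicOpen i h3 h1.isClosed_range hU _ (hFU p)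
          (fun a ha hmem => ?_)
        have h6 : p ∈ hU.fromSpec ⁻¹ᵁ X.basicOpen a := hmem
        rw [hU.fromSpec_preimage_basicOpen] at h6
        exact h6 (hp (hJ a ha))
      obtain ⟨z, hz⟩ := hFp
      have hzW : z ∈ Set.range κ.base := by
        rw [hrange]
        change i.base z ∈ U
        rw [hz]
        exact hFU p
      obtain ⟨w, rfl⟩ := hzW
      refine ⟨w, hFopen.injective ?_⟩
      rw [← hz]
      exact (base_eq i hU κ j hfac w).symm
  obtain ⟨e, -⟩ := exists_iso_of_props Γ(X, U) Ij j hIj hemb hrange' hsurj hkerle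
  exact ⟨e, trivial⟩

end Restrict

end Groth.Agent.Lib.Helper27LRSImm
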