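import Mathlib

/-!
# Laurent coefficients of `F / X^v` (helper27)

For a polynomial `F` in the variables `X_i`, `i : σ`, and a shift `v : σ → ℤ`, `lcoef v F e` is the
coefficient of the Laurent monomial `X^e` in `F · X^{-v}`.
-/

set_option autoImplicit false
universe u

open MvPolynomial

namespace Groth.Agent.Lib.Helper27Laurent

variable {σ : Type*} [Fintype σ] {R : Type*} [CommRing R]

/-- the exponent vector attached to an integer vector (negative entries truncated). -/
noncomputable def toExp (w : σ → ℤ) : σ →₀ ℕ :=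
  Finsupp.equivFunOnFinite.symm (fun i => (w i).toNat)

@[simp] theorem toExp_apply (w : σ → ℤ) (i : σ) : toExp w i = (w i).toNat := rfl

theorem toExp_natCast (m : σ →₀ ℕ) : toExp (fun i => (m i : ℤ)) = m := by
  ext i
  simp

/-- the coefficient of `X^e` in `F · X^{-v}`. -/
noncomputable def lcoef (v : σ → ℤ) (F : MvPolynomial σ R) (e : σ → ℤ) : R :=
  open Classical in if ∀ i, 0 ≤ e i + v i then coeff (toExp (e + v)) F else 0

theorem lcoef_add (v : σ → ℤ) (F G : MvPolynomial σ R) (e : σ → ℤ) :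
    lcoef v (F + G) e = lcoef v F e + lcoef v G e := by
  unfold lcoef
  split_ifs
  · rw [coeff_add]
  · rw [add_zero]

theorem lcoef_zero (v : σ → ℤ) (e : σ → ℤ) : lcoef v (0 : MvPolynomial σ R) e = 0 := by
  unfold lcoef
  split_ifs <;> simp

theorem lcoef_of_nonneg (v : σ → ℤ) (F : MvPolynomial σ R) (e : σ → ℤ)
    (h : ∀ i, 0 ≤ e i + v i) : lcoef v F e = coeff (toExp (e + v)) F := by
  unfold lcoef
  rw [if_pos h]

theorem lcoef_of_not_nonneg (v : σ → ℤ) (F : MvPolynomial σ R) (e : σ → ℤ)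
    (h : ¬ ∀ i, 0 ≤ e i + v i) : lcoef v F e = 0 := by
  unfold lcoef
  rw [if_neg h]

/-- the ordinary coefficients are Laurent coefficients. -/
theorem coeff_eq_lcoef (v : σ → ℤ) (F : MvPolynomial σ R) (m : σ →₀ ℕ) :
    coeff m F = lcoef v F (fun i => (m i : ℤ) - v i) := by
  have h : ∀ i, 0 ≤ ((m i : ℤ) - v i) + v i := fun i => by simp
  rw [lcoef_of_nonneg v F _ h]
  congr 1
  ext i
  simp

theorem eq_zero_of_lcoef_eq_zero (v : σ → ℤ) (F : MvPolynomial σ R)
    (h : ∀ e, lcoef v F e = 0) : F = 0 := by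
  ext m
  rw [coeff_eq_lcoef v F m, h, coeff_zero]

theorem exists_of_lcoef_ne_zero (v : σ → ℤ) (F : MvPolynomial σ R) (e : σ → ℤ)
    (h : lcoef v F e ≠ 0) : ∃ m ∈ F.support, ∀ i, (m i : ℤ) = e i + v i := by
  by_cases hnn : ∀ i, 0 ≤ e i + v i
  · rw [lcoef_of_nonneg v F e hnn] at h
    refine ⟨toExp (e + v), mem_support_iff.mpr h, fun i => ?_⟩
    rw [toExp_apply, Pi.add_apply, Int.toNat_of_nonneg (hnn i)]
  · exact absurd (lcoef_of_not_nonneg v F e hnn) h

theorem finite_support_lcoef (v : σ → ℤ) (F : MvPolynomial σ R) :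
    {e : σ → ℤ | lcoef v F e ≠ 0}.Finite := by
  apply Set.Finite.subset (F.support.image (fun m : σ →₀ ℕ => fun i => (m i : ℤ) - v i)).finite_toSet
  intro e he
  obtain ⟨m, hm, hme⟩ := exists_of_lcoef_ne_zero v F e he
  rw [Finset.mem_coe, Finset.mem_image]
  refine ⟨m, hm, ?_⟩
  funext i
  rw [hme i]
  ring

/-- multiplying by a monomial shifts the Laurent coefficients. -/
theorem lcoef_monomial_mul (v : σ → ℤ) (a : σ →₀ ℕ) (F : MvPolynomial σ R) (e : σ → ℤ) :
    lcoef (fun i => v i + (a i : ℤ)) (monomial a 1 * F) e = lcoef v F e := by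
  classical
  by_cases hnn : ∀ i, 0 ≤ e i + v i
  · have hnn' : ∀ i, 0 ≤ e i + (v i + (a i : ℤ)) := fun i => by
      have := hnn i
      have h2 : (0 : ℤ) ≤ (a i : ℤ) := Int.natCast_nonneg _
      linarith
    rw [lcoef_of_nonneg _ _ _ hnn', lcoef_of_nonneg _ _ _ hnn, coeff_monomial_mul']
    have hle : a ≤ toExp (e + fun i => v i + (a i : ℤ)) := by
      intro i
      rw [toExp_apply, Pi.add_apply]
      have := hnn i
      omega
    rw [if_pos hle, one_mul]
    congr 1
    ext i
    rw [Finsupp.tsub_apply, toExp_apply, toExp_apply, Pi.add_apply, Pi.add_apply]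
    have := hnn i
    omega
  · rw [lcoef_of_not_nonneg _ _ _ hnn]
    by_cases hnn' : ∀ i, 0 ≤ e i + (v i + (a i : ℤ))
    · rw [lcoef_of_nonneg _ _ _ hnn', coeff_monomial_mul']
      have hle : ¬ a ≤ toExp (e + fun i => v i + (a i : ℤ)) := by
        intro hle
        apply hnn
        intro i
        have h1 := hle i
        rw [toExp_apply, Pi.add_apply] at h1
        have h2 := hnn' i
        omega
      rw [if_neg hle]
    · rw [lcoef_of_not_nonneg _ _ _ hnn']

/-- homogeneity: the Laurent monomials occurring have the expected degree. -/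
theorem sum_eq_of_isHomogeneous (v : σ → ℤ) {F : MvPolynomial σ R} {D : ℕ}
    (hF : F.IsHomogeneous D) (e : σ → ℤ) (h : lcoef v F e ≠ 0) :
    ∑ i, (e i + v i) = (D : ℤ) := by
  obtain ⟨m, hm, hme⟩ := exists_of_lcoef_ne_zero v F e h
  have h1 : Finsupp.weight (1 : σ → ℕ) m = D := hF (mem_support_iff.mp hm)
  have h2 : Finsupp.weight (1 : σ → ℕ) m = ∑ i, m i := by
    rw [Finsupp.weight_apply, Finsupp.sum_fintype _ _ (fun _ => by simp)]
    simp
  rw [← h1, h2]
  push_cast
  exact Finset.sum_congr rfl (fun i _ => (hme i).symm)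

section Build

variable (S : Finset (σ → ℤ)) (r : (σ → ℤ) → R) (v : σ → ℤ)

/-- the polynomial `∑_{e ∈ S} r_e X^{e + v}`. -/
noncomputable def poly : MvPolynomial σ R := ∑ e ∈ S, monomial (toExp (e + v)) (r e)

theorem toExp_injOn (hS : ∀ e ∈ S, ∀ i, 0 ≤ e i + v i) {e e' : σ → ℤ} (he : e ∈ S)
    (he' : ∀ i, 0 ≤ e' i + v i) (h : toExp (e + v) = toExp (e' + v)) : e = e' := by
  funext i
  have h1 := DFunLike.congr_fun h i
  rw [toExp_apply, toExp_apply, Pi.add_apply, Pi.add_apply] at h1
  have h2 := hS e he i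
  have h3 := he' i
  omega

theorem lcoef_poly (hS : ∀ e ∈ S, ∀ i, 0 ≤ e i + v i) (e : σ → ℤ) :
    lcoef v (poly S r v) e = if e ∈ S then r e else 0 := by
  classical
  by_cases hnn : ∀ i, 0 ≤ e i + v i
  · rw [lcoef_of_nonneg _ _ _ hnn]
    unfold poly
    rw [coeff_sum]
    simp only [coeff_monomial]
    by_cases heS : e ∈ S
    · rw [if_pos heS, Finset.sum_eq_single e]
      · rw [if_pos rfl]
      · intro e' he' hne
        rw [if_neg]
        intro h
        exact hne (toExp_injOn S v hS he' hnn h)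
      · intro h
        exact absurd heS h
    · rw [if_neg heS]
      apply Finset.sum_eq_zero
      intro e' he'
      rw [if_neg]
      intro h
      have := toExp_injOn S v hS he' hnn h
      rw [this] at he'
      exact heS he'
  · rw [lcoef_of_not_nonneg _ _ _ hnn, if_neg]
    intro heS
    exact hnn (hS e heS)

theorem poly_isHomogeneous (hS : ∀ e ∈ S, ∀ i, 0 ≤ e i + v i) (D : ℕ)
    (hD : ∀ e ∈ S, ∑ i, (e i + v i) = (D : ℤ)) : (poly S r v).IsHomogeneous D := by
  unfold poly
  apply IsHomogeneous.sum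
  intro e he
  apply isHomogeneous_monomial
  rw [Finsupp.degree_eq_sum]
  have h3 : ((∑ i, (toExp (e + v)) i : ℕ) : ℤ) = (D : ℤ) := by
    rw [← hD e he]
    push_cast
    apply Finset.sum_congr rfl
    intro i _
    rw [toExp_apply, Pi.add_apply, Int.toNat_of_nonneg (hS e he i)]
  exact_mod_cast h3

end Build

end Groth.Agent.Lib.Helper27Laurent
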