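import Groth.Agent.Lib.Helper27LinRes

/-!
# Linear presentations of `m`-regular modules on `P^n_k`, final form (helper27)
-/

set_option autoImplicit false
universe u

open CategoryTheory CategoryTheory.Limits AlgebraicGeometry TopologicalSpace Opposite
  HomogeneousLocalization MvPolynomial

namespace Groth.Agent.Lib.Helper27LinRes

open Groth.Agent.Lib.Helper27PnHom
  Groth.Agent.Lib.Helper27SerreVan Groth.Agent.Lib.Helper27CMReg Groth.Agent.Lib.Helper27GenTop
  Groth.Agent.Lib.Helper27CoprodFin Groth.Agent.Lib.Helper27CohFin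
  Groth.Agent.Lib.Helper27GlobGenPn Groth.Agent.Lib.Helper27PnSections
  Groth.Agent.Lib.Helper27SerreVanPn Groth.Agent.Lib.Helper27CMReg2

section Field

variable (k : Type u) [Field k] (n : ℕ)

local notation "𝒢" => CohB1.polyGrading n k

/-- version with the twisting family as a variable. -/
theorem exists_presentation_gen (T : ℤ → (CohB1.ProjSpace n k).Modules)
    (hT : T = fun d => (GrTilde.tilde 𝒢 𝒢 d : (CohB1.ProjSpace n k).Modules))
    (F : (CohB1.ProjSpace n k).Modules) (hF : Coh.IsCoh F) (m : ℤ)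
    (h : ∀ i : ℕ, 1 ≤ i → i ≤ n →
      Subsingleton (Coh.HH (CohB1.ProjSpace n k) (CohB1.tensorMod F (T (m - i))) i)) :
    ∃ (b : ℕ) (φ : (∐ fun _ : Fin b => T (-m)) ⟶ F),
      Epi φ ∧ ∀ i : ℕ, 1 ≤ i → i ≤ n →
        Subsingleton (Coh.HH (CohB1.ProjSpace n k)
          (CohB1.tensorMod (kernel φ) (T (m + 1 - i))) i) := by
  subst hT
  have hfun := Groth.Agent.Lib.Helper27TwistEq.twistProjSpace_eq n k
  have h' : Curv2.IsMRegular k n F m := by
    unfold Curv2.IsMRegular
    simp only [hfun]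
    exact h
  have hvan : ∀ q : ℕ, 1 ≤ q → ∀ r : ℤ, m - q ≤ r →
      Subsingleton (Coh.HH (CohB1.ProjSpace n k)
        (CohB1.tensorMod F (Twist.twistProjSpace n k r)) q) :=
    fun q hq r hr => vanishing_ge_of_isMRegular n k F hF.1 m h' q r hq hr
  have hMq : (CohB1.tensorMod F (Twist.twistProjSpace n k m)).IsQuasicoherent :=
    isQuasicoherent_twisted n k F hF.1 m
  have hMft : SheafOfModules.IsFiniteType (R := (CohB1.ProjSpace n k).ringCatSheaf)
      (CohB1.tensorMod F (Twist.twistProjSpace n k m)) := by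
    haveI := hF.1
    haveI := hF.2
    haveI := (Groth.Agent.Lib.Helper27TwistCoh.isCoh_twist n k m).1
    haveI := (Groth.Agent.Lib.Helper27TwistCoh.isCoh_twist n k m).2
    exact Groth.Agent.Lib.Helper23.TensorQCoh.isFiniteType_tensorMod F
      (Twist.twistProjSpace n k m)
  simp only [hfun] at hvan hMq hMft
  have hfin : Module.Finite k (Coh.HH (CohB1.ProjSpace n k)
      (CohB1.tensorMod F (GrTilde.tilde 𝒢 𝒢 m)) 0) :=
    Groth.Agent.S0038.result n k _ ⟨hMq, hMft⟩ 0
  have hgen : GenTop (CohB1.tensorMod (X := Proj 𝒢) F (OO n k m)) :=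
    genTop_of_regular n k F hF m hvan m le_rfl
  obtain ⟨b, p, hp⟩ := exists_surjective_top (X := CohB1.ProjSpace n k) k _ hfin
  have hpe : Epi p := epi_of_surjective_top p hgen hp
  obtain ⟨φ, hφ, hK⟩ := exists_presentation_aux k n F m hvan b p hpe hp
  exact ⟨b, φ, hφ, hK⟩

/-- an `m`-regular coherent module has a presentation `O(-m)^b ⟶ F` with `(m+1)`-regular
kernel. -/
theorem exists_presentation (F : (CohB1.ProjSpace n k).Modules) (hF : Coh.IsCoh F) (m : ℤ)
    (h : Curv2.IsMRegular k n F m) :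
    ∃ (b : ℕ) (φ : (∐ fun _ : Fin b => Twist.twistProjSpace n k (-m)) ⟶ F),
      Epi φ ∧ Curv2.IsMRegular k n (kernel φ) (m + 1) :=
  exists_presentation_gen k n (Twist.twistProjSpace n k)
    (Groth.Agent.Lib.Helper27TwistEq.twistProjSpace_eq n k) F hF m h

end Field

end Groth.Agent.Lib.Helper27LinRes
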