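import Mathlib
import Groth.Agent.Lib.Helper27LinSer5

/-! Linear series on a backbone of rational curves with cuspidal tails. -/

namespace Groth.Agent.Lib.Helper27LinSer

open FunFld WithZero Groth.Agent.Lib.LeadFF

universe u w

section counting
variable {N : ℕ}

/-- number of members of `T` strictly to the left of `i`. -/
noncomputable def cL (T : Finset (Fin (N + 1))) (i : ℕ) : ℕ :=
  (T.filter (fun t : Fin (N + 1) => (t : ℕ) < i)).card

/-- number of members of `T` strictly to the right of `i`. -/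
noncomputable def cR (T : Finset (Fin (N + 1))) (i : ℕ) : ℕ :=
  (T.filter (fun t : Fin (N + 1) => i < (t : ℕ))).card

open Classical in
noncomputable def ind (T : Finset (Fin (N + 1))) (i : Fin (N + 1)) : ℕ :=
  if i ∈ T then 1 else 0

lemma ind_of_mem {T : Finset (Fin (N + 1))} {i : Fin (N + 1)} (h : i ∈ T) : ind T i = 1 := by
  unfold ind; rw [if_pos h]

lemma ind_of_notMem {T : Finset (Fin (N + 1))} {i : Fin (N + 1)} (h : i ∉ T) : ind T i = 0 := by
  unfold ind; rw [if_neg h]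

lemma cL_zero (T : Finset (Fin (N + 1))) : cL T 0 = 0 := by
  unfold cL
  rw [Finset.card_eq_zero, Finset.filter_eq_empty_iff]
  intro t _
  omega

lemma cR_last (T : Finset (Fin (N + 1))) : cR T N = 0 := by
  unfold cR
  rw [Finset.card_eq_zero, Finset.filter_eq_empty_iff]
  intro t _
  have := t.2
  omega

lemma card_filter_eq (T : Finset (Fin (N + 1))) (i : Fin (N + 1)) :
    (T.filter (fun t : Fin (N + 1) => t = i)).card = ind T i := by
  classical
  rw [Finset.filter_eq']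
  unfold ind
  split_ifs <;> simp

lemma cL_succ (T : Finset (Fin (N + 1))) (i : Fin (N + 1)) :
    cL T ((i : ℕ) + 1) = cL T i + ind T i := by
  classical
  rw [← card_filter_eq]
  unfold cL
  have : T.filter (fun t : Fin (N + 1) => (t : ℕ) < (i : ℕ) + 1) =
      T.filter (fun t : Fin (N + 1) => (t : ℕ) < i) ∪ T.filter (fun t : Fin (N + 1) => t = i) := by
    ext t
    simp only [Finset.mem_filter, Finset.mem_union]
    constructor
    · rintro ⟨ht, h⟩
      by_cases hti : t = i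
      · exact Or.inr ⟨ht, hti⟩
      · have : (t : ℕ) ≠ i := fun h' => hti (Fin.ext h')
        exact Or.inl ⟨ht, by omega⟩
    · rintro (⟨ht, h⟩ | ⟨ht, h⟩)
      · exact ⟨ht, by omega⟩
      · exact ⟨ht, by rw [h]; omega⟩
  rw [this, Finset.card_union_of_disjoint]
  rw [Finset.disjoint_filter]
  intro t _ h1 h2
  rw [h2] at h1
  omega

lemma cR_pred (T : Finset (Fin (N + 1))) (j : Fin (N + 1)) (i : ℕ) (h : (j : ℕ) = i + 1) :
    cR T i = cR T j + ind T j := by
  classical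
  rw [← card_filter_eq]
  unfold cR
  have : T.filter (fun t : Fin (N + 1) => i < (t : ℕ)) =
      T.filter (fun t : Fin (N + 1) => (j : ℕ) < (t : ℕ)) ∪ T.filter (fun t : Fin (N + 1) => t = j) := by
    ext t
    simp only [Finset.mem_filter, Finset.mem_union]
    constructor
    · rintro ⟨ht, h'⟩
      by_cases htj : t = j
      · exact Or.inr ⟨ht, htj⟩
      · have : (t : ℕ) ≠ j := fun h'' => htj (Fin.ext h'')
        exact Or.inl ⟨ht, by omega⟩
    · rintro (⟨ht, h'⟩ | ⟨ht, h'⟩)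
      · exact ⟨ht, by omega⟩
      · exact ⟨ht, by rw [h']; omega⟩
  rw [this, Finset.card_union_of_disjoint]
  rw [Finset.disjoint_filter]
  intro t _ h1 h2
  rw [h2] at h1
  omega

lemma card_eq_cL_add (T : Finset (Fin (N + 1))) (i : Fin (N + 1)) :
    T.card = cL T i + ind T i + cR T i := by
  classical
  rw [← cL_succ]
  unfold cL cR
  rw [← Finset.card_filter_add_card_filter_not (s := T) (fun t : Fin (N + 1) => (t : ℕ) < (i : ℕ) + 1)]
  congr 2
  ext t
  simp only [Finset.mem_filter]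
  constructor
  · rintro ⟨ht, h⟩; exact ⟨ht, by omega⟩
  · rintro ⟨ht, h⟩; exact ⟨ht, by omega⟩

lemma card_erase_eq (T : Finset (Fin (N + 1))) (i : Fin (N + 1)) :
    (T.erase i).card = cL T i + cR T i := by
  classical
  have h := card_eq_cL_add T i
  by_cases hi : i ∈ T
  · rw [Finset.card_erase_of_mem hi, h, ind_of_mem hi]
    omega
  · rw [Finset.erase_eq_of_notMem hi, h, ind_of_notMem hi]
    omega

end counting

section backbone

variable {k : Type u} [Field k] [IsAlgClosed k] [CharZero k]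
    (N : ℕ) (Z : Fin (N + 1) → Type w) [∀ i, Field (Z i)] [∀ i, Algebra k (Z i)]
    (hZ : ∀ i, IsFunctionField k (Z i)) (hrat : ∀ i, genus k (Z i) = 0)
    (d r : ℕ) (D : ∀ i, Divisor k (Z i)) (hD : ∀ i, (D i).deg = d)
    (V : ∀ i, Submodule k (Z i)) (hV : ∀ i, V i ≤ L (D i))
    (hVr : ∀ i, Module.finrank k ↥(V i) = r + 1)
    (A B : ∀ i, Place k (Z i))
    (hAB : ∀ i : Fin (N + 1), 0 < (i : ℕ) → (i : ℕ) < N → A i ≠ B i)
    (hcomp : ∀ (l : Fin N) (m : ℕ), m ≤ d + 1 →
      Module.finrank k ↥((V l.castSucc) ⊓ L ((D l.castSucc) - Finsupp.single (B l.castSucc) ((m : ℤ)))) +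
        Module.finrank k ↥((V l.succ) ⊓ L ((D l.succ) - Finsupp.single (A l.succ) ((d : ℤ) + 1 - m))) = r + 1)
    (T : Finset (Fin (N + 1))) (Q : ∀ i, Place k (Z i))
    (hQA : ∀ i ∈ T, 0 < (i : ℕ) → Q i ≠ A i) (hQB : ∀ i ∈ T, (i : ℕ) < N → Q i ≠ B i)
    (hcusp : ∀ i ∈ T, r ≤ Module.finrank k ↥((V i) ⊓ L ((D i) - Finsupp.single (Q i) ((2 : ℤ)))))

omit [CharZero k] in
include hZ hD in
lemma wtQ_ge (i : Fin (N + 1)) (hi : i ∈ T) (hc : r ≤ fdim (V i) (D i) (Q i) 2) :
    r * ind T i + r * (r + 1) / 2 ≤ wt (V i) (D i) (Q i) d := by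
  rw [ind_of_mem hi, mul_one]
  exact wt_ge_of_cusp (hZ i) (hD i) (Q i) (deg_eq_one_of_algClosed (hZ i) (Q i)) hc

omit [IsAlgClosed k] [CharZero k] in
include hcomp in
lemma node_sum (l : Fin N) :
    wt (V l.castSucc) (D l.castSucc) (B l.castSucc) d + wt (V l.succ) (D l.succ) (A l.succ) d =
      d * (r + 1) :=
  compat_sum (V l.castSucc) (D l.castSucc) (B l.castSucc) (V l.succ) (D l.succ) (A l.succ) d r
    (hcomp l)

include hZ hrat hD hV hVr hAB hQA hQB hcusp in
lemma stepL (i : Fin (N + 1)) (hiN : (i : ℕ) < N)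
    (hA : 0 < (i : ℕ) → r * cL T i + r * (r + 1) / 2 ≤ wt (V i) (D i) (A i) d) :
    wt (V i) (D i) (B i) d + r * (cL T i + ind T i) + r * (r + 1) / 2 ≤ (r + 1) * d := by
  have h := pl_opt (hZ i) (hrat i) (hD i) (hV i) (hVr i) (B i) (0 < (i : ℕ)) (i ∈ T) False
    (A i) (Q i) (B i) (r * cL T i) (r * ind T i) 0
    (fun h => (hAB i h hiN).symm) (fun h => (hQB i h hiN).symm) (fun h => h.elim)
    (fun h0 hT => (hQA i hT h0).symm) (fun _ h => h.elim) (fun _ h => h.elim)
    hA (fun hT => wtQ_ge N Z hZ d r D hD V T Q i hT (hcusp i hT)) (fun h => h.elim)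
    (fun h0 => by
      have : (i : ℕ) = 0 := by omega
      rw [this, cL_zero, mul_zero])
    (fun hT => by rw [ind_of_notMem hT, mul_zero]) (fun _ => rfl)
  have e := Nat.even_mul_succ_self r
  obtain ⟨M, hM⟩ := e
  rw [mul_add]
  omega

include hZ hrat hD hV hVr hAB hQA hQB hcusp in
lemma stepR (i : Fin (N + 1)) (hi0 : 0 < (i : ℕ))
    (hB : (i : ℕ) < N → r * cR T i + r * (r + 1) / 2 ≤ wt (V i) (D i) (B i) d) :
    wt (V i) (D i) (A i) d + r * (cR T i + ind T i) + r * (r + 1) / 2 ≤ (r + 1) * d := by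
  have h := pl_opt (hZ i) (hrat i) (hD i) (hV i) (hVr i) (A i) ((i : ℕ) < N) (i ∈ T) False
    (B i) (Q i) (A i) (r * cR T i) (r * ind T i) 0
    (fun h => hAB i hi0 h) (fun h => (hQA i h hi0).symm) (fun h => h.elim)
    (fun hN hT => (hQB i hT hN).symm) (fun _ h => h.elim) (fun _ h => h.elim)
    hB (fun hT => wtQ_ge N Z hZ d r D hD V T Q i hT (hcusp i hT)) (fun h => h.elim)
    (fun hN => by
      have : (i : ℕ) = N := by have := i.2; omega
      rw [this, cR_last, mul_zero])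
    (fun hT => by rw [ind_of_notMem hT, mul_zero]) (fun _ => rfl)
  have e := Nat.even_mul_succ_self r
  obtain ⟨M, hM⟩ := e
  rw [mul_add]
  omega

include hZ hrat hD hV hVr hAB hcomp hQA hQB hcusp in
/-- Left bound at the right node of each non-final component. -/
lemma LB (i : ℕ) (hi : i < N) :
    wt (V (Fin.castSucc ⟨i, hi⟩)) (D (Fin.castSucc ⟨i, hi⟩)) (B (Fin.castSucc ⟨i, hi⟩)) d +
      r * (cL T i + ind T (Fin.castSucc ⟨i, hi⟩)) + r * (r + 1) / 2 ≤ (r + 1) * d := by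
  induction i with
  | zero =>
    refine stepL N Z hZ hrat d r D hD V hV hVr A B hAB T Q hQA hQB hcusp
      (Fin.castSucc ⟨0, hi⟩) (by simpa using hi) (fun h => ?_)
    simp at h
  | succ i ih =>
    have hi' : i < N := by omega
    have hprev := ih hi'
    have hns := node_sum N Z d r D V A B hcomp ⟨i, hi'⟩
    have hcl := cL_succ T (Fin.castSucc ⟨i, hi'⟩)
    have e : Fin.succ (⟨i, hi'⟩ : Fin N) = Fin.castSucc (⟨i + 1, hi⟩ : Fin N) := Fin.ext rfl
    rw [e] at hns
    have e2 : ((Fin.castSucc (⟨i, hi'⟩ : Fin N) : Fin (N + 1)) : ℕ) = i := rfl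
    rw [e2] at hcl
    refine stepL N Z hZ hrat d r D hD V hV hVr A B hAB T Q hQA hQB hcusp
      (Fin.castSucc ⟨i + 1, hi⟩) (by simpa using hi) (fun _ => ?_)
    have e3 : ((Fin.castSucc (⟨i + 1, hi⟩ : Fin N) : Fin (N + 1)) : ℕ) = i + 1 := rfl
    rw [e3, hcl]
    have hcomm : (r + 1) * d = d * (r + 1) := mul_comm _ _
    omega

include hZ hrat hD hV hVr hAB hcomp hQA hQB hcusp in
/-- Lower bound for the weight at the left node. -/
lemma LA (j : Fin (N + 1)) (hj : 0 < (j : ℕ)) :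
    r * cL T j + r * (r + 1) / 2 ≤ wt (V j) (D j) (A j) d := by
  obtain ⟨i, rfl⟩ : ∃ i : Fin N, j = i.succ := by
    have hj0 : j ≠ 0 := by
      intro h
      rw [h] at hj
      simp at hj
    obtain ⟨y, hy⟩ := Fin.exists_succ_eq.mpr hj0
    exact ⟨y, hy.symm⟩
  have hlb := LB N Z hZ hrat d r D hD V hV hVr A B hAB hcomp T Q hQA hQB hcusp i.1 i.2
  have hns := node_sum N Z d r D V A B hcomp i
  have hcl := cL_succ T (Fin.castSucc i)
  have e : (Fin.castSucc (⟨i.1, i.2⟩ : Fin N)) = Fin.castSucc i := rfl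
  rw [e] at hlb
  have e2 : ((Fin.castSucc i : Fin (N + 1)) : ℕ) = (i : ℕ) := rfl
  rw [e2] at hcl
  have e3 : ((Fin.succ i : Fin (N + 1)) : ℕ) = (i : ℕ) + 1 := by simp
  rw [e3, hcl]
  have hcomm : (r + 1) * d = d * (r + 1) := mul_comm _ _
  omega

include hZ hrat hD hV hVr hAB hcomp hQA hQB hcusp in
/-- Right bound at the left node of each non-initial component. -/
lemma RA (n : ℕ) : ∀ i : Fin (N + 1), 0 < (i : ℕ) → (i : ℕ) + n = N →
    wt (V i) (D i) (A i) d + r * (cR T i + ind T i) + r * (r + 1) / 2 ≤ (r + 1) * d := by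
  induction n with
  | zero =>
    intro i hi0 hiN
    refine stepR N Z hZ hrat d r D hD V hV hVr A B hAB T Q hQA hQB hcusp i hi0 (fun h => ?_)
    omega
  | succ n ih =>
    intro i hi0 hiN
    have hi' : (i : ℕ) < N := by omega
    have hnext := ih (Fin.succ ⟨(i : ℕ), hi'⟩) (by simp) (by simp; omega)
    have hns := node_sum N Z d r D V A B hcomp ⟨(i : ℕ), hi'⟩
    have hcr := cR_pred T (Fin.succ ⟨(i : ℕ), hi'⟩) (i : ℕ) (by simp)
    have e : Fin.castSucc (⟨(i : ℕ), hi'⟩ : Fin N) = i := Fin.ext rfl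
    rw [e] at hns
    refine stepR N Z hZ hrat d r D hD V hV hVr A B hAB T Q hQA hQB hcusp i hi0 (fun _ => ?_)
    rw [hcr]
    have hcomm : (r + 1) * d = d * (r + 1) := mul_comm _ _
    omega

include hZ hrat hD hV hVr hAB hcomp hQA hQB hcusp in
/-- Lower bound for the weight at the right node. -/
lemma RB (i : Fin (N + 1)) (hiN : (i : ℕ) < N) :
    r * cR T i + r * (r + 1) / 2 ≤ wt (V i) (D i) (B i) d := by
  have hnext := RA N Z hZ hrat d r D hD V hV hVr A B hAB hcomp T Q hQA hQB hcusp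
    (N - ((i : ℕ) + 1)) (Fin.succ ⟨(i : ℕ), hiN⟩) (by simp) (by simp; omega)
  have hns := node_sum N Z d r D V A B hcomp ⟨(i : ℕ), hiN⟩
  have hcr := cR_pred T (Fin.succ ⟨(i : ℕ), hiN⟩) (i : ℕ) (by simp)
  have e : Fin.castSucc (⟨(i : ℕ), hiN⟩ : Fin N) = i := Fin.ext rfl
  rw [e] at hns
  rw [hcr]
  have hcomm : (r + 1) * d = d * (r + 1) := mul_comm _ _
  omega

end backbone

end Groth.Agent.Lib.Helper27LinSer
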