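import Mathlib
import Groth.Agent.Lib.Helper27LinSer6

/-! Linear series: cusps forced along a chain ending in a curve of positive genus
(`Fin (n+1)`, `castSucc`/`succ` indexing). -/

namespace Groth.Agent.Lib.Helper27LinSer

open FunFld WithZero Groth.Agent.Lib.LeadFF

universe u w

section chain

variable {k : Type u} [Field k] [IsAlgClosed k]
    (n : ℕ) (U : Fin (n + 1) → Type w) [∀ l, Field (U l)] [∀ l, Algebra k (U l)]
    (hU : ∀ l, IsFunctionField k (U l))
    (hpos : 0 < genus k (U (Fin.last n)))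
    (d r : ℕ) (hd : 1 ≤ d) (D : ∀ l, Divisor k (U l)) (hD : ∀ l, (D l).deg = d)
    (V : ∀ l, Submodule k (U l)) (hV : ∀ l, V l ≤ L (D l))
    (hVr : ∀ l, Module.finrank k ↥(V l) = r + 1)
    (A B : ∀ l, Place k (U l))
    (hAB : ∀ l : Fin (n + 1), 0 < (l : ℕ) → (l : ℕ) < n → A l ≠ B l)
    (hcomp : ∀ (l : Fin n) (m : ℕ), m ≤ d + 1 →
      Module.finrank k ↥((V l.castSucc) ⊓ L ((D l.castSucc) - Finsupp.single (B l.castSucc) ((m : ℤ)))) +
        Module.finrank k ↥((V l.succ) ⊓ L ((D l.succ) - Finsupp.single (A l.succ) ((d : ℤ) + 1 - m))) = r + 1)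

include hU hpos hd hD hV hVr hAB hcomp in
lemma fdimA_le_one_of_chain : ∀ l : Fin (n + 1), 0 < (l : ℕ) →
    fdim (V l) (D l) (A l) ((d : ℤ) - 1) ≤ 1 := by
  have key : ∀ i : ℕ, ∀ l : Fin (n + 1), 0 < (l : ℕ) → (l : ℕ) + i = n →
      fdim (V l) (D l) (A l) ((d : ℤ) - 1) ≤ 1 := by
    intro i
    induction i with
    | zero =>
      intro l _ hl
      have hl' : l = Fin.last n := Fin.ext (by simpa using hl)
      subst hl'
      exact fdim_le_one_of_genus_pos (hU _) hpos (V _) (hD _) (A _)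
    | succ i ih =>
      intro l hl0 hl
      have hl' : (l : ℕ) < n := by omega
      have hnext := ih (Fin.succ ⟨(l : ℕ), hl'⟩) (by simp) (by simp; omega)
      have hc := hcomp ⟨(l : ℕ), hl'⟩ 2 (by omega)
      have e : (d : ℤ) + 1 - ((2 : ℕ) : ℤ) = (d : ℤ) - 1 := by push_cast; ring
      rw [e] at hc
      have e2 : ((2 : ℕ) : ℤ) = 2 := by norm_num
      rw [e2] at hc
      have e3 : Fin.castSucc (⟨(l : ℕ), hl'⟩ : Fin n) = l := Fin.ext rfl
      rw [e3] at hc
      unfold fdim at hnext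
      refine fdim_le_one_of_cusp (hU l) hd (hD l) (hV l) (hVr l) (hAB l hl0 hl') ?_
      unfold fdim
      omega
  intro l hl
  exact key (n - (l : ℕ)) l hl (by have := l.2; omega)

include hU hpos hd hD hV hVr hAB hcomp in
/-- Every component before the last has a cusp at its right node. -/
lemma cuspB_of_chain (l : Fin (n + 1)) (hl : (l : ℕ) < n) :
    r ≤ fdim (V l) (D l) (B l) 2 := by
  have hnext := fdimA_le_one_of_chain n U hU hpos d r hd D hD V hV hVr A B hAB hcomp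
    (Fin.succ ⟨(l : ℕ), hl⟩) (by simp)
  have hc := hcomp ⟨(l : ℕ), hl⟩ 2 (by omega)
  have e : (d : ℤ) + 1 - ((2 : ℕ) : ℤ) = (d : ℤ) - 1 := by push_cast; ring
  rw [e] at hc
  have e2 : ((2 : ℕ) : ℤ) = 2 := by norm_num
  rw [e2] at hc
  have e3 : Fin.castSucc (⟨(l : ℕ), hl⟩ : Fin n) = l := Fin.ext rfl
  rw [e3] at hc
  unfold fdim at hnext ⊢
  omega

end chain

end Groth.Agent.Lib.Helper27LinSer
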