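import Mathlib
import Groth.Agent.Lib.Helper27LinSer5

/-! Linear series on a genus-zero function field: with a cusp at `Q` there is at most one
member supported at two further places. -/

namespace Groth.Agent.Lib.Helper27LinSer

open FunFld WithZero Groth.Agent.Lib.LeadFF

section
variable {k K : Type*} [Field k] [Field K] [Algebra k K]

lemma mem_L_sub_single_iff (hK : IsFunctionField k K) {D : Divisor k K} {f : K} (hf0 : f ≠ 0)
    (hf : f ∈ L D) (R : Place k K) (n : ℤ) :
    f ∈ L (D - Finsupp.single R n) ↔ n ≤ (FunFld.div k f + D) R := by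
  constructor
  · intro h
    have h1 := neg_le_div_of_mem_L hK h hf0 R
    rw [Finsupp.neg_apply, Finsupp.sub_apply, single_apply_self] at h1
    rw [Finsupp.add_apply]
    omega
  · intro h R'
    rw [Finsupp.add_apply, div_apply hK] at h
    by_cases hR : R' = R
    · subst hR
      rw [Finsupp.sub_apply, single_apply_self, val_eq_exp_neg_ord R' hf0, exp_le_exp]
      omega
    · rw [Finsupp.sub_apply, single_apply_ne hR, sub_zero]
      exact hf R'

lemma deg_supp2 (hK : IsFunctionField k K) [IsAlgClosed k] {E : Divisor k K} {P P' : Place k K}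
    (hPP' : P ≠ P') (h : ∀ R : Place k K, R ≠ P → R ≠ P' → E R = 0) :
    E.deg = E P + E P' := by
  have hE : E = Finsupp.single P (E P) + Finsupp.single P' (E P') := by
    ext R
    rw [Finsupp.add_apply]
    by_cases h1 : R = P
    · subst h1
      rw [single_apply_self, single_apply_ne hPP', add_zero]
    · by_cases h2 : R = P'
      · subst h2
        rw [single_apply_self, single_apply_ne h1, zero_add]
      · rw [single_apply_ne h1, single_apply_ne h2, h R h1 h2, add_zero]
  conv_lhs => rw [hE]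
  rw [deg_add, deg_single, deg_single, deg_eq_one_of_algClosed hK P,
    deg_eq_one_of_algClosed hK P']
  push_cast
  ring

lemma deg_supp1 (hK : IsFunctionField k K) [IsAlgClosed k] {E : Divisor k K} {P : Place k K}
    (h : ∀ R : Place k K, R ≠ P → E R = 0) :
    E.deg = E P := by
  have hE : E = Finsupp.single P (E P) := by
    ext R
    by_cases h1 : R = P
    · subst h1
      rw [single_apply_self]
    · rw [single_apply_ne h1, h R h1]
  conv_lhs => rw [hE]
  rw [deg_single, deg_eq_one_of_algClosed hK P]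
  push_cast
  ring

lemma sum_ind (a d : ℕ) : ∑ j ∈ Finset.range d, (if j < a then 1 else 0) = min a d := by
  induction d with
  | zero => simp
  | succ d ih =>
    rw [Finset.sum_range_succ, ih]
    split_ifs <;> omega

/-- Lower bound for `dim W(-nR)` where `W` contains independent `f, g`. -/
lemma fdim_pair_ge (hK : IsFunctionField k K) {D : Divisor k K} {W : Submodule k K}
    {f g : K} (hfW : f ∈ W) (hgW : g ∈ W) (hfD : f ∈ L D) (hgD : g ∈ L D)
    (hf0 : f ≠ 0) (hg0 : g ≠ 0) (hind : LinearIndependent k ![f, g])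
    (R : Place k K) (a b : ℕ) (ha : (a : ℤ) = (FunFld.div k f + D) R)
    (hb : (b : ℤ) = (FunFld.div k g + D) R) (j : ℕ) :
    (if j < a then 1 else 0) + (if j < b then 1 else 0) ≤ fdim W D R ((j : ℤ) + 1) := by
  have hfin := fin_inf hK W (D - Finsupp.single R ((j : ℤ) + 1))
  have hfm : j < a → f ∈ W ⊓ L (D - Finsupp.single R ((j : ℤ) + 1)) := fun h =>
    ⟨hfW, (mem_L_sub_single_iff hK hf0 hfD R _).mpr (by omega)⟩
  have hgm : j < b → g ∈ W ⊓ L (D - Finsupp.single R ((j : ℤ) + 1)) := fun h =>
    ⟨hgW, (mem_L_sub_single_iff hK hg0 hgD R _).mpr (by omega)⟩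
  have hone : ∀ x : K, x ≠ 0 → x ∈ W ⊓ L (D - Finsupp.single R ((j : ℤ) + 1)) →
      1 ≤ fdim W D R ((j : ℤ) + 1) := by
    intro x hx0 hx
    unfold fdim
    rw [Nat.succ_le_iff, Module.finrank_pos_iff_exists_ne_zero]
    exact ⟨⟨x, hx⟩, fun h => hx0 (congrArg Subtype.val h)⟩
  by_cases h1 : j < a <;> by_cases h2 : j < b
  · rw [if_pos h1, if_pos h2]
    unfold fdim
    have hsp : Submodule.span k (Set.range ![f, g]) ≤
        W ⊓ L (D - Finsupp.single R ((j : ℤ) + 1)) := by
      rw [Submodule.span_le]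
      rintro x ⟨i, rfl⟩
      fin_cases i
      · exact hfm h1
      · exact hgm h2
    have h2' := Submodule.finrank_mono hsp
    rw [finrank_span_eq_card hind] at h2'
    simpa using h2'
  · rw [if_pos h1, if_neg h2]
    exact hone f hf0 (hfm h1)
  · rw [if_neg h1, if_pos h2]
    exact hone g hg0 (hgm h2)
  · rw [if_neg h1, if_neg h2]
    exact Nat.zero_le _

lemma wt_pair_ge (hK : IsFunctionField k K) {D : Divisor k K} {W : Submodule k K}
    {f g : K} (hfW : f ∈ W) (hgW : g ∈ W) (hfD : f ∈ L D) (hgD : g ∈ L D)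
    (hf0 : f ≠ 0) (hg0 : g ≠ 0) (hind : LinearIndependent k ![f, g])
    (R : Place k K) (a b d : ℕ) (ha : (a : ℤ) = (FunFld.div k f + D) R)
    (hb : (b : ℤ) = (FunFld.div k g + D) R) (had : a ≤ d) (hbd : b ≤ d) :
    a + b ≤ wt W D R d := by
  unfold wt
  have h := Finset.sum_le_sum (s := Finset.range d) fun j _ =>
    fdim_pair_ge hK hfW hgW hfD hgD hf0 hg0 hind R a b ha hb j
  rw [Finset.sum_add_distrib, sum_ind, sum_ind, min_eq_left had, min_eq_left hbd] at h
  exact h

end

section genus0

variable {k K : Type*} [Field k] [Field K] [Algebra k K] [IsAlgClosed k] [CharZero k]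

theorem unique_member_of_cusp (hK : IsFunctionField k K) (hg : genus k K = 0) {d r : ℕ}
    {D : Divisor k K} (hD : D.deg = d) {V : Submodule k K} (hV : V ≤ L D)
    (hVr : Module.finrank k ↥V = r + 1) (Q : Place k K) (hcusp : r ≤ fdim V D Q 2)
    (P P' : Place k K) (hP : P ≠ Q) (hP' : P' ≠ Q)
    (f g : K) (hf : f ∈ V) (hg' : g ∈ V) (hf0 : f ≠ 0) (hg0 : g ≠ 0)
    (hfs : ∀ R : Place k K, R ≠ P → R ≠ P' → (FunFld.div k f + D) R = 0)
    (hgs : ∀ R : Place k K, R ≠ P → R ≠ P' → (FunFld.div k g + D) R = 0) :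
    ∃ c : k, g = c • f := by
  by_contra hno
  -- independence
  have hind : LinearIndependent k ![f, g] := by
    rw [LinearIndependent.pair_iff]
    intro s t hst
    have ht : t = 0 := by
      by_contra ht
      apply hno
      refine ⟨-(t⁻¹ * s), ?_⟩
      have h1 : t • g = -(s • f) := by
        rw [eq_neg_iff_add_eq_zero, add_comm]; exact hst
      calc g = t⁻¹ • (t • g) := by rw [smul_smul, inv_mul_cancel₀ ht, one_smul]
        _ = -(t⁻¹ * s) • f := by rw [h1, smul_neg, smul_smul, neg_smul]
    rw [ht, zero_smul, add_zero] at hst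
    rcases smul_eq_zero.mp hst with h | h
    · exact ⟨h, ht⟩
    · exact absurd h hf0
  set W : Submodule k K := Submodule.span k (Set.range ![f, g]) with hWdef
  have hfW : f ∈ W := Submodule.subset_span ⟨0, rfl⟩
  have hgW : g ∈ W := Submodule.subset_span ⟨1, rfl⟩
  have hWV : W ≤ V := by
    rw [hWdef, Submodule.span_le]
    rintro x ⟨i, rfl⟩
    fin_cases i
    · exact hf
    · exact hg'
  have hWr : Module.finrank k ↥W = 1 + 1 := by
    rw [hWdef, finrank_span_eq_card hind]
    simp
  have hWD : W ≤ L D := hWV.trans hV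
  have hfD : f ∈ L D := hV hf
  have hgD : g ∈ L D := hV hg'
  -- nonnegativity of the member divisors
  have hEf : ∀ R, 0 ≤ (FunFld.div k f + D) R := by
    intro R
    have := neg_le_div_of_mem_L hK hfD hf0 R
    rw [Finsupp.neg_apply] at this
    rw [Finsupp.add_apply]
    omega
  have hEg : ∀ R, 0 ≤ (FunFld.div k g + D) R := by
    intro R
    have := neg_le_div_of_mem_L hK hgD hg0 R
    rw [Finsupp.neg_apply] at this
    rw [Finsupp.add_apply]
    omega
  have hdegf : (FunFld.div k f + D).deg = d := by rw [deg_add, deg_div hK, zero_add, hD]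
  have hdegg : (FunFld.div k g + D).deg = d := by rw [deg_add, deg_div hK, zero_add, hD]
  have hPd := deg_eq_one_of_algClosed hK P
  by_cases hPP' : P = P'
  · -- both members are `d P`
    subst hPP'
    have h1 := deg_supp1 hK (E := FunFld.div k f + D) (P := P) (fun R hR => hfs R hR hR)
    have h2 := deg_supp1 hK (E := FunFld.div k g + D) (P := P) (fun R hR => hgs R hR hR)
    rw [hdegf] at h1
    rw [hdegg] at h2
    have hb := wt_pair_ge hK hfW hgW hfD hgD hf0 hg0 hind P d d (d + 1) h1 h2 (by omega) (by omega)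
    -- but `dim W(-(d+1)P) = 0` and steps are at most one
    have hstep := fdim_pair_ge hK hfW hgW hfD hgD hf0 hg0 hind P d d h1 h2 (d - 1)
    rcases Nat.eq_zero_or_pos d with hd0 | hd0
    · -- `d = 0`: `dim W ≤ ℓ(D) ≤ 1`
      have h3 := fdim_add_ge hK hWD hWr P hPd 1
      have h4 := fdim_eq_zero hK W D P hPd (n := ((1 : ℕ) : ℤ)) (by rw [hD, hd0]; norm_num)
      omega
    · rw [if_pos (by omega)] at hstep
      have e : (((d - 1 : ℕ) : ℤ) + 1) = (d : ℤ) := by omega
      rw [e] at hstep
      have h3 := fdim_le_succ hK W D P hPd (d : ℤ)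
      have h4 := fdim_eq_zero hK W D P hPd (n := (d : ℤ) + 1) (by rw [hD]; omega)
      omega
  · -- two distinct places
    have h1 := deg_supp2 hK (E := FunFld.div k f + D) hPP' hfs
    have h2 := deg_supp2 hK (E := FunFld.div k g + D) hPP' hgs
    rw [hdegf] at h1
    rw [hdegg] at h2
    obtain ⟨a, ha⟩ := Int.eq_ofNat_of_zero_le (hEf P)
    obtain ⟨a', ha'⟩ := Int.eq_ofNat_of_zero_le (hEf P')
    obtain ⟨b, hb⟩ := Int.eq_ofNat_of_zero_le (hEg P)
    obtain ⟨b', hb'⟩ := Int.eq_ofNat_of_zero_le (hEg P')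
    have hwP := wt_pair_ge hK hfW hgW hfD hgD hf0 hg0 hind P a b d ha.symm hb.symm
      (by omega) (by omega)
    have hwP' := wt_pair_ge hK hfW hgW hfD hgD hf0 hg0 hind P' a' b' d ha'.symm hb'.symm
      (by omega) (by omega)
    have hpl := pl3 hK hg hD hWD hWr hPP' hP hP'
    -- the cusp forces weight at `Q`
    have hQd := deg_eq_one_of_algClosed hK Q
    have hcW : 1 ≤ fdim W D Q 2 := by
      unfold fdim at hcusp ⊢
      have hVfin : FiniteDimensional k ↥V := by
        have := L_finite hK D
        exact Submodule.finiteDimensional_of_le hV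
      have hWfin : FiniteDimensional k ↥W := Submodule.finiteDimensional_of_le hWV
      have hfin2 := fin_inf hK V (D - Finsupp.single Q 2)
      have h3 := Submodule.finrank_sup_add_finrank_inf_eq W (V ⊓ L (D - Finsupp.single Q 2))
      have h4 : Module.finrank k ↥(W ⊔ V ⊓ L (D - Finsupp.single Q 2)) ≤ Module.finrank k ↥V :=
        Submodule.finrank_mono (sup_le hWV inf_le_left)
      have h5 : W ⊓ (V ⊓ L (D - Finsupp.single Q 2)) = W ⊓ L (D - Finsupp.single Q 2) := by
        rw [← inf_assoc, inf_eq_left.mpr hWV]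
      rw [h5] at h3
      omega
    have hc1 : 1 ≤ fdim W D Q 1 := by
      have := fdim_succ_le hK W D Q 1
      have e : (1 : ℤ) + 1 = 2 := by norm_num
      rw [e] at this
      omega
    have hd2 : 2 ≤ d := by
      by_contra hlt
      have h4 := fdim_eq_zero hK W D Q hQd (n := (2 : ℤ)) (by rw [hD]; omega)
      omega
    have hwQ : 2 ≤ wt W D Q d := by
      unfold wt
      have hsub : ∑ j ∈ Finset.range 2, fdim W D Q ((j : ℤ) + 1) ≤
          ∑ j ∈ Finset.range d, fdim W D Q ((j : ℤ) + 1) :=
        Finset.sum_le_sum_of_subset (Finset.range_mono hd2)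
      rw [Finset.sum_range_succ, Finset.sum_range_one] at hsub
      have e1 : (((0 : ℕ) : ℤ) + 1) = 1 := by norm_num
      have e2 : (((1 : ℕ) : ℤ) + 1) = 2 := by norm_num
      rw [e1, e2] at hsub
      omega
    omega

end genus0

end Groth.Agent.Lib.Helper27LinSer
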