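import Groth.Agent.Lib.Helper27ExtDual3
import Groth.Agent.Lib.Helper27LocFF
import Groth.Agent.Lib.Helper21Dual13
import Groth.Agent.Lib.Helper21HZB9
import Groth.Agent.Lib.Helper27MumfordReg

/-!
# Helper27: `H^0(P^n_k, E(t)) = 0` for `t ≪ 0`, `E` finite locally free, `n ≥ 1`
-/

set_option autoImplicit false
set_option linter.style.haveILetI false
set_option linter.unusedSectionVars false
universe u
open CategoryTheory Limits AlgebraicGeometry TopologicalSpace Opposite Abelian

namespace Groth.Agent.Lib.Helper27LocFreeVan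

open Groth.Agent.Lib.Helper27ExtDual3 Groth.Agent.Lib.Helper27ExtTwist1
  Groth.Agent.Lib.Helper27ExtTwist2 Groth.Agent.Lib.Helper27SerreVanPn
  Groth.Agent.Lib.Helper27SplitPn Groth.Agent.Lib.Helper27LocFF
  Groth.Agent.Lib.Helper21.Dual Groth.Agent.Lib.Helper21.ModTensor3
  Groth.Agent.Lib.Helper21.ModTensor5 Groth.Agent.Lib.Helper27MumfordReg

attribute [local instance] Groth.Agent.Lib.Helper21.ExtShDelta.hasSheafHom

/-- a vector space with trivial dual is trivial. -/
theorem subsingleton_of_subsingleton_dual (k : Type u) [Field k] (V : Type u) [AddCommGroup V]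
    [Module k V] (h : Subsingleton (Module.Dual k V)) : Subsingleton V := by
  refine ⟨fun x y => ?_⟩
  have hz : ∀ v : V, v = 0 := by
    intro v
    rw [← Module.forall_dual_apply_eq_zero_iff k v]
    intro φ
    rw [Subsingleton.elim φ 0]
    rfl
  rw [hz x, hz y]

variable (k : Type u) [Field k] (n : ℕ) [HasExt.{u} (CohB1.ProjSpace n k).Modules]

theorem nonempty_twist_pair_iso (a : ℤ) :
    Nonempty (CohB1.tensorMod (Twist.twistProjSpace n k a) (Twist.twistProjSpace n k (-a)) ≅
      Coh.structureModule (CohB1.ProjSpace n k)) := by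
  obtain ⟨e0⟩ := nonempty_twist_zero_iso k n
  obtain ⟨e1⟩ := nonempty_twist_tensor_iso n k a (-a)
  exact ⟨e1 ≪≫ eqToIso (by rw [add_neg_cancel]) ≪≫ e0⟩

theorem exists_subsingleton_HH_zero (hn : 1 ≤ n) (E : (CohB1.ProjSpace n k).Modules)
    (hE : FlatMod.IsFinLocFree E) :
    ∃ t₀ : ℤ, ∀ t : ℤ, t ≤ t₀ → Subsingleton (Coh.HH (CohB1.ProjSpace n k)
      (CohB1.tensorMod E (Twist.twistProjSpace n k t)) 0) := by
  have hO : HasExt.{u} (ModSite.Mod (CohB1.ProjSpace n k).sheaf) :=
    ‹HasExt.{u} (CohB1.ProjSpace n k).Modules›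
  have hcohE : Coh.IsCoh E := Groth.Agent.Lib.Helper21.HZB.isCoh_of_isFinLocFree E hE
  have hE' : IsLocFF (O := (CohB1.ProjSpace n k).sheaf) E := isLocFF_of_isFinLocFree E hE
  let D : (CohB1.ProjSpace n k).Modules := dual (O := (CohB1.ProjSpace n k).sheaf) E
  have hD : Coh.IsCoh D :=
    Groth.Agent.Lib.Helper21.HZB.isCoh_of_isFinLocFree D (isFinLocFree_dual E hE)
  let ω : (CohB1.ProjSpace n k).Modules := Twist.twistProjSpace n k (-((n : ℤ) + 1))
  have hω : Coh.IsCoh ω := Groth.Agent.Lib.Helper27TwistCoh.isCoh_twist n k _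
  let G : (CohB1.ProjSpace n k).Modules := CohB1.tensorMod ω D
  have hG : Coh.IsCoh G := by
    haveI := hω.1
    haveI := hω.2
    haveI := hD.1
    haveI := hD.2
    exact ⟨Groth.Agent.Lib.Helper23.TensorQCoh.isQuasicoherent_tensorMod ω D,
      Groth.Agent.Lib.Helper23.TensorQCoh.isFiniteType_tensorMod ω D⟩
  obtain ⟨d₀, hd₀⟩ := serre_vanishing n k G hG
  refine ⟨-d₀, fun t ht => ?_⟩
  have h1 : Subsingleton (Coh.HH (CohB1.ProjSpace n k)
      (CohB1.tensorMod G (Twist.twistProjSpace n k (-t))) n) := hd₀ (-t) (by omega) n (by omega)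
  have h2 : Subsingleton (Ext.{u} (Coh.structureModule (CohB1.ProjSpace n k))
      (CohB1.tensorMod G (Twist.twistProjSpace n k (-t))) n) := subsingleton_ext_unit _ n h1
  obtain ⟨e⟩ := nonempty_twist_pair_iso k n (-t)
  obtain ⟨e'⟩ := nonempty_twist_pair_iso k n t
  have e₁ : CohB1.tensorMod (Twist.twistProjSpace n k (-t)) (Twist.twistProjSpace n k t) ≅
      Coh.structureModule (CohB1.ProjSpace n k) := eqToIso (by rw [neg_neg]) ≪≫ e
  have h3 : Subsingleton (Ext.{u} (Twist.twistProjSpace n k t) G n) := by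
    refine @subsingleton_ext_of_tensor _ _ _ (CohB1.ProjSpace n k).sheaf hO
      (Twist.twistProjSpace n k (-t)) (Twist.twistProjSpace n k t) e₁ e'
      (Twist.twistProjSpace n k t) G n ?_
    exact subsingleton_ext_of_iso e₁.symm
      (brdApp (CohB1.ProjSpace n k).sheaf G (Twist.twistProjSpace n k (-t))) n h2
  obtain ⟨⟨a, -⟩⟩ := @nonempty_ext_tensor_dual _ _ _ (CohB1.ProjSpace n k).sheaf E hE'
    (Twist.twistProjSpace n k t) ω hO n
  have h4 : Subsingleton (Ext.{u} ((tR (CohB1.ProjSpace n k).sheaf E).obj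
      (Twist.twistProjSpace n k t)) ω n) :=
    @Equiv.subsingleton _ _ a h3
  have h5 : Subsingleton (Ext.{u} (CohB1.tensorMod E (Twist.twistProjSpace n k t)) ω n) :=
    subsingleton_ext_of_iso (brdApp (CohB1.ProjSpace n k).sheaf (Twist.twistProjSpace n k t) E)
      (Iso.refl ω) n h4
  have hcoh : Coh.IsCoh (CohB1.tensorMod E (Twist.twistProjSpace n k t)) :=
    isCoh_twisted k n E hcohE t
  obtain ⟨l⟩ := (ext_duality_pn k n _ hcoh n).1 0 (by omega)
  have h6 : Subsingleton (Module.Dual k (Coh.HH (CohB1.ProjSpace n k)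
      (CohB1.tensorMod E (Twist.twistProjSpace n k t)) 0)) :=
    @Equiv.subsingleton _ _ l.symm.toEquiv h5
  exact subsingleton_of_subsingleton_dual k _ h6

end Groth.Agent.Lib.Helper27LocFreeVan
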