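import Mathlib

/-!
# `B ⊗[A] C` is local when `C` is integral over `A` and a residue field extension is
purely inseparable
-/

set_option autoImplicit false
set_option linter.unusedSectionVars false
universe u

open TensorProduct

namespace Groth.Agent.Lib.Helper27LocalTensor

section Lift

variable {A B C K : Type*} [CommRing A] [CommRing B] [CommRing C] [CommRing K]
  [Algebra A B] [Algebra A C]

/-- The ring map out of a tensor product of rings given by a compatible pair of ring maps. -/
noncomputable def liftRing (f : B →+* K) (g : C →+* K)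
    (h : f.comp (algebraMap A B) = g.comp (algebraMap A C)) : B ⊗[A] C →+* K :=
  letI : Algebra A K := (f.comp (algebraMap A B)).toAlgebra
  (Algebra.TensorProduct.productMap (R := A)
    ({ f with commutes' := fun _ => rfl } : B →ₐ[A] K)
    ({ g with commutes' := fun a => (RingHom.congr_fun h a).symm } : C →ₐ[A] K)).toRingHom

theorem liftRing_tmul (f : B →+* K) (g : C →+* K)
    (h : f.comp (algebraMap A B) = g.comp (algebraMap A C)) (b : B) (c : C) :
    liftRing f g h (b ⊗ₜ[A] c) = f b * g c := by
  let _ : Algebra A K := (f.comp (algebraMap A B)).toAlgebra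
  exact Algebra.TensorProduct.productMap_apply_tmul _ _ b c

theorem ringHom_ext {φ ψ : B ⊗[A] C →+* K} (h1 : ∀ b, φ (b ⊗ₜ 1) = ψ (b ⊗ₜ 1))
    (h2 : ∀ c, φ (1 ⊗ₜ c) = ψ (1 ⊗ₜ c)) : φ = ψ := by
  apply RingHom.ext
  intro t
  induction t using TensorProduct.induction_on with
  | zero => simp
  | tmul b c =>
    have : b ⊗ₜ[A] c = (b ⊗ₜ 1) * (1 ⊗ₜ c) := by simp
    rw [this, map_mul, map_mul, h1, h2]
  | add x y hx hy => rw [map_add, map_add, hx, hy]

end Lift

section Fields

variable (k K L : Type*) [Field k] [Field K] [Field L] [Algebra k K] [Algebra k L]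
  [IsPurelyInseparable k K]

theorem subsingleton_spec_right : Subsingleton (PrimeSpectrum (L ⊗[k] K)) :=
  (PrimeSpectrum.isHomeomorph_comap_of_isPurelyInseparable k K L).injective.subsingleton

theorem subsingleton_spec_left : Subsingleton (PrimeSpectrum (K ⊗[k] L)) := by
  have := subsingleton_spec_right k K L
  have hsurj : Function.Surjective (Algebra.TensorProduct.comm k L K).toRingEquiv.toRingHom :=
    (Algebra.TensorProduct.comm k L K).surjective
  exact (PrimeSpectrum.comap_injective_of_surjective _ hsurj).subsingleton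

end Fields

section Main

open IsLocalRing

variable (A : Type u) [CommRing A] [IsLocalRing A] (B : Type u) [CommRing B] [IsLocalRing B]
  [Algebra A B] [IsLocalHom (algebraMap A B)] (C : Type u) [CommRing C] [IsLocalRing C]
  [Algebra A C] [IsLocalHom (algebraMap A C)]

/-- The tensor product of the residue fields. -/
abbrev E : Type u := ResidueField B ⊗[ResidueField A] ResidueField C

/-- The canonical map `B ⊗[A] C → κ(B) ⊗[κ(A)] κ(C)`. -/
noncomputable def π : B ⊗[A] C →+* E A B C :=
  liftRing
    ((Algebra.TensorProduct.includeLeft (R := ResidueField A) (S := ResidueField A)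
      (A := ResidueField B) (B := ResidueField C)).toRingHom.comp (residue B))
    ((Algebra.TensorProduct.includeRight (R := ResidueField A)
      (A := ResidueField B) (B := ResidueField C)).toRingHom.comp (residue C))
    (by
      ext a
      simp only [RingHom.comp_apply]
      rw [← ResidueField.algebraMap_residue, ← ResidueField.algebraMap_residue]
      change Algebra.TensorProduct.includeLeft (algebraMap _ _ _) =
        Algebra.TensorProduct.includeRight (algebraMap _ _ _)
      rw [AlgHom.commutes, AlgHom.commutes])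

theorem π_tmul (b : B) (c : C) : π A B C (b ⊗ₜ c) = residue B b ⊗ₜ residue C c := by
  rw [π, liftRing_tmul]
  simp

instance : Nontrivial (E A B C) :=
  Algebra.TensorProduct.nontrivial_of_algebraMap_injective_of_flat_left _ _ _
    (RingHom.injective _)

variable {A B C}

theorem comap_includeLeft [Algebra.IsIntegral A C] (M : Ideal (B ⊗[A] C)) [hM : M.IsMaximal] :
    M.comap (Algebra.TensorProduct.includeLeft : B →ₐ[A] B ⊗[A] C).toRingHom =
      maximalIdeal B := by
  have h1 : (M.comap (algebraMap B (B ⊗[A] C))).IsMaximal :=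
    Ideal.isMaximal_comap_of_isIntegral_of_isMaximal (R := B) (S := B ⊗[A] C) M
  exact IsLocalRing.eq_maximalIdeal h1

theorem comap_includeRight [Algebra.IsIntegral A C] (M : Ideal (B ⊗[A] C)) [hM : M.IsMaximal] :
    M.comap (Algebra.TensorProduct.includeRight : C →ₐ[A] B ⊗[A] C).toRingHom =
      maximalIdeal C := by
  set P := M.comap (Algebra.TensorProduct.includeRight : C →ₐ[A] B ⊗[A] C).toRingHom with hP
  have hPprime : P.IsPrime := Ideal.comap_isPrime _ M
  have h1 : P.comap (algebraMap A C) = maximalIdeal A := by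
    rw [hP, Ideal.comap_comap]
    have h2 : (Algebra.TensorProduct.includeRight : C →ₐ[A] B ⊗[A] C).toRingHom.comp
        (algebraMap A C) = (Algebra.TensorProduct.includeLeft : B →ₐ[A] B ⊗[A] C).toRingHom.comp
        (algebraMap A B) := by
      ext a
      simp only [RingHom.comp_apply, AlgHom.toRingHom_eq_coe, RingHom.coe_coe, AlgHom.commutes]
    rw [h2, ← Ideal.comap_comap, comap_includeLeft M, IsLocalRing.maximalIdeal_comap]
  have h3 : P.IsMaximal :=
    Ideal.isMaximal_of_isIntegral_of_isMaximal_comap (R := A) P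
      (h1 ▸ IsLocalRing.maximalIdeal.isMaximal A)
  exact IsLocalRing.eq_maximalIdeal h3

/-- Every maximal ideal of `B ⊗[A] C` is the preimage of a prime of `κ(B) ⊗[κ(A)] κ(C)`. -/
theorem exists_prime_comap [Algebra.IsIntegral A C] (M : Ideal (B ⊗[A] C)) [hM : M.IsMaximal] :
    ∃ p : PrimeSpectrum (E A B C), M = p.asIdeal.comap (π A B C) := by
  let _ := Ideal.Quotient.field M
  let ψ : B ⊗[A] C →+* (B ⊗[A] C) ⧸ M := Ideal.Quotient.mk M
  let f : B →+* (B ⊗[A] C) ⧸ M :=
    ψ.comp (Algebra.TensorProduct.includeLeft : B →ₐ[A] B ⊗[A] C).toRingHom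
  let g : C →+* (B ⊗[A] C) ⧸ M :=
    ψ.comp (Algebra.TensorProduct.includeRight : C →ₐ[A] B ⊗[A] C).toRingHom
  have hf : ∀ b ∈ maximalIdeal B, f b = 0 := by
    intro b hb
    rw [← comap_includeLeft M] at hb
    exact Ideal.Quotient.eq_zero_iff_mem.mpr hb
  have hg : ∀ c ∈ maximalIdeal C, g c = 0 := by
    intro c hc
    rw [← comap_includeRight M] at hc
    exact Ideal.Quotient.eq_zero_iff_mem.mpr hc
  let fbar : ResidueField B →+* (B ⊗[A] C) ⧸ M := Ideal.Quotient.lift (maximalIdeal B) f hf
  let gbar : ResidueField C →+* (B ⊗[A] C) ⧸ M := Ideal.Quotient.lift (maximalIdeal C) g hg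
  have hcompat : fbar.comp (algebraMap (ResidueField A) (ResidueField B)) =
      gbar.comp (algebraMap (ResidueField A) (ResidueField C)) := by
    apply Ideal.Quotient.ringHom_ext
    ext a
    change fbar (algebraMap (ResidueField A) (ResidueField B) (residue A a)) =
      gbar (algebraMap (ResidueField A) (ResidueField C) (residue A a))
    rw [ResidueField.algebraMap_residue, ResidueField.algebraMap_residue]
    change ψ (Algebra.TensorProduct.includeLeft (algebraMap A B a)) =
      ψ (Algebra.TensorProduct.includeRight (algebraMap A C a))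
    rw [AlgHom.commutes, AlgHom.commutes]
  let φ : E A B C →+* (B ⊗[A] C) ⧸ M := liftRing fbar gbar hcompat
  have hφπ : φ.comp (π A B C) = ψ := by
    apply ringHom_ext
    · intro b
      rw [RingHom.comp_apply, π_tmul, liftRing_tmul]
      change f b * g 1 = ψ (b ⊗ₜ 1)
      rw [map_one, mul_one]
      rfl
    · intro c
      rw [RingHom.comp_apply, π_tmul, liftRing_tmul]
      change f 1 * g c = ψ (1 ⊗ₜ c)
      rw [map_one, one_mul]
      rfl
  refine ⟨⟨RingHom.ker φ, RingHom.ker_isPrime φ⟩, ?_⟩
  ext t
  rw [Ideal.mem_comap]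
  change t ∈ M ↔ φ (π A B C t) = 0
  rw [← RingHom.comp_apply, hφπ]
  exact (Ideal.Quotient.eq_zero_iff_mem (I := M)).symm

theorem main [Algebra.IsIntegral A C]
    (h : IsPurelyInseparable (ResidueField A) (ResidueField C) ∨
      IsPurelyInseparable (ResidueField A) (ResidueField B)) :
    IsLocalRing (B ⊗[A] C) ∧
      IsLocalHom (Algebra.TensorProduct.includeLeft : B →ₐ[A] B ⊗[A] C).toRingHom ∧
      IsLocalHom (Algebra.TensorProduct.includeRight : C →ₐ[A] B ⊗[A] C).toRingHom := by
  have hsub : Subsingleton (PrimeSpectrum (E A B C)) := by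
    rcases h with h | h
    · exact subsingleton_spec_right _ _ _
    · exact subsingleton_spec_left _ _ _
  have hnt : Nontrivial (B ⊗[A] C) := (π A B C).domain_nontrivial
  obtain ⟨M₀, hM₀⟩ := Ideal.exists_maximal (B ⊗[A] C)
  have huniq : ∀ M : Ideal (B ⊗[A] C), M.IsMaximal → M = M₀ := by
    intro M hM
    obtain ⟨p, hp⟩ := exists_prime_comap M
    obtain ⟨p₀, hp₀⟩ := exists_prime_comap M₀
    rw [hp, hp₀, Subsingleton.elim p p₀]
  have hloc : IsLocalRing (B ⊗[A] C) := IsLocalRing.of_unique_max_ideal ⟨M₀, hM₀, huniq⟩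
  refine ⟨hloc, ⟨fun b hb => ?_⟩, ⟨fun c hc => ?_⟩⟩
  · by_contra hnu
    have hb' : b ∈ maximalIdeal B := hnu
    rw [← comap_includeLeft M₀] at hb'
    exact hM₀.ne_top (Ideal.eq_top_of_isUnit_mem _ hb' hb)
  · by_contra hnu
    have hc' : c ∈ maximalIdeal C := hnu
    rw [← comap_includeRight M₀] at hc'
    exact hM₀.ne_top (Ideal.eq_top_of_isUnit_mem _ hc' hc)

end Main

end Groth.Agent.Lib.Helper27LocalTensor
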