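import Mathlib
import Groth.Agent.Lib.Helper27LogDeriv

/-!
# Logarithmic derivative of `1 - X^r`
-/

namespace Groth.Agent.Lib.Helper27LogDeriv

open PowerSeries

/-- The logarithmic derivative of `1 - X^r`: `-∑_{j ≥ 1} r X^{rj-1}`. -/
noncomputable def K (r : ℕ) : ℚ⟦X⟧ := PowerSeries.mk fun m => if r ∣ m + 1 then -(r : ℚ) else 0

theorem LD.one_sub_X_pow (r : ℕ) (hr : 1 ≤ r) : LD (1 - X ^ r : ℚ⟦X⟧) (K r) := by
  unfold LD
  have h1 : d⁄dX ℚ (1 - X ^ r : ℚ⟦X⟧) = -((r : ℚ⟦X⟧) * X ^ (r - 1)) := by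
    rw [map_sub, Derivation.map_one_eq_zero, zero_sub, derivative_pow, derivative_X, mul_one]
  rw [h1]
  ext m
  rw [sub_mul, one_mul, map_neg, map_sub, coeff_X_pow_mul', K, coeff_mk]
  have h2 : coeff m ((r : ℚ⟦X⟧) * X ^ (r - 1)) = if m = r - 1 then (r : ℚ) else 0 := by
    rw [show (r : ℚ⟦X⟧) = C (r : ℚ) by simp, coeff_C_mul, coeff_X_pow]
    split_ifs <;> simp
  rw [h2]
  by_cases hd : r ∣ m + 1
  · rw [if_pos hd]
    by_cases hle : r ≤ m
    · have hd' : r ∣ m - r + 1 := by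
        have h3 : m - r + 1 = m + 1 - r := by omega
        rw [h3]
        exact Nat.dvd_sub hd (dvd_refl r)
      rw [if_pos hle, coeff_mk, if_pos hd', if_neg (by omega)]
      ring
    · have h3 : m + 1 = r := Nat.eq_of_dvd_of_lt_two_mul (by omega) hd (by omega)
      rw [if_neg hle, if_pos (by omega)]
      ring
  · rw [if_neg hd]
    have hne : m ≠ r - 1 := by
      intro h
      apply hd
      rw [h, Nat.sub_add_cancel hr]
    rw [if_neg hne]
    by_cases hle : r ≤ m
    · have hd' : ¬ r ∣ m - r + 1 := by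
        intro h
        apply hd
        have h3 : m + 1 = (m - r + 1) + r := by omega
        rw [h3]
        exact Dvd.dvd.add h (dvd_refl r)
      rw [if_pos hle, coeff_mk, if_neg hd']
      ring
    · rw [if_neg hle]
      ring

end Groth.Agent.Lib.Helper27LogDeriv
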