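import Mathlib.Tactic
import Groth.Prelude.Def_Magnet3
import Groth.Prelude.Def_ActBC

/-!
# Iterated base change of monoid actions (helper27)

`bcCompIso` intertwines the twice base-changed action of a `Magnet.MonAct` with the action base-changed along the composite
(the analogue for monoid objects of the prelude's `ActBC.equivIsoBcComp`).
-/

set_option autoImplicit false
universe u
open CategoryTheory CategoryTheory.Limits MonoidalCategory CartesianMonoidalCategory MonObj AlgebraicGeometry Opposite

namespace Groth.Agent.Lib.Helper27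

theorem bcComp_act {S S' S'' : Scheme.{u}} (f : S'' ⟶ S') (g : S' ⟶ S) {d : S'' ⟶ S} (h : f ≫ g = d)
    {A X : Over S} [MonObj A] (a : Magnet.MonAct A X) :
    ((a.bc g).bc f).act ≫ (ActBC.bcCompIso f g X h).hom =
      ((ActBC.bcCompIso f g A h).hom ⊗ₘ (ActBC.bcCompIso f g X h).hom) ≫ (a.bc d).act := by
  ext
  apply pullback.hom_ext
  · simp only [Magnet.MonAct.bc_act, Over.comp_left, Category.assoc,
      ActBC.bcCompIso_hom_left_fst, ActBC.pullback_map_left_fst, ActBC.pullback_map_left_fst_assoc]
    simp only [← Category.assoc]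
    congr 1
    simp only [Category.assoc]
    apply pullback.hom_ext
    · simp only [Category.assoc]
      rw [ActBC.μ_left_fst_fst, ActBC.μ_left_fst_fst_assoc, ActBC.μ_left_fst_fst,
        ActBC.tensorHom_left_fst'_assoc, ActBC.bcCompIso_hom_left_fst]
    · simp only [Category.assoc]
      rw [ActBC.μ_left_fst_snd, ActBC.μ_left_fst_snd_assoc, ActBC.μ_left_fst_snd,
        ActBC.tensorHom_left_snd'_assoc, ActBC.bcCompIso_hom_left_fst]
  · exact (Over.w _).trans (Over.w _).symm

/-- Conjugation by `bcCompIso` preserves and reflects equivariance: a morphism `ψ` between the base changes along the composite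
is equivariant for the actions base-changed along the composite iff its conjugate is equivariant for the twice base-changed
actions. -/
theorem isEquivariant_conj_bcCompIso_iff {S S' S'' : Scheme.{u}} (f : S'' ⟶ S') (g : S' ⟶ S) {d : S'' ⟶ S}
    (h : f ≫ g = d) {A B X : Over S} [MonObj A] (ρ : Magnet.MonAct A B) (a : Magnet.MonAct A X)
    (ψ : Red.bc d B ⟶ Red.bc d X) :
    Magnet.MonAct.IsEquivariant ((ρ.bc g).bc f) ((a.bc g).bc f)
        ((ActBC.bcCompIso f g B h).hom ≫ ψ ≫ (ActBC.bcCompIso f g X h).inv) ↔
      Magnet.MonAct.IsEquivariant (ρ.bc d) (a.bc d) ψ := by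
  unfold Magnet.MonAct.IsEquivariant
  have hB := bcComp_act f g h ρ
  have hX := bcComp_act f g h a
  have hX' : ((a.bc g).bc f).act =
      ((ActBC.bcCompIso f g A h).hom ⊗ₘ (ActBC.bcCompIso f g X h).hom) ≫ (a.bc d).act ≫
        (ActBC.bcCompIso f g X h).inv := by
    rw [← Category.assoc, ← hX, Category.assoc, Iso.hom_inv_id, Category.comp_id]
  have e : (Red.bc f (Red.bc g A) ◁ ((ActBC.bcCompIso f g B h).hom ≫ ψ ≫ (ActBC.bcCompIso f g X h).inv)) ≫
      ((ActBC.bcCompIso f g A h).hom ⊗ₘ (ActBC.bcCompIso f g X h).hom) =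
      ((ActBC.bcCompIso f g A h).hom ⊗ₘ (ActBC.bcCompIso f g B h).hom) ≫ (Red.bc d A ◁ ψ) := by
    rw [← id_tensorHom, ← id_tensorHom, tensorHom_comp_tensorHom, tensorHom_comp_tensorHom]
    simp
  rw [← Category.assoc, hB, hX', ← Category.assoc _ _ ((a.bc d).act ≫ _), e, Category.assoc, Category.assoc]
  constructor
  · intro H
    have H' := (cancel_epi _).mp H
    simp only [← Category.assoc] at H'
    exact (cancel_mono _).mp H'
  · intro H
    rw [← Category.assoc ((ρ.bc d).act), H, Category.assoc]

end Groth.Agent.Lib.Helper27
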