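import Groth.Agent.Lib.Helper27Horrocks
import Groth.Agent.Lib.Helper27LinRes2

/-!
# Minimal linear presentations of regular sheaves on `P^n_k` (helper27)

For an `m`-regular coherent `F` on `P^n_k`, a presentation `O(-m)^b ⟶ F` with
`b = h^0(F(m))`: the kernel `K` is `(m+1)`-regular and `H^0(K(t)) = 0` for `t ≤ m`.
-/

set_option autoImplicit false
universe u

open CategoryTheory CategoryTheory.Limits AlgebraicGeometry TopologicalSpace Opposite

namespace Groth.Agent.Lib.Helper27MinPres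

open Groth.Agent.Lib.Helper27SerreVan Groth.Agent.Lib.Helper27CMReg Groth.Agent.Lib.Helper27GenTop
  Groth.Agent.Lib.Helper27GlobGenPn Groth.Agent.Lib.Helper27LinRes
  Groth.Agent.Lib.Helper27ResChase Groth.Agent.Lib.Helper23.GenLocus
  Groth.Agent.Lib.Helper23.AmpleIso Groth.Agent.Lib.Helper27CohFin
  Groth.Agent.Lib.Helper27CoprodFin Groth.Agent.Lib.Helper27LesLin
  Groth.Agent.Lib.Helper27PnMor Groth.Agent.Lib.Helper27PnSections
  Groth.Agent.Lib.Helper23.QCohLocal Groth.Agent.Lib.Helper27Horrocks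
  Groth.Agent.Lib.Helper21.ModTensor3 Groth.Agent.Lib.Helper21.ModTensor5
  Groth.Agent.Lib.Helper21.ModTensor6 Groth.Agent.Lib.Helper21.ModTensor7

section General

variable {X : Scheme.{u}} (A : Type u) [CommRing A] [X.Over (Spec (CommRingCat.of A))]

theorem hh0Equiv_HHlin {M N : X.Modules} (φ : M ⟶ N) (y : Coh.HH X M 0) :
    hh0Equiv X N (Canon.HHlin A φ 0 y) = φ.app ⊤ (hh0Equiv X M y) := by
  have hT : Limits.IsTerminal (⊤ : X.Opens) := Limits.isTerminalTop
  have e1 := Sheaf.H.equiv₀_naturality hT ((SheafOfModules.toSheaf X.ringCatSheaf).map φ) y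
  exact e1.symm

theorem surjective_HHlin_zero {M N : X.Modules} (φ : M ⟶ N)
    (h : Function.Surjective (φ.app ⊤)) : Function.Surjective (Canon.HHlin A φ 0) := by
  intro x
  obtain ⟨s, hs⟩ := h (hh0Equiv X N x)
  refine ⟨(hh0Equiv X M).symm s, ?_⟩
  apply (hh0Equiv X N).injective
  rw [hh0Equiv_HHlin]
  have h1 : hh0Equiv X M ((hh0Equiv X M).symm s) = s := (hh0Equiv X M).apply_symm_apply s
  exact (congrArg (φ.app ⊤) h1).trans hs

end General

section Sigma

variable {X : Scheme.{u}} (A : Type u) [Field A] [X.Over (Spec (CommRingCat.of A))]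
  {r : ℕ} (f : Fin r → X.Modules)

theorem ι_sigmaπ_self (j : Fin r) : Sigma.ι f j ≫ sigmaπ f j = 𝟙 _ := by
  unfold sigmaπ
  have h1 : Sigma.ι f j = biproduct.ι f j ≫ (biproduct.isoCoproduct f).hom := by
    rw [biproduct.isoCoproduct_hom, biproduct.ι_desc]
  rw [h1, Category.assoc, Iso.hom_inv_id_assoc, biproduct.ι_π_self]

theorem ι_sigmaπ_ne {l j : Fin r} (h : l ≠ j) : Sigma.ι f l ≫ sigmaπ f j = 0 := by
  unfold sigmaπ
  have h1 : Sigma.ι f l = biproduct.ι f l ≫ (biproduct.isoCoproduct f).hom := by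
    rw [biproduct.isoCoproduct_hom, biproduct.ι_desc]
  rw [h1, Category.assoc, Iso.hom_inv_id_assoc, biproduct.ι_π_ne f h]

theorem HHlin_sum {M N : X.Modules} {ι : Type*} (s : Finset ι) (φ : ι → (M ⟶ N)) (i : ℕ)
    (x : Coh.HH X M i) :
    Canon.HHlin A (∑ a ∈ s, φ a) i x = ∑ a ∈ s, Canon.HHlin A (φ a) i x :=
  map_sum (evalH (N := N) i (x : Sheaf.H ((toAbF X).obj M) i)) φ s

/-- cohomology of a finite coproduct. -/
noncomputable def HHsigmaEquiv (i : ℕ) :
    Coh.HH X (∐ f) i ≃ₗ[A] (∀ j, Coh.HH X (f j) i) :=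
  LinearEquiv.ofLinear (LinearMap.pi fun j => Canon.HHlin A (sigmaπ f j) i)
    (∑ j, (Canon.HHlin A (Sigma.ι f j) i).comp (LinearMap.proj j))
    (by
      apply LinearMap.ext
      intro y
      funext j
      simp only [LinearMap.comp_apply, LinearMap.pi_apply, LinearMap.sum_apply,
        LinearMap.proj_apply, map_sum, LinearMap.id_apply]
      rw [Finset.sum_eq_single j]
      · rw [← HHlin_comp', ι_sigmaπ_self, HHlin_id']
      · intro l _ hl
        rw [← HHlin_comp', ι_sigmaπ_ne f hl, HHlin_zero']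
      · intro h
        exact absurd (Finset.mem_univ j) h)
    (by
      apply LinearMap.ext
      intro x
      simp only [LinearMap.comp_apply, LinearMap.pi_apply, LinearMap.sum_apply,
        LinearMap.proj_apply, LinearMap.id_apply]
      have h1 : ∀ j, Canon.HHlin A (Sigma.ι f j) i (Canon.HHlin A (sigmaπ f j) i x) =
          Canon.HHlin A (sigmaπ f j ≫ Sigma.ι f j) i x := fun j => (HHlin_comp' A _ _ i x).symm
      rw [Finset.sum_congr rfl (fun j _ => h1 j), ← HHlin_sum, sum_sigmaπ_ι, HHlin_id'])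

theorem finrank_HH_sigma_const (M : X.Modules) (i : ℕ) (hfin : Module.Finite A (Coh.HH X M i)) :
    Module.finrank A (Coh.HH X (∐ fun _ : Fin r => M) i) = r * Module.finrank A (Coh.HH X M i) := by
  rw [(HHsigmaEquiv A (fun _ : Fin r => M) i).finrank_eq, Module.finrank_pi_fintype]
  simp

end Sigma

end Groth.Agent.Lib.Helper27MinPres
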