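import Groth.Agent.Lib.Helper27MinPres

/-!
# Minimal linear presentations of regular sheaves on `P^n_k`, part 2 (helper27)
-/

set_option autoImplicit false
universe u

open CategoryTheory CategoryTheory.Limits AlgebraicGeometry TopologicalSpace Opposite

namespace Groth.Agent.Lib.Helper27MinPres

open Groth.Agent.Lib.Helper27SerreVan Groth.Agent.Lib.Helper27CMReg Groth.Agent.Lib.Helper27GenTop
  Groth.Agent.Lib.Helper27GlobGenPn Groth.Agent.Lib.Helper27LinRes
  Groth.Agent.Lib.Helper27ResChase Groth.Agent.Lib.Helper23.GenLocus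
  Groth.Agent.Lib.Helper23.AmpleIso Groth.Agent.Lib.Helper27CohFin
  Groth.Agent.Lib.Helper27CoprodFin Groth.Agent.Lib.Helper27LesLin
  Groth.Agent.Lib.Helper27PnMor Groth.Agent.Lib.Helper27PnSections
  Groth.Agent.Lib.Helper23.QCohLocal Groth.Agent.Lib.Helper27Horrocks
  Groth.Agent.Lib.Helper21.ModTensor3 Groth.Agent.Lib.Helper21.ModTensor5
  Groth.Agent.Lib.Helper21.ModTensor6 Groth.Agent.Lib.Helper21.ModTensor7

section Span

variable {X : Scheme.{u}} (A : Type u) [CommRing A] [X.Over (Spec (CommRingCat.of A))]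

/-- a spanning family of `H^0(X, M)` gives a morphism `O^b ⟶ M` surjective on global sections. -/
theorem exists_surjective_top_of_span (M : X.Modules) (b : ℕ) (s : Fin b → Coh.HH X M 0)
    (hs : Submodule.span A (Set.range s) = ⊤) :
    ∃ p : (∐ fun _ : Fin b => Coh.structureModule X) ⟶ M, Function.Surjective (p.app ⊤) := by
  let σ : Fin b → Γ(M, ⊤) := fun i => hh0Equiv X M (s i)
  let p : (∐ fun _ : Fin b => Coh.structureModule X) ⟶ M :=
    Sigma.desc (fun i => Groth.Agent.Lib.Helper23.SecTw.secHom M (σ i))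
  refine ⟨p, ?_⟩
  have key : ∀ y : Coh.HH X M 0, ∃ z, p.app ⊤ z = hh0Equiv X M y := by
    intro y
    have hy : y ∈ Submodule.span A (Set.range s) := by rw [hs]; exact Submodule.mem_top
    induction hy using Submodule.span_induction with
    | mem y hy =>
      obtain ⟨i, rfl⟩ := hy
      refine ⟨(Sigma.ι (fun _ : Fin b => Coh.structureModule X) i).app ⊤ (toS ⊤ 1), ?_⟩
      have h1 : (Sigma.ι (fun _ : Fin b => Coh.structureModule X) i ≫ p).app ⊤ (toS ⊤ 1) =
          (Groth.Agent.Lib.Helper23.SecTw.secHom M (σ i)).app ⊤ (toS ⊤ 1) := by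
        rw [Sigma.ι_desc]
      rw [Scheme.Modules.Hom.comp_app] at h1
      refine h1.trans ?_
      have h2 := Groth.Agent.Lib.Helper23.SecTw.sv_secHom M (σ i) ⊤
      rw [Groth.Agent.Lib.Helper23.SecTw.val_eq_app, Groth.Agent.Lib.Helper23.SecTw.res_self] at h2
      exact h2
    | zero =>
      exact ⟨0, (map_zero _).trans (map_zero _).symm⟩
    | add y y' _ _ hy hy' =>
      obtain ⟨z, hz⟩ := hy
      obtain ⟨z', hz'⟩ := hy'
      refine ⟨z + z', (map_add _ z z').trans ?_⟩
      rw [hz, hz']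
      exact (map_add _ y y').symm
    | smul a y _ hy =>
      obtain ⟨z, hz⟩ := hy
      let r : Coh.Γtop X := Coh.toGlobal (X ↘ Spec (CommRingCat.of A)) a
      have h1 : hh0Equiv X M (a • y) = hh0Equiv X M (r • y) := rfl
      rw [h1, hh0Equiv_smul, Coh.smulAb_app, resTop_top, ← hz]
      let r' : Γ(X, ⊤) := r
      exact ⟨r' • z, Scheme.Modules.Hom.app_smul p r' z⟩
  intro x
  obtain ⟨z, hz⟩ := key ((hh0Equiv X M).symm x)
  exact ⟨z, hz.trans ((hh0Equiv X M).apply_symm_apply x)⟩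

/-- `H^0` is left exact. -/
theorem injective_HHlin_zero_of_mono {M N : X.Modules} (φ : M ⟶ N) [Mono φ] :
    Function.Injective (Canon.HHlin A φ 0) := by
  let S : ShortComplex X.Modules := ShortComplex.mk φ (cokernel.π φ) (cokernel.condition φ)
  have hS : S.ShortExact :=
    { exact := ShortComplex.exact_of_g_is_cokernel _ (cokernelIsCokernel φ)
      mono_f := (inferInstance : Mono φ)
      epi_g := (inferInstance : Epi (cokernel.π φ)) }
  have hS' := shortExact_toAbF S hS
  haveI : Mono ((toAbF X).map φ) := hS'.mono_f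
  exact Abelian.Ext.postcomp_mk₀_injective_of_mono _ ((toAbF X).map φ)

end Span

section Field

open Groth.Agent.Lib.Helper27SerreVanPn Groth.Agent.Lib.Helper27CMReg2
  Groth.Agent.Lib.Helper27PnHom

variable (k : Type u) [Field k] (n : ℕ)

local notation "𝒢" => CohB1.polyGrading n k

/-- `exists_presentation_aux` keeping the surjectivity on twisted global sections. -/
theorem exists_presentation_aux' (F : (Proj 𝒢).Modules) (m : ℤ)
    (hvan : ∀ q : ℕ, 1 ≤ q → ∀ r : ℤ, m - q ≤ r →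
      Subsingleton (Coh.HH (Proj 𝒢) (CohB1.tensorMod F (OO n k r)) q))
    (b : ℕ) (p : (∐ fun _ : Fin b => Coh.structureModule (Proj 𝒢)) ⟶ CohB1.tensorMod F (OO n k m))
    (hpe : Epi p) (hp : Function.Surjective (p.app ⊤)) :
    ∃ (φ : (∐ fun _ : Fin b => OO n k (-m)) ⟶ F), Epi φ ∧
      (∀ i : ℕ, 1 ≤ i → i ≤ n →
        Subsingleton (Coh.HH (Proj 𝒢) (CohB1.tensorMod (kernel φ) (OO n k (m + 1 - i))) i)) ∧
      Function.Surjective ((wl φ (OO n k m)).app ⊤) := by
  obtain ⟨e0⟩ := nonempty_OO_zero_iso n k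
  obtain ⟨e1⟩ := nonempty_OO_tensor_iso n k m (-m) 0 (by ring)
  obtain ⟨e2⟩ := nonempty_OO_tensor_iso n k (-m) m 0 (by ring)
  obtain ⟨ν, hν⟩ := exists_untwist (OO n k m) (OO n k (-m)) (e1 ≪≫ e0)
  obtain ⟨ν', hν'⟩ := exists_untwist (OO n k (-m)) (OO n k m) (e2 ≪≫ e0)
  obtain ⟨α⟩ := nonempty_sigma_unit_tensor_iso (X := Proj 𝒢) b (OO n k (-m))
  obtain ⟨φ, hφ⟩ : ∃ φ : (∐ fun _ : Fin b => OO n k (-m)) ⟶ F,
      φ = α.hom ≫ wl p (OO n k (-m)) ≫ (ν F).hom := ⟨_, rfl⟩
  have hφe : Epi φ := by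
    haveI : (Groth.Agent.Lib.Helper27SerreVan.tw (OO n k (-m))).PreservesEpimorphisms :=
      preservesEpimorphisms_of_preservesColimitsOfShape _
    have h1 : Epi (wl p (OO n k (-m))) :=
      (Groth.Agent.Lib.Helper27SerreVan.tw (OO n k (-m))).map_epi p
    have h2 : Epi (wl p (OO n k (-m)) ≫ (ν F).hom) := epi_comp _ _
    rw [hφ]
    exact epi_comp _ _
  have hsurj : Function.Surjective ((wl φ (OO n k m)).app ⊤) := by
    have h1 : wl φ (OO n k m) = wl α.hom (OO n k m) ≫ wl (wl p (OO n k (-m))) (OO n k m) ≫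
        wl (ν F).hom (OO n k m) := by
      rw [hφ, ← wl_comp, ← wl_comp]
    have h2 : wl (wl p (OO n k (-m))) (OO n k m) =
        (ν' _).hom ≫ p ≫ (ν' _).inv := by
      rw [← Category.assoc, ← hν' p, Category.assoc, Iso.hom_inv_id, Category.comp_id]
    rw [h1, h2]
    refine surjective_comp_app _ _ (surjective_app_top_of_iso
      ((Groth.Agent.Lib.Helper27SerreVan.tw (OO n k m)).mapIso α)) ?_
    refine surjective_comp_app _ _ ?_ (surjective_app_top_of_iso
      ((Groth.Agent.Lib.Helper27SerreVan.tw (OO n k m)).mapIso (ν F)))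
    refine surjective_comp_app _ _ (surjective_app_top_of_iso (ν' _)) ?_
    exact surjective_comp_app _ _ hp (surjective_app_top_of_iso (ν' _).symm)
  exact ⟨φ, hφe, kernel_regular k n F m hvan b φ hφe hsurj, hsurj⟩

/-- version with the twisting family as a variable. -/
theorem exists_presentation_min_gen (T : ℤ → (CohB1.ProjSpace n k).Modules)
    (hT : T = fun d => (GrTilde.tilde 𝒢 𝒢 d : (CohB1.ProjSpace n k).Modules))
    (F : (CohB1.ProjSpace n k).Modules) (hF : Coh.IsCoh F) (m : ℤ)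
    (h : ∀ i : ℕ, 1 ≤ i → i ≤ n →
      Subsingleton (Coh.HH (CohB1.ProjSpace n k) (CohB1.tensorMod F (T (m - i))) i)) :
    ∃ (b : ℕ) (φ : (∐ fun _ : Fin b => T (-m)) ⟶ F),
      b = Module.finrank k (Coh.HH (CohB1.ProjSpace n k) (CohB1.tensorMod F (T m)) 0) ∧
      Epi φ ∧ (∀ i : ℕ, 1 ≤ i → i ≤ n →
        Subsingleton (Coh.HH (CohB1.ProjSpace n k)
          (CohB1.tensorMod (kernel φ) (T (m + 1 - i))) i)) ∧
      Function.Surjective ((wl φ (T m)).app ⊤) := by
  subst hT
  have hfun := Groth.Agent.Lib.Helper27TwistEq.twistProjSpace_eq n k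
  have h' : Curv2.IsMRegular k n F m := by
    unfold Curv2.IsMRegular
    simp only [hfun]
    exact h
  have hvan : ∀ q : ℕ, 1 ≤ q → ∀ r : ℤ, m - q ≤ r →
      Subsingleton (Coh.HH (CohB1.ProjSpace n k)
        (CohB1.tensorMod F (Twist.twistProjSpace n k r)) q) :=
    fun q hq r hr => vanishing_ge_of_isMRegular n k F hF.1 m h' q r hq hr
  have hMq : (CohB1.tensorMod F (Twist.twistProjSpace n k m)).IsQuasicoherent :=
    isQuasicoherent_twisted n k F hF.1 m
  have hMft : SheafOfModules.IsFiniteType (R := (CohB1.ProjSpace n k).ringCatSheaf)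
      (CohB1.tensorMod F (Twist.twistProjSpace n k m)) := by
    haveI := hF.1
    haveI := hF.2
    haveI := (Groth.Agent.Lib.Helper27TwistCoh.isCoh_twist n k m).1
    haveI := (Groth.Agent.Lib.Helper27TwistCoh.isCoh_twist n k m).2
    exact Groth.Agent.Lib.Helper23.TensorQCoh.isFiniteType_tensorMod F
      (Twist.twistProjSpace n k m)
  simp only [hfun] at hvan hMq hMft
  have hfin : Module.Finite k (Coh.HH (CohB1.ProjSpace n k)
      (CohB1.tensorMod F (GrTilde.tilde 𝒢 𝒢 m)) 0) :=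
    Groth.Agent.S0038.result n k _ ⟨hMq, hMft⟩ 0
  have hgen : GenTop (CohB1.tensorMod (X := Proj 𝒢) F (OO n k m)) :=
    genTop_of_regular n k F hF m hvan m le_rfl
  let B := Module.finBasis k (Coh.HH (CohB1.ProjSpace n k)
      (CohB1.tensorMod F (GrTilde.tilde 𝒢 𝒢 m)) 0)
  obtain ⟨p, hp⟩ := exists_surjective_top_of_span (X := CohB1.ProjSpace n k) k _ _ (⇑B) B.span_eq
  have hpe : Epi p := epi_of_surjective_top p hgen hp
  obtain ⟨φ, hφ, hK, hs⟩ := exists_presentation_aux' k n F m hvan _ p hpe hp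
  exact ⟨_, φ, rfl, hφ, hK, hs⟩

/-- a minimal presentation of an `m`-regular coherent module. -/
theorem exists_presentation_min (F : (CohB1.ProjSpace n k).Modules) (hF : Coh.IsCoh F) (m : ℤ)
    (h : Curv2.IsMRegular k n F m) :
    ∃ (b : ℕ) (φ : (∐ fun _ : Fin b => Twist.twistProjSpace n k (-m)) ⟶ F),
      b = Module.finrank k (Coh.HH (CohB1.ProjSpace n k)
        (CohB1.tensorMod F (Twist.twistProjSpace n k m)) 0) ∧
      Epi φ ∧ Curv2.IsMRegular k n (kernel φ) (m + 1) ∧
      Function.Surjective ((wl φ (Twist.twistProjSpace n k m)).app ⊤) :=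
  exists_presentation_min_gen k n (Twist.twistProjSpace n k)
    (Groth.Agent.Lib.Helper27TwistEq.twistProjSpace_eq n k) F hF m h

end Field

end Groth.Agent.Lib.Helper27MinPres
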