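import Mathlib
import Groth.Agent.Lib.Helper27MumfordReg
import Groth.Agent.Lib.Helper27PushLin
import Groth.Agent.Lib.Helper27ClosedTransfer
import Groth.Agent.Lib.Helper27AmpleSerre
import Groth.Agent.S0022

/-!
# Mumford's lemma on a closed subscheme of `P^n_k` (helper27)

Transfer of `Helper27MumfordReg` along a closed immersion `i : X ⟶ P^n_k` using the projection formula and the
`k`-linear comparison `H^q(X, M) ≃ₗ[k] H^q(P^n, i_* M)`.
-/

set_option autoImplicit false
universe u

open CategoryTheory CategoryTheory.Limits AlgebraicGeometry TopologicalSpace Opposite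

namespace Groth.Agent.Lib.Helper27MumfordClosed

open Groth.Agent.Lib.Helper27MumfordReg Groth.Agent.Lib.Helper27ProjFormula
  Groth.Agent.Lib.Helper27ClosedTransfer Groth.Agent.Lib.Helper27SerreVan
  Groth.Agent.Lib.Helper23.AmpleIso

variable (k : Type u) [Field k] (n : ℕ) {X : Scheme.{u}} [X.Over (Spec (CommRingCat.of k))]
  (i : X ⟶ CohB1.ProjSpace n k) [IsClosedImmersion i]
  (hi : i ≫ CohB1.ProjSpace.toSpec n k = X ↘ Spec (CommRingCat.of k))

local notation "T" => Twist.twistProjSpace n k
local notation "P" => CohB1.ProjSpace n k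

/-- the projection formula isomorphism `i_*(F(d)) ≅ (i_* F)(d)`. -/
theorem nonempty_push_twistOn_iso (F : X.Modules) (d : ℤ) :
    Nonempty ((Scheme.Modules.pushforward i).obj (Pic13.twistOn k i F d) ≅
      CohB1.tensorMod ((Scheme.Modules.pushforward i).obj F) (T d)) := by
  obtain ⟨e⟩ := Groth.Agent.Lib.Helper27AmpleSerre.nonempty_twist_inv n k d
  obtain ⟨e'⟩ := Groth.Agent.Lib.Helper27AmpleSerre.nonempty_twist_inv' n k d
  exact ⟨projIsoR i (T d) (T (-d)) e e' F⟩

/-- vanishing transfers. -/
theorem subsingleton_twistOn_iff (F : X.Modules) (d : ℤ) (q : ℕ) :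
    Subsingleton (Coh.HH X (Pic13.twistOn k i F d) q) ↔
      Subsingleton (Coh.HH (P) (CohB1.tensorMod ((Scheme.Modules.pushforward i).obj F) (T d)) q) := by
  obtain ⟨e⟩ := Groth.Agent.Lib.Helper27AmpleSerre.nonempty_twist_inv n k d
  obtain ⟨e'⟩ := Groth.Agent.Lib.Helper27AmpleSerre.nonempty_twist_inv' n k d
  exact subsingleton_HH_twist_iff i (T d) (T (-d)) e e' F q

include hi in
/-- dimensions transfer. -/
theorem finrank_twistOn (F : X.Modules) (d : ℤ) (q : ℕ) :
    Module.finrank k (Coh.HH X (Pic13.twistOn k i F d) q) =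
      Module.finrank k (Coh.HH (P)
        (CohB1.tensorMod ((Scheme.Modules.pushforward i).obj F) (T d)) q) := by
  obtain ⟨e⟩ := nonempty_push_twistOn_iso k n i F d
  rw [Groth.Agent.Lib.Helper27PushLin.finrank_HH_push i hi (Pic13.twistOn k i F d) q]
  exact Groth.Agent.Lib.Helper27LesLin.finrank_HH_of_iso k e q


section Main

variable (F G : X.Modules) (hF : Coh.IsCoh F)
    (f : Pic13.twistOn k i F (-1) ⟶ F) (g : F ⟶ G) (hfg : f ≫ g = 0)
    (hS : (ShortComplex.mk f g hfg).ShortExact)
    (m : ℤ) (hGm : Pic13.IsMRegular k i G m)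

include hi hF hS hGm in
/-- **Mumford's lemma** on a closed subscheme of `P^n_k`. -/
theorem mumford_closed :
    (∀ (q : ℕ) (n' : ℤ), 2 ≤ q → m - q ≤ n' → Subsingleton (Coh.HH X (Pic13.twistOn k i F n') q)) ∧
    (∀ n' : ℤ, m - 1 ≤ n' →
      Module.finrank k (Coh.HH X (Pic13.twistOn k i F n') 1) ≤
        Module.finrank k (Coh.HH X (Pic13.twistOn k i F (n' - 1)) 1)) ∧
    (∀ n' : ℤ, (m - 1) + (Module.finrank k (Coh.HH X (Pic13.twistOn k i F (m - 1)) 1) : ℤ) ≤ n' →
      Subsingleton (Coh.HH X (Pic13.twistOn k i F n') 1)) ∧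
    Pic13.IsMRegular k i F (m + Module.finrank k (Coh.HH X (Pic13.twistOn k i F (m - 1)) 1)) := by
  classical
  have hN := Groth.Agent.Lib.Helper27QProjCover.isNoetherian_projSpace n k
  haveI : IsLocallyNoetherian (P) := inferInstance
  have hF' : Coh.IsCoh ((Scheme.Modules.pushforward i).obj F) :=
    Groth.Agent.Lib.Helper4.Dev.isCoh_push_closed i F hF
  obtain ⟨π⟩ := nonempty_push_twistOn_iso k n i F (-1)
  haveI : (Scheme.Modules.pushforward i).PreservesEpimorphisms :=
    ⟨fun v _ => Groth.Agent.Lib.Helper18.PushHomeo.pushforward_map_epi_of_isClosedEmbedding i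
      i.isClosedEmbedding v⟩
  haveI : (Scheme.Modules.pushforward i).PreservesHomology :=
    Functor.preservesHomology_of_preservesEpis_and_kernels _
  haveI : Mono f := hS.mono_f
  haveI : Epi g := hS.epi_g
  haveI : Mono ((Scheme.Modules.pushforward i).map f) := inferInstance
  haveI : Epi ((Scheme.Modules.pushforward i).map g) := inferInstance
  have hS' : ((ShortComplex.mk f g hfg).map (Scheme.Modules.pushforward i)).ShortExact :=
    hS.map (Scheme.Modules.pushforward i)
  let ι' : CohB1.tensorMod ((Scheme.Modules.pushforward i).obj F) (T (-1)) ⟶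
      (Scheme.Modules.pushforward i).obj F := π.inv ≫ (Scheme.Modules.pushforward i).map f
  haveI : Mono ι' := mono_comp _ _
  have c : cokernel ι' ≅ (Scheme.Modules.pushforward i).obj G :=
    cokernelEpiComp π.inv ((Scheme.Modules.pushforward i).map f) ≪≫
      IsColimit.coconePointUniqueUpToIso (cokernelIsCokernel _) hS'.gIsCokernel
  have hG' : Curv2.IsMRegular k n (cokernel ι') m := by
    intro q hq _
    have h1 := (subsingleton_twistOn_iff k n i G (m - q) q).1 (hGm q hq)
    exact subsingleton_HH_of_iso (tensorModIso c (Iso.refl _)) q h1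
  refine ⟨?_, ?_, ?_, ?_⟩
  · intro q n' hq hn'
    exact (subsingleton_twistOn_iff k n i F n' q).2
      (vanishing_i k n _ hF' ι' m hG' q hq n' hn')
  · intro n' hn'
    rw [finrank_twistOn k n i hi F n' 1, finrank_twistOn k n i hi F (n' - 1) 1]
    exact h1_mono k n _ hF' ι' m hG' n' hn'
  · intro n' hn'
    rw [finrank_twistOn k n i hi F (m - 1) 1] at hn'
    exact (subsingleton_twistOn_iff k n i F n' 1).2 (vanishing_h1 k n _ hF' ι' m hG' n' hn')
  · intro q hq
    rw [finrank_twistOn k n i hi F (m - 1) 1, subsingleton_twistOn_iff]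
    by_cases hqn : q ≤ n
    · exact isMRegular_F k n _ hF' ι' m hG' q hq hqn
    · haveI := hF'.1
      haveI : (T (m + (Module.finrank k (Coh.HH (P) (CohB1.tensorMod
          ((Scheme.Modules.pushforward i).obj F) (T (m - 1))) 1) : ℤ) - (q : ℤ))).IsQuasicoherent :=
        (Groth.Agent.Lib.Helper27TwistCoh.isCoh_twist n k _).1
      have hq' : Coh.IsQCoh (CohB1.tensorMod ((Scheme.Modules.pushforward i).obj F)
          (T (m + (Module.finrank k (Coh.HH (P) (CohB1.tensorMod
          ((Scheme.Modules.pushforward i).obj F) (T (m - 1))) 1) : ℤ) - (q : ℤ)))) :=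
        Groth.Agent.Lib.Helper23.TensorQCoh.isQuasicoherent_tensorMod _ _
      exact Groth.Agent.S0022.result n k _ q (by omega)

end Main

end Groth.Agent.Lib.Helper27MumfordClosed
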