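import Groth.Agent.Lib.Helper27ARCohC
import Groth.Agent.Lib.Helper27AffineCrit

/-! A Noetherian model `(R, J)` of an ideal `I` of an arbitrary base ring `A` acting on the modules
of a Noetherian scheme: restriction of scalars of the linear structure, and the comparison of
the torsion / quotient / adic notions (helper27). -/
set_option autoImplicit false
universe w w' v u
open CategoryTheory CategoryTheory.Limits AlgebraicGeometry Opposite TopologicalSpace

namespace Groth.Agent.Lib.Helper27NModel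

open Groth.Agent.Lib.Helper17.FlatDev Groth.Agent.Lib.Helper27ARCohA
  Groth.Agent.Lib.Helper27ARCohC

/-! ### abstract part -/
section Abstract
variable {C : Type u} [Category.{v} C] [Abelian C] {A : Type w} [CommRing A] [Linear A C]
  {R : Type w'} [CommRing R]

/-- restriction of scalars of a linear structure along a ring homomorphism. -/
@[reducible] noncomputable def linearOfRingHom (σ : R →+* A) : Linear R C where
  homModule X Y := Module.compHom (X ⟶ Y) σ
  smul_comp X Y Z r f g := Linear.smul_comp X Y Z (σ r) f g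
  comp_smul X Y Z f r g := Linear.comp_smul X Y Z f (σ r) g

variable [Linear R C]

/-- the two linear structures have the same morphisms killed by the powers of `J`, resp. `I`. -/
structure Compat (I : Ideal A) (J : Ideal R) : Prop where
  hk : ∀ (n : ℕ) {X Y : C} (φ : X ⟶ Y), ARSys.HomKilledBy (J ^ n) φ ↔ ARSys.HomKilledBy (I ^ n) φ

variable {I : Ideal A} {J : Ideal R}

theorem Compat.killedBy (h : Compat (C := C) I J) (n : ℕ) (X : C) :
    ARSys.KilledBy (J ^ n) X ↔ ARSys.KilledBy (I ^ n) X := h.hk n (𝟙 X)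

theorem Compat.isQuot (h : Compat (C := C) I J) (n : ℕ) {X Q : C} (p : X ⟶ Q) :
    ARSys.IsQuot (J ^ n) p ↔ ARSys.IsQuot (I ^ n) p := by
  constructor
  · rintro ⟨h1, h2⟩
    exact ⟨(h.killedBy n Q).1 h1, fun Y φ hφ => h2 Y φ ((h.hk n φ).2 hφ)⟩
  · rintro ⟨h1, h2⟩
    exact ⟨(h.killedBy n Q).2 h1, fun Y φ hφ => h2 Y φ ((h.hk n φ).1 hφ)⟩

theorem Compat.termKilled (h : Compat (C := C) I J) (X : ARSys.PS C) :
    ARSys.TermKilled J X ↔ ARSys.TermKilled I X :=
  forall_congr' fun n => h.killedBy (n + 1) _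

theorem Compat.isAdic (h : Compat (C := C) I J) (X : ARSys.PS C) :
    ARSys.IsAdic J X ↔ ARSys.IsAdic I X :=
  and_congr (h.termKilled X) (forall_congr' fun n => forall_congr' fun m => forall_congr' fun _ =>
    h.isQuot (n + 1) _)

theorem Compat.isAdicNoeth (h : Compat (C := C) I J) (X : ARSys.PS C) :
    ARSys.IsAdicNoeth J X ↔ ARSys.IsAdicNoeth I X :=
  and_congr (h.isAdic X) Iff.rfl

end Abstract

/-! ### a basis of opens adapted to a cover -/
section Basis
variable {X : Scheme.{u}}

/-- morphisms of modules agreeing on a basis of opens are equal. -/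
theorem hom_ext_basis {M N : X.Modules} (φ ψ : M ⟶ N) (B : Set X.Opens)
    (hB : TopologicalSpace.Opens.IsBasis B)
    (h : ∀ U ∈ B, ∀ s : Γ(M, U), φ.app U s = ψ.app U s) : φ = ψ := by
  apply Scheme.Modules.hom_ext
  intro O
  ext s
  refine N.isSheaf.section_ext (U := op O) fun x hx => ?_
  obtain ⟨V, hVB, hxV, hVO⟩ := TopologicalSpace.Opens.isBasis_iff_nbhd.mp hB hx
  refine ⟨V, hVO, hxV, ?_⟩
  have n1 := congr($(φ.mapPresheaf.naturality (homOfLE hVO).op) s)
  have n2 := congr($(ψ.mapPresheaf.naturality (homOfLE hVO).op) s)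
  exact n1.symm.trans ((h V hVB _).trans n2)

theorem isBasis_le_cover {ι : Type*} (U : ι → X.Opens) (hU : ⨆ i, U i = ⊤) :
    TopologicalSpace.Opens.IsBasis {V : X.Opens | ∃ i, V ≤ U i} := by
  rw [TopologicalSpace.Opens.isBasis_iff_nbhd]
  intro O x hx
  have hx' : x ∈ (⨆ i, U i : X.Opens) := by rw [hU]; trivial
  obtain ⟨i, hi⟩ := TopologicalSpace.Opens.mem_iSup.1 hx'
  exact ⟨O ⊓ U i, ⟨i, inf_le_right⟩, ⟨hx, hi⟩, inf_le_left⟩

end Basis

/-! ### finitely many generators of `I 𝒪_X` -/
section Gens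
variable {A : Type u} [CommRing A] {X : Scheme.{u}} [X.Over (Spec (CommRingCat.of A))]

theorem ρ_of_le {U V : X.Opens} (h : V ≤ U) (a : A) :
    (X.presheaf.map (homOfLE h).op).hom (ρ (A := A) U a) = ρ (A := A) V a :=
  Coh.resTop_comp (op U) (op V) (homOfLE h).op _

theorem exists_finset [IsNoetherian X] (I : Ideal A) :
    ∃ s : Finset A, (↑s : Set A) ⊆ I ∧ ∃ B : Set X.Opens, TopologicalSpace.Opens.IsBasis B ∧
      ∀ V ∈ B, Ideal.map (ρ (A := A) V) I ≤ Ideal.map (ρ (A := A) V) (Ideal.span (↑s : Set A)) := by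
  classical
  obtain ⟨t, U, hU, hcov⟩ := Groth.Agent.Lib.Helper27AffineCrit.exists_finite_affine_cover (X := X)
  have key : ∀ i, ∃ s : Finset A, (↑s : Set A) ⊆ I ∧
      Ideal.map (ρ (A := A) (U i)) I = Ideal.span ((ρ (A := A) (U i)) '' (↑s : Set A)) := by
    intro i
    haveI : IsNoetherianRing Γ(X, U i) := IsLocallyNoetherian.component_noetherian ⟨U i, hU i⟩
    have hfg : (Ideal.map (ρ (A := A) (U i)) I).FG := IsNoetherian.noetherian _
    have hfg' : (Submodule.span Γ(X, U i) ((ρ (A := A) (U i)) '' (I : Set A))).FG := hfg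
    obtain ⟨s', hs', hspan⟩ := (Submodule.fg_span_iff_fg_span_finset_subset _).1 hfg'
    obtain ⟨s, hsI, rfl⟩ := Finset.subset_set_image_iff.1 hs'
    refine ⟨s, hsI, ?_⟩
    show Submodule.span Γ(X, U i) ((ρ (A := A) (U i)) '' (I : Set A)) = _
    rw [hspan, Finset.coe_image]
  choose s hsI hs using key
  refine ⟨Finset.univ.biUnion s, ?_, {V | ∃ i, V ≤ U i}, isBasis_le_cover U hcov, ?_⟩
  · intro a ha
    rw [Finset.mem_coe, Finset.mem_biUnion] at ha
    obtain ⟨i, -, hi⟩ := ha
    exact hsI i hi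
  · rintro V ⟨i, hVi⟩
    rw [Ideal.map_le_iff_le_comap]
    intro a ha
    rw [Ideal.mem_comap]
    have h1 : ρ (A := A) (U i) a ∈ Ideal.span ((ρ (A := A) (U i)) '' (↑(s i) : Set A)) := by
      rw [← hs i]
      exact Ideal.mem_map_of_mem _ ha
    have h2 : ∀ y : Γ(X, U i), y ∈ Ideal.span ((ρ (A := A) (U i)) '' (↑(s i) : Set A)) →
        (X.presheaf.map (homOfLE hVi).op).hom y ∈
          Ideal.map (ρ (A := A) V) (Ideal.span (↑(Finset.univ.biUnion s) : Set A)) := by
      intro y hy
      induction hy using Submodule.span_induction with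
      | mem y hy =>
        obtain ⟨b, hb, rfl⟩ := hy
        rw [ρ_of_le hVi b]
        refine Ideal.mem_map_of_mem _ (Ideal.subset_span ?_)
        rw [Finset.mem_coe, Finset.mem_biUnion]
        exact ⟨i, Finset.mem_univ _, hb⟩
      | zero => rw [map_zero]; exact Ideal.zero_mem _
      | add y z _ _ hy hz => rw [map_add]; exact Ideal.add_mem _ hy hz
      | smul c y _ hy =>
        rw [smul_eq_mul, map_mul]
        exact Ideal.mul_mem_left _ _ hy
    have h3 := h2 _ h1
    rw [ρ_of_le hVi a] at h3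
    exact h3

/-- the key transfer: a morphism killed by the powers of the small ideal is killed by the powers
of `I`. -/
theorem transfer {R : Type w} [CommRing R] (σ : R →+* A) (J : Ideal R) (I : Ideal A)
    (B : Set X.Opens) (hB : TopologicalSpace.Opens.IsBasis B)
    (h : ∀ V ∈ B, Ideal.map (ρ (A := A) V) I ≤ Ideal.map (ρ (A := A) V) (J.map σ)) (n : ℕ)
    {M N : X.Modules} (φ : M ⟶ N) (hφ : ∀ r ∈ J ^ n, Formal.smulMod A M (σ r) ≫ φ = 0) :
    ∀ a ∈ I ^ n, Formal.smulMod A M a ≫ φ = 0 := by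
  intro a ha
  apply hom_ext_basis _ _ B hB
  intro V hV x
  rw [comp_app_apply, smulMod_app]
  show _ = (0 : Γ(N, V))
  -- the ideal of functions `b` with `φ (b • x) = 0`
  let P : Ideal Γ(X, V) :=
    { carrier := {b | ∀ y : Γ(M, V), φ.app V (b • y) = 0}
      add_mem' := by
        intro b b' hb hb' y
        rw [add_smul, map_add, hb y, hb' y, add_zero]
      zero_mem' := by
        intro y
        rw [zero_smul, map_zero]
      smul_mem' := by
        intro c b hb y
        have : (c • b) • y = b • (c • y) := by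
          rw [smul_eq_mul, mul_comm, mul_smul]
        rw [this]
        exact hb _ }
  have h1 : ρ (A := A) V a ∈ Ideal.map (ρ (A := A) V) (I ^ n) := Ideal.mem_map_of_mem _ ha
  have h2 : Ideal.map (ρ (A := A) V) (I ^ n) ≤ Ideal.map ((ρ (A := A) V).comp σ) (J ^ n) := by
    rw [Ideal.map_pow, ← Ideal.map_map, Ideal.map_pow, Ideal.map_pow]
    exact Ideal.pow_right_mono (h V hV) n
  have h3 : Ideal.map ((ρ (A := A) V).comp σ) (J ^ n) ≤ P := by
    rw [Ideal.map_le_iff_le_comap]
    intro r hr y
    have := congrArg (fun t => t.app V y) (hφ r hr)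
    simp only [comp_app_apply, smulMod_app] at this
    exact this
  exact h3 (h2 h1) x

end Gens

/-! ### existence of a Noetherian model -/
section Model
variable {A : Type u} [CommRing A] {X : Scheme.{u}} [X.Over (Spec (CommRingCat.of A))]

theorem exists_model [IsNoetherian X] (I : Ideal A) :
    ∃ (R : Type u) (_ : CommRing R) (_ : IsNoetherianRing R) (_ : Linear R (CohCat X))
      (J : Ideal R), Compat (C := CohCat X) I J := by
  classical
  obtain ⟨s, hsI, B, hB, hBI⟩ := exists_finset (X := X) I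
  let R := MvPolynomial {a // a ∈ s} ℤ
  let σ : R →+* A := MvPolynomial.eval₂Hom (Int.castRingHom A) (fun x => x.1)
  let J : Ideal R := Ideal.span (Set.range MvPolynomial.X)
  have hσX : ∀ x : {a // a ∈ s}, σ (MvPolynomial.X x) = x.1 := fun x =>
    MvPolynomial.eval₂Hom_X' _ _ x
  have hJσ : J.map σ = Ideal.span (↑s : Set A) := by
    rw [Ideal.map_span]
    congr 1
    ext a
    constructor
    · rintro ⟨_, ⟨x, rfl⟩, rfl⟩
      rw [hσX]
      exact x.2
    · intro ha
      exact ⟨MvPolynomial.X ⟨a, ha⟩, ⟨_, rfl⟩, hσX _⟩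
  have hle : J.map σ ≤ I := by
    rw [hJσ]
    exact Ideal.span_le.2 hsI
  refine ⟨R, inferInstance, inferInstance, linearOfRingHom σ, J, ?_⟩
  letI : Linear R (CohCat X) := linearOfRingHom σ
  refine ⟨fun n M N φ => ⟨fun h => ?_, fun h r hr => ?_⟩⟩
  · have h' : ∀ r ∈ J ^ n, Formal.smulMod A M.obj (σ r) ≫ φ.hom = 0 := fun r hr => by
      have := congrArg (fun t => t.hom) (h r hr)
      exact this
    intro a ha
    apply hom_ext'
    exact transfer σ J I B hB (fun V hV => by rw [hJσ]; exact hBI V hV) n φ.hom h' a ha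
  · have : σ r ∈ I ^ n := by
      have h1 : σ r ∈ Ideal.map σ (J ^ n) := Ideal.mem_map_of_mem _ hr
      rw [Ideal.map_pow] at h1
      exact Ideal.pow_right_mono hle n h1
    exact h (σ r) this

end Model

end Groth.Agent.Lib.Helper27NModel
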