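import Groth.Agent.Lib.Helper21AlgBC
import Groth.Agent.Lib.Helper3FlatCx

/-!
# A bounded complex of finite projective modules, exact in negative degrees, has finite projective
`H_0` (helper27)

`Q : … 0 → Q_0 → Q_{-1} → … → Q_{-N} → 0`, all `Q_i` finite projective, `H_i(Q) = 0` for `i < 0`.  Then the
cokernels `opcycles i`, `i < 0`, are finite projective (induction from the right end), hence so is `H_0`.
-/

set_option autoImplicit false
universe u

open CategoryTheory CategoryTheory.Limits

namespace Groth.Agent.Lib.Helper27NNPushA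

open Groth.Agent.Lib.Helper21.AlgBC Groth.Agent.Lib.Helper3

variable {B : Type u} [CommRing B] (Q : ChainComplex (ModuleCat.{u} B) ℤ)

theorem finite_projective_opcycles_of_exact
    (hX : ∀ i, Module.Finite B (Q.X i) ∧ Module.Projective B (Q.X i))
    (N : ℕ) (hN : ∀ i : ℤ, i < -(N : ℤ) → IsZero (Q.X i))
    (hex : ∀ i : ℤ, i < 0 → IsZero (Q.homology i)) :
    ∀ (k : ℕ) (i : ℤ), i = -(N : ℤ) - 1 + k → i < 0 →
      Module.Finite B (Q.opcycles i) ∧ Module.Projective B (Q.opcycles i) := by
  intro k
  induction k with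
  | zero =>
    intro i hi _
    have hz : IsZero (Q.opcycles i) := (hN i (by rw [hi]; push_cast; omega)).of_epi (Q.pOpcycles i)
    haveI : Subsingleton (Q.opcycles i) := ModuleCat.subsingleton_of_isZero hz
    exact ⟨inferInstance, inferInstance⟩
  | succ k ih =>
    intro i hi hi0
    obtain ⟨hf, hp⟩ := ih (i - 1) (by rw [hi]; push_cast; ring) (by omega)
    haveI := hf
    haveI := hp
    haveI := (hX (i - 1)).1
    haveI := (hX (i - 1)).2
    have hsurj : Function.Surjective (Q.pOpcycles (i - 1)).hom :=
      (ModuleCat.epi_iff_surjective _).mp inferInstance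
    obtain ⟨h1, h2⟩ := finite_projective_ker_of_surjective (Q.pOpcycles (i - 1)).hom hsurj
    have hex1 := exact_homologyι_fromOpcycles Q i (i - 1) (by simp)
    have hex2 := exact_fromOpcycles_pOpcycles Q i (i - 1) (by simp)
    haveI : Subsingleton (Q.homology i) := ModuleCat.subsingleton_of_isZero (hex i hi0)
    have hinj : Function.Injective (Q.fromOpcycles i (i - 1)).hom := by
      rw [injective_iff_map_eq_zero]
      intro x hx
      obtain ⟨y, rfl⟩ := (hex1 x).1 hx
      rw [Subsingleton.elim y 0, map_zero]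
    let e : Q.opcycles i ≃ₗ[B] LinearMap.ker (Q.pOpcycles (i - 1)).hom :=
      LinearEquiv.ofBijective
        (LinearMap.codRestrict (LinearMap.ker (Q.pOpcycles (i - 1)).hom)
          (Q.fromOpcycles i (i - 1)).hom (fun x => by
            rw [LinearMap.mem_ker]
            exact hex2.apply_apply_eq_zero x))
        ⟨fun a b hab => hinj (congrArg Subtype.val hab), by
          rintro ⟨m, hm⟩
          rw [LinearMap.mem_ker] at hm
          obtain ⟨x, rfl⟩ := (hex2 m).1 hm
          exact ⟨x, rfl⟩⟩
    haveI := h1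
    haveI := h2
    exact ⟨Module.Finite.equiv e.symm, Module.Projective.of_equiv e.symm⟩

/-- **`H_0` is finite projective.** -/
theorem finite_projective_homology_zero_of_exact
    (hX : ∀ i, Module.Finite B (Q.X i) ∧ Module.Projective B (Q.X i))
    (N : ℕ) (hN : ∀ i : ℤ, 0 < i ∨ i < -(N : ℤ) → IsZero (Q.X i))
    (hex : ∀ i : ℤ, i < 0 → IsZero (Q.homology i)) :
    Module.Finite B (Q.homology 0) ∧ Module.Projective B (Q.homology 0) := by
  obtain ⟨hf, hp⟩ := finite_projective_opcycles_of_exact Q hX N (fun i hi => hN i (Or.inr hi)) hex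
    N (-1) (by ring) (by norm_num)
  have hd : Q.d 1 0 = 0 := (hN 1 (Or.inl one_pos)).eq_of_src _ _
  let e0 : Q.X 0 ≅ Q.opcycles 0 := Q.pOpcyclesIso 1 0 (by simp) hd
  haveI := (hX 0).1
  haveI := (hX 0).2
  haveI : Module.Finite B (Q.opcycles 0) := Module.Finite.equiv e0.toLinearEquiv
  haveI : Module.Projective B (Q.opcycles 0) := Module.Projective.of_equiv e0.toLinearEquiv
  have e : (0 : ℤ) - 1 = -1 := by norm_num
  haveI : Module.Projective B (Q.opcycles (0 - 1)) := by
    rw [e]
    exact hp
  haveI : Module.Finite B (Q.X (0 - 1)) := (hX _).1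
  haveI : Module.Projective B (Q.X (0 - 1)) := (hX _).2
  exact finite_projective_homology Q 0

end Groth.Agent.Lib.Helper27NNPushA
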