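import Groth.Agent.Lib.Helper21BC0MainC
import Groth.Agent.Lib.Helper27NNPushA
import Groth.Agent.Lib.Helper27RelRegF
import Groth.Agent.Lib.Helper27PushAcyc
import Groth.Agent.Lib.Helper20LocFree
import Groth.Agent.Lib.Helper20PullbackAff
import Groth.Agent.Lib.Helper23FPQuot
import Groth.Agent.Lib.Helper26ModLocFree

/-!
# The direct image of a regular finite locally free module on `P^n_Y` is finite locally free,
without Noetherian hypothesis (helper27)

From helper21's local universal complex (`BC0Main.exists_local_complex0`, valid for proper morphisms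
locally of finite presentation and finitely presented modules flat over the base): over an affine open
`V` of `Y` the sections of `R^p p_* F` are the homology of a bounded complex of finite projective
`Γ(Y, V)`-modules; for `F` regular the homology vanishes in negative degrees, so `H_0` is finite
projective (`Helper27NNPushA`).
-/

set_option autoImplicit false
universe u

open CategoryTheory CategoryTheory.Limits AlgebraicGeometry TopologicalSpace Opposite

namespace Groth.Agent.Lib.Helper27NNPushB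

open Groth.Agent.Lib.Helper21.BC0Main Groth.Agent.Lib.Helper21.AlgBC
  Groth.Agent.Lib.Helper27NNPushA

attribute [local instance] Groth.Agent.Lib.Helper17.QCPush.enoughInjectives in
/-- `p_*` of a finite locally free module without higher direct images is finite locally free. -/
theorem isFinLocFree_push_of_isZero_Rpush (n : ℕ) (Y : Scheme.{u})
    (F : (KRR.PY n Y).Modules) (hF : FlatMod.IsFinLocFree F)
    (hR : ∀ i : ℕ, 0 < i → IsZero ((Coh.Rpush (KRR.pr n Y) i).obj F)) :
    FlatMod.IsFinLocFree ((Scheme.Modules.pushforward (KRR.pr n Y)).obj F) := by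
  have hcoh := Groth.Agent.Lib.Helper21.HZB.isCoh_of_isFinLocFree F hF
  haveI : F.IsQuasicoherent := hcoh.1
  haveI := Groth.Agent.Lib.Helper27ProjSpaceFibres.isProper_toBase n Y
  haveI : HasInjectiveResolutions (KRR.PY n Y).Modules := inferInstance
  haveI : Smooth (CohB1.ProjSpaceOver.toBase n Y) :=
    Groth.Agent.Lib.Helper27ChartPoly.smooth_toBase n Y
  have hflat : FlatMod.IsFlatOver (KRR.pr n Y) F :=
    Groth.Agent.Lib.Helper27RelRegC.isFlatOver_of_isFlat _ F
      (Groth.Agent.Lib.Helper2.LocFree.isFlat_of_isFinLocFree F hF)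
  have hFP : CohB1.IsFP F := Groth.Agent.Lib.Helper2.LocFree.isFP_of_isFinLocFree F hF
  let e0 : (Coh.Rpush (KRR.pr n Y) 0).obj F ≅ (Scheme.Modules.pushforward (KRR.pr n Y)).obj F :=
    (Functor.rightDerivedZeroIsoSelf (Scheme.Modules.pushforward (KRR.pr n Y))).app F
  refine Groth.Agent.Lib.Helper26.ModLocFree.isFinLocFree_of_iso e0 ?_
  haveI hqp : ((Scheme.Modules.pushforward (KRR.pr n Y)).obj F).IsQuasicoherent :=
    Groth.Agent.Lib.Helper23.QCohLocal.isQuasicoherent_pushforward (KRR.pr n Y) F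
  haveI : ((Coh.Rpush (KRR.pr n Y) 0).obj F).IsQuasicoherent :=
    Groth.Agent.Lib.Helper23.TensorQCoh.isQuasicoherent_of_iso e0.symm
  intro y
  obtain ⟨V, hV, hyV, -⟩ := exists_isAffineOpen_mem_and_subset (x := y) (U := ⊤) trivial
  obtain ⟨A₀, hA₀, φ, P, hP, ⟨N, hN⟩, -, hH, -⟩ :=
    exists_local_complex0 (KRR.pr n Y) F hFP hflat hV
  letI : Algebra A₀ Γ(Y, V) := φ.hom.toAlgebra
  let Q := CohIII.bcCx (algebraMap A₀ Γ(Y, V)) P
  have hX : ∀ i, Module.Finite Γ(Y, V) (Q.X i) ∧ Module.Projective Γ(Y, V) (Q.X i) := fun i =>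
    ⟨by haveI := (hP i).1; exact finite_bcCx_X P Γ(Y, V) i,
     by haveI := (hP i).2; exact projective_bcCx_X P Γ(Y, V) i⟩
  have hNQ : ∀ i : ℤ, 0 < i ∨ i < -(N : ℤ) → IsZero (Q.X i) := fun i hi =>
    Functor.map_isZero (ModuleCat.extendScalars (algebraMap A₀ Γ(Y, V))) (hN i hi)
  have hex : ∀ i : ℤ, i < 0 → IsZero (Q.homology i) := by
    intro i hi
    obtain ⟨p, rfl⟩ : ∃ p : ℕ, i = -(p : ℤ) := ⟨(-i).toNat, by omega⟩
    obtain ⟨e⟩ := hH p
    haveI := Groth.Agent.Lib.Helper23.FPQuot.subsingleton_of_isZero (hR p (by omega)) V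
    haveI : Subsingleton ↑(Q.homology (-(p : ℤ))) := e.symm.toEquiv.subsingleton
    exact ModuleCat.isZero_of_subsingleton _
  obtain ⟨hfin, hproj⟩ := finite_projective_homology_zero_of_exact Q hX N hNQ hex
  obtain ⟨e⟩ := hH 0
  have e' : Γ((Coh.Rpush (KRR.pr n Y) 0).obj F, V) ≃ₗ[Γ(Y, V)] ↑(Q.homology 0) := by
    have h0 : (-((0 : ℕ) : ℤ)) = 0 := by norm_num
    rw [h0] at e
    exact e
  let M' := (Coh.Rpush (KRR.pr n Y) 0).obj F
  let eΓ := Groth.Agent.Lib.Helper20.PullbackAff.ΓUEquiv hV M'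
  haveI : Module.Finite Γ(Y, V) ((Groth.Agent.Lib.Helper20.Thickening.ΓUF hV).obj M') :=
    Module.Finite.equiv (e'.symm.trans eΓ)
  haveI : Module.Projective Γ(Y, V) ((Groth.Agent.Lib.Helper20.Thickening.ΓUF hV).obj M') :=
    Module.Projective.of_equiv (e'.symm.trans eΓ)
  haveI : Module.FinitePresentation Γ(Y, V)
      ((Groth.Agent.Lib.Helper20.Thickening.ΓUF hV).obj M') :=
    Module.finitePresentation_of_projective _ _
  obtain ⟨D, m, hyD, -, ⟨eD⟩⟩ :=
    Groth.Agent.Lib.Helper20.LocFree.exists_restrict_iso_freeMod M' hV y hyV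
  exact ⟨D, m, hyD, ⟨eD⟩⟩

attribute [local instance] Groth.Agent.Lib.Helper17.QCPush.enoughInjectives in
/-- **`p_*` of a regular finite locally free module on `P^n_Y` is finite locally free** (any base). -/
theorem isFinLocFree_push_of_isRegSheaf (n : ℕ) (Y : Scheme.{u})
    (F : (KRR.PY n Y).Modules) (hF : FlatMod.IsFinLocFree F) (hreg : KRR.IsRegSheaf n Y F) :
    FlatMod.IsFinLocFree ((Scheme.Modules.pushforward (KRR.pr n Y)).obj F) := by
  have hcoh := Groth.Agent.Lib.Helper21.HZB.isCoh_of_isFinLocFree F hF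
  haveI : F.IsQuasicoherent := hcoh.1
  haveI := Groth.Agent.Lib.Helper27ProjSpaceFibres.isProper_toBase n Y
  haveI : HasInjectiveResolutions (KRR.PY n Y).Modules := inferInstance
  refine isFinLocFree_push_of_isZero_Rpush n Y F hF (fun i hi => ?_)
  have h1 := Groth.Agent.Lib.Helper27RelRegA.isZero_RpushAb_of_isRegSheaf n Y F hcoh.1 hreg i hi
  obtain ⟨e⟩ := Groth.Agent.Lib.Helper23.ModAbBridge.nonempty_toAb_Rpush_iso (KRR.pr n Y) F i
  exact Groth.Agent.Lib.Helper21.RelExtSS.isZero_of_isZero_toAb _ (IsZero.of_iso h1 e)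

/-- acyclic version. -/
theorem isFinLocFree_push_of_acyc (n : ℕ) (Y : Scheme.{u})
    (F : (KRR.PY n Y).Modules) (hF : FlatMod.IsFinLocFree F)
    (hac : Groth.Agent.Lib.Helper27PushAcyc.Acyc n Y F) :
    FlatMod.IsFinLocFree ((Scheme.Modules.pushforward (KRR.pr n Y)).obj F) := by
  have hcoh := Groth.Agent.Lib.Helper21.HZB.isCoh_of_isFinLocFree F hF
  haveI : F.IsQuasicoherent := hcoh.1
  haveI := Groth.Agent.Lib.Helper27ProjSpaceFibres.isProper_toBase n Y
  letI := Groth.Agent.Lib.Helper17.QCPush.enoughInjectives (KRR.PY n Y)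
  haveI : HasInjectiveResolutions (KRR.PY n Y).Modules := inferInstance
  refine isFinLocFree_push_of_isZero_Rpush n Y F hF (fun i hi => ?_)
  have h1 := hac i hi
  obtain ⟨e⟩ := Groth.Agent.Lib.Helper23.ModAbBridge.nonempty_toAb_Rpush_iso (KRR.pr n Y) F i
  exact Groth.Agent.Lib.Helper21.RelExtSS.isZero_of_isZero_toAb _ (IsZero.of_iso h1 e)

end Groth.Agent.Lib.Helper27NNPushB
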