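import Groth.Agent.Lib.Helper27ProjFormK
import Groth.Agent.Lib.Helper27K0Gen

/-!
# The classes `R_k` of finite locally free modules on `P^n_Y` with `F(k)` regular (helper27)

* `isZero_RpushAb_X₃`, `isZero_RpushAb_sigma_const` : single-degree forms of the acyclicity lemmas.
* `isRegSheaf_X₃` : in a short exact sequence of quasi-coherent modules, `X₁, X₂` regular `⇒` `X₃` regular.
* `isRegSheaf_sigma_const`, `isRegSheaf_of_isZero`.
* `RegAt k F` (`F(k)` regular; `RegAt 0 F` is `IsRegSheaf F` by definition), `Rk k`, closure properties.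
-/

set_option autoImplicit false
universe u

open CategoryTheory CategoryTheory.Limits AlgebraicGeometry TopologicalSpace Opposite

namespace Groth.Agent.Lib.Helper27RegClass

open Groth.Agent.Helper18KRR Groth.Agent.Lib.Helper21.ModTensor5 Groth.Agent.Lib.Helper23.LocGen
  Groth.Agent.Lib.Helper17.TwistBC Groth.Agent.Lib.Helper27RelRegA Groth.Agent.Lib.Helper27RelRegD
  Groth.Agent.Lib.Helper27SerreVan Groth.Agent.Lib.Helper27ProjFormK Groth.Agent.Lib.Helper27KoszPush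

variable (n : ℕ) (Y : Scheme.{u})

theorem isZero_RpushAb_X₃ (S : ShortComplex (KRR.PY n Y).Modules) (hS : S.ShortExact)
    (q₁ : Coh.IsQCoh S.X₁) (q₂ : Coh.IsQCoh S.X₂) (q₃ : Coh.IsQCoh S.X₃) (i : ℕ)
    (h₂ : IsZero ((Coh.RpushAb (KRR.pr n Y) i).obj (Coh.toAb S.X₂)))
    (h₁ : IsZero ((Coh.RpushAb (KRR.pr n Y) (i + 1)).obj (Coh.toAb S.X₁))) :
    IsZero ((Coh.RpushAb (KRR.pr n Y) i).obj (Coh.toAb S.X₃)) := by
  haveI := q₁; haveI := q₂; haveI := q₃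
  refine (isZero_RpushAb_iff n Y S.X₃ i).2 (fun V hV => ?_)
  have hS₁ := shortExact_map_pullback_of_flat (chartOver n hV) S hS
  have a2 := (isZero_RpushAb_iff n Y S.X₂ i).1 h₂ V hV
  have a1 := (isZero_RpushAb_iff n Y S.X₁ (i + 1)).1 h₁ V hV
  exact subsingleton_of_shortExact _ hS₁ i a2 a1

theorem isZero_RpushAb_sigma_const (M : (KRR.PY n Y).Modules) (hq : Coh.IsQCoh M) (i : ℕ)
    (hi : 1 ≤ i) (hM : IsZero ((Coh.RpushAb (KRR.pr n Y) i).obj (Coh.toAb M))) (k : ℕ) :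
    IsZero ((Coh.RpushAb (KRR.pr n Y) i).obj (Coh.toAb (∐ fun _ : Fin k => M))) := by
  haveI := hq
  haveI hqs : Coh.IsQCoh (∐ fun _ : Fin k => M) :=
    Groth.Agent.Lib.Helper27CoprodFin.isQuasicoherent_sigma _ (fun _ => hq)
  refine (isZero_RpushAb_iff n Y _ i).2 (fun V hV => ?_)
  let e1 : (Scheme.Modules.pullback (chartOver n hV)).obj (∐ fun _ : Fin k => M) ≅
      ∐ fun _ : Fin k => (Scheme.Modules.pullback (chartOver n hV)).obj M :=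
    PreservesCoproduct.iso (Scheme.Modules.pullback (chartOver n hV)) _
  let g : ULift.{u} (Fin k) → (CohB1.ProjSpace n Γ(Y, V)).Modules :=
    fun _ => (Scheme.Modules.pullback (chartOver n hV)).obj M
  let e2 : ∐ g ≅ ∐ fun _ : Fin k => (Scheme.Modules.pullback (chartOver n hV)).obj M :=
    Sigma.reindex (Equiv.ulift : ULift.{u} (Fin k) ≃ Fin k)
      (fun _ : Fin k => (Scheme.Modules.pullback (chartOver n hV)).obj M)
  obtain ⟨p, rfl⟩ : ∃ p, i = p + 1 := ⟨i - 1, by omega⟩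
  have hgq : ∀ j, (g j).IsQuasicoherent := fun _ =>
    Groth.Agent.Lib.Helper2.PullbackSec.isQuasicoherent_pullback _ _
  have h1 : Subsingleton (Coh.HH (CohB1.ProjSpace n Γ(Y, V)) (∐ g) (p + 1)) :=
    Groth.Agent.Lib.Helper27CohSum.subsingleton_HH_coprod g
      (Groth.Agent.Lib.Helper27PnCech.V n Γ(Y, V))
      (Groth.Agent.Lib.Helper27PnCohVanish.iSup_V n Γ(Y, V))
      (Groth.Agent.Lib.Helper27PnCohVanish.isAffineOpen_iInf_V n Γ(Y, V)) hgq p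
      (fun _ => (isZero_RpushAb_iff n Y M (p + 1)).1 hM V hV)
  exact Groth.Agent.Lib.Helper27PnCohVanish.subsingleton_HH_of_iso (e1 ≪≫ e2.symm).symm (p + 1) h1

/-- `twF 0 F ≅ F`. -/
theorem nonempty_twF_zero_iso (F : (KRR.PY n Y).Modules) : Nonempty (KRR.twF n Y 0 F ≅ F) := by
  obtain ⟨e0⟩ := nonempty_twistOver_zero_iso n Y
  exact ⟨PicGrp.tensorModIso e0 (Iso.refl F) ≪≫
    Groth.Agent.Lib.Helper23.TensorUnit.unitTensorIso F⟩

/-- twisting commutes with finite constant coproducts. -/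
theorem nonempty_twF_sigma_iso (d : ℤ) (M : (KRR.PY n Y).Modules) (k : ℕ) :
    Nonempty (KRR.twF n Y d (∐ fun _ : Fin k => M) ≅ ∐ fun _ : Fin k => KRR.twF n Y d M) := by
  obtain ⟨e⟩ := nonempty_twistOver_inv n Y d (-d) (by ring)
  obtain ⟨e'⟩ := nonempty_twistOver_inv n Y (-d) d (by ring)
  haveI : (Groth.Agent.Lib.Helper27ProjFormula.TL (KRR.PY n Y) (Twist.twistOver n Y d)).Additive :=
    (Groth.Agent.Lib.Helper27ProjFormula.adjTL (Twist.twistOver n Y (-d)) (Twist.twistOver n Y d)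
      e' e).left_adjoint_additive
  exact ⟨sigmaConstIso
    (Groth.Agent.Lib.Helper27ProjFormula.TL (KRR.PY n Y) (Twist.twistOver n Y d)) M k⟩

theorem isRegSheaf_X₃ (S : ShortComplex (KRR.PY n Y).Modules) (hS : S.ShortExact)
    (q₁ : Coh.IsQCoh S.X₁) (q₂ : Coh.IsQCoh S.X₂) (q₃ : Coh.IsQCoh S.X₃)
    (h₁ : KRR.IsRegSheaf n Y S.X₁) (h₂ : KRR.IsRegSheaf n Y S.X₂) : KRR.IsRegSheaf n Y S.X₃ := by
  intro i hi
  have hS' := shortExact_twF n Y (-(i : ℤ)) S hS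
  refine isZero_RpushAb_X₃ n Y _ hS' (isQCoh_twF n Y _ _ q₁) (isQCoh_twF n Y _ _ q₂)
    (isQCoh_twF n Y _ _ q₃) i (h₂ i hi) ?_
  have h1' := isRegSheaf_twF n Y S.X₁ q₁ h₁ 1 (i + 1) (by omega)
  obtain ⟨e⟩ := nonempty_twF_twF_iso n Y (-((i + 1 : ℕ) : ℤ)) ((1 : ℕ) : ℤ) (-(i : ℤ))
    (by push_cast; ring) S.X₁
  exact IsZero.of_iso h1' ((Coh.RpushAb (KRR.pr n Y) (i + 1)).mapIso
    ((SheafOfModules.toSheaf _).mapIso e)).symm

theorem isRegSheaf_of_isZero {M : (KRR.PY n Y).Modules} (h : IsZero M) : KRR.IsRegSheaf n Y M := by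
  intro i hi
  have hz : IsZero (KRR.twF n Y (-(i : ℤ)) M) :=
    (DCoh.tensorBi.obj (Twist.twistOver n Y (-(i : ℤ)))).map_isZero h
  have hq : Coh.IsQCoh (KRR.twF n Y (-(i : ℤ)) M) :=
    Groth.Agent.Lib.Helper21.HZB.isQuasicoherent_of_isFinLocFree _
      (Groth.Agent.Lib.Helper1.SPL.isFinLocFree_of_isZero _ hz)
  exact Groth.Agent.Lib.Helper27PushAcyc.acyc_of_isZero hq hz i hi

theorem isRegSheaf_sigma_const (M : (KRR.PY n Y).Modules) (hq : Coh.IsQCoh M)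
    (h : KRR.IsRegSheaf n Y M) (k : ℕ) : KRR.IsRegSheaf n Y (∐ fun _ : Fin k => M) := by
  intro i hi
  obtain ⟨e⟩ := nonempty_twF_sigma_iso n Y (-(i : ℤ)) M k
  have h1 := isZero_RpushAb_sigma_const n Y _ (isQCoh_twF n Y (-(i : ℤ)) M hq) i hi (h i hi) k
  exact IsZero.of_iso h1 ((Coh.RpushAb (KRR.pr n Y) i).mapIso
    ((SheafOfModules.toSheaf _).mapIso e))

/-- `F(k)` is regular; for `k = 0` this is `IsRegSheaf F` by definition. -/
def RegAt : ℕ → (KRR.PY n Y).Modules → Prop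
  | 0, F => KRR.IsRegSheaf n Y F
  | (k + 1), F => KRR.IsRegSheaf n Y (KRR.twF n Y ((k + 1 : ℕ) : ℤ) F)

theorem regAt_iff (k : ℕ) (F : (KRR.PY n Y).Modules) :
    RegAt n Y k F ↔ KRR.IsRegSheaf n Y (KRR.twF n Y (k : ℤ) F) := by
  cases k with
  | zero =>
    obtain ⟨e⟩ := nonempty_twF_zero_iso n Y F
    exact ⟨fun h => isRegSheaf_of_iso n Y e.symm h, fun h => isRegSheaf_of_iso n Y e h⟩
  | succ k => exact Iff.rfl

/-- finite locally free with `F(k)` regular. -/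
def Rk (k : ℕ) : ObjectProperty (KRR.PY n Y).Modules :=
  fun F => FlatMod.IsFinLocFree F ∧ RegAt n Y k F

theorem rk_iff (k : ℕ) (F : (KRR.PY n Y).Modules) :
    Rk n Y k F ↔ FlatMod.IsFinLocFree F ∧ KRR.IsRegSheaf n Y (KRR.twF n Y (k : ℤ) F) :=
  and_congr Iff.rfl (regAt_iff n Y k F)

theorem rk_of_iso {k : ℕ} {F G : (KRR.PY n Y).Modules} (e : F ≅ G) (h : Rk n Y k F) : Rk n Y k G := by
  rw [rk_iff] at h ⊢
  exact ⟨Groth.Agent.Lib.Helper26.ModLocFree.isFinLocFree_of_iso e h.1,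
    isRegSheaf_of_iso n Y ((DCoh.tensorBi.obj (Twist.twistOver n Y (k : ℤ))).mapIso e) h.2⟩

instance (k : ℕ) : (Rk n Y k).IsClosedUnderIsomorphisms := ⟨fun e h => rk_of_iso n Y e h⟩

theorem rk_of_isZero (k : ℕ) {F : (KRR.PY n Y).Modules} (h : IsZero F) : Rk n Y k F := by
  rw [rk_iff]
  exact ⟨Groth.Agent.Lib.Helper1.SPL.isFinLocFree_of_isZero _ h,
    isRegSheaf_of_isZero n Y ((DCoh.tensorBi.obj (Twist.twistOver n Y (k : ℤ))).map_isZero h)⟩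

open scoped ZeroObject in
instance (k : ℕ) : (Rk n Y k).ContainsZero := ⟨⟨0, isZero_zero _, rk_of_isZero n Y k (isZero_zero _)⟩⟩

theorem isQCoh_of_isFinLocFree {F : (KRR.PY n Y).Modules} (h : FlatMod.IsFinLocFree F) :
    Coh.IsQCoh F := Groth.Agent.Lib.Helper21.HZB.isQuasicoherent_of_isFinLocFree F h

theorem isFinLocFree_twF (d : ℤ) {F : (KRR.PY n Y).Modules} (h : FlatMod.IsFinLocFree F) :
    FlatMod.IsFinLocFree (KRR.twF n Y d F) :=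
  Groth.Agent.Lib.Helper23.ResProp.isFinLocFree_tensorMod _ _
    (Groth.Agent.Lib.Helper27KoszPull.isFinLocFree_twistOver n Y d) h

/-- `R_k ⊆ R_{k+d}`. -/
theorem rk_add {k : ℕ} (d : ℕ) {F : (KRR.PY n Y).Modules} (h : Rk n Y k F) : Rk n Y (k + d) F := by
  rw [rk_iff] at h ⊢
  refine ⟨h.1, ?_⟩
  have h1 := isRegSheaf_twF n Y _ (isQCoh_twF n Y _ F (isQCoh_of_isFinLocFree n Y h.1)) h.2 d
  obtain ⟨e⟩ := nonempty_twF_twF_iso n Y (d : ℤ) (k : ℤ) ((k + d : ℕ) : ℤ) (by push_cast; ring) F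
  exact isRegSheaf_of_iso n Y e h1

theorem rk_le {k k' : ℕ} (hk : k ≤ k') {F : (KRR.PY n Y).Modules} (h : Rk n Y k F) :
    Rk n Y k' F := by
  obtain ⟨d, rfl⟩ := Nat.exists_eq_add_of_le hk
  exact rk_add n Y d h

/-- `F ∈ R_k ⇒ F(j) ∈ R_k`, `j ≥ 0`. -/
theorem rk_twF {k : ℕ} (j : ℕ) {F : (KRR.PY n Y).Modules} (h : Rk n Y k F) :
    Rk n Y k (KRR.twF n Y (j : ℤ) F) := by
  rw [rk_iff] at h ⊢
  refine ⟨isFinLocFree_twF n Y _ h.1, ?_⟩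
  have h1 := isRegSheaf_twF n Y _ (isQCoh_twF n Y _ F (isQCoh_of_isFinLocFree n Y h.1)) h.2 j
  obtain ⟨e1⟩ := nonempty_twF_twF_iso n Y (j : ℤ) (k : ℤ) ((k : ℤ) + j) (by ring) F
  obtain ⟨e2⟩ := nonempty_twF_twF_iso n Y (k : ℤ) (j : ℤ) ((k : ℤ) + j) rfl F
  exact isRegSheaf_of_iso n Y (e1 ≪≫ e2.symm) h1

/-- `F ∈ R_{k+1} ⇒ F(j+1) ∈ R_k`. -/
theorem rk_twF_succ {k : ℕ} (j : ℕ) {F : (KRR.PY n Y).Modules} (h : Rk n Y (k + 1) F) :
    Rk n Y k (KRR.twF n Y ((j + 1 : ℕ) : ℤ) F) := by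
  rw [rk_iff] at h ⊢
  refine ⟨isFinLocFree_twF n Y _ h.1, ?_⟩
  have h1 := isRegSheaf_twF n Y _ (isQCoh_twF n Y _ F (isQCoh_of_isFinLocFree n Y h.1)) h.2 j
  obtain ⟨e1⟩ := nonempty_twF_twF_iso n Y (j : ℤ) ((k + 1 : ℕ) : ℤ) ((k : ℤ) + ((j + 1 : ℕ) : ℤ))
    (by push_cast; ring) F
  obtain ⟨e2⟩ := nonempty_twF_twF_iso n Y (k : ℤ) ((j + 1 : ℕ) : ℤ) ((k : ℤ) + ((j + 1 : ℕ) : ℤ))
    rfl F
  exact isRegSheaf_of_iso n Y (e1 ≪≫ e2.symm) h1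

theorem rk_sigma_const {k : ℕ} (M : (KRR.PY n Y).Modules) (m : ℕ) (h : Rk n Y k M) :
    Rk n Y k (∐ fun _ : Fin m => M) := by
  rw [rk_iff] at h ⊢
  refine ⟨Groth.Agent.Lib.Helper27KClass.isFinLocFree_sigma_const M h.1 m, ?_⟩
  obtain ⟨e⟩ := nonempty_twF_sigma_iso n Y (k : ℤ) M m
  exact isRegSheaf_of_iso n Y e.symm (isRegSheaf_sigma_const n Y _
    (isQCoh_twF n Y _ M (isQCoh_of_isFinLocFree n Y h.1)) h.2 m)

/-- cokernels. -/
theorem rk_X₃ {k : ℕ} (S : ShortComplex (KRR.PY n Y).Modules) (hS : S.ShortExact)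
    (h₁ : Rk n Y k S.X₁) (h₂ : Rk n Y k S.X₂) (h₃ : FlatMod.IsFinLocFree S.X₃) :
    Rk n Y k S.X₃ := by
  have h₁' := (rk_iff n Y k S.X₁).1 h₁
  have h₂' := (rk_iff n Y k S.X₂).1 h₂
  refine (rk_iff n Y k S.X₃).2 ⟨h₃, ?_⟩
  have hS' := shortExact_twF n Y (k : ℤ) S hS
  have q₁ : Coh.IsQCoh (S.map (DCoh.tensorBi.obj (Twist.twistOver n Y (k : ℤ)))).X₁ :=
    isQCoh_twF n Y _ _ (isQCoh_of_isFinLocFree n Y h₁'.1)
  have q₂ : Coh.IsQCoh (S.map (DCoh.tensorBi.obj (Twist.twistOver n Y (k : ℤ)))).X₂ :=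
    isQCoh_twF n Y _ _ (isQCoh_of_isFinLocFree n Y h₂'.1)
  have q₃ : Coh.IsQCoh (S.map (DCoh.tensorBi.obj (Twist.twistOver n Y (k : ℤ)))).X₃ :=
    isQCoh_twF n Y _ _ (isQCoh_of_isFinLocFree n Y h₃)
  have r₁ : KRR.IsRegSheaf n Y (S.map (DCoh.tensorBi.obj (Twist.twistOver n Y (k : ℤ)))).X₁ := h₁'.2
  have r₂ : KRR.IsRegSheaf n Y (S.map (DCoh.tensorBi.obj (Twist.twistOver n Y (k : ℤ)))).X₂ := h₂'.2
  exact isRegSheaf_X₃ n Y (S.map (DCoh.tensorBi.obj (Twist.twistOver n Y (k : ℤ)))) hS' q₁ q₂ q₃ r₁ r₂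

theorem exists_rk [IsNoetherian Y] (F : (KRR.PY n Y).Modules) (hF : FlatMod.IsFinLocFree F) :
    ∃ k : ℕ, Rk n Y k F := by
  obtain ⟨k, hk⟩ := exists_isRegSheaf_twF n Y F
    (Groth.Agent.Lib.Helper21.HZB.isCoh_of_isFinLocFree F hF)
  exact ⟨k, (rk_iff n Y k F).2 ⟨hF, hk⟩⟩

end Groth.Agent.Lib.Helper27RegClass
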