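import Groth.Agent.Lib.Helper27QResBC1
import Groth.Agent.Lib.Helper27RelRegF
import Groth.Agent.Lib.Helper27RegClass

/-!
# Base change of the Quillen tower: preliminaries (helper27)

* `psi_fst`, `psi_pr` : the two projections of `ψ : P^n_{Y₁} ⟶ P^n_Y`.
* `psiTwF` : `ψ^*(X(d)) ≅ (ψ^* X)(d)`.
* `section_pullback_twist_eq_zero` : `H^0(P^n_R, π^* N ⊗ O(d)) = 0` for `-n ≤ d < 0`, `N` quasi-coherent.
* `fk_vb` : for a regular finite locally free `F` on `P^n_Y` (`Y` Noetherian), all `F_k` are finite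
  locally free.
-/

set_option autoImplicit false
universe u

open CategoryTheory CategoryTheory.Limits AlgebraicGeometry TopologicalSpace Opposite

namespace Groth.Agent.Lib.Helper27QResBC2

open Groth.Agent.Lib.Helper27QResTower Groth.Agent.Helper18KRR
  Groth.Agent.Lib.Helper23.RestrTensor Groth.Agent.Lib.Helper27SerreVan

section Psi

variable (n : ℕ) {Y Y₁ : Scheme.{u}} (φ : Y₁ ⟶ Y)

theorem psi_fst : KRR.projSpaceMap n φ ≫ fstP n Y = fstP n Y₁ := by
  exact (pullback.lift_fst _ _ _).trans (Category.comp_id _)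

theorem psi_pr : KRR.projSpaceMap n φ ≫ KRR.pr n Y = KRR.pr n Y₁ ≫ φ := by
  exact pullback.lift_snd _ _ _

/-- `ψ^* O(d) ≅ O(d)`. -/
noncomputable def psiTwist (d : ℤ) :
    (Scheme.Modules.pullback (KRR.projSpaceMap n φ)).obj (Twist.twistOver n Y d) ≅
      Twist.twistOver n Y₁ d :=
  (Scheme.Modules.pullbackComp (KRR.projSpaceMap n φ) (fstP n Y)).app _ ≪≫
    (Scheme.Modules.pullbackCongr (psi_fst n φ)).app _

/-- `ψ^*(X(d)) ≅ (ψ^* X)(d)`. -/
noncomputable def psiTwF (d : ℤ) (X : (KRR.PY n Y).Modules) :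
    (Scheme.Modules.pullback (KRR.projSpaceMap n φ)).obj (KRR.twF n Y d X) ≅
      KRR.twF n Y₁ d ((Scheme.Modules.pullback (KRR.projSpaceMap n φ)).obj X) :=
  pullbackTensorIso (Twist.twistOver n Y d) X (KRR.projSpaceMap n φ) ≪≫
    PicGrp.tensorModIso (psiTwist n φ d) (Iso.refl _)

/-- `ψ^* p^* E ≅ p₁^* φ^* E`. -/
noncomputable def psiPull (E : Y.Modules) :
    (Scheme.Modules.pullback (KRR.projSpaceMap n φ)).obj
        ((Scheme.Modules.pullback (KRR.pr n Y)).obj E) ≅
      (Scheme.Modules.pullback (KRR.pr n Y₁)).obj ((Scheme.Modules.pullback φ).obj E) :=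
  (Scheme.Modules.pullbackComp (KRR.projSpaceMap n φ) (KRR.pr n Y)).app E ≪≫
    (Scheme.Modules.pullbackCongr (psi_pr n φ)).app E ≪≫
    ((Scheme.Modules.pullbackComp (KRR.pr n Y₁) φ).app E).symm

end Psi


section DegZero

open Groth.Agent.Lib.Helper21.CoprodSec Groth.Agent.Lib.Helper18.DirImgColim

theorem eq_zero_of_subsingleton_HH_zero {X : Scheme.{u}} (M : X.Modules)
    (h : Subsingleton (Coh.HH X M 0)) (s : Γ(M, ⊤)) : s = 0 := by
  have hT : Limits.IsTerminal (⊤ : X.Opens) := Limits.isTerminalTop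
  have h1 := (Sheaf.H.equiv₀ (Coh.toAb M) hT).apply_symm_apply s
  rw [Subsingleton.elim ((Sheaf.H.equiv₀ (Coh.toAb M) hT).symm s) 0, map_zero] at h1
  exact h1.symm

/-- global sections of `∐ L` vanish if those of `L` do. -/
theorem sigma_section_eq_zero {X : Scheme.{u}} [CompactSpace X] (I : Type u) (L : X.Modules)
    (hL : ∀ s : Γ(L, ⊤), s = 0) (s : Γ(∐ fun _ : I => L, ⊤)) : s = 0 := by
  classical
  obtain ⟨t, z, hz⟩ := exists_finite_sum (fun _ : I => L)
    (hasFinSubcover_of_isCompact (⊤ : X.Opens) isCompact_univ) s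
  refine hz.trans (Finset.sum_eq_zero (fun i _ => ?_))
  rw [hL (z i)]
  exact map_zero _

variable (n : ℕ) (R : Type u) [CommRing R]

/-- `H^0(P^n_R, π^* N ⊗ O(d)) = 0` for `-n ≤ d < 0` and `N` quasi-coherent on `Spec R`. -/
theorem section_pullback_twist_eq_zero (d : ℤ) (hd : -(n : ℤ) ≤ d) (hd' : d < 0)
    (N : (Spec (CommRingCat.of R)).Modules) (hN : N.IsQuasicoherent)
    (s : Γ(CohB1.tensorMod ((Scheme.Modules.pullback (CohB1.ProjSpace.toSpec n R)).obj N)
      (Twist.twistProjSpace n R d), ⊤)) : s = 0 := by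
  haveI := hN
  obtain ⟨I, p, hp⟩ := Groth.Agent.S10869.gg_of_isAffine N
  haveI : (SheafOfModules.free (R := (Spec (CommRingCat.of R)).ringCatSheaf) I).IsQuasicoherent :=
    inferInstance
  let p' : (SheafOfModules.free I : (Spec (CommRingCat.of R)).Modules) ⟶ N := p
  haveI : Epi p' := hp
  have hK : (kernel p').IsQuasicoherent :=
    Groth.Agent.Lib.Helper23.QCohLocal.isQuasicoherent_kernel p'
  let S₀ : ShortComplex (Spec (CommRingCat.of R)).Modules :=
    ShortComplex.mk (kernel.ι p') p' (kernel.condition p')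
  have hS₀ : S₀.ShortExact :=
    { exact := ShortComplex.exact_of_f_is_kernel _ (kernelIsKernel p')
      mono_f := (inferInstance : Mono (kernel.ι p'))
      epi_g := hp }
  haveI : Smooth (CohB1.ProjSpace.toSpec n R) :=
    Groth.Agent.Lib.Helper27ChartPoly.smooth_projSpace_toSpec n R
  have hS₁ := Groth.Agent.Lib.Helper27RelRegD.shortExact_map_pullback_of_flat
    (CohB1.ProjSpace.toSpec n R) S₀ hS₀
  have hS₂ := shortExact_tw (Twist.twistProjSpace n R d)
    (Groth.Agent.Lib.Helper27SerreVanPn.isInvertible_twist n R d) _ hS₁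
  have h1 : Subsingleton (Coh.HH (CohB1.ProjSpace n R)
      ((S₀.map (Scheme.Modules.pullback (CohB1.ProjSpace.toSpec n R))).map
        (tw (Twist.twistProjSpace n R d))).X₁ 1) :=
    Groth.Agent.Lib.Helper27RelRegD.subsingleton_HH_pullback_twist n R d hd 1 le_rfl (kernel p') hK
  have hsurj := Groth.Agent.Lib.Helper27ResChase.surjective_app_top_of_shortExact _ hS₂ h1
  obtain ⟨s', rfl⟩ := hsurj s
  -- the middle term has no global sections
  let L : (CohB1.ProjSpace n R).Modules := Twist.twistProjSpace n R d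
  haveI : PreservesColimitsOfShape (Discrete I) (tw L) :=
    Groth.Agent.Lib.Helper21.ModTensor3.tR_preservesColimitsOfShape
      (CohB1.ProjSpace n R).sheaf L (Discrete I)
  have e0 : CohB1.tensorMod ((Scheme.Modules.pullback (CohB1.ProjSpace.toSpec n R)).obj
      (SheafOfModules.free I)) L ≅
      CohB1.tensorMod (∐ fun _ : I => Coh.structureModule (CohB1.ProjSpace n R)) L :=
    PicGrp.tensorModIso
      (Groth.Agent.Lib.LeadPicFF.pullbackFreeIso' (CohB1.ProjSpace.toSpec n R) I) (Iso.refl _)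
  have e1 : (tw L).obj (∐ fun _ : I => Coh.structureModule (CohB1.ProjSpace n R)) ≅
      ∐ fun _ : I => (tw L).obj (Coh.structureModule (CohB1.ProjSpace n R)) :=
    PreservesCoproduct.iso (tw L) (fun _ : I => Coh.structureModule (CohB1.ProjSpace n R))
  have e2 : (∐ fun _ : I => (tw L).obj (Coh.structureModule (CohB1.ProjSpace n R))) ≅
      ∐ fun _ : I => L :=
    Sigma.mapIso (fun _ => Groth.Agent.Lib.Helper23.TensorUnit.unitTensorIso L)
  let e := e0 ≪≫ e1 ≪≫ e2
  haveI : CompactSpace (CohB1.ProjSpace n R) := Groth.Agent.Lib.Helper27PnAmple.compactSpace n R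
  have hL : ∀ t : Γ(L, ⊤), t = 0 := fun t =>
    eq_zero_of_subsingleton_HH_zero L
      (Groth.Agent.Lib.Helper27PnCohVanish.subsingleton_HH n R d 0 (fun h => by omega)
        (fun h => by omega)) t
  have h0 : e.hom.app ⊤ s' = 0 := sigma_section_eq_zero I L hL _
  have h2 : (e.hom ≫ e.inv).app ⊤ s' = s' := by
    rw [Iso.hom_inv_id]
    rfl
  have h3 : s' = 0 := by
    rw [← h2, Scheme.Modules.Hom.comp_app]
    change e.inv.app ⊤ (e.hom.app ⊤ s') = 0
    rw [h0, map_zero]
  rw [h3]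
  exact map_zero _

end DegZero

section VB

variable (n : ℕ) (Y : Scheme.{u}) [IsNoetherian Y] (F : (KRR.PY n Y).Modules)
  (hF : FlatMod.IsFinLocFree F) (hreg : KRR.IsRegSheaf n Y F)

include hF in
theorem isQCoh_of_vb : Coh.IsQCoh F :=
  (Groth.Agent.Lib.Helper21.HZB.isCoh_of_isFinLocFree F hF).1

include hF hreg in
theorem fk_vb : ∀ k, FlatMod.IsFinLocFree (Fk n Y F k)
  | 0 => hF
  | k + 1 => by
    have hk := fk_vb k
    obtain ⟨hq, hr⟩ := fk_props n Y F (isQCoh_of_vb n Y F hF) hreg k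
    have hT := Groth.Agent.Lib.Helper27RelRegF.isFinLocFree_push_of_isRegSheaf n Y _ hk hr
    have hpT := Groth.Agent.Lib.Helper1.Sky.isFinLocFree_pullback (KRR.pr n Y) _ hT
    haveI : Epi (eps n Y (Fk n Y F k)) :=
      Groth.Agent.Lib.Helper27RelRegB.epi_counit_of_isRegSheaf n Y _ hq hr
    have hZ := Groth.Agent.Lib.Helper1.SPL.isFinLocFree_kernel (eps n Y (Fk n Y F k)) hpT hk
    exact Groth.Agent.Lib.Helper27RegClass.isFinLocFree_twF n Y 1 hZ

include hF hreg in
theorem tk_vb (k : ℕ) :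
    FlatMod.IsFinLocFree ((Scheme.Modules.pushforward (KRR.pr n Y)).obj (Fk n Y F k)) :=
  Groth.Agent.Lib.Helper27RelRegF.isFinLocFree_push_of_isRegSheaf n Y _ (fk_vb n Y F hF hreg k)
    (fk_props n Y F (isQCoh_of_vb n Y F hF) hreg k).2

end VB

end Groth.Agent.Lib.Helper27QResBC2
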