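import Groth.Agent.Lib.Helper27NNRegA
import Groth.Agent.Lib.Helper27QResBC2
import Groth.Agent.Lib.Helper1Sky9

/-!
# Regular twists of finite locally free modules on `P^n_Y`, `Y` quasi-compact (helper27)

* `isZero_of_subsingleton_basis`, `isZero_RpushAb_of_basis` : vanishing of `R^i f_* M` can be checked
  on a basis of affine opens of the base.
* `subsingleton_HE_of_restrict` : `H^i(p⁻¹V, M) = 0` for affine `V ≤ U` from the vanishing of
  `R^i (p_U)_*` of the restriction of `M` to `P^n_U`.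
* `exists_isRegSheaf_twF_vb` : for `Y` quasi-compact and `F` finite locally free on `P^n_Y`, some twist
  `F(k)` is regular. No Noetherian hypothesis.
-/

set_option autoImplicit false
universe u

open CategoryTheory CategoryTheory.Limits AlgebraicGeometry TopologicalSpace Opposite

namespace Groth.Agent.Lib.Helper27NNRegB

open Groth.Agent.Lib.Helper17 Groth.Agent.Lib.Helper23.AffVanish Groth.Agent.Lib.Helper17.LerayTop
  Groth.Agent.Lib.Helper17.BCVan Groth.Agent.Lib.Helper17.TwistBC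
  Groth.Agent.Helper18KRR Groth.Agent.Lib.Helper27RelRegA Groth.Agent.Lib.Helper27RegClass
  Groth.Agent.Lib.Helper27ProjOverBC Groth.Agent.Lib.Helper27QResBC2

/-- an abelian sheaf on a scheme without nonzero sections over a basis of opens is zero. -/
theorem isZero_of_subsingleton_basis {Y : Scheme.{u}}
    (F : Sheaf (Opens.grothendieckTopology Y) AddCommGrpCat.{u}) (𝓑 : Set Y.Opens)
    (hB : Opens.IsBasis 𝓑)
    (h : ∀ V ∈ 𝓑, Subsingleton (F.obj.obj (op V))) : IsZero F := by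
  have hall : ∀ (U : Y.Opens) (s : F.obj.obj (op U)), s = 0 := by
    intro U s
    refine TopCat.Sheaf.eq_of_locally_eq' (F := F)
      (fun i : {W : Y.Opens // W ∈ 𝓑 ∧ W ≤ U} => i.1) U (fun i => homOfLE i.2.2) ?_ s 0 ?_
    · intro x hx
      obtain ⟨W, hW, hxW, hWU⟩ := (Opens.isBasis_iff_nbhd.mp hB) hx
      exact Opens.mem_iSup.2 ⟨⟨W, hW, hWU⟩, hxW⟩
    · intro i
      haveI := h i.1 i.2.1
      exact Subsingleton.elim _ _
  rw [IsZero.iff_id_eq_zero]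
  apply Sheaf.hom_ext
  ext U s
  exact hall _ _

/-- `R^i f_* M = 0` if `H^i(f⁻¹V, M) = 0` for `V` in a basis of affine opens of the base. -/
theorem isZero_RpushAb_of_basis {X S : Scheme.{u}} (f : X ⟶ S) [QuasiCompact f]
    [QuasiSeparated f] (M : X.Modules) [Coh.IsQCoh M] (i : ℕ) (𝓑 : Set S.Opens)
    (hB : Opens.IsBasis 𝓑) (hA : ∀ V ∈ 𝓑, IsAffineOpen V)
    (h : ∀ V ∈ 𝓑, Subsingleton (HE (ab' M) i (f ⁻¹ᵁ V))) :
    IsZero ((Coh.RpushAb f i).obj (Coh.toAb M)) := by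
  refine isZero_of_subsingleton_basis _ 𝓑 hB (fun V hV => ?_)
  obtain ⟨e⟩ := nonempty_HE_preimage_iso f M (hA V hV) i
  haveI := h V hV
  haveI : Subsingleton (HE ((Coh.RpushAb f i).obj (Coh.toAb M)) 0 V) :=
    e.symm.addCommGroupIsoToAddEquiv.toEquiv.subsingleton
  exact (h0Equiv ((Coh.RpushAb f i).obj (Coh.toAb M)) V).symm.toEquiv.subsingleton

variable (n : ℕ) {Y : Scheme.{u}}

theorem bcOver_eq_projSpaceMap {T S : Scheme.{u}} (g : T ⟶ S) :
    bcOver n g = KRR.projSpaceMap n g := by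
  apply pullback.hom_ext
  · exact (bcOver_fst n g).trans (psi_fst n g).symm
  · exact (bcOver_toBase n g).trans (psi_pr n g).symm

/-- the range of `P^n_U ⟶ P^n_Y` is the preimage of `U`. -/
theorem opensRange_bcOver_ι (U : Y.Opens) :
    (bcOver n U.ι).opensRange = CohB1.ProjSpaceOver.toBase n Y ⁻¹ᵁ U := by
  ext x
  have h1 := isPullback_bcOver n U.ι
  have h2 : Set.range (bcOver n U.ι).base =
      (CohB1.ProjSpaceOver.toBase n Y).base ⁻¹' Set.range U.ι.base := by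
    have hfst : h1.isoPullback.hom ≫ pullback.fst _ _ = bcOver n U.ι := h1.isoPullback_hom_fst
    rw [← hfst, Scheme.Hom.comp_base, TopCat.coe_comp, Set.range_comp,
      Set.range_eq_univ.2 (ConcreteCategory.bijective_of_isIso h1.isoPullback.hom.base).2,
      Set.image_univ, Scheme.Pullback.range_fst]
  have h3 : Set.range U.ι.base = (U : Set Y) := Scheme.Opens.range_ι U
  change x ∈ Set.range (bcOver n U.ι).base ↔ _
  rw [h2, h3]
  rfl

theorem opensRange_chart_comp (U V : Y.Opens) (hVU : V ≤ U) (hV' : IsAffineOpen (U.ι ⁻¹ᵁ V)) :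
    (chartOver n hV' ≫ bcOver n U.ι).opensRange = CohB1.ProjSpaceOver.toBase n Y ⁻¹ᵁ V := by
  rw [Scheme.Hom.opensRange_comp, opensRange_chartOver n hV']
  have h1 : CohB1.ProjSpaceOver.toBase n (↑U : Scheme.{u}) ⁻¹ᵁ (U.ι ⁻¹ᵁ V) =
      bcOver n U.ι ⁻¹ᵁ (CohB1.ProjSpaceOver.toBase n Y ⁻¹ᵁ V) := by
    rw [← Scheme.Hom.comp_preimage, ← Scheme.Hom.comp_preimage, bcOver_toBase]
  rw [h1, Scheme.Hom.image_preimage_eq_opensRange_inf, opensRange_bcOver_ι]
  apply le_antisymm inf_le_right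
  refine le_inf ?_ le_rfl
  intro x hx
  exact hVU hx

/-- vanishing over `p⁻¹V`, `V ≤ U` affine, from vanishing of `R^i` over `U`. -/
theorem subsingleton_HE_of_restrict (U V : Y.Opens) (hVU : V ≤ U) (hV : IsAffineOpen V)
    (M : (KRR.PY n Y).Modules) [Coh.IsQCoh M] (i : ℕ)
    (h : IsZero ((Coh.RpushAb (KRR.pr n (↑U : Scheme.{u})) i).obj
      (Coh.toAb ((Scheme.Modules.pullback (bcOver n U.ι)).obj M)))) :
    Subsingleton (HE (ab' M) i (CohB1.ProjSpaceOver.toBase n Y ⁻¹ᵁ V)) := by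
  have hV' : IsAffineOpen (U.ι ⁻¹ᵁ V) :=
    hV.preimage_of_isOpenImmersion U.ι (by rw [Scheme.Opens.opensRange_ι]; exact hVU)
  haveI : Coh.IsQCoh ((Scheme.Modules.pullback (bcOver n U.ι)).obj M) :=
    Groth.Agent.Lib.Helper2.PullbackSec.isQuasicoherent_pullback _ _
  have h1 := (isZero_RpushAb_iff n (↑U : Scheme.{u}) _ i).1 h _ hV'
  have h2 := subsingleton_HE_opensRange (chartOver n hV' ≫ bcOver n U.ι) M _
    ((Scheme.Modules.pullbackComp (chartOver n hV') (bcOver n U.ι)).symm.app M) i h1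
  rw [opensRange_chart_comp n U V hVU hV'] at h2
  exact h2

/-- `(F|_{P^n_U})(d) ≅ (F(d))|_{P^n_U}`. -/
noncomputable def bcTwF {T S : Scheme.{u}} (g : T ⟶ S) (d : ℤ) (X : (KRR.PY n S).Modules) :
    (Scheme.Modules.pullback (bcOver n g)).obj (KRR.twF n S d X) ≅
      KRR.twF n T d ((Scheme.Modules.pullback (bcOver n g)).obj X) :=
  (Scheme.Modules.pullbackCongr (bcOver_eq_projSpaceMap n g)).app _ ≪≫ psiTwF n g d X ≪≫
    (DCoh.tensorBi.obj (Twist.twistOver n T d)).mapIso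
      ((Scheme.Modules.pullbackCongr (bcOver_eq_projSpaceMap n g)).symm.app X)

/-- **some twist of a finite locally free module on `P^n_Y`, `Y` quasi-compact, is regular.** -/
theorem exists_isRegSheaf_twF_vb [CompactSpace Y] (F : (KRR.PY n Y).Modules)
    (hF : FlatMod.IsFinLocFree F) : ∃ k : ℕ, KRR.IsRegSheaf n Y (KRR.twF n Y (k : ℤ) F) := by
  classical
  -- a finite affine cover of `Y`
  obtain ⟨T, hT⟩ : ∃ T : Finset Y.affineOpens, ∀ y : Y, ∃ V ∈ T, y ∈ V.1 := by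
    have hcov : ∀ y : Y, ∃ V : Y.affineOpens, y ∈ V.1 := by
      intro y
      obtain ⟨V, hV, hyV, -⟩ := Opens.isBasis_iff_nbhd.1 Y.isBasis_affineOpens (Opens.mem_top y)
      exact ⟨⟨V, hV⟩, hyV⟩
    choose V hV using hcov
    obtain ⟨T₀, hT₀⟩ : ∃ T₀ : Finset Y, (Set.univ : Set Y) ⊆ ⋃ y ∈ T₀, ((V y).1 : Set Y) :=
      isCompact_univ.elim_finite_subcover (fun y => ((V y).1 : Set Y)) (fun y => (V y).1.2)
        (fun y _ => Set.mem_iUnion.2 ⟨y, hV y⟩)
    refine ⟨T₀.image V, fun y => ?_⟩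
    obtain ⟨y₀, hy₀⟩ := Set.mem_iUnion.1 (hT₀ (Set.mem_univ y))
    obtain ⟨hy₀T, hyy₀⟩ := Set.mem_iUnion.1 hy₀
    exact ⟨V y₀, Finset.mem_image_of_mem V hy₀T, hyy₀⟩
  -- regular twists over each member of the cover
  have key : ∀ U : Y.affineOpens, ∃ k : ℕ, KRR.IsRegSheaf n (↑U.1 : Scheme.{u})
      (KRR.twF n (↑U.1 : Scheme.{u}) (k : ℤ) ((Scheme.Modules.pullback (bcOver n U.1.ι)).obj F)) := by
    intro U
    haveI : IsAffine (↑U.1 : Scheme.{u}) := U.2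
    exact Groth.Agent.Lib.Helper27NNRegA.exists_isRegSheaf_twF_vb n _ _
      (Groth.Agent.Lib.Helper1.Sky.isFinLocFree_pullback _ F hF)
  choose kU hkU using key
  refine ⟨T.sup kU, fun i hi => ?_⟩
  have hq : Coh.IsQCoh F := isQCoh_of_isFinLocFree n Y hF
  haveI : Coh.IsQCoh (KRR.twF n Y (-(i : ℤ)) (KRR.twF n Y ((T.sup kU : ℕ) : ℤ) F)) :=
    isQCoh_twF n Y _ _ (isQCoh_twF n Y _ F hq)
  haveI := Groth.Agent.Lib.Helper27ProjSpaceFibres.isProper_toBase n Y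
  refine isZero_RpushAb_of_basis (KRR.pr n Y) _ i
    {V : Y.Opens | IsAffineOpen V ∧ ∃ U ∈ T, V ≤ U.1} ?_ (fun V hV => hV.1) ?_
  · rw [Opens.isBasis_iff_nbhd]
    intro W y hyW
    obtain ⟨U, hUT, hyU⟩ := hT y
    obtain ⟨V, hV, hyV, hVW⟩ := Opens.isBasis_iff_nbhd.1 Y.isBasis_affineOpens
      (show y ∈ W ⊓ U.1 from ⟨hyW, hyU⟩)
    exact ⟨V, ⟨hV, U, hUT, hVW.trans inf_le_right⟩, hyV, hVW.trans inf_le_left⟩
  · rintro V ⟨hV, U, hUT, hVU⟩
    refine subsingleton_HE_of_restrict n U.1 V hVU hV _ i ?_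
    -- the restriction of `F(k)(-i)` to `P^n_U` is `F_U(k)(-i)`, and `F_U(k)` is regular
    set FU := (Scheme.Modules.pullback (bcOver n U.1.ι)).obj F with hFU
    have hqU : Coh.IsQCoh FU := Groth.Agent.Lib.Helper2.PullbackSec.isQuasicoherent_pullback _ _
    have hle : kU U ≤ T.sup kU := Finset.le_sup hUT
    obtain ⟨d, hd⟩ : ∃ d : ℕ, T.sup kU = kU U + d := ⟨T.sup kU - kU U, by omega⟩
    have hreg1 := isRegSheaf_twF n (↑U.1 : Scheme.{u}) _ (isQCoh_twF n _ _ FU hqU) (hkU U) d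
    obtain ⟨e1⟩ := nonempty_twF_twF_iso n (↑U.1 : Scheme.{u}) (d : ℤ) (kU U : ℤ)
      ((T.sup kU : ℕ) : ℤ) (by rw [hd]; push_cast; ring) FU
    have hreg2 : KRR.IsRegSheaf n (↑U.1 : Scheme.{u})
        (KRR.twF n (↑U.1 : Scheme.{u}) ((T.sup kU : ℕ) : ℤ) FU) :=
      Groth.Agent.Lib.Helper27ProjFormK.isRegSheaf_of_iso n _ e1 hreg1
    have e2 : (Scheme.Modules.pullback (bcOver n U.1.ι)).obj
        (KRR.twF n Y (-(i : ℤ)) (KRR.twF n Y ((T.sup kU : ℕ) : ℤ) F)) ≅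
        KRR.twF n (↑U.1 : Scheme.{u}) (-(i : ℤ))
          (KRR.twF n (↑U.1 : Scheme.{u}) ((T.sup kU : ℕ) : ℤ) FU) :=
      bcTwF n U.1.ι _ _ ≪≫
        (DCoh.tensorBi.obj (Twist.twistOver n (↑U.1 : Scheme.{u}) (-(i : ℤ)))).mapIso
          (bcTwF n U.1.ι _ F)
    exact IsZero.of_iso (hreg2 i hi)
      ((Coh.RpushAb (KRR.pr n (↑U.1 : Scheme.{u})) i).mapIso
        ((SheafOfModules.toSheaf _).mapIso e2))

end Groth.Agent.Lib.Helper27NNRegB
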