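import Groth.Agent.Lib.Helper27RegK0
import Groth.Agent.Lib.Helper27NNRegB
import Groth.Agent.Lib.Helper27NNPushB
import Groth.Agent.Lib.Helper27AmpleElt

/-!
# `K₀` of the regular finite locally free modules on `P^n_Y`, `Y` quasi-compact (no Noetherian
hypothesis), and the push-forward `p_K : Kvb (P^n_Y) → Kvb Y` (helper27)

Copies of the Noetherian `Helper27RegK0.rho`, `Helper27PushPrK.pushReg` with the Noetherian inputs
replaced by `Helper27NNRegB.exists_isRegSheaf_twF_vb` and `Helper27NNPushB.isFinLocFree_push_of_isRegSheaf`.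
-/

set_option autoImplicit false
universe u

open CategoryTheory CategoryTheory.Limits AlgebraicGeometry TopologicalSpace Opposite

namespace Groth.Agent.Lib.Helper27NNK0

open Groth.Agent.Helper18KRR Groth.Agent.Lib.Helper27RegClass Groth.Agent.Lib.Helper27RegKosz
  Groth.Agent.Lib.Helper27K0Gen Groth.Agent.Lib.Helper17.K0a KZero Groth.Agent.Lib.Helper27RegK0
  Groth.Agent.Lib.Helper27AmpleElt Groth.Agent.Lib.Helper27PushAcyc

variable (n : ℕ) (Y : Scheme.{u})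

section Push

/-- `[F] ↦ [p_* F]` on `K₀` of the regular finite locally free modules (any base). -/
noncomputable def pushReg : K0sub (Rk n Y 0) →+ SGA6.Kvb Y :=
  liftK (Rk n Y 0)
    (fun F => KRR.cl Y ((Scheme.Modules.pushforward (KRR.pr n Y)).obj F)) (by
    intro S hS h₁ h₂ h₃
    have hS' := shortExact_map_push S hS (isQCoh_of_isFinLocFree n Y h₁.1)
      (isQCoh_of_isFinLocFree n Y h₂.1) (isQCoh_of_isFinLocFree n Y h₃.1)
      (Groth.Agent.Lib.Helper27RelRegA.isZero_RpushAb_of_isRegSheaf n Y S.X₁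
        (isQCoh_of_isFinLocFree n Y h₁.1) h₁.2 1 le_rfl)
    exact cl_shortExact _ hS'
      (Groth.Agent.Lib.Helper27NNPushB.isFinLocFree_push_of_isRegSheaf n Y _ h₁.1 h₁.2)
      (Groth.Agent.Lib.Helper27NNPushB.isFinLocFree_push_of_isRegSheaf n Y _ h₂.1 h₂.2)
      (Groth.Agent.Lib.Helper27NNPushB.isFinLocFree_push_of_isRegSheaf n Y _ h₃.1 h₃.2))

theorem pushReg_clSub (F : (KRR.PY n Y).Modules) (hF : FlatMod.IsFinLocFree F)
    (hreg : KRR.IsRegSheaf n Y F) :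
    pushReg n Y (clSub (Rk n Y 0) F) =
      KRR.cl Y ((Scheme.Modules.pushforward (KRR.pr n Y)).obj F) :=
  liftK_clSub (Rk n Y 0) _ _ F ⟨hF, hreg⟩

end Push

variable [CompactSpace Y]

theorem exists_rk (F : (KRR.PY n Y).Modules) (hF : FlatMod.IsFinLocFree F) :
    ∃ k : ℕ, Rk n Y k F := by
  obtain ⟨k, hk⟩ := Groth.Agent.Lib.Helper27NNRegB.exists_isRegSheaf_twF_vb n F hF
  exact ⟨k, (rk_iff n Y k F).2 ⟨hF, hk⟩⟩

open Classical in
/-- the value of `rho` on a module. -/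
noncomputable def rhoVal (F : (KRR.PY n Y).Modules) : K0sub (Rk n Y 0) :=
  if h : FlatMod.IsFinLocFree F then
    Tk n Y (Classical.choose (exists_rk n Y F h))
      (clSub (Rk n Y (Classical.choose (exists_rk n Y F h))) F)
  else 0

theorem rhoVal_eq (F : (KRR.PY n Y).Modules) (k : ℕ) (hk : Rk n Y k F) :
    rhoVal n Y F = Tk n Y k (clSub (Rk n Y k) F) := by
  unfold rhoVal
  rw [dif_pos hk.1]
  exact Tk_clSub_eq n Y F (Classical.choose_spec (exists_rk n Y F hk.1)) hk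

/-- `Kvb → K₀(R_0)`. -/
noncomputable def rho : SGA6.Kvb (KRR.PY n Y) →+ K0sub (Rk n Y 0) :=
  liftK (KRR.vbP (KRR.PY n Y)) (rhoVal n Y) (by
    intro S hS h₁ h₂ h₃
    obtain ⟨k₁, hk₁⟩ := exists_rk n Y S.X₁ h₁
    obtain ⟨k₂, hk₂⟩ := exists_rk n Y S.X₂ h₂
    obtain ⟨k₃, hk₃⟩ := exists_rk n Y S.X₃ h₃
    have m₁ : Rk n Y (k₁ + k₂ + k₃) S.X₁ := rk_le n Y (by omega) hk₁
    have m₂ : Rk n Y (k₁ + k₂ + k₃) S.X₂ := rk_le n Y (by omega) hk₂
    have m₃ : Rk n Y (k₁ + k₂ + k₃) S.X₃ := rk_le n Y (by omega) hk₃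
    rw [rhoVal_eq n Y _ _ m₁, rhoVal_eq n Y _ _ m₂, rhoVal_eq n Y _ _ m₃, ← map_add]
    exact congrArg _ (clSub_shortExact (Rk n Y (k₁ + k₂ + k₃)) S hS m₁ m₂ m₃))

theorem rho_cl (F : (KRR.PY n Y).Modules) (hF : FlatMod.IsFinLocFree F) :
    rho n Y (KRR.cl (KRR.PY n Y) F) = rhoVal n Y F :=
  liftK_clSub (KRR.vbP (KRR.PY n Y)) _ _ F hF

theorem rho_toVb (x : K0sub (Rk n Y 0)) : rho n Y (toVb n Y 0 x) = x := by
  have h : (rho n Y).comp (toVb n Y 0) = AddMonoidHom.id _ :=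
    hom_ext_clSub (Rk n Y 0) _ _ (fun F hF => by
      rw [AddMonoidHom.comp_apply, toVb_clSub n Y 0 F hF, rho_cl n Y F hF.1,
        rhoVal_eq n Y F 0 hF]
      rfl)
  exact DFunLike.congr_fun h x

theorem toVb_rho (y : SGA6.Kvb (KRR.PY n Y)) : toVb n Y 0 (rho n Y y) = y := by
  have h : (toVb n Y 0).comp (rho n Y) = AddMonoidHom.id _ :=
    hom_ext_clSub (KRR.vbP (KRR.PY n Y)) _ _ (fun F hF => by
      obtain ⟨k, hk⟩ := exists_rk n Y F hF
      have h1 : rho n Y (clSub (KRR.vbP (KRR.PY n Y)) F) = rhoVal n Y F := rho_cl n Y F hF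
      rw [AddMonoidHom.comp_apply, h1, rhoVal_eq n Y F k hk, toVb_Tk, toVb_clSub n Y k F hk]
      rfl)
  exact DFunLike.congr_fun h y

/-- **Quillen**: `K₀` of the regular finite locally free modules on `P^n_Y` is `Kvb (P^n_Y)`, for
`Y` quasi-compact. -/
theorem bijective_toVb_zero : Function.Bijective (toVb n Y 0) :=
  ⟨Function.LeftInverse.injective (rho_toVb n Y), Function.RightInverse.surjective (toVb_rho n Y)⟩

/-- the push-forward `p_K : Kvb (P^n_Y) → Kvb Y`. -/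
noncomputable def pushK : SGA6.Kvb (KRR.PY n Y) →+ SGA6.Kvb Y := (pushReg n Y).comp (rho n Y)

theorem pushK_cl (F : (KRR.PY n Y).Modules) (hF : FlatMod.IsFinLocFree F)
    (hreg : KRR.IsRegSheaf n Y F) :
    pushK n Y (KRR.cl (KRR.PY n Y) F) =
      KRR.cl Y ((Scheme.Modules.pushforward (KRR.pr n Y)).obj F) := by
  change pushReg n Y (rho n Y (KRR.cl (KRR.PY n Y) F)) = _
  rw [rho_cl n Y F hF, rhoVal_eq n Y F 0 ⟨hF, hreg⟩]
  exact pushReg_clSub n Y F hF hreg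

end Groth.Agent.Lib.Helper27NNK0
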