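import Groth.Agent.Lib.Helper27KoszPush
import Groth.Agent.Lib.Helper27NNPushB

/-!
# The class of `p_* O(m)` on `P^n_Y`, any base (helper27)

Copy of the Noetherian part of `Helper27KoszPush` with `isFinLocFree_push_of_acyc` replaced by the
general `Helper27NNPushB.isFinLocFree_push_of_acyc`.

* `cl_push_twistOver` : `[p_* O(m)] = C(n+m,n) • [O_Y]` for `m ≥ 0`.
-/

set_option autoImplicit false
universe u

open CategoryTheory CategoryTheory.Limits AlgebraicGeometry TopologicalSpace Opposite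

namespace Groth.Agent.Lib.Helper27NNKoszPush

open Groth.Agent.Lib.Helper27PnHom Groth.Agent.Lib.Helper27KoszPn Groth.Agent.Lib.Helper27KoszCx
  Groth.Agent.Lib.Helper27KoszReg Groth.Agent.Lib.Helper27ResChase
  Groth.Agent.Lib.Helper27AmpleElt Groth.Agent.Lib.Helper27KClass Groth.Agent.Lib.Helper27KoszVb
  Groth.Agent.Lib.Helper27PushAcyc Groth.Agent.Helper18KRR Groth.Agent.Lib.Helper27KoszPush

variable (n : ℕ) (Y : Scheme.{u})

local notation "𝒢" => CohB1.polyGrading n RZ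

theorem isFinLocFree_push_twistOver (t : ℤ) (ht : -(n : ℤ) ≤ t) :
    FlatMod.IsFinLocFree ((pS n Y).obj (Twist.twistOver n Y t)) :=
  Groth.Agent.Lib.Helper27NNPushB.isFinLocFree_push_of_acyc n Y _
    (Groth.Agent.Lib.Helper23.ResProp.isFinLocFree_of_isInvertible _ (isInvertible_twistOver n Y t))
    (acyc_twistOver t ht)

theorem cl_push_KK (i : ℕ) (t : ℤ) (ht : -(n : ℤ) ≤ t) :
    KRR.cl Y ((pS n Y).obj ((fS n Y).obj (KK n RZ i t))) =
      (Nat.choose (n + 1) i) • KRR.cl Y ((pS n Y).obj (Twist.twistOver n Y t)) := by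
  have e : (pS n Y).obj ((fS n Y).obj (KK n RZ i t)) ≅
      ∐ fun _ : Fin (Nat.choose (n + 1) i) => (pS n Y).obj ((fS n Y).obj (OO n RZ t)) :=
    sigmaConstIso (fS n Y ⋙ pS n Y) (OO n RZ t) _
  have hvb : FlatMod.IsFinLocFree ((pS n Y).obj ((fS n Y).obj (OO n RZ t))) := by
    rw [fS_OO]
    exact isFinLocFree_push_twistOver n Y t ht
  have hvb' : FlatMod.IsFinLocFree ((pS n Y).obj ((fS n Y).obj (KK n RZ i t))) :=
    Groth.Agent.Lib.Helper26.ModLocFree.isFinLocFree_of_iso e.symm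
      (isFinLocFree_sigma_const _ hvb _)
  rw [cl_of_iso e hvb', cl_sigma_const _ hvb, fS_OO]

variable (a : ℤ)

/-- **the pushed-forward Koszul relation.** -/
theorem push_koszul_relation (ha : -(n : ℤ) ≤ a) :
    (Finset.range (n + 2)).sum (fun i => ((-1 : ℤ) ^ i * ((n + 1).choose i : ℤ)) •
      KRR.cl Y ((pS n Y).obj (Twist.twistOver n Y (a + i)))) = 0 := by
  have hacZ := acyc_fS_Z n Y a ha
  have hvbZ : ∀ j, j ≤ n + 2 → FlatMod.IsFinLocFree
      ((pS n Y).obj ((fS n Y).obj (Z (Kx n RZ a) (dK n RZ a) j))) := fun j hj =>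
    Groth.Agent.Lib.Helper27NNPushB.isFinLocFree_push_of_acyc n Y _
      (isFinLocFree_fS n Y _ (isFinLocFree_ZK n RZ a j hj)) (hacZ j hj)
  have hvbK : ∀ j, FlatMod.IsFinLocFree ((pS n Y).obj ((fS n Y).obj (Kx n RZ a j))) := fun j =>
    Groth.Agent.Lib.Helper27NNPushB.isFinLocFree_push_of_acyc n Y _
      (isFinLocFree_fS n Y _ (isFinLocFree_KK n RZ j _))
      (acyc_fS_KK n Y j _ (by omega))
  have h := telescope_of_add (Kx n RZ a) (dK n RZ a)
    (fun M => KRR.cl Y ((pS n Y).obj ((fS n Y).obj M))) (n + 2)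
    (fun i hi => by
      have hS := shortExact_fS n Y _ (sesK_shortExact n RZ a i)
        (isFinLocFree_ZK n RZ a (i + 1) (by omega))
      have hS' := shortExact_map_push _ hS
        (isQCoh_fS n Y _ (isFinLocFree_ZK n RZ a i (by omega)))
        (isQCoh_fS n Y _ (isFinLocFree_KK n RZ i _))
        (isQCoh_fS n Y _ (isFinLocFree_ZK n RZ a (i + 1) (by omega)))
        (hacZ i (by omega) 1 le_rfl)
      exact cl_shortExact _ hS' (hvbZ i (by omega)) (hvbK i) (hvbZ (i + 1) (by omega)))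
    (cl_of_isZero ((pS n Y).map_isZero ((fS n Y).map_isZero (isZero_Z_zero n RZ a))))
    (cl_of_isZero ((pS n Y).map_isZero ((fS n Y).map_isZero (isZero_Z_top n RZ a))))
  rw [← h]
  refine Finset.sum_congr rfl (fun i _ => ?_)
  rw [cl_push_KK n Y i _ (by omega), mul_smul, natCast_zsmul]

/-- `w k = [p_* O(k - n)]`. -/
noncomputable def wcl (k : ℕ) : SGA6.Kvb Y :=
  KRR.cl Y ((pS n Y).obj (Twist.twistOver n Y ((k : ℤ) - n)))

theorem isRec_wcl : IsRec n (wcl n Y) := by
  intro b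
  have h := push_koszul_relation n Y ((b : ℤ) - n) (by omega)
  rw [← h]
  refine Finset.sum_congr rfl (fun i _ => ?_)
  unfold wcl
  rw [show ((b + i : ℕ) : ℤ) - n = (b : ℤ) - n + i by push_cast; ring]

theorem wcl_eq (k : ℕ) : wcl n Y k = (k.choose n : ℤ) • KRR.cl Y (Coh.structureModule Y) := by
  refine rec_forward n (wcl n Y) _ (isRec_wcl n Y) (fun k hk => ?_) k
  rcases Nat.lt_or_eq_of_le hk with hlt | rfl
  · rw [Nat.choose_eq_zero_of_lt hlt, Nat.cast_zero, zero_smul]
    unfold wcl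
    exact cl_of_isZero (isZero_push_twistOver _ (by omega) (by omega))
  · rw [Nat.choose_self, Nat.cast_one, one_smul]
    unfold wcl
    rw [sub_self]
    obtain ⟨e0⟩ := nonempty_twistOver_zero_iso k Y
    have hvb := isFinLocFree_push_twistOver k Y 0 (by omega)
    rw [cl_of_iso ((pS k Y).mapIso e0) hvb]
    exact Groth.Agent.Lib.Helper27PushStr.cl_push_structureModule k Y

/-- **`[p_* O(m)] = C(n+m,n) • [O_Y]`** for `m ≥ 0`, any base. -/
theorem cl_push_twistOver (m : ℕ) :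
    KRR.cl Y ((pS n Y).obj (Twist.twistOver n Y (m : ℤ))) =
      ((n + m).choose n) • KRR.cl Y (Coh.structureModule Y) := by
  have h := wcl_eq n Y (n + m)
  unfold wcl at h
  rw [show ((n + m : ℕ) : ℤ) - n = (m : ℤ) by push_cast; ring, natCast_zsmul] at h
  exact h

end Groth.Agent.Lib.Helper27NNKoszPush
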