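import Groth.Agent.Lib.Helper27QResUnit

/-!
# The tower of syzygies of a regular module on `P^n_T` (helper27)

For a regular quasi-coherent `F` on `P^n_T`: `F_0 = F`, `Z_k = ker (p^* p_* F_k ⟶ F_k)`,
`F_{k+1} = Z_k(1)`.

* `fk_props` : all `F_k` are quasi-coherent and regular.
* `chart_claim` : over an affine open `V = Spec B` of `T`, `H^q(P^n_B, Z_k(-q)) = 0` for `q ≤ k`.
* `isZero_Zk` : `Z_n = 0` (so `Z_k = 0`, `F_{k+1} = 0` for all `k ≥ n`).
-/

set_option autoImplicit false
universe u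

open CategoryTheory CategoryTheory.Limits AlgebraicGeometry TopologicalSpace Opposite

namespace Groth.Agent.Lib.Helper27QResTower

open Groth.Agent.Lib.Helper27SerreVan Groth.Agent.Lib.Helper27CohFin
  Groth.Agent.Lib.Helper23.QCohLocal
open Groth.Agent.Lib.Helper17.TwistBC Groth.Agent.Lib.Helper21.ModTensor5
  Groth.Agent.Lib.Helper23.LocGen Groth.Agent.Lib.Helper27RelRegA Groth.Agent.Lib.Helper27RelRegD
  Groth.Agent.Lib.Helper27RelRegE Groth.Agent.Lib.Helper27QResUnit

variable (n : ℕ) (T : Scheme.{u})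

/-- the counit `p^* p_* F ⟶ F`. -/
noncomputable abbrev eps (F : (KRR.PY n T).Modules) :=
  (Scheme.Modules.pullbackPushforwardAdjunction (KRR.pr n T)).counit.app F

/-- the tower `F_0 = F`, `F_{k+1} = ker (p^* p_* F_k ⟶ F_k)(1)`. -/
noncomputable def Fk (F : (KRR.PY n T).Modules) : ℕ → (KRR.PY n T).Modules
  | 0 => F
  | k + 1 => KRR.twF n T 1 (kernel (eps n T (Fk F k)))

theorem isQCoh_push (F : (KRR.PY n T).Modules) (hF : Coh.IsQCoh F) :
    Coh.IsQCoh ((Scheme.Modules.pushforward (KRR.pr n T)).obj F) := by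
  haveI := hF
  haveI := Groth.Agent.Lib.Helper27ProjSpaceFibres.isProper_toBase n T
  exact isQuasicoherent_pushforward _ F

theorem isQCoh_pull_push (F : (KRR.PY n T).Modules) (hF : Coh.IsQCoh F) :
    Coh.IsQCoh ((Scheme.Modules.pullback (KRR.pr n T)).obj
      ((Scheme.Modules.pushforward (KRR.pr n T)).obj F)) := by
  haveI := isQCoh_push n T F hF
  exact Groth.Agent.Lib.Helper2.PullbackSec.isQuasicoherent_pullback _ _

theorem isQCoh_kernel_eps (F : (KRR.PY n T).Modules) (hF : Coh.IsQCoh F) :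
    Coh.IsQCoh (kernel (eps n T F)) := by
  haveI hpE' : ((Scheme.Modules.pushforward (KRR.pr n T) ⋙
      Scheme.Modules.pullback (KRR.pr n T)).obj F).IsQuasicoherent := isQCoh_pull_push n T F hF
  haveI hF' : ((𝟭 (KRR.PY n T).Modules).obj F).IsQuasicoherent := hF
  exact isQuasicoherent_kernel _

theorem fk_props (F : (KRR.PY n T).Modules) (hF : Coh.IsQCoh F) (hreg : KRR.IsRegSheaf n T F) :
    ∀ k, Coh.IsQCoh (Fk n T F k) ∧ KRR.IsRegSheaf n T (Fk n T F k)
  | 0 => ⟨hF, hreg⟩
  | k + 1 => by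
    obtain ⟨h1, h2⟩ := fk_props F hF hreg k
    exact ⟨isQCoh_twF n T 1 _ (isQCoh_kernel_eps n T _ h1),
      isRegSheaf_twF_kernel_counit n T _ h1 h2⟩

/-- the short exact sequence `0 ⟶ Z ⟶ p^* p_* F ⟶ F ⟶ 0` for a regular `F`. -/
noncomputable def ses (F : (KRR.PY n T).Modules) : ShortComplex (KRR.PY n T).Modules :=
  ShortComplex.mk (kernel.ι (eps n T F)) (eps n T F) (kernel.condition _)

theorem ses_shortExact (F : (KRR.PY n T).Modules) (hF : Coh.IsQCoh F)
    (hreg : KRR.IsRegSheaf n T F) : (ses n T F).ShortExact :=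
  { exact := ShortComplex.exact_of_f_is_kernel _ (kernelIsKernel _)
    mono_f := (inferInstance : Mono (kernel.ι _))
    epi_g := Groth.Agent.Lib.Helper27RelRegB.epi_counit_of_isRegSheaf n T F hF hreg }

section Zero

theorem subsingleton_HH_zero {X : Scheme.{u}} (M : X.Modules) (h : ∀ s : Γ(M, ⊤), s = 0) :
    Subsingleton (Coh.HH X M 0) := by
  have hT : Limits.IsTerminal (⊤ : X.Opens) := Limits.isTerminalTop
  refine ⟨fun a b => (Sheaf.H.equiv₀ (Coh.toAb M) hT).injective ?_⟩
  exact (h _).trans (h _).symm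

/-- sections of `ker (p^* p_* F ⟶ F)` over `p⁻¹ V` vanish. -/
theorem kernel_section_eq_zero (F : (KRR.PY n T).Modules) (hF : Coh.IsQCoh F)
    {V : T.Opens} (hV : IsAffineOpen V) (U : (KRR.PY n T).Opens) (hU : U = (KRR.pr n T) ⁻¹ᵁ V)
    (z : Γ(kernel (eps n T F), U)) : z = 0 := by
  subst hU
  apply Groth.Agent.Lib.Helper20.StalkExact.injective_app_of_mono (kernel.ι (eps n T F))
    ((KRR.pr n T) ⁻¹ᵁ V)
  rw [map_zero]
  apply eq_zero_of_counit_app_eq_zero n T F hF hV
  have h1 : (eps n T F).app ((KRR.pr n T) ⁻¹ᵁ V)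
      ((kernel.ι (eps n T F)).app ((KRR.pr n T) ⁻¹ᵁ V) z) =
      (kernel.ι (eps n T F) ≫ eps n T F).app ((KRR.pr n T) ⁻¹ᵁ V) z := rfl
  rw [h1, kernel.condition]
  rfl

/-- global sections of the restriction of `ker (p^* p_* F ⟶ F)` to `P^n_B` vanish. -/
theorem pullback_kernel_section_eq_zero (F : (KRR.PY n T).Modules) (hF : Coh.IsQCoh F)
    {V : T.Opens} (hV : IsAffineOpen V)
    (z : Γ((Scheme.Modules.pullback (chartOver n hV)).obj (kernel (eps n T F)), ⊤)) : z = 0 := by
  let e := (Scheme.Modules.restrictFunctorIsoPullback (chartOver n hV)).app (kernel (eps n T F))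
  have hU : (chartOver n hV) ''ᵁ (⊤ : (CohB1.ProjSpace n Γ(T, V)).Opens) =
      (KRR.pr n T) ⁻¹ᵁ V :=
    (Scheme.Hom.image_top_eq_opensRange (chartOver n hV)).trans (opensRange_chartOver n hV)
  have h0 : e.inv.app ⊤ z = 0 :=
    kernel_section_eq_zero n T F hF hV _ hU (e.inv.app ⊤ z)
  have h1 : (e.inv ≫ e.hom).app ⊤ z = z := by
    rw [Iso.inv_hom_id]
    rfl
  rw [← h1, Scheme.Modules.Hom.comp_app]
  change e.hom.app ⊤ (e.inv.app ⊤ z) = 0
  rw [h0, map_zero]

end Zero


section Chart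

variable (F : (KRR.PY n T).Modules) (hF : Coh.IsQCoh F) (hreg : KRR.IsRegSheaf n T F)

include hF hreg in
/-- **`H^q(P^n_B, Z_k(-q)) = 0` for `q ≤ k`.** -/
theorem chart_claim {V : T.Opens} (hV : IsAffineOpen V) :
    ∀ (q k : ℕ), q ≤ k →
      Subsingleton (Coh.HH (CohB1.ProjSpace n Γ(T, V))
        (CohB1.tensorMod ((Scheme.Modules.pullback (chartOver n hV)).obj
          (kernel (eps n T (Fk n T F k)))) (Twist.twistProjSpace n Γ(T, V) (-(q : ℤ)))) q) := by
  intro q
  induction q with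
  | zero =>
    intro k _
    obtain ⟨e0⟩ := Groth.Agent.Lib.Helper27GlobGenPn.nonempty_OO_zero_iso n Γ(T, V)
    have e0' : Twist.twistProjSpace n Γ(T, V) (-((0 : ℕ) : ℤ)) ≅
        Coh.structureModule (CohB1.ProjSpace n Γ(T, V)) := e0
    refine Groth.Agent.Lib.Helper27PnCohVanish.subsingleton_HH_of_iso
      (PicGrp.tensorModIso (Iso.refl _) e0' ≪≫
        Groth.Agent.Lib.Helper23.TensorUnit.tensorUnitIso _).symm 0 ?_
    exact subsingleton_HH_zero _
      (pullback_kernel_section_eq_zero n T _ (fk_props n T F hF hreg k).1 hV)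
  | succ q ih =>
    intro k hk
    obtain ⟨k', rfl⟩ : ∃ k', k = k' + 1 := ⟨k - 1, by omega⟩
    have hq' : q ≤ k' := by omega
    obtain ⟨hFq, hFr⟩ := fk_props n T F hF hreg (k' + 1)
    obtain ⟨hFq', -⟩ := fk_props n T F hF hreg k'
    have hS := ses_shortExact n T _ hFq hFr
    have hS₁ := shortExact_map_pullback_of_flat (chartOver n hV) _ hS
    have hS₂ := shortExact_tw (Twist.twistProjSpace n Γ(T, V) (-((q + 1 : ℕ) : ℤ)))
      (Groth.Agent.Lib.Helper27SerreVanPn.isInvertible_twist n Γ(T, V) _) _ hS₁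
    -- the right hand term
    have h3 : Subsingleton (Coh.HH (CohB1.ProjSpace n Γ(T, V))
        (((ses n T (Fk n T F (k' + 1))).map (Scheme.Modules.pullback (chartOver n hV))).map
          (tw (Twist.twistProjSpace n Γ(T, V) (-((q + 1 : ℕ) : ℤ))))).X₃ q) := by
      obtain ⟨e2⟩ := nonempty_pullback_twF_iso n T hV 1 (kernel (eps n T (Fk n T F k')))
      obtain ⟨e3⟩ := Groth.Agent.Lib.Helper27SerreVanPn.nonempty_twist_tensor_iso n Γ(T, V)
        1 (-((q + 1 : ℕ) : ℤ))
      have e4 : Twist.twistProjSpace n Γ(T, V) (1 + -((q + 1 : ℕ) : ℤ)) ≅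
          Twist.twistProjSpace n Γ(T, V) (-(q : ℤ)) :=
        eqToIso (by congr 1; push_cast; ring)
      have e2' : (Scheme.Modules.pullback (chartOver n hV)).obj (Fk n T F (k' + 1)) ≅
          CohB1.tensorMod ((Scheme.Modules.pullback (chartOver n hV)).obj
            (kernel (eps n T (Fk n T F k')))) (Twist.twistProjSpace n Γ(T, V) 1) := e2
      refine Groth.Agent.Lib.Helper27PnCohVanish.subsingleton_HH_of_iso
        (PicGrp.tensorModIso e2' (Iso.refl _) ≪≫ tensorAssoc _ _ _ ≪≫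
          PicGrp.tensorModIso (Iso.refl _) (e3 ≪≫ e4)).symm q ?_
      exact ih k' hq'
    -- the middle term
    have hE := isQCoh_push n T _ hFq
    have h2 : Subsingleton (Coh.HH (CohB1.ProjSpace n Γ(T, V))
        (((ses n T (Fk n T F (k' + 1))).map (Scheme.Modules.pullback (chartOver n hV))).map
          (tw (Twist.twistProjSpace n Γ(T, V) (-((q + 1 : ℕ) : ℤ))))).X₂ (q + 1)) := by
      by_cases hni : n < q + 1
      · haveI := isQCoh_pull_push n T _ hFq
        haveI : ((Scheme.Modules.pullback (chartOver n hV)).obj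
            ((Scheme.Modules.pullback (KRR.pr n T)).obj
              ((Scheme.Modules.pushforward (KRR.pr n T)).obj (Fk n T F (k' + 1))))).IsQuasicoherent :=
          Groth.Agent.Lib.Helper2.PullbackSec.isQuasicoherent_pullback _ _
        haveI : (Twist.twistProjSpace n Γ(T, V) (-((q + 1 : ℕ) : ℤ))).IsQuasicoherent :=
          Groth.Agent.Lib.Helper27GrTildeSect.isQuasicoherent_tilde _ _ _
        haveI : Coh.IsQCoh (CohB1.tensorMod ((Scheme.Modules.pullback (chartOver n hV)).obj
            ((Scheme.Modules.pullback (KRR.pr n T)).obj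
              ((Scheme.Modules.pushforward (KRR.pr n T)).obj (Fk n T F (k' + 1)))))
            (Twist.twistProjSpace n Γ(T, V) (-((q + 1 : ℕ) : ℤ)))) :=
          Groth.Agent.Lib.Helper23.TensorQCoh.isQuasicoherent_tensorMod _ _
        exact Groth.Agent.S0022.result n Γ(T, V) (CohB1.tensorMod
          ((Scheme.Modules.pullback (chartOver n hV)).obj
            ((Scheme.Modules.pullback (KRR.pr n T)).obj
              ((Scheme.Modules.pushforward (KRR.pr n T)).obj (Fk n T F (k' + 1)))))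
            (Twist.twistProjSpace n Γ(T, V) (-((q + 1 : ℕ) : ℤ)))) (q + 1) hni
      · push Not at hni
        exact subsingleton_HH_pullback_pullback n T hV _ hE _ (by push_cast; omega) (q + 1)
          (by omega)
    exact Groth.Agent.Lib.Helper27CMReg.subsingleton_X₁_of_shortExact _ hS₂ q h3 h2

include hF hreg in
theorem isRegSheaf_Zn : KRR.IsRegSheaf n T (kernel (eps n T (Fk n T F n))) := by
  obtain ⟨hFq, hFr⟩ := fk_props n T F hF hreg n
  have hZ := isQCoh_kernel_eps n T _ hFq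
  intro i hi
  haveI : Coh.IsQCoh (KRR.twF n T (-(i : ℤ)) (kernel (eps n T (Fk n T F n)))) :=
    isQCoh_twF n T _ _ hZ
  refine (isZero_RpushAb_iff n T _ i).2 (fun V hV => ?_)
  obtain ⟨e1⟩ := nonempty_pullback_twF_iso n T hV (-(i : ℤ)) (kernel (eps n T (Fk n T F n)))
  refine Groth.Agent.Lib.Helper27PnCohVanish.subsingleton_HH_of_iso e1.symm i ?_
  by_cases hni : n < i
  · haveI := hZ
    haveI : ((Scheme.Modules.pullback (chartOver n hV)).obj
        (kernel (eps n T (Fk n T F n)))).IsQuasicoherent :=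
      Groth.Agent.Lib.Helper2.PullbackSec.isQuasicoherent_pullback _ _
    haveI : (Twist.twistProjSpace n Γ(T, V) (-(i : ℤ))).IsQuasicoherent :=
      Groth.Agent.Lib.Helper27GrTildeSect.isQuasicoherent_tilde _ _ _
    haveI : Coh.IsQCoh (CohB1.tensorMod ((Scheme.Modules.pullback (chartOver n hV)).obj
        (kernel (eps n T (Fk n T F n)))) (Twist.twistProjSpace n Γ(T, V) (-(i : ℤ)))) :=
      Groth.Agent.Lib.Helper23.TensorQCoh.isQuasicoherent_tensorMod _ _
    exact Groth.Agent.S0022.result n Γ(T, V) _ i hni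
  · exact chart_claim n T F hF hreg hV i n (by omega)

theorem isZero_of_isZero_toAb' {Y : Scheme.{u}} {A : Y.Modules} (h : IsZero (Coh.toAb A)) :
    IsZero A := by
  rw [IsZero.iff_id_eq_zero]
  apply (SheafOfModules.toSheaf Y.ringCatSheaf).map_injective
  exact ((SheafOfModules.toSheaf Y.ringCatSheaf).map_id A).trans
    (((IsZero.iff_id_eq_zero _).1 h).trans
      ((SheafOfModules.toSheaf Y.ringCatSheaf).map_zero _ _).symm)

include hF hreg in
/-- **the tower stops**: `Z_n = 0`. -/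
theorem isZero_Zn : IsZero (kernel (eps n T (Fk n T F n))) := by
  obtain ⟨hFq, hFr⟩ := fk_props n T F hF hreg n
  have hZ := isQCoh_kernel_eps n T _ hFq
  have hZr := isRegSheaf_Zn n T F hF hreg
  haveI hepi := Groth.Agent.Lib.Helper27RelRegB.epi_counit_of_isRegSheaf n T _ hZ hZr
  have hpush : IsZero ((Scheme.Modules.pushforward (KRR.pr n T)).obj
      (kernel (eps n T (Fk n T F n)))) := by
    apply isZero_of_isZero_toAb'
    refine isZero_of_subsingleton_affine _ (fun V hV => ⟨fun a b => ?_⟩)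
    exact (kernel_section_eq_zero n T _ hFq hV _ rfl a).trans
      (kernel_section_eq_zero n T _ hFq hV _ rfl b).symm
  have h0 : IsZero ((Scheme.Modules.pullback (KRR.pr n T)).obj
      ((Scheme.Modules.pushforward (KRR.pr n T)).obj (kernel (eps n T (Fk n T F n))))) :=
    Functor.map_isZero _ hpush
  exact IsZero.of_epi (eps n T (kernel (eps n T (Fk n T F n)))) h0

end Chart

end Groth.Agent.Lib.Helper27QResTower
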