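import Groth.Agent.Lib.Helper27NNProjK
import Groth.Agent.Lib.Helper27QResTower
import Groth.Agent.Lib.Helper4KPull

/-!
# The projective bundle theorem for `K₀` of finite locally free modules on `P^n_Y`, `Y` quasi-compact
(helper27)

`Phi : Kvb(Y)^{n+1} → Kvb(P^n_Y)`, `(x_i) ↦ Σ_i [O(i)] · p^* x_i`, is bijective.

* injectivity: the functionals `y ↦ p_K (y(-j))`, `0 ≤ j ≤ n`, form a unipotent triangular system.
* surjectivity: Quillen's canonical resolution of a regular module (tower `Fk`), the Koszul relation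
  to bring all twists into `[0, n]`, and `F(k)` regular for `k ≫ 0`.
-/

set_option autoImplicit false
universe u

open CategoryTheory CategoryTheory.Limits AlgebraicGeometry TopologicalSpace Opposite

namespace Groth.Agent.Lib.Helper27NNProjBundle

open Groth.Agent.Helper18KRR Groth.Agent.Lib.Helper27RegClass Groth.Agent.Lib.Helper27K0Gen
  Groth.Agent.Lib.Helper17.K0a KZero Groth.Agent.Lib.Helper27AmpleElt
  Groth.Agent.Lib.Helper27NNK0 Groth.Agent.Lib.Helper27NNProjK Groth.Agent.Lib.Helper27QResTower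
  Groth.Agent.Lib.Helper4.KPull Groth.Agent.Lib.Helper27RelRegA

variable (n : ℕ) (Y : Scheme.{u})

/-- `y ↦ [O(i)] · p^* y`. -/
noncomputable def comp (i : ℤ) : SGA6.Kvb Y →+ SGA6.Kvb (KRR.PY n Y) :=
  (twK n Y i).comp (pullK (KRR.pr n Y))

theorem comp_cl (i : ℤ) (N : Y.Modules) (hN : FlatMod.IsFinLocFree N) :
    comp n Y i (KRR.cl Y N) = KRR.cl (KRR.PY n Y)
      (KRR.twF n Y i ((Scheme.Modules.pullback (KRR.pr n Y)).obj N)) := by
  change twK n Y i (pullK (KRR.pr n Y) (KRR.cl Y N)) = _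
  rw [pullK_cl (KRR.pr n Y) N hN, twK_cl n Y i _
    (Groth.Agent.Lib.Helper1.Sky.isFinLocFree_pullback (KRR.pr n Y) N hN)]

/-- `(x_i) ↦ Σ_i [O(i)] · p^* x_i`. -/
noncomputable def Phi : (Fin (n + 1) → SGA6.Kvb Y) →+ SGA6.Kvb (KRR.PY n Y) :=
  ∑ i : Fin (n + 1), (comp n Y ((i : ℕ) : ℤ)).comp (Pi.evalAddMonoidHom (fun _ => SGA6.Kvb Y) i)

theorem Phi_apply (x : Fin (n + 1) → SGA6.Kvb Y) :
    Phi n Y x = ∑ i : Fin (n + 1), comp n Y ((i : ℕ) : ℤ) (x i) := by
  unfold Phi
  rw [AddMonoidHom.finsetSum_apply]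
  rfl

theorem Phi_single (i : Fin (n + 1)) (y : SGA6.Kvb Y) :
    Phi n Y (Pi.single i y) = comp n Y ((i : ℕ) : ℤ) y := by
  rw [Phi_apply]
  rw [Finset.sum_eq_single i]
  · rw [Pi.single_eq_same]
  · intro j _ hj
    rw [Pi.single_eq_of_ne hj, map_zero]
  · intro h
    exact absurd (Finset.mem_univ i) h

section Inj

variable [CompactSpace Y]

/-- `p_K ((O(i) · p^* y)(-j)) = C(n + i - j, n) • y`. -/
theorem pushK_twK_comp (i j : ℕ) (hj : j ≤ n + i) (y : SGA6.Kvb Y) :
    pushK n Y (twK n Y (-(j : ℤ)) (comp n Y (i : ℤ) y)) = ((n + i - j).choose n : ℤ) • y := by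
  have h : ((pushK n Y).comp ((twK n Y (-(j : ℤ))).comp (comp n Y (i : ℤ)))) =
      ((n + i - j).choose n : ℤ) • AddMonoidHom.id (SGA6.Kvb Y) :=
    hom_ext_clSub (KRR.vbP Y) _ _ (fun N hN => by
      have hPN := Groth.Agent.Lib.Helper1.Sky.isFinLocFree_pullback (KRR.pr n Y) N hN
      rw [AddMonoidHom.comp_apply, AddMonoidHom.comp_apply, AddMonoidHom.smul_apply,
        AddMonoidHom.id_apply]
      change pushK n Y (twK n Y (-(j : ℤ)) (comp n Y (i : ℤ) (KRR.cl Y N))) = _
      rw [comp_cl n Y (i : ℤ) N hN, twK_cl n Y _ _ (isFinLocFree_twF n Y _ hPN)]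
      obtain ⟨e⟩ := nonempty_twF_twF_iso n Y (-(j : ℤ)) (i : ℤ) (((n + i - j : ℕ) : ℤ) - n)
        (by omega) ((Scheme.Modules.pullback (KRR.pr n Y)).obj N)
      rw [cl_of_iso e (isFinLocFree_twF n Y _ (isFinLocFree_twF n Y _ hPN))]
      exact pushK_cl_twF_pullback n Y N hN (n + i - j))
  exact DFunLike.congr_fun h y

/-- **injectivity.** -/
theorem Phi_injective : Function.Injective (Phi n Y) := by
  rw [injective_iff_map_eq_zero]
  intro x hx
  -- the triangular system
  have key : ∀ j : Fin (n + 1),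
      ∑ i : Fin (n + 1), ((n + (i : ℕ) - (j : ℕ)).choose n : ℤ) • x i = 0 := by
    intro j
    have h := congrArg (fun z => pushK n Y (twK n Y (-((j : ℕ) : ℤ)) z)) hx
    simp only [map_zero] at h
    rw [Phi_apply, map_sum, map_sum] at h
    rw [← h]
    refine Finset.sum_congr rfl (fun i _ => ?_)
    exact (pushK_twK_comp n Y (i : ℕ) (j : ℕ) (by have := j.2; omega) (x i)).symm
  -- descending induction
  have hall : ∀ d : ℕ, ∀ j : Fin (n + 1), n - (j : ℕ) = d → x j = 0 := by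
    intro d
    induction d using Nat.strong_induction_on with
    | _ d ih =>
      intro j hj
      have hk := key j
      rw [Finset.sum_eq_single j] at hk
      · have h1 : (n + (j : ℕ) - (j : ℕ)).choose n = 1 := by
          rw [Nat.add_sub_cancel, Nat.choose_self]
        rw [h1, Nat.cast_one, one_smul] at hk
        exact hk
      · intro i _ hij
        rcases lt_or_gt_of_ne (fun h => hij (Fin.ext h) : (i : ℕ) ≠ (j : ℕ)) with hlt | hgt
        · rw [Nat.choose_eq_zero_of_lt (by omega), Nat.cast_zero, zero_smul]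
        · rw [ih (n - (i : ℕ)) (by have := i.2; omega) i rfl, smul_zero]
      · intro h
        exact absurd (Finset.mem_univ j) h
  funext j
  exact hall _ j rfl

end Inj

section Surj

/-- the range of `Phi`. -/
noncomputable def H : AddSubgroup (SGA6.Kvb (KRR.PY n Y)) := (Phi n Y).range

/-- the classes `[p^*N (d)]` lie in the range. -/
def Q (d : ℤ) : Prop :=
  ∀ N : Y.Modules, FlatMod.IsFinLocFree N → KRR.cl (KRR.PY n Y)
    (KRR.twF n Y d ((Scheme.Modules.pullback (KRR.pr n Y)).obj N)) ∈ H n Y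

theorem q_of_le (i : ℕ) (hi : i ≤ n) : Q n Y (i : ℤ) := by
  intro N hN
  refine ⟨Pi.single ⟨i, by omega⟩ (KRR.cl Y N), ?_⟩
  rw [Phi_single, comp_cl n Y _ N hN]

theorem q_up (a : ℤ) (h : ∀ j : ℕ, j ≤ n → Q n Y (a + j)) : Q n Y (a + (n + 1 : ℕ)) := by
  intro N hN
  have hPN := Groth.Agent.Lib.Helper1.Sky.isFinLocFree_pullback (KRR.pr n Y) N hN
  have hk := koszul_relation_tensor n Y _ hPN a
  rw [Finset.sum_range_succ] at hk
  have h1 : (Finset.range (n + 1)).sum (fun j => ((-1 : ℤ) ^ j * ((n + 1).choose j : ℤ)) •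
      KRR.cl (KRR.PY n Y) (KRR.twF n Y (a + j)
        ((Scheme.Modules.pullback (KRR.pr n Y)).obj N))) ∈ H n Y :=
    AddSubgroup.sum_mem _ (fun j hj => AddSubgroup.zsmul_mem _
      (h j (by have := Finset.mem_range.1 hj; omega) N hN) _)
  have h2 : ((-1 : ℤ) ^ (n + 1) * ((n + 1).choose (n + 1) : ℤ)) •
      KRR.cl (KRR.PY n Y) (KRR.twF n Y (a + (n + 1 : ℕ))
        ((Scheme.Modules.pullback (KRR.pr n Y)).obj N)) ∈ H n Y := by
    rw [eq_neg_of_add_eq_zero_right hk]
    exact AddSubgroup.neg_mem _ h1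
  rw [Nat.choose_self, Nat.cast_one, mul_one] at h2
  have h3 := AddSubgroup.zsmul_mem _ h2 ((-1 : ℤ) ^ (n + 1))
  rw [← mul_smul, ← pow_add, ← two_mul, pow_mul] at h3
  simpa using h3

theorem q_down (a : ℤ) (h : ∀ j : ℕ, j ≤ n → Q n Y (a + (j + 1 : ℕ))) : Q n Y a := by
  intro N hN
  have hPN := Groth.Agent.Lib.Helper1.Sky.isFinLocFree_pullback (KRR.pr n Y) N hN
  have hk := koszul_relation_tensor n Y _ hPN a
  rw [Finset.sum_range_succ'] at hk
  have h1 : (Finset.range (n + 1)).sum (fun j => ((-1 : ℤ) ^ (j + 1) * ((n + 1).choose (j + 1) : ℤ)) •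
      KRR.cl (KRR.PY n Y) (KRR.twF n Y (a + (j + 1 : ℕ))
        ((Scheme.Modules.pullback (KRR.pr n Y)).obj N))) ∈ H n Y :=
    AddSubgroup.sum_mem _ (fun j hj => AddSubgroup.zsmul_mem _
      (h j (by have := Finset.mem_range.1 hj; omega) N hN) _)
  have h2 := eq_neg_of_add_eq_zero_right hk
  rw [pow_zero, Nat.choose_zero_right, Nat.cast_one, one_mul, one_smul, Nat.cast_zero,
    add_zero] at h2
  rw [h2]
  exact AddSubgroup.neg_mem _ h1

theorem q_nat : ∀ m : ℕ, Q n Y (m : ℤ) := by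
  intro m
  induction m using Nat.strong_induction_on with
  | _ m ih =>
    by_cases hm : m ≤ n
    · exact q_of_le n Y m hm
    · push Not at hm
      obtain ⟨b, rfl⟩ : ∃ b, m = b + (n + 1) := ⟨m - (n + 1), by omega⟩
      have h := q_up n Y (b : ℤ) (fun j hj => by
        have := ih (b + j) (by omega)
        rwa [Nat.cast_add] at this)
      rwa [← Nat.cast_add] at h

theorem q_neg : ∀ m : ℕ, Q n Y (-(m : ℤ)) := by
  intro m
  induction m using Nat.strong_induction_on with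
  | _ m ih =>
    by_cases hm : m = 0
    · subst hm
      simpa using q_nat n Y 0
    · refine q_down n Y (-(m : ℤ)) (fun j hj => ?_)
      by_cases hjm : j + 1 ≤ m
      · have := ih (m - (j + 1)) (by omega)
        rwa [show (-(m : ℤ)) + ((j + 1 : ℕ) : ℤ) = -((m - (j + 1) : ℕ) : ℤ) by omega]
      · push Not at hjm
        have := q_nat n Y (j + 1 - m)
        rwa [show (-(m : ℤ)) + ((j + 1 : ℕ) : ℤ) = ((j + 1 - m : ℕ) : ℤ) by omega]

theorem q_all (d : ℤ) : Q n Y d := by
  rcases Int.le_total 0 d with h | h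
  · obtain ⟨m, rfl⟩ := Int.eq_ofNat_of_zero_le h
    exact q_nat n Y m
  · obtain ⟨m, hm⟩ := Int.eq_ofNat_of_zero_le (neg_nonneg.2 h)
    rw [show d = -(m : ℤ) by omega]
    exact q_neg n Y m

variable (F : (KRR.PY n Y).Modules) (hF : FlatMod.IsFinLocFree F) (hreg : KRR.IsRegSheaf n Y F)

include hF hreg in
/-- the tower of a regular finite locally free module consists of finite locally free modules. -/
theorem fk_vb : ∀ k, FlatMod.IsFinLocFree (Fk n Y F k)
  | 0 => hF
  | k + 1 => by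
    have hk := fk_vb k
    obtain ⟨hq, hr⟩ := fk_props n Y F (isQCoh_of_isFinLocFree n Y hF) hreg k
    have hT := Groth.Agent.Lib.Helper27NNPushB.isFinLocFree_push_of_isRegSheaf n Y _ hk hr
    have hpT := Groth.Agent.Lib.Helper1.Sky.isFinLocFree_pullback (KRR.pr n Y) _ hT
    haveI : Epi (eps n Y (Fk n Y F k)) :=
      Groth.Agent.Lib.Helper27RelRegB.epi_counit_of_isRegSheaf n Y _ hq hr
    have hZ := Groth.Agent.Lib.Helper1.SPL.isFinLocFree_kernel (eps n Y (Fk n Y F k)) hpT hk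
    exact isFinLocFree_twF n Y 1 hZ

include hF hreg in
/-- all twists of all members of the tower have classes in the range. -/
theorem cl_twF_fk_mem : ∀ t k : ℕ, k + t = n + 1 → ∀ d : ℤ,
    KRR.cl (KRR.PY n Y) (KRR.twF n Y d (Fk n Y F k)) ∈ H n Y := by
  intro t
  induction t with
  | zero =>
    intro k hk d
    obtain rfl : k = n + 1 := by omega
    have hz : IsZero (Fk n Y F (n + 1)) :=
      (DCoh.tensorBi.obj (Twist.twistOver n Y 1)).map_isZero
        (isZero_Zn n Y F (isQCoh_of_isFinLocFree n Y hF) hreg)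
    have hz' : IsZero (KRR.twF n Y d (Fk n Y F (n + 1))) :=
      (DCoh.tensorBi.obj (Twist.twistOver n Y d)).map_isZero hz
    rw [cl_of_isZero hz']
    exact AddSubgroup.zero_mem _
  | succ t ih =>
    intro k hk d
    have hvb := fk_vb n Y F hF hreg k
    obtain ⟨hq, hr⟩ := fk_props n Y F (isQCoh_of_isFinLocFree n Y hF) hreg k
    have hT := Groth.Agent.Lib.Helper27NNPushB.isFinLocFree_push_of_isRegSheaf n Y _ hvb hr
    have hpT := Groth.Agent.Lib.Helper1.Sky.isFinLocFree_pullback (KRR.pr n Y) _ hT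
    haveI : Epi (eps n Y (Fk n Y F k)) :=
      Groth.Agent.Lib.Helper27RelRegB.epi_counit_of_isRegSheaf n Y _ hq hr
    have hZ := Groth.Agent.Lib.Helper1.SPL.isFinLocFree_kernel (eps n Y (Fk n Y F k)) hpT hvb
    have hS := shortExact_twF n Y d _ (ses_shortExact n Y (Fk n Y F k) hq hr)
    have hcl := cl_shortExact _ hS (isFinLocFree_twF n Y d hZ) (isFinLocFree_twF n Y d hpT)
      (isFinLocFree_twF n Y d hvb)
    -- `Z_k(d) ≅ F_{k+1}(d - 1)`
    obtain ⟨e⟩ := nonempty_twF_twF_iso n Y (d - 1) 1 d (by ring) (kernel (eps n Y (Fk n Y F k)))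
    have h1 : KRR.cl (KRR.PY n Y) (KRR.twF n Y d (kernel (eps n Y (Fk n Y F k)))) ∈ H n Y := by
      rw [← cl_of_iso e (isFinLocFree_twF n Y _ (isFinLocFree_twF n Y _ hZ))]
      exact ih (k + 1) (by omega) (d - 1)
    have h2 : KRR.cl (KRR.PY n Y) (KRR.twF n Y d ((Scheme.Modules.pullback (KRR.pr n Y)).obj
        ((Scheme.Modules.pushforward (KRR.pr n Y)).obj (Fk n Y F k)))) ∈ H n Y :=
      q_all n Y d _ hT
    have h3 : KRR.cl (KRR.PY n Y) (KRR.twF n Y d (Fk n Y F k)) =
        KRR.cl (KRR.PY n Y) (KRR.twF n Y d ((Scheme.Modules.pullback (KRR.pr n Y)).obj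
          ((Scheme.Modules.pushforward (KRR.pr n Y)).obj (Fk n Y F k)))) -
        KRR.cl (KRR.PY n Y) (KRR.twF n Y d (kernel (eps n Y (Fk n Y F k)))) :=
      eq_sub_of_add_eq' hcl.symm
    rw [h3]
    exact AddSubgroup.sub_mem _ h2 h1

end Surj

variable [CompactSpace Y]

/-- **surjectivity.** -/
theorem Phi_surjective : Function.Surjective (Phi n Y) := by
  have hall : ∀ F : (KRR.PY n Y).Modules, FlatMod.IsFinLocFree F →
      KRR.cl (KRR.PY n Y) F ∈ H n Y := by
    intro F hF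
    obtain ⟨k, hk⟩ := exists_rk n Y F hF
    have hreg := ((rk_iff n Y k F).1 hk).2
    have h1 := cl_twF_fk_mem n Y (KRR.twF n Y (k : ℤ) F) (isFinLocFree_twF n Y _ hF) hreg
      (n + 1) 0 (by omega) (-(k : ℤ))
    obtain ⟨e⟩ := nonempty_twF_twF_iso_self n Y (-(k : ℤ)) (k : ℤ) (by ring) F
    have h2 : Fk n Y (KRR.twF n Y (k : ℤ) F) 0 = KRR.twF n Y (k : ℤ) F := rfl
    rw [h2, cl_of_iso e (isFinLocFree_twF n Y _ (isFinLocFree_twF n Y _ hF))] at h1
    exact h1
  -- the quotient map kills all classes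
  have htop : H n Y = ⊤ := by
    rw [← QuotientAddGroup.ker_mk' (H n Y), AddMonoidHom.ker_eq_top_iff]  
    exact hom_ext_clSub (KRR.vbP (KRR.PY n Y)) _ _ (fun F hF => by
      rw [AddMonoidHom.zero_apply]
      exact (QuotientAddGroup.eq_zero_iff _).2 (hall F hF))
  intro y
  have : y ∈ H n Y := by rw [htop]; trivial
  exact this

/-- **the projective bundle theorem.** -/
theorem Phi_bijective : Function.Bijective (Phi n Y) := ⟨Phi_injective n Y, Phi_surjective n Y⟩

end Groth.Agent.Lib.Helper27NNProjBundle
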