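import Mathlib
import Groth.Agent.Lib.Helper2CohBCA
import Groth.Agent.Lib.Helper3FlatCxBT
import Groth.Agent.Lib.Helper3FlatCxRank
import Groth.Agent.S2410
import Groth.Agent.S2411

/-!
# From fibre vanishing to freeness of the homology (helper2)
-/

set_option autoImplicit false
set_option linter.style.haveILetI false
universe u
open CategoryTheory CategoryTheory.Limits MonoidalCategory TensorProduct

namespace Groth.Agent.Lib.Helper2.CohBCF

open Groth.Agent.Lib.Helper2.CohBCA

section Exact
variable (A B : Type u) [CommRing A] [CommRing B] [Algebra A B] {ι : Type} {c : ComplexShape ι}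
  (P : HomologicalComplex (ModuleCat.{u} A) c)

/-- the comparison `R(E(P)) ≅ P ⊗ B` of complexes of `A`-modules -/
noncomputable def restrictBcCxIso :
    ((ModuleCat.restrictScalars (algebraMap A B)).mapHomologicalComplex c).obj
      (CohIII.bcCx (algebraMap A B) P) ≅ CohIII.tensorObj P (ModuleCat.of A B) :=
  (NatIso.mapHomologicalComplex (αIso A B ≪≫
    BraidedCategory.tensorLeftIsoTensorRight (ModuleCat.of A B)) c).app P

theorem exactAt_bcCx_iff (q : ι) :
    (CohIII.bcCx (algebraMap A B) P).ExactAt q ↔
      (CohIII.tensorObj P (ModuleCat.of A B)).ExactAt q := by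
  have h1 : (((ModuleCat.restrictScalars (algebraMap A B)).mapHomologicalComplex c).obj
      (CohIII.bcCx (algebraMap A B) P)).ExactAt q ↔ (CohIII.bcCx (algebraMap A B) P).ExactAt q :=
    ShortComplex.exact_map_iff_of_faithful ((CohIII.bcCx (algebraMap A B) P).sc q)
      (ModuleCat.restrictScalars (algebraMap A B))
  rw [← h1]
  exact ⟨fun h => h.of_iso (restrictBcCxIso A B P), fun h => h.of_iso (restrictBcCxIso A B P).symm⟩

end Exact

section Local
variable {B : Type u} [CommRing B] [IsLocalRing B]
  (P : ChainComplex (ModuleCat.{u} B) ℤ)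

/-- `T_q(k) = 0` from the vanishing of the homology of the base change to the residue field -/
theorem isZero_T_residueField_of_subsingleton (q : ℤ)
    (h : Subsingleton ((CohIII.bcCx (algebraMap B (IsLocalRing.ResidueField B)) P).homology q)) :
    IsZero ((CohIII.TFun P q).obj (ModuleCat.of B (IsLocalRing.ResidueField B))) := by
  have h1 : (CohIII.bcCx (algebraMap B (IsLocalRing.ResidueField B)) P).ExactAt q := by
    rw [HomologicalComplex.exactAt_iff_isZero_homology]
    exact ModuleCat.isZero_of_subsingleton _
  have h2 := (exactAt_bcCx_iff B (IsLocalRing.ResidueField B) P q).1 h1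
  rw [HomologicalComplex.exactAt_iff_isZero_homology] at h2
  exact h2

omit [IsLocalRing B] in
/-- `T_q(k) = 0` when the term `P_q` vanishes -/
theorem isZero_T_of_isZero_X (q : ℤ) (M : ModuleCat.{u} B) (h : IsZero (P.X q)) :
    IsZero ((CohIII.TFun P q).obj M) := by
  have h1 : IsZero ((CohIII.tensorObj P M).X q) := by
    have : IsZero ((tensorRight M).obj (P.X q)) :=
      Functor.map_isZero (tensorRight M) h
    exact this
  change IsZero ((CohIII.tensorObj P M).homology q)
  rw [← HomologicalComplex.exactAt_iff_isZero_homology]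
  exact HomologicalComplex.ExactAt.of_isZero h1

omit [IsLocalRing B] in
theorem finite_homology [IsNoetherianRing B] (hP : ∀ i, Module.Finite B (P.X i)) (p : ℤ) :
    Module.Finite B (P.homology p) := by
  have := hP p
  have h1 : Function.Injective (P.iCycles p).hom := (ModuleCat.mono_iff_injective _).1 inferInstance
  have h2 : Function.Surjective (P.homologyπ p).hom := (ModuleCat.epi_iff_surjective _).1 inferInstance
  haveI : Module.Finite B (P.cycles p) := Module.Finite.of_injective (P.iCycles p).hom h1
  exact Module.Finite.of_surjective (P.homologyπ p).hom h2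

/-- if `T_p` is exact then `H_p(P)` is free of rank `dRank P p` at the closed point -/
theorem free_homology_of_exact [IsNoetherianRing B] (hP : ∀ i, Module.Finite B (P.X i) ∧ Module.Flat B (P.X i)) (p : ℤ)
    (hm : (CohIII.TFun P p).PreservesMonomorphisms) (he : (CohIII.TFun P p).PreservesEpimorphisms) :
    Module.Free B (P.homology p) ∧ Module.Finite B (P.homology p) ∧
      Module.finrank B (P.homology p) = CohIII.dRank P p (IsLocalRing.closedPoint B) := by
  have hflat : ∀ i, Module.Flat B (P.X i) := fun i => (hP i).2
  have hfree : Module.Free B ((CohIII.TFun P p).obj (ModuleCat.of B B)) :=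
    ((Groth.Agent.S2410.result P hP p).mp ⟨hm, he⟩).2
  have hfree' : Module.Free B (P.homology p) := by
    haveI : Module.Free B (CohIII.T P p (ModuleCat.of B B)) := hfree
    exact Module.Free.of_equiv (Groth.Agent.Lib.Helper3.TUnitIso P p).toLinearEquiv
  have hfin := finite_homology P (fun i => (hP i).1) p
  refine ⟨hfree', hfin, ?_⟩
  haveI : Module.Flat B (P.X (p - 1)) := hflat (p - 1)
  haveI : Module.Flat B (P.opcycles (p - 1)) :=
    (Groth.Agent.S2410.preservesEpi_iff_flat_opcycles P hflat p (p - 1) (by ring)).mp he
  rw [Groth.Agent.Lib.Helper3.dRank_eq_fd_homology P p (IsLocalRing.closedPoint B),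
    Groth.Agent.Lib.Helper3.fd_of_free]

/-- vanishing of `T_{p-1}(k)` and `T_{p+1}(k)` gives freeness of `H_p(P)` of the expected rank -/
theorem free_homology_of_adjacent_vanishing [IsNoetherianRing B]
    (hP : ∀ i, Module.Finite B (P.X i) ∧ Module.Flat B (P.X i)) (p : ℤ)
    (hq : IsZero ((CohIII.TFun P (p - 1)).obj (ModuleCat.of B (IsLocalRing.ResidueField B))))
    (hr : IsZero ((CohIII.TFun P (p + 1)).obj (ModuleCat.of B (IsLocalRing.ResidueField B)))) :
    Module.Free B (P.homology p) ∧ Module.Finite B (P.homology p) ∧
      Module.finrank B (P.homology p) = CohIII.dRank P p (IsLocalRing.closedPoint B) := by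
  obtain ⟨⟨hm, he⟩, -⟩ := Groth.Agent.S2411.result P hP p (p - 1) (p + 1) (by ring) rfl hq hr
  exact free_homology_of_exact P hP p hm he

end Local

end Groth.Agent.Lib.Helper2.CohBCF
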