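import Mathlib
import Groth.Agent.Lib.Helper2CohBCF
import Groth.Agent.Lib.Helper3FlatCx
import Groth.Agent.S2375
import Groth.Agent.S2406

/-!
# Vanishing of the homology in negative degrees propagates to all `T_q` (helper2)
-/

set_option autoImplicit false
set_option linter.style.haveILetI false
universe u
open CategoryTheory CategoryTheory.Limits MonoidalCategory TensorProduct

namespace Groth.Agent.Lib.Helper2.CohBCG

open Groth.Agent.Lib.Helper2.CohBCA Groth.Agent.Lib.Helper2.CohBCF

section Gen
variable {A : Type u} [CommRing A] (P : ChainComplex (ModuleCat.{u} A) ℤ)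

lemma preservesMono_of_isZero (q : ℤ) (hz : ∀ M : ModuleCat.{u} A, IsZero ((CohIII.TFun P q).obj M)) :
    (CohIII.TFun P q).PreservesMonomorphisms := by
  constructor
  intro X Y f _
  constructor
  intro Z g h _
  exact (hz X).eq_of_tgt g h

lemma preservesEpi_of_isZero (q : ℤ) (hz : ∀ M : ModuleCat.{u} A, IsZero ((CohIII.TFun P q).obj M)) :
    (CohIII.TFun P q).PreservesEpimorphisms := by
  constructor
  intro X Y f _
  constructor
  intro Z g h _
  exact (hz Y).eq_of_src g h

/-- if `P` is a bounded below complex of flat modules whose homology vanishes in negative degrees,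
then all `T_q`, `q < 0`, vanish and the opcycles in negative degrees are flat -/
theorem flat_opcycles_and_isZero_T (hflat : ∀ i, Module.Flat A (P.X i)) (b : ℤ)
    (hb : ∀ i : ℤ, i < b → IsZero (P.X i)) (hH : ∀ q : ℤ, q < 0 → IsZero (P.homology q)) :
    ∀ q : ℤ, q < 0 → (Module.Flat A (P.opcycles q) ∧
      ∀ M : ModuleCat.{u} A, IsZero ((CohIII.TFun P q).obj M)) := by
  have key : ∀ (n : ℕ) (q : ℤ), q < b + n → q < 0 → (Module.Flat A (P.opcycles q) ∧
      ∀ M : ModuleCat.{u} A, IsZero ((CohIII.TFun P q).obj M)) := by
    intro n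
    induction n with
    | zero =>
      intro q hq _
      have hz : IsZero (P.X q) := hb q (by simpa using hq)
      have hT : ∀ M : ModuleCat.{u} A, IsZero ((CohIII.TFun P q).obj M) :=
        fun M => isZero_T_of_isZero_X P q M hz
      exact ⟨(Groth.Agent.S2375.result P hflat q).mp (preservesMono_of_isZero P q hT), hT⟩
    | succ n ih =>
      intro q hq hq0
      by_cases hlt : q < b + n
      · exact ih q hlt hq0
      · obtain ⟨hfl, -⟩ := ih (q - 1) (by push_cast at hq; lia) (by lia)
        haveI : Module.Flat A (P.X (q - 1)) := hflat (q - 1)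
        haveI : Module.Flat A (P.opcycles (q - 1)) := hfl
        have e := Groth.Agent.Lib.Helper3.thetaIso P q (q - 1) (by simp)
        have hT : ∀ M : ModuleCat.{u} A, IsZero ((CohIII.TFun P q).obj M) := by
          intro M
          refine IsZero.of_iso ?_ (e.app M).symm
          exact Functor.map_isZero (tensorRight M) (hH q hq0)
        exact ⟨(Groth.Agent.S2375.result P hflat q).mp (preservesMono_of_isZero P q hT), hT⟩
  intro q hq
  exact key ((q - b).toNat + 1) q (by push_cast; lia) hq

end Gen

section Local
variable {B : Type u} [CommRing B] [IsLocalRing B] [IsNoetherianRing B]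
  (P : ChainComplex (ModuleCat.{u} B) ℤ)

/-- vanishing of the homology in negative degrees: all `T_q`, `q < 0`, vanish and `H_0(P)` is free
of rank `dRank P 0` at the closed point -/
theorem free_homology_zero (hP : ∀ i, Module.Finite B (P.X i) ∧ Module.Flat B (P.X i)) (b : ℤ)
    (hb : ∀ i : ℤ, i < b → IsZero (P.X i)) (hpos : ∀ i : ℤ, 0 < i → IsZero (P.X i))
    (hH : ∀ q : ℤ, q < 0 → IsZero (P.homology q)) :
    (∀ q : ℤ, q < 0 → ∀ M : ModuleCat.{u} B, IsZero ((CohIII.TFun P q).obj M)) ∧
      Module.Free B (P.homology 0) ∧ Module.Finite B (P.homology 0) ∧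
      Module.finrank B (P.homology 0) = CohIII.dRank P 0 (IsLocalRing.closedPoint B) := by
  have hflat : ∀ i, Module.Flat B (P.X i) := fun i => (hP i).2
  have h1 := flat_opcycles_and_isZero_T P hflat b hb hH
  have he : (CohIII.TFun P 0).PreservesEpimorphisms :=
    (Groth.Agent.S2410.preservesEpi_iff_flat_opcycles P hflat 0 (-1) (by norm_num)).mpr
      (h1 (-1) (by norm_num)).1
  have hm : (CohIII.TFun P 0).PreservesMonomorphisms :=
    (Groth.Agent.S2406.result P hflat 1 0 (by norm_num)).mp
      (preservesEpi_of_isZero P 1 (fun M => isZero_T_of_isZero_X P 1 M (hpos 1 (by norm_num))))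
  exact ⟨fun q hq => (h1 q hq).2, free_homology_of_exact P hP 0 hm he⟩

end Local

end Groth.Agent.Lib.Helper2.CohBCG
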