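import Groth.Agent.Lib.Helper2TwFlatC
import Groth.Agent.Lib.Helper23VeryAmple4
import Groth.Agent.Lib.Helper27SerreVanPn
import Groth.Agent.Lib.Helper23PB
import Groth.Agent.Lib.Helper23ResProp
import Groth.Agent.Lib.Helper21HomLF
import Groth.Agent.Lib.Helper17QCPush5
import Groth.Agent.Lib.Helper2LocFree
import Groth.Agent.Lib.Helper21HZB9
import Groth.Agent.S0055
import Groth.Agent.S2390

/-!
# helper2: closed subschemes of `P^r_Y`: the invertible module `i^* O(1)`, its powers, relative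
ampleness; flatness versus local freeness of the direct images of the twists
-/

set_option autoImplicit false
set_option linter.style.haveILetI false
universe u
open CategoryTheory Limits AlgebraicGeometry TopologicalSpace Opposite

namespace Groth.Agent.Lib.Helper2.TwFlatD

open Groth.Agent.Lib.Helper23.SecTw Groth.Agent.Lib.Helper23.PB

variable (r : ℕ) {X Y : Scheme.{u}} (i : X ⟶ CohB1.ProjSpaceOver r Y)

theorem isInvertible_twistOver (d : ℤ) : PicF.IsInvertible (Twist.twistOver r Y d) := by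
  unfold Twist.twistOver
  exact isInvertible_pullback _ _ (Groth.Agent.Lib.Helper27SerreVanPn.isInvertible_twist r _ d)

/-- `O(1)^{⊗ m} ≅ O(m)` on `P^r_Y`. -/
theorem nonempty_tensorPow_twistOver_iso (m : ℕ) :
    Nonempty (CohB1.tensorPow (Twist.twistOver r Y 1) m ≅ Twist.twistOver r Y (m : ℤ)) := by
  obtain ⟨e1⟩ := nonempty_pullback_tensorPow_iso
    (pullback.fst (CohB1.ProjSpace.toSpec r (ULift.{u} ℤ)) (specULiftZIsTerminal.from Y))
    (Twist.twistProjSpace r (ULift.{u} ℤ) 1)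
    (Groth.Agent.Lib.Helper27SerreVanPn.isInvertible_twist r _ 1) m
  obtain ⟨e2⟩ := Groth.Agent.Lib.Helper17.SerreAmple.nonempty_tensorPow_twist_one_iso r
    (ULift.{u} ℤ) m
  exact ⟨e1.symm ≪≫ (Scheme.Modules.pullback _).mapIso e2⟩

/-- `(i^* O(1))^{⊗ m} ≅ i^* O(m)`. -/
theorem nonempty_tensorPow_pullback_iso (m : ℕ) :
    Nonempty (CohB1.tensorPow ((Scheme.Modules.pullback i).obj (Twist.twistOver r Y 1)) m ≅
      (Scheme.Modules.pullback i).obj (Twist.twistOver r Y (m : ℤ))) := by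
  obtain ⟨e1⟩ := nonempty_pullback_tensorPow_iso i (Twist.twistOver r Y 1)
    (isInvertible_twistOver r 1) m
  obtain ⟨e2⟩ := nonempty_tensorPow_twistOver_iso r (Y := Y) m
  exact ⟨e1.symm ≪≫ (Scheme.Modules.pullback i).mapIso e2⟩

theorem isInvertible_pullback_twistOver (d : ℤ) :
    PicF.IsInvertible ((Scheme.Modules.pullback i).obj (Twist.twistOver r Y d)) :=
  isInvertible_pullback i _ (isInvertible_twistOver r d)

instance isProper_toBase : IsProper (CohB1.ProjSpaceOver.toBase r Y) := by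
  haveI : IsProper (CohB1.ProjSpace.toSpec r (ULift.{u} ℤ)) :=
    Groth.Agent.Lib.Helper27ProjSpaceFibres.isProper_projSpace_toSpec r (ULift.{u} ℤ)
  have hp : IsProper (pullback.snd (CohB1.ProjSpace.toSpec r (ULift.{u} ℤ))
      (specULiftZIsTerminal.from Y)) := inferInstance
  exact hp

/-- `i^* O(1)` is ample on the preimage of every affine open of the base. -/
theorem isAmple_restrict [IsClosedImmersion i] (W : Y.Opens) (hW : IsAffineOpen W) :
    CohB1.IsAmple (((Scheme.Modules.pullback i).obj (Twist.twistOver r Y 1)).restrict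
      ((i ≫ CohB1.ProjSpaceOver.toBase r Y) ⁻¹ᵁ W).ι) := by
  have h := Groth.Agent.Lib.Helper23.VeryAmple4.isRelAmple_of_isRelVeryAmplePn
    (i ≫ CohB1.ProjSpaceOver.toBase r Y)
    ((Scheme.Modules.pullback i).obj (Twist.twistOver r Y 1))
    ⟨r, i, inferInstance, rfl, ⟨Iso.refl _⟩⟩
  exact h.2 ⟨W, hW⟩

attribute [local instance] Groth.Agent.Lib.Helper17.QCPush.enoughInjectives in
/-- flat ⇒ the direct images of the high twists are finite locally free. -/
theorem isFinLocFree_push_twist_of_isFlatOver [IsNoetherian Y] [IsClosedImmersion i]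
    (F : X.Modules) (hF : Coh.IsCoh F)
    (hfl : FlatMod.IsFlatOver (i ≫ CohB1.ProjSpaceOver.toBase r Y) F) :
    ∃ n₀ : ℤ, ∀ n : ℤ, n₀ ≤ n →
      FlatMod.IsFinLocFree ((Coh.push (i ≫ CohB1.ProjSpaceOver.toBase r Y)).obj
        (CohB1.tensorMod F ((Scheme.Modules.pullback i).obj (Twist.twistOver r Y n)))) := by
  have hL := isInvertible_pullback_twistOver r i 1
  obtain ⟨n₀, hn₀⟩ := Groth.Agent.S0055.result (i ≫ CohB1.ProjSpaceOver.toBase r Y)
    ((Scheme.Modules.pullback i).obj (Twist.twistOver r Y 1)) hL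
    (fun W hW => isAmple_restrict r i W hW) F hF
  refine ⟨(n₀ : ℤ), fun n hn => ?_⟩
  obtain ⟨m, rfl⟩ : ∃ m : ℕ, n = m :=
    ⟨n.toNat, (Int.toNat_of_nonneg (le_trans (Int.natCast_nonneg _) hn)).symm⟩
  have hm : n₀ ≤ m := by exact_mod_cast hn
  obtain ⟨e⟩ := nonempty_tensorPow_pullback_iso r i m
  have hG := Groth.Agent.Lib.Helper17.SerreAmple.isCoh_twist F
    ((Scheme.Modules.pullback i).obj (Twist.twistOver r Y 1)) hF hL m
  have hGfl := Groth.Agent.Lib.Helper21.HomLF.isFlatOver_tensorMod_isFinLocFree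
    (i ≫ CohB1.ProjSpaceOver.toBase r Y) F _ hfl
    (Groth.Agent.Lib.Helper23.ResProp.isFinLocFree_of_isInvertible _
      (isInvertible_tensorPow hL m))
  haveI : HasInjectiveResolutions X.Modules := inferInstance
  have hR : ∀ p : ℕ, 0 < p → IsZero ((Coh.Rpush (i ≫ CohB1.ProjSpaceOver.toBase r Y) p).obj
      (CohB1.tensorMod F (CohB1.tensorPow
        ((Scheme.Modules.pullback i).obj (Twist.twistOver r Y 1)) m))) := fun p hp => by
    obtain ⟨e2⟩ := Groth.Agent.Lib.Helper23.ModAbBridge.nonempty_toAb_Rpush_iso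
      (i ≫ CohB1.ProjSpaceOver.toBase r Y) (CohB1.tensorMod F (CohB1.tensorPow
        ((Scheme.Modules.pullback i).obj (Twist.twistOver r Y 1)) m)) p
    exact Groth.Agent.Lib.Helper17.QCPush.isZero_of_isZero_toAb ((hn₀ m hm p hp).of_iso e2)
  have h := (Groth.Agent.S2390.result (i ≫ CohB1.ProjSpaceOver.toBase r Y) _ hG hGfl hR).2
  intro y
  obtain ⟨U, hyU, ⟨ε⟩⟩ := h y
  exact ⟨U, _, hyU, ⟨(Scheme.Modules.restrictFunctor U.ι).mapIso
    ((Coh.push (i ≫ CohB1.ProjSpaceOver.toBase r Y)).mapIso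
      (PicGrp.tensorModIso (Iso.refl F) e)).symm ≪≫ ε⟩⟩

/-- the direct images of the high twists are finite locally free ⇒ flat. -/
theorem isFlatOver_of_isFinLocFree_push_twist [IsClosedImmersion i]
    (F : X.Modules) [F.IsQuasicoherent] (n₀ : ℤ)
    (h : ∀ n : ℤ, n₀ ≤ n →
      FlatMod.IsFinLocFree ((Coh.push (i ≫ CohB1.ProjSpaceOver.toBase r Y)).obj
        (CohB1.tensorMod F ((Scheme.Modules.pullback i).obj (Twist.twistOver r Y n))))) :
    FlatMod.IsFlatOver (i ≫ CohB1.ProjSpaceOver.toBase r Y) F := by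
  have hL := isInvertible_pullback_twistOver r i 1
  refine Groth.Agent.Lib.Helper2.TwFlatC.isFlatOver_of_flat_twists
    (i ≫ CohB1.ProjSpaceOver.toBase r Y)
    ((Scheme.Modules.pullback i).obj (Twist.twistOver r Y 1)) hL
    (fun W hW => isAmple_restrict r i W hW) F n₀.toNat (fun m hm V hV => ?_)
  have hn : n₀ ≤ (m : ℤ) := Int.toNat_le.mp hm
  obtain ⟨e⟩ := nonempty_tensorPow_pullback_iso r i m
  refine Groth.Agent.Lib.Helper2.TwFlatC.flat_sections_of_iso
    (PicGrp.tensorModIso (Iso.refl F) e) ((i ≫ CohB1.ProjSpaceOver.toBase r Y) ⁻¹ᵁ V)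
    ((i ≫ CohB1.ProjSpaceOver.toBase r Y).app V).hom ?_
  have hE := h m hn
  haveI := Groth.Agent.Lib.Helper21.HZB.isQuasicoherent_of_isFinLocFree _ hE
  have hflat := Groth.Agent.Lib.Helper2.LocFree.flat_sections_of_isFlatAt _ hV
    (fun y _ => Groth.Agent.Lib.Helper2.LocFree.isFlat_of_isFinLocFree _ hE y)
  exact hflat

end Groth.Agent.Lib.Helper2.TwFlatD
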