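import Groth.Agent.Lib.Helper27KoszPull
import Groth.Agent.Lib.Helper2TwFlatD
import Groth.Agent.Lib.Helper1ProjFD
import Groth.Agent.S0022

/-!
# Regular twists and the projection formula on `P^n_Y` (helper27)

* `exists_isRegSheaf_twF` : for `Y` Noetherian and `F` coherent on `P^n_Y`, some twist `F(k)` is regular.
* `isRegSheaf_of_iso`.
* `isRegSheaf_tensor_pullback` : `F` regular quasi-coherent, `E` finite locally free on `Y` `⇒` `p^*E ⊗ F`
  regular (helper1's projection formula for higher direct images).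
* `pushTensorIso` : `E ⊗ p_* F ≅ p_* (p^* E ⊗ F)`.
-/

set_option autoImplicit false
universe u

open CategoryTheory CategoryTheory.Limits AlgebraicGeometry TopologicalSpace Opposite

namespace Groth.Agent.Lib.Helper27ProjFormK

open Groth.Agent.Helper18KRR Groth.Agent.Lib.Helper21.ModTensor5 Groth.Agent.Lib.Helper23.LocGen
  Groth.Agent.Lib.Helper17.TwistBC Groth.Agent.Lib.Helper27RelRegA

variable (n : ℕ) (Y : Scheme.{u})

theorem isRegSheaf_of_iso {F G : (KRR.PY n Y).Modules} (e : F ≅ G) (h : KRR.IsRegSheaf n Y F) :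
    KRR.IsRegSheaf n Y G := fun i hi =>
  IsZero.of_iso (h i hi) ((Coh.RpushAb (KRR.pr n Y) i).mapIso ((SheafOfModules.toSheaf _).mapIso
    ((DCoh.tensorBi.obj (Twist.twistOver n Y (-(i : ℤ)))).mapIso e))).symm

/-- relative Serre vanishing on `P^n_Y`. -/
theorem exists_isZero_RpushAb_twF [IsNoetherian Y] (F : (KRR.PY n Y).Modules) (hF : Coh.IsCoh F) :
    ∃ n₀ : ℕ, ∀ m : ℕ, n₀ ≤ m → ∀ p : ℕ, 0 < p →
      IsZero ((Coh.RpushAb (KRR.pr n Y) p).obj (Coh.toAb (KRR.twF n Y (m : ℤ) F))) := by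
  have hid : 𝟙 (CohB1.ProjSpaceOver n Y) ≫ CohB1.ProjSpaceOver.toBase n Y =
      CohB1.ProjSpaceOver.toBase n Y := Category.id_comp _
  have hL := Groth.Agent.Lib.Helper2.TwFlatD.isInvertible_pullback_twistOver n
    (𝟙 (CohB1.ProjSpaceOver n Y)) 1
  obtain ⟨n₀, hn₀⟩ := Groth.Agent.S0055.result
    (𝟙 (CohB1.ProjSpaceOver n Y) ≫ CohB1.ProjSpaceOver.toBase n Y)
    ((Scheme.Modules.pullback (𝟙 (CohB1.ProjSpaceOver n Y))).obj (Twist.twistOver n Y 1)) hL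
    (fun W hW => Groth.Agent.Lib.Helper2.TwFlatD.isAmple_restrict n
      (𝟙 (CohB1.ProjSpaceOver n Y)) W hW) F hF
  refine ⟨n₀, fun m hm p hp => ?_⟩
  have h1 := hn₀ m hm p hp
  rw [hid] at h1
  obtain ⟨e⟩ := Groth.Agent.Lib.Helper2.TwFlatD.nonempty_tensorPow_pullback_iso n
    (𝟙 (CohB1.ProjSpaceOver n Y)) m
  let e1 : CohB1.tensorMod F (CohB1.tensorPow
      ((Scheme.Modules.pullback (𝟙 (CohB1.ProjSpaceOver n Y))).obj (Twist.twistOver n Y 1)) m) ≅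
      CohB1.tensorMod F (Twist.twistOver n Y (m : ℤ)) :=
    PicGrp.tensorModIso (Iso.refl F) (e ≪≫
      (Scheme.Modules.pullbackId (CohB1.ProjSpaceOver n Y)).app (Twist.twistOver n Y (m : ℤ)))
  let e2 : CohB1.tensorMod F (Twist.twistOver n Y (m : ℤ)) ≅ KRR.twF n Y (m : ℤ) F :=
    brdApp (CohB1.ProjSpaceOver n Y).sheaf F (Twist.twistOver n Y (m : ℤ))
  exact IsZero.of_iso h1 ((Coh.RpushAb (KRR.pr n Y) p).mapIso
    ((SheafOfModules.toSheaf _).mapIso (e1 ≪≫ e2))).symm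

/-- some twist of a coherent module on `P^n_Y` is regular. -/
theorem exists_isRegSheaf_twF [IsNoetherian Y] (F : (KRR.PY n Y).Modules) (hF : Coh.IsCoh F) :
    ∃ k : ℕ, KRR.IsRegSheaf n Y (KRR.twF n Y (k : ℤ) F) := by
  obtain ⟨n₀, hn₀⟩ := exists_isZero_RpushAb_twF n Y F hF
  refine ⟨n₀ + n, fun i hi => ?_⟩
  haveI : Coh.IsQCoh F := hF.1
  by_cases hin : i ≤ n
  · obtain ⟨e⟩ := nonempty_twF_twF_iso n Y (-(i : ℤ)) ((n₀ + n : ℕ) : ℤ) ((n₀ + n - i : ℕ) : ℤ)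
      (by omega) F
    exact IsZero.of_iso (hn₀ (n₀ + n - i) (by omega) i hi)
      ((Coh.RpushAb (KRR.pr n Y) i).mapIso ((SheafOfModules.toSheaf _).mapIso e))
  · push Not at hin
    haveI : Coh.IsQCoh (KRR.twF n Y (-(i : ℤ)) (KRR.twF n Y ((n₀ + n : ℕ) : ℤ) F)) :=
      isQCoh_twF n Y _ _ (isQCoh_twF n Y _ F hF.1)
    refine (isZero_RpushAb_iff n Y _ i).2 (fun V hV => ?_)
    haveI : Coh.IsQCoh ((Scheme.Modules.pullback (chartOver n hV)).obj
        (KRR.twF n Y (-(i : ℤ)) (KRR.twF n Y ((n₀ + n : ℕ) : ℤ) F))) :=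
      Groth.Agent.Lib.Helper2.PullbackSec.isQuasicoherent_pullback _ _
    exact Groth.Agent.S0022.result n Γ(Y, V) _ i hin

attribute [local instance] Groth.Agent.Lib.Helper17.QCPush.enoughInjectives in
/-- `p^* E ⊗ F` is regular for `F` regular and `E` finite locally free on the base. -/
theorem isRegSheaf_tensor_pullback (E : Y.Modules) (hE : FlatMod.IsFinLocFree E)
    (F : (KRR.PY n Y).Modules) (hF : Coh.IsQCoh F) (hreg : KRR.IsRegSheaf n Y F) :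
    KRR.IsRegSheaf n Y (CohB1.tensorMod ((Scheme.Modules.pullback (KRR.pr n Y)).obj E) F) := by
  intro i hi
  haveI : HasInjectiveResolutions (KRR.PY n Y).Modules := inferInstance
  -- `G = F(-i)` has `R^i p_* G = 0`
  have hG0 : IsZero ((Coh.Rpush (KRR.pr n Y) i).obj (KRR.twF n Y (-(i : ℤ)) F)) := by
    obtain ⟨e⟩ := Groth.Agent.Lib.Helper23.ModAbBridge.nonempty_toAb_Rpush_iso (KRR.pr n Y)
      (KRR.twF n Y (-(i : ℤ)) F) i
    exact Groth.Agent.Lib.Helper21.RelExtSS.isZero_of_isZero_toAb _ (IsZero.of_iso (hreg i hi) e)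
  obtain ⟨ε⟩ := Groth.Agent.Lib.Helper1.Proj.nonempty_tensorMod_Rpush_iso (KRR.pr n Y) E hE
    (KRR.twF n Y (-(i : ℤ)) F) i
  have h1 : IsZero ((Coh.Rpush (KRR.pr n Y) i).obj (CohB1.tensorMod
      ((Scheme.Modules.pullback (KRR.pr n Y)).obj E) (KRR.twF n Y (-(i : ℤ)) F))) :=
    IsZero.of_iso ((DCoh.tensorBi.obj E).map_isZero hG0) ε.symm
  obtain ⟨e'⟩ := Groth.Agent.Lib.Helper23.ModAbBridge.nonempty_toAb_Rpush_iso (KRR.pr n Y)
    (CohB1.tensorMod ((Scheme.Modules.pullback (KRR.pr n Y)).obj E) (KRR.twF n Y (-(i : ℤ)) F)) i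
  have h2 : IsZero ((Coh.RpushAb (KRR.pr n Y) i).obj (Coh.toAb (CohB1.tensorMod
      ((Scheme.Modules.pullback (KRR.pr n Y)).obj E) (KRR.twF n Y (-(i : ℤ)) F)))) :=
    IsZero.of_iso ((SheafOfModules.toSheaf _).map_isZero h1) e'.symm
  -- `O(-i) ⊗ (p^*E ⊗ F) ≅ p^*E ⊗ (O(-i) ⊗ F)`
  let P := (Scheme.Modules.pullback (KRR.pr n Y)).obj E
  let L := Twist.twistOver n Y (-(i : ℤ))
  let e3 : KRR.twF n Y (-(i : ℤ)) (CohB1.tensorMod P F) ≅ CohB1.tensorMod P (KRR.twF n Y (-(i : ℤ)) F) :=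
    (tensorAssoc L P F).symm ≪≫
      PicGrp.tensorModIso (brdApp (KRR.PY n Y).sheaf L P) (Iso.refl F) ≪≫ tensorAssoc P L F
  exact IsZero.of_iso h2 ((Coh.RpushAb (KRR.pr n Y) i).mapIso
    ((SheafOfModules.toSheaf _).mapIso e3))

/-- `E ⊗ p_* F ≅ p_*(p^* E ⊗ F)`. -/
noncomputable def pushTensorIso (E : Y.Modules) (hE : FlatMod.IsFinLocFree E)
    (F : (KRR.PY n Y).Modules) :
    CohB1.tensorMod E ((Scheme.Modules.pushforward (KRR.pr n Y)).obj F) ≅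
      (Scheme.Modules.pushforward (KRR.pr n Y)).obj
        (CohB1.tensorMod ((Scheme.Modules.pullback (KRR.pr n Y)).obj E) F) :=
  (Groth.Agent.Lib.Helper1.Proj.projIso (KRR.pr n Y) E hE).app F

end Groth.Agent.Lib.Helper27ProjFormK
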