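import Groth.Agent.Lib.Helper27NNK0
import Groth.Agent.Lib.Helper27NNKoszPush
import Groth.Agent.Lib.Helper27ProjFormK
import Groth.Agent.Lib.Helper1StalkTensorC

/-!
# `p_K [O(d) ⊗ p^* N] = C(n+d, n) • [N]` on `P^n_Y`, `Y` quasi-compact (helper27)

* `tauR G` : `[L] ↦ [L ⊗ G]` on `Kvb X`, `G` finite locally free.
* `twK d` : `[F] ↦ [F(d)]` on `Kvb (P^n_Y)`, `d ∈ ℤ`.
* `koszul_relation_tensor` : `Σ_j (-1)^j C(n+1,j) [G(a+j)] = 0`.
* `pushK_cl_twF_pullback` : `p_K [p^*N (k - n)] = C(k, n) • [N]` for all `k ∈ ℕ` (zero for `k < n`).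
-/

set_option autoImplicit false
universe u

open CategoryTheory CategoryTheory.Limits AlgebraicGeometry TopologicalSpace Opposite

namespace Groth.Agent.Lib.Helper27NNProjK

open Groth.Agent.Helper18KRR Groth.Agent.Lib.Helper27RegClass Groth.Agent.Lib.Helper27K0Gen
  Groth.Agent.Lib.Helper17.K0a KZero Groth.Agent.Lib.Helper27AmpleElt
  Groth.Agent.Lib.Helper27KClass Groth.Agent.Lib.Helper27NNK0 Groth.Agent.Lib.Helper27ProjFormK
  Groth.Agent.Lib.Helper21.ModTensor5 Groth.Agent.Lib.Helper27RelRegA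

section Tensor

variable {X : Scheme.{u}}

/-- `- ⊗ G` is exact for `G` finite locally free. -/
theorem shortExact_map_tensorRightMod (S : ShortComplex X.Modules) (hS : S.ShortExact)
    (G : X.Modules) (hG : FlatMod.IsFinLocFree G) : (S.map (DCoh.tensorRightMod G)).ShortExact := by
  haveI : G.IsQuasicoherent := Groth.Agent.Lib.Helper21.HZB.isQuasicoherent_of_isFinLocFree G hG
  have hfl : FlatMod.IsFlat G := Groth.Agent.Lib.Helper2.LocFree.isFlat_of_isFinLocFree G hG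
  have h := (Groth.Agent.Lib.Helper1.StalkTensor.modSite_isFlat_iff G).2 hfl
  haveI : PreservesFiniteLimits (DCoh.tensorRightMod G) := h.1
  haveI : PreservesFiniteColimits (DCoh.tensorRightMod G) := h.2
  exact hS.map_of_exact (DCoh.tensorRightMod G)

/-- `[L] ↦ [L ⊗ G]` on `Kvb X`. -/
noncomputable def tauR (G : X.Modules) (hG : FlatMod.IsFinLocFree G) : SGA6.Kvb X →+ SGA6.Kvb X :=
  liftK (KRR.vbP X) (fun L => KRR.cl X (CohB1.tensorMod L G)) (by
    intro S hS h₁ h₂ h₃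
    have hS' := shortExact_map_tensorRightMod S hS G hG
    exact cl_shortExact _ hS'
      (Groth.Agent.Lib.Helper23.ResProp.isFinLocFree_tensorMod _ _ h₁ hG)
      (Groth.Agent.Lib.Helper23.ResProp.isFinLocFree_tensorMod _ _ h₂ hG)
      (Groth.Agent.Lib.Helper23.ResProp.isFinLocFree_tensorMod _ _ h₃ hG))

theorem tauR_cl (G : X.Modules) (hG : FlatMod.IsFinLocFree G) (L : X.Modules)
    (hL : FlatMod.IsFinLocFree L) :
    tauR G hG (KRR.cl X L) = KRR.cl X (CohB1.tensorMod L G) :=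
  liftK_clSub (KRR.vbP X) _ _ L hL

end Tensor

variable (n : ℕ) (Y : Scheme.{u})

/-- `[F] ↦ [F(d)]` on `Kvb (P^n_Y)`. -/
noncomputable def twK (d : ℤ) : SGA6.Kvb (KRR.PY n Y) →+ SGA6.Kvb (KRR.PY n Y) :=
  liftK (KRR.vbP (KRR.PY n Y)) (fun F => KRR.cl (KRR.PY n Y) (KRR.twF n Y d F)) (by
    intro S hS h₁ h₂ h₃
    exact cl_shortExact _ (shortExact_twF n Y d S hS) (isFinLocFree_twF n Y d h₁)
      (isFinLocFree_twF n Y d h₂) (isFinLocFree_twF n Y d h₃))

theorem twK_cl (d : ℤ) (F : (KRR.PY n Y).Modules) (hF : FlatMod.IsFinLocFree F) :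
    twK n Y d (KRR.cl (KRR.PY n Y) F) = KRR.cl (KRR.PY n Y) (KRR.twF n Y d F) :=
  liftK_clSub (KRR.vbP (KRR.PY n Y)) _ _ F hF

/-- the Koszul relation, tensored with a finite locally free `G`. -/
theorem koszul_relation_tensor (G : (KRR.PY n Y).Modules) (hG : FlatMod.IsFinLocFree G) (a : ℤ) :
    (Finset.range (n + 2)).sum (fun j => ((-1 : ℤ) ^ j * ((n + 1).choose j : ℤ)) •
      KRR.cl (KRR.PY n Y) (KRR.twF n Y (a + j) G)) = 0 := by
  have h := congrArg (tauR G hG) (Groth.Agent.Lib.Helper27KoszPull.koszul_relation_PY n Y a)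
  rw [map_sum, map_zero] at h
  rw [← h]
  refine Finset.sum_congr rfl (fun j _ => ?_)
  rw [map_zsmul, tauR_cl G hG _
    (Groth.Agent.Lib.Helper27KoszPull.isFinLocFree_twistOver n Y (a + j))]
  rfl

/-- `O(m)` is regular for `m ≥ 0`. -/
theorem isRegSheaf_twistOver (m : ℕ) : KRR.IsRegSheaf n Y (Twist.twistOver n Y (m : ℤ)) := by
  have h0 := Groth.Agent.Lib.Helper27PushStr.isRegSheaf_structureModule n Y
  have hq : Coh.IsQCoh (Coh.structureModule (KRR.PY n Y)) :=
    isQCoh_of_isFinLocFree n Y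
      (Groth.Agent.Lib.Helper23.ResProp.isFinLocFree_of_isInvertible _
        (Groth.Agent.Lib.Helper23.TensorUnit.isInvertible_structureModule _))
  have h1 := isRegSheaf_twF n Y _ hq h0 m
  have e : KRR.twF n Y (m : ℤ) (Coh.structureModule (KRR.PY n Y)) ≅ Twist.twistOver n Y (m : ℤ) :=
    Groth.Agent.Lib.Helper23.TensorUnit.tensorUnitIso (Twist.twistOver n Y (m : ℤ))
  exact isRegSheaf_of_iso n Y e h1

variable [CompactSpace Y]

/-- `p_K [p^*N (m)] = C(n+m, n) • [N]` for `m ≥ 0`. -/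
theorem pushK_cl_twF_pullback_nonneg (N : Y.Modules) (hN : FlatMod.IsFinLocFree N) (m : ℕ) :
    pushK n Y (KRR.cl (KRR.PY n Y)
      (KRR.twF n Y (m : ℤ) ((Scheme.Modules.pullback (KRR.pr n Y)).obj N))) =
      ((n + m).choose n) • KRR.cl Y N := by
  have hPN := Groth.Agent.Lib.Helper1.Sky.isFinLocFree_pullback (KRR.pr n Y) N hN
  have hO := Groth.Agent.Lib.Helper27KoszPull.isFinLocFree_twistOver n Y (m : ℤ)
  have hOq : Coh.IsQCoh (Twist.twistOver n Y (m : ℤ)) := isQCoh_of_isFinLocFree n Y hO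
  -- `p^*N ⊗ O(m)` is regular finite locally free
  have hT : FlatMod.IsFinLocFree (CohB1.tensorMod
      ((Scheme.Modules.pullback (KRR.pr n Y)).obj N) (Twist.twistOver n Y (m : ℤ))) :=
    Groth.Agent.Lib.Helper23.ResProp.isFinLocFree_tensorMod _ _ hPN hO
  have hTreg := isRegSheaf_tensor_pullback n Y N hN _ hOq (isRegSheaf_twistOver n Y m)
  have e1 : CohB1.tensorMod ((Scheme.Modules.pullback (KRR.pr n Y)).obj N)
      (Twist.twistOver n Y (m : ℤ)) ≅
      KRR.twF n Y (m : ℤ) ((Scheme.Modules.pullback (KRR.pr n Y)).obj N) :=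
    brdApp (CohB1.ProjSpaceOver n Y).sheaf ((Scheme.Modules.pullback (KRR.pr n Y)).obj N)
      (Twist.twistOver n Y (m : ℤ))
  have s1 : pushK n Y (KRR.cl (KRR.PY n Y)
      (KRR.twF n Y (m : ℤ) ((Scheme.Modules.pullback (KRR.pr n Y)).obj N))) =
      KRR.cl Y ((Scheme.Modules.pushforward (KRR.pr n Y)).obj (CohB1.tensorMod
        ((Scheme.Modules.pullback (KRR.pr n Y)).obj N) (Twist.twistOver n Y (m : ℤ)))) :=
    (congrArg (pushK n Y) (cl_of_iso e1 hT).symm).trans (pushK_cl n Y _ hT hTreg)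
  -- `p_*(p^*N ⊗ O(m)) ≅ N ⊗ p_* O(m) ≅ p_* O(m) ⊗ N`
  have hpO := Groth.Agent.Lib.Helper27NNKoszPush.isFinLocFree_push_twistOver n Y (m : ℤ) (by omega)
  have e2 := pushTensorIso n Y N hN (Twist.twistOver n Y (m : ℤ))
  have hNO : FlatMod.IsFinLocFree (CohB1.tensorMod N
      ((Scheme.Modules.pushforward (KRR.pr n Y)).obj (Twist.twistOver n Y (m : ℤ)))) :=
    Groth.Agent.Lib.Helper23.ResProp.isFinLocFree_tensorMod _ _ hN hpO
  have s2 := (cl_of_iso e2 hNO).symm
  have e3 : CohB1.tensorMod N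
      ((Scheme.Modules.pushforward (KRR.pr n Y)).obj (Twist.twistOver n Y (m : ℤ))) ≅
      CohB1.tensorMod
        ((Scheme.Modules.pushforward (KRR.pr n Y)).obj (Twist.twistOver n Y (m : ℤ))) N :=
    brdApp Y.sheaf N
      ((Scheme.Modules.pushforward (KRR.pr n Y)).obj (Twist.twistOver n Y (m : ℤ)))
  have s3 := cl_of_iso e3 hNO
  have s4 := (tauR_cl N hN _ hpO).symm
  have hOY : FlatMod.IsFinLocFree (Coh.structureModule Y) :=
    Groth.Agent.Lib.Helper23.ResProp.isFinLocFree_of_isInvertible _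
      (Groth.Agent.Lib.Helper23.TensorUnit.isInvertible_structureModule Y)
  have e4 : CohB1.tensorMod (Coh.structureModule Y) N ≅ N :=
    Groth.Agent.Lib.Helper23.TensorUnit.unitTensorIso N
  have s5 : tauR N hN (KRR.cl Y (Coh.structureModule Y)) = KRR.cl Y N :=
    (tauR_cl N hN _ hOY).trans
      (cl_of_iso e4 (Groth.Agent.Lib.Helper23.ResProp.isFinLocFree_tensorMod _ _ hOY hN))
  have s6 : tauR N hN (KRR.cl Y ((Scheme.Modules.pushforward (KRR.pr n Y)).obj
      (Twist.twistOver n Y (m : ℤ)))) = ((n + m).choose n) • KRR.cl Y N := by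
    have h := Groth.Agent.Lib.Helper27NNKoszPush.cl_push_twistOver n Y m
    exact (congrArg (tauR N hN) h).trans (((tauR N hN).map_nsmul _ _).trans
      (congrArg (fun z => ((n + m).choose n) • z) s5))
  exact s1.trans (s2.trans (s3.trans (s4.trans s6)))

/-- **`p_K [p^*N (k - n)] = C(k, n) • [N]`** for all `k ∈ ℕ`. -/
theorem pushK_cl_twF_pullback (N : Y.Modules) (hN : FlatMod.IsFinLocFree N) (k : ℕ) :
    pushK n Y (KRR.cl (KRR.PY n Y)
      (KRR.twF n Y ((k : ℤ) - n) ((Scheme.Modules.pullback (KRR.pr n Y)).obj N))) =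
      (k.choose n : ℤ) • KRR.cl Y N := by
  have hPN := Groth.Agent.Lib.Helper1.Sky.isFinLocFree_pullback (KRR.pr n Y) N hN
  let v : ℕ → SGA6.Kvb Y := fun k => pushK n Y (KRR.cl (KRR.PY n Y)
      (KRR.twF n Y ((k : ℤ) - n) ((Scheme.Modules.pullback (KRR.pr n Y)).obj N)))
  have hrec : IsRec n v := by
    intro b
    have h := congrArg (pushK n Y) (koszul_relation_tensor n Y _ hPN ((b : ℤ) - n))
    rw [map_sum, map_zero] at h
    rw [← h]
    refine Finset.sum_congr rfl (fun j _ => ?_)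
    rw [map_zsmul]
    change _ • pushK n Y (KRR.cl (KRR.PY n Y)
      (KRR.twF n Y (((b + j : ℕ) : ℤ) - n) ((Scheme.Modules.pullback (KRR.pr n Y)).obj N))) = _
    rw [show ((b + j : ℕ) : ℤ) - n = (b : ℤ) - n + j by push_cast; ring]
  have hge : ∀ k, n ≤ k → v k = (k.choose n : ℤ) • KRR.cl Y N := by
    intro k hk
    obtain ⟨m, rfl⟩ : ∃ m, k = n + m := ⟨k - n, by omega⟩
    change pushK n Y (KRR.cl (KRR.PY n Y)
      (KRR.twF n Y (((n + m : ℕ) : ℤ) - n) ((Scheme.Modules.pullback (KRR.pr n Y)).obj N))) = _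
    rw [show ((n + m : ℕ) : ℤ) - n = (m : ℤ) by push_cast; ring,
      pushK_cl_twF_pullback_nonneg n Y N hN m, natCast_zsmul]
  exact rec_backward n v (KRR.cl Y N) hrec hge k

end Groth.Agent.Lib.Helper27NNProjK
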