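import Groth.Agent.Lib.Helper27RegClass
import Groth.Agent.Lib.Helper23VeryAmple3
import Groth.Agent.Lib.Helper23RelRes
import Groth.Agent.Lib.Helper2TwFlatD
import Groth.Agent.Lib.Helper27AmpleElt

/-!
# Relative Serre vanishing for finite locally free modules on `P^n_Y`, `Y` affine, no Noetherian
hypothesis (helper27)

* `isZero_RpushAb_of_lt` : `R^i p_* M = 0` for `i > n`, `M` quasi-coherent, any base.
* `exists_isZero_RpushAb_twF_vb` : for `Y` affine and `F` finite locally free on `P^n_Y`,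
  `R^q p_*(F(m)) = 0` for `q ≥ 1`, `m ≫ 0` (dévissage `0 → K → O^k → F(a) → 0`, descending induction).
* `exists_isRegSheaf_twF_vb` : for `Y` affine, some twist `F(k)` is regular.
-/

set_option autoImplicit false
universe u

open CategoryTheory CategoryTheory.Limits AlgebraicGeometry TopologicalSpace Opposite

namespace Groth.Agent.Lib.Helper27NNRegA

open Groth.Agent.Helper18KRR Groth.Agent.Lib.Helper21.ModTensor5 Groth.Agent.Lib.Helper23.LocGen
  Groth.Agent.Lib.Helper17.TwistBC Groth.Agent.Lib.Helper27RelRegA Groth.Agent.Lib.Helper27RelRegD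
  Groth.Agent.Lib.Helper27SerreVan Groth.Agent.Lib.Helper27ProjFormK Groth.Agent.Lib.Helper27KoszPush
  Groth.Agent.Lib.Helper27RegClass

variable (n : ℕ) (Y : Scheme.{u})

/-- `R^i p_* M = 0` for `i > n` and `M` quasi-coherent on `P^n_Y`. -/
theorem isZero_RpushAb_of_lt (M : (KRR.PY n Y).Modules) (hM : Coh.IsQCoh M) (i : ℕ) (hi : n < i) :
    IsZero ((Coh.RpushAb (KRR.pr n Y) i).obj (Coh.toAb M)) := by
  haveI := hM
  refine (isZero_RpushAb_iff n Y M i).2 (fun V hV => ?_)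
  haveI : Coh.IsQCoh ((Scheme.Modules.pullback (chartOver n hV)).obj M) :=
    Groth.Agent.Lib.Helper2.PullbackSec.isQuasicoherent_pullback _ _
  exact Groth.Agent.S0022.result n Γ(Y, V) _ i hi

/-- `R^q p_*` of `O(m)^k`, `m ≥ 0`, vanishes for `q ≥ 1`. -/
theorem isZero_RpushAb_twF_freeMod (m : ℕ) (k : ℕ) (q : ℕ) (hq : 1 ≤ q) :
    IsZero ((Coh.RpushAb (KRR.pr n Y) q).obj
      (Coh.toAb (KRR.twF n Y (m : ℤ) (FlatMod.freeMod (KRR.PY n Y) k)))) := by
  obtain ⟨e⟩ := nonempty_twF_sigma_iso n Y (m : ℤ) (Coh.structureModule (KRR.PY n Y)) k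
  have e1 : KRR.twF n Y (m : ℤ) (Coh.structureModule (KRR.PY n Y)) ≅ Twist.twistOver n Y (m : ℤ) :=
    Groth.Agent.Lib.Helper23.TensorUnit.tensorUnitIso _
  have h0 : IsZero ((Coh.RpushAb (KRR.pr n Y) q).obj
      (Coh.toAb (KRR.twF n Y (m : ℤ) (Coh.structureModule (KRR.PY n Y))))) :=
    IsZero.of_iso (Groth.Agent.Lib.Helper27PushAcyc.acyc_twistOver (n := n) (T := Y) (m : ℤ)
      (by omega) q hq)
      ((Coh.RpushAb (KRR.pr n Y) q).mapIso ((SheafOfModules.toSheaf _).mapIso e1))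
  have hq1 : Coh.IsQCoh (KRR.twF n Y (m : ℤ) (Coh.structureModule (KRR.PY n Y))) :=
    isQCoh_twF n Y _ _ (isQCoh_of_isFinLocFree n Y
      (Groth.Agent.Lib.Helper23.ResProp.isFinLocFree_of_isInvertible _
        (Groth.Agent.Lib.Helper23.TensorUnit.isInvertible_structureModule _)))
  have h1 := isZero_RpushAb_sigma_const n Y _ hq1 q hq h0 k
  exact IsZero.of_iso h1 ((Coh.RpushAb (KRR.pr n Y) q).mapIso
    ((SheafOfModules.toSheaf _).mapIso e))

variable [IsAffine Y]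

/-- descending induction: for `F` finite locally free on `P^n_Y` (`Y` affine) there is `m₀` with
`R^q p_*(F(m)) = 0` for `m ≥ m₀` and `q ≥ max 1 (n + 1 - j)`. -/
theorem exists_isZero_RpushAb_twF_vb_aux : ∀ (j : ℕ) (F : (KRR.PY n Y).Modules),
    FlatMod.IsFinLocFree F → ∃ m₀ : ℕ, ∀ m : ℕ, m₀ ≤ m → ∀ q : ℕ, n + 1 ≤ q + j → 1 ≤ q →
      IsZero ((Coh.RpushAb (KRR.pr n Y) q).obj (Coh.toAb (KRR.twF n Y (m : ℤ) F))) := by
  intro j
  induction j with
  | zero =>
    intro F hF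
    refine ⟨0, fun m _ q hq _ => ?_⟩
    exact isZero_RpushAb_of_lt n Y _ (isQCoh_twF n Y _ F (isQCoh_of_isFinLocFree n Y hF)) q
      (by omega)
  | succ j ih =>
    intro F hF
    have hFcoh := Groth.Agent.Lib.Helper21.HZB.isCoh_of_isFinLocFree F hF
    haveI : F.IsQuasicoherent := hFcoh.1
    haveI : SheafOfModules.IsFiniteType (R := (KRR.PY n Y).ringCatSheaf) F := hFcoh.2
    have hL : CohB1.IsAmple (Twist.twistOver n Y 1) :=
      Groth.Agent.Lib.Helper23.VeryAmple3.isAmple_twistOver n Y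
    obtain ⟨a, ha⟩ := Groth.Agent.Lib.Helper23.RelRes.exists_epi_freeMod_twist
      (Twist.twistOver n Y 1) hL F
    obtain ⟨k, p₀, hp₀⟩ := ha a le_rfl
    obtain ⟨e₀⟩ := Groth.Agent.Lib.Helper2.TwFlatD.nonempty_tensorPow_twistOver_iso n (Y := Y) a
    let ε : CohB1.tensorMod F (CohB1.tensorPow (Twist.twistOver n Y 1) a) ≅
        KRR.twF n Y (a : ℤ) F :=
      PicGrp.tensorModIso (Iso.refl F) e₀ ≪≫
        brdApp (CohB1.ProjSpaceOver n Y).sheaf F (Twist.twistOver n Y (a : ℤ))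
    let p : FlatMod.freeMod (KRR.PY n Y) k ⟶ KRR.twF n Y (a : ℤ) F := p₀ ≫ ε.hom
    haveI := hp₀
    haveI : Epi p := epi_comp _ _
    have hFa : FlatMod.IsFinLocFree (KRR.twF n Y (a : ℤ) F) := isFinLocFree_twF n Y _ hF
    have hfree := Groth.Agent.Lib.Helper23.ResProp.isFinLocFree_freeMod (KRR.PY n Y) k
    have hK : FlatMod.IsFinLocFree (kernel p) :=
      Groth.Agent.Lib.Helper1.SPL.isFinLocFree_kernel p hfree hFa
    let S : ShortComplex (KRR.PY n Y).Modules :=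
      ShortComplex.mk (kernel.ι p) p (kernel.condition p)
    have hS : S.ShortExact :=
      { exact := ShortComplex.exact_kernel p
        mono_f := by dsimp [S]; infer_instance
        epi_g := by dsimp [S]; infer_instance }
    obtain ⟨m₁, hm₁⟩ := ih (kernel p) hK
    refine ⟨a + m₁, fun m hm q hq hq1 => ?_⟩
    obtain ⟨m', rfl⟩ : ∃ m', m = a + m' := ⟨m - a, by omega⟩
    have hS' := shortExact_twF n Y (m' : ℤ) S hS
    have h3 : IsZero ((Coh.RpushAb (KRR.pr n Y) q).obj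
        (Coh.toAb (KRR.twF n Y (m' : ℤ) (KRR.twF n Y (a : ℤ) F)))) := by
      refine isZero_RpushAb_X₃ n Y _ hS'
        (isQCoh_twF n Y _ _ (isQCoh_of_isFinLocFree n Y hK))
        (isQCoh_twF n Y _ _ (isQCoh_of_isFinLocFree n Y hfree))
        (isQCoh_twF n Y _ _ (isQCoh_of_isFinLocFree n Y hFa)) q ?_ ?_
      · exact isZero_RpushAb_twF_freeMod n Y m' k q hq1
      · exact hm₁ m' (by omega) (q + 1) (by omega) (by omega)
    obtain ⟨e⟩ := nonempty_twF_twF_iso n Y (m' : ℤ) (a : ℤ) ((a + m' : ℕ) : ℤ)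
      (by push_cast; ring) F
    exact IsZero.of_iso h3 ((Coh.RpushAb (KRR.pr n Y) q).mapIso
      ((SheafOfModules.toSheaf _).mapIso e)).symm

/-- **relative Serre vanishing for vector bundles**, affine base, no Noetherian hypothesis. -/
theorem exists_isZero_RpushAb_twF_vb (F : (KRR.PY n Y).Modules) (hF : FlatMod.IsFinLocFree F) :
    ∃ m₀ : ℕ, ∀ m : ℕ, m₀ ≤ m → ∀ q : ℕ, 1 ≤ q →
      IsZero ((Coh.RpushAb (KRR.pr n Y) q).obj (Coh.toAb (KRR.twF n Y (m : ℤ) F))) := by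
  obtain ⟨m₀, h⟩ := exists_isZero_RpushAb_twF_vb_aux n Y n F hF
  exact ⟨m₀, fun m hm q hq => h m hm q (by omega) hq⟩

/-- some twist of a finite locally free module on `P^n_Y`, `Y` affine, is regular. -/
theorem exists_isRegSheaf_twF_vb (F : (KRR.PY n Y).Modules) (hF : FlatMod.IsFinLocFree F) :
    ∃ k : ℕ, KRR.IsRegSheaf n Y (KRR.twF n Y (k : ℤ) F) := by
  obtain ⟨n₀, hn₀⟩ := exists_isZero_RpushAb_twF_vb n Y F hF
  have hq := isQCoh_of_isFinLocFree n Y hF
  refine ⟨n₀ + n, fun i hi => ?_⟩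
  by_cases hin : i ≤ n
  · obtain ⟨e⟩ := nonempty_twF_twF_iso n Y (-(i : ℤ)) ((n₀ + n : ℕ) : ℤ) ((n₀ + n - i : ℕ) : ℤ)
      (by omega) F
    exact IsZero.of_iso (hn₀ (n₀ + n - i) (by omega) i hi)
      ((Coh.RpushAb (KRR.pr n Y) i).mapIso ((SheafOfModules.toSheaf _).mapIso e))
  · push Not at hin
    exact isZero_RpushAb_of_lt n Y _ (isQCoh_twF n Y _ _ (isQCoh_twF n Y _ F hq)) i hin

end Groth.Agent.Lib.Helper27NNRegA
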