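import Groth.Agent.Lib.Helper27RelProj4

/-!
# The graded ring `S♮ ⊗_S S_0 = ⊕ S_[n] / S_+ S_[n]` and `Proj` (helper27)
-/

set_option autoImplicit false
universe u

open scoped HomogeneousIdeal

namespace Groth.Agent.Lib.Helper27Natural

section Sge

variable {R A : Type u} [CommRing R] [CommRing A] [Algebra R A]
  (𝒜 : ℕ → Submodule R A) [GradedAlgebra 𝒜]

/-- `S_[n] = ⊕_{m ≥ n} S_m`. -/
def Sge (n : ℕ) : Submodule R A := ⨆ (m : ℕ) (_ : n ≤ m), 𝒜 m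

variable {𝒜}

theorem mem_Sge_of_mem {n m : ℕ} (h : n ≤ m) {a : A} (ha : a ∈ 𝒜 m) : a ∈ Sge 𝒜 n :=
  Submodule.mem_iSup_of_mem m (Submodule.mem_iSup_of_mem h ha)

theorem Sge_induction {n : ℕ} {motive : A → Prop} {x : A} (hx : x ∈ Sge 𝒜 n)
    (mem : ∀ m, n ≤ m → ∀ x ∈ 𝒜 m, motive x) (zero : motive 0)
    (add : ∀ x y, motive x → motive y → motive (x + y)) : motive x := by
  refine Submodule.iSup_induction (motive := motive) _ hx (fun m x hx => ?_) zero add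
  by_cases h : n ≤ m
  · rw [iSup_pos h] at hx
    exact mem m h x hx
  · rw [iSup_neg h] at hx
    rw [(Submodule.mem_bot R).mp hx]
    exact zero

theorem Sge_antitone {n n' : ℕ} (h : n ≤ n') : Sge 𝒜 n' ≤ Sge 𝒜 n := by
  intro a ha
  exact Sge_induction ha (fun m hm x hx => mem_Sge_of_mem (h.trans hm) hx) (Submodule.zero_mem _)
    (fun x y hx hy => Submodule.add_mem _ hx hy)

theorem proj_eq_zero_of_mem_Sge {n : ℕ} {a : A} (ha : a ∈ Sge 𝒜 n) {k : ℕ} (hk : k < n) :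
    GradedRing.proj 𝒜 k a = 0 := by
  classical
  refine Sge_induction (motive := fun a => GradedRing.proj 𝒜 k a = 0) ha (fun m hm x hx => ?_)
    (map_zero _) (fun x y hx hy => by rw [map_add, hx, hy, add_zero])
  rw [GradedRing.proj_apply]
  exact DirectSum.decompose_of_mem_ne 𝒜 hx (by omega)

theorem mem_Sge_of_proj {n : ℕ} {a : A} (h : ∀ k < n, GradedRing.proj 𝒜 k a = 0) :
    a ∈ Sge 𝒜 n := by
  classical
  rw [← DirectSum.sum_support_decompose 𝒜 a]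
  refine Submodule.sum_mem _ fun k _ => ?_
  by_cases hk : k < n
  · have := h k hk
    rw [GradedRing.proj_apply] at this
    rw [this]
    exact Submodule.zero_mem _
  · exact mem_Sge_of_mem (not_lt.mp hk) (SetLike.coe_mem _)

theorem mul_mem_Sge {p q : ℕ} {a b : A} (ha : a ∈ Sge 𝒜 p) (hb : b ∈ Sge 𝒜 q) :
    a * b ∈ Sge 𝒜 (p + q) := by
  refine Sge_induction (motive := fun a => a * b ∈ Sge 𝒜 (p + q)) ha (fun m hm x hx => ?_)
    (by rw [zero_mul]; exact Submodule.zero_mem _)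
    (fun x y hx hy => by rw [add_mul]; exact Submodule.add_mem _ hx hy)
  refine Sge_induction (motive := fun b => x * b ∈ Sge 𝒜 (p + q)) hb (fun m' hm' y hy => ?_)
    (by rw [mul_zero]; exact Submodule.zero_mem _)
    (fun x' y hx hy => by rw [mul_add]; exact Submodule.add_mem _ hx hy)
  exact mem_Sge_of_mem (Nat.add_le_add hm hm') (SetLike.mul_mem_graded hx hy)

theorem one_mem_Sge_zero : (1 : A) ∈ Sge 𝒜 0 :=
  mem_Sge_of_mem le_rfl (SetLike.one_mem_graded 𝒜)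

theorem pow_mem_Sge {p : ℕ} {a : A} (ha : a ∈ Sge 𝒜 p) (k : ℕ) : a ^ k ∈ Sge 𝒜 (k * p) := by
  induction k with
  | zero => rw [pow_zero, Nat.zero_mul]; exact one_mem_Sge_zero
  | succ k ih =>
    rw [pow_succ, Nat.succ_mul]
    exact mul_mem_Sge ih ha

theorem mem_Sge_zero (a : A) : a ∈ Sge 𝒜 0 :=
  mem_Sge_of_proj (fun k hk => absurd hk (Nat.not_lt_zero k))

theorem mem_irrelevant_of_mem_Sge {n : ℕ} (hn : 0 < n) {a : A} (ha : a ∈ Sge 𝒜 n) :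
    a ∈ (𝒜₊).toIdeal := by
  change a ∈ 𝒜₊
  rw [HomogeneousIdeal.mem_irrelevant_iff]
  exact proj_eq_zero_of_mem_Sge ha hn

end Sge

section Large

open CategoryTheory AlgebraicGeometry HomogeneousLocalization

variable {A B σ τ : Type u} [CommRing A] [SetLike σ A] [AddSubgroupClass σ A]
  [CommRing B] [SetLike τ B] [AddSubgroupClass τ B]
  {𝒜 : ℕ → σ} {ℬ : ℕ → τ} [GradedRing 𝒜] [GradedRing ℬ]
  (f : 𝒜 →+*ᵍ ℬ) (hf : ℬ₊ ≤ 𝒜₊.map f)

theorem away_map_injective_of_large (n₀ : ℕ)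
    (hinj : ∀ n, n₀ ≤ n → ∀ x ∈ 𝒜 n, f x = 0 → x = 0) {d : ℕ}
    (hd : 0 < d) (s : A) (hs : s ∈ 𝒜 d) : Function.Injective (Away.map f s) := by
  rw [injective_iff_map_eq_zero]
  intro z hz
  obtain ⟨n, a, ha, rfl⟩ := Away.mk_surjective 𝒜 hs z
  rw [Away.map_mk] at hz
  have hv := congrArg HomogeneousLocalization.val hz
  rw [Away.val_mk, HomogeneousLocalization.val_zero, Localization.mk_eq_mk',
    IsLocalization.mk'_eq_zero_iff] at hv
  obtain ⟨⟨c, m, rfl⟩, hm⟩ := hv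
  simp only at hm
  have hge : n₀ ≤ ((1 + n₀) + m) • d + n • d := by
    have h1 : n₀ ≤ ((1 + n₀) + m) • d := by
      rw [smul_eq_mul]
      calc n₀ ≤ (1 + n₀ + m) := by omega
        _ = (1 + n₀ + m) * 1 := (Nat.mul_one _).symm
        _ ≤ (1 + n₀ + m) * d := Nat.mul_le_mul_left _ hd
    omega
  have h0 : s ^ ((1 + n₀) + m) * a = 0 := by
    apply hinj _ hge _ (SetLike.mul_mem_graded (SetLike.pow_mem_graded _ hs) ha)
    rw [map_mul, map_pow, pow_add, mul_assoc, hm, mul_zero]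
  apply HomogeneousLocalization.val_injective
  rw [Away.val_mk, HomogeneousLocalization.val_zero, Localization.mk_eq_mk',
    IsLocalization.mk'_eq_zero_iff]
  exact ⟨⟨s ^ ((1 + n₀) + m), (1 + n₀) + m, rfl⟩, h0⟩

theorem map_isIso_of_large (n₀ : ℕ) (hinj : ∀ n, n₀ ≤ n → ∀ x ∈ 𝒜 n, f x = 0 → x = 0)
    (hsurj : ∀ n, 0 < n → ∀ y ∈ ℬ n, ∃ x ∈ 𝒜 n, f x = y) : IsIso (Proj.map f hf) := by
  have : (MorphismProperty.isomorphisms Scheme.{u}) (Proj.map f hf) := by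
    apply Helper27RelProj4.map_of_away (P := MorphismProperty.isomorphisms Scheme.{u}) f hf
    intro d hd s hs
    have h1 : IsIso (CommRingCat.ofHom (Away.map f s)) := by
      rw [ConcreteCategory.isIso_iff_bijective]
      exact ⟨away_map_injective_of_large f n₀ hinj hd s hs,
        Helper27RelProj4.away_map_surjective f hsurj hd s hs⟩
    change IsIso _
    infer_instance
  exact this

end Large

section Main

variable {R A B C : Type u} [CommRing R] [CommRing A] [Algebra R A]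
  (𝒜 : ℕ → Submodule R A) [GradedAlgebra 𝒜] [CommRing B] [Algebra R B]
  (ℬ : ℕ → Submodule R B) [GradedAlgebra ℬ]
  (φ : B →ₐ[R] Polynomial A) (hφ : Function.Injective φ)
  (hdeg : ∀ n : ℕ, Submodule.map φ.toLinearMap (ℬ n) =
    Submodule.map ((Polynomial.monomial n : A →ₗ[A] Polynomial A).restrictScalars R) (Sge 𝒜 n))
  [CommRing C] [Algebra R C] (𝒞 : ℕ → Submodule R C) [GradedAlgebra 𝒞]
  (π : ℬ →+*ᵍ 𝒞) (hπ : Function.Surjective π)
  (hker : RingHom.ker π.toRingHom =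
    Ideal.span (⇑φ ⁻¹' (⇑(Polynomial.C : A →+* Polynomial A) ''
      ((HomogeneousIdeal.irrelevant 𝒜).toIdeal : Set A))))
  (ρ : 𝒞 →+*ᵍ 𝒜)
  (hρ : ∀ (n : ℕ) (b : B), b ∈ ℬ n → ρ (π b) = GradedRing.proj 𝒜 n ((φ b).coeff n))

include hdeg in
theorem exists_of_mem {n : ℕ} {b : B} (hb : b ∈ ℬ n) :
    ∃ a ∈ Sge 𝒜 n, φ b = Polynomial.monomial n a := by
  have : φ b ∈ Submodule.map φ.toLinearMap (ℬ n) := ⟨b, hb, rfl⟩
  rw [hdeg] at this
  obtain ⟨a, ha, hab⟩ := this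
  exact ⟨a, ha, hab.symm⟩

include hdeg in
theorem exists_lift {n : ℕ} {a : A} (ha : a ∈ Sge 𝒜 n) :
    ∃ b ∈ ℬ n, φ b = Polynomial.monomial n a := by
  have : Polynomial.monomial n a ∈ Submodule.map φ.toLinearMap (ℬ n) := by
    rw [hdeg]
    exact ⟨a, ha, rfl⟩
  obtain ⟨b, hb, hbe⟩ := this
  exact ⟨b, hb, hbe⟩

include hdeg hρ in
theorem exists_rho_eq {n : ℕ} {a : A} (ha : a ∈ 𝒜 n) : ∃ t ∈ 𝒞 n, ρ t = a := by
  classical
  obtain ⟨b, hb, hbe⟩ := exists_lift 𝒜 ℬ φ hdeg (mem_Sge_of_mem le_rfl ha)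
  refine ⟨π b, π.2 hb, ?_⟩
  rw [hρ n b hb, hbe, Polynomial.coeff_monomial, if_pos rfl, GradedRing.proj_apply,
    DirectSum.decompose_of_mem_same 𝒜 ha]

include hdeg hρ in
theorem rho_surjective : Function.Surjective ρ := by
  classical
  intro a
  have hk : ∀ k, ((DirectSum.decompose 𝒜 a k : 𝒜 k) : A) ∈ (ρ : C →+* A).range := by
    intro k
    obtain ⟨t, -, ht⟩ := exists_rho_eq 𝒜 ℬ φ hdeg 𝒞 π ρ hρ (SetLike.coe_mem (DirectSum.decompose 𝒜 a k))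
    exact ⟨t, ht⟩
  have := Subring.sum_mem (ρ : C →+* A).range
    (fun k (_ : k ∈ (DirectSum.decompose 𝒜 a).support) => hk k)
  rw [DirectSum.sum_support_decompose 𝒜 a] at this
  exact this

include hdeg hker in
theorem exists_ker_of_mul {n : ℕ} {u v : A} (hu : u ∈ (𝒜₊).toIdeal) (hv : v ∈ Sge 𝒜 n) :
    ∃ b ∈ ℬ n, π b = 0 ∧ φ b = Polynomial.monomial n (u * v) := by
  obtain ⟨c, hc0, hc⟩ := exists_lift 𝒜 ℬ φ hdeg (mem_Sge_zero u)
  obtain ⟨b', hb', hb'e⟩ := exists_lift 𝒜 ℬ φ hdeg hv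
  have hcker : c ∈ RingHom.ker π.toRingHom := by
    rw [hker]
    refine Ideal.subset_span ⟨u, hu, ?_⟩
    rw [hc]
    rfl
  refine ⟨c * b', ?_, ?_, ?_⟩
  · have := SetLike.mul_mem_graded hc0 hb'
    rwa [zero_add] at this
  · have h0 : π c = 0 := hcker
    rw [map_mul, h0, zero_mul]
  · rw [map_mul, hc, hb'e, Polynomial.monomial_mul_monomial, zero_add]

include hdeg hρ in
/-- the coefficient of a homogeneous lift of an element of the kernel of `ρ`. -/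
theorem mem_Sge_succ {n : ℕ} {b : B} (hb : b ∈ ℬ n) (h0 : ρ (π b) = 0) {a : A}
    (ha : a ∈ Sge 𝒜 n) (hab : φ b = Polynomial.monomial n a) : a ∈ Sge 𝒜 (n + 1) := by
  apply mem_Sge_of_proj
  intro k hk
  rcases Nat.lt_succ_iff_lt_or_eq.mp hk with h | rfl
  · exact proj_eq_zero_of_mem_Sge ha h
  · rw [hρ k b hb, hab, Polynomial.coeff_monomial, if_pos rfl] at h0
    exact h0

include hφ hdeg hπ hker hρ in
theorem pow_eq_zero_of_rho_eq_zero {n : ℕ} {t : C} (ht : t ∈ 𝒞 n) (h0 : ρ t = 0) :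
    t ^ (n + 1) = 0 := by
  obtain ⟨b, hb, rfl⟩ := Helper27RelProj4.exists_mem_of_surjective π hπ ht
  obtain ⟨a, ha, hab⟩ := exists_of_mem 𝒜 ℬ φ hdeg hb
  have ha1 : a ∈ Sge 𝒜 (n + 1) := mem_Sge_succ 𝒜 ℬ φ hdeg 𝒞 π ρ hρ hb h0 ha hab
  have hirr : a ∈ (𝒜₊).toIdeal := mem_irrelevant_of_mem_Sge (Nat.succ_pos n) ha1
  have hpow : a ^ n ∈ Sge 𝒜 (n * (n + 1)) := pow_mem_Sge ha1 n
  obtain ⟨b2, -, hπb2, hφb2⟩ := exists_ker_of_mul 𝒜 ℬ φ hdeg 𝒞 π hker hirr hpow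
  have hb2 : b ^ (n + 1) = b2 := by
    apply hφ
    rw [map_pow, hab, Polynomial.monomial_pow, hφb2, pow_succ', mul_comm n (n + 1)]
  rw [← map_pow, hb2, hπb2]

include hφ hdeg hπ hker hρ in
theorem eq_zero_of_rho_eq_zero {n₀ : ℕ} (hgen : ∀ n : ℕ, n₀ ≤ n → 𝒜 (n + 1) = 𝒜 1 * 𝒜 n)
    {n : ℕ} (hn : n₀ ≤ n) {t : C} (ht : t ∈ 𝒞 n) (h0 : ρ t = 0) : t = 0 := by
  obtain ⟨b, hb, rfl⟩ := Helper27RelProj4.exists_mem_of_surjective π hπ ht
  obtain ⟨a, ha, hab⟩ := exists_of_mem 𝒜 ℬ φ hdeg hb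
  have ha1 : a ∈ Sge 𝒜 (n + 1) := mem_Sge_succ 𝒜 ℬ φ hdeg 𝒞 π ρ hρ hb h0 ha hab
  have key : ∃ b' : B, π b' = 0 ∧ φ b' = Polynomial.monomial n a := by
    refine Sge_induction (motive := fun a => ∃ b' : B, π b' = 0 ∧ φ b' = Polynomial.monomial n a)
      ha1 (fun m hm x hx => ?_) ⟨0, map_zero _, by rw [map_zero, map_zero]⟩ ?_
    · obtain ⟨m', rfl⟩ : ∃ m', m = m' + 1 := ⟨m - 1, by omega⟩
      have hm' : n ≤ m' := by omega
      rw [hgen m' (hn.trans hm')] at hx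
      refine Submodule.mul_induction_on hx (fun u hu v hv => ?_) ?_
      · obtain ⟨b', -, h1, h2⟩ := exists_ker_of_mul 𝒜 ℬ φ hdeg 𝒞 π hker
          (HomogeneousIdeal.mem_irrelevant_of_mem 𝒜 one_pos hu) (mem_Sge_of_mem hm' hv)
        exact ⟨b', h1, h2⟩
      · rintro x y ⟨bx, hx1, hx2⟩ ⟨by', hy1, hy2⟩
        exact ⟨bx + by', by rw [map_add, hx1, hy1, add_zero], by rw [map_add, hx2, hy2, map_add]⟩
    · rintro x y ⟨bx, hx1, hx2⟩ ⟨by', hy1, hy2⟩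
      exact ⟨bx + by', by rw [map_add, hx1, hy1, add_zero], by rw [map_add, hx2, hy2, map_add]⟩
  obtain ⟨b', h1, h2⟩ := key
  have : b = b' := hφ (by rw [hab, h2])
  rw [this, h1]

end Main

end Groth.Agent.Lib.Helper27Natural
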