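import Mathlib

set_option autoImplicit false
universe u

namespace Groth.Agent.Lib.Helper27.NormalHt1

open IsLocalRing

/-- Core lemma: in a normal Noetherian domain, if `rad (z)` is a prime `p` and `z ≠ 0`, then
`A_p` is a DVR and there's `t ∈ p` such that every nonzero `y` satisfies `s * y = a * t ^ n`
with `a, s ∉ p`. -/
theorem exists_uniformizer (A : Type u) [CommRing A] [IsDomain A] [IsNoetherianRing A]
    [IsIntegrallyClosed A] (z : A) (hz0 : z ≠ 0) (hz : (Ideal.span {z}).radical.IsPrime) :
    ∃ t ∈ (Ideal.span {z}).radical, ∀ y : A, y ≠ 0 → ∃ (a s : A) (n : ℕ),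
      a ∉ (Ideal.span {z}).radical ∧ s ∉ (Ideal.span {z}).radical ∧ s * y = a * t ^ n ∧
      (y ∈ (Ideal.span {z}).radical → n ≠ 0) := by
  set p := (Ideal.span {z}).radical with hp
  have hzp : z ∈ p := Ideal.le_radical (Ideal.mem_span_singleton_self z)
  have hmin : p ∈ (Ideal.span {z}).minimalPrimes := by
    refine ⟨⟨hz, Ideal.le_radical⟩, ?_⟩
    rintro q ⟨hq, hzq⟩ _
    exact hq.radical_le_iff.mpr hzq
  have hht : p.height ≤ 1 :=
    Ideal.height_le_one_of_isPrincipal_of_mem_minimalPrimes (Ideal.span {z}) p hmin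
  let R := Localization.AtPrime p
  have hinj : Function.Injective (algebraMap A R) :=
    IsLocalization.injective R (Ideal.primeCompl_le_nonZeroDivisors p)
  have : IsDomain R := IsLocalization.isDomain_localization (Ideal.primeCompl_le_nonZeroDivisors p)
  have : IsNoetherianRing R := IsLocalization.isNoetherianRing p.primeCompl R inferInstance
  have : IsIntegrallyClosed R :=
    isIntegrallyClosed_of_isLocalization R p.primeCompl (Ideal.primeCompl_le_nonZeroDivisors p)
  have hdim : ringKrullDim R ≤ 1 := by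
    rw [IsLocalization.AtPrime.ringKrullDim_eq_height p R]
    exact_mod_cast hht
  have : Ring.KrullDimLE 1 R := Ring.krullDimLE_iff.mpr hdim
  have hPID : IsPrincipalIdealRing R := by
    have h := (tfae_of_isNoetherianRing_of_isLocalRing_of_isDomain R).out 3 0
    refine h.mp ⟨inferInstance, ?_⟩
    intro P hP hPp
    exact IsLocalRing.eq_maximalIdeal (hPp.isMaximal_of_ne_bot hP)
  have hzm : algebraMap A R z ∈ maximalIdeal R :=
    (IsLocalization.AtPrime.to_map_mem_maximal_iff R p z).mpr hzp
  have hz0' : algebraMap A R z ≠ 0 := fun h => hz0 (hinj (by rw [h, map_zero]))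
  have : IsDiscreteValuationRing R :=
    { hPID with
      not_a_field' := fun h => hz0' (by rw [h] at hzm; simpa using hzm) }
  obtain ⟨π, hπ⟩ := IsDiscreteValuationRing.exists_irreducible R
  obtain ⟨⟨t, s0⟩, hts⟩ := IsLocalization.mk'_surjective p.primeCompl π
  have hs0u : IsUnit (algebraMap A R s0) := IsLocalization.map_units R s0
  have ht_eq : algebraMap A R t = π * algebraMap A R s0 := by
    rw [← hts]; simp
  have hirr : Irreducible (algebraMap A R t) := by
    rw [ht_eq]
    exact (irreducible_mul_isUnit hs0u).mpr hπ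
  have htp : t ∈ p := by
    rw [← IsLocalization.AtPrime.to_map_mem_maximal_iff R p t]
    exact (IsLocalRing.mem_maximalIdeal _).mpr hirr.not_isUnit
  refine ⟨t, htp, fun y hy => ?_⟩
  have hy' : algebraMap A R y ≠ 0 := fun h => hy (hinj (by rw [h, map_zero]))
  obtain ⟨n, u, hu⟩ := IsDiscreteValuationRing.eq_unit_mul_pow_irreducible hy' hirr
  obtain ⟨⟨a, s⟩, has⟩ := IsLocalization.mk'_surjective p.primeCompl (u : R)
  have hsu : IsUnit (algebraMap A R s) := IsLocalization.map_units R s
  have ha_eq : algebraMap A R a = u * algebraMap A R s := by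
    rw [← has]; simp
  have hap : a ∉ p := by
    have : IsUnit (algebraMap A R a) := by rw [ha_eq]; exact u.isUnit.mul hsu
    exact (IsLocalization.AtPrime.isUnit_to_map_iff R p a).mp this
  have hsp : (s : A) ∉ p := s.2
  have heq : (s : A) * y = a * t ^ n := by
    apply hinj
    rw [map_mul, map_mul, map_pow, hu, ha_eq]; ring
  refine ⟨a, s, n, hap, hsp, heq, ?_⟩
  intro hyp hn
  subst hn
  rw [pow_zero, mul_one] at heq
  exact hap (heq ▸ p.mul_mem_left _ hyp)

end Groth.Agent.Lib.Helper27.NormalHt1
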