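import Mathlib.Tactic
import Mathlib.RingTheory.RootsOfUnity.PrimitiveRoots
import Mathlib.Algebra.Field.GeomSum

set_option autoImplicit false

namespace Groth.Agent.Lib.Helper27

open Finset

variable {K : Type*} [Field K]

/-- sum over `Ioo 0 N` in terms of the sum over `range N`. -/
theorem sum_Ioo_eq_sum_range_sub {M : Type*} [AddCommGroup M] (N : ℕ) (hN : 0 < N) (f : ℕ → M) :
    ∑ i ∈ Ioo 0 N, f i = ∑ i ∈ range N, f i - f 0 := by
  rw [Finset.range_eq_Ico, Finset.sum_eq_sum_Ico_succ_bot hN, Finset.Ico_add_one_left_eq_Ioo]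
  abel

theorem geom_sum_eq_zero_of_pow_eq_one (x : K) (N : ℕ) (hx : x ≠ 1) (hxN : x ^ N = 1) :
    ∑ i ∈ range N, x ^ i = 0 := by
  rw [geom_sum_eq hx, hxN, sub_self, zero_div]

theorem denom_ne_zero (x : K) (hx0 : x ≠ 0) (hx1 : x ≠ 1) : 2 - x - x⁻¹ ≠ 0 := by
  intro h
  have h1 : (2 - x - x⁻¹) * x = 0 := by rw [h, zero_mul]
  have h2 : (2 - x - x⁻¹) * x = -((x - 1) ^ 2) := by
    field_simp
    ring
  rw [h2, neg_eq_zero] at h1
  have := pow_eq_zero_iff (two_ne_zero) |>.mp h1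
  exact hx1 (sub_eq_zero.mp this)

/-- the sum `F(j) = ∑_{0<i<N} ζ^{ij} / (2 - ζ^i - ζ^{-i})`. -/
noncomputable def orbSum (ζ : K) (N j : ℕ) : K :=
  ∑ i ∈ Ioo 0 N, ζ ^ (i * j) / (2 - ζ ^ i - (ζ ^ i)⁻¹)

/-- the quadratic `g(j) = j (j - N) / 2 + (N^2 - 1) / 12`. -/
noncomputable def orbQuad (K : Type*) [Field K] (N j : ℕ) : K :=
  (j : K) * ((j : K) - (N : K)) / 2 + ((N : K) ^ 2 - 1) / 12

theorem orbQuad_second_diff (h6 : (6 : K) ≠ 0) (N j : ℕ) :
    orbQuad K N (j + 2) - 2 * orbQuad K N (j + 1) + orbQuad K N j = 1 := by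
  have h2 : (2 : K) ≠ 0 := by
    intro h; apply h6
    have : (6 : K) = 2 * 3 := by norm_num
    rw [this, h, zero_mul]
  have h12 : (12 : K) ≠ 0 := by
    have : (12 : K) = 2 * 6 := by norm_num
    rw [this]; exact mul_ne_zero h2 h6
  simp only [orbQuad]
  push_cast
  field_simp
  ring

theorem orbSum_second_diff (N j : ℕ) (ζ : K) (hζ : IsPrimitiveRoot ζ N) (hj : j + 1 < N) :
    orbSum ζ N (j + 2) - 2 * orbSum ζ N (j + 1) + orbSum ζ N j = 1 := by
  have hN : 0 < N := by omega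
  have hζ0 : ζ ≠ 0 := hζ.ne_zero (by omega)
  simp only [orbSum]
  rw [Finset.mul_sum, ← Finset.sum_sub_distrib, ← Finset.sum_add_distrib]
  have hterm : ∀ i ∈ Ioo 0 N, ζ ^ (i * (j + 2)) / (2 - ζ ^ i - (ζ ^ i)⁻¹)
      - 2 * (ζ ^ (i * (j + 1)) / (2 - ζ ^ i - (ζ ^ i)⁻¹))
      + ζ ^ (i * j) / (2 - ζ ^ i - (ζ ^ i)⁻¹) = -(ζ ^ (j + 1)) ^ i := by
    intro i hi
    rw [Finset.mem_Ioo] at hi
    have hx0 : ζ ^ i ≠ 0 := pow_ne_zero _ hζ0
    have hx1 : ζ ^ i ≠ 1 := hζ.pow_ne_one_of_pos_of_lt (by omega) hi.2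
    have hd := denom_ne_zero (ζ ^ i) hx0 hx1
    rw [← pow_mul, mul_comm (j + 1) i]
    rw [pow_mul ζ i (j + 2), pow_mul ζ i (j + 1), pow_mul ζ i j]
    generalize ζ ^ i = x at *
    have hnum : x ^ (j + 2) - 2 * x ^ (j + 1) + x ^ j = -(x ^ (j + 1)) * (2 - x - x⁻¹) := by
      field_simp
      ring
    rw [mul_div_assoc', ← sub_div, ← add_div, hnum, mul_div_cancel_right₀ _ hd]
  rw [Finset.sum_congr rfl hterm, Finset.sum_neg_distrib,
    sum_Ioo_eq_sum_range_sub N hN (fun i => (ζ ^ (j + 1)) ^ i)]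
  rw [geom_sum_eq_zero_of_pow_eq_one (ζ ^ (j + 1)) N
    (hζ.pow_ne_one_of_pos_of_lt (by omega) hj)
    (by rw [← pow_mul, mul_comm, pow_mul, hζ.pow_eq_one, one_pow])]
  simp

theorem orbSum_N (N : ℕ) (ζ : K) (hζ : IsPrimitiveRoot ζ N) : orbSum ζ N N = orbSum ζ N 0 := by
  simp only [orbSum]
  apply Finset.sum_congr rfl
  intro i _
  rw [mul_comm, pow_mul, hζ.pow_eq_one, one_pow, mul_zero, pow_zero]

theorem orbQuad_N (N : ℕ) : orbQuad K N N = orbQuad K N 0 := by
  simp [orbQuad]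

theorem sum_orbSum (N : ℕ) (ζ : K) (hζ : IsPrimitiveRoot ζ N) :
    ∑ j ∈ range N, orbSum ζ N j = 0 := by
  simp only [orbSum]
  rw [Finset.sum_comm]
  apply Finset.sum_eq_zero
  intro i hi
  rw [Finset.mem_Ioo] at hi
  rw [← Finset.sum_div]
  have : ∑ j ∈ range N, ζ ^ (i * j) = 0 := by
    have h1 : ∀ j ∈ range N, ζ ^ (i * j) = (ζ ^ i) ^ j := fun j _ => pow_mul ζ i j
    rw [Finset.sum_congr rfl h1]
    apply geom_sum_eq_zero_of_pow_eq_one
    · exact hζ.pow_ne_one_of_pos_of_lt (by omega) hi.2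
    · rw [← pow_mul, mul_comm, pow_mul, hζ.pow_eq_one, one_pow]
  rw [this, zero_div]

theorem six_mul_sum_sq (N : ℕ) :
    6 * ∑ j ∈ range N, (j : K) ^ 2 = (N : K) * ((N : K) - 1) * (2 * (N : K) - 1) := by
  induction N with
  | zero => simp
  | succ n ih =>
    rw [Finset.sum_range_succ, mul_add, ih]
    push_cast
    ring

theorem two_mul_sum_id (N : ℕ) :
    2 * ∑ j ∈ range N, (j : K) = (N : K) * ((N : K) - 1) := by
  induction N with
  | zero => simp
  | succ n ih =>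
    rw [Finset.sum_range_succ, mul_add, ih]
    push_cast
    ring

theorem sum_orbQuad (h6 : (6 : K) ≠ 0) (N : ℕ) : ∑ j ∈ range N, orbQuad K N j = 0 := by
  have h2 : (2 : K) ≠ 0 := by
    intro h; apply h6
    have : (6 : K) = 2 * 3 := by norm_num
    rw [this, h, zero_mul]
  have h12 : (12 : K) ≠ 0 := by
    have : (12 : K) = 2 * 6 := by norm_num
    rw [this]; exact mul_ne_zero h2 h6
  have hmul : 12 * ∑ j ∈ range N, orbQuad K N j = 0 := by
    have e : ∀ j ∈ range N, 12 * orbQuad K N j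
        = 6 * (j : K) ^ 2 - 6 * (N : K) * (j : K) + ((N : K) ^ 2 - 1) := by
      intro j _
      simp only [orbQuad]
      field_simp
      ring
    rw [Finset.mul_sum, Finset.sum_congr rfl e, Finset.sum_add_distrib, Finset.sum_sub_distrib,
      ← Finset.mul_sum, ← Finset.mul_sum, six_mul_sum_sq]
    have : 6 * (N : K) * ∑ j ∈ range N, (j : K) = 3 * (N : K) * (2 * ∑ j ∈ range N, (j : K)) := by
      ring
    rw [this, two_mul_sum_id]
    simp only [Finset.sum_const, Finset.card_range, nsmul_eq_mul]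
    ring
  rcases mul_eq_zero.mp hmul with h | h
  · exact absurd h h12
  · exact h

/-- The main identity. -/
theorem orbSum_eq_orbQuad (h6 : (6 : K) ≠ 0) (N j : ℕ) (hj : j ≤ N) (hN : 0 < N) (ζ : K)
    (hζ : IsPrimitiveRoot ζ N) : orbSum ζ N j = orbQuad K N j := by
  have : NeZero N := ⟨hN.ne'⟩
  have hNK : (N : K) ≠ 0 := (hζ.neZero').ne
  set h : ℕ → K := fun j => orbSum ζ N j - orbQuad K N j with hh
  have hsd : ∀ j, j + 1 < N → h (j + 2) = 2 * h (j + 1) - h j := by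
    intro j hj
    have h1 := orbSum_second_diff N j ζ hζ hj
    have h2 := orbQuad_second_diff h6 N j
    simp only [hh]
    linear_combination h1 - h2
  have hlin : ∀ j, j ≤ N → h j = h 0 + (j : K) * (h 1 - h 0) := by
    intro j
    induction j using Nat.strong_induction_on with
    | _ j ih =>
      intro hjN
      match j, ih, hjN with
      | 0, _, _ => simp
      | 1, _, _ => simp
      | (m + 2), ih, hjN =>
        rw [hsd m (by omega), ih (m + 1) (by omega) (by omega), ih m (by omega) (by omega)]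
        push_cast
        ring
  have hNN : h N = h 0 := by
    simp only [hh]
    rw [orbSum_N N ζ hζ, orbQuad_N]
  have hslope : h 1 - h 0 = 0 := by
    have := hlin N le_rfl
    rw [hNN] at this
    have h3 : (N : K) * (h 1 - h 0) = 0 := by linear_combination -this
    rcases mul_eq_zero.mp h3 with h4 | h4
    · exact absurd h4 hNK
    · exact h4
  have hconst : ∀ j, j ≤ N → h j = h 0 := by
    intro j hj
    rw [hlin j hj, hslope, mul_zero, add_zero]
  have hsum : ∑ j ∈ range N, h j = 0 := by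
    simp only [hh]
    rw [Finset.sum_sub_distrib, sum_orbSum N ζ hζ, sum_orbQuad h6 N, sub_zero]
  have h0 : h 0 = 0 := by
    have e : ∑ j ∈ range N, h j = (N : K) * h 0 := by
      rw [Finset.sum_congr rfl (fun j hj => hconst j (by
        rw [Finset.mem_range] at hj; omega))]
      simp
    rw [e] at hsum
    rcases mul_eq_zero.mp hsum with h4 | h4
    · exact absurd h4 hNK
    · exact h4
  have := hconst j hj
  rw [h0] at this
  simp only [hh] at this
  exact sub_eq_zero.mp this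

/-- normalised geometric sum of an `N`-th root of unity. -/
theorem geom_sum_div_eq_ite (N : ℕ) (hNK : (N : K) ≠ 0) (x : K) (hxN : x ^ N = 1)
    [Decidable (x = 1)] :
    (∑ i ∈ range N, x ^ i) / (N : K) = if x = 1 then 1 else 0 := by
  split_ifs with h
  · rw [h]; simp [hNK]
  · rw [geom_sum_eq_zero_of_pow_eq_one x N h hxN, zero_div]

open Classical in
/-- Fourier coefficients of the quadratic `orbQuad`. -/
theorem fourier_orbQuad (h6 : (6 : K) ≠ 0) (N m : ℕ) (hN : 0 < N) (ζ : K)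
    (hζ : IsPrimitiveRoot ζ N) :
    ∑ i ∈ range N, orbQuad K N i / (N : K) * ζ ^ (m * i)
      = ∑ l ∈ Ioo 0 N, (if ζ ^ (l + m) = 1 then (1 : K) else 0) * (2 - ζ ^ l - (ζ ^ l)⁻¹)⁻¹ := by
  have : NeZero N := ⟨hN.ne'⟩
  have hNK : (N : K) ≠ 0 := (hζ.neZero').ne
  have h1 : ∀ i ∈ range N, orbQuad K N i / (N : K) * ζ ^ (m * i)
      = ∑ l ∈ Ioo 0 N, (2 - ζ ^ l - (ζ ^ l)⁻¹)⁻¹ * ((ζ ^ (l + m)) ^ i / (N : K)) := by
    intro i hi
    rw [Finset.mem_range] at hi
    rw [← orbSum_eq_orbQuad h6 N i hi.le hN ζ hζ, orbSum, Finset.sum_div, Finset.sum_mul]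
    apply Finset.sum_congr rfl
    intro l _
    rw [← pow_mul, add_mul, pow_add]
    ring
  rw [Finset.sum_congr rfl h1, Finset.sum_comm]
  apply Finset.sum_congr rfl
  intro l _
  rw [← Finset.mul_sum, ← Finset.sum_div, geom_sum_div_eq_ite N hNK (ζ ^ (l + m))
    (by rw [← pow_mul, mul_comm, pow_mul, hζ.pow_eq_one, one_pow]), mul_comm]

end Groth.Agent.Lib.Helper27
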