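import Groth.Agent.Lib.Helper27OrbRR
import Mathlib.Analysis.Complex.Basic
import Mathlib.RingTheory.RootsOfUnity.Complex

set_option autoImplicit false

namespace Groth.Agent.Lib.Helper27

open Finset ComplexConjugate

theorem denom_real (x : ℂ) (hx : ‖x‖ = 1) : 2 - x - x⁻¹ = ((2 - 2 * x.re : ℝ) : ℂ) := by
  rw [Complex.inv_eq_conj hx]
  have := Complex.add_conj x
  push_cast
  rw [sub_sub, this]
  push_cast
  ring

theorem re_lt_one_of_norm_eq_one (x : ℂ) (hx : ‖x‖ = 1) (hx1 : x ≠ 1) : x.re < 1 := by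
  have h1 : x.re ≤ 1 := by
    have := Complex.re_le_norm x
    rwa [hx] at this
  rcases lt_or_eq_of_le h1 with h | h
  · exact h
  · exfalso
    apply hx1
    have hsq : x.re * x.re + x.im * x.im = 1 := by
      have := Complex.normSq_eq_norm_sq x
      rw [hx, Complex.normSq_apply] at this
      simpa using this
    rw [h] at hsq
    have him : x.im = 0 := by
      have : x.im * x.im = 0 := by linarith
      exact mul_self_eq_zero.mp this
    apply Complex.ext
    · simpa using h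
    · simpa using him

/-- the Fourier coefficients of `orbQuad` over `ℂ` are nonnegative reals. -/
theorem fourier_orbQuad_complex (N m : ℕ) (hN : 0 < N) (ζ : ℂ) (hζ : IsPrimitiveRoot ζ N) :
    ∃ r : ℝ, 0 ≤ r ∧ ∑ i ∈ range N, orbQuad ℂ N i / (N : ℂ) * ζ ^ (m * i) = (r : ℂ) := by
  classical
  have h6 : (6 : ℂ) ≠ 0 := by norm_num
  rw [fourier_orbQuad h6 N m hN ζ hζ]
  refine ⟨∑ l ∈ Ioo 0 N, (if ζ ^ (l + m) = 1 then (1 : ℝ) else 0) * (2 - 2 * (ζ ^ l).re)⁻¹, ?_, ?_⟩
  · apply Finset.sum_nonneg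
    intro l hl
    rw [Finset.mem_Ioo] at hl
    have hnorm : ‖ζ ^ l‖ = 1 := by
      rw [norm_pow, hζ.norm'_eq_one hN.ne', one_pow]
    have hne : ζ ^ l ≠ 1 := hζ.pow_ne_one_of_pos_of_lt (by omega) hl.2
    have := re_lt_one_of_norm_eq_one _ hnorm hne
    apply mul_nonneg
    · split_ifs <;> norm_num
    · apply inv_nonneg.mpr; linarith
  · push_cast
    apply Finset.sum_congr rfl
    intro l hl
    have hnorm : ‖ζ ^ l‖ = 1 := by
      rw [norm_pow, hζ.norm'_eq_one hN.ne', one_pow]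
    rw [denom_real _ hnorm]
    push_cast
    split_ifs <;> simp

end Groth.Agent.Lib.Helper27
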