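import Groth.Agent.Lib.Helper27OrbRRComplex
import Mathlib.Data.ZMod.Basic
import Mathlib.LinearAlgebra.Matrix.PosDef

set_option autoImplicit false

namespace Groth.Agent.Lib.Helper27

open Finset ComplexConjugate

/-- `orbQuad` is symmetric under `a ↦ N - a`. -/
theorem orbQuad_symm (K : Type*) [Field K] (N a : ℕ) (ha : a ≤ N) :
    orbQuad K N (N - a) = orbQuad K N a := by
  simp only [orbQuad]
  rw [Nat.cast_sub ha]
  ring

theorem orbQuad_val_symm (N : ℕ) [NeZero N] (i j : ZMod N) :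
    orbQuad ℝ N (i - j).val = orbQuad ℝ N (j - i).val := by
  have h : i - j = -(j - i) := by ring
  rw [h, ZMod.neg_val]
  split_ifs with h0
  · rw [h0, ZMod.val_zero]
  · exact orbQuad_symm ℝ N _ (ZMod.val_le _)

/-- a root of unity raised to `val` is additive. -/
theorem pow_val_add {M : Type*} [Monoid M] (N : ℕ) [NeZero N] (x : M) (hx : x ^ N = 1)
    (a b : ZMod N) : x ^ (a + b).val = x ^ a.val * x ^ b.val := by
  rw [ZMod.val_add, ← pow_add, ← pow_eq_pow_mod _ hx]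

theorem pow_val_sub (N : ℕ) [NeZero N] (x : ℂ) (hx : x ^ N = 1) (hx0 : x ≠ 0)
    (i j : ZMod N) : x ^ (j - i).val = x ^ j.val * (x ^ i.val)⁻¹ := by
  have h := pow_val_add N x hx (j - i) i
  rw [sub_add_cancel] at h
  rw [h, mul_assoc, mul_inv_cancel₀ (pow_ne_zero _ hx0), mul_one]

/-- the double sum against a unimodular character is a norm square. -/
theorem sum_sum_char (N : ℕ) [NeZero N] (x : ZMod N → ℝ) (y : ℂ) (hy : y ^ N = 1) :
    ∑ i : ZMod N, ∑ j : ZMod N, (x i : ℂ) * (x j : ℂ) * y ^ (j - i).val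
      = ((Complex.normSq (∑ j : ZMod N, (x j : ℂ) * y ^ j.val) : ℝ) : ℂ) := by
  have hN : N ≠ 0 := NeZero.ne N
  have hnorm : ‖y‖ = 1 := Complex.norm_eq_one_of_pow_eq_one hy hN
  have hy0 : y ≠ 0 := by
    intro h
    rw [h, norm_zero] at hnorm
    exact zero_ne_one hnorm
  rw [← Complex.mul_conj, map_sum, Finset.sum_mul_sum, Finset.sum_comm]
  apply Finset.sum_congr rfl
  intro i _
  apply Finset.sum_congr rfl
  intro j _
  rw [pow_val_sub N y hy hy0 j i, map_mul, Complex.conj_ofReal, map_pow,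
    ← Complex.inv_eq_conj hnorm, inv_pow]
  ring

/-- the quadratic form of the circulant matrix is nonnegative. -/
theorem quadform_nonneg (N : ℕ) [NeZero N] (x : ZMod N → ℝ) :
    0 ≤ ∑ i : ZMod N, ∑ j : ZMod N, x i * (orbQuad ℝ N (j - i).val / (N : ℝ)) * x j := by
  have hN0 : N ≠ 0 := NeZero.ne N
  have hN : 0 < N := Nat.pos_of_ne_zero hN0
  set ζ : ℂ := Complex.exp (2 * Real.pi * Complex.I / N) with hζdef
  have hζ : IsPrimitiveRoot ζ N := Complex.isPrimitiveRoot_exp N hN0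
  have h6 : (6 : ℂ) ≠ 0 := by norm_num
  have key : ((∑ i : ZMod N, ∑ j : ZMod N, x i * (orbQuad ℝ N (j - i).val / (N : ℝ)) * x j : ℝ) : ℂ)
      = ((∑ l ∈ Ioo 0 N, (2 - 2 * (ζ ^ l).re)⁻¹ *
          Complex.normSq (∑ j : ZMod N, (x j : ℂ) * (ζ ^ l) ^ j.val) / (N : ℝ) : ℝ) : ℂ) := by
    have hcast : ∀ a : ℕ, ((orbQuad ℝ N a : ℝ) : ℂ) = orbQuad ℂ N a := by
      intro a
      simp only [orbQuad]
      push_cast
      ring
    push_cast
    have h1 : ∀ i j : ZMod N, (x i : ℂ) * (((orbQuad ℝ N (j - i).val : ℝ) : ℂ) / (N : ℂ)) * (x j : ℂ)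
        = ∑ l ∈ Ioo 0 N, ((2 - 2 * (ζ ^ l).re : ℝ) : ℂ)⁻¹ / (N : ℂ) *
            ((x i : ℂ) * (x j : ℂ) * (ζ ^ l) ^ (j - i).val) := by
      intro i j
      rw [hcast, ← orbSum_eq_orbQuad h6 N _ (ZMod.val_le _) hN ζ hζ, orbSum, Finset.sum_div,
        Finset.mul_sum, Finset.sum_mul]
      apply Finset.sum_congr rfl
      intro l hl
      have hnorm : ‖ζ ^ l‖ = 1 := by
        rw [norm_pow, hζ.norm'_eq_one hN0, one_pow]
      rw [denom_real _ hnorm, pow_mul]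
      ring
    simp_rw [h1]
    have hswap : ∑ i : ZMod N, ∑ j : ZMod N, ∑ l ∈ Ioo 0 N,
          ((2 - 2 * (ζ ^ l).re : ℝ) : ℂ)⁻¹ / (N : ℂ) *
            ((x i : ℂ) * (x j : ℂ) * (ζ ^ l) ^ (j - i).val)
        = ∑ l ∈ Ioo 0 N, ∑ i : ZMod N, ∑ j : ZMod N,
          ((2 - 2 * (ζ ^ l).re : ℝ) : ℂ)⁻¹ / (N : ℂ) *
            ((x i : ℂ) * (x j : ℂ) * (ζ ^ l) ^ (j - i).val) := by
      calc _ = ∑ i : ZMod N, ∑ l ∈ Ioo 0 N, ∑ j : ZMod N,
          ((2 - 2 * (ζ ^ l).re : ℝ) : ℂ)⁻¹ / (N : ℂ) *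
            ((x i : ℂ) * (x j : ℂ) * (ζ ^ l) ^ (j - i).val) := by
            apply Finset.sum_congr rfl
            intro i _
            exact Finset.sum_comm
        _ = _ := Finset.sum_comm
    rw [hswap]
    apply Finset.sum_congr rfl
    intro l _
    have hl1 : (ζ ^ l) ^ N = 1 := by
      rw [← pow_mul, mul_comm, pow_mul, hζ.pow_eq_one, one_pow]
    simp_rw [← Finset.mul_sum]
    rw [sum_sum_char N x (ζ ^ l) hl1]
    push_cast
    ring
  have key' := Complex.ofReal_injective key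
  rw [key']
  apply Finset.sum_nonneg
  intro l hl
  rw [Finset.mem_Ioo] at hl
  have hnorm : ‖ζ ^ l‖ = 1 := by
    rw [norm_pow, hζ.norm'_eq_one hN0, one_pow]
  have hne : ζ ^ l ≠ 1 := hζ.pow_ne_one_of_pos_of_lt (by omega) hl.2
  have := re_lt_one_of_norm_eq_one _ hnorm hne
  apply div_nonneg
  · apply mul_nonneg
    · apply inv_nonneg.mpr; linarith
    · exact Complex.normSq_nonneg _
  · exact Nat.cast_nonneg N

end Groth.Agent.Lib.Helper27
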