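import Mathlib
import Groth.Agent.Lib.Helper1FLF1
import Groth.Agent.Lib.Helper26ModRank
import Groth.Agent.Lib.Helper23QAffSec
import Groth.Agent.Lib.Helper21HZB9

/-!
# Helper27: rank of a finite coproduct of rank-one modules; uniqueness of the rank
-/

set_option autoImplicit false
set_option linter.style.haveILetI false
universe u
open CategoryTheory CategoryTheory.Limits AlgebraicGeometry TopologicalSpace

namespace Groth.Agent.Lib.Helper27RankSigma

attribute [local instance] Abelian.hasFiniteBiproducts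

variable {X : Scheme.{u}}

theorem isFinLocFree_of_rank {r : ℕ} {M : X.Modules} (h : FlatMod.IsFinLocFreeOfRank r M) :
    FlatMod.IsFinLocFree M := fun x => by
  obtain ⟨U, hxU, e⟩ := h x
  exact ⟨U, r, hxU, e⟩

/-- the rank of a finite locally free module on a nonempty scheme is unique. -/
theorem rank_unique [Nonempty X] {r r' : ℕ} {M : X.Modules} (h : FlatMod.IsFinLocFreeOfRank r M)
    (h' : FlatMod.IsFinLocFreeOfRank r' M) : r = r' := by
  haveI : M.IsQuasicoherent :=
    Groth.Agent.Lib.Helper21.HZB.isQuasicoherent_of_isFinLocFree M (isFinLocFree_of_rank h)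
  obtain ⟨x⟩ := ‹Nonempty X›
  obtain ⟨U, hxU, ⟨e⟩⟩ := h x
  obtain ⟨U', hxU', ⟨e'⟩⟩ := h' x
  exact Groth.Agent.Lib.Helper26.ModRank.eq_of_restrict_iso_freeMod M e e' x hxU hxU'

/-- `∐_{j < r} O ≅ ∐_{j < r} O^1`. -/
noncomputable def sigmaFreeOneIso (Y : Scheme.{u}) (r : ℕ) :
    (∐ fun _ : Fin r => FlatMod.freeMod Y 1) ≅ FlatMod.freeMod Y r :=
  Sigma.mapIso (fun _ => Limits.coproductUniqueIso (fun _ : Fin 1 => Coh.structureModule Y))

/-- a finite coproduct of `r` modules of rank one has rank `r`. -/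
theorem isFinLocFreeOfRank_sigma {r : ℕ} (L : Fin r → X.Modules)
    (hL : ∀ j, FlatMod.IsFinLocFreeOfRank 1 (L j)) : FlatMod.IsFinLocFreeOfRank r (∐ L) := by
  intro x
  choose U hx e using fun j => hL j x
  have hxU : x ∈ (⨅ j, U j : X.Opens) := by
    have h : ((⨅ j, U j : X.Opens) : Set X) = ⋂ j, (U j : Set X) := Opens.coe_iInf U
    change x ∈ ((⨅ j, U j : X.Opens) : Set X)
    rw [h]
    exact Set.mem_iInter.2 hx
  have e' : ∀ j, Nonempty ((L j).restrict (⨅ j, U j : X.Opens).ι ≅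
      FlatMod.freeMod (↑(⨅ j, U j : X.Opens)) 1) := fun j =>
    Groth.Agent.Lib.Helper1.FLF.nonempty_restrict_iso_freeMod_of_le (L j) (iInf_le U j) (e j).some
  refine ⟨⨅ j, U j, hxU, ⟨?_⟩⟩
  exact (Scheme.Modules.restrictFunctor (⨅ j, U j : X.Opens).ι).mapIso
      (biproduct.isoCoproduct L).symm ≪≫
    (Scheme.Modules.restrictFunctor (⨅ j, U j : X.Opens).ι).mapBiproduct L ≪≫
    biproduct.mapIso (fun j => (e' j).some) ≪≫ biproduct.isoCoproduct _ ≪≫
    sigmaFreeOneIso _ r

end Groth.Agent.Lib.Helper27RankSigma
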