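import Groth.Agent.Lib.Helper27Horrocks
import Groth.Agent.Lib.Helper27LocFreeVan
import Groth.Agent.Lib.Helper27RankSigma
import Groth.Agent.Lib.Helper27HypDim
import Groth.Agent.Lib.Helper27MinPres
import Mathlib.Order.Fin.Tuple
import Mathlib.Data.Fin.Tuple.Sort

/-!
# Helper27: Grothendieck's splitting theorem on `P^1_k`

* `antitone_unique` : an antitone `d : Fin r → ℤ` is determined by the function
  `t ↦ ∑ i, (d i + t).toNat`;
* `finrank_tw_sigma` : `h^0(P^1, (⨁ O(d i)) ⊗ O(t)) = ∑ i, (d i + t + 1).toNat`;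
* `exists_antitone_splitting`, `splitting_unique`.
-/

set_option autoImplicit false
set_option linter.style.haveILetI false
universe u
open CategoryTheory Limits AlgebraicGeometry TopologicalSpace Opposite

namespace Groth.Agent.Lib.Helper27P1Split

section Comb

theorem sum_toNat_succ {r : ℕ} (e : Fin r → ℤ) (t : ℤ) :
    ∑ i, (e i + (t + 1)).toNat =
      ∑ i, (e i + t).toNat + (Finset.univ.filter (fun i => 0 ≤ e i + t)).card := by
  rw [Finset.card_filter, ← Finset.sum_add_distrib]
  refine Finset.sum_congr rfl (fun i _ => ?_)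
  split_ifs <;> omega

theorem mem_iff_lt_card {r : ℕ} (e : Fin r → ℤ) (he : Antitone e) (t : ℤ) (j : Fin r) :
    0 ≤ e j + t ↔ j.val < (Finset.univ.filter (fun i => 0 ≤ e i + t)).card := by
  constructor
  · intro hj
    have hsub : Finset.Iic j ⊆ Finset.univ.filter (fun i => 0 ≤ e i + t) := by
      intro i hi
      rw [Finset.mem_Iic] at hi
      rw [Finset.mem_filter]
      refine ⟨Finset.mem_univ _, ?_⟩
      have := he hi
      omega
    have h1 := Finset.card_le_card hsub
    rw [Fin.card_Iic] at h1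
    omega
  · intro hj
    by_contra hcon
    have hsub : Finset.univ.filter (fun i => 0 ≤ e i + t) ⊆ Finset.Iio j := by
      intro i hi
      rw [Finset.mem_filter] at hi
      rw [Finset.mem_Iio]
      by_contra hij
      rw [not_lt] at hij
      have := he hij
      omega
    have h1 := Finset.card_le_card hsub
    rw [Fin.card_Iio] at h1
    omega

theorem antitone_unique {r : ℕ} (d d' : Fin r → ℤ) (hd : Antitone d) (hd' : Antitone d')
    (h : ∀ t : ℤ, ∑ i, (d i + t).toNat = ∑ i, (d' i + t).toNat) : d = d' := by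
  have hc : ∀ t : ℤ, (Finset.univ.filter (fun i => 0 ≤ d i + t)).card =
      (Finset.univ.filter (fun i => 0 ≤ d' i + t)).card := by
    intro t
    have h1 := sum_toNat_succ d t
    have h2 := sum_toNat_succ d' t
    have h3 := h (t + 1)
    have h4 := h t
    omega
  funext j
  have h1 : 0 ≤ d' j + (-d j) := by
    rw [mem_iff_lt_card d' hd', ← hc, ← mem_iff_lt_card d hd]
    omega
  have h2 : 0 ≤ d j + (-d' j) := by
    rw [mem_iff_lt_card d hd, hc, ← mem_iff_lt_card d' hd']
    omega
  omega

theorem exists_antitone_perm {r : ℕ} (a : Fin r → ℤ) :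
    ∃ σ : Equiv.Perm (Fin r), Antitone (a ∘ σ) := by
  refine ⟨Tuple.sort (fun i => -a i), ?_⟩
  have h := Tuple.monotone_sort (fun i => -a i)
  intro i j hij
  have := h hij
  simp only [Function.comp_apply] at this ⊢
  omega

end Comb

section Sheaf

open Groth.Agent.Lib.Helper27SerreVan Groth.Agent.Lib.Helper27SerreVanPn
  Groth.Agent.Lib.Helper27MinPres Groth.Agent.Lib.Helper27LesLin

variable (k : Type u) [Field k]

theorem finrank_tw_sigma {r : ℕ} (d : Fin r → ℤ) (t : ℤ) :
    Module.finrank k (Coh.HH (CohB1.ProjSpace 1 k)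
      (CohB1.tensorMod (∐ fun i => Twist.twistProjSpace 1 k (d i))
        (Twist.twistProjSpace 1 k t)) 0) = ∑ i, (d i + t + 1).toNat := by
  let L := Twist.twistProjSpace 1 k t
  let f : Fin r → (CohB1.ProjSpace 1 k).Modules := fun i => Twist.twistProjSpace 1 k (d i)
  let e1 : (tw L).obj (∐ f) ≅ ∐ fun i => (tw L).obj (f i) := PreservesCoproduct.iso (tw L) f
  have he : ∀ i, Nonempty ((tw L).obj (f i) ≅ Twist.twistProjSpace 1 k (d i + t)) :=
    fun i => nonempty_twist_tensor_iso 1 k (d i) t
  let e2 : (∐ fun i => (tw L).obj (f i)) ≅ ∐ fun i => Twist.twistProjSpace 1 k (d i + t) :=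
    Sigma.mapIso (fun i => (he i).some)
  have hfin : ∀ i, Module.Finite k (Coh.HH (CohB1.ProjSpace 1 k)
      (Twist.twistProjSpace 1 k (d i + t)) 0) :=
    fun i => (Groth.Agent.Lib.Helper27HypDim.finrank_HH_zero k 1 le_rfl (d i + t)).1
  have h1 := (HHequiv (A := k) (e1 ≪≫ e2) 0).finrank_eq
  have h2 := (HHsigmaEquiv k (fun i => Twist.twistProjSpace 1 k (d i + t)) 0).finrank_eq
  rw [Module.finrank_pi_fintype] at h2
  change Module.finrank k (Coh.HH (CohB1.ProjSpace 1 k) ((tw L).obj (∐ f)) 0) = _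
  rw [h1, h2]
  refine Finset.sum_congr rfl (fun i _ => ?_)
  rw [(Groth.Agent.Lib.Helper27HypDim.finrank_HH_zero k 1 le_rfl (d i + t)).2]
  simp

theorem splitting_unique {r : ℕ} (d d' : Fin r → ℤ) (hd : Antitone d) (hd' : Antitone d')
    (e : (∐ fun i => Twist.twistProjSpace 1 k (d i)) ≅ ∐ fun i => Twist.twistProjSpace 1 k (d' i)) :
    d = d' := by
  apply antitone_unique d d' hd hd'
  intro t
  have h1 := finrank_tw_sigma k d (t - 1)
  have h2 := finrank_tw_sigma k d' (t - 1)
  have h3 := (HHequiv (A := k)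
    ((tw (Twist.twistProjSpace 1 k (t - 1))).mapIso e) 0).finrank_eq
  have h4 : ∀ x : ℤ, x + (t - 1) + 1 = x + t := fun x => by ring
  simp only [h4] at h1 h2
  rw [← h1, ← h2]
  exact h3

end Sheaf

end Groth.Agent.Lib.Helper27P1Split
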