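import Groth.Agent.Lib.Helper13ProjPMap

/-!
# The partial morphism `G(φ) ⟶ Proj 𝒜` on functions (helper27)

* `awayι_appLE_awayToSection` : pulling back `a / f^k` along the chart `Spec A_(f) ⟶ Proj 𝒜`
* `IsPMap.appLE_awayToSection` : `p^♯ (a / f^k) = φ a / φ f^k` for the morphism `p` induced by a
  graded homomorphism `φ`.
-/

set_option autoImplicit false
universe u

open CategoryTheory CategoryTheory.Limits AlgebraicGeometry TopologicalSpace Opposite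
  HomogeneousLocalization
open Groth.Agent.Helper13RelProj

namespace Groth.Agent.Lib.Helper27PMapSec

section Chart

variable {R A : Type u} [CommRing R] [CommRing A] [Algebra R A] (𝒜 : ℕ → Submodule R A)
  [GradedAlgebra 𝒜]
variable {f : A} {m : ℕ} (f_deg : f ∈ 𝒜 m) (hm : 0 < m)

theorem top_le_awayι_preimage :
    (⊤ : (Spec (.of (Away 𝒜 f))).Opens) ≤ (Proj.awayι 𝒜 f f_deg hm) ⁻¹ᵁ Proj.basicOpen 𝒜 f := by
  intro x _
  have : (Proj.awayι 𝒜 f f_deg hm) x ∈ (Proj.awayι 𝒜 f f_deg hm).opensRange := ⟨x, rfl⟩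
  rwa [Proj.opensRange_awayι] at this

/-- pulling back `a / f^k` along the chart. -/
theorem awayι_appLE_awayToSection (z : Away 𝒜 f) :
    (Proj.awayι 𝒜 f f_deg hm).appLE (Proj.basicOpen 𝒜 f) ⊤ (top_le_awayι_preimage 𝒜 f_deg hm)
        ((Proj.awayToSection 𝒜 f).hom z) = (Scheme.ΓSpecIso _).inv z := by
  set e := Proj.basicOpenIsoSpec 𝒜 f f_deg hm with he
  have h3 : e.hom.appTop = (Scheme.ΓSpecIso _).hom ≫ Proj.awayToSection 𝒜 f ≫
      (Proj.basicOpen 𝒜 f).topIso.inv := by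
    rw [he, Proj.basicOpenIsoSpec_hom]
    exact Proj.basicOpenToSpec_app_top 𝒜 f
  have h4 : (Proj.basicOpen 𝒜 f).topIso.inv ((Proj.awayToSection 𝒜 f).hom z) =
      e.hom.appTop ((Scheme.ΓSpecIso _).inv z) := by
    rw [h3]
    change _ = (Proj.basicOpen 𝒜 f).topIso.inv ((Proj.awayToSection 𝒜 f).hom
      ((Scheme.ΓSpecIso _).hom ((Scheme.ΓSpecIso _).inv z)))
    have h5 : (Scheme.ΓSpecIso (.of (Away 𝒜 f))).hom ((Scheme.ΓSpecIso _).inv z) = z :=
      congr($((Scheme.ΓSpecIso (.of (Away 𝒜 f))).inv_hom_id) z)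
    rw [h5]
  have h6 : e.inv.appTop (e.hom.appTop ((Scheme.ΓSpecIso _).inv z)) = (Scheme.ΓSpecIso _).inv z := by
    have : e.hom.appTop ≫ e.inv.appTop = 𝟙 _ := by
      rw [← Scheme.Hom.comp_appTop, e.inv_hom_id]
      rfl
    exact congr($this _)
  rw [← h4] at h6
  refine Eq.trans ?_ h6
  have h7 := Scheme.Hom.appLE_comp_appLE e.inv (Proj.basicOpen 𝒜 f).ι (Proj.basicOpen 𝒜 f) ⊤ ⊤
    (by intro x _; exact x.2) le_top
  have h8 := congr($h7 ((Proj.awayToSection 𝒜 f).hom z))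
  refine h8.symm.trans ?_
  rfl

/-- the same over any open of the chart. -/
theorem awayι_appLE_awayToSection' (z : Away 𝒜 f) (V : (Spec (.of (Away 𝒜 f))).Opens)
    (hV : V ≤ (Proj.awayι 𝒜 f f_deg hm) ⁻¹ᵁ Proj.basicOpen 𝒜 f) :
    (Proj.awayι 𝒜 f f_deg hm).appLE (Proj.basicOpen 𝒜 f) V hV
        ((Proj.awayToSection 𝒜 f).hom z) =
      (Spec (.of (Away 𝒜 f))).presheaf.map (homOfLE (le_top : V ≤ ⊤)).op
        ((Scheme.ΓSpecIso _).inv z) := by
  rw [← awayι_appLE_awayToSection 𝒜 f_deg hm z]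
  have h := Scheme.Hom.appLE_map (Proj.awayι 𝒜 f f_deg hm) (top_le_awayι_preimage 𝒜 f_deg hm)
    (homOfLE (le_top : V ≤ ⊤)).op
  exact (congr($h ((Proj.awayToSection 𝒜 f).hom z))).symm

end Chart

section PMap

variable {R A B : Type u} [CommRing R] [CommRing A] [Algebra R A] {𝒜 : ℕ → Submodule R A}
  [GradedAlgebra 𝒜] [CommRing B] [Algebra R B] {ℬ : ℕ → Submodule R B} [GradedAlgebra ℬ]
  {φ : 𝒜 →+*ᵍ ℬ}
variable {X : Scheme.{u}} {j : X ⟶ Proj ℬ} [IsOpenImmersion j] {p : X ⟶ Proj 𝒜}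

theorem appLE_congr_hom {S T : Scheme.{u}} {q q' : S ⟶ T} (h : q = q') (U : T.Opens) (V : S.Opens)
    (e : V ≤ q ⁻¹ᵁ U) : q.appLE U V e = q'.appLE U V (h ▸ e) := by
  subst h; rfl

/-- `p^♯ (a / f^k) = φ a / φ f^k`. -/
theorem appLE_awayToSection (hp : IsPMap φ j p) (hj : IsDomOf φ j) {d : ℕ} {f : A}
    (hf : f ∈ 𝒜 d) (hd : 0 < d) (z : Away 𝒜 f) :
    p.appLE (Proj.basicOpen 𝒜 f) (p ⁻¹ᵁ Proj.basicOpen 𝒜 f) le_rfl
        ((Proj.awayToSection 𝒜 f).hom z) =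
      j.appLE (Proj.basicOpen ℬ (φ f)) (p ⁻¹ᵁ Proj.basicOpen 𝒜 f)
        (hp.preimage_basicOpen hj hf hd).le
        ((Proj.awayToSection ℬ (φ f)).hom (Away.map φ f z)) := by
  set u := chartX hj hf hd with hu
  set W := p ⁻¹ᵁ Proj.basicOpen 𝒜 f with hW
  have hWr : W ≤ u.opensRange := by
    intro x hx
    have hx' : x ∈ j ⁻¹ᵁ Proj.basicOpen ℬ (φ f) := by
      rw [← hp.preimage_basicOpen hj hf hd]; exact hx
    have := range_chartX hj hf hd
    change x ∈ Set.range u.base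
    rw [this]
    exact hx'
  have hiso : IsIso (u.app W) := u.isIso_app W hWr
  have hinj : Function.Injective (u.app W) := (ConcreteCategory.bijective_of_isIso (u.app W)).1
  apply hinj
  -- the left hand side
  have hupW : u ⁻¹ᵁ W ≤ (u ≫ p) ⁻¹ᵁ Proj.basicOpen 𝒜 f := le_rfl
  have h1 := Scheme.Hom.appLE_comp_appLE u p (Proj.basicOpen 𝒜 f) W (u ⁻¹ᵁ W) le_rfl le_rfl
  rw [Scheme.Hom.appLE_eq_app (f := u)] at h1
  have h1' := congr($h1 ((Proj.awayToSection 𝒜 f).hom z))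
  refine h1'.trans ?_
  have hup : u ≫ p = Spec.map (CommRingCat.ofHom (Away.map φ f)) ≫ Proj.awayι 𝒜 f hf hd :=
    hp.chartX_comp hj hf hd
  rw [appLE_congr_hom hup]
  have h2 := Scheme.Hom.appLE_comp_appLE (Spec.map (CommRingCat.ofHom (Away.map φ f)))
    (Proj.awayι 𝒜 f hf hd) (Proj.basicOpen 𝒜 f) ⊤ (u ⁻¹ᵁ W)
    (top_le_awayι_preimage 𝒜 hf hd) le_top
  have h2' := congr($h2 ((Proj.awayToSection 𝒜 f).hom z))
  refine h2'.symm.trans ?_
  -- the right hand side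
  have h3 := Scheme.Hom.appLE_comp_appLE u j (Proj.basicOpen ℬ (φ f)) W (u ⁻¹ᵁ W)
    (hp.preimage_basicOpen hj hf hd).le le_rfl
  rw [Scheme.Hom.appLE_eq_app (f := u)] at h3
  have h3' := congr($h3 ((Proj.awayToSection ℬ (φ f)).hom (Away.map φ f z)))
  refine Eq.trans ?_ h3'.symm
  have huj : u ≫ j = Proj.awayι ℬ (φ f) (Graded.map_mem φ hf) hd := chartX_fac hj hf hd
  rw [appLE_congr_hom huj]
  rw [awayι_appLE_awayToSection' ℬ (Graded.map_mem φ hf) hd]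
  change (Spec.map (CommRingCat.ofHom (Away.map φ f))).appLE ⊤ (u ⁻¹ᵁ W) le_top
    ((Proj.awayι 𝒜 f hf hd).appLE (Proj.basicOpen 𝒜 f) ⊤ (top_le_awayι_preimage 𝒜 hf hd)
      ((Proj.awayToSection 𝒜 f).hom z)) = _
  rw [awayι_appLE_awayToSection 𝒜 hf hd]
  have h4 := Scheme.ΓSpecIso_inv_naturality (CommRingCat.ofHom (Away.map φ f))
  have h4' := congr($h4 z)
  change (Spec (CommRingCat.of (Away ℬ (φ f)))).presheaf.map (homOfLE _).op
    ((Spec.map (CommRingCat.ofHom (Away.map φ f))).appTop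
      ((Scheme.ΓSpecIso (CommRingCat.of (Away 𝒜 f))).inv z)) = _
  congr 1
  exact h4'.symm

end PMap

end Groth.Agent.Lib.Helper27PMapSec
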