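import Groth.Agent.Lib.Helper27PMapSec
import Groth.Agent.Lib.Helper27PConeFibre
import Groth.Agent.Lib.Helper27ProjUniq2
import Groth.Agent.Lib.Helper23Restr

/-!
# `Φ^* O(n) ≅ O(n)|_{G(φ)}` for the partial morphism induced by a graded homomorphism (helper27)
-/

set_option autoImplicit false
universe u

open CategoryTheory CategoryTheory.Limits AlgebraicGeometry TopologicalSpace Opposite
  HomogeneousLocalization
open Groth.Agent.Helper13RelProj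
open Groth.Agent.Lib.Helper23.SecTw Groth.Agent.Lib.Helper6 Groth.Agent.Helper13PullbackUnit
  Groth.Agent.Lib.Helper27PullGen Groth.Agent.Lib.Helper27AwayGen Groth.Agent.Lib.Helper27PMapSec

namespace Groth.Agent.Lib.Helper27GrTildeSect

section Proj

variable {R A : Type u} [CommRing R] [CommRing A] [Algebra R A] (𝒜 : ℕ → Submodule R A)
  [GradedAlgebra 𝒜]
variable {ι : Type*} (G : ι → A) (hG : ∀ i, G i ∈ 𝒜 1) (n : ℤ) (p q : ℕ) (h : (p : ℤ) = q + n)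

/-- the transition function `(G i / G j)^p (G j / G i)^q` of the frames `G i^p / G i^q` of `O(n)`. -/
noncomputable def tfun (i j : ι) :
    Γ(Proj 𝒜, Proj.basicOpen 𝒜 (G i) ⊓ Proj.basicOpen 𝒜 (G j)) :=
  resf inf_le_right (cfun 𝒜 1 G hG i j) ^ p * resf inf_le_left (cfun 𝒜 1 G hG j i) ^ q

theorem res_zsec_eq_tfun (i j : ι) :
    res (GrTilde.tilde 𝒜 𝒜 n) inf_le_left (zsec (hG i) n p q h) =
      tfun 𝒜 G hG p q i j • res (GrTilde.tilde 𝒜 𝒜 n) inf_le_right (zsec (hG j) n p q h) := by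
  rw [res_zsec_eq_smul_iff]
  intro y hy
  rw [tfun, funVal_mul, funVal_pow, funVal_pow, HomogeneousLocalization.val_mul,
    HomogeneousLocalization.val_pow, HomogeneousLocalization.val_pow]
  change _ = ((funVal 𝒜 _ (cfun 𝒜 1 G hG i j) y hy.2).val ^ p *
    (funVal 𝒜 _ (cfun 𝒜 1 G hG j i) y hy.1).val ^ q) * _
  rw [cfun, cfun, funVal_fracFun, funVal_fracFun, Localization.mk_pow, Localization.mk_pow,
    Localization.mk_mul, Localization.mk_mul, Localization.mk_eq_mk_iff, Localization.r_iff_exists]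
  refine ⟨1, ?_⟩
  simp only [OneMemClass.coe_one, one_mul, Submonoid.coe_mul, SubmonoidClass.coe_pow]
  ring

end Proj

section AppLE

variable {X Y : Scheme.{u}} (f : X ⟶ Y)

theorem appLE_resf {U U' : Y.Opens} {V V' : X.Opens} (hU : U' ≤ U) (hV : V' ≤ V)
    (e : V ≤ f ⁻¹ᵁ U) (e' : V' ≤ f ⁻¹ᵁ U') (c : Γ(Y, U)) :
    f.appLE U' V' e' (resf hU c) = resf hV (f.appLE U V e c) := by
  have h1 := Scheme.Hom.map_appLE f e' (homOfLE hU).op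
  have h2 := Scheme.Hom.appLE_map f e (homOfLE hV).op
  exact (congr($h1 c)).trans (congr($h2 c)).symm

end AppLE

section PMap

variable {R A B : Type u} [CommRing R] [CommRing A] [Algebra R A] {𝒜 : ℕ → Submodule R A}
  [GradedAlgebra 𝒜] [CommRing B] [Algebra R B] {ℬ : ℕ → Submodule R B} [GradedAlgebra ℬ]
  {φ : 𝒜 →+*ᵍ ℬ}
variable {X : Scheme.{u}} {j : X ⟶ Proj ℬ} [IsOpenImmersion j] {p : X ⟶ Proj 𝒜}
variable {ι : Type*} (G : ι → A) (hG : ∀ i, G i ∈ 𝒜 1)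

include hG in
theorem map_mem_one (i : ι) : φ (G i) ∈ ℬ 1 := Graded.map_mem φ (hG i)

include hG in
theorem pmap_preimage_le (hp : IsPMap φ j p) (hj : IsDomOf φ j) (k : ι) :
    p ⁻¹ᵁ Proj.basicOpen 𝒜 (G k) ≤ j ⁻¹ᵁ Proj.basicOpen ℬ (φ (G k)) :=
  (hp.preimage_basicOpen hj (hG k) Nat.one_pos).le

/-- `p^♯ (G i / G k) = φ (G i) / φ (G k)`. -/
theorem appLE_cfun (hp : IsPMap φ j p) (hj : IsDomOf φ j) (i k : ι) :
    p.appLE (Proj.basicOpen 𝒜 (G k)) (p ⁻¹ᵁ Proj.basicOpen 𝒜 (G k)) le_rfl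
        (cfun 𝒜 1 G hG i k) =
      j.appLE (Proj.basicOpen ℬ (φ (G k))) (p ⁻¹ᵁ Proj.basicOpen 𝒜 (G k))
        (pmap_preimage_le G hG hp hj k)
        (cfun ℬ 1 (fun i => φ (G i)) (map_mem_one G hG) i k) := by
  rw [← awayToSection_mk'_one 𝒜 G hG i k, appLE_awayToSection hp hj (hG k) Nat.one_pos,
    ← awayToSection_mk'_one ℬ (fun i => φ (G i)) (map_mem_one G hG) i k]
  congr 2
  rw [mk', Away.map_mk]
  rfl

/-- `p^♯` of the transition functions of `O(n)`. -/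
theorem appLE_tfun (hp : IsPMap φ j p) (hj : IsDomOf φ j) (p₀ q₀ : ℕ) (i k : ι) :
    p.appLE (Proj.basicOpen 𝒜 (G i) ⊓ Proj.basicOpen 𝒜 (G k))
        (p ⁻¹ᵁ Proj.basicOpen 𝒜 (G i) ⊓ p ⁻¹ᵁ Proj.basicOpen 𝒜 (G k)) le_rfl
        (tfun 𝒜 G hG p₀ q₀ i k) =
      j.appLE (Proj.basicOpen ℬ (φ (G i)) ⊓ Proj.basicOpen ℬ (φ (G k)))
        (p ⁻¹ᵁ Proj.basicOpen 𝒜 (G i) ⊓ p ⁻¹ᵁ Proj.basicOpen 𝒜 (G k))
        (inf_le_inf (pmap_preimage_le G hG hp hj i) (pmap_preimage_le G hG hp hj k))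
        (tfun ℬ (fun i => φ (G i)) (map_mem_one G hG) p₀ q₀ i k) := by
  rw [tfun, tfun, map_mul, map_mul, map_pow, map_pow, map_pow, map_pow]
  have e1 : p.appLE (Proj.basicOpen 𝒜 (G i) ⊓ Proj.basicOpen 𝒜 (G k))
      (p ⁻¹ᵁ Proj.basicOpen 𝒜 (G i) ⊓ p ⁻¹ᵁ Proj.basicOpen 𝒜 (G k)) le_rfl
      (resf (inf_le_right : Proj.basicOpen 𝒜 (G i) ⊓ Proj.basicOpen 𝒜 (G k) ≤ _)
        (cfun 𝒜 1 G hG i k)) =
      resf (inf_le_right : p ⁻¹ᵁ Proj.basicOpen 𝒜 (G i) ⊓ p ⁻¹ᵁ Proj.basicOpen 𝒜 (G k) ≤ _)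
        (p.appLE (Proj.basicOpen 𝒜 (G k)) (p ⁻¹ᵁ Proj.basicOpen 𝒜 (G k)) le_rfl
          (cfun 𝒜 1 G hG i k)) :=
    appLE_resf p _ _ _ _ _
  have e2 : p.appLE (Proj.basicOpen 𝒜 (G i) ⊓ Proj.basicOpen 𝒜 (G k))
      (p ⁻¹ᵁ Proj.basicOpen 𝒜 (G i) ⊓ p ⁻¹ᵁ Proj.basicOpen 𝒜 (G k)) le_rfl
      (resf (inf_le_left : Proj.basicOpen 𝒜 (G i) ⊓ Proj.basicOpen 𝒜 (G k) ≤ _)
        (cfun 𝒜 1 G hG k i)) =
      resf (inf_le_left : p ⁻¹ᵁ Proj.basicOpen 𝒜 (G i) ⊓ p ⁻¹ᵁ Proj.basicOpen 𝒜 (G k) ≤ _)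
        (p.appLE (Proj.basicOpen 𝒜 (G i)) (p ⁻¹ᵁ Proj.basicOpen 𝒜 (G i)) le_rfl
          (cfun 𝒜 1 G hG k i)) :=
    appLE_resf p _ _ _ _ _
  have e3 : j.appLE (Proj.basicOpen ℬ (φ (G i)) ⊓ Proj.basicOpen ℬ (φ (G k)))
      (p ⁻¹ᵁ Proj.basicOpen 𝒜 (G i) ⊓ p ⁻¹ᵁ Proj.basicOpen 𝒜 (G k))
      (inf_le_inf (pmap_preimage_le G hG hp hj i) (pmap_preimage_le G hG hp hj k))
      (resf (inf_le_right : Proj.basicOpen ℬ (φ (G i)) ⊓ Proj.basicOpen ℬ (φ (G k)) ≤ _)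
        (cfun ℬ 1 (fun i => φ (G i)) (map_mem_one G hG) i k)) =
      resf (inf_le_right : p ⁻¹ᵁ Proj.basicOpen 𝒜 (G i) ⊓ p ⁻¹ᵁ Proj.basicOpen 𝒜 (G k) ≤ _)
        (j.appLE (Proj.basicOpen ℬ (φ (G k))) (p ⁻¹ᵁ Proj.basicOpen 𝒜 (G k))
          (pmap_preimage_le G hG hp hj k)
          (cfun ℬ 1 (fun i => φ (G i)) (map_mem_one G hG) i k)) :=
    appLE_resf j _ _ _ _ _
  have e4 : j.appLE (Proj.basicOpen ℬ (φ (G i)) ⊓ Proj.basicOpen ℬ (φ (G k)))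
      (p ⁻¹ᵁ Proj.basicOpen 𝒜 (G i) ⊓ p ⁻¹ᵁ Proj.basicOpen 𝒜 (G k))
      (inf_le_inf (pmap_preimage_le G hG hp hj i) (pmap_preimage_le G hG hp hj k))
      (resf (inf_le_left : Proj.basicOpen ℬ (φ (G i)) ⊓ Proj.basicOpen ℬ (φ (G k)) ≤ _)
        (cfun ℬ 1 (fun i => φ (G i)) (map_mem_one G hG) k i)) =
      resf (inf_le_left : p ⁻¹ᵁ Proj.basicOpen 𝒜 (G i) ⊓ p ⁻¹ᵁ Proj.basicOpen 𝒜 (G k) ≤ _)
        (j.appLE (Proj.basicOpen ℬ (φ (G i))) (p ⁻¹ᵁ Proj.basicOpen 𝒜 (G i))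
          (pmap_preimage_le G hG hp hj i)
          (cfun ℬ 1 (fun i => φ (G i)) (map_mem_one G hG) k i)) :=
    appLE_resf j _ _ _ _ _
  rw [e1, e2, e3, e4, appLE_cfun G hG hp hj i k, appLE_cfun G hG hp hj k i]

end PMap

section Main

variable {R A B : Type u} [CommRing R] [CommRing A] [Algebra R A] {𝒜 : ℕ → Submodule R A}
  [GradedAlgebra 𝒜] [CommRing B] [Algebra R B] {ℬ : ℕ → Submodule R B} [GradedAlgebra ℬ]
  {φ : 𝒜 →+*ᵍ ℬ}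
variable {U : (Proj ℬ).Opens} {p : (U : Scheme.{u}) ⟶ Proj 𝒜}
variable {ι : Type*} (G : ι → A) (hG : ∀ i, G i ∈ 𝒜 1)

include hG in
theorem image_preimage_le (hp : IsPMap φ U.ι p) (hj : IsDomOf φ U.ι) (i : ι) :
    U.ι ''ᵁ (p ⁻¹ᵁ Proj.basicOpen 𝒜 (G i)) ≤ Proj.basicOpen ℬ (φ (G i)) := by
  rintro _ ⟨w, hw, rfl⟩
  exact pmap_preimage_le G hG hp hj i hw

include hG in
/-- **`Φ^* O(n) ≅ O(n)|_{G(φ)}`**, when `Proj 𝒜` is covered by the `D₊(G i)`, `deg G i = 1`. -/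
theorem nonempty_pullback_twist_iso (hp : IsPMap φ U.ι p) (hj : IsDomOf φ U.ι)
    (hcov : ∀ x : (U : Scheme.{u}), ∃ i, x ∈ p ⁻¹ᵁ Proj.basicOpen 𝒜 (G i)) (n : ℤ) :
    Nonempty ((Scheme.Modules.pullback p).obj (GrTilde.tilde 𝒜 𝒜 n) ≅
      (GrTilde.tilde ℬ ℬ n).restrict U.ι) := by
  haveI : (GrTilde.tilde 𝒜 𝒜 n).IsQuasicoherent := isQuasicoherent_tilde 𝒜 𝒜 _
  have h : ((n.toNat : ℕ) : ℤ) = ((-n).toNat : ℕ) + n := by omega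
  generalize n.toNat = p₀ at h
  generalize (-n).toNat = q₀ at h
  have hH := map_mem_one (φ := φ) G hG
  -- the frames
  let a : ∀ i, Γ((Scheme.Modules.pullback p).obj (GrTilde.tilde 𝒜 𝒜 n),
      p ⁻¹ᵁ Proj.basicOpen 𝒜 (G i)) := fun i =>
    unitSec p (GrTilde.tilde 𝒜 𝒜 n) (le_refl (p ⁻¹ᵁ Proj.basicOpen 𝒜 (G i)))
      (zsec (hG i) n p₀ q₀ h)
  let b : ∀ i, Γ((GrTilde.tilde ℬ ℬ n).restrict U.ι, p ⁻¹ᵁ Proj.basicOpen 𝒜 (G i)) := fun i =>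
    (show Γ((GrTilde.tilde ℬ ℬ n).restrict U.ι, p ⁻¹ᵁ Proj.basicOpen 𝒜 (G i)) from
      res (GrTilde.tilde ℬ ℬ n) (image_preimage_le G hG hp hj i) (zsec (hH i) n p₀ q₀ h))
  have ha : ∀ i, IsGen _ _ (a i) := fun i =>
    isGen_pullback p _ _ _ (isGen_zsec (hG i) n p₀ q₀ h)
  have hb : ∀ i, IsGen _ _ (b i) := fun i =>
    isGen_restrict_of_isGen (GrTilde.tilde ℬ ℬ n) U (p ⁻¹ᵁ Proj.basicOpen 𝒜 (G i)) _
      ((isGen_zsec (hH i) n p₀ q₀ h).mono (image_preimage_le G hG hp hj i))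
  obtain ⟨Φ, -⟩ := exists_iso_of_frames _ _ (fun i => p ⁻¹ᵁ Proj.basicOpen 𝒜 (G i)) hcov a b ha hb
    (by
      intro i k g hg
      -- Step 1: the transition of the pulled-back frames
      have u1 := unitSec_res p (GrTilde.tilde 𝒜 𝒜 n)
        (inf_le_left : Proj.basicOpen 𝒜 (G i) ⊓ Proj.basicOpen 𝒜 (G k) ≤ _)
        (le_refl (p ⁻¹ᵁ (Proj.basicOpen 𝒜 (G i) ⊓ Proj.basicOpen 𝒜 (G k))))
        (zsec (hG i) n p₀ q₀ h)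
      have u2 := unitSec_res p (GrTilde.tilde 𝒜 𝒜 n)
        (inf_le_right : Proj.basicOpen 𝒜 (G i) ⊓ Proj.basicOpen 𝒜 (G k) ≤ _)
        (le_refl (p ⁻¹ᵁ (Proj.basicOpen 𝒜 (G i) ⊓ Proj.basicOpen 𝒜 (G k))))
        (zsec (hG k) n p₀ q₀ h)
      have s1 : res ((Scheme.Modules.pullback p).obj (GrTilde.tilde 𝒜 𝒜 n))
          (inf_le_left : p ⁻¹ᵁ Proj.basicOpen 𝒜 (G i) ⊓ p ⁻¹ᵁ Proj.basicOpen 𝒜 (G k) ≤ _) (a i) =
          p.appLE (Proj.basicOpen 𝒜 (G i) ⊓ Proj.basicOpen 𝒜 (G k))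
            (p ⁻¹ᵁ Proj.basicOpen 𝒜 (G i) ⊓ p ⁻¹ᵁ Proj.basicOpen 𝒜 (G k)) le_rfl
            (tfun 𝒜 G hG p₀ q₀ i k) •
          res ((Scheme.Modules.pullback p).obj (GrTilde.tilde 𝒜 𝒜 n))
            (inf_le_right : p ⁻¹ᵁ Proj.basicOpen 𝒜 (G i) ⊓ p ⁻¹ᵁ Proj.basicOpen 𝒜 (G k) ≤ _)
            (a k) := by
        refine u1.symm.trans ?_
        rw [res_zsec_eq_tfun 𝒜 G hG n p₀ q₀ h i k, unitSec_smul]
        congr 1
      -- Step 2: `g` is that transition function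
      have hgP : g = p.appLE (Proj.basicOpen 𝒜 (G i) ⊓ Proj.basicOpen 𝒜 (G k))
            (p ⁻¹ᵁ Proj.basicOpen 𝒜 (G i) ⊓ p ⁻¹ᵁ Proj.basicOpen 𝒜 (G k)) le_rfl
            (tfun 𝒜 G hG p₀ q₀ i k) := by
        apply ((ha k).mono (inf_le_right :
          p ⁻¹ᵁ Proj.basicOpen 𝒜 (G i) ⊓ p ⁻¹ᵁ Proj.basicOpen 𝒜 (G k) ≤ _) _ le_rfl).1
        change g • res _ le_rfl (res _ _ (a k)) = _ • res _ le_rfl (res _ _ (a k))
        rw [res_self, ← hg, s1]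
      -- Step 3: the transition of the frames of `O(n)` on `Proj ℬ`
      have hT : U.ι ''ᵁ (p ⁻¹ᵁ Proj.basicOpen 𝒜 (G i) ⊓ p ⁻¹ᵁ Proj.basicOpen 𝒜 (G k)) ≤
          Proj.basicOpen ℬ (φ (G i)) ⊓ Proj.basicOpen ℬ (φ (G k)) := by
        rintro _ ⟨w, hw, rfl⟩
        exact ⟨pmap_preimage_le G hG hp hj i hw.1, pmap_preimage_le G hG hp hj k hw.2⟩
      have t1 : res (GrTilde.tilde ℬ ℬ n) (hT.trans inf_le_left) (zsec (hH i) n p₀ q₀ h) =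
          resf hT (tfun ℬ (fun i => φ (G i)) hH p₀ q₀ i k) •
            res (GrTilde.tilde ℬ ℬ n) (hT.trans inf_le_right) (zsec (hH k) n p₀ q₀ h) := by
        have := congrArg (res (GrTilde.tilde ℬ ℬ n) hT)
          (res_zsec_eq_tfun ℬ (fun i => φ (G i)) hH n p₀ q₀ h i k)
        rw [res_res, res_smul, res_res] at this
        exact this
      have e5 : p.appLE (Proj.basicOpen 𝒜 (G i) ⊓ Proj.basicOpen 𝒜 (G k))
            (p ⁻¹ᵁ Proj.basicOpen 𝒜 (G i) ⊓ p ⁻¹ᵁ Proj.basicOpen 𝒜 (G k)) le_rfl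
            (tfun 𝒜 G hG p₀ q₀ i k) =
          (show Γ((U : Scheme.{u}),
              p ⁻¹ᵁ Proj.basicOpen 𝒜 (G i) ⊓ p ⁻¹ᵁ Proj.basicOpen 𝒜 (G k)) from
            (resf (X := Proj ℬ) hT (tfun ℬ (fun i => φ (G i)) hH p₀ q₀ i k) :
              Γ(Proj ℬ, U.ι ''ᵁ (p ⁻¹ᵁ Proj.basicOpen 𝒜 (G i) ⊓
                p ⁻¹ᵁ Proj.basicOpen 𝒜 (G k))))) := by
        rw [appLE_tfun G hG hp hj p₀ q₀ i k]
        have e6 := Scheme.Opens.ι_appLE U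
          (Proj.basicOpen ℬ (φ (G i)) ⊓ Proj.basicOpen ℬ (φ (G k)))
          (p ⁻¹ᵁ Proj.basicOpen 𝒜 (G i) ⊓ p ⁻¹ᵁ Proj.basicOpen 𝒜 (G k))
          (inf_le_inf (pmap_preimage_le G hG hp hj i) (pmap_preimage_le G hG hp hj k))
        exact congr($e6 (tfun ℬ (fun i => φ (G i)) hH p₀ q₀ i k))
      rw [hgP, e5, smul_restrict_eq]
      refine Eq.trans ?_ (t1.trans ?_)
      · exact res_res (GrTilde.tilde ℬ ℬ n) _ _ _
      · congr 1)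
  exact ⟨Φ⟩

end Main

end Groth.Agent.Lib.Helper27GrTildeSect
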