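import Groth.Agent.Lib.Helper27PicPnAlg
import Groth.Agent.Lib.Helper27TwistGen2
import Groth.Agent.Lib.Helper27GrTildeBridge2
import Groth.Agent.Lib.Helper23PB
import Groth.Prelude.Def_CohB1

/-!
# Units on overlaps of standard charts of projective space over a domain (helper27)

* `tr`, `tr_spec`, `isUnit_tr`, `tr_cocycle` : transition functions of frames on arbitrary opens
* `η` : the generic point of `P^n_R`, `R` a domain
* `IsMon` : a function on an open of `P^n_R` is pointwise the Laurent monomial `u x^t / x^s`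
* `exists_isMon_of_isUnit` : units on `D₊(X_i) ⊓ D₊(X_j)` are Laurent monomials
-/

set_option autoImplicit false
set_option linter.unusedSectionVars false
universe u

open CategoryTheory CategoryTheory.Limits AlgebraicGeometry TopologicalSpace Opposite
  HomogeneousLocalization MvPolynomial
open Groth.Agent.Lib.Helper23.SecTw Groth.Agent.Lib.Helper6 Groth.Agent.Lib.Helper27GrTildeSect

namespace Groth.Agent.Lib.Helper27PicPn

section frames

variable {X : Scheme.{u}} {M : X.Modules} {ι : Type*} {W : ι → X.Opens} {e : ∀ i, Γ(M, W i)}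
  (he : ∀ i, IsGen M (W i) (e i))

/-- the transition function between two frames. -/
noncomputable def tr (i j : ι) : Γ(X, W i ⊓ W j) :=
  coef (he j) inf_le_right (res M inf_le_left (e i))

theorem tr_spec (i j : ι) :
    tr he i j • res M inf_le_right (e j) = res M inf_le_left (e i) :=
  coef_spec (he j) inf_le_right _

theorem isUnit_tr (i j : ι) : IsUnit (tr he i j) := by
  have hi := (he i).mono (inf_le_left : W i ⊓ W j ≤ W i)
  have hj := (he j).mono (inf_le_right : W i ⊓ W j ≤ W j)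
  have h1 := Groth.Agent.Lib.Helper23.PB.isUnit_coef_of_isGen hj hi
  have h2 : tr he i j = coef hj le_rfl (res M inf_le_left (e i)) := by
    apply coef_unique
    rw [res_self]
    exact tr_spec he i j
  rw [h2]; exact h1

theorem tr_cocycle (i j k : ι) :
    resf (inf_le_left : W i ⊓ W j ⊓ W k ≤ _) (tr he i j) *
      resf (le_inf (inf_le_left.trans inf_le_right) inf_le_right :
        W i ⊓ W j ⊓ W k ≤ W j ⊓ W k) (tr he j k) =
      resf (le_inf (inf_le_left.trans inf_le_left) inf_le_right :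
        W i ⊓ W j ⊓ W k ≤ W i ⊓ W k) (tr he i k) := by
  have hT : W i ⊓ W j ⊓ W k ≤ W k := inf_le_right
  apply (he k _ hT).1
  simp only
  have h1 := congrArg (res M (inf_le_left : W i ⊓ W j ⊓ W k ≤ W i ⊓ W j)) (tr_spec he i j)
  have h2 := congrArg (res M (le_inf (inf_le_left.trans inf_le_right) inf_le_right :
    W i ⊓ W j ⊓ W k ≤ W j ⊓ W k)) (tr_spec he j k)
  have h3 := congrArg (res M (le_inf (inf_le_left.trans inf_le_left) inf_le_right :
    W i ⊓ W j ⊓ W k ≤ W i ⊓ W k)) (tr_spec he i k)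
  simp only [res_smul, res_res] at h1 h2 h3
  rw [mul_smul, h2, h1, h3]

end frames

variable {n : ℕ} {R : Type u} [CommRing R] [IsDomain R]

local notation "𝒢" => CohB1.polyGrading n R

theorem X_mem_one (i : Fin (n + 1)) : (X i : MvPolynomial (Fin (n + 1)) R) ∈ 𝒢 1 :=
  (mem_homogeneousSubmodule _ _).mpr (isHomogeneous_X (R := R) i)

/-- the generic point of `P^n_R`. -/
noncomputable def η : ProjectiveSpectrum 𝒢 :=
  ⟨⊥, by rw [HomogeneousIdeal.toIdeal_bot]; exact Ideal.isPrime_bot, fun h => by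
    have h1 : (X 0 : MvPolynomial (Fin (n + 1)) R) ∈ HomogeneousIdeal.irrelevant 𝒢 := by
      rw [HomogeneousIdeal.mem_irrelevant_iff, GradedRing.proj_apply]
      exact DirectSum.decompose_of_mem_ne 𝒢 (X_mem_one 0) one_ne_zero
    have h2 := h h1
    have h3 : (X 0 : MvPolynomial (Fin (n + 1)) R) = 0 := by
      have : (X 0 : MvPolynomial (Fin (n + 1)) R) ∈ (⊥ : HomogeneousIdeal 𝒢).toIdeal := h2
      rwa [HomogeneousIdeal.toIdeal_bot, Ideal.mem_bot] at this
    exact X_ne_zero 0 h3⟩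

theorem not_mem_η {f : MvPolynomial (Fin (n + 1)) R} (hf : f ≠ 0) :
    f ∉ (η (n := n) (R := R)).asHomogeneousIdeal := by
  intro h
  have : f ∈ (⊥ : HomogeneousIdeal 𝒢).toIdeal := h
  rw [HomogeneousIdeal.toIdeal_bot, Ideal.mem_bot] at this
  exact hf this

theorem η_mem_basicOpen {f : MvPolynomial (Fin (n + 1)) R} (hf : f ≠ 0) :
    (η (n := n) (R := R)) ∈ Proj.basicOpen 𝒢 f :=
  (ProjectiveSpectrum.mem_basicOpen 𝒢 f _).mpr (not_mem_η hf)

/-- equality of fractions in the localization at a homogeneous prime of a domain. -/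
theorem mk_eq_mk_iff' (y : ProjectiveSpectrum 𝒢) (a a' : MvPolynomial (Fin (n + 1)) R)
    (b b' : y.asHomogeneousIdeal.toIdeal.primeCompl) :
    (Localization.mk a b : Twist.Loc 𝒢 y) = Localization.mk a' b' ↔
      a * (b' : MvPolynomial (Fin (n + 1)) R) = a' * b := by
  rw [Localization.mk_eq_mk_iff, Localization.r_iff_exists]
  constructor
  · rintro ⟨c, hc⟩
    have hc0 : (c : MvPolynomial (Fin (n + 1)) R) ≠ 0 := by
      intro h0
      exact c.2 (by rw [h0]; exact zero_mem _)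
    have := mul_left_cancel₀ hc0 hc
    rw [mul_comm a, mul_comm a']
    exact this
  · intro h
    exact ⟨1, by rw [mul_comm _ a, mul_comm _ a', h]⟩

/-- `c` is pointwise the Laurent monomial `u x^t / x^s` on `W`. -/
def IsMon (W : (Proj 𝒢).Opens) (c : Γ(Proj 𝒢, W)) (u : R) (t s : Fin (n + 1) →₀ ℕ) : Prop :=
  ∀ (y : ProjectiveSpectrum 𝒢) (hy : y ∈ W),
    ∃ h : (monomial s (1 : R)) ∉ y.asHomogeneousIdeal,
      (funVal 𝒢 W c y hy).val =
        (Localization.mk (monomial t u) (⟨monomial s 1, h⟩ :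
          y.asHomogeneousIdeal.toIdeal.primeCompl) : Twist.Loc 𝒢 y)

theorem IsMon.res {W V : (Proj 𝒢).Opens} {c : Γ(Proj 𝒢, W)} {u : R} {t s : Fin (n + 1) →₀ ℕ}
    (h : IsMon W c u t s) (hle : V ≤ W) : IsMon V (resf hle c) u t s := by
  intro y hy
  obtain ⟨h1, h2⟩ := h y (hle hy)
  exact ⟨h1, h2⟩

theorem IsMon.mul {W : (Proj 𝒢).Opens} {c c' : Γ(Proj 𝒢, W)} {u u' : R}
    {t s t' s' : Fin (n + 1) →₀ ℕ} (h : IsMon W c u t s) (h' : IsMon W c' u' t' s') :
    IsMon W (c * c') (u * u') (t + t') (s + s') := by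
  intro y hy
  obtain ⟨h1, h2⟩ := h y hy
  obtain ⟨h1', h2'⟩ := h' y hy
  have hm : (monomial (s + s') (1 : R) : MvPolynomial (Fin (n + 1)) R) =
      monomial s 1 * monomial s' 1 := by rw [monomial_mul, mul_one]
  have h3 : (monomial (s + s') (1 : R)) ∉ y.asHomogeneousIdeal := by
    rw [hm]
    intro hmem
    rcases y.isPrime.mem_or_mem hmem with h | h
    · exact h1 h
    · exact h1' h
  refine ⟨h3, ?_⟩
  rw [funVal_mul, HomogeneousLocalization.val_mul, h2, h2', Localization.mk_mul]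
  congr 1
  · rw [monomial_mul]
  · exact Subtype.ext hm.symm

theorem IsMon.unique {W : (Proj 𝒢).Opens} {c : Γ(Proj 𝒢, W)} {u u' : R}
    {t s t' s' : Fin (n + 1) →₀ ℕ} (hη : (η (n := n) (R := R)) ∈ W) (hu : u ≠ 0)
    (h : IsMon W c u t s) (h' : IsMon W c u' t' s') : u = u' ∧ t + s' = t' + s := by
  obtain ⟨h1, h2⟩ := h η hη
  obtain ⟨h1', h2'⟩ := h' η hη
  rw [h2] at h2'
  rw [mk_eq_mk_iff'] at h2'
  simp only [monomial_mul, mul_one] at h2'
  have := (Groth.Agent.Lib.Helper27PicPnAlg.monomial_mul_eq_iff hu).mp h2'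
  exact ⟨this.2, this.1⟩

/-- the standard chart `D₊(X_i)`. -/
noncomputable abbrev U (i : Fin (n + 1)) : (Proj 𝒢).Opens := Proj.basicOpen 𝒢 (X i)

theorem pow_mul_eq_monomial (i j : Fin (n + 1)) (k : ℕ) :
    ((X i * X j : MvPolynomial (Fin (n + 1)) R)) ^ k =
      monomial (k • (Finsupp.single i 1 + Finsupp.single j 1)) 1 := by
  rw [X, X, monomial_mul, monomial_pow, one_mul, one_pow]

theorem η_mem_U (i : Fin (n + 1)) : (η (n := n) (R := R)) ∈ U (n := n) (R := R) i :=
  η_mem_basicOpen (X_ne_zero i)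

theorem funVal_one (W : (Proj 𝒢).Opens) (y : ProjectiveSpectrum 𝒢) (hy : y ∈ W) :
    funVal 𝒢 W 1 y hy = 1 := rfl

/-- units on the overlap of two standard charts are Laurent monomials in the two coordinates. -/
theorem exists_isMon_of_isUnit (i j : Fin (n + 1)) (g : Γ(Proj 𝒢, U i ⊓ U j)) (hg : IsUnit g) :
    ∃ (u : Rˣ) (t : Fin (n + 1) →₀ ℕ) (k : ℕ),
      IsMon (U i ⊓ U j) g u t (k • (Finsupp.single i 1 + Finsupp.single j 1)) ∧
      t.degree = 2 * k ∧ ∀ x, x ≠ i → x ≠ j → t x = 0 := by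
  set f : MvPolynomial (Fin (n + 1)) R := X i * X j with hfdef
  have hf : f ∈ 𝒢 2 := SetLike.mul_mem_graded (X_mem_one i) (X_mem_one j)
  have hW : Proj.basicOpen 𝒢 f = U i ⊓ U j := Proj.basicOpen_mul 𝒢 _ _
  obtain ⟨g', hgg'⟩ := hg.exists_right_inv
  set g₁ := resf (le_of_eq hW) g with hg₁
  set g₂ := resf (le_of_eq hW) g' with hg₂
  obtain ⟨k, a, ha, h1⟩ := exists_awayToSection_eq hf (by norm_num) g₁
  obtain ⟨k', a', ha', h2⟩ := exists_awayToSection_eq hf (by norm_num) g₂
  have hfy : ∀ (y : ProjectiveSpectrum 𝒢) (hy : y ∈ Proj.basicOpen 𝒢 f) (m : ℕ),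
      f ^ m ∉ y.asHomogeneousIdeal := fun y hy m h =>
    (ProjectiveSpectrum.mem_basicOpen 𝒢 f y).mp hy (y.isPrime.mem_of_pow_mem m h)
  have hv1 : ∀ (y : ProjectiveSpectrum 𝒢) (hy : y ∈ Proj.basicOpen 𝒢 f),
      (funVal 𝒢 _ g₁ y hy).val = (Localization.mk a (⟨f ^ k, hfy y hy k⟩ :
        y.asHomogeneousIdeal.toIdeal.primeCompl) : Twist.Loc 𝒢 y) := by
    intro y hy
    rw [← h1]
    exact funVal_awayToSection_val hf k a ha y hy
  have hv2 : ∀ (y : ProjectiveSpectrum 𝒢) (hy : y ∈ Proj.basicOpen 𝒢 f),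
      (funVal 𝒢 _ g₂ y hy).val = (Localization.mk a' (⟨f ^ k', hfy y hy k'⟩ :
        y.asHomogeneousIdeal.toIdeal.primeCompl) : Twist.Loc 𝒢 y) := by
    intro y hy
    rw [← h2]
    exact funVal_awayToSection_val hf k' a' ha' y hy
  have hη : (η (n := n) (R := R)) ∈ Proj.basicOpen 𝒢 f :=
    η_mem_basicOpen (mul_ne_zero (X_ne_zero i) (X_ne_zero j))
  have hprod : g₁ * g₂ = 1 := by
    rw [hg₁, hg₂, ← resf_mul, hgg']
    exact map_one _
  have h3 := congrArg (fun c => (funVal 𝒢 _ c η hη).val) hprod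
  simp only [funVal_mul, HomogeneousLocalization.val_mul, hv1, hv2, funVal_one,
    HomogeneousLocalization.val_one] at h3
  rw [Localization.mk_mul, ← Localization.mk_one, mk_eq_mk_iff'] at h3
  have haa : a * a' =
      monomial ((k + k') • (Finsupp.single i 1 + Finsupp.single j 1)) (1 : R) := by
    rw [← pow_mul_eq_monomial, pow_add]
    simpa using h3
  obtain ⟨u, t, hts, hat⟩ :=
    Groth.Agent.Lib.Helper27PicPnAlg.exists_eq_monomial_of_mul_eq' _ a a' haa
  refine ⟨u, t, k, ?_, ?_, ?_⟩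
  · intro y hy
    have hy' : y ∈ Proj.basicOpen 𝒢 f := by rw [hW]; exact hy
    refine ⟨?_, ?_⟩
    · rw [← pow_mul_eq_monomial]
      exact hfy y hy' k
    · have h4 : funVal 𝒢 (U i ⊓ U j) g y hy = funVal 𝒢 _ g₁ y hy' := rfl
      rw [h4, hv1, hat]
      congr 1
      exact Subtype.ext (pow_mul_eq_monomial i j k)
  · have h5 : (monomial t (u : R) : MvPolynomial (Fin (n + 1)) R) ∈
        homogeneousSubmodule (Fin (n + 1)) R (k • 2) := by
      rw [← hat]
      exact ha
    have := Groth.Agent.Lib.Helper27PicPnAlg.degree_eq_of_monomial_mem u.ne_zero h5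
    rw [this, smul_eq_mul, mul_comm]
  · intro x hxi hxj
    have h6 := hts x
    simp only [Finsupp.coe_smul, Finsupp.coe_add, Pi.smul_apply, Pi.add_apply,
      Finsupp.single_apply, if_neg (Ne.symm hxi), if_neg (Ne.symm hxj), add_zero, smul_zero] at h6
    exact Nat.le_zero.mp h6

end Groth.Agent.Lib.Helper27PicPn
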