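import Mathlib

/-!
# Exponent bookkeeping for cocycles of Laurent monomials (helper27; pure Mathlib)
-/

set_option autoImplicit false
set_option linter.unusedSectionVars false

namespace Groth.Agent.Lib.Helper27PicPnComb

variable {ι : Type*} [Fintype ι] [DecidableEq ι]

theorem apply_add_apply_eq {t : ι →₀ ℕ} {i j : ι} (hij : i ≠ j)
    (hsupp : ∀ x, x ≠ i → x ≠ j → t x = 0) : t i + t j = t.degree := by
  rw [Finsupp.degree_eq_sum]
  have h1 : ∑ x, t x = ∑ x ∈ ({i, j} : Finset ι), t x := by
    symm
    apply Finset.sum_subset (Finset.subset_univ _)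
    intro x _ hx
    simp only [Finset.mem_insert, Finset.mem_singleton, not_or] at hx
    exact hsupp x hx.1 hx.2
  rw [h1, Finset.sum_pair hij]

theorem apply_eq_degree {t : ι →₀ ℕ} {i : ι}
    (hsupp : ∀ x, x ≠ i → t x = 0) : t i = t.degree := by
  rw [Finsupp.degree_eq_sum]
  symm
  apply Finset.sum_eq_single i
  · intro x _ hx
    exact hsupp x hx
  · intro h
    exact absurd (Finset.mem_univ i) h

/-- the exponents of a multiplicative cocycle of degree-zero Laurent monomials in the coordinates
are those of the standard cocycle of some `O(P - Q)`. -/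
theorem exists_exponents (k : ι → ι → ℕ) (t : ι → ι → (ι →₀ ℕ))
    (hsupp : ∀ i j x, x ≠ i → x ≠ j → t i j x = 0)
    (hdeg : ∀ i j, (t i j).degree = 2 * k i j)
    (hcoc : ∀ i j l, t i j + t j l + k i l • (Finsupp.single i 1 + Finsupp.single l 1) =
        t i l + (k i j • (Finsupp.single i 1 + Finsupp.single j 1) +
          k j l • (Finsupp.single j 1 + Finsupp.single l 1))) :
    ∃ P Q : ℕ, ∀ i j, Finsupp.single i P + (k i j • (Finsupp.single i 1 + Finsupp.single j 1) +
        Finsupp.single j Q) = t i j + Finsupp.single j P + Finsupp.single i Q := by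
  -- basic facts
  have E3 : ∀ i j, i ≠ j → t i j i + t i j j = 2 * k i j := fun i j hij => by
    rw [apply_add_apply_eq hij (hsupp i j), hdeg]
  have E4 : ∀ i, t i i i = 2 * k i i := fun i => by
    rw [apply_eq_degree (fun x hx => hsupp i i x hx hx), hdeg]
  have E1 : ∀ i j l, i ≠ j → i ≠ l → t i j i + k i l = t i l i + k i j := by
    intro i j l hij hil
    have h := DFunLike.congr_fun (hcoc i j l) i
    by_cases hjl : j = l
    · subst hjl; rfl
    have h0 : t j l i = 0 := hsupp j l i hij hil
    simp only [Finsupp.coe_add, Finsupp.coe_smul, Pi.add_apply, Pi.smul_apply,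
      Finsupp.single_apply, smul_eq_mul, ↓reduceIte, if_neg (Ne.symm hij), if_neg (Ne.symm hil),
      h0] at h
    omega
  have E2 : ∀ i j, i ≠ j → t i j i + t j i i = k i j + k j i := by
    intro i j hij
    have h := DFunLike.congr_fun (hcoc i j i) i
    simp only [Finsupp.coe_add, Finsupp.coe_smul, Pi.add_apply, Pi.smul_apply,
      Finsupp.single_apply, smul_eq_mul, ↓reduceIte, if_neg (Ne.symm hij), E4 i] at h
    omega
  -- the final identity from the numerical one
  have fin : ∀ P Q : ℕ, (∀ i j, i ≠ j → P + k i j = t i j i + Q) →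
      ∀ i j, Finsupp.single i P + (k i j • (Finsupp.single i 1 + Finsupp.single j 1) +
        Finsupp.single j Q) = t i j + Finsupp.single j P + Finsupp.single i Q := by
    intro P Q key i j
    ext x
    by_cases hij : i = j
    · subst hij
      by_cases hx : x = i
      · subst hx
        simp only [Finsupp.coe_add, Finsupp.coe_smul, Pi.add_apply, Pi.smul_apply,
          Finsupp.single_apply, smul_eq_mul, ↓reduceIte, E4 x]
        omega
      · have h0 : t i i x = 0 := hsupp i i x hx hx
        simp only [Finsupp.coe_add, Finsupp.coe_smul, Pi.add_apply, Pi.smul_apply,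
          Finsupp.single_apply, smul_eq_mul, if_neg (Ne.symm hx), h0, add_zero, mul_zero]
    · have hk := key i j hij
      have h3 := E3 i j hij
      by_cases hxi : x = i
      · subst hxi
        simp only [Finsupp.coe_add, Finsupp.coe_smul, Pi.add_apply, Pi.smul_apply,
          Finsupp.single_apply, smul_eq_mul, ↓reduceIte, if_neg (Ne.symm hij)]
        omega
      · by_cases hxj : x = j
        · subst hxj
          simp only [Finsupp.coe_add, Finsupp.coe_smul, Pi.add_apply, Pi.smul_apply,
            Finsupp.single_apply, smul_eq_mul, ↓reduceIte, if_neg hij]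
          omega
        · have h0 : t i j x = 0 := hsupp i j x hxi hxj
          simp only [Finsupp.coe_add, Finsupp.coe_smul, Pi.add_apply, Pi.smul_apply,
            Finsupp.single_apply, smul_eq_mul, if_neg (Ne.symm hxi), if_neg (Ne.symm hxj), h0, add_zero,
            mul_zero]
  by_cases hpair : ∃ a b : ι, a ≠ b
  · obtain ⟨a, b, hab⟩ := hpair
    refine ⟨t a b a, k a b, fin _ _ ?_⟩
    -- same first index
    have S1 : ∀ i j l, i ≠ j → i ≠ l → t i j i + k i l = t i l i + k i j := E1
    intro i j hij
    by_cases hia : i = a
    · subst hia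
      have := S1 i j b hij hab
      omega
    · have h1 := S1 i j a hij hia
      have h2 := E2 i a hia
      have h3 := E3 a i (Ne.symm hia)
      have h4 := S1 a i b (Ne.symm hia) hab
      have h5 := E3 i a hia
      omega
  · push Not at hpair
    refine ⟨0, 0, fin 0 0 ?_⟩
    intro i j hij
    exact absurd (hpair i j) hij

end Groth.Agent.Lib.Helper27PicPnComb
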