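import Groth.Agent.Lib.Helper13ProjUPa
import Groth.Agent.Lib.Helper27ProjSpaceBC2

/-!
# The Segre map on points: `(p₁, p₂) ↦ σ : X ⟶ P^N` (helper27)
-/

set_option autoImplicit false
set_option linter.unusedSectionVars false
universe u

open CategoryTheory CategoryTheory.Limits AlgebraicGeometry TopologicalSpace Opposite
  HomogeneousLocalization MvPolynomial

namespace Groth.Agent.Lib.Helper27SegreMap

open Groth.Agent.Helper13Dehom Groth.Agent.Helper13AffMor Groth.Agent.Helper13ProjUP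

section PB
variable {R A : Type u} [CommRing R] [CommRing A] [Algebra R A] {𝒜 : ℕ → Submodule R A}
  [GradedAlgebra 𝒜]
variable {X : Scheme.{u}} (p : X ⟶ Proj 𝒜)

/-- `a ↦ p^♯(a / f^{deg a})` on an open `V ⊆ p⁻¹ D₊(f)`. -/
noncomputable def pbF {f : A} (hf : f ∈ 𝒜 1) {V : X.Opens}
    (hV : V ≤ p ⁻¹ᵁ Proj.basicOpen 𝒜 f) : A →+* Γ(X, V) :=
  (p.appLE (Proj.basicOpen 𝒜 f) V hV).hom.comp (dehom hf)

theorem pbF_apply {f : A} (hf : f ∈ 𝒜 1) {V : X.Opens}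
    (hV : V ≤ p ⁻¹ᵁ Proj.basicOpen 𝒜 f) (a : A) :
    pbF p hf hV a = (p.appLE (Proj.basicOpen 𝒜 f) V hV).hom (dehom hf a) := rfl

theorem pbF_self {f : A} (hf : f ∈ 𝒜 1) {V : X.Opens}
    (hV : V ≤ p ⁻¹ᵁ Proj.basicOpen 𝒜 f) : pbF p hf hV f = 1 := by
  rw [pbF_apply, dehom_self, map_one]

theorem pbF_res {f : A} (hf : f ∈ 𝒜 1) {V V' : X.Opens}
    (hV : V ≤ p ⁻¹ᵁ Proj.basicOpen 𝒜 f) (h : V' ≤ V) (a : A) :
    (X.presheaf.map (homOfLE h).op).hom (pbF p hf hV a) = pbF p hf (h.trans hV) a := by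
  rw [pbF_apply, pbF_apply]
  have h2 := Scheme.Hom.appLE_map p hV (homOfLE h).op
  exact congr($h2 (dehom hf a))

theorem appLE_resO {U U' : (Proj 𝒜).Opens} (hU : U' ≤ U) {V : X.Opens}
    (e' : V ≤ p ⁻¹ᵁ U') (c : Γ(Proj 𝒜, U)) :
    (p.appLE U' V e').hom (resO hU c) =
      (p.appLE U V (e'.trans (p.preimage_mono hU))).hom c := by
  have h1 := Scheme.Hom.map_appLE p e' (homOfLE hU).op
  exact congr($h1 c)

theorem pbF_overlap {f g : A} (hf : f ∈ 𝒜 1) (hg : g ∈ 𝒜 1) {j : ℕ} {a : A} (ha : a ∈ 𝒜 j)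
    {V : X.Opens} (hVf : V ≤ p ⁻¹ᵁ Proj.basicOpen 𝒜 f) (hVg : V ≤ p ⁻¹ᵁ Proj.basicOpen 𝒜 g) :
    pbF p hg hVg a = pbF p hg hVg f ^ j * pbF p hf hVf a := by
  have hV : V ≤ p ⁻¹ᵁ (Proj.basicOpen 𝒜 f ⊓ Proj.basicOpen 𝒜 g) := fun x hx => ⟨hVf hx, hVg hx⟩
  have h := dehom_overlap hf hg ha (W := Proj.basicOpen 𝒜 f ⊓ Proj.basicOpen 𝒜 g)
    inf_le_left inf_le_right
  have h2 := congrArg (p.appLE _ V hV).hom h
  rw [map_mul, map_pow, appLE_resO, appLE_resO, appLE_resO] at h2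
  exact h2

theorem pbF_mul_inv {f g : A} (hf : f ∈ 𝒜 1) (hg : g ∈ 𝒜 1)
    {V : X.Opens} (hVf : V ≤ p ⁻¹ᵁ Proj.basicOpen 𝒜 f) (hVg : V ≤ p ⁻¹ᵁ Proj.basicOpen 𝒜 g) :
    pbF p hg hVg f * pbF p hf hVf g = 1 := by
  have h := pbF_overlap p hf hg hg hVf hVg
  rw [pbF_self, pow_one] at h
  exact h.symm

theorem pbF_cocycle {f g h : A} (hf : f ∈ 𝒜 1) (hg : g ∈ 𝒜 1) (hh : h ∈ 𝒜 1)
    {V : X.Opens} (hVf : V ≤ p ⁻¹ᵁ Proj.basicOpen 𝒜 f) (hVg : V ≤ p ⁻¹ᵁ Proj.basicOpen 𝒜 g) :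
    pbF p hg hVg h = pbF p hg hVg f * pbF p hf hVf h := by
  have h := pbF_overlap p hf hg hh hVf hVg
  rw [pow_one] at h
  exact h

theorem pbF_const {f g : A} (hf : f ∈ 𝒜 1) (hg : g ∈ 𝒜 1) {a : A} (ha : a ∈ 𝒜 0)
    {V : X.Opens} (hVf : V ≤ p ⁻¹ᵁ Proj.basicOpen 𝒜 f) (hVg : V ≤ p ⁻¹ᵁ Proj.basicOpen 𝒜 g) :
    pbF p hg hVg a = pbF p hf hVf a := by
  have h := pbF_overlap p hf hg ha hVf hVg
  rw [pow_zero, one_mul] at h
  exact h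

theorem basicOpen_pbF {f g : A} (hf : f ∈ 𝒜 1) (hg : g ∈ 𝒜 1) {V : X.Opens}
    (hVf : V ≤ p ⁻¹ᵁ Proj.basicOpen 𝒜 f) :
    X.basicOpen (pbF p hf hVf g) = V ⊓ p ⁻¹ᵁ (Proj.basicOpen 𝒜 g) := by
  rw [pbF_apply, basicOpen_appLE, basicOpen_dehom hg hf]
  ext x
  constructor
  · rintro ⟨h1, h2⟩
    exact ⟨h1, h2.1⟩
  · rintro ⟨h1, h2⟩
    exact ⟨h1, h2, hVf h1⟩

/-- composing a chart morphism with the structure morphism. -/
theorem toAff_toBase {f : A} (hf : f ∈ 𝒜 1) {V : X.Opens}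
    (φ : Γ(Proj 𝒜, Proj.basicOpen 𝒜 f) ⟶ Γ(X, V)) :
    toAff (isAffineOpen_basicOpen hf) φ ≫ toBase 𝒜 = V.toSpecΓ ≫ Spec.map (strMap hf ≫ φ) := by
  unfold toAff
  rw [Category.assoc, Category.assoc, fromSpec_toBase, ← Spec.map_comp]

end PB

section Scale
variable {R S : Type*} [CommRing R] [CommRing S] {σ : Type*}

theorem eval₂_scale (ρ : R →+* S) (c c' : σ → S) (v : S) (h : ∀ t, c' t = v * c t)
    {a : MvPolynomial σ R} {d : ℕ} (ha : a.IsHomogeneous d) :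
    eval₂ ρ c' a = v ^ d * eval₂ ρ c a := by
  rw [eval₂_eq, eval₂_eq, Finset.mul_sum]
  refine Finset.sum_congr rfl (fun s hs => ?_)
  have hd := ha.degree_eq_sum_deg_support hs
  have h1 : ∏ i ∈ s.support, c' i ^ s i = v ^ d * ∏ i ∈ s.support, c i ^ s i := by
    rw [hd, ← Finset.prod_pow_eq_pow_sum, ← Finset.prod_mul_distrib]
    refine Finset.prod_congr rfl (fun i _ => ?_)
    rw [h i, mul_pow]
  rw [h1]
  ring

end Scale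

section Segre
open Groth.Agent.Lib.Helper27ProjSpaceBC

variable {n m N : ℕ} {R : Type u} [CommRing R] (e : Fin (n + 1) × Fin (m + 1) ≃ Fin (N + 1))
variable {T : Scheme.{u}} (p₁ : T ⟶ Proj (CohB1.polyGrading n R))
  (p₂ : T ⟶ Proj (CohB1.polyGrading m R))

/-- the open `p₁⁻¹ D₊(x_i) ∩ p₂⁻¹ D₊(y_j)`. -/
noncomputable def W (ij : Fin (n + 1) × Fin (m + 1)) : T.Opens :=
  p₁ ⁻¹ᵁ Proj.basicOpen (CohB1.polyGrading n R) (X ij.1) ⊓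
    p₂ ⁻¹ᵁ Proj.basicOpen (CohB1.polyGrading m R) (X ij.2)

theorem W_le₁ (ij : Fin (n + 1) × Fin (m + 1)) :
    W p₁ p₂ ij ≤ p₁ ⁻¹ᵁ Proj.basicOpen (CohB1.polyGrading n R) (X ij.1) := inf_le_left

theorem W_le₂ (ij : Fin (n + 1) × Fin (m + 1)) :
    W p₁ p₂ ij ≤ p₂ ⁻¹ᵁ Proj.basicOpen (CohB1.polyGrading m R) (X ij.2) := inf_le_right

/-- the products `(x_k/x_i)(y_l/y_j)`. -/
noncomputable def cfun (ij : Fin (n + 1) × Fin (m + 1)) {V : T.Opens} (hV : V ≤ W p₁ p₂ ij) :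
    Fin (N + 1) → Γ(T, V) := fun t =>
  pbF p₁ (hX n R ij.1) (hV.trans (W_le₁ p₁ p₂ ij)) (X (e.symm t).1) *
    pbF p₂ (hX m R ij.2) (hV.trans (W_le₂ p₁ p₂ ij)) (X (e.symm t).2)

/-- the structure map through the chart. -/
noncomputable def rho (ij : Fin (n + 1) × Fin (m + 1)) {V : T.Opens} (hV : V ≤ W p₁ p₂ ij) :
    R →+* Γ(T, V) :=
  (pbF p₁ (hX n R ij.1) (hV.trans (W_le₁ p₁ p₂ ij))).comp C

/-- `z_kl ↦ (x_k/x_i)(y_l/y_j)`. -/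
noncomputable def psi (ij : Fin (n + 1) × Fin (m + 1)) {V : T.Opens} (hV : V ≤ W p₁ p₂ ij) :
    MvPolynomial (Fin (N + 1)) R →+* Γ(T, V) :=
  eval₂Hom (rho p₁ p₂ ij hV) (cfun e p₁ p₂ ij hV)

theorem psi_C (ij : Fin (n + 1) × Fin (m + 1)) {V : T.Opens} (hV : V ≤ W p₁ p₂ ij) (c : R) :
    psi e p₁ p₂ ij hV (C c) = rho p₁ p₂ ij hV c := by
  unfold psi
  rw [coe_eval₂Hom, eval₂_C]

theorem psi_X (ij : Fin (n + 1) × Fin (m + 1)) {V : T.Opens} (hV : V ≤ W p₁ p₂ ij)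
    (t : Fin (N + 1)) :
    psi e p₁ p₂ ij hV (X t) = cfun e p₁ p₂ ij hV t := by
  unfold psi
  rw [coe_eval₂Hom, eval₂_X]

theorem cfun_self (ij : Fin (n + 1) × Fin (m + 1)) {V : T.Opens} (hV : V ≤ W p₁ p₂ ij) :
    cfun e p₁ p₂ ij hV (e ij) = 1 := by
  unfold cfun
  rw [Equiv.symm_apply_apply, pbF_self, pbF_self, one_mul]

theorem cfun_res (ij : Fin (n + 1) × Fin (m + 1)) {V V' : T.Opens} (hV : V ≤ W p₁ p₂ ij)
    (h : V' ≤ V) (t : Fin (N + 1)) :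
    (T.presheaf.map (homOfLE h).op).hom (cfun e p₁ p₂ ij hV t) =
      cfun e p₁ p₂ ij (h.trans hV) t := by
  unfold cfun
  rw [map_mul, pbF_res, pbF_res]

theorem rho_res (ij : Fin (n + 1) × Fin (m + 1)) {V V' : T.Opens} (hV : V ≤ W p₁ p₂ ij)
    (h : V' ≤ V) (c : R) :
    (T.presheaf.map (homOfLE h).op).hom (rho p₁ p₂ ij hV c) = rho p₁ p₂ ij (h.trans hV) c := by
  unfold rho
  rw [RingHom.comp_apply, pbF_res]
  rfl

theorem psi_res (ij : Fin (n + 1) × Fin (m + 1)) {V V' : T.Opens} (hV : V ≤ W p₁ p₂ ij)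
    (h : V' ≤ V) (a : MvPolynomial (Fin (N + 1)) R) :
    (T.presheaf.map (homOfLE h).op).hom (psi e p₁ p₂ ij hV a) = psi e p₁ p₂ ij (h.trans hV) a := by
  have key : ((T.presheaf.map (homOfLE h).op).hom).comp (psi e p₁ p₂ ij hV) =
      psi e p₁ p₂ ij (h.trans hV) := by
    apply MvPolynomial.ringHom_ext
    · intro c
      rw [RingHom.comp_apply, psi_C, psi_C, rho_res]
    · intro t
      rw [RingHom.comp_apply, psi_X, psi_X, cfun_res]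
  exact congrArg (fun φ => φ a) key

theorem rho_eq (ij kl : Fin (n + 1) × Fin (m + 1)) {V : T.Opens} (hV1 : V ≤ W p₁ p₂ ij)
    (hV2 : V ≤ W p₁ p₂ kl) (c : R) : rho p₁ p₂ kl hV2 c = rho p₁ p₂ ij hV1 c := by
  unfold rho
  rw [RingHom.comp_apply, RingHom.comp_apply]
  exact pbF_const p₁ (hX n R ij.1) (hX n R kl.1)
    ((mem_homogeneousSubmodule _ _).mpr (isHomogeneous_C _ c)) _ _

theorem cfun_scale (ij kl : Fin (n + 1) × Fin (m + 1)) {V : T.Opens} (hV1 : V ≤ W p₁ p₂ ij)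
    (hV2 : V ≤ W p₁ p₂ kl) (t : Fin (N + 1)) :
    cfun e p₁ p₂ kl hV2 t = cfun e p₁ p₂ kl hV2 (e ij) * cfun e p₁ p₂ ij hV1 t := by
  unfold cfun
  rw [Equiv.symm_apply_apply]
  rw [pbF_cocycle p₁ (hX n R ij.1) (hX n R kl.1) (hX n R (e.symm t).1)
    (hV1.trans (W_le₁ p₁ p₂ ij)) (hV2.trans (W_le₁ p₁ p₂ kl)),
    pbF_cocycle p₂ (hX m R ij.2) (hX m R kl.2) (hX m R (e.symm t).2)
    (hV1.trans (W_le₂ p₁ p₂ ij)) (hV2.trans (W_le₂ p₁ p₂ kl))]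
  ring

theorem cfun_mul_inv (ij kl : Fin (n + 1) × Fin (m + 1)) {V : T.Opens} (hV1 : V ≤ W p₁ p₂ ij)
    (hV2 : V ≤ W p₁ p₂ kl) :
    cfun e p₁ p₂ ij hV1 (e kl) * cfun e p₁ p₂ kl hV2 (e ij) = 1 := by
  have h := cfun_scale e p₁ p₂ kl ij hV2 hV1 (e ij)
  rw [cfun_self] at h
  exact h.symm

theorem psi_scale (ij kl : Fin (n + 1) × Fin (m + 1)) {V : T.Opens} (hV1 : V ≤ W p₁ p₂ ij)
    (hV2 : V ≤ W p₁ p₂ kl) {d : ℕ} {a : MvPolynomial (Fin (N + 1)) R}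
    (ha : a ∈ CohB1.polyGrading N R d) :
    psi e p₁ p₂ kl hV2 a = cfun e p₁ p₂ kl hV2 (e ij) ^ d * psi e p₁ p₂ ij hV1 a := by
  unfold psi
  rw [coe_eval₂Hom, coe_eval₂Hom]
  have h1 : rho p₁ p₂ kl hV2 = rho p₁ p₂ ij hV1 := RingHom.ext (rho_eq p₁ p₂ ij kl hV1 hV2)
  rw [h1]
  exact eval₂_scale _ _ _ _ (cfun_scale e p₁ p₂ ij kl hV1 hV2)
    ((mem_homogeneousSubmodule _ _).mp ha)

theorem exists_mem_basicOpen (y : Proj (CohB1.polyGrading n R)) :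
    ∃ i : Fin (n + 1), y ∈ Proj.basicOpen (CohB1.polyGrading n R) (X i) := by
  obtain ⟨j, z, hz⟩ := (stdCover n R).exists_eq y
  refine ⟨j.down, ?_⟩
  have h1 : y ∈ ((stdCover n R).f j).opensRange := ⟨z, hz⟩
  have h2 : ((stdCover n R).f j).opensRange =
      Proj.basicOpen (CohB1.polyGrading n R) (X j.down) :=
    Proj.opensRange_awayι _ _ _ _
  rwa [h2] at h1

theorem exists_mem_W (x : T) : ∃ ij, x ∈ W p₁ p₂ ij := by
  obtain ⟨i, hi⟩ := exists_mem_basicOpen (p₁ x)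
  obtain ⟨j, hj⟩ := exists_mem_basicOpen (p₂ x)
  exact ⟨(i, j), hi, hj⟩

theorem exists_phi (ij : Fin (n + 1) × Fin (m + 1)) :
    ∃ φ : Γ(Proj (CohB1.polyGrading N R), Proj.basicOpen (CohB1.polyGrading N R) (X (e ij))) →+*
        Γ(T, W p₁ p₂ ij),
      ∀ a, φ (dehom (hX N R (e ij)) a) = psi e p₁ p₂ ij le_rfl a :=
  exists_dehomLift (hX N R (e ij)) (psi e p₁ p₂ ij le_rfl) (by rw [psi_X, cfun_self])

/-- the chart ring map `z_kl/z_ij ↦ (x_k/x_i)(y_l/y_j)`. -/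
noncomputable def phi (ij : Fin (n + 1) × Fin (m + 1)) :
    Γ(Proj (CohB1.polyGrading N R), Proj.basicOpen (CohB1.polyGrading N R) (X (e ij))) →+*
      Γ(T, W p₁ p₂ ij) :=
  (exists_phi e p₁ p₂ ij).choose

theorem phi_dehom (ij : Fin (n + 1) × Fin (m + 1)) (a : MvPolynomial (Fin (N + 1)) R) :
    phi e p₁ p₂ ij (dehom (hX N R (e ij)) a) = psi e p₁ p₂ ij le_rfl a :=
  (exists_phi e p₁ p₂ ij).choose_spec a

/-- `phi` as a morphism of `CommRingCat`. -/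
noncomputable def phiHom (ij : Fin (n + 1) × Fin (m + 1)) :
    Γ(Proj (CohB1.polyGrading N R), Proj.basicOpen (CohB1.polyGrading N R) (X (e ij))) ⟶
      Γ(T, W p₁ p₂ ij) :=
  CommRingCat.ofHom (R := Γ(Proj (CohB1.polyGrading N R),
    Proj.basicOpen (CohB1.polyGrading N R) (X (e ij)))) (S := Γ(T, W p₁ p₂ ij)) (phi e p₁ p₂ ij)

theorem phiHom_dehom (ij : Fin (n + 1) × Fin (m + 1)) (a : MvPolynomial (Fin (N + 1)) R) :
    (phiHom e p₁ p₂ ij).hom (dehom (hX N R (e ij)) a) = psi e p₁ p₂ ij le_rfl a :=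
  phi_dehom e p₁ p₂ ij a

theorem glue_cond (ij kl : Fin (n + 1) × Fin (m + 1)) :
    T.homOfLE (inf_le_left : W p₁ p₂ ij ⊓ W p₁ p₂ kl ≤ W p₁ p₂ ij) ≫
        toAff (isAffineOpen_basicOpen (hX N R (e ij))) (phiHom e p₁ p₂ ij) =
      T.homOfLE (inf_le_right : W p₁ p₂ ij ⊓ W p₁ p₂ kl ≤ W p₁ p₂ kl) ≫
        toAff (isAffineOpen_basicOpen (hX N R (e kl))) (phiHom e p₁ p₂ kl) := by
  rw [toAff_homOfLE, toAff_homOfLE]
  refine toAff_eq_toAff (hX N R (e ij)) (hX N R (e kl)) _ _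
    (cfun e p₁ p₂ ij inf_le_left (e kl)) (cfun e p₁ p₂ kl inf_le_right (e ij))
    (cfun_mul_inv e p₁ p₂ ij kl inf_le_left inf_le_right) ?_ ?_
  · change (T.presheaf.map _).hom ((phiHom e p₁ p₂ ij).hom (dehom _ _)) = _
    rw [phiHom_dehom, psi_res, psi_X]
  · intro d a ha
    change (T.presheaf.map _).hom ((phiHom e p₁ p₂ kl).hom (dehom _ a)) =
      _ * (T.presheaf.map _).hom ((phiHom e p₁ p₂ ij).hom (dehom _ a))
    rw [phiHom_dehom, phiHom_dehom, psi_res, psi_res]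
    exact psi_scale e p₁ p₂ ij kl _ _ ha

theorem exists_sigma :
    ∃ σ : T ⟶ Proj (CohB1.polyGrading N R), ∀ ij, (W p₁ p₂ ij).ι ≫ σ =
      toAff (isAffineOpen_basicOpen (hX N R (e ij))) (phiHom e p₁ p₂ ij) :=
  glue_opens (W p₁ p₂) (exists_mem_W p₁ p₂) _ (glue_cond e p₁ p₂)

theorem hom_ext_opens {Y Z : Scheme.{u}} {κ : Type*} (V : κ → Y.Opens)
    (hV : ∀ x : Y, ∃ i, x ∈ V i)
    (a b : Y ⟶ Z) (h : ∀ i, (V i).ι ≫ a = (V i).ι ≫ b) : a = b := by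
  have hcov : IsOpenCover V := by
    rw [IsOpenCover, eq_top_iff]
    intro x _
    obtain ⟨i, hi⟩ := hV x
    exact Opens.mem_iSup.2 ⟨i, hi⟩
  exact (Y.openCoverOfIsOpenCover V hcov).hom_ext _ _ h

section Sigma
variable (σ : T ⟶ Proj (CohB1.polyGrading N R))
  (hσ : ∀ ij, (W p₁ p₂ ij).ι ≫ σ =
    toAff (isAffineOpen_basicOpen (hX N R (e ij))) (phiHom e p₁ p₂ ij))
include hσ

theorem le_preimage (ij : Fin (n + 1) × Fin (m + 1)) :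
    W p₁ p₂ ij ≤ σ ⁻¹ᵁ Proj.basicOpen (CohB1.polyGrading N R) (X (e ij)) :=
  le_preimage_of_ι_comp_eq _ σ _ (hσ ij)

theorem appLE_eq (ij : Fin (n + 1) × Fin (m + 1)) :
    σ.appLE (Proj.basicOpen (CohB1.polyGrading N R) (X (e ij))) (W p₁ p₂ ij)
      (le_preimage e p₁ p₂ σ hσ ij) = phiHom e p₁ p₂ ij :=
  appLE_of_ι_comp_eq _ σ _ (hσ ij)

theorem sigma_toBase :
    σ ≫ toBase (CohB1.polyGrading N R) = p₁ ≫ toBase (CohB1.polyGrading n R) := by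
  refine hom_ext_opens (W p₁ p₂) (exists_mem_W p₁ p₂) _ _ (fun ij => ?_)
  rw [← Category.assoc, hσ, toAff_toBase, ← Category.assoc,
    ι_comp_eq_toAff (isAffineOpen_basicOpen (hX n R ij.1)) p₁ (W_le₁ p₁ p₂ ij), toAff_toBase]
  congr 2
  ext c
  change (phiHom e p₁ p₂ ij).hom (dehom (hX N R (e ij)) (C c)) =
    (p₁.appLE _ _ _).hom (dehom (hX n R ij.1) (C c))
  rw [phiHom_dehom, psi_C]
  rfl

theorem preimage_le (ij : Fin (n + 1) × Fin (m + 1)) :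
    σ ⁻¹ᵁ Proj.basicOpen (CohB1.polyGrading N R) (X (e ij)) ≤ W p₁ p₂ ij := by
  intro x hx
  obtain ⟨kl, hkl⟩ := exists_mem_W p₁ p₂ x
  have h1 := basicOpen_appLE σ (le_preimage e p₁ p₂ σ hσ kl)
    (dehom (hX N R (e kl)) (X (e ij)))
  rw [appLE_eq e p₁ p₂ σ hσ kl, phiHom_dehom, psi_X,
    basicOpen_dehom (hX N R (e ij)) (hX N R (e kl))] at h1
  have h2 : x ∈ T.basicOpen (cfun e p₁ p₂ kl le_rfl (e ij)) := by
    rw [h1]
    exact ⟨hkl, hx, le_preimage e p₁ p₂ σ hσ kl hkl⟩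
  unfold cfun at h2
  rw [Equiv.symm_apply_apply, Scheme.basicOpen_mul,
    basicOpen_pbF p₁ (hX n R kl.1) (hX n R ij.1), basicOpen_pbF p₂ (hX m R kl.2) (hX m R ij.2)] at h2
  exact ⟨h2.1.2, h2.2.2⟩

theorem preimage_eq (ij : Fin (n + 1) × Fin (m + 1)) :
    σ ⁻¹ᵁ Proj.basicOpen (CohB1.polyGrading N R) (X (e ij)) = W p₁ p₂ ij :=
  le_antisymm (preimage_le e p₁ p₂ σ hσ ij) (le_preimage e p₁ p₂ σ hσ ij)

end Sigma

end Segre

end Groth.Agent.Lib.Helper27SegreMap
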