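import Groth.Agent.Lib.Helper27PicPn
import Groth.Agent.Lib.Helper27PicPnComb
import Groth.Agent.Lib.Helper27SegreMap
import Groth.Agent.Lib.Helper23SecTw6

/-!
# An invertible module on `P^n_R` (`R` a domain) which is trivial on the standard charts is `O(d)`
(helper27)
-/

set_option autoImplicit false
set_option linter.unusedSectionVars false
universe u

open CategoryTheory CategoryTheory.Limits AlgebraicGeometry TopologicalSpace Opposite
  HomogeneousLocalization MvPolynomial
open Groth.Agent.Lib.Helper23.SecTw Groth.Agent.Lib.Helper6 Groth.Agent.Lib.Helper27GrTildeSect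

namespace Groth.Agent.Lib.Helper27PicPn

variable {n : ℕ} {R : Type u} [CommRing R] [IsDomain R]

local notation "𝒢" => CohB1.polyGrading n R

theorem monomial_single_mem (i : Fin (n + 1)) (P : ℕ) (w : R) :
    (monomial (Finsupp.single i P) w : MvPolynomial (Fin (n + 1)) R) ∈ 𝒢 P :=
  (mem_homogeneousSubmodule _ _).mpr (isHomogeneous_monomial w (by simp))

theorem monomial_single_not_mem (i : Fin (n + 1)) (P : ℕ) (w : Rˣ) (y : U (n := n) (R := R) i) :
    (monomial (Finsupp.single i P) (w : R) : MvPolynomial (Fin (n + 1)) R) ∉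
      y.1.asHomogeneousIdeal := by
  intro h
  have hX : (X i : MvPolynomial (Fin (n + 1)) R) ∉ y.1.asHomogeneousIdeal :=
    (ProjectiveSpectrum.mem_basicOpen 𝒢 (X i) y.1).mp y.2
  have h1 : (monomial (Finsupp.single i P) (w : R) : MvPolynomial (Fin (n + 1)) R) =
      C (w : R) * X i ^ P := C_mul_X_pow_eq_monomial.symm
  rw [h1] at h
  have h2 : C ((w⁻¹ : Rˣ) : R) * (C (w : R) * X i ^ P) ∈ y.1.asHomogeneousIdeal.toIdeal :=
    Ideal.mul_mem_left _ _ h
  rw [← mul_assoc, ← C_mul, Units.inv_mul, C_1, one_mul] at h2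
  exact hX (y.1.isPrime.mem_of_pow_mem P h2)

/-- an invertible module on `P^n_R` with a frame on every standard chart is a twisting sheaf. -/
theorem exists_iso_tilde_of_frames (M : (Proj 𝒢).Modules)
    (e : ∀ i : Fin (n + 1), Γ(M, U (n := n) (R := R) i))
    (he : ∀ i, IsGen M (U i) (e i)) :
    ∃ d : ℤ, Nonempty (M ≅ GrTilde.tilde 𝒢 𝒢 d) := by
  classical
  have hmon := fun i j => exists_isMon_of_isUnit i j (tr he i j) (isUnit_tr he i j)
  choose u t k hmon hdeg hsupp using hmon
  -- the cocycle relation in terms of exponents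
  have hcoc : ∀ i j l, ((u i j : R) * u j l = u i l) ∧
      (t i j + t j l + k i l • (Finsupp.single i 1 + Finsupp.single l 1) =
        t i l + (k i j • (Finsupp.single i 1 + Finsupp.single j 1) +
          k j l • (Finsupp.single j 1 + Finsupp.single l 1))) := by
    intro i j l
    have hη : (η (n := n) (R := R)) ∈ U (n := n) (R := R) i ⊓ U j ⊓ U l :=
      ⟨⟨η_mem_U i, η_mem_U j⟩, η_mem_U l⟩
    have h1 := ((hmon i j).res (inf_le_left : U i ⊓ U j ⊓ U l ≤ U i ⊓ U j)).mul
      ((hmon j l).res (le_inf (inf_le_left.trans inf_le_right) inf_le_right :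
        U i ⊓ U j ⊓ U l ≤ U j ⊓ U l))
    have h2 := (hmon i l).res (le_inf (inf_le_left.trans inf_le_left) inf_le_right :
        U i ⊓ U j ⊓ U l ≤ U i ⊓ U l)
    rw [tr_cocycle he i j l] at h1
    exact IsMon.unique hη (mul_ne_zero (u i j).ne_zero (u j l).ne_zero) h1 h2
  obtain ⟨P, Q, hPQ⟩ := Groth.Agent.Lib.Helper27PicPnComb.exists_exponents k t hsupp hdeg
    (fun i j l => (hcoc i j l).2)
  refine ⟨(P : ℤ) - Q, ?_⟩
  have hd : (P : ℤ) = (Q : ℤ) + ((P : ℤ) - Q) := by ring
  -- the frames of `O(P - Q)`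
  let b : ∀ i : Fin (n + 1), Γ(GrTilde.tilde 𝒢 𝒢 ((P : ℤ) - Q), U (n := n) (R := R) i) := fun i =>
    fracSec 𝒢 ((P : ℤ) - Q) (U i) (monomial_single_mem i P (u i 0 : R))
      (monomial_single_mem i Q (1 : R)) hd
      (fun y => monomial_single_not_mem i Q 1 y)
  have hb : ∀ i, IsGen (GrTilde.tilde 𝒢 𝒢 ((P : ℤ) - Q)) (U i) (b i) := fun i =>
    isGen_fracSec 𝒢 _ _ _ _ hd _ (fun y => monomial_single_not_mem i P (u i 0) y)
  have hcov : ∀ x : Proj 𝒢, ∃ i, x ∈ U (n := n) (R := R) i :=
    fun x => Groth.Agent.Lib.Helper27SegreMap.exists_mem_basicOpen x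
  obtain ⟨Φ, -⟩ := exists_iso_of_frames M (GrTilde.tilde 𝒢 𝒢 ((P : ℤ) - Q))
    (fun i => U (n := n) (R := R) i) hcov e b he hb (fun i j => by
      refine cocycle_of_transition (he j) (tr he i j) (tr_spec he i j).symm ?_
      have hres1 : res (GrTilde.tilde 𝒢 𝒢 ((P : ℤ) - Q)) inf_le_left (b i) =
          fracSec 𝒢 ((P : ℤ) - Q) (U i ⊓ U j) (monomial_single_mem i P (u i 0 : R))
            (monomial_single_mem i Q (1 : R)) hd
            (fun y => monomial_single_not_mem i Q 1 ⟨y.1, y.2.1⟩) := rfl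
      have hres2 : res (GrTilde.tilde 𝒢 𝒢 ((P : ℤ) - Q)) inf_le_right (b j) =
          fracSec 𝒢 ((P : ℤ) - Q) (U i ⊓ U j) (monomial_single_mem j P (u j 0 : R))
            (monomial_single_mem j Q (1 : R)) hd
            (fun y => monomial_single_not_mem j Q 1 ⟨y.1, y.2.2⟩) := rfl
      rw [hres1, hres2, fracSec_eq_smul_iff]
      intro y hy
      obtain ⟨h1, h2⟩ := hmon i j y hy
      rw [h2, Localization.mk_mul, mk_eq_mk_iff']
      change monomial (Finsupp.single i P) (u i 0 : R) *
          (monomial (k i j • (Finsupp.single i 1 + Finsupp.single j 1)) (1 : R) *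
            monomial (Finsupp.single j Q) (1 : R)) =
        monomial (t i j) (u i j : R) * monomial (Finsupp.single j P) (u j 0 : R) *
          monomial (Finsupp.single i Q) (1 : R)
      simp only [monomial_mul, mul_one]
      rw [Groth.Agent.Lib.Helper27PicPnAlg.monomial_mul_eq_iff (u i 0).ne_zero]
      exact ⟨hPQ i j, ((hcoc i j 0).1).symm⟩)
  exact ⟨Φ⟩

end Groth.Agent.Lib.Helper27PicPn
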