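import Mathlib

/-!
# Divisors of monomials in polynomial rings over a domain (helper27; pure Mathlib)

A factor of a monic monomial in `MvPolynomial σ R`, `R` a domain, is a unit of `R` times a
monomial.
-/

set_option autoImplicit false
set_option linter.unusedSectionVars false

open MvPolynomial

namespace Groth.Agent.Lib.Helper27PicPnAlg

variable {σ : Type*} {R : Type*} [CommRing R] [IsDomain R]

theorem monomial_one_eq_X_mul (s : σ →₀ ℕ) (i : σ) :
    (monomial (s + Finsupp.single i 1) (1 : R) : MvPolynomial σ R) = X i * monomial s 1 := by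
  rw [X, monomial_mul, mul_one, add_comm]

/-- a factor of a monic monomial is a unit times a monomial. -/
theorem exists_eq_monomial_of_mul_eq :
    ∀ (N : ℕ) (s : σ →₀ ℕ), s.degree = N → ∀ a a' : MvPolynomial σ R,
      a * a' = monomial s 1 → ∃ (u : Rˣ) (t : σ →₀ ℕ), t ≤ s ∧ a = monomial t (u : R) := by
  intro N
  induction N with
  | zero =>
    intro s hs a a' h
    have hs0 : s = 0 := (Finsupp.degree_eq_zero_iff s).mp hs
    subst hs0
    have h1 : a * a' = 1 := h
    have hu : IsUnit a := IsUnit.of_mul_eq_one _ h1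
    obtain ⟨r, hr, rfl⟩ := (MvPolynomial.isUnit_iff_eq_C_of_isReduced).mp hu
    exact ⟨hr.unit, 0, le_rfl, rfl⟩
  | succ N ih =>
    intro s hs a a' h
    have hne : s ≠ 0 := by
      rintro rfl
      simp at hs
    obtain ⟨i, hi⟩ : ∃ i, s i ≠ 0 := by
      by_contra hcon
      push Not at hcon
      exact hne (Finsupp.ext hcon)
    set s' : σ →₀ ℕ := s - Finsupp.single i 1 with hs'
    have hss : s = s' + Finsupp.single i 1 := by
      ext j
      by_cases hj : j = i
      · subst hj
        simp only [hs', Finsupp.coe_add, Finsupp.coe_tsub, Pi.add_apply, Pi.sub_apply,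
          Finsupp.single_eq_same]
        omega
      · simp [hs', Ne.symm hj]
    have hdeg : s'.degree = N := by
      have h1 : s.degree = s'.degree + (Finsupp.single i 1 : σ →₀ ℕ).degree := by
        conv_lhs => rw [hss]
        exact map_add _ _ _
      rw [Finsupp.degree_single] at h1
      omega
    have hX : (X i : MvPolynomial σ R) ∣ a * a' := by
      rw [h, hss, monomial_one_eq_X_mul]
      exact dvd_mul_right _ _
    have hX0 : (X i : MvPolynomial σ R) ≠ 0 := X_ne_zero i
    rcases (MvPolynomial.X_prime (R := R) (i := i)).dvd_or_dvd hX with ⟨a₁, ha₁⟩ | ⟨a₁', ha₁'⟩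
    · have h2 : a₁ * a' = monomial s' 1 := by
        apply mul_left_cancel₀ hX0
        rw [← mul_assoc, ← ha₁, h, hss, monomial_one_eq_X_mul]
      obtain ⟨u, t, hts, hat⟩ := ih s' hdeg a₁ a' h2
      refine ⟨u, t + Finsupp.single i 1, ?_, ?_⟩
      · rw [hss]
        exact add_le_add_left hts _
      · rw [ha₁, hat, X, monomial_mul, one_mul, add_comm]
    · have h2 : a * a₁' = monomial s' 1 := by
        apply mul_left_cancel₀ hX0
        rw [mul_left_comm, ← ha₁', h, hss, monomial_one_eq_X_mul]
      obtain ⟨u, t, hts, hat⟩ := ih s' hdeg a a₁' h2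
      refine ⟨u, t, hts.trans ?_, hat⟩
      rw [hss]
      exact le_self_add

theorem exists_eq_monomial_of_mul_eq' (s : σ →₀ ℕ) (a a' : MvPolynomial σ R)
    (h : a * a' = monomial s 1) : ∃ (u : Rˣ) (t : σ →₀ ℕ), t ≤ s ∧ a = monomial t (u : R) :=
  exists_eq_monomial_of_mul_eq _ s rfl a a' h

/-- homogeneous monomials have the expected degree. -/
theorem degree_eq_of_monomial_mem {t : σ →₀ ℕ} {u : R} (hu : u ≠ 0) {N : ℕ}
    (h : (monomial t u : MvPolynomial σ R) ∈ homogeneousSubmodule σ R N) : t.degree = N := by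
  classical
  rw [mem_homogeneousSubmodule] at h
  have h1 : coeff t (monomial t u : MvPolynomial σ R) ≠ 0 := by
    rw [coeff_monomial, if_pos rfl]
    exact hu
  have h2 := h h1
  have h3 : Finsupp.degree t = Finsupp.weight (fun _ => 1) t :=
    congrFun (congrArg DFunLike.coe (Finsupp.degree_eq_weight_one (R := ℕ) (σ := σ))) t
  rw [h3]
  exact h2

theorem monomial_mul_eq_iff {t t' : σ →₀ ℕ} {u u' : R} (hu : u ≠ 0) :
    (monomial t u : MvPolynomial σ R) = monomial t' u' ↔ t = t' ∧ u = u' := by
  rw [monomial_eq_monomial_iff]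
  constructor
  · rintro (h | ⟨h, -⟩)
    · exact h
    · exact absurd h hu
  · intro h
    exact Or.inl h

end Groth.Agent.Lib.Helper27PicPnAlg
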