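import Groth.Agent.Lib.Helper27PnMor2
import Groth.Agent.Lib.Helper27ProjSpaceSurj
import Groth.Agent.Lib.Helper27QProjCover
import Groth.Agent.Lib.Helper27QProjCover2

/-!
# Morphisms from `P^n_k` to a quasi-projective scheme of dimension `< n` are constant (helper27)
-/

set_option autoImplicit false
set_option linter.unusedSectionVars false
universe u

open CategoryTheory CategoryTheory.Limits AlgebraicGeometry TopologicalSpace Opposite
  HomogeneousLocalization MvPolynomial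
open Groth.Agent.Lib.Helper23.SecTw Groth.Agent.Lib.Helper6 Groth.Agent.Lib.Helper27GrTildeSect
open Groth.Agent.Lib.Helper23.AmpleIso Groth.Agent.Lib.Helper27PnSections
open Groth.Agent.Lib.Helper27ProjGamma

namespace Groth.Agent.Lib.Helper27PnMor

section Section

open Groth.Agent.Lib.Helper27ProjSpaceSurj

variable (n : ℕ) (R : Type u) [CommRing R]

/-- the structure morphism of `P^n_R` has a section (the point `[1 : … : 1]`). -/
theorem exists_section :
    ∃ p : Spec (CommRingCat.of R) ⟶ CohB1.ProjSpace n R,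
      p ≫ CohB1.ProjSpace.toSpec n R = 𝟙 _ := by
  have h : (Spec.map (CommRingCat.ofHom (retr n R)) ≫
      Proj.awayι (CohB1.polyGrading n R) (MvPolynomial.X 0)
        (Groth.Agent.Lib.Helper27ProjGamma.hX n R 0) Nat.one_pos) ≫
      Proj.toSpecZero (CohB1.polyGrading n R) = 𝟙 _ := by
    rw [Category.assoc, Proj.awayι_toSpecZero, ← Spec.map_comp, ← CommRingCat.ofHom_comp]
    have : (retr n R).comp (fromZeroRingHom _ _) = RingHom.id _ := RingHom.ext (retr_fromZero n R)
    rw [this]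
    simp
  haveI := isIso_specMap_algebraMap n R
  let σ0 : Spec (CommRingCat.of (CohB1.polyGrading n R 0)) ⟶ Proj (CohB1.polyGrading n R) :=
    Spec.map (CommRingCat.ofHom (retr n R)) ≫
      Proj.awayι (CohB1.polyGrading n R) (MvPolynomial.X 0)
        (Groth.Agent.Lib.Helper27ProjGamma.hX n R 0) Nat.one_pos
  have h' : σ0 ≫ Proj.toSpecZero (CohB1.polyGrading n R) = 𝟙 _ := h
  have key : (inv (Spec.map (CommRingCat.ofHom (algebraMap R (CohB1.polyGrading n R 0)))) ≫ σ0) ≫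
      (Proj.toSpecZero (CohB1.polyGrading n R) ≫
        Spec.map (CommRingCat.ofHom (algebraMap R (CohB1.polyGrading n R 0)))) = 𝟙 _ := by
    rw [Category.assoc, ← Category.assoc σ0, h', Category.id_comp, IsIso.inv_hom_id]
  exact ⟨inv (Spec.map (CommRingCat.ofHom (algebraMap R (CohB1.polyGrading n R 0)))) ≫ σ0, key⟩

end Section

section Const

variable {k : Type u} [Field k] {n m : ℕ}

local notation "𝒢n" => CohB1.polyGrading n k
local notation "𝒢m" => CohB1.polyGrading m k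

/-- a morphism whose pulled-back coordinates are constants is constant. -/
theorem Data.exists_factor_of_d_eq_zero {g : Proj 𝒢n ⟶ Proj 𝒢m} (D : Data k n m g)
    (hd : D.d = 0) :
    ∃ q : Spec (CommRingCat.of k) ⟶ Proj 𝒢m, g = CohB1.ProjSpace.toSpec n k ≫ q := by
  let x0 : Proj 𝒢n := Groth.Agent.Lib.Helper27PicPn.η (n := n) (R := k)
  obtain ⟨j, hj⟩ := cov g x0
  have hx0 : x0 ∈ Proj.basicOpen 𝒢n (D.F j) := by rw [← D.preimage_eq j]; exact hj
  have hFne : D.F j ≠ 0 := by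
    intro h
    rw [h] at hx0
    exact (ProjectiveSpectrum.mem_basicOpen 𝒢n _ x0).mp hx0 (Submodule.zero_mem _)
  have hF0 : D.F j ∈ 𝒢n 0 := by
    have := D.hF j
    rwa [hd] at this
  have hunit : IsUnit (D.F j) := isUnit_of_mem_zero k n hF0 hFne
  have htop : g ⁻¹ᵁ Proj.basicOpen 𝒢m (X j : MvPolynomial (Fin (m + 1)) k) = ⊤ := by
    rw [D.preimage_eq j, eq_top_iff]
    intro y _
    refine (ProjectiveSpectrum.mem_basicOpen 𝒢n _ y).mpr (fun h => ?_)
    exact y.isPrime.ne_top (Ideal.eq_top_of_isUnit_mem _ h hunit)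
  have hrange : Set.range g ⊆
      Set.range (Proj.basicOpen 𝒢m (X j : MvPolynomial (Fin (m + 1)) k)).ι := by
    rw [Scheme.Opens.range_ι]
    rintro _ ⟨x, rfl⟩
    have : x ∈ g ⁻¹ᵁ Proj.basicOpen 𝒢m (X j : MvPolynomial (Fin (m + 1)) k) := by
      rw [htop]; trivial
    exact this
  have : IsAffine (↑(Proj.basicOpen 𝒢m (X j : MvPolynomial (Fin (m + 1)) k)) : Scheme.{u}) :=
    Proj.isAffineOpen_basicOpen 𝒢m (X j) (hX m k j) one_pos
  let π : Proj 𝒢n ⟶ Spec (CommRingCat.of k) := CohB1.ProjSpace.toSpec n k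
  have : IsIso π.appTop := Groth.Agent.Lib.Helper27ProjGamma.isIso_toSpec_appTop n k
  let g' : Proj 𝒢n ⟶ (↑(Proj.basicOpen 𝒢m (X j : MvPolynomial (Fin (m + 1)) k)) : Scheme.{u}) :=
    IsOpenImmersion.lift (Proj.basicOpen 𝒢m (X j : MvPolynomial (Fin (m + 1)) k)).ι g hrange
  have hg' : g' ≫ (Proj.basicOpen 𝒢m (X j : MvPolynomial (Fin (m + 1)) k)).ι = g :=
    IsOpenImmersion.lift_fac _ _ _
  obtain ⟨q, hq⟩ := factor_of_isAffine π g'
  refine ⟨q ≫ (Proj.basicOpen 𝒢m (X j : MvPolynomial (Fin (m + 1)) k)).ι, ?_⟩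
  have h1 : g = (π ≫ q) ≫ (Proj.basicOpen 𝒢m (X j : MvPolynomial (Fin (m + 1)) k)).ι := by
    rw [← hq, hg']
  exact h1.trans (Category.assoc _ _ _)

/-- morphisms from `P^n_k` to a quasi-projective `k`-scheme of dimension `< n` are constant. -/
theorem exists_const_of_dim_lt (X : Scheme.{u}) [X.Over (Spec (CommRingCat.of k))]
    (ι : X ⟶ CohB1.ProjSpace m k) [IsImmersion ι]
    (hι : ι ≫ CohB1.ProjSpace.toSpec m k = X ↘ Spec (CommRingCat.of k))
    (hdim : topologicalKrullDim X < (n : WithBot ℕ∞))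
    (φ : CohB1.ProjSpace n k ⟶ X)
    (hφ : φ ≫ (X ↘ Spec (CommRingCat.of k)) = CohB1.ProjSpace.toSpec n k) :
    ∃ x : Spec (CommRingCat.of k) ⟶ X, x ≫ (X ↘ Spec (CommRingCat.of k)) = 𝟙 _ ∧
      φ = CohB1.ProjSpace.toSpec n k ≫ x := by
  classical
  let x0 : Proj 𝒢n := Groth.Agent.Lib.Helper27PicPn.η (n := n) (R := k)
  have hn : 1 ≤ n := by
    by_contra h
    have h0 : n = 0 := by omega
    subst h0
    have hE : IsEmpty X :=
      Groth.Agent.Lib.Helper27DimDrop.eq_empty_of_dim_lt_zero (by exact_mod_cast hdim)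
    exact hE.false (φ x0)
  let g : Proj 𝒢n ⟶ Proj 𝒢m := φ ≫ ι
  have hg : g ≫ toBase 𝒢m = toBase 𝒢n := by
    change (φ ≫ ι) ≫ CohB1.ProjSpace.toSpec m k = CohB1.ProjSpace.toSpec n k
    rw [Category.assoc, hι, hφ]
  obtain ⟨D⟩ := nonempty_data hn g
  -- the constant case
  have hconst : D.d = 0 → ∃ x : Spec (CommRingCat.of k) ⟶ X,
      x ≫ (X ↘ Spec (CommRingCat.of k)) = 𝟙 _ ∧ φ = CohB1.ProjSpace.toSpec n k ≫ x := by
    intro hd
    obtain ⟨q, hq⟩ := D.exists_factor_of_d_eq_zero hd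
    obtain ⟨p, hp⟩ := exists_section n k
    refine ⟨p ≫ φ, by rw [Category.assoc, hφ, hp], ?_⟩
    rw [← cancel_mono ι]
    let q' : Spec (CommRingCat.of k) ⟶ CohB1.ProjSpace m k := q
    have h1 : φ ≫ ι = CohB1.ProjSpace.toSpec n k ≫ q' := hq
    have h2 : p ≫ CohB1.ProjSpace.toSpec n k ≫ q' = q' := by
      rw [← Category.assoc, hp, Category.id_comp]
    rw [Category.assoc, Category.assoc, h1, h2]
  rcases Nat.eq_zero_or_pos D.d with hd | hd
  · exact hconst hd
  · exfalso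
    have : IsNoetherian (CohB1.ProjSpace m k) :=
      Groth.Agent.Lib.Helper27QProjCover.isNoetherian_projSpace m k
    have : NoetherianSpace X := ι.isEmbedding.isInducing.noetherianSpace
    obtain ⟨f, d, hf, hcov⟩ := Groth.Agent.Lib.Helper27QProjCover.exists_cover 𝒢m ∅ isClosed_empty n X
      (fun x => ι x) ι.continuous (fun y hy => hy.elim) hdim
    have hG : ∀ i, aeval D.F (f i) ∈ 𝒢n (D.d * d i) := fun i =>
      IsHomogeneous.aeval (hf i).2.1 D.F D.hF
    obtain ⟨y, hy⟩ := Groth.Agent.Lib.Helper27PnKrull.exists_common_zero n (r := n) le_rfl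
      (fun i => aeval D.F (f i)) (fun i => D.d * d i) (fun i => Nat.mul_pos hd (hf i).1) hG
    obtain ⟨i, hi⟩ := hcov (φ y)
    exact hi ((D.mem_iff hg (hf i).2.1 y).mpr (hy i))

end Const

end Groth.Agent.Lib.Helper27PnMor
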