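import Groth.Agent.Lib.Helper27ProjSpaceSurj

/-!
# Projective 0-space over `A` is `Spec A` (helper27)
-/

set_option autoImplicit false
universe u

open CategoryTheory CategoryTheory.Limits AlgebraicGeometry HomogeneousLocalization

namespace Groth.Agent.Lib.Helper27ProjSpaceSurj

variable (R : Type u) [CommRing R]

theorem fromZero_injective (n : ℕ) :
    Function.Injective (fromZeroRingHom (CohB1.polyGrading n R)
      (Submonoid.powers (MvPolynomial.X 0 : MvPolynomial (Fin (n + 1)) R))) := by
  intro a b hab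
  rw [← retr_fromZero n R a, ← retr_fromZero n R b, hab]

theorem fromZero_surjective :
    Function.Surjective (fromZeroRingHom (CohB1.polyGrading 0 R)
      (Submonoid.powers (MvPolynomial.X 0 : MvPolynomial (Fin (0 + 1)) R))) := by
  intro q
  obtain ⟨d, a, ha, rfl⟩ := Away.mk_surjective (CohB1.polyGrading 0 R)
    (Groth.Agent.Lib.Helper27ProjGamma.hX 0 R 0) q
  have ha1 : a.IsHomogeneous d := by
    have : a.IsHomogeneous (d • 1) := ha
    simpa using this
  obtain ⟨c, hc⟩ := Groth.Agent.Lib.Helper27ProjGamma.mk_eq_fromZero (n := 0) (R := R) 0 d a ha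
    (by
      intro m hm
      have h1 : Finsupp.weight (1 : Fin (0 + 1) → ℕ) m = d := ha1 hm
      have h0 : Finsupp.weight (1 : Fin (0 + 1) → ℕ) m = Finsupp.degree m := by
        rw [Finsupp.degree_eq_weight_one]; rfl
      rw [h0, Finsupp.degree_eq_sum] at h1
      have h2 : ∑ i : Fin (0 + 1), m i = m 0 := by
        simp
      omega)
  exact ⟨c, hc.symm⟩

theorem basicOpen_X_eq_top :
    Proj.basicOpen (CohB1.polyGrading 0 R) (MvPolynomial.X 0) = ⊤ := by
  rw [eq_top_iff]
  intro p _
  rw [Proj.mem_basicOpen]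
  intro hX
  apply p.not_irrelevant_le
  refine (Groth.Agent.Lib.Helper27ProjGamma.irrelevant_le 0 R).trans ?_
  rw [Ideal.span_le]
  rintro _ ⟨k, rfl⟩
  have hk : k = 0 := Fin.ext (by omega)
  subst hk
  exact hX

theorem isIso_awayι :
    IsIso (Proj.awayι (CohB1.polyGrading 0 R) (MvPolynomial.X 0)
      (Groth.Agent.Lib.Helper27ProjGamma.hX 0 R 0) Nat.one_pos) := by
  apply isIso_of_isOpenImmersion_of_opensRange_eq_top
  rw [Proj.opensRange_awayι, basicOpen_X_eq_top]

theorem isIso_toSpecZero : IsIso (Proj.toSpecZero (CohB1.polyGrading 0 R)) := by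
  have h1 := isIso_awayι R
  have h2 : IsIso (Spec.map (CommRingCat.ofHom (fromZeroRingHom (CohB1.polyGrading 0 R)
      (Submonoid.powers (MvPolynomial.X 0 : MvPolynomial (Fin (0 + 1)) R))))) := by
    have : IsIso (CommRingCat.ofHom (fromZeroRingHom (CohB1.polyGrading 0 R)
        (Submonoid.powers (MvPolynomial.X 0 : MvPolynomial (Fin (0 + 1)) R)))) :=
      (ConcreteCategory.isIso_iff_bijective _).mpr ⟨fromZero_injective R 0, fromZero_surjective R⟩
    infer_instance
  have h3 := Proj.awayι_toSpecZero (CohB1.polyGrading 0 R) (MvPolynomial.X 0)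
    (Groth.Agent.Lib.Helper27ProjGamma.hX 0 R 0) Nat.one_pos
  rw [← h3] at h2
  exact IsIso.of_isIso_comp_left (Proj.awayι (CohB1.polyGrading 0 R) (MvPolynomial.X 0)
      (Groth.Agent.Lib.Helper27ProjGamma.hX 0 R 0) Nat.one_pos) _

theorem isIso_toSpec : IsIso (CohB1.ProjSpace.toSpec 0 R) := by
  have h1 := isIso_toSpecZero R
  have h2 := isIso_specMap_algebraMap 0 R
  change IsIso (X := Proj (CohB1.polyGrading 0 R))
    (Proj.toSpecZero (CohB1.polyGrading 0 R) ≫
      Spec.map (CommRingCat.ofHom (algebraMap R (CohB1.polyGrading 0 R 0))))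
  infer_instance

end Groth.Agent.Lib.Helper27ProjSpaceSurj
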