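import Groth.Agent.Lib.Helper27PnAutAlg
import Groth.Agent.Lib.Helper27PnMor3
import Groth.Agent.Lib.Helper27PicPn4
import Groth.Agent.Lib.Helper27RelProj4
import Groth.Agent.Lib.Helper27ProjSpaceZero

/-!
# Automorphisms of `P^n_k` are linear (helper27)
-/

set_option autoImplicit false
set_option linter.unusedSectionVars false
universe u

open CategoryTheory CategoryTheory.Limits AlgebraicGeometry TopologicalSpace Opposite
  HomogeneousLocalization MvPolynomial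
open Groth.Agent.Lib.Helper23.SecTw Groth.Agent.Lib.Helper6 Groth.Agent.Lib.Helper27GrTildeSect
open Groth.Agent.Lib.Helper23.AmpleIso Groth.Agent.Lib.Helper27PnSections
open Groth.Agent.Lib.Helper27ProjGamma Groth.Agent.Lib.Helper27PnMor

namespace Groth.Agent.Lib.Helper27PnAut

variable {k : Type u} [Field k] {n : ℕ}

local notation "𝒢" => CohB1.polyGrading n k

section Degree

/-- `O(a)^{⊗ b} ≅ O(a b)`. -/
theorem nonempty_tensorPow_tilde_iso (a : ℤ) (b : ℕ) :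
    Nonempty (CohB1.tensorPow (GrTilde.tilde 𝒢 𝒢 a) b ≅ GrTilde.tilde 𝒢 𝒢 (a * b)) := by
  induction b with
  | zero =>
    obtain ⟨e⟩ := nonempty_pow_iso 𝒢 (cover_X n k) 0
    have e' : GrTilde.tilde 𝒢 𝒢 (a * ((0 : ℕ) : ℤ)) ≅ CohB1.tensorPow (GrTilde.tilde 𝒢 𝒢 1) 0 := by
      have h0 : a * ((0 : ℕ) : ℤ) = ((0 : ℕ) : ℤ) := by simp
      rw [h0]
      exact e
    exact ⟨e'.symm⟩
  | succ b ih =>
    obtain ⟨e⟩ := ih
    obtain ⟨e2⟩ := nonempty_tensor_iso 𝒢 (cover_X n k) (a * (b : ℤ)) a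
    have h0 : a * ((b + 1 : ℕ) : ℤ) = a * (b : ℤ) + a := by push_cast; ring
    rw [h0]
    exact ⟨tensorModIso e (Iso.refl _) ≪≫ e2⟩

/-- the pull-back of `O(1)` along an isomorphism of `P^n_k`, `n ≥ 1`, is `O(1)`. -/
theorem d_eq_one (hn : 1 ≤ n) {g h : Proj 𝒢 ⟶ Proj 𝒢} (hhg : h ≫ g = 𝟙 _)
    (D : Data k n n g) (D' : Data k n n h) : D.d = 1 := by
  have hinv1 : PicF.IsInvertible (GrTilde.tilde 𝒢 𝒢 (1 : ℤ)) :=
    isInvertible_tilde 𝒢 (cover_X n k) 1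
  let e1 : (Scheme.Modules.pullback h).obj ((Scheme.Modules.pullback g).obj
      (GrTilde.tilde 𝒢 𝒢 ((1 : ℕ) : ℤ))) ≅ GrTilde.tilde 𝒢 𝒢 ((1 : ℕ) : ℤ) :=
    (Scheme.Modules.pullbackComp h g).app _ ≪≫ (Scheme.Modules.pullbackCongr hhg).app _ ≪≫
      (Scheme.Modules.pullbackId _).app _
  let e2 : (Scheme.Modules.pullback h).obj ((Scheme.Modules.pullback g).obj
      (GrTilde.tilde 𝒢 𝒢 ((1 : ℕ) : ℤ))) ≅
      (Scheme.Modules.pullback h).obj (GrTilde.tilde 𝒢 𝒢 (D.d : ℤ)) :=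
    (Scheme.Modules.pullback h).mapIso D.Φ
  obtain ⟨e3⟩ := nonempty_pow_iso 𝒢 (cover_X n k) D.d
  obtain ⟨e4⟩ := Groth.Agent.Lib.Helper23.PB.nonempty_pullback_tensorPow_iso h
    (GrTilde.tilde 𝒢 𝒢 (1 : ℤ)) hinv1 D.d
  have e5 : CohB1.tensorPow ((Scheme.Modules.pullback h).obj (GrTilde.tilde 𝒢 𝒢 (1 : ℤ))) D.d ≅
      CohB1.tensorPow (GrTilde.tilde 𝒢 𝒢 (D'.d : ℤ)) D.d := tensorPowIso D'.Φ D.d
  obtain ⟨e6⟩ := nonempty_tensorPow_tilde_iso (k := k) (n := n) (D'.d : ℤ) D.d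
  have e : GrTilde.tilde 𝒢 𝒢 (1 : ℤ) ≅ GrTilde.tilde 𝒢 𝒢 ((D'.d : ℤ) * (D.d : ℤ)) :=
    e1.symm ≪≫ e2 ≪≫ (Scheme.Modules.pullback h).mapIso e3 ≪≫ e4 ≪≫ e5 ≪≫ e6
  have h1 := Groth.Agent.Lib.Helper27PicPn.eq_of_iso_tilde (n := n) (R := k) hn _ _ e
  have h2 : D'.d * D.d = 1 := by exact_mod_cast h1.symm
  exact Nat.eq_one_of_mul_eq_one_left h2

end Degree

section Map

open scoped HomogeneousIdeal

theorem projMap_congr {f f' : 𝒢 →+*ᵍ 𝒢} (h : f = f')
    (hf : HomogeneousIdeal.irrelevant 𝒢 ≤ (HomogeneousIdeal.irrelevant 𝒢).map f)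
    (hf' : HomogeneousIdeal.irrelevant 𝒢 ≤ (HomogeneousIdeal.irrelevant 𝒢).map f') :
    Proj.map f hf = Proj.map f' hf' := by
  subst h
  rfl

theorem irr (A : Matrix.GeneralLinearGroup (Fin (n + 1)) k) :
    HomogeneousIdeal.irrelevant 𝒢 ≤
      (HomogeneousIdeal.irrelevant 𝒢).map (subst (A : Matrix (Fin (n + 1)) (Fin (n + 1)) k)) :=
  irrelevant_le (B := ((A⁻¹ : Matrix.GeneralLinearGroup (Fin (n + 1)) k) :
    Matrix (Fin (n + 1)) (Fin (n + 1)) k)) (Units.inv_mul A)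

/-- the linear automorphism of `P^n_k` attached to an invertible matrix. -/
noncomputable def P (A : Matrix.GeneralLinearGroup (Fin (n + 1)) k) : Proj 𝒢 ⟶ Proj 𝒢 :=
  Proj.map (subst (A : Matrix (Fin (n + 1)) (Fin (n + 1)) k)) (irr A)

theorem P_toBase (A : Matrix.GeneralLinearGroup (Fin (n + 1)) k) :
    P A ≫ toBase 𝒢 = toBase 𝒢 :=
  Groth.Agent.Lib.Helper27RelProj4.map_toSpecZero (subst (A : Matrix (Fin (n + 1)) (Fin (n + 1)) k))
    (irr A) (algebraMap k (𝒢 0)) (algebraMap k (𝒢 0)) (fun r => subst_C _ r)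

theorem P_mul (A B : Matrix.GeneralLinearGroup (Fin (n + 1)) k) : P (B * A) = P A ≫ P B := by
  unfold P
  rw [← Proj.map_comp]
  exact projMap_congr (by rw [subst_comp]; rfl) _ _

theorem P_one : P (1 : Matrix.GeneralLinearGroup (Fin (n + 1)) k) = 𝟙 (Proj 𝒢) := by
  unfold P
  rw [← Proj.map_id]
  exact projMap_congr (by rw [← subst_one]; rfl) _ _

theorem not_mem_of_mem_preimage (A : Matrix.GeneralLinearGroup (Fin (n + 1)) k) (i : Fin (n + 1))
    {y : ProjectiveSpectrum 𝒢}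
    (hy : y ∈ P A ⁻¹ᵁ Proj.basicOpen 𝒢 (X i : MvPolynomial (Fin (n + 1)) k)) :
    lin (A : Matrix (Fin (n + 1)) (Fin (n + 1)) k) i ∉ y.asHomogeneousIdeal := by
  have h1 : y ∈ Proj.basicOpen 𝒢 (subst (A : Matrix (Fin (n + 1)) (Fin (n + 1)) k) (X i)) := hy
  rw [subst_X] at h1
  exact (ProjectiveSpectrum.mem_basicOpen 𝒢 _ y).mp h1

open Groth.Agent.Lib.Helper27AwayGen in
/-- `(P A)^♯(X_j / X_i) = (A X)_j / (A X)_i`. -/
theorem funVal_P_appLE_cfun (A : Matrix.GeneralLinearGroup (Fin (n + 1)) k) (i j : Fin (n + 1))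
    (Ω : (Proj 𝒢).Opens)
    (hΩ : Ω ≤ P A ⁻¹ᵁ Proj.basicOpen 𝒢 (X i : MvPolynomial (Fin (n + 1)) k))
    (y : ProjectiveSpectrum 𝒢) (hy : y ∈ Ω) :
    (funVal 𝒢 Ω ((P A).appLE (Proj.basicOpen 𝒢 (X i : MvPolynomial (Fin (n + 1)) k)) Ω hΩ
      (cfun 𝒢 1 (fun j : Fin (n + 1) => (X j : MvPolynomial (Fin (n + 1)) k)) (hX n k) j i))
      y hy).val =
    (Localization.mk (lin (A : Matrix (Fin (n + 1)) (Fin (n + 1)) k) j)
      (⟨lin (A : Matrix (Fin (n + 1)) (Fin (n + 1)) k) i, not_mem_of_mem_preimage A i (hΩ hy)⟩ :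
        y.asHomogeneousIdeal.toIdeal.primeCompl) : Twist.Loc 𝒢 y) := by
  set W := Proj.basicOpen 𝒢 (X i : MvPolynomial (Fin (n + 1)) k) with hW
  set f := subst (A : Matrix (Fin (n + 1)) (Fin (n + 1)) k) with hf
  set Ω' := Proj.basicOpen 𝒢 (f (X i)) with hΩ'
  have hΩΩ' : Ω ≤ Ω' := hΩ
  have hy' : y ∈ Ω' := hΩΩ' hy
  rw [← awayToSection_mk'_one 𝒢 (fun j : Fin (n + 1) => (X j : MvPolynomial (Fin (n + 1)) k))
    (hX n k) j i]
  -- restrict from `Ω'`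
  have h1 := Scheme.Hom.appLE_map (P A) (show Ω' ≤ P A ⁻¹ᵁ W from le_rfl) (homOfLE hΩΩ').op
  have h2 := congr($h1 ((Proj.awayToSection 𝒢 (X i)).hom (mk' 𝒢 (hX n k i) 1 (X j) (hX n k j))))
  have h3 : (P A).appLE W Ω hΩ ((Proj.awayToSection 𝒢 (X i)).hom
      (mk' 𝒢 (hX n k i) 1 (X j) (hX n k j))) =
      (Proj 𝒢).presheaf.map (homOfLE hΩΩ').op ((P A).appLE W Ω' le_rfl
        ((Proj.awayToSection 𝒢 (X i)).hom (mk' 𝒢 (hX n k i) 1 (X j) (hX n k j)))) := h2.symm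
  rw [h3, funVal_map 𝒢 hΩΩ' _ y hy]
  -- Mathlib's description of `Proj.map` on charts
  have h4 := Proj.awayToSection_comp_appLE f (irr A) (hX n k i)
  have h5 := CategoryTheory.congr_fun h4 (mk' 𝒢 (hX n k i) 1 (X j) (hX n k j))
  rw [ConcreteCategory.comp_apply, ConcreteCategory.comp_apply] at h5
  have h6 : (P A).appLE W Ω' le_rfl ((Proj.awayToSection 𝒢 (X i)).hom
      (mk' 𝒢 (hX n k i) 1 (X j) (hX n k j))) =
      (Proj.awayToSection 𝒢 (f (X i))).hom (Away.map f (X i) (mk' 𝒢 (hX n k i) 1 (X j) (hX n k j))) :=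
    h5
  have hm : (X j : MvPolynomial (Fin (n + 1)) k) ∈ 𝒢 (1 • 1) := by simpa using hX n k j
  have h7 : Away.map f (X i) (mk' 𝒢 (hX n k i) 1 (X j) (hX n k j)) =
      Away.mk 𝒢 (f.map_mem (hX n k i)) 1 (f (X j)) (f.map_mem hm) :=
    Away.map_mk f (X i) (hX n k i) 1 (X j) hm
  rw [h6, h7]
  refine (funVal_awayToSection_val (f.map_mem (hX n k i)) 1 (f (X j)) (f.map_mem hm) y hy').trans ?_
  rw [Groth.Agent.Lib.Helper27PicPn.mk_eq_mk_iff']
  simp only [hf, subst_X, pow_one]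
  congr 1
  exact (subst_X _ i).symm

end Map

section Surj

theorem sum_mem_one (c : Fin (n + 1) → k) :
    (∑ j, C (c j) * X j : MvPolynomial (Fin (n + 1)) k) ∈ 𝒢 1 := by
  have h := lin_mem (n := n) (k := k) (Matrix.of (fun _ i => c i)) 0
  unfold lin at h
  simpa using h

/-- an automorphism of `P^n_k` over `k`, `n ≥ 1`, is linear. -/
theorem exists_P_eq (hn : 1 ≤ n) (g h : Proj 𝒢 ⟶ Proj 𝒢) (hg : g ≫ toBase 𝒢 = toBase 𝒢)
    (hhg : h ≫ g = 𝟙 _) :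
    ∃ A : Matrix.GeneralLinearGroup (Fin (n + 1)) k, P A = g := by
  classical
  obtain ⟨D⟩ := nonempty_data hn g
  obtain ⟨D'⟩ := nonempty_data hn h
  have hd : D.d = 1 := d_eq_one hn hhg D D'
  let A0 : Matrix (Fin (n + 1)) (Fin (n + 1)) k :=
    Matrix.of (fun j l => coeff (Finsupp.single l 1) (D.F j))
  have hℓ : ∀ j, D.F j = lin A0 j := by
    intro j
    have hFj : D.F j ∈ 𝒢 1 := by
      have := D.hF j
      rwa [hd] at this
    exact eq_lin_of_mem hFj A0 j (fun l => rfl)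
  have hunit : IsUnit A0 := by
    apply isUnit_of_forall
    intro c hc
    set H : MvPolynomial (Fin (n + 1)) k := ∑ j, C (c j) * X j with hH
    have hH1 : H ∈ 𝒢 1 := sum_mem_one c
    have haeval : aeval D.F H = 0 := by
      rw [hH, map_sum, ← hc]
      refine Finset.sum_congr rfl (fun j _ => ?_)
      rw [map_mul, aeval_C, aeval_X, hℓ j]
      rfl
    have hall : ∀ y : ProjectiveSpectrum 𝒢,
        H ∈ (show ProjectiveSpectrum 𝒢 from g y).asHomogeneousIdeal := by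
      intro y
      rw [D.mem_iff hg hH1 y, haeval]
      exact Submodule.zero_mem _
    have hη : H ∈ (Groth.Agent.Lib.Helper27PicPn.η (n := n) (R := k)).asHomogeneousIdeal := by
      have h1 := hall (h (Groth.Agent.Lib.Helper27PicPn.η (n := n) (R := k)))
      have h2 : g (h (Groth.Agent.Lib.Helper27PicPn.η (n := n) (R := k))) =
          Groth.Agent.Lib.Helper27PicPn.η (n := n) (R := k) := by
        have := congrArg (fun φ : Proj 𝒢 ⟶ Proj 𝒢 =>
          φ (Groth.Agent.Lib.Helper27PicPn.η (n := n) (R := k))) hhg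
        exact this
      rw [h2] at h1
      exact h1
    have hH0 : H = 0 := by
      by_contra hne
      exact Groth.Agent.Lib.Helper27PicPn.not_mem_η hne hη
    funext l
    have := coeff_sum_C_mul_X (n := n) (k := k) c l
    rw [← hH, hH0, coeff_zero] at this
    exact this.symm
  let A : Matrix.GeneralLinearGroup (Fin (n + 1)) k := hunit.unit
  have hA : (A : Matrix (Fin (n + 1)) (Fin (n + 1)) k) = A0 := hunit.unit_spec
  refine ⟨A, ?_⟩
  symm
  apply proj_hom_ext_of_cfun 𝒢 (fun j : Fin (n + 1) => (X j : MvPolynomial (Fin (n + 1)) k))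
    (hX n k) g (P A) MvPolynomial.adjoin_range_X (hg.trans (P_toBase A).symm)
  intro i
  have hΩ' : g ⁻¹ᵁ Proj.basicOpen 𝒢 (X i : MvPolynomial (Fin (n + 1)) k) ≤
      P A ⁻¹ᵁ Proj.basicOpen 𝒢 (X i : MvPolynomial (Fin (n + 1)) k) := by
    rw [D.preimage_eq i]
    intro y hy
    change y ∈ Proj.basicOpen 𝒢 (subst (A : Matrix (Fin (n + 1)) (Fin (n + 1)) k) (X i))
    rw [subst_X, hA, ← hℓ i]
    exact hy
  refine ⟨hΩ', fun j => ?_⟩
  apply fun_ext_val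
  intro y hy
  rw [D.funVal_appLE_cfun j i y hy, funVal_P_appLE_cfun A i j _ hΩ' y hy,
    Groth.Agent.Lib.Helper27PicPn.mk_eq_mk_iff']
  simp only [hA, hℓ]

end Surj

section Ker

theorem appLE_congr_hom {X Y : Scheme.{u}} {r r' : X ⟶ Y} (e : r = r') (W : Y.Opens) (Ω : X.Opens)
    (h : Ω ≤ r ⁻¹ᵁ W) (h' : Ω ≤ r' ⁻¹ᵁ W) (c : Γ(Y, W)) :
    r.appLE W Ω h c = r'.appLE W Ω h' c := by
  subst e
  rfl

theorem id_appLE {X : Scheme.{u}} (W Ω : X.Opens) (h : Ω ≤ (𝟙 X) ⁻¹ᵁ W) (c : Γ(X, W)) :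
    (𝟙 X : X ⟶ X).appLE W Ω h c = X.presheaf.map (homOfLE (show Ω ≤ W from h)).op c := by
  unfold Scheme.Hom.appLE
  rw [Scheme.Hom.id_app]
  rfl

theorem funVal_id_appLE_cfun (i j : Fin (n + 1)) (Ω : (Proj 𝒢).Opens)
    (hΩ : Ω ≤ (𝟙 (Proj 𝒢)) ⁻¹ᵁ Proj.basicOpen 𝒢 (X i : MvPolynomial (Fin (n + 1)) k))
    (y : ProjectiveSpectrum 𝒢) (hy : y ∈ Ω) :
    (funVal 𝒢 Ω ((𝟙 (Proj 𝒢) : Proj 𝒢 ⟶ Proj 𝒢).appLE
      (Proj.basicOpen 𝒢 (X i : MvPolynomial (Fin (n + 1)) k)) Ω hΩ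
      (cfun 𝒢 1 (fun j : Fin (n + 1) => (X j : MvPolynomial (Fin (n + 1)) k)) (hX n k) j i))
      y hy).val =
    (Localization.mk (X j) (⟨X i, (ProjectiveSpectrum.mem_basicOpen 𝒢 _ y).mp (hΩ hy)⟩ :
        y.asHomogeneousIdeal.toIdeal.primeCompl) : Twist.Loc 𝒢 y) := by
  rw [id_appLE, funVal_map 𝒢 (show Ω ≤ Proj.basicOpen 𝒢 (X i : MvPolynomial (Fin (n + 1)) k) from hΩ)
    _ y hy, cfun, funVal_fracFun]

theorem lin_mul_X_of_P_eq_id (A : Matrix.GeneralLinearGroup (Fin (n + 1)) k)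
    (hP : P A = 𝟙 (Proj 𝒢)) (i j : Fin (n + 1)) :
    lin (A : Matrix (Fin (n + 1)) (Fin (n + 1)) k) j * X i =
      lin (A : Matrix (Fin (n + 1)) (Fin (n + 1)) k) i * X j := by
  set W := Proj.basicOpen 𝒢 (X i : MvPolynomial (Fin (n + 1)) k) with hW
  set Ω := P A ⁻¹ᵁ W with hΩ
  have hη : Groth.Agent.Lib.Helper27PicPn.η (n := n) (R := k) ∈ Ω := by
    rw [hΩ, hP]
    exact Groth.Agent.Lib.Helper27PicPn.η_mem_basicOpen (X_ne_zero i)
  have h' : Ω ≤ (𝟙 (Proj 𝒢)) ⁻¹ᵁ W := by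
    rw [hΩ, hP]
  have h1 := funVal_P_appLE_cfun A i j Ω le_rfl _ hη
  have h2 := appLE_congr_hom hP W Ω le_rfl h'
    (cfun 𝒢 1 (fun j : Fin (n + 1) => (X j : MvPolynomial (Fin (n + 1)) k)) (hX n k) j i)
  have h3 := funVal_id_appLE_cfun i j Ω h' _ hη
  rw [h2, h3, Groth.Agent.Lib.Helper27PicPn.mk_eq_mk_iff'] at h1
  simp only at h1
  rw [← h1, mul_comm]

theorem P_scalar (c : kˣ) :
    P (Units.map (Matrix.scalar (Fin (n + 1)) : k →+* Matrix (Fin (n + 1)) (Fin (n + 1)) k).toMonoidHom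
      c) = 𝟙 (Proj 𝒢) := by
  set A := Units.map
    (Matrix.scalar (Fin (n + 1)) : k →+* Matrix (Fin (n + 1)) (Fin (n + 1)) k).toMonoidHom c with hA
  have hA1 : (A : Matrix (Fin (n + 1)) (Fin (n + 1)) k) = Matrix.scalar (Fin (n + 1)) (c : k) := rfl
  apply proj_hom_ext_of_cfun 𝒢 (fun j : Fin (n + 1) => (X j : MvPolynomial (Fin (n + 1)) k))
    (hX n k) (P A) (𝟙 _) MvPolynomial.adjoin_range_X (by rw [P_toBase, Category.id_comp])
  intro i
  have hΩ' : P A ⁻¹ᵁ Proj.basicOpen 𝒢 (X i : MvPolynomial (Fin (n + 1)) k) ≤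
      (𝟙 (Proj 𝒢)) ⁻¹ᵁ Proj.basicOpen 𝒢 (X i : MvPolynomial (Fin (n + 1)) k) := by
    intro y hy
    have h1 := not_mem_of_mem_preimage A i hy
    rw [hA1, lin_scalar] at h1
    exact (ProjectiveSpectrum.mem_basicOpen 𝒢 _ y).mpr (fun h => h1 (Ideal.mul_mem_left _ _ h))
  refine ⟨hΩ', fun j => ?_⟩
  apply fun_ext_val
  intro y hy
  rw [funVal_P_appLE_cfun A i j _ le_rfl y hy, funVal_id_appLE_cfun i j _ hΩ' y hy,
    Groth.Agent.Lib.Helper27PicPn.mk_eq_mk_iff']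
  simp only [hA1, lin_scalar]
  ring

theorem P_eq_id_iff (hn : 1 ≤ n) (A : Matrix.GeneralLinearGroup (Fin (n + 1)) k) :
    P A = 𝟙 (Proj 𝒢) ↔ A ∈ (Units.map
      (Matrix.scalar (Fin (n + 1)) : k →+* Matrix (Fin (n + 1)) (Fin (n + 1)) k).toMonoidHom).range := by
  constructor
  · intro hP
    have h := eq_scalar_of_forall hn (A : Matrix (Fin (n + 1)) (Fin (n + 1)) k)
      (lin_mul_X_of_P_eq_id A hP)
    have hc0 : (A : Matrix (Fin (n + 1)) (Fin (n + 1)) k) 0 0 ≠ 0 := by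
      intro h0
      rw [h0, map_zero] at h
      have h1 : (A : Matrix (Fin (n + 1)) (Fin (n + 1)) k) *
          ((A⁻¹ : Matrix.GeneralLinearGroup (Fin (n + 1)) k) :
            Matrix (Fin (n + 1)) (Fin (n + 1)) k) = 1 := Units.mul_inv A
      rw [h, zero_mul] at h1
      exact zero_ne_one h1
    refine ⟨Units.mk0 _ hc0, Units.ext ?_⟩
    exact h.symm
  · rintro ⟨c, rfl⟩
    exact P_scalar c

end Ker

section Final

/-- the `End`-valued monoid homomorphism `A ↦ P A`. -/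
noncomputable def φEnd (k : Type u) [Field k] (n : ℕ) :
    Matrix.GeneralLinearGroup (Fin (n + 1)) k →* End (Over.mk (CohB1.ProjSpace.toSpec n k)) where
  toFun A := Over.homMk (P A) (P_toBase A)
  map_one' := by
    apply Over.OverMorphism.ext
    exact P_one
  map_mul' B A := by
    apply Over.OverMorphism.ext
    exact P_mul A B

/-- the `Aut`-valued group homomorphism `A ↦ P A`. -/
noncomputable def φAut (k : Type u) [Field k] (n : ℕ) :
    Matrix.GeneralLinearGroup (Fin (n + 1)) k →* Aut (Over.mk (CohB1.ProjSpace.toSpec n k)) :=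
  (Aut.unitsEndEquivAut _).toMonoidHom.comp (φEnd k n).toHomUnits

theorem φAut_hom_left (A : Matrix.GeneralLinearGroup (Fin (n + 1)) k) :
    ((φAut k n A).hom).left = P A := rfl

theorem φAut_eq_iff (A : Matrix.GeneralLinearGroup (Fin (n + 1)) k)
    (a : Aut (Over.mk (CohB1.ProjSpace.toSpec n k))) :
    φAut k n A = a ↔ P A = a.hom.left := by
  constructor
  · rintro rfl
    rfl
  · intro h
    apply Iso.ext
    apply Over.OverMorphism.ext
    exact h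

/-- for `n = 0`, every endomorphism of `P^0_k` over `k` is the identity. -/
theorem eq_id_of_zero (g : Proj (CohB1.polyGrading 0 k) ⟶ Proj (CohB1.polyGrading 0 k))
    (hg : g ≫ toBase (CohB1.polyGrading 0 k) = toBase (CohB1.polyGrading 0 k)) : g = 𝟙 _ := by
  have : IsIso (toBase (CohB1.polyGrading 0 k)) :=
    Groth.Agent.Lib.Helper27ProjSpaceSurj.isIso_toSpec (R := k)
  rw [← cancel_mono (toBase (CohB1.polyGrading 0 k)), hg, Category.id_comp]

theorem φAut_surjective (k : Type u) [Field k] (n : ℕ) : Function.Surjective (φAut k n) := by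
  intro a
  have hg : a.hom.left ≫ toBase (CohB1.polyGrading n k) = toBase (CohB1.polyGrading n k) := Over.w a.hom
  have hhg : a.inv.left ≫ a.hom.left = 𝟙 _ := by
    rw [← Over.comp_left, a.inv_hom_id]
    rfl
  rcases Nat.eq_zero_or_pos n with rfl | hn
  · refine ⟨1, (φAut_eq_iff _ _).mpr ?_⟩
    rw [eq_id_of_zero a.hom.left hg, P_one]
  · obtain ⟨A, hA⟩ := exists_P_eq hn a.hom.left a.inv.left hg hhg
    exact ⟨A, (φAut_eq_iff _ _).mpr hA⟩

theorem φAut_ker (k : Type u) [Field k] (n : ℕ) :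
    (φAut k n).ker = (Units.map
      (Matrix.scalar (Fin (n + 1)) : k →+* Matrix (Fin (n + 1)) (Fin (n + 1)) k).toMonoidHom).range := by
  ext A
  rw [MonoidHom.mem_ker, φAut_eq_iff]
  have h1 : (1 : Aut (Over.mk (CohB1.ProjSpace.toSpec n k))).hom.left = 𝟙 (Proj (CohB1.polyGrading n k)) := rfl
  rw [h1]
  rcases Nat.eq_zero_or_pos n with rfl | hn
  · constructor
    · intro _
      have hA00 : (A : Matrix (Fin (0 + 1)) (Fin (0 + 1)) k) 0 0 ≠ 0 := by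
        intro h0
        have h2 : (A : Matrix (Fin (0 + 1)) (Fin (0 + 1)) k) *
            ((A⁻¹ : Matrix.GeneralLinearGroup (Fin (0 + 1)) k) :
              Matrix (Fin (0 + 1)) (Fin (0 + 1)) k) = 1 := Units.mul_inv A
        have h3 := congrFun (congrFun h2 0) 0
        rw [Matrix.mul_apply, Fin.sum_univ_one, h0, zero_mul, Matrix.one_apply_eq] at h3
        exact zero_ne_one h3
      refine ⟨Units.mk0 _ hA00, Units.ext ?_⟩
      ext i j
      have hi : i = 0 := Fin.ext (by have := i.isLt; omega)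
      have hj : j = 0 := Fin.ext (by have := j.isLt; omega)
      subst hi hj
      change (Matrix.scalar (Fin (0 + 1)) ((A : Matrix (Fin (0 + 1)) (Fin (0 + 1)) k) 0 0)) 0 0 = _
      simp
    · intro _
      exact eq_id_of_zero (P A) (P_toBase A)
  · exact P_eq_id_iff hn A

/-- `Aut_k(P^n_k) = PGL_{n+1}(k)`. -/
theorem exists_hom (k : Type u) [Field k] (n : ℕ) :
    ∃ φ : Matrix.GeneralLinearGroup (Fin (n + 1)) k →* Aut (Over.mk (CohB1.ProjSpace.toSpec n k)),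
      Function.Surjective φ ∧
        φ.ker = (Units.map
          (Matrix.scalar (Fin (n + 1)) : k →+* Matrix (Fin (n + 1)) (Fin (n + 1)) k).toMonoidHom).range :=
  ⟨φAut k n, φAut_surjective k n, φAut_ker k n⟩

end Final

end Groth.Agent.Lib.Helper27PnAut
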