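import Mathlib
import Groth.Prelude.Def_CohB1

/-!
# Linear substitutions of the coordinates of `P^n` (helper27; algebra only)
-/

set_option autoImplicit false
set_option linter.unusedSectionVars false
universe u

open MvPolynomial

namespace Groth.Agent.Lib.Helper27PnAut

variable {k : Type u} [Field k] {n : ℕ}

local notation "𝒢" => CohB1.polyGrading n k

/-- the linear forms given by the rows of a matrix. -/
noncomputable def lin (A : Matrix (Fin (n + 1)) (Fin (n + 1)) k) (j : Fin (n + 1)) :
    MvPolynomial (Fin (n + 1)) k :=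
  ∑ i, C (A j i) * X i

theorem lin_mem (A : Matrix (Fin (n + 1)) (Fin (n + 1)) k) (j : Fin (n + 1)) :
    lin A j ∈ 𝒢 1 := by
  unfold lin
  refine Submodule.sum_mem _ (fun i _ => ?_)
  have h := (isHomogeneous_C (Fin (n + 1)) (A j i)).mul (isHomogeneous_X k i)
  rw [zero_add] at h
  exact h

theorem coeff_lin (A : Matrix (Fin (n + 1)) (Fin (n + 1)) k) (j l : Fin (n + 1)) :
    coeff (Finsupp.single l 1) (lin A j) = A j l := by
  classical
  unfold lin
  rw [coeff_sum]
  simp_rw [coeff_C_mul, coeff_X']
  rw [Finset.sum_eq_single l]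
  · simp
  · intro i _ hil
    rw [if_neg, mul_zero]
    intro h
    apply hil
    have := Finsupp.single_left_injective (one_ne_zero (α := ℕ)) h
    exact this
  · intro h
    exact absurd (Finset.mem_univ l) h

/-- a form of degree one is the linear form of its coefficients. -/
theorem eq_lin_of_mem {p : MvPolynomial (Fin (n + 1)) k} (hp : p ∈ 𝒢 1)
    (A : Matrix (Fin (n + 1)) (Fin (n + 1)) k) (j : Fin (n + 1))
    (hA : ∀ l, A j l = coeff (Finsupp.single l 1) p) : p = lin A j := by
  classical
  ext m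
  by_cases hm : ∃ l, m = Finsupp.single l 1
  · obtain ⟨l, rfl⟩ := hm
    rw [coeff_lin, hA]
  · have h1 : coeff m p = 0 := by
      by_contra hne
      have hdeg : Finsupp.weight (1 : Fin (n + 1) → ℕ) m = 1 := hp hne
      have h3 : Finsupp.weight (1 : Fin (n + 1) → ℕ) m = Finsupp.degree m := by
        rw [Finsupp.degree_eq_weight_one]; rfl
      rw [h3] at hdeg
      apply hm
      have hmem : m ∈ Set.range (fun a : Fin (n + 1) => Finsupp.single a 1) := by
        rw [Finsupp.range_single_one]; exact hdeg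
      obtain ⟨l, hl⟩ := hmem
      exact ⟨l, hl.symm⟩
    have h2 : coeff m (lin A j) = 0 := by
      by_contra hne
      have hdeg : Finsupp.weight (1 : Fin (n + 1) → ℕ) m = 1 := lin_mem A j hne
      have h3 : Finsupp.weight (1 : Fin (n + 1) → ℕ) m = Finsupp.degree m := by
        rw [Finsupp.degree_eq_weight_one]; rfl
      rw [h3] at hdeg
      apply hm
      have hmem : m ∈ Set.range (fun a : Fin (n + 1) => Finsupp.single a 1) := by
        rw [Finsupp.range_single_one]; exact hdeg
      obtain ⟨l, hl⟩ := hmem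
      exact ⟨l, hl.symm⟩
    rw [h1, h2]


/-- the substitution `X_j ↦ lin A j`, as a graded ring homomorphism. -/
noncomputable def subst (A : Matrix (Fin (n + 1)) (Fin (n + 1)) k) : 𝒢 →+*ᵍ 𝒢 where
  toRingHom := (aeval (lin A) : MvPolynomial (Fin (n + 1)) k →ₐ[k] _).toRingHom
  map_mem {i x} hx := by
    have h := IsHomogeneous.aeval (R := k) hx (lin A) (lin_mem A)
    rw [one_mul] at h
    exact h

theorem subst_apply (A : Matrix (Fin (n + 1)) (Fin (n + 1)) k) (p : MvPolynomial (Fin (n + 1)) k) :
    subst A p = aeval (lin A) p := rfl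

theorem subst_X (A : Matrix (Fin (n + 1)) (Fin (n + 1)) k) (j : Fin (n + 1)) :
    subst A (X j) = lin A j := by
  rw [subst_apply, aeval_X]

theorem subst_C (A : Matrix (Fin (n + 1)) (Fin (n + 1)) k) (c : k) :
    subst A (C c) = C c := by
  rw [subst_apply, aeval_C]
  rfl

theorem subst_lin (A B : Matrix (Fin (n + 1)) (Fin (n + 1)) k) (j : Fin (n + 1)) :
    subst A (lin B j) = lin (B * A) j := by
  unfold lin
  rw [map_sum]
  simp_rw [map_mul, subst_C, subst_X]
  unfold lin
  simp_rw [Finset.mul_sum, Matrix.mul_apply, map_sum, Finset.sum_mul]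
  rw [Finset.sum_comm]
  refine Finset.sum_congr rfl (fun l _ => Finset.sum_congr rfl (fun i _ => ?_))
  rw [map_mul, mul_assoc]

theorem subst_comp (A B : Matrix (Fin (n + 1)) (Fin (n + 1)) k) :
    (subst A).comp (subst B) = subst (B * A) := by
  apply GradedRingHom.coe_ringHom_injective
  apply MvPolynomial.ringHom_ext
  · intro c
    change subst A (subst B (C c)) = subst (B * A) (C c)
    rw [subst_C, subst_C, subst_C]
  · intro j
    change subst A (subst B (X j)) = subst (B * A) (X j)
    rw [subst_X, subst_X, subst_lin]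

theorem lin_one (j : Fin (n + 1)) : lin (1 : Matrix (Fin (n + 1)) (Fin (n + 1)) k) j = X j := by
  classical
  unfold lin
  rw [Finset.sum_eq_single j]
  · rw [Matrix.one_apply_eq, map_one, one_mul]
  · intro i _ hij
    rw [Matrix.one_apply_ne (Ne.symm hij), map_zero, zero_mul]
  · intro h
    exact absurd (Finset.mem_univ j) h

theorem subst_one : subst (1 : Matrix (Fin (n + 1)) (Fin (n + 1)) k) = GradedRingHom.id 𝒢 := by
  apply GradedRingHom.coe_ringHom_injective
  apply MvPolynomial.ringHom_ext
  · intro c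
    change subst 1 (C c) = C c
    rw [subst_C]
  · intro j
    change subst 1 (X j) = X j
    rw [subst_X, lin_one]


theorem mem_irrelevant_of_mem (f : 𝒢 →+*ᵍ 𝒢) {x : MvPolynomial (Fin (n + 1)) k}
    (hx : x ∈ HomogeneousIdeal.irrelevant 𝒢) : f x ∈ HomogeneousIdeal.irrelevant 𝒢 := by
  rw [HomogeneousIdeal.mem_irrelevant_iff, GradedRing.proj_apply] at hx ⊢
  rw [← GradedRingHom.map_directSumDecompose, hx, map_zero]

theorem irrelevant_le {A B : Matrix (Fin (n + 1)) (Fin (n + 1)) k} (hBA : B * A = 1) :
    HomogeneousIdeal.irrelevant 𝒢 ≤ (HomogeneousIdeal.irrelevant 𝒢).map (subst A) := by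
  intro x hx
  have h1 : subst A (subst B x) = x := by
    have := subst_comp A B
    rw [hBA, subst_one] at this
    exact congrArg (fun f : 𝒢 →+*ᵍ 𝒢 => f x) this
  rw [← h1]
  exact Ideal.mem_map_of_mem _ (mem_irrelevant_of_mem (subst B) hx)

theorem sum_C_mul_lin (c : Fin (n + 1) → k) (A : Matrix (Fin (n + 1)) (Fin (n + 1)) k) :
    ∑ j, C (c j) * lin A j = ∑ i, C (Matrix.vecMul c A i) * X i := by
  unfold lin
  simp_rw [Finset.mul_sum, Matrix.vecMul, dotProduct, map_sum, Finset.sum_mul]
  rw [Finset.sum_comm]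
  refine Finset.sum_congr rfl (fun i _ => Finset.sum_congr rfl (fun j _ => ?_))
  rw [map_mul, mul_assoc]

theorem isUnit_of_forall (A : Matrix (Fin (n + 1)) (Fin (n + 1)) k)
    (h : ∀ c : Fin (n + 1) → k, ∑ j, C (c j) * lin A j = 0 → c = 0) : IsUnit A := by
  rw [← Matrix.vecMul_injective_iff_isUnit]
  have : Function.Injective A.vecMulLinear := by
    rw [injective_iff_map_eq_zero]
    intro c hc
    apply h c
    rw [sum_C_mul_lin]
    have hc' : Matrix.vecMul c A = 0 := hc
    rw [hc']
    simp
  exact this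

theorem coeff_sum_C_mul_X (c : Fin (n + 1) → k) (l : Fin (n + 1)) :
    coeff (Finsupp.single l 1) (∑ j, C (c j) * X j : MvPolynomial (Fin (n + 1)) k) = c l := by
  have h := coeff_lin (n := n) (k := k) (Matrix.of (fun _ i => c i)) 0 l
  unfold lin at h
  simpa using h


theorem lin_scalar (c : k) (j : Fin (n + 1)) :
    lin (Matrix.scalar (Fin (n + 1)) c) j = C c * X j := by
  classical
  unfold lin
  rw [Finset.sum_eq_single j]
  · rw [Matrix.scalar_apply, Matrix.diagonal_apply_eq]
  · intro i _ hij
    rw [Matrix.scalar_apply, Matrix.diagonal_apply_ne _ (Ne.symm hij), map_zero, zero_mul]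
  · intro h
    exact absurd (Finset.mem_univ j) h

theorem exists_ne (hn : 1 ≤ n) (j : Fin (n + 1)) : ∃ i : Fin (n + 1), i ≠ j := by
  by_cases h0 : j = 0
  · refine ⟨1, ?_⟩
    rw [h0]
    intro h
    have := congrArg Fin.val h
    rw [Fin.val_one', Fin.val_zero] at this
    have h2 : 1 % (n + 1) = 1 := Nat.mod_eq_of_lt (by omega)
    omega
  · exact ⟨0, fun h => h0 h.symm⟩

theorem entry_of_forall (A : Matrix (Fin (n + 1)) (Fin (n + 1)) k)
    (h : ∀ i j, lin A j * X i = lin A i * X j) {i j : Fin (n + 1)} (hij : i ≠ j)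
    (l : Fin (n + 1)) : A j l = if l = j then A i i else 0 := by
  classical
  have h1 := congrArg (coeff (Finsupp.single l 1 + Finsupp.single i 1)) (h i j)
  rw [coeff_mul_X, coeff_lin, coeff_mul_X'] at h1
  rw [h1]
  by_cases hlj : l = j
  · subst hlj
    rw [if_pos rfl, if_pos]
    · have : Finsupp.single l 1 + Finsupp.single i 1 - Finsupp.single l 1 =
          Finsupp.single i 1 := add_tsub_cancel_left _ _
      rw [this, coeff_lin]
    · rw [Finsupp.mem_support_iff, Finsupp.add_apply, Finsupp.single_apply, if_pos rfl]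
      omega
  · rw [if_neg hlj, if_neg]
    rw [Finsupp.mem_support_iff, Finsupp.add_apply, Finsupp.single_apply, Finsupp.single_apply,
      if_neg hlj, if_neg hij]
    simp

theorem eq_scalar_of_forall (hn : 1 ≤ n) (A : Matrix (Fin (n + 1)) (Fin (n + 1)) k)
    (h : ∀ i j, lin A j * X i = lin A i * X j) :
    A = Matrix.scalar (Fin (n + 1)) (A 0 0) := by
  classical
  have hdiag : ∀ j, A j j = A 0 0 := by
    intro j
    by_cases hj : j = 0
    · rw [hj]
    · have := entry_of_forall A h (i := 0) (j := j) (fun h' => hj h'.symm) j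
      rw [if_pos rfl] at this
      exact this
  ext j l
  rw [Matrix.scalar_apply, Matrix.diagonal_apply]
  obtain ⟨i, hij⟩ := exists_ne hn j
  rw [entry_of_forall A h hij l]
  by_cases hlj : l = j
  · subst hlj
    rw [if_pos rfl, if_pos rfl, hdiag]
  · rw [if_neg hlj, if_neg (fun h' => hlj h'.symm)]

end Groth.Agent.Lib.Helper27PnAut
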