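import Groth.Agent.Lib.Helper27PnHom
import Groth.Agent.Lib.Helper27PnTop
import Groth.Agent.Lib.Helper27PnCohVanish
import Groth.Agent.Lib.Helper27CechNat

/-!
# The duality pairing for twisting sheaves on `P^n_R` (helper27)

* `linearEquivOfCech` : explicit version of `nonempty_linearEquiv_of_cech`;
* `T n R d k hd : H^n(P^n_R, O(d)) ≃ₗ[R] S_k` for `d = -(n+1+k)`, with `T (cmpM ξ) = topH ξ`;
* `T_map` : for `φ : O(a) ⟶ O(b)`, the top polynomial of `H^n(φ) x` in terms of the symbol of `φ`.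
-/

set_option autoImplicit false
universe u

open CategoryTheory CategoryTheory.Limits AlgebraicGeometry TopologicalSpace Opposite
  HomogeneousLocalization MvPolynomial

namespace Groth.Agent.Lib.Helper27PnDual

section Abstract

open Groth.Agent.Lib.Helper27CechNat

variable {X : Scheme.{u}} {ι : Type u} (U : ι → X.Opens) (hcov : ⨆ i, U i = ⊤)

/-- an `A`-linear description of Čech cohomology for an affine-intersection cover gives an
`A`-linear description of sheaf cohomology (explicit version). -/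
noncomputable def linearEquivOfCech {A : Type u} [CommRing A]
    [X.Over (Spec (CommRingCat.of A))]
    (hU : ∀ s : Finset ι, s.Nonempty → IsAffineOpen (⨅ i ∈ s, U i))
    (M : X.Modules) [Coh.IsQCoh M] (p : ℕ) {S : Type*} [AddCommGroup S] [Module A S]
    (Ψ : ↑(CohB1.cechH U M p) →+ S) (hΨ : Function.Bijective Ψ)
    (hlin : ∀ (a : A) (x : ↑(CohB1.cechH U M p)),
      Ψ (cechMapM U (Coh.smulAb M (Coh.toGlobal (X ↘ Spec (CommRingCat.of A)) a)) p x) =
        a • Ψ x) :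
    Coh.HH X M p ≃ₗ[A] S :=
  { ((AddEquiv.ofBijective (cmpM U hcov M p) (cmpM_bijective U hcov hU M p)).symm.trans
      (AddEquiv.ofBijective Ψ hΨ)) with
    map_smul' := by
      intro a y
      obtain ⟨x, rfl⟩ :=
        (AddEquiv.ofBijective (cmpM U hcov M p) (cmpM_bijective U hcov hU M p)).surjective y
      set e1 := AddEquiv.ofBijective (cmpM U hcov M p) (cmpM_bijective U hcov hU M p)
      set e2 := AddEquiv.ofBijective Ψ hΨ
      have h1 : a • e1 x =
          e1 (cechMapM U (Coh.smulAb M (Coh.toGlobal (X ↘ Spec (CommRingCat.of A)) a)) p x) :=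
        (cmpM_smulOver U hcov M p a x).symm
      change e2 (e1.symm (a • e1 x)) = a • e2 (e1.symm (e1 x))
      rw [h1, AddEquiv.symm_apply_apply, AddEquiv.symm_apply_apply]
      exact hlin a x }

theorem linearEquivOfCech_cmpM {A : Type u} [CommRing A]
    [X.Over (Spec (CommRingCat.of A))]
    (hU : ∀ s : Finset ι, s.Nonempty → IsAffineOpen (⨅ i ∈ s, U i))
    (M : X.Modules) [Coh.IsQCoh M] (p : ℕ) {S : Type*} [AddCommGroup S] [Module A S]
    (Ψ : ↑(CohB1.cechH U M p) →+ S) (hΨ : Function.Bijective Ψ)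
    (hlin : ∀ (a : A) (x : ↑(CohB1.cechH U M p)),
      Ψ (cechMapM U (Coh.smulAb M (Coh.toGlobal (X ↘ Spec (CommRingCat.of A)) a)) p x) =
        a • Ψ x) (x : ↑(CohB1.cechH U M p)) :
    linearEquivOfCech U hcov hU M p Ψ hΨ hlin (cmpM U hcov M p x) = Ψ x := by
  set e1 := AddEquiv.ofBijective (cmpM U hcov M p) (cmpM_bijective U hcov hU M p)
  change Ψ (e1.symm (e1 x)) = Ψ x
  rw [AddEquiv.symm_apply_apply]

end Abstract

section Pn

open Groth.Agent.Lib.Helper27GrTildeSect Groth.Agent.Lib.Helper27ProjGamma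
  Groth.Agent.Lib.Helper27PnSections Groth.Agent.Lib.Helper27Laurent
  Groth.Agent.Lib.Helper27PnLau Groth.Agent.Lib.Helper27PnLauMul
  Groth.Agent.Lib.Helper27PnCech Groth.Agent.Lib.Helper27PnTop
  Groth.Agent.Lib.Helper27PnHom Groth.Agent.Lib.Helper27CechNat
  Groth.Agent.Lib.Helper27PnCohVanish

variable (n : ℕ) (R : Type u) [CommRing R]

local notation "𝒢" => CohB1.polyGrading n R
local notation "σ'" => Fin (n + 1)

/-- `O(d)` as a module on `CohB1.ProjSpace n R`. -/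
noncomputable abbrev OP (d : ℤ) : (CohB1.ProjSpace n R).Modules := Twist.twistProjSpace n R d

instance isQCoh_OP (d : ℤ) : Coh.IsQCoh (OP n R d) :=
  isQuasicoherent_tilde 𝒢 𝒢 d

theorem topH_smulOver (d : ℤ) (k : ℕ) (hd : d = -((n : ℤ) + 1 + k)) :
    ∀ (r : R) (x : ↑(CohB1.cechH (V n R) (GrTilde.tilde 𝒢 𝒢 d) n)),
      (topH (n := n) R d k hd).hom (cechMapM (X := CohB1.ProjSpace n R) (V n R)
        (Coh.smulAb (GrTilde.tilde 𝒢 𝒢 d)
          (Coh.toGlobal (CohB1.ProjSpace n R ↘ Spec (CommRingCat.of R)) r)) n x) =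
        r • (topH (n := n) R d k hd).hom x := by
  have key : ∀ (r : R) (x : ↑(CohB1.cechH (V n R) (GrTilde.tilde 𝒢 𝒢 d) n)),
      (topH (n := n) R d k hd).hom (cechMapM (V n R)
        (Coh.smulAb (GrTilde.tilde 𝒢 𝒢 d) (constFun 𝒢 r)) n x) =
        r • (topH (n := n) R d k hd).hom x :=
    fun r x => topH_smul (n := n) R d k hd r x
  exact key

theorem topH_bijective (d : ℤ) (k : ℕ) (hd : d = -((n : ℤ) + 1 + k)) :
    Function.Bijective (topH (n := n) R d k hd).hom :=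
  ⟨topH_injective (n := n) R d k hd, topH_surjective (n := n) R d k hd⟩

instance isQCoh_tilde (d : ℤ) :
    Coh.IsQCoh (X := CohB1.ProjSpace n R) (GrTilde.tilde 𝒢 𝒢 d) :=
  isQuasicoherent_tilde 𝒢 𝒢 d

noncomputable instance moduleHH (d : ℤ) (q : ℕ) :
    Module R (Coh.HH (CohB1.ProjSpace n R) (GrTilde.tilde 𝒢 𝒢 d) q) :=
  Coh.moduleOver R (CohB1.ProjSpace n R) (GrTilde.tilde 𝒢 𝒢 d) q

/-- the explicit identification `H^n(P^n_R, O(-(n+1+k))) ≃ S_k`. -/
noncomputable def T (d : ℤ) (k : ℕ) (hd : d = -((n : ℤ) + 1 + k)) :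
    Coh.HH (CohB1.ProjSpace n R) (GrTilde.tilde 𝒢 𝒢 d) n ≃ₗ[R]
      ↥(MvPolynomial.homogeneousSubmodule (Fin (n + 1)) R k) :=
  linearEquivOfCech (X := CohB1.ProjSpace n R) (V n R) (iSup_V n R) (isAffineOpen_iInf_V n R)
    (GrTilde.tilde 𝒢 𝒢 d) n (topH (n := n) R d k hd).hom
    (topH_bijective n R d k hd) (topH_smulOver n R d k hd)

theorem T_cmpM (d : ℤ) (k : ℕ) (hd : d = -((n : ℤ) + 1 + k))
    (ξ : ↑(CohB1.cechH (X := CohB1.ProjSpace n R) (V n R) (GrTilde.tilde 𝒢 𝒢 d) n)) :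
    T n R d k hd (cmpM (X := CohB1.ProjSpace n R) (V n R) (iSup_V n R)
      (GrTilde.tilde 𝒢 𝒢 d) n ξ) = (topH (n := n) R d k hd).hom ξ :=
  linearEquivOfCech_cmpM (X := CohB1.ProjSpace n R) (V n R) (iSup_V n R)
    (isAffineOpen_iInf_V n R) (GrTilde.tilde 𝒢 𝒢 d) n _ _ _ ξ

end Pn

end Groth.Agent.Lib.Helper27PnDual
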