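import Groth.Agent.Lib.Helper27PnDual

/-!
# The duality pairing for twisting sheaves on `P^n_R`, part 2 (helper27)

* `hat_map`, `topCoef_map` : the effect of a morphism `φ : O(a) ⟶ O(b)` on top Čech coefficients,
  in terms of the polynomial `symPoly φ` of the symbol of `φ`;
* `T_map` : the same on cohomology;
* `tt`, `duality` : the duality statement for `O(-N-n-1)`.
-/

set_option autoImplicit false
universe u

open CategoryTheory CategoryTheory.Limits AlgebraicGeometry TopologicalSpace Opposite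
  HomogeneousLocalization MvPolynomial

namespace Groth.Agent.Lib.Helper27PnDual

open Groth.Agent.Lib.Helper27GrTildeSect Groth.Agent.Lib.Helper27ProjGamma
  Groth.Agent.Lib.Helper27PnSections Groth.Agent.Lib.Helper27Laurent
  Groth.Agent.Lib.Helper27PnLau Groth.Agent.Lib.Helper27PnLauMul
  Groth.Agent.Lib.Helper27PnCech Groth.Agent.Lib.Helper27PnTop
  Groth.Agent.Lib.Helper27PnHom Groth.Agent.Lib.Helper27CechNat
  Groth.Agent.Lib.Helper27PnCohVanish Groth.Agent.Lib.Helper16.CechLow

variable (n : ℕ) (R : Type u) [CommRing R]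

local notation "𝒢" => CohB1.polyGrading n R
local notation "σ'" => Fin (n + 1)

section Map

variable {n R}
variable {a b : ℤ} (φ : OO n R a ⟶ OO n R b)

/-- the map of abelian sheaves underlying a morphism of twisting sheaves. -/
noncomputable def abMap :
    Coh.toAb (X := CohB1.ProjSpace n R) (GrTilde.tilde 𝒢 𝒢 a) ⟶
      Coh.toAb (X := CohB1.ProjSpace n R) (GrTilde.tilde 𝒢 𝒢 b) :=
  (SheafOfModules.toSheaf (CohB1.ProjSpace n R).ringCatSheaf).map φ

/-- the underlying map of presheaves. -/
noncomputable def preMap : P n R a ⟶ P n R b := (abMap φ).hom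

theorem hat_map {p : ℕ} (c : (CK (V n R) (P n R a)).X p)
    (x : Fin (p + 1) → ULift.{u} (Fin (n + 1))) (e : Fin (n + 1) → ℤ) :
    hat b (((cechComplexFunctor (V n R)).map (preMap φ)).f p c) x e =
      (sym φ * lau a (Ux (V n R) x) (torus_le_Ux n R x)
        (pr (V n R) (P n R a) p x c)).coeff e := by
  unfold hat
  have h := ConcreteCategory.congr_hom (map_pr (V n R) (preMap φ) p x) c
  have h2 : pr (V n R) (P n R b) p x (((cechComplexFunctor (V n R)).map (preMap φ)).f p c) =
      φ.app (Ux (V n R) x) (pr (V n R) (P n R a) p x c) := h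
  rw [h2, ← coeff_lau, lau_app]

theorem coeff_toL_mul (F : MvPolynomial σ' R) (L : AddMonoidAlgebra R (σ' → ℤ)) (e : σ' → ℤ) :
    (toL F * L).coeff e = ∑ m ∈ F.support, coeff m F * L.coeff (e - emb m) := by
  classical
  have key : ∀ (s : Finset (σ' →₀ ℕ)) (g : (σ' →₀ ℕ) → R),
      ((∑ m ∈ s, AddMonoidAlgebra.single (emb m) (g m)) * L).coeff e =
        ∑ m ∈ s, g m * L.coeff (e - emb m) := by
    intro s g
    induction s using Finset.induction_on with
    | empty => simp
    | insert m s hm ih =>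
      rw [Finset.sum_insert hm, Finset.sum_insert hm, add_mul, AddMonoidAlgebra.coeff_add,
        Finsupp.add_apply, ih, AddMonoidAlgebra.coeff_single_mul_apply]
      congr 3
      abel
  conv_lhs => rw [← MvPolynomial.support_sum_monomial_coeff F]
  rw [map_sum]
  simp only [toL_monomial]
  exact key _ _

/-- the polynomial attached to the symbol of a morphism. -/
noncomputable def symPoly : MvPolynomial σ' R :=
  AddMonoidAlgebra.ofCoeff (Finsupp.comapDomain emb (sym φ).coeff emb_injective.injOn)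

theorem coeff_symPoly (m : σ' →₀ ℕ) : coeff m (symPoly φ) = (sym φ).coeff (emb m) := rfl

theorem toL_symPoly (hn : 1 ≤ n) : toL (symPoly φ) = sym φ := by
  apply lau_ext
  intro e
  by_cases he : e ∈ Set.range (emb (σ := σ'))
  · obtain ⟨m, rfl⟩ := he
    rw [coeff_toL_emb, coeff_symPoly]
  · rw [coeff_toL_of_notMem _ _ he]
    by_contra h
    obtain ⟨-, h2⟩ := coeff_sym_ne_zero φ hn e (Ne.symm h)
    exact he ((mem_range_emb_iff e).mpr h2)

theorem coeff_symPoly_eq_zero (hn : 1 ≤ n) (m : σ' →₀ ℕ) (hm : ((Finsupp.degree m : ℕ) : ℤ) ≠ b - a) :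
    coeff m (symPoly φ) = 0 := by
  rw [coeff_symPoly]
  by_contra h
  obtain ⟨h1, -⟩ := coeff_sym_ne_zero φ hn (emb m) h
  apply hm
  rw [← h1, Finsupp.degree_eq_sum]
  push_cast
  rfl

theorem topCoef_map (hn : 1 ≤ n) (c : (CK (V n R) (P n R a)).X n) (m0 : σ' →₀ ℕ) :
    topCoef b (((cechComplexFunctor (V n R)).map (preMap φ)).f n c) m0 =
      ∑ m ∈ (symPoly φ).support, coeff m (symPoly φ) * topCoef a c (m + m0) := by
  unfold topCoef
  rw [hat_map, ← toL_symPoly φ hn, coeff_toL_mul]
  refine Finset.sum_congr rfl fun m _ => ?_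
  congr 1
  rw [coeff_lau]
  unfold hat
  congr 1
  funext i
  simp only [negExp, Pi.sub_apply, emb_apply, Finsupp.add_apply]
  push_cast
  ring

theorem topH_map (kb : ℕ) (hb : b = -((n : ℤ) + 1 + kb)) (α : P n R a ⟶ P n R b)
    (z : (CK (V n R) (P n R a)).cycles n) :
    topH (n := n) R b kb hb ((HomologicalComplex.homologyMap
      ((cechComplexFunctor (V n R)).map α) n) ((CK (V n R) (P n R a)).homologyπ n z)) =
      topHom R b kb hb (((cechComplexFunctor (V n R)).map α).f n
        ((CK (V n R) (P n R a)).iCycles n z)) := by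
  have h1 := ConcreteCategory.congr_hom (HomologicalComplex.homologyπ_naturality
    ((cechComplexFunctor (V n R)).map α) n) z
  have h2 := ConcreteCategory.congr_hom (HomologicalComplex.cyclesMap_i
    ((cechComplexFunctor (V n R)).map α) n) z
  refine (congrArg (topH R b kb hb) h1).trans ?_
  refine (topH_π R b kb hb _).trans ?_
  exact congrArg (topHom R b kb hb) h2

/-- the effect of a morphism `O(a) ⟶ O(b)` on top cohomology, in terms of top polynomials. -/
theorem T_map (hn : 1 ≤ n) (ka kb : ℕ) (ha : a = -((n : ℤ) + 1 + ka))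
    (hb : b = -((n : ℤ) + 1 + kb))
    (x : Coh.HH (CohB1.ProjSpace n R) (GrTilde.tilde 𝒢 𝒢 a) n) (m0 : σ' →₀ ℕ) :
    coeff m0 (T n R b kb hb (Sheaf.H.map (abMap φ) n x) : MvPolynomial σ' R) =
      ∑ m ∈ (symPoly φ).support, coeff m (symPoly φ) *
        coeff (m + m0) (T n R a ka ha x : MvPolynomial σ' R) := by
  obtain ⟨ξ, rfl⟩ := (cmpM_bijective (X := CohB1.ProjSpace n R) (V n R) (iSup_V n R)
    (isAffineOpen_iInf_V n R) (GrTilde.tilde 𝒢 𝒢 a) n).2 x
  obtain ⟨z, rfl⟩ := homologyπ_surjective (n := n) R a ξ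
  have e0 : Sheaf.H.map (abMap φ) n (cmpM (X := CohB1.ProjSpace n R) (V n R) (iSup_V n R)
      (GrTilde.tilde 𝒢 𝒢 a) n ((CK (V n R) (P n R a)).homologyπ n z)) =
      cmpM (X := CohB1.ProjSpace n R) (V n R) (iSup_V n R) (GrTilde.tilde 𝒢 𝒢 b) n
        (cechMapM (X := CohB1.ProjSpace n R) (V n R) (abMap φ) n
          ((CK (V n R) (P n R a)).homologyπ n z)) :=
    (cmpM_natural (X := CohB1.ProjSpace n R) (V n R) (iSup_V n R) (abMap φ) n _).symm
  have e1 : (topH (n := n) R b kb hb).hom (cechMapM (X := CohB1.ProjSpace n R) (V n R)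
      (abMap φ) n ((CK (V n R) (P n R a)).homologyπ n z)) =
      topHom R b kb hb (((cechComplexFunctor (V n R)).map (preMap φ)).f n
        ((CK (V n R) (P n R a)).iCycles n z)) := topH_map kb hb (preMap φ) z
  have e2 : (topH (n := n) R a ka ha).hom ((CK (V n R) (P n R a)).homologyπ n z) =
      topHom R a ka ha ((CK (V n R) (P n R a)).iCycles n z) := topH_π R a ka ha z
  have L1 : (T n R b kb hb (Sheaf.H.map (abMap φ) n (cmpM (X := CohB1.ProjSpace n R) (V n R)
      (iSup_V n R) (GrTilde.tilde 𝒢 𝒢 a) n ((CK (V n R) (P n R a)).homologyπ n z))) :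
        MvPolynomial σ' R) =
      topPoly b (((cechComplexFunctor (V n R)).map (preMap φ)).f n
        ((CK (V n R) (P n R a)).iCycles n z)) := by
    refine (congrArg (fun y => ((T n R b kb hb y : ↥(homogeneousSubmodule σ' R kb)) :
      MvPolynomial σ' R)) e0).trans ?_
    refine (congrArg Subtype.val (T_cmpM n R b kb hb _)).trans ?_
    exact congrArg Subtype.val e1
  have L2 : (T n R a ka ha (cmpM (X := CohB1.ProjSpace n R) (V n R)
      (iSup_V n R) (GrTilde.tilde 𝒢 𝒢 a) n ((CK (V n R) (P n R a)).homologyπ n z)) :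
        MvPolynomial σ' R) = topPoly a ((CK (V n R) (P n R a)).iCycles n z) :=
    (congrArg Subtype.val (T_cmpM n R a ka ha _)).trans (congrArg Subtype.val e2)
  refine (congrArg (coeff m0) L1).trans ?_
  refine Eq.trans ?_ (Finset.sum_congr rfl fun m _ =>
    congrArg (fun G => coeff m (symPoly φ) * coeff (m + m0) G) L2.symm)
  rw [coeff_topPoly]
  simp only [coeff_topPoly]
  exact topCoef_map φ hn _ m0

end Map

section Duality

/-- degree-zero forms are constants. -/
noncomputable def deg0 : ↥(MvPolynomial.homogeneousSubmodule σ' R 0) ≃ₗ[R] R where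
  toFun f := coeff 0 (f : MvPolynomial σ' R)
  map_add' f g := by simp
  map_smul' r f := by simp
  invFun r := ⟨C r, (mem_homogeneousSubmodule _ _).mpr (isHomogeneous_C _ r)⟩
  left_inv f := by
    apply Subtype.ext
    have h : (f : MvPolynomial σ' R).IsHomogeneous 0 := (mem_homogeneousSubmodule _ _).mp f.2
    exact (totalDegree_eq_zero_iff_eq_C.mp ((totalDegree_zero_iff_isHomogeneous _).mpr h)).symm
  right_inv r := by simp

/-- the trace isomorphism `H^n(P^n_R, O(-n-1)) ≃ R`. -/
noncomputable def tt :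
    Coh.HH (CohB1.ProjSpace n R) (GrTilde.tilde 𝒢 𝒢 (-((n : ℤ) + 1))) n ≃ₗ[R] R :=
  (T n R (-((n : ℤ) + 1)) 0 (by simp)).trans (deg0 n R)

variable {n R}

/-- the monomial `X^m` as an element of `S_k` (zero if the degree is wrong). -/
noncomputable def mono (k : ℕ) (m : σ' →₀ ℕ) : ↥(MvPolynomial.homogeneousSubmodule σ' R k) :=
  if h : Finsupp.degree m = k then
    ⟨monomial m 1, (mem_homogeneousSubmodule _ _).mpr (isHomogeneous_monomial _ h)⟩
  else 0

theorem mono_val (k : ℕ) (m : σ' →₀ ℕ) (h : Finsupp.degree m = k) :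
    ((mono k m : ↥(MvPolynomial.homogeneousSubmodule σ' R k)) : MvPolynomial σ' R) =
      monomial m 1 := by
  unfold mono
  rw [dif_pos h]

theorem mono_of_ne (k : ℕ) (m : σ' →₀ ℕ) (h : Finsupp.degree m ≠ k) :
    (mono k m : ↥(MvPolynomial.homogeneousSubmodule σ' R k)) = 0 := dif_neg h

/-- expansion of a form in monomials. -/
theorem eq_sum_mono (k : ℕ) (G : ↥(MvPolynomial.homogeneousSubmodule σ' R k)) :
    G = ∑ m ∈ (G : MvPolynomial σ' R).support, coeff m (G : MvPolynomial σ' R) • mono k m := by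
  apply Subtype.ext
  rw [AddSubmonoidClass.coe_finsetSum]
  conv_lhs => rw [← MvPolynomial.support_sum_monomial_coeff (G : MvPolynomial σ' R)]
  refine Finset.sum_congr rfl fun m hm => ?_
  have hdeg : Finsupp.degree m = k := by
    by_contra h
    exact (mem_support_iff.mp hm) (((mem_homogeneousSubmodule _ _).mp G.2).coeff_eq_zero h)
  rw [Submodule.coe_smul, mono_val k m hdeg, smul_monomial, smul_eq_mul, mul_one]

theorem sum_support_comm (F G : MvPolynomial σ' R) :
    ∑ m ∈ G.support, coeff m G * coeff m F = ∑ m ∈ F.support, coeff m F * coeff m G := by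
  classical
  have h1 : ∑ m ∈ G.support, coeff m G * coeff m F =
      ∑ m ∈ G.support ∪ F.support, coeff m G * coeff m F :=
    Finset.sum_subset Finset.subset_union_left (fun m _ hm => by
      rw [notMem_support_iff.mp hm, zero_mul])
  have h2 : ∑ m ∈ F.support, coeff m F * coeff m G =
      ∑ m ∈ G.support ∪ F.support, coeff m F * coeff m G :=
    Finset.sum_subset Finset.subset_union_right (fun m _ hm => by
      rw [notMem_support_iff.mp hm, zero_mul])
  rw [h1, h2]
  exact Finset.sum_congr rfl fun m _ => mul_comm _ _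

variable {a : ℤ}

theorem tt_map (hn : 1 ≤ n) (k : ℕ) (ha : a = -((n : ℤ) + 1 + k))
    (φ : OO n R a ⟶ OO n R (-((n : ℤ) + 1)))
    (x : Coh.HH (CohB1.ProjSpace n R) (GrTilde.tilde 𝒢 𝒢 a) n) :
    tt n R (Sheaf.H.map (abMap φ) n x) =
      ∑ m ∈ (symPoly φ).support, coeff m (symPoly φ) *
        coeff m (T n R a k ha x : MvPolynomial σ' R) := by
  have h := T_map φ hn k 0 ha (by simp) x 0
  simp only [add_zero] at h
  exact h

theorem pairing_iff (hn : 1 ≤ n) (k : ℕ) (ha : a = -((n : ℤ) + 1 + k))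
    (φ : OO n R a ⟶ OO n R (-((n : ℤ) + 1)))
    (ψ : Coh.HH (CohB1.ProjSpace n R) (GrTilde.tilde 𝒢 𝒢 a) n →ₗ[R] R) :
    (∀ x, ψ x = tt n R (Sheaf.H.map (abMap φ) n x)) ↔
      ∀ m : σ' →₀ ℕ, Finsupp.degree m = k →
        coeff m (symPoly φ) = ψ ((T n R a k ha).symm (mono k m)) := by
  classical
  constructor
  · intro h m hm
    rw [h, tt_map hn k ha, LinearEquiv.apply_symm_apply, mono_val k m hm]
    simp only [coeff_monomial]
    by_cases hmem : m ∈ (symPoly φ).support
    · rw [Finset.sum_eq_single m]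
      · simp
      · intro m' _ hne
        rw [if_neg (Ne.symm hne), mul_zero]
      · intro h'
        exact absurd hmem h'
    · rw [notMem_support_iff.mp hmem]
      symm
      apply Finset.sum_eq_zero
      intro m' hm'
      have : m ≠ m' := fun h' => hmem (h' ▸ hm')
      rw [if_neg this, mul_zero]
  · intro h x
    rw [tt_map hn k ha]
    obtain ⟨G, rfl⟩ := (T n R a k ha).symm.surjective x
    rw [LinearEquiv.apply_symm_apply]
    conv_lhs => rw [eq_sum_mono k G, map_sum, map_sum]
    simp only [map_smul, smul_eq_mul]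
    rw [← sum_support_comm]
    refine Finset.sum_congr rfl fun m hm => ?_
    have hdeg : Finsupp.degree m = k := by
      by_contra h'
      exact (mem_support_iff.mp hm) (((mem_homogeneousSubmodule _ _).mp G.2).coeff_eq_zero h')
    rw [h m hdeg]

theorem symPoly_mulF {a b : ℤ} (k : ℕ) (h : a + k = b) (F : MvPolynomial σ' R) (hF : F ∈ 𝒢 k) :
    symPoly (mulF k h F hF) = F := by
  ext m
  rw [coeff_symPoly, sym_mulF, coeff_toL_emb]

theorem sym_eq_zero_of_lt (hn : 1 ≤ n) {a b : ℤ} (hab : b < a) (φ : OO n R a ⟶ OO n R b) :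
    sym φ = 0 := by
  apply lau_ext
  intro e
  by_contra h
  obtain ⟨h1, h2⟩ := coeff_sym_ne_zero φ hn e h
  have h3 : 0 ≤ ∑ j, e j := Finset.sum_nonneg (fun j _ => h2 j)
  omega

/-- the duality statement for `O(-N-n-1)` on `P^n_R`, `n ≥ 1`. -/
theorem duality (hn : 1 ≤ n) (N : ℤ)
    (ψ : Coh.HH (CohB1.ProjSpace n R) (GrTilde.tilde 𝒢 𝒢 (-(N + n + 1))) n →ₗ[R] R) :
    ∃! φ : OO n R (-(N + n + 1)) ⟶ OO n R (-((n : ℤ) + 1)),
      ∀ x, ψ x = tt n R (Sheaf.H.map (abMap φ) n x) := by
  classical
  by_cases hN : 0 ≤ N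
  · obtain ⟨k, rfl⟩ := Int.eq_ofNat_of_zero_le hN
    have ha : -((k : ℤ) + n + 1) = -((n : ℤ) + 1 + k) := by ring
    have hk : -((k : ℤ) + n + 1) + k = -((n : ℤ) + 1) := by ring
    let Fk : Finset (σ' →₀ ℕ) := (Finsupp.finite_of_degree_le (σ := σ') k).toFinset
    let lam : (σ' →₀ ℕ) → R := fun m => ψ ((T n R _ k ha).symm (mono k m))
    have hlam : ∀ m, Finsupp.degree m ≠ k → lam m = 0 := by
      intro m hm
      change ψ ((T n R _ k ha).symm (mono k m)) = 0
      rw [mono_of_ne k m hm, map_zero, map_zero]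
    let F : MvPolynomial σ' R := ∑ m ∈ Fk, monomial m (lam m)
    have hcoef : ∀ m, coeff m F = lam m := by
      intro m
      change coeff m (∑ m ∈ Fk, monomial m (lam m)) = lam m
      rw [coeff_sum]
      simp only [coeff_monomial]
      rw [Finset.sum_ite_eq']
      split_ifs with h
      · rfl
      · symm
        apply hlam
        intro h'
        apply h
        rw [Set.Finite.mem_toFinset]
        exact le_of_eq h'
    have hF : F ∈ 𝒢 k := by
      refine Submodule.sum_mem _ fun m _ => ?_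
      by_cases h : Finsupp.degree m = k
      · exact (mem_homogeneousSubmodule _ _).mpr (isHomogeneous_monomial _ h)
      · rw [hlam m h, monomial_zero]
        exact Submodule.zero_mem _
    refine ⟨mulF k hk F hF, ?_, ?_⟩
    · exact (pairing_iff hn k ha (mulF k hk F hF) ψ).mpr (fun m _ => by
        rw [symPoly_mulF, hcoef])
    · intro φ' hφ''
      have hφ' := (pairing_iff hn k ha φ' ψ).mp hφ''
      apply eq_of_sym_eq
      rw [← toL_symPoly φ' hn, sym_mulF]
      congr 1
      ext m
      by_cases hm : Finsupp.degree m = k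
      · rw [hφ' m hm, hcoef]
      · rw [coeff_symPoly_eq_zero φ' hn m (by
          intro h
          apply hm
          have : ((Finsupp.degree m : ℕ) : ℤ) = k := by rw [h]; ring
          exact_mod_cast this), hcoef, hlam m hm]
  · push Not at hN
    have hsub : Subsingleton
        (Coh.HH (CohB1.ProjSpace n R) (GrTilde.tilde 𝒢 𝒢 (-(N + n + 1))) n) :=
      subsingleton_HH n R (-(N + n + 1)) n (by omega) (by omega)
    have hsym : ∀ φ : OO n R (-(N + n + 1)) ⟶ OO n R (-((n : ℤ) + 1)), sym φ = 0 :=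
      fun φ => sym_eq_zero_of_lt hn (by omega) φ
    refine ⟨0, ?_, fun φ' _ => eq_of_sym_eq _ _ ((hsym φ').trans (hsym 0).symm)⟩
    intro x
    rw [Subsingleton.elim x 0, map_zero, map_zero, map_zero]

end Duality

end Groth.Agent.Lib.Helper27PnDual
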