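import Groth.Agent.Lib.Helper27PnDual2

/-!
# The duality pairing for twisting sheaves on `P^n_R`, part 3 (helper27)

Versions of the results of part 2 which also cover `n = 0` (for morphisms `O(a) ⟶ O(b)` with
`a ≤ b`): `coeff_sym_ne_zero'`, `toL_symPoly'`, `T_map'`, `tt_map'`, `pairing_iff'`,
`duality_nat`.
-/

set_option autoImplicit false
universe u

open CategoryTheory CategoryTheory.Limits AlgebraicGeometry TopologicalSpace Opposite
  HomogeneousLocalization MvPolynomial

namespace Groth.Agent.Lib.Helper27PnDual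

open Groth.Agent.Lib.Helper27GrTildeSect Groth.Agent.Lib.Helper27ProjGamma
  Groth.Agent.Lib.Helper27PnSections Groth.Agent.Lib.Helper27Laurent
  Groth.Agent.Lib.Helper27PnLau Groth.Agent.Lib.Helper27PnLauMul
  Groth.Agent.Lib.Helper27PnCech Groth.Agent.Lib.Helper27PnTop
  Groth.Agent.Lib.Helper27PnHom Groth.Agent.Lib.Helper27CechNat
  Groth.Agent.Lib.Helper27PnCohVanish Groth.Agent.Lib.Helper16.CechLow

variable {n : ℕ} {R : Type u} [CommRing R]

local notation "𝒢" => CohB1.polyGrading n R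
local notation "σ'" => Fin (n + 1)

section Map'

variable {a b : ℤ} (φ : OO n R a ⟶ OO n R b)

/-- the symbol is a form of degree `b - a`, also for `n = 0` when `a ≤ b`. -/
theorem coeff_sym_ne_zero' (hn : 1 ≤ n ∨ a ≤ b) (m : σ' → ℤ) (hm : (sym φ).coeff m ≠ 0) :
    ∑ j, m j = b - a ∧ ∀ j, 0 ≤ m j := by
  rcases Nat.eq_zero_or_pos n with hn0 | hpos
  · rcases hn with hn | hab
    · omega
    · subst hn0
      have h1 : (sym φ).coeff m =
          lauC b (Ui 0 R 0) (torus_le_Ui 0 R 0) (φ.app (Ui 0 R 0) (gen a 0)) (m + ev 0 a) := by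
        rw [← coeff_lau, lau_app_gen, AddMonoidAlgebra.coeff_mul_single_apply, mul_one]
        congr 1
        funext j
        simp
      rw [h1] at hm
      obtain ⟨h2, -⟩ := lauC_ne_zero b (Finsupp.single 0 1) (Ui 0 R 0) rfl (by simp)
        (torus_le_Ui 0 R 0) _ _ hm
      have h4 : ∑ j, (m + ev (0 : Fin (0 + 1)) a) j = ∑ j, m j + a := by
        simp only [Pi.add_apply]
        rw [Finset.sum_add_distrib, sum_ev]
      rw [h4] at h2
      have hs : ∑ j, m j = b - a := by linarith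
      refine ⟨hs, fun j => ?_⟩
      have hj : j = 0 := Fin.ext (by have := j.isLt; omega)
      have hs' : ∑ j : Fin 1, m j = m 0 := Fin.sum_univ_one m
      have hs'' : m 0 = b - a := hs'.symm.trans hs
      rw [hj, hs'']
      omega
  · exact coeff_sym_ne_zero φ hpos m hm

theorem toL_symPoly' (hn : 1 ≤ n ∨ a ≤ b) : toL (symPoly φ) = sym φ := by
  apply lau_ext
  intro e
  by_cases he : e ∈ Set.range (emb (σ := σ'))
  · obtain ⟨m, rfl⟩ := he
    rw [coeff_toL_emb, coeff_symPoly]
  · rw [coeff_toL_of_notMem _ _ he]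
    by_contra h
    obtain ⟨-, h2⟩ := coeff_sym_ne_zero' φ hn e (Ne.symm h)
    exact he ((mem_range_emb_iff e).mpr h2)

theorem coeff_symPoly_eq_zero' (hn : 1 ≤ n ∨ a ≤ b) (m : σ' →₀ ℕ) (hm : ((Finsupp.degree m : ℕ) : ℤ) ≠ b - a) :
    coeff m (symPoly φ) = 0 := by
  rw [coeff_symPoly]
  by_contra h
  obtain ⟨h1, -⟩ := coeff_sym_ne_zero' φ hn (emb m) h
  apply hm
  rw [← h1, Finsupp.degree_eq_sum]
  push_cast
  rfl

theorem topCoef_map' (hn : 1 ≤ n ∨ a ≤ b) (c : (CK (V n R) (P n R a)).X n) (m0 : σ' →₀ ℕ) :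
    topCoef b (((cechComplexFunctor (V n R)).map (preMap φ)).f n c) m0 =
      ∑ m ∈ (symPoly φ).support, coeff m (symPoly φ) * topCoef a c (m + m0) := by
  unfold topCoef
  rw [hat_map, ← toL_symPoly' φ hn, coeff_toL_mul]
  refine Finset.sum_congr rfl fun m _ => ?_
  congr 1
  rw [coeff_lau]
  unfold hat
  congr 1
  funext i
  simp only [negExp, Pi.sub_apply, emb_apply, Finsupp.add_apply]
  push_cast
  ring

/-- the effect of a morphism `O(a) ⟶ O(b)` on top cohomology, in terms of top polynomials. -/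
theorem T_map' (hn : 1 ≤ n ∨ a ≤ b) (ka kb : ℕ) (ha : a = -((n : ℤ) + 1 + ka))
    (hb : b = -((n : ℤ) + 1 + kb))
    (x : Coh.HH (CohB1.ProjSpace n R) (GrTilde.tilde 𝒢 𝒢 a) n) (m0 : σ' →₀ ℕ) :
    coeff m0 (T n R b kb hb (Sheaf.H.map (abMap φ) n x) : MvPolynomial σ' R) =
      ∑ m ∈ (symPoly φ).support, coeff m (symPoly φ) *
        coeff (m + m0) (T n R a ka ha x : MvPolynomial σ' R) := by
  obtain ⟨ξ, rfl⟩ := (cmpM_bijective (X := CohB1.ProjSpace n R) (V n R) (iSup_V n R)
    (isAffineOpen_iInf_V n R) (GrTilde.tilde 𝒢 𝒢 a) n).2 x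
  obtain ⟨z, rfl⟩ := homologyπ_surjective (n := n) R a ξ
  have e0 : Sheaf.H.map (abMap φ) n (cmpM (X := CohB1.ProjSpace n R) (V n R) (iSup_V n R)
      (GrTilde.tilde 𝒢 𝒢 a) n ((CK (V n R) (P n R a)).homologyπ n z)) =
      cmpM (X := CohB1.ProjSpace n R) (V n R) (iSup_V n R) (GrTilde.tilde 𝒢 𝒢 b) n
        (cechMapM (X := CohB1.ProjSpace n R) (V n R) (abMap φ) n
          ((CK (V n R) (P n R a)).homologyπ n z)) :=
    (cmpM_natural (X := CohB1.ProjSpace n R) (V n R) (iSup_V n R) (abMap φ) n _).symm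
  have e1 : (topH (n := n) R b kb hb).hom (cechMapM (X := CohB1.ProjSpace n R) (V n R)
      (abMap φ) n ((CK (V n R) (P n R a)).homologyπ n z)) =
      topHom R b kb hb (((cechComplexFunctor (V n R)).map (preMap φ)).f n
        ((CK (V n R) (P n R a)).iCycles n z)) := topH_map kb hb (preMap φ) z
  have e2 : (topH (n := n) R a ka ha).hom ((CK (V n R) (P n R a)).homologyπ n z) =
      topHom R a ka ha ((CK (V n R) (P n R a)).iCycles n z) := topH_π R a ka ha z
  have L1 : (T n R b kb hb (Sheaf.H.map (abMap φ) n (cmpM (X := CohB1.ProjSpace n R) (V n R)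
      (iSup_V n R) (GrTilde.tilde 𝒢 𝒢 a) n ((CK (V n R) (P n R a)).homologyπ n z))) :
        MvPolynomial σ' R) =
      topPoly b (((cechComplexFunctor (V n R)).map (preMap φ)).f n
        ((CK (V n R) (P n R a)).iCycles n z)) := by
    refine (congrArg (fun y => ((T n R b kb hb y : ↥(homogeneousSubmodule σ' R kb)) :
      MvPolynomial σ' R)) e0).trans ?_
    refine (congrArg Subtype.val (T_cmpM n R b kb hb _)).trans ?_
    exact congrArg Subtype.val e1
  have L2 : (T n R a ka ha (cmpM (X := CohB1.ProjSpace n R) (V n R)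
      (iSup_V n R) (GrTilde.tilde 𝒢 𝒢 a) n ((CK (V n R) (P n R a)).homologyπ n z)) :
        MvPolynomial σ' R) = topPoly a ((CK (V n R) (P n R a)).iCycles n z) :=
    (congrArg Subtype.val (T_cmpM n R a ka ha _)).trans (congrArg Subtype.val e2)
  refine (congrArg (coeff m0) L1).trans ?_
  refine Eq.trans ?_ (Finset.sum_congr rfl fun m _ =>
    congrArg (fun G => coeff m (symPoly φ) * coeff (m + m0) G) L2.symm)
  rw [coeff_topPoly]
  simp only [coeff_topPoly]
  exact topCoef_map' φ hn _ m0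

end Map'

section Duality'

variable {a : ℤ}

theorem tt_map' (k : ℕ) (ha : a = -((n : ℤ) + 1 + k))
    (φ : OO n R a ⟶ OO n R (-((n : ℤ) + 1)))
    (x : Coh.HH (CohB1.ProjSpace n R) (GrTilde.tilde 𝒢 𝒢 a) n) :
    tt n R (Sheaf.H.map (abMap φ) n x) =
      ∑ m ∈ (symPoly φ).support, coeff m (symPoly φ) *
        coeff m (T n R a k ha x : MvPolynomial σ' R) := by
  have h := T_map' φ (Or.inr (by omega)) k 0 ha (by simp) x 0
  simp only [add_zero] at h
  exact h

theorem pairing_iff' (k : ℕ) (ha : a = -((n : ℤ) + 1 + k))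
    (φ : OO n R a ⟶ OO n R (-((n : ℤ) + 1)))
    (ψ : Coh.HH (CohB1.ProjSpace n R) (GrTilde.tilde 𝒢 𝒢 a) n →ₗ[R] R) :
    (∀ x, ψ x = tt n R (Sheaf.H.map (abMap φ) n x)) ↔
      ∀ m : σ' →₀ ℕ, Finsupp.degree m = k →
        coeff m (symPoly φ) = ψ ((T n R a k ha).symm (mono k m)) := by
  classical
  constructor
  · intro h m hm
    rw [h, tt_map' k ha, LinearEquiv.apply_symm_apply, mono_val k m hm]
    simp only [coeff_monomial]
    by_cases hmem : m ∈ (symPoly φ).support
    · rw [Finset.sum_eq_single m]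
      · simp
      · intro m' _ hne
        rw [if_neg (Ne.symm hne), mul_zero]
      · intro h'
        exact absurd hmem h'
    · rw [notMem_support_iff.mp hmem]
      symm
      apply Finset.sum_eq_zero
      intro m' hm'
      have : m ≠ m' := fun h' => hmem (h' ▸ hm')
      rw [if_neg this, mul_zero]
  · intro h x
    rw [tt_map' k ha]
    obtain ⟨G, rfl⟩ := (T n R a k ha).symm.surjective x
    rw [LinearEquiv.apply_symm_apply]
    conv_lhs => rw [eq_sum_mono k G, map_sum, map_sum]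
    simp only [map_smul, smul_eq_mul]
    rw [← sum_support_comm]
    refine Finset.sum_congr rfl fun m hm => ?_
    have hdeg : Finsupp.degree m = k := by
      by_contra h'
      exact (mem_support_iff.mp hm) (((mem_homogeneousSubmodule _ _).mp G.2).coeff_eq_zero h')
    rw [h m hdeg]

/-- the duality statement for `O(-k-n-1)` on `P^n_R`, all `n`. -/
theorem duality_nat (k : ℕ) (ha : a = -((n : ℤ) + 1 + k))
    (ψ : Coh.HH (CohB1.ProjSpace n R) (GrTilde.tilde 𝒢 𝒢 a) n →ₗ[R] R) :
    ∃! φ : OO n R a ⟶ OO n R (-((n : ℤ) + 1)),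
      ∀ x, ψ x = tt n R (Sheaf.H.map (abMap φ) n x) := by
  classical
  have hk : a + k = -((n : ℤ) + 1) := by rw [ha]; ring
  have hab : (1 ≤ n ∨ a ≤ -((n : ℤ) + 1)) := Or.inr (by omega)
  let Fk : Finset (σ' →₀ ℕ) := (Finsupp.finite_of_degree_le (σ := σ') k).toFinset
  let lam : (σ' →₀ ℕ) → R := fun m => ψ ((T n R _ k ha).symm (mono k m))
  have hlam : ∀ m, Finsupp.degree m ≠ k → lam m = 0 := by
    intro m hm
    change ψ ((T n R _ k ha).symm (mono k m)) = 0
    rw [mono_of_ne k m hm, map_zero, map_zero]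
  let F : MvPolynomial σ' R := ∑ m ∈ Fk, monomial m (lam m)
  have hcoef : ∀ m, coeff m F = lam m := by
    intro m
    change coeff m (∑ m ∈ Fk, monomial m (lam m)) = lam m
    rw [coeff_sum]
    simp only [coeff_monomial]
    rw [Finset.sum_ite_eq']
    split_ifs with h
    · rfl
    · symm
      apply hlam
      intro h'
      apply h
      rw [Set.Finite.mem_toFinset]
      exact le_of_eq h'
  have hF : F ∈ 𝒢 k := by
    refine Submodule.sum_mem _ fun m _ => ?_
    by_cases h : Finsupp.degree m = k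
    · exact (mem_homogeneousSubmodule _ _).mpr (isHomogeneous_monomial _ h)
    · rw [hlam m h, monomial_zero]
      exact Submodule.zero_mem _
  refine ⟨mulF k hk F hF, ?_, ?_⟩
  · exact (pairing_iff' k ha (mulF k hk F hF) ψ).mpr (fun m _ => by
      rw [symPoly_mulF, hcoef])
  · intro φ' hφ''
    have hφ' := (pairing_iff' k ha φ' ψ).mp hφ''
    apply eq_of_sym_eq
    rw [← toL_symPoly' φ' hab, sym_mulF]
    congr 1
    ext m
    by_cases hm : Finsupp.degree m = k
    · rw [hφ' m hm, hcoef]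
    · rw [coeff_symPoly_eq_zero' φ' hab m (by
        intro h
        apply hm
        have : ((Finsupp.degree m : ℕ) : ℤ) = k := by rw [h, ha]; ring
        exact_mod_cast this), hcoef, hlam m hm]

end Duality'

end Groth.Agent.Lib.Helper27PnDual
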