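import Groth.Agent.Lib.Helper27PnLauMul
import Groth.Agent.Lib.Helper27GrTildeMulBy
import Groth.Agent.Lib.Helper27EpiGen
import Groth.Agent.Lib.Helper27TwistGen2

/-!
# Morphisms between twisting sheaves on `P^n_R` and their Laurent symbols (helper27)

For `φ : O(a) ⟶ O(b)` on `P^n_R`:
* `sym φ` : an element of the group algebra `R[ℤ^{n+1}]` with
  `lau_app : lau (φ s) = sym φ * lau s` for sections over opens containing the torus;
* `coeff_sym_ne_zero` : for `n ≥ 1` the symbol only involves exponents `m ≥ 0` of total degree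
  `b - a` (it is a form of degree `b - a`);
* `eq_of_sym_eq` : a morphism is determined by its symbol;
* `mulF` : multiplication by a form `F` of degree `k`, `O(a) ⟶ O(a + k)`, with symbol `toL F`.
-/

set_option autoImplicit false
universe u

open CategoryTheory CategoryTheory.Limits AlgebraicGeometry TopologicalSpace Opposite
  HomogeneousLocalization MvPolynomial

namespace Groth.Agent.Lib.Helper27PnHom

open Groth.Agent.Lib.Helper27GrTildeSect Groth.Agent.Lib.Helper27ProjGamma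
  Groth.Agent.Lib.Helper27PnSections Groth.Agent.Lib.Helper27Laurent
  Groth.Agent.Lib.Helper27PnLau Groth.Agent.Lib.Helper27PnLauMul
  Groth.Agent.Lib.Helper23.SecTw Groth.Agent.Lib.Helper6 Groth.Agent.Lib.Helper23.Extend

variable {n : ℕ} {R : Type u} [CommRing R]

local notation "𝒢" => CohB1.polyGrading n R
local notation "σ'" => Fin (n + 1)

variable (n R) in
/-- the twisting sheaf `O(a)` on `P^n_R`, with its type ascribed. -/
noncomputable abbrev OO (a : ℤ) : (Proj 𝒢).Modules := GrTilde.tilde 𝒢 𝒢 a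

variable (n R) in
/-- the standard open `D₊(X_i)`. -/
noncomputable abbrev Ui (i : σ') : (Proj 𝒢).Opens :=
  Proj.basicOpen 𝒢 (X i : MvPolynomial σ' R)

variable (n R) in
theorem torus_le_Ui (i : σ') : torus n R ≤ Ui n R i :=
  torus_le_basicOpen n R (Finsupp.single i 1)

variable (n R) in
theorem cover_Ui (y : Proj 𝒢) : ∃ i, y ∈ Ui n R i := by
  obtain ⟨i, hi⟩ := exists_X_not_mem n R y
  exact ⟨i, (ProjectiveSpectrum.mem_basicOpen 𝒢 _ y).mpr hi⟩

/-- the generator `X_i^a` of `O(a)` over `D₊(X_i)`. -/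
noncomputable def gen (a : ℤ) (i : σ') : Γ(GrTilde.tilde 𝒢 𝒢 a, Ui n R i) :=
  zsec (hX n R i) a a.toNat (-a).toNat (by omega)

theorem isGen_gen (a : ℤ) (i : σ') : IsGen (GrTilde.tilde 𝒢 𝒢 a) (Ui n R i) (gen a i) :=
  isGen_zsec (hX n R i) a _ _ _

theorem lau_gen (a : ℤ) (i : σ') :
    lau a (Ui n R i) (torus_le_Ui n R i) (gen a i) = AddMonoidAlgebra.single (ev i a) 1 :=
  (lau_map a (torus_le_Ui n R i) le_rfl (gen a i)).symm.trans
    (lau_zsec i a _ _ _ (Ui n R i) (torus_le_Ui n R i) le_rfl)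

theorem single_ev_mul (i : σ') (a : ℤ) :
    (AddMonoidAlgebra.single (ev i a) (1 : R) : AddMonoidAlgebra R (σ' → ℤ)) *
      AddMonoidAlgebra.single (-(ev i a)) 1 = 1 := by
  rw [AddMonoidAlgebra.single_mul_single, add_neg_cancel, mul_one]
  rfl

section Sym

variable {a b : ℤ} (φ : OO n R a ⟶ OO n R b)

/-- the symbol of a morphism `O(a) ⟶ O(b)`. -/
noncomputable def sym : AddMonoidAlgebra R (σ' → ℤ) :=
  lau b (Ui n R 0) (torus_le_Ui n R 0) (φ.app (Ui n R 0) (gen a 0)) *
    AddMonoidAlgebra.single (-(ev 0 a)) 1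

/-- a morphism acts on Laurent expansions by multiplication with its symbol. -/
theorem lau_app (W : (Proj 𝒢).Opens) (hW : torus n R ≤ W) (s : Γ(GrTilde.tilde 𝒢 𝒢 a, W)) :
    lau b W hW (φ.app W s) = sym φ * lau a W hW s := by
  have hT0 : torus n R ≤ Ui n R 0 := torus_le_Ui n R 0
  -- reduce to the torus
  have e1 : lau b W hW (φ.app W s) =
      lau b (torus n R) le_rfl (φ.app (torus n R) (res (GrTilde.tilde 𝒢 𝒢 a) hW s)) := by
    rw [← lau_map b le_rfl hW (φ.app W s)]
    congr 1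
    exact (app_map φ (homOfLE hW) s).symm
  have e2 : lau a W hW s = lau a (torus n R) le_rfl (res (GrTilde.tilde 𝒢 𝒢 a) hW s) :=
    (lau_map a le_rfl hW s).symm
  rw [e1, e2]
  generalize res (GrTilde.tilde 𝒢 𝒢 a) hW s = s'
  -- write `s'` as a multiple of the generator
  have hs' := coef_spec (isGen_gen (n := n) (R := R) a 0) hT0 s'
  set r := coef (isGen_gen (n := n) (R := R) a 0) hT0 s' with hr
  have e3 : φ.app (torus n R) s' =
      r • res (GrTilde.tilde 𝒢 𝒢 b) hT0 (φ.app (Ui n R 0) (gen a 0)) := by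
    rw [← hs', Scheme.Modules.Hom.app_smul]
    congr 1
    exact app_map φ (homOfLE hT0) (gen a 0)
  rw [e3, lau_smul, ← hs', lau_smul]
  have e4 : lau b (torus n R) le_rfl
      (res (GrTilde.tilde 𝒢 𝒢 b) hT0 (φ.app (Ui n R 0) (gen a 0))) =
      lau b (Ui n R 0) hT0 (φ.app (Ui n R 0) (gen a 0)) := lau_map b le_rfl hT0 _
  have e5 : lau a (torus n R) le_rfl (res (GrTilde.tilde 𝒢 𝒢 a) hT0 (gen a 0)) =
      AddMonoidAlgebra.single (ev 0 a) 1 :=
    (lau_map a le_rfl hT0 _).trans (lau_gen a 0)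
  rw [e4, e5]
  unfold sym
  have h1 := single_ev_mul (n := n) (R := R) 0 a
  calc lau b (Ui n R 0) hT0 (φ.app (Ui n R 0) (gen a 0)) * lauF (torus n R) le_rfl r
      = lau b (Ui n R 0) hT0 (φ.app (Ui n R 0) (gen a 0)) *
          (AddMonoidAlgebra.single (ev 0 a) 1 * AddMonoidAlgebra.single (-(ev 0 a)) 1) *
          lauF (torus n R) le_rfl r := by rw [h1, mul_one]
    _ = _ := by ring

theorem lau_app_gen (i : σ') :
    lau b (Ui n R i) (torus_le_Ui n R i) (φ.app (Ui n R i) (gen a i)) =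
      sym φ * AddMonoidAlgebra.single (ev i a) 1 := by
  rw [lau_app, lau_gen]

/-- a morphism is determined by its symbol. -/
theorem eq_of_sym_eq (φ ψ : OO n R a ⟶ OO n R b)
    (h : sym φ = sym ψ) :
    φ = ψ := by
  refine Groth.Agent.Lib.Helper27EpiGen.hom_ext_of_isGen _ _ (fun i : σ' => Ui n R i)
    (cover_Ui n R) (fun i => gen a i) (fun i => isGen_gen a i) φ ψ (fun i => ?_)
  apply lau_injective b (Finsupp.single i 1) (Ui n R i) rfl (by simp) (torus_le_Ui n R i)
  rw [lau_app_gen, lau_app_gen, h]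

theorem sum_ev (i : σ') (a : ℤ) : ∑ j, ev i a j = a := by
  unfold ev
  simp

/-- for `n ≥ 1` the symbol is a form of degree `b - a`. -/
theorem coeff_sym_ne_zero (hn : 1 ≤ n) (m : σ' → ℤ) (hm : (sym φ).coeff m ≠ 0) :
    ∑ j, m j = b - a ∧ ∀ j, 0 ≤ m j := by
  have key : ∀ i : σ', ∑ j, m j = b - a ∧ ∀ j, j ≠ i → 0 ≤ m j := by
    intro i
    have h1 : (sym φ).coeff m =
        lauC b (Ui n R i) (torus_le_Ui n R i) (φ.app (Ui n R i) (gen a i)) (m + ev i a) := by
      rw [← coeff_lau, lau_app_gen, AddMonoidAlgebra.coeff_mul_single_apply, mul_one]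
      congr 1
      funext j
      simp
    rw [h1] at hm
    obtain ⟨h2, h3⟩ := lauC_ne_zero b (Finsupp.single i 1) (Ui n R i) rfl (by simp)
      (torus_le_Ui n R i) _ _ hm
    constructor
    · have h4 : ∑ j, (m + ev i a) j = ∑ j, m j + a := by
        simp only [Pi.add_apply]
        rw [Finset.sum_add_distrib, sum_ev]
      rw [h4] at h2
      linarith
    · intro j hj
      have h5 := h3 j (by
        rw [Finsupp.mem_support_iff, Finsupp.single_apply, if_neg (Ne.symm hj)]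
        simp)
      rw [Pi.add_apply] at h5
      unfold ev at h5
      rw [if_neg hj, add_zero] at h5
      exact h5
  refine ⟨(key 0).1, fun j => ?_⟩
  obtain ⟨p, rfl⟩ : ∃ p, n = p + 1 := ⟨n - 1, by omega⟩
  obtain ⟨i, hi⟩ := exists_ne j
  exact (key i).2 j hi.symm

end Sym

section MulF

/-- the global section `F / 1` of `O(k)` attached to a form of degree `k`. -/
noncomputable def formSec (k : ℕ) (F : MvPolynomial σ' R) (hF : F ∈ 𝒢 k) :
    Γ(GrTilde.tilde 𝒢 𝒢 (k : ℤ), (⊤ : (Proj 𝒢).Opens)) :=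
  fracSec 𝒢 (k : ℤ) ⊤ hF (SetLike.GradedOne.one_mem (A := 𝒢)) (by simp)
    (fun y => one_not_mem y.1)

/-- multiplication by a form of degree `k`. -/
noncomputable def mulF {a b : ℤ} (k : ℕ) (h : a + k = b) (F : MvPolynomial σ' R) (hF : F ∈ 𝒢 k) :
    OO n R a ⟶ OO n R b :=
  mulBy 𝒢 𝒢 h (formSec k F hF)

theorem sym_mulF {a b : ℤ} (k : ℕ) (h : a + k = b) (F : MvPolynomial σ' R) (hF : F ∈ 𝒢 k) :
    sym (mulF k h F hF) = toL F := by
  unfold sym mulF
  rw [mulBy_app, lau_mulSec, lau_gen]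
  have h1 : lau (k : ℤ) (Ui n R 0) (torus_le_Ui n R 0)
      ((GrTilde.tilde 𝒢 𝒢 (k : ℤ)).presheaf.map (homOfLE (le_top : Ui n R 0 ≤ ⊤)).op
        (formSec k F hF)) = toL F :=
    (lau_map (k : ℤ) (torus_le_Ui n R 0) le_top (formSec k F hF)).trans
      (lau_fracSec_one (k : ℤ) k (by simp) F hF ⊤ _)
  rw [h1]
  have h2 := single_ev_mul (n := n) (R := R) 0 a
  calc AddMonoidAlgebra.single (ev 0 a) 1 * toL F * AddMonoidAlgebra.single (-(ev 0 a)) 1
      = toL F * (AddMonoidAlgebra.single (ev 0 a) 1 * AddMonoidAlgebra.single (-(ev 0 a)) 1) := by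
        ring
    _ = toL F := by rw [h2, mul_one]

end MulF

end Groth.Agent.Lib.Helper27PnHom
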