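import Groth.Agent.Lib.Helper27Laurent
import Groth.Agent.Lib.Helper27PnNeg

/-!
# Laurent expansion of sections of `O(d)` over opens of `P^n_R` containing the torus (helper27)
-/

set_option autoImplicit false
universe u

open CategoryTheory CategoryTheory.Limits AlgebraicGeometry TopologicalSpace Opposite
  HomogeneousLocalization MvPolynomial

namespace Groth.Agent.Lib.Helper27PnLau

open Groth.Agent.Lib.Helper27GrTildeSect Groth.Agent.Lib.Helper27ProjGamma
  Groth.Agent.Lib.Helper27PnSections Groth.Agent.Lib.Helper27Laurent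

variable (n : ℕ) (R : Type u) [CommRing R]

local notation "𝒢" => CohB1.polyGrading n R
local notation "σ'" => Fin (n + 1)

/-- the all-ones exponent. -/
noncomputable def ones : σ' →₀ ℕ := Finsupp.equivFunOnFinite.symm (fun _ => 1)

@[simp] theorem ones_apply (i : σ') : ones n i = 1 := rfl

theorem degree_ones : Finsupp.degree (ones n) = n + 1 := by
  rw [Finsupp.degree_eq_sum]
  simp

/-- the monomial `X^a`. -/
noncomputable abbrev mono (a : σ' →₀ ℕ) : MvPolynomial σ' R := monomial a 1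

theorem mono_mem (a : σ' →₀ ℕ) : mono n R a ∈ 𝒢 (Finsupp.degree a) :=
  isHomogeneous_monomial 1 rfl

theorem mono_pow (a : σ' →₀ ℕ) (k : ℕ) : mono n R a ^ k = mono n R (k • a) := by
  unfold mono
  rw [monomial_pow, one_pow]

theorem mono_pow_mem (a : σ' →₀ ℕ) (k : ℕ) : mono n R a ^ k ∈ 𝒢 (k * Finsupp.degree a) := by
  rw [mono_pow]
  have := mono_mem n R (k • a)
  rwa [map_nsmul, smul_eq_mul] at this

theorem isRegular_mono (a : σ' →₀ ℕ) : IsRegular (mono n R a) := by
  have h : mono n R a = ∏ i, (X i : MvPolynomial σ' R) ^ (a i) := by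
    unfold mono
    rw [monomial_eq, C_1, one_mul, Finsupp.prod_fintype _ _ (fun _ => pow_zero _)]
  rw [h]
  exact IsRegular.prod (fun i _ => isRegular_X_pow (a i))

theorem mono_mul (a b : σ' →₀ ℕ) : mono n R a * mono n R b = mono n R (a + b) := by
  unfold mono
  rw [monomial_mul, one_mul]

/-- `X^a ∉ y` iff no variable in the support of `a` lies in `y`. -/
theorem mono_not_mem_iff (a : σ' →₀ ℕ) (y : ProjectiveSpectrum 𝒢) :
    mono n R a ∉ y.asHomogeneousIdeal ↔
      ∀ i ∈ a.support, (X i : MvPolynomial σ' R) ∉ y.asHomogeneousIdeal := by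
  have h : mono n R a = ∏ i ∈ a.support, (X i : MvPolynomial σ' R) ^ (a i) := by
    unfold mono
    rw [monomial_eq, C_1, one_mul]
    rfl
  rw [h]
  constructor
  · intro hy i hi hXi
    apply hy
    have := Finset.dvd_prod_of_mem (fun i => (X i : MvPolynomial σ' R) ^ (a i)) hi
    apply Ideal.mem_of_dvd _ this
    have hai : a i ≠ 0 := Finsupp.mem_support_iff.mp hi
    exact Ideal.pow_mem_of_mem _ hXi _ (Nat.pos_of_ne_zero hai)
  · intro hy hmem
    obtain ⟨i, hi, himem⟩ := (y.isPrime.prod_mem_iff).mp hmem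
    exact hy i hi (y.isPrime.mem_of_pow_mem _ himem)

/-- the torus `D₊(X_0 ⋯ X_n)`. -/
noncomputable def torus : (Proj 𝒢).Opens := Proj.basicOpen 𝒢 (mono n R (ones n))

theorem mem_basicOpen_iff (f : MvPolynomial σ' R) (y : ProjectiveSpectrum 𝒢) :
    (show Proj 𝒢 from y) ∈ Proj.basicOpen 𝒢 f ↔ f ∉ y.asHomogeneousIdeal :=
  ProjectiveSpectrum.mem_basicOpen 𝒢 f y

theorem mem_torus_iff (y : ProjectiveSpectrum 𝒢) :
    (show Proj 𝒢 from y) ∈ torus n R ↔
      ∀ i, (X i : MvPolynomial σ' R) ∉ y.asHomogeneousIdeal := by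
  unfold torus
  rw [mem_basicOpen_iff, mono_not_mem_iff]
  constructor
  · intro h i
    exact h i (by simp [Finsupp.mem_support_iff])
  · intro h i _
    exact h i

theorem mono_pow_not_mem (a : σ' →₀ ℕ) (k : ℕ) (y : ProjectiveSpectrum 𝒢)
    (hy : (show Proj 𝒢 from y) ∈ torus n R) :
    mono n R a ^ k ∉ y.asHomogeneousIdeal := by
  intro h
  have h1 := y.isPrime.mem_of_pow_mem k h
  exact (mono_not_mem_iff n R a y).mpr (fun i _ => (mem_torus_iff n R y).mp hy i) h1

theorem torus_le_basicOpen (a : σ' →₀ ℕ) : torus n R ≤ Proj.basicOpen 𝒢 (mono n R a) := by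
  intro y hy
  refine (mem_basicOpen_iff n R _ y).mpr ?_
  have := mono_pow_not_mem n R a 1 y hy
  rwa [pow_one] at this

variable {n R}

/-- a representation of a section on the torus. -/
theorem exists_torus_rep (d : ℤ) (W : (Proj 𝒢).Opens) (hW : torus n R ≤ W)
    (s : Γ(GrTilde.tilde 𝒢 𝒢 d, W)) :
    ∃ (k i' : ℕ) (F : MvPolynomial σ' R) (_ : F ∈ 𝒢 i'),
      (i' : ℤ) = k * (n + 1) + d ∧
      ∀ (y : ProjectiveSpectrum 𝒢) (hy : y ∈ torus n R),
        (secVal 𝒢 𝒢 d W s y (hW hy) : Twist.Loc 𝒢 y) =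
          Localization.mk F (⟨mono n R (ones n) ^ k, mono_pow_not_mem n R (ones n) k y hy⟩ :
            y.asHomogeneousIdeal.toIdeal.primeCompl) := by
  let t : Γ(GrTilde.tilde 𝒢 𝒢 d, torus n R) :=
    (GrTilde.tilde 𝒢 𝒢 d).presheaf.map (homOfLE hW).op s
  obtain ⟨K, i', ⟨m, hm⟩, hi, hval⟩ := exists_global (toSect 𝒢 𝒢 d _ t) (Nat.succ_pos n)
    (by have := mono_mem n R (ones n); rwa [degree_ones] at this)
  refine ⟨K, i', m, hm, by rw [hi]; push_cast; ring, fun y hy => ?_⟩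
  have h1 := hval ⟨y, hy⟩
  have h2 : secVal 𝒢 𝒢 d _ t y hy = secVal 𝒢 𝒢 d W s y (hW hy) :=
    secVal_map 𝒢 𝒢 d hW s y hy
  rw [← h2]
  exact h1

/-- the chosen exponent of a torus representation. -/
noncomputable def repK (d : ℤ) (W : (Proj 𝒢).Opens) (hW : torus n R ≤ W)
    (s : Γ(GrTilde.tilde 𝒢 𝒢 d, W)) : ℕ := (exists_torus_rep d W hW s).choose

/-- the chosen degree of a torus representation. -/
noncomputable def repI (d : ℤ) (W : (Proj 𝒢).Opens) (hW : torus n R ≤ W)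
    (s : Γ(GrTilde.tilde 𝒢 𝒢 d, W)) : ℕ := (exists_torus_rep d W hW s).choose_spec.choose

/-- the chosen numerator of a torus representation. -/
noncomputable def repF (d : ℤ) (W : (Proj 𝒢).Opens) (hW : torus n R ≤ W)
    (s : Γ(GrTilde.tilde 𝒢 𝒢 d, W)) : MvPolynomial σ' R :=
  (exists_torus_rep d W hW s).choose_spec.choose_spec.choose

theorem rep_spec (d : ℤ) (W : (Proj 𝒢).Opens) (hW : torus n R ≤ W)
    (s : Γ(GrTilde.tilde 𝒢 𝒢 d, W)) :
    repF d W hW s ∈ 𝒢 (repI d W hW s) ∧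
      (repI d W hW s : ℤ) = repK d W hW s * (n + 1) + d ∧
      ∀ (y : ProjectiveSpectrum 𝒢) (hy : (show Proj 𝒢 from y) ∈ torus n R),
        (secVal 𝒢 𝒢 d W s y (hW hy) : Twist.Loc 𝒢 y) =
          Localization.mk (repF d W hW s)
            (⟨mono n R (ones n) ^ (repK d W hW s),
              mono_pow_not_mem n R (ones n) (repK d W hW s) y hy⟩ :
            y.asHomogeneousIdeal.toIdeal.primeCompl) := by
  obtain ⟨h1, h2, h3⟩ := (exists_torus_rep d W hW s).choose_spec.choose_spec.choose_spec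
  exact ⟨h1, h2, h3⟩

/-- the Laurent coefficients of a section over an open containing the torus. -/
noncomputable def lauC (d : ℤ) (W : (Proj 𝒢).Opens) (hW : torus n R ≤ W)
    (s : Γ(GrTilde.tilde 𝒢 𝒢 d, W)) (e : σ' → ℤ) : R :=
  lcoef (fun _ => (repK d W hW s : ℤ)) (repF d W hW s) e

theorem mem_torus_of_not_mem (y : ProjectiveSpectrum 𝒢)
    (hy : mono n R (ones n) ∉ y.asHomogeneousIdeal) : (show Proj 𝒢 from y) ∈ torus n R :=
  (mem_basicOpen_iff n R _ y).mpr hy

/-- characterization of the Laurent coefficients through any monomial-denominator representation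
on the torus. -/
theorem lauC_eq (d : ℤ) (W : (Proj 𝒢).Opens) (hW : torus n R ≤ W)
    (s : Γ(GrTilde.tilde 𝒢 𝒢 d, W)) (a : σ' →₀ ℕ) (k' j : ℕ) (G : MvPolynomial σ' R)
    (hG : G ∈ 𝒢 j) (hj : (j : ℤ) = k' * (Finsupp.degree a : ℕ) + d)
    (h : ∀ (y : ProjectiveSpectrum 𝒢) (hy : (show Proj 𝒢 from y) ∈ torus n R),
      (secVal 𝒢 𝒢 d W s y (hW hy) : Twist.Loc 𝒢 y) =
        Localization.mk G (⟨mono n R a ^ k', mono_pow_not_mem n R a k' y hy⟩ :
          y.asHomogeneousIdeal.toIdeal.primeCompl)) (e : σ' → ℤ) :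
    lauC d W hW s e = lcoef (fun i => ((k' * a i : ℕ) : ℤ)) G e := by
  unfold lauC
  obtain ⟨hF, hi', hval⟩ := rep_spec d W hW s
  generalize repK d W hW s = k at hF hi' hval ⊢
  generalize repI d W hW s = i' at hF hi' hval ⊢
  generalize repF d W hW s = F at hF hi' hval ⊢
  -- the cross-multiplied identity
  have hdeg : k' * Finsupp.degree a + i' = k * (n + 1) + j := by
    have : ((k' * Finsupp.degree a + i' : ℕ) : ℤ) = ((k * (n + 1) + j : ℕ) : ℤ) := by
      push_cast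
      rw [hi', hj]
      ring
    exact_mod_cast this
  have h1 : mono n R a ^ k' * F ∈ 𝒢 (k' * Finsupp.degree a + i') :=
    SetLike.GradedMul.mul_mem (mono_pow_mem n R a k') hF
  have h2 : mono n R (ones n) ^ k * G ∈ 𝒢 (k' * Finsupp.degree a + i') := by
    have := SetLike.GradedMul.mul_mem (mono_pow_mem n R (ones n) k) hG
    rw [degree_ones] at this
    rw [hdeg]
    exact this
  have hg : mono n R (ones n) ∈ 𝒢 (n + 1) := by
    have := mono_mem n R (ones n)
    rwa [degree_ones] at this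
  have h0 := eq_zero_of_local n R (Nat.succ_pos n) hg (isRegular_mono n R (ones n))
    (Submodule.sub_mem _ h1 h2)
    (fun y hy => by
      have hyT := mem_torus_of_not_mem y hy
      have h3 := (hval y hyT).symm.trans (h y hyT)
      rw [Localization.mk_eq_mk_iff, Localization.r_iff_exists] at h3
      obtain ⟨c, hc⟩ := h3
      refine ⟨c.1, c.2, ?_⟩
      simp only at hc
      rw [mul_sub, hc, sub_self])
  have key : mono n R a ^ k' * F = mono n R (ones n) ^ k * G := sub_eq_zero.mp h0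
  rw [mono_pow, mono_pow] at key
  have e1 := lcoef_monomial_mul (fun _ => (k : ℤ)) (k' • a) F e
  have e2 := lcoef_monomial_mul (fun i => ((k' * a i : ℕ) : ℤ)) (k • ones n) G e
  rw [← e1, ← e2]
  unfold mono at key
  rw [key]
  congr 1
  funext i
  simp only [Finsupp.smul_apply, smul_eq_mul, ones_apply, mul_one]
  push_cast
  ring

theorem lauC_map (d : ℤ) {V W : (Proj 𝒢).Opens} (hV : torus n R ≤ V) (hVW : V ≤ W)
    (s : Γ(GrTilde.tilde 𝒢 𝒢 d, W)) (e : σ' → ℤ) :
    lauC d V hV ((GrTilde.tilde 𝒢 𝒢 d).presheaf.map (homOfLE hVW).op s) e =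
      lauC d W (hV.trans hVW) s e := by
  obtain ⟨hF, hi', hval⟩ := rep_spec d W (hV.trans hVW) s
  have h := lauC_eq d V hV ((GrTilde.tilde 𝒢 𝒢 d).presheaf.map (homOfLE hVW).op s) (ones n)
    (repK d W (hV.trans hVW) s) (repI d W (hV.trans hVW) s) (repF d W (hV.trans hVW) s) hF
    (by rw [hi', degree_ones]; push_cast; ring)
    (fun y hy => by
      rw [secVal_map 𝒢 𝒢 d hVW s y (hV hy)]
      exact hval y hy) e
  rw [h]
  unfold lauC
  congr 1
  funext i
  simp

theorem lauC_add (d : ℤ) (W : (Proj 𝒢).Opens) (hW : torus n R ≤ W)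
    (s s' : Γ(GrTilde.tilde 𝒢 𝒢 d, W)) (e : σ' → ℤ) :
    lauC d W hW (s + s') e = lauC d W hW s e + lauC d W hW s' e := by
  obtain ⟨hF, hi, hval⟩ := rep_spec d W hW s
  obtain ⟨hF', hi', hval'⟩ := rep_spec d W hW s'
  have hdef : lauC d W hW s e = lcoef (fun _ => (repK d W hW s : ℤ)) (repF d W hW s) e := rfl
  have hdef' : lauC d W hW s' e = lcoef (fun _ => (repK d W hW s' : ℤ)) (repF d W hW s') e := rfl
  rw [hdef, hdef']
  generalize repK d W hW s = k at hF hi hval ⊢
  generalize repI d W hW s = i at hF hi hval ⊢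
  generalize repF d W hW s = F at hF hi hval ⊢
  generalize repK d W hW s' = k' at hF' hi' hval' ⊢
  generalize repI d W hW s' = i' at hF' hi' hval' ⊢
  generalize repF d W hW s' = F' at hF' hi' hval' ⊢
  have hg : ∀ m : ℕ, mono n R (ones n) ^ m ∈ 𝒢 (m * (n + 1)) := fun m => by
    have := mono_pow_mem n R (ones n) m
    rwa [degree_ones] at this
  obtain ⟨j, hj⟩ : ∃ j : ℕ, (j : ℤ) = ((k + k' : ℕ) : ℤ) * (n + 1) + d := by
    refine ⟨k' * (n + 1) + i, ?_⟩
    push_cast
    rw [hi]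
    ring
  have hj1 : k' * (n + 1) + i = j := by
    have : ((k' * (n + 1) + i : ℕ) : ℤ) = (j : ℤ) := by
      rw [hj]; push_cast; rw [hi]; ring
    exact_mod_cast this
  have hj2 : k * (n + 1) + i' = j := by
    have : ((k * (n + 1) + i' : ℕ) : ℤ) = (j : ℤ) := by
      rw [hj]; push_cast; rw [hi']; ring
    exact_mod_cast this
  have hG1 : mono n R (ones n) ^ k' * F ∈ 𝒢 j := by
    have := SetLike.GradedMul.mul_mem (hg k') hF
    rwa [hj1] at this
  have hG2 : mono n R (ones n) ^ k * F' ∈ 𝒢 j := by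
    have := SetLike.GradedMul.mul_mem (hg k) hF'
    rwa [hj2] at this
  have h := lauC_eq d W hW (s + s') (ones n) (k + k') j
    (mono n R (ones n) ^ k' * F + mono n R (ones n) ^ k * F') (Submodule.add_mem _ hG1 hG2)
    (by rw [hj, degree_ones]; push_cast; ring)
    (fun y hy => by
      rw [secVal_add, hval y hy, hval' y hy, Localization.add_mk, Localization.mk_eq_mk_iff,
        Localization.r_iff_exists]
      refine ⟨1, ?_⟩
      simp only [OneMemClass.coe_one, one_mul, Submonoid.coe_mul]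
      ring) e
  rw [h, lcoef_add, mono_pow, mono_pow]
  have e1 := lcoef_monomial_mul (fun _ => (k : ℤ)) (k' • ones n) F e
  have e2 := lcoef_monomial_mul (fun _ => (k' : ℤ)) (k • ones n) F' e
  rw [← e1, ← e2]
  congr 1
  · congr 1
    funext i
    simp only [Finsupp.smul_apply, smul_eq_mul, ones_apply, mul_one]
    push_cast
    ring
  · congr 1
    funext i
    simp only [Finsupp.smul_apply, smul_eq_mul, ones_apply, mul_one]
    push_cast
    ring

theorem finite_support_lauC (d : ℤ) (W : (Proj 𝒢).Opens) (hW : torus n R ≤ W)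
    (s : Γ(GrTilde.tilde 𝒢 𝒢 d, W)) : {e : σ' → ℤ | lauC d W hW s e ≠ 0}.Finite :=
  finite_support_lcoef _ _

section BasicOpen

/-- a representation of a section over `D₊(X^a)`. -/
theorem exists_basic_rep (d : ℤ) (a : σ' →₀ ℕ) (W : (Proj 𝒢).Opens) (hWa : W = Proj.basicOpen 𝒢 (mono n R a))
    (ha : 0 < Finsupp.degree a) (s : Γ(GrTilde.tilde 𝒢 𝒢 d, W)) :
    ∃ (k j : ℕ) (G : MvPolynomial σ' R) (_ : G ∈ 𝒢 j),
      (j : ℤ) = k * (Finsupp.degree a : ℕ) + d ∧
      ∀ (y : ProjectiveSpectrum 𝒢) (hy : (show Proj 𝒢 from y) ∈ W)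
        (hy' : mono n R a ^ k ∉ y.asHomogeneousIdeal),
        (secVal 𝒢 𝒢 d W s y hy : Twist.Loc 𝒢 y) =
          Localization.mk G (⟨mono n R a ^ k, hy'⟩ :
            y.asHomogeneousIdeal.toIdeal.primeCompl) := by
  subst hWa
  obtain ⟨K, j, ⟨m, hm⟩, hj, hval⟩ := exists_global (toSect 𝒢 𝒢 d _ s) ha (mono_mem n R a)
  refine ⟨K, j, m, hm, hj, fun y hy hy' => ?_⟩
  exact hval ⟨y, hy⟩

theorem lauC_ne_zero (d : ℤ) (a : σ' →₀ ℕ) (W : (Proj 𝒢).Opens) (hWa : W = Proj.basicOpen 𝒢 (mono n R a))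
    (ha : 0 < Finsupp.degree a) (hW : torus n R ≤ W) (s : Γ(GrTilde.tilde 𝒢 𝒢 d, W))
    (e : σ' → ℤ) (he : lauC d W hW s e ≠ 0) :
    ∑ i, e i = d ∧ ∀ i, i ∉ a.support → 0 ≤ e i := by
  obtain ⟨k, j, G, hG, hj, hval⟩ := exists_basic_rep d a W hWa ha s
  have h := lauC_eq d W hW s a k j G hG hj
    (fun y hy => hval y (hW hy) (mono_pow_not_mem n R a k y hy)) e
  rw [h] at he
  obtain ⟨m, hm, hme⟩ := exists_of_lcoef_ne_zero _ G e he
  have hsum := sum_eq_of_isHomogeneous (fun i => ((k * a i : ℕ) : ℤ)) hG e he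
  constructor
  · have h1 : ∑ i, (e i + ((k * a i : ℕ) : ℤ)) = ∑ i, e i + k * (Finsupp.degree a : ℕ) := by
      rw [Finset.sum_add_distrib, Finsupp.degree_eq_sum]
      push_cast
      rw [Finset.mul_sum]
    rw [h1, hj] at hsum
    linarith
  · intro i hi
    have h1 := hme i
    have h2 : a i = 0 := Finsupp.notMem_support_iff.mp hi
    rw [h2, mul_zero, Nat.cast_zero, add_zero] at h1
    rw [← h1]
    exact Int.natCast_nonneg _

theorem eq_zero_of_lauC (d : ℤ) (a : σ' →₀ ℕ) (W : (Proj 𝒢).Opens) (hWa : W = Proj.basicOpen 𝒢 (mono n R a))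
    (ha : 0 < Finsupp.degree a) (hW : torus n R ≤ W) (s : Γ(GrTilde.tilde 𝒢 𝒢 d, W))
    (h0 : ∀ e, lauC d W hW s e = 0) : s = 0 := by
  obtain ⟨k, j, G, hG, hj, hval⟩ := exists_basic_rep d a W hWa ha s
  have hG0 : G = 0 := by
    apply eq_zero_of_lcoef_eq_zero (fun i => ((k * a i : ℕ) : ℤ))
    intro e
    rw [← lauC_eq d W hW s a k j G hG hj
      (fun y hy => hval y (hW hy) (mono_pow_not_mem n R a k y hy)) e]
    exact h0 e
  apply sec_ext
  intro y hy
  have hy' : mono n R a ^ k ∉ y.asHomogeneousIdeal := by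
    intro hmem
    have h1 := y.isPrime.mem_of_pow_mem k hmem
    have h2 : (show Proj 𝒢 from y) ∈ Proj.basicOpen 𝒢 (mono n R a) := hWa ▸ hy
    exact (mem_basicOpen_iff n R _ y).mp h2 h1
  rw [hval y hy hy', hG0, Localization.mk_zero]
  rfl

/-- existence of a section with prescribed Laurent coefficients. -/
theorem exists_of_lauC (d : ℤ) (a : σ' →₀ ℕ) (W : (Proj 𝒢).Opens) (hWa : W = Proj.basicOpen 𝒢 (mono n R a))
    (ha : 0 < Finsupp.degree a) (hW : torus n R ≤ W) (S : Finset (σ' → ℤ)) (r : (σ' → ℤ) → R)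
    (hS : ∀ e ∈ S, ∑ i, e i = d ∧ ∀ i, i ∉ a.support → 0 ≤ e i) :
    ∃ s : Γ(GrTilde.tilde 𝒢 𝒢 d, W), ∀ e, lauC d W hW s e = if e ∈ S then r e else 0 := by
  classical
  let k : ℕ := S.sup (fun e => Finset.univ.sup (fun i => (-e i).toNat)) + d.natAbs
  have hk1 : ∀ e ∈ S, ∀ i, -e i ≤ (k : ℤ) := by
    intro e he i
    have h1 : (-e i).toNat ≤ Finset.univ.sup (fun i => (-e i).toNat) :=
      Finset.le_sup (f := fun i => (-e i).toNat) (Finset.mem_univ i)
    have h2 : Finset.univ.sup (fun i => (-e i).toNat) ≤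
        S.sup (fun e => Finset.univ.sup (fun i => (-e i).toNat)) :=
      Finset.le_sup (f := fun e => Finset.univ.sup (fun i => (-e i).toNat)) he
    have h3 : (-e i).toNat ≤ k := (h1.trans h2).trans (Nat.le_add_right _ _)
    have h4 : -e i ≤ ((-e i).toNat : ℤ) := Int.self_le_toNat _
    have h5 : (((-e i).toNat : ℕ) : ℤ) ≤ (k : ℤ) := by exact_mod_cast h3
    linarith
  have hnn : ∀ e ∈ S, ∀ i, 0 ≤ e i + ((k * a i : ℕ) : ℤ) := by
    intro e he i
    by_cases hi : i ∈ a.support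
    · have hai : 1 ≤ a i := Nat.pos_of_ne_zero (Finsupp.mem_support_iff.mp hi)
      have h1 := hk1 e he i
      have h2 : (k : ℤ) ≤ ((k * a i : ℕ) : ℤ) := by
        have : k ≤ k * a i := Nat.le_mul_of_pos_right k hai
        exact_mod_cast this
      linarith
    · have h1 := (hS e he).2 i hi
      have h2 : (0 : ℤ) ≤ ((k * a i : ℕ) : ℤ) := Int.natCast_nonneg _
      linarith
  have hkd : 0 ≤ (k : ℤ) * (Finsupp.degree a : ℕ) + d := by
    have h1 : (d.natAbs : ℤ) ≤ (k : ℤ) := by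
      have : d.natAbs ≤ k := Nat.le_add_left _ _
      exact_mod_cast this
    have h2 : (1 : ℤ) ≤ ((Finsupp.degree a : ℕ) : ℤ) := by exact_mod_cast ha
    have h3 : (k : ℤ) ≤ (k : ℤ) * (Finsupp.degree a : ℕ) := by
      have hk0 : (0 : ℤ) ≤ (k : ℤ) := Int.natCast_nonneg _
      nlinarith
    have h4 : -d ≤ (d.natAbs : ℤ) := by
      omega
    linarith
  obtain ⟨D, hD⟩ : ∃ D : ℕ, (D : ℤ) = (k : ℤ) * (Finsupp.degree a : ℕ) + d :=
    ⟨((k : ℤ) * (Finsupp.degree a : ℕ) + d).toNat, Int.toNat_of_nonneg hkd⟩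
  let v : σ' → ℤ := fun i => ((k * a i : ℕ) : ℤ)
  have hG : poly S r v ∈ 𝒢 D := by
    apply poly_isHomogeneous S r v hnn D
    intro e he
    rw [Finset.sum_add_distrib, (hS e he).1, hD, Finsupp.degree_eq_sum]
    have hv : ∑ x, v x = ∑ x, (k : ℤ) * (a x : ℤ) :=
      Finset.sum_congr rfl (fun x _ => by simp only [v]; push_cast; rfl)
    rw [hv]
    push_cast
    rw [Finset.mul_sum]
    ring
  have hWk : ∀ y : W, mono n R a ^ k ∉ y.1.asHomogeneousIdeal := by
    intro y hmem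
    have h1 := y.1.isPrime.mem_of_pow_mem k hmem
    have h2 : (show Proj 𝒢 from y.1) ∈ Proj.basicOpen 𝒢 (mono n R a) := hWa ▸ y.2
    exact (mem_basicOpen_iff n R _ y.1).mp h2 h1
  refine ⟨fracSec 𝒢 d W hG (mono_pow_mem n R a k) (by rw [hD]; push_cast; ring) hWk, fun e => ?_⟩
  rw [lauC_eq d W hW _ a k D (poly S r v) hG hD (fun y hy => rfl) e]
  exact lcoef_poly S r v hnn e

end BasicOpen

end Groth.Agent.Lib.Helper27PnLau
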