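import Groth.Agent.Lib.Helper27PnLau
import Groth.Agent.Lib.Helper27GrTildeMul

/-!
# Multiplicativity of the Laurent expansion on `P^n_R` (helper27)

The Laurent expansion of a section of `O(d)` over an open containing the torus, as an element
of the group algebra `R[ℤ^{n+1}]`; it is additive, compatible with restriction and turns
products of sections into products.
-/

set_option autoImplicit false
universe u

open CategoryTheory CategoryTheory.Limits AlgebraicGeometry TopologicalSpace Opposite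
  HomogeneousLocalization MvPolynomial

namespace Groth.Agent.Lib.Helper27PnLauMul

open Groth.Agent.Lib.Helper27GrTildeSect Groth.Agent.Lib.Helper27ProjGamma
  Groth.Agent.Lib.Helper27PnSections Groth.Agent.Lib.Helper27Laurent
  Groth.Agent.Lib.Helper27PnLau

section Alg

variable {σ : Type*} [Fintype σ] {R : Type*} [CommRing R]

/-- the inclusion of exponent vectors into integer vectors. -/
def emb : (σ →₀ ℕ) →+ (σ → ℤ) where
  toFun m := fun i => (m i : ℤ)
  map_zero' := by funext i; simp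
  map_add' m m' := by funext i; simp

theorem emb_apply (m : σ →₀ ℕ) (i : σ) : emb m i = (m i : ℤ) := rfl

theorem emb_injective : Function.Injective (emb (σ := σ)) := by
  intro m m' h
  ext i
  have := congrFun h i
  simpa [emb_apply] using this

/-- polynomials as Laurent polynomials. -/
noncomputable def toL : MvPolynomial σ R →+* AddMonoidAlgebra R (σ → ℤ) :=
  AddMonoidAlgebra.mapDomainRingHom R (emb (σ := σ))

theorem toL_monomial (m : σ →₀ ℕ) (c : R) :
    toL (monomial m c) = AddMonoidAlgebra.single (emb m) c := by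
  rw [← MvPolynomial.single_eq_monomial]
  exact AddMonoidAlgebra.mapDomain_single

theorem coeff_toL_emb (F : MvPolynomial σ R) (m : σ →₀ ℕ) :
    (toL F).coeff (emb m) = coeff m F :=
  Finsupp.mapDomain_apply emb_injective _ _

theorem coeff_toL_of_notMem (F : MvPolynomial σ R) (e : σ → ℤ)
    (he : e ∉ Set.range (emb (σ := σ))) : (toL F).coeff e = 0 :=
  Finsupp.mapDomain_notin_range _ _ he

theorem mem_range_emb_iff (e : σ → ℤ) : e ∈ Set.range (emb (σ := σ)) ↔ ∀ i, 0 ≤ e i := by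
  constructor
  · rintro ⟨m, rfl⟩ i
    exact Int.natCast_nonneg _
  · intro h
    refine ⟨toExp e, ?_⟩
    funext i
    rw [emb_apply, toExp_apply, Int.toNat_of_nonneg (h i)]

/-- the Laurent coefficients of `F · X^{-v}` are the coefficients of the corresponding element
of the group algebra. -/
theorem coeff_toL_mul_single (v : σ → ℤ) (F : MvPolynomial σ R) (e : σ → ℤ) :
    (toL F * AddMonoidAlgebra.single (-v) (1 : R)).coeff e = lcoef v F e := by
  rw [AddMonoidAlgebra.coeff_mul_single_apply, mul_one]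
  by_cases hnn : ∀ i, 0 ≤ e i + v i
  · rw [lcoef_of_nonneg v F e hnn]
    have h1 : e + - -v = emb (toExp (e + v)) := by
      funext i
      rw [emb_apply, toExp_apply, Pi.add_apply, Pi.add_apply, Pi.neg_apply, Pi.neg_apply,
        neg_neg, Int.toNat_of_nonneg (hnn i)]
    rw [h1, coeff_toL_emb]
  · rw [lcoef_of_not_nonneg v F e hnn]
    apply coeff_toL_of_notMem
    rw [mem_range_emb_iff]
    intro h
    apply hnn
    intro i
    have := h i
    rw [Pi.add_apply, Pi.neg_apply, Pi.neg_apply, neg_neg] at this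
    exact this

end Alg

section Lau

variable {n : ℕ} {R : Type u} [CommRing R]

local notation "𝒢" => CohB1.polyGrading n R
local notation "σ'" => Fin (n + 1)

/-- the Laurent expansion of a section of `O(d)` over an open containing the torus. -/
noncomputable def lau (d : ℤ) (W : (Proj 𝒢).Opens) (hW : torus n R ≤ W)
    (s : Γ(GrTilde.tilde 𝒢 𝒢 d, W)) : AddMonoidAlgebra R (σ' → ℤ) :=
  toL (repF d W hW s) * AddMonoidAlgebra.single (-(fun _ => (repK d W hW s : ℤ))) 1

theorem coeff_lau (d : ℤ) (W : (Proj 𝒢).Opens) (hW : torus n R ≤ W)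
    (s : Γ(GrTilde.tilde 𝒢 𝒢 d, W)) (e : σ' → ℤ) :
    (lau d W hW s).coeff e = lauC d W hW s e :=
  coeff_toL_mul_single _ _ e

theorem lau_ext {x y : AddMonoidAlgebra R (σ' → ℤ)} (h : ∀ e, x.coeff e = y.coeff e) : x = y :=
  AddMonoidAlgebra.coeff_injective (Finsupp.ext h)

/-- the Laurent expansion through any monomial-denominator representation on the torus. -/
theorem lau_eq (d : ℤ) (W : (Proj 𝒢).Opens) (hW : torus n R ≤ W)
    (s : Γ(GrTilde.tilde 𝒢 𝒢 d, W)) (a : σ' →₀ ℕ) (k' j : ℕ) (G : MvPolynomial σ' R)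
    (hG : G ∈ 𝒢 j) (hj : (j : ℤ) = k' * (Finsupp.degree a : ℕ) + d)
    (h : ∀ (y : ProjectiveSpectrum 𝒢) (hy : (show Proj 𝒢 from y) ∈ torus n R),
      (secVal 𝒢 𝒢 d W s y (hW hy) : Twist.Loc 𝒢 y) =
        Localization.mk G (⟨mono n R a ^ k', mono_pow_not_mem n R a k' y hy⟩ :
          y.asHomogeneousIdeal.toIdeal.primeCompl)) :
    lau d W hW s =
      toL G * AddMonoidAlgebra.single (-(fun i => ((k' * a i : ℕ) : ℤ))) 1 := by
  apply lau_ext
  intro e
  rw [coeff_lau, coeff_toL_mul_single, lauC_eq d W hW s a k' j G hG hj h e]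

theorem lau_add (d : ℤ) (W : (Proj 𝒢).Opens) (hW : torus n R ≤ W)
    (s s' : Γ(GrTilde.tilde 𝒢 𝒢 d, W)) :
    lau d W hW (s + s') = lau d W hW s + lau d W hW s' := by
  apply lau_ext
  intro e
  rw [AddMonoidAlgebra.coeff_add, Finsupp.add_apply, coeff_lau, coeff_lau, coeff_lau, lauC_add]

theorem lau_map (d : ℤ) {V W : (Proj 𝒢).Opens} (hV : torus n R ≤ V) (hVW : V ≤ W)
    (s : Γ(GrTilde.tilde 𝒢 𝒢 d, W)) :
    lau d V hV ((GrTilde.tilde 𝒢 𝒢 d).presheaf.map (homOfLE hVW).op s) =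
      lau d W (hV.trans hVW) s := by
  apply lau_ext
  intro e
  rw [coeff_lau, coeff_lau, lauC_map]

/-- the Laurent expansion is multiplicative. -/
theorem lau_mulSec {p k q : ℤ} (h : p + k = q) (W : (Proj 𝒢).Opens) (hW : torus n R ≤ W)
    (s : Γ(GrTilde.tilde 𝒢 𝒢 p, W)) (t : Γ(GrTilde.tilde 𝒢 𝒢 k, W)) :
    lau q W hW (mulSec 𝒢 𝒢 h W s t) = lau p W hW s * lau k W hW t := by
  obtain ⟨hF, hi, hval⟩ := rep_spec p W hW s
  obtain ⟨hF', hi', hval'⟩ := rep_spec k W hW t
  have hdef : lau p W hW s = toL (repF p W hW s) *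
      AddMonoidAlgebra.single (-(fun _ => (repK p W hW s : ℤ))) 1 := rfl
  have hdef' : lau k W hW t = toL (repF k W hW t) *
      AddMonoidAlgebra.single (-(fun _ => (repK k W hW t : ℤ))) 1 := rfl
  rw [hdef, hdef']
  generalize repK p W hW s = K at hF hi hval ⊢
  generalize repI p W hW s = i at hF hi hval ⊢
  generalize repF p W hW s = F at hF hi hval ⊢
  generalize repK k W hW t = K' at hF' hi' hval' ⊢
  generalize repI k W hW t = i' at hF' hi' hval' ⊢
  generalize repF k W hW t = F' at hF' hi' hval' ⊢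
  have hFF : F * F' ∈ 𝒢 (i + i') := SetLike.GradedMul.mul_mem hF hF'
  rw [lau_eq q W hW (mulSec 𝒢 𝒢 h W s t) (ones n) (K + K') (i + i') (F * F') hFF
    (by rw [degree_ones]; push_cast; rw [hi, hi', ← h]; ring)
    (fun y hy => by
      rw [secVal_mulSec]
      change (secVal 𝒢 𝒢 k W t y (hW hy) : Twist.Loc 𝒢 y) *
        (secVal 𝒢 𝒢 p W s y (hW hy) : Twist.Loc 𝒢 y) = _
      rw [hval y hy, hval' y hy, Localization.mk_mul, Localization.mk_eq_mk_iff,
        Localization.r_iff_exists]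
      refine ⟨1, ?_⟩
      simp only [OneMemClass.coe_one, one_mul, Submonoid.coe_mul]
      ring)]
  rw [map_mul, mul_mul_mul_comm, AddMonoidAlgebra.single_mul_single, mul_one]
  congr 2
  funext j
  simp only [ones_apply, mul_one, Pi.add_apply, Pi.neg_apply]
  push_cast
  ring

theorem lau_zero (d : ℤ) (W : (Proj 𝒢).Opens) (hW : torus n R ≤ W) :
    lau d W hW (0 : Γ(GrTilde.tilde 𝒢 𝒢 d, W)) = 0 := by
  have h := lau_add d W hW 0 0
  rw [add_zero] at h
  exact left_eq_add.mp h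

theorem lau_neg (d : ℤ) (W : (Proj 𝒢).Opens) (hW : torus n R ≤ W)
    (s : Γ(GrTilde.tilde 𝒢 𝒢 d, W)) : lau d W hW (-s) = -lau d W hW s := by
  have h := lau_add d W hW s (-s)
  rw [add_neg_cancel, lau_zero] at h
  exact (neg_eq_of_add_eq_zero_right h.symm).symm

theorem lau_sub (d : ℤ) (W : (Proj 𝒢).Opens) (hW : torus n R ≤ W)
    (s s' : Γ(GrTilde.tilde 𝒢 𝒢 d, W)) :
    lau d W hW (s - s') = lau d W hW s - lau d W hW s' := by
  rw [sub_eq_add_neg, lau_add, lau_neg, sub_eq_add_neg]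

/-- on a basic open of a monomial the Laurent expansion is injective. -/
theorem lau_injective (d : ℤ) (a : σ' →₀ ℕ) (W : (Proj 𝒢).Opens)
    (hWa : W = Proj.basicOpen 𝒢 (mono n R a)) (ha : 0 < Finsupp.degree a)
    (hW : torus n R ≤ W) (s s' : Γ(GrTilde.tilde 𝒢 𝒢 d, W))
    (h : lau d W hW s = lau d W hW s') : s = s' := by
  rw [← sub_eq_zero]
  apply eq_zero_of_lauC d a W hWa ha hW
  intro e
  rw [← coeff_lau, lau_sub, h, sub_self]
  rfl

theorem one_not_mem (y : ProjectiveSpectrum 𝒢) :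
    (1 : MvPolynomial σ' R) ∉ y.asHomogeneousIdeal := fun h =>
  y.isPrime.ne_top ((Ideal.eq_top_iff_one _).mpr h)

/-- the unit section of `O(0)`. -/
noncomputable def one₀ (W : (Proj 𝒢).Opens) : Γ(GrTilde.tilde 𝒢 𝒢 0, W) :=
  fracSec 𝒢 0 W (i := 0) (j := 0) (a := 1) (b := 1) SetLike.GradedOne.one_mem
    SetLike.GradedOne.one_mem (by simp) (fun y => one_not_mem y.1)

theorem secVal_one₀ (W : (Proj 𝒢).Opens) (y : ProjectiveSpectrum 𝒢) (hy : y ∈ W) :
    (secVal 𝒢 𝒢 0 W (one₀ W) y hy : Twist.Loc 𝒢 y) = 1 :=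
  Localization.mk_self (⟨1, one_not_mem y⟩ : y.asHomogeneousIdeal.toIdeal.primeCompl)

/-- scalar multiplication by a function as a product with a section of `O(0)`. -/
theorem smul_eq_mulSec (d : ℤ) (W : (Proj 𝒢).Opens) (r : Γ(Proj 𝒢, W))
    (s : Γ(GrTilde.tilde 𝒢 𝒢 d, W)) :
    r • s = mulSec 𝒢 𝒢 (add_zero d) W s (r • one₀ W) := by
  apply sec_ext
  intro y hy
  rw [secVal_mulSec]
  change (secVal 𝒢 𝒢 d W (r • s) y hy : Twist.Loc 𝒢 y) =
    (secVal 𝒢 𝒢 0 W (r • one₀ W) y hy : Twist.Loc 𝒢 y) *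
      (secVal 𝒢 𝒢 d W s y hy : Twist.Loc 𝒢 y)
  rw [secVal_smul', secVal_smul', secVal_one₀, mul_one]

/-- the Laurent expansion of a function. -/
noncomputable def lauF (W : (Proj 𝒢).Opens) (hW : torus n R ≤ W) (r : Γ(Proj 𝒢, W)) :
    AddMonoidAlgebra R (σ' → ℤ) :=
  lau 0 W hW (r • one₀ W)

theorem lau_smul (d : ℤ) (W : (Proj 𝒢).Opens) (hW : torus n R ≤ W) (r : Γ(Proj 𝒢, W))
    (s : Γ(GrTilde.tilde 𝒢 𝒢 d, W)) :
    lau d W hW (r • s) = lau d W hW s * lauF W hW r := by
  rw [smul_eq_mulSec, lau_mulSec]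
  rfl

/-- the Laurent expansion of the section `F / 1` of `O(k)` defined by a form of degree `k`. -/
theorem lau_fracSec_one (k : ℤ) (j : ℕ) (hjk : (j : ℤ) = 0 + k) (F : MvPolynomial σ' R)
    (hF : F ∈ 𝒢 j) (W : (Proj 𝒢).Opens) (hW : torus n R ≤ W) :
    lau k W hW (fracSec 𝒢 k W hF (SetLike.GradedOne.one_mem (A := 𝒢)) hjk
      (fun y => one_not_mem y.1)) = toL F := by
  rw [lau_eq k W hW _ (ones n) 0 j F hF (by rw [hjk]; simp)
    (fun y hy => by
      rw [secVal_fracSec, Localization.mk_eq_mk_iff, Localization.r_iff_exists]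
      refine ⟨1, ?_⟩
      simp)]
  have h0 : (-(fun i => ((0 * ones n i : ℕ) : ℤ)) : σ' → ℤ) = 0 := by
    funext i
    simp
  rw [h0]
  exact mul_one _

/-- the basis vector of `ℤ^{n+1}`. -/
def ev (i : σ') (a : ℤ) : σ' → ℤ := fun j => if j = i then a else 0

/-- the Laurent expansion of the generator `X_i^a` of `O(a)` over `D₊(X_i)`. -/
theorem lau_zsec (i : σ') (a : ℤ) (p q : ℕ) (h : (p : ℤ) = q + a) (W : (Proj 𝒢).Opens)
    (hW : torus n R ≤ W) (hWi : W ≤ Proj.basicOpen 𝒢 (X i : MvPolynomial σ' R)) :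
    lau a W hW ((GrTilde.tilde 𝒢 𝒢 a).presheaf.map (homOfLE hWi).op
      (zsec (hX n R i) a p q h)) = AddMonoidAlgebra.single (ev i a) 1 := by
  have hmono : (X i : MvPolynomial σ' R) = mono n R (Finsupp.single i 1) := rfl
  have hXp : (X i : MvPolynomial σ' R) ^ p ∈ 𝒢 p := pow_mem_one (hX n R i) p
  rw [lau_eq a W hW _ (Finsupp.single i 1) q p ((X i : MvPolynomial σ' R) ^ p) hXp
    (by rw [Finsupp.degree_single]; push_cast; rw [h]; ring)
    (fun y hy => by
      rw [secVal_map]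
      exact secVal_fracSec 𝒢 a _ _ _ h _ y _)]
  have h1 : (X i : MvPolynomial σ' R) ^ p = monomial (p • Finsupp.single i 1) 1 := by
    rw [hmono, mono_pow]
  rw [h1, toL_monomial, AddMonoidAlgebra.single_mul_single, mul_one]
  congr 1
  funext j
  rw [Pi.add_apply, Pi.neg_apply, emb_apply, Finsupp.smul_apply, Finsupp.single_apply, ev]
  by_cases hji : j = i
  · subst hji
    simp only [if_true, smul_eq_mul, mul_one]
    omega
  · rw [if_neg (Ne.symm hji), if_neg hji]
    simp

end Lau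

end Groth.Agent.Lib.Helper27PnLauMul
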