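import Mathlib
import Groth.Agent.Lib.Helper27ClosedTransfer
import Groth.Agent.Lib.Helper27LesDim
import Groth.Agent.Lib.Helper21ExtCartier2
import Groth.Agent.Lib.Helper23AffVanish7
import Groth.Agent.Lib.Helper23InvDual
import Groth.Agent.Lib.Helper23SecTw10
import Groth.Agent.Lib.Helper23PB
import Groth.Agent.Lib.Helper23TensorQCoh

/-!
# Helper27: vanishing for quotients supported in an affine open; exactness at `H^{i+1}(X₁)`

* `isAffine_subscheme_of_support_le` : a closed subscheme whose support lies in an affine open is affine.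
* `subsingleton_HH_quotMod_tensor` : `H^q(X, (O_X/I) ⊗ L) = 0` for `q > 0`, `L` invertible,
  `V(I)` inside an affine open.
* `subsingleton_X₁_succ` : `H^{i+1}(X₁) = 0` if `H^i(X₃) = 0` and `H^{i+1}(X₂) = 0`.
-/

set_option autoImplicit false
set_option linter.style.haveILetI false
universe u
open CategoryTheory Limits AlgebraicGeometry TopologicalSpace Opposite

namespace Groth.Agent.Lib.Helper27PointVan

variable {X : Scheme.{u}}

theorem isAffine_subscheme_of_support_le (I : X.IdealSheafData) (U : X.Opens)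
    (hU : IsAffineOpen U) (h : (I.support : Set X) ⊆ U) : IsAffine I.subscheme := by
  have h1 : I.subschemeι ⁻¹ᵁ U = ⊤ := by
    rw [eq_top_iff]
    intro z _
    apply h
    rw [← I.range_subschemeι]
    exact ⟨z, rfl⟩
  have h2 : IsAffineOpen (I.subschemeι ⁻¹ᵁ U) := hU.preimage I.subschemeι
  rw [h1] at h2
  haveI : IsAffine ((⊤ : I.subscheme.Opens) : Scheme.{u}) := h2
  exact IsAffine.of_isIso (Scheme.topIso I.subscheme).inv

theorem subsingleton_HH_quotMod_tensor (I : X.IdealSheafData) (U : X.Opens)
    (hU : IsAffineOpen U) (h : (I.support : Set X) ⊆ U) (L : X.Modules)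
    (hL : PicF.IsInvertible L) (q : ℕ) (hq : 0 < q) :
    Subsingleton (Coh.HH X (CohB1.tensorMod (ClSub.quotMod I) L) q) := by
  haveI := isAffine_subscheme_of_support_le I U hU h
  obtain ⟨e⟩ := Groth.Agent.Lib.Helper23.InvDual.nonempty_tensorMod_dual_iso L hL
  obtain ⟨c⟩ := Groth.Agent.Lib.Helper23.SecTw.nonempty_tensorMod_comm_iso (RefHull.dual L) L
    (Groth.Agent.Lib.Helper23.InvDual.isInvertible_dual L hL) hL
  refine (Groth.Agent.Lib.Helper27ClosedTransfer.subsingleton_HH_twist_iff I.subschemeι L
    (RefHull.dual L) e (c ≪≫ e) (Coh.structureModule I.subscheme) q).mp ?_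
  haveI : (Coh.structureModule I.subscheme).IsQuasicoherent :=
    Groth.Agent.Lib.Helper23.Serre.isQuasicoherent_structureModule' _
  haveI : ((Scheme.Modules.pullback I.subschemeι).obj L).IsQuasicoherent :=
    Groth.Agent.Lib.Helper23.SecTw.isQuasicoherent_of_isInvertible _
      (Groth.Agent.Lib.Helper23.PB.isInvertible_pullback I.subschemeι L hL)
  haveI := Groth.Agent.Lib.Helper23.TensorQCoh.isQuasicoherent_tensorMod
    (Coh.structureModule I.subscheme) ((Scheme.Modules.pullback I.subschemeι).obj L)
  exact Groth.Agent.Lib.Helper23.AffVanish.subsingleton_HH _ q hq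

section LES

open Groth.Agent.Lib.Helper27LesDim Groth.Agent.Lib.Helper27LesLin

theorem subsingleton_X₁_succ (k : Type u) [Field k] [X.Over (Spec (CommRingCat.of k))]
    (S : ShortComplex X.Modules) (hS : S.ShortExact) (i : ℕ) (h3 : Subsingleton (Coh.HH X S.X₃ i))
    (h2 : Subsingleton (Coh.HH X S.X₂ (i + 1))) : Subsingleton (Coh.HH X S.X₁ (i + 1)) := by
  have key : ∀ x : Coh.HH X S.X₁ (i + 1), x = 0 := by
    intro x
    have hx : x ∈ LinearMap.ker (Canon.HHlin k S.f (i + 1)) := by
      rw [LinearMap.mem_ker]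
      exact Subsingleton.elim _ _
    rw [← range_delta_eq_ker_f k S hS i] at hx
    obtain ⟨y, rfl⟩ := hx
    rw [Subsingleton.elim y 0, map_zero]
  exact ⟨fun x y => (key x).trans (key y).symm⟩

end LES

end Groth.Agent.Lib.Helper27PointVan
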