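import Groth.Agent.Lib.Helper27PolyGraded

/-!
# `B = A[z]` graded, `z` of degree one: `B_(z) ≅ A` (helper27)
-/

set_option autoImplicit false
universe u

open HomogeneousLocalization
open scoped HomogeneousIdeal

namespace Groth.Agent.Lib.Helper27PolyGraded

variable {A B σ τ : Type u} [CommRing A] [CommRing B] [SetLike σ A] [AddSubgroupClass σ A]
  [SetLike τ B] [AddSubgroupClass τ B] {𝒜 : ℕ → σ} {ℬ : ℕ → τ} [GradedRing 𝒜] [GradedRing ℬ]
  (ψ : 𝒜 →+*ᵍ ℬ) {z : B} (hz : z ∈ ℬ 1)
  (hbij : Function.Bijective (Polynomial.eval₂RingHom (ψ : A →+* B) z))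

/-- the presentation `A[X] ≅ B`. -/
noncomputable def polyEquiv : Polynomial A ≃+* B := RingEquiv.ofBijective _ hbij

theorem polyEquiv_apply (p : Polynomial A) :
    polyEquiv ψ hbij p = Polynomial.eval₂ (ψ : A →+* B) z p := rfl

/-- "set `z = 1`". -/
noncomputable def evalOne : B →+* A :=
  (Polynomial.evalRingHom 1).comp (polyEquiv ψ hbij).symm.toRingHom

theorem evalOne_ψ (x : A) : evalOne ψ hbij (ψ x) = x := by
  have e : polyEquiv ψ hbij (Polynomial.C x) = ψ x := by
    rw [polyEquiv_apply, Polynomial.eval₂_C]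
    rfl
  rw [evalOne, RingHom.comp_apply, ← e]
  simp

theorem evalOne_z : evalOne ψ hbij z = 1 := by
  have e : polyEquiv ψ hbij Polynomial.X = z := by
    rw [polyEquiv_apply, Polynomial.eval₂_X]
  have h1 : evalOne ψ hbij z = evalOne ψ hbij (polyEquiv ψ hbij Polynomial.X) := by rw [e]
  rw [h1, evalOne, RingHom.comp_apply]
  simp

/-- the homomorphism `B_(z) → A`, `x / z^k ↦ x(z = 1)`. -/
noncomputable def awayToBase : Away ℬ z →+* A :=
  (IsLocalization.Away.lift z (g := evalOne ψ hbij)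
      (by rw [evalOne_z]; exact isUnit_one)).comp
    (algebraMap (Away ℬ z) (Localization.Away z))

theorem awayToBase_of_val (q : Away ℬ z) (x : B) (k : ℕ)
    (hq : q.val = Localization.mk x ⟨z ^ k, _root_.pow_mem (Submonoid.mem_powers _) k⟩) :
    awayToBase ψ hbij q = evalOne ψ hbij x := by
  rw [awayToBase, RingHom.comp_apply, HomogeneousLocalization.algebraMap_apply, hq,
    Localization.mk_eq_mk', IsLocalization.Away.lift, IsLocalization.lift_mk'_spec]
  simp [map_pow, evalOne_z]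

theorem awayToBase_mk (n : ℕ) (a : B) (ha : a ∈ ℬ (n • 1)) :
    awayToBase ψ hbij (Away.mk ℬ hz n a ha) = evalOne ψ hbij a :=
  awayToBase_of_val ψ hbij _ a n (Away.val_mk ..)

include hz in
theorem awayToBase_injective : Function.Injective (awayToBase ψ hbij) := by
  rw [injective_iff_map_eq_zero]
  intro q hq
  obtain ⟨n, a, ha, rfl⟩ := Away.mk_surjective ℬ hz q
  rw [awayToBase_mk] at hq
  have ha' : a ∈ ℬ n := by simpa using ha
  have hpa : Polynomial.eval₂ (ψ : A →+* B) z ((polyEquiv ψ hbij).symm a) = a :=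
    (polyEquiv ψ hbij).apply_symm_apply a
  have hp0 : (polyEquiv ψ hbij).symm a = 0 :=
    eq_zero_of_eval_one ψ hz hbij.1 _ (hpa.symm ▸ ha') hq
  have ha0 : a = 0 := by
    rw [← hpa, hp0, Polynomial.eval₂_zero]
  subst ha0
  apply HomogeneousLocalization.val_injective
  rw [Away.val_mk, HomogeneousLocalization.val_zero, Localization.mk_zero]

include hz in
theorem awayToBase_surjective : Function.Surjective (awayToBase ψ hbij) := by
  classical
  intro x
  have hk : ∀ k, ((DirectSum.decompose 𝒜 x k : 𝒜 k) : A) ∈ (awayToBase ψ hbij).range := by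
    intro k
    have hmem : ψ ((DirectSum.decompose 𝒜 x k : 𝒜 k) : A) ∈ ℬ (k • 1) := by
      rw [smul_eq_mul, mul_one]
      exact ψ.2 (SetLike.coe_mem _)
    refine ⟨Away.mk ℬ hz k _ hmem, ?_⟩
    rw [awayToBase_mk]
    exact evalOne_ψ ψ hbij _
  have := Subring.sum_mem (awayToBase ψ hbij).range
    (fun k (_ : k ∈ (DirectSum.decompose 𝒜 x).support) => hk k)
  rw [DirectSum.sum_support_decompose 𝒜 x] at this
  exact this

include hz hbij in
theorem exists_equiv : ∃ θ : A ≃+* Away ℬ z, ∀ (n : ℕ) (a : A), a ∈ 𝒜 n →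
    (θ a).val = Localization.mk (ψ a) ⟨z ^ n, _root_.pow_mem (Submonoid.mem_powers z) n⟩ := by
  let e : Away ℬ z ≃+* A := RingEquiv.ofBijective (awayToBase ψ hbij)
    ⟨awayToBase_injective ψ hz hbij, awayToBase_surjective ψ hz hbij⟩
  refine ⟨e.symm, fun n a ha => ?_⟩
  have hmem : ψ a ∈ ℬ (n • 1) := by
    rw [smul_eq_mul, mul_one]
    exact ψ.2 ha
  have h1 : e (Away.mk ℬ hz n (ψ a) hmem) = a := by
    change awayToBase ψ hbij _ = a
    rw [awayToBase_mk]
    exact evalOne_ψ ψ hbij a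
  have h2 : e.symm a = Away.mk ℬ hz n (ψ a) hmem := (RingEquiv.symm_apply_eq e).mpr h1.symm
  rw [h2, Away.val_mk]

end Groth.Agent.Lib.Helper27PolyGraded
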