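import Mathlib.AlgebraicGeometry.ProjectiveSpectrum.Basic
import Mathlib.AlgebraicGeometry.ProjectiveSpectrum.Functor

/-!
# Morphisms between `Proj`'s given on charts: the induced maps on sections (helper27)

For `π : Proj 𝒜 ⟶ Proj 𝒞` with `awayι 𝒜 f ≫ π = Spec.map θ ≫ awayι 𝒞 c`:
* `le_preimage_of_chart`: `D₊(f) ≤ π⁻¹ D₊(c)`;
* `awayToSection_comp_appLE`: through `(A_f)₀ ≅ Γ(D₊(f))` the map `π.appLE D₊(c) D₊(f)` is `θ`.
-/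

set_option autoImplicit false
universe u

open CategoryTheory CategoryTheory.Limits AlgebraicGeometry HomogeneousLocalization
  TopologicalSpace Opposite

namespace Groth.Agent.Lib.Helper27ProjChartApp

variable {R A C : Type u} [CommRing R] [CommRing A] [Algebra R A] (𝒜 : ℕ → Submodule R A)
  [GradedAlgebra 𝒜] [CommRing C] [Algebra R C] (𝒞 : ℕ → Submodule R C) [GradedAlgebra 𝒞]

variable {𝒜 𝒞}

theorem le_preimage_of_chart (π : Proj 𝒜 ⟶ Proj 𝒞) {m n : ℕ} {f : A} {c : C} (hf : f ∈ 𝒜 m)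
    (hm : 0 < m) (hc : c ∈ 𝒞 n) (hn : 0 < n)
    (θ : CommRingCat.of (Away 𝒞 c) ⟶ CommRingCat.of (Away 𝒜 f))
    (h : Proj.awayι 𝒜 f hf hm ≫ π = Spec.map θ ≫ Proj.awayι 𝒞 c hc hn) :
    Proj.basicOpen 𝒜 f ≤ π ⁻¹ᵁ Proj.basicOpen 𝒞 c := by
  rw [← Proj.opensRange_awayι 𝒜 f hf hm]
  rintro _ ⟨y, rfl⟩
  have h1 : π ((Proj.awayι 𝒜 f hf hm) y) = (Proj.awayι 𝒞 c hc hn) ((Spec.map θ) y) :=
    congrArg (fun ψ : Spec (CommRingCat.of (Away 𝒜 f)) ⟶ Proj 𝒞 => ψ y) h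
  change π ((Proj.awayι 𝒜 f hf hm) y) ∈ Proj.basicOpen 𝒞 c
  rw [h1, ← Proj.opensRange_awayι 𝒞 c hc hn]
  exact ⟨_, rfl⟩

theorem awayToSection_comp_appLE (π : Proj 𝒜 ⟶ Proj 𝒞) {m n : ℕ} {f : A} {c : C} (hf : f ∈ 𝒜 m)
    (hm : 0 < m) (hc : c ∈ 𝒞 n) (hn : 0 < n)
    (θ : CommRingCat.of (Away 𝒞 c) ⟶ CommRingCat.of (Away 𝒜 f))
    (h : Proj.awayι 𝒜 f hf hm ≫ π = Spec.map θ ≫ Proj.awayι 𝒞 c hc hn)
    (e : Proj.basicOpen 𝒜 f ≤ π ⁻¹ᵁ Proj.basicOpen 𝒞 c) :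
    Proj.awayToSection 𝒞 c ≫ π.appLE (Proj.basicOpen 𝒞 c) (Proj.basicOpen 𝒜 f) e =
      θ ≫ Proj.awayToSection 𝒜 f := by
  have h1 : (Proj.basicOpenIsoSpec 𝒜 f hf hm).inv ≫ π.resLE _ _ e =
      Spec.map θ ≫ (Proj.basicOpenIsoSpec 𝒞 c hc hn).inv := by
    rw [← cancel_mono (Proj.basicOpen 𝒞 c).ι, Category.assoc, Scheme.Hom.resLE_comp_ι,
      Category.assoc, Proj.basicOpenIsoSpec_inv_ι, ← Category.assoc, Proj.basicOpenIsoSpec_inv_ι]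
    exact h
  have h2 : π.resLE _ _ e ≫ Proj.basicOpenToSpec 𝒞 c = Proj.basicOpenToSpec 𝒜 f ≫ Spec.map θ := by
    rw [← Proj.basicOpenIsoSpec_hom 𝒞 c hc hn, ← Proj.basicOpenIsoSpec_hom 𝒜 f hf hm,
      ← Iso.inv_comp_eq, ← Category.assoc, h1, Category.assoc, Iso.inv_hom_id, Category.comp_id]
  unfold Proj.basicOpenToSpec at h2
  rw [← Category.assoc, ← Scheme.Opens.toSpecΓ_SpecMap_appLE, Category.assoc, Category.assoc,
    ← Spec.map_comp, ← Spec.map_comp] at h2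
  have hiso : IsIso (Proj.basicOpen 𝒜 f).toSpecΓ :=
    (inferInstance : IsIso (Proj.isAffineOpen_basicOpen 𝒜 f hf hm).isoSpec.hom)
  exact Spec.map_injective ((cancel_epi _).mp h2)

theorem bijective_awayToSection {m : ℕ} {f : A} (hf : f ∈ 𝒜 m) (hm : 0 < m) :
    Function.Bijective (Proj.awayToSection 𝒜 f).hom := by
  have h : IsIso (Proj.awayToSection 𝒜 f) := by
    rw [← Proj.basicOpenIsoAway_hom 𝒜 f hf hm]
    infer_instance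
  exact (ConcreteCategory.isIso_iff_bijective _).mp h

theorem basicOpen_ι_eq {m : ℕ} {f : A} (hf : f ∈ 𝒜 m) (hm : 0 < m) :
    (Proj.basicOpen 𝒜 f).ι = (Proj.basicOpenIsoSpec 𝒜 f hf hm).hom ≫ Proj.awayι 𝒜 f hf hm := by
  rw [← Proj.basicOpenIsoSpec_inv_ι, Iso.hom_inv_id_assoc]

end Groth.Agent.Lib.Helper27ProjChartApp
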