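import Mathlib

/-!
# Codimension one irreducible closed subsets of projective space are irreducible hypersurfaces
-/

set_option autoImplicit false
universe u

open AlgebraicGeometry Order

namespace Groth.Agent.Lib.Helper27ProjCodimOne

section General

variable {R A : Type u} [CommRing R] [CommRing A] [Algebra R A] (𝒜 : ℕ → Submodule R A)
  [GradedAlgebra 𝒜]

instance : QuasiSober (ProjectiveSpectrum 𝒜) := inferInstanceAs (QuasiSober ↥(Proj 𝒜))

instance : T0Space (ProjectiveSpectrum 𝒜) := inferInstanceAs (T0Space ↥(Proj 𝒜))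

theorem specializes_iff_le (a b : ProjectiveSpectrum 𝒜) : a ⤳ b ↔ a ≤ b := by
  rw [specializes_iff_mem_closure, ProjectiveSpectrum.le_iff_mem_closure]

/-- The generic point of an irreducible closed subset. -/
noncomputable def gen (Z : TopologicalSpace.IrreducibleCloseds (ProjectiveSpectrum 𝒜)) :
    ProjectiveSpectrum 𝒜 :=
  Z.isIrreducible.genericPoint

theorem gen_spec (Z : TopologicalSpace.IrreducibleCloseds (ProjectiveSpectrum 𝒜)) :
    IsGenericPoint (gen 𝒜 Z) (Z : Set (ProjectiveSpectrum 𝒜)) :=
  Z.isIrreducible.isGenericPoint_genericPoint Z.isClosed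

theorem mem_iff_gen_le (Z : TopologicalSpace.IrreducibleCloseds (ProjectiveSpectrum 𝒜))
    (x : ProjectiveSpectrum 𝒜) : x ∈ (Z : Set (ProjectiveSpectrum 𝒜)) ↔ gen 𝒜 Z ≤ x := by
  rw [← specializes_iff_le, (gen_spec 𝒜 Z).specializes_iff_mem]

theorem coe_eq_zeroLocus (Z : TopologicalSpace.IrreducibleCloseds (ProjectiveSpectrum 𝒜)) :
    (Z : Set (ProjectiveSpectrum 𝒜)) =
      ProjectiveSpectrum.zeroLocus 𝒜 ((gen 𝒜 Z).asHomogeneousIdeal : Set A) := by
  ext x
  rw [mem_iff_gen_le, ProjectiveSpectrum.mem_zeroLocus]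
  rfl

/-- The order isomorphism between irreducible closed subsets and points (reversed order). -/
noncomputable def genIso :
    TopologicalSpace.IrreducibleCloseds (ProjectiveSpectrum 𝒜) ≃o (ProjectiveSpectrum 𝒜)ᵒᵈ where
  toFun Z := OrderDual.toDual (gen 𝒜 Z)
  invFun x := ⟨closure {OrderDual.ofDual x}, isIrreducible_singleton.closure, isClosed_closure⟩
  left_inv Z := by
    apply TopologicalSpace.IrreducibleCloseds.ext
    exact (gen_spec 𝒜 Z).def
  right_inv x := by
    apply OrderDual.ofDual.injective
    exact (gen_spec 𝒜 _).eq isGenericPoint_closure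
  map_rel_iff' := by
    intro Z W
    change gen 𝒜 W ≤ gen 𝒜 Z ↔ Z ≤ W
    rw [← mem_iff_gen_le]
    constructor
    · intro h
      change (Z : Set (ProjectiveSpectrum 𝒜)) ⊆ (W : Set (ProjectiveSpectrum 𝒜))
      rw [← (gen_spec 𝒜 Z).def]
      exact closure_minimal (Set.singleton_subset_iff.mpr h) W.isClosed
    · intro h
      exact h (gen_spec 𝒜 Z).mem

theorem coheight_eq_height_gen (Z : TopologicalSpace.IrreducibleCloseds (ProjectiveSpectrum 𝒜)) :
    Order.coheight Z = Order.height (gen 𝒜 Z) := by
  rw [← Order.coheight_orderIso (genIso 𝒜) Z]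
  rfl

end General

section Poly

open MvPolynomial

variable (k : Type u) [Field k] (n : ℕ)

/-- The grading of the polynomial ring by total degree. -/
noncomputable abbrev grad : ℕ → Submodule k (MvPolynomial (Fin (n + 1)) k) :=
  MvPolynomial.homogeneousSubmodule (Fin (n + 1)) k

variable [inst : GradedAlgebra (grad k n)]

theorem decompose_eq (a : MvPolynomial (Fin (n + 1)) k) (i : ℕ) :
    (DirectSum.decompose (grad k n) a i : MvPolynomial (Fin (n + 1)) k) =
      homogeneousComponent i a := by
  classical
  conv_lhs => rw [← MvPolynomial.sum_homogeneousComponent a]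
  rw [DirectSum.decompose_sum, DFinsupp.finsetSum_apply, AddSubmonoidClass.coe_finsetSum]
  have key : ∀ j ∈ Finset.range (a.totalDegree + 1),
      ((DirectSum.decompose (grad k n) (homogeneousComponent j a) i : grad k n i) :
        MvPolynomial (Fin (n + 1)) k) = if j = i then homogeneousComponent j a else 0 := by
    intro j _
    split_ifs with h
    · subst h
      rw [DirectSum.decompose_of_mem_same _ (homogeneousComponent_mem j a)]
    · rw [DirectSum.decompose_of_mem_ne _ (homogeneousComponent_mem j a) h]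
  rw [Finset.sum_congr rfl key, Finset.sum_ite_eq']
  split_ifs with h
  · rfl
  · rw [homogeneousComponent_eq_zero]
    simpa using h

theorem homogeneousComponent_mem_of_mem (P : ProjectiveSpectrum (grad k n))
    {a : MvPolynomial (Fin (n + 1)) k} (ha : a ∈ P.asHomogeneousIdeal) (i : ℕ) :
    homogeneousComponent i a ∈ P.asHomogeneousIdeal := by
  rw [← decompose_eq]
  exact P.asHomogeneousIdeal.isHomogeneous i ha

theorem X_zero_mem_irrelevant :
    (X 0 : MvPolynomial (Fin (n + 1)) k) ∈ HomogeneousIdeal.irrelevant (grad k n) :=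
  HomogeneousIdeal.mem_irrelevant_of_mem _ (i := 1) Nat.zero_lt_one
    ((MvPolynomial.mem_homogeneousSubmodule _ _).mpr (MvPolynomial.isHomogeneous_X k 0))

/-- The generic point of projective space. -/
noncomputable def botPt : ProjectiveSpectrum (grad k n) where
  asHomogeneousIdeal := ⊥
  isPrime := by
    rw [HomogeneousIdeal.toIdeal_bot]
    exact Ideal.isPrime_bot
  not_irrelevant_le := by
    intro h
    have h1 := h (X_zero_mem_irrelevant k n)
    have h2 : (X 0 : MvPolynomial (Fin (n + 1)) k) = 0 := h1
    exact X_ne_zero _ h2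

theorem botPt_le (x : ProjectiveSpectrum (grad k n)) : botPt k n ≤ x := by
  change (⊥ : HomogeneousIdeal (grad k n)) ≤ x.asHomogeneousIdeal
  exact bot_le

theorem isMin_botPt : IsMin (botPt k n) := fun x _ => botPt_le k n x

theorem eq_botPt_of_forall (x : ProjectiveSpectrum (grad k n))
    (h : ∀ a ∈ x.asHomogeneousIdeal, a = 0) : x = botPt k n := by
  apply le_antisymm _ (botPt_le k n x)
  intro a ha
  rw [h a ha]
  exact Ideal.zero_mem _

/-- The point given by an irreducible homogeneous polynomial. -/
noncomputable def prinPt (f : MvPolynomial (Fin (n + 1)) k) (hirr : Irreducible f) (d : ℕ)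
    (hf : f.IsHomogeneous d)
    (hrel : ∃ a ∈ HomogeneousIdeal.irrelevant (grad k n), a ∉ Ideal.span {f}) :
    ProjectiveSpectrum (grad k n) where
  asHomogeneousIdeal := ⟨Ideal.span {f}, by
    apply Ideal.homogeneous_span
    rintro _ rfl
    exact ⟨d, (MvPolynomial.mem_homogeneousSubmodule _ _).mpr hf⟩⟩
  isPrime := by
    change (Ideal.span {f}).IsPrime
    rw [Ideal.span_singleton_prime hirr.ne_zero]
    exact UniqueFactorizationMonoid.irreducible_iff_prime.mp hirr
  not_irrelevant_le := by
    intro h
    obtain ⟨a, ha, ha'⟩ := hrel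
    exact ha' (h ha)

theorem mem_prinPt_iff (f : MvPolynomial (Fin (n + 1)) k) (hirr : Irreducible f) (d : ℕ)
    (hf : f.IsHomogeneous d) (hrel) (a : MvPolynomial (Fin (n + 1)) k) :
    a ∈ (prinPt k n f hirr d hf hrel).asHomogeneousIdeal ↔ f ∣ a :=
  Ideal.mem_span_singleton

omit inst in
/-- A nonzero prime ideal contained in `(f)`, `f` irreducible, contains `f`. -/
theorem mem_of_le_span_irreducible (f : MvPolynomial (Fin (n + 1)) k) (hirr : Irreducible f)
    (Q : Ideal (MvPolynomial (Fin (n + 1)) k)) [hQ : Q.IsPrime] (hQf : Q ≤ Ideal.span {f})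
    (g : MvPolynomial (Fin (n + 1)) k) (hg : g ∈ Q) (hg0 : g ≠ 0) : f ∈ Q := by
  have hfac := UniqueFactorizationMonoid.factors_prod hg0
  have hprod : (UniqueFactorizationMonoid.factors g).prod ∈ Q := by
    obtain ⟨u, hu⟩ := hfac.symm
    rw [← hu]
    exact Ideal.mul_mem_right _ _ hg
  obtain ⟨h, hh, hhQ⟩ := (hQ.multiset_prod_mem_iff_exists_mem _).mp hprod
  have hhirr : Irreducible h := UniqueFactorizationMonoid.irreducible_of_factor h hh
  have hfh : f ∣ h := Ideal.mem_span_singleton.mp (hQf hhQ)
  obtain ⟨u, hu⟩ := hfh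
  rcases hhirr.isUnit_or_isUnit hu with h1 | h1
  · exact absurd h1 hirr.not_isUnit
  · obtain ⟨v, hv⟩ := h1
    have : f = h * (↑v⁻¹ : MvPolynomial (Fin (n + 1)) k) := by
      rw [hu, ← hv, mul_assoc, Units.mul_inv, mul_one]
    rw [this]
    exact Ideal.mul_mem_right _ _ hhQ

theorem height_prinPt (f : MvPolynomial (Fin (n + 1)) k) (hirr : Irreducible f) (d : ℕ)
    (hf : f.IsHomogeneous d) (hrel) :
    Order.height (prinPt k n f hirr d hf hrel) = 1 := by
  apply le_antisymm
  · have : Order.height (prinPt k n f hirr d hf hrel) ≤ ((1 : ℕ) : ℕ∞) := by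
      rw [Order.height_le_coe_iff]
      intro y hy
      have hy0 : y = botPt k n := by
        apply eq_botPt_of_forall
        intro a ha
        by_contra ha0
        have hle : y.asHomogeneousIdeal.toIdeal ≤ Ideal.span {f} := hy.le
        have hfy := mem_of_le_span_irreducible k n f hirr y.asHomogeneousIdeal.toIdeal hle a ha ha0
        have : prinPt k n f hirr d hf hrel ≤ y := by
          intro b hb
          have hb' : b ∈ Ideal.span {f} := hb
          rw [Ideal.mem_span_singleton] at hb'
          obtain ⟨c, rfl⟩ := hb'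
          exact Ideal.mul_mem_right _ _ hfy
        exact absurd (lt_of_lt_of_le hy this) (lt_irrefl _)
      rw [hy0, Order.height_eq_zero.mpr (isMin_botPt k n)]
      exact Nat.cast_pos.mpr Nat.zero_lt_one
    simpa using this
  · rw [Order.one_le_iff_pos, Order.height_pos]
    intro hmin
    have h1 := hmin (botPt_le k n _)
    have h2 : f ∈ (botPt k n).asHomogeneousIdeal :=
      h1 ((mem_prinPt_iff k n f hirr d hf hrel f).mpr dvd_rfl)
    exact hirr.ne_zero h2

omit inst in
theorem exists_homogeneousComponent_ne_zero {a : MvPolynomial (Fin (n + 1)) k} (ha : a ≠ 0) :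
    ∃ j ≤ a.totalDegree, homogeneousComponent j a ≠ 0 := by
  by_contra hcon
  push Not at hcon
  apply ha
  rw [← MvPolynomial.sum_homogeneousComponent a]
  apply Finset.sum_eq_zero
  intro j hj
  exact hcon j (Nat.lt_succ_iff.mp (Finset.mem_range.mp hj))

omit inst in
theorem totalDegree_pos_of_not_isUnit {c : MvPolynomial (Fin (n + 1)) k} (hc0 : c ≠ 0)
    (hcu : ¬ IsUnit c) : 0 < c.totalDegree := by
  by_contra h0
  have h1 : c.totalDegree = 0 := by omega
  rw [totalDegree_eq_zero_iff_eq_C] at h1
  apply hcu
  rw [h1]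
  refine (isUnit_iff_ne_zero.mpr (fun h => hc0 ?_)).map C
  rw [h1, h, map_zero]

theorem relevant_of_mem (P : ProjectiveSpectrum (grad k n)) (g : MvPolynomial (Fin (n + 1)) k)
    (hgP : g ∈ P.asHomogeneousIdeal) :
    ∃ a ∈ HomogeneousIdeal.irrelevant (grad k n), a ∉ Ideal.span {g} := by
  by_contra hcon
  push Not at hcon
  apply P.not_irrelevant_le
  intro a ha
  exact (Ideal.span_singleton_le_iff_mem (I := P.asHomogeneousIdeal.toIdeal)).mpr hgP (hcon a ha)

theorem main (Z : TopologicalSpace.IrreducibleCloseds (ProjectiveSpectrum (grad k n))) :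
    Order.coheight Z = 1 ↔
      ∃ (d : ℕ) (f : MvPolynomial (Fin (n + 1)) k), f.IsHomogeneous d ∧ Irreducible f ∧
        (Z : Set (ProjectiveSpectrum (grad k n))) =
          ProjectiveSpectrum.zeroLocus (grad k n)
            ({f} : Set (MvPolynomial (Fin (n + 1)) k)) := by
  rw [coheight_eq_height_gen]
  set P := gen (grad k n) Z with hP
  constructor
  · intro hh
    have hnotmin : ¬ IsMin P := by
      rw [← Order.height_pos, hh]
      exact one_pos
    have hex : ∃ a ∈ P.asHomogeneousIdeal, a ≠ 0 := by
      by_contra hcon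
      push Not at hcon
      apply hnotmin
      rw [eq_botPt_of_forall k n P hcon]
      exact isMin_botPt k n
    have hex2 : ∃ d : ℕ, ∃ g ∈ P.asHomogeneousIdeal, g ≠ 0 ∧ g.IsHomogeneous d := by
      obtain ⟨a, ha, ha0⟩ := hex
      obtain ⟨j, -, hj⟩ := exists_homogeneousComponent_ne_zero k n ha0
      exact ⟨j, homogeneousComponent j a, homogeneousComponent_mem_of_mem k n P ha j, hj,
        homogeneousComponent_isHomogeneous _ _⟩
    classical
    obtain ⟨g, hgP, hg0, hgd⟩ := Nat.find_spec hex2
    have hmin : ∀ d' < Nat.find hex2, ∀ g' ∈ P.asHomogeneousIdeal, g' ≠ 0 →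
        ¬ g'.IsHomogeneous d' :=
      fun d' hd' g' hg' hg'0 hh' => Nat.find_min hex2 hd' ⟨g', hg', hg'0, hh'⟩
    have hgdeg : g.totalDegree = Nat.find hex2 := hgd.totalDegree hg0
    have key : ∀ c e : MvPolynomial (Fin (n + 1)) k, c ∈ P.asHomogeneousIdeal → c ≠ 0 → e ≠ 0 →
        ¬ IsUnit e → g.totalDegree = c.totalDegree + e.totalDegree → False := by
      intro c e hcP hc0 he0 heu hdeg
      have hpos := totalDegree_pos_of_not_isUnit k n he0 heu
      obtain ⟨j, hj, hjne⟩ := exists_homogeneousComponent_ne_zero k n hc0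
      exact hmin j (by omega) (homogeneousComponent j c)
        (homogeneousComponent_mem_of_mem k n P hcP j) hjne
        (homogeneousComponent_isHomogeneous _ _)
    have hgirr : Irreducible g := by
      constructor
      · intro hu
        exact P.isPrime.ne_top (Ideal.eq_top_of_isUnit_mem _ hgP hu)
      · intro a b hab
        by_contra hcon
        push Not at hcon
        obtain ⟨hua, hub⟩ := hcon
        have ha0 : a ≠ 0 := by
          rintro rfl
          exact hg0 (by rw [hab, zero_mul])
        have hb0 : b ≠ 0 := by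
          rintro rfl
          exact hg0 (by rw [hab, mul_zero])
        have hdeg : g.totalDegree = a.totalDegree + b.totalDegree := by
          rw [hab]
          exact totalDegree_mul_of_isDomain ha0 hb0
        have hab' : a * b ∈ P.asHomogeneousIdeal.toIdeal := hab ▸ hgP
        rcases P.isPrime.mem_or_mem hab' with haP | hbP
        · exact key a b haP ha0 hb0 hub hdeg
        · exact key b a hbP hb0 ha0 hua (by omega)
    have hrel := relevant_of_mem k n P g hgP
    have hQP : prinPt k n g hgirr _ hgd hrel ≤ P := by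
      intro a ha
      exact (Ideal.span_singleton_le_iff_mem (I := P.asHomogeneousIdeal.toIdeal)).mpr hgP ha
    have hQPeq : prinPt k n g hgirr _ hgd hrel = P := by
      by_contra hne
      have hlt := lt_of_le_of_ne hQP hne
      have h2 := Order.height_add_one_le hlt
      rw [height_prinPt, hh] at h2
      exact absurd h2 (by decide)
    refine ⟨_, g, hgd, hgirr, ?_⟩
    rw [coe_eq_zeroLocus, ← hP, ← hQPeq]
    exact ProjectiveSpectrum.zeroLocus_span _ _
  · rintro ⟨d, f, hfd, hfirr, hZ⟩
    have hfP : f ∈ P.asHomogeneousIdeal := by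
      have h1 : P ∈ (Z : Set (ProjectiveSpectrum (grad k n))) := (gen_spec _ Z).mem
      rw [hZ, ProjectiveSpectrum.mem_zeroLocus] at h1
      exact h1 (Set.mem_singleton f)
    have hrel := relevant_of_mem k n P f hfP
    have hQP : prinPt k n f hfirr d hfd hrel ≤ P := by
      intro a ha
      exact (Ideal.span_singleton_le_iff_mem (I := P.asHomogeneousIdeal.toIdeal)).mpr hfP ha
    have hPQ : P ≤ prinPt k n f hfirr d hfd hrel := by
      rw [hP, ← mem_iff_gen_le, hZ, ProjectiveSpectrum.mem_zeroLocus]
      intro a ha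
      rw [Set.mem_singleton_iff] at ha
      subst ha
      exact (mem_prinPt_iff k n a hfirr d hfd hrel a).mpr dvd_rfl
    rw [le_antisymm hPQ hQP]
    exact height_prinPt k n f hfirr d hfd hrel

end Poly

end Groth.Agent.Lib.Helper27ProjCodimOne
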