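import Groth.Agent.Lib.Helper27GrTildeMul2
import Groth.Agent.Lib.Helper27TwistAmple2
import Groth.Agent.Lib.Helper23SecTw4

/-!
# `Proj` of a Noetherian graded ring is covered by `D₊(G)` with all `G` of one positive degree;
the multiplication map `O(k) ⊗ O(p) ⟶ O(k+p)` when the right factor is generated by a fraction
(helper27)
-/

set_option autoImplicit false
universe u

open CategoryTheory CategoryTheory.Limits AlgebraicGeometry TopologicalSpace Opposite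
  HomogeneousLocalization
open Groth.Agent.Helper18Tens Groth.Agent.Lib.Helper23.SecTw Groth.Agent.Lib.Helper6

namespace Groth.Agent.Lib.Helper27ProjLcmCover

open Groth.Agent.Lib.Helper27GrTildeSect

variable {R A : Type u} [CommRing R] [CommRing A] [Algebra R A] (𝒜 : ℕ → Submodule R A)
  [GradedAlgebra 𝒜]

/-- `Proj` of a Noetherian graded ring is covered by finitely many `D₊(G)` with the `G` homogeneous
of one positive degree. -/
theorem exists_lcm_cover [IsNoetherianRing A] :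
    ∃ (L : ℕ) (κ : Type u) (_ : Fintype κ) (G : κ → A), 0 < L ∧ (∀ j, G j ∈ 𝒜 L) ∧
      ∀ y : Proj 𝒜, ∃ j, G j ∉ (show ProjectiveSpectrum 𝒜 from y).asHomogeneousIdeal := by
  classical
  obtain ⟨S, hS⟩ := (inferInstance : IsNoetherian A A).noetherian
    (HomogeneousIdeal.irrelevant 𝒜).toIdeal
  let J : Type u := {p : A × ℕ // p.1 ∈ S ∧ p.2 ∈ (DirectSum.decompose 𝒜 p.1).support ∧ 0 < p.2}
  haveI : Finite J := by
    have : (Set.Finite {p : A × ℕ | p.1 ∈ S ∧ p.2 ∈ (DirectSum.decompose 𝒜 p.1).support ∧ 0 < p.2}) := by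
      apply Set.Finite.subset
        (Set.Finite.biUnion S.finite_toSet (fun x _ =>
          ((DirectSum.decompose 𝒜 x).support.finite_toSet.image (fun i => (x, i)))))
      rintro ⟨x, i⟩ ⟨hx, hi, -⟩
      exact Set.mem_biUnion hx ⟨i, hi, rfl⟩
    exact this.to_subtype
  let f : J → A := fun j => (DirectSum.decompose 𝒜 j.1.1 j.1.2 : A)
  let deg : J → ℕ := fun j => j.1.2
  have hf : ∀ j, f j ∈ 𝒜 (deg j) := fun j => SetLike.coe_mem _
  have hdeg : ∀ j, 0 < deg j := fun j => j.2.2.2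
  have hcovf : ∀ y : Proj 𝒜, ∃ j, f j ∉ (show ProjectiveSpectrum 𝒜 from y).asHomogeneousIdeal := by
    intro y
    by_contra hcon
    push Not at hcon
    apply (show ProjectiveSpectrum 𝒜 from y).not_irrelevant_le
    have h1 : (HomogeneousIdeal.irrelevant 𝒜).toIdeal ≤
        (show ProjectiveSpectrum 𝒜 from y).asHomogeneousIdeal.toIdeal := by
      rw [← hS, Ideal.span_le]
      intro x hx
      have hxirr : x ∈ (HomogeneousIdeal.irrelevant 𝒜).toIdeal := by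
        rw [← hS]; exact Ideal.subset_span hx
      rw [← DirectSum.sum_support_decompose 𝒜 x]
      refine Ideal.sum_mem _ (fun i hi => ?_)
      by_cases hi0 : 0 < i
      · exact hcon ⟨(x, i), hx, hi, hi0⟩
      · have hi0' : i = 0 := by omega
        subst hi0'
        have : GradedRing.proj 𝒜 0 x = 0 := (HomogeneousIdeal.mem_irrelevant_iff 𝒜 x).mp hxirr
        have h0 : (DirectSum.decompose 𝒜 x 0 : A) = 0 := this
        rw [h0]
        exact zero_mem _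
    exact h1
  haveI : Fintype J := Fintype.ofFinite J
  have hdvd : ∀ j, deg j ∣ Finset.univ.lcm deg := fun j => Finset.dvd_lcm (Finset.mem_univ j)
  have hl : 0 < Finset.univ.lcm deg := by
    apply Nat.pos_of_ne_zero
    rw [Ne, Finset.lcm_eq_zero_iff]
    rintro ⟨j, -, hj⟩
    exact (hdeg j).ne' hj
  have hG : ∀ j, f j ^ (Finset.univ.lcm deg / deg j) ∈ 𝒜 (Finset.univ.lcm deg) := by
    intro j
    have e : (Finset.univ.lcm deg / deg j) • deg j = Finset.univ.lcm deg := by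
      rw [smul_eq_mul, Nat.div_mul_cancel (hdvd j)]
    have h2 := SetLike.pow_mem_graded (Finset.univ.lcm deg / deg j) (hf j)
    rwa [e] at h2
  have hcov : ∀ y : Proj 𝒜, ∃ j, f j ^ (Finset.univ.lcm deg / deg j) ∉
      (show ProjectiveSpectrum 𝒜 from y).asHomogeneousIdeal := by
    intro y
    obtain ⟨j, hj⟩ := hcovf y
    exact ⟨j, fun h => hj ((show ProjectiveSpectrum 𝒜 from y).isPrime.mem_of_pow_mem _ h)⟩
  exact ⟨Finset.univ.lcm deg, J, inferInstance, fun j => f j ^ (Finset.univ.lcm deg / deg j), hl,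
    hG, hcov⟩

/-- multiplication of sections of `O(p)` by a nowhere vanishing fraction of degree `k`. -/
theorem bijective_mulSec_fracSec_right {p k q : ℤ} (h : p + k = q) (W : (Proj 𝒜).Opens) {i j : ℕ}
    {a b : A} (ha : a ∈ 𝒜 i) (hb : b ∈ 𝒜 j) (hij : (i : ℤ) = j + k)
    (hWb : ∀ y : W, b ∉ y.1.asHomogeneousIdeal) (hWa : ∀ y : W, a ∉ y.1.asHomogeneousIdeal) :
    Function.Bijective (fun t : Γ(GrTilde.tilde 𝒜 𝒜 p, W) =>
      mulSec 𝒜 𝒜 h W t (fracSec 𝒜 k W ha hb hij hWb)) := by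
  have h' : q + -k = p := by omega
  have hji : (j : ℤ) = i + (-k) := by omega
  rw [Function.bijective_iff_has_inverse]
  refine ⟨fun t' => mulSec 𝒜 𝒜 h' W t' (fracSec 𝒜 (-k) W hb ha hji hWa), ?_, ?_⟩
  · intro t
    apply sec_ext
    intro y hy
    rw [secVal_mulSec, secVal_mulSec, secVal_fracSec, secVal_fracSec]
    change (Localization.mk b (⟨a, hWa ⟨y, hy⟩⟩ : y.asHomogeneousIdeal.toIdeal.primeCompl) :
        Twist.Loc 𝒜 y) *
      ((Localization.mk a (⟨b, hWb ⟨y, hy⟩⟩ : y.asHomogeneousIdeal.toIdeal.primeCompl) :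
        Twist.Loc 𝒜 y) * (secVal 𝒜 𝒜 p W t y hy : Twist.Loc 𝒜 y)) = _
    rw [← mul_assoc, mk_mul_mk_swap 𝒜 (hWa ⟨y, hy⟩) (hWb ⟨y, hy⟩), one_mul]
  · intro t
    apply sec_ext
    intro y hy
    rw [secVal_mulSec, secVal_mulSec, secVal_fracSec, secVal_fracSec]
    change (Localization.mk a (⟨b, hWb ⟨y, hy⟩⟩ : y.asHomogeneousIdeal.toIdeal.primeCompl) :
        Twist.Loc 𝒜 y) *
      ((Localization.mk b (⟨a, hWa ⟨y, hy⟩⟩ : y.asHomogeneousIdeal.toIdeal.primeCompl) :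
        Twist.Loc 𝒜 y) * (secVal 𝒜 𝒜 q W t y hy : Twist.Loc 𝒜 y)) = _
    rw [← mul_assoc, mk_mul_mk_swap 𝒜 (hWb ⟨y, hy⟩) (hWa ⟨y, hy⟩), one_mul]

open Groth.Agent.Lib.Helper23.Extend in
/-- the multiplication map `O(p) ⊗ O(k) ⟶ O(p+k)` is an isomorphism over an open on which `O(k)`
is generated by a nowhere vanishing fraction. -/
theorem isoOn_mulHom_right {p k q : ℤ} (h : p + k = q) (W : (Proj 𝒜).Opens) {i j : ℕ}
    {a b : A} (ha : a ∈ 𝒜 i) (hb : b ∈ 𝒜 j) (hij : (i : ℤ) = j + k)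
    (hWb : ∀ y : W, b ∉ y.1.asHomogeneousIdeal) (hWa : ∀ y : W, a ∉ y.1.asHomogeneousIdeal) :
    IsoOn (mulHom 𝒜 𝒜 h) W := by
  intro W' hle
  rw [ConcreteCategory.isIso_iff_bijective]
  have hT := bijective_tm_of_isGen (GrTilde.tilde 𝒜 𝒜 p) (GrTilde.tilde 𝒜 𝒜 k) W
    (fracSec 𝒜 k W ha hb hij hWb) (isGen_fracSec 𝒜 k W ha hb hij hWb hWa) W' hle
  have hcomp : Function.Bijective (⇑((mulHom 𝒜 𝒜 h).app W') ∘
      (fun t : Γ(GrTilde.tilde 𝒜 𝒜 p, W') => tm (GrTilde.tilde 𝒜 𝒜 p) (GrTilde.tilde 𝒜 𝒜 k) W' t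
        (res (GrTilde.tilde 𝒜 𝒜 k) hle (fracSec 𝒜 k W ha hb hij hWb)))) := by
    have hfun : (⇑((mulHom 𝒜 𝒜 h).app W') ∘
      (fun t : Γ(GrTilde.tilde 𝒜 𝒜 p, W') => tm (GrTilde.tilde 𝒜 𝒜 p) (GrTilde.tilde 𝒜 𝒜 k) W' t
        (res (GrTilde.tilde 𝒜 𝒜 k) hle (fracSec 𝒜 k W ha hb hij hWb)))) =
      fun t : Γ(GrTilde.tilde 𝒜 𝒜 p, W') => mulSec 𝒜 𝒜 h W' t
        (fracSec 𝒜 k W' ha hb hij (fun y => hWb ⟨y.1, hle y.2⟩)) := by
      funext t
      exact mulHom_tm 𝒜 𝒜 h W' t _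
    rw [hfun]
    exact bijective_mulSec_fracSec_right 𝒜 h W' ha hb hij _ (fun y => hWa ⟨y.1, hle y.2⟩)
  exact (Function.Bijective.of_comp_iff _ hT).mp hcomp

/-- if `Proj` is covered by opens on each of which `O(k)` is generated by a nowhere vanishing
fraction, then `O(p) ⊗ O(k) ≅ O(p+k)`. -/
theorem nonempty_tensor_iso_of_cover_right {p k q : ℤ} (h : p + k = q)
    (hcov : ∀ y : Proj 𝒜, ∃ (W : (Proj 𝒜).Opens) (i j : ℕ) (a b : A), y ∈ W ∧ a ∈ 𝒜 i ∧ b ∈ 𝒜 j ∧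
      (i : ℤ) = j + k ∧ (∀ z : W, b ∉ z.1.asHomogeneousIdeal) ∧
      (∀ z : W, a ∉ z.1.asHomogeneousIdeal)) :
    Nonempty (CohB1.tensorMod (GrTilde.tilde 𝒜 𝒜 p) (GrTilde.tilde 𝒜 𝒜 k) ≅
      GrTilde.tilde 𝒜 𝒜 q) := by
  have hiso : IsIso (mulHom 𝒜 𝒜 h) := by
    rw [Scheme.Modules.Hom.isIso_iff_isIso_app]
    intro V
    rw [ConcreteCategory.isIso_iff_bijective]
    apply bijective_app_of_cover
    intro x _
    obtain ⟨W, i, j, a, b, hxW, ha, hb, hij, hWb, hWa⟩ := hcov x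
    exact ⟨W, hxW, isoOn_mulHom_right 𝒜 h W ha hb hij hWb hWa⟩
  exact ⟨asIso (mulHom 𝒜 𝒜 h)⟩

end Groth.Agent.Lib.Helper27ProjLcmCover
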