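import Mathlib
import Groth.Agent.Lib.Helper2RelTildeExact
import Groth.Agent.Lib.Helper2GrModMap
import Groth.Agent.Lib.Helper27GrSubQuot

/-!
# The saturated kernel of a morphism `Q(n)~ ⟶ F` on `Proj` (helper27)

For a graded module `Q` over a graded algebra `𝒜`, a family `G l ∈ 𝒜 d` and a morphism
`p : Q(n)~ ⟶ F`, the homogeneous `A`-submodule `N p ⊆ Q` of the elements whose homogeneous
components `w` satisfy: every section `(a w) / G l ^ m` of `Q(n)~` over `D₊(G l)` is killed by `p`.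
-/

set_option autoImplicit false
universe u

open CategoryTheory CategoryTheory.Limits AlgebraicGeometry TopologicalSpace Opposite

namespace Groth.Agent.Lib.Helper27TildeQuot

open Groth.Agent.Lib.Helper2GrModSect Groth.Agent.Lib.Helper27GrSubQuot

variable {R A : Type u} [CommRing R] [CommRing A] [Algebra R A] (𝒜 : ℕ → Submodule R A)
  [GradedAlgebra 𝒜]
variable {Q : Type u} [AddCommGroup Q] [Module R Q] [Module A Q] [IsScalarTower R A Q]
  (𝒬 : ℕ → Submodule R Q) [DirectSum.Decomposition 𝒬] [SetLike.GradedSMul 𝒜 𝒬]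

/-! ### Homogeneous components of `b • v`, `b` homogeneous -/

theorem decompose_hsmul {e : ℕ} {b : A} (hb : b ∈ 𝒜 e) (v : Q) (i : ℕ) :
    (DirectSum.decompose 𝒬 (b • v) (e + i) : Q) = b • (DirectSum.decompose 𝒬 v i : Q) := by
  classical
  induction v using DirectSum.Decomposition.inductionOn 𝒬 with
  | zero => simp
  | @homogeneous j v =>
    have hbv : b • (v : Q) ∈ 𝒬 (e + j) := SetLike.GradedSMul.smul_mem hb v.2
    by_cases hji : j = i
    · subst hji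
      rw [DirectSum.decompose_of_mem_same 𝒬 hbv, DirectSum.decompose_of_mem_same 𝒬 v.2]
    · have hne : e + j ≠ e + i := fun h => hji (Nat.add_left_cancel h)
      rw [DirectSum.decompose_of_mem_ne 𝒬 hbv hne, DirectSum.decompose_of_mem_ne 𝒬 v.2 hji,
        smul_zero]
  | add v w hv hw =>
    rw [smul_add, DirectSum.decompose_add, DirectSum.decompose_add, DirectSum.add_apply,
      DirectSum.add_apply, AddMemClass.coe_add, AddMemClass.coe_add, hv, hw, smul_add]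

theorem decompose_hsmul_of_lt {e : ℕ} {b : A} (hb : b ∈ 𝒜 e) (v : Q) (k : ℕ) (hk : k < e) :
    (DirectSum.decompose 𝒬 (b • v) k : Q) = 0 := by
  classical
  induction v using DirectSum.Decomposition.inductionOn 𝒬 with
  | zero => simp
  | @homogeneous j v =>
    have hbv : b • (v : Q) ∈ 𝒬 (e + j) := SetLike.GradedSMul.smul_mem hb v.2
    have hne : e + j ≠ k := by omega
    exact DirectSum.decompose_of_mem_ne 𝒬 hbv hne
  | add v w hv hw =>
    rw [smul_add, DirectSum.decompose_add, DirectSum.add_apply, AddMemClass.coe_add, hv, hw,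
      add_zero]

/-! ### Fraction sections over `D₊(G l)` -/

variable (d : ℕ) {ι : Type*} (G : ι → A) (hG : ∀ i, G i ∈ 𝒜 d)
variable (n : ℤ)

/-- `G l ^ m` as an element of the complement of a point of `D₊(G l)`. -/
def gp (l : ι) (m : ℕ) (y : ProjectiveSpectrum 𝒜) (hy : y ∈ Proj.basicOpen 𝒜 (G l)) :
    y.asHomogeneousIdeal.toIdeal.primeCompl :=
  ⟨G l ^ m, fun h => (ProjectiveSpectrum.mem_basicOpen 𝒜 (G l) y).mp hy
    (y.isPrime.mem_of_pow_mem m h)⟩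

include hG in
/-- the section `w / G l ^ m` of `Q(n)~` over `D₊(G l)`. -/
def fr (l : ι) (m : ℕ) {i : ℕ} {w : Q} (hw : w ∈ 𝒬 i) (hi : (i : ℤ) = ((m • d : ℕ) : ℤ) + n) :
    Γ(GrMod.tilde 𝒜 𝒬 n, Proj.basicOpen 𝒜 (G l)) :=
  ofSect 𝒜 𝒬 n _ (fracOn 𝒜 𝒬 n _ hw (SetLike.pow_mem_graded m (hG l)) hi
    (fun y => (gp 𝒜 G l m y.1 y.2).2))

theorem secVal_fr (l : ι) (m : ℕ) {i : ℕ} {w : Q} (hw : w ∈ 𝒬 i)
    (hi : (i : ℤ) = ((m • d : ℕ) : ℤ) + n) (y : ProjectiveSpectrum 𝒜)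
    (hy : y ∈ Proj.basicOpen 𝒜 (G l)) :
    secVal 𝒜 𝒬 n _ (fr 𝒜 𝒬 d G hG n l m hw hi) y hy = LocalizedModule.mk w (gp 𝒜 G l m y hy) :=
  rfl

theorem secVal_add' (W : (Proj 𝒜).Opens) (s t : Γ(GrMod.tilde 𝒜 𝒬 n, W))
    (y : ProjectiveSpectrum 𝒜) (hy : y ∈ W) :
    secVal 𝒜 𝒬 n W (s + t) y hy = secVal 𝒜 𝒬 n W s y hy + secVal 𝒜 𝒬 n W t y hy := rfl

/-! ### The predicate and the submodule -/

variable {F : (Proj 𝒜).Modules} (p : GrMod.tilde 𝒜 𝒬 n ⟶ F)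

/-- every section `(a w) / G l ^ m` of `Q(n)~` over `D₊(G l)` is killed by `p`. -/
def Kills (k : ℕ) (w : Q) : Prop :=
  ∀ (l : ι) (i m : ℕ) (a : A), a ∈ 𝒜 i → ((i + k : ℕ) : ℤ) = ((m • d : ℕ) : ℤ) + n →
    ∀ s : Γ(GrMod.tilde 𝒜 𝒬 n, Proj.basicOpen 𝒜 (G l)),
      (∀ (y : ProjectiveSpectrum 𝒜) (hy : y ∈ Proj.basicOpen 𝒜 (G l)),
        secVal 𝒜 𝒬 n _ s y hy = LocalizedModule.mk (a • w) (gp 𝒜 G l m y hy)) →
      p.app _ s = 0

theorem kills_zero (k : ℕ) : Kills 𝒜 𝒬 d G n p k 0 := by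
  intro l i m a _ _ s hs
  have : s = 0 := by
    apply sec_ext
    intro y hy
    rw [hs y hy, smul_zero, LocalizedModule.zero_mk, secVal_zero]
  rw [this, map_zero]

include hG in
theorem kills_add {k : ℕ} {w w' : Q} (hw : w ∈ 𝒬 k) (hw' : w' ∈ 𝒬 k)
    (h : Kills 𝒜 𝒬 d G n p k w) (h' : Kills 𝒜 𝒬 d G n p k w') :
    Kills 𝒜 𝒬 d G n p k (w + w') := by
  intro l i m a ha hdeg s hs
  have haw : a • w ∈ 𝒬 (i + k) := SetLike.GradedSMul.smul_mem ha hw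
  have haw' : a • w' ∈ 𝒬 (i + k) := SetLike.GradedSMul.smul_mem ha hw'
  have hs' : s = fr 𝒜 𝒬 d G hG n l m haw hdeg + fr 𝒜 𝒬 d G hG n l m haw' hdeg := by
    apply sec_ext
    intro y hy
    rw [hs y hy, secVal_add', secVal_fr, secVal_fr, smul_add, IsLocalizedModule.mk_eq_mk',
      IsLocalizedModule.mk_eq_mk', IsLocalizedModule.mk_eq_mk']
    exact (IsLocalizedModule.mk'_add
      (LocalizedModule.mkLinearMap y.asHomogeneousIdeal.toIdeal.primeCompl Q) (a • w) (a • w')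
      (gp 𝒜 G l m y hy))
  rw [hs', map_add, h l i m a ha hdeg _ (fun y hy => secVal_fr 𝒜 𝒬 d G hG n l m haw hdeg y hy),
    h' l i m a ha hdeg _ (fun y hy => secVal_fr 𝒜 𝒬 d G hG n l m haw' hdeg y hy), add_zero]

theorem kills_hsmul {e k : ℕ} {b : A} (hb : b ∈ 𝒜 e) {w : Q}
    (h : Kills 𝒜 𝒬 d G n p k w) : Kills 𝒜 𝒬 d G n p (e + k) (b • w) := by
  intro l i m a ha hdeg s hs
  refine h l (i + e) m (a * b) (SetLike.mul_mem_graded ha hb) ?_ s ?_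
  · push_cast at hdeg ⊢
    omega
  · intro y hy
    rw [hs y hy, mul_smul]

/-- the additive submonoid underlying `N`. -/
def N₀ : AddSubmonoid Q where
  carrier := {v | ∀ k, Kills 𝒜 𝒬 d G n p k (DirectSum.decompose 𝒬 v k : Q)}
  zero_mem' := fun k => by
    rw [DirectSum.decompose_zero]
    exact kills_zero 𝒜 𝒬 d G n p k
  add_mem' := fun {v w} hv hw k => by
    rw [DirectSum.decompose_add, DirectSum.add_apply, AddMemClass.coe_add]
    exact kills_add 𝒜 𝒬 d G hG n p (SetLike.coe_mem _) (SetLike.coe_mem _) (hv k) (hw k)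

theorem mem_N₀ {v : Q} : v ∈ N₀ 𝒜 𝒬 d G hG n p ↔
    ∀ k, Kills 𝒜 𝒬 d G n p k (DirectSum.decompose 𝒬 v k : Q) := Iff.rfl

theorem hsmul_mem_N₀ {e : ℕ} {b : A} (hb : b ∈ 𝒜 e) {v : Q} (hv : v ∈ N₀ 𝒜 𝒬 d G hG n p) :
    b • v ∈ N₀ 𝒜 𝒬 d G hG n p := by
  intro k
  by_cases hek : e ≤ k
  · obtain ⟨i, rfl⟩ := Nat.exists_eq_add_of_le hek
    rw [decompose_hsmul 𝒜 𝒬 hb]
    exact kills_hsmul 𝒜 𝒬 d G n p hb (hv i)
  · rw [decompose_hsmul_of_lt 𝒜 𝒬 hb v k (by omega)]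
    exact kills_zero 𝒜 𝒬 d G n p k

/-- the saturated kernel of `p`. -/
def N : Submodule A Q where
  toAddSubmonoid := N₀ 𝒜 𝒬 d G hG n p
  smul_mem' := fun b v hv => by
    classical
    change b • v ∈ N₀ 𝒜 𝒬 d G hG n p
    rw [← DirectSum.sum_support_decompose 𝒜 b, Finset.sum_smul]
    exact AddSubmonoid.sum_mem _ fun e _ =>
      hsmul_mem_N₀ 𝒜 𝒬 d G hG n p (SetLike.coe_mem _) hv

theorem mem_N {v : Q} : v ∈ N 𝒜 𝒬 d G hG n p ↔
    ∀ k, Kills 𝒜 𝒬 d G n p k (DirectSum.decompose 𝒬 v k : Q) := Iff.rfl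

/-- `N` is homogeneous. -/
theorem N_homogeneous (g : ℕ) (v : Q) (hv : v ∈ N 𝒜 𝒬 d G hG n p) :
    (DirectSum.decompose 𝒬 v g : Q) ∈ N 𝒜 𝒬 d G hG n p := by
  intro k
  by_cases hgk : g = k
  · subst hgk
    rw [DirectSum.decompose_of_mem_same 𝒬 (SetLike.coe_mem _)]
    exact hv g
  · rw [DirectSum.decompose_of_mem_ne 𝒬 (SetLike.coe_mem _) hgk]
    exact kills_zero 𝒜 𝒬 d G n p k

theorem kills_of_mem_N {v : Q} (hv : v ∈ N 𝒜 𝒬 d G hG n p) {k : ℕ} (hvk : v ∈ 𝒬 k) :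
    Kills 𝒜 𝒬 d G n p k v := by
  have := hv k
  rwa [DirectSum.decompose_of_mem_same 𝒬 hvk] at this

theorem mem_N_of_kills {v : Q} {k : ℕ} (hvk : v ∈ 𝒬 k) (h : Kills 𝒜 𝒬 d G n p k v) :
    v ∈ N 𝒜 𝒬 d G hG n p := by
  intro j
  by_cases hkj : k = j
  · subst hkj
    rwa [DirectSum.decompose_of_mem_same 𝒬 hvk]
  · rw [DirectSum.decompose_of_mem_ne 𝒬 hvk hkj]
    exact kills_zero 𝒜 𝒬 d G n p j

end Groth.Agent.Lib.Helper27TildeQuot
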