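import Mathlib
import Groth.Agent.Lib.Helper27TildeQuotA
import Groth.Agent.Lib.Helper2QCoh
import Groth.Agent.Lib.Helper2QcPush
import Groth.Agent.Lib.Helper27ARCohB
import Groth.Agent.Lib.Helper23FinTypeLocal

/-!
# Quotients of `Q(n)~` on `Proj` are `(Q/N)(n)~` (helper27)

Let `p : Q(n)~ ⟶ F` be an epimorphism onto a quasi-coherent module on `Proj 𝒜`, where `Proj 𝒜` is
covered by finitely many `D₊(G l)`, `G l ∈ 𝒜 d`, `d > 0`.  For a homogeneous `A`-submodule `P ⊆ Q`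
which is "the saturated kernel of `p`" (`hP1`, `hP2`), `p` induces an isomorphism `(Q/P)(n)~ ≅ F`.
-/

set_option autoImplicit false
universe u

open CategoryTheory CategoryTheory.Limits AlgebraicGeometry TopologicalSpace Opposite
  HomogeneousLocalization

namespace Groth.Agent.Lib.Helper27TildeQuot

open Groth.Agent.Lib.Helper2GrModSect Groth.Agent.Lib.Helper27GrSubQuot
  Groth.Agent.Lib.Helper2.RelTildeQCoh

variable {R A : Type u} [CommRing R] [CommRing A] [Algebra R A] (𝒜 : ℕ → Submodule R A)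
  [GradedAlgebra 𝒜]
variable {Q : Type u} [AddCommGroup Q] [Module R Q] [Module A Q] [IsScalarTower R A Q]
  (𝒬 : ℕ → Submodule R Q) [DirectSum.Decomposition 𝒬] [SetLike.GradedSMul 𝒜 𝒬]

instance instGradedSMulSub (P : Submodule A Q) : SetLike.GradedSMul 𝒜 (subPieces 𝒬 P) where
  smul_mem := by
    intro i j a k ha hk
    exact SetLike.GradedSMul.smul_mem (A := 𝒜) (B := 𝒬) ha hk

instance instGradedSMulQuot (P : Submodule A Q) : SetLike.GradedSMul 𝒜 (quotPieces 𝒬 P) where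
  smul_mem := by
    rintro i j a q ha ⟨x, hx, rfl⟩
    exact ⟨a • x, SetLike.GradedSMul.smul_mem (A := 𝒜) (B := 𝒬) ha hx, rfl⟩

variable (P : Submodule A Q)

theorem subtype_mem (i : ℕ) (x : ↥P) (hx : x ∈ subPieces 𝒬 P i) : P.subtype x ∈ 𝒬 i := hx

theorem mkQ_mem (i : ℕ) (v : Q) (hv : v ∈ 𝒬 i) : P.mkQ v ∈ quotPieces 𝒬 P i := ⟨v, hv, rfl⟩

variable (d : ℕ) {ι : Type*} (G : ι → A) (hG : ∀ i, G i ∈ 𝒜 d)
variable (n : ℤ) {F : (Proj 𝒜).Modules} (p : GrMod.tilde 𝒜 𝒬 n ⟶ F)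
variable [DirectSum.Decomposition (subPieces 𝒬 P)] [DirectSum.Decomposition (quotPieces 𝒬 P)]

theorem pow_pred_mul {σ : A} (hd : 0 < d) : σ ^ (d - 1) * σ = σ ^ d := by
  rw [← pow_succ, Nat.sub_add_cancel hd]

omit [GradedAlgebra 𝒜] [Module R Q] [IsScalarTower R A Q] [DirectSum.Decomposition 𝒬] in
/-- a section of `M(n)~` is locally a fraction (with opens of `Proj 𝒜`). -/
theorem exists_local_frac' {M : Type u} [AddCommGroup M] [Module A M] {τ : Type u} [SetLike τ M]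
    [AddSubgroupClass τ M] (ℳ : ℕ → τ) [GradedRing 𝒜] [SetLike.GradedSMul 𝒜 ℳ]
    [DirectSum.Decomposition ℳ]
    (V : (Proj 𝒜).Opens) (s : Γ(GrMod.tilde 𝒜 ℳ n, V))
    (y : ProjectiveSpectrum 𝒜) (hy : y ∈ V) :
    ∃ (O : (Proj 𝒜).Opens) (hO : O ≤ V), y ∈ O ∧ ∃ (i j : ℕ) (m : M) (σ : A), m ∈ ℳ i ∧ σ ∈ 𝒜 j ∧
      ((i : ℤ) = j + n ∨ m = 0) ∧ ∃ hσ : ∀ z : ProjectiveSpectrum 𝒜, z ∈ O → σ ∉ z.asHomogeneousIdeal,
        ∀ (z : ProjectiveSpectrum 𝒜) (hz : z ∈ O),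
          secVal 𝒜 ℳ n V s z (hO hz) = LocalizedModule.mk m ⟨σ, hσ z hz⟩ := by
  obtain ⟨O₁, hyO₁, iO₁, i, j, ⟨m, hm⟩, ⟨σ, hσ⟩, nin, hcond, hval⟩ :=
    (toSect 𝒜 ℳ n V s).2 ⟨y, hy⟩
  exact ⟨O₁, iO₁.le, hyO₁, i, j, m, σ, hm, hσ, hcond, fun z hz => nin ⟨z, hz⟩,
    fun z hz => hval ⟨z, hz⟩⟩

include hG in
/-- `N~ ⟶ Q~ ⟶ F` is zero. -/
theorem map_subtype_comp (hd : 0 < d)
    (hcov : ∀ y : ProjectiveSpectrum 𝒜, ∃ l, G l ∉ y.asHomogeneousIdeal)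
    (hP1 : ∀ (k : ℕ) (v : Q), v ∈ P → v ∈ 𝒬 k → Kills 𝒜 𝒬 d G n p k v) :
    GrMod.map 𝒜 P.subtype (subtype_mem 𝒬 P) n ≫ p = 0 := by
  obtain ⟨d', rfl⟩ : ∃ d', d = d' + 1 := ⟨d - 1, by omega⟩
  apply Scheme.Modules.hom_ext
  intro V
  ext s
  change p.app V ((GrMod.map 𝒜 P.subtype (subtype_mem 𝒬 P) n).app V s) = 0
  apply Groth.Agent.Lib.Helper2.QcPush.section_eq_zero_of_cover
  intro y hy
  obtain ⟨O, hOV, hyO, i, j, ν, σ, hν, hσ, hcond, nin, hval⟩ :=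
    exists_local_frac' 𝒜 n (subPieces 𝒬 P) V s y hy
  obtain ⟨l, hl⟩ := hcov y
  have hWV : O ⊓ Proj.basicOpen 𝒜 (G l) ≤ V := inf_le_left.trans hOV
  refine ⟨O ⊓ Proj.basicOpen 𝒜 (G l), hWV,
    ⟨hyO, (ProjectiveSpectrum.mem_basicOpen 𝒜 (G l) y).mpr hl⟩, ?_⟩
  rw [← app_map' p (homOfLE hWV), ← app_map' (GrMod.map 𝒜 P.subtype (subtype_mem 𝒬 P) n) (homOfLE hWV)]
  have hvalW : ∀ (z : ProjectiveSpectrum 𝒜) (hz : z ∈ O ⊓ Proj.basicOpen 𝒜 (G l)),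
      secVal 𝒜 (subPieces 𝒬 P) n _
        ((GrMod.tilde 𝒜 (subPieces 𝒬 P) n).presheaf.map (homOfLE hWV).op s) z hz =
        LocalizedModule.mk ν ⟨σ, nin z hz.1⟩ := fun z hz => by
    rw [secVal_map]
    exact hval z hz.1
  rcases hcond with hdeg | hzero
  · have hνP : (ν : Q) ∈ P := ν.2
    have hνi : (ν : Q) ∈ 𝒬 i := hν
    have ha : σ ^ d' ∈ 𝒜 (d' • j) := SetLike.pow_mem_graded d' hσ
    have haν : σ ^ d' • (ν : Q) ∈ 𝒬 (d' • j + i) := SetLike.GradedSMul.smul_mem ha hνi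
    have hdeg' : ((d' • j + i : ℕ) : ℤ) = ((j • (d' + 1) : ℕ) : ℤ) + n := by
      simp only [smul_eq_mul]
      push_cast
      rw [hdeg]
      ring
    have h0 := hP1 i ν hνP hνi l (d' • j) j (σ ^ d') ha hdeg'
      (fr 𝒜 𝒬 (d' + 1) G hG n l j haν hdeg')
      (fun z hz => secVal_fr 𝒜 𝒬 (d' + 1) G hG n l j haν hdeg' z hz)
    have hσG : σ * G l ∈ 𝒜 (j + (d' + 1)) := SetLike.mul_mem_graded hσ (hG l)
    have hnum : G l ^ (j + (d' + 1)) ∈ 𝒜 ((d' + 1) • (j + (d' + 1))) := by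
      have := SetLike.pow_mem_graded (j + (d' + 1)) (hG l)
      rwa [smul_eq_mul, mul_comm] at this
    have hWβ : O ⊓ Proj.basicOpen 𝒜 (G l) ≤ Proj.basicOpen 𝒜 (σ * G l) := by
      intro z hz
      refine (ProjectiveSpectrum.mem_basicOpen 𝒜 _ z).mpr fun h => ?_
      rcases z.isPrime.mem_or_mem h with h | h
      · exact nin z hz.1 h
      · exact (ProjectiveSpectrum.mem_basicOpen 𝒜 (G l) z).mp hz.2 h
    have hWl : O ⊓ Proj.basicOpen 𝒜 (G l) ≤ Proj.basicOpen 𝒜 (G l) := inf_le_right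
    have hkey : (GrMod.map 𝒜 P.subtype (subtype_mem 𝒬 P) n).app _
        ((GrMod.tilde 𝒜 (subPieces 𝒬 P) n).presheaf.map (homOfLE hWV).op s) =
        ((Proj 𝒜).presheaf.map (homOfLE hWβ).op
          ((Proj.awayToSection 𝒜 (σ * G l)).hom
            (Away.mk 𝒜 hσG (d' + 1) (G l ^ (j + (d' + 1))) hnum))) •
          (GrMod.tilde 𝒜 𝒬 n).presheaf.map (homOfLE hWl).op
            (fr 𝒜 𝒬 (d' + 1) G hG n l j haν hdeg') := by
      apply sec_ext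
      intro z hz
      rw [Groth.Agent.Lib.Helper27GrModExact.secVal_map_app, hvalW z hz, GrMod.locMap_mk,
        secVal_smul, secVal_map, secVal_fr, funVal_map,
        funVal_awayToSection_val hσG (d' + 1) _ hnum z (hWβ hz), LocalizedModule.mk_smul_mk,
        LocalizedModule.mk_eq]
      refine ⟨1, ?_⟩
      simp only [one_smul]
      change ((σ * G l) ^ (d' + 1) * G l ^ j) • (ν : Q) =
        σ • G l ^ (j + (d' + 1)) • σ ^ d' • (ν : Q)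
      rw [smul_smul, smul_smul]
      congr 1
      ring
    rw [hkey, Groth.Agent.Lib.Helper2.ModExact.app_smul, app_map' p (homOfLE hWl), h0, map_zero,
      smul_zero]
  · have h1 : (GrMod.map 𝒜 P.subtype (subtype_mem 𝒬 P) n).app _
        ((GrMod.tilde 𝒜 (subPieces 𝒬 P) n).presheaf.map (homOfLE hWV).op s) = 0 := by
      apply sec_ext
      intro z hz
      rw [Groth.Agent.Lib.Helper27GrModExact.secVal_map_app, hvalW z hz, GrMod.locMap_mk,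
        secVal_zero, hzero, map_zero, LocalizedModule.zero_mk]
    rw [h1, map_zero]

/-- `Q(n)~ ⟶ (Q/P)(n)~` is an epimorphism. -/
theorem epi_map_mkQ : Epi (GrMod.map 𝒜 P.mkQ (mkQ_mem 𝒬 P) n) := by
  apply Groth.Agent.Lib.Helper23.Serre.epi_of_locally_surjective
  intro V t x hx
  exact Groth.Agent.Lib.Helper2.GrModMap.map_locally_surjective_of_TN 𝒜 𝒬 (quotPieces 𝒬 P) P.mkQ
    (mkQ_mem 𝒬 P) n 0 (fun k _ m' hm' => by
      obtain ⟨m, hm, rfl⟩ := hm'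
      exact ⟨m, hm, rfl⟩) V t x hx

theorem map_subtype_comp_map_mkQ :
    GrMod.map 𝒜 P.subtype (subtype_mem 𝒬 P) n ≫ GrMod.map 𝒜 P.mkQ (mkQ_mem 𝒬 P) n = 0 := by
  apply Scheme.Modules.hom_ext
  intro V
  ext s
  change (GrMod.map 𝒜 P.mkQ (mkQ_mem 𝒬 P) n).app V
    ((GrMod.map 𝒜 P.subtype (subtype_mem 𝒬 P) n).app V s) = 0
  apply sec_ext
  intro y hy
  rw [Groth.Agent.Lib.Helper27GrModExact.secVal_map_app,
    Groth.Agent.Lib.Helper27GrModExact.secVal_map_app, secVal_zero]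
  induction secVal 𝒜 (subPieces 𝒬 P) n V s y hy using LocalizedModule.induction_on with
  | h m t =>
    rw [GrMod.locMap_mk, GrMod.locMap_mk]
    have : P.mkQ (P.subtype m) = 0 := by
      rw [Submodule.mkQ_apply, Submodule.Quotient.mk_eq_zero]
      exact m.2
    rw [this, LocalizedModule.zero_mk]

/-- the complex `P(n)~ ⟶ Q(n)~ ⟶ (Q/P)(n)~`. -/
noncomputable def cplx : ShortComplex (Proj 𝒜).Modules :=
  ShortComplex.mk (GrMod.map 𝒜 P.subtype (subtype_mem 𝒬 P) n)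
    (GrMod.map 𝒜 P.mkQ (mkQ_mem 𝒬 P) n) (map_subtype_comp_map_mkQ 𝒜 𝒬 P n)

theorem cplx_exact : (cplx 𝒜 𝒬 P n).Exact := by
  apply Groth.Agent.Lib.Helper2.RelTildeExact.exact_of_locally_exact
  intro V s hs x hx
  exact Groth.Agent.Lib.Helper2.RelTildeExact.map_locally_exact 𝒜 (subPieces 𝒬 P) 𝒬
    (quotPieces 𝒬 P) P.subtype (subtype_mem 𝒬 P) P.mkQ (mkQ_mem 𝒬 P)
    (LinearMap.exact_subtype_mkQ P) n V s hs x hx

instance : Epi (cplx 𝒜 𝒬 P n).g := epi_map_mkQ 𝒜 𝒬 P n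

/-- the induced morphism `(Q/P)(n)~ ⟶ F`. -/
noncomputable def pbar (h : GrMod.map 𝒜 P.subtype (subtype_mem 𝒬 P) n ≫ p = 0) :
    GrMod.tilde 𝒜 (quotPieces 𝒬 P) n ⟶ F :=
  (cplx_exact 𝒜 𝒬 P n).desc p h

theorem map_mkQ_pbar (h : GrMod.map 𝒜 P.subtype (subtype_mem 𝒬 P) n ≫ p = 0) :
    GrMod.map 𝒜 P.mkQ (mkQ_mem 𝒬 P) n ≫ pbar 𝒜 𝒬 P n p h = p :=
  (cplx_exact 𝒜 𝒬 P n).g_desc p h

theorem pbar_app (h : GrMod.map 𝒜 P.subtype (subtype_mem 𝒬 P) n ≫ p = 0) (V : (Proj 𝒜).Opens)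
    (s : Γ(GrMod.tilde 𝒜 𝒬 n, V)) :
    (pbar 𝒜 𝒬 P n p h).app V ((GrMod.map 𝒜 P.mkQ (mkQ_mem 𝒬 P) n).app V s) = p.app V s := by
  have := congrArg (fun φ => Scheme.Modules.Hom.app φ V s) (map_mkQ_pbar 𝒜 𝒬 P n p h)
  exact this

theorem funVal_mul' (W : (Proj 𝒜).Opens) (c c' : Γ(Proj 𝒜, W)) (y : ProjectiveSpectrum 𝒜)
    (hy : y ∈ W) : funVal 𝒜 W (c * c') y hy = funVal 𝒜 W c y hy * funVal 𝒜 W c' y hy := rfl

section Bij

variable [Finite ι] [F.IsQuasicoherent]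

include hG in
/-- a power of `G l` brings `v` into `P` when `p` kills `v / G l ^ k`. -/
theorem exists_pow_smul_mem (hd : 0 < d)
    (hP2 : ∀ (k : ℕ) (v : Q), v ∈ 𝒬 k → Kills 𝒜 𝒬 d G n p k v → v ∈ P)
    (l : ι) (k : ℕ) {i : ℕ} {v : Q} (hv : v ∈ 𝒬 i) (hi : (i : ℤ) = ((k • d : ℕ) : ℤ) + n)
    (h0 : p.app _ (fr 𝒜 𝒬 d G hG n l k hv hi) = 0) :
    ∃ e : ℕ, G l ^ e • v ∈ P := by
  classical
  haveI : Fintype ι := Fintype.ofFinite ι
  have hGl1 : G l ∈ 𝒜 (1 • d) := by rw [one_smul]; exact hG l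
  have hex : ∀ l' : ι, ∃ e : ℕ,
      ((Proj.awayToSection 𝒜 (G l')).hom (Away.mk 𝒜 (hG l') 1 (G l) hGl1)) ^ e •
        p.app _ (fr 𝒜 𝒬 d G hG n l' k hv hi) = 0 := by
    intro l'
    apply Groth.Agent.Lib.Helper2.QCoh.exists_pow_smul_eq_zero
      (Proj.isAffineOpen_basicOpen 𝒜 (G l') (hG l') hd) F
    have hBl' : (Proj 𝒜).basicOpen ((Proj.awayToSection 𝒜 (G l')).hom
        (Away.mk 𝒜 (hG l') 1 (G l) hGl1)) ≤ Proj.basicOpen 𝒜 (G l') := (Proj 𝒜).basicOpen_le _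
    have hBl : (Proj 𝒜).basicOpen ((Proj.awayToSection 𝒜 (G l')).hom
        (Away.mk 𝒜 (hG l') 1 (G l) hGl1)) ≤ Proj.basicOpen 𝒜 (G l) := by
      intro z hz
      have := (mem_basicOpen_awayToSection_iff (hG l') 1 (G l) hGl1 z).mp hz
      exact (ProjectiveSpectrum.mem_basicOpen 𝒜 (G l) z).mpr
        fun h => this (Ideal.mul_mem_right _ _ h)
    change F.presheaf.map (homOfLE hBl').op (p.app _ (fr 𝒜 𝒬 d G hG n l' k hv hi)) = 0
    rw [← app_map' p (homOfLE hBl')]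
    have hkey : (GrMod.tilde 𝒜 𝒬 n).presheaf.map (homOfLE hBl').op
          (fr 𝒜 𝒬 d G hG n l' k hv hi) =
        ((Proj 𝒜).presheaf.map (homOfLE hBl').op ((Proj.awayToSection 𝒜 (G l')).hom
          (Away.mk 𝒜 (hG l') 1 (G l) hGl1))) ^ k •
          (GrMod.tilde 𝒜 𝒬 n).presheaf.map (homOfLE hBl).op (fr 𝒜 𝒬 d G hG n l k hv hi) := by
      apply sec_ext
      intro z hz
      rw [secVal_map, secVal_fr, secVal_smul, secVal_map, secVal_fr, funVal_pow, funVal_map,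
        HomogeneousLocalization.val_pow,
        funVal_awayToSection_val (hG l') 1 (G l) hGl1 z (hBl' hz), Localization.mk_pow,
        LocalizedModule.mk_smul_mk, LocalizedModule.mk_eq]
      refine ⟨1, ?_⟩
      simp only [one_smul]
      change ((G l' ^ 1) ^ k * G l ^ k) • v = G l' ^ k • G l ^ k • v
      rw [smul_smul, pow_one]
    rw [hkey, Groth.Agent.Lib.Helper2.ModExact.app_smul, app_map' p (homOfLE hBl), h0, map_zero,
      smul_zero]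
  choose e he using hex
  have hE : ∀ l', ((Proj.awayToSection 𝒜 (G l')).hom (Away.mk 𝒜 (hG l') 1 (G l) hGl1)) ^
      (Finset.univ.sup e) • p.app _ (fr 𝒜 𝒬 d G hG n l' k hv hi) = 0 := by
    intro l'
    have hle : e l' ≤ Finset.univ.sup e := Finset.le_sup (Finset.mem_univ l')
    obtain ⟨r, hr⟩ := Nat.exists_eq_add_of_le hle
    rw [hr, pow_add, mul_comm, mul_smul, he l', smul_zero]
  refine ⟨Finset.univ.sup e, hP2 (Finset.univ.sup e • d + i) _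
    (SetLike.GradedSMul.smul_mem (SetLike.pow_mem_graded (Finset.univ.sup e) (hG l)) hv) ?_⟩
  intro l' i' m' a ha hdeg s hs
  have hnum : a * G l' ^ (k + Finset.univ.sup e) ∈ 𝒜 (m' • d) := by
    have h1 : a * G l' ^ (k + Finset.univ.sup e) ∈ 𝒜 (i' + (k + Finset.univ.sup e) • d) :=
      SetLike.mul_mem_graded ha (SetLike.pow_mem_graded (k + Finset.univ.sup e) (hG l'))
    have h2 : i' + (k + Finset.univ.sup e) • d = m' • d := by
      simp only [smul_eq_mul] at hdeg hi ⊢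
      push_cast at hdeg hi
      zify
      linarith
    rwa [h2] at h1
  have hs' : s = ((Proj.awayToSection 𝒜 (G l')).hom
        (Away.mk 𝒜 (hG l') m' (a * G l' ^ (k + Finset.univ.sup e)) hnum) *
      ((Proj.awayToSection 𝒜 (G l')).hom (Away.mk 𝒜 (hG l') 1 (G l) hGl1)) ^
        (Finset.univ.sup e)) • fr 𝒜 𝒬 d G hG n l' k hv hi := by
    apply sec_ext
    intro z hz
    rw [hs z hz, secVal_smul, secVal_fr, funVal_mul', funVal_pow, HomogeneousLocalization.val_mul,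
      HomogeneousLocalization.val_pow, funVal_awayToSection_val (hG l') m' _ hnum z hz,
      funVal_awayToSection_val (hG l') 1 (G l) hGl1 z hz, Localization.mk_pow,
      Localization.mk_mul, LocalizedModule.mk_smul_mk, LocalizedModule.mk_eq]
    refine ⟨1, ?_⟩
    simp only [one_smul]
    change (G l' ^ m' * (G l' ^ 1) ^ (Finset.univ.sup e) * G l' ^ k) • a •
        G l ^ (Finset.univ.sup e) • v =
      G l' ^ m' • (a * G l' ^ (k + Finset.univ.sup e) * G l ^ (Finset.univ.sup e)) • v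
    rw [smul_smul, smul_smul, smul_smul]
    congr 1
    ring
  rw [hs', Groth.Agent.Lib.Helper2.ModExact.app_smul, mul_smul, hE l', smul_zero]

include hG in
theorem injective_pbar_app (hd : 0 < d)
    (hP2 : ∀ (k : ℕ) (v : Q), v ∈ 𝒬 k → Kills 𝒜 𝒬 d G n p k v → v ∈ P)
    (h : GrMod.map 𝒜 P.subtype (subtype_mem 𝒬 P) n ≫ p = 0) (l : ι) :
    Function.Injective ((pbar 𝒜 𝒬 P n p h).app (Proj.basicOpen 𝒜 (G l))) := by
  rw [injective_iff_map_eq_zero]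
  intro s hs
  obtain ⟨k, i, ⟨μ, hμ⟩, hi, hval⟩ :=
    exists_global (toSect 𝒜 (quotPieces 𝒬 P) n _ s) hd (hG l)
  obtain ⟨v, hv, rfl⟩ := (mem_quotPieces 𝒬 P).mp hμ
  have hi' : (i : ℤ) = ((k • d : ℕ) : ℤ) + n := by
    rw [hi]
    simp only [smul_eq_mul]
    push_cast
    ring
  have hs' : (GrMod.map 𝒜 P.mkQ (mkQ_mem 𝒬 P) n).app _ (fr 𝒜 𝒬 d G hG n l k hv hi') = s := by
    apply sec_ext
    intro y hy
    rw [Groth.Agent.Lib.Helper27GrModExact.secVal_map_app, secVal_fr, GrMod.locMap_mk]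
    exact (hval ⟨y, hy⟩).symm
  have h0 : p.app _ (fr 𝒜 𝒬 d G hG n l k hv hi') = 0 := by
    rw [← pbar_app 𝒜 𝒬 P n p h, hs', hs]
  obtain ⟨e, he⟩ := exists_pow_smul_mem 𝒜 𝒬 P d G hG n p hd hP2 l k hv hi' h0
  apply sec_ext
  intro y hy
  rw [secVal_zero]
  refine (hval ⟨y, hy⟩).trans ?_
  rw [← LocalizedModule.zero_mk (1 : y.asHomogeneousIdeal.toIdeal.primeCompl),
    LocalizedModule.mk_eq]
  refine ⟨gp 𝒜 G l e y hy, ?_⟩
  rw [one_smul, smul_zero, smul_zero]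
  change G l ^ e • P.mkQ v = 0
  rw [← map_smul, Submodule.mkQ_apply, Submodule.Quotient.mk_eq_zero]
  exact he

include hG in
/-- `(Q/P)(n)~ ≅ F`. -/
theorem nonempty_iso (hd : 0 < d)
    (hcov : ∀ y : ProjectiveSpectrum 𝒜, ∃ l, G l ∉ y.asHomogeneousIdeal)
    (hP1 : ∀ (k : ℕ) (v : Q), v ∈ P → v ∈ 𝒬 k → Kills 𝒜 𝒬 d G n p k v)
    (hP2 : ∀ (k : ℕ) (v : Q), v ∈ 𝒬 k → Kills 𝒜 𝒬 d G n p k v → v ∈ P) [Epi p] :
    Nonempty (GrMod.tilde 𝒜 (quotPieces 𝒬 P) n ≅ F) := by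
  have h := map_subtype_comp 𝒜 𝒬 P d G hG n p hd hcov hP1
  haveI : (GrMod.tilde 𝒜 (quotPieces 𝒬 P) n).IsQuasicoherent :=
    isQuasicoherent_tilde 𝒜 (quotPieces 𝒬 P) n
  haveI : Epi (pbar 𝒜 𝒬 P n p h) := by
    have h1 : Epi (GrMod.map 𝒜 P.mkQ (mkQ_mem 𝒬 P) n ≫ pbar 𝒜 𝒬 P n p h) := by
      rw [map_mkQ_pbar]
      infer_instance
    exact epi_of_epi (GrMod.map 𝒜 P.mkQ (mkQ_mem 𝒬 P) n) _
  have hcover : IsOpenCover (fun l => Proj.basicOpen 𝒜 (G l)) := by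
    apply IsOpenCover.mk
    rw [eq_top_iff]
    intro y _
    obtain ⟨l, hl⟩ := hcov y
    exact Opens.mem_iSup.mpr ⟨l, (ProjectiveSpectrum.mem_basicOpen 𝒜 (G l) y).mpr hl⟩
  haveI : IsIso (pbar 𝒜 𝒬 P n p h) :=
    Groth.Agent.Lib.Helper27ARCohB.isIso_of_bijective_app_cover (pbar 𝒜 𝒬 P n p h)
      (fun l => Proj.basicOpen 𝒜 (G l)) hcover
      (fun l => Proj.isAffineOpen_basicOpen 𝒜 (G l) (hG l) hd)
      (fun l => ⟨injective_pbar_app 𝒜 𝒬 P d G hG n p hd hP2 h l,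
        Groth.Agent.Lib.Helper23.FinType.surjective_app_of_epi (pbar 𝒜 𝒬 P n p h)
          (Proj.isAffineOpen_basicOpen 𝒜 (G l) (hG l) hd)⟩)
  exact ⟨asIso (pbar 𝒜 𝒬 P n p h)⟩

end Bij

end Groth.Agent.Lib.Helper27TildeQuot
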