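import Mathlib
import Groth.Agent.Lib.Helper27TildeQuotB
import Groth.Agent.Lib.Helper27GrPiNat
import Groth.Agent.Lib.Helper27GrShiftIso
import Groth.Agent.Lib.Helper27SerreGen4
import Groth.Agent.Lib.Helper27ProjLcmCover

/-!
# Coherent modules on `Proj` of a Noetherian graded ring are `M~` with `M` finite graded (helper27)
-/

set_option autoImplicit false
universe u

open CategoryTheory CategoryTheory.Limits AlgebraicGeometry TopologicalSpace Opposite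

namespace Groth.Agent.Lib.Helper27ProjCohTilde

open Groth.Agent.Lib.Helper2GrModSect Groth.Agent.Lib.Helper27GrSubQuot
  Groth.Agent.Lib.Helper27GrPiNat Groth.Agent.Lib.Helper27TildeQuot
  Groth.Agent.Lib.Helper27GrShiftNat Groth.Agent.Lib.Helper27GrShiftIso

variable {R A : Type u} [CommRing R] [CommRing A] [Algebra R A] (𝒜 : ℕ → Submodule R A)
  [GradedAlgebra 𝒜]

section Free

variable (r : ℕ) (k : ℤ)

noncomputable instance instPiDec : DirectSum.Decomposition (piGr 𝒜 (Fin r)) := piDecomposition 𝒜 (Fin r)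

instance instPiSMul : SetLike.GradedSMul 𝒜 (piGr 𝒜 (Fin r)) := pi_gradedSMul 𝒜 (Fin r)

/-- the coordinate inclusion `A(k)~ ⟶ (A^r)(k)~`. -/
noncomputable def ιm (j : Fin r) : GrMod.tilde 𝒜 𝒜 k ⟶ GrMod.tilde 𝒜 (piGr 𝒜 (Fin r)) k :=
  GrMod.map 𝒜 (incl (A := A) (Fin r) j) (incl_mem 𝒜 (Fin r) j) k

/-- the coordinate projection `(A^r)(k)~ ⟶ A(k)~`. -/
noncomputable def πm (j : Fin r) : GrMod.tilde 𝒜 (piGr 𝒜 (Fin r)) k ⟶ GrMod.tilde 𝒜 𝒜 k :=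
  GrMod.map 𝒜 (proj (A := A) (Fin r) j) (proj_mem 𝒜 (Fin r) j) k

theorem ιm_πm (j j' : Fin r) :
    ιm 𝒜 r k j ≫ πm 𝒜 r k j' = if j = j' then 𝟙 _ else 0 := by
  apply Scheme.Modules.hom_ext
  intro V
  ext s
  change (πm 𝒜 r k j').app V ((ιm 𝒜 r k j).app V s) = _
  apply sec_ext
  intro y hy
  rw [πm, ιm, Groth.Agent.Lib.Helper27GrModExact.secVal_map_app,
    Groth.Agent.Lib.Helper27GrModExact.secVal_map_app]
  by_cases hjj : j = j'
  · subst hjj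
    rw [if_pos rfl]
    change _ = secVal 𝒜 𝒜 k V s y hy
    induction secVal 𝒜 𝒜 k V s y hy using LocalizedModule.induction_on with
    | h m t =>
      rw [GrMod.locMap_mk, GrMod.locMap_mk, proj_incl, if_pos rfl]
  · rw [if_neg hjj]
    change _ = secVal 𝒜 𝒜 k V 0 y hy
    rw [secVal_zero]
    induction secVal 𝒜 𝒜 k V s y hy using LocalizedModule.induction_on with
    | h m t =>
      rw [GrMod.locMap_mk, GrMod.locMap_mk, proj_incl, if_neg (Ne.symm hjj),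
        LocalizedModule.zero_mk]

variable {F : (Proj 𝒜).Modules}

/-- the morphism `(A^r)(k)~ ⟶ F` with components `q j`. -/
noncomputable def fromFree (q : Fin r → (GrMod.tilde 𝒜 𝒜 k ⟶ F)) :
    GrMod.tilde 𝒜 (piGr 𝒜 (Fin r)) k ⟶ F :=
  ∑ j : Fin r, πm 𝒜 r k j ≫ q j

theorem ιm_fromFree (q : Fin r → (GrMod.tilde 𝒜 𝒜 k ⟶ F)) (j : Fin r) :
    ιm 𝒜 r k j ≫ fromFree 𝒜 r k q = q j := by
  rw [fromFree, Preadditive.comp_sum, Finset.sum_eq_single j]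
  · rw [← Category.assoc, ιm_πm, if_pos rfl, Category.id_comp]
  · intro j' _ hj'
    rw [← Category.assoc, ιm_πm, if_neg (Ne.symm hj'), zero_comp]
  · intro h
    exact (h (Finset.mem_univ j)).elim

theorem epi_fromFree (p : (∐ fun _ : Fin r => GrMod.tilde 𝒜 𝒜 k) ⟶ F) [Epi p] :
    Epi (fromFree 𝒜 r k (fun j => Sigma.ι (fun _ : Fin r => GrMod.tilde 𝒜 𝒜 k) j ≫ p)) := by
  have h1 : Sigma.desc (fun j => ιm 𝒜 r k j) ≫
      fromFree 𝒜 r k (fun j => Sigma.ι (fun _ : Fin r => GrMod.tilde 𝒜 𝒜 k) j ≫ p) = p := by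
    apply Sigma.hom_ext
    intro j
    rw [← Category.assoc, Sigma.ι_desc, ιm_fromFree]
  have h2 : Epi (Sigma.desc (fun j => ιm 𝒜 r k j) ≫
      fromFree 𝒜 r k (fun j => Sigma.ι (fun _ : Fin r => GrMod.tilde 𝒜 𝒜 k) j ≫ p)) := by
    rw [h1]
    infer_instance
  exact epi_of_epi (Sigma.desc (fun j => ιm 𝒜 r k j)) _

end Free

/-- **Coherent modules on `Proj` of a Noetherian graded ring are `M~`, `M` finite graded.** -/
theorem exists_tilde_iso [IsNoetherianRing A] (F : (Proj 𝒜).Modules) [F.IsQuasicoherent]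
    [SheafOfModules.IsFiniteType (R := (Proj 𝒜).ringCatSheaf) F] :
    ∃ (M : Type u) (_ : AddCommGroup M) (_ : Module R M) (_ : Module A M) (_ : IsScalarTower R A M)
      (ℳ : ℕ → Submodule R M) (_ : DirectSum.Decomposition ℳ) (_ : SetLike.GradedSMul 𝒜 ℳ),
      Module.Finite A M ∧ Nonempty (GrTilde.tilde 𝒜 ℳ 0 ≅ F) := by
  classical
  obtain ⟨L, κ, hκ, G, hL, hG, hcov⟩ := Groth.Agent.Lib.Helper27ProjLcmCover.exists_lcm_cover 𝒜
  obtain ⟨n₀, hn₀⟩ := Groth.Agent.Lib.Helper27GrTildeSect.exists_epi_twist 𝒜 L G hG hcov hL F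
  obtain ⟨r, p₀, hp₀⟩ := hn₀ n₀ le_rfl (0 - ((n₀ * L : ℕ) : ℤ)) (by simp)
  obtain ⟨p, hp⟩ : ∃ p : (∐ fun _ : Fin r => GrMod.tilde 𝒜 𝒜 (0 - ((n₀ * L : ℕ) : ℤ))) ⟶ F,
      Epi p := ⟨p₀, hp₀⟩
  haveI : Epi p := hp
  -- the epimorphism from `(A^r)(k)~`
  have hp' := epi_fromFree 𝒜 r (0 - ((n₀ * L : ℕ) : ℤ)) p
  have hcov' : ∀ y : ProjectiveSpectrum 𝒜, ∃ l, G l ∉ y.asHomogeneousIdeal := fun y => hcov y
  -- the saturated kernel
  let p' := fromFree 𝒜 r (0 - ((n₀ * L : ℕ) : ℤ))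
    (fun j => Sigma.ι (fun _ : Fin r => GrMod.tilde 𝒜 𝒜 (0 - ((n₀ * L : ℕ) : ℤ))) j ≫ p)
  let P : Submodule A (Fin r → A) := N 𝒜 (piGr 𝒜 (Fin r)) L G hG (0 - ((n₀ * L : ℕ) : ℤ)) p'
  have hPhom := N_homogeneous 𝒜 (piGr 𝒜 (Fin r)) L G hG (0 - ((n₀ * L : ℕ) : ℤ)) p'
  letI : DirectSum.Decomposition (subPieces (piGr 𝒜 (Fin r)) P) :=
    subDecomposition (piGr 𝒜 (Fin r)) P hPhom
  letI : DirectSum.Decomposition (quotPieces (piGr 𝒜 (Fin r)) P) :=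
    quotDecomposition (piGr 𝒜 (Fin r)) P hPhom
  haveI : Epi p' := hp'
  obtain ⟨e⟩ := nonempty_iso 𝒜 (piGr 𝒜 (Fin r)) P L G hG (0 - ((n₀ * L : ℕ) : ℤ)) p' hL hcov'
    (fun k v hv hvk => kills_of_mem_N 𝒜 (piGr 𝒜 (Fin r)) L G hG _ p' hv hvk)
    (fun k v hvk hk => mem_N_of_kills 𝒜 (piGr 𝒜 (Fin r)) L G hG _ p' hvk hk)
  refine ⟨(Fin r → A) ⧸ P, inferInstance, inferInstance, inferInstance, inferInstance,
    shGr (quotPieces (piGr 𝒜 (Fin r)) P) (n₀ * L),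
    shDecomposition (quotPieces (piGr 𝒜 (Fin r)) P) (n₀ * L),
    sh_gradedSMul 𝒜 (quotPieces (piGr 𝒜 (Fin r)) P) (n₀ * L), inferInstance, ?_⟩
  exact ⟨(shiftIso 𝒜 (quotPieces (piGr 𝒜 (Fin r)) P) (n₀ * L) 0).trans e⟩

end Groth.Agent.Lib.Helper27ProjCohTilde
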