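import Groth.Agent.Lib.Helper27ProjFormK

/-!
# The projection formula `p_K (x · p^K y) = p_K x · y` for `P^n_Y` (helper27)

* `push_mul_pull_regular` : the formula for `x = [F]`, `F` regular finite locally free, `y = [E]`.
* `koszul_relation_mul` : `Σ_j (-1)^j C(n+1,j) [F(a+j)] = 0` in a model of `K(P^n_Y)`.
* `good_cl` : the formula for `x = [F]`, `F` any finite locally free module (induction on the twist making
  `F` regular).
* `push_mul_pull` : the formula.
-/

set_option autoImplicit false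
universe v u

open CategoryTheory CategoryTheory.Limits AlgebraicGeometry TopologicalSpace Opposite

namespace Groth.Agent.Lib.Helper27ProjFormK2

open Groth.Agent.Helper18KRR Groth.Agent.Lib.Helper27AmpleElt Groth.Agent.Lib.Helper27ProjFormK
  Groth.Agent.Lib.Helper27KoszPull

variable {n : ℕ} {Y : Scheme.{u}}
  {KP : Type v} [CommRing KP] [LambdaRing.LambdaOps KP] {PP : LambdaRing.PosStructure KP}
  {φP : SGA6.Kvb (KRR.PY n Y) →+ KP} (hKP : KRR.IsModel (KRR.PY n Y) KP PP φP)
  {KY : Type v} [CommRing KY] [LambdaRing.LambdaOps KY] {PY : LambdaRing.PosStructure KY}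
  {φY : SGA6.Kvb Y →+ KY} (hKY : KRR.IsModel Y KY PY φY)
  {g : KP →+ KY} (hg : KRR.IsPushPr n Y φP φY g)
  {q : KY →+ KP} (hq : KRR.IsPull (KRR.pr n Y) φY φP q)

include hKP in
/-- the Koszul relation, multiplied by `[F]`. -/
theorem koszul_relation_mul (F : (KRR.PY n Y).Modules) (hF : FlatMod.IsFinLocFree F) (a : ℤ) :
    (Finset.range (n + 2)).sum (fun j => ((-1 : ℤ) ^ j * ((n + 1).choose j : ℤ)) •
      φP (KRR.cl (KRR.PY n Y) (KRR.twF n Y (a + j) F))) = 0 := by
  have h := congrArg (fun z => φP z * φP (KRR.cl (KRR.PY n Y) F)) (koszul_relation_PY n Y a)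
  simp only [map_sum, map_zsmul, Finset.sum_mul, smul_mul_assoc, zero_mul, map_zero] at h
  rw [← h]
  refine Finset.sum_congr rfl (fun j _ => ?_)
  rw [hKP.map_mul _ _ (isFinLocFree_twistOver n Y _) hF]
  rfl

include hKP hKY hg hq in
theorem push_mul_pull_regular [IsNoetherian Y] (E : Y.Modules) (hE : FlatMod.IsFinLocFree E)
    (F : (KRR.PY n Y).Modules) (hF : FlatMod.IsFinLocFree F) (hreg : KRR.IsRegSheaf n Y F) :
    g (q (φY (KRR.cl Y E)) * φP (KRR.cl (KRR.PY n Y) F)) =
      φY (KRR.cl Y E) * g (φP (KRR.cl (KRR.PY n Y) F)) := by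
  have hPE := Groth.Agent.Lib.Helper1.Sky.isFinLocFree_pullback (KRR.pr n Y) E hE
  have hN : FlatMod.IsFinLocFree
      (CohB1.tensorMod ((Scheme.Modules.pullback (KRR.pr n Y)).obj E) F) :=
    Groth.Agent.Lib.Helper23.ResProp.isFinLocFree_tensorMod _ _ hPE hF
  have hFq := Groth.Agent.Lib.Helper21.HZB.isQuasicoherent_of_isFinLocFree F hF
  have hpF := Groth.Agent.Lib.Helper27RelRegF.isFinLocFree_push_of_isRegSheaf n Y F hF hreg
  rw [hq E hE, hKP.map_mul _ _ hPE hF]
  have h1 := hg _ hN (isRegSheaf_tensor_pullback n Y E hE F hFq hreg)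
  refine h1.trans ?_
  rw [hg F hF hreg, hKY.map_mul E _ hE hpF]
  exact congrArg φY (cl_of_iso (pushTensorIso n Y E hE F)
    (Groth.Agent.Lib.Helper23.ResProp.isFinLocFree_tensorMod _ _ hE hpF)).symm

/-- the elements of `K(P)` satisfying the projection formula against all `[E]`. -/
def Good (φY : SGA6.Kvb Y →+ KY) (g : KP →+ KY) (q : KY →+ KP) (x : KP) : Prop :=
  ∀ E : Y.Modules, FlatMod.IsFinLocFree E →
    g (q (φY (KRR.cl Y E)) * x) = φY (KRR.cl Y E) * g x

omit [LambdaRing.LambdaOps KP] [LambdaRing.LambdaOps KY] in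
theorem good_zero : Good φY g q (0 : KP) := fun E _ => by simp

omit [LambdaRing.LambdaOps KP] [LambdaRing.LambdaOps KY] in
theorem good_add {x y : KP} (hx : Good φY g q x) (hy : Good φY g q y) : Good φY g q (x + y) :=
  fun E hE => by rw [mul_add, map_add, hx E hE, hy E hE, map_add, mul_add]

omit [LambdaRing.LambdaOps KP] [LambdaRing.LambdaOps KY] in
theorem good_neg {x : KP} (hx : Good φY g q x) : Good φY g q (-x) :=
  fun E hE => by rw [mul_neg, map_neg, hx E hE, map_neg, mul_neg]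

omit [LambdaRing.LambdaOps KP] [LambdaRing.LambdaOps KY] in
theorem good_zsmul {x : KP} (hx : Good φY g q x) (c : ℤ) : Good φY g q (c • x) :=
  fun E hE => by rw [mul_smul_comm, map_zsmul, hx E hE, map_zsmul, mul_smul_comm]

omit [LambdaRing.LambdaOps KP] [LambdaRing.LambdaOps KY] in
theorem good_sum {ι : Type*} (s : Finset ι) (x : ι → KP) (hx : ∀ i ∈ s, Good φY g q (x i)) :
    Good φY g q (s.sum x) := by
  classical
  induction s using Finset.induction_on with
  | empty => simpa using good_zero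
  | insert a s ha ih =>
    rw [Finset.sum_insert ha]
    exact good_add (hx a (Finset.mem_insert_self a s))
      (ih (fun i hi => hx i (Finset.mem_insert_of_mem hi)))

variable [IsNoetherian Y]

include hKP hKY hg hq in
theorem good_of_regular_twist : ∀ (k : ℕ) (F : (KRR.PY n Y).Modules), FlatMod.IsFinLocFree F →
    KRR.IsRegSheaf n Y (KRR.twF n Y (k : ℤ) F) → Good φY g q (φP (KRR.cl (KRR.PY n Y) F)) := by
  intro k
  induction k with
  | zero =>
    intro F hF hreg E hE
    obtain ⟨e0⟩ := nonempty_twistOver_zero_iso n Y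
    have e : KRR.twF n Y ((0 : ℕ) : ℤ) F ≅ F :=
      PicGrp.tensorModIso e0 (Iso.refl F) ≪≫ Groth.Agent.Lib.Helper23.TensorUnit.unitTensorIso F
    exact push_mul_pull_regular hKP hKY hg hq E hE F hF (isRegSheaf_of_iso n Y e hreg)
  | succ k ih =>
    intro F hF hreg
    have hFq := Groth.Agent.Lib.Helper21.HZB.isQuasicoherent_of_isFinLocFree F hF
    have hrel := koszul_relation_mul hKP F hF 0
    rw [Finset.sum_range_succ'] at hrel
    have htw : ∀ d : ℤ, FlatMod.IsFinLocFree (KRR.twF n Y d F) := fun d =>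
      Groth.Agent.Lib.Helper23.ResProp.isFinLocFree_tensorMod _ _ (isFinLocFree_twistOver n Y d) hF
    have hcl00 : KRR.cl (KRR.PY n Y) (KRR.twF n Y (0 + ((0 : ℕ) : ℤ)) F) =
        KRR.cl (KRR.PY n Y) F := by
      obtain ⟨e0⟩ := nonempty_twistOver_zero_iso n Y
      have e00 : KRR.twF n Y (0 + ((0 : ℕ) : ℤ)) F ≅ F := by
        rw [show (0 : ℤ) + ((0 : ℕ) : ℤ) = 0 by simp]
        exact PicGrp.tensorModIso e0 (Iso.refl F) ≪≫
          Groth.Agent.Lib.Helper23.TensorUnit.unitTensorIso F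
      exact cl_of_iso e00 (htw _)
    rw [hcl00, pow_zero, Nat.choose_zero_right, Nat.cast_one, one_mul, one_smul]
      at hrel
    have hx : φP (KRR.cl (KRR.PY n Y) F) = -(Finset.range (n + 1)).sum (fun j =>
        ((-1 : ℤ) ^ (j + 1) * ((n + 1).choose (j + 1) : ℤ)) •
          φP (KRR.cl (KRR.PY n Y) (KRR.twF n Y (0 + ((j + 1 : ℕ) : ℤ)) F))) :=
      eq_neg_of_add_eq_zero_right hrel
    rw [hx]
    refine good_neg (good_sum _ _ (fun j _ => good_zsmul ?_ _))
    refine ih _ (htw _) ?_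
    obtain ⟨e1⟩ := nonempty_twF_twF_iso n Y ((k : ℕ) : ℤ) (0 + ((j + 1 : ℕ) : ℤ))
      ((j : ℤ) + ((k + 1 : ℕ) : ℤ)) (by push_cast; ring) F
    obtain ⟨e2⟩ := nonempty_twF_twF_iso n Y (j : ℤ) ((k + 1 : ℕ) : ℤ)
      ((j : ℤ) + ((k + 1 : ℕ) : ℤ)) rfl F
    exact isRegSheaf_of_iso n Y (e2 ≪≫ e1.symm)
      (Groth.Agent.Lib.Helper27RelRegA.isRegSheaf_twF n Y _
        (Groth.Agent.Lib.Helper27RelRegA.isQCoh_twF n Y _ F hFq) hreg j)

include hKP hKY hg hq in
theorem good_cl (F : (KRR.PY n Y).Modules) (hF : FlatMod.IsFinLocFree F) :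
    Good φY g q (φP (KRR.cl (KRR.PY n Y) F)) := by
  obtain ⟨k, hk⟩ := exists_isRegSheaf_twF n Y F
    (Groth.Agent.Lib.Helper21.HZB.isCoh_of_isFinLocFree F hF)
  exact good_of_regular_twist hKP hKY hg hq k F hF hk

include hKP hKY hg hq in
/-- **the projection formula.** -/
theorem push_mul_pull (x : KP) (y : KY) : g (x * q y) = g x * y := by
  -- first in `x`, for `y = [E]`
  have h1 : ∀ (E : Y.Modules), FlatMod.IsFinLocFree E → ∀ x : KP,
      g (q (φY (KRR.cl Y E)) * x) = φY (KRR.cl Y E) * g x := by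
    intro E hE x
    obtain ⟨z, rfl⟩ := hKP.bijective.2 x
    have hab : (g.comp ((AddMonoidHom.mulLeft (q (φY (KRR.cl Y E)))).comp φP)) =
        ((AddMonoidHom.mulLeft (φY (KRR.cl Y E))).comp (g.comp φP)) :=
      Groth.Agent.Lib.Helper4.KPull.hom_ext_cl _ _ (fun F hF => good_cl hKP hKY hg hq F hF E hE)
    exact DFunLike.congr_fun hab z
  -- then in `y`
  obtain ⟨w, rfl⟩ := hKY.bijective.2 y
  have hcd : (g.comp ((AddMonoidHom.mulRight x).comp (q.comp φY))) =
      ((AddMonoidHom.mulLeft (g x)).comp φY) :=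
    Groth.Agent.Lib.Helper4.KPull.hom_ext_cl _ _ (fun E hE => by
      change g (q (φY (KRR.cl Y E)) * x) = g x * φY (KRR.cl Y E)
      rw [h1 E hE x, mul_comm])
  have := DFunLike.congr_fun hcd w
  change g (q (φY w) * x) = g x * φY w at this
  rw [mul_comm]
  exact this

end Groth.Agent.Lib.Helper27ProjFormK2
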