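import Groth.Prelude.Def_CohB1
import Mathlib

/-!
# Global functions on projective space (helper27)
-/

set_option autoImplicit false
universe u

open CategoryTheory AlgebraicGeometry HomogeneousLocalization

namespace Groth.Agent.Lib.Helper27ProjGamma

variable {n : ℕ} {R : Type u} [CommRing R]

/-- A homogeneous polynomial of degree `d` all of whose monomials have `X_i`-degree `≥ d`
is a multiple of `X_i ^ d`. -/
theorem eq_monomial_of_le (i : Fin (n + 1)) (d : ℕ) (a : MvPolynomial (Fin (n + 1)) R)
    (ha : a.IsHomogeneous d) (hsupp : ∀ m, MvPolynomial.coeff m a ≠ 0 → d ≤ m i) :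
    a = MvPolynomial.monomial (Finsupp.single i d)
      (MvPolynomial.coeff (Finsupp.single i d) a) := by
  classical
  apply MvPolynomial.eq_monomial_of_support_subset_singleton
  intro m hm
  have hm' := MvPolynomial.mem_support_iff.mp hm
  have h1 : Finsupp.weight (1 : Fin (n + 1) → ℕ) m = d := ha hm'
  have h2 := hsupp m hm'
  have h0 : Finsupp.weight (1 : Fin (n + 1) → ℕ) m = Finsupp.degree m := by
    rw [Finsupp.degree_eq_weight_one]; rfl
  rw [h0, Finsupp.degree_eq_sum,
    ← Finset.add_sum_erase Finset.univ _ (Finset.mem_univ i)] at h1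
  have h3 : m i = d := by omega
  have h4 : ∑ j ∈ Finset.univ.erase i, m j = 0 := by omega
  ext k
  by_cases hk : k = i
  · subst hk
    simp [h3]
  · rw [Finsupp.single_apply, if_neg (Ne.symm hk)]
    exact Finset.sum_eq_zero_iff.mp h4 k (Finset.mem_erase.mpr ⟨hk, Finset.mem_univ k⟩)

/-- the overlap identity forces the support condition. -/
theorem le_of_overlap {i j : Fin (n + 1)} (hij : i ≠ j) (d e : ℕ)
    (a b : MvPolynomial (Fin (n + 1)) R)
    (h : MvPolynomial.X j ^ e * a = MvPolynomial.X i ^ d * b) (m : Fin (n + 1) →₀ ℕ)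
    (hm : MvPolynomial.coeff m a ≠ 0) : d ≤ m i := by
  classical
  by_contra hlt
  apply hm
  have h1 := congrArg (MvPolynomial.coeff (m + Finsupp.single j e)) h
  rw [MvPolynomial.X_pow_eq_monomial, MvPolynomial.X_pow_eq_monomial,
    MvPolynomial.coeff_monomial_mul', MvPolynomial.coeff_monomial_mul',
    if_pos (by exact le_add_self), if_neg, one_mul, add_tsub_cancel_right] at h1
  · exact h1
  · intro hle
    have := hle i
    rw [Finsupp.single_apply, if_pos rfl, Finsupp.add_apply, Finsupp.single_apply,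
      if_neg (Ne.symm hij), add_zero] at this
    exact hlt this

variable (n R)

theorem hX (i : Fin (n + 1)) :
    (MvPolynomial.X i : MvPolynomial (Fin (n + 1)) R) ∈ CohB1.polyGrading n R 1 :=
  MvPolynomial.isHomogeneous_X R i

variable {n R}

/-- a fraction `a / X_i^d` with `a = c X_i^d` is a constant. -/
theorem mk_eq_fromZero (i : Fin (n + 1)) (d : ℕ) (a : MvPolynomial (Fin (n + 1)) R)
    (ha : a ∈ CohB1.polyGrading n R (d • 1))
    (hsupp : ∀ m, MvPolynomial.coeff m a ≠ 0 → d ≤ m i) :
    ∃ c : CohB1.polyGrading n R 0,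
      Away.mk (CohB1.polyGrading n R) (hX n R i) d a ha = fromZeroRingHom _ _ c := by
  have ha1 : a.IsHomogeneous d := by
    have : a.IsHomogeneous (d • 1) := ha
    simpa using this
  have ha' := eq_monomial_of_le i d a ha1 hsupp
  set c₀ := MvPolynomial.coeff (Finsupp.single i d) a with hc₀
  refine ⟨⟨MvPolynomial.C c₀, MvPolynomial.isHomogeneous_C _ _⟩, ?_⟩
  apply HomogeneousLocalization.val_injective
  rw [Away.val_mk]
  change _ = Localization.mk (MvPolynomial.C c₀) 1
  rw [Localization.mk_eq_mk_iff, Localization.r_iff_exists]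
  refine ⟨1, ?_⟩
  simp only [OneMemClass.coe_one, one_mul]
  rw [ha', ← MvPolynomial.C_mul_X_pow_eq_monomial]
  ring

theorem isConst_of_overlap {i j : Fin (n + 1)} (hij : i ≠ j)
    (σ : Away (CohB1.polyGrading n R) (MvPolynomial.X i))
    (σ' : Away (CohB1.polyGrading n R) (MvPolynomial.X j))
    (h : awayMap (CohB1.polyGrading n R) (hX n R j)
        (rfl : (MvPolynomial.X i * MvPolynomial.X j : MvPolynomial (Fin (n + 1)) R) = _) σ =
      awayMap (CohB1.polyGrading n R) (hX n R i)
        (mul_comm _ _ : (MvPolynomial.X i * MvPolynomial.X j : MvPolynomial (Fin (n + 1)) R) =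
          MvPolynomial.X j * MvPolynomial.X i) σ') :
    ∃ c : CohB1.polyGrading n R 0, σ = fromZeroRingHom _ _ c := by
  obtain ⟨d, a, ha, rfl⟩ := Away.mk_surjective (CohB1.polyGrading n R) (hX n R i) σ
  obtain ⟨e, b, hb, rfl⟩ := Away.mk_surjective (CohB1.polyGrading n R) (hX n R j) σ'
  rw [awayMap_mk, awayMap_mk] at h
  have hv := congrArg HomogeneousLocalization.val h
  rw [Away.val_mk, Away.val_mk, Localization.mk_eq_mk_iff, Localization.r_iff_exists] at hv
  obtain ⟨⟨c, k, rfl⟩, hc⟩ := hv
  simp only at hc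
  have key : (MvPolynomial.X j : MvPolynomial (Fin (n + 1)) R) ^ e * a =
      MvPolynomial.X i ^ d * b := by
    have hreg : IsRegular (((MvPolynomial.X i * MvPolynomial.X j) ^ k *
        (MvPolynomial.X i ^ e * MvPolynomial.X j ^ d) : MvPolynomial (Fin (n + 1)) R)) :=
      ((MvPolynomial.isRegular_X.mul MvPolynomial.isRegular_X).pow k).mul
        ((MvPolynomial.isRegular_X_pow e).mul (MvPolynomial.isRegular_X_pow d))
    apply hreg.left
    change _ * _ = _ * _
    linear_combination hc
  exact mk_eq_fromZero i d a ha (le_of_overlap hij d e a b key)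

theorem fromZero_injective (f : MvPolynomial (Fin (n + 1)) R) (hf : IsRegular f) :
    Function.Injective (fromZeroRingHom (CohB1.polyGrading n R) (Submonoid.powers f)) := by
  intro a b hab
  have hv := congrArg HomogeneousLocalization.val hab
  change Localization.mk (a : MvPolynomial (Fin (n + 1)) R) 1 =
    Localization.mk (b : MvPolynomial (Fin (n + 1)) R) 1 at hv
  rw [Localization.mk_eq_mk_iff, Localization.r_iff_exists] at hv
  obtain ⟨⟨c, k, rfl⟩, hc⟩ := hv
  simp only [OneMemClass.coe_one, one_mul] at hc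
  exact Subtype.ext ((hf.pow k).left hc)

theorem isConst_of_fin_one (σ : Away (CohB1.polyGrading 0 R) (MvPolynomial.X 0)) :
    ∃ c : CohB1.polyGrading 0 R 0, σ = fromZeroRingHom _ _ c := by
  obtain ⟨d, a, ha, rfl⟩ := Away.mk_surjective (CohB1.polyGrading 0 R) (hX 0 R 0) σ
  refine mk_eq_fromZero 0 d a ha ?_
  intro m hm
  have ha1 : a.IsHomogeneous (d • 1) := ha
  have h1 : Finsupp.weight (1 : Fin (0 + 1) → ℕ) m = d • 1 := ha1 hm
  have h0 : Finsupp.weight (1 : Fin (0 + 1) → ℕ) m = Finsupp.degree m := by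
    rw [Finsupp.degree_eq_weight_one]; rfl
  rw [h0, Finsupp.degree_eq_sum] at h1
  simp at h1
  omega

/-- A compatible family of sections on the standard charts is a constant. -/
theorem exists_const (σ : ∀ i : Fin (n + 1), Away (CohB1.polyGrading n R) (MvPolynomial.X i))
    (h : ∀ i j : Fin (n + 1), awayMap (CohB1.polyGrading n R) (hX n R j)
        (rfl : (MvPolynomial.X i * MvPolynomial.X j : MvPolynomial (Fin (n + 1)) R) = _) (σ i) =
      awayMap (CohB1.polyGrading n R) (hX n R i)
        (mul_comm _ _ : (MvPolynomial.X i * MvPolynomial.X j : MvPolynomial (Fin (n + 1)) R) =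
          MvPolynomial.X j * MvPolynomial.X i) (σ j)) :
    ∃ c : CohB1.polyGrading n R 0, ∀ i, σ i = fromZeroRingHom _ _ c := by
  rcases n with _ | n
  · obtain ⟨c, hc⟩ := isConst_of_fin_one (σ 0)
    refine ⟨c, fun i => ?_⟩
    have : i = 0 := Fin.ext (by omega)
    subst this
    exact hc
  · have hex : ∀ i : Fin (n + 1 + 1), ∃ c : CohB1.polyGrading (n + 1) R 0,
        σ i = fromZeroRingHom _ _ c := by
      intro i
      obtain ⟨j, hj⟩ := exists_ne i
      exact isConst_of_overlap (Ne.symm hj) (σ i) (σ j) (h i j)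
    choose c hc using hex
    refine ⟨c 0, fun i => ?_⟩
    rw [hc i]
    congr 1
    have h0i := h 0 i
    rw [hc 0, hc i, awayMap_fromZeroRingHom, awayMap_fromZeroRingHom] at h0i
    exact (fromZero_injective _ (MvPolynomial.isRegular_X.mul MvPolynomial.isRegular_X) h0i).symm

end Groth.Agent.Lib.Helper27ProjGamma
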