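import Mathlib
import Groth.Agent.Lib.Helper27ProjDim
import Groth.Agent.Lib.Helper27ProjCodimOne

/-!
# Hypersurfaces in projective space of dimension at least two are connected
-/

set_option autoImplicit false
universe u

open AlgebraicGeometry Order

namespace Groth.Agent.Lib.Helper27ProjHypConn

open Groth.Agent.Lib.Helper27ProjCodimOne (specializes_iff_le)

section General

variable {R A : Type u} [CommRing R] [CommRing A] [Algebra R A] (𝒜 : ℕ → Submodule R A)
  [GradedAlgebra 𝒜]

/-- Minimal primes over a homogeneous ideal are homogeneous. -/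
theorem isHomogeneous_of_mem_minimalPrimes {J P : Ideal A} (hJ : J.IsHomogeneous 𝒜)
    (hP : P ∈ J.minimalPrimes) : P.IsHomogeneous 𝒜 := by
  have hprime : P.IsPrime := hP.1.1
  have h1 : ((P.homogeneousCore 𝒜).toIdeal).IsPrime := Ideal.IsPrime.homogeneousCore hprime
  have h2 : J ≤ (P.homogeneousCore 𝒜).toIdeal := by
    rw [← hJ.toIdeal_homogeneousCore_eq_self]
    exact Ideal.homogeneousCore_mono _ hP.1.2
  have h3 := Ideal.toIdeal_homogeneousCore_le 𝒜 P
  have h4 : P ≤ (P.homogeneousCore 𝒜).toIdeal := hP.2 ⟨h1, h2⟩ h3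
  have h5 : (P.homogeneousCore 𝒜).toIdeal = P := le_antisymm h3 h4
  rw [← h5]
  exact (P.homogeneousCore 𝒜).isHomogeneous

theorem mem_closure_singleton_iff (a b : ProjectiveSpectrum 𝒜) :
    b ∈ closure ({a} : Set (ProjectiveSpectrum 𝒜)) ↔ a ≤ b :=
  (ProjectiveSpectrum.le_iff_mem_closure (𝒜 := 𝒜) a b).symm

end General

section Poly

open MvPolynomial

variable (k : Type u) [Field k] (n : ℕ)

/-- The grading of the polynomial ring by total degree. -/
noncomputable abbrev grad : ℕ → Submodule k (MvPolynomial (Fin (n + 1)) k) :=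
  MvPolynomial.homogeneousSubmodule (Fin (n + 1)) k

variable [inst : GradedAlgebra (grad k n)]

theorem X_mem_irrelevant (i : Fin (n + 1)) :
    (X i : MvPolynomial (Fin (n + 1)) k) ∈ HomogeneousIdeal.irrelevant (grad k n) :=
  HomogeneousIdeal.mem_irrelevant_of_mem _ (i := 1) Nat.zero_lt_one
    ((MvPolynomial.mem_homogeneousSubmodule _ _).mpr (MvPolynomial.isHomogeneous_X k i))

theorem three_le_height_irrelevant (hn : 2 ≤ n) :
    3 ≤ (HomogeneousIdeal.irrelevant (grad k n)).toIdeal.height := by
  let S : ℕ → Set (Fin (n + 1)) := fun j => {i | i.val < j}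
  let I : ℕ → Ideal (MvPolynomial (Fin (n + 1)) k) := fun j => Ideal.span (X '' S j)
  have hprime : ∀ j, (I j).IsPrime := fun j =>
    Groth.Agent.Lib.Helper27ProjDim.isPrime_span_X_image _
  have hlt : ∀ j, j ≤ n → I j < I (j + 1) := by
    intro j hj
    refine lt_of_le_of_ne ?_ ?_
    · apply Ideal.span_mono
      apply Set.image_mono
      intro i hi
      exact Nat.lt_succ_of_lt hi
    · intro heq
      have h1 : (X ⟨j, by omega⟩ : MvPolynomial (Fin (n + 1)) k) ∈ I (j + 1) := by
        change _ ∈ Ideal.span (X '' S (j + 1))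
        rw [Groth.Agent.Lib.Helper27ProjDim.X_mem_span_X_image_iff]
        exact Nat.lt_succ_self j
      rw [← heq] at h1
      change _ ∈ Ideal.span (X '' S j) at h1
      rw [Groth.Agent.Lib.Helper27ProjDim.X_mem_span_X_image_iff] at h1
      exact lt_irrefl j h1
  have hle : I 3 ≤ (HomogeneousIdeal.irrelevant (grad k n)).toIdeal := by
    rw [Ideal.span_le]
    rintro _ ⟨i, -, rfl⟩
    exact X_mem_irrelevant k n i
  have h0 := Ideal.height_add_one_le_of_lt_of_isPrime (hlt 0 (by omega))
  have h1 := Ideal.height_add_one_le_of_lt_of_isPrime (hlt 1 (by omega))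
  have h2 := Ideal.height_add_one_le_of_lt_of_isPrime (hlt 2 (by omega))
  have h3 := Ideal.height_mono hle
  have e1 : (1 : ℕ∞) ≤ (I 1).height := le_trans (by simp) h0
  have e2 : (2 : ℕ∞) ≤ (I 2).height := by
    refine le_trans ?_ h1
    calc (2 : ℕ∞) = 1 + 1 := by norm_num
      _ ≤ (I 1).height + 1 := by gcongr
  have e3 : (3 : ℕ∞) ≤ (I 3).height := by
    refine le_trans ?_ h2
    calc (3 : ℕ∞) = 2 + 1 := by norm_num
      _ ≤ (I 2).height + 1 := by gcongr
  exact e3.trans h3

/-- A homogeneous prime of height at most two gives a point of projective space (`n ≥ 2`). -/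
noncomputable def mkPt (hn : 2 ≤ n) (P : Ideal (MvPolynomial (Fin (n + 1)) k)) (hprime : P.IsPrime)
    (hhom : P.IsHomogeneous (grad k n)) (hht : P.height ≤ 2) : ProjectiveSpectrum (grad k n) where
  asHomogeneousIdeal := ⟨P, hhom⟩
  isPrime := hprime
  not_irrelevant_le := by
    intro hle
    have h1 : (HomogeneousIdeal.irrelevant (grad k n)).toIdeal ≤ P := hle
    have h2 := (three_le_height_irrelevant k n hn).trans ((Ideal.height_mono h1).trans hht)
    exact absurd h2 (by decide)

theorem le_irrelevant (P : ProjectiveSpectrum (grad k n)) :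
    P.asHomogeneousIdeal.toIdeal ≤ (HomogeneousIdeal.irrelevant (grad k n)).toIdeal := by
  refine (Groth.Agent.Lib.Helper27ProjDim.lt_irrelevant (grad k n) ?_ P).le
  intro a ha hne
  rw [MvPolynomial.mem_homogeneousSubmodule,
    ← MvPolynomial.totalDegree_zero_iff_isHomogeneous,
    MvPolynomial.totalDegree_eq_zero_iff_eq_C] at ha
  rw [ha] at hne ⊢
  have hc : MvPolynomial.coeff 0 a ≠ 0 := by
    intro h0
    apply hne
    rw [h0, map_zero]
  exact (isUnit_iff_ne_zero.mpr hc).map MvPolynomial.C

variable (f : MvPolynomial (Fin (n + 1)) k)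

/-- Every point of `V₊(f)` lies above a point that is a minimal prime over `(f)`. -/
theorem exists_min_le (P : ProjectiveSpectrum (grad k n)) (hP : f ∈ P.asHomogeneousIdeal)
    (d : ℕ) (hf : f.IsHomogeneous d) :
    ∃ p : ProjectiveSpectrum (grad k n), p ≤ P ∧
      p.asHomogeneousIdeal.toIdeal ∈ (Ideal.span {f}).minimalPrimes := by
  have hle : Ideal.span {f} ≤ P.asHomogeneousIdeal.toIdeal :=
    (Ideal.span_singleton_le_iff_mem (I := P.asHomogeneousIdeal.toIdeal)).mpr hP
  obtain ⟨p, hp, hpP⟩ := Ideal.exists_minimalPrimes_le hle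
  have hhom : p.IsHomogeneous (grad k n) := by
    refine isHomogeneous_of_mem_minimalPrimes (grad k n) ?_ hp
    apply Ideal.homogeneous_span
    rintro _ rfl
    exact ⟨d, (MvPolynomial.mem_homogeneousSubmodule _ _).mpr hf⟩
  refine ⟨⟨⟨p, hhom⟩, hp.1.1, fun h => P.not_irrelevant_le (h.trans hpP)⟩, hpP, hp⟩

omit inst in
/-- Minimal primes over `(f)`, `f ≠ 0`, are principal. -/
theorem exists_eq_span_of_mem_minimalPrimes (hf0 : f ≠ 0)
    (p : Ideal (MvPolynomial (Fin (n + 1)) k)) (hp : p ∈ (Ideal.span {f}).minimalPrimes) :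
    ∃ h : MvPolynomial (Fin (n + 1)) k, p = Ideal.span {h} := by
  have hprime : p.IsPrime := hp.1.1
  have hfp : f ∈ p := hp.1.2 (Ideal.subset_span (Set.mem_singleton f))
  have hfac := UniqueFactorizationMonoid.factors_prod hf0
  have hprod : (UniqueFactorizationMonoid.factors f).prod ∈ p := by
    obtain ⟨u, hu⟩ := hfac.symm
    rw [← hu]
    exact Ideal.mul_mem_right _ _ hfp
  obtain ⟨h, hh, hhp⟩ := (hprime.multiset_prod_mem_iff_exists_mem _).mp hprod
  have hhprime : Prime h := UniqueFactorizationMonoid.prime_of_factor h hh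
  have hdvd : h ∣ f := UniqueFactorizationMonoid.dvd_of_mem_factors hh
  refine ⟨h, le_antisymm ?_ ?_⟩
  · refine hp.2 ⟨(Ideal.span_singleton_prime hhprime.ne_zero).mpr hhprime, ?_⟩ ?_
    · rw [Ideal.span_singleton_le_iff_mem, Ideal.mem_span_singleton]
      exact hdvd
    · rw [Ideal.span_singleton_le_iff_mem]
      exact hhp
  · rw [Ideal.span_singleton_le_iff_mem]
    exact hhp

/-- Two minimal points of `V₊(f)` have a common specialization (`n ≥ 2`). -/
theorem exists_common (hn : 2 ≤ n) (hf0 : f ≠ 0) (p p' : ProjectiveSpectrum (grad k n))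
    (hp : p.asHomogeneousIdeal.toIdeal ∈ (Ideal.span {f}).minimalPrimes)
    (hp' : p'.asHomogeneousIdeal.toIdeal ∈ (Ideal.span {f}).minimalPrimes) :
    ∃ r : ProjectiveSpectrum (grad k n), p ≤ r ∧ p' ≤ r := by
  classical
  obtain ⟨h, hh⟩ := exists_eq_span_of_mem_minimalPrimes k n f hf0 _ hp
  obtain ⟨h', hh'⟩ := exists_eq_span_of_mem_minimalPrimes k n f hf0 _ hp'
  set J := p.asHomogeneousIdeal.toIdeal ⊔ p'.asHomogeneousIdeal.toIdeal with hJ
  have hJle : J ≤ (HomogeneousIdeal.irrelevant (grad k n)).toIdeal :=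
    sup_le (le_irrelevant k n p) (le_irrelevant k n p')
  have hJne : J ≠ ⊤ := by
    intro htop
    have hprime : (HomogeneousIdeal.irrelevant (grad k n)).toIdeal.IsPrime := by
      rw [HomogeneousIdeal.toIdeal_irrelevant]
      exact RingHom.ker_isPrime _
    exact hprime.ne_top (top_le_iff.mp (htop ▸ hJle))
  obtain ⟨q, hq⟩ := Ideal.nonempty_minimalPrimes hJne
  have hJhom : J.IsHomogeneous (grad k n) :=
    Ideal.IsHomogeneous.sup p.asHomogeneousIdeal.isHomogeneous p'.asHomogeneousIdeal.isHomogeneous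
  have hqhom := isHomogeneous_of_mem_minimalPrimes (grad k n) hJhom hq
  have hJspan : J = Ideal.span (({h, h'} : Finset (MvPolynomial (Fin (n + 1)) k)) :
      Set (MvPolynomial (Fin (n + 1)) k)) := by
    rw [hJ, hh, hh', Finset.coe_insert, Finset.coe_singleton, Ideal.span_insert]
  have hqht : q.height ≤ 2 := by
    rw [hJspan] at hq
    refine (Ideal.height_le_card_of_mem_minimalPrimes_span_finset hq).trans ?_
    exact_mod_cast Finset.card_le_two
  refine ⟨mkPt k n hn q hq.1.1 hqhom hqht, ?_, ?_⟩
  · exact (le_sup_left : p.asHomogeneousIdeal.toIdeal ≤ J).trans hq.1.2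
  · exact (le_sup_right : p'.asHomogeneousIdeal.toIdeal ≤ J).trans hq.1.2

theorem main (d : ℕ) (hn : 2 ≤ n) (hf : f.IsHomogeneous d) (hd : 0 < d) (hf0 : f ≠ 0) :
    IsConnected (ProjectiveSpectrum.zeroLocus (grad k n)
      ({f} : Set (MvPolynomial (Fin (n + 1)) k))) := by
  have hmem : ∀ P : ProjectiveSpectrum (grad k n),
      P ∈ ProjectiveSpectrum.zeroLocus (grad k n) ({f} : Set (MvPolynomial (Fin (n + 1)) k)) ↔
        f ∈ P.asHomogeneousIdeal := by
    intro P
    rw [ProjectiveSpectrum.mem_zeroLocus, Set.singleton_subset_iff]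
    rfl
  constructor
  · -- nonempty
    have hfirr : f ∈ HomogeneousIdeal.irrelevant (grad k n) :=
      HomogeneousIdeal.mem_irrelevant_of_mem _ hd
        ((MvPolynomial.mem_homogeneousSubmodule _ _).mpr hf)
    have hne : Ideal.span {f} ≠ ⊤ := by
      intro htop
      have hprime : (HomogeneousIdeal.irrelevant (grad k n)).toIdeal.IsPrime := by
        rw [HomogeneousIdeal.toIdeal_irrelevant]
        exact RingHom.ker_isPrime _
      have hle : Ideal.span {f} ≤ (HomogeneousIdeal.irrelevant (grad k n)).toIdeal :=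
        (Ideal.span_singleton_le_iff_mem (I := _)).mpr hfirr
      exact hprime.ne_top (top_le_iff.mp (htop ▸ hle))
    obtain ⟨q, hq⟩ := Ideal.nonempty_minimalPrimes hne
    have hqhom : q.IsHomogeneous (grad k n) := by
      refine isHomogeneous_of_mem_minimalPrimes (grad k n) ?_ hq
      apply Ideal.homogeneous_span
      rintro _ rfl
      exact ⟨d, (MvPolynomial.mem_homogeneousSubmodule _ _).mpr hf⟩
    have hqht : q.height ≤ 2 := by
      have h1 := Ideal.height_le_one_of_isPrincipal_of_mem_minimalPrimes (Ideal.span {f}) q hq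
      exact h1.trans (by norm_num)
    refine ⟨mkPt k n hn q hq.1.1 hqhom hqht, ?_⟩
    rw [hmem]
    exact hq.1.2 (Ideal.subset_span (Set.mem_singleton f))
  · -- preconnected
    set V := ProjectiveSpectrum.zeroLocus (grad k n)
      ({f} : Set (MvPolynomial (Fin (n + 1)) k)) with hV
    have hVclosed : IsClosed V := ProjectiveSpectrum.isClosed_zeroLocus _ _
    have hcover : V = ⋃ P : V, closure ({P.1} : Set (ProjectiveSpectrum (grad k n))) := by
      apply Set.Subset.antisymm
      · intro P hP
        exact Set.mem_iUnion.mpr ⟨⟨P, hP⟩, subset_closure (Set.mem_singleton P)⟩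
      · apply Set.iUnion_subset
        intro P
        exact closure_minimal (Set.singleton_subset_iff.mpr P.2) hVclosed
    rw [hcover]
    apply IsPreconnected.iUnion_of_reflTransGen
    · intro P
      exact (isIrreducible_singleton.closure).2.isPreconnected
    · intro P P'
      obtain ⟨p, hpP, hpmin⟩ := exists_min_le k n f P.1 ((hmem _).mp P.2) d hf
      obtain ⟨p', hp'P', hp'min⟩ := exists_min_le k n f P'.1 ((hmem _).mp P'.2) d hf
      have hpV : p ∈ V := by
        rw [hV, hmem]
        exact hpmin.1.2 (Ideal.subset_span (Set.mem_singleton f))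
      have hp'V : p' ∈ V := by
        rw [hV, hmem]
        exact hp'min.1.2 (Ideal.subset_span (Set.mem_singleton f))
      obtain ⟨r, hr1, hr2⟩ := exists_common k n f hn hf0 p p' hpmin hp'min
      have s1 : (closure ({P.1} : Set (ProjectiveSpectrum (grad k n))) ∩
          closure ({(⟨p, hpV⟩ : V).1} : Set (ProjectiveSpectrum (grad k n)))).Nonempty :=
        ⟨P.1, subset_closure (Set.mem_singleton _),
          (mem_closure_singleton_iff (grad k n) p P.1).mpr hpP⟩
      have s2 : (closure ({(⟨p, hpV⟩ : V).1} : Set (ProjectiveSpectrum (grad k n))) ∩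
          closure ({(⟨p', hp'V⟩ : V).1} : Set (ProjectiveSpectrum (grad k n)))).Nonempty :=
        ⟨r, (mem_closure_singleton_iff (grad k n) p r).mpr hr1,
          (mem_closure_singleton_iff (grad k n) p' r).mpr hr2⟩
      have s3 : (closure ({(⟨p', hp'V⟩ : V).1} : Set (ProjectiveSpectrum (grad k n))) ∩
          closure ({P'.1} : Set (ProjectiveSpectrum (grad k n)))).Nonempty :=
        ⟨P'.1, (mem_closure_singleton_iff (grad k n) p' P'.1).mpr hp'P',
          subset_closure (Set.mem_singleton _)⟩
      exact Relation.ReflTransGen.tail (Relation.ReflTransGen.tail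
        (Relation.ReflTransGen.single s1) s2) s3

end Poly

end Groth.Agent.Lib.Helper27ProjHypConn
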