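import Mathlib

/-!
# Patching projectivity along two ideals with zero intersection
-/

namespace Groth.Agent.Lib.Helper27ProjPatch

open TensorProduct

universe u

variable {R : Type u} [CommRing R]

/-- Lifting property of `P` against surjections of `I`-torsion modules when `P/IP` is projective
over `R/I`. -/
theorem lift_of_torsion (I : Ideal R) (P : Type u) [AddCommGroup P] [Module R P]
    (hI : Module.Projective (R ⧸ I) ((R ⧸ I) ⊗[R] P))
    {X Y : Type u} [AddCommGroup X] [Module R X] [AddCommGroup Y] [Module R Y]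
    (hX : Module.IsTorsionBySet R X I) (hY : Module.IsTorsionBySet R Y I)
    (f : X →ₗ[R] Y) (hf : Function.Surjective f) (g : P →ₗ[R] Y) :
    ∃ h : P →ₗ[R] X, f ∘ₗ h = g := by
  let _ := hX.module
  let _ := hY.module
  have : IsScalarTower R (R ⧸ I) X := hX.isScalarTower
  have : IsScalarTower R (R ⧸ I) Y := hY.isScalarTower
  let f' : X →ₗ[R ⧸ I] Y := LinearMap.extendScalarsOfSurjective Ideal.Quotient.mk_surjective f
  let g' : (R ⧸ I) ⊗[R] P →ₗ[R ⧸ I] Y := g.liftBaseChange (R ⧸ I)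
  obtain ⟨h', hh'⟩ := Module.projective_lifting_property f' g' hf
  refine ⟨(h'.restrictScalars R) ∘ₗ (TensorProduct.mk R (R ⧸ I) P 1), ?_⟩
  ext p
  have := LinearMap.congr_fun hh' (1 ⊗ₜ p)
  simpa [f', g'] using this

section Patch

variable (P : Type u) [AddCommGroup P] [Module R P]

/-- the canonical surjection from the free module on `P` -/
noncomputable def pi : (P →₀ R) →ₗ[R] P := Finsupp.linearCombination R id

theorem pi_surj : Function.Surjective (pi (R := R) P) :=
  fun x => ⟨Finsupp.single x 1, by simp [pi]⟩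

theorem map_pi_smul_top (a : Ideal R) :
    Submodule.map (pi (R := R) P) (a • ⊤) = a • (⊤ : Submodule R P) := by
  rw [Submodule.map_smul'', Submodule.map_top, LinearMap.range_eq_top.mpr (pi_surj P)]

theorem smul_top_le_comap (a : Ideal R) :
    (a • ⊤ : Submodule R (P →₀ R)) ≤ Submodule.comap (pi (R := R) P) (a • ⊤) := by
  rw [← Submodule.map_le_iff_le_comap, map_pi_smul_top]

/-- the induced map on quotients by `a` -/
noncomputable def piQ (a : Ideal R) :
    ((P →₀ R) ⧸ (a • ⊤ : Submodule R (P →₀ R))) →ₗ[R] (P ⧸ (a • ⊤ : Submodule R P)) :=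
  Submodule.mapQ _ _ (pi P) (smul_top_le_comap P a)

theorem piQ_mk (a : Ideal R) (x : P →₀ R) :
    piQ P a (Submodule.Quotient.mk x) = Submodule.Quotient.mk (pi P x) := rfl

theorem piQ_surj (a : Ideal R) : Function.Surjective (piQ (R := R) P a) := by
  intro y
  obtain ⟨p, rfl⟩ := Submodule.Quotient.mk_surjective _ y
  obtain ⟨x, rfl⟩ := pi_surj (R := R) P p
  exact ⟨Submodule.Quotient.mk x, rfl⟩

theorem coeff_mem_of_mem_smul_top (a : Ideal R) (x : P →₀ R)
    (hx : x ∈ (a • ⊤ : Submodule R (P →₀ R))) (p : P) : x p ∈ a := by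
  refine Submodule.smul_induction_on (p := fun x : P →₀ R => x p ∈ a) hx
    (fun r hr y _ => ?_) (fun y z hy hz => ?_)
  · show (r • y) p ∈ a
    rw [Finsupp.smul_apply, smul_eq_mul]
    exact a.mul_mem_right _ hr
  · show (y + z) p ∈ a
    rw [Finsupp.add_apply]
    exact a.add_mem hy hz

theorem smul_top_inf_eq_bot (I J : Ideal R) (hIJ : I ⊓ J = ⊥) :
    (I • ⊤ : Submodule R (P →₀ R)) ⊓ (J • ⊤) = ⊥ := by
  rw [eq_bot_iff]
  intro x hx
  rw [Submodule.mem_bot]
  ext p
  have h1 := coeff_mem_of_mem_smul_top P I x hx.1 p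
  have h2 := coeff_mem_of_mem_smul_top P J x hx.2 p
  have : x p ∈ I ⊓ J := ⟨h1, h2⟩
  rw [hIJ] at this
  simpa using this

theorem smul_smul_top_eq_zero (I J : Ideal R) (hIJ : I ⊓ J = ⊥) (a : R) (ha : a ∈ I) (z : P)
    (hz : z ∈ (J • ⊤ : Submodule R P)) : a • z = 0 := by
  refine Submodule.smul_induction_on (p := fun z : P => a • z = 0) hz
    (fun b hb w _ => ?_) (fun y z hy hz => ?_)
  · show a • b • w = 0
    rw [← mul_smul]
    have : a * b ∈ I ⊓ J := ⟨I.mul_mem_right _ ha, J.mul_mem_left _ hb⟩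
    rw [hIJ, Ideal.mem_bot] at this
    rw [this, zero_smul]
  · show a • (y + z) = 0
    rw [smul_add, hy, hz, add_zero]

theorem main (I J : Ideal R) (hIJ : I ⊓ J = ⊥)
    (hI : Module.Projective (R ⧸ I) ((R ⧸ I) ⊗[R] P))
    (hJ : Module.Projective (R ⧸ J) ((R ⧸ J) ⊗[R] P)) : Module.Projective R P := by
  -- step 1
  obtain ⟨uI, huI⟩ := lift_of_torsion I P hI
    (Module.isTorsionBySet_quotient_ideal_smul (P →₀ R) I)
    (Module.isTorsionBySet_quotient_ideal_smul P I)
    (piQ P I) (piQ_surj P I) (Submodule.mkQ _)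
  obtain ⟨uJ, huJ⟩ := lift_of_torsion J P hJ
    (Module.isTorsionBySet_quotient_ideal_smul (P →₀ R) J)
    (Module.isTorsionBySet_quotient_ideal_smul P J)
    (piQ P J) (piQ_surj P J) (Submodule.mkQ _)
  -- factor maps
  have hIB : (I • ⊤ : Submodule R (P →₀ R)) ≤ (I ⊔ J) • ⊤ := Submodule.smul_mono_left le_sup_left
  have hJB : (J • ⊤ : Submodule R (P →₀ R)) ≤ (I ⊔ J) • ⊤ := Submodule.smul_mono_left le_sup_right
  set ρI := Submodule.factor hIB with hρI
  set ρJ := Submodule.factor hJB with hρJ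
  have hρI_mk : ∀ x : P →₀ R, ρI (Submodule.Quotient.mk x) = Submodule.Quotient.mk x := fun x => rfl
  have hρJ_mk : ∀ x : P →₀ R, ρJ (Submodule.Quotient.mk x) = Submodule.Quotient.mk x := fun x => rfl
  -- compatibility of `piQ` with the factor maps
  have hker_of_I : ∀ y, piQ P I y = 0 → piQ P (I ⊔ J) (ρI y) = 0 := by
    intro y hy
    obtain ⟨x, rfl⟩ := Submodule.Quotient.mk_surjective _ y
    rw [hρI_mk, piQ_mk, Submodule.Quotient.mk_eq_zero]
    rw [piQ_mk, Submodule.Quotient.mk_eq_zero] at hy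
    exact Submodule.smul_mono_left le_sup_left hy
  -- the difference
  have hδker : ∀ p, (ρI ∘ₗ uI - ρJ ∘ₗ uJ) p ∈ LinearMap.ker (piQ P (I ⊔ J)) := by
    intro p
    rw [LinearMap.mem_ker, LinearMap.sub_apply, map_sub, LinearMap.comp_apply, LinearMap.comp_apply]
    obtain ⟨x1, hx1⟩ := Submodule.Quotient.mk_surjective _ (uI p)
    obtain ⟨x2, hx2⟩ := Submodule.Quotient.mk_surjective _ (uJ p)
    have e1 := LinearMap.congr_fun huI p
    have e2 := LinearMap.congr_fun huJ p
    rw [LinearMap.comp_apply, ← hx1, piQ_mk, Submodule.mkQ_apply,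
      Submodule.Quotient.eq] at e1
    rw [LinearMap.comp_apply, ← hx2, piQ_mk, Submodule.mkQ_apply,
      Submodule.Quotient.eq] at e2
    rw [← hx1, ← hx2, hρI_mk, hρJ_mk, piQ_mk, piQ_mk, ← Submodule.Quotient.mk_sub,
      Submodule.Quotient.mk_eq_zero]
    have h1 : pi P x1 - p ∈ ((I ⊔ J) • ⊤ : Submodule R P) := Submodule.smul_mono_left le_sup_left e1
    have h2 : pi P x2 - p ∈ ((I ⊔ J) • ⊤ : Submodule R P) := Submodule.smul_mono_left le_sup_right e2
    have := Submodule.sub_mem _ h1 h2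
    simpa using this
  set δ : P →ₗ[R] LinearMap.ker (piQ P (I ⊔ J)) :=
    LinearMap.codRestrict _ (ρI ∘ₗ uI - ρJ ∘ₗ uJ) hδker with hδ
  set φ : LinearMap.ker (piQ P I) →ₗ[R] LinearMap.ker (piQ P (I ⊔ J)) :=
    ρI.restrict (fun y hy => hker_of_I y hy) with hφ
  have hφsurj : Function.Surjective φ := by
    rintro ⟨y, hy⟩
    obtain ⟨x, rfl⟩ := Submodule.Quotient.mk_surjective _ y
    rw [LinearMap.mem_ker, piQ_mk, Submodule.Quotient.mk_eq_zero, Submodule.sup_smul,
      Submodule.mem_sup] at hy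
    obtain ⟨a, ha, b, hb, hab⟩ := hy
    rw [← map_pi_smul_top] at hb
    obtain ⟨z, hz, rfl⟩ := hb
    have hmem : (Submodule.Quotient.mk (x - z) : (P →₀ R) ⧸ (I • ⊤ : Submodule R (P →₀ R))) ∈
        LinearMap.ker (piQ P I) := by
      rw [LinearMap.mem_ker, piQ_mk, Submodule.Quotient.mk_eq_zero, map_sub, ← hab]
      simpa using ha
    refine ⟨⟨_, hmem⟩, ?_⟩
    apply Subtype.ext
    show ρI (Submodule.Quotient.mk (x - z)) = Submodule.Quotient.mk x
    rw [hρI_mk, Submodule.Quotient.eq]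
    have : x - z - x = -z := by abel
    rw [this]
    exact Submodule.neg_mem _ (hJB hz)
  -- torsion
  have htorI : Module.IsTorsionBySet R (LinearMap.ker (piQ P I)) I := by
    intro y a
    apply Subtype.ext
    have := Module.isTorsionBySet_quotient_ideal_smul (P →₀ R) I
    exact @this y.1 a
  have htorB : Module.IsTorsionBySet R (LinearMap.ker (piQ P (I ⊔ J))) I := by
    intro y a
    apply Subtype.ext
    have := Module.isTorsionBySet_quotient_ideal_smul (P →₀ R) (I ⊔ J)
    exact @this y.1 ⟨a.1, (le_sup_left : I ≤ I ⊔ J) a.2⟩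
  obtain ⟨h, hh⟩ := lift_of_torsion I P hI htorI htorB φ hφsurj δ
  set uI' : P →ₗ[R] ((P →₀ R) ⧸ (I • ⊤ : Submodule R (P →₀ R))) :=
    uI - (LinearMap.ker (piQ P I)).subtype ∘ₗ h with huI'
  have huI'1 : ∀ p, piQ P I (uI' p) = Submodule.Quotient.mk p := by
    intro p
    rw [huI', LinearMap.sub_apply, map_sub, LinearMap.comp_apply, Submodule.subtype_apply,
      LinearMap.mem_ker.mp (h p).2, sub_zero]
    exact LinearMap.congr_fun huI p
  have huI'2 : ∀ p, ρI (uI' p) = ρJ (uJ p) := by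
    intro p
    have e := congrArg Subtype.val (LinearMap.congr_fun hh p)
    rw [LinearMap.comp_apply] at e
    have e' : ρI ((h p).1) = ρI (uI p) - ρJ (uJ p) := e
    rw [huI', LinearMap.sub_apply, map_sub, LinearMap.comp_apply, Submodule.subtype_apply, e']
    abel
  have huJ1 : ∀ p, piQ P J (uJ p) = Submodule.Quotient.mk p := fun p => LinearMap.congr_fun huJ p
  -- step 3: glue
  set Φ : (P →₀ R) →ₗ[R] ((P →₀ R) ⧸ (I • ⊤ : Submodule R (P →₀ R))) ×
      ((P →₀ R) ⧸ (J • ⊤ : Submodule R (P →₀ R))) :=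
    (Submodule.mkQ _).prod (Submodule.mkQ _) with hΦ
  have hΦinj : Function.Injective Φ := by
    rw [← LinearMap.ker_eq_bot, hΦ, LinearMap.ker_prod, Submodule.ker_mkQ, Submodule.ker_mkQ]
    exact smul_top_inf_eq_bot P I J hIJ
  have hrange : ∀ p, (uI'.prod uJ) p ∈ LinearMap.range Φ := by
    intro p
    obtain ⟨x1, hx1⟩ := Submodule.Quotient.mk_surjective _ (uI' p)
    obtain ⟨x2, hx2⟩ := Submodule.Quotient.mk_surjective _ (uJ p)
    have e := huI'2 p
    rw [← hx1, ← hx2, hρI_mk, hρJ_mk, Submodule.Quotient.eq, Submodule.sup_smul,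
      Submodule.mem_sup] at e
    obtain ⟨a, ha, b, hb, hab⟩ := e
    refine ⟨x1 - a, ?_⟩
    rw [hΦ, LinearMap.prod_apply, LinearMap.prod_apply]
    refine Prod.ext ?_ ?_
    · show Submodule.Quotient.mk (x1 - a) = uI' p
      rw [← hx1, Submodule.Quotient.eq]
      simpa using Submodule.neg_mem _ ha
    · show Submodule.Quotient.mk (x1 - a) = uJ p
      rw [← hx2, Submodule.Quotient.eq]
      have : x1 - a - x2 = b := by
        rw [sub_right_comm, ← hab]
        abel
      rw [this]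
      exact hb
  set σ : P →ₗ[R] (P →₀ R) :=
    (LinearEquiv.ofInjective Φ hΦinj).symm.toLinearMap ∘ₗ
      LinearMap.codRestrict (LinearMap.range Φ) (uI'.prod uJ) hrange with hσ
  have hσΦ : ∀ p, Φ (σ p) = (uI' p, uJ p) := by
    intro p
    have := (LinearEquiv.ofInjective Φ hΦinj).apply_symm_apply
      (LinearMap.codRestrict (LinearMap.range Φ) (uI'.prod uJ) hrange p)
    have := congrArg Subtype.val this
    rw [LinearEquiv.ofInjective_apply] at this
    exact this
  -- step 4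
  have hνI : ∀ p, pi P (σ p) - p ∈ (I • ⊤ : Submodule R P) := by
    intro p
    have e := congrArg Prod.fst (hσΦ p)
    have e1 : (Submodule.Quotient.mk (σ p) : (P →₀ R) ⧸ (I • ⊤ : Submodule R (P →₀ R))) = uI' p := e
    have e2 := huI'1 p
    rw [← e1, piQ_mk, Submodule.Quotient.eq] at e2
    exact e2
  have hνJ : ∀ p, pi P (σ p) - p ∈ (J • ⊤ : Submodule R P) := by
    intro p
    have e := congrArg Prod.snd (hσΦ p)
    have e1 : (Submodule.Quotient.mk (σ p) : (P →₀ R) ⧸ (J • ⊤ : Submodule R (P →₀ R))) = uJ p := e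
    have e2 := huJ1 p
    rw [← e1, piQ_mk, Submodule.Quotient.eq] at e2
    exact e2
  set ν : P →ₗ[R] P := pi P ∘ₗ σ - LinearMap.id with hν
  have hν_apply : ∀ p, ν p = pi P (σ p) - p := fun p => rfl
  have hνzero : ∀ x ∈ (I • ⊤ : Submodule R P), ν x = 0 := by
    intro x hx
    refine Submodule.smul_induction_on (p := fun x : P => ν x = 0) hx
      (fun a ha y _ => ?_) (fun y z hy hz => ?_)
    · show ν (a • y) = 0
      rw [map_smul]
      exact smul_smul_top_eq_zero P I J hIJ a ha _ (by rw [hν_apply]; exact hνJ y)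
    · show ν (y + z) = 0
      rw [map_add, hy, hz, add_zero]
  have hνν : ∀ p, ν (ν p) = 0 := fun p => hνzero _ (by rw [hν_apply]; exact hνI p)
  refine Module.Projective.of_split (σ ∘ₗ (LinearMap.id - ν)) (pi P) ?_
  ext p
  simp only [LinearMap.comp_apply, LinearMap.sub_apply, LinearMap.id_apply]
  have h1 : ∀ q, pi P (σ q) = ν q + q := by
    intro q
    rw [hν_apply]
    abel
  rw [h1, map_sub, hνν]
  abel

end Patch

end Groth.Agent.Lib.Helper27ProjPatch
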