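import Groth.Agent.Lib.Helper27QuotCover
import Groth.Agent.Lib.Helper27ProjChartApp
import Groth.Agent.Lib.Helper27AwayInv
import Groth.Agent.Lib.Helper27HomogAvoid

/-!
# `Proj B → Proj B^G` is a quotient by the finite group `G` (helper27)
-/

set_option autoImplicit false
set_option linter.unusedSectionVars false
universe u

open CategoryTheory CategoryTheory.Limits AlgebraicGeometry HomogeneousLocalization
  TopologicalSpace Opposite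

namespace Groth.Agent.Lib.Helper27ProjQuot

open SGA1 Groth.Agent.Lib.Helper20 Groth.Agent.Lib.Helper27QuotCover
  Groth.Agent.Lib.Helper27ProjChartApp Groth.Agent.Lib.Helper27AwayInv

variable {R A : Type u} [CommRing R] [CommRing A] [Algebra R A] (𝒜 : ℕ → Submodule R A)
  [GradedAlgebra 𝒜]
  {G : Type u} [Group G] [Finite G] [MulSemiringAction G A]
  (hGdeg : ∀ (σ : G) (i : ℕ) (a : A), a ∈ 𝒜 i → σ • a ∈ 𝒜 i)
  {C : Type u} [CommRing C] [Algebra R C] (𝒞 : ℕ → Submodule R C) [GradedAlgebra 𝒞]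
  (ι : C →ₐ[R] A) (hι : Function.Injective ι)
  (hιdeg : ∀ (i : ℕ) (a : A), a ∈ (𝒞 i).map ι.toLinearMap ↔ (a ∈ 𝒜 i ∧ ∀ σ : G, σ • a = a))

include hGdeg hιdeg in
/-- every point of `Proj 𝒜` lies in `D₊(ι c)` for some invariant `c` of positive degree -/
theorem exists_inv_not_mem (x : Proj 𝒜) :
    ∃ (n : ℕ) (c : C), 0 < n ∧ c ∈ 𝒞 n ∧ ι c ∉ x.asHomogeneousIdeal := by
  classical
  cases nonempty_fintype G
  have hrel := x.not_irrelevant_le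
  rw [HomogeneousIdeal.irrelevant_le] at hrel
  push Not at hrel
  obtain ⟨m, hm, hrel⟩ := hrel
  obtain ⟨f₀, hf₀, hf₀x⟩ := SetLike.not_le_iff_exists.mp hrel
  have hf₀' : f₀ ∈ 𝒜 m := hf₀
  obtain ⟨d, f, hd, hf, -, hfs⟩ := Helper27HomogAvoid.exists_homog_avoid 𝒜
    (HomogeneousIdeal.irrelevant 𝒜).toIdeal (HomogeneousIdeal.irrelevant 𝒜).isHomogeneous
    (fun a ha => by
      have h1 := (HomogeneousIdeal.mem_irrelevant_iff 𝒜 a).mp ha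
      rwa [GradedRing.proj_apply] at h1) _
    (Finset.univ.image (fun g : G =>
      Ideal.comap (MulSemiringAction.toRingHom G A g) x.asHomogeneousIdeal.toIdeal)) rfl (by
      intro p hp
      obtain ⟨g, _, rfl⟩ := Finset.mem_image.mp hp
      have hxp : x.asHomogeneousIdeal.toIdeal.IsPrime := x.isPrime
      refine ⟨Ideal.IsPrime.comap _, fun hle => hf₀x ?_⟩
      have h1 : g⁻¹ • f₀ ∈ (HomogeneousIdeal.irrelevant 𝒜).toIdeal :=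
        HomogeneousIdeal.mem_irrelevant_of_mem 𝒜 hm (hGdeg g⁻¹ m f₀ hf₀')
      have h2 := hle h1
      rw [Ideal.mem_comap, MulSemiringAction.toRingHom_apply, smul_inv_smul] at h2
      exact h2)
  have hfx : ∀ g : G, g • f ∉ x.asHomogeneousIdeal := by
    intro g hg
    exact hfs _ (Finset.mem_image.mpr ⟨g, Finset.mem_univ g, rfl⟩) hg
  have hN : ∏ g : G, g • f ∈ 𝒜 (∑ _g : G, d) :=
    SetLike.prod_mem_graded 𝒜 (fun _ => d) (fun g => g • f) (fun g _ => hGdeg g d f hf)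
  have hNinv : ∀ σ : G, σ • ∏ g : G, g • f = ∏ g : G, g • f := by
    intro σ
    change MulSemiringAction.toRingHom G A σ (∏ g : G, g • f) = _
    rw [map_prod]
    refine Fintype.prod_equiv (Equiv.mulLeft σ) _ _ (fun g => ?_)
    rw [MulSemiringAction.toRingHom_apply, Equiv.coe_mulLeft, mul_smul]
  obtain ⟨c, hc, hcN⟩ := exists_of_inv ι hιdeg hN hNinv
  refine ⟨∑ _g : G, d, c, ?_, hc, ?_⟩
  · exact Finset.sum_pos (fun _ _ => hd) ⟨1, Finset.mem_univ 1⟩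
  · rw [hcN]
    intro hmem
    obtain ⟨g, -, hg⟩ := (x.isPrime.prod_mem_iff).mp hmem
    exact hfx g hg

variable (ρ : G →* Aut (Proj 𝒜))
  (hρ : ∀ (σ : G) (n : ℕ) (f : A) (hn : 0 < n) (hf : f ∈ 𝒜 n)
    (θ : CommRingCat.of (HomogeneousLocalization.Away 𝒜 f) ⟶
      CommRingCat.of (HomogeneousLocalization.Away 𝒜 (σ • f))),
    (algebraMap (HomogeneousLocalization.Away 𝒜 (σ • f)) (Localization.Away (σ • f))).comp θ.hom =
      (Localization.awayMap (MulSemiringAction.toRingHom G A σ) f).comp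
        (algebraMap (HomogeneousLocalization.Away 𝒜 f) (Localization.Away f)) →
    Proj.awayι 𝒜 (σ • f) (hGdeg σ n f hf) hn ≫ (ρ σ).inv = Spec.map θ ≫ Proj.awayι 𝒜 f hf hn)
  (π : Proj 𝒜 ⟶ Proj 𝒞)
  (hπ : ∀ (n : ℕ) (c : C) (hn : 0 < n) (hc : c ∈ 𝒞 n)
    (θ : CommRingCat.of (HomogeneousLocalization.Away 𝒞 c) ⟶
      CommRingCat.of (HomogeneousLocalization.Away 𝒜 (ι c))),
    (algebraMap (HomogeneousLocalization.Away 𝒜 (ι c)) (Localization.Away (ι c))).comp θ.hom =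
      (Localization.awayMap ι.toRingHom c).comp
        (algebraMap (HomogeneousLocalization.Away 𝒞 c) (Localization.Away c)) →
    Proj.awayι 𝒜 (ι c) ((hιdeg n (ι c)).mp (Submodule.mem_map_of_mem hc)).1 hn ≫ π =
      Spec.map θ ≫ Proj.awayι 𝒞 c hc hn)

include hπ in
theorem pi_chart {n : ℕ} {c : C} (hn : 0 < n) (hc : c ∈ 𝒞 n) :
    Proj.awayι 𝒜 (ι c) (ι_mem ι hιdeg hc) hn ≫ π =
      Spec.map (CommRingCat.ofHom (thC ι hιdeg c)) ≫ Proj.awayι 𝒞 c hc hn :=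
  hπ n c hn hc (CommRingCat.ofHom (thC ι hιdeg c)) (thC_compat ι hιdeg c)

include hρ in
theorem rho_chart (σ : G) {n : ℕ} (hn : 0 < n) {f f' : A} (h : σ • f = f') (hf : f ∈ 𝒜 n)
    (hf' : f' ∈ 𝒜 n) :
    Proj.awayι 𝒜 f' hf' hn ≫ (ρ σ).inv =
      Spec.map (CommRingCat.ofHom (thG hGdeg σ h)) ≫ Proj.awayι 𝒜 f hf hn := by
  subst h
  exact hρ σ n f hn hf (CommRingCat.ofHom (thG hGdeg σ rfl)) (thG_compat hGdeg σ f)

include hGdeg hπ in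
theorem preimage_basicOpen {n : ℕ} {c : C} (hn : 0 < n) (hc : c ∈ 𝒞 n) :
    π ⁻¹ᵁ Proj.basicOpen 𝒞 c = Proj.basicOpen 𝒜 (ι c) := by
  apply le_antisymm
  · intro x hx
    obtain ⟨n', c', hn', hc', hc'x⟩ := exists_inv_not_mem 𝒜 hGdeg 𝒞 ι hιdeg x
    have hx' : x ∈ (Proj.awayι 𝒜 (ι c') (ι_mem ι hιdeg hc') hn').opensRange := by
      rw [Proj.opensRange_awayι]
      exact (Proj.mem_basicOpen _ _ _).mpr hc'x
    obtain ⟨y, rfl⟩ := hx'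
    have h1 : π ((Proj.awayι 𝒜 (ι c') (ι_mem ι hιdeg hc') hn') y) =
        (Proj.awayι 𝒞 c' hc' hn') ((Spec.map (CommRingCat.ofHom (thC ι hιdeg c'))) y) :=
      congrArg (fun ψ : Spec (CommRingCat.of (Away 𝒜 (ι c'))) ⟶ Proj 𝒞 => ψ y)
        (pi_chart 𝒜 𝒞 ι hιdeg π hπ hn' hc')
    have h2 : (Spec.map (CommRingCat.ofHom (thC ι hιdeg c'))) y ∈
        (Proj.awayι 𝒞 c' hc' hn') ⁻¹ᵁ Proj.basicOpen 𝒞 c := by
      change (Proj.awayι 𝒞 c' hc' hn') ((Spec.map (CommRingCat.ofHom (thC ι hιdeg c'))) y) ∈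
        Proj.basicOpen 𝒞 c
      rw [← h1]
      exact hx
    rw [Proj.awayι_preimage_basicOpen 𝒞 hc' hn' hc hn] at h2
    have h3 : y ∈ (Proj.awayι 𝒜 (ι c') (ι_mem ι hιdeg hc') hn') ⁻¹ᵁ Proj.basicOpen 𝒜 (ι c) := by
      rw [Proj.awayι_preimage_basicOpen 𝒜 (ι_mem ι hιdeg hc') hn' (ι_mem ι hιdeg hc) hn]
      intro hmem
      apply h2
      change thC ι hιdeg c' (Away.isLocalizationElem hc' hc) ∈ y.asIdeal
      rw [thC_isLocalizationElem ι hιdeg hc' hc]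
      exact hmem
    exact h3
  · exact le_preimage_of_chart π (ι_mem ι hιdeg hc) hn hc hn _ (pi_chart 𝒜 𝒞 ι hιdeg π hπ hn hc)

include hρ hπ in
theorem inv_comp (g : G) : (ρ g).inv ≫ π = π := by
  let V : (Σ n : ℕ, {c : C // 0 < n ∧ c ∈ 𝒞 n}) → (Proj 𝒜).Opens :=
    fun i => Proj.basicOpen 𝒜 (ι i.2.1)
  have hcov : IsOpenCover V := by
    rw [IsOpenCover, eq_top_iff]
    intro x _
    obtain ⟨n, c, hn, hc, hcx⟩ := exists_inv_not_mem 𝒜 hGdeg 𝒞 ι hιdeg x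
    exact Opens.mem_iSup.2 ⟨⟨n, c, hn, hc⟩, (Proj.mem_basicOpen _ _ _).mpr hcx⟩
  refine ((Proj 𝒜).openCoverOfIsOpenCover V hcov).hom_ext _ _ (fun i => ?_)
  obtain ⟨n, c, hn, hc⟩ := i
  change (Proj.basicOpen 𝒜 (ι c)).ι ≫ (ρ g).inv ≫ π = (Proj.basicOpen 𝒜 (ι c)).ι ≫ π
  have hf := ι_mem ι hιdeg hc
  have key : Proj.awayι 𝒜 (ι c) hf hn ≫ (ρ g).inv ≫ π = Proj.awayι 𝒜 (ι c) hf hn ≫ π := by
    rw [← Category.assoc, rho_chart 𝒜 hGdeg ρ hρ g hn (smul_ι ι hιdeg g hc) hf hf, Category.assoc,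
      pi_chart 𝒜 𝒞 ι hιdeg π hπ hn hc, ← Category.assoc, ← Spec.map_comp,
      ← CommRingCat.ofHom_comp, thG_comp_thC hGdeg ι hιdeg g hc]
  rw [basicOpen_ι_eq hf hn, Category.assoc, Category.assoc, key]

include hρ hπ in
theorem hom_comp (g : G) : (ρ g).hom ≫ π = π := by
  have h := inv_comp 𝒜 hGdeg 𝒞 ι hιdeg ρ hρ π hπ g
  calc (ρ g).hom ≫ π = (ρ g).hom ≫ ((ρ g).inv ≫ π) := by rw [h]
    _ = ((ρ g).hom ≫ (ρ g).inv) ≫ π := (Category.assoc _ _ _).symm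
    _ = π := by rw [(ρ g).hom_inv_id, Category.id_comp]

include hρ hπ hι in
theorem quotAt_chart {n : ℕ} {c : C} (hn : 0 < n) (hc : c ∈ 𝒞 n) :
    QuotAt (fun g : G => (ρ g).hom) π (Proj.basicOpen 𝒞 c) (π ⁻¹ᵁ Proj.basicOpen 𝒞 c) := by
  rw [preimage_basicOpen 𝒜 hGdeg 𝒞 ι hιdeg π hπ hn hc]
  have hf := ι_mem ι hιdeg hc
  have e : Proj.basicOpen 𝒜 (ι c) ≤ π ⁻¹ᵁ Proj.basicOpen 𝒞 c :=
    (preimage_basicOpen 𝒜 hGdeg 𝒞 ι hιdeg π hπ hn hc).ge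
  have hinvhom : ∀ g : G, (ρ g).inv = (ρ g⁻¹).hom := fun g => by rw [map_inv]; rfl
  have eσ' : ∀ σ : G, Proj.basicOpen 𝒜 (ι c) ≤ (ρ σ).inv ⁻¹ᵁ Proj.basicOpen 𝒜 (ι c) := fun σ =>
    le_preimage_of_chart (ρ σ).inv hf hn hf hn _
      (rho_chart 𝒜 hGdeg ρ hρ σ hn (smul_ι ι hιdeg σ hc) hf hf)
  have eσ : ∀ g : G, Proj.basicOpen 𝒜 (ι c) ≤ (ρ g).hom ⁻¹ᵁ Proj.basicOpen 𝒜 (ι c) := fun g => by
    have := eσ' g⁻¹
    rwa [hinvhom, inv_inv] at this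
  have key1 := awayToSection_comp_appLE π hf hn hc hn _ (pi_chart 𝒜 𝒞 ι hιdeg π hπ hn hc) e
  have key2 : ∀ σ : G, Proj.awayToSection 𝒜 (ι c) ≫ (ρ σ).inv.appLE _ _ (eσ' σ) =
      CommRingCat.ofHom (thG hGdeg σ (smul_ι ι hιdeg σ hc)) ≫ Proj.awayToSection 𝒜 (ι c) := fun σ =>
    awayToSection_comp_appLE (ρ σ).inv hf hn hf hn _
      (rho_chart 𝒜 hGdeg ρ hρ σ hn (smul_ι ι hιdeg σ hc) hf hf) (eσ' σ)
  have hα := bijective_awayToSection hc hn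
  have hβ := bijective_awayToSection hf hn
  have h1 : ∀ a, (π.appLE _ _ e).hom ((Proj.awayToSection 𝒞 c).hom a) =
      (Proj.awayToSection 𝒜 (ι c)).hom (thC ι hιdeg c a) :=
    fun a => congrArg (fun φ => φ.hom a) key1
  refine ⟨e, eσ, ?_, ?_⟩
  · intro s s' hss
    obtain ⟨a, rfl⟩ := hα.2 s
    obtain ⟨a', rfl⟩ := hα.2 s'
    rw [h1, h1] at hss
    rw [thC_injective ι hιdeg hι hc (hβ.1 hss)]
  · intro s hs
    obtain ⟨t, rfl⟩ := hβ.2 s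
    have h2 : ∀ σ : G, thG hGdeg σ (smul_ι ι hιdeg σ hc) t = t := by
      intro σ
      apply hβ.1
      have h3 : ((ρ σ).inv.appLE _ _ (eσ' σ)).hom ((Proj.awayToSection 𝒜 (ι c)).hom t) =
          (Proj.awayToSection 𝒜 (ι c)).hom (thG hGdeg σ (smul_ι ι hιdeg σ hc) t) :=
        congrArg (fun φ => φ.hom t) (key2 σ)
      rw [← h3, appLE_congr_hom (hinvhom σ)]
      exact hs σ⁻¹
    obtain ⟨a, rfl⟩ := mem_range_thC hGdeg ι hιdeg hc t h2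
    exact ⟨(Proj.awayToSection 𝒞 c).hom a, h1 a⟩

include hρ hπ hι in
/-- **`Proj 𝒜 → Proj 𝒜^G` is a quotient by `G`.** -/
theorem isQuot : IsQuot ρ π := by
  refine isQuot_of_cover ρ π (hom_comp 𝒜 hGdeg 𝒞 ι hιdeg ρ hρ π hπ) (fun y => ?_)
  have hrel := y.not_irrelevant_le
  rw [HomogeneousIdeal.irrelevant_le] at hrel
  push Not at hrel
  obtain ⟨n, hn, hrel⟩ := hrel
  obtain ⟨c, hc, hcy⟩ := SetLike.not_le_iff_exists.mp hrel
  have hc' : c ∈ 𝒞 n := hc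
  refine ⟨Proj.basicOpen 𝒞 c, (Proj.mem_basicOpen _ _ _).mpr hcy,
    Proj.isAffineOpen_basicOpen 𝒞 c hc' hn, ?_,
    quotAt_chart 𝒜 hGdeg 𝒞 ι hι hιdeg ρ hρ π hπ hn hc'⟩
  rw [preimage_basicOpen 𝒜 hGdeg 𝒞 ι hιdeg π hπ hn hc']
  exact Proj.isAffineOpen_basicOpen 𝒜 (ι c) (ι_mem ι hιdeg hc') hn

end Groth.Agent.Lib.Helper27ProjQuot
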