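import Groth.Agent.Lib.Helper27PullGen
import Groth.Agent.Lib.Helper27SerreGen
import Groth.Agent.Lib.Helper27GrTildeBridge2

/-!
# Morphisms to `Proj` and pull-backs of the coordinates of `O(1)` (helper27)

`Proj 𝒜` covered by `D₊(G j)`, `G j ∈ 𝒜 1`; `r : X ⟶ Proj 𝒜`.
* `pj` : the pull-back of `G j` over `r⁻¹ D₊(G j)`, a generator of `r^* O(1)` there
* `res_pullSec_eq` : the global pulled-back coordinate `r^* G j` is `r^♯(G j / G k) • pj k` over `r⁻¹ D₊(G k)`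
* `mem_of_isGen_pullSec` : if `r^* G i` generates `r^* O(1)` near `x` then `r x ∈ D₊(G i)`.
-/

set_option autoImplicit false
universe u

open CategoryTheory CategoryTheory.Limits AlgebraicGeometry TopologicalSpace Opposite
  HomogeneousLocalization
open Groth.Agent.Lib.Helper23.SecTw Groth.Agent.Lib.Helper6 Groth.Agent.Helper13PullbackUnit
  Groth.Agent.Lib.Helper27PullGen

namespace Groth.Agent.Lib.Helper27GrTildeSect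

variable {R A : Type u} [CommRing R] [CommRing A] [Algebra R A] (𝒜 : ℕ → Submodule R A)
  [GradedAlgebra 𝒜]
variable {ι : Type*} (G : ι → A) (hG : ∀ j, G j ∈ 𝒜 1)
  (hcov : ∀ y : Proj 𝒜, ∃ i, G i ∉ (show ProjectiveSpectrum 𝒜 from y).asHomogeneousIdeal)
variable {X : Scheme.{u}} (r : X ⟶ Proj 𝒜)

instance isQuasicoherent_twistOne : (GrTilde.tilde 𝒜 𝒜 ((1 : ℕ) : ℤ)).IsQuasicoherent :=
  isQuasicoherent_tilde 𝒜 𝒜 _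

/-- the pull-back of the coordinate `G j` over `r⁻¹ D₊(G j)`. -/
noncomputable def pj (j : ι) :
    Γ((Scheme.Modules.pullback r).obj (GrTilde.tilde 𝒜 𝒜 ((1 : ℕ) : ℤ)),
      r ⁻¹ᵁ Proj.basicOpen 𝒜 (G j)) :=
  unitSec r (GrTilde.tilde 𝒜 𝒜 ((1 : ℕ) : ℤ)) le_rfl (gsec 𝒜 1 (Proj.basicOpen 𝒜 (G j)) (hG j))

theorem isGen_pj (j : ι) :
    IsGen ((Scheme.Modules.pullback r).obj (GrTilde.tilde 𝒜 𝒜 ((1 : ℕ) : ℤ)))
      (r ⁻¹ᵁ Proj.basicOpen 𝒜 (G j)) (pj 𝒜 G hG r j) :=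
  isGen_pullback r _ _ _ (isGen_gsec 𝒜 1 (hG j))

/-- `G j = (G j / G k) G k` as sections of `O(1)` over `D₊(G k)`. -/
theorem gsec_eq_cfun_smul (j k : ι) :
    gsec 𝒜 1 (Proj.basicOpen 𝒜 (G k)) (hG j) =
      cfun 𝒜 1 G hG j k • gsec 𝒜 1 (Proj.basicOpen 𝒜 (G k)) (hG k) := by
  apply sec_ext
  intro y hy
  rw [secVal_smul']
  change (Localization.mk (G j) _ : Twist.Loc 𝒜 y) =
    (funVal 𝒜 _ (cfun 𝒜 1 G hG j k) y hy).val * (Localization.mk (G k) _ : Twist.Loc 𝒜 y)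
  rw [cfun, funVal_fracFun, Localization.mk_mul, Localization.mk_eq_mk_iff,
    Localization.r_iff_exists]
  refine ⟨1, ?_⟩
  simp only [OneMemClass.coe_one, one_mul, Submonoid.coe_mul]
  ring

/-- the global pulled-back coordinate over `r⁻¹ D₊(G k)`. -/
theorem res_pullSec_eq (j k : ι) :
    res ((Scheme.Modules.pullback r).obj (GrTilde.tilde 𝒜 𝒜 ((1 : ℕ) : ℤ)))
        (le_top : r ⁻¹ᵁ Proj.basicOpen 𝒜 (G k) ≤ ⊤)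
        (ProjUP.pullSec r (GrTilde.tilde 𝒜 𝒜 ((1 : ℕ) : ℤ)) (gsec 𝒜 1 ⊤ (hG j))) =
      r.appLE (Proj.basicOpen 𝒜 (G k)) (r ⁻¹ᵁ Proj.basicOpen 𝒜 (G k)) le_rfl
        (cfun 𝒜 1 G hG j k) • pj 𝒜 G hG r k := by
  rw [pj, ← unitSec_smul, ← gsec_eq_cfun_smul]
  have h1 := unitSec_res r (GrTilde.tilde 𝒜 𝒜 ((1 : ℕ) : ℤ))
    (le_top : Proj.basicOpen 𝒜 (G k) ≤ ⊤) (le_refl (r ⁻¹ᵁ Proj.basicOpen 𝒜 (G k)))
    (gsec 𝒜 1 ⊤ (hG j))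
  rw [res_gsec] at h1
  rw [h1]
  have h2 : unitSec r (GrTilde.tilde 𝒜 𝒜 ((1 : ℕ) : ℤ)) (le_refl (r ⁻¹ᵁ ⊤)) (gsec 𝒜 1 ⊤ (hG j)) =
      ProjUP.pullSec r (GrTilde.tilde 𝒜 𝒜 ((1 : ℕ) : ℤ)) (gsec 𝒜 1 ⊤ (hG j)) := by
    rw [unitSec_apply]
    exact res_self ((Scheme.Modules.pullback r).obj (GrTilde.tilde 𝒜 𝒜 ((1 : ℕ) : ℤ))) _
  rw [h2]
  rfl

include hcov in
/-- if the pulled-back coordinate `r^* G i` generates `r^* O(1)` near `x`, then `r x ∈ D₊(G i)`. -/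
theorem mem_of_isGen_pullSec (i : ι) (x : X) (V : X.Opens) (hxV : x ∈ V)
    (hgen : IsGen ((Scheme.Modules.pullback r).obj (GrTilde.tilde 𝒜 𝒜 ((1 : ℕ) : ℤ))) V
      (res _ (le_top : V ≤ ⊤)
        (ProjUP.pullSec r (GrTilde.tilde 𝒜 𝒜 ((1 : ℕ) : ℤ)) (gsec 𝒜 1 ⊤ (hG i))))) :
    r x ∈ Proj.basicOpen 𝒜 (G i) := by
  obtain ⟨k, hk⟩ := hcov (r x)
  have hxk : x ∈ r ⁻¹ᵁ Proj.basicOpen 𝒜 (G k) :=
    (ProjectiveSpectrum.mem_basicOpen 𝒜 (G k) (r x)).mpr hk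
  set N := (Scheme.Modules.pullback r).obj (GrTilde.tilde 𝒜 𝒜 ((1 : ℕ) : ℤ)) with hN
  set c := r.appLE (Proj.basicOpen 𝒜 (G k)) (r ⁻¹ᵁ Proj.basicOpen 𝒜 (G k)) le_rfl
    (cfun 𝒜 1 G hG i k) with hc
  have ha := hgen.mono (inf_le_left : V ⊓ r ⁻¹ᵁ Proj.basicOpen 𝒜 (G k) ≤ V)
  have hb := (isGen_pj 𝒜 G hG r k).mono
    (inf_le_right : V ⊓ r ⁻¹ᵁ Proj.basicOpen 𝒜 (G k) ≤ r ⁻¹ᵁ Proj.basicOpen 𝒜 (G k))
  have hab : res N (inf_le_left : V ⊓ r ⁻¹ᵁ Proj.basicOpen 𝒜 (G k) ≤ V)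
      (res N (le_top : V ≤ ⊤)
        (ProjUP.pullSec r (GrTilde.tilde 𝒜 𝒜 ((1 : ℕ) : ℤ)) (gsec 𝒜 1 ⊤ (hG i)))) =
      resf (inf_le_right : V ⊓ r ⁻¹ᵁ Proj.basicOpen 𝒜 (G k) ≤ _) c •
        res N (inf_le_right : V ⊓ r ⁻¹ᵁ Proj.basicOpen 𝒜 (G k) ≤ _) (pj 𝒜 G hG r k) := by
    rw [res_res, ← res_smul, ← res_pullSec_eq, res_res]
  obtain ⟨u, hu⟩ := (ha _ le_rfl).2 (res N inf_le_right (pj 𝒜 G hG r k))
  replace hu : u • res N le_rfl (res N (inf_le_left : V ⊓ r ⁻¹ᵁ Proj.basicOpen 𝒜 (G k) ≤ V)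
      (res N (le_top : V ≤ ⊤)
        (ProjUP.pullSec r (GrTilde.tilde 𝒜 𝒜 ((1 : ℕ) : ℤ)) (gsec 𝒜 1 ⊤ (hG i))))) =
      res N inf_le_right (pj 𝒜 G hG r k) := hu
  rw [res_self, hab, smul_smul] at hu
  have hunit : u * resf inf_le_right c = 1 := by
    apply (hb _ le_rfl).1
    change (u * resf inf_le_right c) • res N le_rfl (res N inf_le_right (pj 𝒜 G hG r k)) =
      (1 : Γ(X, V ⊓ r ⁻¹ᵁ Proj.basicOpen 𝒜 (G k))) • res N le_rfl (res N inf_le_right (pj 𝒜 G hG r k))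
    rw [res_self, one_smul, hu]
  have hcu : IsUnit (resf (inf_le_right : V ⊓ r ⁻¹ᵁ Proj.basicOpen 𝒜 (G k) ≤ _) c) :=
    IsUnit.of_mul_eq_one _ (by rw [mul_comm]; exact hunit)
  have h1 : x ∈ X.basicOpen (resf (inf_le_right : V ⊓ r ⁻¹ᵁ Proj.basicOpen 𝒜 (G k) ≤ _) c) := by
    rw [Scheme.basicOpen_of_isUnit X hcu]
    exact ⟨hxV, hxk⟩
  rw [Scheme.basicOpen_res] at h1
  have h2 : x ∈ X.basicOpen c := h1.2
  rw [hc, Scheme.Hom.appLE_eq_app, ← Scheme.preimage_basicOpen] at h2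
  have h3 : r x ∈ (Proj 𝒜).basicOpen (cfun 𝒜 1 G hG i k) := h2
  have h4 := (mem_basicOpen_iff_isUnit_funVal 𝒜 _ (cfun 𝒜 1 G hG i k)
    (show ProjectiveSpectrum 𝒜 from r x) hxk).mp h3
  have h5 := (isUnit_of_val_eq_mk _ hk (funVal_fracFun 𝒜 _ (hG i) (hG k) _
    (show ProjectiveSpectrum 𝒜 from r x) hxk)).mp h4
  exact (ProjectiveSpectrum.mem_basicOpen 𝒜 (G i) (r x)).mpr h5

end Groth.Agent.Lib.Helper27GrTildeSect
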