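import Groth.Agent.Lib.Helper27ProjUniq3

/-!
# Uniqueness of morphisms from an affine scheme to `Proj`, through relations (helper27)

`X` affine, `r r' : X ⟶ Proj 𝒜` over `Spec R`, `𝒜` generated in degree one by the `G j`.
If every two-term relation `a • r^*G_j = b • r^*G_i` among the pulled-back coordinates also holds
for `r'`, then `r = r'`.
-/

set_option autoImplicit false
universe u

open CategoryTheory CategoryTheory.Limits AlgebraicGeometry TopologicalSpace Opposite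
  HomogeneousLocalization
open Groth.Agent.Lib.Helper23.SecTw Groth.Agent.Lib.Helper6 Groth.Agent.Helper13PullbackUnit
  Groth.Agent.Lib.Helper27PullGen Groth.Agent.Lib.Helper27AwayGen

namespace Groth.Agent.Lib.Helper27GrTildeSect

section IsGenSmul

variable {X : Scheme.{u}}

theorem isGen_of_eq_smul {M : X.Modules} {U : X.Opens} {e e'' : Γ(M, U)} (he : IsGen M U e)
    (c : Γ(X, U)) (h : e = c • e'') : IsGen M U e'' := by
  obtain ⟨u, hu⟩ := (he U le_rfl).2 e''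
  replace hu : u • res M le_rfl e = e'' := hu
  rw [res_self] at hu
  have hcu : c * u = 1 := by
    apply (he U le_rfl).1
    change (c * u) • res M le_rfl e = (1 : Γ(X, U)) • res M le_rfl e
    rw [res_self, one_smul, mul_smul, hu, ← h]
  intro W' hW'
  have hunit : IsUnit (resf hW' u) := by
    refine IsUnit.of_mul_eq_one (resf hW' c) ?_
    rw [mul_comm]
    change resf hW' c * resf hW' u = 1
    rw [← map_mul, hcu, map_one]
  have hfun : (fun a : Γ(X, W') => a • res M hW' e'') =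
      (fun a : Γ(X, W') => a • res M hW' e) ∘ (fun a : Γ(X, W') => a * resf hW' u) := by
    funext a
    change _ = (a * resf hW' u) • res M hW' e
    rw [← hu, res_smul, mul_smul]
  rw [hfun]
  refine (he W' hW').comp ⟨fun a b hab => hunit.mul_left_inj.mp hab, fun b => ?_⟩
  obtain ⟨v, hv⟩ := hunit
  exact ⟨b * ↑v⁻¹, by change b * ↑v⁻¹ * resf hW' u = b; rw [← hv, mul_assoc, Units.inv_mul, mul_one]⟩

end IsGenSmul

section Affine

variable {R A : Type u} [CommRing R] [CommRing A] [Algebra R A] (𝒜 : ℕ → Submodule R A)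
  [GradedAlgebra 𝒜]
variable {ι : Type*} (G : ι → A) (hG : ∀ j, G j ∈ 𝒜 1)
  (hcov : ∀ y : Proj 𝒜, ∃ i, G i ∉ (show ProjectiveSpectrum 𝒜 from y).asHomogeneousIdeal)
variable {X : Scheme.{u}} (r r' : X ⟶ Proj 𝒜)

/-- the pulled-back coordinate as a global section. -/
noncomputable abbrev psec (j : ι) :
    Γ((Scheme.Modules.pullback r).obj (GrTilde.tilde 𝒜 𝒜 ((1 : ℕ) : ℤ)), ⊤) :=
  ProjUP.pullSec r (GrTilde.tilde 𝒜 𝒜 ((1 : ℕ) : ℤ)) (gsec 𝒜 1 ⊤ (hG j))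

theorem res_psec_self (i : ι) {V : X.Opens} (hV : V ≤ r ⁻¹ᵁ Proj.basicOpen 𝒜 (G i)) :
    res ((Scheme.Modules.pullback r).obj (GrTilde.tilde 𝒜 𝒜 ((1 : ℕ) : ℤ))) (le_top : V ≤ ⊤)
        (psec 𝒜 G hG r i) =
      res _ hV (pj 𝒜 G hG r i) := by
  have h2 := congrArg (res ((Scheme.Modules.pullback r).obj (GrTilde.tilde 𝒜 𝒜 ((1 : ℕ) : ℤ))) hV)
    (res_pullSec_eq 𝒜 G hG r i i)
  rw [res_res, cfun_self, map_one, one_smul] at h2
  exact h2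

theorem isGen_res_psec (i : ι) {V : X.Opens} (hV : V ≤ r ⁻¹ᵁ Proj.basicOpen 𝒜 (G i)) :
    IsGen ((Scheme.Modules.pullback r).obj (GrTilde.tilde 𝒜 𝒜 ((1 : ℕ) : ℤ))) V
      (res _ (le_top : V ≤ ⊤) (psec 𝒜 G hG r i)) := by
  rw [res_psec_self 𝒜 G hG r i hV]
  exact (isGen_pj 𝒜 G hG r i).mono hV

theorem res_psec_eq (i j : ι) {V : X.Opens} (hV : V ≤ r ⁻¹ᵁ Proj.basicOpen 𝒜 (G i)) :
    res ((Scheme.Modules.pullback r).obj (GrTilde.tilde 𝒜 𝒜 ((1 : ℕ) : ℤ))) (le_top : V ≤ ⊤)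
        (psec 𝒜 G hG r j) =
      r.appLE (Proj.basicOpen 𝒜 (G i)) V hV (cfun 𝒜 1 G hG j i) •
        res _ (le_top : V ≤ ⊤) (psec 𝒜 G hG r i) := by
  have h1 := congrArg (res ((Scheme.Modules.pullback r).obj (GrTilde.tilde 𝒜 𝒜 ((1 : ℕ) : ℤ))) hV)
    (res_pullSec_eq 𝒜 G hG r j i)
  rw [res_res, res_smul] at h1
  rw [res_psec_self 𝒜 G hG r i hV]
  refine h1.trans ?_
  congr 1
  have h2 := Scheme.Hom.appLE_map r (le_refl (r ⁻¹ᵁ Proj.basicOpen 𝒜 (G i))) (homOfLE hV).op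
  exact congr($h2 (cfun 𝒜 1 G hG j i))

variable [IsAffine X]
  (hrel : ∀ (i j : ι) (a b : Γ(X, ⊤)),
    a • psec 𝒜 G hG r j = b • psec 𝒜 G hG r i → a • psec 𝒜 G hG r' j = b • psec 𝒜 G hG r' i)

include hrel in
theorem local_ratio (i : ι) (x : X) (hx : x ∈ r ⁻¹ᵁ Proj.basicOpen 𝒜 (G i)) :
    ∃ (V : X.Opens) (hV : V ≤ r ⁻¹ᵁ Proj.basicOpen 𝒜 (G i)), x ∈ V ∧
      ∀ j, res ((Scheme.Modules.pullback r').obj (GrTilde.tilde 𝒜 𝒜 ((1 : ℕ) : ℤ)))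
          (le_top : V ≤ ⊤) (psec 𝒜 G hG r' j) =
        r.appLE (Proj.basicOpen 𝒜 (G i)) V hV (cfun 𝒜 1 G hG j i) •
          res _ (le_top : V ≤ ⊤) (psec 𝒜 G hG r' i) := by
  obtain ⟨h, hle, hxh⟩ := (isAffineOpen_top X).exists_basicOpen_le
    (V := r ⁻¹ᵁ Proj.basicOpen 𝒜 (G i)) ⟨x, hx⟩ trivial
  refine ⟨X.basicOpen h, hle, hxh, fun j => ?_⟩
  haveI : ((Scheme.Modules.pullback r).obj (GrTilde.tilde 𝒜 𝒜 ((1 : ℕ) : ℤ))).IsQuasicoherent :=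
    Groth.Agent.Lib.Helper2.PullbackSec.isQuasicoherent_pullback r _
  set c := r.appLE (Proj.basicOpen 𝒜 (G i)) (X.basicOpen h) hle (cfun 𝒜 1 G hG j i) with hc
  obtain ⟨⟨a, ⟨_, m, rfl⟩⟩, hsurj⟩ := IsLocalization.surj (Submonoid.powers h) c
  replace hsurj : c * resf (le_top : X.basicOpen h ≤ ⊤) (h ^ m) =
    resf (le_top : X.basicOpen h ≤ ⊤) a := hsurj
  have e1 := res_psec_eq 𝒜 G hG r i j hle
  have hz : res ((Scheme.Modules.pullback r).obj (GrTilde.tilde 𝒜 𝒜 ((1 : ℕ) : ℤ)))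
      (le_top : X.basicOpen h ≤ ⊤) (h ^ m • psec 𝒜 G hG r j - a • psec 𝒜 G hG r i) = 0 := by
    rw [res_sub, res_smul, res_smul, e1, smul_smul, ← hsurj, mul_comm, sub_self]
  obtain ⟨m', _, hm'⟩ := exists_pow_smul_eq_zero_top_of_compactSpace X h _ _ hz
  have hr1 : (h ^ m' * h ^ m) • psec 𝒜 G hG r j = (h ^ m' * a) • psec 𝒜 G hG r i := by
    rw [mul_smul, mul_smul, ← sub_eq_zero, ← smul_sub]
    exact hm'
  have hr2 := hrel i j _ _ hr1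
  have hr3 := congrArg (res ((Scheme.Modules.pullback r').obj (GrTilde.tilde 𝒜 𝒜 ((1 : ℕ) : ℤ)))
    (le_top : X.basicOpen h ≤ ⊤)) hr2
  rw [res_smul, res_smul] at hr3
  have hu : IsUnit (resf (le_top : X.basicOpen h ≤ ⊤) (h ^ m' * h ^ m)) :=
    IsLocalization.map_units Γ(X, X.basicOpen h)
      (⟨h ^ m' * h ^ m, ⟨m' + m, (pow_add h m' m)⟩⟩ : Submonoid.powers h)
  have hr4 : resf (le_top : X.basicOpen h ≤ ⊤) (h ^ m' * a) =
      resf (le_top : X.basicOpen h ≤ ⊤) (h ^ m' * h ^ m) * c := by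
    have rm : ∀ a b : Γ(X, ⊤), resf (le_top : X.basicOpen h ≤ ⊤) (a * b) =
        resf (le_top : X.basicOpen h ≤ ⊤) a * resf (le_top : X.basicOpen h ≤ ⊤) b :=
      fun a b => map_mul (X.presheaf.map (homOfLE (le_top : X.basicOpen h ≤ ⊤)).op).hom a b
    rw [rm, rm, ← hsurj]
    ring
  rw [hr4, mul_smul] at hr3
  obtain ⟨v, hv⟩ := hu
  rw [← hv] at hr3
  have hr5 := congrArg (fun t => (↑v⁻¹ : Γ(X, X.basicOpen h)) • t) hr3
  simp only [smul_smul, ← mul_assoc, Units.inv_mul, one_mul, one_smul] at hr5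
  exact hr5

include hcov hrel in
theorem preimage_le_of_rel (i : ι) :
    r ⁻¹ᵁ Proj.basicOpen 𝒜 (G i) ≤ r' ⁻¹ᵁ Proj.basicOpen 𝒜 (G i) := by
  intro x hx
  obtain ⟨V, hV, hxV, hratio⟩ := local_ratio 𝒜 G hG r r' hrel i x hx
  obtain ⟨k, hk⟩ := hcov (r' x)
  have hxk : x ∈ r' ⁻¹ᵁ Proj.basicOpen 𝒜 (G k) :=
    (ProjectiveSpectrum.mem_basicOpen 𝒜 (G k) (r' x)).mpr hk
  have hgen := isGen_res_psec 𝒜 G hG r' k
    (inf_le_right : V ⊓ r' ⁻¹ᵁ Proj.basicOpen 𝒜 (G k) ≤ r' ⁻¹ᵁ Proj.basicOpen 𝒜 (G k))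
  have h1 := congrArg (res ((Scheme.Modules.pullback r').obj (GrTilde.tilde 𝒜 𝒜 ((1 : ℕ) : ℤ)))
    (inf_le_left : V ⊓ r' ⁻¹ᵁ Proj.basicOpen 𝒜 (G k) ≤ V)) (hratio k)
  rw [res_res, res_smul, res_res] at h1
  have hgen' := isGen_of_eq_smul hgen _ h1
  exact mem_of_isGen_pullSec 𝒜 G hG hcov r' i x (V ⊓ r' ⁻¹ᵁ Proj.basicOpen 𝒜 (G k))
    ⟨hxV, hxk⟩ hgen'

include hcov hrel in
theorem cfun_eq_of_rel (i j : ι) :
    r.appLE (Proj.basicOpen 𝒜 (G i)) (r ⁻¹ᵁ Proj.basicOpen 𝒜 (G i)) le_rfl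
        (cfun 𝒜 1 G hG j i) =
      r'.appLE (Proj.basicOpen 𝒜 (G i)) (r ⁻¹ᵁ Proj.basicOpen 𝒜 (G i))
        (preimage_le_of_rel 𝒜 G hG hcov r r' hrel i) (cfun 𝒜 1 G hG j i) := by
  have hΩ' := preimage_le_of_rel 𝒜 G hG hcov r r' hrel i
  choose V hV hxV hratio using
    (fun x : (r ⁻¹ᵁ Proj.basicOpen 𝒜 (G i) : X.Opens) => local_ratio 𝒜 G hG r r' hrel i x.1 x.2)
  refine TopCat.Sheaf.eq_of_locally_eq' X.sheaf (fun x => V x) (r ⁻¹ᵁ Proj.basicOpen 𝒜 (G i))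
    (fun x => homOfLE (hV x)) ?_ _ _ ?_
  · intro y hy
    exact Opens.mem_iSup.mpr ⟨⟨y, hy⟩, hxV ⟨y, hy⟩⟩
  · intro x
    have e1 : resf (hV x) (r.appLE (Proj.basicOpen 𝒜 (G i)) (r ⁻¹ᵁ Proj.basicOpen 𝒜 (G i)) le_rfl
        (cfun 𝒜 1 G hG j i)) =
        r.appLE (Proj.basicOpen 𝒜 (G i)) (V x) (hV x) (cfun 𝒜 1 G hG j i) := by
      have h2 := Scheme.Hom.appLE_map r (le_refl (r ⁻¹ᵁ Proj.basicOpen 𝒜 (G i)))
        (homOfLE (hV x)).op
      exact congr($h2 (cfun 𝒜 1 G hG j i))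
    have e2 : resf (hV x) (r'.appLE (Proj.basicOpen 𝒜 (G i)) (r ⁻¹ᵁ Proj.basicOpen 𝒜 (G i)) hΩ'
        (cfun 𝒜 1 G hG j i)) =
        r'.appLE (Proj.basicOpen 𝒜 (G i)) (V x) ((hV x).trans hΩ') (cfun 𝒜 1 G hG j i) := by
      have h2 := Scheme.Hom.appLE_map r' hΩ' (homOfLE (hV x)).op
      exact congr($h2 (cfun 𝒜 1 G hG j i))
    change resf (hV x) _ = resf (hV x) _
    rw [e1, e2]
    have hg := isGen_res_psec 𝒜 G hG r' i ((hV x).trans hΩ')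
    apply (hg (V x) le_rfl).1
    change _ • res _ le_rfl (res _ _ _) = _ • res _ le_rfl (res _ _ _)
    rw [res_self, ← hratio x j, ← res_psec_eq 𝒜 G hG r' i j ((hV x).trans hΩ')]

include hrel in
/-- **Uniqueness of morphisms from an affine scheme to `Proj`**, through relations. -/
theorem proj_hom_ext_of_rel (hgen : Algebra.adjoin R (Set.range G) = ⊤)
    (hrr' : r ≫ toBase 𝒜 = r' ≫ toBase 𝒜) : r = r' := by
  have hcov : ∀ y : Proj 𝒜, ∃ i, G i ∉ (show ProjectiveSpectrum 𝒜 from y).asHomogeneousIdeal := by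
    intro y
    obtain ⟨i, _, hi⟩ := Groth.Agent.Lib.Helper27ProjCover.exists_not_mem 𝒜 G (fun _ => 1) hG hgen
      (show ProjectiveSpectrum 𝒜 from y)
    exact ⟨i, hi⟩
  exact proj_hom_ext_of_cfun 𝒜 G hG r r' hgen hrr' (fun i =>
    ⟨preimage_le_of_rel 𝒜 G hG hcov r r' hrel i, fun j => cfun_eq_of_rel 𝒜 G hG hcov r r' hrel i j⟩)

end Affine

end Groth.Agent.Lib.Helper27GrTildeSect
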