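import Mathlib
import Groth.Prelude.Def_W4c5quivmodgenus0Quiv

/-!
# Dictionary between subrepresentations of the quivers `Q` and `P`
-/

namespace Groth.Agent.Lib.Helper27PtQuiv

open PtQuiv Module

variable {K : Type*} [Field K] {κ : Type*} [Fintype κ] [DecidableEq κ]

theorem finrank_bot_K : finrank K (⊥ : Submodule K K) = 0 := finrank_bot K K

theorem finrank_top_K : finrank K (⊤ : Submodule K K) = 1 := by
  rw [finrank_top, Module.finrank_self]

theorem bot_ne_top_K : (⊥ : Submodule K K) ≠ ⊤ := bot_ne_top

theorem finrank_plane : finrank K (Fin 2 → K) = 2 := by simp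

section Data

variable (a b : κ) (hab : a ≠ b) (s : κ → (Fin 2 → K)) (θ : κ → ℚ)
  (t : {i : κ // i ≠ a ∧ i ≠ b} → (Fin 2 → K))
  (ht : ∀ i, s i.1 = t i 0 • s a + t i 1 • s b)
  (hLI : LinearIndependent K ![s a, s b]) (c : ℚ)

include hLI in
theorem sa_ne_zero : s a ≠ 0 := by
  intro h
  have := (LinearIndependent.pair_iff.mp hLI) 1 0 (by rw [h]; simp)
  exact one_ne_zero this.1

include hLI in
theorem sb_ne_zero : s b ≠ 0 := by
  intro h
  have := (LinearIndependent.pair_iff.mp hLI) 0 1 (by rw [h]; simp)
  exact one_ne_zero this.2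

include hab in
theorem sum_sub (h2 : ∑ i, θ i = 2) :
    ∑ i : {i : κ // i ≠ a ∧ i ≠ b}, θ i.1 = 2 - θ a - θ b := by
  have h1 : ∑ i : {i : κ // i ≠ a ∧ i ≠ b}, θ i.1 =
      ∑ i ∈ Finset.univ.filter (fun i : κ => i ≠ a ∧ i ≠ b), θ i := by
    rw [Finset.sum_subtype (p := fun i : κ => i ≠ a ∧ i ≠ b)
      (Finset.univ.filter (fun i : κ => i ≠ a ∧ i ≠ b)) (fun x => by simp) θ]
  have h3 := Finset.sum_filter_add_sum_filter_not Finset.univ (fun i : κ => i ≠ a ∧ i ≠ b) θ
  have h4 : Finset.univ.filter (fun i : κ => ¬ (i ≠ a ∧ i ≠ b)) = {a, b} := by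
    ext x
    simp only [Finset.mem_filter, Finset.mem_univ, true_and, Finset.mem_insert,
      Finset.mem_singleton]
    tauto
  rw [h4, Finset.sum_pair hab, h2] at h3
  rw [h1]
  linarith

/-- the weights of the `P`-quiver -/
def etaP : Fin 2 → ℚ := ![c * (θ a - 1), c * (θ b - 1)]

/-- the source weights of the `P`-quiver -/
def thetaP : {i : κ // i ≠ a ∧ i ≠ b} → ℚ := fun i => c * θ i.1

include hab in
theorem total_P (h2 : ∑ i, θ i = 2) :
    (∑ j, etaP a b θ c j) + ∑ i, thetaP a b θ c i = 0 := by
  rw [Fin.sum_univ_two]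
  simp only [etaP, thetaP, Matrix.cons_val_zero, Matrix.cons_val_one, ← Finset.mul_sum]
  rw [sum_sub a b hab θ h2]
  ring

theorem sum_map_sub (I' : Finset {i : κ // i ≠ a ∧ i ≠ b}) :
    ∑ i ∈ I'.map (Function.Embedding.subtype _), θ i = ∑ i ∈ I', θ i.1 := by
  rw [Finset.sum_map]
  rfl

theorem notMem_map_a (I' : Finset {i : κ // i ≠ a ∧ i ≠ b}) :
    a ∉ I'.map (Function.Embedding.subtype _) := by
  intro h
  obtain ⟨x, _, hx⟩ := Finset.mem_map.mp h
  exact x.2.1 hx

theorem notMem_map_b (I' : Finset {i : κ // i ≠ a ∧ i ≠ b}) :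
    b ∉ I'.map (Function.Embedding.subtype _) := by
  intro h
  obtain ⟨x, _, hx⟩ := Finset.mem_map.mp h
  exact x.2.2 hx

include hab ht hLI in
/-- From a `P`-subrepresentation to a `Q`-subrepresentation. -/
theorem dict (U : Fin 2 → Submodule K K) (I' : Finset {i : κ // i ≠ a ∧ i ≠ b})
    (hsub : PSubrep t U I') :
    ∃ (L : Submodule K (Fin 2 → K)) (I : Finset κ), QSubrep s L I ∧
      PWt K (etaP a b θ c) (thetaP a b θ c) U I' = c * QWt K (-1) θ L I ∧
      ((L = ⊥ ∧ I = ∅) → (U = ⊥ ∧ I' = ∅)) ∧
      ((L = ⊤ ∧ I = Finset.univ) → (U = ⊤ ∧ I' = Finset.univ)) := by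
  have hsa := sa_ne_zero a b s hLI
  have hsb := sb_ne_zero a b s hLI
  have hU : ∀ (V : Fin 2 → Submodule K K), V = ![V 0, V 1] := by
    intro V
    funext j
    fin_cases j <;> rfl
  rcases Ideal.eq_bot_or_top (U 0) with h0 | h0 <;> rcases Ideal.eq_bot_or_top (U 1) with h1 | h1
  · -- (⊥, ⊥)
    refine ⟨⊥, I'.map (Function.Embedding.subtype _), ?_, ?_, ?_, ?_⟩
    · intro i hi
      obtain ⟨x, hx, rfl⟩ := Finset.mem_map.mp hi
      have e0 : t x 0 = 0 := by
        have := hsub x hx 0
        rw [h0] at this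
        exact (Submodule.mem_bot K).mp this
      have e1 : t x 1 = 0 := by
        have := hsub x hx 1
        rw [h1] at this
        exact (Submodule.mem_bot K).mp this
      show s x.1 ∈ (⊥ : Submodule K (Fin 2 → K))
      rw [ht x, e0, e1]
      simp
    · unfold PWt QWt
      rw [Fin.sum_univ_two, h0, h1, finrank_bot_K, finrank_bot, sum_map_sub]
      simp only [thetaP, ← Finset.mul_sum]
      push_cast
      ring
    · rintro ⟨-, hI⟩
      refine ⟨?_, Finset.map_eq_empty.mp hI⟩
      rw [hU U, h0, h1]
      funext j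
      fin_cases j <;> rfl
    · rintro ⟨hL, -⟩
      exact absurd hL bot_ne_top
  · -- (⊥, ⊤)
    refine ⟨Submodule.span K {s b}, insert b (I'.map (Function.Embedding.subtype _)), ?_, ?_, ?_, ?_⟩
    · intro i hi
      rcases Finset.mem_insert.mp hi with rfl | hi
      · exact Submodule.mem_span_singleton_self _
      · obtain ⟨x, hx, rfl⟩ := Finset.mem_map.mp hi
        have e0 : t x 0 = 0 := by
          have := hsub x hx 0
          rw [h0] at this
          exact (Submodule.mem_bot K).mp this
        show s x.1 ∈ Submodule.span K {s b}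
        rw [ht x, e0, zero_smul, zero_add]
        exact Submodule.smul_mem _ _ (Submodule.mem_span_singleton_self _)
    · unfold PWt QWt
      rw [Fin.sum_univ_two, h0, h1, finrank_bot_K, finrank_top_K, finrank_span_singleton hsb,
        Finset.sum_insert (notMem_map_b a b I'), sum_map_sub]
      simp only [thetaP, etaP, Matrix.cons_val_zero, Matrix.cons_val_one, ← Finset.mul_sum]
      push_cast
      ring
    · rintro ⟨-, hI⟩
      exact absurd hI (Finset.insert_ne_empty _ _)
    · rintro ⟨hL, -⟩
      have := finrank_span_singleton (K := K) hsb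
      rw [hL, finrank_top, finrank_plane] at this
      omega
  · -- (⊤, ⊥)
    refine ⟨Submodule.span K {s a}, insert a (I'.map (Function.Embedding.subtype _)), ?_, ?_, ?_, ?_⟩
    · intro i hi
      rcases Finset.mem_insert.mp hi with rfl | hi
      · exact Submodule.mem_span_singleton_self _
      · obtain ⟨x, hx, rfl⟩ := Finset.mem_map.mp hi
        have e1 : t x 1 = 0 := by
          have := hsub x hx 1
          rw [h1] at this
          exact (Submodule.mem_bot K).mp this
        show s x.1 ∈ Submodule.span K {s a}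
        rw [ht x, e1, zero_smul, add_zero]
        exact Submodule.smul_mem _ _ (Submodule.mem_span_singleton_self _)
    · unfold PWt QWt
      rw [Fin.sum_univ_two, h0, h1, finrank_bot_K, finrank_top_K, finrank_span_singleton hsa,
        Finset.sum_insert (notMem_map_a a b I'), sum_map_sub]
      simp only [thetaP, etaP, Matrix.cons_val_zero, Matrix.cons_val_one, ← Finset.mul_sum]
      push_cast
      ring
    · rintro ⟨-, hI⟩
      exact absurd hI (Finset.insert_ne_empty _ _)
    · rintro ⟨hL, -⟩
      have := finrank_span_singleton (K := K) hsa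
      rw [hL, finrank_top, finrank_plane] at this
      omega
  · -- (⊤, ⊤)
    refine ⟨⊤, insert a (insert b (I'.map (Function.Embedding.subtype _))), ?_, ?_, ?_, ?_⟩
    · intro i _
      exact Submodule.mem_top
    · unfold PWt QWt
      have hna : a ∉ insert b (I'.map (Function.Embedding.subtype _)) := by
        intro h
        rcases Finset.mem_insert.mp h with h | h
        · exact hab h
        · exact notMem_map_a a b I' h
      rw [Fin.sum_univ_two, h0, h1, finrank_top_K, finrank_top, finrank_plane,
        Finset.sum_insert hna, Finset.sum_insert (notMem_map_b a b I'), sum_map_sub]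
      simp only [thetaP, etaP, Matrix.cons_val_zero, Matrix.cons_val_one, ← Finset.mul_sum]
      push_cast
      ring
    · rintro ⟨hL, -⟩
      exact absurd hL.symm bot_ne_top
    · rintro ⟨-, hI⟩
      refine ⟨?_, ?_⟩
      · rw [hU U, h0, h1]
        funext j
        fin_cases j <;> rfl
      · ext x
        simp only [Finset.mem_univ, iff_true]
        have hx : x.1 ∈ insert a (insert b (I'.map (Function.Embedding.subtype _))) := by
          rw [hI]
          exact Finset.mem_univ _
        rcases Finset.mem_insert.mp hx with h | hx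
        · exact absurd h x.2.1
        · rcases Finset.mem_insert.mp hx with h | hx
          · exact absurd h x.2.2
          · obtain ⟨y, hy, hyx⟩ := Finset.mem_map.mp hx
            have : y = x := Subtype.ext hyx
            rwa [← this]

include ht hLI in
theorem t_zero_of_zero (x : {i : κ // i ≠ a ∧ i ≠ b}) (h : s x.1 = 0) :
    t x 0 = 0 ∧ t x 1 = 0 :=
  (LinearIndependent.pair_iff.mp hLI) (t x 0) (t x 1) (by rw [← ht x, h])

include ht hLI in
theorem t1_zero_of_mem (x : {i : κ // i ≠ a ∧ i ≠ b})
    (h : s x.1 ∈ Submodule.span K {s a}) : t x 1 = 0 := by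
  obtain ⟨r, hr⟩ := Submodule.mem_span_singleton.mp h
  have := (LinearIndependent.pair_iff.mp hLI) (t x 0 - r) (t x 1)
    (by rw [sub_smul, hr, ht x]; abel)
  exact this.2

include ht hLI in
theorem t0_zero_of_mem (x : {i : κ // i ≠ a ∧ i ≠ b})
    (h : s x.1 ∈ Submodule.span K {s b}) : t x 0 = 0 := by
  obtain ⟨r, hr⟩ := Submodule.mem_span_singleton.mp h
  have := (LinearIndependent.pair_iff.mp hLI) (t x 0) (t x 1 - r)
    (by rw [sub_smul, hr, ht x]; abel)
  exact this.1

include hab in
theorem sum_split (I : Finset κ) :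
    ∑ i ∈ I, θ i = (if a ∈ I then θ a else 0) + (if b ∈ I then θ b else 0) +
      ∑ i ∈ I.subtype (fun i => i ≠ a ∧ i ≠ b), θ i.1 := by
  rw [← sum_map_sub a b θ, Finset.subtype_map, Finset.sum_filter,
    ← Finset.sum_ite_eq' I a θ, ← Finset.sum_ite_eq' I b θ, ← Finset.sum_add_distrib,
    ← Finset.sum_add_distrib]
  refine Finset.sum_congr rfl (fun i _ => ?_)
  by_cases h1 : i = a
  · subst h1
    simp [hab]
  · by_cases h2 : i = b
    · subst h2
      simp [h1]
    · simp [h1, h2]

include hLI in
theorem top_of_mem (L : Submodule K (Fin 2 → K)) (ha : s a ∈ L) (hb : s b ∈ L) : L = ⊤ := by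
  have h := hLI.span_eq_top_of_card_eq_finrank' (by simp)
  rw [eq_top_iff, ← h, Submodule.span_le]
  rintro _ ⟨j, rfl⟩
  fin_cases j
  · exact ha
  · exact hb

include hab ht hLI in
/-- From a `Q`-subrepresentation to a `P`-subrepresentation (when possible). -/
theorem Qcases (L : Submodule K (Fin 2 → K)) (I : Finset κ) (hsub : QSubrep s L I) :
    L = ⊤ ∨ (a ∉ I ∧ b ∉ I ∧ 1 ≤ finrank K L) ∨
    ∃ (U : Fin 2 → Submodule K K) (I' : Finset {i : κ // i ≠ a ∧ i ≠ b}),
      PSubrep t U I' ∧ U ≠ ⊤ ∧
      PWt K (etaP a b θ c) (thetaP a b θ c) U I' = c * QWt K (-1) θ L I ∧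
      ((U = ⊥ ∧ I' = ∅) → (L = ⊥ ∧ I = ∅)) := by
  have hsa := sa_ne_zero a b s hLI
  have hsb := sb_ne_zero a b s hLI
  by_cases hL : L = ⊤
  · exact Or.inl hL
  right
  have hfr : finrank K L ≤ 1 := by
    have := Submodule.finrank_lt hL
    rw [finrank_plane] at this
    omega
  by_cases ha : a ∈ I
  · by_cases hb : b ∈ I
    · exact absurd (top_of_mem a b s hLI L (hsub a ha) (hsub b hb)) hL
    · -- L = span {s a}
      right
      have hLa : Submodule.span K {s a} = L := by
        refine Submodule.eq_of_le_of_finrank_le ?_ ?_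
        · rw [Submodule.span_le, Set.singleton_subset_iff]
          exact hsub a ha
        · rw [finrank_span_singleton hsa]
          exact hfr
      refine ⟨![⊤, ⊥], I.subtype (fun i => i ≠ a ∧ i ≠ b), ?_, ?_, ?_, ?_⟩
      · intro x hx j
        have hxI : x.1 ∈ I := Finset.mem_subtype.mp hx
        fin_cases j
        · exact Submodule.mem_top
        · show t x 1 ∈ (⊥ : Submodule K K)
          rw [Submodule.mem_bot]
          apply t1_zero_of_mem a b s t ht hLI x
          rw [hLa]
          exact hsub _ hxI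
      · intro h
        have := congrFun h 1
        exact bot_ne_top_K this
      · unfold PWt QWt
        rw [Fin.sum_univ_two, sum_split a b hab θ I, if_pos ha, if_neg hb, ← hLa,
          finrank_span_singleton hsa]
        show etaP a b θ c 0 * (finrank K (⊤ : Submodule K K) : ℚ) +
          etaP a b θ c 1 * (finrank K (⊥ : Submodule K K) : ℚ) + _ = _
        rw [finrank_top_K, finrank_bot_K]
        simp only [thetaP, etaP, Matrix.cons_val_zero, Matrix.cons_val_one, ← Finset.mul_sum]
        push_cast
        ring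
      · rintro ⟨h, -⟩
        have := congrFun h 0
        exact absurd this.symm bot_ne_top_K
  · by_cases hb : b ∈ I
    · -- L = span {s b}
      right
      have hLb : Submodule.span K {s b} = L := by
        refine Submodule.eq_of_le_of_finrank_le ?_ ?_
        · rw [Submodule.span_le, Set.singleton_subset_iff]
          exact hsub b hb
        · rw [finrank_span_singleton hsb]
          exact hfr
      refine ⟨![⊥, ⊤], I.subtype (fun i => i ≠ a ∧ i ≠ b), ?_, ?_, ?_, ?_⟩
      · intro x hx j
        have hxI : x.1 ∈ I := Finset.mem_subtype.mp hx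
        fin_cases j
        · show t x 0 ∈ (⊥ : Submodule K K)
          rw [Submodule.mem_bot]
          apply t0_zero_of_mem a b s t ht hLI x
          rw [hLb]
          exact hsub _ hxI
        · exact Submodule.mem_top
      · intro h
        have := congrFun h 0
        exact bot_ne_top_K this
      · unfold PWt QWt
        rw [Fin.sum_univ_two, sum_split a b hab θ I, if_neg ha, if_pos hb, ← hLb,
          finrank_span_singleton hsb]
        show etaP a b θ c 0 * (finrank K (⊥ : Submodule K K) : ℚ) +
          etaP a b θ c 1 * (finrank K (⊤ : Submodule K K) : ℚ) + _ = _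
        rw [finrank_top_K, finrank_bot_K]
        simp only [thetaP, etaP, Matrix.cons_val_zero, Matrix.cons_val_one, ← Finset.mul_sum]
        push_cast
        ring
      · rintro ⟨h, -⟩
        have := congrFun h 1
        exact absurd this.symm bot_ne_top_K
    · by_cases h1 : 1 ≤ finrank K L
      · exact Or.inl ⟨ha, hb, h1⟩
      · right
        have hL0 : L = ⊥ := Submodule.finrank_eq_zero.mp (by omega)
        refine ⟨⊥, I.subtype (fun i => i ≠ a ∧ i ≠ b), ?_, ?_, ?_, ?_⟩
        · intro x hx j
          have hxI : x.1 ∈ I := Finset.mem_subtype.mp hx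
          have hz : s x.1 = 0 := by
            have := hsub _ hxI
            rw [hL0] at this
            exact (Submodule.mem_bot K).mp this
          have := t_zero_of_zero a b s t ht hLI x hz
          show t x j ∈ (⊥ : Submodule K K)
          rw [Submodule.mem_bot]
          fin_cases j
          · exact this.1
          · exact this.2
        · intro h
          have := congrFun h 0
          exact bot_ne_top_K this
        · unfold PWt QWt
          rw [Fin.sum_univ_two, sum_split a b hab θ I, if_neg ha, if_neg hb, hL0, finrank_bot]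
          show etaP a b θ c 0 * (finrank K (⊥ : Submodule K K) : ℚ) +
            etaP a b θ c 1 * (finrank K (⊥ : Submodule K K) : ℚ) + _ = _
          rw [finrank_bot_K]
          simp only [thetaP, etaP, Matrix.cons_val_zero, Matrix.cons_val_one, ← Finset.mul_sum]
          push_cast
          ring
        · rintro ⟨-, h⟩
          refine ⟨hL0, ?_⟩
          rw [Finset.eq_empty_iff_forall_notMem]
          intro i hi
          have hia : i ≠ a := fun e => ha (e ▸ hi)
          have hib : i ≠ b := fun e => hb (e ▸ hi)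
          have : (⟨i, hia, hib⟩ : {i : κ // i ≠ a ∧ i ≠ b}) ∈
              I.subtype (fun i => i ≠ a ∧ i ≠ b) := Finset.mem_subtype.mpr hi
          rw [h] at this
          exact Finset.notMem_empty _ this

include hab ht hLI in
theorem P_of_Q_semistable (hc : 0 < c) (h2 : ∑ i, θ i = 2) (hQ : QSemistable (-1) θ s) :
    PSemistable (etaP a b θ c) (thetaP a b θ c) t := by
  refine ⟨total_P a b hab θ c h2, ?_⟩
  intro U I' hsub
  obtain ⟨L, I, hLI', hw, -, -⟩ := dict a b hab s θ t ht hLI c U I' hsub
  rw [hw]
  exact mul_nonpos_of_nonneg_of_nonpos hc.le (hQ.2 L I hLI')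

include hab ht hLI in
theorem P_of_Q_stable (hc : 0 < c) (h2 : ∑ i, θ i = 2) (hQ : QStable (-1) θ s) :
    PStable (etaP a b θ c) (thetaP a b θ c) t := by
  refine ⟨P_of_Q_semistable a b hab s θ t ht hLI c hc h2 hQ.1, ?_⟩
  intro U I' hsub hw0
  obtain ⟨L, I, hLI', hw, hbot, htop⟩ := dict a b hab s θ t ht hLI c U I' hsub
  rw [hw] at hw0
  have h0 : QWt K (-1) θ L I = 0 := by
    rcases mul_eq_zero.mp hw0 with h | h
    · exact absurd h hc.ne'
    · exact h
  rcases hQ.2 L I hLI' h0 with h | h
  · exact Or.inl (hbot h)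
  · exact Or.inr (htop h)

include hab in
theorem sum_le_of_notMem (h0 : ∀ i, 0 ≤ θ i) (h2 : ∑ i, θ i = 2) (I : Finset κ)
    (ha : a ∉ I) (hb : b ∉ I) : ∑ i ∈ I, θ i ≤ 2 - θ a - θ b := by
  have hna : a ∉ insert b I := by
    intro h
    rcases Finset.mem_insert.mp h with h | h
    · exact hab h
    · exact ha h
  have := Finset.sum_le_sum_of_subset_of_nonneg (Finset.subset_univ (insert a (insert b I)))
    (fun i _ _ => h0 i)
  rw [Finset.sum_insert hna, Finset.sum_insert hb, h2] at this
  linarith

include hab ht hLI in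
theorem Q_of_P_semistable (hc : 0 < c) (h0 : ∀ i, 0 ≤ θ i) (h2 : ∑ i, θ i = 2)
    (hθ : 1 < θ a + θ b)
    (hP : PSemistable (etaP a b θ c) (thetaP a b θ c) t) : QSemistable (-1) θ s := by
  refine ⟨by rw [h2]; norm_num, ?_⟩
  intro L I hsub
  rcases Qcases a b hab s θ t ht hLI c L I hsub with hL | ⟨ha, hb, hr⟩ | ⟨U, I', hPs, -, hw, -⟩
  · unfold QWt
    rw [hL, finrank_top, finrank_plane]
    have : ∑ i ∈ I, θ i ≤ ∑ i, θ i :=
      Finset.sum_le_sum_of_subset_of_nonneg (Finset.subset_univ _) (fun i _ _ => h0 i)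
    push_cast
    linarith
  · unfold QWt
    have h3 := sum_le_of_notMem a b hab θ h0 h2 I ha hb
    have h4 : (1 : ℚ) ≤ finrank K L := by exact_mod_cast hr
    linarith
  · have := hP.2 U I' hPs
    rw [hw] at this
    by_contra hcon
    push Not at hcon
    have := mul_pos hc hcon
    linarith

include hab ht hLI in
theorem Q_of_P_stable (hc : 0 < c) (h0 : ∀ i, 0 ≤ θ i) (h1 : ∀ i, θ i ≤ 1)
    (h2 : ∑ i, θ i = 2) (hθ : 1 < θ a + θ b)
    (hP : PStable (etaP a b θ c) (thetaP a b θ c) t) : QStable (-1) θ s := by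
  refine ⟨Q_of_P_semistable a b hab s θ t ht hLI c hc h0 h2 hθ hP.1, ?_⟩
  intro L I hsub hw0
  rcases Qcases a b hab s θ t ht hLI c L I hsub with
    hL | ⟨ha, hb, hr⟩ | ⟨U, I', hPs, hUtop, hw, hbot⟩
  · right
    refine ⟨hL, ?_⟩
    have hsum : ∑ i ∈ I, θ i = 2 := by
      unfold QWt at hw0
      rw [hL, finrank_top, finrank_plane] at hw0
      push_cast at hw0
      linarith
    have hz : ∀ i, i ∉ I → θ i = 0 := by
      intro i hi
      have := Finset.sum_le_sum_of_subset_of_nonneg (Finset.subset_univ (insert i I))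
        (fun j _ _ => h0 j)
      rw [Finset.sum_insert hi, hsum, h2] at this
      linarith [h0 i]
    have hθa : 0 < θ a := by linarith [h1 b]
    have hθb : 0 < θ b := by linarith [h1 a]
    have haI : a ∈ I := by
      by_contra h
      linarith [hz a h]
    have hbI : b ∈ I := by
      by_contra h
      linarith [hz b h]
    by_contra hne
    obtain ⟨i', hi'⟩ : ∃ i', i' ∉ I := by
      by_contra hall
      push Not at hall
      exact hne (Finset.eq_univ_iff_forall.mpr hall)
    have hia : i' ≠ a := fun h => hi' (h ▸ haI)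
    have hib : i' ≠ b := fun h => hi' (h ▸ hbI)
    have hPsub : PSubrep t ⊤ (Finset.univ.erase (⟨i', hia, hib⟩ : {i : κ // i ≠ a ∧ i ≠ b})) :=
      fun _ _ _ => Submodule.mem_top
    have hwt : PWt K (etaP a b θ c) (thetaP a b θ c) ⊤
        (Finset.univ.erase (⟨i', hia, hib⟩ : {i : κ // i ≠ a ∧ i ≠ b})) = 0 := by
      unfold PWt
      have htot := total_P a b hab θ c h2
      have hx0 : thetaP a b θ c ⟨i', hia, hib⟩ = 0 := by
        simp [thetaP, hz i' hi']
      have hsum' := Finset.add_sum_erase Finset.univ (thetaP a b θ c)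
        (Finset.mem_univ (⟨i', hia, hib⟩ : {i : κ // i ≠ a ∧ i ≠ b}))
      rw [hx0, zero_add] at hsum'
      rw [hsum', Fin.sum_univ_two]
      show etaP a b θ c 0 * (finrank K (⊤ : Submodule K K) : ℚ) +
        etaP a b θ c 1 * (finrank K (⊤ : Submodule K K) : ℚ) + _ = _
      rw [finrank_top_K, ← htot, Fin.sum_univ_two]
      push_cast
      ring
    rcases hP.2 ⊤ _ hPsub hwt with ⟨h, -⟩ | ⟨-, h⟩
    · have := congrFun h 0
      exact bot_ne_top_K this.symm
    · have hx : (⟨i', hia, hib⟩ : {i : κ // i ≠ a ∧ i ≠ b}) ∈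
          Finset.univ.erase (⟨i', hia, hib⟩ : {i : κ // i ≠ a ∧ i ≠ b}) := by
        rw [h]
        exact Finset.mem_univ _
      exact (Finset.notMem_erase _ _) hx
  · exfalso
    unfold QWt at hw0
    have h3 := sum_le_of_notMem a b hab θ h0 h2 I ha hb
    have h4 : (1 : ℚ) ≤ finrank K L := by exact_mod_cast hr
    linarith
  · rw [hw0, mul_zero] at hw
    rcases hP.2 U I' hPs hw with h | ⟨h, -⟩
    · left
      exact hbot h
    · exact absurd h hUtop

include hab in
theorem LI_of_Qsemistable (hθ : 1 < θ a + θ b) (hQ : QSemistable (-1) θ s) :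
    LinearIndependent K ![s a, s b] := by
  by_contra hnot
  have hfr : finrank K (Submodule.span K (Set.range ![s a, s b])) ≤ 1 := by
    have h1 := finrank_range_le_card (R := K) ![s a, s b]
    have h2 : ¬ (Fintype.card (Fin 2) = (Set.range ![s a, s b]).finrank K) :=
      fun h => hnot (linearIndependent_iff_card_eq_finrank_span.mpr h)
    rw [Fintype.card_fin] at h1 h2
    unfold Set.finrank at h1 h2
    omega
  have hsub : QSubrep s (Submodule.span K (Set.range ![s a, s b])) {a, b} := by
    intro i hi
    rcases Finset.mem_insert.mp hi with rfl | hi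
    · exact Submodule.subset_span ⟨0, rfl⟩
    · rw [Finset.mem_singleton] at hi
      subst hi
      exact Submodule.subset_span ⟨1, rfl⟩
  have := hQ.2 _ _ hsub
  unfold QWt at this
  rw [Finset.sum_pair hab] at this
  have h4 : (finrank K (Submodule.span K (Set.range ![s a, s b])) : ℚ) ≤ 1 := by
    exact_mod_cast hfr
  linarith

include hLI in
theorem exists_t : ∃ t : {i : κ // i ≠ a ∧ i ≠ b} → (Fin 2 → K),
    ∀ i, s i.1 = t i 0 • s a + t i 1 • s b := by
  have h := hLI.span_eq_top_of_card_eq_finrank' (by simp)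
  have : ∀ i : {i : κ // i ≠ a ∧ i ≠ b}, ∃ f : Fin 2 → K, s i.1 = f 0 • s a + f 1 • s b := by
    intro i
    have hi : s i.1 ∈ Submodule.span K (Set.range ![s a, s b]) := by
      rw [h]
      exact Submodule.mem_top
    obtain ⟨f, hf⟩ := (Submodule.mem_span_range_iff_exists_fun K).mp hi
    refine ⟨f, ?_⟩
    rw [← hf, Fin.sum_univ_two]
    rfl
  choose t ht using this
  exact ⟨t, ht⟩

end Data

end Groth.Agent.Lib.Helper27PtQuiv
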