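import Groth.Agent.Lib.Helper27RegK0

/-!
# Existence and uniqueness of `p_K` for `P^n_Y` (helper27)

* `pushReg : K₀(R_0) → K(Y)`, `[F] ↦ [p_* F]` (`p_*` is exact on regular finite locally free modules).
* `existsUnique_isPushPr`.
-/

set_option autoImplicit false
universe v u

open CategoryTheory CategoryTheory.Limits AlgebraicGeometry TopologicalSpace Opposite

namespace Groth.Agent.Lib.Helper27PushPrK

open Groth.Agent.Lib.Helper27RegClass Groth.Agent.Lib.Helper27RegK0 Groth.Agent.Lib.Helper27K0Gen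
  Groth.Agent.Lib.Helper27AmpleElt Groth.Agent.Lib.Helper27PushAcyc KZero

variable (n : ℕ) (Y : Scheme.{u}) [IsNoetherian Y]
  {KY : Type v} [AddCommGroup KY] (φY : SGA6.Kvb Y →+ KY)

/-- `[F] ↦ φ [p_* F]` on `K₀` of the regular finite locally free modules. -/
noncomputable def pushReg : K0sub (Rk n Y 0) →+ KY :=
  liftK (Rk n Y 0)
    (fun F => φY (KRR.cl Y ((Scheme.Modules.pushforward (KRR.pr n Y)).obj F))) (by
    intro S hS h₁ h₂ h₃
    have hS' := shortExact_map_push S hS (isQCoh_of_isFinLocFree n Y h₁.1)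
      (isQCoh_of_isFinLocFree n Y h₂.1) (isQCoh_of_isFinLocFree n Y h₃.1)
      (Groth.Agent.Lib.Helper27RelRegA.isZero_RpushAb_of_isRegSheaf n Y S.X₁
        (isQCoh_of_isFinLocFree n Y h₁.1) h₁.2 1 le_rfl)
    rw [← map_add]
    exact congrArg φY (cl_shortExact _ hS'
      (Groth.Agent.Lib.Helper27RelRegF.isFinLocFree_push_of_isRegSheaf n Y _ h₁.1 h₁.2)
      (Groth.Agent.Lib.Helper27RelRegF.isFinLocFree_push_of_isRegSheaf n Y _ h₂.1 h₂.2)
      (Groth.Agent.Lib.Helper27RelRegF.isFinLocFree_push_of_isRegSheaf n Y _ h₃.1 h₃.2)))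

theorem pushReg_clSub (F : (KRR.PY n Y).Modules) (hF : FlatMod.IsFinLocFree F)
    (hreg : KRR.IsRegSheaf n Y F) :
    pushReg n Y φY (clSub (Rk n Y 0) F) =
      φY (KRR.cl Y ((Scheme.Modules.pushforward (KRR.pr n Y)).obj F)) :=
  liftK_clSub (Rk n Y 0) _ _ F ⟨hF, hreg⟩

theorem existsUnique_isPushPr {KP : Type v} [CommRing KP] {KY : Type v} [CommRing KY]
    (φP : SGA6.Kvb (KRR.PY n Y) →+ KP) (hφP : Function.Bijective φP) (φY : SGA6.Kvb Y →+ KY) :
    ∃! g : KP →+ KY, KRR.IsPushPr n Y φP φY g := by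
  let eP : SGA6.Kvb (KRR.PY n Y) ≃+ KP := AddEquiv.ofBijective φP hφP
  refine ⟨((pushReg n Y φY).comp (rho n Y)).comp eP.symm.toAddMonoidHom, ?_, ?_⟩
  · intro F hF hreg
    change pushReg n Y φY (rho n Y (eP.symm (eP (KRR.cl (KRR.PY n Y) F)))) = _
    rw [eP.symm_apply_apply, rho_cl n Y F hF, rhoVal_eq n Y F 0 ⟨hF, hreg⟩]
    exact pushReg_clSub n Y φY F hF hreg
  · intro g' hg'
    have key : ∀ g₁ g₂ : KP →+ KY, KRR.IsPushPr n Y φP φY g₁ → KRR.IsPushPr n Y φP φY g₂ →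
        g₁ = g₂ := by
      intro g₁ g₂ h₁ h₂
      have h : (g₁.comp φP).comp (toVb n Y 0) = (g₂.comp φP).comp (toVb n Y 0) :=
        hom_ext_clSub (Rk n Y 0) _ _ (fun F hF => by
          rw [AddMonoidHom.comp_apply, AddMonoidHom.comp_apply, AddMonoidHom.comp_apply,
            AddMonoidHom.comp_apply, toVb_clSub n Y 0 F hF, h₁ F hF.1 hF.2, h₂ F hF.1 hF.2])
      refine AddMonoidHom.ext fun y => ?_
      obtain ⟨z, rfl⟩ := hφP.2 y
      obtain ⟨x, rfl⟩ := (bijective_toVb_zero n Y).2 z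
      exact DFunLike.congr_fun h x
    refine key g' _ hg' ?_
    intro F hF hreg
    change pushReg n Y φY (rho n Y (eP.symm (eP (KRR.cl (KRR.PY n Y) F)))) = _
    rw [eP.symm_apply_apply, rho_cl n Y F hF, rhoVal_eq n Y F 0 ⟨hF, hreg⟩]
    exact pushReg_clSub n Y φY F hF hreg

end Groth.Agent.Lib.Helper27PushPrK
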