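import Groth.Agent.Lib.Helper27QResCx
import Groth.Agent.Lib.Helper27PnMor3
import Groth.Agent.Lib.Helper20ZClos2

/-!
# `E ≅ p_* p^* E` for quasi-coherent `E` on the base of `P^n_T` (helper27)

* `exists_section_pr` : `p : P^n_T ⟶ T` has a section.
* `injective_uS_pr` : `Γ(V, E) ⟶ Γ(p⁻¹ V, p^* E)` is injective (any module `E`, any open `V`).
* `isIso_unit_pr` : the unit `E ⟶ p_* p^* E` is an isomorphism for quasi-coherent `E`.
-/

set_option autoImplicit false
universe u

open CategoryTheory CategoryTheory.Limits AlgebraicGeometry TopologicalSpace Opposite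

namespace Groth.Agent.Lib.Helper27QResBC1

open Groth.Agent.Lib.Helper27QResUnit

section Gen

variable {X Y : Scheme.{u}}

theorem injective_uS_of_eq {f g : X ⟶ Y} (e : f = g) (M : Y.Modules) (W : Y.Opens)
    (h : Function.Injective (uS g M W)) : Function.Injective (uS f M W) := by
  subst e
  exact h

theorem injective_uS_id (M : X.Modules) (W : X.Opens) : Function.Injective (uS (𝟙 X) M W) := by
  intro a b hab
  have h := Groth.Agent.Lib.Helper21.GBC3.unit_pullbackId M
  have h1 : ∀ m : Γ(M, W), ((Scheme.Modules.pullbackId X).hom.app M).app W (uS (𝟙 X) M W m) = m :=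
    fun m => congrArg (fun φ => Scheme.Modules.Hom.app φ W m) h
  rw [← h1 a, ← h1 b, hab]

theorem injective_uS_of_comp {Z : Scheme.{u}} (f : X ⟶ Y) (g : Y ⟶ Z) (M : Z.Modules)
    (W : Z.Opens) (h : Function.Injective (uS (f ≫ g) M W)) : Function.Injective (uS g M W) := by
  intro a b hab
  apply h
  rw [← uS_comp, ← uS_comp, hab]

end Gen

variable (n : ℕ) (T : Scheme.{u})

theorem exists_section_pr : ∃ σ : T ⟶ KRR.PY n T, σ ≫ KRR.pr n T = 𝟙 T := by
  obtain ⟨p0, -⟩ := Groth.Agent.Lib.Helper27PnMor.exists_section n (ULift.{u} ℤ)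
  exact ⟨pullback.lift (specULiftZIsTerminal.from T ≫ p0) (𝟙 T)
    (specULiftZIsTerminal.hom_ext _ _), pullback.lift_snd _ _ _⟩

theorem injective_uS_pr (E : T.Modules) (V : T.Opens) :
    Function.Injective (uS (KRR.pr n T) E V) := by
  obtain ⟨σ, hσ⟩ := exists_section_pr n T
  exact injective_uS_of_comp σ (KRR.pr n T) E V
    (injective_uS_of_eq hσ E V (injective_uS_id E V))

/-- **`E ≅ p_* p^* E`** for quasi-coherent `E`. -/
theorem isIso_unit_pr (E : T.Modules) (hE : E.IsQuasicoherent) :
    IsIso ((Scheme.Modules.pullbackPushforwardAdjunction (KRR.pr n T)).unit.app E) :=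
  Groth.Agent.Lib.Helper20.ZClosLib.isIso_of_bijective_on_affines _
    (fun V hV => ⟨injective_uS_pr n T E V, surjective_uS_pr n T E hE hV⟩)

end Groth.Agent.Lib.Helper27QResBC1
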