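import Groth.Agent.Lib.Helper27QResBC2

/-!
# Base change of the Quillen tower: cohomology on the charts of `P^n_{Y₁}` (helper27)

For `φ : Y₁ ⟶ Y`, `ψ : P^n_{Y₁} ⟶ P^n_Y` and a regular finite locally free `F` on `P^n_Y`
(`Y` Noetherian), with `G_k = ψ^* F_k`, `W_k = ψ^* Z_k`:

* `claimC` : `H^q(P^n_{B₁}, G_k(-q)) = 0` for `q ≥ 1`, all `k`.
* `claimA` : `H^m(P^n_{B₁}, G_{m+1}(-(m+1))) = 0` for all `m`.
-/

set_option autoImplicit false
universe u

open CategoryTheory CategoryTheory.Limits AlgebraicGeometry TopologicalSpace Opposite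

namespace Groth.Agent.Lib.Helper27QResBC3

open Groth.Agent.Lib.Helper27SerreVan Groth.Agent.Lib.Helper27CohFin
  Groth.Agent.Lib.Helper23.QCohLocal
open Groth.Agent.Lib.Helper17.TwistBC Groth.Agent.Lib.Helper21.ModTensor5
  Groth.Agent.Lib.Helper23.LocGen Groth.Agent.Lib.Helper27RelRegA Groth.Agent.Lib.Helper27RelRegD
  Groth.Agent.Lib.Helper27RelRegE Groth.Agent.Lib.Helper27QResUnit
  Groth.Agent.Lib.Helper27QResTower Groth.Agent.Lib.Helper27QResCx
  Groth.Agent.Lib.Helper27QResBC2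

variable (n : ℕ) {Y Y₁ : Scheme.{u}} [IsNoetherian Y] (φ : Y₁ ⟶ Y)
  (F : (KRR.PY n Y).Modules) (hF : FlatMod.IsFinLocFree F) (hreg : KRR.IsRegSheaf n Y F)

/-- `G_k = ψ^* F_k`. -/
noncomputable abbrev Gk (k : ℕ) : (KRR.PY n Y₁).Modules :=
  (Scheme.Modules.pullback (KRR.projSpaceMap n φ)).obj (Fk n Y F k)

/-- `W_k = ψ^* Z_k`. -/
noncomputable abbrev Wk (k : ℕ) : (KRR.PY n Y₁).Modules :=
  (Scheme.Modules.pullback (KRR.projSpaceMap n φ)).obj (kernel (eps n Y (Fk n Y F k)))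

/-- `T'_k = φ^* p_* F_k`. -/
noncomputable abbrev Tk' (k : ℕ) : Y₁.Modules :=
  (Scheme.Modules.pullback φ).obj ((Scheme.Modules.pushforward (KRR.pr n Y)).obj (Fk n Y F k))

include hF hreg in
theorem psi_ses_shortExact (k : ℕ) :
    ((ses n Y (Fk n Y F k)).map
      (Scheme.Modules.pullback (KRR.projSpaceMap n φ))).ShortExact := by
  obtain ⟨hq, hr⟩ := fk_props n Y F (isQCoh_of_vb n Y F hF) hreg k
  exact Groth.Agent.Lib.Helper1.Sky.shortExact_map_pullback (KRR.projSpaceMap n φ) _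
    (ses_shortExact n Y _ hq hr)
    (Groth.Agent.Lib.Helper1.Sky.isFlat_of_isFinLocFree' _ (fk_vb n Y F hF hreg k))

include hF hreg in
theorem isQCoh_Gk (k : ℕ) : Coh.IsQCoh (Gk n φ F k) := by
  haveI := (fk_props n Y F (isQCoh_of_vb n Y F hF) hreg k).1
  exact Groth.Agent.Lib.Helper2.PullbackSec.isQuasicoherent_pullback _ _

include hF hreg in
theorem isQCoh_Wk (k : ℕ) : Coh.IsQCoh (Wk n φ F k) := by
  haveI := isQCoh_kernel_eps n Y _ (fk_props n Y F (isQCoh_of_vb n Y F hF) hreg k).1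
  exact Groth.Agent.Lib.Helper2.PullbackSec.isQuasicoherent_pullback _ _

include hF hreg in
theorem isQCoh_Tk' (k : ℕ) : Coh.IsQCoh (Tk' n φ F k) := by
  haveI := isQCoh_push n Y _ (fk_props n Y F (isQCoh_of_vb n Y F hF) hreg k).1
  exact Groth.Agent.Lib.Helper2.PullbackSec.isQuasicoherent_pullback _ _

include hF hreg in
theorem isZero_Fk_succ (m : ℕ) (hm : n ≤ m) : IsZero (Fk n Y F (m + 1)) :=
  Functor.map_isZero (twFun n Y 1)
    (isZero_Zk n Y F (isQCoh_of_vb n Y F hF) hreg m hm)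

section Chart

variable {V₁ : Y₁.Opens} (hV₁ : IsAffineOpen V₁)

/-- `G_{k+1}(b) ≅ W_k(a)` on the chart, `a = 1 + b`. -/
theorem nonempty_shift_iso (k : ℕ) (a b : ℤ) (h : 1 + b = a) :
    Nonempty (CohB1.tensorMod ((Scheme.Modules.pullback (chartOver n hV₁)).obj (Gk n φ F (k + 1)))
        (Twist.twistProjSpace n Γ(Y₁, V₁) b) ≅
      CohB1.tensorMod ((Scheme.Modules.pullback (chartOver n hV₁)).obj (Wk n φ F k))
        (Twist.twistProjSpace n Γ(Y₁, V₁) a)) := by
  subst h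
  obtain ⟨e2⟩ := nonempty_pullback_twF_iso n Y₁ hV₁ 1 (Wk n φ F k)
  obtain ⟨e3⟩ := Groth.Agent.Lib.Helper27SerreVanPn.nonempty_twist_tensor_iso n Γ(Y₁, V₁) 1 b
  have e1 : (Scheme.Modules.pullback (chartOver n hV₁)).obj (Gk n φ F (k + 1)) ≅
      (Scheme.Modules.pullback (chartOver n hV₁)).obj (KRR.twF n Y₁ 1 (Wk n φ F k)) :=
    (Scheme.Modules.pullback (chartOver n hV₁)).mapIso
      (psiTwF n φ 1 (kernel (eps n Y (Fk n Y F k))))
  exact ⟨PicGrp.tensorModIso (e1 ≪≫ e2) (Iso.refl _) ≪≫ tensorAssoc _ _ _ ≪≫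
    PicGrp.tensorModIso (Iso.refl _) e3⟩

include hF hreg in
theorem isZero_chart_Gk (m : ℕ) (hm : n ≤ m) (L : (CohB1.ProjSpace n Γ(Y₁, V₁)).Modules) :
    IsZero (CohB1.tensorMod ((Scheme.Modules.pullback (chartOver n hV₁)).obj (Gk n φ F (m + 1))) L) := by
  have h0 := isZero_Fk_succ n F hF hreg m hm
  have h1 : IsZero (Gk n φ F (m + 1)) := Functor.map_isZero _ h0
  have h2 : IsZero ((Scheme.Modules.pullback (chartOver n hV₁)).obj (Gk n φ F (m + 1))) :=
    Functor.map_isZero _ h1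
  exact Functor.map_isZero (tw L) h2

/-- the middle terms: `H^q(P^n_{B₁}, ψ^* p^* T_k (d)) = 0` for `q ≥ 1`, `d ≥ -n`. -/
theorem subsingleton_HH_mid (hF : FlatMod.IsFinLocFree F) (hreg : KRR.IsRegSheaf n Y F)
    (k : ℕ) (d : ℤ) (hd : -(n : ℤ) ≤ d) (q : ℕ) (hq : 1 ≤ q) :
    Subsingleton (Coh.HH (CohB1.ProjSpace n Γ(Y₁, V₁))
      (CohB1.tensorMod ((Scheme.Modules.pullback (chartOver n hV₁)).obj
        ((Scheme.Modules.pullback (KRR.projSpaceMap n φ)).obj
          ((Scheme.Modules.pullback (KRR.pr n Y)).obj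
            ((Scheme.Modules.pushforward (KRR.pr n Y)).obj (Fk n Y F k)))))
        (Twist.twistProjSpace n Γ(Y₁, V₁) d)) q) := by
  have hE := isQCoh_Tk' n φ F hF hreg k
  have h := subsingleton_HH_pullback_pullback n Y₁ hV₁ (Tk' n φ F k) hE d hd q hq
  exact Groth.Agent.Lib.Helper27PnCohVanish.subsingleton_HH_of_iso
    (PicGrp.tensorModIso ((Scheme.Modules.pullback (chartOver n hV₁)).mapIso
      (psiPull n φ _)) (Iso.refl _)).symm q h

/-- all quasi-coherent cohomology of the middle terms vanishes above `n`. -/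
theorem subsingleton_HH_mid_top (hF : FlatMod.IsFinLocFree F) (hreg : KRR.IsRegSheaf n Y F)
    (k : ℕ) (d : ℤ) (q : ℕ) (hq : n < q) :
    Subsingleton (Coh.HH (CohB1.ProjSpace n Γ(Y₁, V₁))
      (CohB1.tensorMod ((Scheme.Modules.pullback (chartOver n hV₁)).obj
        ((Scheme.Modules.pullback (KRR.projSpaceMap n φ)).obj
          ((Scheme.Modules.pullback (KRR.pr n Y)).obj
            ((Scheme.Modules.pushforward (KRR.pr n Y)).obj (Fk n Y F k)))))
        (Twist.twistProjSpace n Γ(Y₁, V₁) d)) q) := by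
  haveI := isQCoh_pull_push n Y _ (fk_props n Y F (isQCoh_of_vb n Y F hF) hreg k).1
  haveI : ((Scheme.Modules.pullback (KRR.projSpaceMap n φ)).obj
      ((Scheme.Modules.pullback (KRR.pr n Y)).obj
        ((Scheme.Modules.pushforward (KRR.pr n Y)).obj (Fk n Y F k)))).IsQuasicoherent :=
    Groth.Agent.Lib.Helper2.PullbackSec.isQuasicoherent_pullback _ _
  haveI : ((Scheme.Modules.pullback (chartOver n hV₁)).obj
      ((Scheme.Modules.pullback (KRR.projSpaceMap n φ)).obj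
        ((Scheme.Modules.pullback (KRR.pr n Y)).obj
          ((Scheme.Modules.pushforward (KRR.pr n Y)).obj (Fk n Y F k))))).IsQuasicoherent :=
    Groth.Agent.Lib.Helper2.PullbackSec.isQuasicoherent_pullback _ _
  haveI : (Twist.twistProjSpace n Γ(Y₁, V₁) d).IsQuasicoherent :=
    Groth.Agent.Lib.Helper27GrTildeSect.isQuasicoherent_tilde _ _ _
  haveI : Coh.IsQCoh (CohB1.tensorMod ((Scheme.Modules.pullback (chartOver n hV₁)).obj
      ((Scheme.Modules.pullback (KRR.projSpaceMap n φ)).obj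
        ((Scheme.Modules.pullback (KRR.pr n Y)).obj
          ((Scheme.Modules.pushforward (KRR.pr n Y)).obj (Fk n Y F k)))))
      (Twist.twistProjSpace n Γ(Y₁, V₁) d)) :=
    Groth.Agent.Lib.Helper23.TensorQCoh.isQuasicoherent_tensorMod _ _
  exact Groth.Agent.S0022.result n Γ(Y₁, V₁) _ q hq

include hF hreg in
/-- **`H^q(P^n_{B₁}, G_k(-q)) = 0` for `q ≥ 1`.** -/
theorem claimC : ∀ (j k : ℕ), k + j = n + 1 → ∀ q : ℕ, 1 ≤ q →
    Subsingleton (Coh.HH (CohB1.ProjSpace n Γ(Y₁, V₁))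
      (CohB1.tensorMod ((Scheme.Modules.pullback (chartOver n hV₁)).obj (Gk n φ F k))
        (Twist.twistProjSpace n Γ(Y₁, V₁) (-(q : ℤ)))) q) := by
  intro j
  induction j with
  | zero =>
    intro k hk q _
    obtain rfl : k = n + 1 := by omega
    exact Groth.Agent.Lib.Helper27FinSurjAmple.subsingleton_HH_of_isZero
      (isZero_chart_Gk n φ F hF hreg hV₁ n le_rfl _) q
  | succ j ih =>
    intro k hk q hq
    have hS := psi_ses_shortExact n φ F hF hreg k
    have hS₁ := shortExact_map_pullback_of_flat (chartOver n hV₁) _ hS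
    have hS₂ := shortExact_tw (Twist.twistProjSpace n Γ(Y₁, V₁) (-(q : ℤ)))
      (Groth.Agent.Lib.Helper27SerreVanPn.isInvertible_twist n Γ(Y₁, V₁) _) _ hS₁
    have h2 : Subsingleton (Coh.HH (CohB1.ProjSpace n Γ(Y₁, V₁))
        ((((ses n Y (Fk n Y F k)).map (Scheme.Modules.pullback (KRR.projSpaceMap n φ))).map
          (Scheme.Modules.pullback (chartOver n hV₁))).map
          (tw (Twist.twistProjSpace n Γ(Y₁, V₁) (-(q : ℤ))))).X₂ q) := by
      by_cases hnq : n < q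
      · exact subsingleton_HH_mid_top n φ F hV₁ hF hreg k _ q hnq
      · exact subsingleton_HH_mid n φ F hV₁ hF hreg k _ (by omega) q hq
    have h1 : Subsingleton (Coh.HH (CohB1.ProjSpace n Γ(Y₁, V₁))
        ((((ses n Y (Fk n Y F k)).map (Scheme.Modules.pullback (KRR.projSpaceMap n φ))).map
          (Scheme.Modules.pullback (chartOver n hV₁))).map
          (tw (Twist.twistProjSpace n Γ(Y₁, V₁) (-(q : ℤ))))).X₁ (q + 1)) := by
      obtain ⟨e⟩ := nonempty_shift_iso n φ F hV₁ k (-(q : ℤ)) (-((q + 1 : ℕ) : ℤ))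
        (by push_cast; ring)
      exact Groth.Agent.Lib.Helper27PnCohVanish.subsingleton_HH_of_iso e (q + 1)
        (ih (k + 1) (by omega) (q + 1) (by omega))
    exact subsingleton_of_shortExact _ hS₂ q h2 h1

/-- the middle terms in degree `0`: `H^0(P^n_{B₁}, ψ^* p^* T_k (d)) = 0` for `-n ≤ d < 0`. -/
theorem subsingleton_HH_mid_zero (hF : FlatMod.IsFinLocFree F) (hreg : KRR.IsRegSheaf n Y F)
    (k : ℕ) (d : ℤ) (hd : -(n : ℤ) ≤ d) (hd' : d < 0) :
    Subsingleton (Coh.HH (CohB1.ProjSpace n Γ(Y₁, V₁))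
      (CohB1.tensorMod ((Scheme.Modules.pullback (chartOver n hV₁)).obj
        ((Scheme.Modules.pullback (KRR.projSpaceMap n φ)).obj
          ((Scheme.Modules.pullback (KRR.pr n Y)).obj
            ((Scheme.Modules.pushforward (KRR.pr n Y)).obj (Fk n Y F k)))))
        (Twist.twistProjSpace n Γ(Y₁, V₁) d)) 0) := by
  have hE := isQCoh_Tk' n φ F hF hreg k
  haveI := hE
  have hq : ((Scheme.Modules.pullback hV₁.fromSpec).obj (Tk' n φ F k)).IsQuasicoherent :=
    Groth.Agent.Lib.Helper2.PullbackSec.isQuasicoherent_pullback _ _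
  have h : Subsingleton (Coh.HH (CohB1.ProjSpace n Γ(Y₁, V₁))
      (CohB1.tensorMod ((Scheme.Modules.pullback (CohB1.ProjSpace.toSpec n Γ(Y₁, V₁))).obj
        ((Scheme.Modules.pullback hV₁.fromSpec).obj (Tk' n φ F k)))
        (Twist.twistProjSpace n Γ(Y₁, V₁) d)) 0) :=
    subsingleton_HH_zero _ (section_pullback_twist_eq_zero n Γ(Y₁, V₁) d hd hd' _ hq)
  exact Groth.Agent.Lib.Helper27PnCohVanish.subsingleton_HH_of_iso
    (PicGrp.tensorModIso ((Scheme.Modules.pullback (chartOver n hV₁)).mapIso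
      (psiPull n φ _) ≪≫ pullbackChartIso n Y₁ hV₁ (Tk' n φ F k)) (Iso.refl _)).symm 0 h

include hF hreg in
/-- **`H^m(P^n_{B₁}, G_{m+1}(-(m+1))) = 0`.** -/
theorem claimA : ∀ (j m : ℕ), m + j = n →
    Subsingleton (Coh.HH (CohB1.ProjSpace n Γ(Y₁, V₁))
      (CohB1.tensorMod ((Scheme.Modules.pullback (chartOver n hV₁)).obj (Gk n φ F (m + 1)))
        (Twist.twistProjSpace n Γ(Y₁, V₁) (-((m + 1 : ℕ) : ℤ)))) m) := by
  intro j
  induction j with
  | zero =>
    intro m hm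
    have hmn : n ≤ m := by omega
    exact Groth.Agent.Lib.Helper27FinSurjAmple.subsingleton_HH_of_isZero
      (isZero_chart_Gk n φ F hF hreg hV₁ m hmn _) m
  | succ j ih =>
    intro m hm
    have hS := psi_ses_shortExact n φ F hF hreg (m + 1)
    have hS₁ := shortExact_map_pullback_of_flat (chartOver n hV₁) _ hS
    have hS₂ := shortExact_tw (Twist.twistProjSpace n Γ(Y₁, V₁) (-((m + 1 : ℕ) : ℤ)))
      (Groth.Agent.Lib.Helper27SerreVanPn.isInvertible_twist n Γ(Y₁, V₁) _) _ hS₁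
    have h2 : Subsingleton (Coh.HH (CohB1.ProjSpace n Γ(Y₁, V₁))
        ((((ses n Y (Fk n Y F (m + 1))).map
          (Scheme.Modules.pullback (KRR.projSpaceMap n φ))).map
          (Scheme.Modules.pullback (chartOver n hV₁))).map
          (tw (Twist.twistProjSpace n Γ(Y₁, V₁) (-((m + 1 : ℕ) : ℤ))))).X₂ m) := by
      rcases m with _ | m
      · exact subsingleton_HH_mid_zero n φ F hV₁ hF hreg (0 + 1) _ (by omega) (by omega)
      · exact subsingleton_HH_mid n φ F hV₁ hF hreg (m + 1 + 1) _ (by omega) (m + 1)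
          (by omega)
    have h1 : Subsingleton (Coh.HH (CohB1.ProjSpace n Γ(Y₁, V₁))
        ((((ses n Y (Fk n Y F (m + 1))).map
          (Scheme.Modules.pullback (KRR.projSpaceMap n φ))).map
          (Scheme.Modules.pullback (chartOver n hV₁))).map
          (tw (Twist.twistProjSpace n Γ(Y₁, V₁) (-((m + 1 : ℕ) : ℤ))))).X₁ (m + 1)) := by
      obtain ⟨e⟩ := nonempty_shift_iso n φ F hV₁ (m + 1) (-((m + 1 : ℕ) : ℤ))
        (-((m + 1 + 1 : ℕ) : ℤ)) (by push_cast; ring)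
      exact Groth.Agent.Lib.Helper27PnCohVanish.subsingleton_HH_of_iso e (m + 1)
        (ih (m + 1) (by omega))
    exact subsingleton_of_shortExact _ hS₂ m h2 h1

end Chart

end Groth.Agent.Lib.Helper27QResBC3
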