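import Groth.Agent.Lib.Helper27QResBC3
import Groth.Agent.Lib.Helper27PushAcyc

/-!
# Base change for the direct image of a regular vector bundle on `P^n_Y` (helper27)

For `φ : Y₁ ⟶ Y` (`Y` Noetherian), `ψ : P^n_{Y₁} ⟶ P^n_Y` and a regular finite locally free `F` on
`P^n_Y`:

* `isRegSheaf_pullback_psi` : `ψ^* F` is regular.
* `isIso_bcMap` : the base change morphism `φ^* p_* F ⟶ (p₁)_* ψ^* F` is an isomorphism.
-/

set_option autoImplicit false
universe u

open CategoryTheory CategoryTheory.Limits AlgebraicGeometry TopologicalSpace Opposite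

namespace Groth.Agent.Lib.Helper27QResBC4

open Groth.Agent.Lib.Helper17.TwistBC Groth.Agent.Lib.Helper27RelRegA
  Groth.Agent.Lib.Helper27QResTower Groth.Agent.Lib.Helper27QResBC1
  Groth.Agent.Lib.Helper27QResBC2 Groth.Agent.Lib.Helper27QResBC3
  Groth.Agent.Lib.Helper27PushAcyc

variable (n : ℕ) {Y Y₁ : Scheme.{u}} [IsNoetherian Y] (φ : Y₁ ⟶ Y)
  (F : (KRR.PY n Y).Modules) (hF : FlatMod.IsFinLocFree F) (hreg : KRR.IsRegSheaf n Y F)

include hF hreg in
/-- **`ψ^* F` is regular.** -/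
theorem isRegSheaf_pullback_psi :
    KRR.IsRegSheaf n Y₁ ((Scheme.Modules.pullback (KRR.projSpaceMap n φ)).obj F) := by
  intro i hi
  have hG : Coh.IsQCoh ((Scheme.Modules.pullback (KRR.projSpaceMap n φ)).obj F) :=
    isQCoh_Gk n φ F hF hreg 0
  haveI : Coh.IsQCoh (KRR.twF n Y₁ (-(i : ℤ))
      ((Scheme.Modules.pullback (KRR.projSpaceMap n φ)).obj F)) := isQCoh_twF n Y₁ _ _ hG
  refine (isZero_RpushAb_iff n Y₁ _ i).2 (fun V₁ hV₁ => ?_)
  obtain ⟨e1⟩ := nonempty_pullback_twF_iso n Y₁ hV₁ (-(i : ℤ))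
    ((Scheme.Modules.pullback (KRR.projSpaceMap n φ)).obj F)
  refine Groth.Agent.Lib.Helper27PnCohVanish.subsingleton_HH_of_iso e1.symm i ?_
  exact claimC n φ F hF hreg hV₁ (n + 1) 0 (by omega) i hi

/-- sections over `p⁻¹ V` vanish if the global sections of the restriction to the chart do. -/
theorem section_eq_zero_of_chart {T : Scheme.{u}} {V : T.Opens} (hV : IsAffineOpen V)
    (M : (KRR.PY n T).Modules)
    (h : ∀ z : Γ((Scheme.Modules.pullback (chartOver n hV)).obj M, ⊤), z = 0)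
    (s : Γ(M, (KRR.pr n T) ⁻¹ᵁ V)) : s = 0 := by
  have key : ∀ (U : (KRR.PY n T).Opens),
      U = (chartOver n hV) ''ᵁ (⊤ : (CohB1.ProjSpace n Γ(T, V)).Opens) →
      ∀ t : Γ(M, U), t = 0 := by
    intro U hU t
    subst hU
    let e := (Scheme.Modules.restrictFunctorIsoPullback (chartOver n hV)).app M
    have h0 : e.hom.app ⊤ t = 0 := h _
    apply Groth.Agent.Lib.Helper27QResUnit.injective_app_of_isIso e.hom ⊤
    rw [h0]
    exact (map_zero _).symm
  exact key _ ((Scheme.Hom.image_top_eq_opensRange (chartOver n hV)).trans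
    (opensRange_chartOver n hV)).symm s


section W0

variable {V₁ : Y₁.Opens} (hV₁ : IsAffineOpen V₁)

/-- `W_0 ≅ G_1(-1)` on the chart. -/
theorem nonempty_chart_W0_iso :
    Nonempty (CohB1.tensorMod ((Scheme.Modules.pullback (chartOver n hV₁)).obj (Gk n φ F (0 + 1)))
        (Twist.twistProjSpace n Γ(Y₁, V₁) (-((0 + 1 : ℕ) : ℤ))) ≅
      (Scheme.Modules.pullback (chartOver n hV₁)).obj (Wk n φ F 0)) := by
  obtain ⟨e⟩ := nonempty_shift_iso n φ F hV₁ 0 0 (-((0 + 1 : ℕ) : ℤ)) (by norm_num)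
  obtain ⟨e0⟩ := Groth.Agent.Lib.Helper27GlobGenPn.nonempty_OO_zero_iso n Γ(Y₁, V₁)
  have e0' : Twist.twistProjSpace n Γ(Y₁, V₁) 0 ≅
      Coh.structureModule (CohB1.ProjSpace n Γ(Y₁, V₁)) := e0
  exact ⟨e ≪≫ PicGrp.tensorModIso (Iso.refl _) e0' ≪≫
    Groth.Agent.Lib.Helper23.TensorUnit.tensorUnitIso _⟩

include hF hreg in
theorem isZero_RpushAb_W0 :
    IsZero ((Coh.RpushAb (KRR.pr n Y₁) 1).obj (Coh.toAb (Wk n φ F 0))) := by
  haveI := isQCoh_Wk n φ F hF hreg 0
  refine (isZero_RpushAb_iff n Y₁ _ 1).2 (fun V₁ hV₁ => ?_)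
  obtain ⟨e⟩ := nonempty_chart_W0_iso n φ F hV₁
  exact Groth.Agent.Lib.Helper27PnCohVanish.subsingleton_HH_of_iso e 1
    (claimC n φ F hF hreg hV₁ n (0 + 1) (by omega) (0 + 1) le_rfl)

include hF hreg in
theorem isZero_push_W0 :
    IsZero ((Scheme.Modules.pushforward (KRR.pr n Y₁)).obj (Wk n φ F 0)) := by
  apply isZero_of_isZero_toAb'
  refine isZero_of_subsingleton_affine _ (fun V₁ hV₁ => ⟨fun a b => ?_⟩)
  obtain ⟨e⟩ := nonempty_chart_W0_iso n φ F hV₁
  have h0 : Subsingleton (Coh.HH (CohB1.ProjSpace n Γ(Y₁, V₁))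
      ((Scheme.Modules.pullback (chartOver n hV₁)).obj (Wk n φ F 0)) 0) :=
    Groth.Agent.Lib.Helper27PnCohVanish.subsingleton_HH_of_iso e 0
      (claimA n φ F hF hreg hV₁ n 0 (by omega))
  have key := section_eq_zero_of_chart n hV₁ (Wk n φ F 0)
    (eq_zero_of_subsingleton_HH_zero _ h0)
  exact (key a).trans (key b).symm

end W0

include hF hreg in
/-- `(p₁)_* ψ^* (p^* p_* F ⟶ F)` is an isomorphism. -/
theorem isIso_push_psi_eps :
    IsIso ((Scheme.Modules.pushforward (KRR.pr n Y₁)).map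
      ((Scheme.Modules.pullback (KRR.projSpaceMap n φ)).map (eps n Y F))) := by
  have hS := psi_ses_shortExact n φ F hF hreg 0
  have hFq := isQCoh_of_vb n Y F hF
  have q₁ : Coh.IsQCoh (((ses n Y (Fk n Y F 0)).map
      (Scheme.Modules.pullback (KRR.projSpaceMap n φ))).X₁) := isQCoh_Wk n φ F hF hreg 0
  have q₂ : Coh.IsQCoh (((ses n Y (Fk n Y F 0)).map
      (Scheme.Modules.pullback (KRR.projSpaceMap n φ))).X₂) := by
    haveI h2 : ((ses n Y (Fk n Y F 0)).X₂).IsQuasicoherent := isQCoh_pull_push n Y F hFq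
    exact Groth.Agent.Lib.Helper2.PullbackSec.isQuasicoherent_pullback _ _
  have q₃ : Coh.IsQCoh (((ses n Y (Fk n Y F 0)).map
      (Scheme.Modules.pullback (KRR.projSpaceMap n φ))).X₃) := isQCoh_Gk n φ F hF hreg 0
  have hP := shortExact_map_push _ hS q₁ q₂ q₃ (isZero_RpushAb_W0 n φ F hF hreg)
  have hf0 : (((ses n Y (Fk n Y F 0)).map
      (Scheme.Modules.pullback (KRR.projSpaceMap n φ))).map
      (Scheme.Modules.pushforward (KRR.pr n Y₁))).f = 0 :=
    (isZero_push_W0 n φ F hF hreg).eq_of_src _ _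
  haveI hmono := hP.exact.mono_g hf0
  haveI hepi := hP.epi_g
  exact isIso_of_mono_of_epi (((ses n Y (Fk n Y F 0)).map
      (Scheme.Modules.pullback (KRR.projSpaceMap n φ))).map
      (Scheme.Modules.pushforward (KRR.pr n Y₁))).g

include hF hreg in
/-- **base change**: `φ^* p_* F ⟶ (p₁)_* ψ^* F` is an isomorphism. -/
theorem isIso_bcMap (hsq : KRR.projSpaceMap n φ ≫ KRR.pr n Y = KRR.pr n Y₁ ≫ φ) :
    IsIso (KRR.bcMap n φ hsq F) := by
  have hFq := isQCoh_of_vb n Y F hF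
  haveI := isQCoh_push n Y F hFq
  have hq : ((Scheme.Modules.pullback φ).obj
      ((Scheme.Modules.pushforward (KRR.pr n Y)).obj F)).IsQuasicoherent :=
    Groth.Agent.Lib.Helper2.PullbackSec.isQuasicoherent_pullback _ _
  haveI := isIso_unit_pr n Y₁ _ hq
  haveI := isIso_push_psi_eps n φ F hF hreg
  unfold KRR.bcMap
  rw [Adjunction.homEquiv_unit]
  simp only [Functor.map_comp]
  infer_instance

end Groth.Agent.Lib.Helper27QResBC4
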