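import Groth.Agent.Lib.Helper27QResTower
import Groth.Agent.Lib.Helper18KRR

/-!
# Quillen's canonical resolution of a regular module on `P^n_T` (helper27)

`exists_resolution` : a regular quasi-coherent `F` on `P^n_T` has a resolution
`0 ⟶ p^* T_n (-n) ⟶ ⋯ ⟶ p^* T_0 ⟶ F ⟶ 0` with the `T_i` quasi-coherent on `T`.
-/

set_option autoImplicit false
universe u

open CategoryTheory CategoryTheory.Limits AlgebraicGeometry TopologicalSpace Opposite

namespace Groth.Agent.Lib.Helper27QResCx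

open Groth.Agent.Lib.Helper27QResTower Groth.Agent.Helper18KRR

variable (n : ℕ) (T : Scheme.{u})

/-- the twisting functor `F ↦ F(d)`. -/
noncomputable abbrev twFun (d : ℤ) : (KRR.PY n T).Modules ⥤ (KRR.PY n T).Modules :=
  DCoh.tensorBi.obj (Twist.twistOver n T d)

variable (F : (KRR.PY n T).Modules)

/-- `Z_k = ker (p^* p_* F_k ⟶ F_k)`. -/
noncomputable abbrev Zk (k : ℕ) : (KRR.PY n T).Modules := kernel (eps n T (Fk n T F k))

/-- `T_k = p_* F_k`. -/
noncomputable abbrev Tk (k : ℕ) : T.Modules :=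
  (Scheme.Modules.pushforward (KRR.pr n T)).obj (Fk n T F k)

/-- the terms `p^* T_k (-k)`. -/
noncomputable abbrev Lx (k : ℕ) : (KRR.PY n T).Modules :=
  KRR.twF n T (-(k : ℤ)) ((Scheme.Modules.pullback (KRR.pr n T)).obj (Tk n T F k))

/-- `F_{k+1}(-(k+1)) ≅ Z_k(-k)`. -/
noncomputable def theta (k : ℕ) :
    (twFun n T (-((k + 1 : ℕ) : ℤ))).obj (Fk n T F (k + 1)) ≅ (twFun n T (-(k : ℤ))).obj (Zk n T F k) :=
  Classical.choice (nonempty_twF_twF_iso n T (-((k + 1 : ℕ) : ℤ)) 1 (-(k : ℤ))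
    (by push_cast; ring) (Zk n T F k))

/-- `A_k : p^* T_k (-k) ⟶ F_k(-k)`. -/
noncomputable def mA (k : ℕ) : Lx n T F k ⟶ (twFun n T (-(k : ℤ))).obj (Fk n T F k) :=
  (twFun n T (-(k : ℤ))).map (eps n T (Fk n T F k))

/-- `C_k : Z_k(-k) ⟶ p^* T_k (-k)`. -/
noncomputable def mC (k : ℕ) : (twFun n T (-(k : ℤ))).obj (Zk n T F k) ⟶ Lx n T F k :=
  (twFun n T (-(k : ℤ))).map (kernel.ι (eps n T (Fk n T F k)))

theorem mC_mA (k : ℕ) : mC n T F k ≫ mA n T F k = 0 := by
  exact ((twFun n T (-(k : ℤ))).map_comp (kernel.ι (eps n T (Fk n T F k)))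
    (eps n T (Fk n T F k))).symm.trans
    ((congrArg (twFun n T (-(k : ℤ))).map (kernel.condition (eps n T (Fk n T F k)))).trans
      ((twFun n T (-(k : ℤ))).map_zero _ _))

/-- the differential. -/
noncomputable def dL (k : ℕ) : Lx n T F (k + 1) ⟶ Lx n T F k :=
  mA n T F (k + 1) ≫ (theta n T F k).hom ≫ mC n T F k

theorem dL_comp (k : ℕ) : dL n T F (k + 1) ≫ dL n T F k = 0 := by
  unfold dL
  simp only [Category.assoc]
  rw [← Category.assoc (mC n T F (k + 1)), mC_mA]
  simp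

/-- the complex. -/
noncomputable def cx : ChainComplex (KRR.PY n T).Modules ℕ :=
  ChainComplex.of (Lx n T F) (dL n T F) (dL_comp n T F)


section Exact

variable (hF : Coh.IsQCoh F) (hreg : KRR.IsRegSheaf n T F)

include hF hreg in
theorem tw_ses_shortExact (k : ℕ) (d : ℤ) :
    ((ses n T (Fk n T F k)).map (twFun n T d)).ShortExact := by
  obtain ⟨h1, h2⟩ := fk_props n T F hF hreg k
  exact shortExact_twF n T d _ (ses_shortExact n T _ h1 h2)

include hF hreg in
theorem epi_mA (k : ℕ) : Epi (mA n T F k) :=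
  (tw_ses_shortExact n T F hF hreg k (-(k : ℤ))).epi_g

include hF hreg in
theorem mono_mC (k : ℕ) : Mono (mC n T F k) :=
  (tw_ses_shortExact n T F hF hreg k (-(k : ℤ))).mono_f

include hF hreg in
theorem exact_mC_mA (k : ℕ) :
    (ShortComplex.mk (mC n T F k) (mA n T F k) (mC_mA n T F k)).Exact :=
  (tw_ses_shortExact n T F hF hreg k (-(k : ℤ))).exact

include hF hreg in
theorem exact_dL (k : ℕ) :
    (ShortComplex.mk (dL n T F (k + 1)) (dL n T F k) (dL_comp n T F k)).Exact := by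
  haveI := epi_mA n T F hF hreg (k + 2)
  haveI := mono_mC n T F hF hreg k
  have w₁ : dL n T F (k + 1) ≫ mA n T F (k + 1) = 0 := by
    unfold dL
    simp only [Category.assoc]
    rw [mC_mA]
    simp
  let S₁ : ShortComplex (KRR.PY n T).Modules :=
    ShortComplex.mk (dL n T F (k + 1)) (mA n T F (k + 1)) w₁
  let α : S₁ ⟶ ShortComplex.mk (mC n T F (k + 1)) (mA n T F (k + 1)) (mC_mA n T F (k + 1)) :=
    { τ₁ := mA n T F (k + 2) ≫ (theta n T F (k + 1)).hom
      τ₂ := 𝟙 _
      τ₃ := 𝟙 _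
      comm₁₂ := by
        dsimp [S₁, dL]
        simp only [Category.assoc, Category.comp_id]
      comm₂₃ := by
        dsimp [S₁]
        simp }
  haveI : Epi α.τ₁ := by dsimp [α]; infer_instance
  haveI : IsIso α.τ₂ := by dsimp [α]; infer_instance
  haveI : Mono α.τ₃ := by dsimp [α]; infer_instance
  have h1 : S₁.Exact :=
    (ShortComplex.exact_iff_of_epi_of_isIso_of_mono α).2 (exact_mC_mA n T F hF hreg (k + 1))
  let β : S₁ ⟶ ShortComplex.mk (dL n T F (k + 1)) (dL n T F k) (dL_comp n T F k) :=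
    { τ₁ := 𝟙 _
      τ₂ := 𝟙 _
      τ₃ := (theta n T F k).hom ≫ mC n T F k
      comm₁₂ := by
        dsimp [S₁]
        simp
      comm₂₃ := by
        dsimp [S₁, dL]
        simp }
  haveI : Epi β.τ₁ := by dsimp [β]; infer_instance
  haveI : IsIso β.τ₂ := by dsimp [β]; infer_instance
  haveI : Mono β.τ₃ := by dsimp [β]; infer_instance
  exact (ShortComplex.exact_iff_of_epi_of_isIso_of_mono β).1 h1

/-- `F(0) ≅ F`. -/
noncomputable def theta0 : (twFun n T (-((0 : ℕ) : ℤ))).obj (Fk n T F 0) ≅ F :=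
  Classical.choice (by
    obtain ⟨e0⟩ := nonempty_twistOver_zero_iso n T
    exact ⟨PicGrp.tensorModIso e0 (Iso.refl F) ≪≫
      Groth.Agent.Lib.Helper23.TensorUnit.unitTensorIso F⟩)

/-- the augmentation `p^* T_0 ⟶ F`. -/
noncomputable def pi0 : Lx n T F 0 ⟶ F := mA n T F 0 ≫ (theta0 n T F).hom

theorem dL_pi0 : dL n T F 0 ≫ pi0 n T F = 0 := by
  unfold dL pi0
  simp only [Category.assoc]
  rw [← Category.assoc (mC n T F 0), mC_mA]
  simp

/-- the augmentation, as a morphism of complexes. -/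
noncomputable def piL : cx n T F ⟶ (ChainComplex.single₀ (KRR.PY n T).Modules).obj F :=
  (ChainComplex.toSingle₀Equiv _ _).symm ⟨pi0 n T F, by
    have h : (cx n T F).d 1 0 = dL n T F 0 := ChainComplex.of_d (Lx n T F) (dL n T F) 0
    rw [h]
    exact dL_pi0 n T F⟩

include hF hreg in
theorem exact_dL_pi0 :
    (ShortComplex.mk (dL n T F 0) (pi0 n T F) (dL_pi0 n T F)).Exact := by
  haveI := epi_mA n T F hF hreg 1
  let α : ShortComplex.mk (dL n T F 0) (pi0 n T F) (dL_pi0 n T F) ⟶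
      ShortComplex.mk (mC n T F 0) (mA n T F 0) (mC_mA n T F 0) :=
    { τ₁ := mA n T F 1 ≫ (theta n T F 0).hom
      τ₂ := 𝟙 _
      τ₃ := (theta0 n T F).inv
      comm₁₂ := by
        dsimp [dL]
        simp only [Category.assoc, Category.comp_id]
      comm₂₃ := by
        dsimp [pi0]
        simp }
  haveI : Epi α.τ₁ := by dsimp [α]; infer_instance
  haveI : IsIso α.τ₂ := by dsimp [α]; infer_instance
  haveI : Mono α.τ₃ := by dsimp [α]; infer_instance
  exact (ShortComplex.exact_iff_of_epi_of_isIso_of_mono α).2 (exact_mC_mA n T F hF hreg 0)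

include hF hreg in
theorem epi_pi0 : Epi (pi0 n T F) := by
  haveI := epi_mA n T F hF hreg 0
  unfold pi0
  infer_instance

include hF hreg in
theorem exactAt_succ (k : ℕ) : (cx n T F).ExactAt (k + 1) := by
  rw [HomologicalComplex.exactAt_iff' _ (k + 1 + 1) (k + 1) k (by simp) (by simp)]
  have h1 : (cx n T F).d (k + 1 + 1) (k + 1) = dL n T F (k + 1) := ChainComplex.of_d _ _ (k + 1)
  have h2 : (cx n T F).d (k + 1) k = dL n T F k := ChainComplex.of_d _ _ k
  refine (ShortComplex.exact_iff_of_iso ?_).2 (exact_dL n T F hF hreg k)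
  refine ShortComplex.isoMk (Iso.refl _) (Iso.refl _) (Iso.refl _) ?_ ?_
  · change 𝟙 _ ≫ dL n T F (k + 1) = (cx n T F).d (k + 1 + 1) (k + 1) ≫ 𝟙 _
    rw [h1, Category.id_comp, Category.comp_id]
  · change 𝟙 _ ≫ dL n T F k = (cx n T F).d (k + 1) k ≫ 𝟙 _
    rw [h2, Category.id_comp, Category.comp_id]

include hF hreg in
theorem quasiIso_piL : QuasiIso (piL n T F) := ⟨fun k => by
  cases k with
  | zero =>
    rw [ChainComplex.quasiIsoAt₀_iff, ShortComplex.quasiIso_iff_of_zeros']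
    · refine (ShortComplex.exact_and_epi_g_iff_of_iso ?_).2
        ⟨exact_dL_pi0 n T F hF hreg, epi_pi0 n T F hF hreg⟩
      have h : (cx n T F).d 1 0 = dL n T F 0 := ChainComplex.of_d (Lx n T F) (dL n T F) 0
      have hp : (piL n T F).f 0 = pi0 n T F := by simp [piL]
      refine ShortComplex.isoMk (Iso.refl _) (Iso.refl _) (Iso.refl _) ?_ ?_
      · change 𝟙 _ ≫ dL n T F 0 = (cx n T F).d 1 0 ≫ 𝟙 _
        rw [h, Category.id_comp, Category.comp_id]
      · change 𝟙 _ ≫ pi0 n T F = (piL n T F).f 0 ≫ 𝟙 _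
        rw [hp, Category.id_comp]
        exact (Category.comp_id _).symm
    all_goals rfl
  | succ k =>
    rw [quasiIsoAt_iff_exactAt']
    · exact exactAt_succ n T F hF hreg k
    · apply ChainComplex.exactAt_succ_single_obj⟩

include hF hreg in
theorem isZero_Zk (m : ℕ) (hm : n ≤ m) : IsZero (Zk n T F m) := by
  induction m, hm using Nat.le_induction with
  | base => exact isZero_Zn n T F hF hreg
  | succ m _ ih =>
    have h1 : IsZero (Fk n T F (m + 1)) := Functor.map_isZero (twFun n T 1) ih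
    have h2 : IsZero ((Scheme.Modules.pushforward (KRR.pr n T)).obj (Fk n T F (m + 1))) :=
      Functor.map_isZero _ h1
    have h3 : IsZero ((Scheme.Modules.pullback (KRR.pr n T)).obj
        ((Scheme.Modules.pushforward (KRR.pr n T)).obj (Fk n T F (m + 1)))) :=
      Functor.map_isZero _ h2
    exact IsZero.of_mono (kernel.ι (eps n T (Fk n T F (m + 1)))) h3

include hF hreg in
theorem isZero_Lx (k : ℕ) (hk : n < k) : IsZero (Lx n T F k) := by
  obtain ⟨m, rfl⟩ : ∃ m, k = m + 1 := ⟨k - 1, by omega⟩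
  have h0 := isZero_Zk n T F hF hreg m (by omega)
  have h1 : IsZero (Fk n T F (m + 1)) := Functor.map_isZero (twFun n T 1) h0
  have h2 : IsZero ((Scheme.Modules.pushforward (KRR.pr n T)).obj (Fk n T F (m + 1))) :=
    Functor.map_isZero _ h1
  have h3 : IsZero ((Scheme.Modules.pullback (KRR.pr n T)).obj
      ((Scheme.Modules.pushforward (KRR.pr n T)).obj (Fk n T F (m + 1)))) :=
    Functor.map_isZero _ h2
  exact Functor.map_isZero (twFun n T (-((m + 1 : ℕ) : ℤ))) h3

include hF hreg in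
/-- **Quillen's resolution** of a regular quasi-coherent module on `P^n_T`. -/
theorem exists_resolution :
    ∃ (Tm : ℕ → T.Modules) (L : ChainComplex (KRR.PY n T).Modules ℕ)
      (π : L ⟶ (ChainComplex.single₀ (KRR.PY n T).Modules).obj F),
      (∀ i, Coh.IsQCoh (Tm i)) ∧
      (∀ i, i ≤ n → Nonempty (L.X i ≅
        KRR.twF n T (-(i : ℤ)) ((Scheme.Modules.pullback (KRR.pr n T)).obj (Tm i)))) ∧
      (∀ i, n < i → IsZero (L.X i)) ∧ QuasiIso π :=
  ⟨Tk n T F, cx n T F, piL n T F,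
    fun i => isQCoh_push n T _ (fk_props n T F hF hreg i).1,
    fun _ _ => ⟨Iso.refl _⟩,
    fun i hi => isZero_Lx n T F hF hreg i hi,
    quasiIso_piL n T F hF hreg⟩

end Exact

end Groth.Agent.Lib.Helper27QResCx
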