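import Groth.Agent.Lib.Helper27RelRegE
import Groth.Agent.Lib.Helper21GBC3

/-!
# Sectionwise units of `f^* ⊣ f_*` and their surjectivity for `P^n` (helper27)

* `uS_comp`, `uS_congr` : the unit of a composite on sections.
* `bijective_uS_of_isOpenImmersion` : for an open immersion the unit is bijective on the sections
  over opens contained in the range.
* `surjective_uS_toSpec` : for `π : P^n_R ⟶ Spec R` and `N` quasi-coherent on `Spec R`,
  `Γ(Spec R, N) ⟶ Γ(P^n_R, π^* N)` is surjective.
* `surjective_uS_pr` : for `p : P^n_T ⟶ T`, `E` quasi-coherent on `T` and `V ⊆ T` affine open,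
  `Γ(V, E) ⟶ Γ(p⁻¹ V, p^* E)` is surjective.
* `eq_zero_of_counit_app_eq_zero` : a section of `p^* p_* F` over `p⁻¹ V` killed by the counit is
  zero (`F` quasi-coherent).
-/

set_option autoImplicit false
universe u

open CategoryTheory CategoryTheory.Limits AlgebraicGeometry TopologicalSpace Opposite

namespace Groth.Agent.Lib.Helper27QResUnit

open Scheme.Modules

section Gen

variable {X Y Z : Scheme.{u}}

/-- the unit of `f^* ⊣ f_*` on the sections over `W`. -/
noncomputable def uS (f : X ⟶ Y) (M : Y.Modules) (W : Y.Opens) (m : Γ(M, W)) :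
    Γ((Scheme.Modules.pullback f).obj M, f ⁻¹ᵁ W) :=
  ((pullbackPushforwardAdjunction f).unit.app M).app W m

theorem uS_comp (f : X ⟶ Y) (g : Y ⟶ Z) (M : Z.Modules) (W : Z.Opens) (m : Γ(M, W)) :
    ((pullbackComp f g).hom.app M).app ((f ≫ g) ⁻¹ᵁ W)
        (uS f ((Scheme.Modules.pullback g).obj M) (g ⁻¹ᵁ W) (uS g M W m)) = uS (f ≫ g) M W m := by
  have h := Groth.Agent.Lib.Helper21.GBC3.unit_pullbackComp f g M
  exact congrArg (fun φ => Scheme.Modules.Hom.app φ W m) h

theorem surjective_uS_of_eq {f g : X ⟶ Y} (e : f = g) (M : Y.Modules) (W : Y.Opens)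
    (h : Function.Surjective (uS f M W)) : Function.Surjective (uS g M W) := by
  subst e
  exact h

theorem surjective_uS_of_eq_opens (f : X ⟶ Y) (M : Y.Modules) {W W' : Y.Opens} (e : W = W')
    (h : Function.Surjective (uS f M W)) : Function.Surjective (uS f M W') := by
  subst e
  exact h

theorem injective_app_of_isIso {A B : X.Modules} (φ : A ⟶ B) [IsIso φ] (U : X.Opens) :
    Function.Injective (φ.app U) := by
  intro a b hab
  have h1 : (φ ≫ inv φ).app U a = (φ ≫ inv φ).app U b := by
    rw [Scheme.Modules.Hom.comp_app]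
    exact congrArg ((inv φ).app U) hab
  rw [IsIso.hom_inv_id] at h1
  exact h1

theorem surjective_app_of_isIso {A B : X.Modules} (φ : A ⟶ B) [IsIso φ] (U : X.Opens) :
    Function.Surjective (φ.app U) := by
  intro b
  refine ⟨(inv φ).app U b, ?_⟩
  have h1 : (inv φ ≫ φ).app U b = b := by
    rw [IsIso.inv_hom_id]
    rfl
  exact h1

/-- surjectivity of the unit of a composite. -/
theorem surjective_uS_comp (f : X ⟶ Y) (g : Y ⟶ Z) (M : Z.Modules) (W : Z.Opens)
    (hg : Function.Surjective (uS g M W))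
    (hf : Function.Surjective (uS f ((Scheme.Modules.pullback g).obj M) (g ⁻¹ᵁ W))) :
    Function.Surjective (uS (f ≫ g) M W) := by
  intro t
  obtain ⟨t', rfl⟩ := surjective_app_of_isIso ((pullbackComp f g).hom.app M) _ t
  obtain ⟨a, rfl⟩ := hf t'
  obtain ⟨m, rfl⟩ := hg a
  exact ⟨m, (uS_comp f g M W m).symm⟩

/-- descending the surjectivity of the unit of a composite along an injective unit. -/
theorem surjective_uS_of_comp (f : X ⟶ Y) (g : Y ⟶ Z) (M : Z.Modules) (W : Z.Opens)
    (hfg : Function.Surjective (uS (f ≫ g) M W))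
    (hf : Function.Injective (uS f ((Scheme.Modules.pullback g).obj M) (g ⁻¹ᵁ W))) :
    Function.Surjective (uS g M W) := by
  intro t
  obtain ⟨m, hm⟩ := hfg (((pullbackComp f g).hom.app M).app ((f ≫ g) ⁻¹ᵁ W)
    (uS f ((Scheme.Modules.pullback g).obj M) (g ⁻¹ᵁ W) t))
  refine ⟨m, ?_⟩
  rw [← uS_comp] at hm
  exact hf (injective_app_of_isIso ((pullbackComp f g).hom.app M) _ hm)

/-- for an open immersion, the unit is bijective on sections over opens inside the range. -/
theorem bijective_uS_of_isOpenImmersion (j : X ⟶ Y) [IsOpenImmersion j] (M : Y.Modules)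
    (W : Y.Opens) (hW : W ≤ j.opensRange) : Function.Bijective (uS j M W) := by
  have h := Groth.Agent.Lib.Helper21.GBC3.unit_restrictFunctorIsoPullback j M
  have h1 : ∀ m : Γ(M, W), uS j M W m =
      ((restrictFunctorIsoPullback j).hom.app M).app (j ⁻¹ᵁ W)
        (M.presheaf.map (homOfLE (j.image_preimage_le W)).op m) := by
    intro m
    exact (congrArg (fun φ => Scheme.Modules.Hom.app φ W m) h).symm
  have e : j ''ᵁ (j ⁻¹ᵁ W) = W := by
    rw [Scheme.Hom.image_preimage_eq_opensRange_inf]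
    exact inf_eq_right.2 hW
  have hb : Function.Bijective (M.presheaf.map (homOfLE (j.image_preimage_le W)).op) :=
    Groth.Agent.Helper13PullbackUnit.map_bijective_of_eq M e _
  have hi : Function.Bijective
      (((restrictFunctorIsoPullback j).hom.app M).app (j ⁻¹ᵁ W)) :=
    ⟨injective_app_of_isIso _ _, surjective_app_of_isIso _ _⟩
  have : uS j M W = fun m => ((restrictFunctorIsoPullback j).hom.app M).app (j ⁻¹ᵁ W)
        (M.presheaf.map (homOfLE (j.image_preimage_le W)).op m) := funext h1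
  rw [this]
  exact hi.comp hb

end Gen

section Free

theorem unitToUnit_uS {X Y : Scheme.{u}} (f : X ⟶ Y) (W : Y.Opens) (r : Γ(Y, W)) :
    (SheafOfModules.pullbackObjUnitToUnit f.toRingCatSheafHom).val.app (op (f ⁻¹ᵁ W))
      (uS f (Coh.structureModule Y) W r) = f.app W r := by
  have h := SheafOfModules.pullbackPushforwardAdjunction_homEquiv_pullbackObjUnitToUnit
    f.toRingCatSheafHom
  rw [Adjunction.homEquiv_unit] at h
  have h2 := congrArg (fun φ => φ.val.app (op W) r) h
  exact h2

theorem uS_naturality {X Y : Scheme.{u}} (f : X ⟶ Y) {M M' : Y.Modules} (ψ : M ⟶ M')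
    (W : Y.Opens) (m : Γ(M, W)) :
    ((Scheme.Modules.pullback f).map ψ).app (f ⁻¹ᵁ W) (uS f M W m) = uS f M' W (ψ.app W m) := by
  have h := (pullbackPushforwardAdjunction f).unit.naturality ψ
  exact (congrArg (fun φ => Scheme.Modules.Hom.app φ W m) h).symm

theorem uS_sum {X Y : Scheme.{u}} (f : X ⟶ Y) (M : Y.Modules) (W : Y.Opens) {ι : Type*}
    (t : Finset ι) (m : ι → Γ(M, W)) :
    uS f M W (∑ i ∈ t, m i) = ∑ i ∈ t, uS f M W (m i) := by
  unfold uS
  exact map_sum (((pullbackPushforwardAdjunction f).unit.app M).app W).hom m t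

/-- sections of `f^*` of a free module over a quasi-compact open `f⁻¹ W` on which
`f^♯` is surjective come from sections of the free module. -/
theorem surjective_uS_free {X Y : Scheme.{u}} (f : X ⟶ Y) (I : Type u) (W : Y.Opens)
    (hc : IsCompact ((f ⁻¹ᵁ W : X.Opens) : Set X))
    (hs : Function.Surjective (f.app W)) :
    Function.Surjective (uS f (SheafOfModules.free (R := Y.ringCatSheaf) I) W) := by
  classical
  intro s
  let e := Groth.Agent.Lib.LeadPicFF.pullbackFreeIso' f I
  obtain ⟨T, z, hz⟩ := Groth.Agent.Lib.Helper21.CoprodSec.exists_finite_sum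
    (fun _ : I => Coh.structureModule X)
    (Groth.Agent.Lib.Helper18.DirImgColim.hasFinSubcover_of_isCompact (f ⁻¹ᵁ W) hc)
    (e.hom.val.app (op (f ⁻¹ᵁ W)) s)
  choose r hr using fun i => hs (z i)
  refine ⟨∑ i ∈ T, (SheafOfModules.ιFree (R := Y.ringCatSheaf) i).val.app (op W) (r i), ?_⟩
  apply injective_app_of_isIso e.hom (f ⁻¹ᵁ W)
  refine Eq.trans ?_ hz.symm
  rw [uS_sum, map_sum]
  refine Finset.sum_congr rfl (fun i _ => ?_)
  have h1 := uS_naturality f (SheafOfModules.ιFree (R := Y.ringCatSheaf) i) W (r i)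
  have h2 := SheafOfModules.pullback_map_ιFree_comp_pullbackObjFreeIso_hom
    f.toRingCatSheafHom (I := I) i
  have h3 := congrArg (fun φ => φ.val.app (op (f ⁻¹ᵁ W))
    (uS f (Coh.structureModule Y) W (r i))) h2
  have h4 := unitToUnit_uS f W (r i)
  rw [hr i] at h4
  have h5 : (SheafOfModules.ιFree (R := X.ringCatSheaf) i).val.app (op (f ⁻¹ᵁ W))
      ((SheafOfModules.pullbackObjUnitToUnit f.toRingCatSheafHom).val.app (op (f ⁻¹ᵁ W))
        (uS f (Coh.structureModule Y) W (r i))) =
      (Sigma.ι (fun _ : I => Coh.structureModule X) i).val.app (op (f ⁻¹ᵁ W)) (z i) := by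
    rw [h4]
    rfl
  refine Eq.trans ?_ h5
  refine Eq.trans ?_ h3
  exact congrArg (fun x => e.hom.val.app (op (f ⁻¹ᵁ W)) x) h1.symm


end Free

section Pn

variable (n : ℕ) (R : Type u) [CommRing R]

/-- **affine base**: `Γ(Spec R, N) ⟶ Γ(P^n_R, π^* N)` is surjective for quasi-coherent `N`. -/
theorem surjective_uS_toSpec (N : (Spec (CommRingCat.of R)).Modules) (hN : N.IsQuasicoherent) :
    Function.Surjective (uS (CohB1.ProjSpace.toSpec n R) N ⊤) := by
  haveI := hN
  obtain ⟨I, p, hp⟩ := Groth.Agent.S10869.gg_of_isAffine N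
  haveI : (SheafOfModules.free (R := (Spec (CommRingCat.of R)).ringCatSheaf) I).IsQuasicoherent :=
    inferInstance
  let p' : (SheafOfModules.free I : (Spec (CommRingCat.of R)).Modules) ⟶ N := p
  haveI : Epi p' := hp
  have hK : (kernel p').IsQuasicoherent :=
    Groth.Agent.Lib.Helper23.QCohLocal.isQuasicoherent_kernel p'
  let S₀ : ShortComplex (Spec (CommRingCat.of R)).Modules :=
    ShortComplex.mk (kernel.ι p') p' (kernel.condition p')
  have hS₀ : S₀.ShortExact :=
    { exact := ShortComplex.exact_of_f_is_kernel _ (kernelIsKernel p')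
      mono_f := (inferInstance : Mono (kernel.ι p'))
      epi_g := hp }
  haveI : Smooth (CohB1.ProjSpace.toSpec n R) :=
    Groth.Agent.Lib.Helper27ChartPoly.smooth_projSpace_toSpec n R
  have hS₁ := Groth.Agent.Lib.Helper27RelRegD.shortExact_map_pullback_of_flat
    (CohB1.ProjSpace.toSpec n R) S₀ hS₀
  have h1 : Subsingleton (Coh.HH (CohB1.ProjSpace n R)
      (S₀.map (Scheme.Modules.pullback (CohB1.ProjSpace.toSpec n R))).X₁ 1) := by
    obtain ⟨e0⟩ := Groth.Agent.Lib.Helper27GlobGenPn.nonempty_OO_zero_iso n R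
    have e0' : Twist.twistProjSpace n R 0 ≅ Coh.structureModule (CohB1.ProjSpace n R) := e0
    have h := Groth.Agent.Lib.Helper27RelRegD.subsingleton_HH_pullback_twist n R 0 (by omega) 1
      le_rfl (kernel p') hK
    exact Groth.Agent.Lib.Helper27PnCohVanish.subsingleton_HH_of_iso
      (PicGrp.tensorModIso (Iso.refl _) e0' ≪≫
        Groth.Agent.Lib.Helper23.TensorUnit.tensorUnitIso _) 1 h
  have hsurj : Function.Surjective
      (((Scheme.Modules.pullback (CohB1.ProjSpace.toSpec n R)).map p').app ⊤) :=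
    Groth.Agent.Lib.Helper27ResChase.surjective_app_top_of_shortExact _ hS₁ h1
  haveI := Groth.Agent.Lib.Helper27ProjGamma.isIso_toSpec_appTop n R
  haveI : CompactSpace (CohB1.ProjSpace n R) := Groth.Agent.Lib.Helper27PnAmple.compactSpace n R
  have hfree := surjective_uS_free (CohB1.ProjSpace.toSpec n R) I ⊤ isCompact_univ
    (ConcreteCategory.bijective_of_isIso (CohB1.ProjSpace.toSpec n R).appTop).2
  intro t
  obtain ⟨s, hs⟩ := hsurj t
  obtain ⟨m₀, hm₀⟩ := hfree s
  refine ⟨Scheme.Modules.Hom.app p' ⊤ m₀, ?_⟩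
  rw [← uS_naturality, hm₀]
  exact hs

end Pn


section Rel

open Groth.Agent.Lib.Helper17.TwistBC

variable (n : ℕ) (T : Scheme.{u})

/-- **relative form**: `Γ(V, E) ⟶ Γ(p⁻¹ V, p^* E)` is surjective for `E` quasi-coherent on `T` and
`V ⊆ T` an affine open. -/
theorem surjective_uS_pr (E : T.Modules) (hE : E.IsQuasicoherent) {V : T.Opens}
    (hV : IsAffineOpen V) : Function.Surjective (uS (KRR.pr n T) E V) := by
  haveI := hE
  have hcomm : chartOver n hV ≫ KRR.pr n T =
      CohB1.ProjSpace.toSpec n Γ(T, V) ≫ hV.fromSpec := chartOver_toBase n hV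
  have h1 : Function.Surjective (uS hV.fromSpec E V) :=
    (bijective_uS_of_isOpenImmersion hV.fromSpec E V hV.opensRange_fromSpec.ge).2
  have hq : ((Scheme.Modules.pullback hV.fromSpec).obj E).IsQuasicoherent :=
    Groth.Agent.Lib.Helper2.PullbackSec.isQuasicoherent_pullback _ _
  have h2 : Function.Surjective (uS (CohB1.ProjSpace.toSpec n Γ(T, V))
      ((Scheme.Modules.pullback hV.fromSpec).obj E) (hV.fromSpec ⁻¹ᵁ V)) :=
    surjective_uS_of_eq_opens _ _ hV.fromSpec_preimage_self.symm
      (surjective_uS_toSpec n Γ(T, V) _ hq)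
  have h3 := surjective_uS_comp (CohB1.ProjSpace.toSpec n Γ(T, V)) hV.fromSpec E V h1 h2
  have h4 : Function.Surjective (uS (chartOver n hV ≫ KRR.pr n T) E V) :=
    surjective_uS_of_eq hcomm.symm E V h3
  refine surjective_uS_of_comp (chartOver n hV) (KRR.pr n T) E V h4 ?_
  exact (bijective_uS_of_isOpenImmersion (chartOver n hV) _ _
    (opensRange_chartOver n hV).ge).1

/-- a section of `p^* p_* F` over `p⁻¹ V` killed by the counit is zero. -/
theorem eq_zero_of_counit_app_eq_zero (F : (KRR.PY n T).Modules) (hF : Coh.IsQCoh F)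
    {V : T.Opens} (hV : IsAffineOpen V)
    (s : Γ((Scheme.Modules.pullback (KRR.pr n T)).obj
      ((Scheme.Modules.pushforward (KRR.pr n T)).obj F), (KRR.pr n T) ⁻¹ᵁ V))
    (hs : ((Scheme.Modules.pullbackPushforwardAdjunction (KRR.pr n T)).counit.app F).app
      ((KRR.pr n T) ⁻¹ᵁ V) s = 0) : s = 0 := by
  haveI := hF
  haveI := Groth.Agent.Lib.Helper27ProjSpaceFibres.isProper_toBase n T
  have hE : ((Scheme.Modules.pushforward (KRR.pr n T)).obj F).IsQuasicoherent :=
    Groth.Agent.Lib.Helper23.QCohLocal.isQuasicoherent_pushforward _ F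
  obtain ⟨e, rfl⟩ := surjective_uS_pr n T _ hE hV s
  have h := (Scheme.Modules.pullbackPushforwardAdjunction (KRR.pr n T)).right_triangle_components F
  have h' : ((Scheme.Modules.pullbackPushforwardAdjunction (KRR.pr n T)).counit.app F).app
      ((KRR.pr n T) ⁻¹ᵁ V) (uS (KRR.pr n T) _ V e) = e :=
    congrArg (fun φ => Scheme.Modules.Hom.app φ V e) h
  rw [h'] at hs
  rw [hs]
  unfold uS
  exact map_zero _

end Rel

end Groth.Agent.Lib.Helper27QResUnit
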