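import Groth.Agent.Lib.Helper20QuotAff

/-!
# `SGA1.IsQuot` from an affine cover of the target (helper27)

Extends helper20's `QuotAt` machinery from an affine target to an arbitrary one.

* `quotAt_of_cover`: gluing the quotient conditions along an open cover.
* `quotAt_basicOpen'`: from an affine open `U₀` (with affine preimage) to its basic opens.
* `quotAt_of_le_affine`: from an affine open `U₀` (with affine preimage) to all smaller opens.
* `isQuot_of_cover`: `IsQuot` from a cover of the target by affine opens with affine preimages on each of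
  which sections are the invariants.
-/

set_option autoImplicit false
universe u
open CategoryTheory AlgebraicGeometry TopologicalSpace

namespace Groth.Agent.Lib.Helper27QuotCover

open SGA1 Groth.Agent.Lib.Helper20

variable {X Y : Scheme.{u}} {ι : Type u} {σ : ι → (X ⟶ X)} {p : X ⟶ Y}

theorem preimage_le_sigma (hσ : ∀ i, σ i ≫ p = p) (W : Y.Opens) (i : ι) :
    p ⁻¹ᵁ W ≤ σ i ⁻¹ᵁ (p ⁻¹ᵁ W) := by
  rw [← Scheme.Hom.comp_preimage, hσ i]

theorem quotAt_iff_app (hσ : ∀ i, σ i ≫ p = p) (W : Y.Opens) :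
    QuotAt σ p W (p ⁻¹ᵁ W) ↔
      (Function.Injective (p.app W).hom ∧ ∀ s : Γ(X, p ⁻¹ᵁ W),
        (∀ i, ((σ i).appLE _ _ (preimage_le_sigma hσ W i)).hom s = s) →
          s ∈ Set.range (p.app W).hom) := by
  constructor
  · rintro ⟨e, eσ', hinj, hrange⟩
    rw [Scheme.Hom.app_eq_appLE]
    exact ⟨hinj, hrange⟩
  · rintro ⟨hinj, hrange⟩
    refine ⟨le_rfl, preimage_le_sigma hσ W, ?_, ?_⟩
    · rw [Scheme.Hom.appLE_eq_app]
      exact hinj
    · rw [Scheme.Hom.appLE_eq_app]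
      exact hrange

/-- gluing the quotient conditions along a cover -/
theorem quotAt_of_cover (hσ : ∀ i, σ i ≫ p = p) (U : Y.Opens) {J : Type u} (V : J → Y.Opens)
    (hVU : ∀ j, V j ≤ U) (hcover : U ≤ iSup V)
    (hb : ∀ j, QuotAt σ p (V j) (p ⁻¹ᵁ V j))
    (hbb : ∀ j k, Function.Injective (p.app (V j ⊓ V k)).hom) :
    QuotAt σ p U (p ⁻¹ᵁ U) := by
  have eσ : ∀ (W : Y.Opens) (i : ι), p ⁻¹ᵁ W ≤ σ i ⁻¹ᵁ (p ⁻¹ᵁ W) := preimage_le_sigma hσ
  have hcover' : p ⁻¹ᵁ U ≤ iSup (fun j : J => p ⁻¹ᵁ V j) := by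
    intro x hx
    obtain ⟨j, hj⟩ := Opens.mem_iSup.mp (hcover (show p.base x ∈ U from hx))
    exact Opens.mem_iSup.mpr ⟨j, hj⟩
  have hres : ∀ (W W' : Y.Opens) (hWW' : W' ≤ W) (a : Γ(Y, W)),
      (p.app W').hom ((Y.presheaf.map (homOfLE hWW').op).hom a) =
        (X.presheaf.map (homOfLE (p.preimage_mono hWW')).op).hom ((p.app W).hom a) := by
    intro W W' hWW' a
    exact congrArg (fun f => f.hom a) (p.naturality (homOfLE hWW').op)
  have hresσ : ∀ (W W' : Y.Opens) (hWW' : W' ≤ W) (i : ι) (t : Γ(X, p ⁻¹ᵁ W)),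
      ((σ i).appLE _ _ (eσ W' i)).hom ((X.presheaf.map (homOfLE (p.preimage_mono hWW')).op).hom t) =
        (X.presheaf.map (homOfLE (p.preimage_mono hWW')).op).hom
          (((σ i).appLE _ _ (eσ W i)).hom t) := by
    intro W W' hWW' i t
    have h1 : X.presheaf.map (homOfLE (p.preimage_mono hWW')).op ≫ (σ i).appLE _ _ (eσ W' i) =
        (σ i).appLE _ _ (eσ W i) ≫ X.presheaf.map (homOfLE (p.preimage_mono hWW')).op := by
      rw [Scheme.Hom.map_appLE, Scheme.Hom.appLE_map]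
    exact congrArg (fun f => f.hom t) h1
  have happ : ∀ (W : Y.Opens) (hW : QuotAt σ p W (p ⁻¹ᵁ W)),
      Function.Injective (p.app W).hom ∧ ∀ s : Γ(X, p ⁻¹ᵁ W),
        (∀ i, ((σ i).appLE _ _ (eσ W i)).hom s = s) → s ∈ Set.range (p.app W).hom :=
    fun W hW => (quotAt_iff_app hσ W).mp hW
  refine ⟨le_rfl, eσ U, ?_, ?_⟩
  · rw [Scheme.Hom.appLE_eq_app, injective_iff_map_eq_zero]
    intro s hs
    fapply Y.sheaf.eq_of_locally_eq' V U (fun j => homOfLE (hVU j)) hcover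
    intro j
    change (Y.presheaf.map (homOfLE (hVU j)).op).hom s = (Y.presheaf.map (homOfLE (hVU j)).op).hom 0
    rw [map_zero]
    apply (happ _ (hb j)).1
    rw [map_zero, hres U (V j) (hVU j) s, hs, map_zero]
  · intro t ht
    rw [Scheme.Hom.appLE_eq_app]
    have h1 : ∀ j : J, ∃ s : Γ(Y, V j), (p.app (V j)).hom s =
        (X.presheaf.map (homOfLE (p.preimage_mono (hVU j))).op).hom t := by
      intro j
      apply (happ _ (hb j)).2
      intro i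
      rw [hresσ U (V j) (hVU j) i t, ht i]
    choose sf hsf using h1
    have hcompat : TopCat.Presheaf.IsCompatible Y.presheaf V sf := by
      intro j k
      apply hbb j k
      change (p.app (V j ⊓ V k)).hom ((Y.presheaf.map (homOfLE inf_le_left).op).hom (sf j)) =
        (p.app (V j ⊓ V k)).hom ((Y.presheaf.map (homOfLE inf_le_right).op).hom (sf k))
      rw [hres (V j) (V j ⊓ V k) inf_le_left, hres (V k) (V j ⊓ V k) inf_le_right, hsf, hsf]
      change (X.presheaf.map _ ≫ X.presheaf.map _).hom t = (X.presheaf.map _ ≫ X.presheaf.map _).hom t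
      rw [← X.presheaf.map_comp, ← X.presheaf.map_comp]
      rfl
    obtain ⟨s, hs, -⟩ := Y.sheaf.existsUnique_gluing' V U (fun j => homOfLE (hVU j)) hcover sf hcompat
    refine ⟨s, ?_⟩
    fapply X.sheaf.eq_of_locally_eq' (fun j : J => p ⁻¹ᵁ V j) (p ⁻¹ᵁ U)
      (fun j => homOfLE (p.preimage_mono (hVU j))) hcover'
    intro j
    change (X.presheaf.map (homOfLE (p.preimage_mono (hVU j))).op).hom ((p.app U).hom s) =
      (X.presheaf.map (homOfLE (p.preimage_mono (hVU j))).op).hom t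
    rw [← hres U (V j) (hVU j) s, ← hsf j]
    congr 1
    exact hs j

/-- from an affine open with affine preimage to its basic opens -/
theorem quotAt_basicOpen' [Finite ι] (hσ : ∀ i, σ i ≫ p = p) {U₀ : Y.Opens} (hU₀ : IsAffineOpen U₀)
    (hT₀ : IsAffineOpen (p ⁻¹ᵁ U₀)) (htop : QuotAt σ p U₀ (p ⁻¹ᵁ U₀)) (f : Γ(Y, U₀)) :
    QuotAt σ p (Y.basicOpen f) (p ⁻¹ᵁ Y.basicOpen f) := by
  obtain ⟨e, eσ, hinj, hrange⟩ := htop
  have hT : X.basicOpen ((p.appLE U₀ (p ⁻¹ᵁ U₀) e).hom f) = p ⁻¹ᵁ Y.basicOpen f := by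
    rw [Scheme.basicOpen_appLE]
    exact inf_eq_right.mpr (p.preimage_mono (Y.basicOpen_le f))
  rw [← hT]
  have e' : X.basicOpen ((p.appLE U₀ (p ⁻¹ᵁ U₀) e).hom f) ≤ p ⁻¹ᵁ Y.basicOpen f := hT.le
  have eσ' : ∀ i, X.basicOpen ((p.appLE U₀ (p ⁻¹ᵁ U₀) e).hom f) ≤
      σ i ⁻¹ᵁ X.basicOpen ((p.appLE U₀ (p ⁻¹ᵁ U₀) e).hom f) := by
    intro i
    rw [hT, ← Scheme.Hom.comp_preimage, hσ i]
  refine ⟨e', eσ', ?_⟩
  have := hU₀.isLocalization_basicOpen f
  have := hT₀.isLocalization_basicOpen ((p.appLE U₀ (p ⁻¹ᵁ U₀) e).hom f)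
  have key := away_quot (Af := Γ(Y, Y.basicOpen f))
    (Bf := Γ(X, X.basicOpen ((p.appLE U₀ (p ⁻¹ᵁ U₀) e).hom f))) f (p.appLE U₀ (p ⁻¹ᵁ U₀) e).hom
    (fun i => ((σ i).appLE (p ⁻¹ᵁ U₀) (p ⁻¹ᵁ U₀) (eσ i)).hom)
    (fun i a => appLE_invariant hσ U₀ (p ⁻¹ᵁ U₀) e i (eσ i) a) hinj (fun b hb => hrange b hb)
    (p.appLE (Y.basicOpen f) (X.basicOpen ((p.appLE U₀ (p ⁻¹ᵁ U₀) e).hom f)) e').hom
    (fun a => by
      change (Y.presheaf.map _ ≫ p.appLE _ _ e').hom a =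
        (p.appLE U₀ (p ⁻¹ᵁ U₀) e ≫ X.presheaf.map _).hom a
      rw [Scheme.Hom.map_appLE, Scheme.Hom.appLE_map])
    (fun i => ((σ i).appLE _ _ (eσ' i)).hom)
    (fun i b => by
      change (X.presheaf.map _ ≫ (σ i).appLE _ _ (eσ' i)).hom b =
        ((σ i).appLE (p ⁻¹ᵁ U₀) (p ⁻¹ᵁ U₀) (eσ i) ≫ X.presheaf.map _).hom b
      rw [Scheme.Hom.map_appLE, Scheme.Hom.appLE_map])
  exact key

/-- from an affine open with affine preimage to all smaller opens -/
theorem quotAt_of_le_affine [Finite ι] (hσ : ∀ i, σ i ≫ p = p) {U₀ : Y.Opens}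
    (hU₀ : IsAffineOpen U₀) (hT₀ : IsAffineOpen (p ⁻¹ᵁ U₀)) (htop : QuotAt σ p U₀ (p ⁻¹ᵁ U₀))
    (U : Y.Opens) (hU : U ≤ U₀) : QuotAt σ p U (p ⁻¹ᵁ U) := by
  let J := {f : Γ(Y, U₀) // Y.basicOpen f ≤ U}
  let V : J → Y.Opens := fun j => Y.basicOpen j.1
  have hcover : U ≤ iSup V := by
    intro y hy
    obtain ⟨f, hfU, hyf⟩ := hU₀.exists_basicOpen_le (V := U) ⟨y, hy⟩ (hU hy)
    exact Opens.mem_iSup.mpr ⟨⟨f, hfU⟩, hyf⟩
  have hb : ∀ f : Γ(Y, U₀), QuotAt σ p (Y.basicOpen f) (p ⁻¹ᵁ Y.basicOpen f) :=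
    fun f => quotAt_basicOpen' hσ hU₀ hT₀ htop f
  refine quotAt_of_cover hσ U V (fun j => j.2) hcover (fun j => hb j.1) (fun j k => ?_)
  have h1 := hb (j.1 * k.1)
  rw [Scheme.basicOpen_mul] at h1
  exact ((quotAt_iff_app hσ _).mp h1).1

/-- **`IsQuot` from an affine cover**: if `Y` is covered by affine opens `U₀` with affine preimages over
each of which the sections of `O_Y` are the invariant sections of `O_X`, then `p` is a quotient. -/
theorem isQuot_of_cover {G : Type u} [Group G] [Finite G] (ρ : G →* Aut X) (p : X ⟶ Y)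
    (hinv : ∀ g : G, (ρ g).hom ≫ p = p)
    (hcov : ∀ y : Y, ∃ U₀ : Y.Opens, y ∈ U₀ ∧ IsAffineOpen U₀ ∧ IsAffineOpen (p ⁻¹ᵁ U₀) ∧
      QuotAt (fun g : G => (ρ g).hom) p U₀ (p ⁻¹ᵁ U₀)) : IsQuot ρ p := by
  choose U₀ hyU hU₀ hT₀ hQ using hcov
  have hall : ∀ U : Y.Opens, QuotAt (fun g : G => (ρ g).hom) p U (p ⁻¹ᵁ U) := by
    intro U
    refine quotAt_of_cover hinv U (fun y : Y => U ⊓ U₀ y) (fun y => inf_le_left) ?_ ?_ ?_
    · intro y hy
      exact Opens.mem_iSup.mpr ⟨y, hy, hyU y⟩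
    · intro y
      exact quotAt_of_le_affine hinv (hU₀ y) (hT₀ y) (hQ y) _ inf_le_right
    · intro y z
      exact ((quotAt_iff_app hinv _).mp (quotAt_of_le_affine hinv (hU₀ y) (hT₀ y) (hQ y) _
        (inf_le_left.trans inf_le_right))).1
  refine ⟨?_, hinv, fun U => ((quotAt_iff_app hinv U).mp (hall U)).1, fun U s => ⟨?_, ?_⟩⟩
  · exact isAffineHom_of_forall_exists_isAffineOpen _ (fun y => ⟨U₀ y, hyU y, hU₀ y, hT₀ y⟩)
  · rintro ⟨a, rfl⟩ g
    have := appLE_invariant (σ := fun g : G => (ρ g).hom) hinv U (p ⁻¹ᵁ U) le_rfl g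
      (preimage_le_of_inv ρ p hinv g U) a
    rw [Scheme.Hom.appLE_eq_app] at this
    exact this
  · intro hs
    exact ((quotAt_iff_app hinv U).mp (hall U)).2 s hs

end Groth.Agent.Lib.Helper27QuotCover
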