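import Groth.Agent.Lib.Helper27QuotPts
import Groth.Agent.Lib.Helper20QuotRestrict
import Groth.Prelude.Def_Flat
import Mathlib.AlgebraicGeometry.Morphisms.Integral

/-!
# Integrality of maps out of a quotient, and a criterion for universal homeomorphisms
-/

set_option autoImplicit false
universe u
open CategoryTheory AlgebraicGeometry

namespace Groth.Agent.Lib.Helper27QuotInt

open SGA1 Groth.Agent.Lib.Helper20

theorem isUnivHomeo_of {X Y : Scheme.{u}} (m : X ⟶ Y) [UniversallyInjective m] [Surjective m]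
    [UniversallyClosed m] : FlatMor.IsUnivHomeo m := by
  intro X' Y' i₁ i₂ m' h
  have h1 : UniversallyInjective m' := MorphismProperty.of_isPullback h.flip ‹_›
  have h2 : Surjective m' := MorphismProperty.of_isPullback h.flip ‹_›
  have h3 : UniversallyClosed m' := MorphismProperty.of_isPullback h.flip ‹_›
  change IsHomeomorph m'.base
  rw [isHomeomorph_iff_continuous_isClosedMap_bijective]
  exact ⟨m'.continuous, m'.isClosedMap, m'.injective, m'.surjective⟩

variable {X Y : Scheme.{u}} {G : Type u} [Group G] [Finite G] {ρ : G →* Aut X} {p : X ⟶ Y}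

theorem isIntegralHom_of_isQuot (hp : IsQuot ρ p) : IsIntegralHom p :=
  { toIsAffineHom := hp.affine
    isIntegral_app := fun U _ => isIntegral_app hp U }

theorem isIntegralHom_of_comp (hp : IsQuot ρ p) {Z : Scheme.{u}} (m : Y ⟶ Z)
    [hpm : IsIntegralHom (p ≫ m)] : IsIntegralHom m := by
  refine { toIsAffineHom := ⟨fun V hV => ?_⟩, isIntegral_app := fun V hV => ?_ }
  · have h1 : IsAffineOpen ((p ≫ m) ⁻¹ᵁ V) := hV.preimage (p ≫ m)
    rw [Scheme.Hom.comp_preimage] at h1
    exact isAffineOpen_of_isQuot hp _ h1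
  · have h1 : ((p ≫ m).app V).hom.IsIntegral := hpm.isIntegral_app V hV
    have h2 : ((p.app (m ⁻¹ᵁ V)).hom.comp (m.app V).hom).IsIntegral := h1
    exact RingHom.IsIntegral.tower_bot _ _ (hp.injective (m ⁻¹ᵁ V)) h2

end Groth.Agent.Lib.Helper27QuotInt
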