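import Groth.Agent.Lib.Helper27InvPts
import Groth.Agent.Lib.Helper20QuotTop
import Groth.Agent.Lib.Helper20QuotCat
import Mathlib.AlgebraicGeometry.Morphisms.UniversallyInjective

/-!
# Field-valued points of a quotient by a finite group: fibres are orbits
-/

set_option autoImplicit false
set_option linter.style.haveILetI false
universe u
open CategoryTheory AlgebraicGeometry

namespace Groth.Agent.Lib.Helper27QuotPts

open SGA1 Groth.Agent.Lib.Helper20

variable {X Y : Scheme.{u}} {G : Type u} [Group G] {ρ : G →* Aut X} {p : X ⟶ Y}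

/-- two morphisms into an affine open with the same `appLE` from the top open are equal -/
theorem eq_of_appLE_eq {T : Scheme.{u}} (a c : T ⟶ X) {U : X.Opens} (hU : IsAffineOpen U)
    (ea : (⊤ : T.Opens) ≤ a ⁻¹ᵁ U) (ec : (⊤ : T.Opens) ≤ c ⁻¹ᵁ U)
    (h : a.appLE U ⊤ ea = c.appLE U ⊤ ec) : a = c := by
  haveI : IsIso (⊤ : T.Opens).ι := by rw [← Scheme.topIso_hom]; infer_instance
  rw [← cancel_epi (⊤ : T.Opens).ι, ι_comp_eq_of_affine a hU ⊤ ea, ι_comp_eq_of_affine c hU ⊤ ec, h]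

theorem exists_rho_of_comp_eq [Finite G] (hp : IsQuot ρ p) {K : Type u} [Field K]
    (a b : Spec (CommRingCat.of K) ⟶ X) (hab : a ≫ p = b ≫ p) :
    ∃ g : G, b = a ≫ (ρ g).hom := by
  have haff := hp.affine
  let pt : Spec (CommRingCat.of K) := IsLocalRing.closedPoint K
  obtain ⟨V, hV, hyV⟩ := exists_affine_nhd Y ((a ≫ p).base pt)
  have hU : IsAffineOpen (p ⁻¹ᵁ V) := hV.preimage p
  have hsub : ∀ t : Spec (CommRingCat.of K), t = pt := fun t =>
    Subsingleton.elim (α := PrimeSpectrum K) t pt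
  have ea : (⊤ : (Spec (CommRingCat.of K)).Opens) ≤ a ⁻¹ᵁ (p ⁻¹ᵁ V) := by
    intro t _
    rw [hsub t]
    exact hyV
  have eb : (⊤ : (Spec (CommRingCat.of K)).Opens) ≤ b ⁻¹ᵁ (p ⁻¹ᵁ V) := by
    intro t _
    rw [hsub t]
    change (b ≫ p).base pt ∈ V
    rw [← hab]
    exact hyV
  letI algAB : Algebra Γ(Y, V) Γ(X, p ⁻¹ᵁ V) := (p.app V).hom.toAlgebra
  letI act : MulSemiringAction G Γ(X, p ⁻¹ᵁ V) := sectionAction ρ p hp.inv V
  haveI hinvar : Algebra.IsInvariant Γ(Y, V) Γ(X, p ⁻¹ᵁ V) G := isInvariant hp V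
  haveI hcomm : SMulCommClass G Γ(Y, V) Γ(X, p ⁻¹ᵁ V) := smulCommClass hp V
  let α : Γ(X, p ⁻¹ᵁ V) →+* K :=
    (a.appLE (p ⁻¹ᵁ V) ⊤ ea ≫ (Scheme.ΓSpecIso (CommRingCat.of K)).hom).hom
  let β : Γ(X, p ⁻¹ᵁ V) →+* K :=
    (b.appLE (p ⁻¹ᵁ V) ⊤ eb ≫ (Scheme.ΓSpecIso (CommRingCat.of K)).hom).hom
  have hcomp : α.comp (algebraMap Γ(Y, V) Γ(X, p ⁻¹ᵁ V)) =
      β.comp (algebraMap Γ(Y, V) Γ(X, p ⁻¹ᵁ V)) := by
    have h1 : p.app V ≫ a.appLE (p ⁻¹ᵁ V) ⊤ ea = p.app V ≫ b.appLE (p ⁻¹ᵁ V) ⊤ eb := by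
      rw [Scheme.Hom.app_eq_appLE, Scheme.Hom.appLE_comp_appLE, Scheme.Hom.appLE_comp_appLE]
      exact appLE_congr_hom hab _ _ _
    have h2 := congrArg (fun f => (f ≫ (Scheme.ΓSpecIso (CommRingCat.of K)).hom).hom) h1
    simp only [Category.assoc, CommRingCat.hom_comp] at h2
    refine RingHom.ext fun x => ?_
    exact RingHom.congr_fun h2 x
  obtain ⟨g, hg⟩ := Helper27InvPts.exists_smul_of_comp_eq G α β hcomp
  refine ⟨g⁻¹, ?_⟩
  have eag : (⊤ : (Spec (CommRingCat.of K)).Opens) ≤ (a ≫ (ρ g⁻¹).hom) ⁻¹ᵁ (p ⁻¹ᵁ V) := by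
    intro t _
    rw [hsub t]
    change (a ≫ (ρ g⁻¹).hom ≫ p).base pt ∈ V
    rw [hp.inv]
    exact hyV
  refine eq_of_appLE_eq b (a ≫ (ρ g⁻¹).hom) hU eb eag ?_
  rw [← cancel_mono (Scheme.ΓSpecIso (CommRingCat.of K)).hom]
  ext s
  have := hg s
  rw [sectionAction_smul] at this
  refine this.trans ?_
  have e := Scheme.Hom.appLE_comp_appLE a (ρ g⁻¹).hom (p ⁻¹ᵁ V) (p ⁻¹ᵁ V) ⊤
    (preimage_le_of_inv ρ p hp.inv g⁻¹ V) ea
  rw [← e]
  rfl

open Limits in
/-- criterion for universal injectivity of a morphism out of a quotient -/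
theorem universallyInjective_of_pts [Finite G] (hp : IsQuot ρ p) {Z : Scheme.{u}} (m : Y ⟶ Z)
    (H : ∀ (K : Type u) [Field K] (a b : Spec (CommRingCat.of K) ⟶ X),
      a ≫ p ≫ m = b ≫ p ≫ m → ∃ g : G, b = a ≫ (ρ g).hom) :
    UniversallyInjective m := by
  rw [UniversallyInjective.iff_diagonal, surjective_iff]
  intro z
  haveI hps : Surjective p := ⟨surjective_of_isQuot hp⟩
  let pp : pullback (p ≫ m) (p ≫ m) ⟶ pullback m m :=
    pullback.map (p ≫ m) (p ≫ m) m m p p (𝟙 Z) ((Category.comp_id _).trans rfl)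
      ((Category.comp_id _).trans rfl)
  haveI : MorphismProperty.IsStableUnderComposition @Surjective.{u} :=
    (inferInstance : MorphismProperty.IsMultiplicative @Surjective.{u}).toIsStableUnderComposition
  have hpp : Surjective pp :=
    MorphismProperty.pullbackMap (P := @Surjective) hps hps rfl rfl
  obtain ⟨z', rfl⟩ := hpp.surj z
  let K : Type u := (pullback (p ≫ m) (p ≫ m)).residueField z'
  let ψ' : Spec (CommRingCat.of K) ⟶ pullback (p ≫ m) (p ≫ m) :=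
    (pullback (p ≫ m) (p ≫ m)).fromSpecResidueField z'
  let pt : Spec (CommRingCat.of K) := IsLocalRing.closedPoint K
  have hψ' : ψ' pt = z' :=
    Scheme.fromSpecResidueField_apply z' _
  obtain ⟨g, hg⟩ := H K (ψ' ≫ pullback.fst _ _) (ψ' ≫ pullback.snd _ _)
    (by simp only [Category.assoc, pullback.condition])
  have h1 : (ψ' ≫ pp) ≫ pullback.fst m m = (ψ' ≫ pp) ≫ pullback.snd m m := by
    have e1 : (ψ' ≫ pp) ≫ pullback.fst m m = (ψ' ≫ pullback.fst _ _) ≫ p := by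
      simp only [Category.assoc, pp, pullback.lift_fst, pullback.map]
    have e2 : (ψ' ≫ pp) ≫ pullback.snd m m = (ψ' ≫ pullback.snd _ _) ≫ p := by
      simp only [Category.assoc, pp, pullback.lift_snd, pullback.map]
    rw [e1, e2, hg, Category.assoc _ (ρ g).hom, hp.inv g]
  have h2 : ψ' ≫ pp = ((ψ' ≫ pp) ≫ pullback.fst m m) ≫ pullback.diagonal m := by
    apply pullback.hom_ext
    · simp
    · simp only [Category.assoc, pullback.diagonal_snd, Category.comp_id]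
      simpa only [Category.assoc] using h1.symm
  refine ⟨((ψ' ≫ pp) ≫ pullback.fst m m) pt, ?_⟩
  rw [← Scheme.Hom.comp_apply, ← h2, Scheme.Hom.comp_apply, hψ']

end Groth.Agent.Lib.Helper27QuotPts
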