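import Mathlib.Tactic

/-!
# Abstract rank-one systems (helper27)

Pure group theory behind SGA3 XX 2–3: a group `Γ`, a commutative ring `R`, two "root subgroups"
`P Q : R → Γ` (additive to multiplicative), a "coroot" `H : Rˣ → Γ`, related by the rank-one
commutation rule `P a * Q b = Q (b/(1+ab)) * H (1+ab) * P (a/(1+ab))`.
-/

set_option autoImplicit false

namespace Groth.Agent.Lib.Helper27.RankOne

variable {Γ : Type*} [Group Γ] {R : Type*} [CommRing R]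

/-- An abstract rank-one system. -/
structure Sys (Γ : Type*) [Group Γ] (R : Type*) [CommRing R] where
  P : R → Γ
  Q : R → Γ
  H : Rˣ → Γ
  hP : ∀ a b, P (a + b) = P a * P b
  hQ : ∀ a b, Q (a + b) = Q a * Q b
  hH : ∀ z w, H (z * w) = H z * H w
  hHP : ∀ (z : Rˣ) (a : R), H z * P a * (H z)⁻¹ = P ((z : R) ^ 2 * a)
  hHQ : ∀ (z : Rˣ) (b : R), H z * Q b * (H z)⁻¹ = Q (((z⁻¹ : Rˣ) : R) ^ 2 * b)
  hF : ∀ (a b : R) (z : Rˣ), (z : R) = 1 + a * b →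
    P a * Q b = Q (((z⁻¹ : Rˣ) : R) * b) * H z * P (((z⁻¹ : Rˣ) : R) * a)

namespace Sys

variable (D : Sys Γ R)

lemma P_zero : D.P 0 = 1 := by
  have := D.hP 0 0
  rw [add_zero] at this
  exact left_eq_mul.mp this

lemma Q_zero : D.Q 0 = 1 := by
  have := D.hQ 0 0
  rw [add_zero] at this
  exact left_eq_mul.mp this

lemma P_neg (a : R) : D.P (-a) = (D.P a)⁻¹ := by
  have := D.hP (-a) a
  rw [neg_add_cancel, P_zero] at this
  exact eq_inv_of_mul_eq_one_left this.symm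

lemma Q_neg (a : R) : D.Q (-a) = (D.Q a)⁻¹ := by
  have := D.hQ (-a) a
  rw [neg_add_cancel, Q_zero] at this
  exact eq_inv_of_mul_eq_one_left this.symm

lemma P_mul_P_of_add_eq_zero {a b : R} (h : a + b = 0) : D.P a * D.P b = 1 := by
  rw [← D.hP, h, P_zero]

lemma Q_mul_Q_of_add_eq_zero {a b : R} (h : a + b = 0) : D.Q a * D.Q b = 1 := by
  rw [← D.hQ, h, Q_zero]

lemma H_one : D.H 1 = 1 := by
  have := D.hH 1 1
  rw [mul_one] at this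
  exact left_eq_mul.mp this

lemma H_inv (z : Rˣ) : D.H z⁻¹ = (D.H z)⁻¹ := by
  have := D.hH z⁻¹ z
  rw [inv_mul_cancel, H_one] at this
  exact eq_inv_of_mul_eq_one_left this.symm

/-- `H z * P a = P (z² a) * H z` -/
lemma H_mul_P (z : Rˣ) (a : R) : D.H z * D.P a = D.P ((z : R) ^ 2 * a) * D.H z := by
  rw [← D.hHP z a]; group

lemma H_mul_Q (z : Rˣ) (b : R) :
    D.H z * D.Q b = D.Q (((z⁻¹ : Rˣ) : R) ^ 2 * b) * D.H z := by
  rw [← D.hHQ z b]; group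

/-- the coroot through the root groups (SGA3 XX 2.?): `H z = Q(z⁻¹-1) P(1) Q(z-1) P(-z⁻¹)`. -/
theorem H_eq (z : Rˣ) :
    D.H z = D.Q (((z⁻¹ : Rˣ) : R) - 1) * D.P 1 * D.Q ((z : R) - 1) * D.P (-((z⁻¹ : Rˣ) : R)) := by
  have h1 := D.hF 1 ((z : R) - 1) z (by ring)
  have e1 : ((z⁻¹ : Rˣ) : R) * ((z : R) - 1) = 1 - ((z⁻¹ : Rˣ) : R) := by
    rw [mul_sub, Units.inv_mul, mul_one]
  rw [e1, mul_one] at h1
  calc D.H z = (D.Q (((z⁻¹ : Rˣ) : R) - 1) * D.Q (1 - ((z⁻¹ : Rˣ) : R))) * D.H z *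
        (D.P (((z⁻¹ : Rˣ) : R)) * D.P (-((z⁻¹ : Rˣ) : R))) := by
        rw [Q_mul_Q_of_add_eq_zero D (by ring), P_mul_P_of_add_eq_zero D (by ring)]; group
    _ = D.Q (((z⁻¹ : Rˣ) : R) - 1) * (D.Q (1 - ((z⁻¹ : Rˣ) : R)) * D.H z *
        D.P (((z⁻¹ : Rˣ) : R))) * D.P (-((z⁻¹ : Rˣ) : R)) := by group
    _ = _ := by rw [← h1]; group

/-- the commutation rule for the opposite root. -/
theorem hF_rev (a b : R) (z : Rˣ) (hz : (z : R) = 1 + a * b) :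
    D.Q b * D.P a = D.P (((z⁻¹ : Rˣ) : R) * a) * (D.H z)⁻¹ * D.Q (((z⁻¹ : Rˣ) : R) * b) := by
  have h1 := D.hF (-a) (-b) z (by rw [hz]; ring)
  rw [mul_neg, mul_neg, P_neg, Q_neg, P_neg, Q_neg] at h1
  have h2 := congrArg (fun g => g⁻¹) h1
  simp only [mul_inv_rev, inv_inv] at h2
  rw [h2, mul_assoc]

/-- The Weyl element `w(x) = P x * Q (-x⁻¹) * P x`. -/
def W (x : Rˣ) : Γ := D.P x * D.Q (-((x⁻¹ : Rˣ) : R)) * D.P x

lemma W_inv (x : Rˣ) : (D.W x)⁻¹ = D.P (-(x : R)) * D.Q (((x⁻¹ : Rˣ) : R)) * D.P (-(x : R)) := by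
  unfold W
  rw [P_neg, Q_neg]
  group

/-- `w(z x) = H z * w(x)` -/
theorem W_mul_left (z x : Rˣ) : D.W (z * x) = D.H z * D.W x := by
  -- a = (z-1) x, b = x⁻¹ : 1 + a b = z
  have h1 := D.hF (((z : R) - 1) * x) (((x⁻¹ : Rˣ) : R)) z (by
    rw [mul_assoc, Units.mul_inv, mul_one]; ring)
  have hH := D.H_mul_P z (-(((z⁻¹ : Rˣ) : R) * x))
  have e2 : (z : R) ^ 2 * (-(((z⁻¹ : Rˣ) : R) * x)) = -((z : R) * x) := by
    rw [pow_two, mul_neg, mul_assoc, ← mul_assoc (z : R) (((z⁻¹ : Rˣ) : R)), Units.mul_inv, one_mul]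
  rw [e2] at hH
  have key : D.W (z * x) * (D.W x)⁻¹ = D.H z := by
    rw [W_inv]
    unfold W
    rw [Units.val_mul, mul_inv, Units.val_mul]
    calc D.P ((z : R) * x) * D.Q (-(((z⁻¹ : Rˣ) : R) * ((x⁻¹ : Rˣ) : R))) * D.P ((z : R) * x) *
          (D.P (-(x : R)) * D.Q (((x⁻¹ : Rˣ) : R)) * D.P (-(x : R)))
        = D.P ((z : R) * x) * D.Q (-(((z⁻¹ : Rˣ) : R) * ((x⁻¹ : Rˣ) : R))) *
          ((D.P ((z : R) * x) * D.P (-(x : R))) * D.Q (((x⁻¹ : Rˣ) : R))) * D.P (-(x : R)) := by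
          group
      _ = D.P ((z : R) * x) * D.Q (-(((z⁻¹ : Rˣ) : R) * ((x⁻¹ : Rˣ) : R))) *
          (D.Q (((z⁻¹ : Rˣ) : R) * ((x⁻¹ : Rˣ) : R)) * D.H z *
            D.P (((z⁻¹ : Rˣ) : R) * (((z : R) - 1) * x))) * D.P (-(x : R)) := by
          rw [← D.hP, ← h1]; congr 4; ring
      _ = D.P ((z : R) * x) * (D.Q (-(((z⁻¹ : Rˣ) : R) * ((x⁻¹ : Rˣ) : R))) *
          D.Q (((z⁻¹ : Rˣ) : R) * ((x⁻¹ : Rˣ) : R))) * D.H z *
            (D.P (((z⁻¹ : Rˣ) : R) * (((z : R) - 1) * x)) * D.P (-(x : R))) := by group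
      _ = D.P ((z : R) * x) * (D.H z * D.P (-(((z⁻¹ : Rˣ) : R) * x))) := by
          rw [Q_mul_Q_of_add_eq_zero D (by ring), ← D.hP]
          have e3 : ((z⁻¹ : Rˣ) : R) * (((z : R) - 1) * x) + -(x : R) = -(((z⁻¹ : Rˣ) : R) * x) := by
            have : ((z⁻¹ : Rˣ) : R) * (((z : R) - 1) * x) =
                (((z⁻¹ : Rˣ) : R) * z) * x - ((z⁻¹ : Rˣ) : R) * x := by ring
            rw [this, Units.inv_mul]; ring
          rw [e3]; group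
      _ = D.H z := by
          rw [hH, ← mul_assoc, P_mul_P_of_add_eq_zero D (by ring), one_mul]
  rw [← key]; group

/-- `w(z x) = w(x) * (H z)⁻¹` -/
theorem W_mul_right (z x : Rˣ) : D.W (z * x) = D.W x * (D.H z)⁻¹ := by
  -- a = (z-1) x, b = -(z x)⁻¹ : 1 + a b = z⁻¹
  have h1 := D.hF (((z : R) - 1) * x) (-(((z⁻¹ : Rˣ) : R) * ((x⁻¹ : Rˣ) : R))) z⁻¹ (by
    have : ((z : R) - 1) * x * (-(((z⁻¹ : Rˣ) : R) * ((x⁻¹ : Rˣ) : R))) =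
        -(((z : R) - 1) * ((z⁻¹ : Rˣ) : R) * ((x : R) * ((x⁻¹ : Rˣ) : R))) := by ring
    rw [this, Units.mul_inv, mul_one, sub_mul, Units.mul_inv]; ring)
  rw [inv_inv] at h1
  have hH := D.H_mul_P z⁻¹ ((z : R) ^ 2 * x)
  have e2 : ((z⁻¹ : Rˣ) : R) ^ 2 * ((z : R) ^ 2 * x) = x := by
    rw [← mul_assoc, ← mul_pow, Units.inv_mul, one_pow, one_mul]
  rw [e2] at hH
  have key : (D.W x)⁻¹ * D.W (z * x) = (D.H z)⁻¹ := by
    rw [W_inv]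
    unfold W
    rw [Units.val_mul, mul_inv, Units.val_mul, ← H_inv]
    calc D.P (-(x : R)) * D.Q (((x⁻¹ : Rˣ) : R)) * D.P (-(x : R)) *
          (D.P ((z : R) * x) * D.Q (-(((z⁻¹ : Rˣ) : R) * ((x⁻¹ : Rˣ) : R))) * D.P ((z : R) * x))
        = D.P (-(x : R)) * D.Q (((x⁻¹ : Rˣ) : R)) * ((D.P (-(x : R)) * D.P ((z : R) * x)) *
          D.Q (-(((z⁻¹ : Rˣ) : R) * ((x⁻¹ : Rˣ) : R)))) * D.P ((z : R) * x) := by group
      _ = D.P (-(x : R)) * D.Q (((x⁻¹ : Rˣ) : R)) *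
          (D.Q ((z : R) * (-(((z⁻¹ : Rˣ) : R) * ((x⁻¹ : Rˣ) : R)))) * D.H z⁻¹ *
            D.P ((z : R) * (((z : R) - 1) * x))) * D.P ((z : R) * x) := by
          rw [← D.hP, ← h1]; congr 4; ring
      _ = D.P (-(x : R)) * (D.Q (((x⁻¹ : Rˣ) : R)) *
          D.Q ((z : R) * (-(((z⁻¹ : Rˣ) : R) * ((x⁻¹ : Rˣ) : R))))) * D.H z⁻¹ *
            (D.P ((z : R) * (((z : R) - 1) * x)) * D.P ((z : R) * x)) := by group
      _ = D.P (-(x : R)) * (D.H z⁻¹ * D.P ((z : R) ^ 2 * x)) := by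
          have e4 : ((x⁻¹ : Rˣ) : R) + (z : R) * (-(((z⁻¹ : Rˣ) : R) * ((x⁻¹ : Rˣ) : R))) = 0 := by
            have : (z : R) * (-(((z⁻¹ : Rˣ) : R) * ((x⁻¹ : Rˣ) : R))) =
                -(((z : R) * ((z⁻¹ : Rˣ) : R)) * ((x⁻¹ : Rˣ) : R)) := by ring
            rw [this, Units.mul_inv]; ring
          rw [Q_mul_Q_of_add_eq_zero D e4, ← D.hP]
          have e3 : (z : R) * (((z : R) - 1) * x) + (z : R) * x = (z : R) ^ 2 * x := by ring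
          rw [e3]; group
      _ = D.H z⁻¹ := by
          rw [hH, ← mul_assoc, P_mul_P_of_add_eq_zero D (by ring), one_mul]
  rw [← key]; group

/-- `w(y)² = H(-1)` -/
theorem W_sq (y : Rˣ) : D.W y * D.W y = D.H (-1) := by
  have h1 := D.hF (2 * (y : R)) (-((y⁻¹ : Rˣ) : R)) (-1) (by
    have : 2 * (y : R) * (-((y⁻¹ : Rˣ) : R)) = -(2 * ((y : R) * ((y⁻¹ : Rˣ) : R))) := by ring
    rw [this, Units.mul_inv]; push_cast; ring)
  have hi : (((-1 : Rˣ)⁻¹ : Rˣ) : R) = -1 := by simp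
  rw [hi] at h1
  have hH := D.H_mul_P (-1) (-(y : R))
  have e2 : (((-1 : Rˣ) : Rˣ) : R) ^ 2 * (-(y : R)) = -(y : R) := by push_cast; ring
  rw [e2] at hH
  unfold W
  calc D.P y * D.Q (-((y⁻¹ : Rˣ) : R)) * D.P y * (D.P y * D.Q (-((y⁻¹ : Rˣ) : R)) * D.P y)
      = D.P y * D.Q (-((y⁻¹ : Rˣ) : R)) * ((D.P y * D.P y) * D.Q (-((y⁻¹ : Rˣ) : R))) * D.P y := by
        group
    _ = D.P y * D.Q (-((y⁻¹ : Rˣ) : R)) * (D.Q (-1 * (-((y⁻¹ : Rˣ) : R))) * D.H (-1) *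
          D.P (-1 * (2 * (y : R)))) * D.P y := by
        rw [← D.hP, ← h1]; congr 4; ring
    _ = D.P y * (D.Q (-((y⁻¹ : Rˣ) : R)) * D.Q (-1 * (-((y⁻¹ : Rˣ) : R)))) * D.H (-1) *
          (D.P (-1 * (2 * (y : R))) * D.P y) := by group
    _ = D.P y * (D.H (-1) * D.P (-(y : R))) := by
        rw [Q_mul_Q_of_add_eq_zero D (by ring), ← D.hP]
        have e3 : -1 * (2 * (y : R)) + y = -(y : R) := by ring
        rw [e3]; group
    _ = D.H (-1) := by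
        rw [hH, ← mul_assoc, P_mul_P_of_add_eq_zero D (by ring), one_mul]

/-- `w(x) w(y) = H(-x y⁻¹)` -/
theorem W_mul_W (x y : Rˣ) : D.W x * D.W y = D.H (-(x * y⁻¹)) := by
  have hx : x = (x * y⁻¹) * y := by rw [inv_mul_cancel_right]
  have h1 : D.W x = D.H (x * y⁻¹) * D.W y := by
    conv_lhs => rw [hx]
    exact D.W_mul_left _ _
  rw [h1, mul_assoc, W_sq, ← D.hH]
  congr 1
  rw [mul_neg, mul_one]

/-- conjugating `w(x)` by an element `g` acting on `P`, `Q` through the unit `c`. -/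
theorem W_conj (x c : Rˣ) (g : Γ) (hgP : ∀ a, g * D.P a * g⁻¹ = D.P ((c : R) * a))
    (hgQ : ∀ b, g * D.Q b * g⁻¹ = D.Q (((c⁻¹ : Rˣ) : R) * b)) :
    D.W x * g * (D.W x)⁻¹ = (D.H c)⁻¹ * g := by
  have h1 : g * D.W x * g⁻¹ = D.W (c * x) := by
    unfold W
    calc g * (D.P x * D.Q (-((x⁻¹ : Rˣ) : R)) * D.P x) * g⁻¹
        = (g * D.P x * g⁻¹) * (g * D.Q (-((x⁻¹ : Rˣ) : R)) * g⁻¹) * (g * D.P x * g⁻¹) := by group
      _ = _ := by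
        rw [hgP, hgQ, Units.val_mul, mul_inv, Units.val_mul, mul_neg]
  rw [W_mul_left] at h1
  -- g * W = H c * W * g
  have h2 : g * D.W x = D.H c * D.W x * g := by
    rw [← h1]; group
  have h3 : D.W x * g = (D.H c)⁻¹ * g * D.W x := by
    rw [mul_assoc, h2]; group
  rw [h3]; group

/-- `H z⁻¹ * P a * H z = P (z⁻² a)` -/
lemma H_inv_mul_P_mul_H (z : Rˣ) (a : R) :
    (D.H z)⁻¹ * D.P a * D.H z = D.P (((z⁻¹ : Rˣ) : R) ^ 2 * a) := by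
  have := D.hHP z⁻¹ a
  rw [H_inv, inv_inv] at this
  exact this

/-- conjugating `P y` by `w(x)` when `1 + y/x` is invertible. -/
theorem W_conj_P (x : Rˣ) (y : R) (u : Rˣ) (hu : (u : R) = 1 + y * ((x⁻¹ : Rˣ) : R)) :
    D.W x * D.P y * (D.W x)⁻¹ = D.Q (-(((x⁻¹ : Rˣ) : R) ^ 2 * y)) := by
  have hy : y = ((u : R) - 1) * x := by
    rw [hu, add_sub_cancel_left, mul_assoc, Units.inv_mul, mul_one]
  have h1 := D.hF y (((x⁻¹ : Rˣ) : R)) u hu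
  set β : R := -(((u⁻¹ : Rˣ) : R) * (((x⁻¹ : Rˣ) : R) ^ 2 * y)) with hβ
  have hxβ : ((u⁻¹ : Rˣ) : R) = 1 + (x : R) * β := by
    have e : (x : R) * β = -(((u⁻¹ : Rˣ) : R) * (((x : R) * ((x⁻¹ : Rˣ) : R)) * ((x⁻¹ : Rˣ) : R) * y)) := by
      rw [hβ]; ring
    rw [e, Units.mul_inv, one_mul, hy]
    have e2 : ((x⁻¹ : Rˣ) : R) * (((u : R) - 1) * x) = ((u : R) - 1) * (((x⁻¹ : Rˣ) : R) * x) := by ring
    rw [e2, Units.inv_mul, mul_one, mul_sub, Units.inv_mul]; ring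
  have h2 := D.hF (x : R) β u⁻¹ hxβ
  rw [inv_inv] at h2
  have e3 : (u : R) * β = -(((x⁻¹ : Rˣ) : R) ^ 2 * y) := by
    rw [hβ, mul_neg, Units.mul_inv_cancel_left]
  rw [e3] at h2
  have h3 := D.H_inv_mul_P_mul_H u ((u : R) * x)
  have e4 : ((u⁻¹ : Rˣ) : R) ^ 2 * ((u : R) * x) = ((u⁻¹ : Rˣ) : R) * x := by
    rw [pow_two, mul_assoc, Units.inv_mul_cancel_left]
  rw [e4] at h3
  have e5 : -((x⁻¹ : Rˣ) : R) + ((u⁻¹ : Rˣ) : R) * ((x⁻¹ : Rˣ) : R) = β := by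
    rw [hβ, hy]
    have e : ((x⁻¹ : Rˣ) : R) ^ 2 * (((u : R) - 1) * x) =
        ((u : R) - 1) * ((((x⁻¹ : Rˣ) : R) * x) * ((x⁻¹ : Rˣ) : R)) := by ring
    rw [e, Units.inv_mul, one_mul]
    have e' : ((u⁻¹ : Rˣ) : R) * (((u : R) - 1) * ((x⁻¹ : Rˣ) : R)) =
        (((u⁻¹ : Rˣ) : R) * u) * ((x⁻¹ : Rˣ) : R) - ((u⁻¹ : Rˣ) : R) * ((x⁻¹ : Rˣ) : R) := by ring
    rw [e', Units.inv_mul]; ring
  have e6 : ((u⁻¹ : Rˣ) : R) * y + -(x : R) = -(((u⁻¹ : Rˣ) : R) * x) := by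
    rw [hy]
    have e : ((u⁻¹ : Rˣ) : R) * (((u : R) - 1) * x) =
        (((u⁻¹ : Rˣ) : R) * u) * x - ((u⁻¹ : Rˣ) : R) * x := by ring
    rw [e, Units.inv_mul]; ring
  rw [W_inv]
  unfold W
  calc D.P x * D.Q (-((x⁻¹ : Rˣ) : R)) * D.P x * D.P y *
        (D.P (-(x : R)) * D.Q (((x⁻¹ : Rˣ) : R)) * D.P (-(x : R)))
      = D.P x * D.Q (-((x⁻¹ : Rˣ) : R)) * ((D.P x * D.P y * D.P (-(x : R))) * D.Q (((x⁻¹ : Rˣ) : R))) *
          D.P (-(x : R)) := by group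
    _ = D.P x * D.Q (-((x⁻¹ : Rˣ) : R)) * (D.Q (((u⁻¹ : Rˣ) : R) * ((x⁻¹ : Rˣ) : R)) * D.H u *
          D.P (((u⁻¹ : Rˣ) : R) * y)) * D.P (-(x : R)) := by
        rw [← D.hP, ← D.hP, ← h1]; congr 4; ring
    _ = D.P x * (D.Q (-((x⁻¹ : Rˣ) : R)) * D.Q (((u⁻¹ : Rˣ) : R) * ((x⁻¹ : Rˣ) : R))) * D.H u *
          (D.P (((u⁻¹ : Rˣ) : R) * y) * D.P (-(x : R))) := by group
    _ = (D.P x * D.Q β) * D.H u * D.P (-(((u⁻¹ : Rˣ) : R) * x)) := by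
        rw [← D.hQ, ← D.hP, e5, e6]
    _ = D.Q (-(((x⁻¹ : Rˣ) : R) ^ 2 * y)) * ((D.H u)⁻¹ * D.P ((u : R) * x) * D.H u) *
          D.P (-(((u⁻¹ : Rˣ) : R) * x)) := by
        rw [h2, H_inv]; group
    _ = D.Q (-(((x⁻¹ : Rˣ) : R) ^ 2 * y)) := by
        rw [h3, mul_assoc, P_mul_P_of_add_eq_zero D (by ring), mul_one]

/-- the braid relation `w(x) p₊(x) w(x)⁻¹ = p₋(-x⁻¹)`, when the ring contains `b` with
`b (3 - b) = 1`. -/
theorem braid (x : Rˣ) (b : R) (hb : b * (3 - b) = 1) :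
    D.W x * D.P x * (D.W x)⁻¹ = D.Q (-((x⁻¹ : Rˣ) : R)) := by
  have hb' : (3 - b) * b = 1 := by rw [mul_comm]; exact hb
  let u₁ : Rˣ := ⟨b, 3 - b, hb, hb'⟩
  let u₂ : Rˣ := ⟨3 - b, b, hb', hb⟩
  have h1 := D.W_conj_P x ((b - 1) * x) u₁ (by
    change b = _
    rw [mul_assoc, Units.mul_inv]; ring)
  have h2 := D.W_conj_P x ((2 - b) * x) u₂ (by
    change 3 - b = _
    rw [mul_assoc, Units.mul_inv]; ring)
  have hx : (x : R) = (b - 1) * x + (2 - b) * x := by ring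
  have e : -(((x⁻¹ : Rˣ) : R) ^ 2 * ((b - 1) * x)) + -(((x⁻¹ : Rˣ) : R) ^ 2 * ((2 - b) * x)) =
      -((x⁻¹ : Rˣ) : R) := by
    have : -(((x⁻¹ : Rˣ) : R) ^ 2 * ((b - 1) * x)) + -(((x⁻¹ : Rˣ) : R) ^ 2 * ((2 - b) * x)) =
        -((((x⁻¹ : Rˣ) : R) * x) * ((x⁻¹ : Rˣ) : R)) := by ring
    rw [this, Units.inv_mul, one_mul]
  calc D.W x * D.P x * (D.W x)⁻¹
      = D.W x * D.P ((b - 1) * x + (2 - b) * x) * (D.W x)⁻¹ := by rw [← hx]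
    _ = (D.W x * D.P ((b - 1) * x) * (D.W x)⁻¹) * (D.W x * D.P ((2 - b) * x) * (D.W x)⁻¹) := by
        rw [D.hP]; group
    _ = _ := by rw [h1, h2, ← D.hQ, e]

/-- the braid relation in the form `p q p = q p q`. -/
theorem W_eq_of_braid (x : Rˣ) (h : D.W x * D.P x * (D.W x)⁻¹ = D.Q (-((x⁻¹ : Rˣ) : R))) :
    D.W x = D.Q (-((x⁻¹ : Rˣ) : R)) * D.P x * D.Q (-((x⁻¹ : Rˣ) : R)) := by
  have h1 : D.W x * D.P x = D.Q (-((x⁻¹ : Rˣ) : R)) * D.W x := by rw [← h]; group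
  have h2 : D.W x = D.P x * D.Q (-((x⁻¹ : Rˣ) : R)) * D.P x := rfl
  have h3 : D.W x * D.P x = (D.Q (-((x⁻¹ : Rˣ) : R)) * D.P x * D.Q (-((x⁻¹ : Rˣ) : R))) * D.P x := by
    rw [h1, h2]; group
  exact mul_right_cancel h3

/-- `(w(x) p₊(x))³ = 1` from the braid relation. -/
theorem cube_of_braid (x : Rˣ) (h : D.W x * D.P x * (D.W x)⁻¹ = D.Q (-((x⁻¹ : Rˣ) : R))) :
    (D.W x * D.P x) ^ 3 = 1 := by
  have hc : D.H (-1) * D.P x = D.P x * D.H (-1) := by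
    rw [D.H_mul_P]; congr 2; push_cast; ring
  have hww := D.W_sq x
  have hcc : D.H (-1) * D.H (-1) = 1 := by
    rw [← D.hH]; simp [H_one]
  set w := D.W x with hw
  set p := D.P x with hp
  set q := D.Q (-((x⁻¹ : Rˣ) : R)) with hq
  have hwpq : w = p * q * p := rfl
  have h1 : w * p = q * w := by rw [← h]; group
  have h2 : w * q = p * w := by
    -- w q w⁻¹ = w² p w⁻² = p
    have : w * q * w⁻¹ = p := by
      rw [← h]
      calc w * (w * p * w⁻¹) * w⁻¹ = (w * w) * p * (w * w)⁻¹ := by group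
        _ = p := by rw [hww, hc]; group
    rw [← this]; group
  calc (w * p) ^ 3 = w * (p * w) * (p * w) * p := by rw [pow_three]; simp only [mul_assoc]
    _ = w * (w * q) * (w * q) * p := by rw [h2]
    _ = w * w * (q * w) * q * p := by group
    _ = w * w * (w * p) * q * p := by rw [h1]
    _ = (w * w) * (w * (p * q * p)) := by group
    _ = 1 := by rw [← hwpq, hww, hcc]

/-- product of two elements of the big cell. -/
theorem bigCell_mul (x y x' y' : R) (u c c' : Rˣ) (g g' : Γ) (hu : (u : R) = 1 + x * y')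
    (hgQ : ∀ b, g * D.Q b * g⁻¹ = D.Q (((c⁻¹ : Rˣ) : R) * b))
    (hgP' : ∀ a, g' * D.P a * g'⁻¹ = D.P ((c' : R) * a)) :
    (D.Q y * g * D.P x) * (D.Q y' * g' * D.P x') =
      D.Q (y + ((c⁻¹ : Rˣ) : R) * (((u⁻¹ : Rˣ) : R) * y')) * (g * D.H u * g') *
        D.P (((c'⁻¹ : Rˣ) : R) * (((u⁻¹ : Rˣ) : R) * x) + x') := by
  have h1 := D.hF x y' u hu
  have h2 : g'⁻¹ * D.P (((u⁻¹ : Rˣ) : R) * x) * g' =
      D.P (((c'⁻¹ : Rˣ) : R) * (((u⁻¹ : Rˣ) : R) * x)) := by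
    have := hgP' (((c'⁻¹ : Rˣ) : R) * (((u⁻¹ : Rˣ) : R) * x))
    rw [Units.mul_inv_cancel_left] at this
    rw [← this]; group
  rw [D.hQ, D.hP, ← hgQ, ← h2]
  calc D.Q y * g * D.P x * (D.Q y' * g' * D.P x')
      = D.Q y * g * (D.P x * D.Q y') * g' * D.P x' := by group
    _ = D.Q y * g * (D.Q (((u⁻¹ : Rˣ) : R) * y') * D.H u * D.P (((u⁻¹ : Rˣ) : R) * x)) * g' *
        D.P x' := by rw [h1]
    _ = _ := by group

end Sys

end Groth.Agent.Lib.Helper27.RankOne
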