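import Mathlib.Tactic
import Groth.Prelude.Def_Red2
import Groth.Agent.Lib.Helper27GaGm
import Groth.Agent.Lib.Helper27RankOne

/-!
# From the rank-one hypotheses of the `Red.rankOne_*` statements to an abstract rank-one system
-/

set_option autoImplicit false
universe u
open CategoryTheory MonoidalCategory CartesianMonoidalCategory MonObj GrpObj AlgebraicGeometry CategoryTheory.Limits

namespace Groth.Agent.Lib.Helper27.RankOneBridge

open Groth.Agent.Lib.Helper27.GaGm Groth.Agent.Lib.Helper27.RankOne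

variable {S : Scheme.{u}} {G T : Over S} [GrpObj G] [GrpObj T] (i : T ⟶ G) [IsMonHom i]
    (α : T ⟶ Red.Gm S) [IsMonHom α]
    (pp pm : Red.Ga S ⟶ G) [IsMonHom pp] [IsMonHom pm]
    (hpp : ∀ (X : Over S) (t : X ⟶ T) (x : X ⟶ Red.Ga S), ∃ x' : X ⟶ Red.Ga S,
      x' ≫ pp = (t ≫ i) * (x ≫ pp) * (t ≫ i)⁻¹ ∧ Red.gaFn x' = Red.gmFn (t ≫ α) * Red.gaFn x)
    (hpm : ∀ (X : Over S) (t : X ⟶ T) (y : X ⟶ Red.Ga S), ∃ y' : X ⟶ Red.Ga S,
      y' ≫ pm = (t ≫ i) * (y ≫ pm) * (t ≫ i)⁻¹ ∧ Red.gaFn y' * Red.gmFn (t ≫ α) = Red.gaFn y)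
    (av : Red.Gm S ⟶ T) [IsMonHom av] (h2 : av ≫ α = (𝟙 (Red.Gm S)) ^ 2)
    (hF : ∀ (X : Over S) (x y : X ⟶ Red.Ga S), IsUnit (1 + Red.gaFn x * Red.gaFn y) →
      ∃ (x' y' : X ⟶ Red.Ga S) (z : X ⟶ Red.Gm S), Red.gmFn z = 1 + Red.gaFn x * Red.gaFn y ∧
        Red.gaFn x' * Red.gmFn z = Red.gaFn x ∧ Red.gaFn y' * Red.gmFn z = Red.gaFn y ∧
        (x ≫ pp) * (y ≫ pm) = (y' ≫ pm) * (z ≫ av ≫ i) * (x' ≫ pp))

include hpp in
omit [IsMonHom i] [IsMonHom α] [IsMonHom pp] in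
/-- torus elements act on `p₊` through `α`. -/
lemma conj_pp {X : Over S} (t : X ⟶ T) (a : Γ(X.left, ⊤)) :
    (t ≫ i) * ((gaEquiv X).symm a ≫ pp) * (t ≫ i)⁻¹ =
      (gaEquiv X).symm (Red.gmFn (t ≫ α) * a) ≫ pp := by
  obtain ⟨x', h1, h2⟩ := hpp X t ((gaEquiv X).symm a)
  rw [← h1]
  congr 1
  apply gaFn_injective
  rw [h2]; simp

include hpm in
omit [IsMonHom i] [IsMonHom α] [IsMonHom pm] in
/-- torus elements act on `p₋` through `α⁻¹`. -/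
lemma conj_pm {X : Over S} (t : X ⟶ T) (b : Γ(X.left, ⊤)) :
    (t ≫ i) * ((gaEquiv X).symm b ≫ pm) * (t ≫ i)⁻¹ =
      (gaEquiv X).symm ((((gmUnit (t ≫ α))⁻¹ : Γ(X.left, ⊤)ˣ) : Γ(X.left, ⊤)) * b) ≫ pm := by
  obtain ⟨y', h1, h2⟩ := hpm X t ((gaEquiv X).symm b)
  rw [← h1]
  congr 1
  apply gaFn_injective
  rw [gaFn_gaEquiv_symm] at h2
  rw [gaFn_gaEquiv_symm, ← h2, ← coe_gmUnit, mul_comm (Red.gaFn y'), Units.inv_mul_cancel_left]

include h2 in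
omit [IsMonHom α] [IsMonHom av] in
lemma gmFn_av_α {X : Over S} (z : X ⟶ Red.Gm S) :
    Red.gmFn ((z ≫ av) ≫ α) = Red.gmFn z ^ 2 := by
  rw [Category.assoc, h2, MonObj.comp_pow, Category.comp_id, gmFn_pow]

/-- The abstract rank-one system on `Hom(X, G)`. -/
noncomputable def sys (X : Over S) : Sys (X ⟶ G) Γ(X.left, ⊤) where
  P a := (gaEquiv X).symm a ≫ pp
  Q b := (gaEquiv X).symm b ≫ pm
  H z := (gmEquiv X).symm z ≫ av ≫ i
  hP a b := by rw [gaEquiv_symm_add, MonObj.mul_comp]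
  hQ a b := by rw [gaEquiv_symm_add, MonObj.mul_comp]
  hH z w := by rw [gmEquiv_symm_mul, MonObj.mul_comp]
  hHP z a := by
    have := conj_pp i α pp hpp ((gmEquiv X).symm z ≫ av) a
    rw [gmFn_av_α α av h2, gmFn_gmEquiv_symm, Category.assoc] at this
    exact this
  hHQ z b := by
    have := conj_pm i α pm hpm ((gmEquiv X).symm z ≫ av) b
    rw [Category.assoc] at this
    rw [this]
    congr 3
    rw [← Units.val_pow_eq_pow_val]
    congr 1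
    rw [inv_pow]
    congr 1
    apply Units.ext
    rw [coe_gmUnit, gmFn_av_α α av h2, gmFn_gmEquiv_symm, Units.val_pow_eq_pow_val]
  hF a b z hz := by
    obtain ⟨x', y', z', h1, h3, h4, h5⟩ := hF X ((gaEquiv X).symm a) ((gaEquiv X).symm b)
      (by rw [gaFn_gaEquiv_symm, gaFn_gaEquiv_symm, ← hz]; exact z.isUnit)
    rw [gaFn_gaEquiv_symm, gaFn_gaEquiv_symm, ← hz] at h1
    rw [gaFn_gaEquiv_symm] at h3 h4
    rw [h5]
    have e1 : (gmEquiv X).symm z = z' := gmEquiv_symm_eq z' z h1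
    have e2 : (gaEquiv X).symm (((z⁻¹ : Γ(X.left, ⊤)ˣ) : Γ(X.left, ⊤)) * b) = y' := by
      apply gaEquiv_symm_eq
      rw [← h4, h1, mul_comm (Red.gaFn y'), Units.inv_mul_cancel_left]
    have e3 : (gaEquiv X).symm (((z⁻¹ : Γ(X.left, ⊤)ˣ) : Γ(X.left, ⊤)) * a) = x' := by
      apply gaEquiv_symm_eq
      rw [← h3, h1, mul_comm (Red.gaFn x'), Units.inv_mul_cancel_left]
    rw [e1, e2, e3]

lemma sys_P_gaFn {X : Over S} (x : X ⟶ Red.Ga S) :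
    (sys i α pp pm hpp hpm av h2 hF X).P (Red.gaFn x) = x ≫ pp := by
  change (gaEquiv X).symm _ ≫ pp = _
  rw [gaEquiv_symm_gaFn]

lemma sys_Q_gaFn {X : Over S} (y : X ⟶ Red.Ga S) :
    (sys i α pp pm hpp hpm av h2 hF X).Q (Red.gaFn y) = y ≫ pm := by
  change (gaEquiv X).symm _ ≫ pm = _
  rw [gaEquiv_symm_gaFn]

lemma sys_H_gmUnit {X : Over S} (z : X ⟶ Red.Gm S) :
    (sys i α pp pm hpp hpm av h2 hF X).H (gmUnit z) = z ≫ av ≫ i := by
  change (gmEquiv X).symm _ ≫ av ≫ i = _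
  rw [gmEquiv_symm_gmUnit]

/-- torus elements act on `P` through `α`. -/
lemma sys_conj_P {X : Over S} (t : X ⟶ T) (a : Γ(X.left, ⊤)) :
    (t ≫ i) * (sys i α pp pm hpp hpm av h2 hF X).P a * (t ≫ i)⁻¹ =
      (sys i α pp pm hpp hpm av h2 hF X).P (((gmUnit (t ≫ α) : Γ(X.left, ⊤)ˣ) : Γ(X.left, ⊤)) * a) :=
  conj_pp i α pp hpp t a

/-- torus elements act on `Q` through `α⁻¹`. -/
lemma sys_conj_Q {X : Over S} (t : X ⟶ T) (b : Γ(X.left, ⊤)) :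
    (t ≫ i) * (sys i α pp pm hpp hpm av h2 hF X).Q b * (t ≫ i)⁻¹ =
      (sys i α pp pm hpp hpm av h2 hF X).Q
        ((((gmUnit (t ≫ α))⁻¹ : Γ(X.left, ⊤)ˣ) : Γ(X.left, ⊤)) * b) :=
  conj_pm i α pm hpm t b

/-- the unit `a` with inverse `-b`, given `b * a = -1`. -/
def unitOf {R : Type*} [CommRing R] (a b : R) (h : b * a = -1) : Rˣ :=
  ⟨a, -b, by rw [mul_neg, mul_comm, h, neg_neg], by rw [neg_mul, h, neg_neg]⟩

@[simp] lemma coe_unitOf {R : Type*} [CommRing R] (a b : R) (h : b * a = -1) :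
    ((unitOf a b h : Rˣ) : R) = a := rfl

@[simp] lemma coe_inv_unitOf {R : Type*} [CommRing R] (a b : R) (h : b * a = -1) :
    (((unitOf a b h)⁻¹ : Rˣ) : R) = -b := rfl

/-- `w(x) = p₊(x) p₋(-x⁻¹) p₊(x)` in terms of points. -/
lemma sys_W {X : Over S} (x x' : X ⟶ Red.Ga S) (hx : Red.gaFn x' * Red.gaFn x = -1) :
    (sys i α pp pm hpp hpm av h2 hF X).W (unitOf (Red.gaFn x) (Red.gaFn x') hx) =
      (x ≫ pp) * (x' ≫ pm) * (x ≫ pp) := by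
  unfold Sys.W
  rw [coe_unitOf, coe_inv_unitOf, neg_neg, sys_P_gaFn, sys_Q_gaFn]

end Groth.Agent.Lib.Helper27.RankOneBridge
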