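import Mathlib.Tactic
import Mathlib.RingTheory.AdjoinRoot
import Mathlib.AlgebraicGeometry.Morphisms.Flat
import Groth.Prelude.Def_Red2

/-!
# A finite free cover `X' → X` carrying a function `b` with `b (3 - b) = 1` (helper27)

For every `X : Over S` we construct `Xext X : Over S` with an epimorphism `πext X : Xext X ⟶ X`
(flat and surjective: base change of `Spec ℤ[b]/(b² - 3b + 1) → Spec ℤ`) and a global function
`bext X` on `Xext X` with `bext X * (3 - bext X) = 1`.
-/

set_option autoImplicit false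
universe u

namespace Groth.Agent.Lib.Helper27.RankOneExt

open Polynomial

/-- the polynomial `X² - 3X + 1` over `ULift ℤ`. -/
noncomputable def fpoly : (ULift.{u} ℤ)[X] := X ^ 2 - C 3 * X + 1

lemma fpoly_natDegree : (fpoly.{u}).natDegree = 2 := by
  unfold fpoly
  compute_degree!

lemma fpoly_monic : (fpoly.{u}).Monic := by
  unfold fpoly
  monicity!

/-- `ℤ[b]/(b² - 3b + 1)` -/
abbrev A : Type u := AdjoinRoot fpoly.{u}

lemma root_mul : (AdjoinRoot.root fpoly.{u}) * (3 - AdjoinRoot.root fpoly.{u}) = 1 := by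
  have h : eval₂ (AdjoinRoot.of fpoly.{u}) (AdjoinRoot.root fpoly.{u})
      (X ^ 2 - C 3 * X + 1 : (ULift.{u} ℤ)[X]) = 0 := AdjoinRoot.eval₂_root fpoly.{u}
  simp only [eval₂_add, eval₂_sub, eval₂_pow, eval₂_X, eval₂_mul, eval₂_C, eval₂_one] at h
  have h3 : (AdjoinRoot.of fpoly.{u}) 3 = 3 := map_ofNat _ 3
  rw [h3] at h
  linear_combination -h

noncomputable instance : Module.Free (ULift.{u} ℤ) A.{u} :=
  Module.Free.of_basis (AdjoinRoot.powerBasis' fpoly_monic).basis

instance : Nontrivial A.{u} := by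
  refine ⟨⟨0, 1, fun h => ?_⟩⟩
  have h1 : AdjoinRoot.mk fpoly.{u} 1 = 0 := by rw [map_one]; exact h.symm
  rw [AdjoinRoot.mk_eq_zero] at h1
  have h2 := fpoly_monic.eq_one_of_isUnit (isUnit_of_dvd_one h1)
  have h3 := fpoly_natDegree.{u}
  rw [h2] at h3
  simp at h3

lemma faithfullyFlat : (algebraMap (ULift.{u} ℤ) A.{u}).FaithfullyFlat := by
  have h : Module.FaithfullyFlat (ULift.{u} ℤ) A.{u} := inferInstance
  exact RingHom.faithfullyFlat_algebraMap_iff.mpr h

section Scheme

open CategoryTheory AlgebraicGeometry CategoryTheory.Limits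

variable {S : Scheme.{u}}

/-- `Spec A → Spec ℤ`. -/
noncomputable def specA : Spec (CommRingCat.of A.{u}) ⟶ Spec (CommRingCat.of (ULift.{u} ℤ)) :=
  Spec.map (CommRingCat.ofHom (algebraMap (ULift.{u} ℤ) A.{u}))

instance : Flat specA.{u} :=
  ((flat_and_surjective_SpecMap_iff (CommRingCat.ofHom (algebraMap (ULift.{u} ℤ) A.{u}))).mpr
    faithfullyFlat).1

instance : Surjective specA.{u} :=
  ((flat_and_surjective_SpecMap_iff (CommRingCat.ofHom (algebraMap (ULift.{u} ℤ) A.{u}))).mpr
    faithfullyFlat).2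

/-- the cover `X' = X ×_ℤ Spec A` of `X`. -/
noncomputable def Xext (X : Over S) : Over S :=
  Over.mk (pullback.fst (specULiftZIsTerminal.from X.left) specA.{u} ≫ X.hom)

/-- the projection `X' ⟶ X`. -/
noncomputable def πext (X : Over S) : Xext X ⟶ X :=
  Over.homMk (pullback.fst (specULiftZIsTerminal.from X.left) specA.{u}) rfl

instance (X : Over S) : Epi (πext X) := by
  have h1 : Epi (pullback.fst (specULiftZIsTerminal.from X.left) specA.{u}) :=
    Flat.epi_of_flat_of_surjective _
  have h2 : Epi (πext X).left := h1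
  exact Over.epi_of_epi_left _

/-- the function `b` on `X'`. -/
noncomputable def bext (X : Over S) : Γ((Xext X).left, ⊤) :=
  (pullback.snd (specULiftZIsTerminal.from X.left) specA.{u}).appTop
    ((Scheme.ΓSpecIso (CommRingCat.of A.{u})).inv (AdjoinRoot.root fpoly.{u}))

lemma bext_mul (X : Over S) : bext X * (3 - bext X) = 1 := by
  unfold bext
  have h := congrArg (fun a => (pullback.snd (specULiftZIsTerminal.from X.left) specA.{u}).appTop
    ((Scheme.ΓSpecIso (CommRingCat.of A.{u})).inv a)) root_mul.{u}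
  simp only [map_mul, map_sub, map_one, map_ofNat] at h
  exact h

end Scheme

end Groth.Agent.Lib.Helper27.RankOneExt
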