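import Groth.Agent.Lib.Helper23SecTw9
import Groth.Prelude.Def_LinSer

/-!
# Rational points impose at most one condition each (helper27)
-/

set_option autoImplicit false
universe u

open CategoryTheory CategoryTheory.Limits AlgebraicGeometry TopologicalSpace Opposite
open Groth.Agent.Lib.Helper23.SecTw Groth.Agent.Lib.Helper6

namespace Groth.Agent.Lib.Helper27RatPts

variable (k : Type u) [Field k] {X : Scheme.{u}}

theorem top_le_preimage (p : Spec (CommRingCat.of k) ⟶ X) (W : X.Opens)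
    (h : p (IsLocalRing.closedPoint k) ∈ W) :
    (⊤ : (Spec (CommRingCat.of k)).Opens) ≤ p ⁻¹ᵁ W := by
  intro y _
  have hy : y = IsLocalRing.closedPoint k :=
    (Subsingleton.elim (α := PrimeSpectrum k) y (IsLocalRing.closedPoint k))
  rw [hy]
  exact h

/-- evaluation of functions at a `k`-point. -/
noncomputable def ev (p : Spec (CommRingCat.of k) ⟶ X) (W : X.Opens)
    (h : p (IsLocalRing.closedPoint k) ∈ W) : Γ(X, W) →+* k :=
  (Scheme.ΓSpecIso (CommRingCat.of k)).hom.hom.comp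
    (p.appLE W ⊤ (top_le_preimage k p W h)).hom

theorem ev_ne_zero_of_mem_basicOpen (p : Spec (CommRingCat.of k) ⟶ X) (W : X.Opens)
    (h : p (IsLocalRing.closedPoint k) ∈ W) (b : Γ(X, W))
    (hb : p (IsLocalRing.closedPoint k) ∈ X.basicOpen b) : ev k p W h b ≠ 0 := by
  intro h0
  have h1 : p.appLE W ⊤ (top_le_preimage k p W h) b = 0 := by
    apply (ConcreteCategory.bijective_of_isIso (Scheme.ΓSpecIso (CommRingCat.of k)).hom).1
    rw [map_zero]
    exact h0
  have h2 := Scheme.basicOpen_appLE p ⊤ W (top_le_preimage k p W h) b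
  rw [h1, Scheme.basicOpen_zero] at h2
  have h3 : IsLocalRing.closedPoint k ∈
      (⊤ : (Spec (CommRingCat.of k)).Opens) ⊓ p ⁻¹ᵁ X.basicOpen b := ⟨trivial, hb⟩
  rw [← h2] at h3
  exact h3

theorem ev_toGlobal [X.Over (Spec (CommRingCat.of k))] (p : Spec (CommRingCat.of k) ⟶ X)
    (hp : p ≫ (X ↘ Spec (CommRingCat.of k)) = 𝟙 _) (W : X.Opens)
    (h : p (IsLocalRing.closedPoint k) ∈ W) (c : k) :
    ev k p W h (resf le_top
      (show Γ(X, ⊤) from Coh.toGlobal (X ↘ Spec (CommRingCat.of k)) c)) = c := by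
  unfold ev Coh.toGlobal
  simp only [RingHom.comp_apply]
  set a : Γ(X, ⊤) := (X ↘ Spec (CommRingCat.of k)).appTop.hom
    ((Scheme.ΓSpecIso (CommRingCat.of k)).inv.hom c) with ha
  have e1 := Scheme.Hom.map_appLE p (top_le_preimage k p W h) (homOfLE (le_top : W ≤ ⊤)).op
  have e1' : (p.appLE W ⊤ (top_le_preimage k p W h)).hom (resf le_top a) =
      (p.appLE ⊤ ⊤ (top_le_preimage k p ⊤ trivial)).hom a :=
    congrArg (fun φ => φ.hom a) e1
  have e2 : p.appLE ⊤ ⊤ (top_le_preimage k p ⊤ trivial) = p.appTop := by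
    have := Scheme.Hom.appLE_eq_app (f := p) (U := ⊤)
    exact this
  have e3 : p.appTop.hom a = (Scheme.ΓSpecIso (CommRingCat.of k)).inv.hom c := by
    have e4 := congrArg (fun q => q.appTop.hom ((Scheme.ΓSpecIso (CommRingCat.of k)).inv.hom c)) hp
    rw [ha]
    simp only [Scheme.Hom.comp_appTop, CommRingCat.hom_comp, RingHom.comp_apply,
      Scheme.Hom.id_appTop, CommRingCat.hom_id, RingHom.id_apply] at e4
    exact e4
  have h1 : (p.appLE W ⊤ (top_le_preimage k p W h)).hom (resf le_top a) =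
      (Scheme.ΓSpecIso (CommRingCat.of k)).inv.hom c := by
    rw [e1', e2, e3]
  erw [h1]
  exact congrArg (fun q => q.hom c) (Scheme.ΓSpecIso (CommRingCat.of k)).inv_hom_id

section Main

variable {M : X.Modules} {W : X.Opens} {a : Γ(M, W)}

theorem coef_zero (hgen : IsGen M W a) {A : X.Opens} (hA : A ≤ W) :
    coef hgen hA (0 : Γ(M, A)) = 0 :=
  (coef_unique hgen hA _ _ (by rw [zero_smul])).symm

theorem coef_sum (hgen : IsGen M W a) {A : X.Opens} (hA : A ≤ W) {ι : Type*} (s : Finset ι)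
    (m : ι → Γ(M, A)) :
    coef hgen hA (∑ j ∈ s, m j) = ∑ j ∈ s, coef hgen hA (m j) := by
  classical
  induction s using Finset.induction_on with
  | empty => simp [coef_zero]
  | insert j s hj ih => rw [Finset.sum_insert hj, Finset.sum_insert hj, coef_add, ih]

theorem res_sum (F : X.Modules) {U V : X.Opens} (h : V ≤ U) {ι : Type*} (s : Finset ι)
    (m : ι → Γ(F, U)) : res F h (∑ j ∈ s, m j) = ∑ j ∈ s, res F h (m j) :=
  map_sum (F.presheaf.map (homOfLE h).op).hom m s

theorem exists_section [X.Over (Spec (CommRingCat.of k))]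
    (L : X.Modules) (hL : PicF.IsInvertible L)
    (n : ℕ) (p : Fin n → (Spec (CommRingCat.of k) ⟶ X))
    (hp : ∀ i, p i ≫ (X ↘ Spec (CommRingCat.of k)) = 𝟙 _)
    (t : Fin (n + 1) → (Coh.structureModule X ⟶ L))
    (ht : LinSer.LinIndep k X L (fun j => (L.unitHomEquiv (t j)).val (op ⊤))) :
    ∃ s : Coh.structureModule X ⟶ L, s ≠ 0 ∧
      ∀ i, (p i) (IsLocalRing.closedPoint k) ∉ CohB1.genLocus L s := by
  classical
  choose W e hxW he using fun i => exists_gen L hL ((p i) (IsLocalRing.closedPoint k))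
  let Mx : Matrix (Fin n) (Fin (n + 1)) k := fun i j =>
    ev k (p i) (W i) (hxW i) (coef (he i) le_rfl (sv (t j) (W i)))
  obtain ⟨c, hc0, hc⟩ : ∃ c : Fin (n + 1) → k, c ≠ 0 ∧ Mx.mulVec c = 0 := by
    have h1 := LinearMap.ker_ne_bot_of_finrank_lt (f := Matrix.mulVecLin Mx) (by simp)
    obtain ⟨c, hc, hc0⟩ := Submodule.exists_mem_ne_zero_of_ne_bot h1
    exact ⟨c, hc0, by simpa using hc⟩
  let σ : Γ(L, ⊤) := ∑ j, (show Γ(X, ⊤) from Coh.toGlobal (X ↘ Spec (CommRingCat.of k)) (c j)) •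
    sv (t j) ⊤
  refine ⟨secHom L σ, ?_, ?_⟩
  · intro h0
    apply hc0
    apply ht
    have h1 : sv (secHom L σ) ⊤ = σ := by rw [sv_secHom]; exact res_self L σ
    rw [h0, sv_zero] at h1
    exact h1.symm
  · intro i hi
    have h1 : (p i) (IsLocalRing.closedPoint k) ∈ CohB1.genLocus L (secHom L σ) ⊓ W i :=
      ⟨hi, hxW i⟩
    rw [genLocus_inf_eq_coef (secHom L σ) (he i)] at h1
    apply ev_ne_zero_of_mem_basicOpen k (p i) (W i) (hxW i) _ h1
    have h2 : sv (secHom L σ) (W i) = ∑ j, (resf (le_top : W i ≤ ⊤)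
        (show Γ(X, ⊤) from Coh.toGlobal (X ↘ Spec (CommRingCat.of k)) (c j)) : Γ(X, W i)) •
          sv (t j) (W i) := by
      rw [sv_secHom, res_sum]
      refine Finset.sum_congr rfl fun j _ => ?_
      rw [res_smul, res_sv]
    rw [h2, coef_sum, map_sum]
    have h3 := congrFun hc i
    simp only [Matrix.mulVec, dotProduct, Pi.zero_apply] at h3
    rw [← h3]
    refine Finset.sum_congr rfl fun j _ => ?_
    rw [coef_smul, map_mul, ev_toGlobal k (p i) (hp i) (W i) (hxW i) (c j), mul_comm]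

end Main

end Groth.Agent.Lib.Helper27RatPts
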