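import Groth.Agent.Lib.Helper27RegKosz

/-!
# `K₀` of the regular finite locally free modules on `P^n_Y` (helper27)

With `R_k` the finite locally free `F` with `F(k)` regular (`R_0 ⊆ R_1 ⊆ ⋯`, union = all finite locally free
modules when `Y` is Noetherian):

* `inc k : K₀(R_k) → K₀(R_{k+1})`, `ret k : K₀(R_{k+1}) → K₀(R_k)`, `[F] ↦ Σ_{j ≥ 1} (-1)^{j+1} C(n+1,j) [F(j)]`,
  mutually inverse by the Koszul relation (`ret_inc`, `inc_ret`).
* `toVb k : K₀(R_k) → Kvb`, `rho : Kvb → K₀(R_0)` its inverse for `k = 0`.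
* `bijective_toVb_zero` (Quillen): `K₀(regular finite locally free) → Kvb (P^n_Y)` is bijective.
-/

set_option autoImplicit false
universe u

open CategoryTheory CategoryTheory.Limits AlgebraicGeometry TopologicalSpace Opposite

namespace Groth.Agent.Lib.Helper27RegK0

open Groth.Agent.Helper18KRR Groth.Agent.Lib.Helper27RegClass Groth.Agent.Lib.Helper27RegKosz
  Groth.Agent.Lib.Helper27K0Gen Groth.Agent.Lib.Helper17.K0a KZero

variable (n : ℕ) (Y : Scheme.{u})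

/-- the Koszul coefficients. -/
def cc (j : ℕ) : ℤ := (-1 : ℤ) ^ j * ((n + 1).choose j : ℤ)

/-- `K₀(R_k) → K₀(R_{k+1})`. -/
noncomputable def inc (k : ℕ) : K0sub (Rk n Y k) →+ K0sub (Rk n Y (k + 1)) :=
  SGA6.mapSub (𝟭 _) (Rk n Y k) (Rk n Y (k + 1)) (fun _ h => rk_add n Y 1 h)

theorem inc_clSub (k : ℕ) (F : (KRR.PY n Y).Modules) (hF : Rk n Y k F) :
    inc n Y k (clSub (Rk n Y k) F) = clSub (Rk n Y (k + 1)) F :=
  mapSub_clSub (Rk n Y k) (𝟭 _) (Rk n Y (k + 1)) _ F hF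

/-- `K₀(R_k) → Kvb`. -/
noncomputable def toVb (k : ℕ) : K0sub (Rk n Y k) →+ SGA6.Kvb (KRR.PY n Y) :=
  SGA6.mapSub (𝟭 _) (Rk n Y k) (KRR.vbP (KRR.PY n Y)) (fun _ h => h.1)

theorem toVb_clSub (k : ℕ) (F : (KRR.PY n Y).Modules) (hF : Rk n Y k F) :
    toVb n Y k (clSub (Rk n Y k) F) = KRR.cl (KRR.PY n Y) F :=
  mapSub_clSub (Rk n Y k) (𝟭 _) (KRR.vbP (KRR.PY n Y)) _ F hF

theorem toVb_inc (k : ℕ) (x : K0sub (Rk n Y k)) : toVb n Y (k + 1) (inc n Y k x) = toVb n Y k x := by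
  have h : (toVb n Y (k + 1)).comp (inc n Y k) = toVb n Y k :=
    hom_ext_clSub (Rk n Y k) _ _ (fun F hF => by
      rw [AddMonoidHom.comp_apply, inc_clSub n Y k F hF, toVb_clSub n Y (k + 1) F (rk_add n Y 1 hF),
        toVb_clSub n Y k F hF])
  exact DFunLike.congr_fun h x

/-- the value of `ret` on a module. -/
noncomputable def retVal (k : ℕ) (F : (KRR.PY n Y).Modules) : K0sub (Rk n Y k) :=
  -(Finset.range (n + 1)).sum (fun j =>
    cc n (j + 1) • clSub (Rk n Y k) (KRR.twF n Y ((j + 1 : ℕ) : ℤ) F))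

/-- `K₀(R_{k+1}) → K₀(R_k)`. -/
noncomputable def ret (k : ℕ) : K0sub (Rk n Y (k + 1)) →+ K0sub (Rk n Y k) :=
  liftK (Rk n Y (k + 1)) (retVal n Y k) (by
    intro S hS h₁ h₂ h₃
    unfold retVal
    rw [← neg_add, ← Finset.sum_add_distrib]
    refine congrArg Neg.neg (Finset.sum_congr rfl (fun j _ => ?_))
    rw [← smul_add]
    refine congrArg (fun z => cc n (j + 1) • z) ?_
    exact clSub_shortExact (Rk n Y k) _ (shortExact_twF n Y ((j + 1 : ℕ) : ℤ) S hS)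
      (rk_twF_succ n Y j h₁) (rk_twF_succ n Y j h₂) (rk_twF_succ n Y j h₃))

theorem ret_clSub (k : ℕ) (F : (KRR.PY n Y).Modules) (hF : Rk n Y (k + 1) F) :
    ret n Y k (clSub (Rk n Y (k + 1)) F) = retVal n Y k F :=
  liftK_clSub (Rk n Y (k + 1)) _ _ F hF

/-- the Koszul relation, solved for `[F]`. -/
theorem clSub_eq_retVal (k : ℕ) (F : (KRR.PY n Y).Modules) (hF : Rk n Y k F) :
    clSub (Rk n Y k) F = retVal n Y k F := by
  have h := koszul_relation_rk F hF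
  rw [Finset.sum_range_succ'] at h
  obtain ⟨e⟩ := nonempty_twF_zero_iso n Y F
  have h0 : clSub (Rk n Y k) (KRR.twF n Y ((0 : ℕ) : ℤ) F) = clSub (Rk n Y k) F :=
    clSub_of_iso (Rk n Y k) e (rk_twF n Y 0 hF)
  rw [h0, pow_zero, Nat.choose_zero_right, Nat.cast_one, one_mul, one_smul] at h
  exact eq_neg_of_add_eq_zero_right h

theorem ret_inc (k : ℕ) (x : K0sub (Rk n Y k)) : ret n Y k (inc n Y k x) = x := by
  have h : (ret n Y k).comp (inc n Y k) = AddMonoidHom.id _ :=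
    hom_ext_clSub (Rk n Y k) _ _ (fun F hF => by
      rw [AddMonoidHom.comp_apply, inc_clSub n Y k F hF, ret_clSub n Y k F (rk_add n Y 1 hF),
        AddMonoidHom.id_apply, clSub_eq_retVal n Y k F hF])
  exact DFunLike.congr_fun h x

theorem inc_ret (k : ℕ) (y : K0sub (Rk n Y (k + 1))) : inc n Y k (ret n Y k y) = y := by
  have h : (inc n Y k).comp (ret n Y k) = AddMonoidHom.id _ :=
    hom_ext_clSub (Rk n Y (k + 1)) _ _ (fun F hF => by
      rw [AddMonoidHom.comp_apply, ret_clSub n Y k F hF, AddMonoidHom.id_apply,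
        clSub_eq_retVal n Y (k + 1) F hF]
      unfold retVal
      rw [map_neg, map_sum]
      refine congrArg Neg.neg (Finset.sum_congr rfl (fun j _ => ?_))
      rw [map_zsmul, inc_clSub n Y k _ (rk_twF_succ n Y j hF)])
  exact DFunLike.congr_fun h y

/-- `K₀(R_k) → K₀(R_0)`. -/
noncomputable def Tk : (k : ℕ) → (K0sub (Rk n Y k) →+ K0sub (Rk n Y 0))
  | 0 => AddMonoidHom.id _
  | (k + 1) => (Tk k).comp (ret n Y k)

theorem Tk_succ_inc (k : ℕ) (x : K0sub (Rk n Y k)) : Tk n Y (k + 1) (inc n Y k x) = Tk n Y k x := by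
  change Tk n Y k (ret n Y k (inc n Y k x)) = _
  rw [ret_inc]

theorem toVb_Tk : ∀ (k : ℕ) (x : K0sub (Rk n Y k)), toVb n Y 0 (Tk n Y k x) = toVb n Y k x := by
  intro k
  induction k with
  | zero => intro x; rfl
  | succ k ih =>
    intro x
    change toVb n Y 0 (Tk n Y k (ret n Y k x)) = _
    rw [ih, ← toVb_inc, inc_ret]

theorem Tk_clSub_add (k : ℕ) (F : (KRR.PY n Y).Modules) (hF : Rk n Y k F) :
    ∀ d : ℕ, Tk n Y (k + d) (clSub (Rk n Y (k + d)) F) = Tk n Y k (clSub (Rk n Y k) F) := by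
  intro d
  induction d with
  | zero => rfl
  | succ d ih =>
    rw [← ih]
    change Tk n Y (k + d + 1) (clSub (Rk n Y (k + d + 1)) F) = _
    rw [← inc_clSub n Y (k + d) F (rk_add n Y d hF)]
    exact Tk_succ_inc n Y (k + d) _

theorem Tk_clSub_le {k k' : ℕ} (hk : k ≤ k') (F : (KRR.PY n Y).Modules) (hF : Rk n Y k F) :
    Tk n Y k' (clSub (Rk n Y k') F) = Tk n Y k (clSub (Rk n Y k) F) := by
  obtain ⟨d, rfl⟩ := Nat.exists_eq_add_of_le hk
  exact Tk_clSub_add n Y k F hF d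

theorem Tk_clSub_eq {k k' : ℕ} (F : (KRR.PY n Y).Modules) (hk : Rk n Y k F) (hk' : Rk n Y k' F) :
    Tk n Y k (clSub (Rk n Y k) F) = Tk n Y k' (clSub (Rk n Y k') F) :=
  (Tk_clSub_le n Y (le_max_left k k') F hk).symm.trans (Tk_clSub_le n Y (le_max_right k k') F hk')

variable [IsNoetherian Y]

open Classical in
/-- the value of `rho` on a module. -/
noncomputable def rhoVal (F : (KRR.PY n Y).Modules) : K0sub (Rk n Y 0) :=
  if h : FlatMod.IsFinLocFree F then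
    Tk n Y (Classical.choose (exists_rk n Y F h))
      (clSub (Rk n Y (Classical.choose (exists_rk n Y F h))) F)
  else 0

theorem rhoVal_eq (F : (KRR.PY n Y).Modules) (k : ℕ) (hk : Rk n Y k F) :
    rhoVal n Y F = Tk n Y k (clSub (Rk n Y k) F) := by
  unfold rhoVal
  rw [dif_pos hk.1]
  exact Tk_clSub_eq n Y F (Classical.choose_spec (exists_rk n Y F hk.1)) hk

/-- `Kvb → K₀(R_0)`. -/
noncomputable def rho : SGA6.Kvb (KRR.PY n Y) →+ K0sub (Rk n Y 0) :=
  liftK (KRR.vbP (KRR.PY n Y)) (rhoVal n Y) (by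
    intro S hS h₁ h₂ h₃
    obtain ⟨k₁, hk₁⟩ := exists_rk n Y S.X₁ h₁
    obtain ⟨k₂, hk₂⟩ := exists_rk n Y S.X₂ h₂
    obtain ⟨k₃, hk₃⟩ := exists_rk n Y S.X₃ h₃
    have m₁ : Rk n Y (k₁ + k₂ + k₃) S.X₁ := rk_le n Y (by omega) hk₁
    have m₂ : Rk n Y (k₁ + k₂ + k₃) S.X₂ := rk_le n Y (by omega) hk₂
    have m₃ : Rk n Y (k₁ + k₂ + k₃) S.X₃ := rk_le n Y (by omega) hk₃
    rw [rhoVal_eq n Y _ _ m₁, rhoVal_eq n Y _ _ m₂, rhoVal_eq n Y _ _ m₃, ← map_add]
    exact congrArg _ (clSub_shortExact (Rk n Y (k₁ + k₂ + k₃)) S hS m₁ m₂ m₃))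

theorem rho_cl (F : (KRR.PY n Y).Modules) (hF : FlatMod.IsFinLocFree F) :
    rho n Y (KRR.cl (KRR.PY n Y) F) = rhoVal n Y F :=
  liftK_clSub (KRR.vbP (KRR.PY n Y)) _ _ F hF

theorem rho_toVb (x : K0sub (Rk n Y 0)) : rho n Y (toVb n Y 0 x) = x := by
  have h : (rho n Y).comp (toVb n Y 0) = AddMonoidHom.id _ :=
    hom_ext_clSub (Rk n Y 0) _ _ (fun F hF => by
      rw [AddMonoidHom.comp_apply, toVb_clSub n Y 0 F hF, rho_cl n Y F hF.1,
        rhoVal_eq n Y F 0 hF]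
      rfl)
  exact DFunLike.congr_fun h x

theorem toVb_rho (y : SGA6.Kvb (KRR.PY n Y)) : toVb n Y 0 (rho n Y y) = y := by
  have h : (toVb n Y 0).comp (rho n Y) = AddMonoidHom.id _ :=
    hom_ext_clSub (KRR.vbP (KRR.PY n Y)) _ _ (fun F hF => by
      obtain ⟨k, hk⟩ := exists_rk n Y F hF
      have h1 : rho n Y (clSub (KRR.vbP (KRR.PY n Y)) F) = rhoVal n Y F := rho_cl n Y F hF
      rw [AddMonoidHom.comp_apply, h1, rhoVal_eq n Y F k hk, toVb_Tk, toVb_clSub n Y k F hk]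
      rfl)
  exact DFunLike.congr_fun h y

/-- **Quillen**: `K₀` of the regular finite locally free modules on `P^n_Y` is `Kvb (P^n_Y)`. -/
theorem bijective_toVb_zero : Function.Bijective (toVb n Y 0) :=
  ⟨Function.LeftInverse.injective (rho_toVb n Y), Function.RightInverse.surjective (toVb_rho n Y)⟩

end Groth.Agent.Lib.Helper27RegK0
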