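import Groth.Agent.Lib.Helper27RegClass
import Groth.Agent.Lib.Helper17FFaith6

/-!
# The Koszul relation in `K₀` of the class `R_k` on `P^n_Y` (helper27)

`koszul_relation_rk` : for `F ∈ R_k` (finite locally free with `F(k)` regular),
`Σ_i (-1)^i C(n+1,i) [F(i)] = 0` in `K₀(R_k)`: the Koszul complex of `P^n_ℤ` is pulled back to `P^n_Y` and
tensored with `F`; its cycles lie in `R_k` since `R_k` is stable under cokernels of monomorphisms.
-/

set_option autoImplicit false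
universe u

open CategoryTheory CategoryTheory.Limits AlgebraicGeometry TopologicalSpace Opposite

namespace Groth.Agent.Lib.Helper27RegKosz

open Groth.Agent.Helper18KRR Groth.Agent.Lib.Helper21.ModTensor5
  Groth.Agent.Lib.Helper27PnHom Groth.Agent.Lib.Helper27KoszPn Groth.Agent.Lib.Helper27KoszCx
  Groth.Agent.Lib.Helper27KoszReg Groth.Agent.Lib.Helper27ResChase
  Groth.Agent.Lib.Helper27KClass Groth.Agent.Lib.Helper27KoszVb
  Groth.Agent.Lib.Helper27KoszPush Groth.Agent.Lib.Helper27RegClass Groth.Agent.Lib.Helper27K0Gen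
  Groth.Agent.Lib.Helper17.K0a KZero

variable (n : ℕ) (Y : Scheme.{u})

local notation "𝒢" => CohB1.polyGrading n RZ

/-- `F ⊗ -`, for `F` on `P^n_Y`. -/
noncomputable abbrev tF (F : (KRR.PY n Y).Modules) : (KRR.PY n Y).Modules ⥤ (KRR.PY n Y).Modules :=
  DCoh.tensorBi.obj F

theorem additive_tF (F : (KRR.PY n Y).Modules) : (tF n Y F).Additive := by
  haveI := Groth.Agent.Lib.Helper1.Proj.preservesFiniteColimits_TL F
  exact Groth.Agent.Lib.Helper21.ModTensor4.additive_of_preservesFiniteColimits (tF n Y F)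

theorem shortExact_tF (F : (KRR.PY n Y).Modules) (hF : FlatMod.IsFinLocFree F)
    (S : ShortComplex (KRR.PY n Y).Modules) (hS : S.ShortExact) :
    (S.map (tF n Y F)).ShortExact := by
  haveI := additive_tF n Y F
  haveI := Groth.Agent.Lib.Helper1.Proj.preservesFiniteLimits_TL F hF
  haveI := Groth.Agent.Lib.Helper1.Proj.preservesFiniteColimits_TL F
  exact hS.map_of_exact (tF n Y F)

variable {n Y} {k : ℕ} (F : (KRR.PY n Y).Modules) (hF : Rk n Y k F)

/-- `F ⊗ f^*(∐ O(t)) ≅ ∐ F(t)`. -/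
theorem nonempty_tF_KK_iso (i : ℕ) (t : ℤ) :
    Nonempty ((tF n Y F).obj ((fS n Y).obj (KK n RZ i t)) ≅
      ∐ fun _ : Fin (Nat.choose (n + 1) i) => KRR.twF n Y t F) := by
  haveI := additive_tF n Y F
  have e1 : (fS n Y).obj (KK n RZ i t) ≅
      ∐ fun _ : Fin (Nat.choose (n + 1) i) => (fS n Y).obj (OO n RZ t) :=
    PreservesCoproduct.iso (fS n Y) _
  have e2 : (tF n Y F).obj (∐ fun _ : Fin (Nat.choose (n + 1) i) => (fS n Y).obj (OO n RZ t)) ≅
      ∐ fun _ : Fin (Nat.choose (n + 1) i) => (tF n Y F).obj ((fS n Y).obj (OO n RZ t)) :=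
    sigmaConstIso (tF n Y F) _ _
  have e3 : (tF n Y F).obj ((fS n Y).obj (OO n RZ t)) ≅ KRR.twF n Y t F := by
    rw [fS_OO]
    exact brdApp (KRR.PY n Y).sheaf F (Twist.twistOver n Y t)
  exact ⟨(tF n Y F).mapIso e1 ≪≫ e2 ≪≫ Sigma.mapIso (fun _ => e3)⟩

include hF in
theorem rk_tF_KK (i : ℕ) : Rk n Y k ((tF n Y F).obj ((fS n Y).obj (Kx n RZ 0 i))) := by
  obtain ⟨e⟩ := nonempty_tF_KK_iso F i ((0 : ℤ) + i)
  refine rk_of_iso n Y e.symm (rk_sigma_const n Y _ _ ?_)
  rw [zero_add]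
  exact rk_twF n Y i hF

include hF in
theorem isFinLocFree_tF (M : (Proj 𝒢).Modules) (hM : FlatMod.IsFinLocFree M) :
    FlatMod.IsFinLocFree ((tF n Y F).obj ((fS n Y).obj M)) :=
  Groth.Agent.Lib.Helper23.ResProp.isFinLocFree_tensorMod _ _ ((rk_iff n Y k F).1 hF).1
    (isFinLocFree_fS n Y M hM)

/-- the pulled back and tensored cycle sequences. -/
theorem shortExact_tF_ses (hF' : FlatMod.IsFinLocFree F) (i : ℕ) (hi : i + 1 ≤ n + 2) :
    (((ses (Kx n RZ 0) (dK n RZ 0) (dK_comp n RZ 0) i).map (fS n Y)).map (tF n Y F)).ShortExact :=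
  shortExact_tF n Y F hF' _ (shortExact_fS n Y _ (sesK_shortExact n RZ 0 i)
    (isFinLocFree_ZK n RZ 0 (i + 1) hi))

include hF in
theorem rk_tF_Z : ∀ j : ℕ, j ≤ n + 2 →
    Rk n Y k ((tF n Y F).obj ((fS n Y).obj (Z (Kx n RZ 0) (dK n RZ 0) j))) := by
  intro j
  induction j with
  | zero =>
    intro _
    exact rk_of_isZero n Y k ((tF n Y F).map_isZero ((fS n Y).map_isZero (isZero_Z_zero n RZ 0)))
  | succ j ih =>
    intro hj
    have hF' := ((rk_iff n Y k F).1 hF).1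
    exact rk_X₃ n Y _ (shortExact_tF_ses F hF' j hj) (ih (by omega)) (rk_tF_KK F hF j)
      (isFinLocFree_tF F hF _ (isFinLocFree_ZK n RZ 0 (j + 1) hj))

include hF in
/-- **the Koszul relation in `K₀(R_k)`.** -/
theorem koszul_relation_rk :
    (Finset.range (n + 2)).sum (fun i => ((-1 : ℤ) ^ i * ((n + 1).choose i : ℤ)) •
      clSub (Rk n Y k) (KRR.twF n Y (i : ℤ) F)) = 0 := by
  have hF' := ((rk_iff n Y k F).1 hF).1
  have h := telescope_of_add (Kx n RZ 0) (dK n RZ 0)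
    (fun M => clSub (Rk n Y k) ((tF n Y F).obj ((fS n Y).obj M))) (n + 2)
    (fun i hi => clSub_shortExact (Rk n Y k) _ (shortExact_tF_ses F hF' i (by omega))
      (rk_tF_Z F hF i (by omega)) (rk_tF_KK F hF i) (rk_tF_Z F hF (i + 1) (by omega)))
    (clSub_of_isZero (Rk n Y k)
      ((tF n Y F).map_isZero ((fS n Y).map_isZero (isZero_Z_zero n RZ 0))))
    (clSub_of_isZero (Rk n Y k)
      ((tF n Y F).map_isZero ((fS n Y).map_isZero (isZero_Z_top n RZ 0))))
  rw [← h]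
  refine Finset.sum_congr rfl (fun i _ => ?_)
  obtain ⟨e⟩ := nonempty_tF_KK_iso F i ((0 : ℤ) + i)
  rw [clSub_of_iso (Rk n Y k) e (rk_tF_KK F hF i),
    clSub_sigma_const (Rk n Y k) (fun M m hM => rk_sigma_const n Y M m hM) _
      (by rw [zero_add]; exact rk_twF n Y i hF), mul_smul, natCast_zsmul, zero_add]

end Groth.Agent.Lib.Helper27RegKosz
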