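import Groth.Agent.Lib.Helper27RelProj

/-!
# Relative Proj: covering by `D_+(f_a)` (helper27)
-/

set_option autoImplicit false
universe u

open CategoryTheory AlgebraicGeometry HomogeneousLocalization TopologicalSpace Opposite
open scoped HomogeneousIdeal

namespace Groth.Agent.Lib.Helper27RelProj

section GradedRing

variable {A σ : Type u} [CommRing A] [SetLike σ A] [AddSubgroupClass σ A]
  (𝒜 : ℕ → σ) [GradedRing 𝒜]

/-- if the `g a` generate an ideal containing all high degree pieces, the `D_+(g a)` cover. -/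
theorem exists_mem_basicOpen {ι : Type*} (g : ι → A) (n₀ : ℕ)
    (hgen : ∀ n, n₀ ≤ n → (𝒜 n : Set A) ⊆ (Ideal.span (Set.range g) : Set A)) (z : Proj 𝒜) :
    ∃ a, z ∈ Proj.basicOpen 𝒜 (g a) := by
  by_contra hcon
  push Not at hcon
  have hspan : Ideal.span (Set.range g) ≤ z.asHomogeneousIdeal.toIdeal := by
    rw [Ideal.span_le]
    rintro _ ⟨a, rfl⟩
    have := hcon a
    rw [Proj.mem_basicOpen, not_not] at this
    exact this
  apply z.not_irrelevant_le
  rw [HomogeneousIdeal.irrelevant_le]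
  intro i hi x hx
  have hxi : x ∈ 𝒜 i := hx
  have hpow : x ^ (n₀ + 1) ∈ 𝒜 ((n₀ + 1) • i) := SetLike.pow_mem_graded _ hxi
  have hle : n₀ ≤ (n₀ + 1) • i := by
    rw [smul_eq_mul]
    nlinarith
  have h1 : x ^ (n₀ + 1) ∈ z.asHomogeneousIdeal.toIdeal := hspan (hgen _ hle hpow)
  exact z.isPrime.mem_of_pow_mem _ h1

end GradedRing

end Groth.Agent.Lib.Helper27RelProj
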