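import Groth.Agent.Lib.Helper27SpanTop
import Groth.Agent.Lib.Helper27RelRegA
import Groth.Agent.Lib.Helper23FinTypeLocal
import Groth.Agent.Lib.Helper23CounitEpi
import Groth.Agent.Lib.LeadPicFF4
import Groth.Agent.S15744
import Groth.Agent.Lib.Helper27PnAmple

/-!
# Regular quasi-coherent modules on `P^n` are generated by global sections (helper27)

* `app_genLocus_eq_zero` : if `f ⊗ L^k` kills all global sections of `G ⊗ L^k` (all `k`), then `f`
  kills the sections of `G` over the locus where a section `s` of `L` generates.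
* `isGloballyGenerated_of_regular` : a `0`-regular quasi-coherent module on `P^n_R` (any ring `R`)
  is globally generated.
* `epi_counit_of_isRegSheaf` : for a regular quasi-coherent `F` on `P^n_T`, `p^* p_* F ⟶ F` is epi.
-/

set_option autoImplicit false
universe u

open CategoryTheory CategoryTheory.Limits AlgebraicGeometry TopologicalSpace Opposite

namespace Groth.Agent.Lib.Helper27RelRegB

open Groth.Agent.Lib.Helper23.SecTw Groth.Agent.Lib.Helper6 Groth.Agent.Lib.Helper27GlobGenPn
  Groth.Agent.Lib.Helper27SpanTop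

section Abstract

variable {X : Scheme.{u}}

theorem wl_tm {A B : X.Modules} (φ : A ⟶ B) (L : X.Modules) (U : X.Opens) (a : Γ(A, U))
    (l : Γ(L, U)) : (wl φ L).app U (tm A L U a l) = tm B L U (φ.app U a) l := by
  have h := KoszTw.tensorMap_tmul φ (𝟙 L) U a l
  rw [← KoszTw.tensorBi_map_app] at h
  exact h

/-- if global sections of `G ⊗ B` are sums of pure tensors and `f` kills the global sections of `G`,
then `f ⊗ B` kills the global sections of `G ⊗ B`. -/
theorem wl_kills_of_CT {G Q : X.Modules} (f : G ⟶ Q) (B : X.Modules) (hCT : CT G B = ⊤)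
    (hf : ∀ s : Γ(G, ⊤), f.app ⊤ s = 0) (τ : Γ(CohB1.tensorMod G B, ⊤)) :
    (wl f B).app ⊤ τ = 0 := by
  have hτ : τ ∈ CT G B := by rw [hCT]; exact AddSubgroup.mem_top _
  unfold CT at hτ
  induction hτ using AddSubgroup.closure_induction with
  | mem y hy =>
    obtain ⟨p, rfl⟩ := hy
    change (wl f B).app ⊤ (tm G B ⊤ p.1 p.2) = 0
    rw [wl_tm, hf]
    exact tm_zero_left Q B ⊤ p.2
  | zero => exact map_zero _
  | add y z _ _ hy hz => rw [map_add, hy, hz, add_zero]
  | neg y _ hy => rw [map_neg, hy, neg_zero]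

/-- if `f ⊗ L^k` kills all global sections of `G ⊗ L^k`, for all `k`, then `f` kills the sections of
`G` over `X_s`. -/
theorem app_genLocus_eq_zero [CompactSpace X] [QuasiSeparatedSpace X] (L : X.Modules)
    (hL : PicF.IsInvertible L) (s : Coh.structureModule X ⟶ L) {G Q : X.Modules} [Coh.IsQCoh G]
    (f : G ⟶ Q)
    (hkill : ∀ (k : ℕ) (τ : Γ(CohB1.tensorMod G (CohB1.tensorPow L k), ⊤)),
      (wl f (CohB1.tensorPow L k)).app ⊤ τ = 0)
    (t : Γ(G, CohB1.genLocus L s)) : f.app (CohB1.genLocus L s) t = 0 := by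
  obtain ⟨k, -, t', ht'⟩ := Groth.Agent.S15744.main X L hL s G t
  have h0 := hkill k t'
  have h1 : (wl f (CohB1.tensorPow L k)).app (CohB1.genLocus L s)
      (res _ (le_top : CohB1.genLocus L s ≤ ⊤) t') =
      res _ (le_top : CohB1.genLocus L s ≤ ⊤) ((wl f (CohB1.tensorPow L k)).app ⊤ t') :=
    Groth.Agent.Lib.Helper23.Extend.app_map (wl f (CohB1.tensorPow L k))
      (homOfLE (le_top : CohB1.genLocus L s ≤ ⊤)) t'
  rw [h0, ht'] at h1
  unfold tw at h1
  rw [wl_tm] at h1
  have hgen := isGen_pw L _ _ (isGen_sv_genLocus L s) k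
  have hinj := injective_tm_of_isGen Q (CohB1.tensorPow L k) (CohB1.genLocus L s) _ hgen
    (CohB1.genLocus L s) le_rfl
  apply hinj
  simp only [res_self]
  rw [h1, tm_zero_left]
  exact res_zero _ _

/-- a quasi-coherent module is globally generated as soon as every morphism to a quasi-coherent
module that kills its global sections vanishes. -/
theorem isGloballyGenerated_of_kills (G : X.Modules) [G.IsQuasicoherent]
    (h : ∀ (Q : X.Modules) (π : G ⟶ Q), Q.IsQuasicoherent → (∀ s : Γ(G, ⊤), π.app ⊤ s = 0) →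
      π = 0) : Curv2.IsGloballyGenerated G := by
  let Fr : X.Modules := ∐ fun _ : Γ(G, ⊤) => Coh.structureModule X
  let p : Fr ⟶ G := Limits.Sigma.desc (fun s => secHom G s)
  refine ⟨Γ(G, ⊤), p, ?_⟩
  haveI hfree : Fr.IsQuasicoherent :=
    (inferInstance : (SheafOfModules.free (R := X.ringCatSheaf) Γ(G, ⊤)).IsQuasicoherent)
  let Q : X.Modules := cokernel p
  let π : G ⟶ Q := cokernel.π p
  have hQ : Q.IsQuasicoherent := Groth.Agent.Lib.Helper23.QCohLocal.isQuasicoherent_cokernel p
  have hπ : ∀ s : Γ(G, ⊤), π.app ⊤ s = 0 := by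
    intro s
    have h1 : secHom G s ≫ π = 0 := by
      have h2 : Sigma.ι (fun _ : Γ(G, ⊤) => Coh.structureModule X) s ≫ p = secHom G s :=
        Limits.Sigma.ι_desc _ _
      have h4 : p ≫ π = 0 := cokernel.condition p
      calc secHom G s ≫ π = (Sigma.ι (fun _ : Γ(G, ⊤) => Coh.structureModule X) s ≫ p) ≫ π := by
            rw [h2]
        _ = Sigma.ι (fun _ : Γ(G, ⊤) => Coh.structureModule X) s ≫ (p ≫ π) :=
            Category.assoc _ _ _
        _ = 0 := by rw [h4, comp_zero]
    have h3 : sv (secHom G s ≫ π) ⊤ = π.app ⊤ (sv (secHom G s) ⊤) := rfl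
    rw [h1, sv_secHom, res_self] at h3
    rw [← h3]
    exact sv_zero _
  have h0 : π = 0 := h Q π hQ hπ
  exact Abelian.epi_of_cokernel_π_eq_zero p h0

end Abstract

section Pn

open HomogeneousLocalization MvPolynomial
open Groth.Agent.Lib.Helper27GrTildeSect Groth.Agent.Lib.Helper27PnSections
  Groth.Agent.Lib.Helper27PnHom Groth.Agent.Lib.Helper27KoszPn
  Groth.Agent.Lib.Helper21.ModTensor5

variable (n : ℕ) (R : Type u) [CommRing R]

local notation "𝒢" => CohB1.polyGrading n R
local notation "σ'" => Fin (n + 1)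

/-- for a `0`-regular quasi-coherent `G` on `P^n_R`, the global sections of `G ⊗ O(1)^{⊗ k}` are sums
of pure tensors. -/
theorem CT_pow (G : (Proj 𝒢).Modules) (hG : G.IsQuasicoherent)
    (hreg : ∀ q : ℕ, 1 ≤ q → Subsingleton (Coh.HH (CohB1.ProjSpace n R)
      (CohB1.tensorMod G (Twist.twistProjSpace n R (0 - q))) q)) (k : ℕ) :
    CT G (CohB1.tensorPow (OO n R 1) k) = ⊤ := by
  have hadd := Groth.Agent.Lib.Helper27CMRegPn.regular_add_pn n R G hG 0 hreg
  have hCT : CT G (OO n R (k : ℤ)) = ⊤ := by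
    refine CT_twist n R G hG (fun t q hq1 _ => ?_) k
    have h1 := hadd t q hq1
    rw [zero_add] at h1
    have e : CohB1.tensorMod G (OO n R ((t : ℤ) - q)) ≅ CohB1.tensorMod (OO n R ((t : ℤ) - q)) G :=
      brdApp (Proj 𝒢).sheaf G (OO n R ((t : ℤ) - q))
    exact Groth.Agent.Lib.Helper27PnCohVanish.subsingleton_HH_of_iso e q h1
  obtain ⟨e⟩ := Groth.Agent.Lib.Helper27GrTildeSect.nonempty_pow_iso 𝒢
    (Groth.Agent.Lib.Helper27PnMor.cover_X n R) k
  exact CT_of_surjective G e.hom hCT (surjective_app_top_of_iso ((tl G).mapIso e))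

/-- **Mumford**: a `0`-regular quasi-coherent module on `P^n_R` is generated by its global sections
(no finiteness hypothesis on `R` or `G`). -/
theorem isGloballyGenerated_of_regular (G : (Proj 𝒢).Modules) (hG : G.IsQuasicoherent)
    (hreg : ∀ q : ℕ, 1 ≤ q → Subsingleton (Coh.HH (CohB1.ProjSpace n R)
      (CohB1.tensorMod G (Twist.twistProjSpace n R (0 - q))) q)) :
    Curv2.IsGloballyGenerated G := by
  haveI : G.IsQuasicoherent := hG
  haveI : Coh.IsQCoh G := hG
  haveI : CompactSpace (Proj 𝒢) := Groth.Agent.Lib.Helper27PnAmple.compactSpace n R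
  refine isGloballyGenerated_of_kills G (fun Q π hQ hπ => ?_)
  haveI := hQ
  -- `π` kills the sections over the standard opens
  have hU : ∀ (j : σ') (t : Γ(G, Ui n R j)), π.app (Ui n R j) t = 0 := by
    intro j
    have hloc := Groth.Agent.Lib.Helper27PnMor.genLocus_secHom_gsec n R 1
      (Groth.Agent.Lib.Helper27ProjGamma.hX n R j)
    have key := app_genLocus_eq_zero (X := Proj 𝒢) (GrTilde.tilde 𝒢 𝒢 ((1 : ℕ) : ℤ))
      (Groth.Agent.Lib.Helper27KoszReg.isInvertible_OO n R 1)
      (secHom _ (gsec 𝒢 1 ⊤ (Groth.Agent.Lib.Helper27ProjGamma.hX n R j))) π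
      (fun k τ => wl_kills_of_CT π _ (CT_pow n R G hG hreg k) hπ τ)
    rw [hloc] at key
    exact key
  -- the image of `π` has no sections over the standard opens
  let I : (Proj 𝒢).Modules := Abelian.image π
  haveI hI : I.IsQuasicoherent := by
    haveI : (cokernel π).IsQuasicoherent :=
      Groth.Agent.Lib.Helper23.QCohLocal.isQuasicoherent_cokernel π
    exact Groth.Agent.Lib.Helper23.QCohLocal.isQuasicoherent_kernel (cokernel.π π)
  let π' : G ⟶ I := Abelian.factorThruImage π
  have hfac : π' ≫ Abelian.image.ι π = π := Abelian.image.fac π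
  have hepi : Epi (0 : G ⟶ I) := by
    refine epi_of_surjective_app_cover _ (fun l : σ' => Ui n R l) (isOpenCover_Ui n R)
      (isAffineOpen_Ui n R) (fun j u => ?_)
    obtain ⟨t, rfl⟩ := Groth.Agent.Lib.Helper23.FinType.surjective_app_of_epi π'
      (isAffineOpen_Ui n R j) u
    refine ⟨0, (map_zero _).trans ?_⟩
    apply Groth.Agent.Lib.Helper20.StalkExact.injective_app_of_mono (Abelian.image.ι π) (Ui n R j)
    have h5 : (Abelian.image.ι π).app (Ui n R j) (π'.app (Ui n R j) t) = π.app (Ui n R j) t :=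
      congrArg (fun φ => Scheme.Modules.Hom.app φ (Ui n R j) t) hfac
    rw [h5, hU j t]
    exact (map_zero _)
  have hid : 𝟙 I = 0 :=
    (cancel_epi (0 : G ⟶ I)).1 (zero_comp.trans zero_comp.symm)
  rw [← hfac, ← Category.comp_id π', hid, comp_zero, zero_comp]

end Pn

section Rel

open Groth.Agent.Lib.Helper17.TwistBC

theorem isGloballyGenerated_restrict_of_eq {X : Scheme.{u}} (F : X.Modules) {U U' : X.Opens}
    (h : U = U') (hg : Curv2.IsGloballyGenerated (F.restrict U.ι)) :
    Curv2.IsGloballyGenerated (F.restrict U'.ι) := by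
  subst h
  exact hg

/-- global generation over the range of an open immersion. -/
theorem isGloballyGenerated_restrict_opensRange {W P : Scheme.{u}} (c : W ⟶ P) [IsOpenImmersion c]
    (F : P.Modules) (h : Curv2.IsGloballyGenerated ((Scheme.Modules.pullback c).obj F)) :
    Curv2.IsGloballyGenerated (F.restrict c.opensRange.ι) := by
  have he : c.isoOpensRange.inv ≫ c = c.opensRange.ι := by
    rw [Iso.inv_comp_eq]
    exact c.isoOpensRange_hom_ι.symm
  have h1 := Groth.Agent.Lib.LeadPicFF.isGloballyGenerated_pullback c.isoOpensRange.inv _ h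
  refine Groth.Agent.Lib.Helper23.RestrTensor.isGloballyGenerated_of_iso ?_ h1
  exact (Scheme.Modules.pullbackComp c.isoOpensRange.inv c).app F ≪≫
    (Scheme.Modules.pullbackCongr he).app F ≪≫
    ((Scheme.Modules.restrictFunctorIsoPullback c.opensRange.ι).app F).symm

variable (n : ℕ) (T : Scheme.{u})

/-- for a regular quasi-coherent module `F` on `P^n_T`, the counit `p^* p_* F ⟶ F` is an
epimorphism. -/
theorem epi_counit_of_isRegSheaf (F : (KRR.PY n T).Modules) (hF : Coh.IsQCoh F)
    (hreg : KRR.IsRegSheaf n T F) :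
    Epi ((Scheme.Modules.pullbackPushforwardAdjunction (KRR.pr n T)).counit.app F) := by
  apply Groth.Agent.Lib.Helper23.CounitEpi.epi_counit_of_isGloballyGenerated
  intro x
  obtain ⟨V, hV, hxV, -⟩ := exists_isAffineOpen_mem_and_subset (X := T) (x := (KRR.pr n T) x)
    (U := ⊤) trivial
  refine ⟨V, hxV, ?_⟩
  haveI := hF
  have hq : ((Scheme.Modules.pullback (chartOver n hV)).obj F).IsQuasicoherent :=
    Groth.Agent.Lib.Helper2.PullbackSec.isQuasicoherent_pullback _ _
  have hgg : Curv2.IsGloballyGenerated ((Scheme.Modules.pullback (chartOver n hV)).obj F) :=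
    isGloballyGenerated_of_regular n Γ(T, V) _ hq
      (Groth.Agent.Lib.Helper27RelRegA.regular_pullback n T F hF hreg hV)
  exact isGloballyGenerated_restrict_of_eq F (opensRange_chartOver n hV)
    (isGloballyGenerated_restrict_opensRange (chartOver n hV) F hgg)

end Rel

end Groth.Agent.Lib.Helper27RelRegB
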