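import Groth.Agent.Lib.Helper27RelRegB
import Groth.Agent.Lib.Helper27CohSum
import Groth.Agent.Lib.Helper26FpqcMod
import Groth.Agent.Lib.Helper21FlatCalc
import Groth.Agent.Lib.Helper27ChartPoly
import Groth.Agent.S10869

/-!
# Pullbacks from the base are regular on `P^n` (helper27)

* `subsingleton_HH_free_twist` : `H^i(P^n_R, O(d)^{(I)}) = 0` for `i ≥ 1`, `d ≥ -n`, any index set.
* `subsingleton_HH_pullback_twist` : for every quasi-coherent module `𝓜` on `Spec R` (any ring `R`),
  `H^i(P^n_R, π^* 𝓜 ⊗ O(d)) = 0` for `i ≥ 1`, `d ≥ -n`.  Descending induction on `i` along a free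
  presentation of `𝓜`, using that `π` is flat.
-/

set_option autoImplicit false
universe u

open CategoryTheory CategoryTheory.Limits AlgebraicGeometry TopologicalSpace Opposite

namespace Groth.Agent.Lib.Helper27RelRegD

open Groth.Agent.Lib.Helper27SerreVan

section Pn

variable (n : ℕ) (R : Type u) [CommRing R]

/-- `H^i(P^n_R, O(d)^{(I)}) = 0` for `i ≥ 1`, `d ≥ -n`, and any index set `I`. -/
theorem subsingleton_HH_free_twist (I : Type u) (d : ℤ) (hd : -(n : ℤ) ≤ d) (i : ℕ) (hi : 1 ≤ i) :
    Subsingleton (Coh.HH (CohB1.ProjSpace n R)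
      (CohB1.tensorMod (∐ fun _ : I => Coh.structureModule (CohB1.ProjSpace n R))
        (Twist.twistProjSpace n R d)) i) := by
  obtain ⟨p, rfl⟩ : ∃ p, i = p + 1 := ⟨i - 1, by omega⟩
  let L : (CohB1.ProjSpace n R).Modules := Twist.twistProjSpace n R d
  have hLq : L.IsQuasicoherent :=
    Groth.Agent.Lib.Helper27GrTildeSect.isQuasicoherent_tilde _ _ d
  have h1 : Subsingleton (Coh.HH (CohB1.ProjSpace n R) (∐ fun _ : I => L) (p + 1)) := by
    refine Groth.Agent.Lib.Helper27CohSum.subsingleton_HH_coprod (fun _ : I => L)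
      (Groth.Agent.Lib.Helper27PnCech.V n R) (Groth.Agent.Lib.Helper27PnCohVanish.iSup_V n R)
      (Groth.Agent.Lib.Helper27PnCohVanish.isAffineOpen_iInf_V n R) (fun _ => hLq) p (fun _ => ?_)
    exact Groth.Agent.Lib.Helper27PnCohVanish.subsingleton_HH n R d (p + 1)
      (fun h => by omega) (fun h => by omega)
  haveI : PreservesColimitsOfShape (Discrete I) (tw L) :=
    Groth.Agent.Lib.Helper21.ModTensor3.tR_preservesColimitsOfShape
      (CohB1.ProjSpace n R).sheaf L (Discrete I)
  have e1 : (tw L).obj (∐ fun _ : I => Coh.structureModule (CohB1.ProjSpace n R)) ≅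
      ∐ fun _ : I => (tw L).obj (Coh.structureModule (CohB1.ProjSpace n R)) :=
    PreservesCoproduct.iso (tw L) (fun _ : I => Coh.structureModule (CohB1.ProjSpace n R))
  have e2 : (∐ fun _ : I => (tw L).obj (Coh.structureModule (CohB1.ProjSpace n R))) ≅
      ∐ fun _ : I => L :=
    Sigma.mapIso (fun _ => Groth.Agent.Lib.Helper23.TensorUnit.unitTensorIso L)
  exact Groth.Agent.Lib.Helper27PnCohVanish.subsingleton_HH_of_iso (e1 ≪≫ e2).symm (p + 1) h1

end Pn

/-- pullback along a flat morphism preserves short exact sequences. -/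
theorem shortExact_map_pullback_of_flat {X Y : Scheme.{u}} (f : X ⟶ Y) [Flat f]
    (S : ShortComplex Y.Modules) (hS : S.ShortExact) :
    (S.map (Scheme.Modules.pullback f)).ShortExact := by
  haveI := hS.mono_f
  exact Groth.Agent.Lib.Helper21.FlatCalc.shortExact_map_of_mono (Scheme.Modules.pullback f) S hS
    (Groth.Agent.Lib.Helper26.FpqcMod.mono_pullback_of_flat f S.f)

section Claim

variable (n : ℕ) (R : Type u) [CommRing R]

/-- **pullbacks from the base are regular**: for a quasi-coherent module `M` on `Spec R`,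
`H^i(P^n_R, π^* M ⊗ O(d)) = 0` for `i ≥ 1` and `d ≥ -n`. -/
theorem subsingleton_HH_pullback_twist_aux (d : ℤ) (hd : -(n : ℤ) ≤ d) :
    ∀ (k i : ℕ), 1 ≤ i → n < i + k →
      ∀ (M : (Spec (CommRingCat.of R)).Modules), M.IsQuasicoherent →
        Subsingleton (Coh.HH (CohB1.ProjSpace n R)
          (CohB1.tensorMod ((Scheme.Modules.pullback (CohB1.ProjSpace.toSpec n R)).obj M)
            (Twist.twistProjSpace n R d)) i) := by
  have hLq : (Twist.twistProjSpace n R d).IsQuasicoherent :=
    Groth.Agent.Lib.Helper27GrTildeSect.isQuasicoherent_tilde _ _ d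
  intro k
  induction k with
  | zero =>
    intro i _ hni M hM
    haveI := hM
    haveI := hLq
    haveI : ((Scheme.Modules.pullback (CohB1.ProjSpace.toSpec n R)).obj M).IsQuasicoherent :=
      Groth.Agent.Lib.Helper2.PullbackSec.isQuasicoherent_pullback _ _
    haveI : Coh.IsQCoh (CohB1.tensorMod
        ((Scheme.Modules.pullback (CohB1.ProjSpace.toSpec n R)).obj M)
        (Twist.twistProjSpace n R d)) :=
      Groth.Agent.Lib.Helper23.TensorQCoh.isQuasicoherent_tensorMod _ _
    exact Groth.Agent.S0022.result n R _ i (by omega)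
  | succ k ih =>
    intro i hi hni M hM
    haveI := hM
    obtain ⟨I, p, hp⟩ := Groth.Agent.S10869.gg_of_isAffine M
    haveI : (SheafOfModules.free (R := (Spec (CommRingCat.of R)).ringCatSheaf) I).IsQuasicoherent :=
      inferInstance
    let p' : (SheafOfModules.free I : (Spec (CommRingCat.of R)).Modules) ⟶ M := p
    haveI : Epi p' := hp
    have hK : (kernel p').IsQuasicoherent :=
      Groth.Agent.Lib.Helper23.QCohLocal.isQuasicoherent_kernel p'
    let S₀ : ShortComplex (Spec (CommRingCat.of R)).Modules :=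
      ShortComplex.mk (kernel.ι p') p' (kernel.condition p')
    have hS₀ : S₀.ShortExact :=
      { exact := ShortComplex.exact_of_f_is_kernel _ (kernelIsKernel p')
        mono_f := (inferInstance : Mono (kernel.ι p'))
        epi_g := hp }
    haveI : Smooth (CohB1.ProjSpace.toSpec n R) :=
      Groth.Agent.Lib.Helper27ChartPoly.smooth_projSpace_toSpec n R
    have hS₁ := shortExact_map_pullback_of_flat (CohB1.ProjSpace.toSpec n R) S₀ hS₀
    have hS₂ := shortExact_tw (Twist.twistProjSpace n R d)
      (Groth.Agent.Lib.Helper27SerreVanPn.isInvertible_twist n R d) _ hS₁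
    have h2 : Subsingleton (Coh.HH (CohB1.ProjSpace n R)
        ((S₀.map (Scheme.Modules.pullback (CohB1.ProjSpace.toSpec n R))).map
          (tw (Twist.twistProjSpace n R d))).X₂ i) := by
      have e : CohB1.tensorMod (∐ fun _ : I => Coh.structureModule (CohB1.ProjSpace n R))
            (Twist.twistProjSpace n R d) ≅
          CohB1.tensorMod ((Scheme.Modules.pullback (CohB1.ProjSpace.toSpec n R)).obj
            (SheafOfModules.free I)) (Twist.twistProjSpace n R d) :=
        PicGrp.tensorModIso
          (Groth.Agent.Lib.LeadPicFF.pullbackFreeIso' (CohB1.ProjSpace.toSpec n R) I).symm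
          (Iso.refl _)
      exact Groth.Agent.Lib.Helper27PnCohVanish.subsingleton_HH_of_iso e i
        (subsingleton_HH_free_twist n R I d hd i hi)
    have h1 : Subsingleton (Coh.HH (CohB1.ProjSpace n R)
        ((S₀.map (Scheme.Modules.pullback (CohB1.ProjSpace.toSpec n R))).map
          (tw (Twist.twistProjSpace n R d))).X₁ (i + 1)) :=
      ih (i + 1) (by omega) (by omega) (kernel p') hK
    exact subsingleton_of_shortExact _ hS₂ i h2 h1

theorem subsingleton_HH_pullback_twist (d : ℤ) (hd : -(n : ℤ) ≤ d) (i : ℕ) (hi : 1 ≤ i)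
    (M : (Spec (CommRingCat.of R)).Modules) (hM : M.IsQuasicoherent) :
    Subsingleton (Coh.HH (CohB1.ProjSpace n R)
      (CohB1.tensorMod ((Scheme.Modules.pullback (CohB1.ProjSpace.toSpec n R)).obj M)
        (Twist.twistProjSpace n R d)) i) :=
  subsingleton_HH_pullback_twist_aux n R d hd (n + 1) i hi (by omega) M hM

end Claim

end Groth.Agent.Lib.Helper27RelRegD
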