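import Groth.Agent.Lib.Helper27RelRegD
import Groth.Agent.Lib.Helper27LesLin

/-!
# The kernel of `p^* p_* F ⟶ F` for a regular `F` on `P^n_T` (helper27)

`isRegSheaf_twF_kernel_counit` : for a regular quasi-coherent `F` on `P^n_T` (any scheme `T`), with
`Z` the kernel of the (epimorphic) counit `p^* p_* F ⟶ F`, the twist `Z(1)` is regular.
-/

set_option autoImplicit false
universe u

open CategoryTheory CategoryTheory.Limits AlgebraicGeometry TopologicalSpace Opposite

namespace Groth.Agent.Lib.Helper27RelRegE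

open Groth.Agent.Lib.Helper27SerreVan Groth.Agent.Lib.Helper27CohFin
  Groth.Agent.Lib.Helper23.QCohLocal

section General

/-- `H^1` of the kernel vanishes if `H^1` of the middle term does and the epimorphism is surjective
on global sections. -/
theorem subsingleton_HH_one_X₁ {X : Scheme.{u}} (S : ShortComplex X.Modules) (hS : S.ShortExact)
    (hs : Function.Surjective (S.g.app ⊤)) (h2 : Subsingleton (Coh.HH X S.X₂ 1)) :
    Subsingleton (Coh.HH X S.X₁ 1) := by
  have key : ∀ x : Coh.HH X S.X₁ 1, x = 0 := by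
    intro x
    have hS' := shortExact_toAbF S hS
    obtain ⟨y, hy⟩ := Abelian.Ext.covariant_sequence_exact₁ _ hS' (n₁ := 0 + 1) x
      (Subsingleton.elim (α := Coh.HH X S.X₂ 1) _ _) (n₀ := 0) rfl
    have h0 := Groth.Agent.Lib.Helper27LesLin.delta_zero_of_surjective_app_top S hS hs y
    rw [← hy]
    exact h0
  exact ⟨fun x y => (key x).trans (key y).symm⟩

/-- the counit `f^* f_* F ⟶ F` is surjective on sections over preimages of opens of the base. -/
theorem surjective_counit_app_preimage {X Y : Scheme.{u}} (f : X ⟶ Y) (F : X.Modules)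
    (V : Y.Opens) :
    Function.Surjective
      (((Scheme.Modules.pullbackPushforwardAdjunction f).counit.app F).app (f ⁻¹ᵁ V)) := by
  intro t
  have h := (Scheme.Modules.pullbackPushforwardAdjunction f).right_triangle_components F
  refine ⟨((Scheme.Modules.pullbackPushforwardAdjunction f).unit.app
    ((Scheme.Modules.pushforward f).obj F)).app V t, ?_⟩
  exact congrArg (fun φ => Scheme.Modules.Hom.app φ V t) h

/-- surjectivity on the sections over the range of an open immersion gives surjectivity on the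
global sections of the pullback. -/
theorem surjective_pullback_map_app_top {W P : Scheme.{u}} (c : W ⟶ P) [IsOpenImmersion c]
    {A B : P.Modules} (φ : A ⟶ B) (h : Function.Surjective (φ.app c.opensRange)) :
    Function.Surjective (((Scheme.Modules.pullback c).map φ).app ⊤) := by
  have hnat := (Scheme.Modules.restrictFunctorIsoPullback c).hom.naturality φ
  have h1 : (Scheme.Modules.pullback c).map φ =
      (Scheme.Modules.restrictFunctorIsoPullback c).inv.app A ≫
        (Scheme.Modules.restrictFunctor c).map φ ≫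
          (Scheme.Modules.restrictFunctorIsoPullback c).hom.app B := by
    rw [hnat, ← Category.assoc, Iso.inv_hom_id_app, Category.id_comp]
  rw [h1, Scheme.Modules.Hom.comp_app, Scheme.Modules.Hom.comp_app]
  have s1 : Function.Surjective
      (((Scheme.Modules.restrictFunctorIsoPullback c).inv.app A).app ⊤) :=
    Groth.Agent.Lib.Helper27GlobGenPn.surjective_app_top_of_iso
      ((Scheme.Modules.restrictFunctorIsoPullback c).symm.app A)
  have s3 : Function.Surjective
      (((Scheme.Modules.restrictFunctorIsoPullback c).hom.app B).app ⊤) :=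
    Groth.Agent.Lib.Helper27GlobGenPn.surjective_app_top_of_iso
      ((Scheme.Modules.restrictFunctorIsoPullback c).app B)
  have s2 : Function.Surjective (((Scheme.Modules.restrictFunctor c).map φ).app ⊤) := by
    have e : c ''ᵁ (⊤ : W.Opens) = c.opensRange := Scheme.Hom.image_top_eq_opensRange c
    exact Groth.Agent.Lib.Helper27KoszPn.surjective_app_of_eq φ e h
  exact s3.comp (s2.comp s1)

end General

section Rel

open Groth.Agent.Lib.Helper17.TwistBC Groth.Agent.Lib.Helper21.ModTensor5
  Groth.Agent.Lib.Helper23.LocGen Groth.Agent.Lib.Helper27RelRegA Groth.Agent.Lib.Helper27RelRegD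

variable (n : ℕ) (T : Scheme.{u})

/-- `c^*(p^* E) ≅ π^*(E|_{Spec B})` on `P^n_B`. -/
noncomputable def pullbackChartIso {V : T.Opens} (hV : IsAffineOpen V) (E : T.Modules) :
    (Scheme.Modules.pullback (chartOver n hV)).obj
        ((Scheme.Modules.pullback (KRR.pr n T)).obj E) ≅
      (Scheme.Modules.pullback (CohB1.ProjSpace.toSpec n Γ(T, V))).obj
        ((Scheme.Modules.pullback hV.fromSpec).obj E) :=
  (Scheme.Modules.pullbackComp (chartOver n hV) (KRR.pr n T)).app E ≪≫
    (Scheme.Modules.pullbackCongr (chartOver_toBase n hV)).app E ≪≫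
    ((Scheme.Modules.pullbackComp (CohB1.ProjSpace.toSpec n Γ(T, V)) hV.fromSpec).app E).symm

/-- `p^* E` is regular (in every twist `≥ -n`) over the affine opens of `T`. -/
theorem subsingleton_HH_pullback_pullback {V : T.Opens} (hV : IsAffineOpen V) (E : T.Modules)
    (hE : E.IsQuasicoherent) (d : ℤ) (hd : -(n : ℤ) ≤ d) (j : ℕ) (hj : 1 ≤ j) :
    Subsingleton (Coh.HH (CohB1.ProjSpace n Γ(T, V))
      (CohB1.tensorMod ((Scheme.Modules.pullback (chartOver n hV)).obj
        ((Scheme.Modules.pullback (KRR.pr n T)).obj E)) (Twist.twistProjSpace n Γ(T, V) d)) j) := by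
  haveI := hE
  have hM : ((Scheme.Modules.pullback hV.fromSpec).obj E).IsQuasicoherent :=
    Groth.Agent.Lib.Helper2.PullbackSec.isQuasicoherent_pullback _ _
  have h := subsingleton_HH_pullback_twist n Γ(T, V) d hd j hj _ hM
  exact Groth.Agent.Lib.Helper27PnCohVanish.subsingleton_HH_of_iso
    (PicGrp.tensorModIso (pullbackChartIso n T hV E).symm (Iso.refl _)) j h

/-- **the kernel of the counit, twisted by `O(1)`, is regular.** -/
theorem isRegSheaf_twF_kernel_counit (F : (KRR.PY n T).Modules) (hF : Coh.IsQCoh F)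
    (hreg : KRR.IsRegSheaf n T F) :
    KRR.IsRegSheaf n T (KRR.twF n T 1
      (kernel ((Scheme.Modules.pullbackPushforwardAdjunction (KRR.pr n T)).counit.app F))) := by
  haveI := hF
  haveI := Groth.Agent.Lib.Helper27ProjSpaceFibres.isProper_toBase n T
  haveI hε : Epi ((Scheme.Modules.pullbackPushforwardAdjunction (KRR.pr n T)).counit.app F) :=
    Groth.Agent.Lib.Helper27RelRegB.epi_counit_of_isRegSheaf n T F hF hreg
  have hE : ((Scheme.Modules.pushforward (KRR.pr n T)).obj F).IsQuasicoherent :=
    isQuasicoherent_pushforward _ F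
  haveI := hE
  haveI hpE : ((Scheme.Modules.pullback (KRR.pr n T)).obj
      ((Scheme.Modules.pushforward (KRR.pr n T)).obj F)).IsQuasicoherent :=
    Groth.Agent.Lib.Helper2.PullbackSec.isQuasicoherent_pullback _ _
  haveI hpE' : ((Scheme.Modules.pushforward (KRR.pr n T) ⋙
      Scheme.Modules.pullback (KRR.pr n T)).obj F).IsQuasicoherent := hpE
  haveI hF' : ((𝟭 (KRR.PY n T).Modules).obj F).IsQuasicoherent := hF
  have hZ : (kernel ((Scheme.Modules.pullbackPushforwardAdjunction
      (KRR.pr n T)).counit.app F)).IsQuasicoherent :=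
    isQuasicoherent_kernel _
  -- the short exact sequence `0 ⟶ Z ⟶ p^* p_* F ⟶ F ⟶ 0`
  let S : ShortComplex (KRR.PY n T).Modules :=
    ShortComplex.mk (kernel.ι ((Scheme.Modules.pullbackPushforwardAdjunction
      (KRR.pr n T)).counit.app F)) _ (kernel.condition _)
  have hS : S.ShortExact :=
    { exact := ShortComplex.exact_of_f_is_kernel _ (kernelIsKernel _)
      mono_f := (inferInstance : Mono (kernel.ι _))
      epi_g := hε }
  intro i hi
  haveI : Coh.IsQCoh (KRR.twF n T (-(i : ℤ)) (KRR.twF n T 1 (kernel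
      ((Scheme.Modules.pullbackPushforwardAdjunction (KRR.pr n T)).counit.app F)))) :=
    isQCoh_twF n T _ _ (isQCoh_twF n T _ _ hZ)
  refine (isZero_RpushAb_iff n T _ i).2 (fun V hV => ?_)
  obtain ⟨e1⟩ := nonempty_pullback_twF_iso n T hV (-(i : ℤ)) (KRR.twF n T 1 (kernel
      ((Scheme.Modules.pullbackPushforwardAdjunction (KRR.pr n T)).counit.app F)))
  obtain ⟨e2⟩ := nonempty_pullback_twF_iso n T hV 1 (kernel
      ((Scheme.Modules.pullbackPushforwardAdjunction (KRR.pr n T)).counit.app F))
  obtain ⟨e3⟩ := Groth.Agent.Lib.Helper27SerreVanPn.nonempty_twist_tensor_iso n Γ(T, V)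
    1 (-(i : ℤ))
  refine Groth.Agent.Lib.Helper27PnCohVanish.subsingleton_HH_of_iso
    (e1 ≪≫ PicGrp.tensorModIso e2 (Iso.refl _) ≪≫ tensorAssoc _ _ _ ≪≫
      PicGrp.tensorModIso (Iso.refl _) e3).symm i ?_
  -- the pulled back sequence on `P^n_B`
  have hS₁ := shortExact_map_pullback_of_flat (chartOver n hV) S hS
  have hZq : ((Scheme.Modules.pullback (chartOver n hV)).obj (kernel
      ((Scheme.Modules.pullbackPushforwardAdjunction (KRR.pr n T)).counit.app F))).IsQuasicoherent := by
    haveI := hZ
    exact Groth.Agent.Lib.Helper2.PullbackSec.isQuasicoherent_pullback _ _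
  have hLq : ∀ d : ℤ, (Twist.twistProjSpace n Γ(T, V) d).IsQuasicoherent := fun d =>
    Groth.Agent.Lib.Helper27GrTildeSect.isQuasicoherent_tilde _ _ d
  by_cases hni : n < i
  · haveI := hZq
    haveI := hLq (1 + -(i : ℤ))
    haveI : Coh.IsQCoh (CohB1.tensorMod ((Scheme.Modules.pullback (chartOver n hV)).obj (kernel
        ((Scheme.Modules.pullbackPushforwardAdjunction (KRR.pr n T)).counit.app F)))
        (Twist.twistProjSpace n Γ(T, V) (1 + -(i : ℤ)))) :=
      Groth.Agent.Lib.Helper23.TensorQCoh.isQuasicoherent_tensorMod _ _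
    exact Groth.Agent.S0022.result n Γ(T, V) _ i hni
  · push Not at hni
    obtain ⟨j, rfl⟩ : ∃ j, i = j + 1 := ⟨i - 1, by omega⟩
    rcases j with _ | j
    · -- `i = 1`
      obtain ⟨e0⟩ := Groth.Agent.Lib.Helper27GlobGenPn.nonempty_OO_zero_iso n Γ(T, V)
      have e0' : Twist.twistProjSpace n Γ(T, V) (1 + -((0 + 1 : ℕ) : ℤ)) ≅
          Coh.structureModule (CohB1.ProjSpace n Γ(T, V)) := e0
      have e0'' : Twist.twistProjSpace n Γ(T, V) 0 ≅
          Coh.structureModule (CohB1.ProjSpace n Γ(T, V)) := e0
      refine Groth.Agent.Lib.Helper27PnCohVanish.subsingleton_HH_of_iso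
        (PicGrp.tensorModIso (Iso.refl _) e0' ≪≫
          Groth.Agent.Lib.Helper23.TensorUnit.tensorUnitIso _).symm 1 ?_
      have hs : Function.Surjective ((S.map (Scheme.Modules.pullback (chartOver n hV))).g.app ⊤) := by
        refine surjective_pullback_map_app_top (chartOver n hV) S.g ?_
        rw [opensRange_chartOver n hV]
        exact surjective_counit_app_preimage (KRR.pr n T) F V
      have h2 : Subsingleton (Coh.HH (CohB1.ProjSpace n Γ(T, V))
          (S.map (Scheme.Modules.pullback (chartOver n hV))).X₂ 1) := by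
        have h := subsingleton_HH_pullback_pullback n T hV _ hE 0 (by omega) 1 le_rfl
        exact Groth.Agent.Lib.Helper27PnCohVanish.subsingleton_HH_of_iso
          (PicGrp.tensorModIso (Iso.refl _) e0'' ≪≫
            Groth.Agent.Lib.Helper23.TensorUnit.tensorUnitIso _) 1 h
      exact subsingleton_HH_one_X₁ _ hS₁ hs h2
    · -- `i = j + 2`
      have hS₂ := shortExact_tw (Twist.twistProjSpace n Γ(T, V) (1 + -((j + 1 + 1 : ℕ) : ℤ)))
        (Groth.Agent.Lib.Helper27SerreVanPn.isInvertible_twist n Γ(T, V) _) _ hS₁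
      have h3 : Subsingleton (Coh.HH (CohB1.ProjSpace n Γ(T, V))
          ((S.map (Scheme.Modules.pullback (chartOver n hV))).map
            (tw (Twist.twistProjSpace n Γ(T, V) (1 + -((j + 1 + 1 : ℕ) : ℤ))))).X₃ (j + 1)) := by
        have h := regular_pullback n T F hF hreg hV (j + 1) (by omega)
        rw [show (0 : ℤ) - ((j + 1 : ℕ) : ℤ) = 1 + -((j + 1 + 1 : ℕ) : ℤ) by push_cast; ring] at h
        exact h
      have h2 : Subsingleton (Coh.HH (CohB1.ProjSpace n Γ(T, V))
          ((S.map (Scheme.Modules.pullback (chartOver n hV))).map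
            (tw (Twist.twistProjSpace n Γ(T, V) (1 + -((j + 1 + 1 : ℕ) : ℤ))))).X₂ (j + 1 + 1)) :=
        subsingleton_HH_pullback_pullback n T hV _ hE _ (by push_cast; omega) (j + 1 + 1)
          (by omega)
      exact Groth.Agent.Lib.Helper27CMReg.subsingleton_X₁_of_shortExact _ hS₂ (j + 1) h3 h2

end Rel

end Groth.Agent.Lib.Helper27RelRegE
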