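import Mathlib
import Groth.Agent.Lib.LeadFF17
import Groth.Prelude.Def_W4c6gradedringsgwSect

/-! Section ring of a point on a curve of positive genus: residue map and leading-coefficient map. -/

namespace Groth.Agent.Lib.Helper27Sect

open FunFld WithZero Polynomial Groth.Agent.Lib.LeadFF

variable {k K : Type*} [Field k] [Field K] [Algebra k K]

/-- The residue map `O_P → k` when `k` is algebraically closed. -/
noncomputable def rho [IsAlgClosed k] (hK : IsFunctionField k K) (P : Place k K) : P.O →+* k :=
  ((RingEquiv.ofBijective (algebraMap k (IsLocalRing.ResidueField P.O))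
    ⟨(algebraMap k (IsLocalRing.ResidueField P.O)).injective,
      residue_surjective_of_algClosed hK P⟩).symm : IsLocalRing.ResidueField P.O →+* k).comp
    (IsLocalRing.residue P.O)

lemma rho_algebraMap [IsAlgClosed k] (hK : IsFunctionField k K) (P : Place k K) (c : k) :
    rho hK P (algebraMap k P.O c) = c := by
  unfold rho
  rw [RingHom.comp_apply]
  have : IsLocalRing.residue P.O (algebraMap k P.O c) =
      algebraMap k (IsLocalRing.ResidueField P.O) c := rfl
  rw [this]
  exact RingEquiv.symm_apply_apply _ c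

lemma rho_eq_zero_iff [IsAlgClosed k] (hK : IsFunctionField k K) (P : Place k K) (w : P.O) :
    rho hK P w = 0 ↔ P.1 (w : K) < 1 := by
  unfold rho
  rw [RingHom.comp_apply, ← residue_eq_zero_iff]
  exact map_eq_zero_iff _ (RingEquiv.injective _)

/-- Total residue function `K → k` (junk value `0` outside `O_P`). -/
noncomputable def resK [IsAlgClosed k] (hK : IsFunctionField k K) (P : Place k K) (y : K) : k := by
  classical
  exact if h : P.1 y ≤ 1 then rho hK P ⟨y, (Valuation.mem_valuationSubring_iff _ _).mpr h⟩ else 0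

section
variable [IsAlgClosed k] (hK : IsFunctionField k K) (P : Place k K)

lemma resK_of_le {y : K} (h : P.1 y ≤ 1) :
    resK hK P y = rho hK P ⟨y, (Valuation.mem_valuationSubring_iff _ _).mpr h⟩ := by
  unfold resK; rw [dif_pos h]

lemma resK_add {y z : K} (hy : P.1 y ≤ 1) (hz : P.1 z ≤ 1) :
    resK hK P (y + z) = resK hK P y + resK hK P z := by
  have hyz : P.1 (y + z) ≤ 1 := (P.1.map_add y z).trans (max_le hy hz)
  rw [resK_of_le hK P hy, resK_of_le hK P hz, resK_of_le hK P hyz, ← map_add]
  rfl

lemma resK_mul {y z : K} (hy : P.1 y ≤ 1) (hz : P.1 z ≤ 1) :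
    resK hK P (y * z) = resK hK P y * resK hK P z := by
  have hyz : P.1 (y * z) ≤ 1 := by rw [map_mul]; exact mul_le_one' hy hz
  rw [resK_of_le hK P hy, resK_of_le hK P hz, resK_of_le hK P hyz, ← map_mul]
  rfl

lemma resK_algebraMap (c : k) : resK hK P (algebraMap k K c) = c := by
  rw [resK_of_le hK P (P.2.1 c)]
  exact rho_algebraMap hK P c

lemma resK_zero : resK hK P 0 = 0 := by
  have := resK_algebraMap hK P 0
  rwa [map_zero] at this

lemma resK_one : resK hK P 1 = 1 := by
  have := resK_algebraMap hK P 1
  rwa [map_one] at this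

lemma resK_eq_zero_iff {y : K} (hy : P.1 y ≤ 1) : resK hK P y = 0 ↔ P.1 y < 1 := by
  rw [resK_of_le hK P hy, rho_eq_zero_iff]

lemma resK_sum {ι : Type*} (s : Finset ι) (f : ι → K) (hf : ∀ i ∈ s, P.1 (f i) ≤ 1) :
    resK hK P (∑ i ∈ s, f i) = ∑ i ∈ s, resK hK P (f i) := by
  classical
  induction s using Finset.induction_on with
  | empty => simp [resK_zero]
  | insert a s ha ih =>
    rw [Finset.sum_insert ha, Finset.sum_insert ha, resK_add hK P (hf a (Finset.mem_insert_self a s)),
      ih (fun i hi => hf i (Finset.mem_insert_of_mem hi))]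
    exact P.1.map_sum_le (fun i hi => hf i (Finset.mem_insert_of_mem hi))

lemma resK_smul (c : k) {y : K} (hy : P.1 y ≤ 1) :
    resK hK P (algebraMap k K c * y) = c * resK hK P y := by
  rw [resK_mul hK P (P.2.1 c) hy, resK_algebraMap]

end

end Groth.Agent.Lib.Helper27Sect
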