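import Mathlib
import Groth.Agent.Lib.Helper27Sect1

/-! Section ring of a point: the leading-coefficient algebra hom `R_{X,P} → k[X]`. -/

namespace Groth.Agent.Lib.Helper27Sect

open FunFld WithZero Polynomial Groth.Agent.Lib.LeadFF

variable {k K : Type*} [Field k] [Field K] [Algebra k K]

/-- The section ring of the point `P`. -/
noncomputable abbrev RP (P : Place k K) : Subalgebra k K[X] :=
  W4c6gradedringsgw.sectRing (Finsupp.single P 1 : Divisor k K)

lemma nsmul_single_one (P : Place k K) (n : ℤ) :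
    n • (Finsupp.single P 1 : Divisor k K) = Finsupp.single P n := by
  rw [Finsupp.smul_single, smul_eq_mul, mul_one]

lemma mem_RP {P : Place k K} {p : K[X]} :
    p ∈ RP P ↔ ∀ n : ℕ, p.coeff n ∈ L (Finsupp.single P (n : ℤ) : Divisor k K) := by
  constructor
  · intro h n
    have := h n
    rwa [nsmul_single_one] at this
  · intro h n
    have := h n
    rwa [← nsmul_single_one] at this

lemma val_coeff_mul_le {P : Place k K} {π : K} (hπ : P.1 π = exp (-1 : ℤ)) {p : K[X]}
    (hp : p ∈ RP P) (n : ℕ) : P.1 (p.coeff n * π ^ n) ≤ 1 := by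
  have h1 := (mem_L_single.mp (mem_RP.mp hp n)).1
  have h2 := (val_unif_mul_le_one_iff hπ (n : ℤ) (p.coeff n)).mpr h1
  rwa [zpow_natCast, mul_comm] at h2

section
variable [IsAlgClosed k] (hK : IsFunctionField k K) (P : Place k K)

/-- The leading-coefficient map on `K[X]`. -/
noncomputable def phi0 (π : K) (p : K[X]) : k[X] :=
  p.sum fun n a => monomial n (resK hK P (a * π ^ n))

lemma coeff_phi0 (π : K) (p : K[X]) (n : ℕ) :
    (phi0 hK P π p).coeff n = resK hK P (p.coeff n * π ^ n) := by
  unfold phi0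
  rw [Polynomial.sum_def, Polynomial.finsetSum_coeff]
  simp only [coeff_monomial]
  rw [Finset.sum_ite_eq']
  split_ifs with h
  · rfl
  · rw [notMem_support_iff.mp h, zero_mul, resK_zero]

/-- The leading-coefficient algebra hom `R_{X,P} → k[X]`. -/
noncomputable def phi {π : K} (hπ : P.1 π = exp (-1 : ℤ)) : RP P →ₐ[k] k[X] where
  toFun p := phi0 hK P π p.1
  map_one' := by
    ext n
    rw [coeff_phi0]
    show resK hK P ((1 : K[X]).coeff n * π ^ n) = _
    rw [coeff_one, coeff_one]
    split_ifs with h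
    · subst h; rw [pow_zero, mul_one, resK_one]
    · rw [zero_mul, resK_zero]
  map_mul' p q := by
    ext n
    rw [coeff_phi0, coeff_mul]
    show resK hK P ((p.1 * q.1).coeff n * π ^ n) = _
    rw [coeff_mul, Finset.sum_mul]
    have hterm : ∀ x ∈ Finset.HasAntidiagonal.antidiagonal n,
        p.1.coeff x.1 * q.1.coeff x.2 * π ^ n =
          (p.1.coeff x.1 * π ^ x.1) * (q.1.coeff x.2 * π ^ x.2) := by
      intro x hx
      rw [← Finset.HasAntidiagonal.mem_antidiagonal.mp hx, pow_add]; ring
    rw [Finset.sum_congr rfl hterm, resK_sum]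
    · refine Finset.sum_congr rfl fun x _ => ?_
      rw [coeff_phi0, coeff_phi0,
        resK_mul hK P (val_coeff_mul_le hπ p.2 x.1) (val_coeff_mul_le hπ q.2 x.2)]
    · intro x _
      rw [map_mul]
      exact mul_le_one' (val_coeff_mul_le hπ p.2 x.1) (val_coeff_mul_le hπ q.2 x.2)
  map_zero' := by
    ext n
    rw [coeff_phi0]
    show resK hK P ((0 : K[X]).coeff n * π ^ n) = _
    rw [coeff_zero, zero_mul, resK_zero, coeff_zero]
  map_add' p q := by
    ext n
    rw [coeff_phi0, coeff_add, coeff_phi0, coeff_phi0]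
    show resK hK P ((p.1 + q.1).coeff n * π ^ n) = _
    rw [coeff_add, add_mul,
      resK_add hK P (val_coeff_mul_le hπ p.2 n) (val_coeff_mul_le hπ q.2 n)]
  commutes' c := by
    ext n
    rw [coeff_phi0]
    show resK hK P ((algebraMap k K[X] c).coeff n * π ^ n) = _
    rw [Polynomial.algebraMap_apply, Polynomial.algebraMap_apply, coeff_C, coeff_C]
    split_ifs with h
    · subst h
      rw [pow_zero, mul_one, Algebra.algebraMap_self_apply, resK_algebraMap]
    · rw [zero_mul, resK_zero]

lemma coeff_phi {π : K} (hπ : P.1 π = exp (-1 : ℤ)) (p : RP P) (n : ℕ) :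
    (phi hK P hπ p).coeff n = resK hK P (p.1.coeff n * π ^ n) :=
  coeff_phi0 hK P π p.1 n

end

end Groth.Agent.Lib.Helper27Sect
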