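import Mathlib
import Groth.Agent.Lib.Helper27Sect2

/-! Section ring of a point: kernel and range of the leading-coefficient hom. -/

namespace Groth.Agent.Lib.Helper27Sect

open FunFld WithZero Polynomial Groth.Agent.Lib.LeadFF

variable {k K : Type*} [Field k] [Field K] [Algebra k K]

section
variable [IsAlgClosed k] (hK : IsFunctionField k K) (P : Place k K)

omit [IsAlgClosed k] in
include hK in
lemma exists_const_of_mem_L_zero {a : K}
    (ha : a ∈ L (Finsupp.single P (0 : ℤ) : Divisor k K)) : ∃ c : k, algebraMap k K c = a := by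
  rw [Finsupp.single_zero, L_zero hK] at ha
  exact Submodule.mem_one.mp ha

include hK in
lemma exists_const_of_mem_L_one (hg : 0 < genus k K) {a : K}
    (ha : a ∈ L (Finsupp.single P (1 : ℤ) : Divisor k K)) : ∃ c : k, algebraMap k K c = a := by
  have hgap := isGap_one hK hg P (deg_eq_one_of_algClosed hK P)
  unfold IsGap at hgap
  rw [Nat.cast_one, sub_self] at hgap
  rw [hgap] at ha
  exact exists_const_of_mem_L_zero hK P ha

lemma phi_t_eq_zero {π : K} (hπ : P.1 π = exp (-1 : ℤ)) (t : RP P) (c : k)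
    (ht : (t : K[X]) = C (algebraMap k K c) * X) : phi hK P hπ t = 0 := by
  ext n
  rw [coeff_phi, ht, coeff_zero, C_mul_X_eq_monomial, coeff_monomial]
  split_ifs with h
  · subst h
    have hlt : P.1 (algebraMap k K c * π ^ 1) < 1 := by
      rw [pow_one, map_mul]
      calc P.1 (algebraMap k K c) * P.1 π ≤ 1 * P.1 π := mul_le_mul' (P.2.1 c) le_rfl
        _ = P.1 π := one_mul _
        _ < 1 := unif_lt_one hπ
    exact (resK_eq_zero_iff hK P hlt.le).mpr hlt
  · rw [zero_mul, resK_zero]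

lemma mem_span_of_phi_eq_zero {π : K} (hπ : P.1 π = exp (-1 : ℤ)) (t : RP P) (c : k)
    (hc : c ≠ 0) (ht : (t : K[X]) = C (algebraMap k K c) * X) (p : RP P)
    (hp : phi hK P hπ p = 0) : p ∈ Ideal.span {t} := by
  have hcoef : ∀ n : ℕ, P.1 (p.1.coeff n) ≤ exp ((n : ℤ) - 1) := by
    intro n
    have h0 : resK hK P (p.1.coeff n * π ^ n) = 0 := by
      rw [← coeff_phi hK P hπ, hp, coeff_zero]
    rw [resK_eq_zero_iff hK P (val_coeff_mul_le hπ p.2 n)] at h0
    have := (val_unif_mul_lt_one_iff hπ (n : ℤ) (p.1.coeff n)).mp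
      (by rwa [zpow_natCast, mul_comm])
    exact zm0_lt_exp_iff.mp this
  have h0 : p.1.coeff 0 = 0 := by
    obtain ⟨c0, hc0⟩ := exists_const_of_mem_L_zero hK P (mem_RP.mp p.2 0)
    by_contra hne
    have hc0' : c0 ≠ 0 := by
      rintro rfl
      rw [map_zero] at hc0
      exact hne hc0.symm
    have h1 := hcoef 0
    rw [← hc0, place_trivOn P c0 hc0', ← exp_zero, exp_le_exp] at h1
    norm_num at h1
  have hq : divX p.1 ∈ RP P := by
    rw [mem_RP]
    intro n
    rw [coeff_divX]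
    refine mem_L_single.mpr ⟨(hcoef (n + 1)).trans_eq ?_, (mem_L_single.mp (mem_RP.mp p.2 (n + 1))).2⟩
    congr 1
    push_cast
    ring
  rw [Ideal.mem_span_singleton']
  refine ⟨c⁻¹ • ⟨divX p.1, hq⟩, ?_⟩
  apply Subtype.ext
  show (c⁻¹ • divX p.1) * (t : K[X]) = p.1
  have hd := divX_mul_X_add p.1
  rw [h0, map_zero, add_zero] at hd
  rw [ht, Algebra.smul_def, Polynomial.algebraMap_apply]
  have hcc : (C (algebraMap k K c⁻¹) : K[X]) * C (algebraMap k K c) = 1 := by
    rw [← C_mul, ← map_mul, inv_mul_cancel₀ hc, map_one, C_1]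
  calc C (algebraMap k K c⁻¹) * divX p.1 * (C (algebraMap k K c) * X)
      = (C (algebraMap k K c⁻¹) * C (algebraMap k K c)) * (divX p.1 * X) := by ring
    _ = p.1 := by rw [hcc, one_mul, hd]

lemma ker_phi {π : K} (hπ : P.1 π = exp (-1 : ℤ)) (t : RP P) (c : k)
    (hc : c ≠ 0) (ht : (t : K[X]) = C (algebraMap k K c) * X) :
    RingHom.ker (phi hK P hπ) = Ideal.span {t} := by
  apply le_antisymm
  · intro p hp
    exact mem_span_of_phi_eq_zero hK P hπ t c hc ht p ((RingHom.mem_ker).mp hp)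
  · rw [Ideal.span_singleton_le_iff_mem]
    exact (RingHom.mem_ker).mpr (phi_t_eq_zero hK P hπ t c ht)

lemma not_isGap_of_coeff_ne_zero {π : K} (hπ : P.1 π = exp (-1 : ℤ)) (p : RP P) (n : ℕ)
    (h : (phi hK P hπ p).coeff n ≠ 0) : ¬ IsGap P n := by
  rw [coeff_phi] at h
  have hle := val_coeff_mul_le hπ p.2 n
  have hnlt : ¬ P.1 (p.1.coeff n * π ^ n) < 1 := fun h' =>
    h ((resK_eq_zero_iff hK P hle).mpr h')
  have heq : P.1 (p.1.coeff n * π ^ n) = 1 := le_antisymm hle (not_lt.mp hnlt)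
  rw [not_isGap_iff]
  refine ⟨p.1.coeff n, ?_, (mem_L_single.mp (mem_RP.mp p.2 n)).2⟩
  have := val_unif_zpow_mul hπ (n : ℤ) (p.1.coeff n)
  rw [zpow_natCast, mul_comm, heq] at this
  have h2 := (eq_inv_mul_iff_mul_eq₀ (exp_ne_zero)).mp this
  rw [mul_one] at h2
  exact h2.symm

lemma X_pow_mem_range {π : K} (hπ : P.1 π = exp (-1 : ℤ)) {n : ℕ} (hn : ¬ IsGap P n) :
    (X : k[X]) ^ n ∈ (phi hK P hπ).range := by
  rw [not_isGap_iff] at hn
  obtain ⟨x, hx1, hx2⟩ := hn
  have hv : P.1 (x * π ^ n) = 1 := by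
    have := val_unif_zpow_mul hπ (n : ℤ) x
    rw [zpow_natCast, mul_comm, hx1] at this
    rw [this]
    exact inv_mul_cancel₀ exp_ne_zero
  have hu0 : resK hK P (x * π ^ n) ≠ 0 := by
    intro h
    rw [resK_eq_zero_iff hK P hv.le, hv] at h
    exact lt_irrefl _ h
  have hx : x ∈ L (Finsupp.single P (n : ℤ) : Divisor k K) := mem_L_single.mpr ⟨hx1.le, hx2⟩
  have hp : monomial n (algebraMap k K (resK hK P (x * π ^ n))⁻¹ * x) ∈ RP P := by
    rw [mem_RP]
    intro m
    rw [coeff_monomial]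
    split_ifs with h
    · subst h
      rw [← Algebra.smul_def]
      exact Submodule.smul_mem _ _ hx
    · exact zero_mem _
  refine (AlgHom.mem_range _).mpr ⟨⟨_, hp⟩, ?_⟩
  ext m
  rw [coeff_phi, coeff_X_pow]
  show resK hK P ((monomial n (algebraMap k K (resK hK P (x * π ^ n))⁻¹ * x)).coeff m * π ^ m) = _
  rw [coeff_monomial]
  by_cases h : n = m
  · subst h
    rw [if_pos rfl, if_pos rfl, mul_assoc, resK_smul hK P _ hv.le, inv_mul_cancel₀ hu0]
  · rw [if_neg h, if_neg (Ne.symm h), zero_mul, resK_zero]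

include hK in
lemma mem_poleOrders_iff (n : ℕ) : n ∈ W4c6gradedringsgw.poleOrders P ↔ ¬ IsGap P n := by
  have hP := deg_eq_one_of_algClosed hK P
  unfold W4c6gradedringsgw.poleOrders
  rw [Set.mem_ofPred_eq, nsmul_single_one, nsmul_single_one]
  cases n with
  | zero =>
    have h1 : L (Finsupp.single P (((0 : ℕ) : ℤ) - 1) : Divisor k K) = ⊥ :=
      L_eq_bot_of_deg_neg hK _ (by rw [deg_single, hP]; norm_num)
    have h2 : ell (Finsupp.single P (((0 : ℕ) : ℤ) - 1) : Divisor k K) = 0 := by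
      unfold ell; rw [h1]; exact finrank_bot k K
    have h3 : ell (Finsupp.single P ((0 : ℕ) : ℤ) : Divisor k K) = 1 := by
      rw [Nat.cast_zero, Finsupp.single_zero]; exact ell_zero hK
    rw [h2, h3]
    exact iff_of_true rfl (not_isGap_zero P)
  | succ m =>
    obtain ⟨h1, h2⟩ := ell_single_step hK P hP m
    have e1 : (((m + 1 : ℕ) : ℤ)) = (m : ℤ) + 1 := by push_cast; rfl
    have e2 : (((m + 1 : ℕ) : ℤ)) - 1 = (m : ℤ) := by push_cast; ring
    rw [e2, e1]
    constructor
    · intro h hgap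
      rw [h1 hgap] at h
      omega
    · exact h2

include hK in
lemma not_isGap_of_mem_closure {m : ℕ}
    (hm : m ∈ AddSubmonoid.closure (W4c6gradedringsgw.poleOrders P)) : ¬ IsGap P m := by
  induction hm using AddSubmonoid.closure_induction with
  | mem x hx => exact (mem_poleOrders_iff hK P x).mp hx
  | zero => exact not_isGap_zero P
  | add x y _ _ hx hy => exact not_isGap_add hx hy

end

/-- The inclusion of the semigroup algebra of a submonoid of `ℕ` into `k[X]`. -/
noncomputable def psi (M : AddSubmonoid ℕ) : AddMonoidAlgebra k ↥M →ₐ[k] k[X] :=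
  (Polynomial.toFinsuppIsoAlg k).symm.toAlgHom.comp
    (AddMonoidAlgebra.mapDomainAlgHom k k M.subtype)

lemma psi_single (M : AddSubmonoid ℕ) (m : M) (c : k) :
    psi M (AddMonoidAlgebra.single m c) = monomial (m : ℕ) c := by
  unfold psi
  rw [AlgHom.comp_apply, AddMonoidAlgebra.mapDomainAlgHom_apply,
    AddMonoidAlgebra.mapDomain_single]
  show (Polynomial.toFinsuppIsoAlg k).symm (AddMonoidAlgebra.single (m : ℕ) c) = _
  rw [AlgEquiv.symm_apply_eq]
  simp [Polynomial.toFinsuppIsoAlg]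

lemma psi_injective (M : AddSubmonoid ℕ) : Function.Injective (psi (k := k) M) := by
  unfold psi
  exact (Polynomial.toFinsuppIsoAlg k).symm.injective.comp
    (AddMonoidAlgebra.mapDomain_injective Subtype.val_injective)

end Groth.Agent.Lib.Helper27Sect
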