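import Mathlib
import Groth.Agent.Lib.Helper27Sect3

/-! Section ring of a point: `t` is prime and `R/tR ≅ k[H]`. -/

namespace Groth.Agent.Lib.Helper27Sect

open FunFld WithZero Polynomial Groth.Agent.Lib.LeadFF

variable {k K : Type*} [Field k] [Field K] [Algebra k K]

section
variable [IsAlgClosed k] (hK : IsFunctionField k K) (P : Place k K)

lemma range_phi_eq {π : K} (hπ : P.1 π = exp (-1 : ℤ)) :
    (phi hK P hπ).range =
      (psi (k := k) (AddSubmonoid.closure (W4c6gradedringsgw.poleOrders P))).range := by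
  apply le_antisymm
  · rintro _ ⟨p, rfl⟩
    show phi hK P hπ p ∈ _
    rw [(phi hK P hπ p).as_sum_support]
    refine Subalgebra.sum_mem _ fun n hn => ?_
    have hn' : n ∈ AddSubmonoid.closure (W4c6gradedringsgw.poleOrders P) :=
      AddSubmonoid.subset_closure ((mem_poleOrders_iff hK P n).mpr
        (not_isGap_of_coeff_ne_zero hK P hπ p n (mem_support_iff.mp hn)))
    exact (AlgHom.mem_range _).mpr ⟨AddMonoidAlgebra.single ⟨n, hn'⟩ _, psi_single _ _ _⟩
  · rintro _ ⟨x, rfl⟩
    show psi _ x ∈ _
    induction x using AddMonoidAlgebra.induction_linear with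
    | zero => rw [map_zero]; exact zero_mem _
    | add x y hx hy => rw [map_add]; exact add_mem hx hy
    | single m r =>
      rw [psi_single, ← smul_X_eq_monomial]
      exact Subalgebra.smul_mem _ (X_pow_mem_range hK P hπ (not_isGap_of_mem_closure hK P m.2)) r

include hK in
theorem prime_and_quotient (hg : 0 < genus k K) (t : RP P) (a : K) (ha : a ≠ 0)
    (ht : (t : K[X]) = C a * X) :
    Prime t ∧ Nonempty ((RP P ⧸ Ideal.span {t}) ≃ₐ[k]
      AddMonoidAlgebra k ↥(AddSubmonoid.closure (W4c6gradedringsgw.poleOrders P))) := by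
  obtain ⟨π, hπ⟩ := exists_unif P
  have hamem : a ∈ L (Finsupp.single P (1 : ℤ) : Divisor k K) := by
    have := mem_RP.mp t.2 1
    rw [ht, coeff_C_mul_X, if_pos rfl] at this
    simpa using this
  obtain ⟨c, hc⟩ := exists_const_of_mem_L_one hK P hg hamem
  have hc0 : c ≠ 0 := by
    rintro rfl
    rw [map_zero] at hc
    exact ha hc.symm
  rw [← hc] at ht
  have hker := ker_phi hK P hπ t c hc0 ht
  have ht0 : t ≠ 0 := by
    intro h
    have h1 : (t : K[X]) = 0 := by rw [h]; rfl
    rw [ht] at h1
    have h2 := congrArg (fun p => p.coeff 1) h1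
    simp only [coeff_C_mul_X, coeff_zero] at h2
    exact hc0 (by simpa using h2)
  constructor
  · rw [← Ideal.span_singleton_prime ht0, ← hker]
    exact RingHom.ker_isPrime _
  · refine ⟨?_⟩
    exact (Ideal.quotientEquivAlgOfEq k hker.symm).trans
      ((Ideal.quotientKerEquivRange (phi hK P hπ)).trans
        ((Subalgebra.equivOfEq _ _ (range_phi_eq hK P hπ)).trans
          (AlgEquiv.ofInjective _ (psi_injective _)).symm))

end

end Groth.Agent.Lib.Helper27Sect
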