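import Mathlib
import Groth.Agent.Lib.Helper27Sect4

/-! Section ring of a point: generators of the irrelevant ideal. -/

namespace Groth.Agent.Lib.Helper27Sect

open FunFld WithZero Polynomial Groth.Agent.Lib.LeadFF

variable {k K : Type*} [Field k] [Field K] [Algebra k K]

/-- All `n ≥ 2g` are non-gaps. -/
lemma not_isGap_of_large (hK : IsFunctionField k K) (P : Place k K) (hP : P.deg = 1) {n : ℕ}
    (hn : 2 * genus k K ≤ n) : ¬ IsGap P n := by
  rcases n with _ | m
  · exact not_isGap_zero P
  · intro hgap
    have h1 := (ell_single_step hK P hP m).1 hgap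
    have h2 := ell_of_deg_ge hK (Finsupp.single P ((m : ℤ) + 1)) (by
      rw [deg_single, hP]; push_cast; omega)
    have h3 := ell_of_deg_ge hK (Finsupp.single P (m : ℤ)) (by
      rw [deg_single, hP]; push_cast; omega)
    rw [deg_single, hP] at h2 h3
    push_cast at h2 h3
    omega

/-- Total version of homogeneous elements `f T^n` of the section ring. -/
noncomputable def mono (P : Place k K) (n : ℕ) (f : K) : RP P := by
  classical
  exact if h : f ∈ L (Finsupp.single P (n : ℤ) : Divisor k K) then
    ⟨monomial n f, mem_RP.mpr fun m => by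
      rw [coeff_monomial]
      split_ifs with h'
      · subst h'; exact h
      · exact zero_mem _⟩
  else 0

lemma mono_val {P : Place k K} {n : ℕ} {f : K}
    (hf : f ∈ L (Finsupp.single P (n : ℤ) : Divisor k K)) :
    ((mono P n f : RP P) : K[X]) = monomial n f := by
  unfold mono; rw [dif_pos hf]

lemma mono_add {P : Place k K} {n : ℕ} {f g : K}
    (hf : f ∈ L (Finsupp.single P (n : ℤ) : Divisor k K))
    (hg : g ∈ L (Finsupp.single P (n : ℤ) : Divisor k K)) :
    mono P n (f + g) = mono P n f + mono P n g := by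
  apply Subtype.ext
  show ((mono P n (f + g) : RP P) : K[X]) = ((mono P n f : RP P) : K[X]) + ((mono P n g : RP P) : K[X])
  rw [mono_val hf, mono_val hg, mono_val (add_mem hf hg), map_add]

lemma mono_smul {P : Place k K} {n : ℕ} {f : K} (c : k)
    (hf : f ∈ L (Finsupp.single P (n : ℤ) : Divisor k K)) :
    mono P n (c • f) = c • mono P n f := by
  apply Subtype.ext
  show ((mono P n (c • f) : RP P) : K[X]) = c • ((mono P n f : RP P) : K[X])
  rw [mono_val hf, mono_val (Submodule.smul_mem _ c hf), Algebra.smul_def, Algebra.smul_def,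
    Polynomial.algebraMap_apply, C_mul_monomial]

lemma mono_mul {P : Place k K} {m n : ℕ} {f g : K}
    (hf : f ∈ L (Finsupp.single P (m : ℤ) : Divisor k K))
    (hg : g ∈ L (Finsupp.single P (n : ℤ) : Divisor k K)) :
    mono P (m + n) (f * g) = mono P m f * mono P n g := by
  have hfg : f * g ∈ L (Finsupp.single P ((m + n : ℕ) : ℤ) : Divisor k K) := by
    have := W4c6gradedringsgw.mul_mem_L hf hg
    rwa [← Finsupp.single_add, ← Nat.cast_add] at this
  apply Subtype.ext
  show ((mono P (m + n) (f * g) : RP P) : K[X]) =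
    ((mono P m f : RP P) : K[X]) * ((mono P n g : RP P) : K[X])
  rw [mono_val hf, mono_val hg, mono_val hfg, monomial_mul_monomial]

lemma one_mem_L_single_one (P : Place k K) :
    (1 : K) ∈ L (Finsupp.single P ((1 : ℕ) : ℤ) : Divisor k K) := by
  rw [mem_L_single]
  refine ⟨?_, fun Q _ => by simp⟩
  rw [map_one, ← exp_zero, exp_le_exp]
  norm_num

/-- The degree-one element `T` of the section ring. -/
noncomputable def tX (P : Place k K) : RP P := mono P 1 1

lemma tX_val (P : Place k K) : ((tX P : RP P) : K[X]) = X := by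
  unfold tX
  rw [mono_val (one_mem_L_single_one P), monomial_one_one_eq_X]

lemma mem_L_pred_of_le {P : Place k K} {n : ℕ} {f : K}
    (hf : f ∈ L (Finsupp.single P ((n + 1 : ℕ) : ℤ) : Divisor k K))
    (hle : P.1 f ≤ exp (n : ℤ)) : f ∈ L (Finsupp.single P (n : ℤ) : Divisor k K) :=
  mem_L_single.mpr ⟨hle, (mem_L_single.mp hf).2⟩

lemma mono_succ_eq {P : Place k K} {n : ℕ} {f : K}
    (hf : f ∈ L (Finsupp.single P (n : ℤ) : Divisor k K)) :
    mono P (n + 1) f = tX P * mono P n f := by
  have := mono_mul (one_mem_L_single_one P) hf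
  rw [one_mul, add_comm] at this
  exact this

end Groth.Agent.Lib.Helper27Sect
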