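import Mathlib
import Groth.Agent.Lib.Helper27Sect5

/-! Section ring of a point: the irrelevant ideal is generated by `T` and lifts of the minimal
generators of the Weierstrass semigroup. -/

namespace Groth.Agent.Lib.Helper27Sect

open FunFld WithZero Polynomial Groth.Agent.Lib.LeadFF

variable {k K : Type*} [Field k] [Field K] [Algebra k K]

lemma val_mul_pow_le {P : Place k K} {π : K} (hπ : P.1 π = exp (-1 : ℤ)) {N : ℕ} {f : K}
    (hf : f ∈ L (Finsupp.single P (N : ℤ) : Divisor k K)) : P.1 (f * π ^ N) ≤ 1 := by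
  have h1 := (mem_L_single.mp hf).1
  have h2 := (val_unif_mul_le_one_iff hπ (N : ℤ) f).mpr h1
  rwa [zpow_natCast, mul_comm] at h2

lemma val_mul_pow_lt_iff {P : Place k K} {π : K} (hπ : P.1 π = exp (-1 : ℤ)) {N : ℕ} {f : K} :
    P.1 (f * π ^ N) < 1 ↔ P.1 f ≤ exp ((N : ℤ) - 1) := by
  have h2 := val_unif_mul_lt_one_iff hπ (N : ℤ) f
  rw [zpow_natCast, mul_comm] at h2
  rw [h2, zm0_lt_exp_iff]

lemma val_mul_pow_eq_one {P : Place k K} {π : K} (hπ : P.1 π = exp (-1 : ℤ)) {N : ℕ} {y : K}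
    (hy : P.1 y = exp (N : ℤ)) : P.1 (y * π ^ N) = 1 := by
  have := val_unif_zpow_mul hπ (N : ℤ) y
  rw [zpow_natCast, mul_comm, hy] at this
  rw [this]
  exact inv_mul_cancel₀ exp_ne_zero

section
variable [IsAlgClosed k] (hK : IsFunctionField k K) (P : Place k K)

lemma resK_sub {y z : K} (hy : P.1 y ≤ 1) (hz : P.1 z ≤ 1) :
    resK hK P (y - z) = resK hK P y - resK hK P z := by
  have hyz : P.1 (y - z) ≤ 1 := (Valuation.map_sub _ _ _).trans (max_le hy hz)
  have := resK_add hK P hyz hz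
  rw [sub_add_cancel] at this
  rw [this, add_sub_cancel_right]

omit [IsAlgClosed k] in
lemma mono_mem_of_val_le (I : Ideal (RP P)) (ht : tX P ∈ I) {n : ℕ} {f : K}
    (hf : f ∈ L (Finsupp.single P ((n + 1 : ℕ) : ℤ) : Divisor k K))
    (hle : P.1 f ≤ exp (n : ℤ)) : mono P (n + 1) f ∈ I := by
  rw [mono_succ_eq (mem_L_pred_of_le hf hle)]
  exact I.mul_mem_right _ ht

include hK in
lemma mono_mem_of_leading (I : Ideal (RP P)) (ht : tX P ∈ I) {n : ℕ} {y : K}
    (hy : y ∈ L (Finsupp.single P ((n + 1 : ℕ) : ℤ) : Divisor k K))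
    (hy1 : P.1 y = exp ((n + 1 : ℕ) : ℤ)) (hyI : mono P (n + 1) y ∈ I) {f : K}
    (hf : f ∈ L (Finsupp.single P ((n + 1 : ℕ) : ℤ) : Divisor k K)) :
    mono P (n + 1) f ∈ I := by
  obtain ⟨π, hπ⟩ := exists_unif P
  have hvy := val_mul_pow_eq_one hπ hy1
  have hu0 : resK hK P (y * π ^ (n + 1)) ≠ 0 := by
    intro h
    rw [resK_eq_zero_iff hK P hvy.le, hvy] at h
    exact lt_irrefl _ h
  set c : k := resK hK P (f * π ^ (n + 1)) / resK hK P (y * π ^ (n + 1)) with hc
  have hcy : c • y ∈ L (Finsupp.single P ((n + 1 : ℕ) : ℤ) : Divisor k K) :=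
    Submodule.smul_mem _ c hy
  have hg : f - c • y ∈ L (Finsupp.single P ((n + 1 : ℕ) : ℤ) : Divisor k K) := sub_mem hf hcy
  have hgv : P.1 ((f - c • y) * π ^ (n + 1)) < 1 := by
    rw [← resK_eq_zero_iff hK P (val_mul_pow_le hπ hg)]
    have e : (f - c • y) * π ^ (n + 1) = f * π ^ (n + 1) - algebraMap k K c * (y * π ^ (n + 1)) := by
      rw [Algebra.smul_def]; ring
    have hle2 : P.1 (algebraMap k K c * (y * π ^ (n + 1))) ≤ 1 := by
      rw [map_mul]; exact mul_le_one' (P.2.1 c) hvy.le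
    rw [e, resK_sub hK P (val_mul_pow_le hπ hf) hle2, resK_smul hK P c hvy.le, hc,
      div_mul_cancel₀ _ hu0, sub_self]
  have hle : P.1 (f - c • y) ≤ exp (n : ℤ) := by
    have := (val_mul_pow_lt_iff hπ).mp hgv
    refine this.trans_eq ?_
    congr 1
    push_cast
    ring
  have hsplit : mono P (n + 1) f = c • mono P (n + 1) y + mono P (n + 1) (f - c • y) := by
    rw [← mono_smul c hy, ← mono_add hcy hg]
    congr 1
    ring
  rw [hsplit]
  exact I.add_mem (Submodule.smul_of_tower_mem I c hyI) (mono_mem_of_val_le P I ht hg hle)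

include hK in
lemma mono_mem (I : Ideal (RP P)) (ht : tX P ∈ I)
    (hx : ∀ h ∈ W4c6gradedringsgw.minGens (W4c6gradedringsgw.poleOrders P),
      ∃ y : K, P.1 y = exp (h : ℤ) ∧ (∀ Q : Place k K, Q ≠ P → Q.1 y ≤ 1) ∧ mono P h y ∈ I) :
    ∀ n : ℕ, 1 ≤ n → ∀ f ∈ L (Finsupp.single P (n : ℤ) : Divisor k K), mono P n f ∈ I := by
  intro n
  induction n using Nat.strong_induction_on with
  | _ n ih =>
    intro hn f hf
    obtain ⟨m, rfl⟩ : ∃ m, n = m + 1 := ⟨n - 1, by omega⟩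
    by_cases hgap : IsGap P (m + 1)
    · unfold IsGap at hgap
      have h1 : f ∈ L (Finsupp.single P (((m + 1 : ℕ) : ℤ) - 1) : Divisor k K) := hgap ▸ hf
      have hle : P.1 f ≤ exp (m : ℤ) := by
        have := (mem_L_single.mp h1).1
        refine this.trans_eq ?_
        congr 1
        push_cast
        ring
      exact mono_mem_of_val_le P I ht hf hle
    · by_cases hmin : (m + 1) ∈ W4c6gradedringsgw.minGens (W4c6gradedringsgw.poleOrders P)
      · obtain ⟨y, hy1, hy2, hyI⟩ := hx _ hmin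
        exact mono_mem_of_leading hK P I ht (mem_L_single.mpr ⟨hy1.le, hy2⟩) hy1 hyI hf
      · have hH : (m + 1) ∈ W4c6gradedringsgw.poleOrders P := (mem_poleOrders_iff hK P _).mpr hgap
        obtain ⟨a, haH, b, hbH, ha0, hb0, hab⟩ : ∃ a ∈ W4c6gradedringsgw.poleOrders P,
            ∃ b ∈ W4c6gradedringsgw.poleOrders P, a ≠ 0 ∧ b ≠ 0 ∧ a + b = m + 1 := by
          by_contra hcon
          push Not at hcon
          exact hmin ⟨hH, by omega, fun a ha b hb ha0 hb0 hab => hcon a ha b hb ha0 hb0 hab⟩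
        obtain ⟨xa, hxa1, hxa2⟩ := (not_isGap_iff P a).mp ((mem_poleOrders_iff hK P a).mp haH)
        obtain ⟨xb, hxb1, hxb2⟩ := (not_isGap_iff P b).mp ((mem_poleOrders_iff hK P b).mp hbH)
        have hxaL : xa ∈ L (Finsupp.single P (a : ℤ) : Divisor k K) :=
          mem_L_single.mpr ⟨hxa1.le, hxa2⟩
        have hxbL : xb ∈ L (Finsupp.single P (b : ℤ) : Divisor k K) :=
          mem_L_single.mpr ⟨hxb1.le, hxb2⟩
        have hIa : mono P a xa ∈ I := ih a (by omega) (by omega) xa hxaL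
        have hprod : mono P (a + b) (xa * xb) ∈ I := by
          rw [mono_mul hxaL hxbL]; exact I.mul_mem_right _ hIa
        have hv : P.1 (xa * xb) = exp ((a + b : ℕ) : ℤ) := by
          rw [map_mul, hxa1, hxb1, ← exp_add, ← Nat.cast_add]
        have hyL : xa * xb ∈ L (Finsupp.single P ((a + b : ℕ) : ℤ) : Divisor k K) :=
          mem_L_single.mpr ⟨hv.le, fun Q hQ => by
            rw [map_mul]; exact mul_le_one' (hxa2 Q hQ) (hxb2 Q hQ)⟩
        rw [hab] at hprod hv hyL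
        exact mono_mem_of_leading hK P I ht hyL hv hprod hf

include hK in
lemma mem_of_coeff_zero (I : Ideal (RP P)) (ht : tX P ∈ I)
    (hx : ∀ h ∈ W4c6gradedringsgw.minGens (W4c6gradedringsgw.poleOrders P),
      ∃ y : K, P.1 y = exp (h : ℤ) ∧ (∀ Q : Place k K, Q ≠ P → Q.1 y ≤ 1) ∧ mono P h y ∈ I)
    (p : RP P) (hp : p.1.coeff 0 = 0) : p ∈ I := by
  have hsum : p = ∑ n ∈ p.1.support, mono P n (p.1.coeff n) := by
    apply Subtype.ext
    rw [AddSubmonoidClass.coe_finsetSum]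
    conv_lhs => rw [p.1.as_sum_support]
    refine Finset.sum_congr rfl fun n _ => ?_
    rw [mono_val (mem_RP.mp p.2 n)]
  rw [hsum]
  refine I.sum_mem fun n hn => ?_
  have hn0 : n ≠ 0 := by
    rintro rfl
    exact (mem_support_iff.mp hn) hp
  exact mono_mem hK P I ht hx n (by omega) _ (mem_RP.mp p.2 n)

end

end Groth.Agent.Lib.Helper27Sect
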