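import Mathlib
import Groth.Agent.Lib.Helper27Sect6

/-! Section ring of a point: embedding dimension `= emb(H) + 1`. -/

namespace Groth.Agent.Lib.Helper27Sect

open FunFld WithZero Polynomial Groth.Agent.Lib.LeadFF

variable {k K : Type*} [Field k] [Field K] [Algebra k K]

/-- The irrelevant ideal of the section ring. -/
noncomputable abbrev irr (P : Place k K) : Ideal (RP P) :=
  RingHom.ker (Polynomial.constantCoeff.comp (RP P).val.toRingHom)

lemma mem_irr {P : Place k K} {p : RP P} : p ∈ irr P ↔ p.1.coeff 0 = 0 := by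
  rw [RingHom.mem_ker, RingHom.comp_apply, constantCoeff_apply]
  rfl

section
variable [IsAlgClosed k] (hK : IsFunctionField k K) (P : Place k K)

open Classical in
/-- The linear functionals detecting `m/m²`. -/
noncomputable def Lam {π : K} (hπ : P.1 π = exp (-1 : ℤ)) (p : RP P) : ℕ → k := fun n =>
  if n = 1 then resK hK P (p.1.coeff 1)
  else if n ∈ W4c6gradedringsgw.minGens (W4c6gradedringsgw.poleOrders P) then
    (phi hK P hπ p).coeff n else 0

lemma Lam_zero {π : K} (hπ : P.1 π = exp (-1 : ℤ)) : Lam hK P hπ 0 = 0 := by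
  funext n
  unfold Lam
  split_ifs
  · show resK hK P ((0 : K[X]).coeff 1) = 0
    rw [coeff_zero, resK_zero]
  · rw [map_zero, coeff_zero]; rfl
  · rfl

include hK in
lemma val_coeff_one_le (hg : 0 < genus k K) (p : RP P) : P.1 (p.1.coeff 1) ≤ 1 := by
  have h1 : p.1.coeff 1 ∈ L (Finsupp.single P (1 : ℤ) : Divisor k K) := by
    simpa using mem_RP.mp p.2 1
  obtain ⟨c, hc⟩ := exists_const_of_mem_L_one hK P hg h1
  rw [← hc]
  exact P.2.1 c

omit [IsAlgClosed k] in
lemma val_coeff_zero_le (p : RP P) : P.1 (p.1.coeff 0) ≤ 1 := by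
  have h1 := (mem_L_single.mp (mem_RP.mp p.2 0)).1
  simpa using h1

lemma Lam_add (hg : 0 < genus k K) {π : K} (hπ : P.1 π = exp (-1 : ℤ)) (p q : RP P) :
    Lam hK P hπ (p + q) = Lam hK P hπ p + Lam hK P hπ q := by
  funext n
  rw [Pi.add_apply]
  unfold Lam
  split_ifs
  · show resK hK P ((p.1 + q.1).coeff 1) = _
    rw [coeff_add, resK_add hK P (val_coeff_one_le hK P hg p) (val_coeff_one_le hK P hg q)]
  · rw [map_add, coeff_add]
  · rw [add_zero]

lemma Lam_mul (hg : 0 < genus k K) {π : K} (hπ : P.1 π = exp (-1 : ℤ)) (q p : RP P)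
    (hp : p.1.coeff 0 = 0) :
    Lam hK P hπ (q * p) = resK hK P (q.1.coeff 0) • Lam hK P hπ p := by
  funext n
  rw [Pi.smul_apply, smul_eq_mul]
  unfold Lam
  split_ifs with h1 h2
  · show resK hK P ((q.1 * p.1).coeff 1) = _
    rw [mul_coeff_one, hp, mul_zero, add_zero,
      resK_mul hK P (val_coeff_zero_le P q) (val_coeff_one_le hK P hg p)]
  · rw [map_mul, coeff_mul]
    rw [Finset.sum_eq_single (0, n)]
    · rw [coeff_phi, pow_zero, mul_one]
    · rintro ⟨i, j⟩ hij hne
      have hsum : i + j = n := Finset.HasAntidiagonal.mem_antidiagonal.mp hij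
      by_contra hprod
      have hi : (phi hK P hπ q).coeff i ≠ 0 := left_ne_zero_of_mul hprod
      have hj : (phi hK P hπ p).coeff j ≠ 0 := right_ne_zero_of_mul hprod
      have hj0 : j ≠ 0 := by
        rintro rfl
        apply hj
        rw [coeff_phi, hp, zero_mul, resK_zero]
      have hi0 : i ≠ 0 := by
        rintro rfl
        apply hne
        rw [zero_add] at hsum
        rw [hsum]
      have hiH := (mem_poleOrders_iff hK P i).mpr (not_isGap_of_coeff_ne_zero hK P hπ q i hi)
      have hjH := (mem_poleOrders_iff hK P j).mpr (not_isGap_of_coeff_ne_zero hK P hπ p j hj)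
      exact h2.2.2 i hiH j hjH hi0 hj0 hsum
    · intro h
      exact absurd (Finset.HasAntidiagonal.mem_antidiagonal.mpr (zero_add n)) h
  · rw [mul_zero]

lemma Lam_tX (hg : 0 < genus k K) {π : K} (hπ : P.1 π = exp (-1 : ℤ)) :
    Lam hK P hπ (tX P) = Pi.single 1 1 := by
  funext n
  unfold Lam
  have h1gap := isGap_one hK hg P (deg_eq_one_of_algClosed hK P)
  split_ifs with h1 h2
  · subst h1
    rw [tX_val, coeff_X_one, resK_one, Pi.single_eq_same]
  · rw [coeff_phi, tX_val, coeff_X, if_neg (Ne.symm h1), zero_mul, resK_zero,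
      Pi.single_eq_of_ne h1]
  · rw [Pi.single_eq_of_ne h1]

lemma Lam_mono (hg : 0 < genus k K) {π : K} (hπ : P.1 π = exp (-1 : ℤ)) {h : ℕ}
    (hh : h ∈ W4c6gradedringsgw.minGens (W4c6gradedringsgw.poleOrders P)) {y : K}
    (hy : y ∈ L (Finsupp.single P (h : ℤ) : Divisor k K)) :
    Lam hK P hπ (mono P h y) = resK hK P (y * π ^ h) • Pi.single h 1 := by
  have h1gap := isGap_one hK hg P (deg_eq_one_of_algClosed hK P)
  have hh1 : h ≠ 1 := by
    rintro rfl
    exact ((mem_poleOrders_iff hK P 1).mp hh.1) h1gap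
  funext n
  rw [Pi.smul_apply, smul_eq_mul]
  unfold Lam
  split_ifs with h1 h2
  · subst h1
    rw [mono_val hy, coeff_monomial, if_neg hh1, resK_zero, Pi.single_eq_of_ne (Ne.symm hh1),
      mul_zero]
  · rw [coeff_phi, mono_val hy, coeff_monomial]
    by_cases hn : h = n
    · subst hn
      rw [if_pos rfl, Pi.single_eq_same, mul_one]
    · rw [if_neg hn, zero_mul, resK_zero, Pi.single_eq_of_ne (Ne.symm hn), mul_zero]
  · have hn : n ≠ h := by
      rintro rfl
      exact h2 hh
    rw [Pi.single_eq_of_ne hn, mul_zero]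

end

end Groth.Agent.Lib.Helper27Sect
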