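import Mathlib
import Groth.Agent.Lib.Helper27Sect7

/-! Section ring of a point: embedding dimension `= emb(H) + 1`, assembly. -/

namespace Groth.Agent.Lib.Helper27Sect

open FunFld WithZero Polynomial Groth.Agent.Lib.LeadFF

variable {k K : Type*} [Field k] [Field K] [Algebra k K]

section
variable [IsAlgClosed k] (hK : IsFunctionField k K) (P : Place k K)

include hK in
theorem card_le_of_span (hg : 0 < genus k K) (S : Finset (RP P))
    (hS : Ideal.span (S : Set (RP P)) = irr P) (F : Finset ℕ)
    (hF : ∀ n ∈ F, n ∈ W4c6gradedringsgw.minGens (W4c6gradedringsgw.poleOrders P)) :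
    F.card + 1 ≤ S.card := by
  classical
  obtain ⟨π, hπ⟩ := exists_unif P
  have h1gap := isGap_one hK hg P (deg_eq_one_of_algClosed hK P)
  let T : Finset (ℕ → k) := S.image (Lam hK P hπ)
  have key : ∀ p ∈ Ideal.span (S : Set (RP P)),
      Lam hK P hπ p ∈ Submodule.span k (T : Set (ℕ → k)) := by
    intro p hp
    induction hp using Submodule.span_induction with
    | mem x hx =>
      exact Submodule.subset_span (Finset.mem_coe.mpr (Finset.mem_image_of_mem _ hx))
    | zero => rw [Lam_zero]; exact zero_mem _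
    | add x y hx hy ihx ihy => rw [Lam_add hK P hg]; exact add_mem ihx ihy
    | smul a x hx ih =>
      have hxm : x ∈ irr P := hS ▸ hx
      rw [smul_eq_mul, Lam_mul hK P hg hπ a x (mem_irr.mp hxm)]
      exact Submodule.smul_mem _ _ ih
  have h1F : 1 ∉ F := fun h => ((mem_poleOrders_iff hK P 1).mp (hF 1 h).1) h1gap
  let N : Finset ℕ := insert 1 F
  let v : ↥N → (ℕ → k) := fun n => Pi.single n.1 1
  have hv : LinearIndependent k v :=
    (Pi.linearIndependent_single_one ℕ k).comp Subtype.val Subtype.val_injective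
  have hrange : Set.range v ≤ Submodule.span k (T : Set (ℕ → k)) := by
    rintro _ ⟨⟨n, hn⟩, rfl⟩
    show (Pi.single n 1 : ℕ → k) ∈ _
    rcases Finset.mem_insert.mp hn with rfl | hnF
    · rw [← Lam_tX hK P hg hπ]
      apply key
      rw [hS, mem_irr, tX_val, coeff_X_zero]
    · have hmin := hF n hnF
      obtain ⟨y, hy1, hy2⟩ := (not_isGap_iff P n).mp ((mem_poleOrders_iff hK P n).mp hmin.1)
      have hyL : y ∈ L (Finsupp.single P (n : ℤ) : Divisor k K) := mem_L_single.mpr ⟨hy1.le, hy2⟩
      have hvy := val_mul_pow_eq_one hπ hy1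
      have hu0 : resK hK P (y * π ^ n) ≠ 0 := by
        intro h
        rw [resK_eq_zero_iff hK P hvy.le, hvy] at h
        exact lt_irrefl _ h
      have hmem : Lam hK P hπ (mono P n y) ∈ Submodule.span k (T : Set (ℕ → k)) := by
        apply key
        rw [hS, mem_irr, mono_val hyL, coeff_monomial, if_neg hmin.2.1]
      rw [Lam_mono hK P hg hπ hmin hyL] at hmem
      have := Submodule.smul_mem _ (resK hK P (y * π ^ n))⁻¹ hmem
      rwa [smul_smul, inv_mul_cancel₀ hu0, one_smul] at this
  have hcard := linearIndependent_le_span' v hv (T : Set (ℕ → k)) hrange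
  simp only [Cardinal.mk_fintype, Finset.coe_sort_coe, Fintype.card_coe, Nat.cast_le] at hcard
  have hN : N.card = F.card + 1 := Finset.card_insert_of_notMem h1F
  rw [hN] at hcard
  exact hcard.trans Finset.card_image_le

include hK in
lemma minGens_finite :
    (W4c6gradedringsgw.minGens (W4c6gradedringsgw.poleOrders P)).Finite := by
  have hP := deg_eq_one_of_algClosed hK P
  apply Set.Finite.subset (Finset.range (4 * genus k K + 2)).finite_toSet
  intro h hh
  rw [Finset.mem_coe, Finset.mem_range]
  by_contra hlt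
  push Not at hlt
  have ha : 2 * genus k K + 1 ∈ W4c6gradedringsgw.poleOrders P :=
    (mem_poleOrders_iff hK P _).mpr (not_isGap_of_large hK P hP (by omega))
  have hb : h - (2 * genus k K + 1) ∈ W4c6gradedringsgw.poleOrders P :=
    (mem_poleOrders_iff hK P _).mpr (not_isGap_of_large hK P hP (by omega))
  exact hh.2.2 _ ha _ hb (by omega) (by omega) (by omega)

include hK in
theorem spanFinrank_irr (hg : 0 < genus k K) :
    (irr P).spanFinrank =
      Set.ncard (W4c6gradedringsgw.minGens (W4c6gradedringsgw.poleOrders P)) + 1 := by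
  classical
  have hfin := minGens_finite hK P
  have hex : ∀ h : ℕ, ∃ x : K, h ∈ W4c6gradedringsgw.minGens (W4c6gradedringsgw.poleOrders P) →
      (P.1 x = exp (h : ℤ) ∧ ∀ Q : Place k K, Q ≠ P → Q.1 x ≤ 1) := by
    intro h
    by_cases hh : h ∈ W4c6gradedringsgw.minGens (W4c6gradedringsgw.poleOrders P)
    · obtain ⟨x, hx⟩ := (not_isGap_iff P h).mp ((mem_poleOrders_iff hK P h).mp hh.1)
      exact ⟨x, fun _ => hx⟩
    · exact ⟨0, fun h' => absurd h' hh⟩
  choose x hx using hex
  let G : Set (RP P) := insert (tX P)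
    ((fun h => mono P h (x h)) '' W4c6gradedringsgw.minGens (W4c6gradedringsgw.poleOrders P))
  have hGfin : G.Finite := (hfin.image _).insert _
  have hspan : Ideal.span G = irr P := by
    apply le_antisymm
    · rw [Ideal.span_le]
      rintro g (rfl | ⟨h, hh, rfl⟩)
      · rw [SetLike.mem_coe, mem_irr, tX_val, coeff_X_zero]
      · have hyL : x h ∈ L (Finsupp.single P (h : ℤ) : Divisor k K) :=
          mem_L_single.mpr ⟨(hx h hh).1.le, (hx h hh).2⟩
        show mono P h (x h) ∈ irr P
        rw [mem_irr, mono_val hyL, coeff_monomial, if_neg hh.2.1]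
    · intro p hp
      refine mem_of_coeff_zero hK P _ (Ideal.subset_span (Set.mem_insert _ _)) ?_ p (mem_irr.mp hp)
      intro h hh
      exact ⟨x h, (hx h hh).1, (hx h hh).2,
        Ideal.subset_span (Set.mem_insert_of_mem _ ⟨h, hh, rfl⟩)⟩
  apply le_antisymm
  · rw [← hspan]
    refine (Submodule.spanFinrank_span_le_ncard_of_finite hGfin).trans ?_
    refine (Set.ncard_insert_le _ _).trans ?_
    exact Nat.add_le_add_right (Set.ncard_image_le hfin) 1
  · have hFG : (irr P).FG := by
      rw [← hspan]
      exact ⟨hGfin.toFinset, by rw [Set.Finite.coe_toFinset]⟩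
    obtain ⟨S, hS1, hS2⟩ := Submodule.FG.exists_span_finset_card_eq_spanFinrank hFG
    have := card_le_of_span hK P hg S hS2 hfin.toFinset (fun n hn => (Set.Finite.mem_toFinset hfin).mp hn)
    rw [Set.ncard_eq_toFinset_card _ hfin]
    omega

end

end Groth.Agent.Lib.Helper27Sect
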