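import Groth.Agent.Lib.Helper27SegreMap

/-!
# The Segre map is a closed immersion (helper27)
-/

set_option autoImplicit false
set_option linter.unusedSectionVars false
universe u

open CategoryTheory CategoryTheory.Limits AlgebraicGeometry TopologicalSpace Opposite
  HomogeneousLocalization MvPolynomial

namespace Groth.Agent.Lib.Helper27SegreMap

open Groth.Agent.Helper13Dehom Groth.Agent.Helper13AffMor Groth.Agent.Helper13ProjUP
open Groth.Agent.Lib.Helper27ProjSpaceBC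

section Gen
variable {Y Z T : Scheme.{u}}

theorem resLE_toAff {U : Z.Opens} (hU : IsAffineOpen U) (g : Y ⟶ T) {V : T.Opens} {V' : Y.Opens}
    (hle : V' ≤ g ⁻¹ᵁ V) (φ : Γ(Z, U) ⟶ Γ(T, V)) :
    g.resLE V V' hle ≫ toAff hU φ = toAff hU (φ ≫ g.appLE V V' hle) := by
  unfold toAff
  rw [Spec.map_comp, ← Category.assoc, ← Scheme.Opens.toSpecΓ_SpecMap_appLE, Category.assoc,
    Category.assoc]

/-- a morphism to an affine scheme, on an open. -/
theorem ι_comp_toSpec {B : CommRingCat.{u}} (g : T ⟶ Spec B) (V : T.Opens) :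
    V.ι ≫ g = V.toSpecΓ ≫ Spec.map ((Scheme.ΓSpecIso B).inv ≫ g.appLE ⊤ V le_top) := by
  rw [ι_comp_eq_toAff (isAffineOpen_top (Spec B)) g le_top]
  unfold toAff
  rw [IsAffineOpen.fromSpec_top, Scheme.isoSpec_Spec_inv, ← Spec.map_comp]

end Gen

section Const
variable {R A : Type u} [CommRing R] [CommRing A] [Algebra R A] {𝒜 : ℕ → Submodule R A}
  [GradedAlgebra 𝒜]
variable {T : Scheme.{u}} (p : T ⟶ Proj 𝒜)

theorem strMap_appLE {f : A} (hf : f ∈ 𝒜 1) {V : T.Opens}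
    (hV : V ≤ p ⁻¹ᵁ Proj.basicOpen 𝒜 f) :
    strMap hf ≫ p.appLE (Proj.basicOpen 𝒜 f) V hV =
      (Scheme.ΓSpecIso (CommRingCat.of R)).inv ≫ (p ≫ toBase 𝒜).appLE ⊤ V le_top := by
  apply toSpecΓ_SpecMap_injective
  rw [← ι_comp_toSpec, ← toAff_toBase, ← ι_comp_eq_toAff (isAffineOpen_basicOpen hf) p hV,
    Category.assoc]

theorem appLE_top_congr {B : CommRingCat.{u}} {g g' : T ⟶ Spec B} (h : g = g') (V : T.Opens) :
    g.appLE ⊤ V le_top = g'.appLE ⊤ V le_top := by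
  subst h
  rfl

theorem pbF_algebraMap_eq {B : Type u} [CommRing B] [Algebra R B] {ℬ : ℕ → Submodule R B}
    [GradedAlgebra ℬ] (p₂ : T ⟶ Proj ℬ) (h : p ≫ toBase 𝒜 = p₂ ≫ toBase ℬ)
    {f : A} (hf : f ∈ 𝒜 1) {g : B} (hg : g ∈ ℬ 1) {V : T.Opens}
    (hV1 : V ≤ p ⁻¹ᵁ Proj.basicOpen 𝒜 f) (hV2 : V ≤ p₂ ⁻¹ᵁ Proj.basicOpen ℬ g) (c : R) :
    pbF p hf hV1 (algebraMap R A c) = pbF p₂ hg hV2 (algebraMap R B c) := by
  have h1 : pbF p hf hV1 (algebraMap R A c) =
      (strMap hf ≫ p.appLE (Proj.basicOpen 𝒜 f) V hV1).hom c := rfl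
  have h2 : pbF p₂ hg hV2 (algebraMap R B c) =
      (strMap hg ≫ p₂.appLE (Proj.basicOpen ℬ g) V hV2).hom c := rfl
  rw [h1, h2, strMap_appLE, strMap_appLE, appLE_top_congr h]

end Const

section Closed
variable {n m N : ℕ} {R : Type u} [CommRing R] (e : Fin (n + 1) × Fin (m + 1) ≃ Fin (N + 1))
variable {T : Scheme.{u}} (p₁ : T ⟶ Proj (CohB1.polyGrading n R))
  (p₂ : T ⟶ Proj (CohB1.polyGrading m R))
variable (ij : Fin (n + 1) × Fin (m + 1))

/-- `x_k ↦ z_kj / z_ij`. -/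
noncomputable def psi₁ : MvPolynomial (Fin (n + 1)) R →+*
    Γ(Proj (CohB1.polyGrading N R), Proj.basicOpen (CohB1.polyGrading N R) (X (e ij))) :=
  eval₂Hom ((dehom (hX N R (e ij))).comp C)
    (fun k => dehom (hX N R (e ij)) (X (e (k, ij.2))))

/-- `y_l ↦ z_il / z_ij`. -/
noncomputable def psi₂ : MvPolynomial (Fin (m + 1)) R →+*
    Γ(Proj (CohB1.polyGrading N R), Proj.basicOpen (CohB1.polyGrading N R) (X (e ij))) :=
  eval₂Hom ((dehom (hX N R (e ij))).comp C)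
    (fun l => dehom (hX N R (e ij)) (X (e (ij.1, l))))

theorem psi₁_C (c : R) : psi₁ e ij (C c) = dehom (hX N R (e ij)) (C c) := by
  unfold psi₁
  rw [coe_eval₂Hom, eval₂_C]
  rfl

theorem psi₁_X (k : Fin (n + 1)) :
    psi₁ e ij (X k) = dehom (hX N R (e ij)) (X (e (k, ij.2))) := by
  unfold psi₁
  rw [coe_eval₂Hom, eval₂_X]

theorem psi₂_C (c : R) : psi₂ e ij (C c) = dehom (hX N R (e ij)) (C c) := by
  unfold psi₂
  rw [coe_eval₂Hom, eval₂_C]
  rfl

theorem psi₂_X (l : Fin (m + 1)) :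
    psi₂ e ij (X l) = dehom (hX N R (e ij)) (X (e (ij.1, l))) := by
  unfold psi₂
  rw [coe_eval₂Hom, eval₂_X]

theorem exists_chi₁ :
    ∃ χ : Γ(Proj (CohB1.polyGrading n R), Proj.basicOpen (CohB1.polyGrading n R) (X ij.1)) →+*
        Γ(Proj (CohB1.polyGrading N R), Proj.basicOpen (CohB1.polyGrading N R) (X (e ij))),
      ∀ a, χ (dehom (hX n R ij.1) a) = psi₁ e ij a :=
  exists_dehomLift (hX n R ij.1) (psi₁ e ij) (by rw [psi₁_X, Prod.mk.eta, dehom_self])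

theorem exists_chi₂ :
    ∃ χ : Γ(Proj (CohB1.polyGrading m R), Proj.basicOpen (CohB1.polyGrading m R) (X ij.2)) →+*
        Γ(Proj (CohB1.polyGrading N R), Proj.basicOpen (CohB1.polyGrading N R) (X (e ij))),
      ∀ a, χ (dehom (hX m R ij.2) a) = psi₂ e ij a :=
  exists_dehomLift (hX m R ij.2) (psi₂ e ij) (by rw [psi₂_X, Prod.mk.eta, dehom_self])

/-- the retraction on functions, first factor. -/
noncomputable def chi₁Hom :
    Γ(Proj (CohB1.polyGrading n R), Proj.basicOpen (CohB1.polyGrading n R) (X ij.1)) ⟶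
      Γ(Proj (CohB1.polyGrading N R), Proj.basicOpen (CohB1.polyGrading N R) (X (e ij))) :=
  CommRingCat.ofHom
    (R := Γ(Proj (CohB1.polyGrading n R), Proj.basicOpen (CohB1.polyGrading n R) (X ij.1)))
    (S := Γ(Proj (CohB1.polyGrading N R), Proj.basicOpen (CohB1.polyGrading N R) (X (e ij))))
    (exists_chi₁ e ij).choose

/-- the retraction on functions, second factor. -/
noncomputable def chi₂Hom :
    Γ(Proj (CohB1.polyGrading m R), Proj.basicOpen (CohB1.polyGrading m R) (X ij.2)) ⟶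
      Γ(Proj (CohB1.polyGrading N R), Proj.basicOpen (CohB1.polyGrading N R) (X (e ij))) :=
  CommRingCat.ofHom
    (R := Γ(Proj (CohB1.polyGrading m R), Proj.basicOpen (CohB1.polyGrading m R) (X ij.2)))
    (S := Γ(Proj (CohB1.polyGrading N R), Proj.basicOpen (CohB1.polyGrading N R) (X (e ij))))
    (exists_chi₂ e ij).choose

theorem chi₁Hom_dehom (a : MvPolynomial (Fin (n + 1)) R) :
    (chi₁Hom e ij).hom (dehom (hX n R ij.1) a) = psi₁ e ij a :=
  (exists_chi₁ e ij).choose_spec a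

theorem chi₂Hom_dehom (a : MvPolynomial (Fin (m + 1)) R) :
    (chi₂Hom e ij).hom (dehom (hX m R ij.2) a) = psi₂ e ij a :=
  (exists_chi₂ e ij).choose_spec a

/-- the retraction, first component. -/
noncomputable def pi₁ :
    ((Proj.basicOpen (CohB1.polyGrading N R) (X (e ij)) : (Proj (CohB1.polyGrading N R)).Opens) :
      Scheme.{u}) ⟶ Proj (CohB1.polyGrading n R) :=
  toAff (isAffineOpen_basicOpen (hX n R ij.1)) (chi₁Hom e ij)

/-- the retraction, second component. -/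
noncomputable def pi₂ :
    ((Proj.basicOpen (CohB1.polyGrading N R) (X (e ij)) : (Proj (CohB1.polyGrading N R)).Opens) :
      Scheme.{u}) ⟶ Proj (CohB1.polyGrading m R) :=
  toAff (isAffineOpen_basicOpen (hX m R ij.2)) (chi₂Hom e ij)

theorem pi₁_toBase :
    pi₁ e ij ≫ toBase (CohB1.polyGrading n R) =
      (Proj.basicOpen (CohB1.polyGrading N R) (X (e ij))).toSpecΓ ≫
        Spec.map (strMap (hX N R (e ij))) := by
  unfold pi₁
  rw [toAff_toBase]
  congr 2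
  ext c
  change (chi₁Hom e ij).hom (dehom (hX n R ij.1) (C c)) = dehom (hX N R (e ij)) (C c)
  rw [chi₁Hom_dehom, psi₁_C]

theorem pi₂_toBase :
    pi₂ e ij ≫ toBase (CohB1.polyGrading m R) =
      (Proj.basicOpen (CohB1.polyGrading N R) (X (e ij))).toSpecΓ ≫
        Spec.map (strMap (hX N R (e ij))) := by
  unfold pi₂
  rw [toAff_toBase]
  congr 2
  ext c
  change (chi₂Hom e ij).hom (dehom (hX m R ij.2) (C c)) = dehom (hX N R (e ij)) (C c)
  rw [chi₂Hom_dehom, psi₂_C]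

theorem chi₁_phi :
    chi₁Hom e ij ≫ phiHom e p₁ p₂ ij =
      p₁.appLE (Proj.basicOpen (CohB1.polyGrading n R) (X ij.1)) (W p₁ p₂ ij)
        (W_le₁ p₁ p₂ ij) := by
  have key : ((phiHom e p₁ p₂ ij).hom.comp (psi₁ e ij) : MvPolynomial (Fin (n + 1)) R →+* _) =
      pbF p₁ (hX n R ij.1) (W_le₁ p₁ p₂ ij) := by
    apply MvPolynomial.ringHom_ext
    · intro c
      rw [RingHom.comp_apply, psi₁_C, phiHom_dehom, psi_C]
      rfl
    · intro k
      rw [RingHom.comp_apply, psi₁_X, phiHom_dehom, psi_X]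
      unfold cfun
      rw [Equiv.symm_apply_apply, pbF_self, mul_one]
  ext r
  obtain ⟨d, a, ha, rfl⟩ := exists_dehom_eq (hX n R ij.1) r
  change (phiHom e p₁ p₂ ij).hom ((chi₁Hom e ij).hom (dehom _ a)) = pbF p₁ _ _ a
  rw [chi₁Hom_dehom]
  exact congrArg (fun φ => φ a) key

theorem chi₂_phi (h : p₁ ≫ toBase (CohB1.polyGrading n R) = p₂ ≫ toBase (CohB1.polyGrading m R)) :
    chi₂Hom e ij ≫ phiHom e p₁ p₂ ij =
      p₂.appLE (Proj.basicOpen (CohB1.polyGrading m R) (X ij.2)) (W p₁ p₂ ij)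
        (W_le₂ p₁ p₂ ij) := by
  have key : ((phiHom e p₁ p₂ ij).hom.comp (psi₂ e ij) : MvPolynomial (Fin (m + 1)) R →+* _) =
      pbF p₂ (hX m R ij.2) (W_le₂ p₁ p₂ ij) := by
    apply MvPolynomial.ringHom_ext
    · intro c
      rw [RingHom.comp_apply, psi₂_C, phiHom_dehom, psi_C]
      exact pbF_algebraMap_eq p₁ p₂ h (hX n R ij.1) (hX m R ij.2) _ _ c
    · intro l
      rw [RingHom.comp_apply, psi₂_X, phiHom_dehom, psi_X]
      unfold cfun
      rw [Equiv.symm_apply_apply, pbF_self, one_mul]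
  ext r
  obtain ⟨d, a, ha, rfl⟩ := exists_dehom_eq (hX m R ij.2) r
  change (phiHom e p₁ p₂ ij).hom ((chi₂Hom e ij).hom (dehom _ a)) = pbF p₂ _ _ a
  rw [chi₂Hom_dehom]
  exact congrArg (fun φ => φ a) key

section Retr
variable (hT : IsPullback p₁ p₂ (toBase (CohB1.polyGrading n R)) (toBase (CohB1.polyGrading m R)))

/-- the retraction `D₊(z_ij) ⟶ T`. -/
noncomputable def piT :
    ((Proj.basicOpen (CohB1.polyGrading N R) (X (e ij)) : (Proj (CohB1.polyGrading N R)).Opens) :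
      Scheme.{u}) ⟶ T :=
  hT.lift (pi₁ e ij) (pi₂ e ij) (by rw [pi₁_toBase, pi₂_toBase])

theorem piT_fst : piT e p₁ p₂ ij hT ≫ p₁ = pi₁ e ij := hT.lift_fst _ _ _

theorem piT_snd : piT e p₁ p₂ ij hT ≫ p₂ = pi₂ e ij := hT.lift_snd _ _ _

theorem piT_mem (u : ((Proj.basicOpen (CohB1.polyGrading N R) (X (e ij)) :
    (Proj (CohB1.polyGrading N R)).Opens) : Scheme.{u})) :
    (piT e p₁ p₂ ij hT) u ∈ W p₁ p₂ ij := by
  have h1 : p₁ ((piT e p₁ p₂ ij hT) u) ∈ Proj.basicOpen (CohB1.polyGrading n R) (X ij.1) := by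
    have h1 : p₁ ((piT e p₁ p₂ ij hT) u) = (piT e p₁ p₂ ij hT ≫ p₁) u := by simp
    rw [h1, piT_fst]
    exact range_toAff_subset _ _ u
  have h2 : p₂ ((piT e p₁ p₂ ij hT) u) ∈ Proj.basicOpen (CohB1.polyGrading m R) (X ij.2) := by
    have h1 : p₂ ((piT e p₁ p₂ ij hT) u) = (piT e p₁ p₂ ij hT ≫ p₂) u := by simp
    rw [h1, piT_snd]
    exact range_toAff_subset _ _ u
  exact ⟨h1, h2⟩

theorem range_piT_subset :
    Set.range (piT e p₁ p₂ ij hT) ⊆ Set.range (W p₁ p₂ ij).ι := by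
  rintro _ ⟨u, rfl⟩
  rw [Scheme.Opens.range_ι]
  exact piT_mem e p₁ p₂ ij hT u

/-- the retraction `D₊(z_ij) ⟶ W_ij`. -/
noncomputable def piW :
    ((Proj.basicOpen (CohB1.polyGrading N R) (X (e ij)) : (Proj (CohB1.polyGrading N R)).Opens) :
      Scheme.{u}) ⟶ ((W p₁ p₂ ij : T.Opens) : Scheme.{u}) :=
  IsOpenImmersion.lift (W p₁ p₂ ij).ι (piT e p₁ p₂ ij hT) (range_piT_subset e p₁ p₂ ij hT)

theorem piW_ι : piW e p₁ p₂ ij hT ≫ (W p₁ p₂ ij).ι = piT e p₁ p₂ ij hT :=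
  IsOpenImmersion.lift_fac _ _ _

variable (σ : T ⟶ Proj (CohB1.polyGrading N R))
  (hσ : ∀ ij, (W p₁ p₂ ij).ι ≫ σ =
    toAff (isAffineOpen_basicOpen (hX N R (e ij))) (phiHom e p₁ p₂ ij))

theorem resLE_piW :
    σ.resLE (Proj.basicOpen (CohB1.polyGrading N R) (X (e ij))) (W p₁ p₂ ij)
      (le_preimage e p₁ p₂ σ hσ ij) ≫ piW e p₁ p₂ ij hT = 𝟙 _ := by
  rw [← cancel_mono (W p₁ p₂ ij).ι, Category.assoc, piW_ι, Category.id_comp]
  apply hT.hom_ext
  · rw [Category.assoc, piT_fst]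
    unfold pi₁
    rw [resLE_toAff, appLE_eq e p₁ p₂ σ hσ ij, chi₁_phi,
      ← ι_comp_eq_toAff (isAffineOpen_basicOpen (hX n R ij.1)) p₁ (W_le₁ p₁ p₂ ij)]
  · rw [Category.assoc, piT_snd]
    unfold pi₂
    rw [resLE_toAff, appLE_eq e p₁ p₂ σ hσ ij, chi₂_phi e p₁ p₂ ij hT.w,
      ← ι_comp_eq_toAff (isAffineOpen_basicOpen (hX m R ij.2)) p₂ (W_le₂ p₁ p₂ ij)]

include hT in
theorem isClosedImmersion_resLE :
    IsClosedImmersion (σ.resLE (Proj.basicOpen (CohB1.polyGrading N R) (X (e ij))) (W p₁ p₂ ij)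
      (le_preimage e p₁ p₂ σ hσ ij)) := by
  have h1 := resLE_piW e p₁ p₂ ij hT σ hσ
  have : IsAffine ((Proj.basicOpen (CohB1.polyGrading N R) (X (e ij)) :
      (Proj (CohB1.polyGrading N R)).Opens) : Scheme.{u}) :=
    isAffineOpen_basicOpen (hX N R (e ij))
  have : IsSeparated (piW e p₁ p₂ ij hT ≫
      ((W p₁ p₂ ij).ι ≫ p₁ ≫ toBase (CohB1.polyGrading n R))) := inferInstance
  have : IsSeparated (piW e p₁ p₂ ij hT) :=
    IsSeparated.of_comp _ ((W p₁ p₂ ij).ι ≫ p₁ ≫ toBase (CohB1.polyGrading n R))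
  have : IsClosedImmersion (σ.resLE (Proj.basicOpen (CohB1.polyGrading N R) (X (e ij)))
      (W p₁ p₂ ij) (le_preimage e p₁ p₂ σ hσ ij) ≫ piW e p₁ p₂ ij hT) := by
    rw [h1]
    infer_instance
  exact IsClosedImmersion.of_comp _ (piW e p₁ p₂ ij hT)

include hT hσ in
theorem isClosedImmersion_sigma : IsClosedImmersion σ := by
  have hcov : ⨆ ij, Proj.basicOpen (CohB1.polyGrading N R) (X (e ij)) = ⊤ := by
    rw [eq_top_iff]
    intro y _
    obtain ⟨t, ht⟩ := exists_mem_basicOpen (n := N) (R := R) y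
    refine Opens.mem_iSup.2 ⟨e.symm t, ?_⟩
    rwa [Equiv.apply_symm_apply]
  refine (IsZariskiLocalAtTarget.iff_of_iSup_eq_top (P := @IsClosedImmersion) _ hcov).mpr
    (fun ij => ?_)
  have hs := isClosedImmersion_resLE e p₁ p₂ ij hT σ hσ
  have heq := preimage_eq e p₁ p₂ σ hσ ij
  have h2 : σ.resLE (Proj.basicOpen (CohB1.polyGrading N R) (X (e ij))) (W p₁ p₂ ij)
      (le_preimage e p₁ p₂ σ hσ ij) =
      T.homOfLE (le_preimage e p₁ p₂ σ hσ ij) ≫
        σ ∣_ Proj.basicOpen (CohB1.polyGrading N R) (X (e ij)) := rfl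
  rw [h2] at hs
  have : IsIso (T.homOfLE (le_preimage e p₁ p₂ σ hσ ij)) := by
    have h3 : T.homOfLE (le_preimage e p₁ p₂ σ hσ ij) = (T.isoOfEq heq.symm).hom := rfl
    rw [h3]
    infer_instance
  exact (MorphismProperty.cancel_left_of_respectsIso @IsClosedImmersion _ _).mp hs

end Retr

include e in
theorem exists_segre
    (hT : IsPullback p₁ p₂ (toBase (CohB1.polyGrading n R)) (toBase (CohB1.polyGrading m R))) :
    ∃ σ : T ⟶ Proj (CohB1.polyGrading N R), IsClosedImmersion σ ∧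
      σ ≫ toBase (CohB1.polyGrading N R) = p₁ ≫ toBase (CohB1.polyGrading n R) := by
  obtain ⟨σ, hσ⟩ := exists_sigma e p₁ p₂
  exact ⟨σ, isClosedImmersion_sigma e p₁ p₂ hT σ hσ, sigma_toBase e p₁ p₂ σ hσ⟩

end Closed

end Groth.Agent.Lib.Helper27SegreMap
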