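import Groth.Agent.Lib.Helper27SerreGen
import Groth.Agent.Lib.Helper23SecTw6
import Groth.Agent.S15744

/-!
# Serre's global generation on `Proj`, part 2: extending sections (helper27)

`exists_coc` : for `F` quasi-coherent on `Proj 𝒜` (covered by finitely many `D₊(G i)`, `G i ∈ 𝒜 d`)
and `t ∈ Γ(F, D₊(G l))` there are `n` and a family `b i ∈ Γ(F, D₊(G i))` with
`b i = (G j / G i)^n b j` and `b l = t`.  (Uses the extension lemma S15744 of helper23.)
-/

set_option autoImplicit false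
universe u

open CategoryTheory CategoryTheory.Limits AlgebraicGeometry TopologicalSpace Opposite
  HomogeneousLocalization
open Groth.Agent.Lib.Helper23.SecTw Groth.Agent.Lib.Helper6

namespace Groth.Agent.Lib.Helper27GrTildeSect

variable {R A : Type u} [CommRing R] [CommRing A] [Algebra R A] (𝒜 : ℕ → Submodule R A)
  [GradedAlgebra 𝒜]
variable (d : ℕ) {ι : Type*} (G : ι → A) (hG : ∀ i, G i ∈ 𝒜 d)
  (hcov : ∀ y : Proj 𝒜, ∃ i, G i ∉ (show ProjectiveSpectrum 𝒜 from y).asHomogeneousIdeal)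

/-- `G j = (G j / G i) G i` as sections of `O(d)` over the overlap. -/
theorem res_gsec_eq_smul (i j : ι) :
    res (GrTilde.tilde 𝒜 𝒜 (d : ℤ))
        (inf_le_right : Proj.basicOpen 𝒜 (G i) ⊓ Proj.basicOpen 𝒜 (G j) ≤ _)
        (gsec 𝒜 d (Proj.basicOpen 𝒜 (G j)) (hG j)) =
      hfun 𝒜 d G hG i j • res (GrTilde.tilde 𝒜 𝒜 (d : ℤ)) inf_le_left
        (gsec 𝒜 d (Proj.basicOpen 𝒜 (G i)) (hG i)) := by
  rw [res_gsec, res_gsec]
  apply sec_ext
  intro y hy
  rw [secVal_smul']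
  change (Localization.mk (G j) _ : Twist.Loc 𝒜 y) =
    (funVal 𝒜 _ (hfun 𝒜 d G hG i j) y hy).val * (Localization.mk (G i) _ : Twist.Loc 𝒜 y)
  rw [hfun, funVal_fracFun, Localization.mk_mul, Localization.mk_eq_mk_iff,
    Localization.r_iff_exists]
  refine ⟨1, ?_⟩
  simp only [OneMemClass.coe_one, one_mul, Submonoid.coe_mul]
  ring

include hcov in
theorem exists_coc [CompactSpace (Proj 𝒜)] (F : (Proj 𝒜).Modules) [F.IsQuasicoherent] (l : ι)
    (t : Γ(F, Proj.basicOpen 𝒜 (G l))) :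
    ∃ (n : ℕ) (b : ∀ i, Γ(F, Proj.basicOpen 𝒜 (G i))), Coc 𝒜 d G hG F n b ∧ b l = t := by
  let L : (Proj 𝒜).Modules := GrTilde.tilde 𝒜 𝒜 (d : ℤ)
  have hL : PicF.IsInvertible L := isInvertible_of_cover 𝒜 d G hG hcov
  let s : Coh.structureModule (Proj 𝒜) ⟶ L := secHom L (gsec 𝒜 d ⊤ (hG l))
  have hgl : CohB1.genLocus L s = Proj.basicOpen 𝒜 (G l) := genLocus_secHom_gsec 𝒜 d G hG hcov l
  let t₀ : Γ(F, CohB1.genLocus L s) := res F hgl.le t
  obtain ⟨n, -, t'₀, ht'₀⟩ := Groth.Agent.S15744.result (Proj 𝒜) L hL s F t₀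
  obtain ⟨t', ht'⟩ : ∃ t' : Γ(CohB1.tensorMod F (CohB1.tensorPow L n), ⊤),
      res (CohB1.tensorMod F (CohB1.tensorPow L n)) le_top t' =
        SecTwist.twist s n F (CohB1.genLocus L s) t₀ := ⟨t'₀, ht'₀⟩
  replace ht' : res (CohB1.tensorMod F (CohB1.tensorPow L n)) le_top t' =
      tw F L (CohB1.genLocus L s) t₀ (sv s (CohB1.genLocus L s)) n := by
    rw [← twist_eq_tw]
    exact ht'
  let e : ∀ i, Γ(L, Proj.basicOpen 𝒜 (G i)) := fun i => gsec 𝒜 d (Proj.basicOpen 𝒜 (G i)) (hG i)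
  have he : ∀ i, IsGen L (Proj.basicOpen 𝒜 (G i)) (e i) := fun i => isGen_gsec 𝒜 d (hG i)
  have hpw : ∀ i, IsGen (CohB1.tensorPow L n) (Proj.basicOpen 𝒜 (G i))
      (pw L (Proj.basicOpen 𝒜 (G i)) (e i) n) := fun i => isGen_pw L _ (e i) (he i) n
  have hex : ∀ i, ∃ m : Γ(F, Proj.basicOpen 𝒜 (G i)),
      tw F L (Proj.basicOpen 𝒜 (G i)) m (e i) n =
        res (CohB1.tensorMod F (CohB1.tensorPow L n)) le_top t' := by
    intro i
    obtain ⟨m, hm⟩ := (bijective_tm_of_isGen F (CohB1.tensorPow L n) _ _ (hpw i)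
      (Proj.basicOpen 𝒜 (G i)) le_rfl).2
      (res (CohB1.tensorMod F (CohB1.tensorPow L n)) le_top t')
    refine ⟨m, ?_⟩
    rw [← hm]
    change tm _ _ _ m _ = tm _ _ _ m _
    rw [res_self]
  choose b hb using hex
  refine ⟨n, b, ?_, ?_⟩
  · intro i j
    -- compare on the overlap
    have hinj := injective_tm_of_isGen F (CohB1.tensorPow L n) _ _ (hpw i)
      (Proj.basicOpen 𝒜 (G i) ⊓ Proj.basicOpen 𝒜 (G j)) inf_le_left
    apply hinj
    change tm _ _ _ (res F inf_le_left (b i)) (res _ inf_le_left (pw L _ (e i) n)) =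
      tm _ _ _ (hfun 𝒜 d G hG i j ^ n • res F inf_le_right (b j))
        (res _ inf_le_left (pw L _ (e i) n))
    have h1 : tm _ _ _ (res F inf_le_left (b i)) (res _ inf_le_left (pw L _ (e i) n)) =
        res (CohB1.tensorMod F (CohB1.tensorPow L n))
          (inf_le_left : Proj.basicOpen 𝒜 (G i) ⊓ Proj.basicOpen 𝒜 (G j) ≤ _)
          (tw F L _ (b i) (e i) n) := (res_tm _ _ _ _ _).symm
    have h2 : tm _ _ _ (hfun 𝒜 d G hG i j ^ n • res F inf_le_right (b j))
        (res _ inf_le_left (pw L _ (e i) n)) =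
        res (CohB1.tensorMod F (CohB1.tensorPow L n))
          (inf_le_right : Proj.basicOpen 𝒜 (G i) ⊓ Proj.basicOpen 𝒜 (G j) ≤ _)
          (tw F L _ (b j) (e j) n) := by
      rw [res_tw, res_gsec_eq_smul 𝒜 d G hG i j, tw_smul, res_pw]
      rfl
    rw [h1, h2, hb i, hb j, res_res, res_res]
  · have hinj := injective_tm_of_isGen F (CohB1.tensorPow L n) _ _ (hpw l)
      (Proj.basicOpen 𝒜 (G l)) le_rfl
    apply hinj
    change tm _ _ _ (b l) (res _ le_rfl (pw L _ (e l) n)) = tm _ _ _ t (res _ le_rfl (pw L _ (e l) n))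
    rw [res_self]
    change tw F L _ (b l) (e l) n = tw F L _ t (e l) n
    rw [hb l]
    have h3 : res (CohB1.tensorMod F (CohB1.tensorPow L n)) le_top t' =
        res (CohB1.tensorMod F (CohB1.tensorPow L n)) hgl.ge
          (res (CohB1.tensorMod F (CohB1.tensorPow L n)) le_top t') := (res_res _ _ _ _).symm
    rw [h3, ht', res_tw, res_sv, sv_secHom, res_res]
    congr 1
    exact res_self F t

end Groth.Agent.Lib.Helper27GrTildeSect
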