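import Groth.Agent.Lib.Helper27SerreGen2

/-!
# Serre's global generation on `Proj`, part 3: morphisms `O(-nd) ⟶ F` from cocycles (helper27)
-/

set_option autoImplicit false
universe u

open CategoryTheory CategoryTheory.Limits AlgebraicGeometry TopologicalSpace Opposite
  HomogeneousLocalization
open Groth.Agent.Lib.Helper23.SecTw Groth.Agent.Lib.Helper6

namespace Groth.Agent.Lib.Helper27GrTildeSect

variable {R A : Type u} [CommRing R] [CommRing A] [Algebra R A] (𝒜 : ℕ → Submodule R A)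
  [GradedAlgebra 𝒜]
variable (d : ℕ) {ι : Type*} (G : ι → A) (hG : ∀ i, G i ∈ 𝒜 d)
  (hcov : ∀ y : Proj 𝒜, ∃ i, G i ∉ (show ProjectiveSpectrum 𝒜 from y).asHomogeneousIdeal)

variable {𝒜 d} in
theorem pow_mem_mul {g : A} (hg : g ∈ 𝒜 d) (n : ℕ) : g ^ n ∈ 𝒜 (n * d) := by
  have := SetLike.pow_mem_graded n hg
  simpa using this

/-- the generator `1 / g^n` of `O(k)`, `k = -(n d)`, over `D₊(g)`. -/
noncomputable def aSec (n : ℕ) (k : ℤ) (hk : ((0 : ℕ) : ℤ) = ((n * d : ℕ) : ℤ) + k) {g : A}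
    (hg : g ∈ 𝒜 d) : Γ(GrTilde.tilde 𝒜 𝒜 k, Proj.basicOpen 𝒜 g) :=
  fracSec 𝒜 k (Proj.basicOpen 𝒜 g) (SetLike.GradedOne.one_mem : (1 : A) ∈ 𝒜 0)
    (pow_mem_mul hg n) hk (pow_not_mem n)

theorem isGen_aSec (n : ℕ) (k : ℤ) (hk : ((0 : ℕ) : ℤ) = ((n * d : ℕ) : ℤ) + k) {g : A}
    (hg : g ∈ 𝒜 d) : IsGen (GrTilde.tilde 𝒜 𝒜 k) (Proj.basicOpen 𝒜 g) (aSec 𝒜 d n k hk hg) :=
  isGen_fracSec 𝒜 k _ _ _ hk _ (fun y => one_not_mem 𝒜 y.1)

theorem res_aSec_eq (n : ℕ) (k : ℤ) (hk : ((0 : ℕ) : ℤ) = ((n * d : ℕ) : ℤ) + k) (i j : ι) :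
    res (GrTilde.tilde 𝒜 𝒜 k)
        (inf_le_left : Proj.basicOpen 𝒜 (G i) ⊓ Proj.basicOpen 𝒜 (G j) ≤ _)
        (aSec 𝒜 d n k hk (hG i)) =
      hfun 𝒜 d G hG i j ^ n • res (GrTilde.tilde 𝒜 𝒜 k) inf_le_right
        (aSec 𝒜 d n k hk (hG j)) := by
  apply sec_ext
  intro y hy
  rw [secVal_smul']
  change (Localization.mk 1 _ : Twist.Loc 𝒜 y) =
    (funVal 𝒜 _ (hfun 𝒜 d G hG i j ^ n) y hy).val * (Localization.mk 1 _ : Twist.Loc 𝒜 y)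
  rw [funVal_pow, HomogeneousLocalization.val_pow, hfun, funVal_fracFun, Localization.mk_pow,
    Localization.mk_mul, Localization.mk_eq_mk_iff, Localization.r_iff_exists]
  refine ⟨1, ?_⟩
  simp only [OneMemClass.coe_one, one_mul, Submonoid.coe_mul, SubmonoidClass.coe_pow]
  ring

include hcov in
/-- a cocycle family gives a morphism `O(k) ⟶ F`, `k = -(n d)`, sending `1 / G i ^ n` to `b i`. -/
theorem exists_hom_of_coc (n : ℕ) (k : ℤ) (hk : ((0 : ℕ) : ℤ) = ((n * d : ℕ) : ℤ) + k)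
    (F : (Proj 𝒜).Modules) (b : ∀ i, Γ(F, Proj.basicOpen 𝒜 (G i))) (hb : Coc 𝒜 d G hG F n b) :
    ∃ Φ : GrTilde.tilde 𝒜 𝒜 k ⟶ F,
      ∀ i, Φ.app (Proj.basicOpen 𝒜 (G i)) (aSec 𝒜 d n k hk (hG i)) = b i := by
  have hcov' : ∀ x : Proj 𝒜, ∃ i, x ∈ Proj.basicOpen 𝒜 (G i) := by
    intro x
    obtain ⟨i, hi⟩ := hcov x
    exact ⟨i, (ProjectiveSpectrum.mem_basicOpen 𝒜 (G i) x).mpr hi⟩
  obtain ⟨Φ, hΦ⟩ := exists_hom_of_frames (GrTilde.tilde 𝒜 𝒜 k) F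
    (fun i => Proj.basicOpen 𝒜 (G i)) hcov' (fun i => aSec 𝒜 d n k hk (hG i)) b
    (fun i => isGen_aSec 𝒜 d n k hk (hG i)) (fun i j g hg => by
      have h1 : g = hfun 𝒜 d G hG i j ^ n := by
        apply ((isGen_aSec 𝒜 d n k hk (hG j)) _ inf_le_right).1
        change g • res _ _ _ = hfun 𝒜 d G hG i j ^ n • res _ _ _
        rw [← hg, res_aSec_eq]
      rw [h1]
      exact hb i j)
  refine ⟨Φ, fun i => ?_⟩
  have := hΦ i (Proj.basicOpen 𝒜 (G i)) le_rfl 1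
  rw [one_smul, one_smul, res_self, res_self] at this
  exact this

end Groth.Agent.Lib.Helper27GrTildeSect
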