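import Groth.Agent.Lib.Helper27SerreGen4
import Groth.Agent.Lib.Helper27EpiGen3

/-!
# Serre's global generation on `Proj`, part 5: `F(nd)` is a quotient of a finite free module for
`n ≫ 0` (helper27)
-/

set_option autoImplicit false
universe u

open CategoryTheory CategoryTheory.Limits AlgebraicGeometry TopologicalSpace Opposite
  HomogeneousLocalization
open Groth.Agent.Lib.Helper23.SecTw Groth.Agent.Lib.Helper6 Groth.Agent.Lib.Helper23.GenLocus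

namespace Groth.Agent.Lib.Helper27GrTildeSect

variable {R A : Type u} [CommRing R] [CommRing A] [Algebra R A] (𝒜 : ℕ → Submodule R A)
  [GradedAlgebra 𝒜]
variable (d : ℕ) {ι : Type*} (G : ι → A) (hG : ∀ i, G i ∈ 𝒜 d)
  (hcov : ∀ y : Proj 𝒜, ∃ i, G i ∉ (show ProjectiveSpectrum 𝒜 from y).asHomogeneousIdeal)

/-- the generator `g^n` of `O(k)`, `k = n d`, over `D₊(g)`. -/
noncomputable def eSec (n : ℕ) (k : ℤ) (hk : ((n * d : ℕ) : ℤ) = ((0 : ℕ) : ℤ) + k) {g : A}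
    (hg : g ∈ 𝒜 d) : Γ(GrTilde.tilde 𝒜 𝒜 k, Proj.basicOpen 𝒜 g) :=
  fracSec 𝒜 k (Proj.basicOpen 𝒜 g) (pow_mem_mul hg n)
    (SetLike.GradedOne.one_mem : (1 : A) ∈ 𝒜 0) hk (fun y => one_not_mem 𝒜 y.1)

theorem isGen_eSec (n : ℕ) (k : ℤ) (hk : ((n * d : ℕ) : ℤ) = ((0 : ℕ) : ℤ) + k) {g : A}
    (hg : g ∈ 𝒜 d) : IsGen (GrTilde.tilde 𝒜 𝒜 k) (Proj.basicOpen 𝒜 g) (eSec 𝒜 d n k hk hg) :=
  isGen_fracSec 𝒜 k _ _ _ hk _ (pow_not_mem n)

theorem res_eSec_eq (n : ℕ) (k : ℤ) (hk : ((n * d : ℕ) : ℤ) = ((0 : ℕ) : ℤ) + k) (i j : ι) :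
    res (GrTilde.tilde 𝒜 𝒜 k)
        (inf_le_right : Proj.basicOpen 𝒜 (G i) ⊓ Proj.basicOpen 𝒜 (G j) ≤ _)
        (eSec 𝒜 d n k hk (hG j)) =
      hfun 𝒜 d G hG i j ^ n • res (GrTilde.tilde 𝒜 𝒜 k) inf_le_left
        (eSec 𝒜 d n k hk (hG i)) := by
  apply sec_ext
  intro y hy
  rw [secVal_smul']
  change (Localization.mk (G j ^ n) _ : Twist.Loc 𝒜 y) =
    (funVal 𝒜 _ (hfun 𝒜 d G hG i j ^ n) y hy).val * (Localization.mk (G i ^ n) _ : Twist.Loc 𝒜 y)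
  rw [funVal_pow, HomogeneousLocalization.val_pow, hfun, funVal_fracFun, Localization.mk_pow,
    Localization.mk_mul, Localization.mk_eq_mk_iff, Localization.r_iff_exists]
  refine ⟨1, ?_⟩
  simp only [OneMemClass.coe_one, one_mul, Submonoid.coe_mul, SubmonoidClass.coe_pow]
  ring

include hcov in
/-- a cocycle family glues to a global section of `F ⊗ O(nd)`. -/
theorem exists_glue_of_coc (n : ℕ) (k : ℤ) (hk : ((n * d : ℕ) : ℤ) = ((0 : ℕ) : ℤ) + k)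
    (F : (Proj 𝒜).Modules) (b : ∀ i, Γ(F, Proj.basicOpen 𝒜 (G i))) (hb : Coc 𝒜 d G hG F n b) :
    ∃ σ : Γ(CohB1.tensorMod F (GrTilde.tilde 𝒜 𝒜 k), ⊤),
      ∀ i, res (CohB1.tensorMod F (GrTilde.tilde 𝒜 𝒜 k)) le_top σ =
        tm F (GrTilde.tilde 𝒜 𝒜 k) (Proj.basicOpen 𝒜 (G i)) (b i) (eSec 𝒜 d n k hk (hG i)) := by
  have hcov' : (⊤ : (Proj 𝒜).Opens) ≤ ⨆ i, Proj.basicOpen 𝒜 (G i) := by
    intro x _
    obtain ⟨i, hi⟩ := hcov x
    exact Opens.mem_iSup.2 ⟨i, (ProjectiveSpectrum.mem_basicOpen 𝒜 (G i) x).mpr hi⟩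
  have hcompat : TopCat.Presheaf.IsCompatible
      (modSheaf (CohB1.tensorMod F (GrTilde.tilde 𝒜 𝒜 k))).1
      (fun i => Proj.basicOpen 𝒜 (G i))
      (fun i => tm F (GrTilde.tilde 𝒜 𝒜 k) (Proj.basicOpen 𝒜 (G i)) (b i)
        (eSec 𝒜 d n k hk (hG i))) := by
    intro i j
    change res _ (inf_le_left : Proj.basicOpen 𝒜 (G i) ⊓ Proj.basicOpen 𝒜 (G j) ≤ _)
        (tm F _ _ (b i) (eSec 𝒜 d n k hk (hG i))) =
      res _ (inf_le_right : Proj.basicOpen 𝒜 (G i) ⊓ Proj.basicOpen 𝒜 (G j) ≤ _)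
        (tm F _ _ (b j) (eSec 𝒜 d n k hk (hG j)))
    rw [res_tm, res_tm, hb i j, res_eSec_eq, tm_smul_left, tm_smul_right]
  obtain ⟨σ, hσ, -⟩ := (modSheaf (CohB1.tensorMod F (GrTilde.tilde 𝒜 𝒜 k))).existsUnique_gluing'
    (fun i => Proj.basicOpen 𝒜 (G i)) ⊤ (fun i => homOfLE le_top) hcov' _ hcompat
  exact ⟨σ, hσ⟩

include hG hcov in
/-- **Serre**: for `F` quasi-coherent of finite type on `Proj 𝒜` covered by finitely many
`D₊(G i)`, `G i ∈ 𝒜 d`, `d > 0`, and `n ≫ 0`, `F ⊗ O(nd)` is a quotient of a finite free module. -/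
theorem exists_epi_free [Finite ι] (hd : 0 < d) (F : (Proj 𝒜).Modules) [F.IsQuasicoherent]
    [SheafOfModules.IsFiniteType (R := (Proj 𝒜).ringCatSheaf) F] :
    ∃ n₀ : ℕ, ∀ n : ℕ, n₀ ≤ n → ∀ k : ℤ, ((n * d : ℕ) : ℤ) = ((0 : ℕ) : ℤ) + k →
      ∃ (r : ℕ) (p : (∐ fun _ : Fin r => Coh.structureModule (Proj 𝒜)) ⟶
        CohB1.tensorMod F (GrTilde.tilde 𝒜 𝒜 k)), Epi p := by
  classical
  haveI : CompactSpace (Proj 𝒜) := compactSpace_of_cover 𝒜 d G hG hcov hd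
  haveI : Fintype ι := Fintype.ofFinite ι
  have hW : ∀ i, IsAffineOpen (Proj.basicOpen 𝒜 (G i)) :=
    fun i => Proj.isAffineOpen_basicOpen 𝒜 (G i) (hG i) hd
  have hcov' : ∀ x : Proj 𝒜, ∃ i, x ∈ Proj.basicOpen 𝒜 (G i) := by
    intro x
    obtain ⟨i, hi⟩ := hcov x
    exact ⟨i, (ProjectiveSpectrum.mem_basicOpen 𝒜 (G i) x).mpr hi⟩
  have hfin : ∀ i, ∃ T : Finset Γ(F, Proj.basicOpen 𝒜 (G i)),
      Submodule.span Γ(Proj 𝒜, Proj.basicOpen 𝒜 (G i)) (T : Set Γ(F, Proj.basicOpen 𝒜 (G i))) = ⊤ := by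
    intro i
    have := Groth.Agent.Lib.Helper23.FinType.finite_of_isFiniteType F (hW i)
    exact this.fg_top
  choose T hT using hfin
  let J : Type _ := Σ i, T i
  have hJ : ∀ j : J, ∃ n₀ : ℕ, ∀ n, n₀ ≤ n → ∃ b : ∀ i, Γ(F, Proj.basicOpen 𝒜 (G i)),
      Coc 𝒜 d G hG F n b ∧ b j.1 = j.2.1 := fun j => exists_coc_ge 𝒜 d G hG hcov F j.1 j.2.1
  choose N hN using hJ
  refine ⟨Finset.univ.sup N, fun n hn k hk => ?_⟩
  let M : (Proj 𝒜).Modules := CohB1.tensorMod F (GrTilde.tilde 𝒜 𝒜 k)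
  have hσ : ∀ j : J, ∃ σ : Γ(M, ⊤), res M le_top σ =
      tm F (GrTilde.tilde 𝒜 𝒜 k) (Proj.basicOpen 𝒜 (G j.1)) j.2.1 (eSec 𝒜 d n k hk (hG j.1)) := by
    intro j
    obtain ⟨b, hb, hbj⟩ := hN j n ((Finset.le_sup (Finset.mem_univ j)).trans hn)
    obtain ⟨σ, hσ⟩ := exists_glue_of_coc 𝒜 d G hG hcov n k hk F b hb
    refine ⟨σ, ?_⟩
    rw [hσ j.1, hbj]
  choose σ hσ using hσ
  let e : Fin (Fintype.card J) ≃ J := (Fintype.equivFin J).symm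
  refine ⟨Fintype.card J, Sigma.desc (fun x => secHom M (σ (e x))), ⟨fun {Z} g h hgh => ?_⟩⟩
  have hj : ∀ j : J, secHom M (σ j) ≫ g = secHom M (σ j) ≫ h := by
    intro j
    have := congrArg (fun t => Sigma.ι (fun _ : Fin (Fintype.card J) =>
      Coh.structureModule (Proj 𝒜)) (e.symm j) ≫ t) hgh
    simpa using this
  have hloc : ∀ i, Groth.Agent.Lib.Helper2.Push.IsLocOn F (Proj.basicOpen 𝒜 (G i)) :=
    fun i => Groth.Agent.Lib.Helper2.Push.IsLocOn.of_isQuasicoherent (hW i) F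
  -- every section of `M` over `W i` is `tm m (e i)`
  have hgen : ∀ i (m : Γ(F, Proj.basicOpen 𝒜 (G i))),
      g.app _ (tm F (GrTilde.tilde 𝒜 𝒜 k) _ m (eSec 𝒜 d n k hk (hG i))) =
        h.app _ (tm F (GrTilde.tilde 𝒜 𝒜 k) _ m (eSec 𝒜 d n k hk (hG i))) := by
    intro i m
    have hm : m ∈ Submodule.span Γ(Proj 𝒜, Proj.basicOpen 𝒜 (G i))
        (T i : Set Γ(F, Proj.basicOpen 𝒜 (G i))) := by rw [hT i]; trivial
    induction hm using Submodule.span_induction with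
    | mem t ht =>
      have h1 := hσ ⟨i, ⟨t, ht⟩⟩
      have h2 : ∀ q : M ⟶ Z, q.app (Proj.basicOpen 𝒜 (G i))
          (tm F (GrTilde.tilde 𝒜 𝒜 k) _ t (eSec 𝒜 d n k hk (hG i))) =
          (secHom M (σ ⟨i, ⟨t, ht⟩⟩) ≫ q).app (Proj.basicOpen 𝒜 (G i))
            (toS (Proj.basicOpen 𝒜 (G i)) 1) := by
        intro q
        change _ = q.app _ ((secHom M (σ ⟨i, ⟨t, ht⟩⟩)).app _ _)
        rw [← val_eq_app, sv_secHom, h1]
      rw [h2 g, h2 h, hj]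
    | zero => rw [tm_zero_left, map_zero, map_zero]
    | add m₁ m₂ _ _ h₁ h₂ => rw [tm_add_left, map_add, map_add, h₁, h₂]
    | smul c m₁ _ h₁ =>
      rw [tm_smul_left, Scheme.Modules.Hom.app_smul, Scheme.Modules.Hom.app_smul, h₁]
  refine Groth.Agent.Lib.Helper27EpiGen.hom_ext_of_ext_cover M Z
    (fun i => Proj.basicOpen 𝒜 (G i)) hW hcov' (fun i f z => ?_) g h (fun i m => ?_)
  · obtain ⟨N', t, ht⟩ := Groth.Agent.Lib.Helper27EpiGen.ext_tensor_of_isGen F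
      (GrTilde.tilde 𝒜 𝒜 k) (eSec 𝒜 d n k hk (hG i)) (isGen_eSec 𝒜 d n k hk (hG i))
      (fun f z => (hloc i).exists_extension f z) f z
    exact ⟨N', _, ht⟩
  · obtain ⟨m', rfl⟩ := (bijective_tm_of_isGen F (GrTilde.tilde 𝒜 𝒜 k) _ _
      (isGen_eSec 𝒜 d n k hk (hG i)) (Proj.basicOpen 𝒜 (G i)) le_rfl).2 m
    change g.app _ (tm F _ _ m' (res _ le_rfl _)) = h.app _ (tm F _ _ m' (res _ le_rfl _))
    rw [res_self]
    exact hgen i m'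

end Groth.Agent.Lib.Helper27GrTildeSect
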