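import Groth.Agent.Lib.Helper27TwistFT
import Groth.Agent.Lib.Helper27SerreVan
import Groth.Agent.Lib.Helper23LocGen
import Groth.Agent.Lib.Helper23TensorUnit
import Groth.Agent.Lib.Helper23AmpleIso
import Groth.Agent.Lib.Helper23TensorQCoh
import Groth.Agent.Lib.Helper14GradedNoeth
import Groth.Agent.S0051

/-!
# Serre vanishing on `Proj` of an arbitrary Noetherian graded ring (helper27)
-/

set_option autoImplicit false
universe u

open CategoryTheory CategoryTheory.Limits AlgebraicGeometry TopologicalSpace Opposite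
  HomogeneousLocalization

namespace Groth.Agent.Lib.Helper27SerreVanProj

open Groth.Agent.Lib.Helper27GrTildeSect Groth.Agent.Lib.Helper27ProjLcmCover Groth.Agent.Lib.Helper27TwistFT

variable {R A : Type u} [CommRing R] [CommRing A] [Algebra R A] (𝒜 : ℕ → Submodule R A)
  [GradedAlgebra 𝒜]

variable {κ : Type*} (L : ℕ) (G : κ → A) (hG : ∀ i, G i ∈ 𝒜 L)
  (hcov : ∀ y : Proj 𝒜, ∃ i, G i ∉ (show ProjectiveSpectrum 𝒜 from y).asHomogeneousIdeal)

include hG hcov in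
/-- `O(j) ⊗ O(L)^{⊗ a} ≅ O(j + a L)` when `Proj` is covered by the `D₊(G)`, `G` of degree `L`. -/
theorem nonempty_tensorMod_tensorPow_twist_iso (j : ℤ) (a : ℕ) (q : ℤ) (hq : q = j + a * L) :
    Nonempty (CohB1.tensorMod (GrTilde.tilde 𝒜 𝒜 j)
      (CohB1.tensorPow (GrTilde.tilde 𝒜 𝒜 (L : ℤ)) a) ≅ GrTilde.tilde 𝒜 𝒜 q) := by
  induction a generalizing q with
  | zero =>
    have hq' : q = j := by rw [hq]; simp
    subst hq'
    exact ⟨Groth.Agent.Lib.Helper23.TensorUnit.tensorUnitIso _⟩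
  | succ a ih =>
    obtain ⟨e1⟩ := ih (j + a * L) rfl
    have hcov' : ∀ y : Proj 𝒜, ∃ (W : (Proj 𝒜).Opens) (i j : ℕ) (a b : A), y ∈ W ∧ a ∈ 𝒜 i ∧
        b ∈ 𝒜 j ∧ (i : ℤ) = j + (L : ℤ) ∧ (∀ z : W, b ∉ z.1.asHomogeneousIdeal) ∧
        (∀ z : W, a ∉ z.1.asHomogeneousIdeal) := by
      intro y
      obtain ⟨i, hi⟩ := hcov y
      refine ⟨Proj.basicOpen 𝒜 (G i), L, 0, G i, 1,
        (ProjectiveSpectrum.mem_basicOpen 𝒜 (G i) y).mpr hi, hG i, SetLike.GradedOne.one_mem,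
        by simp, fun z => one_not_mem 𝒜 z.1,
        fun z => (ProjectiveSpectrum.mem_basicOpen 𝒜 (G i) z.1).mp z.2⟩
    have hsum : (j + a * L) + (L : ℤ) = q := by rw [hq]; push_cast; ring
    obtain ⟨e2⟩ := nonempty_tensor_iso_of_cover_right 𝒜 hsum hcov'
    exact ⟨(Groth.Agent.Lib.Helper23.LocGen.tensorAssoc _ _ _).symm ≪≫
      Groth.Agent.Lib.Helper23.AmpleIso.tensorModIso e1 (Iso.refl _) ≪≫ e2⟩

/-- **Serre vanishing** on `Proj` of a Noetherian graded ring. -/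
theorem serre_vanishing_proj_general [IsNoetherianRing A] (F : (Proj 𝒜).Modules)
    (hF : Coh.IsCoh F) :
    ∃ d₀ : ℤ, ∀ d : ℤ, d₀ ≤ d → ∀ p : ℕ, 0 < p →
      Subsingleton (Coh.HH (Proj 𝒜) (CohB1.tensorMod F (GrTilde.tilde 𝒜 𝒜 d)) p) := by
  classical
  obtain ⟨L, κ, _, G, hL, hG, hcov⟩ := exists_lcm_cover 𝒜
  haveI : Algebra.FiniteType (𝒜 0) A :=
    Groth.Agent.Lib.Helper14.finiteType_of_isNoetherianRing_graded 𝒜
  haveI : CompactSpace (Proj 𝒜) :=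
    QuasiCompact.compactSpace_of_compactSpace (Proj.toSpecZero 𝒜)
  have hinv := isInvertible_of_cover 𝒜 L G hG hcov
  have hample := isAmple_of_cover 𝒜 L G hG hcov hL
  have hSV := (Groth.Agent.S0051.result (𝒜 0) (Proj 𝒜) (Proj.toSpecZero 𝒜)
    (GrTilde.tilde 𝒜 𝒜 (L : ℤ)) hinv).1 hample
  -- the twists `F(j)` are coherent
  have hcoh : ∀ j : ℤ, Coh.IsCoh (CohB1.tensorMod F (GrTilde.tilde 𝒜 𝒜 j)) := by
    intro j
    haveI := hF.1
    haveI := hF.2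
    haveI : (GrTilde.tilde 𝒜 𝒜 j).IsQuasicoherent := isQuasicoherent_tilde 𝒜 𝒜 j
    haveI := isFiniteType_twist 𝒜 j
    exact ⟨Groth.Agent.Lib.Helper23.TensorQCoh.isQuasicoherent_tensorMod _ _,
      Groth.Agent.Lib.Helper23.TensorQCoh.isFiniteType_tensorMod _ _⟩
  choose n₀ hn₀ using fun j : ℕ => hSV _ (hcoh (j : ℤ))
  let N : ℕ := (Finset.range L).sup n₀
  have hN : ∀ j < L, n₀ j ≤ N := fun j hj => Finset.le_sup (f := n₀) (Finset.mem_range.mpr hj)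
  refine ⟨((N * L : ℕ) : ℤ), fun d hd p hp => ?_⟩
  obtain ⟨dn, rfl⟩ : ∃ dn : ℕ, d = dn := ⟨d.toNat, by
    have : (0 : ℤ) ≤ d := le_trans (by positivity) hd
    omega⟩
  have hdn : N * L ≤ dn := by exact_mod_cast hd
  have hjL : dn % L < L := Nat.mod_lt _ hL
  have haN : N ≤ dn / L := by
    rw [Nat.le_div_iff_mul_le hL]
    exact hdn
  have hv := hn₀ (dn % L) (dn / L) ((hN _ hjL).trans haN) p hp
  obtain ⟨e⟩ := nonempty_tensorMod_tensorPow_twist_iso 𝒜 L G hG hcov ((dn % L : ℕ) : ℤ) (dn / L)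
    (dn : ℤ) (by
      have := Nat.mod_add_div dn L
      have h2 : ((dn % L : ℕ) : ℤ) + ((L * (dn / L) : ℕ) : ℤ) = (dn : ℤ) := by exact_mod_cast this
      rw [← h2]; push_cast; ring)
  have iso : CohB1.tensorMod F (GrTilde.tilde 𝒜 𝒜 (dn : ℤ)) ≅
      CohB1.tensorMod (CohB1.tensorMod F (GrTilde.tilde 𝒜 𝒜 ((dn % L : ℕ) : ℤ)))
        (CohB1.tensorPow (GrTilde.tilde 𝒜 𝒜 (L : ℤ)) (dn / L)) :=
    (Groth.Agent.Lib.Helper23.AmpleIso.tensorModIso (Iso.refl F) e.symm) ≪≫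
      (Groth.Agent.Lib.Helper23.LocGen.tensorAssoc _ _ _).symm
  exact Groth.Agent.Lib.Helper27SerreVan.subsingleton_HH_of_iso iso p hv

end Groth.Agent.Lib.Helper27SerreVanProj
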