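import Mathlib

/-!
# The characteristic polynomial of `(A - 1)^2` and integrality of `(α - 1)^2 / n`
-/

namespace Groth.Agent.Lib.Helper27SqInt

open Polynomial

section HH

variable {R : Type*} [CommRing R]

/-- `H(z) = f(z+1) * ((-1)^d f(1-z))` -/
noncomputable def HH (d : ℕ) (f : R[X]) : R[X] :=
  f.comp (X + 1) * ((-1) ^ d * (f.comp (X + 1)).comp (-X))

theorem HH_map {S : Type*} [CommRing S] (φ : R →+* S) (d : ℕ) (f : R[X]) :
    (HH d f).map φ = HH d (f.map φ) := by
  simp [HH, Polynomial.map_comp]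

theorem HH_comp_neg_X (d : ℕ) (f : R[X]) : (HH d f).comp (-X) = HH d f := by
  unfold HH
  rw [mul_comp, mul_comp, comp_neg_X_comp_neg_X]
  simp only [pow_comp, neg_comp, one_comp]
  ring

theorem HH_monic [IsDomain R] (f : R[X]) (hf : f.Monic) : (HH f.natDegree f).Monic := by
  nontriviality R
  have hg : (f.comp (X + 1)).Monic := by
    have : (X + 1 : R[X]) = X + C 1 := by simp
    rw [this]
    exact hf.comp_X_add_C 1
  have hd : (f.comp (X + 1)).natDegree = f.natDegree := by
    have : (X + 1 : R[X]) = X + C 1 := by simp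
    rw [this, natDegree_comp, natDegree_X_add_C, mul_one]
  unfold HH
  refine hg.mul ?_
  rw [← hd]
  exact hg.neg_one_pow_natDegree_mul_comp_neg_X

theorem HH_natDegree [IsDomain R] (f : R[X]) (hf : f.Monic) : (HH f.natDegree f).natDegree = 2 * f.natDegree := by
  nontriviality R
  have hg : (f.comp (X + 1)).Monic := by
    have : (X + 1 : R[X]) = X + C 1 := by simp
    rw [this]
    exact hf.comp_X_add_C 1
  have hd : (f.comp (X + 1)).natDegree = f.natDegree := by
    have : (X + 1 : R[X]) = X + C 1 := by simp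
    rw [this, natDegree_comp, natDegree_X_add_C, mul_one]
  have hg' : ((-1) ^ f.natDegree * (f.comp (X + 1)).comp (-X)).Monic := by
    rw [← hd]
    exact hg.neg_one_pow_natDegree_mul_comp_neg_X
  have hd' : ((-1) ^ f.natDegree * (f.comp (X + 1)).comp (-X)).natDegree = f.natDegree := by
    have h1 : ((-1 : R[X]) ^ f.natDegree) = C ((-1) ^ f.natDegree) := by simp
    rw [h1, natDegree_C_mul_of_mul_ne_zero, natDegree_comp, natDegree_neg, natDegree_X, mul_one, hd]
    rw [comp_neg_X_leadingCoeff_eq, hg.leadingCoeff, mul_one, ← pow_add]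
    have : ((-1 : R) ^ (f.natDegree + (f.comp (X + 1)).natDegree)) = 1 := by
      rw [hd, ← two_mul, pow_mul]
      simp
    rw [this]
    exact one_ne_zero
  unfold HH
  rw [hg.natDegree_mul hg', hd, hd']
  ring

theorem coeff_comp_neg_X (p : R[X]) (n : ℕ) : (p.comp (-X)).coeff n = (-1) ^ n * p.coeff n := by
  induction p using Polynomial.induction_on' with
  | add p q hp hq => simp [add_comp, hp, hq, mul_add]
  | monomial m a =>
    rw [monomial_comp, neg_pow, coeff_monomial]
    have : (C a * ((-1) ^ m * X ^ m) : R[X]) = C (a * (-1) ^ m) * X ^ m := by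
      simp only [map_mul, map_pow, map_neg, map_one]
      ring
    rw [this, coeff_C_mul_X_pow]
    by_cases h : n = m
    · subst h
      simp [mul_comm]
    · rw [if_neg h, if_neg (Ne.symm h), mul_zero]

/-- An even integer polynomial is a polynomial in `X^2`. -/
theorem exists_expand_of_even (p : ℤ[X]) (hp : p.comp (-X) = p) : ∃ h : ℤ[X], expand ℤ 2 h = p := by
  refine ⟨contract 2 p, ?_⟩
  ext n
  rw [coeff_expand (by norm_num), coeff_contract (by norm_num)]
  split_ifs with h2
  · rw [Nat.div_mul_cancel h2]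
  · have := congrArg (fun q => q.coeff n) hp
    simp only [coeff_comp_neg_X] at this
    have hodd : Odd n := Nat.not_even_iff_odd.mp (fun h => h2 (even_iff_two_dvd.mp h))
    rw [hodd.neg_one_pow] at this
    linarith

end HH

section Matrix

variable {R : Type*} [CommRing R] {n : Type*} [Fintype n] [DecidableEq n]

theorem charpoly_comp (A : Matrix n n R) (q : R[X]) :
    A.charpoly.comp q = (Matrix.scalar n q - (C : R →+* R[X]).mapMatrix A).det := by
  have h1 : A.charpoly.comp q = (compRingHom q) A.charpoly := rfl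
  rw [h1, Matrix.charpoly, RingHom.map_det]
  congr 1
  refine Matrix.ext (fun i j => ?_)
  simp only [RingHom.mapMatrix_apply, Matrix.map_apply, Matrix.charmatrix_apply, Matrix.sub_apply,
    Matrix.scalar_apply, coe_compRingHom_apply, sub_comp, C_comp]
  by_cases h : i = j
  · subst h
    simp
  · simp [h]

theorem expand_charpoly_sq (A : Matrix n n R) :
    expand R 2 ((A - 1) ^ 2).charpoly = HH (Fintype.card n) A.charpoly := by
  have h1 : expand R 2 ((A - 1) ^ 2).charpoly =
      ((expand R 2 : R[X] →ₐ[R] R[X]) : R[X] →+* R[X]) ((A - 1) ^ 2).charpoly := rfl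
  rw [h1, Matrix.charpoly, RingHom.map_det]
  set AA : Matrix n n R[X] := (C : R →+* R[X]).mapMatrix A with hAA
  have h2 : ((expand R 2 : R[X] →ₐ[R] R[X]) : R[X] →+* R[X]).mapMatrix
      (Matrix.charmatrix ((A - 1) ^ 2)) =
      (Matrix.scalar n (X : R[X]) + (AA - 1)) * (Matrix.scalar n (X : R[X]) - (AA - 1)) := by
    have hcomm : Commute (Matrix.scalar n (X : R[X])) (AA - 1) := Matrix.scalar_commute _ (fun _ => Commute.all _ _) _
    rw [← hcomm.mul_self_sub_mul_self_eq]
    refine Matrix.ext (fun i j => ?_)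
    have h3 : (AA - 1) * (AA - 1) = (C : R →+* R[X]).mapMatrix ((A - 1) ^ 2) := by
      rw [hAA, map_pow, map_sub, map_one, sq]
    rw [h3]
    simp only [RingHom.mapMatrix_apply, Matrix.map_apply, Matrix.charmatrix_apply, Matrix.sub_apply,
      Matrix.scalar_apply, RingHom.coe_coe, map_sub, expand_C]
    by_cases h : i = j
    · subst h
      simp [sq]
    · simp [h]
  rw [h2, Matrix.det_mul]
  have h4 : Matrix.scalar n (X : R[X]) - (AA - 1) = Matrix.scalar n (X + 1 : R[X]) - AA := by
    rw [map_add, map_one]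
    abel
  have h5 : Matrix.scalar n (X : R[X]) + (AA - 1) = -(Matrix.scalar n (1 - X : R[X]) - AA) := by
    rw [map_sub, map_one]
    abel
  rw [h4, h5, Matrix.det_neg, ← charpoly_comp, ← charpoly_comp]
  unfold HH
  have h6 : (A.charpoly.comp (X + 1)).comp (-X) = A.charpoly.comp (1 - X) := by
    rw [comp_assoc]
    congr 1
    simp only [add_comp, X_comp, one_comp]
    ring
  rw [h6]
  ring

end Matrix

section Main

theorem dvd_of_padic (n : ℕ) (k : ℕ) (c : ℤ)
    (h : ∀ (ℓ : ℕ) [Fact ℓ.Prime], ℓ ∣ n → ((n : ℤ_[ℓ]) ^ k) ∣ (c : ℤ_[ℓ])) : (n : ℤ) ^ k ∣ c := by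
  have key : (n ^ k : ℕ) ∣ c.natAbs := by
    rw [Nat.dvd_iff_prime_pow_dvd_dvd]
    intro p e hp hpe
    by_cases he : e = 0
    · subst he
      simp
    have hpn : p ∣ n := by
      have : p ∣ n ^ k := dvd_trans (dvd_pow_self p he) hpe
      exact hp.dvd_of_dvd_pow this
    have := Fact.mk hp
    have h1 := h p hpn
    have h2 : ((p : ℤ_[p]) ^ e) ∣ ((n : ℤ_[p]) ^ k) := by
      obtain ⟨m, hm⟩ := hpe
      refine ⟨(m : ℤ_[p]), ?_⟩
      have := congrArg (fun x : ℕ => (x : ℤ_[p])) hm
      push_cast at this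
      exact this
    have h3 := (PadicInt.pow_p_dvd_int_iff e c).mp (dvd_trans h2 h1)
    exact Int.natCast_dvd.mp (by exact_mod_cast h3)
  have := Int.natCast_dvd.mpr key
  exact_mod_cast this

theorem isIntegral_sq_div (n : ℕ) (hn : 0 < n) (g : ℕ) (f : ℤ[X]) (hf : f.Monic)
    (hA : ∀ (ℓ : ℕ) [Fact ℓ.Prime], ℓ ∣ n → ∃ A : Matrix (Fin g) (Fin g) ℤ_[ℓ],
      A.charpoly = f.map (Int.castRingHom ℤ_[ℓ]) ∧
        ∃ B : Matrix (Fin g) (Fin g) ℤ_[ℓ], (A - 1) ^ 2 = (n : ℤ_[ℓ]) • B)
    (K : Type*) [Field K] [CharZero K] (α : K) (hα : aeval α f = 0) :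
    IsIntegral ℤ ((α - 1) ^ 2 / (n : K)) := by
  set d := f.natDegree with hd
  obtain ⟨h, hh⟩ := exists_expand_of_even (HH d f) (HH_comp_neg_X d f)
  have hmonic : h.Monic := (monic_expand_iff (by norm_num : 0 < 2)).mp (hh ▸ HH_monic f hf)
  have hdeg : h.natDegree = d := by
    have := HH_natDegree f hf
    rw [← hd, ← hh, natDegree_expand] at this
    omega
  have hγ : aeval ((α - 1) ^ 2) h = 0 := by
    rw [← expand_aeval, hh]
    unfold HH
    rw [map_mul, aeval_comp]
    have : aeval (α - 1) (X + 1 : ℤ[X]) = α := by simp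
    rw [this, hα, zero_mul]
  have hdiv : ∀ j, j ≤ d → (n : ℤ) ^ (d - j) ∣ h.coeff j := by
    intro j hj
    apply dvd_of_padic
    intro ℓ _ hℓ
    obtain ⟨A, hAf, B, hB⟩ := hA ℓ hℓ
    have hg : g = d := by
      have := Matrix.charpoly_natDegree_eq_dim A
      rw [hAf, hf.natDegree_map, Fintype.card_fin] at this
      exact this.symm
    have heq : h.map (Int.castRingHom ℤ_[ℓ]) = ((A - 1) ^ 2).charpoly := by
      apply expand_injective (by norm_num : 0 < 2)
      rw [expand_charpoly_sq, hAf, ← HH_map, Fintype.card_fin, hg, ← hh, map_expand]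
    have hmem := Matrix.coeff_charpoly_mem_ideal_pow (M := (A - 1) ^ 2)
      (I := Ideal.span {(n : ℤ_[ℓ])}) (by
        intro i j
        rw [hB]
        exact Ideal.mem_span_singleton.mpr ⟨B i j, by simp [Matrix.smul_apply]⟩) j
    rw [← heq, Fintype.card_fin, hg, Ideal.span_singleton_pow, Ideal.mem_span_singleton,
      coeff_map] at hmem
    simpa using hmem
  -- the monic polynomial killing `γ / n`
  have hnK : (n : K) ≠ 0 := Nat.cast_ne_zero.mpr hn.ne'
  set q : ℤ[X] := ∑ j ∈ Finset.range (d + 1), C (h.coeff j / (n : ℤ) ^ (d - j)) * X ^ j with hq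
  have hqdeg : q.natDegree ≤ d := by
    apply natDegree_sum_le_of_forall_le
    intro i hi
    refine (natDegree_C_mul_X_pow_le _ _).trans ?_
    have := Finset.mem_range.mp hi
    omega
  have hqd : q.coeff d = 1 := by
    rw [hq, finsetSum_coeff]
    simp only [coeff_C_mul_X_pow]
    rw [Finset.sum_ite_eq]
    simp only [Finset.mem_range, Nat.lt_succ_self, if_true, Nat.sub_self, pow_zero, Int.ediv_one]
    rw [← hdeg]
    exact hmonic.coeff_natDegree
  refine ⟨q, monic_of_natDegree_le_of_coeff_eq_one d hqdeg hqd, ?_⟩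
  rw [← aeval_def, hq, map_sum]
  have hterm : ∀ j ∈ Finset.range (d + 1),
      aeval ((α - 1) ^ 2 / (n : K)) (C (h.coeff j / (n : ℤ) ^ (d - j)) * X ^ j) =
      ((n : K) ^ d)⁻¹ * ((h.coeff j : K) * ((α - 1) ^ 2) ^ j) := by
    intro j hj
    have hj' : j ≤ d := by
      have := Finset.mem_range.mp hj
      omega
    rw [map_mul, aeval_C, map_pow, aeval_X, algebraMap_int_eq, eq_intCast,
      Int.cast_div (hdiv j hj') (by push_cast; exact pow_ne_zero _ hnK)]
    push_cast
    have : (n : K) ^ d = (n : K) ^ (d - j) * (n : K) ^ j := by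
      rw [← pow_add]
      congr 1
      omega
    rw [this, div_pow]
    field_simp
  rw [Finset.sum_congr rfl hterm, ← Finset.mul_sum]
  have : ∑ j ∈ Finset.range (d + 1), (h.coeff j : K) * ((α - 1) ^ 2) ^ j = 0 := by
    rw [← hγ, aeval_eq_sum_range, hdeg]
    refine Finset.sum_congr rfl (fun j _ => ?_)
    rw [zsmul_eq_mul]
  rw [this, mul_zero]

end Main

end Groth.Agent.Lib.Helper27SqInt
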