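import Mathlib.Tactic
import Mathlib.CategoryTheory.Subobject.Lattice
import Mathlib.CategoryTheory.Subobject.Limits
import Mathlib.CategoryTheory.Abelian.Basic
import Mathlib.CategoryTheory.Simple
import Mathlib.Order.JordanHolder
import Mathlib.Order.ModularLattice
import Mathlib.CategoryTheory.Subobject.ArtinianObject
import Mathlib.CategoryTheory.Subobject.NoetherianObject

set_option autoImplicit false

/-!
# Subobject lattices in abelian categories (helper27)

* `IsModularLattice (Subobject X)` for `X` in an abelian category (via a `Factors`-calculus);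
* `simple_iff_covBy` : `Simple (cokernel (ofLE F G h)) ↔ F ⋖ G`;
* `nonempty_second_iso` : `(x ⊔ y)/x ≅ y/(x ⊓ y)`;
* `jordan_holder` : Jordan–Hölder for composition series of subobjects;
* `wellFounded_of_covBy_chain`, `finiteLength_iff` : Artinian + Noetherian iff composition series.
-/

namespace Groth.Agent.Lib.Helper27.SubobjAb

open CategoryTheory CategoryTheory.Limits

universe v u
variable {A : Type u} [Category.{v} A] [Abelian A] {X : A}

/-- membership in a subobject is detected by the cokernel -/
lemma factors_iff_comp_cokernel {T : A} (S : Subobject X) (a : T ⟶ X) :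
    S.Factors a ↔ a ≫ cokernel.π S.arrow = 0 := by
  constructor
  · intro h
    rw [← S.factorThru_arrow a h, Category.assoc, cokernel.condition, comp_zero]
  · intro h
    rw [← Abelian.monoLift_comp S.arrow a h]
    exact Subobject.factors_comp_arrow _

/-- factoring through a subobject descends along epis -/
lemma factors_of_epi_comp {T T' : A} (S : Subobject X) (π : T' ⟶ T) [Epi π] (a : T ⟶ X)
    (h : S.Factors (π ≫ a)) : S.Factors a := by
  rw [factors_iff_comp_cokernel] at h ⊢
  rw [Category.assoc] at h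
  exact (cancel_epi π).mp (by rw [h, comp_zero])

/-- membership in a sup, up to refinement -/
lemma exists_of_sup_factors {T : A} (F G : Subobject X) (a : T ⟶ X) (h : (F ⊔ G).Factors a) :
    ∃ (T' : A) (π : T' ⟶ T) (_ : Epi π) (b c : T' ⟶ X),
      F.Factors b ∧ G.Factors c ∧ π ≫ a = b + c := by
  let d : (F : A) ⊞ (G : A) ⟶ X := biprod.desc F.arrow G.arrow
  let S : Subobject X := imageSubobject d
  have hFS : F ≤ S := by
    apply Subobject.le_of_factors
    have : F.arrow = (biprod.inl ≫ factorThruImageSubobject d) ≫ S.arrow := by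
      simp [S, d]
    rw [this]
    exact Subobject.factors_comp_arrow _
  have hGS : G ≤ S := by
    apply Subobject.le_of_factors
    have : G.arrow = (biprod.inr ≫ factorThruImageSubobject d) ≫ S.arrow := by
      simp [S, d]
    rw [this]
    exact Subobject.factors_comp_arrow _
  have hS : S.Factors a := Subobject.factors_of_le a (sup_le hFS hGS) h
  let a' : T ⟶ (S : A) := S.factorThru a hS
  let e : (F : A) ⊞ (G : A) ⟶ (S : A) := factorThruImageSubobject d
  have : Epi e := by dsimp [e]; infer_instance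
  refine ⟨pullback a' e, pullback.fst a' e, inferInstance,
    (pullback.snd a' e ≫ biprod.fst) ≫ F.arrow, (pullback.snd a' e ≫ biprod.snd) ≫ G.arrow,
    Subobject.factors_comp_arrow _, Subobject.factors_comp_arrow _, ?_⟩
  have h1 : pullback.fst a' e ≫ a = pullback.snd a' e ≫ d := by
    have : a = a' ≫ S.arrow := (S.factorThru_arrow a hS).symm
    rw [this, ← Category.assoc, pullback.condition, Category.assoc]
    congr 1
    simp [e, S]
  rw [h1]
  have : d = biprod.fst ≫ F.arrow + biprod.snd ≫ G.arrow := biprod.desc_eq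
  rw [this, Preadditive.comp_add]
  simp

instance : IsModularLattice (Subobject X) where
  sup_inf_le_assoc_of_le {x} y {z} hxz := by
    apply Subobject.le_of_factors
    have h1 : (x ⊔ y).Factors ((x ⊔ y) ⊓ z).arrow := Subobject.inf_arrow_factors_left _ _
    have h2 : z.Factors ((x ⊔ y) ⊓ z).arrow := Subobject.inf_arrow_factors_right _ _
    obtain ⟨T', π, _, b, c, hb, hc, hbc⟩ := exists_of_sup_factors x y _ h1
    apply factors_of_epi_comp _ π
    rw [hbc]
    apply Subobject.factors_add
    · exact Subobject.sup_factors_of_factors_left hb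
    · apply Subobject.sup_factors_of_factors_right
      rw [Subobject.inf_factors]
      refine ⟨hc, ?_⟩
      have hz : z.Factors (b + c) := by
        rw [← hbc]; exact Subobject.factors_of_factors_right π h2
      exact Subobject.factors_right_of_factors_add b c hz (Subobject.factors_of_le b hxz hb)

/-- if `a ≫ G.arrow` factors through `F ≤ G`, then `a` factors through `ofLE F G`. -/
lemma exists_lift_ofLE {T : A} {F G : Subobject X} (h : F ≤ G) (a : T ⟶ (G : A))
    (ha : a ≫ cokernel.π (Subobject.ofLE F G h) = 0) :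
    ∃ r : T ⟶ (F : A), r ≫ Subobject.ofLE F G h = a :=
  ⟨Abelian.monoLift _ a ha, Abelian.monoLift_comp _ a ha⟩

lemma le_of_cokernel_π_eq_zero {F G : Subobject X} (h : F ≤ G)
    (h0 : cokernel.π (Subobject.ofLE F G h) = 0) : G ≤ F := by
  obtain ⟨r, hr⟩ := exists_lift_ofLE h (𝟙 _) (by rw [h0, comp_zero])
  apply Subobject.le_of_factors
  have : G.arrow = r ≫ F.arrow := by
    rw [← Subobject.ofLE_arrow h, ← Category.assoc, hr, Category.id_comp]
  rw [this]
  exact Subobject.factors_comp_arrow _

theorem simple_of_covBy {F G : Subobject X} (h : F ⋖ G) :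
    Simple (cokernel (Subobject.ofLE F G h.le)) := by
  set ι := Subobject.ofLE F G h.le with hι
  set q := cokernel.π ι with hq
  have hιa : ι ≫ G.arrow = F.arrow := Subobject.ofLE_arrow _
  have hqc : ι ≫ q = 0 := cokernel.condition _
  constructor
  intro Y f _
  constructor
  · -- iso ⇒ nonzero
    intro hiso hf0
    have hq0 : q = 0 := by
      have h1 : q = (q ≫ inv f) ≫ f := by simp
      have h2 : ∀ g : Y ⟶ cokernel ι, g = 0 → (q ≫ inv f) ≫ g = 0 := fun g hg => by
        rw [hg, comp_zero]
      rw [h1]; exact h2 f hf0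
    exact h.lt.not_ge (le_of_cokernel_π_eq_zero h.le hq0)
  · intro hf
    let p1 := pullback.fst f q
    let p2 := pullback.snd f q
    have hcond : p1 ≫ f = p2 ≫ q := pullback.condition
    have : Mono p2 := by dsimp [p2]; infer_instance
    have : Epi p1 := by dsimp [p1]; infer_instance
    let Z : Subobject X := Subobject.mk (p2 ≫ G.arrow)
    have hFZ : F ≤ Z := by
      apply Subobject.le_of_factors
      let l : (F : A) ⟶ pullback f q := pullback.lift 0 ι (by rw [hqc, zero_comp])
      have : F.arrow = l ≫ (p2 ≫ G.arrow) := by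
        rw [← Category.assoc]
        show F.arrow = (pullback.lift 0 ι _ ≫ pullback.snd f q) ≫ G.arrow
        rw [pullback.lift_snd, hιa]
      rw [this]
      exact Subobject.factors_of_factors_right l (Subobject.mk_factors_self _)
    have hZG : Z ≤ G := Subobject.mk_le_of_comm p2 rfl
    rcases h.eq_or_eq hFZ hZG with hZ | hZ
    · exfalso
      apply hf
      have h1 : F.Factors (p2 ≫ G.arrow) :=
        Subobject.factors_of_le _ hZ.le (Subobject.mk_factors_self _)
      have h2 : p2 = F.factorThru _ h1 ≫ ι := by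
        rw [← cancel_mono G.arrow, Category.assoc, hιa,
          Subobject.factorThru_arrow]
      have h3 : p2 ≫ q = 0 := by
        rw [h2, Category.assoc, hqc, comp_zero]
      rw [← hcond] at h3
      exact (cancel_epi p1).mp (by rw [h3, comp_zero])
    · have h1 : Z.Factors G.arrow := Subobject.factors_of_le _ hZ.ge (Subobject.factors_self _)
      obtain ⟨s, hs⟩ : ∃ s : (G : A) ⟶ pullback f q, s ≫ (p2 ≫ G.arrow) = G.arrow := by
        rw [Subobject.mk_factors_iff] at h1
        obtain ⟨s, hs⟩ := h1
        exact ⟨s, hs⟩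
      have hs' : s ≫ p2 = 𝟙 _ := by
        rw [← cancel_mono G.arrow, Category.assoc, hs, Category.id_comp]
      have h2 : q = (s ≫ p1) ≫ f := by
        rw [Category.assoc, hcond, ← Category.assoc, hs', Category.id_comp]
      have : Epi ((s ≫ p1) ≫ f) := by rw [← h2]; dsimp [q]; infer_instance
      have : Epi f := epi_of_epi (s ≫ p1) f
      exact isIso_of_mono_of_epi f

theorem covBy_of_simple {F G : Subobject X} (h : F ≤ G)
    [Simple (cokernel (Subobject.ofLE F G h))] : F ⋖ G := by
  set ι := Subobject.ofLE F G h with hι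
  set q := cokernel.π ι with hq
  have hιa : ι ≫ G.arrow = F.arrow := Subobject.ofLE_arrow _
  have hqc : ι ≫ q = 0 := cokernel.condition _
  have hlt : F < G := by
    refine lt_of_le_not_ge h fun hGF => ?_
    have h2 : Subobject.ofLE G F hGF ≫ ι = 𝟙 _ := by
      rw [← cancel_mono G.arrow, Category.assoc, hιa, Subobject.ofLE_arrow, Category.id_comp]
    have h3 : q = 0 := by
      have : q = (Subobject.ofLE G F hGF ≫ ι) ≫ q := by rw [h2, Category.id_comp]
      rw [this, Category.assoc, hqc, comp_zero]
    apply id_nonzero (cokernel ι)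
    rw [← cancel_epi q, h3]; simp
  refine ⟨hlt, fun Z hFZ hZG => ?_⟩
  let j := Subobject.ofLE Z G hZG.le
  let g := j ≫ q
  by_cases hg : g = 0
  · -- Z ≤ F
    obtain ⟨r, hr⟩ := exists_lift_ofLE h j hg
    apply hFZ.not_ge
    apply Subobject.le_of_factors
    have : Z.arrow = r ≫ F.arrow := by
      rw [← Subobject.ofLE_arrow h, ← Category.assoc, hr, Subobject.ofLE_arrow]
    rw [this]
    exact Subobject.factors_comp_arrow _
  · -- g epi, so G ≤ Z
    have : Epi g := epi_of_nonzero_to_simple hg
    apply hZG.not_ge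
    apply Subobject.le_of_factors
    rw [factors_iff_comp_cokernel]
    -- G.arrow ≫ c_Z kills F hence descends to Q
    have hk : ι ≫ (G.arrow ≫ cokernel.π Z.arrow) = 0 := by
      rw [← Category.assoc, hιa]
      rw [← factors_iff_comp_cokernel]
      exact Subobject.factors_of_le _ hFZ.le (Subobject.factors_self _)
    let u := cokernel.desc ι _ hk
    have hu : q ≫ u = G.arrow ≫ cokernel.π Z.arrow := cokernel.π_desc _ _ _
    have hgu : g ≫ u = 0 := by
      dsimp [g]
      rw [Category.assoc, hu, ← Category.assoc, Subobject.ofLE_arrow, cokernel.condition]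
    have hu0 : u = 0 := (cancel_epi g).mp (by rw [hgu, comp_zero])
    rw [← hu, hu0, comp_zero]

theorem simple_iff_covBy {F G : Subobject X} (h : F ≤ G) :
    Simple (cokernel (Subobject.ofLE F G h)) ↔ F ⋖ G :=
  ⟨fun _ => covBy_of_simple h, fun h' => simple_of_covBy h'⟩

/-- **Second isomorphism theorem** for subobjects in an abelian category. -/
theorem nonempty_second_iso (x y : Subobject X) :
    Nonempty (cokernel (Subobject.ofLE x (x ⊔ y) le_sup_left) ≅
      cokernel (Subobject.ofLE (x ⊓ y) y inf_le_right)) := by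
  set ιx := Subobject.ofLE x (x ⊔ y) le_sup_left with hιx
  set q := cokernel.π ιx with hq
  set jy := Subobject.ofLE y (x ⊔ y) le_sup_right with hjy
  set k := Subobject.ofLE (x ⊓ y) y inf_le_right with hk
  have hιxa : ιx ≫ (x ⊔ y).arrow = x.arrow := Subobject.ofLE_arrow _
  have hjya : jy ≫ (x ⊔ y).arrow = y.arrow := Subobject.ofLE_arrow _
  have hka : k ≫ y.arrow = (x ⊓ y).arrow := Subobject.ofLE_arrow _
  have hqc : ιx ≫ q = 0 := cokernel.condition _
  let φ := jy ≫ q
  -- (1) k ≫ φ = 0
  have h1 : k ≫ φ = 0 := by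
    have : k ≫ jy = Subobject.ofLE (x ⊓ y) x inf_le_left ≫ ιx := by
      rw [← cancel_mono (x ⊔ y).arrow, Category.assoc, Category.assoc, hjya, hka, hιxa,
        Subobject.ofLE_arrow]
    dsimp [φ]
    rw [← Category.assoc, this, Category.assoc, hqc, comp_zero]
  -- (2) φ is epi
  have h2 : Epi φ := by
    apply Preadditive.epi_of_cancel_zero
    intro W u hu
    have hqu : q ≫ u = 0 := by
      -- the kernel of q ≫ u, as a subobject of X, contains x and y
      let v := q ≫ u
      let K : Subobject X := Subobject.mk (kernel.ι v ≫ (x ⊔ y).arrow)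
      have hxK : x ≤ K := by
        apply Subobject.le_of_factors
        have hv : ιx ≫ v = 0 := by dsimp [v]; rw [← Category.assoc, hqc, zero_comp]
        have : x.arrow = kernel.lift v ιx hv ≫ (kernel.ι v ≫ (x ⊔ y).arrow) := by
          rw [← Category.assoc, kernel.lift_ι, hιxa]
        rw [this]
        exact Subobject.factors_of_factors_right _ (Subobject.mk_factors_self _)
      have hyK : y ≤ K := by
        apply Subobject.le_of_factors
        have hv : jy ≫ v = 0 := by dsimp [v]; rw [← Category.assoc]; exact hu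
        have : y.arrow = kernel.lift v jy hv ≫ (kernel.ι v ≫ (x ⊔ y).arrow) := by
          rw [← Category.assoc, kernel.lift_ι, hjya]
        rw [this]
        exact Subobject.factors_of_factors_right _ (Subobject.mk_factors_self _)
      have hK : K.Factors (x ⊔ y).arrow :=
        Subobject.factors_of_le _ (sup_le hxK hyK) (Subobject.factors_self _)
      obtain ⟨s, hs⟩ : ∃ s : ((x ⊔ y : Subobject X) : A) ⟶ kernel v,
          s ≫ (kernel.ι v ≫ (x ⊔ y).arrow) = (x ⊔ y).arrow := by
        rw [Subobject.mk_factors_iff] at hK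
        obtain ⟨s, hs⟩ := hK
        exact ⟨s, hs⟩
      have hs' : s ≫ kernel.ι v = 𝟙 _ := by
        rw [← cancel_mono (x ⊔ y).arrow, Category.assoc, hs, Category.id_comp]
      have : v = (s ≫ kernel.ι v) ≫ v := by rw [hs', Category.id_comp]
      rw [Category.assoc, kernel.condition, comp_zero] at this
      exact this
    exact (cancel_epi q).mp (by rw [hqu, comp_zero])
  -- (3) k is a kernel of φ
  have key : ∀ {T : A} (t : T ⟶ (y : A)), t ≫ φ = 0 → ∃ l, l ≫ k = t := by
    intro T t ht
    obtain ⟨r, hr⟩ := exists_lift_ofLE (le_sup_left : x ≤ x ⊔ y) (t ≫ jy)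
      (by rw [Category.assoc]; exact ht)
    have hx : x.Factors (t ≫ y.arrow) := by
      have : t ≫ y.arrow = r ≫ x.arrow := by
        rw [← hjya, ← Category.assoc, ← hr, Category.assoc, Subobject.ofLE_arrow]
      rw [this]
      exact Subobject.factors_comp_arrow _
    have hy : y.Factors (t ≫ y.arrow) := Subobject.factors_comp_arrow _
    have hxy : (x ⊓ y).Factors (t ≫ y.arrow) := (Subobject.inf_factors _).mpr ⟨hx, hy⟩
    refine ⟨(x ⊓ y).factorThru _ hxy, ?_⟩
    rw [← cancel_mono y.arrow, Category.assoc, hka, Subobject.factorThru_arrow]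
  have h3 : IsLimit (KernelFork.ofι k h1) :=
    KernelFork.IsLimit.ofι' k h1 (fun {T} t ht => ⟨(key t ht).choose, (key t ht).choose_spec⟩)
  have h4 : IsColimit (CokernelCofork.ofπ φ h1) :=
    Abelian.epiIsCokernelOfKernel (KernelFork.ofι k h1) h3
  exact ⟨(IsColimit.coconePointUniqueUpToIso (cokernelIsCokernel k) h4).symm⟩

/-- The relation "isomorphic quotients" on pairs of subobjects. -/
def QuotIso (p q : Subobject X × Subobject X) : Prop :=
  (p.1 ≤ p.2 ↔ q.1 ≤ q.2) ∧ ∀ (h₁ : p.1 ≤ p.2) (h₂ : q.1 ≤ q.2),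
    Nonempty (cokernel (Subobject.ofLE p.1 p.2 h₁) ≅ cokernel (Subobject.ofLE q.1 q.2 h₂))

lemma quotIso_of_iso {p q : Subobject X × Subobject X} (h : JordanHolderLattice.Iso p q) :
    QuotIso p q := by
  refine JordanHolderLattice.Iso.rel QuotIso ?_ ?_ ?_ ?_ h
  · intro x; exact ⟨Iff.rfl, fun h₁ h₂ => ⟨Iso.refl _⟩⟩
  · rintro x y ⟨h, H⟩
    exact ⟨h.symm, fun h₁ h₂ => ⟨(H h₂ h₁).some.symm⟩⟩
  · rintro x y z ⟨h, H⟩ ⟨h', H'⟩
    exact ⟨h.trans h', fun h₁ h₃ => ⟨(H h₁ (h.mp h₁)).some ≪≫ (H' (h.mp h₁) h₃).some⟩⟩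
  · intro x y hmax
    exact ⟨⟨fun _ => inf_le_right, fun _ => le_sup_left⟩, fun h₁ h₂ => nonempty_second_iso x y⟩

/-- **Jordan–Hölder** for objects of an abelian category. -/
theorem jordan_holder (X : A)
    (n : ℕ) (F : Fin (n + 1) → Subobject X) (hF : Monotone F) (hF0 : F 0 = ⊥)
    (hFn : F (Fin.last n) = ⊤)
    (hFs : ∀ i : Fin n, Simple (cokernel (Subobject.ofLE (F (Fin.castSucc i)) (F (Fin.succ i))
      (hF (Fin.castSucc_lt_succ (i := i)).le))))
    (m : ℕ) (G : Fin (m + 1) → Subobject X) (hG : Monotone G) (hG0 : G 0 = ⊥)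
    (hGm : G (Fin.last m) = ⊤)
    (hGs : ∀ j : Fin m, Simple (cokernel (Subobject.ofLE (G (Fin.castSucc j)) (G (Fin.succ j))
      (hG (Fin.castSucc_lt_succ (i := j)).le)))) :
    ∃ (e : n = m) (σ : Equiv.Perm (Fin m)), ∀ i : Fin n,
      Nonempty (cokernel (Subobject.ofLE (F (Fin.castSucc i)) (F (Fin.succ i))
          (hF (Fin.castSucc_lt_succ (i := i)).le)) ≅
        cokernel (Subobject.ofLE (G (Fin.castSucc (σ (Fin.cast e i))))
          (G (Fin.succ (σ (Fin.cast e i))))
          (hG (Fin.castSucc_lt_succ (i := σ (Fin.cast e i))).le))) := by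
  let s₁ : CompositionSeries (Subobject X) :=
    { length := n
      toFun := F
      step := fun i => by
        have := hFs i
        exact covBy_of_simple (hF (Fin.castSucc_lt_succ (i := i)).le) }
  let s₂ : CompositionSeries (Subobject X) :=
    { length := m
      toFun := G
      step := fun j => by
        have := hGs j
        exact covBy_of_simple (hG (Fin.castSucc_lt_succ (i := j)).le) }
  have hJH : CompositionSeries.Equivalent s₁ s₂ :=
    CompositionSeries.jordan_holder s₁ s₂ (hF0.trans hG0.symm) (hFn.trans hGm.symm)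
  obtain ⟨f, hf⟩ := hJH
  have e : n = m := Fin.equiv_iff_eq.mp ⟨f⟩
  subst e
  refine ⟨rfl, f, fun i => ?_⟩
  have := quotIso_of_iso (hf i)
  exact this.2 _ _

/-- A bounded modular lattice with a finite maximal chain from `⊥` to `⊤` is well-founded
in both directions. -/
theorem wellFounded_of_covBy_chain {α : Type*} [Lattice α] [IsModularLattice α] [BoundedOrder α]
    (n : ℕ) (a : ℕ → α) (h0 : a 0 = ⊥) (hn : a n = ⊤) (hcov : ∀ i < n, a i ⋖ a (i + 1)) :
    WellFoundedLT α ∧ WellFoundedGT α := by
  have key : ∀ j ≤ n, WellFoundedLT (Set.Iic (a j)) ∧ WellFoundedGT (Set.Iic (a j)) := by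
    intro j
    induction j with
    | zero =>
      intro _
      have : Subsingleton (Set.Iic (a 0)) := by
        constructor
        rintro ⟨x, hx⟩ ⟨y, hy⟩
        rw [h0] at hx hy
        have hx' : x = ⊥ := le_bot_iff.mp hx
        have hy' : y = ⊥ := le_bot_iff.mp hy
        subst hx' hy'
        rfl
      exact ⟨inferInstance, inferInstance⟩
    | succ j ih =>
      intro hj
      obtain ⟨ih1, ih2⟩ := ih (Nat.le_of_succ_le hj)
      have hc : a j ⋖ a (j + 1) := hcov j hj
      have hfin : Finite (Set.Icc (a j) (a (j + 1))) := by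
        rw [hc.Icc_eq]
        exact Set.finite_coe_iff.mpr (Set.toFinite _)
      let Φ : Set.Iic (a (j + 1)) → Set.Iic (a j) × Set.Icc (a j) (a (j + 1)) := fun x =>
        (⟨x.1 ⊓ a j, inf_le_right⟩, ⟨x.1 ⊔ a j, le_sup_right, sup_le x.2 hc.le⟩)
      have hΦ : StrictMono Φ := by
        intro x y hxy
        have := strictMono_inf_prod_sup (z := a j) (show x.1 < y.1 from hxy)
        rw [Prod.lt_iff] at this ⊢
        exact this
      exact ⟨hΦ.wellFoundedLT, hΦ.wellFoundedGT⟩
  obtain ⟨k1, k2⟩ := key n le_rfl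
  let Ψ : α → Set.Iic (a n) := fun x => ⟨x, hn ▸ le_top⟩
  have hΨ : StrictMono Ψ := fun x y hxy => hxy
  exact ⟨hΨ.wellFoundedLT, hΨ.wellFoundedGT⟩


/-- An object of an abelian category is Artinian and Noetherian iff it has a composition series. -/
theorem finiteLength_iff (X : A) :
    (IsArtinianObject X ∧ IsNoetherianObject X) ↔
      ∃ (n : ℕ) (F : Fin (n + 1) → Subobject X) (hF : Monotone F), F 0 = ⊥ ∧ F (Fin.last n) = ⊤ ∧
        ∀ i : Fin n, Simple (cokernel (Subobject.ofLE (F (Fin.castSucc i)) (F (Fin.succ i))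
          (hF (Fin.castSucc_lt_succ (i := i)).le))) := by
  constructor
  · rintro ⟨hA, hN⟩
    obtain ⟨a, ha0, n, han, hcov⟩ := exists_covBy_seq_of_wellFoundedLT_wellFoundedGT (Subobject X)
    have hmono : Monotone fun i : Fin (n + 1) => a i.1 := by
      apply Fin.monotone_iff_le_succ.mpr
      intro i
      exact (hcov i.1 i.2).le
    refine ⟨n, fun i => a i.1, hmono, isMin_iff_eq_bot.mp ha0, isMax_iff_eq_top.mp han, fun i => ?_⟩
    exact simple_of_covBy (hcov i.1 i.2)
  · rintro ⟨n, F, hF, hF0, hFn, hFs⟩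
    let a : ℕ → Subobject X := fun i => if h : i < n + 1 then F ⟨i, h⟩ else ⊤
    have ha0 : a 0 = ⊥ := by simp [a, ← hF0]
    have han : a n = ⊤ := by
      simp only [a, Nat.lt_succ_self, dite_true]
      exact hFn
    have hcov : ∀ i < n, a i ⋖ a (i + 1) := by
      intro i hi
      have h1 : i < n + 1 := Nat.lt_succ_of_lt hi
      have h2 : i + 1 < n + 1 := Nat.succ_lt_succ hi
      simp only [a, h1, h2, dite_true]
      have := hFs ⟨i, hi⟩
      show F (Fin.castSucc ⟨i, hi⟩) ⋖ F (Fin.succ ⟨i, hi⟩)
      exact covBy_of_simple (hF (Fin.castSucc_lt_succ (i := ⟨i, hi⟩)).le)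
    obtain ⟨w1, w2⟩ := wellFounded_of_covBy_chain n a ha0 han hcov
    exact ⟨⟨w1⟩, ⟨w2⟩⟩

end Groth.Agent.Lib.Helper27.SubobjAb
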