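import Groth.Agent.Lib.Helper27Syzygy

/-!
# Hilbert's syzygy theorem for coherent sheaves on `P^n_k`, part 2 (helper27)
-/

set_option autoImplicit false
universe u

open CategoryTheory CategoryTheory.Limits AlgebraicGeometry TopologicalSpace Opposite

namespace Groth.Agent.Lib.Helper27Syzygy

open Groth.Agent.Lib.Helper27SerreVan Groth.Agent.Lib.Helper27CMReg Groth.Agent.Lib.Helper27GenTop
  Groth.Agent.Lib.Helper27GlobGenPn Groth.Agent.Lib.Helper27LinRes
  Groth.Agent.Lib.Helper27CohFin Groth.Agent.Lib.Helper27CoprodFin Groth.Agent.Lib.Helper27LesLin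
  Groth.Agent.Lib.Helper23.QCohLocal Groth.Agent.Lib.Helper27Horrocks
  Groth.Agent.Lib.Helper27SerreVanPn Groth.Agent.Lib.Helper27CMReg2
  Groth.Agent.Lib.Helper27MumfordReg Groth.Agent.Lib.Helper27MinPres

section Cat

variable {C : Type*} [Category C] [Abelian C]

theorem exact_of_epi_kernel {A B K' : C} (g : B ⟶ K') (p : A ⟶ kernel g) [Epi p]
    (w : (p ≫ kernel.ι g) ≫ g = 0) : (ShortComplex.mk (p ≫ kernel.ι g) g w).Exact := by
  have h2 : (ShortComplex.mk (kernel.ι g) g (kernel.condition g)).Exact :=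
    ShortComplex.exact_of_f_is_kernel _ (kernelIsKernel g)
  let α : ShortComplex.mk (p ≫ kernel.ι g) g w ⟶ ShortComplex.mk (kernel.ι g) g
      (kernel.condition g) :=
    { τ₁ := p
      τ₂ := 𝟙 _
      τ₃ := 𝟙 _ }
  have : Epi α.τ₁ := (inferInstance : Epi p)
  have : IsIso α.τ₂ := (inferInstance : IsIso (𝟙 B))
  have : Mono α.τ₃ := (inferInstance : Mono (𝟙 K'))
  exact (ShortComplex.exact_iff_of_epi_of_isIso_of_mono α).2 h2

theorem exact_of_epi_kernel_mono {A B K' D : C} (g : B ⟶ K') (p : A ⟶ kernel g) [Epi p]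
    (j : K' ⟶ D) [Mono j] (w : (p ≫ kernel.ι g) ≫ (g ≫ j) = 0) :
    (ShortComplex.mk (p ≫ kernel.ι g) (g ≫ j) w).Exact := by
  have w' : (p ≫ kernel.ι g) ≫ g = 0 := by
    rw [Category.assoc, kernel.condition, comp_zero]
  have h2 := exact_of_epi_kernel g p w'
  let α : ShortComplex.mk (p ≫ kernel.ι g) g w' ⟶ ShortComplex.mk (p ≫ kernel.ι g) (g ≫ j) w :=
    { τ₁ := 𝟙 _
      τ₂ := 𝟙 _
      τ₃ := j }
  have : Epi α.τ₁ := (inferInstance : Epi (𝟙 A))
  have : IsIso α.τ₂ := (inferInstance : IsIso (𝟙 B))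
  have : Mono α.τ₃ := (inferInstance : Mono j)
  exact (ShortComplex.exact_iff_of_epi_of_isIso_of_mono α).1 h2

end Cat

variable {k : Type u} [Field k] {n : ℕ}

/-- `H^0(K'(m)) = 0` for the next stage `K'` of a minimal step. -/
theorem H0_next_eq (S : Stage k n) :
    Subsingleton (Coh.HH (CohB1.ProjSpace n k)
      (CohB1.tensorMod (stepMin S).next.K (Twist.twistProjSpace n k S.m)) 0) :=
  subsingleton_H0_kernel_eq S.φ S.spec.2.1
    (injective_HHlin_of_min k n S.K S.coh S.m S.b S.φ S.spec.1 S.spec.2.2.2)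

theorem H0_next (hn : 1 ≤ n) (S : Stage k n) (t : ℤ) (ht : t < S.m + 1) :
    Subsingleton (Coh.HH (CohB1.ProjSpace n k)
      (CohB1.tensorMod (stepMin S).next.K (Twist.twistProjSpace n k t)) 0) := by
  by_cases h : t = S.m
  · rw [h]
    exact H0_next_eq S
  · exact subsingleton_H0_kernel_lt S.φ S.spec.2.1 hn t (by omega)

/-- vanishing of the intermediate cohomology along the minimal sequence. -/
theorem van_mseq (S₀ : Stage k n) : ∀ (j i : ℕ) (t : ℤ), 1 ≤ i → i < n → i < j →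
    Subsingleton (Coh.HH (CohB1.ProjSpace n k)
      (CohB1.tensorMod (mseq S₀ j).K (Twist.twistProjSpace n k t)) i) := by
  intro j
  induction j with
  | zero => intro i t _ _ h; omega
  | succ j ih =>
    intro i t hi1 hin hij
    have hspec := (mseq S₀ j).spec
    change Subsingleton (Coh.HH (CohB1.ProjSpace n k)
      (CohB1.tensorMod (kernel (mseq S₀ j).φ) (Twist.twistProjSpace n k t)) i)
    obtain ⟨i', rfl⟩ : ∃ i', i = i' + 1 := ⟨i - 1, by omega⟩
    by_cases hi' : i' = 0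
    · subst hi'
      by_cases ht : (mseq S₀ j).m ≤ t
      · have hq : (kernel (mseq S₀ j).φ).IsQuasicoherent :=
          (isCoh_kernel_pn k n (mseq S₀ j).φ (isCoh_sigma_twist k n _ _) (mseq S₀ j).coh).1
        exact vanishing_ge_of_isMRegular n k _ hq ((mseq S₀ j).m + 1) hspec.2.2.1 1 t le_rfl
          (by push_cast; omega)
      · obtain ⟨j', rfl⟩ : ∃ j', j = j' + 1 := ⟨j - 1, by omega⟩
        refine subsingleton_Hsucc_kernel (mseq S₀ (j' + 1)).φ hspec.2.1 0 t ?_ ?_
        · exact H0_next (by omega) (mseq S₀ j') t (by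
            have : (mseq S₀ (j' + 1)).m = (mseq S₀ j').m + 1 := rfl
            omega)
        · exact subsingleton_HH_source k n _ _ t 1 (fun h => by omega) (fun h => by omega)
    · refine subsingleton_Hsucc_kernel (mseq S₀ j).φ hspec.2.1 i' t ?_ ?_
      · exact ih i' t (by omega) (by omega) (by omega)
      · exact subsingleton_HH_source k n _ _ t (i' + 1) (fun h => by omega) (fun h => by omega)

/-- the `(n+1)`-st syzygy of the minimal sequence splits. -/
theorem splits_mseq (S₀ : Stage k n) :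
    ∃ (r : ℕ) (a : Fin r → ℤ), Nonempty ((mseq S₀ (n + 1)).K ≅
      ∐ fun j => Twist.twistProjSpace n k (a j)) := by
  rcases Nat.eq_zero_or_pos n with h0 | hn
  · subst h0
    have hcoh := (mseq S₀ (0 + 1)).coh
    have hreg : Curv2.IsMRegular k 0 (mseq S₀ (0 + 1)).K S₀.m := fun i h1 h0 => by omega
    have hgen := genTop_of_isMRegular k 0 _ hcoh S₀.m hreg S₀.m le_rfl
    have hzero := isZero_of_genTop_of_subsingleton _ hgen (H0_next_eq S₀)
    obtain ⟨e⟩ := nonempty_pair_iso k 0 S₀.m (-S₀.m) (by ring)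
    have hz : IsZero (mseq S₀ (0 + 1)).K := isZero_of_isZero_tw _ _ e _ hzero
    exact ⟨0, Fin.elim0, ⟨hz.iso (isZero_sigma_fin_zero _)⟩⟩
  · refine horrocks k n hn _ (mseq S₀ (n + 1)).coh ⟨⟨(mseq S₀ n).m, fun t ht => ?_⟩, ?_⟩
    · exact H0_next hn (mseq S₀ n) t (by omega)
    · intro t i hi1 hin
      exact van_mseq S₀ (n + 1) i t hi1 hin (by omega)

end Groth.Agent.Lib.Helper27Syzygy
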