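import Groth.Agent.Lib.Helper27Syzygy2

/-!
# Hilbert's syzygy theorem for coherent sheaves on `P^n_k`, part 3: the complex (helper27)
-/

set_option autoImplicit false
universe u

open CategoryTheory CategoryTheory.Limits AlgebraicGeometry TopologicalSpace Opposite

namespace Groth.Agent.Lib.Helper27Syzygy

open Groth.Agent.Lib.Helper27SerreVan Groth.Agent.Lib.Helper27Horrocks
  Groth.Agent.Lib.Helper27SerreVanPn Groth.Agent.Lib.Helper27MinPres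

section Cat

variable {C : Type*} [Category C] [Abelian C]

theorem exact_comp_left {A K B K' : C} (i : K ⟶ B) (g : B ⟶ K') (w₀ : i ≫ g = 0)
    (h : (ShortComplex.mk i g w₀).Exact) (p : A ⟶ K) [Epi p] (w : (p ≫ i) ≫ g = 0) :
    (ShortComplex.mk (p ≫ i) g w).Exact := by
  let α : ShortComplex.mk (p ≫ i) g w ⟶ ShortComplex.mk i g w₀ :=
    { τ₁ := p
      τ₂ := 𝟙 _
      τ₃ := 𝟙 _ }
  have : Epi α.τ₁ := (inferInstance : Epi p)
  have : IsIso α.τ₂ := (inferInstance : IsIso (𝟙 B))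
  have : Mono α.τ₃ := (inferInstance : Mono (𝟙 K'))
  exact (ShortComplex.exact_iff_of_epi_of_isIso_of_mono α).2 h

theorem exact_comp {A K B K' D : C} (i : K ⟶ B) (g : B ⟶ K') (w₀ : i ≫ g = 0)
    (h : (ShortComplex.mk i g w₀).Exact) (p : A ⟶ K) [Epi p] (j : K' ⟶ D) [Mono j]
    (w : (p ≫ i) ≫ (g ≫ j) = 0) : (ShortComplex.mk (p ≫ i) (g ≫ j) w).Exact := by
  have w' : (p ≫ i) ≫ g = 0 := by rw [Category.assoc, w₀, comp_zero]
  have h2 := exact_comp_left i g w₀ h p w'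
  let α : ShortComplex.mk (p ≫ i) g w' ⟶ ShortComplex.mk (p ≫ i) (g ≫ j) w :=
    { τ₁ := 𝟙 _
      τ₂ := 𝟙 _
      τ₃ := j }
  have : Epi α.τ₁ := (inferInstance : Epi (𝟙 A))
  have : IsIso α.τ₂ := (inferInstance : IsIso (𝟙 B))
  have : Mono α.τ₃ := (inferInstance : Mono j)
  exact (ShortComplex.exact_iff_of_epi_of_isIso_of_mono α).1 h2

end Cat

variable {k : Type u} [Field k] {n : ℕ} (N : ℕ) (S₀ : Stage k n)

/-- the step used at index `j`. -/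
noncomputable def sp (j : ℕ) : Step (seq N S₀ j) := stepAt N j (seq N S₀ j)

/-- the terms of the resolution. -/
noncomputable def E (j : ℕ) : (CohB1.ProjSpace n k).Modules := (sp N S₀ j).E

noncomputable def φ (j : ℕ) : E N S₀ j ⟶ (seq N S₀ j).K := (sp N S₀ j).φ

instance (j : ℕ) : Epi (φ N S₀ j) := (sp N S₀ j).epi

noncomputable def ι (j : ℕ) : (seq N S₀ (j + 1)).K ⟶ E N S₀ j := kernel.ι (φ N S₀ j)

instance (j : ℕ) : Mono (ι N S₀ j) := (inferInstance : Mono (kernel.ι (φ N S₀ j)))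

theorem ι_φ (j : ℕ) : ι N S₀ j ≫ φ N S₀ j = 0 := kernel.condition _

theorem exact_ι_φ (j : ℕ) : (ShortComplex.mk (ι N S₀ j) (φ N S₀ j) (ι_φ N S₀ j)).Exact :=
  ShortComplex.exact_of_f_is_kernel _ (kernelIsKernel (φ N S₀ j))

/-- the differentials. -/
noncomputable def dd (j : ℕ) : E N S₀ (j + 1) ⟶ E N S₀ j := φ N S₀ (j + 1) ≫ ι N S₀ j

theorem dd_comp (j : ℕ) : dd N S₀ (j + 1) ≫ dd N S₀ j = 0 := by
  unfold dd
  rw [Category.assoc, ← Category.assoc (ι N S₀ (j + 1)), ι_φ, zero_comp, comp_zero]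

/-- the resolution. -/
noncomputable def cx : ChainComplex (CohB1.ProjSpace n k).Modules ℕ :=
  ChainComplex.of (E N S₀) (dd N S₀) (dd_comp N S₀)

theorem cx_d (j : ℕ) : (cx N S₀).d (j + 1) j = dd N S₀ j := ChainComplex.of_d _ _ j

theorem dd_comp_φ : dd N S₀ 0 ≫ φ N S₀ 0 = 0 := by
  unfold dd
  rw [Category.assoc, ι_φ, comp_zero]

theorem cx_d_comp_φ : (cx N S₀).d 1 0 ≫ φ N S₀ 0 = 0 :=
  (congrArg (fun f => f ≫ φ N S₀ 0) (cx_d N S₀ 0)).trans (dd_comp_φ N S₀)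

theorem exact_aug : (ShortComplex.mk ((cx N S₀).d 1 0) (φ N S₀ 0) (cx_d_comp_φ N S₀)).Exact := by
  have h := exact_comp_left (ι N S₀ 0) (φ N S₀ 0) (ι_φ N S₀ 0) (exact_ι_φ N S₀ 0) (φ N S₀ 1)
    (dd_comp_φ N S₀)
  refine ShortComplex.exact_of_iso (ShortComplex.isoMk (Iso.refl _) (Iso.refl _) (Iso.refl _)
    ?_ ?_) h
  · exact (Category.id_comp _).trans ((cx_d N S₀ 0).trans (Category.comp_id _).symm)
  · exact (Category.id_comp _).trans (Category.comp_id _).symm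

theorem exact_at (j : ℕ) : (cx N S₀).ExactAt (j + 1) := by
  rw [(cx N S₀).exactAt_iff' (j + 2) (j + 1) j (by simp) (by simp)]
  have h : (ShortComplex.mk (dd N S₀ (j + 1)) (dd N S₀ j) (dd_comp N S₀ j)).Exact :=
    exact_comp (ι N S₀ (j + 1)) (φ N S₀ (j + 1)) (ι_φ N S₀ (j + 1))
      (exact_ι_φ N S₀ (j + 1)) (φ N S₀ (j + 2)) (ι N S₀ j) (dd_comp N S₀ j)
  have e : ShortComplex.mk (dd N S₀ (j + 1)) (dd N S₀ j) (dd_comp N S₀ j) ≅
      (cx N S₀).sc' (j + 2) (j + 1) j :=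
    ShortComplex.isoMk (Iso.refl _) (Iso.refl _) (Iso.refl _)
      ((Category.id_comp _).trans ((cx_d N S₀ (j + 1)).trans (Category.comp_id _).symm))
      ((Category.id_comp _).trans ((cx_d N S₀ j).trans (Category.comp_id _).symm))
  exact ShortComplex.exact_of_iso e h

theorem isZero_homology (i : ℕ) (hi : 1 ≤ i) : IsZero ((cx N S₀).homology i) := by
  obtain ⟨j, rfl⟩ : ∃ j, i = j + 1 := ⟨i - 1, by omega⟩
  exact (exact_at N S₀ j).isZero_homology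

/-- below `N` the terms are sums of twisting sheaves. -/
theorem E_lt (j : ℕ) (hj : j < N) :
    ∃ (m : ℕ) (d : Fin m → ℤ), Nonempty (E N S₀ j ≅ ∐ fun i => Twist.twistProjSpace n k (d i)) := by
  have h : sp N S₀ j = stepMin (seq N S₀ j) := stepAt_lt hj _
  refine ⟨(seq N S₀ j).b, fun _ => -(seq N S₀ j).m, ⟨eqToIso ?_⟩⟩
  unfold E
  rw [h]
  rfl

theorem E_ge (j : ℕ) (hj : N ≤ j) : E N S₀ j = (seq N S₀ j).K := by
  have h : sp N S₀ j = stepId (seq N S₀ j) := stepAt_ge hj _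
  unfold E
  rw [h]
  rfl

theorem isZero_K_succ (j : ℕ) (hj : N ≤ j) : IsZero (seq N S₀ (j + 1)).K := by
  change IsZero (kernel (stepAt N j (seq N S₀ j)).φ)
  rw [stepAt_ge hj]
  exact isZero_kernel_of_mono (𝟙 (seq N S₀ j).K)

theorem isZero_E (j : ℕ) (hj : N < j) : IsZero (E N S₀ j) := by
  obtain ⟨j', rfl⟩ : ∃ j', j = j' + 1 := ⟨j - 1, by omega⟩
  rw [E_ge N S₀ (j' + 1) (by omega)]
  exact isZero_K_succ N S₀ j' (by omega)

/-- Hilbert's syzygy theorem for coherent sheaves on `P^n_k`. -/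
theorem syzygy (k : Type u) [Field k] (n : ℕ) (F : (CohB1.ProjSpace n k).Modules)
    (hF : Coh.IsCoh F) :
    ∃ (C : ChainComplex (CohB1.ProjSpace n k).Modules ℕ) (π : C.X 0 ⟶ F) (w : C.d 1 0 ≫ π = 0),
      (∀ i : ℕ, n + 1 < i → IsZero (C.X i)) ∧
      (∀ i : ℕ, ∃ (m : ℕ) (d : Fin m → ℤ),
        Nonempty (C.X i ≅ ∐ fun j : Fin m => Twist.twistProjSpace n k (d j))) ∧
      (∀ i : ℕ, 1 ≤ i → IsZero (C.homology i)) ∧ Epi π ∧
      (ShortComplex.mk (C.d 1 0) π w).Exact := by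
  obtain ⟨d₀, hd₀⟩ := serre_vanishing n k F hF
  have hreg : Curv2.IsMRegular k n F (d₀ + n) := fun i hi1 hin => hd₀ _ (by omega) i hi1
  let S₀ : Stage k n := ⟨F, d₀ + n, hF, hreg⟩
  refine ⟨cx (n + 1) S₀, φ (n + 1) S₀ 0, cx_d_comp_φ (n + 1) S₀, ?_, ?_, ?_, ?_, ?_⟩
  · intro i hi
    exact isZero_E (n + 1) S₀ i hi
  · intro i
    rcases lt_trichotomy i (n + 1) with hlt | heq | hgt
    · exact E_lt (n + 1) S₀ i hlt
    · subst heq
      obtain ⟨r, a, ⟨e⟩⟩ := splits_mseq S₀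
      refine ⟨r, a, ⟨eqToIso ?_ ≪≫ e⟩⟩
      change E (n + 1) S₀ (n + 1) = _
      rw [E_ge (n + 1) S₀ (n + 1) le_rfl, seq_eq_mseq (n + 1) S₀ (n + 1) le_rfl]
    · exact ⟨0, Fin.elim0, ⟨(isZero_E (n + 1) S₀ i hgt).iso (isZero_sigma_fin_zero _)⟩⟩
  · intro i hi
    exact isZero_homology (n + 1) S₀ i hi
  · exact (inferInstance : Epi (φ (n + 1) S₀ 0))
  · exact exact_aug (n + 1) S₀

end Groth.Agent.Lib.Helper27Syzygy
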