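import Groth.Agent.Lib.Helper27TowerAlg
import Groth.Agent.Lib.Helper22ThickAffine

/-!
# A morphism from a nilpotent thickening is a closed immersion if it is one on the base (helper27)

* `surjective_of_nilpotent_thickening`: the ring-theoretic Nakayama argument.
* `isClosedImmersion_of_thickening`: for `X = X' ×_A B` (`A → B` surjective with kernel nilpotent on
  `X'`, `j : X ⟶ X'` surjective) and `h : X' ⟶ P` over `A`: if `j ≫ h` is a closed immersion, so is `h`.
-/

set_option autoImplicit false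
set_option linter.style.haveILetI false
set_option linter.unusedSectionVars false
universe u
open CategoryTheory Limits AlgebraicGeometry TopologicalSpace Opposite

namespace Groth.Agent.Lib.Helper27ThickCI

open Groth.Agent.Lib.Helper17.FlatDev Groth.Agent.Lib.Helper27TowerFormal
  Groth.Agent.Lib.Helper27TowerAlg Groth.Agent.Lib.Helper27TowerStep
  Groth.Agent.Lib.Helper4.Dev

section Alg

theorem surjective_of_nilpotent_thickening {A R S : Type*} [CommRing A] [CommRing R] [CommRing S]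
    (ρR : A →+* R) (ψ : R →+* S) (K : Ideal A) (n : ℕ)
    (hn : ∀ c ∈ K ^ n, ψ (ρR c) = 0)
    (hs : ∀ s : S, ∃ r : R, s - ψ r ∈ Ideal.map (ψ.comp ρR) K) :
    Function.Surjective ψ := by
  set ρ' : A →+* S := ψ.comp ρR with hρ'
  set 𝔞 : Ideal S := Ideal.map ρ' K with h𝔞
  have hpow : ∀ m, 𝔞 ^ m = Ideal.map ρ' (K ^ m) := fun m => (Ideal.map_pow ρ' K m).symm
  have step : ∀ m (x : S), x ∈ 𝔞 ^ m → ∃ r : R, x - ψ r ∈ 𝔞 ^ (m + 1) := by
    intro m x hx
    rw [hpow m] at hx
    have hspan : Ideal.map ρ' (K ^ m) = Ideal.span (ρ' '' (K ^ m : Ideal A)) := rfl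
    rw [hspan] at hx
    refine Submodule.span_induction (p := fun x _ => ∃ r : R, x - ψ r ∈ 𝔞 ^ (m + 1))
      ?_ ?_ ?_ ?_ hx
    · rintro y ⟨b, hb, rfl⟩
      refine ⟨ρR b, ?_⟩
      have : ρ' b - ψ (ρR b) = 0 := sub_self _
      rw [this]
      exact Ideal.zero_mem _
    · exact ⟨0, by rw [map_zero, sub_zero]; exact Ideal.zero_mem _⟩
    · rintro y y' _ _ ⟨r, hr⟩ ⟨r', hr'⟩
      refine ⟨r + r', ?_⟩
      have : y + y' - ψ (r + r') = (y - ψ r) + (y' - ψ r') := by rw [map_add]; ring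
      rw [this]
      exact Ideal.add_mem _ hr hr'
    · rintro a y hy ⟨r, hr⟩
      obtain ⟨ra, hra⟩ := hs a
      refine ⟨ra * r, ?_⟩
      have hy' : y ∈ 𝔞 ^ m := by rw [hpow m, hspan]; exact hy
      have : a • y - ψ (ra * r) = (a - ψ ra) * y + ψ ra * (y - ψ r) := by
        rw [map_mul, smul_eq_mul]; ring
      rw [this]
      refine Ideal.add_mem _ ?_ (Ideal.mul_mem_left _ _ hr)
      rw [pow_succ']
      exact Ideal.mul_mem_mul hra hy'
  have claim : ∀ m (s : S), ∃ r : R, s - ψ r ∈ 𝔞 ^ m := by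
    intro m
    induction m with
    | zero => intro s; exact ⟨0, by rw [pow_zero, Ideal.one_eq_top]; trivial⟩
    | succ m ih =>
      intro s
      obtain ⟨r, hr⟩ := ih s
      obtain ⟨r', hr'⟩ := step m _ hr
      refine ⟨r + r', ?_⟩
      have : s - ψ (r + r') = s - ψ r - ψ r' := by rw [map_add]; ring
      rw [this]
      exact hr'
  have hbot : 𝔞 ^ n = ⊥ := by
    rw [hpow n, Ideal.map_eq_bot_iff_le_ker]
    intro c hc
    rw [RingHom.mem_ker]
    exact hn c hc
  intro s
  obtain ⟨r, hr⟩ := claim n s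
  rw [hbot, Ideal.mem_bot, sub_eq_zero] at hr
  exact ⟨r, hr.symm⟩

end Alg

section Geo

variable {A B : Type u} [CommRing A] [IsNoetherianRing A] [CommRing B] (φ : A →+* B)
  (hφ : Function.Surjective φ)
  {X X' P : Scheme.{u}} [X.Over (Spec (CommRingCat.of A))] [X'.Over (Spec (CommRingCat.of A))]
  [P.Over (Spec (CommRingCat.of A))]
  (j : X ⟶ X') (z : X ⟶ Spec (CommRingCat.of B))
  (hsq : IsPullback j z (X' ↘ Spec (CommRingCat.of A)) (Spec.map (CommRingCat.ofHom φ)))
  (hjo : j ≫ (X' ↘ Spec (CommRingCat.of A)) = X ↘ Spec (CommRingCat.of A))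

include hsq hjo in
theorem killedBy_ker (M : X.Modules) : Formal.KilledBy (RingHom.ker φ) M := by
  intro a ha
  unfold Formal.smulMod
  rw [← hjo, hsq.w, toGlobal_comp_specMap, (RingHom.mem_ker).1 ha, map_zero]
  exact KLin.smulModΓ_zero M

include hsq hφ hjo in
/-- sections of `O_{X'}` over an affine open which die on `X` lie in `K · O_{X'}`. -/
theorem exists_of_app_eq_zero {r : ℕ} (c : Fin r → A)
    (hc : RingHom.ker φ = Ideal.span (Set.range c))
    {V : X'.Opens} (hV : IsAffineOpen V) (f : Γ(X', V)) (hf : (j.app V).hom f = 0) :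
    ∃ y : Fin r → Γ(X', V), f = ∑ t, ρ V (c t) * y t := by
  haveI : (Coh.structureModule X').IsQuasicoherent := (isCoh_structureModule X').1
  have w₀ : Formal.smulFamily (RingHom.ker φ) (Coh.structureModule X') ≫ sharp j = 0 := by
    apply Sigma.hom_ext
    intro b
    rw [comp_zero, ← Category.assoc, ι_smulFamily, ← Groth.Agent.Lib.Helper17.IAdic.comp_smulMod,
      killedBy_pushforward j hjo _ _ (killedBy_ker φ j z hsq hjo _) b.1 b.2, comp_zero]
  haveI hD := isIso_desc_sharp φ j z hsq hφ (RingHom.ker φ) rfl w₀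
  have h1 : (πQ (RingHom.ker φ) (Coh.structureModule X')).app V
      (show Γ(Coh.structureModule X', V) from f) = 0 := by
    refine app_eq_zero_of_iso (asIso (cokernel.desc _ _ w₀)) V _ ?_
    rw [asIso_hom, ← comp_app_apply, cokernel.π_desc]
    exact hf
  obtain ⟨y, hy⟩ := ker_πQ_app c (RingHom.ker φ) hc (Coh.structureModule X') hV _ h1
  exact ⟨fun t => y t, hy⟩

include hsq hφ hjo in
/-- **closed immersions lift along nilpotent thickenings.** -/
theorem isClosedImmersion_of_thickening (hj : Function.Surjective j) (n : ℕ)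
    (hn : ∀ c ∈ (RingHom.ker φ) ^ n, Coh.toGlobal (X' ↘ Spec (CommRingCat.of A)) c = 0)
    (h : X' ⟶ P) (hh : h ≫ (P ↘ Spec (CommRingCat.of A)) = X' ↘ Spec (CommRingCat.of A))
    [IsClosedImmersion (j ≫ h)] : IsClosedImmersion h := by
  haveI : IsClosedImmersion j := isClosedImmersion_of_surjective φ j z hsq hφ
  have haff : ∀ U : P.Opens, IsAffineOpen U → IsAffineOpen (h ⁻¹ᵁ U) := by
    intro U hU
    have h1 : IsAffineOpen ((j ≫ h) ⁻¹ᵁ U) := hU.preimage (j ≫ h)
    haveI : IsAffine (j ⁻¹ᵁ (h ⁻¹ᵁ U) : X.Opens).toScheme := h1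
    haveI : Surjective j := ⟨hj⟩
    have hs : Surjective (j ∣_ (h ⁻¹ᵁ U)) := IsZariskiLocalAtTarget.restrict ‹_› _
    exact Groth.Agent.Lib.Helper22.ThickAffine.isAffine_of_thickening (j ∣_ (h ⁻¹ᵁ U)) hs.surj
  rw [isClosedImmersion_iff_isAffineHom]
  refine ⟨⟨haff⟩, fun U hU => ?_⟩
  obtain ⟨r, c, hc⟩ := Submodule.fg_iff_exists_fin_generating_family.1
    (IsNoetherian.noetherian (RingHom.ker φ))
  refine surjective_of_nilpotent_thickening (ρ U) (h.app U).hom (RingHom.ker φ) n ?_ ?_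
  · intro c' hc'
    rw [app_ρ h U c', hh, hn c' hc']
    exact map_zero _
  · intro s
    obtain ⟨a, ha⟩ := Scheme.Hom.app_surjective (j ≫ h) U hU ((j.app (h ⁻¹ᵁ U)).hom s)
    have h2 : (j.app (h ⁻¹ᵁ U)).hom (s - (h.app U).hom a) = 0 := by
      rw [map_sub, sub_eq_zero]
      exact ha.symm
    obtain ⟨y, hy⟩ := exists_of_app_eq_zero φ hφ j z hsq hjo c hc.symm (haff U hU) _ h2
    refine ⟨a, ?_⟩
    rw [hy]
    refine Ideal.sum_mem _ fun t _ => Ideal.mul_mem_right _ _ ?_
    have e : ρ (h ⁻¹ᵁ U) (c t) = ((h.app U).hom.comp (ρ U)) (c t) := by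
      rw [RingHom.comp_apply, app_ρ h U, hh]
      rfl
    rw [e]
    exact Ideal.mem_map_of_mem _ (hc ▸ Submodule.subset_span ⟨t, rfl⟩)

end Geo

end Groth.Agent.Lib.Helper27ThickCI
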