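import Mathlib
import Groth.Agent.Lib.Helper27PnSections
import Groth.Agent.Lib.Helper27AlphaTF
import Groth.Prelude.Def_ega3

/-!
# `H^0(Proj, M(n)~) ≃ M_n` linearly over the base ring, when `α_n` is bijective (helper27)
-/

set_option autoImplicit false
set_option linter.unusedSectionVars false
universe u

open CategoryTheory CategoryTheory.Limits AlgebraicGeometry TopologicalSpace Opposite
  HomogeneousLocalization

namespace Groth.Agent.Lib.Helper27TildeH0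

open Groth.Agent.Lib.Helper27GrTildeSect Groth.Agent.Lib.Helper27PnSections
  Groth.Agent.Lib.Helper27ProjGamma

variable {R A : Type u} [CommRing R] [CommRing A] [Algebra R A] (𝒜 : ℕ → Submodule R A)
  [GradedAlgebra 𝒜]
variable {M : Type u} [AddCommGroup M] [Module R M] [Module A M] [IsScalarTower R A M]
  (ℳ : ℕ → Submodule R M) [DirectSum.Decomposition ℳ] [SetLike.GradedSMul 𝒜 ℳ]

/-- the section `m / 1`. -/
noncomputable def gs (n : ℕ) (m : ℳ n) : Γ(GrTilde.tilde 𝒜 ℳ (n : ℤ), (⊤ : (Proj 𝒜).Opens)) :=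
  GrMod.alpha 𝒜 ℳ n m

theorem secVal_gs (n : ℕ) (m : ℳ n) (y : ProjectiveSpectrum 𝒜) :
    secVal 𝒜 ℳ (n : ℤ) ⊤ (gs 𝒜 ℳ n m) y trivial = LocalizedModule.mk (m : M) 1 := rfl

theorem gs_smul (n : ℕ) (r : R) (m : ℳ n) :
    gs 𝒜 ℳ n (r • m) = constFun 𝒜 r • gs 𝒜 ℳ n m := by
  apply sec_ext
  intro y hy
  obtain ⟨d, f, hd, hf, hfy⟩ := exists_homogeneous_pos_not_mem 𝒜 y
  rw [secVal_smul, funVal_constFun_val 𝒜 hf hd r y hfy]
  change (LocalizedModule.mk ((r • m : ℳ n) : M) 1 : GrTilde.LocMod 𝒜 (M := M) y) =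
    (Localization.mk (algebraMap R A r) (1 : y.asHomogeneousIdeal.toIdeal.primeCompl) :
      Twist.Loc 𝒜 y) • (LocalizedModule.mk (m : M) 1 : GrTilde.LocMod 𝒜 (M := M) y)
  rw [LocalizedModule.mk_smul_mk, one_mul, Submodule.coe_smul, algebraMap_smul]

/-- `H^0(Proj, M(n)~) ≃ M_n`, linearly over the base ring, when `α_n` is bijective. -/
theorem nonempty_linearEquiv_HH0 (n : ℕ) (hbij : Function.Bijective (GrMod.alpha 𝒜 ℳ n)) :
    Nonempty (Coh.HH (Proj 𝒜) (GrTilde.tilde 𝒜 ℳ (n : ℤ)) 0 ≃ₗ[R] ↥(ℳ n)) := by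
  let e0 := hh0Equiv (Proj 𝒜) (GrTilde.tilde 𝒜 ℳ (n : ℤ))
  let g : ↥(ℳ n) → Γ(GrTilde.tilde 𝒜 ℳ (n : ℤ), (⊤ : (Proj 𝒜).Opens)) := gs 𝒜 ℳ n
  have hg_add : ∀ b b', g (b + b') = g b + g b' := fun b b' => map_add (GrMod.alpha 𝒜 ℳ n) b b'
  have hg_smul : ∀ (r : R) b, g (r • b) = constFun 𝒜 r • g b := fun r b => gs_smul 𝒜 ℳ n r b
  let c : Γ(GrTilde.tilde 𝒜 ℳ (n : ℤ), (⊤ : (Proj 𝒜).Opens)) ≃+
      ↑((Coh.toAb (GrTilde.tilde 𝒜 ℳ (n : ℤ))).obj.obj (op ⊤)) :=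
    { toFun := fun x => x
      invFun := fun x => x
      left_inv := fun _ => rfl
      right_inv := fun _ => rfl
      map_add' := fun _ _ => rfl }
  have hc_smul : ∀ (r : R) (s : Γ(GrTilde.tilde 𝒜 ℳ (n : ℤ), (⊤ : (Proj 𝒜).Opens))),
      c (constFun 𝒜 r • s) =
        @HSMul.hSMul ((Proj 𝒜).ringCatSheaf.obj.obj (op ⊤))
          ((GrTilde.tilde 𝒜 ℳ (n : ℤ)).val.obj (op ⊤))
          ((GrTilde.tilde 𝒜 ℳ (n : ℤ)).val.obj (op ⊤)) _
          (Coh.toGlobal (Proj 𝒜 ↘ Spec (CommRingCat.of R)) r) (c s) :=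
    fun _ _ => rfl
  let φ : ↥(ℳ n) →ₗ[R] Coh.HH (Proj 𝒜) (GrTilde.tilde 𝒜 ℳ (n : ℤ)) 0 :=
    { toFun := fun b => e0.symm (c (g b))
      map_add' := fun b b' => by
        rw [hg_add, map_add c]
        exact map_add e0.symm _ _
      map_smul' := fun r b => by
        apply e0.injective
        rw [RingHom.id_apply, AddEquiv.apply_symm_apply]
        have h1 : e0 (r • e0.symm (c (g b))) =
            e0 ((Coh.toGlobal (Proj 𝒜 ↘ Spec (CommRingCat.of R)) r) •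
              e0.symm (c (g b))) := rfl
        rw [h1, hh0Equiv_smul, Coh.smulAb_app, resTop_top, AddEquiv.apply_symm_apply, hg_smul,
          hc_smul] }
  have hφ : Function.Bijective φ :=
    ⟨fun b b' h => hbij.1 (c.injective (e0.symm.injective h)),
      fun x => by
        obtain ⟨b, hb⟩ := hbij.2 (c.symm (e0 x))
        exact ⟨b, by
          change e0.symm (c (g b)) = x
          have hb' : g b = c.symm (e0 x) := hb
          rw [hb', AddEquiv.apply_symm_apply, AddEquiv.symm_apply_apply]⟩⟩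
  exact ⟨(LinearEquiv.ofBijective φ hφ).symm⟩

end Groth.Agent.Lib.Helper27TildeH0
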