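import Groth.Agent.Lib.Helper2GrModFT

/-!
# Finitely generated sections of `M(n)~` over `D₊(t)`, `deg t = d > 0` arbitrary (helper2; `SetLike` gradings)

* `mfrac ht k hi hm` : the section `m / t^k` of `M(n)~ = GrMod.tilde 𝒜 ℳ n` over `D₊(t)` (`deg m = k d + n`);
* `cfrac ht j ha` : the function `a / t^j` on `D₊(t)` (`deg a = j d`);
* `finite_sections_basicOpen` : if the `A`-span of the pieces `ℳ_i`, `i ≡ n mod d`, is finitely generated, then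
  `Γ(M(n)~, D₊(t))` is a finite `Γ(Proj, D₊(t))`-module;
* `finite_sections_twist_basicOpen` : for a Noetherian graded ring, `Γ(O(n), D₊(t))` is a finite `Γ(Proj, D₊(t))`-module.
-/

set_option autoImplicit false
universe u

open CategoryTheory CategoryTheory.Limits AlgebraicGeometry TopologicalSpace Opposite
  HomogeneousLocalization

namespace Groth.Agent.Lib.Helper2GrModSect.FTd

open Groth.Agent.Lib.Helper2GrModSect

variable {A σ : Type u} [CommRing A] [SetLike σ A] [AddSubgroupClass σ A] (𝒜 : ℕ → σ)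
  [GradedRing 𝒜]
variable {M τ : Type u} [AddCommGroup M] [Module A M] [SetLike τ M] [AddSubgroupClass τ M]
  (ℳ : ℕ → τ) [DirectSum.Decomposition ℳ] [SetLike.GradedSMul 𝒜 ℳ] (n : ℤ)

theorem pow_mem_d {t : A} {d : ℕ} (ht : t ∈ 𝒜 d) (k : ℕ) : t ^ k ∈ 𝒜 (k * d) := by
  have := SetLike.pow_mem_graded k ht
  rwa [smul_eq_mul] at this

/-- the section `m / t^k` of `M(n)~` over `D₊(t)`. -/
noncomputable def mfrac {t : A} {d : ℕ} (ht : t ∈ 𝒜 d) (k : ℕ) {i : ℕ}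
    (hi : (i : ℤ) = ((k * d : ℕ) : ℤ) + n) {m : M} (hm : m ∈ ℳ i) :
    Γ(GrMod.tilde 𝒜 ℳ n, Proj.basicOpen 𝒜 t) :=
  ofSect 𝒜 ℳ n _ (fracOn 𝒜 ℳ n (Proj.basicOpen 𝒜 t) hm (pow_mem_d 𝒜 ht k) hi (pow_not_mem k))

theorem secVal_mfrac {t : A} {d : ℕ} (ht : t ∈ 𝒜 d) (k : ℕ) {i : ℕ}
    (hi : (i : ℤ) = ((k * d : ℕ) : ℤ) + n) {m : M} (hm : m ∈ ℳ i)
    (y : ProjectiveSpectrum 𝒜) (hy : y ∈ Proj.basicOpen 𝒜 t) :
    secVal 𝒜 ℳ n _ (mfrac 𝒜 ℳ n ht k hi hm) y hy =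
      (LocalizedModule.mk m (⟨t ^ k, pow_not_mem k ⟨y, hy⟩⟩ :
        y.asHomogeneousIdeal.toIdeal.primeCompl) : GrMod.LocMod 𝒜 (M := M) y) := rfl

/-- the function `a / t^j` on `D₊(t)`. -/
noncomputable def cfrac {t : A} {d : ℕ} (ht : t ∈ 𝒜 d) (j : ℕ) {a : A} (ha : a ∈ 𝒜 (j * d)) :
    Γ(Proj 𝒜, Proj.basicOpen 𝒜 t) :=
  ofFun 𝒜 (Proj.basicOpen 𝒜 t)
    ⟨fun y => HomogeneousLocalization.mk
        ⟨j * d, ⟨a, ha⟩, ⟨t ^ j, pow_mem_d 𝒜 ht j⟩, pow_not_mem j y⟩,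
      fun y => ⟨Proj.basicOpen 𝒜 t, y.2, 𝟙 _, j * d, ⟨a, ha⟩, ⟨t ^ j, pow_mem_d 𝒜 ht j⟩,
        fun z => pow_not_mem j z, fun _ => rfl⟩⟩

theorem funVal_cfrac {t : A} {d : ℕ} (ht : t ∈ 𝒜 d) (j : ℕ) {a : A} (ha : a ∈ 𝒜 (j * d))
    (y : ProjectiveSpectrum 𝒜) (hy : y ∈ Proj.basicOpen 𝒜 t) :
    (funVal 𝒜 _ (cfrac 𝒜 ht j ha) y hy).val =
      (Localization.mk a (⟨t ^ j, pow_not_mem j ⟨y, hy⟩⟩ :
        y.asHomogeneousIdeal.toIdeal.primeCompl) : GrTwist.Loc 𝒜 y) := rfl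

theorem secVal_add (W : (Proj 𝒜).Opens) (s s' : Γ(GrMod.tilde 𝒜 ℳ n, W))
    (y : ProjectiveSpectrum 𝒜) (hy : y ∈ W) :
    secVal 𝒜 ℳ n W (s + s') y hy = secVal 𝒜 ℳ n W s y hy + secVal 𝒜 ℳ n W s' y hy := rfl

theorem mfrac_add {t : A} {d : ℕ} (ht : t ∈ 𝒜 d) (k : ℕ) {i : ℕ}
    (hi : (i : ℤ) = ((k * d : ℕ) : ℤ) + n) {m m' : M} (hm : m ∈ ℳ i) (hm' : m' ∈ ℳ i)
    (hmm : m + m' ∈ ℳ i) :
    mfrac 𝒜 ℳ n ht k hi hmm = mfrac 𝒜 ℳ n ht k hi hm + mfrac 𝒜 ℳ n ht k hi hm' := by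
  apply sec_ext
  intro y hy
  rw [secVal_add, secVal_mfrac, secVal_mfrac, secVal_mfrac]
  rw [LocalizedModule.mk_add_mk, LocalizedModule.mk_eq]
  refine ⟨1, ?_⟩
  simp only [one_smul, smul_add, Submonoid.smul_def, mul_smul]

theorem mfrac_zero {t : A} {d : ℕ} (ht : t ∈ 𝒜 d) (k : ℕ) {i : ℕ}
    (hi : (i : ℤ) = ((k * d : ℕ) : ℤ) + n) (h0 : (0 : M) ∈ ℳ i) :
    mfrac 𝒜 ℳ n ht k hi h0 = 0 := by
  apply sec_ext
  intro y hy
  rw [secVal_zero, secVal_mfrac, LocalizedModule.zero_mk]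

theorem mfrac_congr {t : A} {d : ℕ} (ht : t ∈ 𝒜 d) {k k' : ℕ} (hk : k = k') {i i' : ℕ} (hii : i = i')
    (hi : (i : ℤ) = ((k * d : ℕ) : ℤ) + n) (hi' : (i' : ℤ) = ((k' * d : ℕ) : ℤ) + n)
    {m m' : M} (hm : m ∈ ℳ i) (hm' : m' ∈ ℳ i') (h : m = m') :
    mfrac 𝒜 ℳ n ht k hi hm = mfrac 𝒜 ℳ n ht k' hi' hm' := by
  subst hk; subst hii; subst h; rfl

theorem mfrac_cancel {t : A} {d : ℕ} (ht : t ∈ 𝒜 d) (k r : ℕ) {i : ℕ}
    (hi : (i : ℤ) = ((k * d : ℕ) : ℤ) + n) {m : M} (hm : m ∈ ℳ i)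
    (hi' : ((r * d + i : ℕ) : ℤ) = (((r + k) * d : ℕ) : ℤ) + n)
    (htm : t ^ r • m ∈ ℳ (r * d + i)) :
    mfrac 𝒜 ℳ n ht (r + k) hi' htm = mfrac 𝒜 ℳ n ht k hi hm := by
  apply sec_ext
  intro y hy
  rw [secVal_mfrac, secVal_mfrac, LocalizedModule.mk_eq]
  refine ⟨1, ?_⟩
  simp only [one_smul, Submonoid.smul_def]
  rw [smul_smul, pow_add, mul_comm]

theorem cfrac_smul_mfrac {t : A} {d : ℕ} (ht : t ∈ 𝒜 d) (j k : ℕ) {a : A} (ha : a ∈ 𝒜 (j * d))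
    {i : ℕ} (hi : (i : ℤ) = ((k * d : ℕ) : ℤ) + n) {m : M} (hm : m ∈ ℳ i)
    (hi' : ((j * d + i : ℕ) : ℤ) = (((j + k) * d : ℕ) : ℤ) + n)
    (ham : a • m ∈ ℳ (j * d + i)) :
    cfrac 𝒜 ht j ha • mfrac 𝒜 ℳ n ht k hi hm = mfrac 𝒜 ℳ n ht (j + k) hi' ham := by
  apply sec_ext
  intro y hy
  rw [secVal_smul, funVal_cfrac, secVal_mfrac, secVal_mfrac]
  change (Localization.mk a _ : Localization _) • LocalizedModule.mk m _ = _
  rw [LocalizedModule.mk_smul_mk, LocalizedModule.mk_eq]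
  refine ⟨1, ?_⟩
  simp only [one_smul, Submonoid.smul_def, Submonoid.coe_mul]
  rw [pow_add]

theorem exists_mfrac {t : A} {d : ℕ} (hd : 0 < d) (ht : t ∈ 𝒜 d)
    (s : Γ(GrMod.tilde 𝒜 ℳ n, Proj.basicOpen 𝒜 t)) :
    ∃ (k i : ℕ) (hi : (i : ℤ) = ((k * d : ℕ) : ℤ) + n) (m : M) (hm : m ∈ ℳ i),
      s = mfrac 𝒜 ℳ n ht k hi hm := by
  obtain ⟨k, i, ⟨m, hm⟩, hi, hval⟩ := exists_global (toSect 𝒜 ℳ n _ s) hd ht
  have hi' : (i : ℤ) = ((k * d : ℕ) : ℤ) + n := by rw [hi]; push_cast; ring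
  refine ⟨k, i, hi', m, hm, ?_⟩
  apply sec_ext
  intro y hy
  rw [secVal_mfrac]
  exact hval ⟨y, hy⟩

/-- **finitely generated sections over `D₊(t)`, `deg t = d > 0`.** -/
theorem finite_sections_basicOpen {t : A} {d : ℕ} (hd : 0 < d) (ht : t ∈ 𝒜 d)
    (hFG : (Submodule.span A (⋃ i ∈ {i : ℕ | ∃ k : ℕ, (i : ℤ) = ((k * d : ℕ) : ℤ) + n},
      (ℳ i : Set M))).FG) :
    Module.Finite Γ(Proj 𝒜, Proj.basicOpen 𝒜 t) Γ(GrMod.tilde 𝒜 ℳ n, Proj.basicOpen 𝒜 t) := by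
  classical
  obtain ⟨S', hS', hspan⟩ := (Submodule.fg_span_iff_fg_span_finset_subset _).mp hFG
  have hdeg : ∀ s : S', ∃ (i k : ℕ), (s : M) ∈ ℳ i ∧ (i : ℤ) = ((k * d : ℕ) : ℤ) + n := by
    intro s
    have := hS' s.2
    simp only [Set.mem_iUnion] at this
    obtain ⟨i, ⟨k, hk⟩, hi⟩ := this
    exact ⟨i, k, hi, hk⟩
  choose deg kk hdegm hdk using hdeg
  let K : ℕ := ∑ s : S', kk s
  have hK : ∀ s : S', kk s ≤ K := fun s =>
    Finset.single_le_sum (f := kk) (fun _ _ => Nat.zero_le _) (Finset.mem_univ s)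
  let gen : S' → Γ(GrMod.tilde 𝒜 ℳ n, Proj.basicOpen 𝒜 t) :=
    fun s => mfrac 𝒜 ℳ n ht (kk s) (hdk s) (hdegm s)
  let Q : Submodule Γ(Proj 𝒜, Proj.basicOpen 𝒜 t) Γ(GrMod.tilde 𝒜 ℳ n, Proj.basicOpen 𝒜 t) :=
    Submodule.span _ (Set.range gen)
  have hQfg : Q.FG := Submodule.fg_span (Set.finite_range gen)
  have h1 : ∀ (k i : ℕ) (hi : (i : ℤ) = ((k * d : ℕ) : ℤ) + n), K ≤ k → ∀ (m : M) (hm : m ∈ ℳ i),
      mfrac 𝒜 ℳ n ht k hi hm ∈ Q := by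
    intro k i hi hk m hm
    have hmN : m ∈ Submodule.span A (S' : Set M) := by
      rw [← hspan]
      exact Submodule.subset_span (Set.mem_iUnion₂.mpr ⟨i, ⟨k, hi⟩, hm⟩)
    obtain ⟨c, hc⟩ := Submodule.mem_span_finset'.mp hmN
    have hle : ∀ s : S', deg s ≤ i ∧ i - deg s = (k - kk s) * d := by
      intro s
      have h1 := hdk s
      have h2 : kk s ≤ k := (hK s).trans hk
      obtain ⟨r, hr⟩ := Nat.exists_eq_add_of_le h2
      have h3 : (i : ℤ) = (deg s : ℤ) + ((r * d : ℕ) : ℤ) := by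
        rw [hi, h1, hr]; push_cast; ring
      have h4 : i = deg s + r * d := by exact_mod_cast h3
      constructor
      · omega
      · rw [h4, hr]; simp
    have hm_eq : m = ∑ s : S', (DirectSum.decompose 𝒜 (c s) (i - deg s) : A) • (s : M) := by
      have h2 : (DirectSum.decompose ℳ m i : M) = m := DirectSum.decompose_of_mem_same ℳ hm
      rw [← h2, ← hc, DirectSum.decompose_sum, DFinsupp.finsetSum_apply,
        AddSubmonoidClass.coe_finsetSum]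
      refine Finset.sum_congr rfl fun s _ => ?_
      have hks : i = (i - deg s) + deg s := (Nat.sub_add_cancel (hle s).1).symm
      conv_lhs => rw [hks]
      exact decompose_smul 𝒜 ℳ (hdegm s) (c s) (i - deg s)
    have key : (∑ s : S', (DirectSum.decompose 𝒜 (c s) (i - deg s) : A) • (s : M)) ∈ ℳ i ∧
        ∀ hx : (∑ s : S', (DirectSum.decompose 𝒜 (c s) (i - deg s) : A) • (s : M)) ∈ ℳ i,
          mfrac 𝒜 ℳ n ht k hi hx ∈ Q := by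
      refine Finset.sum_induction _
        (fun x => x ∈ ℳ i ∧ ∀ hx : x ∈ ℳ i, mfrac 𝒜 ℳ n ht k hi hx ∈ Q) ?_ ?_ ?_
      · rintro x x' ⟨hx, hQx⟩ ⟨hx', hQx'⟩
        refine ⟨add_mem hx hx', fun hxx => ?_⟩
        rw [mfrac_add 𝒜 ℳ n ht k hi hx hx' hxx]
        exact Q.add_mem (hQx hx) (hQx' hx')
      · exact ⟨zero_mem _, fun h0 => by rw [mfrac_zero]; exact Q.zero_mem⟩
      · intro s _
        obtain ⟨hles, hidx⟩ := hle s
        have hks : (k - kk s) + kk s = k := Nat.sub_add_cancel ((hK s).trans hk)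
        have hii : (k - kk s) * d + deg s = i := by rw [← hidx]; exact Nat.sub_add_cancel hles
        have ha : (DirectSum.decompose 𝒜 (c s) (i - deg s) : A) ∈ 𝒜 ((k - kk s) * d) := by
          rw [← hidx]; exact SetLike.coe_mem _
        have hmem : (DirectSum.decompose 𝒜 (c s) (i - deg s) : A) • (s : M) ∈
            ℳ ((k - kk s) * d + deg s) :=
          SetLike.GradedSMul.smul_mem ha (hdegm s)
        have hi'' : (((k - kk s) * d + deg s : ℕ) : ℤ) =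
            ((((k - kk s) + kk s) * d : ℕ) : ℤ) + n := by
          rw [hii, hks]; exact hi
        refine ⟨by have h' := hmem; rwa [hii] at h', fun hx => ?_⟩
        rw [mfrac_congr 𝒜 ℳ n ht hks.symm hii.symm hi hi'' hx hmem rfl,
          ← cfrac_smul_mfrac 𝒜 ℳ n ht _ _ ha (hdk s) (hdegm s) hi'' hmem]
        exact Q.smul_mem _ (Submodule.subset_span ⟨s, rfl⟩)
    have := key.2 (hm_eq ▸ hm)
    rw [mfrac_congr 𝒜 ℳ n ht rfl rfl hi hi hm (hm_eq ▸ hm) hm_eq]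
    exact this
  have htop : Q = ⊤ := by
    rw [eq_top_iff]
    intro s _
    obtain ⟨k, i, hi, m, hm, rfl⟩ := exists_mfrac 𝒜 ℳ n hd ht s
    have htm : t ^ K • m ∈ ℳ (K * d + i) := SetLike.GradedSMul.smul_mem (pow_mem_d 𝒜 ht K) hm
    have hi' : ((K * d + i : ℕ) : ℤ) = (((K + k) * d : ℕ) : ℤ) + n := by
      push_cast; rw [hi]; push_cast; ring
    rw [← mfrac_cancel 𝒜 ℳ n ht k K hi hm hi' htm]
    exact h1 _ _ hi' (Nat.le_add_right K k) _ htm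
  exact ⟨htop ▸ hQfg⟩

/-- for a Noetherian graded ring, `Γ(O(n), D₊(t))` is a finite `Γ(Proj, D₊(t))`-module. -/
theorem finite_sections_twist_basicOpen [IsNoetherianRing A] {t : A} {d : ℕ} (hd : 0 < d) (ht : t ∈ 𝒜 d) :
    Module.Finite Γ(Proj 𝒜, Proj.basicOpen 𝒜 t) Γ(GrMod.tilde 𝒜 𝒜 n, Proj.basicOpen 𝒜 t) :=
  finite_sections_basicOpen 𝒜 𝒜 n hd ht (IsNoetherian.noetherian _)

end Groth.Agent.Lib.Helper2GrModSect.FTd
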