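import Mathlib
import Groth.Agent.Lib.Helper27SerreVanProj
import Groth.Agent.Lib.Helper2GrModFTd
import Groth.Agent.Lib.Helper27ProjCover

/-!
# Coherence and Serre vanishing for the modules `M(n)~` on `Proj` (helper27)

For a Noetherian graded `R`-algebra `A` and a finite graded `A`-module `M`:
* `isCoh_tilde` : `M(n)~` is coherent.
* `nonempty_tensor_tilde_iso` : `M(p)~ ⊗ O(k) ≅ M(p+k)~` when `O(k)` is locally generated by a
  fraction.
* `serre_vanishing_tilde` : when `Proj` is covered by the `D₊(g)`, `g` of degree one, the higher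
  cohomology of `M(d)~` vanishes for `d ≫ 0`.
-/

set_option autoImplicit false
set_option linter.unusedSectionVars false
universe u

open CategoryTheory CategoryTheory.Limits AlgebraicGeometry TopologicalSpace Opposite
  HomogeneousLocalization

namespace Groth.Agent.Lib.Helper27TildeSerre

open Groth.Agent.Lib.Helper27GrTildeSect Groth.Agent.Lib.Helper27ProjLcmCover
  Groth.Agent.Lib.Helper27TwistFT Groth.Agent.Lib.Helper23.SecTw Groth.Agent.Lib.Helper23.Extend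

variable {R A : Type u} [CommRing R] [CommRing A] [Algebra R A] (𝒜 : ℕ → Submodule R A)
  [GradedAlgebra 𝒜]
variable {M : Type u} [AddCommGroup M] [Module R M] [Module A M] [IsScalarTower R A M]
  (ℳ : ℕ → Submodule R M)
  [DirectSum.Decomposition ℳ] [SetLike.GradedSMul 𝒜 ℳ]

/-- `M(n)~` is of finite type for a finite module over a Noetherian graded ring. -/
theorem isFiniteType_tilde [IsNoetherianRing A] [Module.Finite A M] (n : ℤ) :
    SheafOfModules.IsFiniteType (R := (Proj 𝒜).ringCatSheaf) (GrTilde.tilde 𝒜 ℳ n) := by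
  haveI := isQuasicoherent_tilde 𝒜 ℳ n
  haveI : IsNoetherian A M := isNoetherian_of_isNoetherianRing_of_finite A M
  exact Groth.Agent.Lib.Helper23.FinType.isFiniteType_of_finite (GrTilde.tilde 𝒜 ℳ n)
    (fun i : PosIdx 𝒜 => Proj.basicOpen 𝒜 (i.2.1 : A)) (iSup_basicOpen_posIdx_eq_top 𝒜)
    (fun i => Proj.isAffineOpen_basicOpen 𝒜 _ i.2.2.2 i.2.2.1)
    (fun i => Groth.Agent.Lib.Helper2GrModSect.FTd.finite_sections_basicOpen 𝒜 ℳ n i.2.2.1
      i.2.2.2 (IsNoetherian.noetherian _))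

/-- `M(n)~` is coherent. -/
theorem isCoh_tilde [IsNoetherianRing A] [Module.Finite A M] (n : ℤ) :
    Coh.IsCoh (GrTilde.tilde 𝒜 ℳ n) :=
  ⟨isQuasicoherent_tilde 𝒜 ℳ n, isFiniteType_tilde 𝒜 ℳ n⟩

/-- `M(p)~ ⊗ O(k) ≅ M(p+k)~` when `O(k)` is locally generated by a nowhere vanishing fraction. -/
theorem nonempty_tensor_tilde_iso {p k q : ℤ} (h : p + k = q)
    (hcov : ∀ y : Proj 𝒜, ∃ (W : (Proj 𝒜).Opens) (i j : ℕ) (a b : A), y ∈ W ∧ a ∈ 𝒜 i ∧ b ∈ 𝒜 j ∧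
      (i : ℤ) = j + k ∧ (∀ z : W, b ∉ z.1.asHomogeneousIdeal) ∧
      (∀ z : W, a ∉ z.1.asHomogeneousIdeal)) :
    Nonempty (CohB1.tensorMod (GrTilde.tilde 𝒜 ℳ p) (GrTilde.tilde 𝒜 𝒜 k) ≅
      GrTilde.tilde 𝒜 ℳ q) := by
  have hiso : IsIso (mulHom 𝒜 ℳ h) := by
    rw [Scheme.Modules.Hom.isIso_iff_isIso_app]
    intro V
    rw [ConcreteCategory.isIso_iff_bijective]
    apply bijective_app_of_cover
    intro x _
    obtain ⟨W, i, j, a, b, hxW, ha, hb, hij, hWb, hWa⟩ := hcov x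
    exact ⟨W, hxW, isoOn_mulHom 𝒜 ℳ h W ha hb hij hWb hWa⟩
  exact ⟨asIso (mulHom 𝒜 ℳ h)⟩

/-- **Serre vanishing for the `M(d)~`**, when `Proj` is covered by the `D₊(g)` with `g` of degree
one. -/
theorem serre_vanishing_tilde [IsNoetherianRing A] [Module.Finite A M]
    (hcov1 : ∀ y : ProjectiveSpectrum 𝒜, ∃ g ∈ 𝒜 1, g ∉ y.asHomogeneousIdeal) :
    ∃ d₀ : ℕ, ∀ d : ℕ, d₀ ≤ d → ∀ p : ℕ, 0 < p →
      Subsingleton (Coh.HH (Proj 𝒜) (GrTilde.tilde 𝒜 ℳ (d : ℤ)) p) := by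
  obtain ⟨d₀, hd₀⟩ := Groth.Agent.Lib.Helper27SerreVanProj.serre_vanishing_proj_general 𝒜
    (GrTilde.tilde 𝒜 ℳ 0) (isCoh_tilde 𝒜 ℳ 0)
  refine ⟨d₀.toNat, fun d hd p hp => ?_⟩
  have hd' : d₀ ≤ (d : ℤ) := by
    have : (d₀.toNat : ℤ) ≤ (d : ℤ) := by exact_mod_cast hd
    exact le_trans (Int.self_le_toNat d₀) this
  have hv := hd₀ (d : ℤ) hd' p hp
  have hcov' : ∀ y : Proj 𝒜, ∃ (W : (Proj 𝒜).Opens) (i j : ℕ) (a b : A), y ∈ W ∧ a ∈ 𝒜 i ∧
      b ∈ 𝒜 j ∧ (i : ℤ) = j + (d : ℤ) ∧ (∀ z : W, b ∉ z.1.asHomogeneousIdeal) ∧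
      (∀ z : W, a ∉ z.1.asHomogeneousIdeal) := by
    intro y
    obtain ⟨g, hg, hgy⟩ := hcov1 y
    refine ⟨Proj.basicOpen 𝒜 g, d, 0, g ^ d, 1,
      (ProjectiveSpectrum.mem_basicOpen 𝒜 g y).mpr hgy, ?_, SetLike.GradedOne.one_mem,
      by simp, fun z => one_not_mem 𝒜 z.1,
      fun z => pow_not_mem_of_mem_basicOpen d z.1 z.2⟩
    have := Groth.Agent.Lib.Helper27TwistFT.pow_mem_mul hg d
    rwa [mul_one] at this
  obtain ⟨e⟩ := nonempty_tensor_tilde_iso 𝒜 ℳ (show (0 : ℤ) + (d : ℤ) = (d : ℤ) by ring) hcov'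
  exact Groth.Agent.Lib.Helper27SerreVan.subsingleton_HH_of_iso e.symm p hv

end Groth.Agent.Lib.Helper27TildeSerre
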