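import Mathlib
import Groth.Agent.Lib.LeadFF17
import Groth.Agent.Lib.Helper27Ell1
import Groth.Agent.Lib.Helper27Tors3

/-! Finiteness of `m`-torsion on a function field of genus one (characteristic zero). -/

namespace Groth.Agent.Lib.Helper27Tors

open FunFld WithZero Groth.Agent.Lib.LeadFF Polynomial
open scoped IntermediateField

variable {k K : Type*} [Field k] [Field K] [Algebra k K]

open scoped IntermediateField.algebraAdjoinAdjoin in
lemma isAlgebraic_over_algAdjoin (hK : IsFunctionField k K) {z : K} (hz : Transcendental k z) :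
    Algebra.IsAlgebraic (Algebra.adjoin k {z}) K := by
  obtain ⟨⟨x₀, hx₀, hfin⟩, -⟩ := hK
  have hA : Algebra.IsAlgebraic (Algebra.adjoin k {x₀}) K :=
    Algebra.IsAlgebraic.trans (Algebra.adjoin k {x₀}) (IntermediateField.adjoin k {x₀}) K
  have h1 : Algebra.trdeg k K ≤ Cardinal.mk ({x₀} : Set K) :=
    Algebra.IsAlgebraic.trdeg_le_cardinalMk k {x₀}
  rw [Cardinal.mk_singleton] at h1
  have hb : IsTranscendenceBasis k (fun _ : PUnit => z) :=
    AlgebraicIndependent.isTranscendenceBasis_of_trdeg_le_of_finite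
      (algebraicIndependent_unique_type_iff.mpr hz) (by simpa using h1)
  have := hb.isAlgebraic
  rwa [Set.range_const] at this

theorem exists_model [IsAlgClosed k] [CharZero k] (hK : IsFunctionField k K)
    (hg1 : genus k K = 1) (P : Place k K) :
    ∃ (x y : K) (F : k[X]), y ^ 2 = aeval x F ∧
      IntermediateField.adjoin k ({x, y} : Set K) = ⊤ ∧
      P.1 x = exp (2 : ℤ) ∧ P.1 y = exp (3 : ℤ) ∧
      (∀ Q : Place k K, Q ≠ P → Q.1 x ≤ 1 ∧ Q.1 y ≤ 1) := by
  obtain ⟨x, y₀, hxL, hyL, hxord, hyord, htop, f, g, hf, -, heq⟩ :=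
    weierstrass hK hg1 P (deg_eq_one_of_algClosed hK P)
  have hx0 : x ≠ 0 := by
    rintro rfl
    simp [Place.ord] at hxord
  have hy0 : y₀ ≠ 0 := by
    rintro rfl
    simp [Place.ord] at hyord
  have hvx : P.1 x = exp (2 : ℤ) := by rw [val_eq_exp_neg_ord P hx0, hxord]; simp
  have hvy : P.1 y₀ = exp (3 : ℤ) := by rw [val_eq_exp_neg_ord P hy0, hyord]; simp
  obtain ⟨hxP, hxQ⟩ := mem_L_single.mp hxL
  obtain ⟨hyP, hyQ⟩ := mem_L_single.mp hyL
  set f₂ : k[X] := C (1 / 2 : k) * f with hf₂
  have hf₂d : f₂.natDegree ≤ 1 := (natDegree_C_mul_le _ _).trans hf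
  have hf₂P : P.1 (aeval x f₂) ≤ exp (2 : ℤ) := by
    rw [eq_X_add_C_of_natDegree_le_one hf₂d]
    simp only [map_add, map_mul, aeval_C, aeval_X]
    refine (P.1.map_add _ _).trans (max_le ?_ ?_)
    · rw [map_mul, hvx]
      calc P.1 (algebraMap k K (f₂.coeff 1)) * exp (2 : ℤ) ≤ 1 * exp (2 : ℤ) :=
            mul_le_mul' (P.2.1 _) le_rfl
        _ = exp (2 : ℤ) := one_mul _
    · exact (P.2.1 _).trans (by rw [← exp_zero, exp_le_exp]; norm_num)
  have hhalf : (2 : K) * algebraMap k K (1 / 2 : k) = 1 := by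
    rw [← map_ofNat (algebraMap k K) 2, ← map_mul]
    norm_num
  refine ⟨x, y₀ + aeval x f₂, f₂ ^ 2 - g, ?_, ?_, hvx, ?_, ?_⟩
  · simp only [hf₂, map_sub, map_pow, map_mul, aeval_C]
    linear_combination heq + aeval x f * y₀ * hhalf
  · rw [eq_top_iff, ← htop]
    apply IntermediateField.adjoin_le_iff.mpr
    intro z hz
    have hxm : x ∈ IntermediateField.adjoin k ({x, y₀ + aeval x f₂} : Set K) :=
      IntermediateField.subset_adjoin k _ (by simp)
    have hym : y₀ + aeval x f₂ ∈ IntermediateField.adjoin k ({x, y₀ + aeval x f₂} : Set K) :=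
      IntermediateField.subset_adjoin k _ (by simp)
    have hfm : aeval x f₂ ∈ IntermediateField.adjoin k ({x, y₀ + aeval x f₂} : Set K) := by
      have h1 : aeval x f₂ ∈ Algebra.adjoin k {x} := aeval_mem_adjoin_singleton k x
      exact (Algebra.adjoin_le (S := (IntermediateField.adjoin k
        ({x, y₀ + aeval x f₂} : Set K)).toSubalgebra) (Set.singleton_subset_iff.mpr hxm)) h1
    rcases hz with hz | hz
    · rw [hz]; exact hxm
    · have hz' : z = y₀ := hz
      have : z = (y₀ + aeval x f₂) - aeval x f₂ := by rw [hz']; ring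
      rw [this]
      exact sub_mem hym hfm
  · rw [Valuation.map_add_eq_of_lt_left _ (by
      rw [hvy]; exact lt_of_le_of_lt hf₂P (by rw [exp_lt_exp]; norm_num)), hvy]
  · intro Q hQ
    refine ⟨hxQ Q hQ, (Q.1.map_add _ _).trans (max_le (hyQ Q hQ) ?_)⟩
    exact val_aeval_le_one (place_trivOn Q) (hxQ Q hQ) _

/-- At a place where `y` is a unit, `x - a` is a uniformizer (genus one). -/
lemma uniformizer [IsAlgClosed k] [CharZero k] (hK : IsFunctionField k K) (hg1 : genus k K = 1)
    {P Q : Place k K} (hQP : Q ≠ P) {x y : K} {F : k[X]} (hF : y ^ 2 = aeval x F)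
    (hvx : P.1 x = exp (2 : ℤ)) (hvy : P.1 y = exp (3 : ℤ))
    (hreg : ∀ R : Place k K, R ≠ P → R.1 x ≤ 1 ∧ R.1 y ≤ 1) {a b : k}
    (hxa : Q.1 (x - algebraMap k K a) < 1) (hyb : Q.1 (y - algebraMap k K b) < 1) (hb : b ≠ 0) :
    Q.1 (x - algebraMap k K a) = exp (-1 : ℤ) := by
  apply le_antisymm (zm0_lt_one_iff.mp hxa)
  by_contra hlt
  rw [not_le, zm0_lt_exp_iff] at hlt
  have hP := deg_eq_one_of_algClosed hK P
  have hQ := deg_eq_one_of_algClosed hK Q
  -- F(a) = b²
  have hFa : F.eval a = b ^ 2 := by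
    have h1 := res_aeval Q hxa F
    have h2 := res_mul Q hyb hyb
    rw [← pow_two, hF, ← pow_two] at h2
    exact residue_unique Q h1 h2
  obtain ⟨G, hG⟩ := X_sub_C_dvd_sub_C_eval (a := a) (p := F)
  have hG' : aeval x F - algebraMap k K (F.eval a) = (x - algebraMap k K a) * aeval x G := by
    have := congrArg (aeval x) hG
    simpa using this
  have hzw : (y - algebraMap k K b) * (y + algebraMap k K b) =
      (x - algebraMap k K a) * aeval x G := by
    rw [← hG', hFa, map_pow, ← hF]; ring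
  have hQx : Q.1 x ≤ 1 := (hreg Q hQP).1
  have hvz : Q.1 (y - algebraMap k K b) ≤ exp (-1 - 1 : ℤ) := by
    have h1 := congrArg Q.1 hzw
    rw [map_mul, map_mul, val_w_eq hyb hb, mul_one] at h1
    rw [h1]
    calc Q.1 (x - algebraMap k K a) * Q.1 (aeval x G)
        ≤ exp (-1 - 1 : ℤ) * 1 :=
          mul_le_mul' hlt (val_aeval_le_one (place_trivOn Q) hQx G)
      _ = exp (-1 - 1 : ℤ) := mul_one _
  -- both lie in `L(3P - 2Q)`
  have hmem : ∀ u : K, P.1 u ≤ exp (3 : ℤ) → Q.1 u ≤ exp (-1 - 1 : ℤ) →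
      (∀ R : Place k K, R ≠ P → R.1 u ≤ 1) →
      u ∈ L (Finsupp.single P 3 - Finsupp.single Q 2 : Divisor k K) := by
    intro u h1 h2 h3 R
    rw [Finsupp.sub_apply]
    by_cases hRP : R = P
    · subst hRP
      rw [single_apply_self, single_apply_ne (Ne.symm hQP), sub_zero]
      exact h1
    · rw [single_apply_ne hRP, zero_sub]
      by_cases hRQ : R = Q
      · subst hRQ
        rw [single_apply_self]
        exact h2.trans_eq (by norm_num)
      · rw [single_apply_ne hRQ, neg_zero, exp_zero]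
        exact h3 R hRP
  have hvt : P.1 (x - algebraMap k K a) = exp (2 : ℤ) := by
    rw [Valuation.map_sub_eq_of_lt_left _ (by
      rw [hvx]; exact lt_of_le_of_lt (P.2.1 a) (by rw [← exp_zero, exp_lt_exp]; norm_num)), hvx]
  have hvzP : P.1 (y - algebraMap k K b) = exp (3 : ℤ) := by
    rw [Valuation.map_sub_eq_of_lt_left _ (by
      rw [hvy]; exact lt_of_le_of_lt (P.2.1 b) (by rw [← exp_zero, exp_lt_exp]; norm_num)), hvy]
  have htL := hmem (x - algebraMap k K a)
    (by rw [hvt, exp_le_exp]; norm_num) hlt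
    (fun R hR => (R.1.map_sub _ _).trans (max_le (hreg R hR).1 (R.2.1 a)))
  have hzL := hmem (y - algebraMap k K b) hvzP.le hvz
    (fun R hR => (R.1.map_sub _ _).trans (max_le (hreg R hR).2 (R.2.1 b)))
  have hell : ell (Finsupp.single P 3 - Finsupp.single Q 2 : Divisor k K) = 1 := by
    have := Groth.Agent.Lib.Helper27Ell.ell_genus_one hK hg1
      (Finsupp.single P 3 - Finsupp.single Q 2 : Divisor k K)
      (by rw [deg_sub, deg_single, deg_single, hP, hQ]; norm_num)
    rw [deg_sub, deg_single, deg_single, hP, hQ] at this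
    norm_num at this
    exact_mod_cast this
  have ht0 : x - algebraMap k K a ≠ 0 := by
    intro h; rw [h, map_zero] at hvt; exact (exp_ne_zero).symm hvt
  have hne : (⟨x - algebraMap k K a, htL⟩ :
      ↥(L (Finsupp.single P 3 - Finsupp.single Q 2 : Divisor k K))) ≠ 0 := by
    intro h; exact ht0 (congrArg Subtype.val h)
  obtain ⟨c, hc⟩ := (finrank_eq_one_iff_of_nonzero' _ hne).mp hell ⟨y - algebraMap k K b, hzL⟩
  have hc' : algebraMap k K c * (x - algebraMap k K a) = y - algebraMap k K b := by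
    have := congrArg Subtype.val hc
    simpa [Algebra.smul_def] using this
  have h3 : P.1 (y - algebraMap k K b) ≤ exp (2 : ℤ) := by
    rw [← hc', map_mul, hvt]
    calc P.1 (algebraMap k K c) * exp (2 : ℤ) ≤ 1 * exp (2 : ℤ) := mul_le_mul' (P.2.1 c) le_rfl
      _ = exp (2 : ℤ) := one_mul _
  rw [hvzP, exp_le_exp] at h3
  norm_num at h3

/-- Finiteness of `m`-torsion on a genus one function field in characteristic zero. -/
theorem torsion_finite [IsAlgClosed k] [CharZero k] (hK : IsFunctionField k K)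
    (hg1 : genus k K = 1) (P : Place k K) (m : ℕ) (hm : 1 ≤ m) :
    {Q : Place k K | Q ≠ P ∧ ∃ h : K, h ≠ 0 ∧
      FunFld.div k h = Finsupp.single Q (m : ℤ) - Finsupp.single P (m : ℤ)}.Finite := by
  obtain ⟨x, y, F, hF, htop, hvx, hvy, hreg⟩ := exists_model hK hg1 P
  have hP := deg_eq_one_of_algClosed hK P
  have hx0 : x ≠ 0 := by
    intro h; rw [h, map_zero] at hvx; exact (exp_ne_zero).symm hvx
  have hy0 : y ≠ 0 := by
    intro h; rw [h, map_zero] at hvy; exact (exp_ne_zero).symm hvy
  have hxt : Transcendental k x := transcendental_of_val_ne_one hK P hx0 (by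
    rw [hvx, ← exp_zero]; intro h; have := exp_injective h; norm_num at this)
  obtain ⟨d, hdx⟩ := exists_derivation x hxt (isAlgebraic_over_algAdjoin hK hxt)
  have hconst : ∀ u : K, d u = 0 → u ∈ Set.range (algebraMap k K) := by
    intro u hu
    by_contra hnot
    have hut : Transcendental k u := fun halg => hnot (hK.2 u halg)
    exact isAlgebraic_of_deriv_eq_zero d x hdx hu (isAlgebraic_over_adjoin hK hut)
  have hfinL := L_finite hK (Finsupp.single P (m : ℤ) : Divisor k K)
  have hdim : Module.finrank k ↥(L (Finsupp.single P (m : ℤ) : Divisor k K)) ≤ m := by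
    have := Groth.Agent.Lib.Helper27Ell.ell_genus_one hK hg1
      (Finsupp.single P (m : ℤ) : Divisor k K) (by rw [deg_single, hP]; push_cast; omega)
    rw [deg_single, hP] at this
    have h2 : ell (Finsupp.single P (m : ℤ) : Divisor k K) = m := by
      push_cast at this; rw [mul_one] at this; exact_mod_cast this
    exact h2.le
  have hbad := bad_finite hK d hconst m (L (Finsupp.single P (m : ℤ) : Divisor k K)) hdim
  refine ((zeros_finite' hK hy0).union hbad).subset ?_
  rintro Q ⟨hQP, h, hh0, hdiv⟩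
  by_cases hQy : Q.1 y < 1
  · left; exact hQy
  right
  have hQy1 : Q.1 y = 1 := le_antisymm (hreg Q hQP).2 (not_lt.mp hQy)
  obtain ⟨a, ha⟩ := exists_const_sub_lt_one hK Q (hreg Q hQP).1
  obtain ⟨b, hb'⟩ := exists_const_sub_lt_one hK Q (hreg Q hQP).2
  have hb : b ≠ 0 := by
    rintro rfl
    rw [map_zero, sub_zero] at hb'
    exact hQy hb'
  have hxa := uniformizer hK hg1 hQP hF hvx hvy hreg ha hb' hb
  have hgood := goodPl d hF hdx hxa hb' hb htop
  have hval : ∀ R : Place k K, R.1 h =
      exp (-((Finsupp.single Q (m : ℤ) - Finsupp.single P (m : ℤ) : Divisor k K) R)) := by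
    intro R
    rw [val_eq_exp_neg_ord R hh0, ← div_apply hK h R, hdiv]
  refine ⟨hgood, h, ?_, hh0, ?_⟩
  · intro R
    rw [hval R, exp_le_exp, Finsupp.sub_apply]
    by_cases hRP : R = P
    · subst hRP
      rw [single_apply_self, single_apply_ne (Ne.symm hQP)]
      omega
    · rw [single_apply_ne hRP]
      by_cases hRQ : R = Q
      · subst hRQ
        rw [single_apply_self]
        omega
      · rw [single_apply_ne hRQ]
        omega
  · rw [hval Q, Finsupp.sub_apply, single_apply_self, single_apply_ne hQP, sub_zero]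

end Groth.Agent.Lib.Helper27Tors
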