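import Groth.Agent.Lib.Helper27TowerStep
import Groth.Agent.Lib.Helper27GrSysLim
import Groth.Agent.Lib.Helper4DevG
import Groth.Agent.Lib.Helper23AmpleIso
import Groth.Agent.Lib.Helper20Nakayama

/-!
# Uniform Serre vanishing on the levels of an adic tower of schemes (helper27)

A tower `X_0 ⟶ X_1 ⟶ …` of schemes over `Spec (A/J^(k+1))` with cartesian transition squares, `X_0`
proper over `A/J`, compatible coherent modules `F_k` and invertible modules `L_k` with `L_0` ample:
there is `n₀` with `H^q(X_k, F_k ⊗ L_k^n) = 0` for all `n ≥ n₀`, all `k` and all `q > 0`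
(`uniform_vanishing`).

The graded pieces `J^(n+1) F_k / J^(n+2) F_k` (`n < k`), pulled back to `X_0`, do not depend on
`k`; they form a graded system of finite type on `X_0` (`limS`), to which uniform Serre vanishing
(`Helper27GrSysVan.usv_of_FT`) applies.
-/

set_option autoImplicit false
set_option linter.style.haveILetI false
set_option linter.unusedSectionVars false
universe u
open CategoryTheory Limits AlgebraicGeometry TopologicalSpace Opposite

namespace Groth.Agent.Lib.Helper27Tower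

open Groth.Agent.Lib.Helper17.GrSys Groth.Agent.Lib.Helper17.IAdic
  Groth.Agent.Lib.Helper17.FlatDev Groth.Agent.Lib.Helper27FormalKer
  Groth.Agent.Lib.Helper27ComplHyp Groth.Agent.Lib.Helper27GrSysMap
  Groth.Agent.Lib.Helper27KerSysMap Groth.Agent.Lib.Helper27FibreVan
  Groth.Agent.Lib.Helper27TowerStep Groth.Agent.Lib.Helper27GrSysLim
  Groth.Agent.Lib.Helper27GrSysVan Groth.Agent.Lib.Helper27FinSurjAmple
  Groth.Agent.Lib.Helper27SerreVan

variable {A : Type u} [CommRing A] (J : Ideal A)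
  (Xs : ℕ → Scheme.{u}) [∀ k, (Xs k).Over (Spec (CommRingCat.of A))]
  (p : (k : ℕ) → (Xs k ⟶ Spec (CommRingCat.of (A ⧸ J ^ (k + 1)))))
  (hover : ∀ k, (Xs k) ↘ Spec (CommRingCat.of A) = p k ≫ CohB1.specQuot J k)
  (i : (k : ℕ) → (Xs k ⟶ Xs (k + 1)))
  (hcart : ∀ k, IsPullback (i k) (p k) (p (k + 1)) (CohB1.specQuotTrans J k))

section Squares

include hover hcart in
theorem i_over (k : ℕ) :
    i k ≫ ((Xs (k + 1)) ↘ Spec (CommRingCat.of A)) = (Xs k) ↘ Spec (CommRingCat.of A) := by
  rw [hover, hover, ← Category.assoc, (hcart k).w, Category.assoc, CohB1.specQuotTrans_specQuot]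

instance (k : ℕ) : IsClosedImmersion (CohB1.specQuot J k) :=
  IsClosedImmersion.spec_of_surjective _ Ideal.Quotient.mk_surjective

include hover hcart in
theorem hsq_i (k : ℕ) : IsPullback (i k) (p k) ((Xs (k + 1)) ↘ Spec (CommRingCat.of A))
    (Spec.map (CommRingCat.ofHom (Ideal.Quotient.mk (J ^ (k + 1))))) := by
  have h := isPullback_comp_mono (hcart k) (CohB1.specQuot J (k + 1))
  rw [CohB1.specQuotTrans_specQuot] at h
  rw [hover]
  exact h

/-- the closed immersion `X_0 ⟶ X_k`. -/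
noncomputable def jj : ∀ k, Xs 0 ⟶ Xs k
  | 0 => 𝟙 _
  | (k + 1) => jj k ≫ i k

theorem jj_succ (k : ℕ) : jj Xs i (k + 1) = jj Xs i k ≫ i k := rfl

include hover hcart in
theorem jj_over (k : ℕ) :
    jj Xs i k ≫ ((Xs k) ↘ Spec (CommRingCat.of A)) = (Xs 0) ↘ Spec (CommRingCat.of A) := by
  induction k with
  | zero => exact Category.id_comp _
  | succ k ih => rw [jj_succ, Category.assoc, i_over J Xs p hover i hcart k, ih]

/-- the transition `Spec (A/J) ⟶ Spec (A/J^(k+1))`. -/
noncomputable def tt : ∀ k, Spec (CommRingCat.of (A ⧸ J ^ (0 + 1))) ⟶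
    Spec (CommRingCat.of (A ⧸ J ^ (k + 1)))
  | 0 => 𝟙 _
  | (k + 1) => tt k ≫ CohB1.specQuotTrans J k

theorem tt_specQuot (k : ℕ) : tt J k ≫ CohB1.specQuot J k = CohB1.specQuot J 0 := by
  induction k with
  | zero => exact Category.id_comp _
  | succ k ih =>
    show (tt J k ≫ CohB1.specQuotTrans J k) ≫ _ = _
    rw [Category.assoc, CohB1.specQuotTrans_specQuot, ih]

include hcart in
theorem hsq_t (k : ℕ) : IsPullback (jj Xs i k) (p 0) (p k) (tt J k) := by
  induction k with
  | zero => exact IsPullback.id_horiz (p 0)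
  | succ k ih => exact ih.paste_horiz (hcart k)

include hover hcart in
theorem hsq_j (k : ℕ) : IsPullback (jj Xs i k) (p 0) ((Xs k) ↘ Spec (CommRingCat.of A))
    (Spec.map (CommRingCat.ofHom (Ideal.Quotient.mk (J ^ (0 + 1))))) := by
  have h := isPullback_comp_mono (hsq_t J Xs p i hcart k) (CohB1.specQuot J k)
  rw [tt_specQuot] at h
  rw [hover]
  exact h

include hover in
/-- every module on `X_k` is killed by `J^(k+1)`. -/
theorem killedBy_level (k : ℕ) (M : (Xs k).Modules) : Formal.KilledBy (J ^ (k + 1)) M :=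
  killedBy_of_factor (J ^ (k + 1)) (p k) (hover k) M

end Squares

section Pull

variable (F : (k : ℕ) → (Xs k).Modules)
  (ψ : ∀ k, (Scheme.Modules.pullback (i k)).obj (F (k + 1)) ≅ F k)

/-- `j_k^* F_k ≅ F_0`. -/
noncomputable def pullIso : ∀ k, (Scheme.Modules.pullback (jj Xs i k)).obj (F k) ≅ F 0
  | 0 => (Scheme.Modules.pullbackId (Xs 0)).app (F 0)
  | (k + 1) => ((Scheme.Modules.pullbackComp (jj Xs i k) (i k)).app (F (k + 1))).symm ≪≫
      (Scheme.Modules.pullback (jj Xs i k)).mapIso (ψ k) ≪≫ pullIso k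

end Pull

section Sys

variable [IsNoetherianRing A] (F : (k : ℕ) → (Xs k).Modules) (hF : ∀ k, Coh.IsCoh (F k))
  (ψ : ∀ k, (Scheme.Modules.pullback (i k)).obj (F (k + 1)) ≅ F k)
  {r : ℕ} (a : Fin r → A) (ha : ∀ t, a t ∈ J) (hspan : J = Ideal.span (Set.range a))

/-- the graded system on `X_0` coming from level `m`. -/
noncomputable def SK (m : ℕ) : Sys (Xs 0).Modules r :=
  mapSys (Scheme.Modules.pullback (jj Xs i m)) (kerSys (hyp_completion J (F m)) a ha)

/-- the comparison between the systems of levels `m + 1` and `m`. -/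
noncomputable def ΘK (m n : ℕ) :
    (SK J Xs i F a ha (m + 1)).obj n ⟶ (SK J Xs i F a ha m).obj n :=
  (Scheme.Modules.pullbackComp (jj Xs i m) (i m)).inv.app
      (K (Formal.completion J (F (m + 1))) n) ≫
    (Scheme.Modules.pullback (jj Xs i m)).map
      (γstep (i m) (i_over J Xs p hover i hcart m) J (F (m + 1)) (F m) (ψ m) n)

theorem hΘK (m : ℕ) (t : Fin r) (n : ℕ) :
    (SK J Xs i F a ha (m + 1)).T t n ≫ ΘK J Xs p hover i hcart F ψ a ha m (n + 1) =
      ΘK J Xs p hover i hcart F ψ a ha m n ≫ (SK J Xs i F a ha m).T t n := by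
  have nat := (Scheme.Modules.pullbackComp (jj Xs i m) (i m)).inv.naturality
    (T (hyp_completion J (F (m + 1))) n (a t) (ha t))
  have hγ := γstep_T (i m) (i_over J Xs p hover i hcart m) J (F (m + 1)) (F m) (ψ m) n (a t) (ha t)
  show (Scheme.Modules.pullback (jj Xs i m ≫ i m)).map
      (T (hyp_completion J (F (m + 1))) n (a t) (ha t)) ≫ _ ≫ _ =
    (_ ≫ _) ≫ (Scheme.Modules.pullback (jj Xs i m)).map (T (hyp_completion J (F m)) n (a t) (ha t))
  rw [reassoc_of% nat, Category.assoc, ← Functor.map_comp, hγ, Functor.map_comp]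

include hF in
theorem isIso_ΘK (m n : ℕ) (h : n < m) : IsIso (ΘK J Xs p hover i hcart F ψ a ha m n) := by
  haveI := isIso_γstep (Ideal.Quotient.mk (J ^ (m + 1))) (i m) (p m)
    (hsq_i J Xs p hover i hcart m) Ideal.Quotient.mk_surjective
    (i_over J Xs p hover i hcart m) J (F (m + 1)) (F m) (ψ m) (hF (m + 1)) n (by
      rw [Ideal.mk_ker]
      exact Ideal.pow_le_pow_right (by omega))
  haveI h1 : IsIso ((Scheme.Modules.pullbackComp (jj Xs i m) (i m)).inv.app
      (K (Formal.completion J (F (m + 1))) n)) :=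
    ((Scheme.Modules.pullbackComp (jj Xs i m) (i m)).symm.app
      (K (Formal.completion J (F (m + 1))) n)).isIso_hom
  haveI h2 : IsIso ((Scheme.Modules.pullback (jj Xs i m)).map
      (γstep (i m) (i_over J Xs p hover i hcart m) J (F (m + 1)) (F m) (ψ m) n)) :=
    Functor.map_isIso _ _
  exact IsIso.comp_isIso' h1 h2

include hspan in
theorem je_SK (m n : ℕ) : JE (fun t => (SK J Xs i F a ha m).T t n) :=
  je_map (Scheme.Modules.pullback (jj Xs i m)) _
    (kerSys_je (hyp_completion J (F m)) a ha hspan n)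

/-- the limit graded system on `X_0`. -/
noncomputable def limS : Sys (Xs 0).Modules r :=
  limSys (SK J Xs i F a ha) (ΘK J Xs p hover i hcart F ψ a ha)
    (hΘK J Xs p hover i hcart F ψ a ha) (isIso_ΘK J Xs p hover i hcart F hF ψ a ha)

include hspan in
theorem limS_FT : (limS J Xs p hover i hcart F hF ψ a ha).FT :=
  limSys_FT _ _ _ _ (je_SK J Xs i F a ha hspan)

theorem nonempty_limS_iso (m n : ℕ) (h : n < m) :
    Nonempty ((Scheme.Modules.pullback (jj Xs i m)).obj (K (Formal.completion J (F m)) n) ≅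
      (limS J Xs p hover i hcart F hF ψ a ha).obj n) :=
  nonempty_limIso (SK J Xs i F a ha) (ΘK J Xs p hover i hcart F ψ a ha)
    (hΘK J Xs p hover i hcart F ψ a ha) (isIso_ΘK J Xs p hover i hcart F hF ψ a ha) n m h

end Sys

section CohK

attribute [local instance] Abelian.hasFiniteBiproducts

/-- the pullback of the kernel `K_n` of a system of coherent modules is coherent (no Noetherian
hypothesis on the schemes). -/
theorem isCoh_pullback_K [IsNoetherianRing A] {X Y : Scheme.{u}}
    [X.Over (Spec (CommRingCat.of A))] (f : Y ⟶ X) {I : Ideal A} {G : ℕᵒᵖ ⥤ X.Modules}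
    (hG : Hyp I G) (hc : ∀ n, Coh.IsCoh (G.obj (op n))) (n : ℕ) :
    Coh.IsCoh ((Scheme.Modules.pullback f).obj (K G n)) := by
  haveI := (hc (n + 1)).1
  haveI := (hc n).1
  haveI : SheafOfModules.IsFiniteType (R := X.ringCatSheaf) (G.obj (op (n + 1))) := (hc (n + 1)).2
  haveI : (K G n).IsQuasicoherent :=
    Groth.Agent.Lib.Helper23.QCohLocal.isQuasicoherent_kernel _
  refine ⟨Groth.Agent.Lib.Helper2.PullbackSec.isQuasicoherent_pullback f _, ?_⟩
  obtain ⟨s, c, hcs⟩ := Submodule.fg_iff_exists_fin_generating_family.1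
    ((isNoetherianRing_iff_ideal_fg A).1 inferInstance (I ^ (n + 1)))
  have hje := je_map (Scheme.Modules.pullback f) _ (je_toK hG n c hcs.symm)
  haveI := (je_iff_epi_desc _).1 hje
  have hQ : Coh.IsCoh ((Scheme.Modules.pullback f).obj (G.obj (op (n + 1)))) :=
    ⟨Groth.Agent.Lib.Helper2.PullbackSec.isQuasicoherent_pullback f _,
      Groth.Agent.Lib.Helper20.FormalPull.isFiniteType_pullback f _⟩
  haveI : SheafOfModules.IsFiniteType (R := Y.ringCatSheaf)
      ((⨁ fun _ : Fin s => (Scheme.Modules.pullback f).obj (G.obj (op (n + 1)))) : Y.Modules) :=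
    (Groth.Agent.Lib.Helper4.Dev.isCoh_pow _ s hQ).2
  exact Groth.Agent.Lib.Helper20.Nakayama.isFiniteType_of_epi
    (biproduct.desc fun t => (Scheme.Modules.pullback f).map
      (toK hG n (c t) (hcs.symm ▸ Ideal.subset_span ⟨t, rfl⟩)))

end CohK

section Main

variable [IsNoetherianRing A] (L : (k : ℕ) → (Xs k).Modules) (hL : ∀ k, PicF.IsInvertible (L k))
  (φL : ∀ k, (Scheme.Modules.pullback (i k)).obj (L (k + 1)) ≅ L k)

include hover hcart hL φL in
/-- transfer of vanishing from `X_0` to `X_m` for modules killed by `J`. -/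
theorem subsingleton_HH_level (m : ℕ) (Km : (Xs m).Modules) [Km.IsQuasicoherent]
    (hK : Formal.KilledBy (J ^ (0 + 1)) Km) (K₀ : (Xs 0).Modules)
    (eK : (Scheme.Modules.pullback (jj Xs i m)).obj Km ≅ K₀) (d q : ℕ)
    (h : Subsingleton (Coh.HH (Xs 0) (CohB1.tensorMod K₀ (CohB1.tensorPow (L 0) d)) q)) :
    Subsingleton (Coh.HH (Xs m) (CohB1.tensorMod Km (CohB1.tensorPow (L m) d)) q) := by
  refine subsingleton_HH_of_fibre (Ideal.Quotient.mk (J ^ (0 + 1))) (jj Xs i m) (p 0)
    (hsq_j J Xs p hover i hcart m) Ideal.Quotient.mk_surjective Km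
    (by rw [Ideal.mk_ker]; exact hK) (L m) (hL m) d q ?_
  exact subsingleton_HH_of_iso (PicGrp.tensorModIso eK
    (Groth.Agent.Lib.Helper23.AmpleIso.tensorPowIso (pullIso Xs i L φL m) d)) q h

include hover hcart hL φL in
/-- **Uniform Serre vanishing on the levels of an adic tower.** -/
theorem uniform_vanishing [IsProper (p 0)] (hamp : CohB1.IsAmple (L 0))
    (F : (k : ℕ) → (Xs k).Modules) (hF : ∀ k, Coh.IsCoh (F k))
    (ψ : ∀ k, (Scheme.Modules.pullback (i k)).obj (F (k + 1)) ≅ F k) :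
    ∃ n₀ : ℕ, ∀ n : ℕ, n₀ ≤ n → ∀ k : ℕ, ∀ q : ℕ, 0 < q →
      Subsingleton (Coh.HH (Xs k) (CohB1.tensorMod (F k) (CohB1.tensorPow (L k) n)) q) := by
  haveI : IsLocallyNoetherian (Xs 0) := LocallyOfFiniteType.isLocallyNoetherian (p 0)
  haveI : CompactSpace (Xs 0) := QuasiCompact.compactSpace_of_compactSpace (p 0)
  haveI : IsNoetherian (Xs 0) := { }
  have hSV₀ : ∀ M : (Xs 0).Modules, Coh.IsCoh M → SV (L 0) M :=
    (Groth.Agent.S0051.result (A ⧸ J ^ (0 + 1)) (Xs 0) (p 0) (L 0) (hL 0)).1 hamp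
  obtain ⟨r, a, hr⟩ := Submodule.fg_iff_exists_fin_generating_family.1
    ((isNoetherianRing_iff_ideal_fg A).1 inferInstance J)
  have hspan : J = Ideal.span (Set.range a) := hr.symm
  have haJ : ∀ t, a t ∈ J := fun t => by
    rw [hspan]; exact Ideal.subset_span ⟨t, rfl⟩
  have hGcoh : ∀ m n, Coh.IsCoh ((Formal.completion J (F m)).obj (op n)) := fun m n =>
    isCoh_quot (J ^ (n + 1)) (F m) (hF m)
  have hlimcoh : ∀ n, Coh.IsCoh ((limS J Xs p hover i hcart F hF ψ a haJ).obj n) := fun n =>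
    isCoh_pullback_K (jj Xs i (n + 1)) (hyp_completion J (F (n + 1))) (hGcoh (n + 1)) n
  obtain ⟨d₀, hd₀⟩ := usv_of_FT (L 0) (hL 0) hSV₀ (limS J Xs p hover i hcart F hF ψ a haJ)
    hlimcoh (limS_FT J Xs p hover i hcart F hF ψ a haJ hspan)
  obtain ⟨d₁, hd₁⟩ := hSV₀ (F 0) (hF 0)
  refine ⟨max d₀ d₁, fun d hd m q hq => ?_⟩
  have hd0 : d₀ ≤ d := (le_max_left _ _).trans hd
  have hd1 : d₁ ≤ d := (le_max_right _ _).trans hd
  have hLd := Groth.Agent.Lib.Helper23.SecTw.isInvertible_tensorPow (hL m) d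
  have hH := hyp_completion J (F m)
  have hGq : ∀ n, ((Formal.completion J (F m)).obj (op n)).IsQuasicoherent := fun n =>
    (hGcoh m n).1
  have hlev : ∀ n, n ≤ m → Subsingleton (Coh.HH (Xs m)
      (CohB1.tensorMod ((Formal.completion J (F m)).obj (op n)) (CohB1.tensorPow (L m) d)) q) := by
    intro n
    induction n with
    | zero =>
      intro _
      haveI := hGq 0
      haveI := isIso_πQ_of_killed (J ^ (0 + 1)) (F 0) (killedBy_level J Xs p hover 0 (F 0))
      exact subsingleton_HH_level J Xs p hover i hcart L hL φL m _ (hH.killed 0) (F 0)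
        (θQ (jj Xs i m) (jj_over J Xs p hover i hcart m) (F m) (F 0) (pullIso Xs i F ψ m)
          (J ^ (0 + 1)) ≪≫ (asIso (πQ (J ^ (0 + 1)) (F 0))).symm) d q (hd₁ d hd1 q hq)
    | succ n ih =>
      intro hn
      haveI := hGq (n + 1)
      haveI := hGq n
      haveI : (K (Formal.completion J (F m)) n).IsQuasicoherent :=
        Groth.Agent.Lib.Helper23.QCohLocal.isQuasicoherent_kernel _
      obtain ⟨eK⟩ := nonempty_limS_iso J Xs p hover i hcart F hF ψ a haJ m n (by omega)
      have hK : Subsingleton (Coh.HH (Xs m) (CohB1.tensorMod (K (Formal.completion J (F m)) n)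
          (CohB1.tensorPow (L m) d)) q) :=
        subsingleton_HH_level J Xs p hover i hcart L hL φL m _
          (by rw [zero_add, pow_one]; exact killedBy_K hH n) _ eK d q (hd₀ d hd0 n q hq)
      have e := shortExact_tw _ hLd _ (shortExact_K hH n)
      exact Groth.Agent.Lib.Helper27AmpleGlue.subsingleton_mid _ e q hK (ih (by omega))
  haveI := isIso_πQ_of_killed (J ^ (m + 1)) (F m) (killedBy_level J Xs p hover m (F m))
  exact subsingleton_HH_of_iso (PicGrp.tensorModIso (asIso (πQ (J ^ (m + 1)) (F m)))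
    (Iso.refl (CohB1.tensorPow (L m) d))) q (hlev m le_rfl)

end Main

end Groth.Agent.Lib.Helper27Tower
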