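import Groth.Agent.Lib.Helper27TowerFormal
import Groth.Agent.Lib.Helper27ExistProj
import Groth.Agent.Lib.Helper27ComplMap
import Groth.Agent.Lib.Helper27TowerGG
import Groth.Agent.Lib.Helper18Ann2
import Groth.Agent.Lib.Helper23ModLocal

/-!
# Algebraization of an embedded adic tower of closed subschemes (helper27)

* `isZero_of_isZero_Q`, `epi_of_epi_comp_πQ`: Nakayama's lemma for coherent modules on a scheme proper
  over a complete Noetherian ring.
* `exists_quotient`: for compatible closed immersions `h_k : X_k ⟶ P` of an adic tower into a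
  proper `A`-scheme with an ample invertible module, a coherent quotient `O_P ⟶ M` with
  `M / J^(k+1) M ≅ (h_k)_* O_{X_k}` compatibly.
* `exists_subscheme`: the closed subscheme `Y ⊆ P` with `X_k = Y ×_A A / J^(k+1)`.
-/

set_option autoImplicit false
set_option linter.style.haveILetI false
set_option linter.unusedSectionVars false
universe u
open CategoryTheory Limits AlgebraicGeometry TopologicalSpace Opposite

namespace Groth.Agent.Lib.Helper27TowerAlg

open Groth.Agent.Lib.Helper17.GrSys Groth.Agent.Lib.Helper17.IAdic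
  Groth.Agent.Lib.Helper17.FlatDev Groth.Agent.Lib.Helper27FormalKer
  Groth.Agent.Lib.Helper27ComplHyp Groth.Agent.Lib.Helper27Tower
  Groth.Agent.Lib.Helper27TowerFormal Groth.Agent.Lib.Helper27ExistProj
  Groth.Agent.Lib.Helper27ComplMap Groth.Agent.Lib.Helper27TowerGG
  Groth.Agent.Lib.Helper4.Dev

section Nak

variable {A : Type u} [CommRing A] [IsNoetherianRing A] (I : Ideal A) [IsAdicComplete I A]
  {X : Scheme.{u}} [X.Over (Spec (CommRingCat.of A))] [IsProper (X ↘ Spec (CommRingCat.of A))]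

omit [IsNoetherianRing A] [IsAdicComplete I A] [IsProper (X ↘ Spec (CommRingCat.of A))] in
theorem isZero_Q_pow (C : X.Modules) (h : IsZero (Q I C)) (n : ℕ) : IsZero (Q (I ^ (n + 1)) C) := by
  have hle : I ^ (n + 1) ≤ I := by
    calc I ^ (n + 1) ≤ I ^ 1 := Ideal.pow_le_pow_right (by omega)
      _ = I := pow_one I
  obtain ⟨w, hw⟩ := isIso_desc_Qmap hle C
  haveI := hw
  have h0 : IsZero (cokernel (Formal.smulFamily I (Q (I ^ (n + 1)) C))) :=
    h.of_iso (asIso (cokernel.desc _ _ w))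
  haveI : Epi (Formal.smulFamily I (Q (I ^ (n + 1)) C)) :=
    Abelian.epi_of_cokernel_π_eq_zero _ (h0.eq_of_tgt _ _)
  exact isZero_of_epi_smulFamily I _ (n + 1) (fun b hb => smulMod_Q (I ^ (n + 1)) C b hb)

/-- **Nakayama's lemma** for coherent modules on a scheme proper over a complete Noetherian ring. -/
theorem isZero_of_isZero_Q (C : X.Modules) (hC : Coh.IsCoh C) (h : IsZero (Q I C)) : IsZero C := by
  haveI : IsLocallyNoetherian X :=
    LocallyOfFiniteType.isLocallyNoetherian (X ↘ Spec (CommRingCat.of A))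
  have hcl : IsClosed (CohB1.support C ∩ CohB1.support C) :=
    (isClosed_support C hC).inter (isClosed_support C hC)
  obtain ⟨φ, -, hφ⟩ := Groth.Agent.Lib.Helper17.FFaith.existsUnique_of_properInter I C C hC hC
    (isProperOver_of_isClosed _ hcl) (𝟙 _)
  have hz : ∀ n : ℕ, IsZero ((Formal.completion I C).obj (op n)) := fun n => isZero_Q_pow I C h n
  have h1 : (𝟙 C : C ⟶ C) = φ := hφ _ (fun n => (hz n).eq_of_tgt _ _)
  have h2 : (0 : C ⟶ C) = φ := hφ _ (fun n => (hz n).eq_of_tgt _ _)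
  rw [IsZero.iff_id_eq_zero, h1, ← h2]

/-- a morphism of coherent modules which is an epimorphism modulo `I` is an epimorphism. -/
theorem epi_of_epi_comp_πQ {M N : X.Modules} (hM : Coh.IsCoh M) (hN : Coh.IsCoh N) (π : M ⟶ N)
    (h : Epi (π ≫ πQ I N)) : Epi π := by
  haveI : IsLocallyNoetherian X :=
    LocallyOfFiniteType.isLocallyNoetherian (X ↘ Spec (CommRingCat.of A))
  have hC : Coh.IsCoh (cokernel π) := isCoh_cokernel π hM hN
  haveI : Epi (Qmod I (cokernel.π π)) := by
    have e : πQ I N ≫ Qmod I (cokernel.π π) = cokernel.π π ≫ πQ I (cokernel π) := πQ_Qmod I _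
    exact epi_of_epi_fac e
  have hz : Qmod I (cokernel.π π) = 0 := by
    rw [← cancel_epi (π ≫ πQ I N), Category.assoc, πQ_Qmod, ← Category.assoc, cokernel.condition,
      zero_comp, comp_zero]
  have hQ : IsZero (Q I (cokernel π)) := by
    rw [IsZero.iff_id_eq_zero, ← cancel_epi (Qmod I (cokernel.π π)), hz, zero_comp, comp_zero]
  have h0 := isZero_of_isZero_Q I _ hC hQ
  exact Abelian.epi_of_cokernel_π_eq_zero _ (h0.eq_of_tgt _ _)

end Nak

section Gen

variable {A : Type u} [CommRing A] {P : Scheme.{u}} [P.Over (Spec (CommRingCat.of A))]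

theorem app_ρ {T : Scheme.{u}} (a' : T ⟶ P) (U : P.Opens) (c : A) :
    (a'.app U).hom (ρ U c) = (T.presheaf.map (homOfLE (le_top : a' ⁻¹ᵁ U ≤ ⊤)).op).hom
      (Coh.toGlobal (a' ≫ (P ↘ Spec (CommRingCat.of A))) c) := by
  have hn := a'.naturality (homOfLE (le_top : U ≤ ⊤)).op
  have h1 := congrArg (fun t => t.hom
    (Coh.toGlobal (P ↘ Spec (CommRingCat.of A)) c)) hn
  simp only [CommRingCat.hom_comp, RingHom.comp_apply] at h1
  refine h1.trans ?_
  rfl

theorem unit_smul_one (U : P.Opens) (a : Γ(P, U)) :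
    (a : Γ(Coh.structureModule P, U)) =
      a • (show Γ(Coh.structureModule P, U) from (1 : Γ(P, U))) :=
  (mul_one a).symm

theorem unit_smul_comm (U : P.Opens) (a b : Γ(P, U)) :
    a • (show Γ(Coh.structureModule P, U) from b) =
      b • (show Γ(Coh.structureModule P, U) from a) :=
  mul_comm a b

theorem unit_smul_eq_mul (U : P.Opens) (a b : Γ(P, U)) :
    a • (show Γ(Coh.structureModule P, U) from b) =
      (show Γ(Coh.structureModule P, U) from a * b) := rfl

theorem app_eq_zero_of_iso {X : Scheme.{u}} {M N : X.Modules} (θ : M ≅ N) (U : X.Opens)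
    (x : Γ(M, U)) (hx : θ.hom.app U x = 0) : x = 0 := by
  have h1 : (θ.hom ≫ θ.inv).app U x = θ.inv.app U (θ.hom.app U x) := comp_app_apply _ _ _ _
  rw [hx, map_zero, Iso.hom_inv_id] at h1
  exact h1

end Gen

section Main

variable {A : Type u} [CommRing A] [IsNoetherianRing A] (J : Ideal A) [IsAdicComplete J A]
  (Xs : ℕ → Scheme.{u}) [∀ k, (Xs k).Over (Spec (CommRingCat.of A))]
  (p : (k : ℕ) → (Xs k ⟶ Spec (CommRingCat.of (A ⧸ J ^ (k + 1)))))
  (hover : ∀ k, (Xs k) ↘ Spec (CommRingCat.of A) = p k ≫ CohB1.specQuot J k)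
  (i : (k : ℕ) → (Xs k ⟶ Xs (k + 1)))
  (hcart : ∀ k, IsPullback (i k) (p k) (p (k + 1)) (CohB1.specQuotTrans J k))
  {P : Scheme.{u}} [P.Over (Spec (CommRingCat.of A))]
  [IsProper (P ↘ Spec (CommRingCat.of A))]
  (h : ∀ k, Xs k ⟶ P) [∀ k, IsClosedImmersion (h k)]
  (hh : ∀ k, h k ≫ (P ↘ Spec (CommRingCat.of A)) = (Xs k) ↘ Spec (CommRingCat.of A))
  (hcomp : ∀ k, i k ≫ h (k + 1) = h k)

include hover hh in
theorem killedBy_Gobj (k : ℕ) : Formal.KilledBy (J ^ (k + 1)) (Gobj Xs h k) :=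
  killedBy_pushforward (h k) (hh k) _ _ (killedBy_level J Xs p hover k _)

theorem Qmap_descK (k : ℕ) :
    Qmap (Ideal.pow_le_pow_right (Nat.le_succ (k + 1))) (Coh.structureModule P) ≫
        descK (J ^ (k + 1)) (sharp (h k) : Coh.structureModule P ⟶ Gobj Xs h k)
          (killedBy_Gobj J Xs p hover h hh k) =
      descK (J ^ (k + 1 + 1)) (sharp (h (k + 1)) : Coh.structureModule P ⟶ Gobj Xs h (k + 1))
          (killedBy_Gobj J Xs p hover h hh (k + 1)) ≫ Gtr Xs i h hcomp k := by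
  rw [← cancel_epi (πQ (J ^ (k + 1 + 1)) (Coh.structureModule P)), πQ_Qmap_assoc, πQ_descK,
    πQ_descK_assoc, sharp_Gtr]

/-- the components of the comparison `(O_P / J^(k+1)) ⟶ ((h_k)_* O_{X_k})`. -/
noncomputable def αApp (k : ℕ) :
    (Formal.completion J (Coh.structureModule P)).obj ⟨k⟩ ⟶ (Gsys Xs i h hcomp).obj ⟨k⟩ :=
  descK (J ^ (k + 1)) (sharp (h k) : Coh.structureModule P ⟶ Gobj Xs h k)
    (killedBy_Gobj J Xs p hover h hh k)

theorem αApp_naturality (k : ℕ) :
    (Formal.completion J (Coh.structureModule P)).map (homOfLE (k.le_add_right 1)).op ≫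
        αApp J Xs p hover i h hh hcomp k =
      αApp J Xs p hover i h hh hcomp (k + 1) ≫
        (Gsys Xs i h hcomp).map (homOfLE (k.le_add_right 1)).op := by
  have h1 : (Formal.completion J (Coh.structureModule P)).map (homOfLE (k.le_add_right 1)).op =
      Qmap (Ideal.pow_le_pow_right (Nat.le_succ (k + 1))) (Coh.structureModule P) :=
    tr_completion J _ k
  have h2 : (Gsys Xs i h hcomp).map (homOfLE (k.le_add_right 1)).op = Gtr Xs i h hcomp k :=
    tr_Gsys Xs i h hcomp k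
  refine (congrArg (fun t => t ≫ αApp J Xs p hover i h hh hcomp k) h1).trans ?_
  refine Eq.trans ?_ (congrArg (fun t => αApp J Xs p hover i h hh hcomp (k + 1) ≫ t) h2).symm
  exact Qmap_descK J Xs p hover i h hh hcomp k

/-- the comparison of systems. -/
noncomputable def α : Formal.completion J (Coh.structureModule P) ⟶ Gsys Xs i h hcomp :=
  NatTrans.ofOpSequence (αApp J Xs p hover i h hh hcomp) (αApp_naturality J Xs p hover i h hh hcomp)

theorem surjective_app_of_eq {X : Scheme.{u}} {M N : X.Modules} (φ : M ⟶ N) {U V : X.Opens}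
    (h : U = V) (hb : Function.Surjective (φ.app V)) : Function.Surjective (φ.app U) := by
  subst h; exact hb

theorem epi_of_surjective_app_cover {X : Scheme.{u}} {M N : X.Modules} [M.IsQuasicoherent]
    [N.IsQuasicoherent] (φ : M ⟶ N) {ι : Type*} (V : ι → X.Opens) (hV : IsOpenCover V)
    (hVa : ∀ i, IsAffineOpen (V i)) (h : ∀ i, Function.Surjective (φ.app (V i))) : Epi φ := by
  refine Groth.Agent.Lib.Helper23.ModLocal.epi_of_surjective_ΓU φ V hV hVa fun i => ?_
  have h1 : (hVa i).fromSpec ''ᵁ ⊤ = V i :=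
    (Scheme.Hom.image_top_eq_opensRange _).trans (hVa i).opensRange_fromSpec
  exact surjective_app_of_eq φ h1 (h i)

theorem epi_sharp {X Y : Scheme.{u}} (f : X ⟶ Y) [IsClosedImmersion f] [IsLocallyNoetherian Y] :
    Epi (sharp f) := by
  have hc := Groth.Agent.S0019.result f _ (isCoh_structureModule X)
  haveI : ((Scheme.Modules.pushforward f).obj (Coh.structureModule X)).IsQuasicoherent := hc.1
  haveI : (Coh.structureModule Y).IsQuasicoherent := (isCoh_structureModule Y).1
  refine epi_of_surjective_app_cover (sharp f)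
    (fun U : Y.affineOpens => (U : Y.Opens)) (iSup_affineOpens_eq_top Y) (fun U => U.2) ?_
  intro U b
  obtain ⟨a, ha⟩ := Scheme.Hom.app_surjective f U.1 U.2 b
  exact ⟨a, ha⟩

include hover hcart hh hcomp in
/-- the coherent quotient `O_P ⟶ M` algebraizing the structure sheaves of the tower. -/
theorem exists_quotient (𝓛 : P.Modules) (h𝓛 : CohB1.IsAmple 𝓛) :
    ∃ (M : P.Modules) (π : Coh.structureModule P ⟶ M)
      (θ : ∀ k, Q (J ^ (k + 1)) M ≅ Gobj Xs h k),
      Coh.IsCoh M ∧ Epi π ∧ ∀ k, π ≫ πQ (J ^ (k + 1)) M ≫ (θ k).hom = sharp (h k) := by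
  haveI : IsLocallyNoetherian P :=
    LocallyOfFiniteType.isLocallyNoetherian (P ↘ Spec (CommRingCat.of A))
  have hG := isCohFormal_Gsys J Xs p hover i hcart h hh hcomp
  obtain ⟨M, hM, ⟨Θ⟩⟩ := exists_algebraization J 𝓛 h𝓛 _ hG
  have hO := isCoh_structureModule P
  obtain ⟨π, hπ⟩ := exists_hom_of_completion J _ M hO hM
    (α J Xs p hover i h hh hcomp ≫ Θ.inv)
  let θ : ∀ k, Q (J ^ (k + 1)) M ≅ Gobj Xs h k := fun k => Θ.app (op k)
  have key : ∀ k, π ≫ πQ (J ^ (k + 1)) M ≫ (θ k).hom = sharp (h k) := by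
    intro k
    let a : Q (J ^ (k + 1)) (Coh.structureModule P) ⟶ Gobj Xs h k :=
      descK (J ^ (k + 1)) (sharp (h k) : Coh.structureModule P ⟶ Gobj Xs h k)
        (killedBy_Gobj J Xs p hover h hh k)
    have h1 : πQ (J ^ (k + 1)) (Coh.structureModule P) ≫ (a ≫ (θ k).inv) =
        π ≫ πQ (J ^ (k + 1)) M := hπ k
    have h2 : πQ (J ^ (k + 1)) (Coh.structureModule P) ≫ a = sharp (h k) := πQ_descK _ _ _
    calc π ≫ πQ (J ^ (k + 1)) M ≫ (θ k).hom
        = (π ≫ πQ (J ^ (k + 1)) M) ≫ (θ k).hom := (Category.assoc _ _ _).symm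
      _ = (πQ (J ^ (k + 1)) (Coh.structureModule P) ≫ (a ≫ (θ k).inv)) ≫ (θ k).hom := by rw [h1]
      _ = πQ (J ^ (k + 1)) (Coh.structureModule P) ≫ a := by
          rw [Category.assoc, Category.assoc, Iso.inv_hom_id, Category.comp_id]
      _ = sharp (h k) := h2
  refine ⟨M, π, θ, hM, ?_, key⟩
  haveI := epi_sharp (h 0)
  have hle : J ^ (0 + 1) ≤ J := by rw [zero_add, pow_one]
  refine epi_of_epi_comp_πQ J hO hM π ?_
  have e : (π ≫ πQ J M) ≫ 𝟙 _ = π ≫ πQ J M := Category.comp_id _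
  have e2 : π ≫ πQ J M = (π ≫ πQ (J ^ (0 + 1)) M ≫ (θ 0).hom) ≫ (θ 0).inv ≫ Qmap hle M := by
    rw [Category.assoc, Category.assoc, Iso.hom_inv_id_assoc, πQ_Qmap]
  rw [e2, key 0]
  haveI : Epi (Qmap hle M) := inferInstance
  exact epi_comp _ _

theorem toGlobal_eq_zero_of_factor {T : Scheme.{u}} (k : ℕ) (g : T ⟶ Spec (CommRingCat.of A))
    (b : T ⟶ Spec (CommRingCat.of (A ⧸ J ^ (k + 1)))) (w : g = b ≫ CohB1.specQuot J k)
    (c : A) (hc : c ∈ J ^ (k + 1)) : Coh.toGlobal g c = 0 := by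
  rw [w]
  unfold CohB1.specQuot
  rw [Groth.Agent.Lib.Helper27TowerStep.toGlobal_comp_specMap,
    Ideal.Quotient.eq_zero_iff_mem.2 hc, map_zero]

/-- the key kernel computation: a function on `P` which dies in `O_P / (ker π + J^(k+1))` dies on any
`T ⟶ P` killing `ker π` and `J^(k+1)`. -/
theorem app_eq_zero_of_quotient {M : P.Modules} [M.IsQuasicoherent]
    (π : Coh.structureModule P ⟶ M) [Epi π] (k : ℕ) {T : Scheme.{u}} (a' : T ⟶ P)
    (hT : ∀ c ∈ J ^ (k + 1), Coh.toGlobal (a' ≫ (P ↘ Spec (CommRingCat.of A))) c = 0)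
    (U : P.Opens) (hU : IsAffineOpen U)
    (hann : ∀ f₀ : Γ(P, U), (∀ m : Γ(M, U), f₀ • m = 0) → (a'.app U).hom f₀ = 0)
    (f : Γ(P, U))
    (hf : (πQ (J ^ (k + 1)) M).app U
      (π.app U (show Γ(Coh.structureModule P, U) from f)) = 0) :
    (a'.app U).hom f = 0 := by
  haveI : (Coh.structureModule P).IsQuasicoherent := (isCoh_structureModule P).1
  obtain ⟨r, c, hc⟩ := Submodule.fg_iff_exists_fin_generating_family.1
    (IsNoetherian.noetherian (J ^ (k + 1)))
  obtain ⟨y, hy⟩ := ker_πQ_app c (J ^ (k + 1)) hc.symm M hU _ hf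
  have hsurj := Groth.Agent.Lib.Helper23.FinType.surjective_app_of_epi π hU
  choose z hz using fun i => hsurj (y i)
  let zr : Fin r → Γ(P, U) := fun i => z i
  let f₀ : Γ(P, U) := f - ∑ i, ρ U (c i) * zr i
  have hf₀ : π.app U (show Γ(Coh.structureModule P, U) from f₀) = 0 := by
    have e : (show Γ(Coh.structureModule P, U) from f₀) =
        (show Γ(Coh.structureModule P, U) from f) - ∑ i, (ρ U (c i) : Γ(P, U)) • z i := rfl
    rw [e, map_sub, map_sum, hy, sub_eq_zero]
    refine Finset.sum_congr rfl fun i _ => ?_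
    rw [Scheme.Modules.Hom.app_smul, hz]
  have hann₀ : ∀ m : Γ(M, U), f₀ • m = 0 := by
    intro m
    obtain ⟨w, rfl⟩ := hsurj m
    rw [← Scheme.Modules.Hom.app_smul]
    have e : f₀ • w = (show Γ(P, U) from w) • (show Γ(Coh.structureModule P, U) from f₀) :=
      unit_smul_comm U f₀ w
    rw [e, Scheme.Modules.Hom.app_smul, hf₀, smul_zero]
  have h1 : (a'.app U).hom f₀ = 0 := hann f₀ hann₀
  have h2 : f = f₀ + ∑ i, ρ U (c i) * zr i := by simp [f₀]
  rw [h2, map_add, h1, zero_add, map_sum]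
  refine Finset.sum_eq_zero fun i _ => ?_
  have h3 : (a'.app U).hom (ρ U (c i)) = 0 := by
    rw [app_ρ, hT (c i) (hc ▸ Submodule.subset_span ⟨i, rfl⟩)]
    exact map_zero _
  rw [map_mul, h3, zero_mul]

include hover hcart hh hcomp in
/-- the closed subscheme of `P` algebraizing the tower. -/
theorem exists_subscheme (𝓛 : P.Modules) (h𝓛 : CohB1.IsAmple 𝓛) :
    ∃ (Y : Scheme.{u}) (ι : Y ⟶ P) (e : ∀ k, Xs k ⟶ Y), IsClosedImmersion ι ∧
      (∀ k, e k ≫ ι = h k) ∧
      ∀ k, IsPullback (e k) (p k) (ι ≫ (P ↘ Spec (CommRingCat.of A))) (CohB1.specQuot J k) := by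
  obtain ⟨M, π, θ, hM, hπ, key⟩ := exists_quotient J Xs p hover i hcart h hh hcomp 𝓛 h𝓛
  haveI : M.IsQuasicoherent := hM.1
  haveI : (Coh.structureModule P).IsQuasicoherent := (isCoh_structureModule P).1
  obtain ⟨𝒥, h𝒥, -, -, -⟩ := Groth.Agent.Helper18Ann.main_S9377 M hM.2
  -- sections of `sharp`
  have hsh : ∀ k (U : P.Opens) (f : Γ(Coh.structureModule P, U)), (sharp (h k)).app U f =
      (θ k).hom.app U ((πQ (J ^ (k + 1)) M).app U (π.app U f)) := by
    intro k U f
    rw [← key k, comp_app_apply, comp_app_apply]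
  have hle : ∀ k, 𝒥 ≤ (h k).ker := by
    intro k
    rw [Scheme.IdealSheafData.le_def]
    intro U a ha
    rw [Scheme.Hom.ker_apply, RingHom.mem_ker]
    rw [h𝒥 U, Module.mem_annihilator] at ha
    refine (sharp_app (h k) U.1 a).symm.trans ?_
    refine (hsh k U.1 a).trans ?_
    have h2 : π.app U.1 (show Γ(Coh.structureModule P, U.1) from a) = 0 := by
      rw [unit_smul_one U.1 a, Scheme.Modules.Hom.app_smul, ha]
    rw [h2, map_zero, map_zero]
    rfl
  have hιk : ∀ k, (𝒥.subschemeι).ker ≤ (h k).ker := fun k => by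
    rw [Scheme.IdealSheafData.ker_subschemeι]; exact hle k
  refine ⟨𝒥.subscheme, 𝒥.subschemeι, fun k => IsClosedImmersion.lift 𝒥.subschemeι (h k) (hιk k),
    inferInstance, fun k => IsClosedImmersion.lift_fac _ _ _, fun k => ?_⟩
  have he : IsClosedImmersion.lift 𝒥.subschemeι (h k) (hιk k) ≫ 𝒥.subschemeι = h k :=
    IsClosedImmersion.lift_fac _ _ _
  have hw : IsClosedImmersion.lift 𝒥.subschemeι (h k) (hιk k) ≫
      𝒥.subschemeι ≫ (P ↘ Spec (CommRingCat.of A)) = p k ≫ CohB1.specQuot J k := by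
    rw [← Category.assoc, he, hh k, hover k]
  haveI : IsClosedImmersion (CohB1.specQuot J k) :=
    IsClosedImmersion.spec_of_surjective _ Ideal.Quotient.mk_surjective
  have hker : ∀ {T : Scheme.{u}} (a : T ⟶ 𝒥.subscheme)
      (b : T ⟶ Spec (CommRingCat.of (A ⧸ J ^ (k + 1))))
      (_ : a ≫ 𝒥.subschemeι ≫ (P ↘ Spec (CommRingCat.of A)) = b ≫ CohB1.specQuot J k),
      (h k).ker ≤ (a ≫ 𝒥.subschemeι).ker := by
    intro T a b w
    change (h k).ker ≤ Scheme.IdealSheafData.ofIdeals _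
    rw [Scheme.IdealSheafData.le_ofIdeals_iff]
    intro U f hf
    rw [Scheme.Hom.ker_apply, RingHom.mem_ker] at hf
    rw [RingHom.mem_ker]
    refine app_eq_zero_of_quotient J π k (a ≫ 𝒥.subschemeι) ?_ U.1 U.2 ?_ f ?_
    · intro c hc
      exact toGlobal_eq_zero_of_factor J k _ b (by rw [Category.assoc]; exact w) c hc
    · intro f₀ hf₀
      have h1 : f₀ ∈ RingHom.ker (𝒥.subschemeι.app U).hom := by
        rw [Scheme.IdealSheafData.ker_subschemeι_app, h𝒥 U, Module.mem_annihilator]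
        exact hf₀
      rw [RingHom.mem_ker] at h1
      have h2 : ((a ≫ 𝒥.subschemeι).app U.1).hom f₀ =
          (a.app (𝒥.subschemeι ⁻¹ᵁ U.1)).hom ((𝒥.subschemeι.app U.1).hom f₀) := rfl
      refine h2.trans ?_
      rw [h1]
      exact map_zero _
    · refine app_eq_zero_of_iso (θ k) U.1 _ ?_
      rw [← hsh k U.1 f]
      exact hf
  refine IsPullback.of_isLimit (c := PullbackCone.mk _ _ hw) (PullbackCone.IsLimit.mk hw
    (fun s => IsClosedImmersion.lift (h k) (s.fst ≫ 𝒥.subschemeι)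
      (hker s.fst s.snd (by rw [← Category.assoc]; exact s.condition)))
    (fun s => ?_) (fun s => ?_) (fun s m h1 h2 => ?_))
  · rw [← cancel_mono 𝒥.subschemeι, Category.assoc, he, IsClosedImmersion.lift_fac]
  · rw [← cancel_mono (CohB1.specQuot J k), Category.assoc, ← hover k, ← hh k,
      IsClosedImmersion.lift_fac_assoc, Category.assoc]
    exact s.condition
  · rw [← cancel_mono (h k), IsClosedImmersion.lift_fac, ← h1, Category.assoc, he]

end Main

end Groth.Agent.Lib.Helper27TowerAlg
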