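import Groth.Agent.Lib.Helper27TowerProj
import Groth.Agent.Lib.Helper27AffineCrit
import Groth.Agent.Lib.Helper23LocGen
import Groth.Agent.Lib.Helper23AmpleComp
import Groth.Agent.Lib.Helper23VeryAmple4
import Groth.Agent.Lib.Helper17ProjFormulaD

/-!
# Algebraization of an adic tower with an ample invertible module (helper27)

* `nonempty_iso_of_inverse`, `nonempty_pullback_iso`: tensor calculus of invertible modules.
* `exists_algebraization_of_emb`: from two compatible families of closed immersions into `P^N_A`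
  pulling `O(1)` back to `L_k^d`, resp. `L_k^(d+1)`, the algebraization `(Y, M)` of the tower.
-/

set_option autoImplicit false
set_option linter.style.haveILetI false
set_option linter.unusedSectionVars false
universe u
open CategoryTheory Limits AlgebraicGeometry TopologicalSpace Opposite

namespace Groth.Agent.Lib.Helper27TowerFinal

open Groth.Agent.Lib.Helper17.FlatDev Groth.Agent.Lib.Helper27Tower
  Groth.Agent.Lib.Helper23.SecTw Groth.Agent.Lib.Helper23.PB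
  Groth.Agent.Lib.Helper27TowerAlg Groth.Agent.Lib.Helper23.TensorUnit
  Groth.Agent.Lib.Helper23.RestrTensor

section Tensor

variable {X : Scheme.{u}}

theorem nonempty_iso_of_inverse (L P1 B' V' : X.Modules) (d : ℕ)
    (e1 : P1 ≅ CohB1.tensorPow L (d + 1)) (e2 : B' ≅ CohB1.tensorPow L d)
    (e3 : CohB1.tensorMod B' V' ≅ Coh.structureModule X) :
    Nonempty (CohB1.tensorMod P1 V' ≅ L) :=
  ⟨PicGrp.tensorModIso e1 (Iso.refl V') ≪≫
    PicGrp.tensorModIso
      (Groth.Agent.Lib.Helper27AffineCrit.tensorComm (CohB1.tensorPow L d) L) (Iso.refl V') ≪≫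
    Groth.Agent.Lib.Helper23.LocGen.tensorAssoc L (CohB1.tensorPow L d) V' ≪≫
    PicGrp.tensorModIso (Iso.refl L) (PicGrp.tensorModIso e2.symm (Iso.refl V') ≪≫ e3) ≪≫
    tensorUnitIso L⟩

/-- `(f ≫ g)^* M ≅ k^* M` for `f ≫ g = k`. -/
noncomputable def pullbackCompIso {X Y Z : Scheme.{u}} (f : X ⟶ Y) (g : Y ⟶ Z) (k : X ⟶ Z)
    (h : f ≫ g = k) (M : Z.Modules) :
    (Scheme.Modules.pullback f).obj ((Scheme.Modules.pullback g).obj M) ≅
      (Scheme.Modules.pullback k).obj M :=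
  (Scheme.Modules.pullbackComp f g).app M ≪≫ eqToIso (by rw [h])

theorem nonempty_pullback_iso {P : Scheme.{u}} (h : X ⟶ P) (T2 B V : P.Modules)
    (L : X.Modules) (d : ℕ)
    (e1 : (Scheme.Modules.pullback h).obj T2 ≅ CohB1.tensorPow L (d + 1))
    (e2 : (Scheme.Modules.pullback h).obj B ≅ CohB1.tensorPow L d)
    (e3 : CohB1.tensorMod B V ≅ Coh.structureModule P) :
    Nonempty ((Scheme.Modules.pullback h).obj (CohB1.tensorMod T2 V) ≅ L) := by
  have e3' : CohB1.tensorMod ((Scheme.Modules.pullback h).obj B)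
      ((Scheme.Modules.pullback h).obj V) ≅ Coh.structureModule X :=
    (pullbackTensorIso B V h).symm ≪≫ (Scheme.Modules.pullback h).mapIso e3 ≪≫ pullbackUnitIso h
  obtain ⟨e⟩ := nonempty_iso_of_inverse L _ _ _ d e1 e2 e3'
  exact ⟨pullbackTensorIso T2 V h ≪≫ e⟩

end Tensor

section Final

variable {A : Type u} [CommRing A] [IsNoetherianRing A] (J : Ideal A) [IsAdicComplete J A]
  (Xs : ℕ → Scheme.{u}) [∀ k, (Xs k).Over (Spec (CommRingCat.of A))]
  (p : (k : ℕ) → (Xs k ⟶ Spec (CommRingCat.of (A ⧸ J ^ (k + 1)))))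
  (hover : ∀ k, (Xs k) ↘ Spec (CommRingCat.of A) = p k ≫ CohB1.specQuot J k)
  (i : (k : ℕ) → (Xs k ⟶ Xs (k + 1)))
  (hcart : ∀ k, IsPullback (i k) (p k) (p (k + 1)) (CohB1.specQuotTrans J k))
  (L : (k : ℕ) → (Xs k).Modules) (hL : ∀ k, PicF.IsInvertible (L k))

theorem isInvertible_twistOver (N : ℕ) (S : Scheme.{u}) :
    PicF.IsInvertible (Twist.twistOver N S 1) := by
  unfold Twist.twistOver
  exact isInvertible_pullback _ _ (Groth.Agent.Lib.Helper27TowerEmb.isInvertible_twistProjSpace N)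

include hover hcart hL in
/-- the algebraization of the tower from two compatible families of projective embeddings. -/
theorem exists_algebraization_of_emb [IsProper (p 0)] (hamp : CohB1.IsAmple (L 0)) (d : ℕ)
    (N₁ : ℕ) (a₁ : ∀ k, Xs k ⟶ CohB1.ProjSpaceOver N₁ (Spec (CommRingCat.of A)))
    (hci₁ : ∀ k, IsClosedImmersion (a₁ k))
    (hs₁ : ∀ k, a₁ k ≫ CohB1.ProjSpaceOver.toBase N₁ (Spec (CommRingCat.of A)) =
      (Xs k) ↘ Spec (CommRingCat.of A))
    (hc₁ : ∀ k, i k ≫ a₁ (k + 1) = a₁ k)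
    (hτ₁ : ∀ k, Nonempty ((Scheme.Modules.pullback (a₁ k)).obj
      (Twist.twistOver N₁ (Spec (CommRingCat.of A)) 1) ≅ CohB1.tensorPow (L k) d))
    (N₂ : ℕ) (a₂ : ∀ k, Xs k ⟶ CohB1.ProjSpaceOver N₂ (Spec (CommRingCat.of A)))
    (hc₂ : ∀ k, i k ≫ a₂ (k + 1) = a₂ k)
    (hτ₂ : ∀ k, Nonempty ((Scheme.Modules.pullback (a₂ k)).obj
      (Twist.twistOver N₂ (Spec (CommRingCat.of A)) 1) ≅ CohB1.tensorPow (L k) (d + 1))) :
    ∃ (Y : Scheme.{u}) (g : Y ⟶ Spec (CommRingCat.of A)) (M : Y.Modules)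
      (e : (n : ℕ) → (Xs n ⟶ Y)),
      IsProper g ∧ PicF.IsInvertible M ∧ CohB1.IsAmple M ∧
      (∀ n, IsPullback (e n) (p n) g (CohB1.specQuot J n)) ∧ (∀ n, e n = i n ≫ e (n + 1)) ∧
      ∀ n, Nonempty ((Scheme.Modules.pullback (e n)).obj M ≅ L n) := by
  -- the ambient scheme
  let S : Scheme.{u} := Spec (CommRingCat.of A)
  let S' : Scheme.{u} := CohB1.ProjSpaceOver N₁ S
  let P : Scheme.{u} := CohB1.ProjSpaceOver N₂ S'
  let fst₂ : P ⟶ CohB1.ProjSpace N₂ (ULift.{u} ℤ) :=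
    pullback.fst (CohB1.ProjSpace.toSpec N₂ (ULift.{u} ℤ)) (specULiftZIsTerminal.from S')
  let fst₂' : CohB1.ProjSpaceOver N₂ S ⟶ CohB1.ProjSpace N₂ (ULift.{u} ℤ) :=
    pullback.fst (CohB1.ProjSpace.toSpec N₂ (ULift.{u} ℤ)) (specULiftZIsTerminal.from S)
  let tb₂ : P ⟶ S' := CohB1.ProjSpaceOver.toBase N₂ S'
  let tb₁ : S' ⟶ S := CohB1.ProjSpaceOver.toBase N₁ S
  letI : P.Over S := ⟨tb₂ ≫ tb₁⟩
  have hPover : P ↘ S = tb₂ ≫ tb₁ := rfl
  haveI : IsProper tb₂ := Groth.Agent.Lib.Helper27ProjSpaceFibres.isProper_toBase N₂ S'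
  haveI : IsProper tb₁ := Groth.Agent.Lib.Helper27ProjSpaceFibres.isProper_toBase N₁ S
  haveI : IsProper (P ↘ S) := by rw [hPover]; infer_instance
  -- the embeddings
  let h : ∀ k, Xs k ⟶ P := fun k =>
    pullback.lift (a₂ k ≫ fst₂') (a₁ k) (specULiftZIsTerminal.hom_ext _ _)
  have h_fst : ∀ k, h k ≫ fst₂ = a₂ k ≫ fst₂' := fun k => pullback.lift_fst _ _ _
  have h_snd : ∀ k, h k ≫ tb₂ = a₁ k := fun k => pullback.lift_snd _ _ _
  haveI hci : ∀ k, IsClosedImmersion (h k) := by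
    intro k
    haveI : IsClosedImmersion (h k ≫ tb₂) := by rw [h_snd k]; exact hci₁ k
    exact IsClosedImmersion.of_comp (h k) tb₂
  have hh : ∀ k, h k ≫ (P ↘ S) = (Xs k) ↘ S := by
    intro k
    rw [hPover, ← Category.assoc, h_snd k]
    exact hs₁ k
  have hcomp : ∀ k, i k ≫ h (k + 1) = h k := by
    intro k
    apply pullback.hom_ext
    · exact (Category.assoc _ _ _).trans ((congrArg (fun t => i k ≫ t) (h_fst (k + 1))).trans
        (((Category.assoc _ _ _).symm.trans (congrArg (fun t => t ≫ fst₂') (hc₂ k))).trans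
          (h_fst k).symm))
    · exact (Category.assoc _ _ _).trans ((congrArg (fun t => i k ≫ t) (h_snd (k + 1))).trans
        ((hc₁ k).trans (h_snd k).symm))
  -- an ample module on `P`
  obtain ⟨n₀, hn₀⟩ := Groth.Agent.Lib.Helper23.AmpleComp.isAmple_tensorMod_pullback_tensorPow tb₂
    (Twist.twistOver N₁ S 1) (Groth.Agent.Lib.Helper23.VeryAmple3.isAmple_twistOver N₁ S)
    (Twist.twistOver N₂ S' 1) (Groth.Agent.Lib.Helper23.VeryAmple4.isRelAmple_twistOver N₂ S')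
  obtain ⟨Y, ι, e, hι, heι, hpb⟩ := exists_subscheme J Xs p hover i hcart h hh hcomp _
    (hn₀ n₀ le_rfl)
  haveI := hι
  -- the invertible module
  let T2 : P.Modules := Twist.twistOver N₂ S' 1
  let B : P.Modules := (Scheme.Modules.pullback tb₂).obj (Twist.twistOver N₁ S 1)
  have hT2 : PicF.IsInvertible T2 := isInvertible_twistOver N₂ S'
  have hB : PicF.IsInvertible B := isInvertible_pullback tb₂ _ (isInvertible_twistOver N₁ S)
  obtain ⟨V, hV, ⟨e3⟩, -⟩ := Groth.Agent.Lib.Helper17.ProjFormulaD.nonempty_inverse B hB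
  have h𝓜 : PicF.IsInvertible (CohB1.tensorMod T2 V) := isInvertible_tensorMod hT2 hV
  have hM : PicF.IsInvertible ((Scheme.Modules.pullback ι).obj (CohB1.tensorMod T2 V)) :=
    isInvertible_pullback ι _ h𝓜
  have hiso : ∀ k, Nonempty ((Scheme.Modules.pullback (e k)).obj
      ((Scheme.Modules.pullback ι).obj (CohB1.tensorMod T2 V)) ≅ L k) := by
    intro k
    obtain ⟨τ₁⟩ := hτ₁ k
    obtain ⟨τ₂⟩ := hτ₂ k
    have e1 : (Scheme.Modules.pullback (h k)).obj T2 ≅ CohB1.tensorPow (L k) (d + 1) :=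
      pullbackCompIso (h k) fst₂ (a₂ k ≫ fst₂') (h_fst k) (Twist.twistProjSpace N₂ (ULift.{u} ℤ) 1) ≪≫
        (pullbackCompIso (a₂ k) fst₂' (a₂ k ≫ fst₂') rfl
          (Twist.twistProjSpace N₂ (ULift.{u} ℤ) 1)).symm ≪≫ τ₂
    have e2 : (Scheme.Modules.pullback (h k)).obj B ≅ CohB1.tensorPow (L k) d :=
      pullbackCompIso (h k) tb₂ (a₁ k) (h_snd k) (Twist.twistOver N₁ S 1) ≪≫ τ₁
    obtain ⟨E⟩ := nonempty_pullback_iso (h k) T2 B V (L k) d e1 e2 e3
    exact ⟨pullbackCompIso (e k) ι (h k) (heι k) _ ≪≫ E⟩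
  refine ⟨Y, ι ≫ (P ↘ S), (Scheme.Modules.pullback ι).obj (CohB1.tensorMod T2 V), e,
    inferInstance, hM, ?_, hpb, fun n => ?_, hiso⟩
  · -- ampleness
    letI : Y.Over S := ⟨ι ≫ (P ↘ S)⟩
    haveI : IsProper (Y ↘ S) := inferInstanceAs (IsProper (ι ≫ (P ↘ S)))
    obtain ⟨E0⟩ := hiso 0
    have hamp0 : CohB1.IsAmple ((Scheme.Modules.pullback (e 0)).obj
        ((Scheme.Modules.pullback ι).obj (CohB1.tensorMod T2 V))) :=
      Groth.Agent.Lib.Helper23.AmpleIso.isAmple_of_iso E0.symm hamp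
    refine Groth.Agent.Lib.Helper27FibreVan.isAmple_of_fibre_ample
      (Ideal.Quotient.mk (J ^ (0 + 1))) (e 0) (p 0) (hpb 0) Ideal.Quotient.mk_surjective ?_ _ hM
      hamp0
    rw [Ideal.mk_ker, zero_add, pow_one]
    exact IsAdicComplete.le_jacobson_bot J
  · rw [← cancel_mono ι, Category.assoc, heι, heι, hcomp]

end Final

end Groth.Agent.Lib.Helper27TowerFinal
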