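import Groth.Agent.Lib.Helper27TowerEmb
import Groth.Agent.Lib.Helper27ThickCI

/-!
# Compatible closed immersions of an adic tower into projective space (helper27)

* `exists_tower_emb`: if `L_0^d` is very ample relative to `X_0 ⟶ Spec A` and sections of `L_k^d`
  lift along the tower, there are compatible closed immersions `a_k : X_k ⟶ P^N_A` over `A` with
  `a_k^* O(1) ≅ L_k^d`.
-/

set_option autoImplicit false
set_option linter.style.haveILetI false
set_option linter.unusedSectionVars false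
universe u
open CategoryTheory Limits AlgebraicGeometry TopologicalSpace Opposite

namespace Groth.Agent.Lib.Helper27TowerProj

open Groth.Agent.Lib.Helper17.FlatDev Groth.Agent.Lib.Helper27Tower
  Groth.Agent.Lib.Helper23.SecTw Groth.Agent.Lib.Helper27TowerSec
  Groth.Agent.Lib.Helper23.PB Groth.Agent.Lib.Helper27TowerEmb
  Groth.Agent.Lib.Helper27ThickCI Groth.Agent.Lib.Helper27TowerStep

section Tower

variable {A : Type u} [CommRing A] [IsNoetherianRing A] (J : Ideal A)
  (Xs : ℕ → Scheme.{u}) [∀ k, (Xs k).Over (Spec (CommRingCat.of A))]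
  (p : (k : ℕ) → (Xs k ⟶ Spec (CommRingCat.of (A ⧸ J ^ (k + 1)))))
  (hover : ∀ k, (Xs k) ↘ Spec (CommRingCat.of A) = p k ≫ CohB1.specQuot J k)
  (i : (k : ℕ) → (Xs k ⟶ Xs (k + 1)))
  (hcart : ∀ k, IsPullback (i k) (p k) (p (k + 1)) (CohB1.specQuotTrans J k))
  (L : (k : ℕ) → (Xs k).Modules) (hL : ∀ k, PicF.IsInvertible (L k))
  (φL : ∀ k, (Scheme.Modules.pullback (i k)).obj (L (k + 1)) ≅ L k)

include hover hcart in
theorem surjective_jj (k : ℕ) : Surjective (jj Xs i k) := by
  induction k with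
  | zero => exact inferInstanceAs (Surjective (𝟙 (Xs 0)))
  | succ k ih =>
    haveI := ih
    haveI : Surjective (i k) := ⟨surjective_i J Xs p hover i hcart k⟩
    rw [jj_succ]
    infer_instance

include hover in
theorem toGlobal_level (k : ℕ) (c : A) (hc : c ∈ J ^ (k + 1)) :
    Coh.toGlobal ((Xs k) ↘ Spec (CommRingCat.of A)) c = 0 := by
  rw [hover k]
  unfold CohB1.specQuot
  rw [toGlobal_comp_specMap, Ideal.Quotient.eq_zero_iff_mem.2 hc, map_zero]

include hover hcart hL φL in
/-- compatible closed immersions into `P^N_A`. -/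
theorem exists_tower_emb [IsProper (p 0)] (d : ℕ)
    (hsurj : ∀ k, Function.Surjective ((πQ (J ^ (k + 1)) (CohB1.tensorPow (L (k + 1)) d)).app ⊤))
    (hva : RelAmple.IsRelVeryAmplePn ((Xs 0) ↘ Spec (CommRingCat.of A))
      (CohB1.tensorPow (L 0) d)) :
    ∃ (N : ℕ) (a : ∀ k, Xs k ⟶ CohB1.ProjSpaceOver N (Spec (CommRingCat.of A))),
      (∀ k, IsClosedImmersion (a k)) ∧
      (∀ k, a k ≫ CohB1.ProjSpaceOver.toBase N (Spec (CommRingCat.of A)) =
        (Xs k) ↘ Spec (CommRingCat.of A)) ∧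
      (∀ k, i k ≫ a (k + 1) = a k) ∧
      ∀ k, Nonempty ((Scheme.Modules.pullback (a k)).obj
        (Twist.twistOver N (Spec (CommRingCat.of A)) 1) ≅ CohB1.tensorPow (L k) d) := by
  obtain ⟨N, i₀, hi₀, hi₀q, ⟨Φ⟩⟩ := hva
  let τ₀ : (Scheme.Modules.pullback (i₀ ≫ pullback.fst (CohB1.ProjSpace.toSpec N (ULift.{u} ℤ))
      (specULiftZIsTerminal.from (Spec (CommRingCat.of A))))).obj
        (Twist.twistProjSpace N (ULift.{u} ℤ) 1) ≅ CohB1.tensorPow (L 0) d :=
    ((Scheme.Modules.pullbackComp i₀ (pullback.fst (CohB1.ProjSpace.toSpec N (ULift.{u} ℤ))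
      (specULiftZIsTerminal.from (Spec (CommRingCat.of A))))).app
        (Twist.twistProjSpace N (ULift.{u} ℤ) 1)).symm ≪≫ Φ.symm
  obtain ⟨r, hr0, hrc, hrτ⟩ := exists_tower_mor J Xs p hover i hcart L hL φL d hsurj N _ τ₀
  let a : ∀ k, Xs k ⟶ CohB1.ProjSpaceOver N (Spec (CommRingCat.of A)) := fun k =>
    pullback.lift (r k) ((Xs k) ↘ Spec (CommRingCat.of A)) (specULiftZIsTerminal.hom_ext _ _)
  have ha_fst : ∀ k, a k ≫ pullback.fst (CohB1.ProjSpace.toSpec N (ULift.{u} ℤ))
      (specULiftZIsTerminal.from (Spec (CommRingCat.of A))) = r k := fun k =>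
    pullback.lift_fst _ _ _
  have ha_snd : ∀ k, a k ≫ CohB1.ProjSpaceOver.toBase N (Spec (CommRingCat.of A)) =
      (Xs k) ↘ Spec (CommRingCat.of A) := fun k => pullback.lift_snd _ _ _
  have ha0 : a 0 = i₀ := by
    apply pullback.hom_ext
    · exact (ha_fst 0).trans hr0
    · exact (ha_snd 0).trans hi₀q.symm
  have hac : ∀ k, i k ≫ a (k + 1) = a k := by
    intro k
    apply pullback.hom_ext
    · exact (Category.assoc _ _ _).trans ((congrArg (fun t => i k ≫ t) (ha_fst (k + 1))).trans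
        ((hrc k).trans (ha_fst k).symm))
    · exact (Category.assoc _ _ _).trans (((congrArg (fun t => i k ≫ t) (ha_snd (k + 1))).trans
        (i_over J Xs p hover i hcart k)).trans (ha_snd k).symm)
  have hja : ∀ k, jj Xs i k ≫ a k = a 0 := by
    intro k
    induction k with
    | zero => exact Category.id_comp _
    | succ k ih => rw [jj_succ, Category.assoc, hac, ih]
  haveI : IsProper ((Xs 0) ↘ Spec (CommRingCat.of A)) := by
    rw [hover 0]
    infer_instance
  haveI : IsImmersion i₀ := hi₀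
  have hci0 : IsClosedImmersion i₀ :=
    Groth.Agent.Lib.Helper17.FinLoc.isClosedImmersion_of_isImmersion_projSpaceOver N i₀
      ((Xs 0) ↘ Spec (CommRingCat.of A)) hi₀q
  have hci : ∀ k, IsClosedImmersion (a k) := by
    intro k
    haveI : IsClosedImmersion (jj Xs i k ≫ a k) := by
      rw [hja k, ha0]
      exact hci0
    refine isClosedImmersion_of_thickening (Ideal.Quotient.mk (J ^ (0 + 1)))
      Ideal.Quotient.mk_surjective (jj Xs i k) (p 0) (hsq_j J Xs p hover i hcart k)
      (jj_over J Xs p hover i hcart k) (surjective_jj J Xs p hover i hcart k).surj (k + 1) ?_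
      (a k) (ha_snd k)
    intro c hc
    rw [Ideal.mk_ker, zero_add, pow_one] at hc
    exact toGlobal_level J Xs p hover k c hc
  refine ⟨N, a, hci, ha_snd, hac, fun k => ?_⟩
  obtain ⟨τk⟩ := hrτ k
  exact ⟨(Scheme.Modules.pullbackComp (a k) (pullback.fst (CohB1.ProjSpace.toSpec N (ULift.{u} ℤ))
      (specULiftZIsTerminal.from (Spec (CommRingCat.of A))))).app
        (Twist.twistProjSpace N (ULift.{u} ℤ) 1) ≪≫ eqToIso (by rw [ha_fst k]) ≪≫ τk⟩

end Tower

end Groth.Agent.Lib.Helper27TowerProj
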