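import Groth.Agent.Lib.Helper27TowerGG
import Groth.Agent.Lib.Helper27TowerFormal
import Groth.Agent.Lib.Helper23TensorUnit
import Groth.Agent.Lib.Helper27GenLocusPull
import Groth.Agent.Lib.Helper13ProjUPb

/-!
# Lifting sections of powers of an ample module along an adic tower (helper27)

* `uniform_surjective_πQ`: for `d ≥ d₀` and all `k`, `Γ(X_(k+1), L_(k+1)^d) → Γ(X_(k+1), L_(k+1)^d / J^(k+1))`
  is surjective.
* `surjective_pullSec`: hence `ProjUP.pullSec (i k)` is surjective on global sections of `L_(k+1)^d`.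
* `genLocus_pullSec`, `generatedBy_of_pullSec`: generation can be tested after a surjective pullback.
-/

set_option autoImplicit false
set_option linter.style.haveILetI false
set_option linter.unusedSectionVars false
universe u
open CategoryTheory Limits AlgebraicGeometry TopologicalSpace Opposite

namespace Groth.Agent.Lib.Helper27TowerSec

open Groth.Agent.Lib.Helper17.GrSys Groth.Agent.Lib.Helper17.IAdic
  Groth.Agent.Lib.Helper17.FlatDev Groth.Agent.Lib.Helper27FormalKer
  Groth.Agent.Lib.Helper27ComplHyp Groth.Agent.Lib.Helper27GrSysMap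
  Groth.Agent.Lib.Helper27KerSysMap Groth.Agent.Lib.Helper27FibreVan
  Groth.Agent.Lib.Helper27TowerStep Groth.Agent.Lib.Helper27GrSysLim
  Groth.Agent.Lib.Helper27GrSysVan Groth.Agent.Lib.Helper27FinSurjAmple
  Groth.Agent.Lib.Helper27SerreVan Groth.Agent.Lib.Helper27Tower
  Groth.Agent.Lib.Helper23.SecTw Groth.Agent.Lib.Helper27TowerGG
  Groth.Agent.Lib.Helper4.Dev Groth.Agent.Lib.Helper23.PB

section Tower

variable {A : Type u} [CommRing A] [IsNoetherianRing A] (J : Ideal A)
  (Xs : ℕ → Scheme.{u}) [∀ k, (Xs k).Over (Spec (CommRingCat.of A))]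
  (p : (k : ℕ) → (Xs k ⟶ Spec (CommRingCat.of (A ⧸ J ^ (k + 1)))))
  (hover : ∀ k, (Xs k) ↘ Spec (CommRingCat.of A) = p k ≫ CohB1.specQuot J k)
  (i : (k : ℕ) → (Xs k ⟶ Xs (k + 1)))
  (hcart : ∀ k, IsPullback (i k) (p k) (p (k + 1)) (CohB1.specQuotTrans J k))
  (L : (k : ℕ) → (Xs k).Modules) (hL : ∀ k, PicF.IsInvertible (L k))
  (φL : ∀ k, (Scheme.Modules.pullback (i k)).obj (L (k + 1)) ≅ L k)

include hover hcart hL φL in
/-- uniform surjectivity of reduction modulo `J^(k+1)` on global sections of `L_(k+1)^d`. -/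
theorem uniform_surjective_πQ [IsProper (p 0)] (hamp : CohB1.IsAmple (L 0)) :
    ∃ d₀ : ℕ, ∀ d : ℕ, d₀ ≤ d → ∀ k : ℕ,
      Function.Surjective ((πQ (J ^ (k + 1)) (CohB1.tensorPow (L (k + 1)) d)).app ⊤) := by
  obtain ⟨d₀, hd₀⟩ := uniform_vanishing_K J Xs p hover i hcart L hL φL hamp
    (fun k => Coh.structureModule (Xs k)) (fun k => isCoh_structureModule (Xs k))
    (fun k => pullbackUnitIso (i k))
  refine ⟨d₀, fun d hd k => ?_⟩
  have hLd := isInvertible_tensorPow (hL (k + 1)) d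
  haveI : (Coh.structureModule (Xs (k + 1))).IsQuasicoherent := (isCoh_structureModule _).1
  haveI : (CohB1.tensorPow (L (k + 1)) d).IsQuasicoherent :=
    isQuasicoherent_of_isInvertible _ hLd
  have hH := hyp_completion J (Coh.structureModule (Xs (k + 1)))
  have h' : J ^ (k + 1 + 1) ≤ J ^ (k + 1) := Ideal.pow_le_pow_right (Nat.le_succ _)
  have hsur : Function.Surjective (((Groth.Agent.Lib.Helper27SerreVan.tw (CohB1.tensorPow (L (k + 1)) d)).map
      (tr (Formal.completion J (Coh.structureModule (Xs (k + 1)))) k)).app ⊤) :=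
    Groth.Agent.Lib.Helper27LesLin.surjective_app_top_of_delta_zero _
      (shortExact_tw _ hLd _ (shortExact_K hH k))
      (fun y => @Subsingleton.elim _ (hd₀ d hd (k + 1) k (by omega) 1 Nat.one_pos) _ _)
  rw [tr_completion, modPowTrans_eq_Qmap] at hsur
  haveI := isIso_πQ_of_killed (J ^ (k + 1 + 1)) (Coh.structureModule (Xs (k + 1)))
    (killedBy_level J Xs p hover (k + 1) _)
  haveI : IsIso ((Groth.Agent.Lib.Helper27SerreVan.tw (CohB1.tensorPow (L (k + 1)) d)).map
      (πQ (J ^ (k + 1 + 1)) (Coh.structureModule (Xs (k + 1))))) := Functor.map_isIso _ _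
  have h1 : Function.Surjective (((Groth.Agent.Lib.Helper27SerreVan.tw (CohB1.tensorPow (L (k + 1)) d)).map
      (πQ (J ^ (k + 1)) (Coh.structureModule (Xs (k + 1))))).app ⊤) := by
    rw [← πQ_Qmap h' (Coh.structureModule (Xs (k + 1))), Functor.map_comp]
    exact surjective_comp_app _ _ (surjective_app_top_of_isIso _) hsur
  have hΦ : ∀ (M : (Xs (k + 1)).Modules) (b : A),
      (Groth.Agent.Lib.Helper27SerreVan.tw (CohB1.tensorPow (L (k + 1)) d)).map (Formal.smulMod A M b) =
        Formal.smulMod A ((Groth.Agent.Lib.Helper27SerreVan.tw (CohB1.tensorPow (L (k + 1)) d)).obj M) b := fun M b =>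
    (smulMod_tensorMod M (CohB1.tensorPow (L (k + 1)) d) b).symm
  obtain ⟨s, c, hc⟩ := Submodule.fg_iff_exists_fin_generating_family.1
    ((isNoetherianRing_iff_ideal_fg A).1 inferInstance (J ^ (k + 1)))
  haveI := isIso_Qcomp (Groth.Agent.Lib.Helper27SerreVan.tw (CohB1.tensorPow (L (k + 1)) d)) hΦ c (J ^ (k + 1)) hc.symm
    (Coh.structureModule (Xs (k + 1)))
  let eQ := asIso (Qcomp (Groth.Agent.Lib.Helper27SerreVan.tw (CohB1.tensorPow (L (k + 1)) d)) hΦ (J ^ (k + 1))
    (Coh.structureModule (Xs (k + 1))))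
  have e1 : πQ (J ^ (k + 1))
      ((Groth.Agent.Lib.Helper27SerreVan.tw (CohB1.tensorPow (L (k + 1)) d)).obj (Coh.structureModule (Xs (k + 1)))) =
      (Groth.Agent.Lib.Helper27SerreVan.tw (CohB1.tensorPow (L (k + 1)) d)).map
        (πQ (J ^ (k + 1)) (Coh.structureModule (Xs (k + 1)))) ≫ eQ.inv :=
    (Iso.eq_comp_inv eQ).2
      (πQ_Qcomp (Groth.Agent.Lib.Helper27SerreVan.tw (CohB1.tensorPow (L (k + 1)) d)) hΦ (J ^ (k + 1)) _)
  have h2 : Function.Surjective ((πQ (J ^ (k + 1))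
      ((Groth.Agent.Lib.Helper27SerreVan.tw (CohB1.tensorPow (L (k + 1)) d)).obj (Coh.structureModule (Xs (k + 1))))).app ⊤) := by
    rw [e1]
    exact surjective_comp_app _ _ h1 (surjective_app_top_of_isIso eQ.inv)
  let u : (Groth.Agent.Lib.Helper27SerreVan.tw (CohB1.tensorPow (L (k + 1)) d)).obj (Coh.structureModule (Xs (k + 1))) ≅
      CohB1.tensorPow (L (k + 1)) d :=
    Groth.Agent.Lib.Helper23.TensorUnit.unitTensorIso _
  have e2 : πQ (J ^ (k + 1)) (CohB1.tensorPow (L (k + 1)) d) =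
      u.inv ≫ πQ (J ^ (k + 1)) _ ≫ (QfIso (J ^ (k + 1)) u).hom := by
    change _ = u.inv ≫ πQ (J ^ (k + 1)) _ ≫ Qf (J ^ (k + 1)) u.hom
    rw [πQ_Qf, Iso.inv_hom_id_assoc]
  rw [e2]
  exact surjective_comp_app _ _ (surjective_app_top_of_isIso _)
    (surjective_comp_app _ _ h2 (surjective_app_top_of_isIso _))

include hover hcart in
/-- sections of `i_k^* N'` lift to `N'` when reduction modulo `J^(k+1)` is surjective on global
sections. -/
theorem surjective_pullSec (k : ℕ) (N' : (Xs (k + 1)).Modules) [N'.IsQuasicoherent]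
    (h : Function.Surjective ((πQ (J ^ (k + 1)) N').app ⊤)) :
    Function.Surjective (ProjUP.pullSec (i k) N') := by
  have hsq := hsq_i J Xs p hover i hcart k
  haveI := isIso_quotMap (Ideal.Quotient.mk (J ^ (k + 1))) (i k) (p k) hsq N'
    Ideal.Quotient.mk_surjective
  have e := πQ_quotMap (Ideal.Quotient.mk (J ^ (k + 1))) (i k) (p k) hsq N'
  have h0 : ∀ (K : Ideal A), K = J ^ (k + 1) → Function.Surjective ((πQ K N').app ⊤) := by
    intro K hK
    subst hK
    exact h
  have h3 : Function.Surjective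
      (((Scheme.Modules.pullbackPushforwardAdjunction (i k)).unit.app N').app ⊤) := by
    rw [← e]
    exact surjective_comp_app _ _ (h0 _ Ideal.mk_ker) (surjective_app_top_of_isIso _)
  intro t
  obtain ⟨s, hs⟩ := h3 t
  exact ⟨s, hs⟩

end Tower

section Gen

variable {X Y : Scheme.{u}} (f : Y ⟶ X)

theorem secHom_comp {M M' : X.Modules} (e : M ⟶ M') (σ : Γ(M, ⊤)) :
    secHom M σ ≫ e = secHom M' (e.app ⊤ σ) := by
  apply Groth.Agent.Lib.Helper23.SecTw.hom_ext_of_sv
  have h1 : sv (secHom M σ ≫ e) ⊤ = e.app ⊤ (sv (secHom M σ) ⊤) := rfl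
  rw [h1, sv_secHom, sv_secHom, res_self, res_self]

/-- the locus where a pulled-back section of an invertible module generates. -/
theorem genLocus_pullSec (L : X.Modules) (hL : PicF.IsInvertible L) (σ : Γ(L, ⊤)) :
    CohB1.genLocus ((Scheme.Modules.pullback f).obj L)
        (secHom ((Scheme.Modules.pullback f).obj L) (ProjUP.pullSec f L σ)) =
      f ⁻¹ᵁ (CohB1.genLocus L (secHom L σ)) := by
  haveI : L.IsQuasicoherent := isQuasicoherent_of_isInvertible L hL
  refine opens_eq_of_cover _ _ (fun y => ?_)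
  obtain ⟨W, e, hyW, he⟩ := exists_gen L hL (f y)
  refine ⟨f ⁻¹ᵁ W, hyW, ?_⟩
  rw [Groth.Agent.Lib.Helper27GenLocusPull.genLocus_pullSec_inf f L σ W e he]
  rfl

/-- generation descends along a surjective morphism. -/
theorem generatedBy_of_pullSec (hf : Function.Surjective f) (L : X.Modules)
    (hL : PicF.IsInvertible L) (N : Y.Modules) (hN : PicF.IsInvertible N)
    (Ψ : (Scheme.Modules.pullback f).obj L ≅ N) {ι : Type*} (s : ι → ProjUP.Γm L)
    (hs : ProjUP.GeneratedBy N (fun j => Ψ.hom.app ⊤ (ProjUP.pullSec f L (s j)))) :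
    ProjUP.GeneratedBy L s := by
  refine Groth.Agent.Lib.Helper23.VeryAmple.generatedBy_of_cover L s (fun x => ?_)
  obtain ⟨y, rfl⟩ := hf x
  obtain ⟨j, hj⟩ := Groth.Agent.Helper13ProjUP.exists_mem_genLocus N hN _ hs y
  refine ⟨j, ?_⟩
  rw [← secHom_comp, Groth.Agent.Lib.Helper23.AmpleIso.genLocus_comp_iso, genLocus_pullSec f L hL] at hj
  exact hj

/-- pulled-back generating sections generate. -/
theorem generatedBy_pullSec (L : X.Modules) (hL : PicF.IsInvertible L) {ι : Type*}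
    (s : ι → ProjUP.Γm L) (hs : ProjUP.GeneratedBy L s) :
    ProjUP.GeneratedBy ((Scheme.Modules.pullback f).obj L) (fun j => ProjUP.pullSec f L (s j)) := by
  refine Groth.Agent.Lib.Helper23.VeryAmple.generatedBy_of_cover _ _ (fun y => ?_)
  obtain ⟨j, hj⟩ := Groth.Agent.Helper13ProjUP.exists_mem_genLocus L hL _ hs (f y)
  refine ⟨j, ?_⟩
  rw [genLocus_pullSec f L hL]
  exact hj

theorem generatedBy_of_iso {M M' : X.Modules} (e : M ≅ M') (hM : PicF.IsInvertible M)
    {ι : Type*} (s : ι → ProjUP.Γm M) (hs : ProjUP.GeneratedBy M s) :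
    ProjUP.GeneratedBy M' (fun j => e.hom.app ⊤ (s j)) := by
  refine Groth.Agent.Lib.Helper23.VeryAmple.generatedBy_of_cover _ _ (fun x => ?_)
  obtain ⟨j, hj⟩ := Groth.Agent.Helper13ProjUP.exists_mem_genLocus M hM _ hs x
  refine ⟨j, ?_⟩
  rw [← secHom_comp, Groth.Agent.Lib.Helper23.AmpleIso.genLocus_comp_iso]
  exact hj

end Gen

end Groth.Agent.Lib.Helper27TowerSec
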