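import Groth.Agent.Lib.Helper27KerSysMap
import Groth.Agent.Lib.Helper27FibreVan
import Groth.Agent.Lib.Helper27ClosedTransfer

/-!
# One step of a tower of infinitesimal thickenings (helper27)

Let `X'` be a scheme over `Spec A`, `φ : A → A'` a surjection and `X = X' ×_A Spec A'` with
projection `i : X ⟶ X'`.  For a coherent module `M'` on `X'` and `M ≅ i^* M'`, the kernel systems
of the `J`-adic completion systems of `M'` and `M` are related by canonical epimorphisms
`γ_n : i^* K_n(M') ⟶ K_n(M)`, which are isomorphisms as long as `ker φ ≤ J^(n+2)`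
(`isIso_γstep`).
-/

set_option autoImplicit false
set_option linter.style.haveILetI false
set_option linter.unusedSectionVars false
universe u
open CategoryTheory Limits AlgebraicGeometry TopologicalSpace Opposite

namespace Groth.Agent.Lib.Helper27TowerStep

open Groth.Agent.Lib.Helper17.GrSys Groth.Agent.Lib.Helper17.IAdic
  Groth.Agent.Lib.Helper17.FlatDev Groth.Agent.Lib.Helper27FormalKer
  Groth.Agent.Lib.Helper27ComplHyp Groth.Agent.Lib.Helper27GrSysMap
  Groth.Agent.Lib.Helper27KerSysMap Groth.Agent.Lib.Helper27FibreVan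

section Gen

variable {C : Type*} [Category C]

/-- a pullback square stays a pullback square after composing the base with a monomorphism. -/
theorem isPullback_comp_mono {P X Y W Z : C} {a : P ⟶ X} {b : P ⟶ Y} {c : X ⟶ W} {d : Y ⟶ W}
    (h : IsPullback a b c d) (m : W ⟶ Z) [Mono m] : IsPullback a b (c ≫ m) (d ≫ m) :=
  ⟨⟨by rw [← Category.assoc, h.w, Category.assoc]⟩,
    ⟨PullbackCone.isLimitOfCompMono c d m _ h.isLimit⟩⟩

end Gen

section Killed

variable {A B : Type u} [CommRing A] [CommRing B] {X : Scheme.{u}}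

theorem toGlobal_comp_specMap (q : X ⟶ Spec (CommRingCat.of B)) (ψ : A →+* B) (a : A) :
    Coh.toGlobal (q ≫ Spec.map (CommRingCat.ofHom ψ)) a = Coh.toGlobal q (ψ a) := by
  change (q ≫ Spec.map (CommRingCat.ofHom ψ)).appTop.hom
      ((Scheme.ΓSpecIso (CommRingCat.of A)).inv.hom a) =
    q.appTop.hom ((Scheme.ΓSpecIso (CommRingCat.of B)).inv.hom (ψ a))
  rw [Scheme.Hom.comp_appTop]
  have h := congrArg (fun t => t.hom a)
    (Scheme.ΓSpecIso_inv_naturality (CommRingCat.ofHom ψ))
  simp only [CommRingCat.hom_comp, RingHom.comp_apply, CommRingCat.hom_ofHom] at h ⊢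
  rw [← h]

variable [X.Over (Spec (CommRingCat.of A))]

/-- if the structure morphism factors through `Spec (A/J')`, every module is killed by `J'`. -/
theorem killedBy_of_factor (J' : Ideal A) (q : X ⟶ Spec (CommRingCat.of (A ⧸ J')))
    (hq : X ↘ Spec (CommRingCat.of A) =
      q ≫ Spec.map (CommRingCat.ofHom (Ideal.Quotient.mk J'))) (M : X.Modules) :
    Formal.KilledBy J' M := by
  intro a ha
  unfold Formal.smulMod
  rw [hq, toGlobal_comp_specMap, Ideal.Quotient.eq_zero_iff_mem.2 ha, map_zero]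
  exact KLin.smulModΓ_zero M

theorem killedBy_mono {J J' : Ideal A} (h : J' ≤ J) {M : X.Modules} (hM : Formal.KilledBy J M) :
    Formal.KilledBy J' M := fun a ha => hM a (h ha)

end Killed

section Qf

variable {A : Type u} [CommRing A] {X : Scheme.{u}} [X.Over (Spec (CommRingCat.of A))]

/-- functoriality of `M ↦ M / J M`. -/
noncomputable def Qf (J : Ideal A) {M N : X.Modules} (f : M ⟶ N) : Q J M ⟶ Q J N :=
  cokernel.desc _ (f ≫ πQ J N) (by
    apply Sigma.hom_ext
    intro b
    rw [comp_zero, ← Category.assoc, ι_smulFamily, ← Category.assoc, ← comp_smulMod,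
      Category.assoc, smulMod_πQ J N b.1 b.2, comp_zero])

@[reassoc (attr := simp)]
theorem πQ_Qf (J : Ideal A) {M N : X.Modules} (f : M ⟶ N) : πQ J M ≫ Qf J f = f ≫ πQ J N :=
  cokernel.π_desc _ _ _

theorem Qf_id (J : Ideal A) (M : X.Modules) : Qf J (𝟙 M) = 𝟙 _ := by
  rw [← cancel_epi (πQ J M), πQ_Qf, Category.id_comp, Category.comp_id]

theorem Qf_comp (J : Ideal A) {M N P : X.Modules} (f : M ⟶ N) (g : N ⟶ P) :
    Qf J (f ≫ g) = Qf J f ≫ Qf J g := by
  rw [← cancel_epi (πQ J M), πQ_Qf, πQ_Qf_assoc, πQ_Qf, Category.assoc]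

/-- `M ↦ M / J M` on isomorphisms. -/
noncomputable def QfIso (J : Ideal A) {M N : X.Modules} (e : M ≅ N) : Q J M ≅ Q J N where
  hom := Qf J e.hom
  inv := Qf J e.inv
  hom_inv_id := by rw [← Qf_comp, e.hom_inv_id, Qf_id]
  inv_hom_id := by rw [← Qf_comp, e.inv_hom_id, Qf_id]

theorem Qf_Qmap {J J' : Ideal A} (h : J ≤ J') {M N : X.Modules} (f : M ⟶ N) :
    Qf J f ≫ Qmap h N = Qmap h M ≫ Qf J' f := by
  rw [← cancel_epi (πQ J M), πQ_Qf_assoc, πQ_Qmap, πQ_Qmap_assoc, πQ_Qf]

end Qf

section Step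

variable {A A' : Type u} [CommRing A] [CommRing A'] (φ : A →+* A')
  {X X' : Scheme.{u}} [X.Over (Spec (CommRingCat.of A))] [X'.Over (Spec (CommRingCat.of A))]
  (i : X ⟶ X') (z : X ⟶ Spec (CommRingCat.of A'))
  (hsq : IsPullback i z (X' ↘ Spec (CommRingCat.of A)) (Spec.map (CommRingCat.ofHom φ)))
  (hφ : Function.Surjective φ)

include hsq hφ in
/-- the unit `N ⟶ i_* i^* N` is an isomorphism for quasi-coherent `N` killed by `ker φ`. -/
theorem isIso_unit_of_killed (N : X'.Modules) [N.IsQuasicoherent]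
    (hN : Formal.KilledBy (RingHom.ker φ) N) :
    IsIso ((Scheme.Modules.pullbackPushforwardAdjunction i).unit.app N) := by
  rw [← πQ_quotMap φ i z hsq N]
  haveI := isIso_πQ_of_killed (RingHom.ker φ) N hN
  haveI := isIso_quotMap φ i z hsq N hφ
  infer_instance

include hsq hφ in
/-- `i^*` preserves monomorphisms between quasi-coherent modules killed by `ker φ`. -/
theorem mono_pullback_map {N₁ N₂ : X'.Modules} (f : N₁ ⟶ N₂) [Mono f] [N₁.IsQuasicoherent]
    [N₂.IsQuasicoherent] (h₁ : Formal.KilledBy (RingHom.ker φ) N₁)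
    (h₂ : Formal.KilledBy (RingHom.ker φ) N₂) : Mono ((Scheme.Modules.pullback i).map f) := by
  haveI := isClosedImmersion_of_surjective φ i z hsq hφ
  haveI : (Scheme.Modules.pushforward i).Faithful :=
    Groth.Agent.Lib.Helper27ClosedTransfer.faithful_pushforward i
  haveI := isIso_unit_of_killed φ i z hsq hφ N₁ h₁
  haveI := isIso_unit_of_killed φ i z hsq hφ N₂ h₂
  refine (Scheme.Modules.pushforward i).mono_of_mono_map ?_
  have nat := (Scheme.Modules.pullbackPushforwardAdjunction i).unit.naturality f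
  have e : (Scheme.Modules.pushforward i).map ((Scheme.Modules.pullback i).map f) =
      inv ((Scheme.Modules.pullbackPushforwardAdjunction i).unit.app N₁) ≫ f ≫
        (Scheme.Modules.pullbackPushforwardAdjunction i).unit.app N₂ := by
    rw [IsIso.eq_inv_comp]
    exact nat.symm
  rw [e]
  infer_instance

variable (hi : i ≫ (X' ↘ Spec (CommRingCat.of A)) = X ↘ Spec (CommRingCat.of A))
  [IsNoetherianRing A] (J : Ideal A) (M' : X'.Modules) (M : X.Modules)
  (ψ : (Scheme.Modules.pullback i).obj M' ≅ M)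

/-- `i^* (M'/J'M') ≅ M/J'M`. -/
noncomputable def θQ (J' : Ideal A) :
    (Scheme.Modules.pullback i).obj (Q J' M') ≅ Q J' M :=
  haveI : IsIso (Qcomp (Scheme.Modules.pullback i)
      (Groth.Agent.Lib.Helper20.FormalPull.pullback_map_smulMod i hi) J' M') := by
    obtain ⟨s, c, hc⟩ := Submodule.fg_iff_exists_fin_generating_family.1
      ((isNoetherianRing_iff_ideal_fg A).1 inferInstance J')
    exact isIso_Qcomp _ _ c J' hc.symm M'
  (asIso (Qcomp (Scheme.Modules.pullback i)
    (Groth.Agent.Lib.Helper20.FormalPull.pullback_map_smulMod i hi) J' M')).symm ≪≫ QfIso J' ψ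

theorem map_πQ_θQ (J' : Ideal A) :
    (Scheme.Modules.pullback i).map (πQ J' M') ≫ (θQ i hi M' M ψ J').hom =
      ψ.hom ≫ πQ J' M := by
  unfold θQ
  simp only [Iso.trans_hom, Iso.symm_hom, asIso_inv, QfIso]
  rw [← πQ_Qcomp (Scheme.Modules.pullback i)
    (Groth.Agent.Lib.Helper20.FormalPull.pullback_map_smulMod i hi) J' M', Category.assoc,
    IsIso.hom_inv_id_assoc, πQ_Qf]

theorem θQ_Qmap {J₁ J₂ : Ideal A} (h : J₁ ≤ J₂) :
    (Scheme.Modules.pullback i).map (Qmap h M') ≫ (θQ i hi M' M ψ J₂).hom =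
      (θQ i hi M' M ψ J₁).hom ≫ Qmap h M := by
  haveI : Epi ((Scheme.Modules.pullback i).map (πQ J₁ M')) :=
    (Scheme.Modules.pullback i).map_epi _
  rw [← cancel_epi ((Scheme.Modules.pullback i).map (πQ J₁ M')), ← Functor.map_comp_assoc,
    πQ_Qmap, map_πQ_θQ, reassoc_of% (map_πQ_θQ i hi M' M ψ J₁), πQ_Qmap]

/-- the levelwise isomorphisms `i^* (M'/J^(n+1)M') ≅ M/J^(n+1)M`. -/
noncomputable def θ (n : ℕ) :
    (Scheme.Modules.pullback i).obj ((Formal.completion J M').obj (op n)) ≅
      (Formal.completion J M).obj (op n) :=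
  θQ i hi M' M ψ (J ^ (n + 1))

theorem hθ (n : ℕ) :
    (Scheme.Modules.pullback i).map (tr (Formal.completion J M') n) ≫ (θ i hi J M' M ψ n).hom =
      (θ i hi J M' M ψ (n + 1)).hom ≫ tr (Formal.completion J M) n := by
  rw [tr_completion, tr_completion, modPowTrans_eq_Qmap, modPowTrans_eq_Qmap]
  exact θQ_Qmap i hi M' M ψ _

/-- the comparison `i^* K_n(M') ⟶ K_n(M)`. -/
noncomputable def γstep (n : ℕ) :
    (Scheme.Modules.pullback i).obj (K (Formal.completion J M') n) ⟶
      K (Formal.completion J M) n :=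
  γ (Scheme.Modules.pullback i) (θ i hi J M' M ψ) (hθ i hi J M' M ψ) n

theorem γstep_T (n : ℕ) (a : A) (ha : a ∈ J) :
    (Scheme.Modules.pullback i).map (T (hyp_completion J M') n a ha) ≫
        γstep i hi J M' M ψ (n + 1) =
      γstep i hi J M' M ψ n ≫ T (hyp_completion J M) n a ha :=
  γ_T (Scheme.Modules.pullback i)
    (Groth.Agent.Lib.Helper20.FormalPull.pullback_map_smulMod i hi)
    (hyp_completion J M') (hyp_completion J M) _ _ n a ha

include hsq hφ in
/-- the comparison is an isomorphism in degrees `n` with `ker φ ≤ J^(n+2)`. -/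
theorem isIso_γstep (hM' : Coh.IsCoh M') (n : ℕ) (hker : RingHom.ker φ ≤ J ^ (n + 2)) :
    IsIso (γstep i hi J M' M ψ n) := by
  have hH := hyp_completion J M'
  have hq : ∀ m, ((Formal.completion J M').obj (op m)).IsQuasicoherent := fun m =>
    (isCoh_quot (J ^ (m + 1)) M' hM').1
  haveI := hq (n + 1)
  haveI := hq n
  haveI : (K (Formal.completion J M') n).IsQuasicoherent :=
    Groth.Agent.Lib.Helper23.QCohLocal.isQuasicoherent_kernel _
  have hk1 : Formal.KilledBy (RingHom.ker φ) (K (Formal.completion J M') n) :=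
    killedBy_mono (hker.trans (Ideal.pow_le_self (by omega))) (killedBy_K hH n)
  have hk2 : Formal.KilledBy (RingHom.ker φ) ((Formal.completion J M').obj (op (n + 1))) :=
    killedBy_mono hker (hH.killed (n + 1))
  have hm : Mono ((Scheme.Modules.pullback i).map (Kι (Formal.completion J M') n)) :=
    mono_pullback_map φ i z hsq hφ _ hk1 hk2
  exact isIso_γ (Scheme.Modules.pullback i)
    (Groth.Agent.Lib.Helper20.FormalPull.pullback_map_smulMod i hi)
    (hyp_completion J M') (hyp_completion J M) _ _ n hm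

end Step

end Groth.Agent.Lib.Helper27TowerStep
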