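import Mathlib
import Groth.Agent.S0055
import Groth.Agent.S10869
import Groth.Agent.Lib.Helper1RpushCl
import Groth.Agent.Lib.Helper27ProjFormula
import Groth.Agent.Lib.Helper17ProjFormulaD
import Groth.Agent.Lib.Helper23PB
import Groth.Agent.Lib.Helper23ModAbBridge

/-!
# Helper27: relative Serre vanishing for coherent modules with proper support.

`exists_isZero_Rpush_twist_of_proper_support` : `f` of finite type over a Noetherian base, `L`
relatively ample, `K` coherent with support proper over the base; then `R^1 f_*(K ⊗ L^n) = 0` for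
`n` large.
-/

set_option autoImplicit false
set_option backward.isDefEq.respectTransparency.types false
universe u
open CategoryTheory CategoryTheory.Limits AlgebraicGeometry TopologicalSpace Opposite

namespace Groth.Agent.Lib.Helper27TwistExactA

local instance (X : Scheme.{u}) : EnoughInjectives X.Modules :=
  Groth.Agent.Lib.Helper17.QCPush.enoughInjectives X

/-- the pullback of a relatively ample module along a closed immersion is relatively ample. -/
theorem isAmple_restrict_pullback_closedImmersion {Z X Y : Scheme.{u}} (i : Z ⟶ X)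
    [IsClosedImmersion i] (f : X ⟶ Y) (L : X.Modules) (W : Y.Opens)
    (hamp : CohB1.IsAmple (L.restrict (f ⁻¹ᵁ W).ι)) :
    CohB1.IsAmple (((Scheme.Modules.pullback i).obj L).restrict ((i ≫ f) ⁻¹ᵁ W).ι) := by
  haveI : IsAffineHom (i ∣_ (f ⁻¹ᵁ W)) := inferInstance
  have h1 := Groth.Agent.Lib.Helper23.PB.isAmple_pullback_of_isAffineHom (i ∣_ (f ⁻¹ᵁ W)) _ hamp
  exact Groth.Agent.Lib.Helper23.AmpleIso.isAmple_of_iso
    (Groth.Agent.S10869.restrictPullbackIso i (f ⁻¹ᵁ W) L).symm h1

/-- relative Serre vanishing (in degree one) for a coherent module with proper support. -/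
theorem exists_isZero_Rpush_twist_of_proper_support {X Y : Scheme.{u}} (f : X ⟶ Y)
    [IsNoetherian Y] [LocallyOfFiniteType f] [QuasiCompact f] (L : X.Modules)
    (hL : PicF.IsInvertible L) (hamp : RelAmple.IsRelAmple f L) (K : X.Modules) (hK : Coh.IsCoh K)
    (hs : ClSub.IsProperOver f (CohB1.support K)) :
    ∃ N : ℕ, ∀ n : ℕ, N ≤ n →
      IsZero ((Coh.Rpush f 1).obj (CohB1.tensorMod K (CohB1.tensorPow L n))) := by
  haveI : IsLocallyNoetherian X := LocallyOfFiniteType.isLocallyNoetherian f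
  haveI : K.IsQuasicoherent := hK.1
  obtain ⟨J, hJ, -, -, hsupp⟩ := Groth.Agent.Helper18Ann.main_S9377 K hK.2
  have hk : ClSub.KilledByIdeal J.subschemeι.ker K := by
    intro U a ha m
    rw [Scheme.IdealSheafData.ker_subschemeι, hJ U] at ha
    exact Module.mem_annihilator.1 ha m
  obtain ⟨G, hG, ⟨e⟩⟩ := Groth.Agent.S0786.result J.subschemeι K hK hk
  have hrange : Set.range J.subschemeι = CohB1.support K := by
    rw [Scheme.IdealSheafData.range_subschemeι, hsupp]
  haveI : IsProper (J.subschemeι ≫ f) :=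
    (Groth.Agent.Lib.Helper1.isProperOver_iff_isProper_comp f J.subschemeι _ hrange).1 hs
  -- the pulled back module
  have hLZ : PicF.IsInvertible ((Scheme.Modules.pullback J.subschemeι).obj L) :=
    Groth.Agent.Lib.Helper23.PB.isInvertible_pullback J.subschemeι L hL
  obtain ⟨n₀, hn₀⟩ := Groth.Agent.S0055.result (J.subschemeι ≫ f)
    ((Scheme.Modules.pullback J.subschemeι).obj L) hLZ
    (fun W hW => isAmple_restrict_pullback_closedImmersion J.subschemeι f L W (hamp.2 ⟨W, hW⟩))
    G hG
  refine ⟨n₀, fun n hn => ?_⟩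
  have h0 := hn₀ n hn 1 one_pos
  obtain ⟨e1⟩ := Groth.Agent.Lib.Helper23.ModAbBridge.nonempty_toAb_Rpush_iso (J.subschemeι ≫ f)
    (CohB1.tensorMod G (CohB1.tensorPow ((Scheme.Modules.pullback J.subschemeι).obj L) n)) 1
  have h1 : IsZero ((Coh.Rpush (J.subschemeι ≫ f) 1).obj
      (CohB1.tensorMod G (CohB1.tensorPow ((Scheme.Modules.pullback J.subschemeι).obj L) n))) :=
    Groth.Agent.Lib.Helper21.RelExtSS.isZero_of_isZero_toAb _ (IsZero.of_iso h0 e1)
  obtain ⟨e2⟩ := Groth.Agent.Lib.Helper1.RpushCl.nonempty_Rpush_push_iso J.subschemeι f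
    (CohB1.tensorMod G (CohB1.tensorPow ((Scheme.Modules.pullback J.subschemeι).obj L) n)) 1
  -- projection formula
  have hLn : PicF.IsInvertible (CohB1.tensorPow L n) :=
    Groth.Agent.Lib.Helper23.SecTw.isInvertible_tensorPow hL n
  obtain ⟨Linv, -, ⟨ε⟩, ⟨ε'⟩⟩ :=
    Groth.Agent.Lib.Helper17.ProjFormulaD.nonempty_inverse (CohB1.tensorPow L n) hLn
  let Θ₃ := Groth.Agent.Lib.Helper27ProjFormula.projIsoR J.subschemeι (CohB1.tensorPow L n) Linv ε ε' G
  obtain ⟨Θ₄⟩ := Groth.Agent.Lib.Helper23.PB.nonempty_pullback_tensorPow_iso J.subschemeι L hL n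
  let Ψ : (Scheme.Modules.pushforward J.subschemeι).obj
        (CohB1.tensorMod G (CohB1.tensorPow ((Scheme.Modules.pullback J.subschemeι).obj L) n)) ≅
      CohB1.tensorMod K (CohB1.tensorPow L n) :=
    (Scheme.Modules.pushforward J.subschemeι).mapIso (PicGrp.tensorModIso (Iso.refl _) Θ₄.symm) ≪≫
      Θ₃ ≪≫ PicGrp.tensorModIso e (Iso.refl _)
  exact IsZero.of_iso h1 ((Coh.Rpush f 1).mapIso Ψ.symm ≪≫ e2.symm)

end Groth.Agent.Lib.Helper27TwistExactA
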