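import Mathlib
import Groth.Agent.Lib.Helper27TwistExactA
import Groth.Agent.Lib.Helper17DS3
import Groth.Agent.Lib.Helper17FFaith7
import Groth.Agent.Lib.Helper27CMReg
import Groth.Agent.Lib.Helper4DevD
import Groth.Agent.Lib.Helper4DevE

/-!
# Helper27: eventually exact twisted direct images (proper supports).
-/

set_option autoImplicit false
set_option backward.isDefEq.respectTransparency.types false
universe v u v' u'
open CategoryTheory CategoryTheory.Limits AlgebraicGeometry TopologicalSpace Opposite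

namespace Groth.Agent.Lib.Helper27TwistExactB

section abstract

variable {C : Type u} [Category.{v} C] [Abelian C] [HasInjectiveResolutions C] [EnoughInjectives C]
  {D : Type u'} [Category.{v'} D] [Abelian D] (F : C ⥤ D) [F.Additive] [PreservesFiniteLimits F]

/-- a left exact functor sends an exact complex `A ⟶ B ⟶ C` to an exact complex as soon as `R¹F`
kills the kernel of `A ⟶ im`. -/
theorem exact_map_of_ses (S : ShortComplex C) {K I : C} (k : K ⟶ S.X₁) (π : S.X₁ ⟶ I) (ι : I ⟶ S.X₂)
    (hπι : π ≫ ι = S.f) (hk : k ≫ π = 0) (hses : (ShortComplex.mk k π hk).ShortExact)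
    (hι : ι ≫ S.g = 0) (hker : (ShortComplex.mk ι S.g hι).Exact) (hm : Mono ι)
    (h : IsZero ((F.rightDerived 1).obj K)) : (S.map F).Exact := by
  haveI := hm
  haveI : Epi (F.map π) := Groth.Agent.Lib.Helper17.DS.epi_map_g F (ShortComplex.mk k π hk) hses h
  have hD : ((ShortComplex.mk ι S.g hι).map F).Exact :=
    hker.map_of_mono_of_preservesKernel F inferInstance inferInstance
  let φ : S.map F ⟶ (ShortComplex.mk ι S.g hι).map F :=
    { τ₁ := F.map π
      τ₂ := 𝟙 _
      τ₃ := 𝟙 _
      comm₁₂ := by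
        change F.map π ≫ F.map ι = F.map S.f ≫ 𝟙 _
        rw [← F.map_comp, hπι, Category.comp_id]
      comm₂₃ := by
        change 𝟙 _ ≫ F.map S.g = F.map S.g ≫ 𝟙 _
        rw [Category.id_comp, Category.comp_id] }
  haveI : Epi φ.τ₁ := inferInstanceAs (Epi (F.map π))
  haveI : IsIso φ.τ₂ := inferInstanceAs (IsIso (𝟙 _))
  haveI : Mono φ.τ₃ := inferInstanceAs (Mono (𝟙 _))
  exact (ShortComplex.exact_iff_of_epi_of_isIso_of_mono φ).2 hD

end abstract

local instance (X : Scheme.{u}) : EnoughInjectives X.Modules :=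
  Groth.Agent.Lib.Helper17.QCPush.enoughInjectives X

/-- twisted direct images of an exact complex of coherent modules with proper supports are
eventually exact. -/
theorem exists_exact_map_twist_push {X Y : Scheme.{u}} (f : X ⟶ Y)
    [IsNoetherian Y] [LocallyOfFiniteType f] [QuasiCompact f] (L : X.Modules)
    (hL : PicF.IsInvertible L) (hamp : RelAmple.IsRelAmple f L) (C : ShortComplex X.Modules)
    (hC : C.Exact) (h1 : Coh.IsCoh C.X₁) (h2 : Coh.IsCoh C.X₂) (h3 : Coh.IsCoh C.X₃)
    (hs1 : ClSub.IsProperOver f (CohB1.support C.X₁)) :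
    ∃ N : ℕ, ∀ n : ℕ, N ≤ n →
      (C.map (DCoh.tensorRightMod (CohB1.tensorPow L n) ⋙ Coh.push f)).Exact := by
  haveI : IsLocallyNoetherian X := LocallyOfFiniteType.isLocallyNoetherian f
  -- the factorisation of `C.f` through the kernel of `C.g`
  let π₀ : C.X₁ ⟶ kernel C.g := kernel.lift C.g C.f C.zero
  haveI : Epi π₀ := (ShortComplex.exact_iff_epi_kernel_lift C).1 hC
  have hcoh_ker : Coh.IsCoh (kernel C.g) := Groth.Agent.Lib.Helper4.Dev.isCoh_kernel C.g h2 h3
  have hcohK : Coh.IsCoh (kernel π₀) := Groth.Agent.Lib.Helper4.Dev.isCoh_kernel π₀ h1 hcoh_ker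
  have hsK : ClSub.IsProperOver f (CohB1.support (kernel π₀)) :=
    Groth.Agent.Lib.Helper17.FFaith.isProperOver_of_subset f hs1
      (Groth.Agent.Lib.Helper4.Dev.isClosed_support _ hcohK)
      (Groth.Agent.Lib.Helper4.Dev.support_subset_of_mono (kernel.ι π₀))
  obtain ⟨N, hN⟩ := Groth.Agent.Lib.Helper27TwistExactA.exists_isZero_Rpush_twist_of_proper_support
    f L hL hamp (kernel π₀) hcohK hsK
  refine ⟨N, fun n hn => ?_⟩
  have hflat := Groth.Agent.Lib.Helper27CMReg.isFlat_of_isInvertible (CohB1.tensorPow L n)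
    (Groth.Agent.Lib.Helper23.SecTw.isInvertible_tensorPow hL n)
  haveI : PreservesFiniteLimits (DCoh.tensorRightMod (CohB1.tensorPow L n)) := hflat.1
  haveI : PreservesFiniteColimits (DCoh.tensorRightMod (CohB1.tensorPow L n)) := hflat.2
  haveI : PreservesFiniteLimits (Coh.push f) := by
    haveI := (Scheme.Modules.pullbackPushforwardAdjunction f).rightAdjoint_preservesLimits
    exact PreservesLimitsOfSize.preservesFiniteLimits.{0, 0} _
  -- the short exact sequence `0 ⟶ ker π₀ ⟶ C.X₁ ⟶ ker C.g ⟶ 0`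
  have hS₀ : (ShortComplex.mk (kernel.ι π₀) π₀ (kernel.condition π₀)).ShortExact :=
    { exact := ShortComplex.exact_kernel π₀
      mono_f := inferInstanceAs (Mono (kernel.ι π₀))
      epi_g := inferInstanceAs (Epi π₀) }
  have hS₀' := hS₀.map_of_exact (DCoh.tensorRightMod (CohB1.tensorPow L n))
  have hD₀ : (ShortComplex.mk (kernel.ι C.g) C.g (kernel.condition C.g)).Exact :=
    ShortComplex.exact_kernel C.g
  have hD₀' := hD₀.map (DCoh.tensorRightMod (CohB1.tensorPow L n))
  haveI : (DCoh.tensorRightMod (CohB1.tensorPow L n)).PreservesMonomorphisms :=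
    CategoryTheory.preservesMonomorphisms_of_preservesLimitsOfShape _
  haveI hmono : Mono ((DCoh.tensorRightMod (CohB1.tensorPow L n)).map (kernel.ι C.g)) :=
    Functor.map_mono _ _
  have e1 : (DCoh.tensorRightMod (CohB1.tensorPow L n)).map π₀ ≫
      (DCoh.tensorRightMod (CohB1.tensorPow L n)).map (kernel.ι C.g) =
      (DCoh.tensorRightMod (CohB1.tensorPow L n)).map C.f := by
    rw [← Functor.map_comp, kernel.lift_ι]
  have e2 : (DCoh.tensorRightMod (CohB1.tensorPow L n)).map (kernel.ι π₀) ≫
      (DCoh.tensorRightMod (CohB1.tensorPow L n)).map π₀ = 0 := by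
    rw [← Functor.map_comp, kernel.condition, Functor.map_zero]
  have e3 : (DCoh.tensorRightMod (CohB1.tensorPow L n)).map (kernel.ι C.g) ≫
      (DCoh.tensorRightMod (CohB1.tensorPow L n)).map C.g = 0 := by
    rw [← Functor.map_comp, kernel.condition, Functor.map_zero]
  have key := exact_map_of_ses (Coh.push f)
    (C.map (DCoh.tensorRightMod (CohB1.tensorPow L n)))
    ((DCoh.tensorRightMod (CohB1.tensorPow L n)).map (kernel.ι π₀))
    ((DCoh.tensorRightMod (CohB1.tensorPow L n)).map π₀)
    ((DCoh.tensorRightMod (CohB1.tensorPow L n)).map (kernel.ι C.g))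
    e1 e2 hS₀' e3 hD₀' hmono (hN n hn)
  exact key

end Groth.Agent.Lib.Helper27TwistExactB
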