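import Groth.Agent.Lib.Helper27ProjLcmCover
import Groth.Agent.Lib.Helper27GrTildeSect4
import Groth.Agent.Lib.Helper27GrTildeBridge2
import Groth.Agent.Lib.Helper23FinType2

/-!
# The twisting sheaves `O(n)` on `Proj` of a Noetherian graded ring are of finite type (helper27)
-/

set_option autoImplicit false
universe u

open CategoryTheory CategoryTheory.Limits AlgebraicGeometry TopologicalSpace Opposite
  HomogeneousLocalization

namespace Groth.Agent.Lib.Helper27TwistFT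

open Groth.Agent.Lib.Helper27GrTildeSect Groth.Agent.Lib.Helper27ProjLcmCover

variable {R A : Type u} [CommRing R] [CommRing A] [Algebra R A] (𝒜 : ℕ → Submodule R A)
  [GradedAlgebra 𝒜]

variable {𝒜} in
theorem pow_mem_mul {g : A} {d : ℕ} (hg : g ∈ 𝒜 d) (k : ℕ) : g ^ k ∈ 𝒜 (k * d) := by
  have := SetLike.pow_mem_graded k hg
  simpa [smul_eq_mul] using this

variable {𝒜} in
theorem pow_not_mem_of_mem_basicOpen {g : A} (k : ℕ) (y : ProjectiveSpectrum 𝒜)
    (hy : y ∈ Proj.basicOpen 𝒜 g) : g ^ k ∉ y.asHomogeneousIdeal :=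
  fun h => (ProjectiveSpectrum.mem_basicOpen 𝒜 g y).mp hy (y.isPrime.mem_of_pow_mem k h)

variable (n : ℤ)

/-- the section `a / g^k` of `O(n)` over `D₊(g)`. -/
noncomputable def frN {g : A} {d : ℕ} (hg : g ∈ 𝒜 d) (k i : ℕ) (hik : (i : ℤ) = ((k * d : ℕ) : ℤ) + n)
    (a : 𝒜 i) : Γ(GrTilde.tilde 𝒜 𝒜 n, Proj.basicOpen 𝒜 g) :=
  fracSec 𝒜 n (Proj.basicOpen 𝒜 g) a.2 (pow_mem_mul hg k) hik
    (fun y => pow_not_mem_of_mem_basicOpen k y.1 y.2)

theorem secVal_frN {g : A} {d : ℕ} (hg : g ∈ 𝒜 d) (k i : ℕ)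
    (hik : (i : ℤ) = ((k * d : ℕ) : ℤ) + n) (a : 𝒜 i) (y : ProjectiveSpectrum 𝒜)
    (hy : y ∈ Proj.basicOpen 𝒜 g) :
    secVal 𝒜 𝒜 n _ (frN 𝒜 n hg k i hik a) y hy =
      (Localization.mk (a : A) (⟨g ^ k, pow_not_mem_of_mem_basicOpen k y hy⟩ :
        y.asHomogeneousIdeal.toIdeal.primeCompl) : Twist.Loc 𝒜 y) := rfl

theorem secVal_add_n (W : (Proj 𝒜).Opens) (s t : Γ(GrTilde.tilde 𝒜 𝒜 n, W))
    (y : ProjectiveSpectrum 𝒜) (hy : y ∈ W) :
    secVal 𝒜 𝒜 n W (s + t) y hy = secVal 𝒜 𝒜 n W s y hy + secVal 𝒜 𝒜 n W t y hy := rfl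

theorem frN_add {g : A} {d : ℕ} (hg : g ∈ 𝒜 d) (k i : ℕ)
    (hik : (i : ℤ) = ((k * d : ℕ) : ℤ) + n) (a b : 𝒜 i) :
    frN 𝒜 n hg k i hik (a + b) = frN 𝒜 n hg k i hik a + frN 𝒜 n hg k i hik b := by
  apply sec_ext
  intro y hy
  rw [secVal_add_n, secVal_frN, secVal_frN, secVal_frN]
  change (Localization.mk ((a : A) + (b : A)) _ : Localization _) =
    Localization.mk (a : A) _ + Localization.mk (b : A) _
  rw [Localization.add_mk_self]

/-- `a ↦ a / g^k` as an additive map. -/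
noncomputable def frNHom {g : A} {d : ℕ} (hg : g ∈ 𝒜 d) (k i : ℕ)
    (hik : (i : ℤ) = ((k * d : ℕ) : ℤ) + n) :
    𝒜 i →+ Γ(GrTilde.tilde 𝒜 𝒜 n, Proj.basicOpen 𝒜 g) :=
  AddMonoidHom.mk' (frN 𝒜 n hg k i hik) (frN_add 𝒜 n hg k i hik)

/-- `(c / g^j) • (t / g^k) = (c t) / g^(j+k)`. -/
theorem smul_frN {g : A} {d : ℕ} (hg : g ∈ 𝒜 d) (j k i i' : ℕ)
    (hik : (i : ℤ) = ((k * d : ℕ) : ℤ) + n) (hik' : (i' : ℤ) = (((j + k) * d : ℕ) : ℤ) + n)
    (c : A) (hc : c ∈ 𝒜 (j • d)) (t : 𝒜 i) (b : 𝒜 i') (hb : (b : A) = c * t) :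
    ((Proj.awayToSection 𝒜 g).hom (Away.mk 𝒜 hg j c hc)) • frN 𝒜 n hg k i hik t =
      frN 𝒜 n hg (j + k) i' hik' b := by
  apply sec_ext
  intro y hy
  rw [secVal_smul, funVal_awayToSection_val hg j c hc y hy, secVal_frN, secVal_frN, hb]
  change (Localization.mk c _ : Localization _) * Localization.mk (t : A) _ = Localization.mk _ _
  rw [Localization.mk_mul]
  congr 1
  apply Subtype.ext
  exact (pow_add g j k).symm

/-- the sections of `O(n)` over `D₊(g)` form a finite module. -/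
theorem finite_sections_twist_basicOpen [IsNoetherianRing A] {g : A} {d : ℕ} (hd : 0 < d)
    (hg : g ∈ 𝒜 d) :
    Module.Finite Γ(Proj 𝒜, Proj.basicOpen 𝒜 g) Γ(GrTilde.tilde 𝒜 𝒜 n, Proj.basicOpen 𝒜 g) := by
  classical
  let Sgen : Set A := {a : A | ∃ k i : ℕ, (i : ℤ) = ((k * d : ℕ) : ℤ) + n ∧ a ∈ 𝒜 i}
  have hfg : (Submodule.span A Sgen).FG := IsNoetherian.noetherian _
  obtain ⟨T, hTsub, hT⟩ := (Submodule.fg_span_iff_fg_span_finset_subset _).1 hfg
  have hTS : ∀ t ∈ T, ∃ k i : ℕ, (i : ℤ) = ((k * d : ℕ) : ℤ) + n ∧ t ∈ 𝒜 i :=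
    fun t ht => hTsub ht
  choose! kt it hit htmem using hTS
  let gen : {t // t ∈ T} → Γ(GrTilde.tilde 𝒜 𝒜 n, Proj.basicOpen 𝒜 g) :=
    fun t => frN 𝒜 n hg (kt t.1) (it t.1) (hit t.1 t.2) ⟨t.1, htmem t.1 t.2⟩
  let Q : Submodule Γ(Proj 𝒜, Proj.basicOpen 𝒜 g)
      Γ(GrTilde.tilde 𝒜 𝒜 n, Proj.basicOpen 𝒜 g) := Submodule.span _ (Set.range gen)
  have hQfg : Q.FG := Submodule.fg_span (Set.finite_range gen)
  have hall : ∀ (k i : ℕ) (hik : (i : ℤ) = ((k * d : ℕ) : ℤ) + n) (a : 𝒜 i),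
      frN 𝒜 n hg k i hik a ∈ Q := by
    intro k i hik a
    have ha1 : (a : A) ∈ Submodule.span A Sgen := Submodule.subset_span ⟨k, i, hik, a.2⟩
    rw [hT] at ha1
    obtain ⟨c, -, hc⟩ := Submodule.mem_span_finset.1 ha1
    -- the degree `i` components
    have hsum : a = ∑ t ∈ T, DirectSum.decompose 𝒜 (c t • t) i := by
      apply Subtype.ext
      have h1 : ((DirectSum.decompose 𝒜 (a : A)) i : A) = a := DirectSum.decompose_of_mem_same _ a.2
      rw [← h1, ← hc, DirectSum.decompose_sum, DFinsupp.finset_sum_apply]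
    have h2 : frN 𝒜 n hg k i hik a =
        ∑ t ∈ T, frN 𝒜 n hg k i hik (DirectSum.decompose 𝒜 (c t • t) i) := by
      have := congrArg (frNHom 𝒜 n hg k i hik) hsum
      rw [map_sum] at this
      exact this
    rw [h2]
    refine Submodule.sum_mem _ (fun t ht => ?_)
    by_cases hle : it t ≤ i
    · -- `k t ≤ k`
      have hkk : kt t ≤ k := by
        have h3 := hit t ht
        by_contra hcon
        push Not at hcon
        have : (k * d : ℕ) + d ≤ kt t * d := by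
          calc k * d + d = (k + 1) * d := by ring
            _ ≤ kt t * d := Nat.mul_le_mul_right d hcon
        have h4 : ((k * d : ℕ) : ℤ) + d ≤ ((kt t * d : ℕ) : ℤ) := by exact_mod_cast this
        have h5 : (it t : ℤ) ≤ i := by exact_mod_cast hle
        have h6 : (0 : ℤ) < d := by exact_mod_cast hd
        omega
      have hdeg : i - it t = (k - kt t) • d := by
        have h3 := hit t ht
        have h5 : (it t : ℤ) ≤ i := by exact_mod_cast hle
        have h7 : ((k - kt t) * d : ℕ) + kt t * d = k * d := by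
          rw [← Nat.add_mul, Nat.sub_add_cancel hkk]
        have h8 : (((k - kt t) * d : ℕ) : ℤ) + ((kt t * d : ℕ) : ℤ) = ((k * d : ℕ) : ℤ) := by
          exact_mod_cast h7
        rw [smul_eq_mul]
        omega
      have hcmem : ((DirectSum.decompose 𝒜 (c t)) (i - it t) : A) ∈ 𝒜 ((k - kt t) • d) := by
        rw [← hdeg]
        exact SetLike.coe_mem _
      have hval : ((DirectSum.decompose 𝒜 (c t • t)) i : A) =
          ((DirectSum.decompose 𝒜 (c t)) (i - it t) : A) * t := by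
        rw [smul_eq_mul]
        exact DirectSum.coe_decompose_mul_of_right_mem_of_le 𝒜 (htmem t ht) hle
      have hk' : (i : ℤ) = ((((k - kt t) + kt t) * d : ℕ) : ℤ) + n := by
        rw [Nat.sub_add_cancel hkk]
        exact hik
      have h9 := smul_frN 𝒜 n hg (k - kt t) (kt t) (it t) i (hit t ht) hk'
        ((DirectSum.decompose 𝒜 (c t)) (i - it t) : A) hcmem ⟨t, htmem t ht⟩
        (DirectSum.decompose 𝒜 (c t • t) i) hval
      have h10 : frN 𝒜 n hg ((k - kt t) + kt t) i hk' (DirectSum.decompose 𝒜 (c t • t) i) =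
          frN 𝒜 n hg k i hik (DirectSum.decompose 𝒜 (c t • t) i) := by
        apply sec_ext
        intro y hy
        rw [secVal_frN, secVal_frN]
        congr 1
        apply Subtype.ext
        show g ^ ((k - kt t) + kt t) = g ^ k
        rw [Nat.sub_add_cancel hkk]
      rw [← h10, ← h9]
      exact Q.smul_mem _ (Submodule.subset_span ⟨⟨t, ht⟩, rfl⟩)
    · have hval : ((DirectSum.decompose 𝒜 (c t • t)) i : A) = 0 := by
        rw [smul_eq_mul]
        exact DirectSum.coe_decompose_mul_of_right_mem_of_not_le 𝒜 (htmem t ht) hle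
      have hz : DirectSum.decompose 𝒜 (c t • t) i = 0 := Subtype.ext hval
      rw [hz]
      have : frN 𝒜 n hg k i hik 0 = 0 := (frNHom 𝒜 n hg k i hik).map_zero
      rw [this]
      exact Q.zero_mem
  have htop : Q = ⊤ := by
    rw [eq_top_iff]
    intro σ _
    obtain ⟨k, i, m, hi, hval⟩ := exists_global (toSect 𝒜 𝒜 n _ σ) hd hg
    have hik : (i : ℤ) = ((k * d : ℕ) : ℤ) + n := by rw [hi]; push_cast; ring
    have hσ : σ = frN 𝒜 n hg k i hik m := by
      apply sec_ext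
      intro y hy
      rw [secVal_frN]
      exact hval ⟨y, hy⟩
    rw [hσ]
    exact hall k i hik m
  exact ⟨htop ▸ hQfg⟩

/-- the twisting sheaves on `Proj` of a Noetherian graded ring are of finite type. -/
theorem isFiniteType_twist [IsNoetherianRing A] :
    SheafOfModules.IsFiniteType (R := (Proj 𝒜).ringCatSheaf) (GrTilde.tilde 𝒜 𝒜 n) := by
  haveI := isQuasicoherent_tilde 𝒜 𝒜 n
  exact Groth.Agent.Lib.Helper23.FinType.isFiniteType_of_finite (GrTilde.tilde 𝒜 𝒜 n)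
    (fun i : PosIdx 𝒜 => Proj.basicOpen 𝒜 (i.2.1 : A)) (iSup_basicOpen_posIdx_eq_top 𝒜)
    (fun i => Proj.isAffineOpen_basicOpen 𝒜 _ i.2.2.2 i.2.2.1)
    (fun i => finite_sections_twist_basicOpen 𝒜 n i.2.2.1 i.2.2.2)

end Groth.Agent.Lib.Helper27TwistFT
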