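import Mathlib

/-!
# Ring maps with nil kernel generated by elements with `(T - x)^n` defined over the base
-/

set_option autoImplicit false
universe u

open Polynomial

namespace Groth.Agent.Lib.Helper27UnivHomeoGen

variable {R S : Type u} [CommRing R] [CommRing S] [Algebra R S]

/-- Generators `x` with `(T - x)^n` in the image of `R[T]` are integral. -/
theorem isIntegral_of_pow (x : S) (n : ℕ) (hn : 0 < n) (P : R[X])
    (hP : P.map (algebraMap R S) = (X - C x) ^ n) : IsIntegral R x := by
  rcases subsingleton_or_nontrivial S with hS | hS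
  · rw [Subsingleton.elim x 0]
    exact isIntegral_zero
  · have hmonic : ((X - C x) ^ n : S[X]).Monic := (monic_X_sub_C x).pow n
    have hlifts : ((X - C x) ^ n : S[X]) ∈ lifts (algebraMap R S) := by
      rw [mem_lifts]
      exact ⟨P, hP⟩
    obtain ⟨Q, hQ, -, hQm⟩ := lifts_and_degree_eq_and_monic hlifts hmonic
    refine ⟨Q, hQm, ?_⟩
    rw [← eval_map, hQ]
    simp [hn.ne']

/-- The core uniqueness: ring maps to a reduced ring agreeing on `R` agree. -/
theorem ringHom_ext_of_gen (G : Set S) (hG : Algebra.adjoin R G = ⊤)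
    (hpow : ∀ x ∈ G, ∃ (n : ℕ) (P : R[X]), 0 < n ∧
      P.map (algebraMap R S) = (X - C x) ^ n)
    {K : Type*} [CommRing K] [IsReduced K] (ψ ψ' : S →+* K)
    (h : ψ.comp (algebraMap R S) = ψ'.comp (algebraMap R S)) : ψ = ψ' := by
  have hgen : ∀ x ∈ G, ψ x = ψ' x := by
    intro x hx
    obtain ⟨n, P, hn, hP⟩ := hpow x hx
    have h1 : (P.map (algebraMap R S)).map ψ = (X - C (ψ x)) ^ n := by
      rw [hP]
      simp
    have h2 : (P.map (algebraMap R S)).map ψ' = (X - C (ψ' x)) ^ n := by
      rw [hP]
      simp
    rw [Polynomial.map_map] at h1 h2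
    rw [h] at h1
    have h3 : ((X - C (ψ x)) ^ n : K[X]) = (X - C (ψ' x)) ^ n := h1.symm.trans h2
    have h4 := congrArg (Polynomial.eval (ψ x)) h3
    simp only [eval_pow, eval_sub, eval_X, eval_C, sub_self] at h4
    rw [zero_pow hn.ne'] at h4
    have h5 : IsNilpotent (ψ x - ψ' x) := ⟨n, h4.symm⟩
    exact sub_eq_zero.mp h5.eq_zero
  let E : Subalgebra R S :=
    { (RingHom.eqLocus ψ ψ').toSubsemiring with
      algebraMap_mem' := fun r => by
        change ψ (algebraMap R S r) = ψ' (algebraMap R S r)
        exact RingHom.congr_fun h r }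
  have hE : Algebra.adjoin R G ≤ E := Algebra.adjoin_le (fun x hx => hgen x hx)
  rw [hG] at hE
  ext s
  exact hE (Algebra.mem_top : s ∈ (⊤ : Subalgebra R S))

section Main

open TensorProduct

variable (hker : ∀ r : R, algebraMap R S r = 0 → IsNilpotent r) (G : Set S)
  (hG : Algebra.adjoin R G = ⊤)
  (hpow : ∀ x ∈ G, ∃ (n : ℕ) (P : R[X]), 0 < n ∧
      P.map (algebraMap R S) = (X - C x) ^ n)

include hG hpow in
theorem algebra_isIntegral : Algebra.IsIntegral R S := by
  have h1 : G ⊆ (integralClosure R S : Set S) := fun x hx => by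
    obtain ⟨n, P, hn, hP⟩ := hpow x hx
    exact isIntegral_of_pow x n hn P hP
  have h2 : Algebra.adjoin R G ≤ integralClosure R S := Algebra.adjoin_le h1
  rw [hG] at h2
  exact ⟨fun s => h2 Algebra.mem_top⟩

include hG hpow in
theorem comap_injective : Function.Injective (PrimeSpectrum.comap (algebraMap R S)) := by
  intro q q' hqq'
  have hp' : (PrimeSpectrum.comap (algebraMap R S) q).asIdeal =
      q'.asIdeal.comap (algebraMap R S) := by
    rw [hqq']
    rfl
  let i := Ideal.ResidueField.map (PrimeSpectrum.comap (algebraMap R S) q).asIdeal q.asIdeal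
    (algebraMap R S) rfl
  let i' := Ideal.ResidueField.map (PrimeSpectrum.comap (algebraMap R S) q).asIdeal q'.asIdeal
    (algebraMap R S) hp'
  let _ : Algebra (PrimeSpectrum.comap (algebraMap R S) q).asIdeal.ResidueField
      q.asIdeal.ResidueField := i.toAlgebra
  let _ : Algebra (PrimeSpectrum.comap (algebraMap R S) q).asIdeal.ResidueField
      q'.asIdeal.ResidueField := i'.toAlgebra
  have hnt : Nontrivial (q.asIdeal.ResidueField ⊗[(PrimeSpectrum.comap (algebraMap R S)
      q).asIdeal.ResidueField] q'.asIdeal.ResidueField) :=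
    Algebra.TensorProduct.nontrivial_of_algebraMap_injective_of_flat_left _ _ _
      (RingHom.injective _)
  obtain ⟨m, hm⟩ := Ideal.exists_maximal (q.asIdeal.ResidueField ⊗[(PrimeSpectrum.comap
    (algebraMap R S) q).asIdeal.ResidueField] q'.asIdeal.ResidueField)
  let _ := Ideal.Quotient.field m
  let j : q.asIdeal.ResidueField →+* _ ⧸ m :=
    (Ideal.Quotient.mk m).comp (Algebra.TensorProduct.includeLeft (R := (PrimeSpectrum.comap
      (algebraMap R S) q).asIdeal.ResidueField) (S := (PrimeSpectrum.comap
      (algebraMap R S) q).asIdeal.ResidueField) (A := q.asIdeal.ResidueField)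
      (B := q'.asIdeal.ResidueField)).toRingHom
  let j' : q'.asIdeal.ResidueField →+* _ ⧸ m :=
    (Ideal.Quotient.mk m).comp (Algebra.TensorProduct.includeRight (R := (PrimeSpectrum.comap
      (algebraMap R S) q).asIdeal.ResidueField) (A := q.asIdeal.ResidueField)
      (B := q'.asIdeal.ResidueField)).toRingHom
  have hcomp : (j.comp (algebraMap S q.asIdeal.ResidueField)).comp (algebraMap R S) =
      (j'.comp (algebraMap S q'.asIdeal.ResidueField)).comp (algebraMap R S) := by
    ext r
    simp only [RingHom.comp_apply]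
    have e1 : algebraMap S q.asIdeal.ResidueField (algebraMap R S r) =
        i (algebraMap R _ r) := (Ideal.ResidueField.map_algebraMap _ _ _ _ r).symm
    have e2 : algebraMap S q'.asIdeal.ResidueField (algebraMap R S r) =
        i' (algebraMap R _ r) := (Ideal.ResidueField.map_algebraMap _ _ _ _ r).symm
    rw [e1, e2]
    change Ideal.Quotient.mk m (Algebra.TensorProduct.includeLeft (algebraMap _ _ _)) =
      Ideal.Quotient.mk m (Algebra.TensorProduct.includeRight (algebraMap _ _ _))
    rw [AlgHom.commutes, AlgHom.commutes]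
  have hψ := ringHom_ext_of_gen G hG hpow _ _ hcomp
  apply PrimeSpectrum.ext
  ext s
  have hj : Function.Injective j := j.injective
  have hj' : Function.Injective j' := j'.injective
  rw [← Ideal.algebraMap_residueField_eq_zero (I := q.asIdeal),
    ← Ideal.algebraMap_residueField_eq_zero (I := q'.asIdeal),
    ← map_eq_zero_iff j hj, ← map_eq_zero_iff j' hj']
  have := RingHom.congr_fun hψ s
  simp only [RingHom.comp_apply] at this
  rw [this]

include hG hpow in
theorem isPurelyInseparable (q : Ideal S) [q.IsPrime] (p : Ideal R) [p.IsPrime] [q.LiesOver p] :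
    @IsPurelyInseparable p.ResidueField q.ResidueField _ _
      (Ideal.ResidueField.mapₐ p q (Algebra.ofId R S) (q.over_def p)).toRingHom.toAlgebra := by
  let _ : Algebra p.ResidueField q.ResidueField :=
    (Ideal.ResidueField.mapₐ p q (Algebra.ofId R S) (q.over_def p)).toRingHom.toAlgebra
  have hne : Nonempty (q.ResidueField →+* AlgebraicClosure q.ResidueField) :=
    ⟨algebraMap _ _⟩
  apply IsPurelyInseparable.of_injective_comp_algebraMap _ _ (AlgebraicClosure q.ResidueField)
  intro f g hfg
  have hfg' : f.comp (algebraMap p.ResidueField q.ResidueField) =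
      g.comp (algebraMap p.ResidueField q.ResidueField) := hfg
  have h1 : (f.comp (algebraMap S q.ResidueField)).comp (algebraMap R S) =
      (g.comp (algebraMap S q.ResidueField)).comp (algebraMap R S) := by
    ext r
    simp only [RingHom.comp_apply]
    have e1 : algebraMap S q.ResidueField (algebraMap R S r) =
        algebraMap p.ResidueField q.ResidueField (algebraMap R p.ResidueField r) := by
      rw [RingHom.algebraMap_toAlgebra]
      exact (Ideal.ResidueField.map_algebraMap p q (algebraMap R S) (q.over_def p) r).symm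
    rw [e1]
    exact RingHom.congr_fun hfg' _
  have h2 := ringHom_ext_of_gen G hG hpow _ _ h1
  apply IsLocalization.ringHom_ext (nonZeroDivisors (S ⧸ q))
  apply Ideal.Quotient.ringHom_ext
  ext s
  exact RingHom.congr_fun h2 s

include hker hG hpow in
theorem main : IsHomeomorph (PrimeSpectrum.comap (algebraMap R S)) ∧
      ∀ (q : Ideal S) [q.IsPrime] (p : Ideal R) [p.IsPrime] [q.LiesOver p],
        @IsPurelyInseparable p.ResidueField q.ResidueField _ _
          (Ideal.ResidueField.mapₐ p q (Algebra.ofId R S) (q.over_def p)).toRingHom.toAlgebra := by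
  refine ⟨?_, fun q _ p _ _ => isPurelyInseparable G hG hpow q p⟩
  have hint : Algebra.IsIntegral R S := algebra_isIntegral G hG hpow
  rw [isHomeomorph_iff_continuous_isClosedMap_bijective]
  refine ⟨PrimeSpectrum.continuous_comap _, ?_, comap_injective G hG hpow, ?_⟩
  · exact PrimeSpectrum.isClosedMap_comap_of_isIntegral _ (algebraMap_isIntegral_iff.mpr hint)
  · intro p
    obtain ⟨Q, -, hQ, hQp⟩ := Ideal.exists_ideal_over_prime_of_isIntegral p.asIdeal
      (⊥ : Ideal S) (by
        intro r hr
        have h0 : algebraMap R S r = 0 := by simpa using hr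
        exact nilpotent_iff_mem_prime.mp (hker r h0) p.asIdeal p.isPrime)
    exact ⟨⟨Q, hQ⟩, PrimeSpectrum.ext hQp⟩

end Main

end Groth.Agent.Lib.Helper27UnivHomeoGen
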