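import Mathlib

/-!
# The Veronese isomorphism `Proj S ≅ Proj S^(d)`: ring level (helper27)
-/

set_option autoImplicit false
universe u

open HomogeneousLocalization

namespace Groth.Agent.Lib.Helper27Veronese

variable {R A B : Type u} [CommRing R] [CommRing A] [Algebra R A] {𝒜 : ℕ → Submodule R A}
  [GradedAlgebra 𝒜] [CommRing B] [Algebra R B] {ℬ : ℕ → Submodule R B} [GradedAlgebra ℬ]
  {d : ℕ} (φ : B →ₐ[R] A) (hdeg : ∀ n : ℕ, Submodule.map φ.toLinearMap (ℬ n) = 𝒜 (n * d))

include hdeg in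
theorem map_mem {n : ℕ} {b : B} (hb : b ∈ ℬ n) : φ b ∈ 𝒜 (n * d) :=
  (hdeg n).le (Submodule.mem_map_of_mem hb)

include hdeg in
theorem map_mem_smul {n k : ℕ} {b : B} (hb : b ∈ ℬ (k • n)) : φ b ∈ 𝒜 (k • (n * d)) := by
  have h1 := map_mem φ hdeg hb
  rwa [smul_eq_mul, mul_assoc] at h1

include hdeg in
theorem exists_of_mem {n : ℕ} {a : A} (ha : a ∈ 𝒜 (n * d)) : ∃ b ∈ ℬ n, φ b = a := by
  rw [← hdeg n] at ha
  obtain ⟨b, hb, rfl⟩ := ha
  exact ⟨b, hb, rfl⟩

/-- the map of localizations `B_x → A_y` for `φ x = y`. -/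
noncomputable def locMap {x : B} {y : A} (h : φ x = y) :
    Localization.Away x →+* Localization.Away y :=
  IsLocalization.Away.lift x (g := (algebraMap A (Localization.Away y)).comp (φ : B →+* A))
    (by
      rw [RingHom.comp_apply]
      change IsUnit (algebraMap A (Localization.Away y) (φ x))
      rw [h]
      exact IsLocalization.Away.algebraMap_isUnit y)

theorem locMap_mk {x : B} {y : A} (h : φ x = y) (b : B) (k : ℕ) :
    locMap φ h (Localization.mk b (⟨x ^ k, ⟨k, rfl⟩⟩ : Submonoid.powers x)) =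
      Localization.mk (φ b) (⟨y ^ k, ⟨k, rfl⟩⟩ : Submonoid.powers y) := by
  have hu : IsUnit (algebraMap A (Localization.Away y) (y ^ k)) := by
    rw [map_pow]
    exact (IsLocalization.Away.algebraMap_isUnit y).pow k
  apply hu.mul_left_injective
  change _ * _ = _ * _
  have h1 : Localization.mk (φ b) (⟨y ^ k, ⟨k, rfl⟩⟩ : Submonoid.powers y) *
      algebraMap A (Localization.Away y) (y ^ k) = algebraMap A (Localization.Away y) (φ b) := by
    rw [Localization.mk_eq_mk']
    exact IsLocalization.mk'_spec _ _ _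
  have h2 : Localization.mk b (⟨x ^ k, ⟨k, rfl⟩⟩ : Submonoid.powers x) *
      algebraMap B (Localization.Away x) (x ^ k) = algebraMap B (Localization.Away x) b := by
    rw [Localization.mk_eq_mk']
    exact IsLocalization.mk'_spec _ _ _
  have h3 := congrArg (locMap φ h) h2
  unfold locMap at h3 ⊢
  rw [map_mul, IsLocalization.Away.lift_eq, IsLocalization.Away.lift_eq, RingHom.comp_apply,
    RingHom.comp_apply] at h3
  rw [h1]
  have h4 : (φ : B →+* A) (x ^ k) = y ^ k := by
    rw [map_pow]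
    change φ x ^ k = _
    rw [h]
  rw [h4] at h3
  exact h3

include hdeg in
theorem locMap_val_mem {n : ℕ} {x : B} (hx : x ∈ ℬ n) {y : A} (h : φ x = y) (q : Away ℬ x) :
    locMap φ h q.val ∈ (algebraMap (Away 𝒜 y) (Localization.Away y)).range := by
  have hy : y ∈ 𝒜 (n * d) := h ▸ map_mem φ hdeg hx
  obtain ⟨k, b, hb, rfl⟩ := Away.mk_surjective ℬ hx q
  rw [Away.val_mk, locMap_mk]
  refine ⟨Away.mk 𝒜 hy k (φ b) (map_mem_smul φ hdeg hb), ?_⟩
  rw [HomogeneousLocalization.algebraMap_apply, Away.val_mk]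

/-- `A_(y)` as a subring of `A_y`. -/
noncomputable def rangeEquiv (y : A) :
    Away 𝒜 y ≃+* (algebraMap (Away 𝒜 y) (Localization.Away y)).range :=
  RingEquiv.ofBijective (algebraMap (Away 𝒜 y) (Localization.Away y)).rangeRestrict
    ⟨fun a b hab => HomogeneousLocalization.val_injective _ (congrArg Subtype.val hab),
      RingHom.rangeRestrict_surjective _⟩

theorem rangeEquiv_apply_coe (y : A) (q : Away 𝒜 y) :
    ((rangeEquiv (𝒜 := 𝒜) y q : (algebraMap (Away 𝒜 y) (Localization.Away y)).range) :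
      Localization.Away y) = q.val := rfl

/-- the Veronese map on degree-zero localizations `B_(x) → A_(y)` for `φ x = y`. -/
noncomputable def vmapTo {x : B} (hx : ∃ n : ℕ, x ∈ ℬ n) {y : A} (h : φ x = y) :
    Away ℬ x →+* Away 𝒜 y :=
  (rangeEquiv (𝒜 := 𝒜) y).symm.toRingHom.comp
    (RingHom.codRestrict ((locMap φ h).comp (algebraMap (Away ℬ x) (Localization.Away x)))
      (algebraMap (Away 𝒜 y) (Localization.Away y)).range
      (fun q => locMap_val_mem φ hdeg hx.choose_spec h q))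

theorem vmapTo_val {x : B} (hx : ∃ n : ℕ, x ∈ ℬ n) {y : A} (h : φ x = y)
    (q : Away ℬ x) :
    (vmapTo φ hdeg hx h q).val = locMap φ h q.val := by
  unfold vmapTo
  rw [RingHom.comp_apply]
  set w := RingHom.codRestrict ((locMap φ h).comp (algebraMap (Away ℬ x) (Localization.Away x)))
      (algebraMap (Away 𝒜 y) (Localization.Away y)).range
      (fun q => locMap_val_mem φ hdeg hx.choose_spec h q) q with hw
  have h1 : rangeEquiv (𝒜 := 𝒜) y ((rangeEquiv (𝒜 := 𝒜) y).symm w) = w :=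
    (rangeEquiv (𝒜 := 𝒜) y).apply_symm_apply w
  have h2 := rangeEquiv_apply_coe (𝒜 := 𝒜) y ((rangeEquiv (𝒜 := 𝒜) y).symm w)
  rw [h1] at h2
  exact h2.symm

theorem vmapTo_mk {n : ℕ} {x : B} (hx : x ∈ ℬ n) {y : A} (h : φ x = y) (hy : y ∈ 𝒜 (n * d))
    (k : ℕ) (b : B) (hb : b ∈ ℬ (k • n)) :
    vmapTo φ hdeg ⟨n, hx⟩ h (Away.mk ℬ hx k b hb) =
      Away.mk 𝒜 hy k (φ b) (map_mem_smul φ hdeg hb) := by
  apply HomogeneousLocalization.val_injective
  rw [vmapTo_val, Away.val_mk, Away.val_mk, locMap_mk]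

theorem locMap_algebraMap {x : B} {y : A} (h : φ x = y) (b : B) :
    locMap φ h (algebraMap B (Localization.Away x) b) =
      algebraMap A (Localization.Away y) (φ b) := by
  unfold locMap
  rw [IsLocalization.Away.lift_eq]
  rfl

theorem locMap_eq_awayMap (x : B) :
    locMap φ (rfl : φ x = φ x) = Localization.awayMap (φ : B →+* A) x := by
  rfl

/-- uniqueness: a ring map compatible with the map of localizations is `vmapTo`. -/
theorem eq_vmapTo {x : B} (hx : ∃ n : ℕ, x ∈ ℬ n)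
    (θ : Away ℬ x →+* Away 𝒜 (φ x))
    (hθ : (algebraMap (Away 𝒜 (φ x)) (Localization.Away (φ x))).comp θ =
      (Localization.awayMap (φ : B →+* A) x).comp
        (algebraMap (Away ℬ x) (Localization.Away x))) :
    θ = vmapTo φ hdeg hx rfl := by
  ext q
  rw [vmapTo_val, locMap_eq_awayMap]
  exact RingHom.congr_fun hθ q

theorem vmapTo_comp_awayMap {n n' : ℕ} {g g' : B} (hg : g ∈ ℬ n) (hg' : g' ∈ ℬ n') {x : B}
    (hx : x = g * g') {y : A} (hy : y = φ g * φ g') (h : φ x = y) :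
    (vmapTo φ hdeg ⟨n + n', (hx ▸ SetLike.mul_mem_graded hg hg' : x ∈ ℬ (n + n'))⟩ h).comp
        (awayMap ℬ hg' hx) =
      (awayMap 𝒜 (map_mem φ hdeg hg') hy).comp (vmapTo φ hdeg ⟨n, hg⟩ rfl) := by
  ext q
  simp only [RingHom.comp_apply]
  rw [vmapTo_val, val_awayMap, val_awayMap, vmapTo_val]
  have key : (locMap φ h).comp (Localization.awayLift (algebraMap B (Localization.Away x)) g
      (isUnit_of_dvd_unit (map_dvd _ ⟨_, hx⟩) (IsLocalization.Away.algebraMap_isUnit x))) =
      (Localization.awayLift (algebraMap A (Localization.Away y)) (φ g)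
        (isUnit_of_dvd_unit (map_dvd _ ⟨_, hy⟩) (IsLocalization.Away.algebraMap_isUnit y))).comp
        (locMap φ (rfl : φ g = φ g)) := by
    apply IsLocalization.ringHom_ext (Submonoid.powers g)
    ext b
    simp only [RingHom.comp_apply]
    rw [locMap_algebraMap]
    unfold Localization.awayLift
    rw [IsLocalization.Away.lift_eq, IsLocalization.Away.lift_eq, locMap_algebraMap]
  exact RingHom.congr_fun key q.val

include hdeg in
theorem vmapTo_injective (hφ : Function.Injective φ) {n : ℕ} {x : B} (hx : x ∈ ℬ n) {y : A}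
    (h : φ x = y) : Function.Injective (vmapTo φ hdeg ⟨n, hx⟩ h) := by
  rw [injective_iff_map_eq_zero]
  intro q hq
  have hy : y ∈ 𝒜 (n * d) := h ▸ map_mem φ hdeg hx
  obtain ⟨k, b, hb, rfl⟩ := Away.mk_surjective ℬ hx q
  rw [vmapTo_mk φ hdeg hx h hy] at hq
  have h2 := congrArg HomogeneousLocalization.val hq
  rw [Away.val_mk, HomogeneousLocalization.val_zero, Localization.mk_eq_mk',
    IsLocalization.mk'_eq_zero_iff] at h2
  obtain ⟨⟨_, m, rfl⟩, hm⟩ := h2
  apply HomogeneousLocalization.val_injective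
  rw [Away.val_mk, HomogeneousLocalization.val_zero, Localization.mk_eq_mk',
    IsLocalization.mk'_eq_zero_iff]
  refine ⟨⟨x ^ m, m, rfl⟩, ?_⟩
  apply hφ
  rw [map_zero, map_mul, map_pow, h]
  exact hm

include hdeg in
theorem vmapTo_surjective {n : ℕ} {x : B} (hx : x ∈ ℬ n) {y : A}
    (h : φ x = y) : Function.Surjective (vmapTo φ hdeg ⟨n, hx⟩ h) := by
  intro q
  have hy : y ∈ 𝒜 (n * d) := h ▸ map_mem φ hdeg hx
  obtain ⟨k, a, ha, rfl⟩ := Away.mk_surjective 𝒜 hy q
  have ha' : a ∈ 𝒜 ((k • n) * d) := by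
    have e : (k • n) * d = k • (n * d) := by simp [mul_assoc]
    rw [e]
    exact ha
  obtain ⟨b, hb, rfl⟩ := exists_of_mem φ hdeg ha'
  exact ⟨Away.mk ℬ hx k b hb, vmapTo_mk φ hdeg hx h hy k b hb⟩

end Groth.Agent.Lib.Helper27Veronese
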