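import Groth.Agent.Lib.Helper27Veronese
import Groth.Agent.Lib.Helper27Cone10

/-!
# The Veronese isomorphism `Proj S ≅ Proj S^(d)`: gluing (helper27)
-/

set_option autoImplicit false
universe u

open CategoryTheory CategoryTheory.Limits AlgebraicGeometry HomogeneousLocalization
  TopologicalSpace Opposite
open scoped HomogeneousIdeal

namespace Groth.Agent.Lib.Helper27Veronese

variable {R A B : Type u} [CommRing R] [CommRing A] [Algebra R A] {𝒜 : ℕ → Submodule R A}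
  [GradedAlgebra 𝒜] [CommRing B] [Algebra R B] {ℬ : ℕ → Submodule R B} [GradedAlgebra ℬ]
  {d : ℕ} (φ : B →ₐ[R] A) (hdeg : ∀ n : ℕ, Submodule.map φ.toLinearMap (ℬ n) = 𝒜 (n * d))
  (hd : 0 < d)

theorem awayι_congr {x : A} {m m' : ℕ} (h : m = m') (hx : x ∈ 𝒜 m) (hm : 0 < m)
    (hx' : x ∈ 𝒜 m') (hm' : 0 < m') :
    Proj.awayι 𝒜 x hx hm = Proj.awayι 𝒜 x hx' hm' := by
  subst h; rfl

/-- restriction of the chart map for `g` to `D₊(φ (g g'))`. -/
theorem specMap_vmap_comp {n n' : ℕ} {g g' : B} (hg : g ∈ ℬ n) (hn : 0 < n) (hg' : g' ∈ ℬ n')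
    {x : B} (hx : x = g * g') {y : A} (hy : y = φ g * φ g') (h : φ x = y) :
    Spec.map (CommRingCat.ofHom (awayMap 𝒜 (map_mem φ hdeg hg') hy)) ≫
        Spec.map (CommRingCat.ofHom (vmapTo φ hdeg ⟨n, hg⟩ rfl)) ≫ Proj.awayι ℬ g hg hn =
      Spec.map (CommRingCat.ofHom (vmapTo φ hdeg
        ⟨n + n', (hx ▸ SetLike.mul_mem_graded hg hg' : x ∈ ℬ (n + n'))⟩ h)) ≫
        Proj.awayι ℬ x (hx ▸ SetLike.mul_mem_graded hg hg') (hn.trans_le (n.le_add_right n')) := by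
  rw [← Proj.SpecMap_awayMap_awayι ℬ hg hn hg' hx, ← Spec.map_comp_assoc, ← Spec.map_comp_assoc,
    ← CommRingCat.ofHom_comp, ← CommRingCat.ofHom_comp, vmapTo_comp_awayMap φ hdeg hg hg' hx hy h]

variable (ℬ) in
/-- index type: homogeneous elements of positive degree. -/
abbrev Idx := Σ n : ℕ, {g : B // 0 < n ∧ g ∈ ℬ n}

include hdeg hd in
theorem exists_awayι_eq (p : Proj 𝒜) :
    ∃ (n : ℕ) (g : B) (hn : 0 < n) (hg : g ∈ ℬ n)
      (y : Spec (CommRingCat.of (Away 𝒜 (φ g)))),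
      (Proj.awayι 𝒜 (φ g) (map_mem φ hdeg hg) (Nat.mul_pos hn hd)) y = p := by
  have hrel := p.not_irrelevant_le
  rw [HomogeneousIdeal.irrelevant_le] at hrel
  push Not at hrel
  obtain ⟨m, hm, hrel⟩ := hrel
  obtain ⟨f, hf, hfp⟩ := SetLike.not_le_iff_exists.mp hrel
  have hf' : f ∈ 𝒜 m := hf
  have hfd : f ^ d ∈ 𝒜 (m * d) := by
    have := SetLike.pow_mem_graded d hf'
    rwa [smul_eq_mul, mul_comm] at this
  obtain ⟨g, hg, hgf⟩ := exists_of_mem φ hdeg hfd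
  have hgp : φ g ∉ p.asHomogeneousIdeal := by
    rw [hgf]
    intro hmem
    exact hfp (p.isPrime.mem_of_pow_mem d hmem)
  have hmem : p ∈ (Proj.awayι 𝒜 (φ g) (map_mem φ hdeg hg) (Nat.mul_pos hm hd)).opensRange := by
    rw [Proj.opensRange_awayι]
    exact (Proj.mem_basicOpen _ _ _).mpr hgp
  obtain ⟨y, hy⟩ := hmem
  exact ⟨m, g, hm, hg, y, hy⟩

/-- the cover of `Proj 𝒜` by the `D₊(φ g)`. -/
noncomputable def coverV : (Proj 𝒜).OpenCover :=
  Scheme.Cover.mkOfCovers (Idx ℬ) (fun i => Spec (CommRingCat.of (Away 𝒜 (φ i.2.1))))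
    (fun i => Proj.awayι 𝒜 (φ i.2.1) (map_mem φ hdeg i.2.2.2) (Nat.mul_pos i.2.2.1 hd))
    (fun p => by
      obtain ⟨n, g, hn, hg, y, hy⟩ := exists_awayι_eq φ hdeg hd p
      exact ⟨⟨n, g, hn, hg⟩, y, hy⟩)
    (fun i => by change IsOpenImmersion _; infer_instance)

/-- the chart-level morphisms. -/
noncomputable def vloc (i : Idx ℬ) : Spec (CommRingCat.of (Away 𝒜 (φ i.2.1))) ⟶ Proj ℬ :=
  Spec.map (CommRingCat.ofHom (vmapTo φ hdeg ⟨i.1, i.2.2.2⟩ rfl)) ≫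
    Proj.awayι ℬ i.2.1 i.2.2.2 i.2.2.1

theorem vloc_compat (a b : Idx ℬ) :
    pullback.fst ((coverV φ hdeg hd).f a) ((coverV φ hdeg hd).f b) ≫ vloc φ hdeg a =
      pullback.snd ((coverV φ hdeg hd).f a) ((coverV φ hdeg hd).f b) ≫ vloc φ hdeg b := by
  obtain ⟨n, g, hn, hg⟩ := a
  obtain ⟨n', g', hn', hg'⟩ := b
  change pullback.fst (Proj.awayι 𝒜 (φ g) (map_mem φ hdeg hg) (Nat.mul_pos hn hd))
      (Proj.awayι 𝒜 (φ g') (map_mem φ hdeg hg') (Nat.mul_pos hn' hd)) ≫ _ =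
    pullback.snd (Proj.awayι 𝒜 (φ g) (map_mem φ hdeg hg) (Nat.mul_pos hn hd))
      (Proj.awayι 𝒜 (φ g') (map_mem φ hdeg hg') (Nat.mul_pos hn' hd)) ≫ _
  have hy : φ g * φ g' = φ g * φ g' := rfl
  rw [← Proj.pullbackAwayιIso_hom_SpecMap_awayMap_left 𝒜 (map_mem φ hdeg hg) (Nat.mul_pos hn hd)
      (map_mem φ hdeg hg') (Nat.mul_pos hn' hd) hy,
    ← Proj.pullbackAwayιIso_hom_SpecMap_awayMap_right 𝒜 (map_mem φ hdeg hg) (Nat.mul_pos hn hd)
      (map_mem φ hdeg hg') (Nat.mul_pos hn' hd) hy, Category.assoc, Category.assoc]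
  congr 1
  have hφ : φ (g * g') = φ g * φ g' := map_mul φ g g'
  change Spec.map _ ≫ Spec.map _ ≫ Proj.awayι ℬ g hg hn =
    Spec.map _ ≫ Spec.map _ ≫ Proj.awayι ℬ g' hg' hn'
  rw [specMap_vmap_comp φ hdeg hg hn hg' rfl hy hφ,
    specMap_vmap_comp φ hdeg hg' hn' hg (mul_comm g g') (hy.trans (mul_comm _ _)) hφ]
  congr 1

/-- the Veronese morphism `Proj 𝒜 ⟶ Proj ℬ`. -/
noncomputable def vmor : Proj 𝒜 ⟶ Proj ℬ :=
  (coverV φ hdeg hd).glueMorphisms (vloc φ hdeg) (vloc_compat φ hdeg hd)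

theorem awayι_vmor {n : ℕ} {g : B} (hn : 0 < n) (hg : g ∈ ℬ n) :
    Proj.awayι 𝒜 (φ g) (map_mem φ hdeg hg) (Nat.mul_pos hn hd) ≫ vmor φ hdeg hd =
      Spec.map (CommRingCat.ofHom (vmapTo φ hdeg ⟨n, hg⟩ rfl)) ≫ Proj.awayι ℬ g hg hn :=
  (coverV φ hdeg hd).ι_glueMorphisms (vloc φ hdeg) (vloc_compat φ hdeg hd) ⟨n, g, hn, hg⟩

theorem vmor_awayι_apply {n : ℕ} {g : B} (hn : 0 < n) (hg : g ∈ ℬ n)
    (y : Spec (CommRingCat.of (Away 𝒜 (φ g)))) :
    (vmor φ hdeg hd) ((Proj.awayι 𝒜 (φ g) (map_mem φ hdeg hg) (Nat.mul_pos hn hd)) y) =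
      (Proj.awayι ℬ g hg hn)
        ((Spec.map (CommRingCat.ofHom (vmapTo φ hdeg ⟨n, hg⟩ rfl))) y) :=
  congrArg (fun ψ : Spec (CommRingCat.of (Away 𝒜 (φ g))) ⟶ Proj ℬ => ψ y)
    (awayι_vmor φ hdeg hd hn hg)

/-- step A: homogeneous elements of positive degree of the image point. -/
theorem mem_vmor_iff_pos (p : Proj 𝒜) {k : ℕ} (hk : 0 < k) {b : B} (hb : b ∈ ℬ k) :
    b ∈ ((vmor φ hdeg hd) p).asHomogeneousIdeal ↔ φ b ∈ p.asHomogeneousIdeal := by
  obtain ⟨n, g, hn, hg, y, rfl⟩ := exists_awayι_eq φ hdeg hd p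
  have hφg := map_mem φ hdeg hg
  have hφb := map_mem φ hdeg hb
  rw [vmor_awayι_apply φ hdeg hd hn hg, Helper27ConeRetr.mem_awayι_iff ℬ hn hk hg hb,
    Helper27ConeRetr.mem_awayι_iff 𝒜 (Nat.mul_pos hn hd) (Nat.mul_pos hk hd) hφg hφb]
  change vmapTo φ hdeg ⟨n, hg⟩ rfl (Away.isLocalizationElem hg hb) ∈ y.asIdeal ↔ _
  unfold Away.isLocalizationElem
  rw [vmapTo_mk φ hdeg hg rfl hφg]
  have hpow : Away.mk 𝒜 hφg (k * d) (φ b ^ (n * d))
      (by convert! SetLike.pow_mem_graded (n * d) hφb using 2; exact mul_comm _ _) =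
      (Away.mk 𝒜 hφg k (φ (b ^ n))
        (map_mem_smul φ hdeg
          (by convert! SetLike.pow_mem_graded n hb using 2; exact mul_comm _ _))) ^ d := by
    apply HomogeneousLocalization.val_injective
    rw [HomogeneousLocalization.val_pow, Away.val_mk, Away.val_mk, Localization.mk_pow]
    congr 1
    · rw [map_pow, ← pow_mul]
    · ext
      simp [← pow_mul]
  rw [hpow]
  constructor
  · intro h
    exact Ideal.pow_mem_of_mem _ h d hd
  · intro h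
    exact y.isPrime.mem_of_pow_mem d h

include hdeg hd in
theorem decompose_map (x : B) (k : ℕ) :
    (DirectSum.decompose 𝒜 (φ x) (k * d) : A) = φ (DirectSum.decompose ℬ x k : B) := by
  classical
  induction x using DirectSum.Decomposition.inductionOn ℬ with
  | zero => simp
  | @homogeneous j a =>
    have ha := map_mem φ hdeg a.2
    by_cases hjk : j = k
    · subst hjk
      rw [DirectSum.decompose_of_mem_same 𝒜 ha, DirectSum.decompose_of_mem_same ℬ a.2]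
    · have hne : j * d ≠ k * d := fun h => hjk (Nat.eq_of_mul_eq_mul_right hd h)
      rw [DirectSum.decompose_of_mem_ne 𝒜 ha hne, DirectSum.decompose_of_mem_ne ℬ a.2 hjk,
        map_zero]
  | add a b ha hb =>
    rw [map_add, DirectSum.decompose_add, DirectSum.decompose_add, DirectSum.add_apply,
      DirectSum.add_apply, Submodule.coe_add, Submodule.coe_add, ha, hb, map_add]

/-- the contraction of a homogeneous prime along `φ`, as a homogeneous ideal. -/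
def comapIdeal (p : Proj 𝒜) : HomogeneousIdeal ℬ :=
  ⟨Ideal.comap φ p.asHomogeneousIdeal.toIdeal, by
    intro k x hx
    rw [Ideal.mem_comap] at hx ⊢
    rw [← decompose_map φ hdeg hd x k]
    exact p.asHomogeneousIdeal.isHomogeneous (k * d) hx⟩

theorem mem_vmor_iff (p : Proj 𝒜) {k : ℕ} {b : B} (hb : b ∈ ℬ k) :
    b ∈ ((vmor φ hdeg hd) p).asHomogeneousIdeal ↔ φ b ∈ p.asHomogeneousIdeal := by
  by_cases hk : 0 < k
  · exact mem_vmor_iff_pos φ hdeg hd p hk hb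
  · obtain rfl : k = 0 := by omega
    obtain ⟨n, g, hn, hg, y, hy⟩ := exists_awayι_eq φ hdeg hd p
    have hgp : φ g ∉ p.asHomogeneousIdeal := by
      have hmem : p ∈ (Proj.awayι 𝒜 (φ g) (map_mem φ hdeg hg) (Nat.mul_pos hn hd)).opensRange :=
        ⟨y, hy⟩
      rw [Proj.opensRange_awayι] at hmem
      exact (Proj.mem_basicOpen _ _ _).mp hmem
    have hgF : g ∉ ((vmor φ hdeg hd) p).asHomogeneousIdeal :=
      fun h => hgp ((mem_vmor_iff_pos φ hdeg hd p hn hg).mp h)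
    have hbg : b * g ∈ ℬ (0 + n) := SetLike.mul_mem_graded hb hg
    have h1 := mem_vmor_iff_pos φ hdeg hd p (by omega : 0 < 0 + n) hbg
    rw [map_mul] at h1
    constructor
    · intro h
      have h2 := h1.mp (Ideal.mul_mem_right g _ h)
      exact (p.isPrime.mem_or_mem h2).resolve_right hgp
    · intro h
      have h2 := h1.mpr (Ideal.mul_mem_right (φ g) _ h)
      exact (((vmor φ hdeg hd) p).isPrime.mem_or_mem h2).resolve_right hgF

theorem vmor_toIdeal (p : Proj 𝒜) :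
    ((vmor φ hdeg hd) p).asHomogeneousIdeal.toIdeal =
      Ideal.comap φ p.asHomogeneousIdeal.toIdeal := by
  apply le_antisymm
  · exact Helper27ConeRetr.homogeneousIdeal_le_of ℬ
      (I := ((vmor φ hdeg hd) p).asHomogeneousIdeal) (J := comapIdeal φ hdeg hd p)
      (fun k b hb hbI => (mem_vmor_iff φ hdeg hd p hb).mp hbI)
  · exact Helper27ConeRetr.homogeneousIdeal_le_of ℬ
      (I := comapIdeal φ hdeg hd p) (J := ((vmor φ hdeg hd) p).asHomogeneousIdeal)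
      (fun k b hb hbJ => (mem_vmor_iff φ hdeg hd p hb).mpr hbJ)

end Groth.Agent.Lib.Helper27Veronese
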