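import Groth.Agent.Lib.Helper27Veronese2

/-!
# The Veronese isomorphism `Proj S ≅ Proj S^(d)`: isomorphism (helper27)
-/

set_option autoImplicit false
universe u

open CategoryTheory CategoryTheory.Limits AlgebraicGeometry HomogeneousLocalization
  TopologicalSpace Opposite
open scoped HomogeneousIdeal

namespace Groth.Agent.Lib.Helper27Veronese

variable {R A B : Type u} [CommRing R] [CommRing A] [Algebra R A] {𝒜 : ℕ → Submodule R A}
  [GradedAlgebra 𝒜] [CommRing B] [Algebra R B] {ℬ : ℕ → Submodule R B} [GradedAlgebra ℬ]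
  {d : ℕ} (φ : B →ₐ[R] A) (hdeg : ∀ n : ℕ, Submodule.map φ.toLinearMap (ℬ n) = 𝒜 (n * d))
  (hd : 0 < d)

theorem vmor_preimage_basicOpen {n : ℕ} {g : B} (hg : g ∈ ℬ n) :
    (vmor φ hdeg hd) ⁻¹ᵁ Proj.basicOpen ℬ g = Proj.basicOpen 𝒜 (φ g) := by
  ext p
  change (vmor φ hdeg hd) p ∈ Proj.basicOpen ℬ g ↔ p ∈ Proj.basicOpen 𝒜 (φ g)
  rw [Proj.mem_basicOpen, Proj.mem_basicOpen, mem_vmor_iff φ hdeg hd p hg]

theorem range_awayι_eq {n : ℕ} {g : B} (hn : 0 < n) (hg : g ∈ ℬ n) :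
    Set.range (Proj.awayι 𝒜 (φ g) (map_mem φ hdeg hg) (Nat.mul_pos hn hd)).base =
      Set.range ((vmor φ hdeg hd) ⁻¹ᵁ Proj.basicOpen ℬ g).ι.base := by
  rw [Scheme.Opens.range_ι, vmor_preimage_basicOpen φ hdeg hd hg,
    ← Proj.opensRange_awayι 𝒜 (φ g) (map_mem φ hdeg hg) (Nat.mul_pos hn hd)]
  rfl

/-- the chart as an isomorphism onto the preimage of `D₊(g)`. -/
noncomputable def chartIso {n : ℕ} {g : B} (hn : 0 < n) (hg : g ∈ ℬ n) :
    Spec (.of (Away 𝒜 (φ g))) ≅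
      (((vmor φ hdeg hd) ⁻¹ᵁ Proj.basicOpen ℬ g : (Proj 𝒜).Opens) : Scheme.{u}) :=
  IsOpenImmersion.isoOfRangeEq (Proj.awayι 𝒜 (φ g) (map_mem φ hdeg hg) (Nat.mul_pos hn hd))
    ((vmor φ hdeg hd) ⁻¹ᵁ Proj.basicOpen ℬ g).ι (range_awayι_eq φ hdeg hd hn hg)

@[reassoc]
theorem chartIso_hom_ι {n : ℕ} {g : B} (hn : 0 < n) (hg : g ∈ ℬ n) :
    (chartIso φ hdeg hd hn hg).hom ≫ ((vmor φ hdeg hd) ⁻¹ᵁ Proj.basicOpen ℬ g).ι =
      Proj.awayι 𝒜 (φ g) (map_mem φ hdeg hg) (Nat.mul_pos hn hd) :=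
  IsOpenImmersion.isoOfRangeEq_hom_fac _ _ _

theorem vmor_restrict_basicOpen {n : ℕ} {g : B} (hn : 0 < n) (hg : g ∈ ℬ n) :
    (chartIso φ hdeg hd hn hg).hom ≫ ((vmor φ hdeg hd) ∣_ Proj.basicOpen ℬ g) ≫
        (Proj.basicOpenIsoSpec ℬ g hg hn).hom =
      Spec.map (CommRingCat.ofHom (vmapTo φ hdeg ⟨n, hg⟩ rfl)) := by
  rw [← cancel_mono (Proj.basicOpenIsoSpec ℬ g hg hn).inv, ← cancel_mono (Proj.basicOpen ℬ g).ι]
  simp only [Category.assoc, Iso.hom_inv_id_assoc, morphismRestrict_ι]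
  rw [chartIso_hom_ι_assoc, awayι_vmor φ hdeg hd hn hg, Proj.basicOpenIsoSpec_inv_ι]

variable (ℬ) in
theorem iSup_basicOpen_idx_eq_top :
    ⨆ i : Idx ℬ, Proj.basicOpen ℬ (i.2.1 : B) = ⊤ := by
  classical
  apply Proj.iSup_basicOpen_eq_top
  intro z hz
  rw [← DirectSum.sum_support_decompose ℬ z]
  refine Ideal.sum_mem _ fun c hc ↦ if hc0 : c = 0 then ?_ else
    Ideal.subset_span ⟨⟨c, _, Nat.pos_iff_ne_zero.mpr hc0, (DirectSum.decompose ℬ z c).2⟩, rfl⟩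
  convert! Ideal.zero_mem _
  subst hc0
  exact hz

theorem isIso_vmor (hφ : Function.Injective φ) : IsIso (vmor φ hdeg hd) := by
  change MorphismProperty.isomorphisms Scheme.{u} (vmor φ hdeg hd)
  rw [IsZariskiLocalAtTarget.iff_of_iSup_eq_top (P := MorphismProperty.isomorphisms Scheme.{u})
    (fun i : Idx ℬ => Proj.basicOpen ℬ (i.2.1 : B)) (iSup_basicOpen_idx_eq_top ℬ)]
  rintro ⟨n, g, hn, hg⟩
  have h := vmor_restrict_basicOpen φ hdeg hd hn hg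
  have h2 : MorphismProperty.isomorphisms Scheme.{u}
      ((chartIso φ hdeg hd hn hg).hom ≫ ((vmor φ hdeg hd) ∣_ Proj.basicOpen ℬ g) ≫
        (Proj.basicOpenIsoSpec ℬ g hg hn).hom) := by
    rw [h]
    change IsIso _
    have hbij : Function.Bijective (vmapTo φ hdeg ⟨n, hg⟩ (rfl : φ g = φ g)) :=
      ⟨vmapTo_injective φ hdeg hφ hg rfl, vmapTo_surjective φ hdeg hg rfl⟩
    have : IsIso (CommRingCat.ofHom (vmapTo φ hdeg ⟨n, hg⟩ (rfl : φ g = φ g))) :=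
      (ConcreteCategory.isIso_iff_bijective _).mpr hbij
    infer_instance
  rw [MorphismProperty.cancel_left_of_respectsIso (P := MorphismProperty.isomorphisms Scheme.{u}),
    MorphismProperty.cancel_right_of_respectsIso
      (P := MorphismProperty.isomorphisms Scheme.{u})] at h2
  exact h2

end Groth.Agent.Lib.Helper27Veronese
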