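import Groth.Agent.Lib.Helper27VeryAmpleProj
import Groth.Agent.Lib.Helper27ClosedProj

/-!
# `O(n)` very ample on `Proj 𝒜` covered by `D₊(g)`, `deg g = 1`, generators in degrees `≤ n`
(helper27)
-/

set_option autoImplicit false
set_option linter.unusedSectionVars false
set_option linter.style.haveILetI false
universe u

open CategoryTheory CategoryTheory.Limits AlgebraicGeometry TopologicalSpace Opposite
  HomogeneousLocalization
open Groth.Agent.Lib.Helper23.SecTw Groth.Agent.Lib.Helper6 Groth.Agent.Lib.Helper27GrTildeSect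
open Groth.Agent.Helper13ProjUP Groth.Agent.Helper13Dehom

namespace Groth.Agent.Lib.Helper27VeryAmpleDeg1

variable {R A : Type u} [CommRing R] [CommRing A] [Algebra R A]

/-- a finite type algebra generated by a set is generated by a finite subset of it -/
theorem exists_finset_adjoin_eq_top [Algebra.FiniteType R A] (S : Set A)
    (hS : Algebra.adjoin R S = ⊤) : ∃ T : Finset A, (T : Set A) ⊆ S ∧ Algebra.adjoin R (T : Set A) = ⊤ := by
  classical
  have key : ∀ x ∈ Algebra.adjoin R S, ∃ F : Finset A, (F : Set A) ⊆ S ∧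
      x ∈ Algebra.adjoin R (F : Set A) := by
    intro x hx
    induction hx using Algebra.adjoin_induction with
    | mem x hx =>
      exact ⟨{x}, by simpa using hx, Algebra.subset_adjoin (by simp)⟩
    | algebraMap r => exact ⟨∅, by simp, Subalgebra.algebraMap_mem _ r⟩
    | add x y _ _ hx hy =>
      obtain ⟨F, hF, hxF⟩ := hx
      obtain ⟨F', hF', hyF⟩ := hy
      refine ⟨F ∪ F', by simpa using ⟨hF, hF'⟩, ?_⟩
      exact add_mem (Algebra.adjoin_mono (by simp) hxF) (Algebra.adjoin_mono (by simp) hyF)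
    | mul x y _ _ hx hy =>
      obtain ⟨F, hF, hxF⟩ := hx
      obtain ⟨F', hF', hyF⟩ := hy
      refine ⟨F ∪ F', by simpa using ⟨hF, hF'⟩, ?_⟩
      exact mul_mem (Algebra.adjoin_mono (by simp) hxF) (Algebra.adjoin_mono (by simp) hyF)
  obtain ⟨T₀, hT₀⟩ := (Algebra.FiniteType.out : (⊤ : Subalgebra R A).FG)
  have key' : ∀ t ∈ T₀, ∃ F : Finset A, (F : Set A) ⊆ S ∧ t ∈ Algebra.adjoin R (F : Set A) :=
    fun t _ => key t (by rw [hS]; trivial)
  choose! F hF1 hF2 using key'
  refine ⟨T₀.biUnion F, ?_, ?_⟩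
  · intro x hx
    simp only [Finset.coe_biUnion, Set.mem_iUnion] at hx
    obtain ⟨t, ht, hx⟩ := hx
    exact hF1 t ht hx
  · rw [eq_top_iff, ← hT₀]
    apply Algebra.adjoin_le
    intro t ht
    refine Algebra.adjoin_mono ?_ (hF2 t ht)
    intro x hx
    simp only [Finset.coe_biUnion, Set.mem_iUnion]
    exact ⟨t, ht, hx⟩

variable (𝒜 : ℕ → Submodule R A) [GradedAlgebra 𝒜]

/-- if `A` is generated over `R` by homogeneous elements of positive degree then `R → 𝒜 0` is
surjective -/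
theorem surjective_algebraMap_zero (S : Set A) (hS : Algebra.adjoin R S = ⊤)
    (hpos : ∀ x ∈ S, ∃ i, 0 < i ∧ x ∈ 𝒜 i) : Function.Surjective (algebraMap R (𝒜 0)) := by
  classical
  have key : ∀ x ∈ Algebra.adjoin R S,
      GradedRing.projZeroRingHom 𝒜 x ∈ (algebraMap R A).range := by
    intro x hx
    induction hx using Algebra.adjoin_induction with
    | mem x hx =>
      obtain ⟨i, hi, hxi⟩ := hpos x hx
      have : GradedRing.projZeroRingHom 𝒜 x = 0 := by
        rw [GradedRing.projZeroRingHom_apply]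
        exact DirectSum.decompose_of_mem_ne 𝒜 hxi (Nat.pos_iff_ne_zero.mp hi)
      rw [this]
      exact Subring.zero_mem _
    | algebraMap r =>
      have : GradedRing.projZeroRingHom 𝒜 (algebraMap R A r) = algebraMap R A r := by
        rw [GradedRing.projZeroRingHom_apply]
        exact DirectSum.decompose_of_mem_same 𝒜 (SetLike.algebraMap_mem_graded 𝒜 r)
      rw [this]
      exact ⟨r, rfl⟩
    | add x y _ _ hx hy => rw [map_add]; exact Subring.add_mem _ hx hy
    | mul x y _ _ hx hy => rw [map_mul]; exact Subring.mul_mem _ hx hy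
  intro a
  have h1 := key (a : A) (by rw [hS]; trivial)
  have h2 : GradedRing.projZeroRingHom 𝒜 (a : A) = a := by
    rw [GradedRing.projZeroRingHom_apply]
    exact DirectSum.decompose_of_mem_same 𝒜 a.2
  rw [h2] at h1
  obtain ⟨r, hr⟩ := h1
  exact ⟨r, Subtype.ext hr⟩

variable {𝒜}

/-- a subring of `Γ(D₊(g))` containing the dehomogenizations of `R` and of algebra generators is
everything -/
theorem subring_eq_top_of_dehom {g : A} (hg : g ∈ 𝒜 1) (T : Set A)
    (hT : Algebra.adjoin R T = ⊤) (E : Subring Γ(Proj 𝒜, Proj.basicOpen 𝒜 g))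
    (hR : ∀ r : R, dehom hg (algebraMap R A r) ∈ E) (hE : ∀ t ∈ T, dehom hg t ∈ E) : E = ⊤ := by
  have key : ∀ x ∈ Algebra.adjoin R T, dehom hg x ∈ E := by
    intro x hx
    induction hx using Algebra.adjoin_induction with
    | mem x hx => exact hE x hx
    | algebraMap r => exact hR r
    | add x y _ _ hx hy => rw [map_add]; exact E.add_mem hx hy
    | mul x y _ _ hx hy => rw [map_mul]; exact E.mul_mem hx hy
  rw [eq_top_iff]
  intro r _
  obtain ⟨j, a, ha, rfl⟩ := exists_dehom_eq hg r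
  exact key a (by rw [hT]; trivial)

open Groth.Agent.Lib.Helper27VeryAmpleProj in
theorem toBase_appLE_dehom {g : A} (hg : g ∈ 𝒜 1) (r : R)
    (e : Proj.basicOpen 𝒜 g ≤ (Groth.Agent.Helper13ProjUP.toBase 𝒜) ⁻¹ᵁ ⊤) :
    ((Groth.Agent.Helper13ProjUP.toBase 𝒜).appLE ⊤ (Proj.basicOpen 𝒜 g) e).hom
      ((Scheme.ΓSpecIso (CommRingCat.of R)).inv.hom r) = dehom hg (algebraMap R A r) := by
  have h1 := congrArg (fun φ => φ.hom r) (toBase_appLE 𝒜 hg one_pos)
  have hc : algebraMap R A r ∈ 𝒜 (0 • 1) := by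
    simpa using SetLike.algebraMap_mem_graded 𝒜 r
  rw [dehom_eq_awayToSection hg (j := 0) hc]
  refine h1.trans ?_
  change (Proj.awayToSection 𝒜 g).hom (strAway 𝒜 g r) = _
  congr 1
  apply HomogeneousLocalization.val_injective
  rw [Away.val_mk]
  change Localization.mk _ _ = _
  congr 1
  ext
  simp

section assemble

variable (𝒜)
variable (n : ℕ) (Q : Finset A) (T : Finset A) (dg : A → ℕ)

/-- the sections: `0`, `gⁿ`, `t g^(n - deg t)` -/
noncomputable def cSec : Option ({g // g ∈ Q} × Option {t // t ∈ T}) → A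
  | none => 0
  | some (g, none) => g.1 ^ n
  | some (g, some t) => t.1 * g.1 ^ (n - dg t.1)

variable {𝒜 n Q T dg}

theorem cSec_mem (hQ : ∀ g ∈ Q, g ∈ 𝒜 1) (hT : ∀ t ∈ T, t ∈ 𝒜 (dg t) ∧ dg t ≤ n) :
    ∀ k, cSec n Q T dg k ∈ 𝒜 n := by
  rintro (_ | ⟨g, _ | t⟩)
  · exact zero_mem _
  · exact pow_mem_deg (hQ g.1 g.2) n
  · have h1 := (hT t.1 t.2).1
    have h2 := pow_mem_deg (hQ g.1 g.2) (n - dg t.1)
    have h3 := SetLike.mul_mem_graded h1 h2
    rwa [Nat.add_sub_cancel' (hT t.1 t.2).2] at h3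

open Groth.Agent.Lib.Helper27VeryAmpleProj in
theorem exists_closedImmersion_deg1 (hn : 0 < n) (hQ : ∀ g ∈ Q, g ∈ 𝒜 1)
    (hQcov : ∀ x : Proj 𝒜, ∃ g ∈ Q, x ∈ Proj.basicOpen 𝒜 g)
    (hT : ∀ t ∈ T, t ∈ 𝒜 (dg t) ∧ dg t ≤ n) (hTgen : Algebra.adjoin R (T : Set A) = ⊤)
    (hsurj : Function.Surjective (algebraMap R (𝒜 0))) [Algebra.FiniteType (𝒜 0) A] :
    ∃ (M : ℕ) (i : Proj 𝒜 ⟶ CohB1.ProjSpaceOver M (Spec (CommRingCat.of R))),
      IsClosedImmersion i ∧
      i ≫ pullback.snd (CohB1.ProjSpace.toSpec M (ULift.{u} ℤ))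
        (specULiftZIsTerminal.from (Spec (CommRingCat.of R))) = Groth.Agent.Helper13ProjUP.toBase 𝒜 ∧
      Nonempty (GrTilde.tilde 𝒜 𝒜 (n : ℤ) ≅
        (Scheme.Modules.pullback i).obj (Twist.twistOver M (Spec (CommRingCat.of R)) 1)) := by
  classical
  have hc := cSec_mem (𝒜 := 𝒜) (n := n) hQ hT
  refine exists_closedImmersion_κ 𝒜 n (cSec n Q T dg) hc hn
    {k | ∃ g, k = some (g, none)} ?_ ?_ hsurj
  · intro x
    obtain ⟨g, hgQ, hx⟩ := hQcov x
    refine ⟨some (⟨g, hgQ⟩, none), ⟨_, rfl⟩, ?_⟩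
    change x ∈ Proj.basicOpen 𝒜 (g ^ n)
    rw [Proj.basicOpen_pow 𝒜 g n hn]
    exact hx
  · rintro _ ⟨g, rfl⟩ W hW hleW
    have hg : g.1 ∈ 𝒜 1 := hQ g.1 g.2
    have hW' : W = Proj.basicOpen 𝒜 g.1 := by
      rw [hW]
      change Proj.basicOpen 𝒜 (g.1 ^ n) = _
      exact Proj.basicOpen_pow 𝒜 g.1 n hn
    subst hW'
    refine ⟨fun k => dehom hg (cSec n Q T dg k), fun k => ?_, ?_⟩
    · rw [res_gsec, res_gsec]
      exact (Groth.Agent.Lib.Helper27ClosedProj.gsec_eq_dehom_smul 𝒜 hg n (hc k)).symm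
    · refine subring_eq_top_of_dehom hg (T : Set A) hTgen _ (fun r => ?_) (fun t ht => ?_)
      · apply Subring.subset_closure
        left
        exact ⟨_, toBase_appLE_dehom hg r hleW⟩
      · apply Subring.subset_closure
        right
        refine ⟨some (g, some ⟨t, ht⟩), ?_⟩
        change dehom hg (t * g.1 ^ (n - dg t)) = dehom hg t
        rw [map_mul, map_pow, dehom_self, one_pow, mul_one]

end assemble

end Groth.Agent.Lib.Helper27VeryAmpleDeg1
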