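import Groth.Agent.Lib.Helper27VeryAmpleProj
import Groth.Agent.Lib.Helper27VeryAmpleDeg1
import Groth.Agent.Lib.Helper27ProjSpaceBC

/-!
# `O(a·lcm(dᵢ))` is very ample on `Proj 𝒜`, `𝒜` generated by `s` elements of degrees `dᵢ > 0`,
`a ≥ max(1, s - 1)` (helper27)
-/

set_option autoImplicit false
set_option linter.unusedSectionVars false
set_option linter.style.haveILetI false
universe u

open CategoryTheory CategoryTheory.Limits AlgebraicGeometry TopologicalSpace Opposite
  HomogeneousLocalization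

namespace Groth.Agent.Lib.Helper27VeryAmpleLcm

section comb

variable {s : ℕ} (deg : Fin s → ℕ)

/-- weight of an exponent vector -/
def wt (e : Fin s → ℕ) : ℕ := ∑ i, e i • deg i

theorem wt_add (e e' : Fin s → ℕ) : wt deg (e + e') = wt deg e + wt deg e' := by
  simp only [wt, Pi.add_apply, add_smul, Finset.sum_add_distrib]

theorem wt_zero : wt deg (0 : Fin s → ℕ) = 0 := by
  simp [wt]

theorem eq_zero_of_wt_eq_zero (hdeg : ∀ i, 0 < deg i) (e : Fin s → ℕ) (he : wt deg e = 0) :
    e = 0 := by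
  funext i
  have h := (Finset.sum_eq_zero_iff.mp he) i (Finset.mem_univ i)
  simp only [smul_eq_mul, mul_eq_zero] at h
  rcases h with h | h
  · exact h
  · exact absurd h (Nat.pos_iff_ne_zero.mp (hdeg i))

theorem exists_le_sum_eq (q : Fin s → ℕ) (a : ℕ) (ha : a ≤ ∑ i, q i) :
    ∃ q' : Fin s → ℕ, (∀ i, q' i ≤ q i) ∧ ∑ i, q' i = a := by
  induction a with
  | zero => exact ⟨0, fun i => Nat.zero_le _, by simp⟩
  | succ a ih =>
    obtain ⟨q', hq', hsum⟩ := ih (Nat.le_of_succ_le ha)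
    have hex : ∃ i, q' i < q i := by
      by_contra hcon
      push Not at hcon
      have : ∑ i, q i ≤ ∑ i, q' i := Finset.sum_le_sum (fun i _ => hcon i)
      omega
    obtain ⟨i, hi⟩ := hex
    classical
    refine ⟨q' + Pi.single i 1, fun j => ?_, ?_⟩
    · by_cases hj : j = i
      · subst hj; simp; omega
      · simp [Pi.single_eq_of_ne hj, hq' j]
    · simp [Finset.sum_add_distrib, hsum]

theorem exists_sub_weight (hdeg : ∀ i, 0 < deg i) (a : ℕ) (has : s - 1 ≤ a) (k : ℕ)
    (hk : 2 ≤ k) (e : Fin s → ℕ) (he : wt deg e = k * (a * Finset.univ.lcm deg)) :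
    ∃ e₁ : Fin s → ℕ, (∀ i, e₁ i ≤ e i) ∧ wt deg e₁ = a * Finset.univ.lcm deg := by
  classical
  set l := Finset.univ.lcm deg with hl
  have hlpos : 0 < l := by
    apply Nat.pos_of_ne_zero
    rw [hl, Ne, Finset.lcm_eq_zero_iff]
    simp only [Finset.mem_univ, true_and, not_exists]
    intro i
    exact Nat.pos_iff_ne_zero.mp (hdeg i)
  have hdvd : ∀ i, deg i ∣ l := fun i => Finset.dvd_lcm (Finset.mem_univ i)
  let li : Fin s → ℕ := fun i => l / deg i
  have hli : ∀ i, li i * deg i = l := fun i => Nat.div_mul_cancel (hdvd i)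
  have hlipos : ∀ i, 0 < li i := fun i => by
    rcases Nat.eq_zero_or_pos (li i) with h | h
    · have := hli i
      rw [h, zero_mul] at this
      omega
    · exact h
  let q : Fin s → ℕ := fun i => e i / li i
  let r : Fin s → ℕ := fun i => e i % li i
  have hqr : ∀ i, e i = li i * q i + r i := fun i => (Nat.div_add_mod (e i) (li i)).symm
  have hr : ∀ i, r i • deg i + 1 ≤ l := fun i => by
    have h1 : r i < li i := Nat.mod_lt _ (hlipos i)
    have h2 : (r i + 1) * deg i ≤ li i * deg i := Nat.mul_le_mul_right _ h1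
    rw [hli i] at h2
    have h3 := hdeg i
    simp only [smul_eq_mul]
    nlinarith
  -- the weight equation
  have hw : wt deg e = l * ∑ i, q i + ∑ i, r i • deg i := by
    unfold wt
    rw [Finset.mul_sum, ← Finset.sum_add_distrib]
    refine Finset.sum_congr rfl (fun i _ => ?_)
    simp only [smul_eq_mul]
    conv_lhs => rw [hqr i]
    rw [← hli i]
    ring
  have hsumq : a ≤ ∑ i, q i := by
    by_contra hcon
    push Not at hcon
    have hρ : ∑ i, r i • deg i + s ≤ s * l := by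
      have : ∑ i : Fin s, (r i • deg i + 1) ≤ ∑ _i : Fin s, l := Finset.sum_le_sum (fun i _ => hr i)
      simpa [Finset.sum_add_distrib] using this
    rw [he] at hw
    -- k a l = l Σq + ρ, Σq ≤ a - 1, ρ + s ≤ s l, s ≤ a + 1
    have h1 : ∑ i, q i + 1 ≤ a := hcon
    have h2 : l * (∑ i, q i + 1) ≤ l * a := Nat.mul_le_mul_left _ h1
    have h3 : 2 * (a * l) ≤ k * (a * l) := Nat.mul_le_mul_right _ hk
    have h4 : s ≤ a + 1 := by omega
    have h5 : s * l ≤ (a + 1) * l := Nat.mul_le_mul_right _ h4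
    rcases Nat.eq_zero_or_pos s with hs | hs
    · subst hs
      simp at hw hcon
      rcases hw with h | h | h <;> omega
    · nlinarith
  obtain ⟨q', hq', hsum⟩ := exists_le_sum_eq q a hsumq
  refine ⟨fun i => li i * q' i, fun i => ?_, ?_⟩
  · calc li i * q' i ≤ li i * q i := Nat.mul_le_mul_left _ (hq' i)
      _ ≤ e i := by rw [hqr i]; omega
  · unfold wt
    have : ∀ i, (li i * q' i) • deg i = q' i * l := fun i => by
      simp only [smul_eq_mul]
      rw [← hli i]; ring
    simp only [this]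
    rw [← Finset.sum_mul, hsum]

end comb

section away

variable {R A : Type u} [CommRing R] [CommRing A] [Algebra R A] (𝒜 : ℕ → Submodule R A)
  [GradedAlgebra 𝒜]

open Groth.Agent.Lib.Helper27VeryAmpleProj

variable {𝒜} {n : ℕ} {G : A} (hG : G ∈ 𝒜 n)

theorem away_mk_congr (k : ℕ) {x y : A} (hx : x ∈ 𝒜 (k • n)) (hy : y ∈ 𝒜 (k • n)) (h : x = y) :
    Away.mk 𝒜 hG k x hx = Away.mk 𝒜 hG k y hy := by
  subst h; rfl

theorem away_mk_congr' {k k' : ℕ} (hk : k = k') {x : A} (hx : x ∈ 𝒜 (k • n))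
    (hx' : x ∈ 𝒜 (k' • n)) : Away.mk 𝒜 hG k x hx = Away.mk 𝒜 hG k' x hx' := by
  subst hk; rfl

theorem away_mk_zero (k : ℕ) : Away.mk 𝒜 hG k 0 (zero_mem _) = 0 := by
  apply HomogeneousLocalization.val_injective
  rw [Away.val_mk, HomogeneousLocalization.val_zero, Localization.mk_zero]

theorem away_mk_one : Away.mk 𝒜 hG 0 1 (by simpa using SetLike.GradedOne.one_mem) = 1 := by
  apply HomogeneousLocalization.val_injective
  rw [Away.val_mk, HomogeneousLocalization.val_one]
  simp only [pow_zero]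
  exact Localization.mk_one

theorem away_mk_add (k : ℕ) (x y : A) (hx : x ∈ 𝒜 (k • n)) (hy : y ∈ 𝒜 (k • n)) :
    Away.mk 𝒜 hG k (x + y) (add_mem hx hy) = Away.mk 𝒜 hG k x hx + Away.mk 𝒜 hG k y hy := by
  apply HomogeneousLocalization.val_injective
  rw [HomogeneousLocalization.val_add, Away.val_mk, Away.val_mk, Away.val_mk,
    Localization.add_mk_self]

theorem mul_mem_smul {k k' : ℕ} {x y : A} (hx : x ∈ 𝒜 (k • n)) (hy : y ∈ 𝒜 (k' • n)) :
    x * y ∈ 𝒜 ((k + k') • n) := by
  rw [add_smul]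
  exact SetLike.mul_mem_graded hx hy

theorem away_mk_mul (k k' : ℕ) (x y : A) (hx : x ∈ 𝒜 (k • n)) (hy : y ∈ 𝒜 (k' • n)) :
    Away.mk 𝒜 hG (k + k') (x * y) (mul_mem_smul hx hy) =
      Away.mk 𝒜 hG k x hx * Away.mk 𝒜 hG k' y hy := by
  apply HomogeneousLocalization.val_injective
  rw [HomogeneousLocalization.val_mul, Away.val_mk, Away.val_mk, Away.val_mk, Localization.mk_mul]
  congr 1
  ext
  simp [pow_add]

theorem algebraMap_mul_mem {k : ℕ} (r : R) {x : A} (hx : x ∈ 𝒜 (k • n)) :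
    algebraMap R A r * x ∈ 𝒜 (k • n) := by
  have := SetLike.mul_mem_graded (SetLike.algebraMap_mem_graded 𝒜 r) hx
  simpa using this

theorem strAway_mul_mk (k : ℕ) (r : R) (x : A) (hx : x ∈ 𝒜 (k • n)) :
    strAway 𝒜 G r * Away.mk 𝒜 hG k x hx =
      Away.mk 𝒜 hG k (algebraMap R A r * x) (algebraMap_mul_mem r hx) := by
  apply HomogeneousLocalization.val_injective
  rw [HomogeneousLocalization.val_mul, Away.val_mk, Away.val_mk]
  change Localization.mk _ _ * _ = _
  rw [Localization.mk_mul]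
  congr 1
  ext
  simp

end away

section gen

variable {R A : Type u} [CommRing R] [CommRing A] [Algebra R A] (𝒜 : ℕ → Submodule R A)
  [GradedAlgebra 𝒜]

open Groth.Agent.Lib.Helper27VeryAmpleProj

variable {s : ℕ} (f : Fin s → A) (deg : Fin s → ℕ)

/-- the monomial `∏ fᵢ^eᵢ` -/
def mon (e : Fin s → ℕ) : A := ∏ i, f i ^ e i

theorem mon_add (e e' : Fin s → ℕ) : mon f (e + e') = mon f e * mon f e' := by
  simp only [mon, Pi.add_apply, pow_add, Finset.prod_mul_distrib]

theorem mon_zero : mon f (0 : Fin s → ℕ) = 1 := by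
  simp [mon]

theorem mon_single (i : Fin s) (m : ℕ) : mon f (Pi.single i m) = f i ^ m := by
  classical
  unfold mon
  rw [Finset.prod_eq_single i]
  · rw [Pi.single_eq_same]
  · intro j _ hj
    rw [Pi.single_eq_of_ne hj, pow_zero]
  · intro h
    exact absurd (Finset.mem_univ i) h

variable {𝒜 f deg}

theorem mon_mem (hf : ∀ i, f i ∈ 𝒜 (deg i)) (e : Fin s → ℕ) : mon f e ∈ 𝒜 (wt deg e) :=
  SetLike.prod_pow_mem_graded 𝒜 deg f e (fun i _ => hf i)

theorem mon_mem' (hf : ∀ i, f i ∈ 𝒜 (deg i)) {e : Fin s → ℕ} {k n : ℕ} (he : wt deg e = k * n) :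
    mon f e ∈ 𝒜 (k • n) := by
  have := mon_mem (𝒜 := 𝒜) hf e
  rwa [he] at this

theorem exists_mon_of_mem_closure {m : A} (hm : m ∈ Submonoid.closure (Set.range f)) :
    ∃ e : Fin s → ℕ, m = mon f e := by
  classical
  induction hm using Submonoid.closure_induction with
  | mem x hx =>
    obtain ⟨i, rfl⟩ := hx
    exact ⟨Pi.single i 1, by rw [mon_single, pow_one]⟩
  | one => exact ⟨0, (mon_zero f).symm⟩
  | mul x y _ _ hx hy =>
    obtain ⟨e, rfl⟩ := hx
    obtain ⟨e', rfl⟩ := hy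
    exact ⟨e + e', (mon_add f e e').symm⟩

theorem subring_eq_top_lcm (hdeg : ∀ i, 0 < deg i) (hf : ∀ i, f i ∈ 𝒜 (deg i))
    (hgen : Algebra.adjoin R (Set.range f) = ⊤) (a : ℕ) (has : s - 1 ≤ a)
    {G : A} (hG : G ∈ 𝒜 (a * Finset.univ.lcm deg)) (E : Subring (Away 𝒜 G))
    (hR : ∀ r : R, strAway 𝒜 G r ∈ E)
    (hE : ∀ (e : Fin s → ℕ) (he : wt deg e = 1 * (a * Finset.univ.lcm deg)),
      Away.mk 𝒜 hG 1 (mon f e) (mon_mem' hf he) ∈ E) : E = ⊤ := by
  classical
  set n := a * Finset.univ.lcm deg with hn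
  -- monomials
  have h1 : ∀ (k : ℕ) (e : Fin s → ℕ) (he : wt deg e = k * n),
      Away.mk 𝒜 hG k (mon f e) (mon_mem' hf he) ∈ E := by
    intro k
    induction k with
    | zero =>
      intro e he
      obtain rfl := eq_zero_of_wt_eq_zero deg hdeg e (by simpa using he)
      rw [away_mk_congr hG 0 _ (by simpa using SetLike.GradedOne.one_mem) (mon_zero f),
        away_mk_one]
      exact E.one_mem
    | succ k ih =>
      intro e he
      obtain ⟨e₁, hle, hw₁⟩ : ∃ e₁ : Fin s → ℕ, (∀ i, e₁ i ≤ e i) ∧ wt deg e₁ = n := by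
        rcases Nat.eq_zero_or_pos k with hk | hk
        · subst hk
          exact ⟨e, fun i => le_rfl, by simpa using he⟩
        · exact exists_sub_weight deg hdeg a has (k + 1) (by omega) e he
      have hsplit : e = e₁ + (e - e₁) := by
        funext i
        simp only [Pi.add_apply, Pi.sub_apply]
        have := hle i
        omega
      have hw₂ : wt deg (e - e₁) = k * n := by
        have h := wt_add deg e₁ (e - e₁)
        rw [← hsplit, he, hw₁] at h
        have : (k + 1) * n = n + k * n := by ring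
        omega
      have hw₁' : wt deg e₁ = 1 * n := by rw [hw₁, one_mul]
      have hmon : mon f e = mon f e₁ * mon f (e - e₁) := by
        conv_lhs => rw [hsplit]
        exact mon_add f e₁ (e - e₁)
      rw [away_mk_congr hG (k + 1) _
        (by rw [add_comm k 1]; exact mul_mem_smul (mon_mem' hf hw₁') (mon_mem' hf hw₂)) hmon,
        away_mk_congr' hG (add_comm k 1) _ (mul_mem_smul (mon_mem' hf hw₁') (mon_mem' hf hw₂)),
        away_mk_mul hG 1 k _ _ (mon_mem' hf hw₁') (mon_mem' hf hw₂)]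
      exact E.mul_mem (hE e₁ hw₁') (ih (e - e₁) hw₂)
  -- linear combinations, componentwise
  have h2 : ∀ z ∈ Submodule.span R (Submonoid.closure (Set.range f) : Set A), ∀ k : ℕ,
      Away.mk 𝒜 hG k (DirectSum.decompose 𝒜 z (k • n) : A) (SetLike.coe_mem _) ∈ E := by
    intro z hz
    induction hz using Submodule.span_induction with
    | mem m hm =>
      intro k
      obtain ⟨e, rfl⟩ := exists_mon_of_mem_closure hm
      by_cases hk : wt deg e = k • n
      · have e1 : (DirectSum.decompose 𝒜 (mon f e) (k • n) : A) = mon f e :=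
          DirectSum.decompose_of_mem_same 𝒜 (hk ▸ mon_mem hf e)
        have hk' : wt deg e = k * n := by simpa using hk
        rw [away_mk_congr hG k (SetLike.coe_mem _) (mon_mem' hf hk') e1]
        exact h1 k e hk'
      · have e1 : (DirectSum.decompose 𝒜 (mon f e) (k • n) : A) = 0 :=
          DirectSum.decompose_of_mem_ne 𝒜 (mon_mem hf e) hk
        rw [away_mk_congr hG k (SetLike.coe_mem _) (zero_mem _) e1, away_mk_zero]
        exact E.zero_mem
    | zero =>
      intro k
      have e1 : (DirectSum.decompose 𝒜 (0 : A) (k • n) : A) = 0 := by simp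
      rw [away_mk_congr hG k (SetLike.coe_mem _) (zero_mem _) e1, away_mk_zero]
      exact E.zero_mem
    | add x y _ _ hx hy =>
      intro k
      have e1 : (DirectSum.decompose 𝒜 (x + y) (k • n) : A) =
          (DirectSum.decompose 𝒜 x (k • n) : A) + (DirectSum.decompose 𝒜 y (k • n) : A) := by simp
      rw [away_mk_congr hG k (SetLike.coe_mem _)
        (add_mem (SetLike.coe_mem _) (SetLike.coe_mem _)) e1,
        away_mk_add hG k _ _ (SetLike.coe_mem _) (SetLike.coe_mem _)]
      exact E.add_mem (hx k) (hy k)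
    | smul r x _ hx =>
      intro k
      have e1 : (DirectSum.decompose 𝒜 (r • x) (k • n) : A) =
          algebraMap R A r * (DirectSum.decompose 𝒜 x (k • n) : A) := by
        rw [Algebra.smul_def r x]
        exact DirectSum.coe_decompose_mul_of_left_mem_zero 𝒜 (SetLike.algebraMap_mem_graded 𝒜 r)
      rw [away_mk_congr hG k (SetLike.coe_mem _)
        (algebraMap_mul_mem r (SetLike.coe_mem _)) e1, ← strAway_mul_mk hG k r _ (SetLike.coe_mem _)]
      exact E.mul_mem (hR r) (hx k)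
  rw [eq_top_iff]
  intro x _
  obtain ⟨k, b, hb, rfl⟩ := Away.mk_surjective 𝒜 hG x
  have hspan : b ∈ Submodule.span R (Submonoid.closure (Set.range f) : Set A) := by
    have : b ∈ Algebra.adjoin R (Set.range f) := by rw [hgen]; trivial
    rw [← Subalgebra.mem_toSubmodule, Algebra.adjoin_eq_span] at this
    exact this
  have e1 : (DirectSum.decompose 𝒜 b (k • n) : A) = b := DirectSum.decompose_of_mem_same 𝒜 hb
  rw [← away_mk_congr hG k (SetLike.coe_mem _) hb e1]
  exact h2 b hspan k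

end gen

section assemble

variable {R A : Type u} [CommRing R] [CommRing A] [Algebra R A] (𝒜 : ℕ → Submodule R A)
  [GradedAlgebra 𝒜]

open Groth.Agent.Lib.Helper27VeryAmpleProj Groth.Agent.Lib.Helper27GrTildeSect
  Groth.Agent.Lib.Helper23.SecTw Groth.Agent.Lib.Helper6

/-- version of `Helper27VeryAmpleProj.hgen_aux` over an arbitrary index type -/
theorem hgen_aux' {κ : Type*} (n : ℕ) (c : κ → A) (hc : ∀ k, c k ∈ 𝒜 n) (hn : 0 < n) (j : κ)
    (hj : Subring.closure (Set.range (strAway 𝒜 (c j)) ∪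
      Set.range (fun k => Away.mk 𝒜 (hc j) 1 (c k) (mem_one_smul 𝒜 (hc k)))) = ⊤)
    (W : (Proj 𝒜).Opens) (hW : W = Proj.basicOpen 𝒜 (c j))
    (hleW : W ≤ (Groth.Agent.Helper13ProjUP.toBase 𝒜) ⁻¹ᵁ ⊤) :
    ∃ a : κ → Γ(Proj 𝒜, W),
      (∀ k, a k • res (GrTilde.tilde 𝒜 𝒜 (n : ℤ)) (le_top : W ≤ ⊤) (gsec 𝒜 n ⊤ (hc j)) =
        res (GrTilde.tilde 𝒜 𝒜 (n : ℤ)) le_top (gsec 𝒜 n ⊤ (hc k))) ∧
      Subring.closure (Set.range ((Groth.Agent.Helper13ProjUP.toBase 𝒜).appLE ⊤ W hleW).hom ∪
        Set.range a) = ⊤ := by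
  subst hW
  refine ⟨fun k => (Proj.awayToSection 𝒜 (c j)).hom
    (Away.mk 𝒜 (hc j) 1 (c k) (mem_one_smul 𝒜 (hc k))), fun k => ?_, ?_⟩
  · rw [res_gsec, res_gsec]
    exact (gsec_eq_away_smul 𝒜 n (hc j) (hc k)).symm
  · have hbij := Groth.Agent.Lib.Helper27ProjChartApp.bijective_awayToSection (hc j) hn
    have e := toBase_appLE 𝒜 (hc j) hn
    rw [Iso.inv_comp_eq] at e
    have h1 : Set.range ((Groth.Agent.Helper13ProjUP.toBase 𝒜).appLE ⊤
        (Proj.basicOpen 𝒜 (c j)) hleW).hom =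
        (Proj.awayToSection 𝒜 (c j)).hom '' Set.range (strAway 𝒜 (c j)) := by
      have e' : (Groth.Agent.Helper13ProjUP.toBase 𝒜).appLE ⊤ (Proj.basicOpen 𝒜 (c j)) hleW = _ := e
      rw [e']
      ext t
      constructor
      · rintro ⟨x, rfl⟩
        exact ⟨_, ⟨(Scheme.ΓSpecIso (CommRingCat.of R)).hom.hom x, rfl⟩, rfl⟩
      · rintro ⟨_, ⟨r, rfl⟩, rfl⟩
        refine ⟨(Scheme.ΓSpecIso (CommRingCat.of R)).inv.hom r, ?_⟩
        have h2 : (Scheme.ΓSpecIso (CommRingCat.of R)).hom.hom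
            ((Scheme.ΓSpecIso (CommRingCat.of R)).inv.hom r) = r :=
          congrArg (fun f => f.hom r) (Scheme.ΓSpecIso (CommRingCat.of R)).inv_hom_id
        change (Proj.awayToSection 𝒜 (c j)).hom (strAway 𝒜 (c j)
          ((Scheme.ΓSpecIso (CommRingCat.of R)).hom.hom
            ((Scheme.ΓSpecIso (CommRingCat.of R)).inv.hom r))) = _
        rw [h2]
    have h3 : Set.range (fun k => (Proj.awayToSection 𝒜 (c j)).hom
        (Away.mk 𝒜 (hc j) 1 (c k) (mem_one_smul 𝒜 (hc k)))) =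
        (Proj.awayToSection 𝒜 (c j)).hom '' Set.range (fun k =>
          Away.mk 𝒜 (hc j) 1 (c k) (mem_one_smul 𝒜 (hc k))) := by
      rw [← Set.range_comp]
      rfl
    rw [h1, h3, ← Set.image_union, ← RingHom.map_closure, hj, ← RingHom.range_eq_map,
      RingHom.range_eq_top]
    exact hbij.2

variable {s : ℕ} (f : Fin s → A) (deg : Fin s → ℕ)

theorem wt_single (i : Fin s) (m : ℕ) : wt deg (Pi.single i m) = m * deg i := by
  classical
  unfold wt
  rw [Finset.sum_eq_single i]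
  · rw [Pi.single_eq_same, smul_eq_mul]
  · intro j _ hj
    rw [Pi.single_eq_of_ne hj, zero_smul]
  · intro h
    exact absurd (Finset.mem_univ i) h

theorem le_wt (hdeg : ∀ i, 0 < deg i) (e : Fin s → ℕ) (i : Fin s) : e i ≤ wt deg e := by
  have h1 : e i • deg i ≤ wt deg e :=
    Finset.single_le_sum (f := fun i => e i • deg i) (fun _ _ => Nat.zero_le _) (Finset.mem_univ i)
  have h2 : e i ≤ e i • deg i := by
    simp only [smul_eq_mul]
    exact Nat.le_mul_of_pos_right _ (hdeg i)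
  exact h2.trans h1

/-- the finite set of exponent vectors of weight `n` -/
noncomputable def Efin (n : ℕ) : Finset (Fin s → ℕ) :=
  (Fintype.piFinset fun _ => Finset.range (n + 1)).filter (fun e => wt deg e = n)

theorem mem_Efin (hdeg : ∀ i, 0 < deg i) (n : ℕ) (e : Fin s → ℕ) :
    e ∈ Efin deg n ↔ wt deg e = n := by
  unfold Efin
  rw [Finset.mem_filter, Fintype.mem_piFinset]
  constructor
  · exact fun h => h.2
  · intro h
    refine ⟨fun i => ?_, h⟩
    rw [Finset.mem_range]
    have := le_wt deg hdeg e i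
    omega

/-- the sections: `0` and the monomials of weight `n` -/
noncomputable def cMon (n : ℕ) : Option {e // e ∈ Efin deg n} → A
  | none => 0
  | some e => mon f e.1

variable {𝒜 f deg}

theorem cMon_mem (hdeg : ∀ i, 0 < deg i) (hf : ∀ i, f i ∈ 𝒜 (deg i)) (n : ℕ) :
    ∀ k, cMon f deg n k ∈ 𝒜 n := by
  rintro (_ | e)
  · exact zero_mem _
  · have h := (mem_Efin deg hdeg n e.1).mp e.2
    have := mon_mem (𝒜 := 𝒜) hf e.1
    rwa [h] at this

theorem exists_closedImmersion_lcm (hdeg : ∀ i, 0 < deg i) (hf : ∀ i, f i ∈ 𝒜 (deg i))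
    (hgen : Algebra.adjoin R (Set.range f) = ⊤) (a : ℕ) (ha : 0 < a) (has : s - 1 ≤ a)
    (hsurj : Function.Surjective (algebraMap R (𝒜 0))) [Algebra.FiniteType (𝒜 0) A] :
    ∃ (M : ℕ) (i : Proj 𝒜 ⟶ CohB1.ProjSpaceOver M (Spec (CommRingCat.of R))),
      IsClosedImmersion i ∧
      i ≫ pullback.snd (CohB1.ProjSpace.toSpec M (ULift.{u} ℤ))
        (specULiftZIsTerminal.from (Spec (CommRingCat.of R))) = Groth.Agent.Helper13ProjUP.toBase 𝒜 ∧
      Nonempty (GrTilde.tilde 𝒜 𝒜 ((a * Finset.univ.lcm deg : ℕ) : ℤ) ≅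
        (Scheme.Modules.pullback i).obj (Twist.twistOver M (Spec (CommRingCat.of R)) 1)) := by
  classical
  set n := a * Finset.univ.lcm deg with hn
  have hlpos : 0 < Finset.univ.lcm deg := by
    apply Nat.pos_of_ne_zero
    rw [Ne, Finset.lcm_eq_zero_iff]
    simp only [Finset.mem_univ, true_and, not_exists]
    intro i
    exact Nat.pos_iff_ne_zero.mp (hdeg i)
  have hnpos : 0 < n := Nat.mul_pos ha hlpos
  have hdvd : ∀ i, deg i ∣ n := fun i =>
    (Finset.dvd_lcm (Finset.mem_univ i)).trans (Dvd.intro_left a rfl)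
  have hc := cMon_mem (𝒜 := 𝒜) hdeg hf n
  -- the special exponent vectors
  have hEi : ∀ i, (Pi.single i (n / deg i) : Fin s → ℕ) ∈ Efin deg n := fun i => by
    rw [mem_Efin deg hdeg, wt_single, Nat.div_mul_cancel (hdvd i)]
  have hmpos : ∀ i, 0 < n / deg i := fun i =>
    Nat.div_pos (Nat.le_of_dvd hnpos (hdvd i)) (hdeg i)
  refine exists_closedImmersion_κ 𝒜 n (cMon f deg n) hc hnpos
    {k | ∃ i, k = some ⟨Pi.single i (n / deg i), hEi i⟩} ?_ ?_ hsurj
  · intro x
    have hex : ∃ i, f i ∉ (show ProjectiveSpectrum 𝒜 from x).asHomogeneousIdeal := by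
      by_contra hcon
      push Not at hcon
      have h1 : Ideal.span (Set.range f) ≤
          (show ProjectiveSpectrum 𝒜 from x).asHomogeneousIdeal.toIdeal := by
        rw [Ideal.span_le]
        rintro _ ⟨i, rfl⟩
        exact hcon i
      exact (show ProjectiveSpectrum 𝒜 from x).not_irrelevant_le
        ((Groth.Agent.Lib.Helper27ProjSpaceBC.irrelevant_le_span 𝒜 f deg hf hgen).trans h1)
    obtain ⟨i, hi⟩ := hex
    refine ⟨some ⟨Pi.single i (n / deg i), hEi i⟩, ⟨i, rfl⟩, ?_⟩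
    change x ∈ Proj.basicOpen 𝒜 (mon f (Pi.single i (n / deg i)))
    rw [mon_single, Proj.basicOpen_pow 𝒜 (f i) _ (hmpos i)]
    exact (ProjectiveSpectrum.mem_basicOpen 𝒜 (f i) x).mpr hi
  · rintro _ ⟨i, rfl⟩ W hW hleW
    refine hgen_aux' 𝒜 n (cMon f deg n) hc hnpos _ ?_ W hW hleW
    refine subring_eq_top_lcm hdeg hf hgen a has (hc _) _ (fun r => ?_) (fun e he => ?_)
    · exact Subring.subset_closure (Or.inl ⟨r, rfl⟩)
    · apply Subring.subset_closure
      right
      have hmem : e ∈ Efin deg n := by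
        rw [mem_Efin deg hdeg]
        simpa using he
      exact ⟨some ⟨e, hmem⟩, rfl⟩

end assemble

end Groth.Agent.Lib.Helper27VeryAmpleLcm
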