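import Groth.Agent.Lib.Helper23VeryAmple
import Groth.Agent.Lib.Helper27TwistAmple2
import Groth.Agent.Lib.Helper27ProjChartApp
import Groth.Agent.Lib.Helper27ProjSpaceFibres
import Groth.Agent.Lib.Helper20QuotCat

/-!
# `O(n)` on `Proj 𝒜` is very ample (closed immersion into `P^N_R` with `O(n) ≅ i^* O(1)`) when
finitely many sections of degree `n` generate the charts (helper27)
-/

set_option autoImplicit false
set_option linter.unusedSectionVars false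
set_option linter.style.haveILetI false
universe u

open CategoryTheory CategoryTheory.Limits AlgebraicGeometry TopologicalSpace Opposite
  HomogeneousLocalization
open Groth.Agent.Lib.Helper23.SecTw Groth.Agent.Lib.Helper6 Groth.Agent.Lib.Helper27GrTildeSect
open Groth.Agent.Helper13ProjUP

namespace Groth.Agent.Lib.Helper27VeryAmpleProj

variable {R A : Type u} [CommRing R] [CommRing A] [Algebra R A] (𝒜 : ℕ → Submodule R A)
  [GradedAlgebra 𝒜]

/-- the structure map `R → (A_f)₀` -/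
noncomputable def strAway (f : A) : R →+* Away 𝒜 f :=
  (fromZeroRingHom 𝒜 (Submonoid.powers f)).comp (algebraMap R (𝒜 0))

theorem toBase_appLE {m : ℕ} {f : A} (hf : f ∈ 𝒜 m) (hm : 0 < m) :
    (Scheme.ΓSpecIso (CommRingCat.of R)).inv ≫
        (toBase 𝒜).appLE ⊤ (Proj.basicOpen 𝒜 f) le_top =
      CommRingCat.ofHom (strAway 𝒜 f) ≫ Proj.awayToSection 𝒜 f := by
  have h1 := Groth.Agent.Lib.Helper20.ι_comp_eq_of_affine (toBase 𝒜)
    (isAffineOpen_top (Spec (CommRingCat.of R))) (Proj.basicOpen 𝒜 f) le_top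
  rw [IsAffineOpen.fromSpec_top, Scheme.isoSpec_Spec_inv, ← Spec.map_comp] at h1
  have h2 : (Proj.basicOpen 𝒜 f).ι ≫ toBase 𝒜 =
      (Proj.basicOpen 𝒜 f).toSpecΓ ≫
        Spec.map (CommRingCat.ofHom (strAway 𝒜 f) ≫ Proj.awayToSection 𝒜 f) := by
    rw [Groth.Agent.Lib.Helper27ProjChartApp.basicOpen_ι_eq hf hm, Category.assoc, toBase,
      Proj.awayι_toSpecZero_assoc, Proj.basicOpenIsoSpec_hom, Proj.basicOpenToSpec,
      Category.assoc, ← Spec.map_comp, ← Spec.map_comp]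
    rfl
  rw [h1] at h2
  have hiso : IsIso (Proj.basicOpen 𝒜 f).toSpecΓ :=
    (inferInstance : IsIso (Proj.isAffineOpen_basicOpen 𝒜 f hf hm).isoSpec.hom)
  exact Spec.map_injective ((cancel_epi _).mp h2)

theorem mem_one_smul {n : ℕ} {b : A} (hb : b ∈ 𝒜 n) : b ∈ 𝒜 (1 • n) := by
  simpa using hb

/-- on `D₊(G)`: `b / 1 = (b / G) • (G / 1)` for `b, G` of degree `n`. -/
theorem gsec_eq_away_smul (n : ℕ) {G b : A} (hG : G ∈ 𝒜 n) (hb : b ∈ 𝒜 n) :
    gsec 𝒜 n (Proj.basicOpen 𝒜 G) hb =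
      (Proj.awayToSection 𝒜 G).hom (Away.mk 𝒜 hG 1 b (mem_one_smul 𝒜 hb)) •
        gsec 𝒜 n (Proj.basicOpen 𝒜 G) hG := by
  refine (fracSec_eq_smul_iff (n : ℤ) (Proj.basicOpen 𝒜 G) hb
    (SetLike.GradedOne.one_mem : (1 : A) ∈ 𝒜 0) (by simp) (fun y => one_not_mem 𝒜 y.1) hG
    (SetLike.GradedOne.one_mem : (1 : A) ∈ 𝒜 0) (by simp) (fun y => one_not_mem 𝒜 y.1) _).mpr ?_
  intro y hy
  rw [funVal_awayToSection_val hG 1 b (mem_one_smul 𝒜 hb) y hy, Localization.mk_mul,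
    Localization.mk_eq_mk_iff, Localization.r_iff_exists]
  refine ⟨1, ?_⟩
  simp only [OneMemClass.coe_one, one_mul, Submonoid.coe_mul, mul_one, pow_one]
  ring

section main

variable (n : ℕ) {N : ℕ} (c : Fin (N + 1) → A) (hc : ∀ k, c k ∈ 𝒜 n)

theorem hgen_aux (hn : 0 < n) (j : Fin (N + 1))
    (hj : Subring.closure (Set.range (strAway 𝒜 (c j)) ∪
      Set.range (fun k => Away.mk 𝒜 (hc j) 1 (c k) (mem_one_smul 𝒜 (hc k)))) = ⊤)
    (W : (Proj 𝒜).Opens) (hW : W = Proj.basicOpen 𝒜 (c j)) (hleW : W ≤ (toBase 𝒜) ⁻¹ᵁ ⊤) :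
    ∃ a : Fin (N + 1) → Γ(Proj 𝒜, W),
      (∀ k, a k • res (GrTilde.tilde 𝒜 𝒜 (n : ℤ)) (le_top : W ≤ ⊤) (gsec 𝒜 n ⊤ (hc j)) =
        res (GrTilde.tilde 𝒜 𝒜 (n : ℤ)) le_top (gsec 𝒜 n ⊤ (hc k))) ∧
      Subring.closure (Set.range ((toBase 𝒜).appLE ⊤ W hleW).hom ∪ Set.range a) = ⊤ := by
  subst hW
  refine ⟨fun k => (Proj.awayToSection 𝒜 (c j)).hom
    (Away.mk 𝒜 (hc j) 1 (c k) (mem_one_smul 𝒜 (hc k))), fun k => ?_, ?_⟩
  · rw [res_gsec, res_gsec]
    exact (gsec_eq_away_smul 𝒜 n (hc j) (hc k)).symm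
  · have hbij := Groth.Agent.Lib.Helper27ProjChartApp.bijective_awayToSection (hc j) hn
    have e := toBase_appLE 𝒜 (hc j) hn
    rw [Iso.inv_comp_eq] at e
    have h1 : Set.range ((toBase 𝒜).appLE ⊤ (Proj.basicOpen 𝒜 (c j)) hleW).hom =
        (Proj.awayToSection 𝒜 (c j)).hom '' Set.range (strAway 𝒜 (c j)) := by
      have e' : (toBase 𝒜).appLE ⊤ (Proj.basicOpen 𝒜 (c j)) hleW = _ := e
      rw [e']
      ext t
      constructor
      · rintro ⟨x, rfl⟩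
        exact ⟨_, ⟨(Scheme.ΓSpecIso (CommRingCat.of R)).hom.hom x, rfl⟩, rfl⟩
      · rintro ⟨_, ⟨r, rfl⟩, rfl⟩
        refine ⟨(Scheme.ΓSpecIso (CommRingCat.of R)).inv.hom r, ?_⟩
        have h2 : (Scheme.ΓSpecIso (CommRingCat.of R)).hom.hom
            ((Scheme.ΓSpecIso (CommRingCat.of R)).inv.hom r) = r :=
          congrArg (fun f => f.hom r) (Scheme.ΓSpecIso (CommRingCat.of R)).inv_hom_id
        change (Proj.awayToSection 𝒜 (c j)).hom (strAway 𝒜 (c j)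
          ((Scheme.ΓSpecIso (CommRingCat.of R)).hom.hom
            ((Scheme.ΓSpecIso (CommRingCat.of R)).inv.hom r))) = _
        rw [h2]
    have h3 : Set.range (fun k => (Proj.awayToSection 𝒜 (c j)).hom
        (Away.mk 𝒜 (hc j) 1 (c k) (mem_one_smul 𝒜 (hc k)))) =
        (Proj.awayToSection 𝒜 (c j)).hom '' Set.range (fun k =>
          Away.mk 𝒜 (hc j) 1 (c k) (mem_one_smul 𝒜 (hc k))) := by
      rw [← Set.range_comp]
      rfl
    rw [h1, h3, ← Set.image_union, ← RingHom.map_closure, hj, ← RingHom.range_eq_map,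
      RingHom.range_eq_top]
    exact hbij.2

open Groth.Agent.Lib.Helper23.VeryAmple in
set_option backward.isDefEq.respectTransparency.types false in
/-- main theorem, chart generation hypothesis stated on sections over `W = D₊(c j)` -/
theorem exists_closedImmersion_W (hn : 0 < n) (J : Set (Fin (N + 1)))
    (hcov : ∀ x : Proj 𝒜, ∃ j ∈ J, x ∈ Proj.basicOpen 𝒜 (c j))
    (hgenW : ∀ j ∈ J, ∀ (W : (Proj 𝒜).Opens) (_ : W = Proj.basicOpen 𝒜 (c j))
      (hleW : W ≤ (toBase 𝒜) ⁻¹ᵁ ⊤),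
      ∃ a : Fin (N + 1) → Γ(Proj 𝒜, W),
        (∀ k, a k • res (GrTilde.tilde 𝒜 𝒜 (n : ℤ)) (le_top : W ≤ ⊤) (gsec 𝒜 n ⊤ (hc j)) =
          res (GrTilde.tilde 𝒜 𝒜 (n : ℤ)) le_top (gsec 𝒜 n ⊤ (hc k))) ∧
        Subring.closure (Set.range ((toBase 𝒜).appLE ⊤ W hleW).hom ∪ Set.range a) = ⊤)
    (hsurj : Function.Surjective (algebraMap R (𝒜 0))) [Algebra.FiniteType (𝒜 0) A] :
    ∃ (M : ℕ) (i : Proj 𝒜 ⟶ CohB1.ProjSpaceOver M (Spec (CommRingCat.of R))),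
      IsClosedImmersion i ∧
      i ≫ pullback.snd (CohB1.ProjSpace.toSpec M (ULift.{u} ℤ))
        (specULiftZIsTerminal.from (Spec (CommRingCat.of R))) = toBase 𝒜 ∧
      Nonempty (GrTilde.tilde 𝒜 𝒜 (n : ℤ) ≅
        (Scheme.Modules.pullback i).obj (Twist.twistOver M (Spec (CommRingCat.of R)) 1)) := by
  have hcov' : ∀ y : Proj 𝒜, ∃ k, c k ∉ (show ProjectiveSpectrum 𝒜 from y).asHomogeneousIdeal :=
    fun y => by
      obtain ⟨j, -, hj⟩ := hcov y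
      exact ⟨j, (ProjectiveSpectrum.mem_basicOpen 𝒜 (c j) y).mp hj⟩
  have hL := isInvertible_of_cover 𝒜 n c hc hcov'
  have hloc : ∀ j, CohB1.genLocus (GrTilde.tilde 𝒜 𝒜 (n : ℤ))
      (secHom (GrTilde.tilde 𝒜 𝒜 (n : ℤ)) (gsec 𝒜 n ⊤ (hc j))) = Proj.basicOpen 𝒜 (c j) :=
    genLocus_secHom_gsec 𝒜 n c hc hcov'
  have key := isRelVeryAmplePn_of_sections (toBase 𝒜) (GrTilde.tilde 𝒜 𝒜 (n : ℤ)) hL N
    (fun j => (gsec 𝒜 n ⊤ (hc j) : ProjUP.Γm (GrTilde.tilde 𝒜 𝒜 (n : ℤ)))) J (fun _ => ⊤)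
    (fun x => by
      obtain ⟨j, hjJ, hj⟩ := hcov x
      exact ⟨j, hjJ, by rw [hloc]; exact hj⟩)
    (fun j _ => by rw [hloc]; exact Proj.isAffineOpen_basicOpen 𝒜 (c j) (hc j) hn)
    (fun j _ => isAffineOpen_top _)
    (fun j _ _ _ => trivial)
    (fun j hj => hgenW j hj _ (hloc j) _)
  obtain ⟨M, i, himm, hi2, ⟨Φ⟩⟩ := key
  refine ⟨M, i, ?_, hi2, ⟨Φ⟩⟩
  -- closed immersion via properness
  haveI h1 : IsProper (Proj.toSpecZero 𝒜) := inferInstance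
  haveI h2 : IsClosedImmersion (Spec.map (CommRingCat.ofHom (algebraMap R (𝒜 0)))) :=
    IsClosedImmersion.spec_of_surjective _ hsurj
  haveI h3 : IsProper (toBase 𝒜) := by
    unfold toBase
    infer_instance
  haveI h4 : IsProper (pullback.snd (CohB1.ProjSpace.toSpec M (ULift.{u} ℤ))
      (specULiftZIsTerminal.from (Spec (CommRingCat.of R)))) :=
    Groth.Agent.Lib.Helper27ProjSpaceFibres.isProper_toBase M _
  haveI h4' : IsSeparated (pullback.snd (CohB1.ProjSpace.toSpec M (ULift.{u} ℤ))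
      (specULiftZIsTerminal.from (Spec (CommRingCat.of R)))) := h4.toIsSeparated
  haveI h5 : IsProper (i ≫ pullback.snd (CohB1.ProjSpace.toSpec M (ULift.{u} ℤ))
      (specULiftZIsTerminal.from (Spec (CommRingCat.of R)))) := by rw [hi2]; exact h3
  haveI h6 : IsProper i := @IsProper.of_comp _ _ _ i (pullback.snd (CohB1.ProjSpace.toSpec M (ULift.{u} ℤ))
      (specULiftZIsTerminal.from (Spec (CommRingCat.of R)))) h5 h4'
  exact IsClosedImmersion.of_isPreimmersion i i.isClosedMap.isClosed_range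

end main

section reindex

variable (n : ℕ) {κ : Type*} [Fintype κ] [Nonempty κ] (c : κ → A) (hc : ∀ k, c k ∈ 𝒜 n)

/-- main theorem over a finite nonempty index type -/
theorem exists_closedImmersion_κ (hn : 0 < n) (J : Set κ)
    (hcov : ∀ x : Proj 𝒜, ∃ j ∈ J, x ∈ Proj.basicOpen 𝒜 (c j))
    (hgenW : ∀ j ∈ J, ∀ (W : (Proj 𝒜).Opens) (_ : W = Proj.basicOpen 𝒜 (c j))
      (hleW : W ≤ (toBase 𝒜) ⁻¹ᵁ ⊤),
      ∃ a : κ → Γ(Proj 𝒜, W),
        (∀ k, a k • res (GrTilde.tilde 𝒜 𝒜 (n : ℤ)) (le_top : W ≤ ⊤) (gsec 𝒜 n ⊤ (hc j)) =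
          res (GrTilde.tilde 𝒜 𝒜 (n : ℤ)) le_top (gsec 𝒜 n ⊤ (hc k))) ∧
        Subring.closure (Set.range ((toBase 𝒜).appLE ⊤ W hleW).hom ∪ Set.range a) = ⊤)
    (hsurj : Function.Surjective (algebraMap R (𝒜 0))) [Algebra.FiniteType (𝒜 0) A] :
    ∃ (M : ℕ) (i : Proj 𝒜 ⟶ CohB1.ProjSpaceOver M (Spec (CommRingCat.of R))),
      IsClosedImmersion i ∧
      i ≫ pullback.snd (CohB1.ProjSpace.toSpec M (ULift.{u} ℤ))
        (specULiftZIsTerminal.from (Spec (CommRingCat.of R))) = toBase 𝒜 ∧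
      Nonempty (GrTilde.tilde 𝒜 𝒜 (n : ℤ) ≅
        (Scheme.Modules.pullback i).obj (Twist.twistOver M (Spec (CommRingCat.of R)) 1)) := by
  obtain ⟨N, hN⟩ : ∃ N, Fintype.card κ = N + 1 :=
    Nat.exists_eq_succ_of_ne_zero Fintype.card_ne_zero
  let e : κ ≃ Fin (N + 1) := (Fintype.equivFin κ).trans (finCongr hN)
  refine exists_closedImmersion_W 𝒜 n (fun k => c (e.symm k)) (fun k => hc (e.symm k)) hn
    {j | e.symm j ∈ J} ?_ ?_ hsurj
  · intro x
    obtain ⟨j, hjJ, hj⟩ := hcov x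
    exact ⟨e j, by simpa using hjJ, by simpa using hj⟩
  · intro j hj W hW hleW
    obtain ⟨a, ha1, ha2⟩ := hgenW (e.symm j) hj W hW hleW
    refine ⟨fun k => a (e.symm k), fun k => ha1 (e.symm k), ?_⟩
    have : Set.range (fun k => a (e.symm k)) = Set.range a :=
      e.symm.surjective.range_comp a
    rw [this]
    exact ha2

end reindex

end Groth.Agent.Lib.Helper27VeryAmpleProj
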