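import Mathlib.Tactic
import Groth.Agent.Lib.Helper27WittHomog

/-!
# Evaluating weighted homogeneous integer polynomials in a multiplicatively filtered algebra
(helper27)
-/

namespace Groth.Agent.Lib.Helper27

open MvPolynomial Finset

section Eval

variable {A K : Type*} [CommRing A] [CommRing K] [Algebra A K]
  (M : ℕ → Submodule A K) {σ : Type*} (w : σ → ℕ) (x : σ → K)

/-- Monomials in multipliers are multipliers of the filtration. -/
theorem prod_mul_mem_of_multiplier
    (hmult : ∀ s j (y : K), y ∈ M j → x s * y ∈ M (w s + j)) (d : σ →₀ ℕ) :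
    ∀ j (y : K), y ∈ M j → (d.prod fun s k => x s ^ k) * y ∈ M (Finsupp.weight w d + j) := by
  classical
  induction d using Finsupp.induction_linear with
  | zero =>
    intro j y hy
    simpa using hy
  | add d₁ d₂ h₁ h₂ =>
    intro j y hy
    rw [Finsupp.prod_add_index' (fun _ => pow_zero _) (fun _ _ _ => pow_add _ _ _), map_add,
      mul_assoc, add_assoc]
    exact h₁ _ _ (h₂ _ _ hy)
  | single s k =>
    intro j y hy
    rw [Finsupp.prod_single_index (h := fun s k => x s ^ k) (pow_zero _), Finsupp.weight_apply,
      Finsupp.sum_single_index (h := fun i c => c • w i) (zero_smul _ _), smul_eq_mul]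
    induction k with
    | zero => simpa using hy
    | succ k ih =>
      rw [pow_succ', mul_assoc, add_mul, one_mul, add_comm (k * w s), add_assoc]
      exact hmult s _ _ ih

/-- A monomial of positive weight in elements of the filtration lies in the filtration. -/
theorem prod_mem_of_weight_pos
    (hmult : ∀ s j (y : K), y ∈ M j → x s * y ∈ M (w s + j))
    (hpos : ∀ s, 0 < w s → x s ∈ M (w s)) (d : σ →₀ ℕ) (hd : 0 < Finsupp.weight w d) :
    (d.prod fun s k => x s ^ k) ∈ M (Finsupp.weight w d) := by
  classical
  -- find a variable of positive weight in the support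
  have : ∃ s ∈ d.support, 0 < w s := by
    by_contra hcon
    push Not at hcon
    have : Finsupp.weight w d = 0 := by
      rw [Finsupp.weight_apply, Finsupp.sum]
      apply Finset.sum_eq_zero
      intro s hs
      have := hcon s hs
      simp only [nonpos_iff_eq_zero] at this
      rw [this, smul_zero]
    omega
  obtain ⟨s, hs, hws⟩ := this
  have hds : 1 ≤ d s := by
    have := Finsupp.mem_support_iff.mp hs
    omega
  have hdecomp : d = (d - Finsupp.single s 1) + Finsupp.single s 1 := by
    ext t
    by_cases hts : t = s
    · subst hts; simp; omega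
    · simp [Finsupp.single_apply, Ne.symm hts]
  have h1 := prod_mul_mem_of_multiplier M w x hmult (d - Finsupp.single s 1) (w s) (x s) (hpos s hws)
  have hprod : (d.prod fun s k => x s ^ k) =
      ((d - Finsupp.single s 1).prod fun s k => x s ^ k) * x s := by
    conv_lhs => rw [hdecomp]
    rw [Finsupp.prod_add_index' (fun _ => pow_zero _) (fun _ _ _ => pow_add _ _ _),
      Finsupp.prod_single_index (h := fun s k => x s ^ k) (pow_zero _), pow_one]
  have hwt : Finsupp.weight w d = Finsupp.weight w (d - Finsupp.single s 1) + w s := by
    conv_lhs => rw [hdecomp]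
    rw [map_add, Finsupp.weight_apply (w := w) (f := Finsupp.single s 1),
      Finsupp.sum_single_index (h := fun i c => c • w i) (zero_smul _ _), one_smul]
  rw [hprod, hwt]
  exact h1

/-- Evaluating a weighted homogeneous integer polynomial of positive degree `m` at elements of a
multiplicative filtration (variables of positive weight in the corresponding piece, all variables
multipliers) gives an element of `M m`. -/
theorem aeval_mem_of_isWeightedHomogeneous
    (hmult : ∀ s j (y : K), y ∈ M j → x s * y ∈ M (w s + j))
    (hpos : ∀ s, 0 < w s → x s ∈ M (w s))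
    (φ : MvPolynomial σ ℤ) (m : ℕ) (hm : 0 < m) (hφ : IsWeightedHomogeneous w φ m) :
    aeval x φ ∈ M m := by
  classical
  rw [aeval_def, eval₂_eq]
  apply Submodule.sum_mem
  intro d hd
  have hcoeff : coeff d φ ≠ 0 := by simpa using hd
  have hwd : Finsupp.weight w d = m := hφ hcoeff
  have hmem := prod_mem_of_weight_pos M w x hmult hpos d (by omega)
  rw [hwd] at hmem
  have : (algebraMap ℤ K) (coeff d φ) * ∏ i ∈ d.support, x i ^ d i =
      (coeff d φ) • (d.prod fun s k => x s ^ k) := by
    rw [zsmul_eq_mul]; rfl
  rw [this]
  exact zsmul_mem hmem _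

end Eval

end Groth.Agent.Lib.Helper27
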