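import Mathlib
import Groth.Agent.Lib.Helper28AUReduce

set_option autoImplicit false
set_option linter.unusedSectionVars false
set_option linter.style.haveILetI false
set_option linter.deprecated false
universe u

namespace Groth.Agent.Lib.Helper28
open IsLocalRing TensorProduct

section PartC'

variable {R : Type u} [CommRing R] [IsLocalRing R] [IsNoetherianRing R]
  (R' : Type u) [CommRing R'] [Algebra R R'] [Module.Finite R R']

/-- If `R → R'` is finite and the completions of all localizations of `R'` at primes
are reduced, then `R̂ ⊗ R'` is reduced. -/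
theorem isReduced_tensor_adicCompletion_of_finite
    (h : ∀ (P : Ideal R') [P.IsPrime], IsReduced (EGA4.Cpl (Localization.AtPrime P))) :
    IsReduced (AdicCompletion (maximalIdeal R) R ⊗[R] R') := by
  haveI hNC : IsNoetherianRing (AdicCompletion (maximalIdeal R) R) :=
    Groth.Agent.Lib.Helper19.isNoetherianRing_adicCompletion _
  haveI : IsNoetherianRing R' := IsNoetherianRing.of_finite R R'
  -- the ring `T = C ⊗ R'`
  haveI : IsNoetherianRing (AdicCompletion (maximalIdeal R) R ⊗[R] R') :=
    IsNoetherianRing.of_finite (AdicCompletion (maximalIdeal R) R) _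
  letI algR' : Algebra R' (AdicCompletion (maximalIdeal R) R ⊗[R] R') :=
    Algebra.TensorProduct.rightAlgebra
  -- flatness over `R'`
  haveI hflat : Module.Flat R' (AdicCompletion (maximalIdeal R) R ⊗[R] R') := by
    let e0 := Algebra.TensorProduct.comm R (AdicCompletion (maximalIdeal R) R) R'
    let e : (AdicCompletion (maximalIdeal R) R ⊗[R] R') ≃ₗ[R']
        (R' ⊗[R] AdicCompletion (maximalIdeal R) R) :=
      { e0.toLinearEquiv with
        map_smul' := by
          intro r' t
          simp only [AddHom.toFun_eq_coe, LinearMap.coe_toAddHom, LinearEquiv.coe_coe,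
            AlgEquiv.toLinearEquiv_apply, RingHom.id_apply]
          induction t using TensorProduct.induction_on with
          | zero => simp
          | tmul c s =>
            rw [Algebra.smul_def]
            change e0 ((1 ⊗ₜ[R] r') * (c ⊗ₜ[R] s)) = r' • e0 (c ⊗ₜ[R] s)
            rw [Algebra.TensorProduct.tmul_mul_tmul, one_mul]
            simp only [e0, Algebra.TensorProduct.comm_tmul, TensorProduct.smul_tmul', smul_eq_mul]
          | add a b ha hb => rw [smul_add, map_add, ha, hb, map_add, smul_add] }
    exact Module.Flat.of_linearEquiv e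
  -- `m T` is in the image of `m C`
  have hmT : ∀ a ∈ maximalIdeal R, ∀ t : AdicCompletion (maximalIdeal R) R ⊗[R] R',
      algebraMap (AdicCompletion (maximalIdeal R) R) (AdicCompletion (maximalIdeal R) R ⊗[R] R')
        (algebraMap R _ a) * t ∈
      ((maximalIdeal R).map (algebraMap R R')).map
        (algebraMap R' (AdicCompletion (maximalIdeal R) R ⊗[R] R')) := by
    intro a ha t
    refine Ideal.mul_mem_right _ _ ?_
    have e1 : algebraMap (AdicCompletion (maximalIdeal R) R)
        (AdicCompletion (maximalIdeal R) R ⊗[R] R') (algebraMap R _ a) =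
        algebraMap R' (AdicCompletion (maximalIdeal R) R ⊗[R] R') (algebraMap R R' a) := by
      change (algebraMap R (AdicCompletion (maximalIdeal R) R) a) ⊗ₜ[R] (1 : R') =
        (1 : AdicCompletion (maximalIdeal R) R) ⊗ₜ[R] (algebraMap R R' a)
      rw [Algebra.algebraMap_eq_smul_one, Algebra.algebraMap_eq_smul_one, TensorProduct.smul_tmul]
    rw [e1]
    exact Ideal.mem_map_of_mem _ (Ideal.mem_map_of_mem _ ha)
  have hmCT : ∀ c ∈ (maximalIdeal R).map (algebraMap R (AdicCompletion (maximalIdeal R) R)),
      algebraMap (AdicCompletion (maximalIdeal R) R) (AdicCompletion (maximalIdeal R) R ⊗[R] R') c ∈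
      ((maximalIdeal R).map (algebraMap R R')).map
        (algebraMap R' (AdicCompletion (maximalIdeal R) R ⊗[R] R')) := by
    intro c hc
    have : (maximalIdeal R).map (algebraMap R (AdicCompletion (maximalIdeal R) R)) ≤
        (((maximalIdeal R).map (algebraMap R R')).map
          (algebraMap R' (AdicCompletion (maximalIdeal R) R ⊗[R] R'))).comap
          (algebraMap (AdicCompletion (maximalIdeal R) R)
            (AdicCompletion (maximalIdeal R) R ⊗[R] R')) := by
      rw [Ideal.map_le_iff_le_comap]
      intro a ha
      rw [Ideal.mem_comap, Ideal.mem_comap]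
      have := hmT a ha 1
      rwa [mul_one] at this
    exact this hc
  have hsurj : ∀ t : AdicCompletion (maximalIdeal R) R ⊗[R] R', ∃ r' : R',
      t - algebraMap R' (AdicCompletion (maximalIdeal R) R ⊗[R] R') r' ∈
      ((maximalIdeal R).map (algebraMap R R')).map
        (algebraMap R' (AdicCompletion (maximalIdeal R) R ⊗[R] R')) := by
    intro t
    induction t using TensorProduct.induction_on with
    | zero => exact ⟨0, by simp⟩
    | tmul c s =>
      obtain ⟨a, ha⟩ := exists_sub_mem_map_adicCompletion (maximalIdeal R) c
      refine ⟨a • s, ?_⟩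
      have e2 : c ⊗ₜ[R] s - algebraMap R' (AdicCompletion (maximalIdeal R) R ⊗[R] R') (a • s) =
          algebraMap (AdicCompletion (maximalIdeal R) R) (AdicCompletion (maximalIdeal R) R ⊗[R] R')
            (c - algebraMap R _ a) * ((1 : AdicCompletion (maximalIdeal R) R) ⊗ₜ[R] s) := by
        change c ⊗ₜ[R] s - (1 : AdicCompletion (maximalIdeal R) R) ⊗ₜ[R] (a • s) =
          ((c - algebraMap R _ a) ⊗ₜ[R] (1 : R')) * ((1 : AdicCompletion (maximalIdeal R) R) ⊗ₜ[R] s)
        rw [Algebra.TensorProduct.tmul_mul_tmul, mul_one, one_mul, TensorProduct.sub_tmul,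
          ← TensorProduct.smul_tmul, Algebra.algebraMap_eq_smul_one]
      rw [e2]
      exact Ideal.mul_mem_right _ _ (hmCT _ ha)
    | add x y hx hy =>
      obtain ⟨r1, h1⟩ := hx
      obtain ⟨r2, h2⟩ := hy
      refine ⟨r1 + r2, ?_⟩
      have : x + y - algebraMap R' (AdicCompletion (maximalIdeal R) R ⊗[R] R') (r1 + r2) =
          (x - algebraMap R' _ r1) + (y - algebraMap R' _ r2) := by
        rw [map_add]; ring
      rw [this]
      exact Ideal.add_mem _ h1 h2
  have hTred : IsReduced (AdicCompletion (maximalIdeal R) R ⊗[R] R') := by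
    apply isReduced_of_forall_isReduced_cpl
    intro n hn
    have hn' : ((maximalIdeal R).map (algebraMap R R')).map
        (algebraMap R' (AdicCompletion (maximalIdeal R) R ⊗[R] R')) ≤ n := by
      rw [Ideal.map_map, Ideal.map_le_iff_le_comap]
      intro a ha
      rw [Ideal.mem_comap]
      -- the contraction of `n` to `C` is the maximal ideal
      have hmax : (n.comap (algebraMap (AdicCompletion (maximalIdeal R) R)
          (AdicCompletion (maximalIdeal R) R ⊗[R] R'))).IsMaximal :=
        Ideal.isMaximal_comap_of_isIntegral_of_isMaximal n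
      have heq := IsLocalRing.eq_maximalIdeal hmax
      have h1 : algebraMap R (AdicCompletion (maximalIdeal R) R) a ∈
          maximalIdeal (AdicCompletion (maximalIdeal R) R) :=
        IsLocalRing.map_maximalIdeal_le (algebraMap R _) (Ideal.mem_map_of_mem _ ha)
      rw [← heq, Ideal.mem_comap] at h1
      have e3 : ((algebraMap R' (AdicCompletion (maximalIdeal R) R ⊗[R] R')).comp
          (algebraMap R R')) a = algebraMap (AdicCompletion (maximalIdeal R) R)
          (AdicCompletion (maximalIdeal R) R ⊗[R] R') (algebraMap R _ a) := by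
        change (1 : AdicCompletion (maximalIdeal R) R) ⊗ₜ[R] (algebraMap R R' a) =
          (algebraMap R (AdicCompletion (maximalIdeal R) R) a) ⊗ₜ[R] (1 : R')
        rw [Algebra.algebraMap_eq_smul_one, Algebra.algebraMap_eq_smul_one,
          TensorProduct.smul_tmul]
      rw [e3]
      exact h1
    obtain ⟨alg, hloc, hfl, htow, e, -⟩ :=
      exists_ringEquiv_cpl_localization_of_surjective_mod
        ((maximalIdeal R).map (algebraMap R R')) hsurj n hn'
    haveI := h (n.comap (algebraMap R' (AdicCompletion (maximalIdeal R) R ⊗[R] R')))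
    exact isReduced_of_injective e.symm.toRingHom e.symm.injective
  exact hTred

end PartC'

end Groth.Agent.Lib.Helper28
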