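import Mathlib
import Groth.Agent.Lib.Helper7CplDom
import Groth.Agent.Lib.Helper7Dim1N2
import Groth.Agent.Lib.Helper14Japanese
import Groth.Agent.Lib.Helper28AUNormal
import Groth.Agent.Lib.Helper28GeomRed1
import Groth.Agent.S2657

/-!
# Helper28AlgClosedCpl: for a henselian Noetherian local domain `A` with geometrically normal formal
fibres and integral completion, `Frac Â` is geometrically reduced over `Frac A` and `Frac A` is
algebraically closed in `Frac Â`.
-/

set_option autoImplicit false
universe u

namespace Groth.Agent.Lib.Helper28.AlgClosedCpl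
open TensorProduct IntermediateField

section Key

variable {A C K L : Type u} [CommRing A] [CommRing C] [IsDomain C] [Algebra A C]
  [Field K] [Field L] [Algebra A K] [Algebra C L] [IsFractionRing C L] [Algebra K L] [Algebra A L]
  [IsScalarTower A K L] [IsScalarTower A C L]
  (K' : IntermediateField K L)

/-- the multiplication map `C ⊗[A] A' → L` -/
noncomputable def mulMap : C ⊗[A] (integralClosure A K') →ₐ[A] L :=
  Algebra.TensorProduct.lift (IsScalarTower.toAlgHom A C L)
    ((K'.val.restrictScalars A).comp (integralClosure A K').val)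
    (fun _ _ => Commute.all _ _)

omit [IsDomain C] [IsFractionRing C L] in
theorem mulMap_tmul (c : C) (y : integralClosure A K') :
    mulMap (A := A) (C := C) K' (c ⊗ₜ y) = algebraMap C L c * ((y : K') : L) := by
  simp [mulMap]

theorem mulMap_injective [IsDomain (C ⊗[A] (integralClosure A K'))] :
    Function.Injective (mulMap (A := A) (C := C) K') := by
  rw [injective_iff_map_eq_zero]
  intro d hd
  have hker : RingHom.ker (mulMap (A := A) (C := C) K').toRingHom = ⊥ := by
    apply Ideal.eq_bot_of_comap_eq_bot (R := C)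
    rw [eq_bot_iff]
    intro c hc
    rw [Ideal.mem_comap, RingHom.mem_ker] at hc
    have h1 : algebraMap C L c = 0 := by
      have := mulMap_tmul (A := A) K' c 1
      simp only [OneMemClass.coe_one, mul_one] at this
      rw [← this]
      exact hc
    rw [Ideal.mem_bot]
    exact (map_eq_zero_iff _ (IsFractionRing.injective C L)).mp h1
  have : d ∈ RingHom.ker (mulMap (A := A) (C := C) K').toRingHom := hd
  rw [hker] at this
  exact this

/-- the comparison map `C ⊗[A] A' → L ⊗[K] K'` -/
noncomputable def cmpMap : C ⊗[A] (integralClosure A K') →ₗ[A] L ⊗[K] K' :=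
  (TensorProduct.mapOfCompatibleSMul K A A L K') ∘ₗ
    TensorProduct.map (IsScalarTower.toAlgHom A C L).toLinearMap
      (integralClosure A K').val.toLinearMap

omit [IsDomain C] [IsFractionRing C L] in
theorem cmpMap_tmul (c : C) (y : integralClosure A K') :
    cmpMap (A := A) (C := C) K' (c ⊗ₜ y) = (algebraMap C L c) ⊗ₜ[K] (y : K') := by
  simp [cmpMap]

theorem mem_range_of_isDomain [IsDomain (C ⊗[A] (integralClosure A K'))]
    (y : integralClosure A K') : (y : K') ∈ Set.range (algebraMap K K') := by
  by_contra hy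
  have hy' : (y : K') ∉ LinearMap.range (Algebra.linearMap K K') := by
    rintro ⟨k, hk⟩
    exact hy ⟨k, hk⟩
  obtain ⟨φ, hφy, hφ⟩ := Submodule.exists_dual_map_eq_bot_of_notMem hy' inferInstance
  have hφ1 : φ 1 = 0 := by
    have : φ 1 ∈ (LinearMap.range (Algebra.linearMap K K')).map φ :=
      Submodule.mem_map_of_mem ⟨1, by simp⟩
    rw [hφ] at this
    exact this
  obtain ⟨⟨b, c⟩, hbc⟩ := IsLocalization.surj (nonZeroDivisors C) (((y : K') : L))
  have hc0 : algebraMap C L c ≠ 0 := by
    intro h0
    have := (map_eq_zero_iff _ (IsFractionRing.injective C L)).mp h0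
    exact nonZeroDivisors.coe_ne_zero c this
  have heq : ((c : C) ⊗ₜ[A] y : C ⊗[A] (integralClosure A K')) = b ⊗ₜ[A] 1 := by
    apply mulMap_injective (A := A) (C := C) K'
    rw [mulMap_tmul, mulMap_tmul]
    simp only [OneMemClass.coe_one, mul_one]
    rw [mul_comm]
    exact hbc
  have h2 := congrArg (cmpMap (A := A) (C := C) K') heq
  rw [cmpMap_tmul, cmpMap_tmul] at h2
  have h3 := congrArg (fun z => TensorProduct.rid K L (LinearMap.lTensor L φ z)) h2
  simp only [LinearMap.lTensor_tmul,
    TensorProduct.rid_tmul, OneMemClass.coe_one, hφ1, zero_smul] at h3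
  rcases smul_eq_zero.mp h3 with h4 | h4
  · exact hφy h4
  · exact hc0 h4

end Key

section Main

variable (A : Type u) [CommRing A] [IsNoetherianRing A] [HenselianLocalRing A] [IsDomain A]
  (h : EGA4.HasGeomNormalFormalFibres A) [IsDomain (EGA4.Cpl A)]
  (K L : Type u) [Field K] [Field L] [Algebra A K] [IsFractionRing A K]
  [Algebra (EGA4.Cpl A) L] [IsFractionRing (EGA4.Cpl A) L] [Algebra K L] [Algebra A L]
  [IsScalarTower A K L] [IsScalarTower A (EGA4.Cpl A) L]

include h in
theorem isDomain_tensor_integralClosure (K' : IntermediateField K L) [FiniteDimensional K K'] :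
    IsDomain (EGA4.Cpl A ⊗[A] (integralClosure A K')) := by
  have hred : EGA4.HasGeomReducedFormalFibres A := by
    intro p hp
    apply Groth.Agent.Lib.Helper14.GeomRed.isGeometricallyReduced_of_forall_finite_purelyInseparable
    intro k' _ _ hfin _
    exact Groth.Agent.Lib.Helper6.NormRed.isReduced_of_isNormalRing _ (h p k' hfin)
  have hNag : CAlg.IsNagata A := Groth.Agent.S2657.result A hred
  have hN2 : CAlg.IsN2 A := Groth.Agent.Lib.Helper28.isN2_of_isNagata_of_isDomain A hNag
  have hfin : Module.Finite A (integralClosure A K') :=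
    Groth.Agent.Lib.Helper14.IsN2.finite hN2 K K'
  have hic : IsIntegrallyClosed (integralClosure A K') :=
    integralClosure.isIntegrallyClosedOfFiniteExtension K
  have hloc : IsLocalRing (integralClosure A K') :=
    Groth.Agent.Lib.Helper28.GeomRed.isLocalRing_of_finite_of_isDomain A _
  have hNC : IsNoetherianRing (EGA4.Cpl A) :=
    Groth.Agent.Lib.Helper19.isNoetherianRing_adicCompletion _
  have hT : EGA4.IsNormalRing (EGA4.Cpl A ⊗[A] integralClosure A K') :=
    Groth.Agent.S2670.result A (EGA4.Cpl A) (Groth.Agent.Lib.Helper7.CplDom.isNormalHom_cpl A h) _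
      (Groth.Agent.Lib.Helper7.CplDom.isNormalRing_of_isIntegrallyClosed _)
  have hinjA : Function.Injective (algebraMap A (integralClosure A K')) := by
    intro x y hxy
    apply IsFractionRing.injective A K
    apply (algebraMap K K').injective
    have := congrArg Subtype.val hxy
    simpa [← IsScalarTower.algebraMap_apply] using this
  have hinj : Function.Injective (Algebra.TensorProduct.includeLeft :
      EGA4.Cpl A →ₐ[A] EGA4.Cpl A ⊗[A] integralClosure A K') :=
    Algebra.TensorProduct.includeLeft_injective hinjA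
  have : Nontrivial (EGA4.Cpl A ⊗[A] integralClosure A K') := hinj.nontrivial
  have : IsLocalRing (EGA4.Cpl A ⊗[A] integralClosure A K') :=
    Groth.Agent.Lib.Helper7.CplDom.isLocalRing_cpl_tensor A _
  exact Groth.Agent.Lib.Helper7.CplDom.isDomain_of_isNormalRing_of_isLocalRing _ hT


include h in
theorem mem_range_of_isAlgebraic (x : L) (hx : IsAlgebraic K x) :
    x ∈ Set.range (algebraMap K L) := by
  have hfd : FiniteDimensional K K⟮x⟯ := IntermediateField.adjoin.finiteDimensional hx.isIntegral
  have hdom := isDomain_tensor_integralClosure A h K L K⟮x⟯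
  let x' : K⟮x⟯ := ⟨x, IntermediateField.mem_adjoin_simple_self K x⟩
  have hx'K : IsAlgebraic K x' := Algebra.IsAlgebraic.isAlgebraic x'
  have hx'alg : IsAlgebraic A x' := (IsFractionRing.isAlgebraic_iff A K K⟮x⟯).mpr hx'K
  obtain ⟨a, ha0, hint⟩ := hx'alg.exists_integral_multiple
  obtain ⟨k, hk⟩ := mem_range_of_isDomain (A := A) (C := EGA4.Cpl A) K⟮x⟯
    (⟨a • x', hint⟩ : integralClosure A K⟮x⟯)
  have haK : algebraMap A K a ≠ 0 := by
    intro h0
    exact ha0 ((map_eq_zero_iff _ (IsFractionRing.injective A K)).mp h0)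
  refine ⟨k / algebraMap A K a, ?_⟩
  have h1 : algebraMap K L k = algebraMap A K a • x := by
    have h2 := congrArg (algebraMap K⟮x⟯ L) hk
    rw [← IsScalarTower.algebraMap_apply] at h2
    rw [h2]
    change ((a • x' : K⟮x⟯) : L) = _
    rw [algebraMap_smul]
    rfl
  rw [map_div₀, h1, Algebra.smul_def, mul_comm, mul_div_assoc, div_self, mul_one]
  exact (map_ne_zero_iff _ (algebraMap K L).injective).mpr haK


end Main

section GeomRed

variable (A : Type u) [CommRing A] [IsNoetherianRing A] [IsLocalRing A] [IsDomain A]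
  [IsDomain (EGA4.Cpl A)]
  (K L : Type u) [Field K] [Field L] [Algebra A K] [IsFractionRing A K]
  [Algebra (EGA4.Cpl A) L] [IsFractionRing (EGA4.Cpl A) L] [Algebra K L] [Algebra A L]
  [IsScalarTower A K L] [IsScalarTower A (EGA4.Cpl A) L]

theorem isGeometricallyReduced_fractionField_cpl
    (hred : Algebra.IsGeometricallyReduced (⊥ : Ideal A).ResidueField (EGA4.formalFibre A ⊥)) :
    Algebra.IsGeometricallyReduced K L := by
  let Ω := AlgebraicClosure (⊥ : Ideal A).ResidueField
  have h1 : IsReduced (Ω ⊗[A] EGA4.Cpl A) :=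
    (Groth.Agent.Lib.Helper7.Dim1N2.isReduced_tensor_cpl_iff A).mpr hred
  have h2 : IsReduced (EGA4.Cpl A ⊗[A] Ω) :=
    isReduced_of_injective (Algebra.TensorProduct.comm A _ _)
      (Algebra.TensorProduct.comm A _ _).injective
  have h3 : IsReduced (L ⊗[A] Ω) :=
    Groth.Agent.Lib.Helper28.GeomRed.isReduced_tensor_of_isLocalization A Ω (EGA4.Cpl A) L
      (nonZeroDivisors (EGA4.Cpl A)) h2
  rw [Algebra.isGeometricallyReduced_field_iff]
  let e : K ≃ₐ[A] (⊥ : Ideal A).ResidueField :=
    IsLocalization.algEquiv (nonZeroDivisors A) K (⊥ : Ideal A).ResidueField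
  let f : AlgebraicClosure K ≃+* Ω := IsAlgClosure.equivOfEquiv (AlgebraicClosure K) Ω e.toRingEquiv
  let f' : AlgebraicClosure K ≃ₐ[A] Ω := AlgEquiv.ofRingEquiv (f := f) (by
    intro a
    rw [IsScalarTower.algebraMap_apply A K (AlgebraicClosure K),
      IsAlgClosure.equivOfEquiv_algebraMap]
    change algebraMap (⊥ : Ideal A).ResidueField Ω (e (algebraMap A K a)) = _
    rw [e.commutes, ← IsScalarTower.algebraMap_apply])
  let E1 : AlgebraicClosure K ⊗[K] L ≃ₐ[K] AlgebraicClosure K ⊗[A] L :=
    IsLocalization.algebraTensorEquiv (nonZeroDivisors A) K (AlgebraicClosure K) L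
  let E2 : AlgebraicClosure K ⊗[A] L ≃ₐ[A] Ω ⊗[A] L :=
    Algebra.TensorProduct.congr f' AlgEquiv.refl
  let E3 : Ω ⊗[A] L ≃ₐ[A] L ⊗[A] Ω := Algebra.TensorProduct.comm A Ω L
  exact isReduced_of_injective
    ((E3.toRingEquiv.toRingHom.comp E2.toRingEquiv.toRingHom).comp E1.toRingEquiv.toRingHom)
    ((E3.injective.comp E2.injective).comp E1.injective)

end GeomRed

end Groth.Agent.Lib.Helper28.AlgClosedCpl
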