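import Mathlib
import Groth.Prelude.Def_Cyc
import Groth.Agent.Lib.Helper2CycOrdGen
import Groth.Agent.Lib.Helper4VarDim6

/-!
# Flat pullback preserves rational equivalence (helper2)

* `ordFrac_pow`, `divFun_pow`: `div(f^n) = n div(f)`.
* `finite_setOf_maximal`: a Noetherian quasi-sober T0 space has finitely many maximal points.
* `finite_maximal_in_closed`: a closed subset of a locally Noetherian scheme has finitely many
  maximal points inside an affine open.
* `finsum_sigma_eq`: `∑ᶠ` over a sigma type.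
* `locallyFinite_gen`: local finiteness of the family of fibre-generic points.
* `ratEquivZero_pullFun`: flat pullback preserves rational equivalence to zero.
-/

set_option autoImplicit false
set_option linter.style.haveILetI false

universe u

open AlgebraicGeometry CategoryTheory IsLocalRing TopologicalSpace

namespace Groth.Agent.Lib.Helper2.CycRat

open Groth.Agent.Lib.Helper24PullFunComp Groth.Agent.Lib.Helper2.CycRelDim
  Groth.Agent.Lib.Helper2.CycOrd Groth.Agent.Lib.Helper2.CycOrdSum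
  Groth.Agent.Lib.Helper2.CycOrdGen Groth.Agent.Lib.Helper2.CycBC

section pow

theorem ordFrac_pow (R : Type u) [CommRing R] (K : Type u) [Field K] [Algebra R K] (f : K)
    (hf : f ≠ 0) (n : ℕ) : CycAlg.ordFrac R K (f ^ n) = n * CycAlg.ordFrac R K f := by
  unfold CycAlg.ordFrac
  split_ifs with h
  · haveI := h.1
    haveI := h.2.1
    haveI := h.2.2.1
    haveI := h.2.2.2
    rw [map_pow]
    have hne : Ring.ordFrac R f ≠ 0 := (map_ne_zero _).mpr hf
    obtain ⟨z, hz⟩ := WithZero.ne_zero_iff_exists.mp hne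
    rw [← hz, ← WithZero.coe_pow, WithZero.recZeroCoe_coe, WithZero.recZeroCoe_coe, toAdd_pow,
      nsmul_eq_mul]
  · simp

theorem divFun_pow {X : Scheme.{u}} (δ : X → ℤ) (ζ : X) (f : X.residueField ζ) (hf : f ≠ 0)
    (n : ℕ) (x : X) : Cyc.divFun δ ζ (f ^ n) x = n * Cyc.divFun δ ζ f x := by
  simp only [Cyc.divFun]
  split_ifs with h
  · exact ordFrac_pow _ _ f hf n
  · simp

end pow

section top

theorem finite_setOf_maximal (T : Type*) [TopologicalSpace T] [NoetherianSpace T] [QuasiSober T]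
    [T0Space T] : {t : T | ∀ t' : T, t' ⤳ t → t' = t}.Finite := by
  apply (genericPoints.finite NoetherianSpace.finite_irreducibleComponents).subset
  intro t ht
  change closure {t} ∈ irreducibleComponents T
  obtain ⟨C, hC, hsub⟩ := exists_mem_irreducibleComponents_subset_of_isIrreducible (closure {t})
    isIrreducible_singleton.closure
  obtain ⟨w, hw⟩ := QuasiSober.sober hC.1 (isClosed_of_mem_irreducibleComponents _ hC)
  have h1 : w ⤳ t := hw.specializes (hsub (subset_closure rfl))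
  have h2 := ht w h1
  subst h2
  rw [hw.def]
  exact hC

theorem finite_maximal_in_closed (X' : Scheme.{u}) [IsLocallyNoetherian X'] (U : X'.Opens)
    (hU : IsAffineOpen U) (Z : Set X') (hZ : IsClosed Z) :
    {ζ : X' | ζ ∈ U ∧ ζ ∈ Z ∧ ∀ ζ' ∈ Z, ζ' ⤳ ζ → ζ' = ζ}.Finite := by
  haveI : IsNoetherianRing Γ(X', U) := IsLocallyNoetherian.component_noetherian ⟨U, hU⟩
  haveI : NoetherianSpace U := noetherianSpace_of_isAffineOpen U hU
  haveI : NoetherianSpace (↥(U : Set X')) := noetherianSpace_of_isAffineOpen U hU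
  let T : Set X' := (U : Set X') ∩ Z
  haveI : NoetherianSpace T := by
    have hi : Topology.IsInducing (Set.codRestrict (Subtype.val : T → X') (U : Set X')
        (fun t => t.2.1)) := Topology.IsInducing.subtypeVal.codRestrict _
    exact hi.noetherianSpace
  haveI : QuasiSober T :=
    Groth.Agent.Lib.Helper4.VarDim.quasiSober_of_isLocallyClosed T ⟨U, Z, U.isOpen, hZ, rfl⟩
  have hfin := finite_setOf_maximal T
  apply (hfin.image Subtype.val).subset
  rintro ζ ⟨hζU, hζZ, hmax⟩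
  refine ⟨⟨ζ, hζU, hζZ⟩, ?_, rfl⟩
  intro t' ht'
  have h1 : (t' : X') ⤳ ζ := ht'.map continuous_subtype_val
  exact Subtype.ext (hmax _ t'.2.2 h1)

end top

section sigma

theorem finsum_sigma_eq {ι : Type*} {κ : ι → Type*} (F : (Σ i, κ i) → ℤ)
    (hF : (Function.support F).Finite) : ∑ᶠ j, F j = ∑ᶠ i, ∑ᶠ k, F ⟨i, k⟩ := by
  classical
  have hinner : ∀ i, (Function.support fun k => F ⟨i, k⟩).Finite := fun i =>
    (hF.preimage (sigma_mk_injective (i := i)).injOn).subset (fun k hk => hk)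
  have houter : (Function.support fun i => ∑ᶠ k, F ⟨i, k⟩) ⊆ ↑(hF.toFinset.image Sigma.fst) := by
    intro i hi
    rw [Function.mem_support] at hi
    have : ∃ k, F ⟨i, k⟩ ≠ 0 := by
      by_contra hcon
      push Not at hcon
      exact hi (finsum_eq_zero_of_forall_eq_zero hcon)
    obtain ⟨k, hk⟩ := this
    rw [Finset.coe_image]
    exact ⟨⟨i, k⟩, by simpa using hk, rfl⟩
  have hsup : Function.support F ⊆ ↑hF.toFinset := by simp
  rw [finsum_eq_sum_of_support_subset F hsup, finsum_eq_sum_of_support_subset _ houter]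
  have hin : ∀ i, ∑ᶠ k, F ⟨i, k⟩ = ∑ k ∈ (hinner i).toFinset, F ⟨i, k⟩ := fun i =>
    finsum_eq_sum_of_support_subset _ (by simp)
  simp_rw [hin]
  rw [← Finset.sum_sigma]
  apply Finset.sum_congr _ (fun _ _ => rfl)
  ext ⟨i, k⟩
  simp only [Set.Finite.mem_toFinset, Function.mem_support, Finset.mem_sigma, Finset.mem_image]
  constructor
  · intro h
    exact ⟨⟨⟨i, k⟩, h, rfl⟩, h⟩
  · rintro ⟨-, h⟩
    exact h

end sigma

section main

variable {X X' : Scheme.{u}}

theorem locallyFinite_gen [IsLocallyNoetherian X'] (p : X' ⟶ X) {ι : Type u} (ξ : ι → X)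
    (hlf : ∀ x : X, ∃ U : Set X, IsOpen U ∧ x ∈ U ∧ {i | (closure {ξ i} ∩ U).Nonempty}.Finite)
    (x' : X') :
    ∃ U : Set X', IsOpen U ∧ x' ∈ U ∧
      {j : Σ i : ι, {ζ : X' // p ζ = ξ i ∧ IsGen p ζ} |
        (closure {j.2.1} ∩ U).Nonempty}.Finite := by
  obtain ⟨V, hVo, hxV, hVfin⟩ := hlf (p x')
  obtain ⟨U', hU', hx'U', -⟩ := exists_isAffineOpen_mem_and_subset (x := x') (U := ⊤) trivial
  refine ⟨(p ⁻¹' V) ∩ U', (hVo.preimage p.continuous).inter U'.isOpen, ⟨hxV, hx'U'⟩, ?_⟩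
  have hM : ∀ i : ι, {ζ : X' | ζ ∈ U' ∧ ζ ∈ p ⁻¹' closure {ξ i} ∧
      ∀ ζ' ∈ p ⁻¹' closure {ξ i}, ζ' ⤳ ζ → ζ' = ζ}.Finite := fun i =>
    finite_maximal_in_closed X' U' hU' _ (isClosed_closure.preimage p.continuous)
  have hbig : (⋃ i ∈ {i | (closure {ξ i} ∩ V).Nonempty},
      (fun ζ : {ζ : X' // p ζ = ξ i ∧ IsGen p ζ} =>
        (⟨i, ζ⟩ : Σ i : ι, {ζ : X' // p ζ = ξ i ∧ IsGen p ζ})) ''
        {ζ | ζ.1 ∈ {ζ : X' | ζ ∈ U' ∧ ζ ∈ p ⁻¹' closure {ξ i} ∧
          ∀ ζ' ∈ p ⁻¹' closure {ξ i}, ζ' ⤳ ζ → ζ' = ζ}}).Finite := by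
    refine hVfin.biUnion fun i _ => Set.Finite.image _ ?_
    exact (hM i).preimage Subtype.val_injective.injOn
  apply hbig.subset
  rintro ⟨i, ζ, hζ1, hζ2⟩ ⟨z, hz1, hz2⟩
  have hsp : ζ ⤳ z := specializes_iff_mem_closure.mpr hz1
  have hζU : ζ ∈ (p ⁻¹' V) ∩ (U' : Set X') :=
    hsp.mem_open ((hVo.preimage p.continuous).inter U'.isOpen) hz2
  have hi : i ∈ {i | (closure {ξ i} ∩ V).Nonempty} := by
    refine ⟨ξ i, subset_closure rfl, ?_⟩
    rw [← hζ1]
    exact hζU.1
  rw [Set.mem_iUnion₂]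
  refine ⟨i, hi, ⟨ζ, hζ1, hζ2⟩, ⟨hζU.2, ?_, ?_⟩, rfl⟩
  · change p ζ ∈ closure {ξ i}
    rw [hζ1]
    exact subset_closure rfl
  · intro ζ' hζ' hζ'ζ
    have h1 : ξ i ⤳ p ζ' := specializes_iff_mem_closure.mpr hζ'
    have h2 : p ζ' ⤳ p ζ := hζ'ζ.map p.continuous
    rw [hζ1] at h2
    have h3 : p ζ' = p ζ := by
      rw [hζ1]
      exact (h2.antisymm h1).eq
    exact hζ2 ζ' h3 hζ'ζ

set_option maxHeartbeats 1600000 in
/-- Flat pullback preserves rational equivalence to zero. -/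
theorem ratEquivZero_pullFun (X X' : Scheme.{u}) (δ : X → ℤ) (δ' : X' → ℤ)
    (hX : Cyc.IsSetup X δ) (hX' : Cyc.IsSetup X' δ') (p : X' ⟶ X) [Flat p] (c : ℤ)
    (hc : ∀ x' : X', IsGen p x' → δ' x' = δ (p x') + c) (k : ℤ) (α : AlgebraicCycle X ℤ)
    (h0 : Cyc.RatEquivZero δ k α) (α' : AlgebraicCycle X' ℤ)
    (hα' : ⇑α' = Cyc.pullFun p δ' δ c ⇑α) : Cyc.RatEquivZero δ' (k + c) α' := by
  classical
  haveI : IsLocallyNoetherian X' := hX'.1
  obtain ⟨ι, ξ, g, hξ, hg, hlf, hsum⟩ := h0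
  have hres : ∀ j : Σ i : ι, {ζ : X' // p ζ = ξ i ∧ IsGen p ζ},
      (p.residueFieldMap j.2.1).hom ((X.residueFieldCongr j.2.2.1.symm).hom (g j.1)) ≠ 0 :=
    fun j => (map_ne_zero _).mpr ((map_ne_zero _).mpr (hg j.1))
  have hlf' := locallyFinite_gen p ξ hlf
  refine ⟨Σ i : ι, {ζ : X' // p ζ = ξ i ∧ IsGen p ζ}, fun j => j.2.1,
    fun j => ((p.residueFieldMap j.2.1).hom ((X.residueFieldCongr j.2.2.1.symm).hom (g j.1))) ^
      (Module.length (X'.presheaf.stalk j.2.1) (X'.presheaf.stalk j.2.1 ⧸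
        Ideal.map (p.stalkMap j.2.1).hom (maximalIdeal (X.presheaf.stalk (p j.2.1))))).toNat,
    ?_, ?_, hlf', ?_⟩
  · rintro ⟨i, ζ, h1, h2⟩
    change δ' ζ = k + c + 1
    rw [hc ζ h2, h1, hξ i]
    ring
  · intro j
    exact pow_ne_zero _ (hres j)
  · intro x'
    rw [hα']
    -- Step A
    have hA : Cyc.pullFun p δ' δ c ⇑α x' =
        ∑ᶠ i, Cyc.pullFun p δ' δ c (Cyc.divFun δ (ξ i) (g i)) x' := by
      simp only [Cyc.pullFun]
      by_cases hcond : δ' x' = δ (p x') + c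
      · simp only [if_pos hcond]
        rw [hsum (p x'), finsum_mul]
      · simp only [if_neg hcond]
        rw [finsum_zero]
    rw [hA]
    -- Step B, C
    have hB : ∀ i, Cyc.pullFun p δ' δ c (Cyc.divFun δ (ξ i) (g i)) x' =
        ∑ᶠ ζ : {ζ : X' // p ζ = ξ i ∧ IsGen p ζ},
          Cyc.divFun δ' ζ.1 (((p.residueFieldMap ζ.1).hom
            ((X.residueFieldCongr ζ.2.1.symm).hom (g i))) ^
              (Module.length (X'.presheaf.stalk ζ.1) (X'.presheaf.stalk ζ.1 ⧸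
                Ideal.map (p.stalkMap ζ.1).hom
                  (maximalIdeal (X.presheaf.stalk (p ζ.1))))).toNat) x' := by
      intro i
      rw [pullFun_divFun_gen X X' δ δ' hX hX' p c hc (ξ i) (g i) (hg i) x']
      refine finsum_congr fun ζ => ?_
      rw [divFun_pow δ' ζ.1 _ (hres ⟨i, ζ⟩)]
    simp_rw [hB]
    -- Step D
    symm
    refine finsum_sigma_eq (fun j : Σ i : ι, {ζ : X' // p ζ = ξ i ∧ IsGen p ζ} =>
      Cyc.divFun δ' j.2.1 (((p.residueFieldMap j.2.1).hom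
        ((X.residueFieldCongr j.2.2.1.symm).hom (g j.1))) ^
          (Module.length (X'.presheaf.stalk j.2.1) (X'.presheaf.stalk j.2.1 ⧸
            Ideal.map (p.stalkMap j.2.1).hom
              (maximalIdeal (X.presheaf.stalk (p j.2.1))))).toNat) x') ?_
    obtain ⟨U, hUo, hxU, hUfin⟩ := hlf' x'
    apply hUfin.subset
    intro j hj
    rw [Function.mem_support] at hj
    have hsp : j.2.1 ⤳ x' := by
      by_contra hns
      apply hj
      simp only [Cyc.divFun]
      rw [dif_neg (fun h => hns h.1)]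
    exact ⟨x', specializes_iff_mem_closure.mp hsp, hxU⟩

end main

end Groth.Agent.Lib.Helper2.CycRat
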