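import Mathlib
import Groth.Prelude.Def_C1
import Groth.Prelude.Def_Pic
import Groth.Prelude.Def_Bivar
import Groth.Agent.Lib.Helper2CycSecDiv
import Groth.Agent.Lib.Helper2CycRat

/-!
# `c_1(L) ∩ α` does not depend on the rational sections, up to rational equivalence (helper2)

* `ordFrac_mul`, `ordFrac_zpow`, `divFun_zpow`, `ordAt_mul`, `ordAt_mul_unit`
* `secOrdAt_mk`: `Cyc.secOrdAt` of the class of `ψ • sp(t_x)` is the order of the residue of `ψ`
* `secOrdAt_smul`: `ord(φ • σ) = ord(φ mod 𝔪) + ord(σ)`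
* `exists_smul_eq`: two nonzero elements of `L(ξ)` differ by a unit of `O_ξ`
* `ratEquiv_c1CapFun`: `c_1(L) ∩ α` computed with two families of nonzero rational sections gives
  rationally equivalent cycles.
-/

set_option autoImplicit false
set_option linter.style.haveILetI false

universe u

open AlgebraicGeometry CategoryTheory IsLocalRing

namespace Groth.Agent.Lib.Helper2.CycC1

open Groth.Agent.Lib.Helper2.CycOrd Groth.Agent.Lib.Helper2.CycOrdSum
  Groth.Agent.Lib.Helper2.CycSecDiv Groth.Agent.Lib.Helper2.CycRat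
  Groth.Agent.Lib.Helper20.InvGen Groth.Agent.Lib.Helper2

section alg

theorem ordFrac_mul (R : Type u) [CommRing R] (K : Type u) [Field K] [Algebra R K] (a b : K)
    (ha : a ≠ 0) (hb : b ≠ 0) :
    CycAlg.ordFrac R K (a * b) = CycAlg.ordFrac R K a + CycAlg.ordFrac R K b := by
  unfold CycAlg.ordFrac
  split_ifs with h
  · haveI := h.1
    haveI := h.2.1
    haveI := h.2.2.1
    haveI := h.2.2.2
    rw [map_mul]
    have hna : Ring.ordFrac R a ≠ 0 := (map_ne_zero _).mpr ha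
    have hnb : Ring.ordFrac R b ≠ 0 := (map_ne_zero _).mpr hb
    obtain ⟨z, hz⟩ := WithZero.ne_zero_iff_exists.mp hna
    obtain ⟨w, hw⟩ := WithZero.ne_zero_iff_exists.mp hnb
    rw [← hz, ← hw, ← WithZero.coe_mul, WithZero.recZeroCoe_coe, WithZero.recZeroCoe_coe,
      WithZero.recZeroCoe_coe, toAdd_mul]
  · simp

theorem ordFrac_one (R : Type u) [CommRing R] (K : Type u) [Field K] [Algebra R K] :
    CycAlg.ordFrac R K (1 : K) = 0 := by
  have h := ordFrac_mul R K 1 1 one_ne_zero one_ne_zero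
  rw [mul_one] at h
  omega

theorem ordFrac_inv (R : Type u) [CommRing R] (K : Type u) [Field K] [Algebra R K] (a : K)
    (ha : a ≠ 0) : CycAlg.ordFrac R K a⁻¹ = - CycAlg.ordFrac R K a := by
  have h := ordFrac_mul R K a a⁻¹ ha (inv_ne_zero ha)
  rw [mul_inv_cancel₀ ha, ordFrac_one] at h
  omega

theorem ordFrac_zpow (R : Type u) [CommRing R] (K : Type u) [Field K] [Algebra R K] (f : K)
    (hf : f ≠ 0) (n : ℤ) : CycAlg.ordFrac R K (f ^ n) = n * CycAlg.ordFrac R K f := by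
  cases n with
  | ofNat m =>
    rw [Int.ofNat_eq_natCast, zpow_natCast, ordFrac_pow R K f hf m]
  | negSucc m =>
    rw [zpow_negSucc, ordFrac_inv R K _ (pow_ne_zero _ hf), ordFrac_pow R K f hf (m + 1),
      Int.negSucc_eq]
    push_cast
    ring

end alg

variable {X : Scheme.{u}}

theorem divFun_zpow (δ : X → ℤ) (ζ : X) (f : X.residueField ζ) (hf : f ≠ 0)
    (n : ℤ) (x : X) : Cyc.divFun δ ζ (f ^ n) x = n * Cyc.divFun δ ζ f x := by
  simp only [Cyc.divFun]
  split_ifs with h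
  · exact ordFrac_zpow _ _ f hf n
  · simp

theorem ordAt_mul (x ξ : X) (h : ξ ⤳ x) (a b : X.residueField ξ) (ha : a ≠ 0) (hb : b ≠ 0) :
    Cyc.ordAt x ξ h (a * b) = Cyc.ordAt x ξ h a + Cyc.ordAt x ξ h b := by
  unfold Cyc.ordAt
  exact ordFrac_mul _ _ a b ha hb

theorem ordAt_mul_unit (x ξ : X) (h : ξ ⤳ x) (g : X.residueField ξ) (w : X.presheaf.stalk x)
    (hw : IsUnit w) :
    Cyc.ordAt x ξ h (g * Cyc.specMap x ξ h w) = Cyc.ordAt x ξ h g := by
  unfold Cyc.ordAt CycAlg.ordFrac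
  split_ifs with hcond
  · haveI := hcond.1
    haveI := hcond.2.1
    haveI := hcond.2.2.1
    haveI := hcond.2.2.2
    have hu : IsUnit (Ideal.Quotient.mk (RingHom.ker (Cyc.specMap x ξ h)) w) := hw.map _
    rw [map_mul, ← algebraMap_locQuot_mk x ξ h w, Ring.ordFrac_of_isUnit hu, mul_one]
  · rfl

/-- `Cyc.secOrdAt` of the class of `ψ • sp(t_x)`, `t_x` a free generator of `L_x` whose image in
`L_ξ` is again a free generator. -/
theorem secOrdAt_mk (L : X.Modules) (ξ x : X) (h : ξ ⤳ x) (tx : L.presheaf.stalk x)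
    (htx : Function.Bijective (fun c : X.presheaf.stalk x => c • tx))
    (htξ : Function.Bijective
      (fun c : X.presheaf.stalk ξ => c • L.presheaf.stalkSpecializes h tx))
    (ψ : X.presheaf.stalk ξ) :
    Cyc.secOrdAt L ξ x h (Submodule.Quotient.mk (ψ • L.presheaf.stalkSpecializes h tx)) =
      Cyc.ordAt x ξ h (X.residue ξ ψ) := by
  have hgen : ∃ t : L.presheaf.stalk x, Submodule.span (X.presheaf.stalk x) {t} = ⊤ := by
    refine ⟨tx, ?_⟩
    rw [eq_top_iff]
    intro y _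
    obtain ⟨c, hc⟩ := htx.2 y
    rw [Submodule.mem_span_singleton]
    exact ⟨c, hc⟩
  -- membership in `𝔪 • ⊤`
  have hmem : ∀ c : X.presheaf.stalk ξ, c • L.presheaf.stalkSpecializes h tx ∈
      maximalIdeal (X.presheaf.stalk ξ) • (⊤ : Submodule (X.presheaf.stalk ξ)
        (L.presheaf.stalk ξ)) → c ∈ maximalIdeal (X.presheaf.stalk ξ) := by
    intro c hc
    have h1 : ∀ l ∈ maximalIdeal (X.presheaf.stalk ξ) • (⊤ : Submodule (X.presheaf.stalk ξ)
        (L.presheaf.stalk ξ)), ∃ c' ∈ maximalIdeal (X.presheaf.stalk ξ),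
        c' • L.presheaf.stalkSpecializes h tx = l := by
      intro l hl
      refine Submodule.smul_induction_on hl ?_ ?_
      · intro r hr n _
        obtain ⟨c', hc'⟩ := htξ.2 n
        refine ⟨r * c', Ideal.mul_mem_right _ _ hr, ?_⟩
        rw [mul_smul]
        exact congrArg (r • ·) hc'
      · rintro l₁ l₂ ⟨c₁, hc₁, rfl⟩ ⟨c₂, hc₂, rfl⟩
        exact ⟨c₁ + c₂, Ideal.add_mem _ hc₁ hc₂, add_smul _ _ _⟩
    obtain ⟨c', hc'm, hc'⟩ := h1 _ hc
    have := htξ.1 hc'
    rw [← this]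
    exact hc'm
  unfold Cyc.secOrdAt
  rw [dif_pos hgen]
  have ht' := Classical.choose_spec hgen
  obtain ⟨t', ht'def⟩ : ∃ t', t' = Classical.choose hgen := ⟨_, rfl⟩
  rw [← ht'def] at ht' ⊢
  obtain ⟨u, hu⟩ := htx.2 t'
  have hu' : u • tx = t' := hu
  have hmem' : tx ∈ Submodule.span (X.presheaf.stalk x) {t'} := by
    rw [ht']
    trivial
  obtain ⟨v, hv⟩ := Submodule.mem_span_singleton.1 hmem'
  have hvu : v * u = 1 := by
    apply htx.1
    change (v * u) • tx = (1 : X.presheaf.stalk x) • tx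
    rw [mul_smul, one_smul, hu', hv]
  have hvv : IsUnit v := IsUnit.of_mul_eq_one _ hvu
  have hsp : L.presheaf.stalkSpecializes h t' =
      X.presheaf.stalkSpecializes h u • L.presheaf.stalkSpecializes h tx := by
    rw [← hu', stalkSpecializes_smul]
  have hφ : ∃ φ : X.presheaf.stalk ξ,
      (Submodule.Quotient.mk (ψ • L.presheaf.stalkSpecializes h tx) : Cyc.secFibre L ξ) =
      φ • (Submodule.Quotient.mk ((L.presheaf.stalkSpecializes h) t') : Cyc.secFibre L ξ) := by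
    refine ⟨ψ * X.presheaf.stalkSpecializes h v, ?_⟩
    rw [← Submodule.Quotient.mk_smul, mul_smul, ← stalkSpecializes_smul, hv]
  rw [dif_pos hφ]
  have hφ' := Classical.choose_spec hφ
  obtain ⟨φ, hφdef⟩ : ∃ φ, φ = Classical.choose hφ := ⟨_, rfl⟩
  rw [← hφdef] at hφ' ⊢
  -- `φ * sp u - ψ ∈ 𝔪`
  have h2 : (Submodule.Quotient.mk ((φ * X.presheaf.stalkSpecializes h u - ψ) •
      L.presheaf.stalkSpecializes h tx) : Cyc.secFibre L ξ) = 0 := by
    rw [sub_smul, Submodule.Quotient.mk_sub, mul_smul, ← hsp, Submodule.Quotient.mk_smul,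
      ← hφ', sub_self]
  rw [Submodule.Quotient.mk_eq_zero] at h2
  have h3 := hmem _ h2
  have h4 : X.residue ξ φ * X.residue ξ (X.presheaf.stalkSpecializes h u) = X.residue ξ ψ := by
    have h5 : X.residue ξ (φ * X.presheaf.stalkSpecializes h u - ψ) = 0 :=
      (IsLocalRing.residue_eq_zero_iff _).mpr h3
    rw [map_sub, map_mul, sub_eq_zero] at h5
    exact h5
  have h6 : X.residue ξ (X.presheaf.stalkSpecializes h v) *
      X.residue ξ (X.presheaf.stalkSpecializes h u) = 1 := by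
    rw [← map_mul, ← map_mul, hvu, map_one, map_one]
  have key : X.residue ξ φ = X.residue ξ ψ * Cyc.specMap x ξ h v := by
    have h7 : Cyc.specMap x ξ h v = X.residue ξ (X.presheaf.stalkSpecializes h v) := rfl
    rw [h7, ← h4, mul_assoc, mul_comm (X.residue ξ (X.presheaf.stalkSpecializes h u)), h6,
      mul_one]
  rw [key]
  exact ordAt_mul_unit x ξ h _ v hvv

/-- multiplying a nonzero rational section by a unit of `O_ξ` adds the order of its residue. -/
theorem secOrdAt_smul (L : X.Modules) (hL : PicF.IsInvertible L) (ξ x : X) (h : ξ ⤳ x)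
    (φ : X.presheaf.stalk ξ) (hφ : X.residue ξ φ ≠ 0) (σ : Cyc.secFibre L ξ) (hσ : σ ≠ 0) :
    Cyc.secOrdAt L ξ x h (φ • σ) = Cyc.ordAt x ξ h (X.residue ξ φ) + Cyc.secOrdAt L ξ x h σ := by
  obtain ⟨W, tW, hxW, hW⟩ := exists_local_generator L hL x
  have htx := hW x hxW
  have hξW : ξ ∈ W := h.mem_open W.isOpen hxW
  have hsp : L.presheaf.stalkSpecializes h (L.presheaf.germ W x hxW tW) =
      L.presheaf.germ W ξ hξW tW :=
    ConcreteCategory.congr_hom (TopCat.Presheaf.germ_stalkSpecializes L.presheaf hxW h) tW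
  have htξ : Function.Bijective (fun c : X.presheaf.stalk ξ =>
      c • L.presheaf.stalkSpecializes h (L.presheaf.germ W x hxW tW)) := by
    rw [hsp]
    exact hW ξ hξW
  obtain ⟨m, rfl⟩ := Submodule.Quotient.mk_surjective _ σ
  obtain ⟨b, hb⟩ := htξ.2 m
  have hb' : b • L.presheaf.stalkSpecializes h (L.presheaf.germ W x hxW tW) = m := hb
  subst hb'
  have hbne : X.residue ξ b ≠ 0 := by
    intro h0
    apply hσ
    rw [Submodule.Quotient.mk_eq_zero]
    have hbm : b ∈ maximalIdeal (X.presheaf.stalk ξ) := (IsLocalRing.residue_eq_zero_iff _).mp h0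
    exact Submodule.smul_mem_smul hbm Submodule.mem_top
  rw [← Submodule.Quotient.mk_smul, smul_smul, secOrdAt_mk L ξ x h _ htx htξ,
    secOrdAt_mk L ξ x h _ htx htξ, map_mul, ordAt_mul x ξ h _ _ hφ hbne]

/-- two rational sections of an invertible module, the second nonzero, differ by an element of
`O_ξ`. -/
theorem exists_smul_eq (L : X.Modules) (hL : PicF.IsInvertible L) (ξ : X)
    (σ σ' : Cyc.secFibre L ξ) (hσ' : σ' ≠ 0) :
    ∃ φ : X.presheaf.stalk ξ, σ = φ • σ' ∧ (σ ≠ 0 → X.residue ξ φ ≠ 0) := by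
  obtain ⟨W, tW, hξW, hW⟩ := exists_local_generator L hL ξ
  have htξ := hW ξ hξW
  obtain ⟨m, rfl⟩ := Submodule.Quotient.mk_surjective _ σ
  obtain ⟨m', rfl⟩ := Submodule.Quotient.mk_surjective _ σ'
  obtain ⟨a, ha⟩ := htξ.2 m
  obtain ⟨b, hb⟩ := htξ.2 m'
  have ha' : a • L.presheaf.germ W ξ hξW tW = m := ha
  have hb' : b • L.presheaf.germ W ξ hξW tW = m' := hb
  subst ha' hb'
  have hbunit : IsUnit b := by
    rw [← IsLocalRing.notMem_maximalIdeal]
    intro hbm
    apply hσ'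
    rw [Submodule.Quotient.mk_eq_zero]
    exact Submodule.smul_mem_smul hbm Submodule.mem_top
  obtain ⟨c, hc⟩ := hbunit.exists_left_inv
  have hφeq : (Submodule.Quotient.mk (a • L.presheaf.germ W ξ hξW tW) : Cyc.secFibre L ξ) =
      (a * c) • (Submodule.Quotient.mk (b • L.presheaf.germ W ξ hξW tW) : Cyc.secFibre L ξ) := by
    rw [← Submodule.Quotient.mk_smul, smul_smul, mul_assoc, hc, mul_one]
  refine ⟨a * c, hφeq, ?_⟩
  intro hσ h0
  apply hσ
  rw [hφeq]
  have hm : a * c ∈ maximalIdeal (X.presheaf.stalk ξ) := (IsLocalRing.residue_eq_zero_iff _).mp h0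
  rw [← Submodule.Quotient.mk_smul, Submodule.Quotient.mk_eq_zero]
  exact Submodule.smul_mem_smul hm Submodule.mem_top

/-- **Independence of the sections**: `c_1(L) ∩ α` computed with two families of nonzero rational
sections gives rationally equivalent `k`-cycles. -/
theorem ratEquiv_c1CapFun (X : Scheme.{u}) (δ : X → ℤ) (L : X.Modules)
    (hL : PicF.IsInvertible L) (k : ℤ) (α : AlgebraicCycle X ℤ) (hα : α ∈ Cyc.Zk X δ (k + 1))
    (s s' : (ξ : X) → Cyc.secFibre L ξ) (hs : ∀ ξ, s ξ ≠ 0) (hs' : ∀ ξ, s' ξ ≠ 0)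
    (γ γ' : AlgebraicCycle X ℤ) (hγ : ⇑γ = Cyc.c1CapFun δ L ⇑α s)
    (hγ' : ⇑γ' = Cyc.c1CapFun δ L ⇑α s') : Cyc.RatEquiv δ k γ γ' := by
  classical
  choose φ hφ using fun ξ => exists_smul_eq L hL ξ (s ξ) (s' ξ) (hs' ξ)
  have hφne : ∀ ξ, X.residue ξ (φ ξ) ≠ 0 := fun ξ => (hφ ξ).2 (hs ξ)
  have hpt : ∀ ξ x, Cyc.secDivFun δ L ξ (s ξ) x =
      Cyc.divFun δ ξ (X.residue ξ (φ ξ)) x + Cyc.secDivFun δ L ξ (s' ξ) x := by
    intro ξ x
    simp only [Cyc.secDivFun, Cyc.divFun]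
    by_cases hc : ξ ⤳ x ∧ δ x + 1 = δ ξ
    · rw [dif_pos hc, dif_pos hc, dif_pos hc]
      conv_lhs => rw [(hφ ξ).1]
      exact secOrdAt_smul L hL ξ x hc.1 (φ ξ) (hφne ξ) (s' ξ) (hs' ξ)
    · rw [dif_neg hc, dif_neg hc, dif_neg hc, add_zero]
  unfold Cyc.RatEquiv Cyc.RatEquivZero
  refine ⟨{ξ : X // α ξ ≠ 0}, fun i => i.1, fun i => (X.residue i.1 (φ i.1)) ^ (α i.1),
    ?_, ?_, ?_, ?_⟩
  · intro i
    by_contra hne
    exact i.2 (hα i.1 hne)
  · intro i
    exact zpow_ne_zero _ (hφne i.1)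
  · intro x
    obtain ⟨U, hU, hfin⟩ := α.supportLocallyFiniteWithinDomain' x (Set.mem_univ x)
    obtain ⟨V, hVU, hVo, hxV⟩ := mem_nhds_iff.mp hU
    refine ⟨V, hVo, hxV, ?_⟩
    have hsub : {i : {ξ : X // α ξ ≠ 0} | (closure {i.1} ∩ V).Nonempty} ⊆
        (fun i : {ξ : X // α ξ ≠ 0} => i.1) ⁻¹' (U ∩ Function.support α) := by
      rintro i ⟨z, hz1, hz2⟩
      have hiV : i.1 ∈ V := by
        obtain ⟨w, hwV, hw⟩ := mem_closure_iff.mp hz1 V hVo hz2
        rw [Set.mem_singleton_iff] at hw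
        rw [← hw]
        exact hwV
      exact ⟨hVU hiV, i.2⟩
    exact (hfin.preimage (Subtype.val_injective.injOn)).subset hsub
  · intro x
    have hsupp : ∀ t : (ξ : X) → Cyc.secFibre L ξ,
        (Function.support fun ξ => α ξ * Cyc.secDivFun δ L ξ (t ξ) x) ⊆
          {ξ : X | ξ ⤳ x ∧ α ξ ≠ 0} := by
      intro t ξ hξ
      rw [Function.mem_support] at hξ
      refine ⟨?_, left_ne_zero_of_mul hξ⟩
      have h2 := right_ne_zero_of_mul hξ
      by_contra hc
      apply h2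
      simp [Cyc.secDivFun, hc]
    have hfinx := Bivar.finite_support_specializes α x
    have hF0 : ∀ ξ, α ξ = 0 → α ξ * Cyc.divFun δ ξ (X.residue ξ (φ ξ)) x = 0 := by
      intro ξ h0
      rw [h0, zero_mul]
    have h1 : (γ - γ') x = ∑ᶠ ξ, α ξ * Cyc.divFun δ ξ (X.residue ξ (φ ξ)) x := by
      rw [Function.locallyFinsuppWithin.coe_sub, Pi.sub_apply, hγ, hγ']
      simp only [Cyc.c1CapFun]
      rw [← finsum_sub_distrib (hfinx.subset (hsupp s)) (hfinx.subset (hsupp s'))]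
      refine finsum_congr fun ξ => ?_
      rw [hpt ξ x]
      ring
    rw [h1]
    have h2 : ∑ᶠ i : {ξ : X // α ξ ≠ 0},
        Cyc.divFun δ i.1 ((X.residue i.1 (φ i.1)) ^ (α i.1)) x =
        ∑ᶠ i : {ξ : X // α ξ ≠ 0}, α i.1 * Cyc.divFun δ i.1 (X.residue i.1 (φ i.1)) x :=
      finsum_congr fun i => divFun_zpow δ i.1 _ (hφne i.1) (α i.1) x
    rw [h2, finsum_subtype_eq_finsum_cond
      (f := fun ξ => α ξ * Cyc.divFun δ ξ (X.residue ξ (φ ξ)) x) (fun ξ => α ξ ≠ 0)]
    refine finsum_congr fun ξ => ?_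
    rw [finsum_eq_if]
    by_cases h0 : α ξ = 0
    · rw [if_neg (not_not.mpr h0), hF0 ξ h0]
    · rw [if_pos h0]

end Groth.Agent.Lib.Helper2.CycC1
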