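import Mathlib
import Groth.Agent.Lib.Helper2CycC1
import Groth.Agent.Lib.Helper2CycSecDiv
import Groth.Agent.Lib.Helper20CDivOrd2
import Groth.Agent.Lib.Helper5DetLattice

/-!
# Comparison of `Cyc.ordAt` along the generic point with Mathlib's `Scheme.ord` (helper28)

Namespace `Groth.Agent.Lib.Helper28.GenOrd`: `ordAt_residue_eq_ord`.
-/

set_option autoImplicit false
set_option linter.unusedSectionVars false
universe u
open CategoryTheory Limits AlgebraicGeometry TopologicalSpace Opposite

namespace Groth.Agent.Lib.Helper28.GenOrd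

open Groth.Agent.Lib.Helper2.CycC1 Groth.Agent.Lib.Helper2.CycSecDiv

variable {X : Scheme.{u}} [IsLocallyNoetherian X] [IsIntegral X]

/-- Mathlib's order of vanishing at a point of coheight one agrees with `CycAlg.ordFrac`. -/
theorem ord_eq_ordFrac (z : X) (hz : Order.coheight z = 1) (f : X.functionField) :
    Scheme.ord f z = CycAlg.ordFrac (X.presheaf.stalk z) X.functionField f := by
  rw [Scheme.ord_eq_ordHom_of_coheight_eq_one hz]
  unfold CycAlg.ordFrac
  have h : IsNoetherianRing (X.presheaf.stalk z) ∧ Ring.KrullDimLE 1 (X.presheaf.stalk z) ∧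
      Nontrivial (X.presheaf.stalk z) ∧ IsFractionRing (X.presheaf.stalk z) X.functionField :=
    ⟨inferInstance, krullDimLE_of_coheight_le hz.le, inferInstance, inferInstance⟩
  rw [dif_pos h]
  unfold Scheme.ordHom
  haveI := h.2.1
  generalize (Ring.ordFrac (X.presheaf.stalk z) (K := X.functionField)) f = v
  cases v with
  | zero => rfl
  | coe a => rfl

theorem specMap_generic_eq (x : X) (a : X.presheaf.stalk x) :
    Cyc.specMap x (genericPoint X) ((genericPoint_spec X).specializes (Set.mem_univ x)) a =
      X.residue (genericPoint X) (algebraMap (X.presheaf.stalk x) X.functionField a) := rfl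

theorem residue_generic_injective :
    Function.Injective (X.residue (genericPoint X)).hom := by
  letI : Field (X.presheaf.stalk (genericPoint X)) := inferInstanceAs (Field X.functionField)
  exact RingHom.injective _

theorem ker_specMap_generic (x : X) :
    RingHom.ker (Cyc.specMap x (genericPoint X)
      ((genericPoint_spec X).specializes (Set.mem_univ x))) = ⊥ := by
  rw [RingHom.ker_eq_bot_iff_eq_zero]
  intro a ha
  rw [specMap_generic_eq] at ha
  have h1 : algebraMap (X.presheaf.stalk x) X.functionField a = 0 :=
    residue_generic_injective (by rw [map_zero]; exact ha)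
  exact IsFractionRing.injective (X.presheaf.stalk x) X.functionField (by rw [h1, map_zero])


theorem ordAt_div (x ξ : X) (h : ξ ⤳ x) (a b : X.residueField ξ) (ha : a ≠ 0) (hb : b ≠ 0) :
    Cyc.ordAt x ξ h (a / b) = Cyc.ordAt x ξ h a - Cyc.ordAt x ξ h b := by
  have h1 := ordAt_mul x ξ h (a / b) b (div_ne_zero ha hb) hb
  rw [div_mul_cancel₀ _ hb] at h1
  omega

/-- at a codimension-one point, the order along the specialization from the generic point agrees with Mathlib's order
of vanishing. -/
theorem ordAt_residue_eq_ord (x : X) (hx : Order.coheight x = 1) (f : X.functionField) (hf : f ≠ 0) :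
    Cyc.ordAt x (genericPoint X) ((genericPoint_spec X).specializes (Set.mem_univ x))
      (X.residue (genericPoint X) f) = Scheme.ord f x := by
  have hdimx : ringKrullDim (X.presheaf.stalk x) ≤ 1 := by
    rw [ringKrullDim_stalk_eq_coheight, hx]; rfl
  have hdim : ringKrullDim (Cyc.LocQuot x (genericPoint X)
      ((genericPoint_spec X).specializes (Set.mem_univ x))) ≤ 1 :=
    (ringKrullDim_quotient_le _).trans hdimx
  obtain ⟨a, b, hb, rfl⟩ := IsFractionRing.div_surjective (A := X.presheaf.stalk x) f
  have hb0 : b ≠ 0 := nonZeroDivisors.ne_zero hb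
  have ha0 : a ≠ 0 := by
    rintro rfl
    rw [map_zero, zero_div] at hf
    exact hf rfl
  have hinj := IsFractionRing.injective (X.presheaf.stalk x) X.functionField
  have ha1 : algebraMap (X.presheaf.stalk x) X.functionField a ≠ 0 := fun h0 =>
    ha0 (hinj (by rw [h0, map_zero]))
  have hb1 : algebraMap (X.presheaf.stalk x) X.functionField b ≠ 0 := fun h0 =>
    hb0 (hinj (by rw [h0, map_zero]))
  have hres : ∀ c : X.presheaf.stalk x, c ≠ 0 →
      Cyc.specMap x (genericPoint X) ((genericPoint_spec X).specializes (Set.mem_univ x)) c ≠ 0 := by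
    intro c hc h0
    have : c ∈ RingHom.ker (Cyc.specMap x (genericPoint X)
      ((genericPoint_spec X).specializes (Set.mem_univ x))) := h0
    rw [ker_specMap_generic, Ideal.mem_bot] at this
    exact hc this
  have hlen : ∀ c : X.presheaf.stalk x, c ≠ 0 →
      Cyc.ordAt x (genericPoint X) ((genericPoint_spec X).specializes (Set.mem_univ x))
        (X.residue (genericPoint X) (algebraMap (X.presheaf.stalk x) X.functionField c)) =
        ((Ring.ord (X.presheaf.stalk x) c).toNat : ℤ) := by
    intro c hc
    rw [← specMap_generic_eq, ordAt_specMap x _ _ hdim c (hres c hc), ker_specMap_generic, bot_sup_eq]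
    rfl
  rw [ord_eq_ordFrac x hx, Groth.Agent.Lib.Helper5.DetLattice.ordFrac_div _ hdimx _ ha0 hb0, map_div₀,
    ordAt_div _ _ _ _ _ ?_ ?_, hlen a ha0, hlen b hb0]
  · rw [← specMap_generic_eq]; exact hres a ha0
  · rw [← specMap_generic_eq]; exact hres b hb0

end Groth.Agent.Lib.Helper28.GenOrd
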