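import Mathlib
import Groth.Prelude.Def_RefHull
import Groth.Agent.Lib.Helper2FlatOver
import Groth.Agent.Lib.Helper6QCohQcqs

/-!
# Stalks of the sheaf Hom `RefHull.homSh F G` (helper28)

Namespace `Groth.Agent.Lib.Helper28.HomSh`.

* `SpansOn F V s`: the germs of the sections `s i ∈ Γ(F, V)` span the stalk `F_y` at every `y ∈ V`.
* `evalStalk_injective_of_spansOn`: `𝓗om(F, G)_x → Hom(F_x, G_x)` is injective if `F` is spanned by
  finitely many sections near `x`.
* `PresentsOn F V s r`: moreover the relations `r j` present every stalk.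
* `evalStalk_surjective_of_presentsOn`: `𝓗om(F, G)_x → Hom(F_x, G_x)` is surjective if `F` is
  finitely presented near `x` in this sense.
-/

set_option autoImplicit false
universe u
open CategoryTheory Limits AlgebraicGeometry TopologicalSpace Opposite

namespace Groth.Agent.Lib.Helper28.HomSh

open Groth.Agent.Lib.Helper6

variable {X : Scheme.{u}} (F G : X.Modules)

theorem res_homSh_apply {U V : X.Opens} (h : V ≤ U) (g : Γ(RefHull.homSh F G, U)) (y : V) :
    (res (RefHull.homSh F G) h g).1 y = g.1 ⟨y.1, h y.2⟩ := rfl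

theorem smul_homSh_apply {U : X.Opens} (r : Γ(X, U)) (g : Γ(RefHull.homSh F G, U)) (y : U) :
    (r • g).1 y = X.presheaf.germ U y.1 y.2 r • g.1 y := rfl

theorem zero_homSh_apply {U : X.Opens} (y : U) :
    (0 : Γ(RefHull.homSh F G, U)).1 y = 0 := rfl

theorem add_homSh_apply {U : X.Opens} (g g' : Γ(RefHull.homSh F G, U)) (y : U) :
    (g + g').1 y = g.1 y + g'.1 y := rfl

theorem germ_res' (M : X.Modules) {U V : X.Opens} (h : V ≤ U) (x : X) (hx : x ∈ V) (m : Γ(M, U)) :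
    M.presheaf.germ V x hx (res M h m) = M.presheaf.germ U x (h hx) m :=
  TopCat.Presheaf.germ_res_apply M.presheaf (homOfLE h) x hx m

theorem germ_resf' {U V : X.Opens} (h : V ≤ U) (x : X) (hx : x ∈ V) (r : Γ(X, U)) :
    X.presheaf.germ V x hx (resf h r) = X.presheaf.germ U x (h hx) r :=
  TopCat.Presheaf.germ_res_apply X.presheaf (homOfLE h) x hx r

/-- a section with vanishing germ at `x` vanishes near `x`. -/
theorem exists_res_eq_zero_of_germ_eq_zero (M : X.Modules) {U : X.Opens} (x : X) (hx : x ∈ U)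
    (m : Γ(M, U)) (hm : M.presheaf.germ U x hx m = 0) :
    ∃ (W : X.Opens) (hW : W ≤ U), x ∈ W ∧ res M hW m = 0 := by
  have h0 : M.presheaf.germ U x hx m = M.presheaf.germ U x hx 0 := by rw [hm, map_zero]
  obtain ⟨W, hxW, i₁, i₂, hW⟩ := M.presheaf.germ_eq x hx hx m 0 h0
  rw [map_zero] at hW
  exact ⟨W, i₁.le, hxW, hW⟩

/-- sections with the same germs are equal. -/
theorem section_ext' (M : X.Modules) {U : X.Opens} (s t : Γ(M, U))
    (h : ∀ (x : X) (hx : x ∈ U), M.presheaf.germ U x hx s = M.presheaf.germ U x hx t) : s = t :=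
  TopCat.Presheaf.section_ext (modSheaf M) U s t h

/-- finite intersections of neighbourhoods. -/
theorem exists_nhd_forall_fin {n : ℕ} (x : X) (P : Fin n → X.Opens → Prop)
    (hmono : ∀ i (W W' : X.Opens), W' ≤ W → P i W → P i W')
    (h : ∀ i, ∃ W : X.Opens, x ∈ W ∧ P i W) : ∃ W : X.Opens, x ∈ W ∧ ∀ i, P i W := by
  choose W hxW hP using h
  refine ⟨⨅ i, W i, ?_, fun i => hmono i (W i) _ (iInf_le W i) (hP i)⟩
  have : x ∈ ((⨅ i, W i : X.Opens) : Set X) := by
    rw [Opens.coe_iInf]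
    exact Set.mem_iInter.2 hxW
  exact this

theorem exists_nhd_le_forall_fin {n : ℕ} (x : X) {V : X.Opens} (hxV : x ∈ V)
    (P : Fin n → X.Opens → Prop)
    (hmono : ∀ i (W W' : X.Opens), W' ≤ W → P i W → P i W')
    (h : ∀ i, ∃ W : X.Opens, x ∈ W ∧ P i W) :
    ∃ W : X.Opens, W ≤ V ∧ x ∈ W ∧ ∀ i, P i W := by
  obtain ⟨W, hxW, hW⟩ := exists_nhd_forall_fin x P hmono h
  exact ⟨W ⊓ V, inf_le_right, ⟨hxW, hxV⟩, fun i => hmono i W _ inf_le_left (hW i)⟩

/-- the germs of the `s i` span the stalk of `F` at every point of `V`. -/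
def SpansOn (V : X.Opens) {n : ℕ} (s : Fin n → Γ(F, V)) : Prop :=
  ∀ (y : X) (hy : y ∈ V), Submodule.span (X.presheaf.stalk y)
    (Set.range fun i => F.presheaf.germ V y hy (s i)) = ⊤

variable {F}

theorem SpansOn.mono {V V' : X.Opens} {n : ℕ} {s : Fin n → Γ(F, V)} (hs : SpansOn F V s)
    (h : V' ≤ V) : SpansOn F V' fun i => res F h (s i) := by
  intro y hy
  have := hs y (h hy)
  simp only [germ_res']
  exact this

variable (F)

/-- **Injectivity of `𝓗om(F, G)_x → Hom(F_x, G_x)`** when `F` is generated near `x` by finitely many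
sections. -/
theorem evalStalk_injective_of_spansOn (x : X) {V : X.Opens} (hxV : x ∈ V) {n : ℕ}
    (s : Fin n → Γ(F, V)) (hs : SpansOn F V s) :
    Function.Injective (RefHull.evalStalk F G x) := by
  rw [injective_iff_map_eq_zero]
  intro θ hθ
  obtain ⟨U, hxU, g, rfl⟩ := TopCat.Presheaf.exists_germ_eq (RefHull.homSh F G).presheaf θ
  rw [RefHull.evalStalk_germ] at hθ
  have key : ∀ i, ∃ W : X.Opens, x ∈ W ∧ ∃ (hWU : W ≤ U) (hWV : W ≤ V), ∀ (y : X) (hy : y ∈ W),
      g.1 ⟨y, hWU hy⟩ (F.presheaf.germ V y (hWV hy) (s i)) = 0 := by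
    intro i
    obtain ⟨W, hxW, j, n, hn⟩ := RefHull.isLocSect_of_mem g (U ⊓ V) (homOfLE inf_le_left)
      (res F inf_le_right (s i)) ⟨x, ⟨hxU, hxV⟩⟩
    have h1 : G.presheaf.germ W x hxW n = 0 := by
      rw [← hn ⟨x, hxW⟩]
      change g.1 ⟨x, hxU⟩ _ = 0
      rw [hθ, LinearMap.zero_apply]
    obtain ⟨W', hW', hxW', hres⟩ := exists_res_eq_zero_of_germ_eq_zero G x hxW n h1
    refine ⟨W', hxW', hW'.trans (j.le.trans inf_le_left), hW'.trans (j.le.trans inf_le_right),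
      fun y hy => ?_⟩
    have h2 := hn ⟨y, hW' hy⟩
    rw [germ_res'] at h2
    change g.1 ⟨y, _⟩ _ = _ at h2
    rw [h2, ← germ_res' G hW' y hy, hres, map_zero]
  obtain ⟨W, hxW, hW⟩ := exists_nhd_forall_fin x
    (fun i W => ∃ (hWU : W ≤ U) (hWV : W ≤ V), ∀ (y : X) (hy : y ∈ W),
      g.1 ⟨y, hWU hy⟩ (F.presheaf.germ V y (hWV hy) (s i)) = 0)
    (fun i W W' hle ⟨h1, h2, h3⟩ => ⟨hle.trans h1, hle.trans h2, fun y hy => h3 y (hle hy)⟩) key
  have hxUV : x ∈ U ⊓ V := ⟨hxU, hxV⟩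
  by_cases hn : n = 0
  · subst hn
    -- the stalks are zero on `V`
    have hzero : res (RefHull.homSh F G) (inf_le_left : U ⊓ V ≤ U) g = 0 := by
      refine Subtype.ext (funext fun y => ?_)
      rw [res_homSh_apply, zero_homSh_apply]
      refine LinearMap.ext_on (hs y.1 y.2.2) ?_
      rintro _ ⟨i, rfl⟩
      exact i.elim0
    rw [← germ_res' (RefHull.homSh F G) inf_le_left x hxUV, hzero, map_zero]
  · obtain ⟨hWU, hWV, -⟩ := hW ⟨0, Nat.pos_of_ne_zero hn⟩
    have hzero : res (RefHull.homSh F G) hWU g = 0 := by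
      refine Subtype.ext (funext fun y => ?_)
      rw [res_homSh_apply, zero_homSh_apply]
      refine LinearMap.ext_on (hs y.1 (hWV y.2)) ?_
      rintro _ ⟨i, rfl⟩
      obtain ⟨_, _, h3⟩ := hW i
      rw [LinearMap.zero_apply]
      exact h3 y.1 y.2
    rw [← germ_res' (RefHull.homSh F G) hWU x hxW, hzero, map_zero]

/-- the sections `s i` and the relations `r j` present every stalk of `F` over `V`. -/
structure PresentsOn (V : X.Opens) {n m : ℕ} (s : Fin n → Γ(F, V)) (r : Fin m → Fin n → Γ(X, V)) :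
    Prop where
  spans : SpansOn F V s
  rel : ∀ j, ∑ i, r j i • s i = 0
  lift : ∀ (y : X) (hy : y ∈ V) (N : Type u) [AddCommGroup N] [Module (X.presheaf.stalk y) N]
    (t : Fin n → N), (∀ j, ∑ i, X.presheaf.germ V y hy (r j i) • t i = 0) →
    ∃ f : F.presheaf.stalk y →ₗ[X.presheaf.stalk y] N, ∀ i, f (F.presheaf.germ V y hy (s i)) = t i

theorem germ_sum_smul (M : X.Modules) {U : X.Opens} (x : X) (hx : x ∈ U) {n : ℕ}
    (a : Fin n → Γ(X, U)) (t : Fin n → Γ(M, U)) :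
    M.presheaf.germ U x hx (∑ i, a i • t i) =
      ∑ i, X.presheaf.germ U x hx (a i) • M.presheaf.germ U x hx (t i) := by
  rw [map_sum]
  exact Finset.sum_congr rfl fun i _ => Mero.germ_smul M U x hx (a i) (t i)

/-- a germ is the germ of a section on a neighbourhood inside a given open. -/
theorem exists_germ_eq_le (M : X.Modules) (x : X) {V : X.Opens} (hxV : x ∈ V)
    (c : M.presheaf.stalk x) :
    ∃ (W : X.Opens) (_ : W ≤ V) (hxW : x ∈ W) (a : Γ(M, W)), M.presheaf.germ W x hxW a = c := by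
  obtain ⟨U, hxU, a, rfl⟩ := TopCat.Presheaf.exists_germ_eq M.presheaf c
  exact ⟨U ⊓ V, inf_le_right, ⟨hxU, hxV⟩, res M inf_le_left a, germ_res' M _ x _ a⟩

theorem exists_germ_eq_le_ring (x : X) {V : X.Opens} (hxV : x ∈ V) (c : X.presheaf.stalk x) :
    ∃ (W : X.Opens) (_ : W ≤ V) (hxW : x ∈ W) (a : Γ(X, W)), X.presheaf.germ W x hxW a = c := by
  obtain ⟨U, hxU, a, rfl⟩ := TopCat.Presheaf.exists_germ_eq X.presheaf c
  exact ⟨U ⊓ V, inf_le_right, ⟨hxU, hxV⟩, resf inf_le_left a, germ_resf' _ x _ a⟩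

/-- sections with the same germ at `x` agree near `x`. -/
theorem exists_res_eq_of_germ_eq (M : X.Modules) {U : X.Opens} (x : X) (hx : x ∈ U)
    (m m' : Γ(M, U)) (hm : M.presheaf.germ U x hx m = M.presheaf.germ U x hx m') :
    ∃ (W : X.Opens) (hW : W ≤ U), x ∈ W ∧ res M hW m = res M hW m' := by
  obtain ⟨W, hxW, i₁, i₂, hW⟩ := M.presheaf.germ_eq x hx hx m m' hm
  exact ⟨W, i₁.le, hxW, hW⟩

/-- **Surjectivity of `𝓗om(F, G)_x → Hom(F_x, G_x)`** when `F` is finitely presented near `x`. -/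
theorem evalStalk_surjective_of_presentsOn (x : X) {V : X.Opens} (hxV : x ∈ V) {n m : ℕ}
    (s : Fin n → Γ(F, V)) (r : Fin m → Fin n → Γ(X, V)) (hs : PresentsOn F V s r) :
    Function.Surjective (RefHull.evalStalk F G x) := by
  intro φ
  -- step 1: sections `t i` of `G` near `x` with germ `φ (s i)_x`
  obtain ⟨W, hWV, hxW, hW⟩ := exists_nhd_le_forall_fin x hxV
    (fun i W => ∃ t : Γ(G, W), ∀ hx : x ∈ W,
      G.presheaf.germ W x hx t = φ (F.presheaf.germ V x hxV (s i)))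
    (fun i W W' hle ⟨t, ht⟩ => ⟨res G hle t, fun hx => by
      rw [germ_res', ht]⟩)
    (fun i => by
      obtain ⟨W, hWV, hxW, t, ht⟩ := exists_germ_eq_le G x hxV
        (φ (F.presheaf.germ V x hxV (s i)))
      exact ⟨W, hxW, t, fun _ => ht⟩)
  choose t ht using hW
  -- step 2: the relations hold for the `t i` near `x`
  obtain ⟨W', hW'W, hxW', hW'⟩ := exists_nhd_le_forall_fin x hxW
    (fun j W' => ∀ (y : X), y ∈ W' → ∀ hy : y ∈ W,
      G.presheaf.germ W y hy (∑ i, resf hWV (r j i) • t i) = 0)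
    (fun j W₁ W₂ hle h y hy hy' => h y (hle hy) hy')
    (fun j => by
      have h0 : G.presheaf.germ W x hxW (∑ i, resf hWV (r j i) • t i) = 0 := by
        rw [germ_sum_smul]
        simp only [germ_resf', ht]
        simp only [← map_smul]
        rw [← map_sum]
        have h1 : ∑ i, X.presheaf.germ V x hxV (r j i) • F.presheaf.germ V x hxV (s i) = 0 := by
          rw [← germ_sum_smul, hs.rel j, map_zero]
        rw [h1, map_zero]
      obtain ⟨W'', hW'', hxW'', hres⟩ := exists_res_eq_zero_of_germ_eq_zero G x hxW _ h0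
      refine ⟨W'', hxW'', fun y hy hy' => ?_⟩
      rw [← germ_res' G hW'' y hy, hres, map_zero])
  -- step 3: the stalk maps
  have hlift : ∀ y : W', ∃ f : F.presheaf.stalk y.1 →ₗ[X.presheaf.stalk y.1] G.presheaf.stalk y.1,
      ∀ i, f (F.presheaf.germ V y.1 (hWV (hW'W y.2)) (s i)) =
        G.presheaf.germ W y.1 (hW'W y.2) (t i) := by
    intro y
    refine hs.lift y.1 (hWV (hW'W y.2)) _ (fun i => G.presheaf.germ W y.1 (hW'W y.2) (t i)) ?_
    intro j
    have := hW' j y.1 y.2 (hW'W y.2)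
    rw [germ_sum_smul] at this
    simpa only [germ_resf'] using this
  choose f hf using hlift
  -- step 4: the family is a section of the sheaf Hom
  have hloc : RefHull.IsLocSect F G f := by
    intro V₁ i₁ m₁ x₁
    have hx₁V : x₁.1 ∈ V := hWV (hW'W (i₁.le x₁.2))
    have hmem : F.presheaf.germ V₁ x₁.1 x₁.2 m₁ ∈ Submodule.span (X.presheaf.stalk x₁.1)
        (Set.range fun i => F.presheaf.germ V x₁.1 hx₁V (s i)) := by
      rw [hs.spans x₁.1 hx₁V]; trivial
    obtain ⟨c, hc⟩ := (Submodule.mem_span_range_iff_exists_fun _).1 hmem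
    obtain ⟨W₁, hW₁V₁, hx₁W₁, hW₁⟩ := exists_nhd_le_forall_fin x₁.1 x₁.2
      (fun i W₁ => ∃ a : Γ(X, W₁), ∀ hx : x₁.1 ∈ W₁, X.presheaf.germ W₁ x₁.1 hx a = c i)
      (fun i W W' hle ⟨a, ha⟩ => ⟨resf hle a, fun hx => by rw [germ_resf', ha]⟩)
      (fun i => by
        obtain ⟨W, _, hxW, a, ha⟩ := exists_germ_eq_le_ring x₁.1 x₁.2 (c i)
        exact ⟨W, hxW, a, fun _ => ha⟩)
    choose a ha using hW₁
    have hW₁V : W₁ ≤ V := hW₁V₁.trans (i₁.le.trans (hW'W.trans hWV))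
    have hW₁W : W₁ ≤ W := hW₁V₁.trans (i₁.le.trans hW'W)
    have hgerm : F.presheaf.germ W₁ x₁.1 hx₁W₁ (res F hW₁V₁ m₁) =
        F.presheaf.germ W₁ x₁.1 hx₁W₁ (∑ i, a i • res F hW₁V (s i)) := by
      rw [germ_res', germ_sum_smul, ← hc]
      refine Finset.sum_congr rfl fun i _ => ?_
      rw [ha i hx₁W₁, germ_res']
    obtain ⟨W₂, hW₂, hx₁W₂, hres⟩ := exists_res_eq_of_germ_eq F x₁.1 hx₁W₁ _ _ hgerm
    refine ⟨W₂, hx₁W₂, homOfLE (hW₂.trans hW₁V₁), ∑ i, resf hW₂ (a i) • res G (hW₂.trans hW₁W) (t i),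
      fun y => ?_⟩
    have e1 : F.presheaf.germ V₁ y.1 ((hW₂.trans hW₁V₁) y.2) m₁ =
        ∑ i, X.presheaf.germ W₁ y.1 (hW₂ y.2) (a i) •
          F.presheaf.germ V y.1 (hW₁V (hW₂ y.2)) (s i) := by
      rw [← germ_res' F hW₁V₁ y.1 (hW₂ y.2), ← germ_res' F hW₂ y.1 y.2, hres, germ_res',
        germ_sum_smul]
      refine Finset.sum_congr rfl fun i _ => ?_
      rw [germ_res']
    rw [e1, map_sum, germ_sum_smul]
    refine Finset.sum_congr rfl fun i _ => ?_
    rw [map_smul, germ_resf', germ_res']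
    exact congrArg _ (hf ⟨y.1, i₁.le ((hW₂.trans hW₁V₁) y.2)⟩ i)
  -- step 5: conclusion
  refine ⟨(RefHull.homSh F G).presheaf.germ W' x hxW' ⟨f, hloc⟩, ?_⟩
  rw [RefHull.evalStalk_germ]
  change f ⟨x, hxW'⟩ = φ
  refine LinearMap.ext_on (hs.spans x hxV) ?_
  rintro _ ⟨i, rfl⟩
  rw [hf ⟨x, hxW'⟩ i]
  exact ht i hxW

end Groth.Agent.Lib.Helper28.HomSh
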