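import Mathlib
import Groth.Prelude.Def_RefHull
import Groth.Agent.Lib.Helper28HomShStalk

/-!
# Functoriality of the sheaf Hom `RefHull.homSh` (helper28)

Namespace `Groth.Agent.Lib.Helper28.HomShFun`.

* `stalkMapₗ_id`, `stalkMapₗ_comp`.
* `homShMap φ ψ : homSh A B ⟶ homSh A' B'` for `φ : A' ⟶ A`, `ψ : B ⟶ B'`; `homShMap_id`, `homShMap_comp`.
* `homShCongr e e' : homSh A B ≅ homSh A' B'`; `dualIso`, `ddualIso`.
-/

set_option autoImplicit false
universe u
open CategoryTheory Limits AlgebraicGeometry TopologicalSpace Opposite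

namespace Groth.Agent.Lib.Helper28.HomShFun

open Groth.Agent.Lib.Helper28.HomSh

variable {X : Scheme.{u}}

theorem stalkMapₗ_id (A : X.Modules) (x : X) : RefHull.stalkMapₗ (𝟙 A) x = LinearMap.id := by
  ext v
  obtain ⟨U, hx, m, rfl⟩ := TopCat.Presheaf.exists_germ_eq A.presheaf v
  rw [RefHull.stalkMapₗ_germ]
  rfl

theorem stalkMapₗ_comp {A B C : X.Modules} (φ : A ⟶ B) (ψ : B ⟶ C) (x : X) :
    RefHull.stalkMapₗ (φ ≫ ψ) x = (RefHull.stalkMapₗ ψ x).comp (RefHull.stalkMapₗ φ x) := by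
  ext v
  obtain ⟨U, hx, m, rfl⟩ := TopCat.Presheaf.exists_germ_eq A.presheaf v
  rw [LinearMap.comp_apply, RefHull.stalkMapₗ_germ, RefHull.stalkMapₗ_germ, RefHull.stalkMapₗ_germ]
  rfl

variable {A A' A'' B B' B'' : X.Modules}

/-- the map on sections of the sheaf Hom induced by `φ : A' ⟶ A` and `ψ : B ⟶ B'`. -/
noncomputable def homShMapFun (φ : A' ⟶ A) (ψ : B ⟶ B') (U : X.Opens) :
    Γ(RefHull.homSh A B, U) →+ Γ(RefHull.homSh A' B', U) where
  toFun g := ⟨fun x => (RefHull.stalkMapₗ ψ x.1).comp ((g.1 x).comp (RefHull.stalkMapₗ φ x.1)),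
    fun V i m x => by
      obtain ⟨W, hW, j, n, w⟩ := RefHull.isLocSect_of_mem g V i (φ.app V m) x
      refine ⟨W, hW, j, ψ.app W n, fun y => ?_⟩
      have e := w y
      rw [LinearMap.comp_apply, LinearMap.comp_apply, RefHull.stalkMapₗ_germ, e,
        RefHull.stalkMapₗ_germ]⟩
  map_zero' := Subtype.ext <| funext fun x => by
    change (RefHull.stalkMapₗ ψ x.1).comp ((0 : RefHull.StalkHom A B x.1).comp _) = 0
    rw [LinearMap.zero_comp, LinearMap.comp_zero]
  map_add' g h := Subtype.ext <| funext fun x => by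
    change (RefHull.stalkMapₗ ψ x.1).comp ((g.1 x + h.1 x).comp _) =
      (RefHull.stalkMapₗ ψ x.1).comp ((g.1 x).comp _) + (RefHull.stalkMapₗ ψ x.1).comp ((h.1 x).comp _)
    rw [LinearMap.add_comp, LinearMap.comp_add]

/-- functoriality of the sheaf Hom. -/
noncomputable def homShMap (φ : A' ⟶ A) (ψ : B ⟶ B') : RefHull.homSh A B ⟶ RefHull.homSh A' B' :=
  ⟨PresheafOfModules.homMk
    { app := fun U => AddCommGrpCat.ofHom (homShMapFun φ ψ U.unop)
      naturality := fun {U V} i => by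
        ext s
        rfl }
    (fun U r s => Subtype.ext <| funext fun x => by
      change (RefHull.stalkMapₗ ψ x.1).comp
          ((X.presheaf.germ U.unop x.1 x.2 r • s.1 x).comp (RefHull.stalkMapₗ φ x.1)) =
        X.presheaf.germ U.unop x.1 x.2 r •
          (RefHull.stalkMapₗ ψ x.1).comp ((s.1 x).comp (RefHull.stalkMapₗ φ x.1))
      rw [LinearMap.smul_comp, LinearMap.comp_smul])⟩

@[simp] theorem homShMap_app_apply (φ : A' ⟶ A) (ψ : B ⟶ B') {U : X.Opens}
    (g : Γ(RefHull.homSh A B, U)) (x : U) :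
    ((homShMap φ ψ).app U g).1 x =
      (RefHull.stalkMapₗ ψ x.1).comp ((g.1 x).comp (RefHull.stalkMapₗ φ x.1)) := rfl

theorem homShMap_id (A B : X.Modules) : homShMap (𝟙 A) (𝟙 B) = 𝟙 (RefHull.homSh A B) := by
  refine Scheme.Modules.hom_ext _ _ fun U => ?_
  ext g
  refine Subtype.ext (funext fun x => ?_)
  rw [homShMap_app_apply, stalkMapₗ_id, stalkMapₗ_id]
  rfl

theorem homShMap_comp (φ : A' ⟶ A) (ψ : B ⟶ B') (φ' : A'' ⟶ A') (ψ' : B' ⟶ B'') :
    homShMap φ ψ ≫ homShMap φ' ψ' = homShMap (φ' ≫ φ) (ψ ≫ ψ') := by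
  refine Scheme.Modules.hom_ext _ _ fun U => ?_
  ext g
  refine Subtype.ext (funext fun x => ?_)
  rw [homShMap_app_apply, stalkMapₗ_comp, stalkMapₗ_comp]
  rfl

/-- the sheaf Hom is invariant under isomorphisms in both variables. -/
noncomputable def homShCongr (e : A ≅ A') (e' : B ≅ B') : RefHull.homSh A B ≅ RefHull.homSh A' B' where
  hom := homShMap e.inv e'.hom
  inv := homShMap e.hom e'.inv
  hom_inv_id := by rw [homShMap_comp, e.hom_inv_id, e'.hom_inv_id, homShMap_id]
  inv_hom_id := by rw [homShMap_comp, e.inv_hom_id, e'.inv_hom_id, homShMap_id]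

/-- the dual is invariant under isomorphisms. -/
noncomputable def dualIso (e : A ≅ A') : RefHull.dual A ≅ RefHull.dual A' :=
  homShCongr e (Iso.refl _)

/-- the reflexive hull is invariant under isomorphisms. -/
noncomputable def ddualIso (e : A ≅ A') : RefHull.ddual A ≅ RefHull.ddual A' :=
  dualIso (dualIso e)

end Groth.Agent.Lib.Helper28.HomShFun
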