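import Mathlib
import Groth.Prelude.Def_RefHull
import Groth.Agent.Lib.Helper28HomShStalk
import Groth.Agent.Lib.Helper28HomShFun

/-!
# Restriction to an open commutes with the sheaf Hom (helper28)
-/

set_option autoImplicit false
universe u
open CategoryTheory Limits AlgebraicGeometry TopologicalSpace Opposite

namespace Groth.Agent.Lib.Helper28.RestrHom

open Groth.Agent.Lib.Helper28.HomSh

section Generic

variable {X Y : Scheme.{u}} (f : Y ⟶ X) [IsOpenImmersion f] (M : X.Modules) (N : Y.Modules)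
  (F : ∀ W : Y.Opens, Γ(M, f ''ᵁ W) →+ Γ(N, W))

/-- the natural transformation defined by a compatible family of maps on sections. -/
noncomputable def natOfSections
    (hnat : ∀ (U W : Y.Opens) (i : W ⟶ U) (s : Γ(M, f ''ᵁ U)),
      F W (M.presheaf.map (f.opensFunctor.map i).op s) = N.presheaf.map i.op (F U s)) :
    (M.restrict f).val.presheaf ⟶ N.val.presheaf where
  app := fun W => AddCommGrpCat.ofHom (F W.unop)
  naturality := fun {U W} i => by
    ext s
    exact hnat U.unop W.unop i.unop s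

theorem natOfSections_app_apply
    (hnat : ∀ (U W : Y.Opens) (i : W ⟶ U) (s : Γ(M, f ''ᵁ U)),
      F W (M.presheaf.map (f.opensFunctor.map i).op s) = N.presheaf.map i.op (F U s))
    (W : (Opens Y)ᵒᵖ) (m : (M.restrict f).val.obj W) :
    (ConcreteCategory.hom ((natOfSections f M N F hnat).app W)) m = F W.unop m := rfl

theorem natOfSections_smul
    (hnat : ∀ (U W : Y.Opens) (i : W ⟶ U) (s : Γ(M, f ''ᵁ U)),
      F W (M.presheaf.map (f.opensFunctor.map i).op s) = N.presheaf.map i.op (F U s))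
    (hsmul : ∀ (W : Y.Opens) (r : Γ(Y, W)) (s : Γ(M, f ''ᵁ W)),
      F W ((f.appIso W).inv r • s) = r • F W s)
    (W : (Opens Y)ᵒᵖ) (r : Y.ringCatSheaf.obj.obj W) (m : (M.restrict f).val.obj W) :
    (ConcreteCategory.hom ((natOfSections f M N F hnat).app W)) (r • m) =
      r • (ConcreteCategory.hom ((natOfSections f M N F hnat).app W)) m :=
  hsmul W.unop r m

/-- a compatible family of bijections on sections gives an isomorphism from the restriction. -/
theorem nonempty_restrict_iso_of_sections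
    (hnat : ∀ (U W : Y.Opens) (i : W ⟶ U) (s : Γ(M, f ''ᵁ U)),
      F W (M.presheaf.map (f.opensFunctor.map i).op s) = N.presheaf.map i.op (F U s))
    (hsmul : ∀ (W : Y.Opens) (r : Γ(Y, W)) (s : Γ(M, f ''ᵁ W)),
      F W ((f.appIso W).inv r • s) = r • F W s)
    (hbij : ∀ W : Y.Opens, Function.Bijective (F W)) :
    Nonempty (M.restrict f ≅ N) := by
  let ψ : M.restrict f ⟶ N :=
    ⟨PresheafOfModules.homMk (natOfSections f M N F hnat) (natOfSections_smul f M N F hnat hsmul)⟩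
  have hψ : (Scheme.Modules.toPresheaf Y).map ψ = natOfSections f M N F hnat := rfl
  have hiso : IsIso (natOfSections f M N F hnat) := by
    haveI : ∀ W, IsIso ((natOfSections f M N F hnat).app W) := fun W =>
      (ConcreteCategory.isIso_iff_bijective _).2 (hbij W.unop)
    exact NatIso.isIso_of_isIso_app _
  haveI : IsIso ((Scheme.Modules.toPresheaf Y).map ψ) := by
    rw [hψ]; exact hiso
  haveI : IsIso ψ := isIso_of_reflects_iso ψ (Scheme.Modules.toPresheaf Y)
  exact ⟨asIso ψ⟩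

end Generic

variable {X : Scheme.{u}} (V : X.Opens)

/-- the stalk of the restriction. -/
noncomputable def sig (M : X.Modules) (y : ↥(V : Scheme.{u})) :
    (M.restrict V.ι).presheaf.stalk y ≅ M.presheaf.stalk (V.ι y) :=
  (Scheme.Modules.restrictStalkNatIso V.ι y).app M

theorem sig_hom_germ (M : X.Modules) (y : ↥(V : Scheme.{u})) (W : (V : Scheme.{u}).Opens) (hy : y ∈ W)
    (s : Γ(M.restrict V.ι, W)) :
    (sig V M y).hom ((M.restrict V.ι).presheaf.germ W y hy s) =
      M.presheaf.germ (V.ι ''ᵁ W) (V.ι y) ⟨y, hy, rfl⟩ s :=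
  ConcreteCategory.congr_hom (Scheme.Modules.germ_restrictStalkNatIso_hom_app V.ι y M hy) s

theorem sig_inv_germ (M : X.Modules) (y : ↥(V : Scheme.{u})) (W : (V : Scheme.{u}).Opens) (hy : y ∈ W)
    (s : Γ(M.restrict V.ι, W)) :
    (sig V M y).inv (M.presheaf.germ (V.ι ''ᵁ W) (V.ι y) ⟨y, hy, rfl⟩ s) =
      (M.restrict V.ι).presheaf.germ W y hy s := by
  rw [← sig_hom_germ]
  exact ConcreteCategory.congr_hom (sig V M y).hom_inv_id _

theorem sig_hom_inv (M : X.Modules) (y : ↥(V : Scheme.{u})) (n : M.presheaf.stalk (V.ι y)) :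
    (sig V M y).hom ((sig V M y).inv n) = n :=
  ConcreteCategory.congr_hom (sig V M y).inv_hom_id n

theorem sig_inv_hom (M : X.Modules) (y : ↥(V : Scheme.{u})) (m : (M.restrict V.ι).presheaf.stalk y) :
    (sig V M y).inv ((sig V M y).hom m) = m :=
  ConcreteCategory.congr_hom (sig V M y).hom_inv_id m

/-- the inverse of the stalk map of the inclusion. -/
noncomputable def rho (y : ↥(V : Scheme.{u})) :
    (V : Scheme.{u}).presheaf.stalk y ≃+* X.presheaf.stalk (V.ι y) :=
  (asIso (V.ι.stalkMap y)).commRingCatIsoToRingEquiv.symm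

theorem rho_germ (y : ↥(V : Scheme.{u})) (W : (V : Scheme.{u}).Opens) (hy : y ∈ W) (r : Γ((V : Scheme.{u}), W)) :
    rho V y ((V : Scheme.{u}).presheaf.germ W y hy r) =
      X.presheaf.germ (V.ι ''ᵁ W) (V.ι y) ⟨y, hy, rfl⟩ r := by
  rw [rho, RingEquiv.symm_apply_eq]
  change _ = (V.ι.stalkMap y).hom _
  have h := ConcreteCategory.congr_hom (Scheme.Hom.germ_stalkMap V.ι (V.ι ''ᵁ W) y ⟨y, hy, rfl⟩) r
  rw [CommRingCat.comp_apply] at h
  rw [h]
  have h2 := Scheme.Hom.appIso_hom V.ι W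
  rw [Scheme.Opens.ι_appIso] at h2
  have h3 : r = ((V : Scheme.{u}).presheaf.map (eqToHom (Scheme.Hom.preimage_image_eq V.ι W).symm).op)
      ((Scheme.Hom.app V.ι (V.ι ''ᵁ W)) r) := by
    have := ConcreteCategory.congr_hom h2 r
    rw [CommRingCat.comp_apply] at this
    exact this
  conv_lhs => rw [h3]
  exact TopCat.Presheaf.germ_res_apply _ _ _ _ _

theorem restrict_smul (M : X.Modules) (W : (V : Scheme.{u}).Opens) (r : Γ((V : Scheme.{u}), W))
    (s : Γ(M.restrict V.ι, W)) :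
    r • s = (show Γ(M, V.ι ''ᵁ W) from ((show Γ(X, V.ι ''ᵁ W) from r) • (show Γ(M, V.ι ''ᵁ W) from s))) := by
  have h := Scheme.Modules.smul_restrictAppIso_hom_apply V.ι M W r s
  rw [Scheme.Opens.ι_appIso] at h
  exact h

/-- semilinearity of the stalk isomorphism. -/
theorem sig_hom_smul (M : X.Modules) (y : ↥(V : Scheme.{u})) (a : (V : Scheme.{u}).presheaf.stalk y)
    (m : (M.restrict V.ι).presheaf.stalk y) :
    (sig V M y).hom (a • m) = rho V y a • (sig V M y).hom m := by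
  obtain ⟨Ua, ha, r, rfl⟩ := TopCat.Presheaf.exists_germ_eq (V : Scheme.{u}).presheaf a
  obtain ⟨Um, hm, s, rfl⟩ := TopCat.Presheaf.exists_germ_eq (M.restrict V.ι).presheaf m
  rw [← TopCat.Presheaf.germ_res_apply (V : Scheme.{u}).presheaf (homOfLE (inf_le_left : Ua ⊓ Um ≤ Ua)) y ⟨ha, hm⟩,
    ← TopCat.Presheaf.germ_res_apply (M.restrict V.ι).presheaf (homOfLE (inf_le_right : Ua ⊓ Um ≤ Um)) y ⟨ha, hm⟩,
    ← Mero.germ_smul, sig_hom_germ, sig_hom_germ, rho_germ, restrict_smul, Mero.germ_smul]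

theorem sig_inv_smul (M : X.Modules) (y : ↥(V : Scheme.{u})) (a : (V : Scheme.{u}).presheaf.stalk y)
    (n : M.presheaf.stalk (V.ι y)) :
    (sig V M y).inv (rho V y a • n) = a • (sig V M y).inv n := by
  have h := sig_hom_smul V M y a ((sig V M y).inv n)
  rw [sig_hom_inv] at h
  rw [← h, sig_inv_hom]

variable (A B : X.Modules)

/-- transport of a stalk map to the restriction. -/
noncomputable def conj (y : ↥(V : Scheme.{u})) (g : RefHull.StalkHom A B (V.ι y)) :
    RefHull.StalkHom (A.restrict V.ι) (B.restrict V.ι) y where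
  toFun m := (sig V B y).inv (g ((sig V A y).hom m))
  map_add' m m' := by rw [map_add, map_add, map_add]
  map_smul' a m := by
    rw [RingHom.id_apply, sig_hom_smul, map_smul, sig_inv_smul]

@[simp] theorem conj_apply (y : ↥(V : Scheme.{u})) (g : RefHull.StalkHom A B (V.ι y))
    (m : (A.restrict V.ι).presheaf.stalk y) :
    conj V A B y g m = (sig V B y).inv (g ((sig V A y).hom m)) := rfl

/-- transport of a stalk map from the restriction. -/
noncomputable def conjInv (y : ↥(V : Scheme.{u})) (g : RefHull.StalkHom (A.restrict V.ι) (B.restrict V.ι) y) :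
    RefHull.StalkHom A B (V.ι y) where
  toFun n := (sig V B y).hom (g ((sig V A y).inv n))
  map_add' m m' := by rw [map_add, map_add, map_add]
  map_smul' a n := by
    obtain ⟨a', rfl⟩ := (rho V y).surjective a
    rw [RingHom.id_apply, sig_inv_smul, map_smul, sig_hom_smul]

@[simp] theorem conjInv_apply (y : ↥(V : Scheme.{u})) (g : RefHull.StalkHom (A.restrict V.ι) (B.restrict V.ι) y)
    (n : A.presheaf.stalk (V.ι y)) :
    conjInv V A B y g n = (sig V B y).hom (g ((sig V A y).inv n)) := rfl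

theorem conj_conjInv (y : ↥(V : Scheme.{u})) (g : RefHull.StalkHom (A.restrict V.ι) (B.restrict V.ι) y) :
    conj V A B y (conjInv V A B y g) = g := by
  ext m
  rw [conj_apply, conjInv_apply, sig_inv_hom, sig_inv_hom]

theorem conjInv_conj (y : ↥(V : Scheme.{u})) (g : RefHull.StalkHom A B (V.ι y)) :
    conjInv V A B y (conj V A B y g) = g := by
  ext m
  rw [conjInv_apply, conj_apply, sig_hom_inv, sig_hom_inv]


/-- the comparison map on sections. -/
noncomputable def phiFun (W : (V : Scheme.{u}).Opens) :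
    Γ(RefHull.homSh A B, V.ι ''ᵁ W) →+ Γ(RefHull.homSh (A.restrict V.ι) (B.restrict V.ι), W) where
  toFun g := ⟨fun y => conj V A B y.1 (g.1 ⟨V.ι y.1, ⟨y.1, y.2, rfl⟩⟩), fun V' i m x => by
    obtain ⟨W'', hxW'', j, n, w⟩ := RefHull.isLocSect_of_mem g (V.ι ''ᵁ V')
      (homOfLE (Scheme.Hom.image_mono V.ι i.le)) m ⟨V.ι x.1, ⟨x.1, x.2, rfl⟩⟩
    have hle : V.ι ''ᵁ (V.ι ⁻¹ᵁ W'') ≤ W'' := by
      rintro _ ⟨z, hz, rfl⟩
      exact hz
    have hle' : V.ι ⁻¹ᵁ W'' ≤ V' := by
      intro z hz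
      obtain ⟨z', hz', e⟩ := j.le hz
      have : z' = z := V.ι.isOpenEmbedding.injective e
      exact this ▸ hz'
    refine ⟨V.ι ⁻¹ᵁ W'', hxW'', homOfLE hle', B.presheaf.map (homOfLE hle).op n, fun y => ?_⟩
    have e := w ⟨V.ι y.1, y.2⟩
    rw [conj_apply, sig_hom_germ]
    erw [e]
    rw [← sig_inv_germ V B y.1 (V.ι ⁻¹ᵁ W'') y.2]
    congr 1
    exact (TopCat.Presheaf.germ_res_apply B.presheaf (homOfLE hle) (V.ι y.1) ⟨y.1, y.2, rfl⟩ n).symm⟩
  map_zero' := Subtype.ext <| funext fun y => by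
    ext m
    exact map_zero (sig V B y.1).inv.hom
  map_add' g h := Subtype.ext <| funext fun y => by
    ext m
    exact map_add (sig V B y.1).inv.hom
      (g.1 ⟨V.ι y.1, ⟨y.1, y.2, rfl⟩⟩ ((sig V A y.1).hom m)) (h.1 ⟨V.ι y.1, ⟨y.1, y.2, rfl⟩⟩ ((sig V A y.1).hom m))


theorem mem_of_mem_image {W : (V : Scheme.{u}).Opens} {z : X} (hz : z ∈ V.ι ''ᵁ W) :
    ∃ hzV : z ∈ V, (⟨z, hzV⟩ : ↥(V : Scheme.{u})) ∈ W := by
  obtain ⟨y, hy, rfl⟩ := hz
  exact ⟨y.2, hy⟩

theorem image_preimage_le (V'' : X.Opens) : V.ι ''ᵁ (V.ι ⁻¹ᵁ V'') ≤ V'' := by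
  rintro _ ⟨z, hz, rfl⟩
  exact hz

/-- the inverse of the comparison map on sections. -/
noncomputable def psiFun (W : (V : Scheme.{u}).Opens)
    (g' : Γ(RefHull.homSh (A.restrict V.ι) (B.restrict V.ι), W)) : Γ(RefHull.homSh A B, V.ι ''ᵁ W) :=
  ⟨fun z => conjInv V A B ⟨z.1, (mem_of_mem_image V z.2).1⟩ (g'.1 ⟨⟨z.1, (mem_of_mem_image V z.2).1⟩,
      (mem_of_mem_image V z.2).2⟩), fun V'' i m x => by
    have hxW := i.le x.2
    obtain ⟨hxV, hxW'⟩ := mem_of_mem_image V hxW
    have hle' : V.ι ⁻¹ᵁ V'' ≤ W := by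
      intro z hz
      obtain ⟨z', hz', e⟩ := i.le hz
      have : z' = z := V.ι.isOpenEmbedding.injective e
      exact this ▸ hz'
    obtain ⟨W''', hxW''', j, n', w⟩ := RefHull.isLocSect_of_mem g' (V.ι ⁻¹ᵁ V'') (homOfLE hle')
      (A.presheaf.map (homOfLE (image_preimage_le V V'')).op m) ⟨⟨x.1, hxV⟩, x.2⟩
    refine ⟨V.ι ''ᵁ W''', ⟨⟨x.1, hxV⟩, hxW''', rfl⟩,
      homOfLE ((Scheme.Hom.image_mono V.ι j.le).trans (image_preimage_le V V'')), n', ?_⟩
    rintro ⟨_, ⟨y, hy, rfl⟩⟩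
    have e := w ⟨y, hy⟩
    change conjInv V A B y (g'.1 ⟨y, hle' (j.le hy)⟩) (A.presheaf.germ V'' (V.ι y)
      ((Scheme.Hom.image_mono V.ι j.le).trans (image_preimage_le V V'') ⟨y, hy, rfl⟩) m) =
      B.presheaf.germ (V.ι ''ᵁ W''') (V.ι y) ⟨y, hy, rfl⟩ n'
    rw [conjInv_apply]
    have h1 : A.presheaf.germ V'' (V.ι y) ((Scheme.Hom.image_mono V.ι j.le).trans (image_preimage_le V V'') ⟨y, hy, rfl⟩) m =
        A.presheaf.germ (V.ι ''ᵁ (V.ι ⁻¹ᵁ V'')) (V.ι y) ⟨y, j.le hy, rfl⟩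
          (A.presheaf.map (homOfLE (image_preimage_le V V'')).op m) :=
      (TopCat.Presheaf.germ_res_apply A.presheaf (homOfLE (image_preimage_le V V'')) (V.ι y) ⟨y, j.le hy, rfl⟩ m).symm
    erw [h1, sig_inv_germ V A y (V.ι ⁻¹ᵁ V'') (j.le hy), e, sig_hom_germ]⟩

theorem phiFun_psiFun (W : (V : Scheme.{u}).Opens)
    (g' : Γ(RefHull.homSh (A.restrict V.ι) (B.restrict V.ι), W)) : phiFun V A B W (psiFun V A B W g') = g' :=
  Subtype.ext <| funext fun y => conj_conjInv V A B y.1 (g'.1 y)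


theorem conj_smul (y : ↥(V : Scheme.{u})) (b : (V : Scheme.{u}).presheaf.stalk y)
    (g : RefHull.StalkHom A B (V.ι y)) :
    conj V A B y (rho V y b • g) = b • conj V A B y g := by
  ext m
  rw [conj_apply, LinearMap.smul_apply, sig_inv_smul, LinearMap.smul_apply, conj_apply]

theorem phiFun_injective (W : (V : Scheme.{u}).Opens) : Function.Injective (phiFun V A B W) := by
  intro g h hgh
  refine Subtype.ext (funext ?_)
  rintro ⟨_, ⟨y, hy, rfl⟩⟩
  have h1 := congrFun (congrArg Subtype.val hgh) ⟨y, hy⟩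
  have h2 := congrArg (conjInv V A B y) h1
  change conjInv V A B y (conj V A B y (g.1 ⟨V.ι y, ⟨y, hy, rfl⟩⟩)) =
    conjInv V A B y (conj V A B y (h.1 ⟨V.ι y, ⟨y, hy, rfl⟩⟩)) at h2
  rw [conjInv_conj, conjInv_conj] at h2
  exact h2


theorem phiFun_smul (W : (V : Scheme.{u}).Opens) (r : Γ(X, V.ι ''ᵁ W))
    (g : Γ(RefHull.homSh A B, V.ι ''ᵁ W)) :
    phiFun V A B W (r • g) = (show Γ((V : Scheme.{u}), W) from r) • phiFun V A B W g := by
  refine Subtype.ext <| funext fun y => ?_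
  change conj V A B y.1 (X.presheaf.germ (V.ι ''ᵁ W) (V.ι y.1) ⟨y.1, y.2, rfl⟩ r •
      g.1 ⟨V.ι y.1, ⟨y.1, y.2, rfl⟩⟩) =
    (V : Scheme.{u}).presheaf.germ W y.1 y.2 r • conj V A B y.1 (g.1 ⟨V.ι y.1, ⟨y.1, y.2, rfl⟩⟩)
  rw [← rho_germ, conj_smul]

theorem phiFun_res {U W : (V : Scheme.{u}).Opens} (i : W ⟶ U) (s : Γ(RefHull.homSh A B, V.ι ''ᵁ U)) :
    phiFun V A B W ((RefHull.homSh A B).presheaf.map (V.ι.opensFunctor.map i).op s) =
      (RefHull.homSh (A.restrict V.ι) (B.restrict V.ι)).presheaf.map i.op (phiFun V A B U s) :=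
  Subtype.ext <| funext fun _ => rfl


theorem phiFun_smul'' (W : (V : Scheme.{u}).Opens) (r : Γ((V : Scheme.{u}), W))
    (s : Γ(RefHull.homSh A B, V.ι ''ᵁ W)) :
    phiFun V A B W ((V.ι.appIso W).inv r • s) = r • phiFun V A B W s := by
  have h : (V.ι.appIso W).inv r = (show Γ(X, V.ι ''ᵁ W) from r) := by
    rw [Scheme.Opens.ι_appIso]; rfl
  rw [h]
  exact phiFun_smul V A B W r s

/-- restriction to an open commutes with the sheaf Hom. -/
theorem nonempty_restrict_homSh_iso :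
    Nonempty ((RefHull.homSh A B).restrict V.ι ≅ RefHull.homSh (A.restrict V.ι) (B.restrict V.ι)) :=
  nonempty_restrict_iso_of_sections V.ι (RefHull.homSh A B)
    (RefHull.homSh (A.restrict V.ι) (B.restrict V.ι)) (phiFun V A B)
    (fun _ _ i s => phiFun_res V A B i s) (phiFun_smul'' V A B)
    (fun W => ⟨phiFun_injective V A B W, fun g' => ⟨psiFun V A B W g', phiFun_psiFun V A B W g'⟩⟩)

/-- restriction to an open commutes with the sheaf Hom. -/
noncomputable def restrictHomShIso :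
    (RefHull.homSh A B).restrict V.ι ≅ RefHull.homSh (A.restrict V.ι) (B.restrict V.ι) :=
  (nonempty_restrict_homSh_iso V A B).some

/-- restriction to an open commutes with the dual. -/
noncomputable def restrictDualIso :
    (RefHull.dual A).restrict V.ι ≅ RefHull.dual (A.restrict V.ι) :=
  restrictHomShIso V A (Coh.structureModule X) ≪≫
    Groth.Agent.Lib.Helper28.HomShFun.homShCongr (Iso.refl _) (Scheme.Modules.restrictUnitIso V.ι)

/-- restriction to an open commutes with the reflexive hull. -/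
noncomputable def restrictDDualIso :
    (RefHull.ddual A).restrict V.ι ≅ RefHull.ddual (A.restrict V.ι) :=
  restrictDualIso V (RefHull.dual A) ≪≫ Groth.Agent.Lib.Helper28.HomShFun.dualIso (restrictDualIso V A)

end Groth.Agent.Lib.Helper28.RestrHom
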