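import Mathlib
import Groth.Prelude
import Groth.Agent.Lib.Helper28BigOpen
import Groth.Agent.Lib.Helper28RefOne
import Groth.Agent.Lib.Helper28RestrHom
import Groth.Agent.Lib.Helper28Normal
import Groth.Agent.Lib.Helper13AusBuchUFD
import Groth.Agent.Lib.Helper27InvRestrict
import Groth.Agent.Lib.Helper23InvDual
import Groth.Agent.Lib.Helper23RestrTensor
import Groth.Agent.Lib.Helper23SecTw6
import Groth.Agent.Lib.Helper23TensorQCoh
import Groth.Agent.Lib.Helper21ModTensor6
import Groth.Agent.Lib.Helper20ZClos20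
import Groth.Agent.Lib.Helper23SecTw3
import Groth.Agent.Lib.Helper23TensorUnit
import Groth.Agent.Lib.Helper23AmpleIso

/-!
# The group of rank one reflexive modules on a normal scheme (helper28)

Namespace `Groth.Agent.Lib.Helper28.RefGroup`.
-/

set_option autoImplicit false
universe u v
open CategoryTheory Limits AlgebraicGeometry TopologicalSpace Opposite

namespace Groth.Agent.Lib.Helper28.RefGroup

open Groth.Agent.Lib.Helper6 Groth.Agent.Lib.Helper2 Groth.Agent.Lib.Helper28.HomSh
  Groth.Agent.Lib.Helper28.ReflNormal Groth.Agent.Lib.Helper28.BigOpen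
  Groth.Agent.Lib.Helper28.HomShFun Groth.Agent.Lib.Helper28.RestrHom

variable {X : Scheme.{u}}

/-- an open whose complement has codimension at least two. -/
def BigOpen (V : X.Opens) : Prop :=
  ∀ x : X, x ∉ V → (2 : WithBot ℕ∞) ≤ ringKrullDim (X.presheaf.stalk x)

theorem BigOpen.inf {V W : X.Opens} (hV : BigOpen V) (hW : BigOpen W) : BigOpen (V ⊓ W) := by
  intro x hx
  by_cases h : x ∈ V
  · exact hW x fun h' => hx ⟨h, h'⟩
  · exact hV x h

theorem BigOpen.nonempty [IsIntegral X] {V : X.Opens} (hV : BigOpen V) : genericPoint X ∈ V := by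
  by_contra h
  have h2 := hV _ h
  have h0 : ringKrullDim (X.presheaf.stalk (genericPoint X)) = 0 :=
    ringKrullDim_eq_zero_of_field X.functionField
  rw [h0] at h2
  exact absurd h2 (by norm_num)

theorem BigOpen.dense [IsIntegral X] {V : X.Opens} (hV : BigOpen V) : Dense (V : Set X) :=
  V.2.dense ⟨_, hV.nonempty⟩

/-- two reflexive coherent modules on a normal scheme which agree over a big open are isomorphic. -/
theorem nonempty_iso_of_restrict_iso [IsIntegral X] [IsLocallyNoetherian X] (hX : Pi1.IsNormalScheme X)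
    {A B : X.Modules} (hA : Coh.IsCoh A) (hB : Coh.IsCoh B) (hAr : RefHull.IsReflexive A)
    (hBr : RefHull.IsReflexive B) (V : X.Opens) (hV : BigOpen V)
    (e : A.restrict V.ι ≅ B.restrict V.ι) : Nonempty (A ≅ B) := by
  have hdepth : ∀ x : X, x ∉ V →
      (2 : ℕ∞) ≤ LocCoh.depth (X.presheaf.stalk x) (X.presheaf.stalk x) := by
    intro x hx
    haveI : IsIntegrallyClosed (X.presheaf.stalk x) := (hX x).2
    exact Groth.Agent.Lib.Helper28.two_le_depth_of_isIntegrallyClosed_of_two_le_dim (hV x hx)
  haveI := isIso_unit_of_isReflexiveAt A hA V hdepth fun x _ =>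
    (isReflexive_iff_forall_isReflexiveAt A hA).1 hAr x
  haveI := isIso_unit_of_isReflexiveAt B hB V hdepth fun x _ =>
    (isReflexive_iff_forall_isReflexiveAt B hB).1 hBr x
  exact ⟨asIso ((Scheme.Modules.restrictAdjunction V.ι).unit.app A) ≪≫
    (Scheme.Modules.pushforward V.ι).mapIso e ≪≫
    (asIso ((Scheme.Modules.restrictAdjunction V.ι).unit.app B)).symm⟩

/-- the open set where `F` is locally trivial. -/
def trivLocus (F : X.Modules) : X.Opens :=
  ⟨{x | ∃ D : X.Opens, x ∈ D ∧ Nonempty (F.restrict D.ι ≅ Coh.structureModule (↑D : Scheme.{u}))}, by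
    rw [isOpen_iff_forall_mem_open]
    rintro x ⟨D, hxD, h⟩
    exact ⟨D, fun y hy => ⟨D, hy, h⟩, D.2, hxD⟩⟩

theorem isInvertible_restrict_of_le_trivLocus (F : X.Modules) (V : X.Opens) (hV : V ≤ trivLocus F) :
    PicF.IsInvertible (F.restrict V.ι) :=
  Groth.Agent.Lib.Helper27Inv.isInvertible_restrict_of_cover F V fun y hy => hV hy

theorem bigOpen_trivLocus [IsIntegral X] [IsLocallyNoetherian X] (hX : Pi1.IsNormalScheme X)
    (F : X.Modules) (hF : RefHull.IsRef1 F) : BigOpen (trivLocus F) := by
  open Groth.Agent.Lib.Helper28.ReflUFD in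
  intro x hx
  by_contra hdim
  apply hx
  haveI : IsDomain (X.presheaf.stalk x) := (hX x).1
  haveI : IsIntegrallyClosed (X.presheaf.stalk x) := (hX x).2
  haveI : IsRegularLocalRing (X.presheaf.stalk x) :=
    Groth.Agent.Lib.Helper28.isRegularLocalRing_of_isIntegrallyClosed_of_dim_le_one
      (le_one_of_not_two_le _ hdim)
  haveI : UniqueFactorizationMonoid (X.presheaf.stalk x) :=
    Groth.Agent.Helper13AusBuch.ufd_of_isRegularLocalRing (X.presheaf.stalk x)
  haveI : Module.IsReflexive (X.presheaf.stalk x) (F.presheaf.stalk x) :=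
    (isReflexive_iff_forall_isReflexiveAt F hF.1).1 hF.2.1 x
  obtain ⟨hrank, hnt⟩ := rankLeOne_stalk_of_genInvertible F hF.1 hF.2.2 x
  haveI := hnt
  obtain ⟨e⟩ := nonempty_linearEquiv_of_rankLeOne (F.presheaf.stalk x) hrank
  exact exists_restrict_iso_structureModule_of_stalk_equiv F hF.1 x e


/-- invertible modules on a locally Noetherian scheme are reflexive. -/
theorem isReflexive_of_isInvertible {Y : Scheme.{u}} [IsLocallyNoetherian Y] (L : Y.Modules)
    (hL : PicF.IsInvertible L) : RefHull.IsReflexive L := by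
  have hc : Coh.IsCoh L := ⟨Groth.Agent.Lib.Helper23.SecTw.isQuasicoherent_of_isInvertible L hL,
    Groth.Agent.Lib.Helper20.ZClosLib.isFiniteType_of_isInvertible L hL⟩
  rw [isReflexive_iff_forall_isReflexiveAt L hc]
  intro y
  obtain ⟨U, hyU, ⟨e⟩⟩ := hL y
  have hinv : PicF.IsInvertible (L.restrict U.ι) :=
    Groth.Agent.Lib.Helper23.AmpleIso.isInvertible_of_iso e.symm
      (Groth.Agent.Lib.Helper23.TensorUnit.isInvertible_structureModule _)
  obtain ⟨ε⟩ := nonempty_stalk_equiv_of_isInvertible_restrict L hc U hinv y hyU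
  change Module.IsReflexive _ _
  exact Module.equiv ε.symm

/-- an invertible module is isomorphic to its reflexive hull. -/
noncomputable def bidualIso {Y : Scheme.{u}} [IsLocallyNoetherian Y] (L : Y.Modules)
    (hL : PicF.IsInvertible L) : L ≅ RefHull.ddual L :=
  haveI : IsIso (RefHull.bidualMap L) := isReflexive_of_isInvertible L hL
  asIso (RefHull.bidualMap L)

/-- the braiding of the tensor product. -/
noncomputable def tensorBraid (A B : X.Modules) : CohB1.tensorMod A B ≅ CohB1.tensorMod B A :=
  Groth.Agent.Lib.Helper21.ModTensor5.brdApp X.sheaf A B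

/-- associativity of the tensor product. -/
noncomputable def tensorAssoc (F G H : X.Modules) :
    CohB1.tensorMod (CohB1.tensorMod F G) H ≅ CohB1.tensorMod F (CohB1.tensorMod G H) :=
  Groth.Agent.Lib.Helper21.ModTensor6.assocIso X.sheaf F.val G.val H.val

theorem isCoh_tensorMod {A B : X.Modules} (hA : Coh.IsCoh A) (hB : Coh.IsCoh B) :
    Coh.IsCoh (CohB1.tensorMod A B) := by
  haveI : A.IsQuasicoherent := hA.1
  haveI : SheafOfModules.IsFiniteType (R := X.ringCatSheaf) A := hA.2
  haveI : B.IsQuasicoherent := hB.1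
  haveI : SheafOfModules.IsFiniteType (R := X.ringCatSheaf) B := hB.2
  exact ⟨Groth.Agent.Lib.Helper23.TensorQCoh.isQuasicoherent_tensorMod A B,
    Groth.Agent.Lib.Helper23.TensorQCoh.isFiniteType_tensorMod A B⟩

open Groth.Agent.Lib.Helper23.RestrTensor Groth.Agent.Lib.Helper23.AmpleIso in
/-- the restriction of the reflexive hull of a tensor product. -/
noncomputable def restrictDDualTensorIso (V : X.Opens) (A H : X.Modules) :
    (RefHull.ddual (CohB1.tensorMod A H)).restrict V.ι ≅
      RefHull.ddual (CohB1.tensorMod (A.restrict V.ι) (H.restrict V.ι)) :=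
  restrictDDualIso V _ ≪≫ ddualIso (restrictTensorIso A H V.ι)

section Normal

variable [IsIntegral X] [IsLocallyNoetherian X] (hX : Pi1.IsNormalScheme X)
include hX

open Groth.Agent.Lib.Helper23.RestrTensor Groth.Agent.Lib.Helper23.AmpleIso
  Groth.Agent.Lib.Helper23.SecTw Groth.Agent.Lib.Helper23.InvDual

/-- the reflexive hull of the tensor product of two rank one reflexive modules is rank one reflexive. -/
theorem isRef1_ddual_tensorMod (F G : X.Modules) (hF : RefHull.IsRef1 F) (hG : RefHull.IsRef1 G) :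
    RefHull.IsRef1 (RefHull.ddual (CohB1.tensorMod F G)) := by
  have hc := isCoh_tensorMod hF.1 hG.1
  refine ⟨isCoh_ddual _ hc, isReflexive_ddual _ hc, trivLocus F ⊓ trivLocus G,
    ((bigOpen_trivLocus hX F hF).inf (bigOpen_trivLocus hX G hG)).dense, ?_⟩
  have hF' := isInvertible_restrict_of_le_trivLocus F (trivLocus F ⊓ trivLocus G) inf_le_left
  have hG' := isInvertible_restrict_of_le_trivLocus G (trivLocus F ⊓ trivLocus G) inf_le_right
  have hT := isInvertible_tensorMod hF' hG'
  exact isInvertible_of_iso (restrictDDualTensorIso _ F G).symm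
    (isInvertible_dual _ (isInvertible_dual _ hT))

omit hX in
/-- the structure sheaf is rank one reflexive. -/
theorem isRef1_structureModule : RefHull.IsRef1 (Coh.structureModule X) := by
  refine ⟨isCoh_structureModule' X, isReflexive_structureModule, ⊤, by simp, ?_⟩
  exact isInvertible_of_iso (Scheme.Modules.restrictUnitIso (⊤ : X.Opens).ι).symm
    (Groth.Agent.Lib.Helper23.TensorUnit.isInvertible_structureModule _)

/-- the dual of a rank one reflexive module is rank one reflexive. -/
theorem isRef1_dual (F : X.Modules) (hF : RefHull.IsRef1 F) : RefHull.IsRef1 (RefHull.dual F) := by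
  refine ⟨isCoh_homSh _ _ hF.1 (isCoh_structureModule' X),
    isReflexive_homSh _ _ hF.1 (isCoh_structureModule' X) isReflexive_structureModule,
    trivLocus F, (bigOpen_trivLocus hX F hF).dense, ?_⟩
  have hF' := isInvertible_restrict_of_le_trivLocus F (trivLocus F) le_rfl
  exact isInvertible_of_iso (restrictDualIso _ F).symm (isInvertible_dual _ hF')

/-- associativity of the reflexive tensor product. -/
theorem nonempty_assoc_iso (F G H : X.Modules) (hF : RefHull.IsRef1 F) (hG : RefHull.IsRef1 G)
    (hH : RefHull.IsRef1 H) :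
    Nonempty (RefHull.ddual (CohB1.tensorMod (RefHull.ddual (CohB1.tensorMod F G)) H) ≅
      RefHull.ddual (CohB1.tensorMod F (RefHull.ddual (CohB1.tensorMod G H)))) := by
  have hFG := isRef1_ddual_tensorMod hX F G hF hG
  have hGH := isRef1_ddual_tensorMod hX G H hG hH
  have hA := isRef1_ddual_tensorMod hX _ H hFG hH
  have hB := isRef1_ddual_tensorMod hX F _ hF hGH
  let V : X.Opens := trivLocus F ⊓ trivLocus G ⊓ trivLocus H
  have hV : BigOpen V :=
    ((bigOpen_trivLocus hX F hF).inf (bigOpen_trivLocus hX G hG)).inf (bigOpen_trivLocus hX H hH)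
  have hF' := isInvertible_restrict_of_le_trivLocus F V (inf_le_left.trans inf_le_left)
  have hG' := isInvertible_restrict_of_le_trivLocus G V (inf_le_left.trans inf_le_right)
  have hH' := isInvertible_restrict_of_le_trivLocus H V inf_le_right
  have hFG' := isInvertible_tensorMod hF' hG'
  have hGH' := isInvertible_tensorMod hG' hH'
  let e1 : (RefHull.ddual (CohB1.tensorMod (RefHull.ddual (CohB1.tensorMod F G)) H)).restrict V.ι ≅
      RefHull.ddual (CohB1.tensorMod (CohB1.tensorMod (F.restrict V.ι) (G.restrict V.ι)) (H.restrict V.ι)) :=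
    restrictDDualTensorIso V _ H ≪≫
      ddualIso (tensorModIso (restrictDDualTensorIso V F G ≪≫ (bidualIso _ hFG').symm) (Iso.refl _))
  let e2 : (RefHull.ddual (CohB1.tensorMod F (RefHull.ddual (CohB1.tensorMod G H)))).restrict V.ι ≅
      RefHull.ddual (CohB1.tensorMod (F.restrict V.ι) (CohB1.tensorMod (G.restrict V.ι) (H.restrict V.ι))) :=
    restrictDDualTensorIso V F _ ≪≫
      ddualIso (tensorModIso (Iso.refl _) (restrictDDualTensorIso V G H ≪≫ (bidualIso _ hGH').symm))
  exact nonempty_iso_of_restrict_iso hX hA.1 hB.1 hA.2.1 hB.2.1 V hV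
    (e1 ≪≫ ddualIso (tensorAssoc _ _ _) ≪≫ e2.symm)

/-- the dual is an inverse for the reflexive tensor product. -/
theorem nonempty_inv_iso (F : X.Modules) (hF : RefHull.IsRef1 F) :
    Nonempty (RefHull.ddual (CohB1.tensorMod (RefHull.dual F) F) ≅ Coh.structureModule X) := by
  have hD := isRef1_dual hX F hF
  have hA := isRef1_ddual_tensorMod hX _ F hD hF
  have hO : RefHull.IsRef1 (Coh.structureModule X) := isRef1_structureModule
  let V : X.Opens := trivLocus F
  have hV : BigOpen V := bigOpen_trivLocus hX F hF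
  have hF' := isInvertible_restrict_of_le_trivLocus F V le_rfl
  obtain ⟨ε⟩ := nonempty_tensorMod_dual_iso _ hF'
  let e1 : (RefHull.ddual (CohB1.tensorMod (RefHull.dual F) F)).restrict V.ι ≅
      (Coh.structureModule X).restrict V.ι :=
    restrictDDualTensorIso V _ F ≪≫
      ddualIso (tensorModIso (restrictDualIso V F) (Iso.refl _) ≪≫
        tensorBraid _ _ ≪≫ ε) ≪≫
      (bidualIso _ (Groth.Agent.Lib.Helper23.TensorUnit.isInvertible_structureModule _)).symm ≪≫
      (Scheme.Modules.restrictUnitIso V.ι).symm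
  exact nonempty_iso_of_restrict_iso hX hA.1 hO.1 hA.2.1 hO.2.1 V hV e1

omit hX [IsIntegral X] [IsLocallyNoetherian X] in
/-- the structure sheaf is a unit for the reflexive tensor product. -/
theorem nonempty_unit_iso (F : X.Modules) (hF : RefHull.IsRef1 F) :
    Nonempty (RefHull.ddual (CohB1.tensorMod (Coh.structureModule X) F) ≅ F) := by
  haveI : IsIso (RefHull.bidualMap F) := hF.2.1
  exact ⟨ddualIso (Groth.Agent.Lib.Helper23.TensorUnit.unitTensorIso F) ≪≫
    (asIso (RefHull.bidualMap F)).symm⟩

end Normal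

end Groth.Agent.Lib.Helper28.RefGroup
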