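import Mathlib
import Groth.Agent.Lib.Helper2CycC1
import Groth.Agent.Lib.Helper23TensorUnit

/-!
# `c_1(O_X) ∩ α ∼ 0` (helper2)

* `bijective_smul_germ_one`: the germ of the global section `1` freely generates every stalk of
  the structure module.
* `secOrdAt_generator`: the order of (the class of) a local generator is `0`.
* `c1Cap_structureModule_ratEquivZero`.
-/

set_option autoImplicit false
set_option linter.style.haveILetI false

universe u

open AlgebraicGeometry CategoryTheory IsLocalRing

namespace Groth.Agent.Lib.Helper2.CycC1Unit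

open Groth.Agent.Lib.Helper2.CycOrd Groth.Agent.Lib.Helper2.CycOrdSum
  Groth.Agent.Lib.Helper2.CycSecDiv Groth.Agent.Lib.Helper2.CycRat
  Groth.Agent.Lib.Helper2.CycC1 Groth.Agent.Lib.Helper20.InvGen Groth.Agent.Lib.Helper2

variable {X : Scheme.{u}}

/-- the global section `1` of the structure module. -/
noncomputable def one (X : Scheme.{u}) : Γ(Coh.structureModule X, ⊤) := (1 : Γ(X, ⊤))

/-- a section of the structure sheaf, as a section of the structure module. -/
noncomputable def toS (W : X.Opens) (a : Γ(X, W)) : Γ(Coh.structureModule X, W) := a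

theorem smul_toS_one (W : X.Opens) (r : Γ(X, W)) :
    (r • toS W (1 : Γ(X, W)) : Γ(Coh.structureModule X, W)) = toS W r := mul_one r

theorem res_one (W : X.Opens) :
    (Coh.structureModule X).presheaf.map (homOfLE (le_top : W ≤ ⊤)).op (one X) =
      toS W (1 : Γ(X, W)) :=
  map_one (X.presheaf.map (homOfLE (le_top : W ≤ ⊤)).op).hom

theorem germ_one (y : X) (W : X.Opens) (hy : y ∈ W) :
    (Coh.structureModule X).presheaf.germ ⊤ y trivial (one X) =
      (Coh.structureModule X).presheaf.germ W y hy (toS W (1 : Γ(X, W))) := by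
  rw [← res_one W]
  exact (TopCat.Presheaf.germ_res_apply (Coh.structureModule X).presheaf (homOfLE le_top) y hy
    (one X)).symm

theorem map_toS {W W' : X.Opens} (i : W' ⟶ W) (r : Γ(X, W)) :
    (Coh.structureModule X).presheaf.map i.op (toS W r) = toS W' (X.presheaf.map i.op r) := rfl

theorem bijective_smul_germ_one (y : X) :
    Function.Bijective (fun c : X.presheaf.stalk y =>
      c • (Coh.structureModule X).presheaf.germ ⊤ y trivial (one X)) := by
  have hinj : ∀ c : X.presheaf.stalk y,
      c • (Coh.structureModule X).presheaf.germ ⊤ y trivial (one X) = 0 → c = 0 := by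
    intro c hc
    obtain ⟨W, hyW, r, rfl⟩ := X.presheaf.exists_germ_eq c
    rw [germ_one y W hyW, ← QCoh.germ_smul, smul_toS_one] at hc
    rw [← map_zero ((Coh.structureModule X).presheaf.germ W y hyW).hom] at hc
    obtain ⟨W₁, hyW₁, i₁, i₂, h2⟩ :=
      TopCat.Presheaf.germ_eq (Coh.structureModule X).presheaf y hyW hyW _ _ hc
    have h3 : X.presheaf.map i₁.op r = 0 := by
      have h4 : (Coh.structureModule X).presheaf.map i₂.op 0 = 0 := map_zero _
      rw [h4, map_toS] at h2
      exact h2
    rw [← TopCat.Presheaf.germ_res_apply X.presheaf i₁ y hyW₁ r, h3, map_zero]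
  constructor
  · intro c c' h
    have : (c - c') • (Coh.structureModule X).presheaf.germ ⊤ y trivial (one X) = 0 := by
      rw [sub_smul]
      exact sub_eq_zero.2 h
    exact sub_eq_zero.1 (hinj _ this)
  · intro m
    obtain ⟨W, hyW, m₀, rfl⟩ := (Coh.structureModule X).presheaf.exists_germ_eq m
    let r : Γ(X, W) := m₀
    refine ⟨X.presheaf.germ W y hyW r, ?_⟩
    change X.presheaf.germ W y hyW r • (Coh.structureModule X).presheaf.germ ⊤ y trivial (one X) = _
    rw [germ_one y W hyW, ← QCoh.germ_smul, smul_toS_one]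
    rfl

/-- the class of a free generator in `L(ξ)` is nonzero. -/
theorem mk_ne_zero_of_bijective (L : X.Modules) (ξ : X) (t : L.presheaf.stalk ξ)
    (ht : Function.Bijective (fun c : X.presheaf.stalk ξ => c • t)) :
    (Submodule.Quotient.mk t : Cyc.secFibre L ξ) ≠ 0 := by
  intro h0
  rw [Submodule.Quotient.mk_eq_zero] at h0
  have h1 : ∀ l ∈ maximalIdeal (X.presheaf.stalk ξ) • (⊤ : Submodule (X.presheaf.stalk ξ)
      (L.presheaf.stalk ξ)), ∃ c' ∈ maximalIdeal (X.presheaf.stalk ξ), c' • t = l := by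
    intro l hl
    refine Submodule.smul_induction_on hl ?_ ?_
    · intro r hr n _
      obtain ⟨c', hc'⟩ := ht.2 n
      refine ⟨r * c', Ideal.mul_mem_right _ _ hr, ?_⟩
      rw [mul_smul]
      exact congrArg (r • ·) hc'
    · rintro l₁ l₂ ⟨c₁, hc₁, rfl⟩ ⟨c₂, hc₂, rfl⟩
      exact ⟨c₁ + c₂, Ideal.add_mem _ hc₁ hc₂, add_smul _ _ _⟩
  obtain ⟨c', hc'm, hc'⟩ := h1 _ h0
  have h2 : c' = 1 := by
    apply ht.1
    change c' • t = (1 : X.presheaf.stalk ξ) • t
    rw [hc', one_smul]
  rw [h2] at hc'm
  exact (Ideal.ne_top_iff_one _).mp (maximalIdeal.isMaximal _).ne_top hc'm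

/-- the order of the class of a generator is zero. -/
theorem secOrdAt_generator (L : X.Modules) (ξ x : X) (h : ξ ⤳ x) (tx : L.presheaf.stalk x)
    (htx : Function.Bijective (fun c : X.presheaf.stalk x => c • tx))
    (htξ : Function.Bijective
      (fun c : X.presheaf.stalk ξ => c • L.presheaf.stalkSpecializes h tx)) :
    Cyc.secOrdAt L ξ x h (Submodule.Quotient.mk (L.presheaf.stalkSpecializes h tx)) = 0 := by
  have h1 := secOrdAt_mk L ξ x h tx htx htξ 1
  rw [one_smul, map_one] at h1
  rw [h1]
  unfold Cyc.ordAt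
  exact ordFrac_one _ _

/-- `c_1(O_X) ∩ α ∼ 0`. -/
theorem c1Cap_structureModule_ratEquivZero (X : Scheme.{u}) (δ : X → ℤ) (k : ℤ)
    (α : AlgebraicCycle X ℤ) (hα : α ∈ Cyc.Zk X δ (k + 1))
    (s : (ξ : X) → Cyc.secFibre (Coh.structureModule X) ξ) (hs : ∀ ξ, s ξ ≠ 0)
    (γ : AlgebraicCycle X ℤ) (hγ : ⇑γ = Cyc.c1CapFun δ (Coh.structureModule X) ⇑α s) :
    Cyc.RatEquivZero δ k γ := by
  have hL := Groth.Agent.Lib.Helper23.TensorUnit.isInvertible_structureModule X
  let s' : (ξ : X) → Cyc.secFibre (Coh.structureModule X) ξ := fun ξ =>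
    Submodule.Quotient.mk ((Coh.structureModule X).presheaf.germ ⊤ ξ trivial (one X))
  have hs' : ∀ ξ, s' ξ ≠ 0 := fun ξ =>
    mk_ne_zero_of_bijective _ ξ _ (bijective_smul_germ_one ξ)
  have hzero : Cyc.c1CapFun δ (Coh.structureModule X) ⇑α s' = 0 := by
    funext x
    simp only [Cyc.c1CapFun, Pi.zero_apply]
    apply finsum_eq_zero_of_forall_eq_zero
    intro ξ
    simp only [Cyc.secDivFun]
    by_cases hc : ξ ⤳ x ∧ δ x + 1 = δ ξ
    · rw [dif_pos hc]
      have hsp : (Coh.structureModule X).presheaf.stalkSpecializes hc.1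
          ((Coh.structureModule X).presheaf.germ ⊤ x trivial (one X)) =
          (Coh.structureModule X).presheaf.germ ⊤ ξ trivial (one X) :=
        ConcreteCategory.congr_hom (TopCat.Presheaf.germ_stalkSpecializes
          (Coh.structureModule X).presheaf (U := ⊤) trivial hc.1) (one X)
      have h1 := secOrdAt_generator (Coh.structureModule X) ξ x hc.1 _
        (bijective_smul_germ_one x) (by rw [hsp]; exact bijective_smul_germ_one ξ)
      rw [hsp] at h1
      change α ξ * Cyc.secOrdAt (Coh.structureModule X) ξ x hc.1 (Submodule.Quotient.mk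
        ((Coh.structureModule X).presheaf.germ ⊤ ξ trivial (one X))) = 0
      rw [h1, mul_zero]
    · rw [dif_neg hc, mul_zero]
  have h0 : ⇑(0 : AlgebraicCycle X ℤ) = Cyc.c1CapFun δ (Coh.structureModule X) ⇑α s' := by
    rw [hzero]
    rfl
  have hre := ratEquiv_c1CapFun X δ (Coh.structureModule X) hL k α hα s s' hs hs' γ 0 hγ h0
  unfold Cyc.RatEquiv at hre
  rw [sub_zero] at hre
  exact hre

end Groth.Agent.Lib.Helper2.CycC1Unit
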