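import Mathlib
import Groth.Agent.Lib.Helper2CycC1Unit
import Groth.Agent.Lib.Helper26TensStalk
import Groth.Agent.Lib.Helper23SecTw6
set_option backward.isDefEq.respectTransparency.types false

/-!
# `c_1(L ⊗ N) ∩ α = c_1(L) ∩ α + c_1(N) ∩ α` up to rational equivalence (helper2)
-/

set_option autoImplicit false
set_option linter.style.haveILetI false

universe u

open AlgebraicGeometry CategoryTheory IsLocalRing TensorProduct MonoidalCategory

namespace Groth.Agent.Lib.Helper2.CycC1Tensor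

open Groth.Agent.Lib.Helper2.CycOrd Groth.Agent.Lib.Helper2.CycOrdSum
  Groth.Agent.Lib.Helper2.CycSecDiv Groth.Agent.Lib.Helper2.CycRat
  Groth.Agent.Lib.Helper2.CycC1 Groth.Agent.Lib.Helper2.CycC1Unit
  Groth.Agent.Lib.Helper20.InvGen Groth.Agent.Lib.Helper2
  Groth.Agent.Lib.Helper1.StalkTensor Groth.Agent.Lib.Helper26.TensStalk

variable {X : Scheme.{u}}

/-- the section `t_L ⊗ t_N` of `L ⊗ N`. -/
noncomputable def tgen (L N : X.Modules) (W : X.Opens) (tL : Γ(L, W)) (tN : Γ(N, W)) :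
    Γ(CohB1.tensorMod L N, W) :=
  (etaX (toPM L ⊗ toPM N)).app (Opposite.op W) (tm (toPM L) (toPM N) tL tN)

theorem tensorStalk_germ_tgen (L N : X.Modules) (W : X.Opens) (tL : Γ(L, W)) (tN : Γ(N, W))
    (y : X) (hy : y ∈ W) :
    tensorStalk L N y ((CohB1.tensorMod L N).presheaf.germ W y hy (tgen L N W tL tN)) =
      (L.presheaf.germ W y hy tL) ⊗ₜ[X.presheaf.stalk y] (N.presheaf.germ W y hy tN) := by
  have h1 : (CohB1.tensorMod L N).presheaf.germ W y hy (tgen L N W tL tN) =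
      smₗ (etaX (toPM L ⊗ toPM N)) y
        (gm (toPM L ⊗ toPM N) y W hy (tm (toPM L) (toPM N) tL tN)) := by
    rw [smₗ_apply, sm_gm]
    rfl
  rw [h1]
  have h3 : tensorStalk L N y (smₗ (etaX (toPM L ⊗ toPM N)) y
      (gm (toPM L ⊗ toPM N) y W hy (tm (toPM L) (toPM N) tL tN))) =
      αLin (toPM L) (toPM N) y
        ((LinearEquiv.ofBijective (smₗ (etaX (toPM L ⊗ toPM N)) y)
          (sm_etaX_bijective (toPM L ⊗ toPM N) y)).symm
          ((LinearEquiv.ofBijective (smₗ (etaX (toPM L ⊗ toPM N)) y)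
            (sm_etaX_bijective (toPM L ⊗ toPM N) y))
            (gm (toPM L ⊗ toPM N) y W hy (tm (toPM L) (toPM N) tL tN)))) := rfl
  rw [h3, LinearEquiv.symm_apply_apply, αLin_apply, α_gm_tm]
  rfl

theorem bijective_smul_tmul {O A B : Type u} [CommRing O] [AddCommGroup A] [Module O A]
    [AddCommGroup B] [Module O B] (a : A) (b : B)
    (ha : Function.Bijective (fun c : O => c • a)) (hb : Function.Bijective (fun c : O => c • b)) :
    Function.Bijective (fun c : O => c • (a ⊗ₜ[O] b)) := by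
  let eA : O ≃ₗ[O] A := LinearEquiv.ofBijective (LinearMap.toSpanSingleton O A a) ha
  let eB : O ≃ₗ[O] B := LinearEquiv.ofBijective (LinearMap.toSpanSingleton O B b) hb
  let e : O ≃ₗ[O] A ⊗[O] B := (TensorProduct.lid O O).symm.trans (TensorProduct.congr eA eB)
  have he : ∀ c : O, e c = c • (a ⊗ₜ[O] b) := by
    intro c
    change TensorProduct.congr eA eB ((TensorProduct.lid O O).symm c) = _
    rw [TensorProduct.lid_symm_apply, TensorProduct.congr_tmul]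
    change (LinearMap.toSpanSingleton O A a 1) ⊗ₜ[O] (LinearMap.toSpanSingleton O B b c) = _
    rw [LinearMap.toSpanSingleton_apply, LinearMap.toSpanSingleton_apply, one_smul,
      TensorProduct.tmul_smul]
  have hfun : (fun c : O => c • (a ⊗ₜ[O] b)) = e := funext fun c => (he c).symm
  rw [hfun]
  exact e.bijective

theorem bijective_smul_germ_tgen (L N : X.Modules) (W : X.Opens) (tL : Γ(L, W)) (tN : Γ(N, W))
    (y : X) (hy : y ∈ W)
    (hL : Function.Bijective (fun c : X.presheaf.stalk y => c • L.presheaf.germ W y hy tL))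
    (hN : Function.Bijective (fun c : X.presheaf.stalk y => c • N.presheaf.germ W y hy tN)) :
    Function.Bijective (fun c : X.presheaf.stalk y =>
      c • (CohB1.tensorMod L N).presheaf.germ W y hy (tgen L N W tL tN)) := by
  have h1 := bijective_smul_tmul _ _ hL hN
  have h2 : (fun c : X.presheaf.stalk y =>
      c • (CohB1.tensorMod L N).presheaf.germ W y hy (tgen L N W tL tN)) =
      (tensorStalk L N y).symm ∘ (fun c : X.presheaf.stalk y =>
        c • ((L.presheaf.germ W y hy tL) ⊗ₜ[X.presheaf.stalk y] (N.presheaf.germ W y hy tN))) := by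
    funext c
    rw [Function.comp_apply, map_smul, ← tensorStalk_germ_tgen, LinearEquiv.symm_apply_apply]
  rw [h2]
  exact (tensorStalk L N y).symm.bijective.comp h1

theorem secOrdAt_tensor (L N : X.Modules) (hL : PicF.IsInvertible L) (hN : PicF.IsInvertible N)
    (ξ x : X) (h : ξ ⤳ x) (l : L.presheaf.stalk ξ) (n : N.presheaf.stalk ξ)
    (hl : (Submodule.Quotient.mk l : Cyc.secFibre L ξ) ≠ 0)
    (hn : (Submodule.Quotient.mk n : Cyc.secFibre N ξ) ≠ 0) :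
    Cyc.secOrdAt (CohB1.tensorMod L N) ξ x h
        (Submodule.Quotient.mk ((tensorStalk L N ξ).symm (l ⊗ₜ[X.presheaf.stalk ξ] n))) =
      Cyc.secOrdAt L ξ x h (Submodule.Quotient.mk l) +
        Cyc.secOrdAt N ξ x h (Submodule.Quotient.mk n) ∧
    (Submodule.Quotient.mk ((tensorStalk L N ξ).symm (l ⊗ₜ[X.presheaf.stalk ξ] n)) :
      Cyc.secFibre (CohB1.tensorMod L N) ξ) ≠ 0 := by
  obtain ⟨W₁, t₁, hxW₁, hW₁⟩ := exists_local_generator L hL x
  obtain ⟨W₂, t₂, hxW₂, hW₂⟩ := exists_local_generator N hN x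
  have hxW : x ∈ W₁ ⊓ W₂ := ⟨hxW₁, hxW₂⟩
  obtain ⟨tL, htL⟩ : ∃ tL, tL = L.presheaf.map (homOfLE (inf_le_left : W₁ ⊓ W₂ ≤ W₁)).op t₁ :=
    ⟨_, rfl⟩
  obtain ⟨tN, htN⟩ : ∃ tN, tN = N.presheaf.map (homOfLE (inf_le_right : W₁ ⊓ W₂ ≤ W₂)).op t₂ :=
    ⟨_, rfl⟩
  have hgL : ∀ (y : X) (hy : y ∈ W₁ ⊓ W₂), Function.Bijective
      (fun c : X.presheaf.stalk y => c • L.presheaf.germ (W₁ ⊓ W₂) y hy tL) := by
    intro y hy
    rw [htL]
    exact generator_res L inf_le_left t₁ hW₁ y hy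
  have hgN : ∀ (y : X) (hy : y ∈ W₁ ⊓ W₂), Function.Bijective
      (fun c : X.presheaf.stalk y => c • N.presheaf.germ (W₁ ⊓ W₂) y hy tN) := by
    intro y hy
    rw [htN]
    exact generator_res N inf_le_right t₂ hW₂ y hy
  have hgT := fun (y : X) (hy : y ∈ W₁ ⊓ W₂) =>
    bijective_smul_germ_tgen L N (W₁ ⊓ W₂) tL tN y hy (hgL y hy) (hgN y hy)
  have hξW : ξ ∈ W₁ ⊓ W₂ := h.mem_open (W₁ ⊓ W₂).isOpen hxW
  have hspL : L.presheaf.stalkSpecializes h (L.presheaf.germ (W₁ ⊓ W₂) x hxW tL) =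
      L.presheaf.germ (W₁ ⊓ W₂) ξ hξW tL :=
    ConcreteCategory.congr_hom (TopCat.Presheaf.germ_stalkSpecializes L.presheaf hxW h) tL
  have hspN : N.presheaf.stalkSpecializes h (N.presheaf.germ (W₁ ⊓ W₂) x hxW tN) =
      N.presheaf.germ (W₁ ⊓ W₂) ξ hξW tN :=
    ConcreteCategory.congr_hom (TopCat.Presheaf.germ_stalkSpecializes N.presheaf hxW h) tN
  have hspT : (CohB1.tensorMod L N).presheaf.stalkSpecializes h
      ((CohB1.tensorMod L N).presheaf.germ (W₁ ⊓ W₂) x hxW (tgen L N (W₁ ⊓ W₂) tL tN)) =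
      (CohB1.tensorMod L N).presheaf.germ (W₁ ⊓ W₂) ξ hξW (tgen L N (W₁ ⊓ W₂) tL tN) :=
    ConcreteCategory.congr_hom (TopCat.Presheaf.germ_stalkSpecializes
      (CohB1.tensorMod L N).presheaf hxW h) (tgen L N (W₁ ⊓ W₂) tL tN)
  obtain ⟨a, ha⟩ := (hgL ξ hξW).2 l
  obtain ⟨b, hb⟩ := (hgN ξ hξW).2 n
  have ha' : a • L.presheaf.germ (W₁ ⊓ W₂) ξ hξW tL = l := ha
  have hb' : b • N.presheaf.germ (W₁ ⊓ W₂) ξ hξW tN = n := hb
  subst ha' hb'
  have hane : X.residue ξ a ≠ 0 := by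
    intro h0
    apply hl
    rw [Submodule.Quotient.mk_eq_zero]
    exact Submodule.smul_mem_smul ((IsLocalRing.residue_eq_zero_iff _).mp h0) Submodule.mem_top
  have hbne : X.residue ξ b ≠ 0 := by
    intro h0
    apply hn
    rw [Submodule.Quotient.mk_eq_zero]
    exact Submodule.smul_mem_smul ((IsLocalRing.residue_eq_zero_iff _).mp h0) Submodule.mem_top
  have hkey : (tensorStalk L N ξ).symm
      ((a • L.presheaf.germ (W₁ ⊓ W₂) ξ hξW tL) ⊗ₜ[X.presheaf.stalk ξ]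
        (b • N.presheaf.germ (W₁ ⊓ W₂) ξ hξW tN)) =
      (a * b) • (CohB1.tensorMod L N).presheaf.germ (W₁ ⊓ W₂) ξ hξW
        (tgen L N (W₁ ⊓ W₂) tL tN) := by
    rw [TensorProduct.smul_tmul_smul, map_smul, ← tensorStalk_germ_tgen,
      LinearEquiv.symm_apply_apply]
  rw [hkey]
  constructor
  · rw [← hspT, ← hspL, ← hspN,
      secOrdAt_mk (CohB1.tensorMod L N) ξ x h _ (hgT x hxW) (by rw [hspT]; exact hgT ξ hξW),
      secOrdAt_mk L ξ x h _ (hgL x hxW) (by rw [hspL]; exact hgL ξ hξW),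
      secOrdAt_mk N ξ x h _ (hgN x hxW) (by rw [hspN]; exact hgN ξ hξW), map_mul,
      ordAt_mul x ξ h _ _ hane hbne]
  · have hunit : IsUnit (a * b) :=
      ((IsLocalRing.residue_ne_zero_iff_isUnit a).mp hane).mul
        ((IsLocalRing.residue_ne_zero_iff_isUnit b).mp hbne)
    exact mk_ne_zero_of_bijective _ ξ _ (bijective_smul_unit _ (hgT ξ hξW) (a * b) hunit)

theorem support_c1Cap_subset (δ : X → ℤ) (L : X.Modules) (α : AlgebraicCycle X ℤ)
    (t : (ξ : X) → Cyc.secFibre L ξ) (x : X) :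
    (Function.support fun ξ => α ξ * Cyc.secDivFun δ L ξ (t ξ) x) ⊆
      {ξ : X | ξ ⤳ x ∧ α ξ ≠ 0} := by
  intro ξ hξ
  rw [Function.mem_support] at hξ
  refine ⟨?_, left_ne_zero_of_mul hξ⟩
  have h2 := right_ne_zero_of_mul hξ
  by_contra hc
  apply h2
  simp [Cyc.secDivFun, hc]

/-- `c_1(L) ∩ α + c_1(N) ∩ α ∼ c_1(L ⊗ N) ∩ α`. -/
theorem c1Cap_add_ratEquiv_c1Cap_tensor (X : Scheme.{u}) (δ : X → ℤ) (L N : X.Modules)
    (hL : PicF.IsInvertible L) (hN : PicF.IsInvertible N) (k : ℤ) (α : AlgebraicCycle X ℤ)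
    (hα : α ∈ Cyc.Zk X δ (k + 1)) (sL : (ξ : X) → Cyc.secFibre L ξ) (hsL : ∀ ξ, sL ξ ≠ 0)
    (sN : (ξ : X) → Cyc.secFibre N ξ) (hsN : ∀ ξ, sN ξ ≠ 0)
    (sT : (ξ : X) → Cyc.secFibre (CohB1.tensorMod L N) ξ) (hsT : ∀ ξ, sT ξ ≠ 0)
    (γL γN γT : AlgebraicCycle X ℤ) (hγL : ⇑γL = Cyc.c1CapFun δ L ⇑α sL)
    (hγN : ⇑γN = Cyc.c1CapFun δ N ⇑α sN)
    (hγT : ⇑γT = Cyc.c1CapFun δ (CohB1.tensorMod L N) ⇑α sT) :
    Cyc.RatEquiv δ k (γL + γN) γT := by
  classical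
  choose l hl using fun ξ => Submodule.Quotient.mk_surjective _ (sL ξ)
  choose n hn using fun ξ => Submodule.Quotient.mk_surjective _ (sN ξ)
  let sT' : (ξ : X) → Cyc.secFibre (CohB1.tensorMod L N) ξ := fun ξ =>
    Submodule.Quotient.mk ((tensorStalk L N ξ).symm (l ξ ⊗ₜ[X.presheaf.stalk ξ] n ξ))
  have hl0 : ∀ ξ, (Submodule.Quotient.mk (l ξ) : Cyc.secFibre L ξ) ≠ 0 := fun ξ => by
    rw [hl ξ]
    exact hsL ξ
  have hn0 : ∀ ξ, (Submodule.Quotient.mk (n ξ) : Cyc.secFibre N ξ) ≠ 0 := fun ξ => by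
    rw [hn ξ]
    exact hsN ξ
  have hmain : ∀ (ξ x : X) (h : ξ ⤳ x), Cyc.secOrdAt (CohB1.tensorMod L N) ξ x h (sT' ξ) =
      Cyc.secOrdAt L ξ x h (sL ξ) + Cyc.secOrdAt N ξ x h (sN ξ) := by
    intro ξ x h
    have h1 := (secOrdAt_tensor L N hL hN ξ x h (l ξ) (n ξ) (hl0 ξ) (hn0 ξ)).1
    rw [hl ξ, hn ξ] at h1
    exact h1
  have hsT' : ∀ ξ, sT' ξ ≠ 0 := fun ξ =>
    (secOrdAt_tensor L N hL hN ξ ξ specializes_rfl (l ξ) (n ξ) (hl0 ξ) (hn0 ξ)).2
  have hfun : ⇑(γL + γN) = Cyc.c1CapFun δ (CohB1.tensorMod L N) ⇑α sT' := by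
    funext x
    rw [Function.locallyFinsuppWithin.coe_add, Pi.add_apply, hγL, hγN]
    simp only [Cyc.c1CapFun]
    have hfinx := Bivar.finite_support_specializes α x
    rw [← finsum_add_distrib (hfinx.subset (support_c1Cap_subset δ L α sL x))
      (hfinx.subset (support_c1Cap_subset δ N α sN x))]
    refine finsum_congr fun ξ => ?_
    simp only [Cyc.secDivFun]
    by_cases hc : ξ ⤳ x ∧ δ x + 1 = δ ξ
    · rw [dif_pos hc, dif_pos hc, dif_pos hc, hmain ξ x hc.1]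
      ring
    · rw [dif_neg hc, dif_neg hc, dif_neg hc]
      ring
  exact ratEquiv_c1CapFun X δ (CohB1.tensorMod L N)
    (Groth.Agent.Lib.Helper23.SecTw.isInvertible_tensorMod hL hN) k α hα sT' sT hsT' hsT
    (γL + γN) γT hfun hγT

end Groth.Agent.Lib.Helper2.CycC1Tensor
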