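import Mathlib
import Groth.Prelude
import Groth.Agent.Lib.Helper28RefGroup
import Groth.Agent.Lib.Helper2CycC1Tensor
import Groth.Agent.Lib.Helper20InvGen

/-!
# Orders of rational sections of rank one reflexive modules (helper28)

Namespace `Groth.Agent.Lib.Helper28.RefOrd`.
-/

set_option autoImplicit false
universe u
open CategoryTheory Limits AlgebraicGeometry TopologicalSpace Opposite TensorProduct

namespace Groth.Agent.Lib.Helper28.RefOrd

open Groth.Agent.Lib.Helper6 Groth.Agent.Lib.Helper2 Groth.Agent.Lib.Helper28.HomSh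
  Groth.Agent.Lib.Helper28.ReflNormal Groth.Agent.Lib.Helper28.BigOpen
  Groth.Agent.Lib.Helper28.RefGroup

variable {X : Scheme.{u}}

/-- a morphism which is bijective on the affine opens inside a neighbourhood of `z` is bijective on the
stalk at `z`. -/
theorem bijective_stalkMapₗ_of_affine {A B : X.Modules} (φ : A ⟶ B) (z : X) (W : X.Opens) (hz : z ∈ W)
    (h : ∀ U : X.Opens, IsAffineOpen U → U ≤ W → Function.Bijective (φ.app U)) :
    Function.Bijective (RefHull.stalkMapₗ φ z) := by
  have hbasis : ∀ (U : X.Opens), z ∈ U → ∃ U' : X.Opens, IsAffineOpen U' ∧ z ∈ U' ∧ U' ≤ U ⊓ W := by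
    intro U hzU
    obtain ⟨U', hU', hzU', hle⟩ :=
      (Opens.isBasis_iff_nbhd.1 X.isBasis_affineOpens) (show z ∈ U ⊓ W from ⟨hzU, hz⟩)
    exact ⟨U', hU', hzU', hle⟩
  constructor
  · rw [injective_iff_map_eq_zero]
    intro v hv
    obtain ⟨U, hzU, m, rfl⟩ := TopCat.Presheaf.exists_germ_eq A.presheaf v
    rw [RefHull.stalkMapₗ_germ] at hv
    obtain ⟨U₁, hU₁, hzU₁, hres⟩ := exists_res_eq_zero_of_germ_eq_zero B z hzU _ hv
    obtain ⟨U', hU', hzU', hle⟩ := hbasis U₁ hzU₁
    have hle' : U' ≤ U := (hle.trans inf_le_left).trans hU₁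
    have h1 : φ.app U' (res A hle' m) = 0 := by
      rw [app_res]
      have : res B hle' (φ.app U m) = res B (hle.trans inf_le_left) (res B hU₁ (φ.app U m)) := by
        change _ = B.presheaf.map _ (B.presheaf.map _ _)
        rw [← ConcreteCategory.comp_apply, ← Functor.map_comp]
        rfl
      rw [this, hres]
      exact map_zero _
    have h2 : res A hle' m = 0 := by
      apply (h U' hU' (hle.trans inf_le_right)).1
      rw [h1, map_zero]
    rw [← germ_res' A hle' z hzU' m, h2, map_zero]
  · intro r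
    obtain ⟨U, hzU, r0, rfl⟩ := TopCat.Presheaf.exists_germ_eq B.presheaf r
    obtain ⟨U', hU', hzU', hle⟩ := hbasis U hzU
    obtain ⟨m, hm⟩ := (h U' hU' (hle.trans inf_le_right)).2 (res B (hle.trans inf_le_left) r0)
    refine ⟨A.presheaf.germ U' z hzU' m, ?_⟩
    rw [RefHull.stalkMapₗ_germ, hm, germ_res']


open Groth.Agent.Lib.Helper20.InvGen Groth.Agent.Lib.Helper2.CycC1Tensor
  Groth.Agent.Lib.Helper2.CycC1 Groth.Agent.Lib.Helper26.TensStalk

/-- near a point of the trivial locus there is a section freely generating all stalks. -/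
theorem exists_local_generator_of_mem_trivLocus (F : X.Modules) (x : X) (hx : x ∈ trivLocus F) :
    ∃ (W : X.Opens) (t : Γ(F, W)), x ∈ W ∧ ∀ (y : X) (hy : y ∈ W),
      Function.Bijective (fun c : X.presheaf.stalk y => c • F.presheaf.germ W y hy t) := by
  obtain ⟨D, hxD, ⟨e⟩⟩ := hx
  refine ⟨D.ι ''ᵁ ⊤, gen F D e.inv ⊤, ?_, fun y hy => bijective_smul_germ F D e.inv y hy⟩
  rw [Scheme.Hom.image_top_eq_opensRange, Scheme.Opens.opensRange_ι]
  exact hxD

/-- common local generators of two modules near a point of both trivial loci. -/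
theorem exists_local_generators (F G : X.Modules) (x : X) (hx : x ∈ trivLocus F ⊓ trivLocus G) :
    ∃ (W : X.Opens) (tF : Γ(F, W)) (tG : Γ(G, W)), x ∈ W ∧
      (∀ (y : X) (hy : y ∈ W),
        Function.Bijective (fun c : X.presheaf.stalk y => c • F.presheaf.germ W y hy tF)) ∧
      (∀ (y : X) (hy : y ∈ W),
        Function.Bijective (fun c : X.presheaf.stalk y => c • G.presheaf.germ W y hy tG)) := by
  obtain ⟨W₁, t₁, hxW₁, hW₁⟩ := exists_local_generator_of_mem_trivLocus F x hx.1
  obtain ⟨W₂, t₂, hxW₂, hW₂⟩ := exists_local_generator_of_mem_trivLocus G x hx.2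
  exact ⟨W₁ ⊓ W₂, F.presheaf.map (homOfLE (inf_le_left : W₁ ⊓ W₂ ≤ W₁)).op t₁,
    G.presheaf.map (homOfLE (inf_le_right : W₁ ⊓ W₂ ≤ W₂)).op t₂, ⟨hxW₁, hxW₂⟩,
    fun y hy => generator_res F inf_le_left t₁ hW₁ y hy,
    fun y hy => generator_res G inf_le_right t₂ hW₂ y hy⟩

/-- a module with a free generator of rank one is reflexive. -/
theorem isReflexive_of_bijective_smul {R : Type u} [CommRing R] {N : Type u} [AddCommGroup N]
    [Module R N] (g : N) (hg : Function.Bijective (fun c : R => c • g)) : Module.IsReflexive R N :=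
  Module.equiv (LinearEquiv.ofBijective (LinearMap.toSpanSingleton R N g) hg)

variable [IsLocallyNoetherian X]

/-- the biduality map of `F ⊗ G` is bijective on stalks over an open where `F` and `G` are free of rank one. -/
theorem bijective_stalkMapₗ_bidualMap_tensor (F G : X.Modules) (hF : Coh.IsCoh F) (hG : Coh.IsCoh G)
    (W : X.Opens) (tF : Γ(F, W)) (tG : Γ(G, W))
    (hgF : ∀ (y : X) (hy : y ∈ W),
      Function.Bijective (fun c : X.presheaf.stalk y => c • F.presheaf.germ W y hy tF))
    (hgG : ∀ (y : X) (hy : y ∈ W),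
      Function.Bijective (fun c : X.presheaf.stalk y => c • G.presheaf.germ W y hy tG))
    (z : X) (hz : z ∈ W) :
    Function.Bijective (RefHull.stalkMapₗ (RefHull.bidualMap (CohB1.tensorMod F G)) z) := by
  refine bijective_stalkMapₗ_of_affine _ z W hz fun U hU hUW => ?_
  refine bijective_bidualMap_app_of_forall_isReflexiveAt _ (isCoh_tensorMod hF hG) hU fun y hy => ?_
  exact isReflexive_of_bijective_smul _
    (bijective_smul_germ_tgen F G W tF tG y (hUW hy) (hgF y (hUW hy)) (hgG y (hUW hy)))

/-- the image of `t_F ⊗ t_G` in the reflexive hull freely generates its stalks. -/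
theorem bijective_smul_germ_bidual (F G : X.Modules) (hF : Coh.IsCoh F) (hG : Coh.IsCoh G)
    (W : X.Opens) (tF : Γ(F, W)) (tG : Γ(G, W))
    (hgF : ∀ (y : X) (hy : y ∈ W),
      Function.Bijective (fun c : X.presheaf.stalk y => c • F.presheaf.germ W y hy tF))
    (hgG : ∀ (y : X) (hy : y ∈ W),
      Function.Bijective (fun c : X.presheaf.stalk y => c • G.presheaf.germ W y hy tG))
    (z : X) (hz : z ∈ W) :
    Function.Bijective (fun c : X.presheaf.stalk z =>
      c • (RefHull.ddual (CohB1.tensorMod F G)).presheaf.germ W z hz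
        ((RefHull.bidualMap (CohB1.tensorMod F G)).app W (tgen F G W tF tG))) := by
  have h1 := bijective_smul_germ_tgen F G W tF tG z hz (hgF z hz) (hgG z hz)
  have h2 := bijective_stalkMapₗ_bidualMap_tensor F G hF hG W tF tG hgF hgG z hz
  have h3 : (fun c : X.presheaf.stalk z =>
      c • (RefHull.ddual (CohB1.tensorMod F G)).presheaf.germ W z hz
        ((RefHull.bidualMap (CohB1.tensorMod F G)).app W (tgen F G W tF tG))) =
      (RefHull.stalkMapₗ (RefHull.bidualMap (CohB1.tensorMod F G)) z) ∘
        (fun c : X.presheaf.stalk z =>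
          c • (CohB1.tensorMod F G).presheaf.germ W z hz (tgen F G W tF tG)) := by
    funext c
    rw [Function.comp_apply, map_smul, RefHull.stalkMapₗ_germ]
  rw [h3]
  exact h2.comp h1

omit [IsLocallyNoetherian X] in
/-- the image of `(a • t_F) ⊗ (b • t_G)` in the stalk of the reflexive hull. -/
theorem stalkMapₗ_bidualMap_tmul (F G : X.Modules) (W : X.Opens) (tF : Γ(F, W)) (tG : Γ(G, W))
    (z : X) (hz : z ∈ W) (a b : X.presheaf.stalk z) :
    RefHull.stalkMapₗ (RefHull.bidualMap (CohB1.tensorMod F G)) z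
        ((tensorStalk F G z).symm ((a • F.presheaf.germ W z hz tF) ⊗ₜ[X.presheaf.stalk z]
          (b • G.presheaf.germ W z hz tG))) =
      (a * b) • (RefHull.ddual (CohB1.tensorMod F G)).presheaf.germ W z hz
        ((RefHull.bidualMap (CohB1.tensorMod F G)).app W (tgen F G W tF tG)) := by
  rw [TensorProduct.smul_tmul_smul, map_smul, ← tensorStalk_germ_tgen, LinearEquiv.symm_apply_apply,
    map_smul, RefHull.stalkMapₗ_germ]

end Groth.Agent.Lib.Helper28.RefOrd
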