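import Mathlib
import Groth.Agent.Lib.Helper28Normal

/-!
# Codimension one of the non-generating locus: algebra (helper28)

Namespace `Groth.Agent.Lib.Helper28.CodimOne`.
-/

set_option autoImplicit false
universe u v

namespace Groth.Agent.Lib.Helper28.CodimOne

open Module

section Alg

variable (A : Type*) [CommRing A] (M : Type*) [AddCommGroup M] [Module A M]

/-- `t` generates `M` near the prime `p`, in element form. -/
def LocGen (t : M) (p : Ideal A) : Prop :=
  ∀ m : M, ∃ u : A, u ∉ p ∧ u • m ∈ Submodule.span A {t}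

variable {A M}

theorem exists_forall_smul_mem_of_locGen [Module.Finite A M] (t : M) (p : Ideal A) [p.IsPrime]
    (h : LocGen A M t p) : ∃ u : A, u ∉ p ∧ ∀ m : M, u • m ∈ Submodule.span A {t} := by
  classical
  obtain ⟨S, hS⟩ := (Module.Finite.fg_top : (⊤ : Submodule A M).FG)
  choose s hs hsk using h
  refine ⟨∏ k ∈ S, s k, Submonoid.prod_mem p.primeCompl fun k _ => hs k, ?_⟩
  intro c
  have hc : c ∈ Submodule.span A (S : Set M) := hS ▸ Submodule.mem_top
  induction hc using Submodule.span_induction with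
  | mem x hx =>
    obtain ⟨r, hr⟩ := Finset.dvd_prod_of_mem s hx
    rw [hr, mul_comm, mul_smul]
    exact Submodule.smul_mem _ _ (hsk x)
  | zero => rw [smul_zero]; exact Submodule.zero_mem _
  | add x y _ _ hx hy => rw [smul_add]; exact Submodule.add_mem _ hx hy
  | smul a x _ hx => rw [smul_comm]; exact Submodule.smul_mem _ _ hx

/-- a minimal prime of the locus where `t` does not generate is of the form `(A t : c)`. -/
theorem exists_colon_eq_of_minimal [IsNoetherianRing A] [Module.Finite A M] (t : M) (q : Ideal A)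
    [hq : q.IsPrime] (h1 : ¬ LocGen A M t q)
    (h2 : ∀ p : Ideal A, p.IsPrime → p < q → LocGen A M t p) :
    ∃ c : M, ∀ a : A, a ∈ q ↔ a • c ∈ Submodule.span A {t} := by
  let C := M ⧸ Submodule.span A {t}
  have hann : ∀ a : A, a ∈ Module.annihilator A C ↔ ∀ m : M, a • m ∈ Submodule.span A {t} := by
    intro a
    rw [Module.mem_annihilator]
    constructor
    · intro h m
      have := h (Submodule.Quotient.mk m)
      rwa [← Submodule.Quotient.mk_smul, Submodule.Quotient.mk_eq_zero] at this
    · intro h c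
      obtain ⟨m, rfl⟩ := Submodule.Quotient.mk_surjective _ c
      rw [← Submodule.Quotient.mk_smul, Submodule.Quotient.mk_eq_zero]
      exact h m
  have hle : Module.annihilator A C ≤ q := by
    intro a ha
    by_contra haq
    exact h1 fun m => ⟨a, haq, (hann a).1 ha m⟩
  have hmin : q ∈ (Module.annihilator A C).minimalPrimes := by
    refine ⟨⟨hq, hle⟩, ?_⟩
    rintro p ⟨hp, hIp⟩ hpq
    by_contra hqp
    have hlt : p < q := lt_of_le_of_ne hpq fun h => hqp (h ▸ le_rfl)
    haveI := hp
    obtain ⟨u, hu, hum⟩ := exists_forall_smul_mem_of_locGen t p (h2 p hp hlt)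
    exact hu (hIp ((hann u).2 hum))
  have hass : q ∈ associatedPrimes A C :=
    Module.associatedPrimes.minimalPrimes_annihilator_subset_associatedPrimes A C hmin
  obtain ⟨-, xbar, hx⟩ := (isAssociatedPrime_iff).mp hass
  obtain ⟨c, rfl⟩ := Submodule.Quotient.mk_surjective _ xbar
  refine ⟨c, fun a => ?_⟩
  rw [hx, Submodule.mem_colon_singleton, Submodule.mem_bot, ← Submodule.Quotient.mk_smul,
    Submodule.Quotient.mk_eq_zero]

end Alg

section Local

variable {R : Type*} [CommRing R] [IsLocalRing R] [IsNoetherianRing R] [IsDomain R]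
  [IsIntegrallyClosed R] {N : Type*} [AddCommGroup N] [Module R N] [Module.IsTorsionFree R N]

/-- in a normal Noetherian local domain which is not a field, if `m c ⊆ R n` with `c ∉ R n` in a
torsion-free module, then the dimension is at most one. -/
theorem ringKrullDim_le_one_of_colon (n c : N) (hc : c ∉ Submodule.span R {n})
    (hm : ∀ x ∈ IsLocalRing.maximalIdeal R, x • c ∈ Submodule.span R {n})
    (hm0 : IsLocalRing.maximalIdeal R ≠ ⊥) : ringKrullDim R ≤ 1 := by
  obtain ⟨a₀, ham, ha0⟩ := Submodule.exists_mem_ne_zero_of_ne_bot hm0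
  have hreg : ∀ {r : R}, r ≠ 0 → ∀ {v : N}, r • v = 0 → v = 0 := by
    intro r hr v hv
    have := Module.IsTorsionFree.isSMulRegular (M := N) (IsRegular.of_ne_zero hr)
    exact this (show r • v = r • 0 by rw [hv, smul_zero])
  have hn0 : n ≠ 0 := by
    rintro rfl
    apply hc
    have h1 := hm a₀ ham
    rw [Submodule.span_zero_singleton, Submodule.mem_bot] at h1
    rw [hreg ha0 h1]
    exact Submodule.zero_mem _
  have hreg' : ∀ {r : R}, r • n = 0 → r = 0 := by
    intro r hr
    by_contra hr0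
    exact hn0 (hreg hr0 hr)
  choose f hf using fun x : IsLocalRing.maximalIdeal R =>
    Submodule.mem_span_singleton.1 (hm x.1 x.2)
  have hb₀' : f ⟨a₀, ham⟩ • n = a₀ • c := hf ⟨a₀, ham⟩
  have hcolon : ∀ x ∈ IsLocalRing.maximalIdeal R, f ⟨a₀, ham⟩ * x ∈ Ideal.span {a₀} := by
    intro x hx
    rw [Ideal.mem_span_singleton']
    refine ⟨f ⟨x, hx⟩, ?_⟩
    have hfx : f ⟨x, hx⟩ • n = x • c := hf ⟨x, hx⟩
    have h0 : (f ⟨x, hx⟩ * a₀ - f ⟨a₀, ham⟩ * x) • n = 0 := by
      rw [sub_smul, mul_comm (f ⟨x, hx⟩) a₀, mul_smul, hfx, mul_comm (f ⟨a₀, ham⟩) x, mul_smul,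
        hb₀', smul_comm, sub_self]
    exact sub_eq_zero.1 (hreg' h0)
  have hb : f ⟨a₀, ham⟩ ∉ Ideal.span {a₀} := by
    intro hmem
    obtain ⟨r, hr⟩ := Ideal.mem_span_singleton'.1 hmem
    apply hc
    rw [Submodule.mem_span_singleton]
    refine ⟨r, ?_⟩
    have h0 : a₀ • (r • n - c) = 0 := by
      rw [smul_sub, ← hb₀', ← hr, mul_comm, mul_smul, sub_self]
    exact sub_eq_zero.1 (hreg ha0 h0)
  obtain ⟨g, hg⟩ := Groth.Agent.Lib.Helper28.isPrincipal_maximalIdeal_of_colon ha0 ham hb hcolon
  have hle : ringKrullDim R ≤ ((IsLocalRing.maximalIdeal R).spanFinrank : ℕ) :=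
    ringKrullDim_le_spanFinrank_maximalIdeal R
  have hsf : (IsLocalRing.maximalIdeal R).spanFinrank ≤ 1 := by
    rw [hg]
    have := Submodule.spanFinrank_span_le_ncard_of_finite (R := R) (Set.finite_singleton g)
    rwa [Set.ncard_singleton] at this
  exact hle.trans (by exact_mod_cast hsf)

end Local

section Transfer

variable {A : Type*} [CommRing A] [IsNoetherianRing A] {M : Type*} [AddCommGroup M] [Module A M]
  [Module.Finite A M]
variable (q : Ideal A) [q.IsPrime] (Rs : Type*) [CommRing Rs] [Algebra A Rs]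
  [IsLocalization.AtPrime Rs q] [IsLocalRing Rs] [IsNoetherianRing Rs] [IsDomain Rs]
  [IsIntegrallyClosed Rs]
variable {Ms : Type*} [AddCommGroup Ms] [Module A Ms] [Module Rs Ms] [IsScalarTower A Rs Ms]
  (l : M →ₗ[A] Ms) [IsLocalizedModule q.primeCompl l] [Module.IsTorsionFree Rs Ms]

include l in
/-- a minimal prime `q` of the locus where `t` does not generate the torsion-free module `M` over a
ring with normal localization `A_q` (not a field) has `dim A_q ≤ 1`. -/
theorem ringKrullDim_le_one_of_minimal (t : M) (h1 : ¬ LocGen A M t q)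
    (h2 : ∀ p : Ideal A, p.IsPrime → p < q → LocGen A M t p)
    (hm0 : IsLocalRing.maximalIdeal Rs ≠ ⊥) : ringKrullDim Rs ≤ 1 := by
  obtain ⟨c, hc⟩ := exists_colon_eq_of_minimal t q h1 h2
  refine ringKrullDim_le_one_of_colon (l t) (l c) ?_ ?_ hm0
  · intro hmem
    obtain ⟨r, hr⟩ := Submodule.mem_span_singleton.1 hmem
    obtain ⟨⟨a, u⟩, hau⟩ := IsLocalization.surj q.primeCompl r
    have h3 : l (u.1 • c - a • t) = 0 := by
      rw [map_sub, map_smul, map_smul, ← hr, ← algebraMap_smul Rs u.1, smul_smul,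
        ← algebraMap_smul Rs a, mul_comm, hau, sub_self]
    obtain ⟨u', hu'⟩ := (IsLocalizedModule.eq_zero_iff q.primeCompl l).1 h3
    have h4 : (u'.1 * u.1) • c = (u'.1 * a) • t := by
      have : u'.1 • (u.1 • c - a • t) = 0 := hu'
      rw [smul_sub, sub_eq_zero] at this
      rw [mul_smul, mul_smul, this]
    have h5 : u'.1 * u.1 ∈ q := by
      rw [hc, h4]
      exact Submodule.smul_mem _ _ (Submodule.mem_span_singleton_self t)
    rcases Ideal.IsPrime.mem_or_mem ‹q.IsPrime› h5 with h | h
    · exact u'.2 h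
    · exact u.2 h
  · intro x hx
    obtain ⟨⟨a, u⟩, hau⟩ := IsLocalization.surj q.primeCompl x
    have hu : IsUnit (algebraMap A Rs u.1) := IsLocalization.map_units Rs u
    have haq : a ∈ q := by
      rw [← IsLocalization.AtPrime.to_map_mem_maximal_iff Rs q a, ← hau]
      exact Ideal.mul_mem_right _ _ hx
    obtain ⟨b, hb⟩ := Submodule.mem_span_singleton.1 ((hc a).1 haq)
    have h3 : algebraMap A Rs u.1 • (x • l c) = algebraMap A Rs b • l t := by
      rw [smul_smul, mul_comm, hau, algebraMap_smul, algebraMap_smul, ← map_smul, ← map_smul, hb]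
    obtain ⟨v, hv⟩ := hu
    have h4 : x • l c = (↑v⁻¹ * algebraMap A Rs b) • l t := by
      rw [mul_smul, ← h3, ← hv, smul_smul, Units.inv_mul, one_smul]
    rw [h4]
    exact Submodule.smul_mem _ _ (Submodule.mem_span_singleton_self _)

end Transfer

end Groth.Agent.Lib.Helper28.CodimOne
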