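import Mathlib
import Groth.Agent.Lib.Helper28ReflNormal2
import Groth.Agent.Lib.Helper28RefOne
import Groth.Agent.Lib.Helper28CodimOne

/-!
# The non-generating locus of a section of a rank one torsion-free module has codimension one (helper28)

Namespace `Groth.Agent.Lib.Helper28.CodimOneSch`.

* `mem_of_not_one_le_dim`, `injective_res_of_isTorsionFree_of_nonempty`, `germ_ne_zero_of_isTorsionFree`:
  sections of torsion-free coherent modules on integral schemes are determined on nonempty opens.
* `locGen_iff_surjective`: dictionary between `LocGen` over an affine open and generation of the stalk.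
* `ringKrullDim_eq_one_of_minimal`: on a normal integral locally Noetherian scheme, minimal points of the
  locus where a nonzero section of a torsion-free coherent module of rank `<= 1` does not generate have
  one-dimensional local ring.
-/

set_option autoImplicit false
universe u v
open CategoryTheory Limits AlgebraicGeometry TopologicalSpace Opposite

namespace Groth.Agent.Lib.Helper28.CodimOneSch

open Groth.Agent.Lib.Helper6 Groth.Agent.Lib.Helper2 Groth.Agent.Lib.Helper2.FlatOver
  Groth.Agent.Lib.Helper28.HomSh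
  Groth.Agent.Lib.Helper20.ZClosLib Groth.Agent.Lib.Helper28.ReflNormal
  Groth.Agent.Lib.Helper28.CodimOne Groth.Agent.Lib.Helper28.ReflUFD

section A

variable {X : Scheme.{u}} [IsLocallyNoetherian X] [IsIntegral X]

/-- on an integral scheme a point with zero-dimensional local ring lies in every nonempty open. -/
theorem mem_of_not_one_le_dim (W : X.Opens) (hW : (W : Set X).Nonempty) (x : X)
    (hx : ¬ (1 : WithBot ℕ∞) ≤ ringKrullDim (X.presheaf.stalk x)) : x ∈ W := by
  rw [ringKrullDim_stalk_eq_coheight] at hx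
  have h0 : Order.coheight x = 0 := by
    by_contra h
    have h1 : 1 ≤ Order.coheight x := Order.one_le_iff_pos.2 (pos_iff_ne_zero.2 h)
    exact hx (by exact_mod_cast h1)
  rw [Order.coheight_eq_zero] at h0
  have hη : genericPoint X ∈ W := by
    obtain ⟨w, hw⟩ := hW
    exact ((genericPoint_spec X).specializes (Set.mem_univ w)).mem_open W.2 hw
  have h1 : x ≤ genericPoint X := (genericPoint_spec X).specializes (Set.mem_univ x)
  have h2 : genericPoint X ≤ x := h0 h1
  exact Specializes.mem_open h2 W.2 hη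

theorem injective_res_of_isTorsionFree_of_nonempty (Q : X.Modules) (hQ : Coh.IsCoh Q)
    (htf : TorSh.IsTorsionFree Q) (U V : X.Opens) (hVU : V ≤ U) (hV : (V : Set X).Nonempty) :
    Function.Injective (Q.presheaf.map (homOfLE hVU).op) := by
  haveI : Q.IsQuasicoherent := hQ.1
  haveI : SheafOfModules.IsFiniteType (R := X.ringCatSheaf) Q := hQ.2
  have hst : StableUnderSpecialization (ZClos.dimGe X 1) := stableUnderSpecialization_dimGe 1
  have hpure : ZClos.IsZPure (ZClos.dimGe X 1) Q := by
    refine (mono_iff_stalk_injective (ZClos.rhoApp (ZClos.dimGe X 1) Q)).2 fun x => ?_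
    refine isZPureAt_of_depth_ge_one (ZClos.dimGe X 1) Q x fun x' _ hx' => ?_
    haveI := htf x'
    exact one_le_depth_of_isTorsionFree _ hx' _
  have hB : ∀ W ∈ (X.affineOpens : Set X.Opens), PureOn (ZClos.dimGe X 1) Q W :=
    fun W hW => pureOn_of_isZPure _ Q hst hpure hW
  refine pureOn_of_basis _ Q _ X.isBasis_affineOpens hB U V hVU ?_
  rintro y ⟨hyU, hyV⟩
  by_contra hdim
  exact hyV (mem_of_not_one_le_dim V hV y hdim)

theorem germ_ne_zero_of_isTorsionFree (Q : X.Modules) (hQ : Coh.IsCoh Q)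
    (htf : TorSh.IsTorsionFree Q) (s : Γ(Q, ⊤)) (hs : s ≠ 0) (z : X) :
    Q.presheaf.germ ⊤ z trivial s ≠ 0 := by
  intro h0
  obtain ⟨W, hW, hzW, hres⟩ := exists_res_eq_zero_of_germ_eq_zero Q (U := ⊤) z trivial s h0
  apply hs
  apply injective_res_of_isTorsionFree_of_nonempty Q hQ htf ⊤ W hW ⟨z, hzW⟩
  rw [map_zero]
  exact hres

end A

section B

variable {X : Scheme.{u}} (F : X.Modules) [F.IsQuasicoherent] {U : X.Opens} (hU : IsAffineOpen U)

/-- the dictionary: `t` generates `Γ(F, U)` near the prime of `y` iff its germ generates the stalk. -/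
theorem locGen_iff_surjective (t : Γ(F, U)) (y : X) (hy : y ∈ U) :
    LocGen Γ(X, U) Γ(F, U) t (hU.primeIdealOf ⟨y, hy⟩).asIdeal ↔
      Function.Surjective fun a : X.presheaf.stalk y => a • F.presheaf.germ U y hy t := by
  letI mF := moduleStalkSections F U y hy
  haveI locF : IsLocalizedModule (hU.primeIdealOf ⟨y, hy⟩).asIdeal.primeCompl (germₗ F U y hy) :=
    isLocalizedModule_germ hU F y hy
  letI alg : Algebra Γ(X, U) (X.presheaf.stalk y) :=
    TopCat.Presheaf.algebra_section_stalk X.presheaf ⟨y, hy⟩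
  haveI locR : IsLocalization.AtPrime (X.presheaf.stalk y) (hU.primeIdealOf ⟨y, hy⟩).asIdeal :=
    hU.isLocalization_stalk ⟨y, hy⟩
  haveI : IsScalarTower Γ(X, U) (X.presheaf.stalk y) (F.presheaf.stalk y) :=
    IsScalarTower.of_algebraMap_smul fun r x => rfl
  set p := (hU.primeIdealOf ⟨y, hy⟩).asIdeal with hp
  constructor
  · intro h v
    obtain ⟨⟨m, u⟩, hmu⟩ := IsLocalizedModule.surj p.primeCompl (germₗ F U y hy) v
    obtain ⟨u', hu', hmem⟩ := h m
    obtain ⟨a, ha⟩ := Submodule.mem_span_singleton.1 hmem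
    have hunit : IsUnit (algebraMap Γ(X, U) (X.presheaf.stalk y) (u' * u.1)) :=
      IsLocalization.map_units (X.presheaf.stalk y) (⟨u' * u.1, p.primeCompl.mul_mem hu' u.2⟩ : p.primeCompl)
    obtain ⟨w, hw⟩ := hunit
    have h1 : (u' * u.1) • v = a • germₗ F U y hy t := by
      rw [mul_smul]
      have : u.1 • v = germₗ F U y hy m := hmu
      rw [this, ← map_smul, ← ha, map_smul]
    refine ⟨↑w⁻¹ * algebraMap Γ(X, U) (X.presheaf.stalk y) a, ?_⟩
    change (↑w⁻¹ * algebraMap Γ(X, U) (X.presheaf.stalk y) a) • germₗ F U y hy t = v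
    rw [mul_smul, algebraMap_smul, ← h1, ← algebraMap_smul (X.presheaf.stalk y) (u' * u.1) v, ← hw,
      smul_smul, Units.inv_mul, one_smul]
  · intro h m
    obtain ⟨r, hr⟩ := h (germₗ F U y hy m)
    have hr' : r • germₗ F U y hy t = germₗ F U y hy m := hr
    obtain ⟨⟨a, u⟩, hau⟩ := IsLocalization.surj p.primeCompl r
    have h3 : germₗ F U y hy (u.1 • m - a • t) = 0 := by
      rw [map_sub, map_smul, map_smul, ← hr', ← algebraMap_smul (X.presheaf.stalk y) u.1, smul_smul,
        ← algebraMap_smul (X.presheaf.stalk y) a, mul_comm, hau, sub_self]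
    obtain ⟨u', hu'⟩ := (IsLocalizedModule.eq_zero_iff p.primeCompl (germₗ F U y hy)).1 h3
    refine ⟨u'.1 * u.1, p.primeCompl.mul_mem u'.2 u.2, ?_⟩
    have : u'.1 • (u.1 • m - a • t) = 0 := hu'
    rw [smul_sub, sub_eq_zero] at this
    rw [mul_smul, this]
    exact Submodule.smul_mem _ _ (Submodule.smul_mem _ _ (Submodule.mem_span_singleton_self t))

end B

section C

variable {X : Scheme.{u}}

variable [IsLocallyNoetherian X] [IsIntegral X]

/-- the non-generating locus of a nonzero section of a torsion-free coherent module of rank at most one on a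
normal scheme has pure codimension one. -/
theorem ringKrullDim_eq_one_of_minimal (hX : Pi1.IsNormalScheme X) (F : X.Modules)
    (hF : Coh.IsCoh F) (htf : TorSh.IsTorsionFree F)
    (hrk : ∀ y : X, RankLeOne (X.presheaf.stalk y) (F.presheaf.stalk y))
    (s : Γ(F, ⊤)) (hs : s ≠ 0) (z : X)
    (hz : ¬ Function.Bijective fun a : X.presheaf.stalk z => a • F.presheaf.germ ⊤ z trivial s)
    (hmax : ∀ y : X,
      ¬ Function.Bijective (fun a : X.presheaf.stalk y => a • F.presheaf.germ ⊤ y trivial s) →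
      y ⤳ z → y = z) :
    ringKrullDim (X.presheaf.stalk z) = 1 := by
  haveI : F.IsQuasicoherent := hF.1
  haveI : SheafOfModules.IsFiniteType (R := X.ringCatSheaf) F := hF.2
  obtain ⟨U, hU0, hzU, -⟩ := (Opens.isBasis_iff_nbhd.1 X.isBasis_affineOpens) (Opens.mem_top z)
  have hU : IsAffineOpen U := hU0
  haveI : IsNoetherianRing Γ(X, U) := IsLocallyNoetherian.component_noetherian ⟨U, hU⟩
  haveI : Module.Finite Γ(X, U) Γ(F, U) :=
    Groth.Agent.Lib.Helper23.FinType.finite_of_isFiniteType F hU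
  set t : Γ(F, U) := res F (le_top : U ≤ ⊤) s with ht
  have hgerm : ∀ (y : X) (hy : y ∈ U),
      F.presheaf.germ U y hy t = F.presheaf.germ ⊤ y trivial s := fun y hy => germ_res' F _ y hy s
  haveI : IsIntegrallyClosed (X.presheaf.stalk z) := (hX z).2
  haveI : IsNoetherianRing (X.presheaf.stalk z) := inferInstance
  haveI : Module.IsTorsionFree (X.presheaf.stalk z) (F.presheaf.stalk z) := htf z
  have htz : F.presheaf.germ ⊤ z trivial s ≠ 0 := germ_ne_zero_of_isTorsionFree F hF htf s hs z
  -- cancellation in torsion-free stalks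
  have hcancel : ∀ (y : X) (a b : X.presheaf.stalk y),
      a • F.presheaf.germ ⊤ y trivial s = b • F.presheaf.germ ⊤ y trivial s → a = b := by
    intro y a b hab
    haveI : Module.IsTorsionFree (X.presheaf.stalk y) (F.presheaf.stalk y) := htf y
    have hty := germ_ne_zero_of_isTorsionFree F hF htf s hs y
    by_contra hne
    have h0 : (a - b) • F.presheaf.germ ⊤ y trivial s = 0 := by rw [sub_smul, hab, sub_self]
    have hreg := Module.IsTorsionFree.isSMulRegular (M := F.presheaf.stalk y)
      (IsRegular.of_ne_zero (sub_ne_zero.2 hne))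
    exact hty (hreg (show (a - b) • _ = (a - b) • 0 by rw [h0, smul_zero]))
  have hm0 : IsLocalRing.maximalIdeal (X.presheaf.stalk z) ≠ ⊥ := by
    intro hbot
    have hfield : IsField (X.presheaf.stalk z) := IsLocalRing.isField_iff_maximalIdeal_eq.mpr hbot
    apply hz
    refine ⟨fun a b hab => hcancel z a b hab, fun v => ?_⟩
    obtain ⟨α, β, hαβ, hsum⟩ := hrk z (F.presheaf.germ ⊤ z trivial s) v
    have hβ : β ≠ 0 := by
      rintro rfl
      rw [zero_smul, add_zero] at hsum
      rcases hαβ with hα | hβ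
      · exact hα (hcancel z α 0 (by rw [hsum, zero_smul]))
      · exact hβ rfl
    obtain ⟨γ, hγ⟩ := hfield.mul_inv_cancel hβ
    refine ⟨-(γ * α), ?_⟩
    change (-(γ * α)) • F.presheaf.germ ⊤ z trivial s = v
    have h1 : β • v = -(α • F.presheaf.germ ⊤ z trivial s) := by
      rw [eq_neg_iff_add_eq_zero, add_comm]; exact hsum
    have h2 : v = (γ * β) • v := by rw [mul_comm, hγ, one_smul]
    rw [h2, mul_smul, h1, smul_neg, neg_smul, mul_smul]
  -- the local set-up at `z`
  letI mF := moduleStalkSections F U z hzU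
  haveI locF : IsLocalizedModule (hU.primeIdealOf ⟨z, hzU⟩).asIdeal.primeCompl (germₗ F U z hzU) :=
    isLocalizedModule_germ hU F z hzU
  letI alg : Algebra Γ(X, U) (X.presheaf.stalk z) :=
    TopCat.Presheaf.algebra_section_stalk X.presheaf ⟨z, hzU⟩
  haveI locR : IsLocalization.AtPrime (X.presheaf.stalk z) (hU.primeIdealOf ⟨z, hzU⟩).asIdeal :=
    hU.isLocalization_stalk ⟨z, hzU⟩
  haveI : IsScalarTower Γ(X, U) (X.presheaf.stalk z) (F.presheaf.stalk z) :=
    IsScalarTower.of_algebraMap_smul fun r x => rfl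
  have h1 : ¬ LocGen Γ(X, U) Γ(F, U) t (hU.primeIdealOf ⟨z, hzU⟩).asIdeal := by
    intro hL
    apply hz
    refine ⟨fun a b hab => hcancel z a b hab, ?_⟩
    have := (locGen_iff_surjective F hU t z hzU).1 hL
    intro v
    obtain ⟨a, ha⟩ := this v
    refine ⟨a, ?_⟩
    rw [← hgerm z hzU]; exact ha
  have h2 : ∀ p : Ideal Γ(X, U), p.IsPrime → p < (hU.primeIdealOf ⟨z, hzU⟩).asIdeal →
      LocGen Γ(X, U) Γ(F, U) t p := by
    intro p hp hlt
    have hyU := QCoh.fromSpec_mem hU ⟨p, hp⟩
    have hpy : hU.primeIdealOf ⟨hU.fromSpec ⟨p, hp⟩, hyU⟩ = ⟨p, hp⟩ := QCoh.primeIdealOf_fromSpec hU _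
    have hspec : hU.fromSpec ⟨p, hp⟩ ⤳ z := by
      have hz' : hU.fromSpec (hU.primeIdealOf ⟨z, hzU⟩) = z := hU.fromSpec_primeIdealOf ⟨z, hzU⟩
      rw [← hz']
      have h3 : (⟨p, hp⟩ : PrimeSpectrum Γ(X, U)) ⤳ hU.primeIdealOf ⟨z, hzU⟩ :=
        (PrimeSpectrum.le_iff_specializes _ _).1 hlt.le
      exact h3.map hU.fromSpec.continuous
    by_contra hnL
    have hnb : ¬ Function.Bijective (fun a : X.presheaf.stalk (hU.fromSpec ⟨p, hp⟩) =>
        a • F.presheaf.germ ⊤ (hU.fromSpec ⟨p, hp⟩) trivial s) := by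
      intro hb
      apply hnL
      have h4 := (locGen_iff_surjective F hU t _ hyU).2 (by
        intro v
        obtain ⟨a, ha⟩ := hb.2 v
        exact ⟨a, by rw [hgerm _ hyU]; exact ha⟩)
      rw [hpy] at h4
      exact h4
    have heq := hmax _ hnb hspec
    have h5 : hU.primeIdealOf ⟨hU.fromSpec ⟨p, hp⟩, hyU⟩ = hU.primeIdealOf ⟨z, hzU⟩ := by
      congr 1
      exact Subtype.ext heq
    rw [hpy] at h5
    have : p = (hU.primeIdealOf ⟨z, hzU⟩).asIdeal := by rw [← h5]
    exact hlt.ne this
  have hle : ringKrullDim (X.presheaf.stalk z) ≤ 1 :=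
    ringKrullDim_le_one_of_minimal (hU.primeIdealOf ⟨z, hzU⟩).asIdeal (X.presheaf.stalk z)
      (germₗ F U z hzU) t h1 h2 hm0
  apply le_antisymm hle
  have h3 : (⊥ : Ideal (X.presheaf.stalk z)).height + 1 ≤
      (IsLocalRing.maximalIdeal (X.presheaf.stalk z)).height :=
    Ideal.height_add_one_le_of_lt_of_isPrime (bot_lt_iff_ne_bot.mpr hm0)
  rw [Ideal.height_bot, zero_add] at h3
  rw [← IsLocalRing.maximalIdeal_height_eq_ringKrullDim]
  exact_mod_cast h3

end C

end Groth.Agent.Lib.Helper28.CodimOneSch
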