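import Mathlib
import Groth.Agent.Lib.Helper28BigOpen
import Groth.Agent.Lib.Helper28CodimOneSch
import Groth.Agent.Lib.Helper28HomShFun

/-!
# Extension of rational sections and homomorphisms of reflexive modules on normal schemes (helper28)

Namespace `Groth.Agent.Lib.Helper28.GenHom`.

* `bijective_res_of_isReflexive_normal`: sections of a reflexive coherent module on a normal scheme extend uniquely over
  closed subsets of codimension at least two.
* `exists_section_of_generic`: a rational section regular in codimension one is regular.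
* `exists_hom_of_generic`: a linear map of generic stalks regular in codimension one extends to a morphism.
* `hom_ext_of_generic`: morphisms into a torsion-free coherent module are determined generically.
-/

set_option autoImplicit false
set_option linter.unusedSectionVars false
universe u
open CategoryTheory Limits AlgebraicGeometry TopologicalSpace Opposite

namespace Groth.Agent.Lib.Helper28.GenHom

open Groth.Agent.Lib.Helper6 Groth.Agent.Lib.Helper2 Groth.Agent.Lib.Helper28.HomSh
  Groth.Agent.Lib.Helper20.ZClosLib Groth.Agent.Lib.Helper28.ReflNormal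
  Groth.Agent.Lib.Helper28.BigOpen Groth.Agent.Lib.Helper28.CodimOneSch

variable {X : Scheme.{u}} [IsLocallyNoetherian X] [IsIntegral X]

theorem isZClosed_dimGe_two_of_isReflexive_normal (hX : Pi1.IsNormalScheme X) (F : X.Modules)
    (hF : Coh.IsCoh F) (hr : RefHull.IsReflexive F) : ZClos.IsZClosed (ZClos.dimGe X 2) F := by
  haveI : F.IsQuasicoherent := hF.1
  haveI : SheafOfModules.IsFiniteType (R := X.ringCatSheaf) F := hF.2
  have hall := (isReflexive_iff_forall_isReflexiveAt F hF).1 hr
  refine isZClosed_of_forall_isZClosedAt _ _ fun x => ?_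
  refine isZClosedAt_of_depth_ge_two _ F x fun x' _ hx' => ?_
  haveI := finite_stalk_of_isCoh F hF x'
  haveI : Module.IsReflexive (X.presheaf.stalk x') (F.presheaf.stalk x') := hall x'
  haveI : IsIntegrallyClosed (X.presheaf.stalk x') := (hX x').2
  have hx2 : (2 : WithBot ℕ∞) ≤ ringKrullDim (X.presheaf.stalk x') := hx'
  exact two_le_depth_of_isReflexive' _
    (Groth.Agent.Lib.Helper28.two_le_depth_of_isIntegrallyClosed_of_two_le_dim hx2) _

/-- a reflexive coherent sheaf on a normal integral locally Noetherian scheme is normal: sections extend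
uniquely over closed subsets of codimension at least two. -/
theorem bijective_res_of_isReflexive_normal (hX : Pi1.IsNormalScheme X) (F : X.Modules)
    (hF : Coh.IsCoh F) (hr : RefHull.IsReflexive F) (U V : X.Opens) (hVU : V ≤ U)
    (h : ∀ x : X, x ∈ U → x ∉ V → (2 : WithBot ℕ∞) ≤ ringKrullDim (X.presheaf.stalk x)) :
    Function.Bijective (F.presheaf.map (homOfLE hVU).op) := by
  have hcl := isZClosed_dimGe_two_of_isReflexive_normal hX F hF hr
  have hst : StableUnderSpecialization (ZClos.dimGe X 2) := stableUnderSpecialization_dimGe 2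
  have hB : ∀ W ∈ (X.affineOpens : Set X.Opens), ClosedOn (ZClos.dimGe X 2) F W :=
    fun W hW => closedOn_of_isZClosed _ F hst hcl hW
  refine closedOn_of_basis _ F _ X.isBasis_affineOpens hB U V hVU ?_
  rintro y ⟨hyU, hyV⟩
  exact h y hyU hyV

/-- on sections of a torsion-free coherent module over an open containing the generic point, the germ at the
generic point is injective. -/
theorem germ_generic_injective (G : X.Modules) (hG : Coh.IsCoh G) (htf : TorSh.IsTorsionFree G)
    (U : X.Opens) (hη : genericPoint X ∈ U) :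
    Function.Injective (G.presheaf.germ U (genericPoint X) hη) := by
  rw [injective_iff_map_eq_zero]
  intro m hm
  obtain ⟨W, hW, hzW, hres⟩ := exists_res_eq_zero_of_germ_eq_zero G (U := U) _ hη m hm
  apply injective_res_of_isTorsionFree_of_nonempty G hG htf U W hW ⟨_, hzW⟩
  rw [map_zero]
  exact hres

/-- every open not containing the generic point is empty, so sections over it are all equal. -/
theorem section_eq_of_not_mem (G : X.Modules) (U : X.Opens) (hη : genericPoint X ∉ U)
    (m m' : Γ(G, U)) : m = m' := by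
  apply section_ext'
  intro y hy
  exact absurd (((genericPoint_spec X).specializes (Set.mem_univ y)).mem_open U.2 hy) hη


omit [IsLocallyNoetherian X] in
/-- a point whose local ring has dimension zero is the generic point. -/
theorem eq_genericPoint_of_not_one_le_dim (y : X)
    (hy : ¬ (1 : WithBot ℕ∞) ≤ ringKrullDim (X.presheaf.stalk y)) : y = genericPoint X := by
  rw [ringKrullDim_stalk_eq_coheight] at hy
  have h0 : Order.coheight y = 0 := by
    by_contra h
    have h1 : 1 ≤ Order.coheight y := Order.one_le_iff_pos.2 (pos_iff_ne_zero.2 h)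
    exact hy (by exact_mod_cast h1)
  rw [Order.coheight_eq_zero] at h0
  have h1 : y ≤ genericPoint X := (genericPoint_spec X).specializes (Set.mem_univ y)
  have h2 : genericPoint X ≤ y := h0 h1
  have h1' : genericPoint X ⤳ y := (genericPoint_spec X).specializes (Set.mem_univ y)
  have h2' : y ⤳ genericPoint X := h2
  exact (h2'.antisymm h1').eq

omit [IsLocallyNoetherian X] in
theorem coheight_eq_one_of_dim (y : X)
    (h1 : (1 : WithBot ℕ∞) ≤ ringKrullDim (X.presheaf.stalk y))
    (h2 : ¬ (2 : WithBot ℕ∞) ≤ ringKrullDim (X.presheaf.stalk y)) : Order.coheight y = 1 := by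
  have h3 := BigOpen.le_one_of_not_two_le _ h2
  have h4 : ringKrullDim (X.presheaf.stalk y) = 1 := le_antisymm h3 h1
  rw [ringKrullDim_stalk_eq_coheight] at h4
  exact_mod_cast h4

/-- **Extension of rational sections**: a rational section of a reflexive coherent module on a normal scheme which
is regular at the codimension-one points of an open `U` is a section over `U`. -/
theorem exists_section_of_generic (hX : Pi1.IsNormalScheme X) (G : X.Modules) (hG : Coh.IsCoh G)
    (hGr : RefHull.IsReflexive G) (U : X.Opens) (u : G.presheaf.stalk (genericPoint X))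
    (h : ∀ (y : X), y ∈ U → Order.coheight y = 1 →
      ∃ g : G.presheaf.stalk y,
        G.presheaf.stalkSpecializes ((genericPoint_spec X).specializes (Set.mem_univ y)) g = u) :
    ∃ n : Γ(G, U), ∀ (hη : genericPoint X ∈ U), G.presheaf.germ U _ hη n = u := by
  by_cases hη : genericPoint X ∈ U
  swap
  · exact ⟨0, fun h' => absurd h' hη⟩
  have htf := isTorsionFree_of_isReflexive' G hG hGr
  let S : Set X.Opens := {W | W ≤ U ∧ ∃ (hηW : genericPoint X ∈ W) (n : Γ(G, W)),
    G.presheaf.germ W _ hηW n = u}
  let V : X.Opens := sSup S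
  have hVU : V ≤ U := sSup_le fun W hW => hW.1
  have hsmall : ∀ y : X, y ∈ U → y ∉ V →
      (2 : WithBot ℕ∞) ≤ ringKrullDim (X.presheaf.stalk y) := by
    intro y hyU hyV
    by_contra hdim
    apply hyV
    have hg : ∃ g : G.presheaf.stalk y,
        G.presheaf.stalkSpecializes ((genericPoint_spec X).specializes (Set.mem_univ y)) g = u := by
      by_cases h1 : (1 : WithBot ℕ∞) ≤ ringKrullDim (X.presheaf.stalk y)
      · exact h y hyU (coheight_eq_one_of_dim y h1 hdim)
      · have hyη := eq_genericPoint_of_not_one_le_dim y h1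
        subst hyη
        refine ⟨u, ?_⟩
        rw [TopCat.Presheaf.stalkSpecializes_refl]
        rfl
    obtain ⟨g, hg⟩ := hg
    obtain ⟨W₀, hyW₀, n₀, rfl⟩ := TopCat.Presheaf.exists_germ_eq G.presheaf g
    have hyW : y ∈ W₀ ⊓ U := ⟨hyW₀, hyU⟩
    have hηW : genericPoint X ∈ W₀ ⊓ U :=
      ((genericPoint_spec X).specializes (Set.mem_univ y)).mem_open (W₀ ⊓ U).2 hyW
    refine (Opens.mem_sSup).2 ⟨W₀ ⊓ U, ⟨inf_le_right, hηW, res G inf_le_left n₀, ?_⟩, hyW⟩
    rw [germ_res', ← hg]
    exact (ConcreteCategory.congr_hom (TopCat.Presheaf.germ_stalkSpecializes G.presheaf hyW₀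
      ((genericPoint_spec X).specializes (Set.mem_univ y))) n₀).symm
  have hηV : genericPoint X ∈ V := by
    by_contra hcon
    have h2 := hsmall _ hη hcon
    have h0 : ringKrullDim (X.presheaf.stalk (genericPoint X)) = 0 :=
      ringKrullDim_eq_zero_of_field X.functionField
    rw [h0] at h2
    exact absurd h2 (by norm_num)
  have hex : ∀ y : V, ∃ (W : X.Opens) (_ : W ≤ U) (_ : y.1 ∈ W) (hηW : genericPoint X ∈ W)
      (n : Γ(G, W)), G.presheaf.germ W _ hηW n = u := by
    intro y
    obtain ⟨W, ⟨hWU, hηW, n, hn⟩, hyW⟩ := Opens.mem_sSup.1 y.2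
    exact ⟨W, hWU, hyW, hηW, n, hn⟩
  choose W hWU hyW hηW n hn using hex
  have hWV : ∀ y : V, W y ≤ V := fun y => le_sSup ⟨hWU y, hηW y, n y, hn y⟩
  have hcompat : ∀ (y y' : V) (z : X) (hz : z ∈ W y) (hz' : z ∈ W y'),
      G.presheaf.germ (W y) z hz (n y) = G.presheaf.germ (W y') z hz' (n y') := by
    intro y y' z hz hz'
    have hηI : genericPoint X ∈ W y ⊓ W y' := ⟨hηW y, hηW y'⟩
    have hres : res G (inf_le_left : W y ⊓ W y' ≤ W y) (n y) =
        res G (inf_le_right : W y ⊓ W y' ≤ W y') (n y') := by
      apply germ_generic_injective G hG htf _ hηI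
      rw [germ_res', germ_res', hn, hn]
    rw [← germ_res' G (inf_le_left : W y ⊓ W y' ≤ W y) z ⟨hz, hz'⟩, hres, germ_res']
  obtain ⟨n', hn'⟩ := exists_section_of_germs' G V
    (fun y => G.presheaf.germ (W y) y.1 (hyW y) (n y)) fun y =>
      ⟨W y, hWV y, hyW y, n y, fun z hz => hcompat y ⟨z, hWV y hz⟩ z hz (hyW ⟨z, hWV y hz⟩)⟩
  obtain ⟨m, hm⟩ := (bijective_res_of_isReflexive_normal hX G hG hGr U V hVU hsmall).2 n'
  refine ⟨m, fun hη' => ?_⟩
  have hm' : res G hVU m = n' := hm
  rw [← germ_res' G hVU _ hηV, hm', hn' _ hηV]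
  exact hn ⟨_, hηV⟩


section Generic

variable {Y : Scheme.{u}} (M N : Y.Modules) (φ : ∀ U : Y.Opens, Γ(M, U) →+ Γ(N, U))

/-- the natural transformation defined by a compatible family of maps on sections. -/
noncomputable def natOfSec
    (hnat : ∀ (U V : Y.Opens) (i : V ⟶ U) (m : Γ(M, U)),
      φ V (M.presheaf.map i.op m) = N.presheaf.map i.op (φ U m)) :
    M.val.presheaf ⟶ N.val.presheaf where
  app := fun W => AddCommGrpCat.ofHom (φ W.unop)
  naturality := fun {U W} i => by
    ext s
    exact hnat U.unop W.unop i.unop s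

/-- the morphism of modules defined by a compatible family of linear maps on sections. -/
noncomputable def homOfSec
    (hnat : ∀ (U V : Y.Opens) (i : V ⟶ U) (m : Γ(M, U)),
      φ V (M.presheaf.map i.op m) = N.presheaf.map i.op (φ U m))
    (hsmul : ∀ (U : Y.Opens) (r : Γ(Y, U)) (m : Γ(M, U)), φ U (r • m) = r • φ U m) : M ⟶ N :=
  ⟨PresheafOfModules.homMk (natOfSec M N φ hnat) (fun U r m => hsmul U.unop r m)⟩

theorem homOfSec_app
    (hnat : ∀ (U V : Y.Opens) (i : V ⟶ U) (m : Γ(M, U)),
      φ V (M.presheaf.map i.op m) = N.presheaf.map i.op (φ U m))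
    (hsmul : ∀ (U : Y.Opens) (r : Γ(Y, U)) (m : Γ(M, U)), φ U (r • m) = r • φ U m)
    (U : Y.Opens) (m : Γ(M, U)) : (homOfSec M N φ hnat hsmul).app U m = φ U m := rfl

end Generic


/-- a section of a torsion-free coherent module is determined by its germ at the generic point. -/
theorem section_eq_of_germ_generic (G : X.Modules) (hG : Coh.IsCoh G) (htf : TorSh.IsTorsionFree G)
    (U : X.Opens) (n n' : Γ(G, U))
    (h : ∀ hη : genericPoint X ∈ U, G.presheaf.germ U _ hη n = G.presheaf.germ U _ hη n') : n = n' := by
  by_cases hη : genericPoint X ∈ U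
  · exact germ_generic_injective G hG htf U hη (h hη)
  · exact section_eq_of_not_mem G U hη n n'

/-- morphisms into a torsion-free coherent module are determined by their generic stalk map. -/
theorem hom_ext_of_generic (F G : X.Modules) (hG : Coh.IsCoh G) (htf : TorSh.IsTorsionFree G)
    (α β : F ⟶ G)
    (h : RefHull.stalkMapₗ α (genericPoint X) = RefHull.stalkMapₗ β (genericPoint X)) : α = β := by
  refine Scheme.Modules.hom_ext _ _ fun U => ?_
  ext m
  refine section_eq_of_germ_generic G hG htf U _ _ fun hη => ?_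
  have h1 := RefHull.stalkMapₗ_germ α _ hη m
  have h2 := RefHull.stalkMapₗ_germ β _ hη m
  rw [h] at h1
  exact h1.symm.trans h2

/-- **Extension of rational homomorphisms**: a linear map between the generic stalks which is regular at all
codimension-one points extends to a morphism into a reflexive coherent module. -/
theorem exists_hom_of_generic (hX : Pi1.IsNormalScheme X) (F G : X.Modules) (hG : Coh.IsCoh G)
    (hGr : RefHull.IsReflexive G) (T : RefHull.StalkHom F G (genericPoint X))
    (hT : ∀ (y : X), Order.coheight y = 1 → ∀ v : F.presheaf.stalk y,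
      ∃ g : G.presheaf.stalk y,
        G.presheaf.stalkSpecializes ((genericPoint_spec X).specializes (Set.mem_univ y)) g =
          T (F.presheaf.stalkSpecializes ((genericPoint_spec X).specializes (Set.mem_univ y)) v)) :
    ∃ φ : F ⟶ G, RefHull.stalkMapₗ φ (genericPoint X) = T := by
  have htf := isTorsionFree_of_isReflexive' G hG hGr
  have hex : ∀ (U : X.Opens) (m : Γ(F, U)), ∃ n : Γ(G, U), ∀ hη : genericPoint X ∈ U,
      G.presheaf.germ U _ hη n = T (F.presheaf.germ U _ hη m) := by
    intro U m
    by_cases hη : genericPoint X ∈ U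
    · obtain ⟨n, hn⟩ := exists_section_of_generic hX G hG hGr U (T (F.presheaf.germ U _ hη m)) (by
        intro y hyU hy
        obtain ⟨g, hg⟩ := hT y hy (F.presheaf.germ U y hyU m)
        refine ⟨g, ?_⟩
        rw [hg]
        congr 1
        exact ConcreteCategory.congr_hom (TopCat.Presheaf.germ_stalkSpecializes F.presheaf hyU _) m)
      exact ⟨n, fun hη' => hn hη'⟩
    · exact ⟨0, fun h' => absurd h' hη⟩
  choose ψ hψ using hex
  have huniq := section_eq_of_germ_generic G hG htf
  let φ : ∀ U : X.Opens, Γ(F, U) →+ Γ(G, U) := fun U =>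
    { toFun := ψ U
      map_zero' := huniq U _ _ fun hη => by rw [hψ, map_zero, map_zero, map_zero]
      map_add' := fun m m' => huniq U _ _ fun hη => by
        rw [hψ, map_add, map_add, map_add, hψ, hψ] }
  refine ⟨homOfSec F G φ ?_ ?_, ?_⟩
  · intro U V i m
    refine huniq V _ _ fun hη => ?_
    change G.presheaf.germ V _ hη (ψ V (F.presheaf.map i.op m)) =
      G.presheaf.germ V _ hη (G.presheaf.map i.op (ψ U m))
    rw [hψ, TopCat.Presheaf.germ_res_apply, TopCat.Presheaf.germ_res_apply, hψ]
  · intro U r m
    refine huniq U _ _ fun hη => ?_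
    change G.presheaf.germ U _ hη (ψ U (r • m)) = G.presheaf.germ U _ hη (r • ψ U m)
    rw [hψ, Mero.germ_smul, Mero.germ_smul, map_smul, hψ]
  · ext v
    obtain ⟨U, hx, m, rfl⟩ := TopCat.Presheaf.exists_germ_eq F.presheaf v
    rw [RefHull.stalkMapₗ_germ, homOfSec_app]
    exact hψ U m hx

end Groth.Agent.Lib.Helper28.GenHom
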