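import Mathlib
import Groth.Agent.Lib.Helper20AbsCurve
import Groth.Agent.Lib.Helper20CDivOrd2

/-!
# Orders of vanishing: finiteness on affines, powers, uniformizers (helper28)

Namespace `Groth.Agent.Lib.Helper28.WeilOrd`.
-/

set_option autoImplicit false
set_option linter.unusedSectionVars false
set_option linter.style.haveILetI false
universe u
open CategoryTheory Limits AlgebraicGeometry TopologicalSpace Opposite

namespace Groth.Agent.Lib.Helper28.WeilOrd

open Groth.Agent.Lib.Helper20.AbsCurve Groth.Agent.Lib.Helper20.CDivOrd Groth.Agent.Lib.Helper20.CDivOrd2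

variable {X : Scheme.{u}} [IsIntegral X] [IsLocallyNoetherian X]

/-- the order of a section which is a unit at `ξ` vanishes. -/
theorem ord_germ_eq_zero_of_isUnit {U : X.Opens} [Nonempty U] (a : Γ(X, U)) (ξ : X) (hξ : ξ ∈ U)
    (hu : IsUnit (X.presheaf.germ U ξ hξ a)) :
    Scheme.ord (X.germToFunctionField U a) ξ = 0 := by
  have hξa : ξ ∈ X.basicOpen a := (X.mem_basicOpen a ξ hξ).2 hu
  haveI : Nonempty (X.basicOpen a) := ⟨⟨ξ, hξa⟩⟩
  have h1 : IsUnit (X.presheaf.map (homOfLE (X.basicOpen_le a)).op a) :=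
    RingedSpace.isUnit_res_basicOpen _ a
  have h2 := Scheme.ord_of_isUnit h1 hξa
  have h3 : X.germToFunctionField (X.basicOpen a) (X.presheaf.map (homOfLE (X.basicOpen_le a)).op a) =
      X.germToFunctionField U a :=
    X.presheaf.germ_res_apply (homOfLE (X.basicOpen_le a)) _ _ a
  rwa [h3] at h2

/-- a nonzero rational function has nonzero order at only finitely many codimension-one points of an affine open. -/
theorem finite_ord_ne_zero {U : X.Opens} (hU : IsAffineOpen U) (f : X.functionField) (hf : f ≠ 0) :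
    {ξ : X | ξ ∈ U ∧ Order.coheight ξ = 1 ∧ Scheme.ord f ξ ≠ 0}.Finite := by
  by_cases hne : Nonempty U
  swap
  · refine Set.Finite.subset Set.finite_empty ?_
    rintro ξ ⟨hξ, -, -⟩
    exact (hne ⟨⟨ξ, hξ⟩⟩).elim
  haveI : IsNoetherianRing Γ(X, U) := IsLocallyNoetherian.component_noetherian ⟨U, hU⟩
  haveI := functionField_isFractionRing_of_isAffineOpen X U hU
  obtain ⟨a, b, hb, hab⟩ := IsFractionRing.div_surjective (A := Γ(X, U)) f
  have hbne : algebraMap Γ(X, U) X.functionField b ≠ 0 :=
    IsFractionRing.to_map_ne_zero_of_mem_nonZeroDivisors hb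
  have hfab : f * algebraMap Γ(X, U) X.functionField b = algebraMap Γ(X, U) X.functionField a := by
    rw [← hab, div_mul_cancel₀ _ hbne]
  have hane : algebraMap Γ(X, U) X.functionField a ≠ 0 := by
    rw [← hfab]; exact mul_ne_zero hf hbne
  have ha : a ∈ nonZeroDivisors Γ(X, U) := by
    rw [mem_nonZeroDivisors_iff_ne_zero]
    rintro rfl
    exact hane (map_zero _)
  have hfa := finite_setOf_not_isUnit_germ hU a ha
  have hfb := finite_setOf_not_isUnit_germ hU b hb
  refine (hfa.union hfb).subset ?_
  rintro ξ ⟨hξU, hξ1, hξ⟩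
  have hdim : ringKrullDim (X.presheaf.stalk ξ) = 1 := by
    rw [ringKrullDim_stalk_eq_coheight, hξ1]; rfl
  by_contra hcon
  simp only [Set.mem_union, Set.mem_ofPred_eq, not_or, not_exists, not_and, not_not] at hcon
  have hua := hcon.1 hξU hdim
  have hub := hcon.2 hξU hdim
  have h1 := ord_germ_eq_zero_of_isUnit a ξ hξU hua
  have h2 := ord_germ_eq_zero_of_isUnit b ξ hξU hub
  have h3 : Scheme.ord (f * X.germToFunctionField U b) ξ = Scheme.ord f ξ +
      Scheme.ord (X.germToFunctionField U b) ξ := Scheme.ord_mul hf hbne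
  have h4 : f * X.germToFunctionField U b = X.germToFunctionField U a := hfab
  rw [h4, h1, h2, add_zero] at h3
  exact hξ h3.symm

theorem ord_one' (x : X) : Scheme.ord (1 : X.functionField) x = 0 := by
  have h := Scheme.ord_mul (X := X) (x := x) (f := 1) (g := 1) one_ne_zero one_ne_zero
  rw [mul_one] at h
  omega

theorem ord_pow (f : X.functionField) (hf : f ≠ 0) (n : ℕ) (x : X) :
    Scheme.ord (f ^ n) x = n * Scheme.ord f x := by
  induction n with
  | zero => rw [pow_zero, ord_one']; simp
  | succ k ih =>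
    rw [pow_succ, Scheme.ord_mul (pow_ne_zero k hf) hf, ih]
    push_cast
    ring

theorem ord_inv' (f : X.functionField) (hf : f ≠ 0) (x : X) :
    Scheme.ord f⁻¹ x = - Scheme.ord f x := by
  have h := Scheme.ord_mul (X := X) (x := x) (f := f) (g := f⁻¹) hf (inv_ne_zero hf)
  rw [mul_inv_cancel₀ hf, ord_one'] at h
  omega

theorem ord_zpow (f : X.functionField) (hf : f ≠ 0) (n : ℤ) (x : X) :
    Scheme.ord (f ^ n) x = n * Scheme.ord f x := by
  cases n with
  | ofNat m =>
    rw [Int.ofNat_eq_natCast, zpow_natCast, ord_pow f hf m]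
  | negSucc m =>
    rw [zpow_negSucc, ord_inv' _ (pow_ne_zero _ hf), ord_pow f hf (m + 1), Int.negSucc_eq]
    push_cast
    ring

/-- a uniformizer at a codimension-one point of a normal scheme. -/
theorem exists_ord_eq_one (hX : Pi1.IsNormalScheme X) (x : X) (hx : Order.coheight x = 1) :
    ∃ π : X.functionField, π ≠ 0 ∧ Scheme.ord π x = 1 := by
  haveI := isDiscreteValuationRing_stalk hX x hx
  obtain ⟨ϖ, hϖ⟩ := IsDiscreteValuationRing.exists_irreducible (X.presheaf.stalk x)
  have hne : algebraMap (X.presheaf.stalk x) X.functionField ϖ ≠ 0 := by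
    intro h0
    exact hϖ.ne_zero (IsFractionRing.injective (X.presheaf.stalk x) X.functionField
      (by rw [h0, map_zero]))
  refine ⟨algebraMap (X.presheaf.stalk x) X.functionField ϖ, hne, ?_⟩
  rw [Scheme.ord_eq_iff hx hne]
  haveI : Ring.KrullDimLE 1 (X.presheaf.stalk x) := krullDimLE_of_coheight_le hx.le
  have := Ring.ordFrac_irreducible (R := X.presheaf.stalk x) (K := X.functionField) hϖ
  simpa [Scheme.ordHom, WithZero.exp] using this

/-- a regular function has nonnegative order. -/
theorem ord_germ_nonneg {U : X.Opens} (r : Γ(X, U)) (hη : genericPoint X ∈ U) (y : X) (hy : y ∈ U)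
    (hy1 : Order.coheight y = 1) (hr : X.presheaf.germ U (genericPoint X) hη r ≠ 0) :
    0 ≤ Scheme.ord (X.presheaf.germ U (genericPoint X) hη r : X.functionField) y := by
  have h1 : algebraMap (X.presheaf.stalk y) X.functionField (X.presheaf.germ U y hy r) =
      X.presheaf.germ U (genericPoint X) hη r :=
    ConcreteCategory.congr_hom (TopCat.Presheaf.germ_stalkSpecializes X.presheaf hy
      ((genericPoint_spec X).specializes (Set.mem_univ y))) r
  have h2 := ord_nonneg_of_algebraMap y hy1 (X.presheaf.germ U y hy r) (by rw [h1]; exact hr)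
  rwa [h1] at h2

end Groth.Agent.Lib.Helper28.WeilOrd
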