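import Mathlib
import Groth.Prelude.Def_MeroSh
import Groth.Agent.Lib.Helper28WeilOrd
import Groth.Agent.Lib.Helper28GenHom
import Groth.Agent.Lib.Helper23InvDual
import Groth.Agent.Lib.Helper28RefGroup

/-!
# The sheaf `O_X(D)` of a Weil divisor on a normal scheme (helper28)

Namespace `Groth.Agent.Lib.Helper28.WeilSheaf`.
-/

set_option autoImplicit false
set_option linter.unusedSectionVars false
set_option linter.style.haveILetI false
universe u
open CategoryTheory Limits AlgebraicGeometry TopologicalSpace Opposite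

namespace Groth.Agent.Lib.Helper28.WeilSheaf

open Groth.Agent.Lib.Helper28.WeilOrd Groth.Agent.Lib.Helper20.CDivOrd Groth.Agent.Lib.Helper20.CDivOrd2
  Groth.Agent.Lib.Helper28.HomSh Groth.Agent.Lib.Helper6

variable {X : Scheme.{u}} [IsIntegral X] [IsLocallyNoetherian X]

/-- the condition `div g + D ≥ 0` over `U`. -/
def Adm (D : X → ℤ) (U : X.Opens) (g : X.functionField) : Prop :=
  g ≠ 0 → ∀ y : X, y ∈ U → Order.coheight y = 1 → 0 ≤ Scheme.ord g y + D y

theorem Adm.mono {D : X → ℤ} {U V : X.Opens} {g : X.functionField} (h : Adm D U g) (hVU : V ≤ U) :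
    Adm D V g := fun hg y hy hy1 => h hg y (hVU hy) hy1

theorem adm_zero (D : X → ℤ) (U : X.Opens) : Adm D U 0 := fun h => absurd rfl h

theorem generic_mem_of_mem {U : X.Opens} {y : X} (hy : y ∈ U) : genericPoint X ∈ U :=
  ((genericPoint_spec X).specializes (Set.mem_univ y)).mem_open U.2 hy

/-- the local predicate defining `O_X(D)`: constant families of rational functions `g` with `div g + D ≥ 0`. -/
def weilPred (D : X → ℤ) : TopCat.LocalPredicate (fun _ : X => (X.functionField : Type u)) where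
  pred {U} f := ∃ g : X.functionField, (∀ y : U, f y = g) ∧ Adm D U g
  res {V U} i f h := by
    obtain ⟨g, hg, hadm⟩ := h
    exact ⟨g, fun y => hg (i y), hadm.mono i.le⟩
  locality {U} f h := by
    by_cases hη : genericPoint X ∈ U
    · have key : ∀ y : U, ∃ (V : X.Opens) (_ : y.1 ∈ V) (_ : V ≤ U), f y = f ⟨_, hη⟩ ∧
          Adm D V (f ⟨_, hη⟩) := by
        intro y
        obtain ⟨V, hyV, i, g, hg, hadm⟩ := h y
        have hηV : genericPoint X ∈ V := generic_mem_of_mem hyV
        have h1 : f y = g := hg ⟨y.1, hyV⟩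
        have h2 : f ⟨_, hη⟩ = g := hg ⟨_, hηV⟩
        exact ⟨V, hyV, i.le, h1.trans h2.symm, by rw [h2]; exact hadm⟩
      refine ⟨f ⟨_, hη⟩, fun y => ?_, fun hg0 y hy hy1 => ?_⟩
      · obtain ⟨V, -, -, h1, -⟩ := key y
        exact h1
      · obtain ⟨V, hyV, -, -, hadm⟩ := key ⟨y, hy⟩
        exact hadm hg0 y hyV hy1
    · exact ⟨0, fun y => absurd (generic_mem_of_mem y.2) hη, adm_zero D U⟩

theorem algebraMap_germ {U : X.Opens} (r : Γ(X, U)) (y : X) (hy : y ∈ U) :
    algebraMap (X.presheaf.stalk y) X.functionField (X.presheaf.germ U y hy r) =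
      X.presheaf.germ U (genericPoint X) (generic_mem_of_mem hy) r :=
  ConcreteCategory.congr_hom (TopCat.Presheaf.germ_stalkSpecializes X.presheaf hy
    ((genericPoint_spec X).specializes (Set.mem_univ y))) r

theorem isModPred (hX : Pi1.IsNormalScheme X) (D : X → ℤ) : Mero.IsModPred (weilPred D) where
  zero U := ⟨0, fun _ => rfl, adm_zero D U⟩
  add U f f' hf hf' := by
    obtain ⟨g, hg, hadm⟩ := hf
    obtain ⟨g', hg', hadm'⟩ := hf'
    refine ⟨g + g', fun y => by rw [Pi.add_apply, hg, hg'], fun h0 y hy hy1 => ?_⟩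
    by_cases h1 : g = 0
    · rw [h1, zero_add] at h0 ⊢
      exact hadm' h0 y hy hy1
    by_cases h2 : g' = 0
    · rw [h2, add_zero] at h0 ⊢
      exact hadm h1 y hy hy1
    haveI := isDiscreteValuationRing_stalk hX y hy1
    have h3 := Scheme.ord_add (X := X) (x := y) h0
    have h4 := hadm h1 y hy hy1
    have h5 := hadm' h2 y hy hy1
    rcases min_le_iff.1 h3 with h | h <;> omega
  smul U r f hf := by
    obtain ⟨g, hg, hadm⟩ := hf
    by_cases hη : genericPoint X ∈ U
    · refine ⟨X.presheaf.germ U (genericPoint X) hη r * g, fun y => ?_, fun h0 y hy hy1 => ?_⟩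
      · change X.presheaf.germ U y.1 y.2 r • f y = _
        rw [Algebra.smul_def, algebraMap_germ, hg]
      · have hr0 : X.presheaf.germ U (genericPoint X) hη r ≠ 0 := left_ne_zero_of_mul h0
        have hg0 : g ≠ 0 := right_ne_zero_of_mul h0
        rw [Scheme.ord_mul hr0 hg0]
        have h1 := ord_germ_nonneg r hη y hy hy1 hr0
        have h2 := hadm hg0 y hy hy1
        omega
    · exact ⟨0, fun y => absurd (generic_mem_of_mem y.2) hη, adm_zero D U⟩

/-- the sheaf `O_X(D)`. -/
noncomputable def weilSheaf (hX : Pi1.IsNormalScheme X) (D : X → ℤ) : X.Modules :=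
  letI := isModPred hX D
  Mero.modOf (weilPred D)

variable (hX : Pi1.IsNormalScheme X) (D : X → ℤ)

/-- the rational function underlying a section. -/
noncomputable def val {U : X.Opens} (s : Γ(weilSheaf hX D, U)) (hη : genericPoint X ∈ U) : X.functionField :=
  s.1 ⟨_, hη⟩

theorem apply_eq_val {U : X.Opens} (s : Γ(weilSheaf hX D, U)) (hη : genericPoint X ∈ U) (y : U) :
    s.1 y = val hX D s hη := by
  obtain ⟨g, hg, -⟩ := s.2
  rw [val, hg y, hg ⟨_, hη⟩]

theorem adm_val {U : X.Opens} (s : Γ(weilSheaf hX D, U)) (hη : genericPoint X ∈ U) :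
    Adm D U (val hX D s hη) := by
  obtain ⟨g, hg, hadm⟩ := s.2
  rw [val, hg ⟨_, hη⟩]
  exact hadm

theorem sec_ext {U : X.Opens} (s s' : Γ(weilSheaf hX D, U))
    (h : ∀ hη : genericPoint X ∈ U, val hX D s hη = val hX D s' hη) : s = s' := by
  refine Subtype.ext (funext fun y => ?_)
  have hη := generic_mem_of_mem y.2
  rw [apply_eq_val hX D s hη, apply_eq_val hX D s' hη, h hη]

/-- the section defined by an admissible rational function. -/
noncomputable def mkSec (U : X.Opens) (g : X.functionField) (hg : Adm D U g) : Γ(weilSheaf hX D, U) :=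
  ⟨fun _ => g, g, fun _ => rfl, hg⟩

@[simp] theorem val_mkSec (U : X.Opens) (g : X.functionField) (hg : Adm D U g) (hη : genericPoint X ∈ U) :
    val hX D (mkSec hX D U g hg) hη = g := rfl

theorem val_zero {U : X.Opens} (hη : genericPoint X ∈ U) : val hX D (0 : Γ(weilSheaf hX D, U)) hη = 0 := rfl

theorem val_add {U : X.Opens} (s s' : Γ(weilSheaf hX D, U)) (hη : genericPoint X ∈ U) :
    val hX D (s + s') hη = val hX D s hη + val hX D s' hη := rfl

theorem smul_apply {U : X.Opens} (r : Γ(X, U)) (s : Γ(weilSheaf hX D, U)) (y : U) :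
    (r • s).1 y = X.presheaf.germ U (genericPoint X) (generic_mem_of_mem y.2) r * s.1 y := by
  change X.presheaf.germ U y.1 y.2 r • s.1 y = _
  rw [Algebra.smul_def, algebraMap_germ]

theorem val_smul {U : X.Opens} (r : Γ(X, U)) (s : Γ(weilSheaf hX D, U)) (hη : genericPoint X ∈ U) :
    val hX D (r • s) hη = X.presheaf.germ U (genericPoint X) hη r * val hX D s hη :=
  smul_apply hX D r s ⟨_, hη⟩

theorem val_res {U V : X.Opens} (h : V ≤ U) (s : Γ(weilSheaf hX D, U)) (hη : genericPoint X ∈ V) :
    val hX D (res (weilSheaf hX D) h s) hη = val hX D s (h hη) := rfl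

theorem val_map {U V : X.Opens} (i : V ⟶ U) (s : Γ(weilSheaf hX D, U)) (hη : genericPoint X ∈ V) :
    val hX D ((weilSheaf hX D).presheaf.map i.op s) hη = val hX D s (i.le hη) := rfl

theorem val_eq_zero_iff {U : X.Opens} (s : Γ(weilSheaf hX D, U)) (hη : genericPoint X ∈ U) :
    val hX D s hη = 0 ↔ s = 0 := by
  constructor
  · intro h
    exact sec_ext hX D s 0 fun hη' => by rw [h, val_zero]
  · rintro rfl
    exact val_zero hX D hη


section Hartogs

open Groth.Agent.Lib.Helper23.UnitStalk Groth.Agent.Lib.Helper23.GenLocus Groth.Agent.Lib.Helper28.GenHom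
  Groth.Agent.Lib.Helper28.ReflNormal

include hX in
/-- **Hartogs**: a rational function with nonnegative orders at the codimension-one points of an open `W` of a normal
scheme is a section of the structure sheaf over `W`. -/
theorem exists_section_of_ord_nonneg (W : X.Opens) (hη : genericPoint X ∈ W) (g : X.functionField)
    (hg : g ≠ 0 → ∀ y : X, y ∈ W → Order.coheight y = 1 → 0 ≤ Scheme.ord g y) :
    ∃ r : Γ(X, W), X.presheaf.germ W (genericPoint X) hη r = g := by
  obtain ⟨n, hn⟩ := exists_section_of_generic hX (Coh.structureModule X) (isCoh_structureModule' X)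
    isReflexive_structureModule W (toUnitStalk (genericPoint X) g) (by
      intro y hy hy1
      by_cases hg0 : g = 0
      · exact ⟨0, by rw [hg0, map_zero, map_zero]⟩
      haveI := isDiscreteValuationRing_stalk hX y hy1
      obtain ⟨c, hc⟩ := mem_range_of_ord_nonneg y hy1 g hg0 (hg hg0 y hy hy1)
      refine ⟨toUnitStalk y c, ?_⟩
      obtain ⟨W', hyW', a, rfl⟩ := X.presheaf.exists_germ_eq c
      rw [toUnitStalk_germ, ← hc, algebraMap_germ, toUnitStalk_germ]
      exact ConcreteCategory.congr_hom (TopCat.Presheaf.germ_stalkSpecializes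
        (Coh.structureModule X).presheaf hyW' _) (toS W' a))
  refine ⟨ofS W n, ?_⟩
  apply toUnitStalk_injective (genericPoint X)
  rw [toUnitStalk_germ, toS_ofS]
  exact hn hη

end Hartogs


section Gen

open Groth.Agent.Lib.Helper23.SecTw

theorem eq_bot_of_generic_not_mem (W : X.Opens) (hη : genericPoint X ∉ W) : W = ⊥ := by
  ext y
  simp only [SetLike.mem_coe, Opens.coe_bot, Set.mem_empty_iff_false, iff_false]
  exact fun hy => hη (generic_mem_of_mem hy)

theorem adm_of_ord_eq (W : X.Opens) (g : X.functionField)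
    (hg : ∀ y : X, y ∈ W → Order.coheight y = 1 → Scheme.ord g y = - D y) : Adm D W g := by
  intro _ y hy hy1
  rw [hg y hy hy1]
  omega

/-- a rational function whose divisor is `-D` over `W` is a generator of `O_X(D)` over `W`. -/
theorem isGen_mkSec (W : X.Opens) (g : X.functionField) (hg0 : g ≠ 0)
    (hg : ∀ y : X, y ∈ W → Order.coheight y = 1 → Scheme.ord g y = - D y) :
    IsGen (weilSheaf hX D) W (mkSec hX D W g (adm_of_ord_eq D W g hg)) := by
  intro W' hW'
  by_cases hη : genericPoint X ∈ W'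
  · constructor
    · intro r r' h
      have h1 : val hX D (r • res (weilSheaf hX D) hW' (mkSec hX D W g (adm_of_ord_eq D W g hg))) hη =
          val hX D (r' • res (weilSheaf hX D) hW' (mkSec hX D W g (adm_of_ord_eq D W g hg))) hη :=
        congrArg (fun s => val hX D s hη) h
      rw [val_smul, val_smul, val_res, val_mkSec] at h1
      exact germ_injective_of_isIntegral X _ hη (mul_right_cancel₀ hg0 h1)
    · intro s
      obtain ⟨r, hr⟩ := exists_section_of_ord_nonneg hX W' hη (val hX D s hη / g) (by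
        intro hq0 y hy hy1
        have hs0 : val hX D s hη ≠ 0 := fun h => hq0 (by rw [h, zero_div])
        rw [ord_div y _ _ hs0 hg0, hg y (hW' hy) hy1]
        have := adm_val hX D s hη hs0 y hy hy1
        omega)
      refine ⟨r, sec_ext hX D _ _ fun hη' => ?_⟩
      rw [val_smul, val_res, val_mkSec, hr, div_mul_cancel₀ _ hg0]
  · have hbot := eq_bot_of_generic_not_mem W' hη
    subst hbot
    constructor
    · intro r r' _
      exact Subsingleton.elim r r'
    · intro s
      exact ⟨0, sec_ext hX D _ _ fun hη' => absurd hη' hη⟩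

end Gen


section Local

open Groth.Agent.Lib.Helper23.SecTw Groth.Agent.Lib.Helper28.RefGroup

omit [IsLocallyNoetherian X] in
/-- a codimension-one point does not specialize to a different point of dimension at most one. -/
theorem eq_of_specializes_of_coheight {x y : X} (h : y ⤳ x) (hy : Order.coheight y = 1)
    (hx : ¬ (2 : WithBot ℕ∞) ≤ ringKrullDim (X.presheaf.stalk x)) : y = x := by
  by_contra hne
  have hle : x ≤ y := Scheme.le_iff_specializes.mpr h
  have hlt : x < y := by
    refine lt_of_le_not_ge hle fun hge => hne ?_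
    have h' : x ⤳ y := Scheme.le_iff_specializes.mp hge
    exact (h.antisymm h').eq
  have h1 : ringKrullDim (X.presheaf.stalk x) ≤ 1 :=
    Groth.Agent.Lib.Helper28.BigOpen.le_one_of_not_two_le _ hx
  rw [ringKrullDim_stalk_eq_coheight] at h1
  have h2 : Order.coheight x ≤ 1 := by exact_mod_cast h1
  have h3 : Order.coheight y < Order.coheight x :=
    Order.coheight_strictAnti hlt (by rw [hy]; exact ENat.one_lt_top)
  rw [hy] at h3
  exact absurd (lt_of_lt_of_le h3 h2) (lt_irrefl _)

variable {D} (hD : LocallyFiniteSupport D)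

include hX hD in
/-- near a point of dimension at most one, `-D` is the divisor of a rational function. -/
theorem exists_local_div (x : X) (hx : ¬ (2 : WithBot ℕ∞) ≤ ringKrullDim (X.presheaf.stalk x)) :
    ∃ (W : X.Opens) (g : X.functionField), x ∈ W ∧ g ≠ 0 ∧
      ∀ y : X, y ∈ W → Order.coheight y = 1 → Scheme.ord g y = - D y := by
  obtain ⟨U₀, hU₀', hxU₀, -⟩ := (Opens.isBasis_iff_nbhd.1 X.isBasis_affineOpens) (Opens.mem_top x)
  have hU₀ : IsAffineOpen U₀ := hU₀'
  have hg₀ : ∃ g₀ : X.functionField, g₀ ≠ 0 ∧ (Order.coheight x = 1 → Scheme.ord g₀ x = - D x) := by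
    by_cases h1 : Order.coheight x = 1
    · obtain ⟨π, hπ0, hπ⟩ := exists_ord_eq_one hX x h1
      refine ⟨π ^ (- D x), zpow_ne_zero _ hπ0, fun _ => ?_⟩
      rw [ord_zpow π hπ0, hπ, mul_one]
    · exact ⟨1, one_ne_zero, fun h => absurd h h1⟩
  obtain ⟨g₀, hg₀0, hg₀x⟩ := hg₀
  have hfin1 := finite_ord_ne_zero hU₀ g₀ hg₀0
  have hfin2 : ((U₀ : Set X) ∩ Function.support D).Finite :=
    hD.finite_inter_support_of_isCompact hU₀.isCompact
  let B : Set X := {y | y ≠ x ∧ y ∈ U₀ ∧ Order.coheight y = 1 ∧ (Scheme.ord g₀ y ≠ 0 ∨ D y ≠ 0)}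
  have hB : B.Finite := by
    refine (hfin1.union hfin2).subset ?_
    rintro y ⟨-, hyU, hy1, h | h⟩
    · exact Or.inl ⟨hyU, hy1, h⟩
    · exact Or.inr ⟨hyU, h⟩
  have hC : IsClosed (⋃ y ∈ B, closure ({y} : Set X)) :=
    hB.isClosed_biUnion fun y _ => isClosed_closure
  let W : X.Opens := U₀ ⊓ ⟨(⋃ y ∈ B, closure ({y} : Set X))ᶜ, hC.isOpen_compl⟩
  refine ⟨W, g₀, ⟨hxU₀, ?_⟩, hg₀0, ?_⟩
  · intro hxC
    simp only [Set.mem_iUnion] at hxC
    obtain ⟨y, hyB, hxy⟩ := hxC
    have hspec : y ⤳ x := specializes_iff_mem_closure.2 hxy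
    exact hyB.1 (eq_of_specializes_of_coheight hspec hyB.2.2.1 hx)
  · rintro y ⟨hyU, hyC⟩ hy1
    by_cases hyx : y = x
    · subst hyx
      exact hg₀x hy1
    · have hyB : y ∉ B := by
        intro hyB
        apply hyC
        simp only [Set.mem_iUnion]
        exact ⟨y, hyB, subset_closure rfl⟩
      have h1 : ¬ (Scheme.ord g₀ y ≠ 0 ∨ D y ≠ 0) := fun h => hyB ⟨hyx, hyU, hy1, h⟩
      push Not at h1
      rw [h1.1, h1.2, neg_zero]

include hD in
theorem mem_trivLocus_weilSheaf (x : X)
    (hx : ¬ (2 : WithBot ℕ∞) ≤ ringKrullDim (X.presheaf.stalk x)) : x ∈ trivLocus (weilSheaf hX D) := by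
  obtain ⟨W, g, hxW, hg0, hg⟩ := exists_local_div hX hD x hx
  exact ⟨W, hxW, nonempty_restrict_iso_of_isGen _ W _ (isGen_mkSec hX D W g hg0 hg)⟩

include hD in
theorem bigOpen_trivLocus_weilSheaf : BigOpen (trivLocus (weilSheaf hX D)) := by
  intro x hx
  by_contra hdim
  exact hx (mem_trivLocus_weilSheaf hX hD x hdim)

end Local

end Groth.Agent.Lib.Helper28.WeilSheaf
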