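import Mathlib
import Groth.Agent.Lib.Helper28WeilSheaf
import Groth.Agent.Lib.Helper28HomShQCoh

/-!
# Coherence of `O_X(D)` (helper28)

Namespace `Groth.Agent.Lib.Helper28.WeilSheaf`.
-/

set_option autoImplicit false
set_option linter.unusedSectionVars false
set_option linter.style.haveILetI false
universe u
open CategoryTheory Limits AlgebraicGeometry TopologicalSpace Opposite

namespace Groth.Agent.Lib.Helper28.WeilSheaf

open Groth.Agent.Lib.Helper28.WeilOrd Groth.Agent.Lib.Helper20.CDivOrd Groth.Agent.Lib.Helper20.CDivOrd2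
  Groth.Agent.Lib.Helper28.HomSh Groth.Agent.Lib.Helper6 Groth.Agent.Lib.Helper2.Push

variable {X : Scheme.{u}} [IsIntegral X] [IsLocallyNoetherian X]
variable (hX : Pi1.IsNormalScheme X) {D : X → ℤ} (hD : LocallyFiniteSupport D)

theorem germ_generic_ne_zero_of_mem_basicOpen {V : X.Opens} (f : Γ(X, V))
    (hη : genericPoint X ∈ X.basicOpen f) :
    X.presheaf.germ V (genericPoint X) (X.basicOpen_le f hη) f ≠ 0 := by
  have h1 := (X.mem_basicOpen f _ (X.basicOpen_le f hη)).1 hη
  exact h1.ne_zero

include hX in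
/-- a regular function not invertible at a codimension-one point has positive order there. -/
theorem one_le_ord_of_not_mem_basicOpen {V : X.Opens} (f : Γ(X, V)) (hηV : genericPoint X ∈ V)
    (hf0 : X.presheaf.germ V (genericPoint X) hηV f ≠ 0) (y : X) (hy : y ∈ V)
    (hy1 : Order.coheight y = 1) (hyf : y ∉ X.basicOpen f) :
    1 ≤ Scheme.ord (X.presheaf.germ V (genericPoint X) hηV f : X.functionField) y := by
  haveI := isDiscreteValuationRing_stalk hX y hy1
  have h1 : ¬ IsUnit (X.presheaf.germ V y hy f) := fun h => hyf ((X.mem_basicOpen f y hy).2 h)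
  have h2 : X.presheaf.germ V y hy f ∈ IsLocalRing.maximalIdeal (X.presheaf.stalk y) :=
    (IsLocalRing.mem_maximalIdeal _).2 h1
  have h3 := algebraMap_germ f y hy
  have h4 := ord_pos_of_mem_maximalIdeal y hy1 (X.presheaf.germ V y hy f) (by rw [h3]; exact hf0) h2
  rwa [h3] at h4

include hD in
theorem isLocOn_weilSheaf {V : X.Opens} (hV : IsAffineOpen V) : IsLocOn (weilSheaf hX D) V where
  exists_extension f s := by
    by_cases hη : genericPoint X ∈ X.basicOpen f
    swap
    · exact ⟨0, 0, sec_ext hX D _ _ fun hη' => absurd hη' hη⟩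
    have hηV : genericPoint X ∈ V := X.basicOpen_le f hη
    by_cases hg0 : val hX D s hη = 0
    · refine ⟨0, 0, ?_⟩
      rw [map_zero, pow_zero, one_smul]
      exact ((val_eq_zero_iff hX D s hη).1 hg0).symm
    have hf0 := germ_generic_ne_zero_of_mem_basicOpen f hη
    have hfin1 := finite_ord_ne_zero hV (val hX D s hη) hg0
    have hfin2 : ((V : Set X) ∩ Function.support D).Finite :=
      hD.finite_inter_support_of_isCompact hV.isCompact
    let B : Set X := {y | y ∈ V ∧ Order.coheight y = 1 ∧
      (Scheme.ord (val hX D s hη) y ≠ 0 ∨ D y ≠ 0)}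
    have hB : B.Finite := by
      refine (hfin1.union hfin2).subset ?_
      rintro y ⟨hyV, hy1, h | h⟩
      · exact Or.inl ⟨hyV, hy1, h⟩
      · exact Or.inr ⟨hyV, h⟩
    obtain ⟨N, hN⟩ := (hB.image (fun y => - (Scheme.ord (val hX D s hη) y + D y))).bddAbove
    have hN' : ∀ y ∈ B, - (Scheme.ord (val hX D s hη) y + D y) ≤ N := fun y hy =>
      hN ⟨y, hy, rfl⟩
    have hadm : Adm D V (X.presheaf.germ V (genericPoint X) hηV f ^ N.toNat * val hX D s hη) := by
      intro _ y hy hy1
      rw [Scheme.ord_mul (pow_ne_zero _ hf0) hg0, ord_pow _ hf0]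
      have h1 := ord_germ_nonneg f hηV y hy hy1 hf0
      by_cases hyf : y ∈ X.basicOpen f
      · have h2 := adm_val hX D s hη hg0 y hyf hy1
        have h3 : (0 : ℤ) ≤ (N.toNat : ℤ) *
            Scheme.ord (X.presheaf.germ V (genericPoint X) hηV f : X.functionField) y :=
          mul_nonneg (Int.natCast_nonneg _) h1
        omega
      · have h2 := one_le_ord_of_not_mem_basicOpen hX f hηV hf0 y hy hy1 hyf
        by_cases hyB : y ∈ B
        · have h3 := hN' y hyB
          have h4 : N ≤ (N.toNat : ℤ) := Int.self_le_toNat N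
          have h5 : (N.toNat : ℤ) ≤ (N.toNat : ℤ) *
              Scheme.ord (X.presheaf.germ V (genericPoint X) hηV f : X.functionField) y :=
            le_mul_of_one_le_right (Int.natCast_nonneg _) h2
          omega
        · have h3 : ¬ (Scheme.ord (val hX D s hη) y ≠ 0 ∨ D y ≠ 0) := fun h => hyB ⟨hy, hy1, h⟩
          push Not at h3
          have h5 : (0 : ℤ) ≤ (N.toNat : ℤ) *
              Scheme.ord (X.presheaf.germ V (genericPoint X) hηV f : X.functionField) y :=
            mul_nonneg (Int.natCast_nonneg _) h1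
          omega
    refine ⟨N.toNat, mkSec hX D V _ hadm, sec_ext hX D _ _ fun hη' => ?_⟩
    rw [val_map, val_mkSec, val_smul, map_pow]
    congr 2
    exact (TopCat.Presheaf.germ_res_apply X.presheaf (homOfLE (X.basicOpen_le f)) _ hη' f).symm
  exists_pow_smul_eq_zero f t h := by
    by_cases hηV : genericPoint X ∈ V
    swap
    · exact ⟨0, sec_ext hX D _ _ fun hη' => absurd hη' hηV⟩
    by_cases hη : genericPoint X ∈ X.basicOpen f
    · refine ⟨0, ?_⟩
      rw [pow_zero, one_smul]
      have h1 : val hX D ((weilSheaf hX D).presheaf.map (homOfLE (X.basicOpen_le f)).op t) hη = 0 := by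
        rw [h]; rfl
      rw [val_map] at h1
      exact (val_eq_zero_iff hX D t _).1 h1
    · refine ⟨1, sec_ext hX D _ _ fun hη' => ?_⟩
      rw [pow_one, val_smul, val_zero]
      have h1 : ¬ IsUnit (X.presheaf.germ V (genericPoint X) hηV f) := fun hu =>
        hη ((X.mem_basicOpen f _ hηV).2 hu)
      have h2 : (X.presheaf.germ V (genericPoint X) hηV f : X.functionField) = 0 := by
        by_contra h0
        exact h1 (IsUnit.mk0 _ h0)
      rw [h2, zero_mul]


section FinType

include hX in
/-- a regular function on an affine open with positive order at a given codimension-one point. -/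
theorem exists_section_ord_pos {V : X.Opens} (hV : IsAffineOpen V) (hηV : genericPoint X ∈ V) (y : X)
    (hy : y ∈ V) (hy1 : Order.coheight y = 1) :
    ∃ b : Γ(X, V), X.presheaf.germ V (genericPoint X) hηV b ≠ 0 ∧
      1 ≤ Scheme.ord (X.presheaf.germ V (genericPoint X) hηV b : X.functionField) y := by
  haveI : Nonempty V := ⟨⟨y, hy⟩⟩
  haveI := functionField_isFractionRing_of_isAffineOpen X V hV
  obtain ⟨π, hπ0, hπ⟩ := exists_ord_eq_one hX y hy1
  obtain ⟨b, c, hc, hbc⟩ := IsFractionRing.div_surjective (A := Γ(X, V)) π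
  have hcne : algebraMap Γ(X, V) X.functionField c ≠ 0 :=
    IsFractionRing.to_map_ne_zero_of_mem_nonZeroDivisors hc
  have hb : algebraMap Γ(X, V) X.functionField b = π * algebraMap Γ(X, V) X.functionField c := by
    rw [← hbc, div_mul_cancel₀ _ hcne]
  have hb' : (X.presheaf.germ V (genericPoint X) hηV b : X.functionField) =
      π * X.presheaf.germ V (genericPoint X) hηV c := hb
  have hc' : (X.presheaf.germ V (genericPoint X) hηV c : X.functionField) ≠ 0 := hcne
  refine ⟨b, ?_, ?_⟩
  · rw [hb']; exact mul_ne_zero hπ0 hc'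
  · rw [hb', Scheme.ord_mul hπ0 hc', hπ]
    have := ord_germ_nonneg c hηV y hy hy1 hc'
    omega

include hX in
theorem exists_denominator {V : X.Opens} (hV : IsAffineOpen V) (hηV : genericPoint X ∈ V) (S : Set X)
    (hS : S.Finite) (hSV : ∀ y ∈ S, y ∈ V ∧ Order.coheight y = 1) :
    ∃ a : Γ(X, V), X.presheaf.germ V (genericPoint X) hηV a ≠ 0 ∧
      ∀ y ∈ S, D y ≤ Scheme.ord (X.presheaf.germ V (genericPoint X) hηV a : X.functionField) y := by
  induction S, hS using Set.Finite.induction_on with
  | empty => exact ⟨1, by rw [map_one]; exact one_ne_zero, fun y hy => absurd hy (Set.notMem_empty y)⟩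
  | @insert y₀ S' hy₀ hS' ih =>
    obtain ⟨a, ha0, ha⟩ := ih fun y hy => hSV y (Set.mem_insert_of_mem _ hy)
    obtain ⟨hy₀V, hy₀1⟩ := hSV y₀ (Set.mem_insert _ _)
    obtain ⟨b, hb0, hb⟩ := exists_section_ord_pos hX hV hηV y₀ hy₀V hy₀1
    refine ⟨a * b ^ (D y₀).toNat, ?_, ?_⟩
    · rw [map_mul, map_pow]
      exact mul_ne_zero ha0 (pow_ne_zero _ hb0)
    · intro y hy
      rw [map_mul, map_pow, Scheme.ord_mul ha0 (pow_ne_zero _ hb0), ord_pow _ hb0]
      have hyV := hSV y hy
      have h1 := ord_germ_nonneg a hηV y hyV.1 hyV.2 ha0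
      have h2 := ord_germ_nonneg b hηV y hyV.1 hyV.2 hb0
      have h3 : (0 : ℤ) ≤ ((D y₀).toNat : ℤ) *
          Scheme.ord (X.presheaf.germ V (genericPoint X) hηV b : X.functionField) y :=
        mul_nonneg (Int.natCast_nonneg _) h2
      rcases Set.mem_insert_iff.1 hy with rfl | hyS
      · have h4 : ((D y).toNat : ℤ) ≤ ((D y).toNat : ℤ) *
            Scheme.ord (X.presheaf.germ V (genericPoint X) hηV b : X.functionField) y :=
          le_mul_of_one_le_right (Int.natCast_nonneg _) hb
        have h5 : D y ≤ ((D y).toNat : ℤ) := Int.self_le_toNat _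
        omega
      · have h4 := ha y hyS
        omega

include hD in
/-- sections of `O_X(D)` over an affine open form a finite module. -/
theorem finite_sections_weilSheaf {V : X.Opens} (hV : IsAffineOpen V) :
    Module.Finite Γ(X, V) Γ(weilSheaf hX D, V) := by
  by_cases hηV : genericPoint X ∈ V
  swap
  · haveI : Subsingleton Γ(weilSheaf hX D, V) :=
      ⟨fun s s' => sec_ext hX D s s' fun hη' => absurd hη' hηV⟩
    exact Module.Finite.of_finite
  haveI : IsNoetherianRing Γ(X, V) := IsLocallyNoetherian.component_noetherian ⟨V, hV⟩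
  have hfin : {y : X | y ∈ V ∧ Order.coheight y = 1 ∧ D y ≠ 0}.Finite := by
    refine (hD.finite_inter_support_of_isCompact hV.isCompact).subset ?_
    rintro y ⟨hyV, -, hy⟩
    exact ⟨hyV, hy⟩
  obtain ⟨a, ha0, ha⟩ := exists_denominator hX (D := D) hV hηV _ hfin fun y hy => ⟨hy.1, hy.2.1⟩
  have ha' : ∀ y : X, y ∈ V → Order.coheight y = 1 →
      D y ≤ Scheme.ord (X.presheaf.germ V (genericPoint X) hηV a : X.functionField) y := by
    intro y hyV hy1
    by_cases hDy : D y = 0
    · rw [hDy]
      exact ord_germ_nonneg a hηV y hyV hy1 ha0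
    · exact ha y ⟨hyV, hy1, hDy⟩
  have hex : ∀ s : Γ(weilSheaf hX D, V), ∃ r : Γ(X, V),
      X.presheaf.germ V (genericPoint X) hηV r =
        X.presheaf.germ V (genericPoint X) hηV a * val hX D s hηV := by
    intro s
    refine exists_section_of_ord_nonneg hX V hηV _ fun h0 y hy hy1 => ?_
    have hs0 : val hX D s hηV ≠ 0 := right_ne_zero_of_mul h0
    rw [Scheme.ord_mul ha0 hs0]
    have h1 := ha' y hy hy1
    have h2 := adm_val hX D s hηV hs0 y hy hy1
    omega
  choose φ hφ using hex
  have hinj := germ_injective_of_isIntegral X (genericPoint X) hηV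
  let Φ : Γ(weilSheaf hX D, V) →ₗ[Γ(X, V)] Γ(X, V) :=
    { toFun := φ
      map_add' := fun s s' => hinj (by
        change X.presheaf.germ V (genericPoint X) hηV (φ (s + s')) =
          X.presheaf.germ V (genericPoint X) hηV (φ s + φ s')
        rw [map_add, hφ, hφ, hφ, val_add, mul_add])
      map_smul' := fun r s => hinj (by
        change X.presheaf.germ V (genericPoint X) hηV (φ (r • s)) =
          X.presheaf.germ V (genericPoint X) hηV (r * φ s)
        rw [map_mul, hφ, hφ, val_smul]
        ring) }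
  refine Module.Finite.of_injective Φ ?_
  rw [injective_iff_map_eq_zero]
  intro s hs
  have h1 : X.presheaf.germ V (genericPoint X) hηV (φ s) = 0 := by
    have : φ s = 0 := hs
    rw [this, map_zero]
  rw [hφ] at h1
  rcases mul_eq_zero.1 h1 with h | h
  · exact absurd h ha0
  · exact (val_eq_zero_iff hX D s hηV).1 h

include hD in
theorem isQuasicoherent_weilSheaf : (weilSheaf hX D).IsQuasicoherent :=
  Groth.Agent.Lib.Helper23.QCohLocal.isQuasicoherent_of_isLocOn _ fun _ hV => isLocOn_weilSheaf hX hD hV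

open Groth.Agent.Lib.Helper23.FinType Groth.Agent.Lib.Helper20.PullbackAff
  Groth.Agent.Lib.Helper20.Thickening in
include hD in
theorem isCoh_weilSheaf : Coh.IsCoh (weilSheaf hX D) := by
  haveI hq : (weilSheaf hX D).IsQuasicoherent := isQuasicoherent_weilSheaf hX hD
  refine ⟨hq, ?_⟩
  refine isFiniteType_of_finite_ΓU (weilSheaf hX D) (fun V : X.affineOpens => (V : X.Opens))
    (iSup_affineOpens_eq_top X) (fun V => V.2) fun V => ?_
  haveI := finite_sections_weilSheaf hX hD V.2
  exact Module.Finite.equiv (ΓUEquiv V.2 (weilSheaf hX D))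

end FinType

end Groth.Agent.Lib.Helper28.WeilSheaf
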