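import Mathlib
import Groth.Agent.Lib.Helper28WeilCoh
import Groth.Agent.Lib.Helper28RefOrd
import Groth.Agent.Lib.Helper28GenOrd

/-!
# `O_X(D)` is a rank one reflexive module with divisor `D` (helper28)

Namespace `Groth.Agent.Lib.Helper28.WeilSheaf`.
-/

set_option autoImplicit false
set_option linter.unusedSectionVars false
set_option linter.style.haveILetI false
universe u
open CategoryTheory Limits AlgebraicGeometry TopologicalSpace Opposite

namespace Groth.Agent.Lib.Helper28.WeilSheaf

open Groth.Agent.Lib.Helper28.WeilOrd Groth.Agent.Lib.Helper20.CDivOrd Groth.Agent.Lib.Helper20.CDivOrd2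
  Groth.Agent.Lib.Helper28.HomSh Groth.Agent.Lib.Helper6 Groth.Agent.Lib.Helper28.RefGroup
  Groth.Agent.Lib.Helper28.RefOrd Groth.Agent.Lib.Helper28.BigOpen Groth.Agent.Lib.Helper23.SecTw
  Groth.Agent.Lib.Helper23.InvDual

variable {X : Scheme.{u}} [IsIntegral X] [IsLocallyNoetherian X]
variable (hX : Pi1.IsNormalScheme X) {D : X → ℤ} (hD : LocallyFiniteSupport D)

include hD in
theorem isReflexive_weilSheaf : RefHull.IsReflexive (weilSheaf hX D) := by
  have hF := isCoh_weilSheaf hX hD
  have hbig := bigOpen_trivLocus_weilSheaf hX hD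
  refine isReflexive_of_bigOpen _ hF (trivLocus (weilSheaf hX D)) (fun x hx => ?_) (fun x hx => ?_) ?_
  · haveI : IsIntegrallyClosed (X.presheaf.stalk x) := (hX x).2
    exact Groth.Agent.Lib.Helper28.two_le_depth_of_isIntegrallyClosed_of_two_le_dim (hbig x hx)
  · obtain ⟨W, t, hxW, hgen⟩ := exists_local_generator_of_mem_trivLocus _ x hx
    exact isReflexive_of_bijective_smul _ (hgen x hxW)
  · refine Scheme.Modules.Hom.isIso_iff_isIso_app.mpr fun V => ?_
    rw [ConcreteCategory.isIso_iff_bijective]
    change Function.Bijective ((weilSheaf hX D).presheaf.map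
      (homOfLE ((trivLocus (weilSheaf hX D)).ι.image_preimage_le V)).op)
    have hmem : ∀ y : X, y ∈ V → y ∈ trivLocus (weilSheaf hX D) →
        y ∈ (trivLocus (weilSheaf hX D)).ι ''ᵁ (trivLocus (weilSheaf hX D)).ι ⁻¹ᵁ V := by
      intro y hyV hyU
      rw [ZClos.ι_image_preimage]
      exact ⟨hyU, hyV⟩
    constructor
    · intro s s' h
      refine sec_ext hX D s s' fun hη => ?_
      have hη' := hmem _ hη hbig.nonempty
      have h1 := congrArg (fun t => val hX D t hη') h
      exact h1
    · intro t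
      by_cases hη : genericPoint X ∈ V
      · have hη' := hmem _ hη hbig.nonempty
        have hadm : Adm D V (val hX D t hη') := by
          intro h0 y hy hy1
          have hyU : y ∈ trivLocus (weilSheaf hX D) := by
            by_contra hcon
            have h2 := hbig y hcon
            rw [ringKrullDim_stalk_eq_coheight, hy1] at h2
            exact absurd h2 (by norm_num)
          exact adm_val hX D t hη' h0 y (hmem y hy hyU) hy1
        exact ⟨mkSec hX D V _ hadm, sec_ext hX D _ _ fun _ => rfl⟩
      · refine ⟨0, sec_ext hX D _ _ fun hη' => absurd ?_ hη⟩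
        exact ((trivLocus (weilSheaf hX D)).ι.image_preimage_le V) hη'

include hD in
theorem isRef1_weilSheaf : RefHull.IsRef1 (weilSheaf hX D) := by
  refine ⟨isCoh_weilSheaf hX hD, isReflexive_weilSheaf hX hD, trivLocus (weilSheaf hX D),
    (bigOpen_trivLocus_weilSheaf hX hD).dense, ?_⟩
  exact isInvertible_restrict_of_le_trivLocus _ _ le_rfl


section Order

variable (D)

/-- scalar multiples of germs of sections of `O_X(D)` at the generic point only depend on the rational function. -/
theorem smul_germ_mkSec_eq (c c' : X.presheaf.stalk (genericPoint X)) (W W' : X.Opens)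
    (hη : genericPoint X ∈ W) (hη' : genericPoint X ∈ W') (g g' : X.functionField) (hg : Adm D W g)
    (hg' : Adm D W' g') (h : (c : X.functionField) * g = c' * g') :
    c • (weilSheaf hX D).presheaf.germ W (genericPoint X) hη (mkSec hX D W g hg) =
      c' • (weilSheaf hX D).presheaf.germ W' (genericPoint X) hη' (mkSec hX D W' g' hg') := by
  obtain ⟨W₁, hη₁, r, rfl⟩ := X.presheaf.exists_germ_eq c
  obtain ⟨W₂, hη₂, r', rfl⟩ := X.presheaf.exists_germ_eq c'
  let W₃ : X.Opens := (W ⊓ W') ⊓ (W₁ ⊓ W₂)
  have hη₃ : genericPoint X ∈ W₃ := ⟨⟨hη, hη'⟩, ⟨hη₁, hη₂⟩⟩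
  have e1 : X.presheaf.germ W₁ (genericPoint X) hη₁ r =
      X.presheaf.germ W₃ (genericPoint X) hη₃
        (resf (show W₃ ≤ W₁ from inf_le_right.trans inf_le_left) r) :=
    (germ_resf' (show W₃ ≤ W₁ from inf_le_right.trans inf_le_left) (genericPoint X) hη₃ r).symm
  have e2 : X.presheaf.germ W₂ (genericPoint X) hη₂ r' =
      X.presheaf.germ W₃ (genericPoint X) hη₃
        (resf (show W₃ ≤ W₂ from inf_le_right.trans inf_le_right) r') :=
    (germ_resf' (show W₃ ≤ W₂ from inf_le_right.trans inf_le_right) (genericPoint X) hη₃ r').symm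
  have e3 : (weilSheaf hX D).presheaf.germ W (genericPoint X) hη (mkSec hX D W g hg) =
      (weilSheaf hX D).presheaf.germ W₃ (genericPoint X) hη₃
        (res (weilSheaf hX D) (show W₃ ≤ W from inf_le_left.trans inf_le_left) (mkSec hX D W g hg)) :=
    (germ_res' (weilSheaf hX D) (show W₃ ≤ W from inf_le_left.trans inf_le_left) (genericPoint X) hη₃ _).symm
  have e4 : (weilSheaf hX D).presheaf.germ W' (genericPoint X) hη' (mkSec hX D W' g' hg') =
      (weilSheaf hX D).presheaf.germ W₃ (genericPoint X) hη₃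
        (res (weilSheaf hX D) (show W₃ ≤ W' from inf_le_left.trans inf_le_right) (mkSec hX D W' g' hg')) :=
    (germ_res' (weilSheaf hX D) (show W₃ ≤ W' from inf_le_left.trans inf_le_right) (genericPoint X) hη₃ _).symm
  have key : resf (show W₃ ≤ W₁ from inf_le_right.trans inf_le_left) r •
        res (weilSheaf hX D) (show W₃ ≤ W from inf_le_left.trans inf_le_left) (mkSec hX D W g hg) =
      resf (show W₃ ≤ W₂ from inf_le_right.trans inf_le_right) r' •
        res (weilSheaf hX D) (show W₃ ≤ W' from inf_le_left.trans inf_le_right) (mkSec hX D W' g' hg') := by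
    refine sec_ext hX D _ _ fun hη'' => ?_
    rw [val_smul, val_smul, val_res, val_res, val_mkSec, val_mkSec, germ_resf', germ_resf']
    exact h
  rw [e3, e4]
  conv_lhs => rw [e1]
  conv_rhs => rw [e2]
  rw [← Mero.germ_smul, ← Mero.germ_smul, key]

variable {D}

include hD in
/-- **Surjectivity of the divisor map**: `O_X(D)` has a nonzero rational section with divisor `D`. -/
theorem exists_secOrdAt_eq :
    ∃ s : Cyc.secFibre (weilSheaf hX D) (genericPoint X), s ≠ 0 ∧
      ∀ (x : X), Order.coheight x = 1 →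
        D x = Cyc.secOrdAt (weilSheaf hX D) (genericPoint X) x
          ((genericPoint_spec X).specializes (Set.mem_univ x)) s := by
  have hfield : IsField (X.presheaf.stalk (genericPoint X)) := Field.toIsField X.functionField
  have hmax : IsLocalRing.maximalIdeal (X.presheaf.stalk (genericPoint X)) = ⊥ :=
    IsLocalRing.isField_iff_maximalIdeal_eq.1 hfield
  have hdim0 : ¬ (2 : WithBot ℕ∞) ≤ ringKrullDim (X.presheaf.stalk (genericPoint X)) := by
    rw [ringKrullDim_eq_zero_of_field X.functionField]
    norm_num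
  obtain ⟨W₀, g₀, hηW₀, hg₀0, hg₀⟩ := exists_local_div hX hD (genericPoint X) hdim0
  have hgen₀ := isGen_mkSec hX D W₀ g₀ hg₀0 hg₀
  have hbij₀ := mulGerm_bijective hgen₀ (genericPoint X) hηW₀
  refine ⟨Submodule.Quotient.mk ((g₀⁻¹ : X.functionField) •
    (weilSheaf hX D).presheaf.germ W₀ (genericPoint X) hηW₀
      (mkSec hX D W₀ g₀ (adm_of_ord_eq D W₀ g₀ hg₀))), ?_, ?_⟩
  · intro h0
    rw [Submodule.Quotient.mk_eq_zero, hmax, Submodule.bot_smul, Submodule.mem_bot] at h0
    have h1 : (g₀⁻¹ : X.functionField) = 0 := hbij₀.1 (by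
      change mulGerm _ _ hηW₀ (g₀⁻¹ : X.functionField) = mulGerm _ _ hηW₀ 0
      rw [mulGerm_apply, mulGerm_apply, zero_smul]
      exact h0)
    exact inv_ne_zero hg₀0 h1
  · intro x hx
    have hdim1 : ¬ (2 : WithBot ℕ∞) ≤ ringKrullDim (X.presheaf.stalk x) := by
      rw [ringKrullDim_stalk_eq_coheight, hx]
      norm_num
    have h : genericPoint X ⤳ x := (genericPoint_spec X).specializes (Set.mem_univ x)
    obtain ⟨W, g, hxW, hg0, hg⟩ := exists_local_div hX hD x hdim1
    have hηW : genericPoint X ∈ W := h.mem_open W.isOpen hxW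
    have hgen := isGen_mkSec hX D W g hg0 hg
    have hbijx := mulGerm_bijective hgen x hxW
    have hbijη := mulGerm_bijective hgen (genericPoint X) hηW
    have hsp : (weilSheaf hX D).presheaf.stalkSpecializes h
        ((weilSheaf hX D).presheaf.germ W x hxW (mkSec hX D W g (adm_of_ord_eq D W g hg))) =
        (weilSheaf hX D).presheaf.germ W (genericPoint X) hηW
          (mkSec hX D W g (adm_of_ord_eq D W g hg)) :=
      ConcreteCategory.congr_hom (TopCat.Presheaf.germ_stalkSpecializes
        (weilSheaf hX D).presheaf hxW h) _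
    have heq := smul_germ_mkSec_eq hX D (g₀⁻¹ : X.functionField) (g⁻¹ : X.functionField) W₀ W hηW₀ hηW
      g₀ g (adm_of_ord_eq D W₀ g₀ hg₀) (adm_of_ord_eq D W g hg)
      (by rw [inv_mul_cancel₀ hg₀0, inv_mul_cancel₀ hg0])
    rw [heq, ← hsp]
    rw [Groth.Agent.Lib.Helper2.CycC1.secOrdAt_mk (weilSheaf hX D) _ x h _ hbijx
      (by rw [hsp]; exact hbijη) (g⁻¹ : X.functionField)]
    rw [Groth.Agent.Lib.Helper28.GenOrd.ordAt_residue_eq_ord x hx _ (inv_ne_zero hg0), ord_inv' g hg0,
      hg x hxW hx, neg_neg]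

end Order

end Groth.Agent.Lib.Helper28.WeilSheaf
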