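import Mathlib
import Groth.Agent.Lib.Helper28WeilUFD
import Groth.Agent.Lib.Helper23SecTw10
import Groth.Agent.Lib.Helper20Div21
import Groth.Agent.S2851

set_option autoImplicit false
set_option linter.style.haveILetI false
set_option linter.unusedSectionVars false
universe u
open CategoryTheory CategoryTheory.Limits AlgebraicGeometry TopologicalSpace Opposite

namespace Groth.Agent.Lib.Helper28.AmpleFam

open Groth.Agent.Lib.Helper28.WeilSheaf Groth.Agent.Lib.Helper28.WeilOrd
  Groth.Agent.Lib.Helper23.SecTw Groth.Agent.Lib.Helper23.GenLocus Groth.Agent.Lib.Helper6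
  Groth.Agent.Lib.Helper20.Div21Lib Groth.Agent.Lib.Helper28.WeilUFD

section Integral

variable {T : Scheme.{u}} [IsIntegral T] [IsLocallyNoetherian T]

theorem lt_of_specializes_ne {x y : T} (h : y ⤳ x) (hne : y ≠ x) : x < y := by
  have hle : x ≤ y := Scheme.le_iff_specializes.mpr h
  refine lt_of_le_not_ge hle fun hge => hne ?_
  have h' : x ⤳ y := Scheme.le_iff_specializes.mp hge
  exact (h.antisymm h').eq

/-- a point outside a nonempty open has positive codimension. -/
theorem one_le_coheight_of_not_mem (U₀ : T.Opens) [Nonempty U₀] {z : T} (hz : z ∉ U₀) :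
    1 ≤ Order.coheight z := by
  obtain ⟨⟨y, hy⟩⟩ := (inferInstance : Nonempty U₀)
  have hη : genericPoint T ∈ U₀ := generic_mem_of_mem hy
  have hspec : genericPoint T ⤳ z := (genericPoint_spec T).specializes (Set.mem_univ z)
  have hne : genericPoint T ≠ z := fun h => hz (h ▸ hη)
  have hlt := lt_of_specializes_ne hspec hne
  have h1 := Order.coheight_strictAnti hlt (coheight_lt_top _)
  exact Order.one_le_iff_pos.2 (lt_of_le_of_lt bot_le h1)

/-- the codimension-one points outside a nonempty open are finite in number. -/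
theorem finite_bdry [CompactSpace T] (U₀ : T.Opens) [Nonempty U₀] :
    {z : T | Order.coheight z = 1 ∧ z ∉ U₀}.Finite := by
  haveI : IsNoetherian T := ⟨⟩
  obtain ⟨S, hSfin, hSc, hSi, hS⟩ :=
    NoetherianSpace.exists_finite_set_isClosed_irreducible (U₀.2.isClosed_compl)
  have hfin : (⋃ t ∈ S, {z : T | IsGenericPoint z t}).Finite :=
    hSfin.biUnion fun t _ => Set.Subsingleton.finite fun a ha b hb => ha.eq hb
  refine hfin.subset ?_
  rintro z ⟨hz1, hzU⟩
  have hzC : z ∈ ⋃₀ S := hS ▸ (show z ∈ U₀.carrierᶜ from hzU)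
  obtain ⟨t, htS, hzt⟩ := hzC
  obtain ⟨z', hz'⟩ := QuasiSober.sober (hSi t htS) (hSc t htS)
  have hspec : z' ⤳ z := hz'.specializes hzt
  have hz't : z' ∈ t := hz'.mem
  have hz'U : z' ∉ U₀ := by
    have : z' ∈ U₀.carrierᶜ := by rw [hS]; exact ⟨t, htS, hz't⟩
    exact this
  have heq : z' = z := by
    by_contra hne
    have hlt := lt_of_specializes_ne hspec hne
    have h1 := Order.coheight_strictAnti hlt (coheight_lt_top _)
    rw [hz1] at h1
    have h2 := one_le_coheight_of_not_mem U₀ hz'U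
    exact absurd (lt_of_le_of_lt h2 h1) (lt_irrefl _)
  simp only [Set.mem_iUnion]
  exact ⟨t, htS, heq ▸ hz'⟩

/-- every point of a subset has a generization in the subset which is maximal there. -/
theorem exists_maximal_point (C : Set T) (x : T) (hx : x ∈ C) :
    ∃ z ∈ C, z ⤳ x ∧ ∀ η' ∈ C, η' ⤳ z → η' = z := by
  have hne : (Order.coheight '' {z : T | z ∈ C ∧ z ⤳ x}).Nonempty :=
    ⟨_, ⟨x, ⟨hx, specializes_rfl⟩, rfl⟩⟩
  obtain ⟨m, ⟨z, ⟨hzC, hzx⟩, rfl⟩, hmin⟩ := (wellFounded_lt (α := ℕ∞)).has_min _ hne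
  refine ⟨z, hzC, hzx, fun η' hη'C hη'z => ?_⟩
  by_contra hne'
  have hlt := lt_of_specializes_ne hη'z hne'
  have h1 := Order.coheight_strictAnti hlt (coheight_lt_top _)
  exact hmin _ ⟨η', ⟨hη'C, hη'z.trans hzx⟩, rfl⟩ h1

open Classical in
/-- the reduced divisor of codimension-one points outside `U₀`. -/
noncomputable def bdry (U₀ : T.Opens) : T → ℤ := fun z =>
  if Order.coheight z = 1 ∧ z ∉ U₀ then 1 else 0

theorem bdry_of_mem (U₀ : T.Opens) {z : T} (hz : z ∈ U₀) : bdry U₀ z = 0 := by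
  unfold bdry
  rw [if_neg (fun h => h.2 hz)]

theorem bdry_of_not_mem (U₀ : T.Opens) {z : T} (hz1 : Order.coheight z = 1) (hz : z ∉ U₀) :
    bdry U₀ z = 1 := by
  unfold bdry
  rw [if_pos ⟨hz1, hz⟩]

theorem bdry_nonneg (U₀ : T.Opens) (z : T) : 0 ≤ bdry U₀ z := by
  unfold bdry
  split_ifs <;> omega

theorem locallyFiniteSupport_bdry [CompactSpace T] (U₀ : T.Opens) [Nonempty U₀] :
    LocallyFiniteSupport (bdry U₀) := by
  intro z
  refine ⟨Set.univ, Filter.univ_mem, (finite_bdry U₀).subset ?_⟩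
  rintro y ⟨-, hy⟩
  by_contra hne
  apply hy
  unfold bdry
  exact if_neg hne

theorem adm_one (U₀ : T.Opens) (W : T.Opens) : Adm (bdry U₀) W 1 := by
  intro _ y _ _
  rw [ord_one']
  have := bdry_nonneg U₀ y
  omega

/-- **Lemma I**: on an integral normal locally factorial Noetherian scheme, an open `U₀` with affine inclusion is the
non-vanishing locus of a section of an invertible module. -/
theorem exists_invertible_genLocus_eq [CompactSpace T] (hT : Pi1.IsNormalScheme T)
    (hufd : ∀ x : T, UniqueFactorizationMonoid (T.presheaf.stalk x))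
    (U₀ : T.Opens) [Nonempty U₀] [IsAffineHom U₀.ι] :
    ∃ (L : T.Modules) (s : Coh.structureModule T ⟶ L), PicF.IsInvertible L ∧
      CohB1.genLocus L s = U₀ := by
  have hZ := locallyFiniteSupport_bdry U₀
  set Z := bdry U₀ with hZdef
  set L := weilSheaf hT Z with hLdef
  set t : Γ(L, ⊤) := mkSec hT Z ⊤ 1 (adm_one U₀ ⊤) with htdef
  refine ⟨L, secHom L t, isInvertible_weilSheaf_of_ufd hT hufd Z hZ, le_antisymm ?_ ?_⟩
  · -- genLocus ≤ U₀
    intro x hx
    by_contra hxU
    obtain ⟨z, hzC, hzx, hzmax⟩ := exists_maximal_point ((U₀ : Set T)ᶜ) x hxU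
    have hzU : z ∉ U₀ := hzC
    have hdim : ringKrullDim (T.presheaf.stalk z) ≤ 1 :=
      Groth.Agent.S2851.result T U₀ z hzU (fun η' hη' h => hzmax η' hη' h)
    have hco1 : Order.coheight z = 1 := by
      rw [ringKrullDim_stalk_eq_coheight] at hdim
      have h2 : Order.coheight z ≤ 1 := by exact_mod_cast hdim
      exact le_antisymm h2 (one_le_coheight_of_not_mem U₀ hzU)
    have hZz : Z z = 1 := bdry_of_not_mem U₀ hco1 hzU
    have hz2 : ¬ (2 : WithBot ℕ∞) ≤ ringKrullDim (T.presheaf.stalk z) := by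
      intro h2
      have := h2.trans hdim
      norm_num at this
    obtain ⟨W, g, hzW, hg0, hg⟩ := exists_local_div hT hZ z hz2
    have hzG : z ∈ CohB1.genLocus L (secHom L t) := hzx.mem_open (CohB1.genLocus L (secHom L t)).2 hx
    have hgen := isGen_sv_genLocus L (secHom L t)
    set W' : T.Opens := W ⊓ CohB1.genLocus L (secHom L t) with hW'def
    have hzW' : z ∈ W' := ⟨hzW, hzG⟩
    have hη : genericPoint T ∈ W' := generic_mem_of_mem hzW'
    have hadm : Adm Z W' g := adm_of_ord_eq Z W' g (fun y hy hy1 => hg y hy.1 hy1)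
    obtain ⟨r, hr⟩ := (hgen W' inf_le_right).2 (mkSec hT Z W' g hadm)
    have hr' := congrArg (fun s => val hT Z s hη) hr
    simp only at hr'
    rw [val_smul, val_res, sv_secHom, val_res, val_mkSec, val_mkSec, mul_one] at hr'
    have h3 := ord_germ_nonneg r hη z hzW' hco1 (by rw [hr']; exact hg0)
    rw [hr', hg z hzW hco1, hZz] at h3
    omega
  · -- U₀ ≤ genLocus
    refine le_genLocus_of_isGen L (secHom L t) U₀ ?_
    rw [sv_secHom]
    have hg : ∀ y : T, y ∈ U₀ → Order.coheight y = 1 → Scheme.ord (1 : T.functionField) y = - Z y := by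
      intro y hy _
      rw [ord_one', hZdef, bdry_of_mem U₀ hy, neg_zero]
    exact isGen_mkSec hT Z U₀ 1 one_ne_zero hg

end Integral

end Groth.Agent.Lib.Helper28.AmpleFam
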