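import Mathlib
import Groth.Agent.Lib.Helper23SecTw10
import Groth.Agent.Lib.Helper23Restr
import Groth.Agent.Lib.Helper23Restr2
import Groth.Agent.Lib.Helper23TensorUnit
import Groth.Agent.Lib.Helper26GlueB
import Groth.Agent.Lib.Helper28Factorial2

set_option autoImplicit false
set_option linter.style.haveILetI false
set_option linter.unusedSectionVars false
universe u
open CategoryTheory CategoryTheory.Limits AlgebraicGeometry TopologicalSpace Opposite

namespace Groth.Agent.Lib.Helper28.AmpleFam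

open Groth.Agent.Lib.Helper23.SecTw Groth.Agent.Lib.Helper23.GenLocus Groth.Agent.Lib.Helper6
  Groth.Agent.Lib.Helper23.AmpleIso Groth.Agent.Lib.Helper23.TensorUnit

section Glue

theorem genLocus_zero_eq_bot (Y : Scheme.{u}) :
    CohB1.genLocus (Coh.structureModule Y) (0 : Coh.structureModule Y ⟶ Coh.structureModule Y) = ⊥ := by
  set W := CohB1.genLocus (Coh.structureModule Y) (0 : Coh.structureModule Y ⟶ Coh.structureModule Y) with hW
  by_contra hne
  obtain ⟨y, hy⟩ : ∃ y, y ∈ W := by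
    by_contra h
    push Not at h
    apply hne
    ext y
    simp only [Opens.coe_bot, Set.mem_empty_iff_false, iff_false]
    exact h y
  have hgen := isGen_sv_genLocus (Coh.structureModule Y) (0 : Coh.structureModule Y ⟶ Coh.structureModule Y)
  have hb := (hgen W le_rfl).1
  have h0 : sv (0 : Coh.structureModule Y ⟶ Coh.structureModule Y) W = 0 := rfl
  have h10 : (1 : Γ(Y, W)) = 0 := by
    apply hb
    simp only
    rw [h0, show res (Coh.structureModule Y) (le_refl W) (0 : Γ(Coh.structureModule Y, W)) = 0 from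
      map_zero ((Coh.structureModule Y).presheaf.map (homOfLE (le_refl W)).op).hom, smul_zero, smul_zero]
  haveI : Nonempty W := ⟨⟨y, hy⟩⟩
  exact one_ne_zero h10

variable {X : Scheme.{u}}

open Groth.Agent.Lib.Helper26.Glue in
/-- **extension from a clopen piece**: an invertible module with a section on an open and closed subscheme extends to
the whole scheme, with the same non-vanishing locus. -/
theorem exists_extension (X₀ X₁ : X.Opens) (hdisj : X₀ ⊓ X₁ = ⊥) (hcov : X₀ ⊔ X₁ = ⊤)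
    (L₀ : (↑X₀ : Scheme.{u}).Modules) (hL₀ : PicF.IsInvertible L₀)
    (s₀ : Coh.structureModule (↑X₀ : Scheme.{u}) ⟶ L₀) :
    ∃ (G : X.Modules) (s : Coh.structureModule X ⟶ G), PicF.IsInvertible G ∧
      CohB1.genLocus G s = X₀.ι ''ᵁ CohB1.genLocus L₀ s₀ := by
  let E : X.Opens := ⊥
  haveI : IsEmpty ↥(E : Scheme.{u}) := ⟨fun y => y.2⟩
  let wa : (E : Scheme.{u}) ⟶ (X₀ : Scheme.{u}) := X.homOfLE bot_le
  let wb : (E : Scheme.{u}) ⟶ (X₁ : Scheme.{u}) := X.homOfLE bot_le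
  have ea : wa ≫ X₀.ι = E.ι := X.homOfLE_ι _
  have eb : wb ≫ X₁.ι = E.ι := X.homOfLE_ι _
  let φ : (Scheme.Modules.pullback wa).obj L₀ ≅
      (Scheme.Modules.pullback wb).obj (Coh.structureModule (↑X₁ : Scheme.{u})) :=
    (Groth.Agent.Lib.Helper28.Factorial.isZero_of_isEmpty _).iso
      (Groth.Agent.Lib.Helper28.Factorial.isZero_of_isEmpty _)
  have hwa : X₀.ι ⁻¹ᵁ X₁.ι.opensRange ≤ wa.opensRange := by
    rw [Scheme.Opens.opensRange_ι]
    intro y hy
    exfalso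
    have : y.1 ∈ X₀ ⊓ X₁ := ⟨y.2, hy⟩
    rw [hdisj] at this
    exact this
  have hwb : X₁.ι ⁻¹ᵁ X₀.ι.opensRange ≤ wb.opensRange := by
    rw [Scheme.Opens.opensRange_ι]
    intro y hy
    exfalso
    have : y.1 ∈ X₀ ⊓ X₁ := ⟨hy, y.2⟩
    rw [hdisj] at this
    exact this
  obtain ⟨G, eA, eB, -⟩ := exists_glue X₀.ι X₁.ι wa wb E.ι ea eb L₀
    (Coh.structureModule (↑X₁ : Scheme.{u})) φ hwa hwb
  let ε₀ : G.restrict X₀.ι ≅ L₀ := (Scheme.Modules.restrictFunctorIsoPullback X₀.ι).app G ≪≫ eA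
  let ε₁ : G.restrict X₁.ι ≅ Coh.structureModule (↑X₁ : Scheme.{u}) :=
    (Scheme.Modules.restrictFunctorIsoPullback X₁.ι).app G ≪≫ eB
  -- invertibility
  have hG : PicF.IsInvertible G := by
    refine isInvertible_of_restrict G (fun x => ?_)
    have hx : x ∈ X₀ ⊔ X₁ := by rw [hcov]; trivial
    rcases hx with hx | hx
    · exact ⟨X₀, hx, isInvertible_of_iso ε₀.symm hL₀⟩
    · exact ⟨X₁, hx, isInvertible_of_iso ε₁.symm (isInvertible_structureModule _)⟩
  -- the section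
  let t₀ : Γ(G, X₀.ι ''ᵁ ⊤) := ε₀.inv.app ⊤ (sv s₀ ⊤)
  let V : Bool → X.Opens := fun b => if b then X₀.ι ''ᵁ ⊤ else X₁.ι ''ᵁ ⊤
  have hV₀ : X₀.ι ''ᵁ ⊤ = X₀ := by rw [Scheme.Hom.image_top_eq_opensRange, Scheme.Opens.opensRange_ι]
  have hV₁ : X₁.ι ''ᵁ ⊤ = X₁ := by rw [Scheme.Hom.image_top_eq_opensRange, Scheme.Opens.opensRange_ι]
  let σ : ∀ b : Bool, Γ(G, V b) := fun b => match b with
    | true => t₀
    | false => 0
  have hbot : ∀ (W : X.Opens), W = ⊥ → ∀ a b : Γ(G, W), a = b := by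
    intro W hW a b
    subst hW
    have h1 := Groth.Agent.Lib.Helper23.Support.eq_zero_of_disjoint_support G ⊥ (fun x hx => hx.elim) a
    have h2 := Groth.Agent.Lib.Helper23.Support.eq_zero_of_disjoint_support G ⊥ (fun x hx => hx.elim) b
    rw [h1, h2]
  have hcompat : TopCat.Presheaf.IsCompatible (modSheaf G).1 V σ := by
    intro a b
    cases a <;> cases b
    · rfl
    · refine hbot _ ?_ _ _
      change X₁.ι ''ᵁ ⊤ ⊓ X₀.ι ''ᵁ ⊤ = ⊥
      rw [hV₀, hV₁, inf_comm, hdisj]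
    · refine hbot _ ?_ _ _
      change X₀.ι ''ᵁ ⊤ ⊓ X₁.ι ''ᵁ ⊤ = ⊥
      rw [hV₀, hV₁, hdisj]
    · rfl
  have hcov' : (⊤ : X.Opens) ≤ ⨆ b, V b := by
    rw [← hcov]
    refine sup_le ?_ ?_
    · exact le_trans hV₀.ge (le_iSup V true)
    · exact le_trans hV₁.ge (le_iSup V false)
  obtain ⟨t, ht, -⟩ := (modSheaf G).existsUnique_gluing' V ⊤ (fun b => homOfLE le_top) hcov' σ hcompat
  have ht₀ : res G (le_top : X₀.ι ''ᵁ ⊤ ≤ ⊤) t = t₀ := ht true
  have ht₁ : res G (le_top : X₁.ι ''ᵁ ⊤ ≤ ⊤) t = 0 := ht false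
  refine ⟨G, secHom G t, hG, ?_⟩
  have e₀ : restrSec (secHom G t) X₀ ≫ ε₀.hom = s₀ := by
    refine hom_ext_of_sv _ _ ?_
    rw [sv_comp, sv_restrSec, sv_secHom, ht₀]
    have h := congrArg (fun f => (Scheme.Modules.Hom.app f ⊤) (sv s₀ ⊤)) ε₀.inv_hom_id
    exact h
  have e₁ : restrSec (secHom G t) X₁ ≫ ε₁.hom = 0 := by
    refine hom_ext_of_sv _ _ ?_
    rw [sv_comp, sv_restrSec, sv_secHom, ht₁]
    exact map_zero (ε₁.hom.app ⊤).hom
  have h₀ : X₀.ι ⁻¹ᵁ CohB1.genLocus G (secHom G t) = CohB1.genLocus L₀ s₀ := by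
    rw [← genLocus_restrSec, ← genLocus_comp_iso ε₀, e₀]
  have h₁ : X₁.ι ⁻¹ᵁ CohB1.genLocus G (secHom G t) = ⊥ := by
    rw [← genLocus_restrSec, ← genLocus_comp_iso ε₁, e₁, genLocus_zero_eq_bot]
  have hle : CohB1.genLocus G (secHom G t) ≤ X₀ := by
    intro y hy
    have hy' : y ∈ X₀ ⊔ X₁ := by rw [hcov]; trivial
    rcases hy' with hy' | hy'
    · exact hy'
    · exfalso
      have : (⟨y, hy'⟩ : ↥(X₁ : Scheme.{u})) ∈ X₁.ι ⁻¹ᵁ CohB1.genLocus G (secHom G t) := hy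
      rw [h₁] at this
      exact this
  rw [← h₀, image_preimage_of_le X₀ hle]

end Glue

end Groth.Agent.Lib.Helper28.AmpleFam
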