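import Mathlib
import Groth.Agent.Lib.Helper28AmpleFam1
import Groth.Agent.Lib.Helper28AmpleFam2
import Groth.Agent.Lib.Helper28LocFact
import Groth.Agent.Lib.Helper14LocNoeth
import Groth.Agent.Lib.Helper11SmInt

set_option autoImplicit false
set_option linter.style.haveILetI false
set_option linter.unusedSectionVars false
universe u
open CategoryTheory CategoryTheory.Limits AlgebraicGeometry TopologicalSpace Opposite

namespace Groth.Agent.Lib.Helper28.AmpleFam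

open Groth.Agent.Lib.Helper23.SecTw Groth.Agent.Lib.Helper23.GenLocus Groth.Agent.Lib.Helper6
  Groth.Agent.Lib.Helper23.AmpleIso Groth.Agent.Lib.Helper23.TensorUnit

theorem image_inf_opens {X : Scheme.{u}} (W : X.Opens) (U V : (↑W : Scheme.{u}).Opens) :
    W.ι ''ᵁ (U ⊓ V) = W.ι ''ᵁ U ⊓ W.ι ''ᵁ V := by
  ext y
  constructor
  · rintro ⟨z, ⟨hzU, hzV⟩, rfl⟩
    exact ⟨⟨z, hzU, rfl⟩, ⟨z, hzV, rfl⟩⟩
  · rintro ⟨⟨z, hzU, rfl⟩, ⟨z', hzV, hzz'⟩⟩
    have : z' = z := W.ι.isOpenEmbedding.injective hzz'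
    subst this
    exact ⟨z', ⟨hzU, hzV⟩, rfl⟩

/-- **divisoriality of locally factorial schemes with affine diagonal**. -/
theorem hasAmpleFamily_of_factorial (X : Scheme.{u}) [CompactSpace X] [IsLocallyNoetherian X]
    (hfact : ∀ x : X, IsDomain (X.presheaf.stalk x) ∧ UniqueFactorizationMonoid (X.presheaf.stalk x))
    (hdiag : ∀ U V : X.Opens, IsAffineOpen U → IsAffineOpen V → IsAffineOpen (U ⊓ V)) :
    MoreMor.HasAmpleFamily X := by
  refine ⟨inferInstance, fun x => ?_⟩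
  haveI : IsNoetherian X := ⟨⟩
  haveI : LocallyConnectedSpace ↥X :=
    Groth.Agent.Lib.Helper14.locallyConnectedSpace_of_locally_noetherian _
      (fun y => ⟨Set.univ, Filter.univ_mem, inferInstance⟩)
  let X₀ : X.Opens := ⟨connectedComponent x, isOpen_connectedComponent⟩
  let X₁ : X.Opens := ⟨(connectedComponent x)ᶜ, isClosed_connectedComponent.isOpen_compl⟩
  have hxX₀ : x ∈ X₀ := mem_connectedComponent
  have hdisj : X₀ ⊓ X₁ = ⊥ := by
    ext y
    simp only [Opens.coe_inf, Opens.coe_bot, Set.mem_empty_iff_false, iff_false]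
    rintro ⟨h1, h2⟩
    exact h2 h1
  have hcov : X₀ ⊔ X₁ = ⊤ := by
    ext y
    simp only [Opens.coe_sup, Opens.coe_top, Set.mem_univ, iff_true]
    by_cases hy : y ∈ connectedComponent x
    · exact Or.inl hy
    · exact Or.inr hy
  haveI : ConnectedSpace ↥(X₀ : Scheme.{u}) :=
    isConnected_iff_connectedSpace.1 isConnected_connectedComponent
  haveI : CompactSpace ↥(X₀ : Scheme.{u}) :=
    isCompact_iff_compactSpace.1 isClosed_connectedComponent.isCompact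
  haveI : IsNoetherian (X₀ : Scheme.{u}) := ⟨⟩
  have hst : ∀ y : ↥(X₀ : Scheme.{u}), IsDomain ((X₀ : Scheme.{u}).presheaf.stalk y) ∧
      UniqueFactorizationMonoid ((X₀ : Scheme.{u}).presheaf.stalk y) := fun y =>
    (Groth.Agent.Lib.Helper28.LocFact.stalk_iff_opens X₀ y).2 (hfact (X₀.ι y))
  have hnorm : Pi1.IsNormalScheme (X₀ : Scheme.{u}) := fun y => by
    obtain ⟨h1, h2⟩ := hst y
    exact ⟨h1, inferInstance⟩
  haveI : IsIntegral (X₀ : Scheme.{u}) :=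
    Groth.Agent.Lib.Helper11SmInt.isIntegral_of_connected_of_isDomain_stalk (fun y => (hnorm y).1)
  let x₀ : ↥(X₀ : Scheme.{u}) := ⟨x, hxX₀⟩
  obtain ⟨U₀, hU₀, hxU₀⟩ : ∃ U₀ : (X₀ : Scheme.{u}).Opens, IsAffineOpen U₀ ∧ x₀ ∈ U₀ := by
    obtain ⟨U₀, hU₀', hxU₀, -⟩ :=
      (Opens.isBasis_iff_nbhd.1 (X₀ : Scheme.{u}).isBasis_affineOpens) (Opens.mem_top x₀)
    exact ⟨U₀, hU₀', hxU₀⟩
  haveI : Nonempty U₀ := ⟨⟨x₀, hxU₀⟩⟩
  haveI : IsAffineHom U₀.ι := ⟨fun V hV => by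
    rw [← U₀.ι.isAffineOpen_iff_of_isOpenImmersion, Scheme.Hom.image_preimage_eq_opensRange_inf,
      Scheme.Opens.opensRange_ι, ← X₀.ι.isAffineOpen_iff_of_isOpenImmersion, image_inf_opens]
    exact hdiag _ _ (hU₀.image_of_isOpenImmersion X₀.ι) (hV.image_of_isOpenImmersion X₀.ι)⟩
  obtain ⟨L₀, s₀, hL₀, hgen₀⟩ := exists_invertible_genLocus_eq hnorm (fun y => (hst y).2) U₀
  obtain ⟨G, s, hG, hgen⟩ := exists_extension X₀ X₁ hdisj hcov L₀ hL₀ s₀
  rw [hgen₀] at hgen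
  have hgen' : CohB1.genLocus (CohB1.tensorPow G 1) (s ≫ (unitTensorIso G).inv) = X₀.ι ''ᵁ U₀ := by
    have := genLocus_comp_iso (unitTensorIso G).symm s
    exact this.trans hgen
  refine ⟨G, 1, s ≫ (unitTensorIso G).inv, hG, le_rfl, ?_, ?_⟩
  · rw [hgen']
    exact ⟨x₀, hxU₀, rfl⟩
  · rw [hgen']
    exact hU₀.image_of_isOpenImmersion X₀.ι

end Groth.Agent.Lib.Helper28.AmpleFam
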