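import Mathlib

/-!
# Flat schemes over a local Artin ring: global sections

Helper library for S11468 (helper28).  For a flat morphism `g : X ⟶ Spec C`, `C` a local Artin ring,
with closed fibre `X₀`, if `k → Γ(X₀, 𝒪)` is bijective then so is `C → Γ(X, 𝒪)`.
-/

open CategoryTheory CategoryTheory.Limits AlgebraicGeometry TopologicalSpace TensorProduct

universe u

namespace Groth.Agent.Lib.Helper28ArtinH0


/-- Flat division lemma: `C` local, `J` an ideal, `x ∉ J` with `m x ⊆ J`; `B` flat over `C`;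
if `x b ∈ J B` then `b ∈ m B`. -/
theorem mem_map_maximalIdeal_of_mul_mem {C B : Type*} [CommRing C] [IsLocalRing C] [CommRing B]
    (ψ : C →+* B) (hψ : ψ.Flat) (J : Ideal C) (x : C) (hxJ : x ∉ J)
    (hmx : ∀ y ∈ IsLocalRing.maximalIdeal C, y * x ∈ J) (b : B)
    (hb : ψ x * b ∈ J.map ψ) : b ∈ (IsLocalRing.maximalIdeal C).map ψ := by
  algebraize [ψ]
  set m := IsLocalRing.maximalIdeal C
  -- the map C/m → C/J, [c] ↦ [c x]
  let f : (C ⧸ m) →ₗ[C] (C ⧸ J) :=
    Submodule.liftQ m ((Submodule.mkQ J).comp (LinearMap.toSpanSingleton C C x)) (by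
      intro y hy
      simp only [LinearMap.mem_ker, LinearMap.coe_comp, Function.comp_apply,
        LinearMap.toSpanSingleton_apply, Submodule.mkQ_apply, smul_eq_mul]
      exact (Submodule.Quotient.mk_eq_zero J).mpr (hmx y hy))
  have hf : Function.Injective f := by
    rw [← LinearMap.ker_eq_bot, LinearMap.ker_eq_bot']
    intro z hz
    obtain ⟨c, rfl⟩ := Submodule.Quotient.mk_surjective m z
    have h1 : c * x ∈ J := by
      have : f (Submodule.Quotient.mk c) = Submodule.Quotient.mk (c * x) := rfl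
      rw [this] at hz
      exact (Submodule.Quotient.mk_eq_zero J).mp hz
    by_contra hne
    have hc : c ∉ m := fun h => hne ((Submodule.Quotient.mk_eq_zero m).mpr h)
    have hu : IsUnit c := by
      by_contra h
      exact hc ((IsLocalRing.mem_maximalIdeal c).mpr h)
    obtain ⟨u, rfl⟩ := hu
    apply hxJ
    have : x = (↑u⁻¹ : C) * (↑u * x) := by
      rw [← mul_assoc, Units.inv_mul, one_mul]
    rw [this]
    exact J.mul_mem_left _ h1
  have hinj := Module.Flat.lTensor_preserves_injective_linearMap (M := B) f hf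
  -- `b ⊗ 1 ↦ b ⊗ [x]`
  have h2 : (f.lTensor B) (b ⊗ₜ[C] (Submodule.Quotient.mk (1 : C))) = 0 := by
    rw [LinearMap.lTensor_tmul]
    have : f (Submodule.Quotient.mk (1 : C)) = x • (Submodule.Quotient.mk (1 : C) : C ⧸ J) := by
      show (Submodule.Quotient.mk ((1 : C) • x) : C ⧸ J) = _
      rw [← Submodule.Quotient.mk_smul, smul_eq_mul, smul_eq_mul, one_mul, mul_one]
    rw [this, ← TensorProduct.smul_tmul, Algebra.smul_def, RingHom.algebraMap_toAlgebra]
    -- general: b' ∈ J.map ψ → b' ⊗ 1 = 0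
    have key : ∀ b' ∈ J.map ψ, b' ⊗ₜ[C] (Submodule.Quotient.mk (1 : C) : C ⧸ J) = 0 := by
      intro b' hb'
      refine Submodule.span_induction ?_ ?_ ?_ ?_ hb'
      · rintro _ ⟨j, hj, rfl⟩
        have : ψ j = j • (1 : B) := by
          rw [Algebra.smul_def, RingHom.algebraMap_toAlgebra, mul_one]
        rw [this, TensorProduct.smul_tmul, ← Submodule.Quotient.mk_smul, smul_eq_mul, mul_one,
          (Submodule.Quotient.mk_eq_zero J).mpr hj, TensorProduct.tmul_zero]
      · simp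
      · intro a b _ _ ha hb
        rw [TensorProduct.add_tmul, ha, hb, add_zero]
      · intro a b' _ hb'
        have : (a • b') ⊗ₜ[C] (Submodule.Quotient.mk (1 : C) : C ⧸ J)
            = a • (b' ⊗ₜ[C] (Submodule.Quotient.mk (1 : C) : C ⧸ J)) := by
          rw [TensorProduct.smul_tmul']
        rw [this, hb', smul_zero]
    exact key _ hb
  have h3 : b ⊗ₜ[C] (Submodule.Quotient.mk (1 : C) : C ⧸ m) = 0 := by
    apply hinj
    rw [h2, map_zero]
  -- transfer through `B ⊗ C/m ≃ B / mB`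
  have h4 := congrArg (TensorProduct.tensorQuotEquivQuotSMul B m) h3
  rw [map_zero] at h4
  have h5 : b ∈ (m • ⊤ : Submodule C B) := by
    have : TensorProduct.tensorQuotEquivQuotSMul B m
        (b ⊗ₜ[C] (Submodule.Quotient.mk (1 : C) : C ⧸ m)) = Submodule.Quotient.mk b := by
      exact (TensorProduct.tensorQuotEquivQuotSMul_tmul_mk m b 1).trans (by rw [one_smul])
    rw [this] at h4
    exact (Submodule.Quotient.mk_eq_zero _).mp h4
  refine Submodule.smul_induction_on h5 ?_ ?_
  · intro r hr n _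
    rw [Algebra.smul_def, RingHom.algebraMap_toAlgebra]
    exact Ideal.mul_mem_right _ _ (Ideal.mem_map_of_mem ψ hr)
  · intro a b ha hb
    exact Ideal.add_mem _ ha hb



theorem artin_induction {C : Type*} [CommRing C] [IsLocalRing C] [IsArtinianRing C]
    (Q : Ideal C → Prop) (htop : Q ⊤)
    (hstep : ∀ (J : Ideal C) (x : C), x ∉ J →
      (∀ y ∈ IsLocalRing.maximalIdeal C, y * x ∈ J) → Q (J ⊔ Ideal.span {x}) → Q J) :
    ∀ J, Q J := by
  intro J
  induction J using IsNoetherian.induction with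
  | hgt I ih =>
    by_cases hI : I = ⊤
    · rw [hI]; exact htop
    set m := IsLocalRing.maximalIdeal C
    have hnil : ∃ n : ℕ, m ^ n ≤ I := by
      have h := IsArtinianRing.isNilpotent_jacobson_bot (R := C)
      rw [IsLocalRing.jacobson_eq_maximalIdeal ⊥ bot_ne_top] at h
      obtain ⟨n, hn⟩ := h
      exact ⟨n, by rw [hn]; exact bot_le⟩
    classical
    set n := Nat.find hnil with hn
    have hn1 : m ^ n ≤ I := Nat.find_spec hnil
    have hn0 : n ≠ 0 := by
      intro h0
      rw [h0, pow_zero, Ideal.one_eq_top, top_le_iff] at hn1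
      exact hI hn1
    have hn2 : ¬ m ^ (n - 1) ≤ I := Nat.find_min hnil (Nat.sub_one_lt hn0)
    obtain ⟨x, hxm, hxI⟩ := SetLike.not_le_iff_exists.mp hn2
    refine hstep I x hxI ?_ (ih _ ?_)
    · intro y hy
      apply hn1
      have : n = (n - 1) + 1 := by omega
      rw [this, pow_succ']
      exact Ideal.mul_mem_mul hy hxm
    · refine lt_of_le_of_ne le_sup_left ?_
      intro h
      apply hxI
      rw [h]
      exact Ideal.mem_sup_right (Ideal.mem_span_singleton_self x)

theorem injective_of_flat_of_map_ne_top {C B : Type*} [CommRing C] [IsLocalRing C] [CommRing B]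
    (ψ : C →+* B) (hψ : ψ.Flat) (h : (IsLocalRing.maximalIdeal C).map ψ ≠ ⊤) :
    Function.Injective ψ := by
  algebraize [ψ]
  have : Module.FaithfullyFlat C B := by
    refine ⟨fun {m} hm => ?_⟩
    rw [IsLocalRing.eq_maximalIdeal hm]
    intro htop
    apply h
    rw [Ideal.eq_top_iff_one]
    have h1 : (1 : B) ∈ (IsLocalRing.maximalIdeal C • ⊤ : Submodule C B) := by
      rw [htop]; trivial
    refine Submodule.smul_induction_on h1 ?_ ?_
    · intro r hr n _
      rw [Algebra.smul_def, RingHom.algebraMap_toAlgebra]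
      exact Ideal.mul_mem_right _ _ (Ideal.mem_map_of_mem ψ hr)
    · intro a b ha hb
      exact Ideal.add_mem _ ha hb
  exact FaithfulSMul.algebraMap_injective C B


section SchemePart


variable {C : Type u} [CommRing C] [IsLocalRing C]
variable {X X₀ : Scheme.{u}} (g : X ⟶ Spec (CommRingCat.of C)) (i : X₀ ⟶ X)
  (f₀ : X₀ ⟶ Spec (CommRingCat.of (C ⧸ IsLocalRing.maximalIdeal C)))

/-- The structure map `C → Γ(X, U)`. -/
noncomputable def strMap (U : X.Opens) : CommRingCat.of C ⟶ Γ(X, U) :=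
  (Scheme.ΓSpecIso (CommRingCat.of C)).inv ≫ g.appTop ≫ X.presheaf.map (homOfLE le_top).op

lemma strMap_res {U V : X.Opens} (h : V ≤ U) :
    strMap g U ≫ X.presheaf.map (homOfLE h).op = strMap g V := by
  simp only [strMap, Category.assoc, ← Functor.map_comp]
  rfl

lemma strMap_res_apply {U V : X.Opens} (h : V ≤ U) (c : C) :
    X.presheaf.map (homOfLE h).op (strMap g U c) = strMap g V c := by
  rw [← strMap_res g h]
  rfl

lemma eq_toSpecΓ_comp : g = X.toSpecΓ ≫ Spec.map ((Scheme.ΓSpecIso (CommRingCat.of C)).inv ≫ g.appTop) := by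
  rw [Spec.map_comp, ← Scheme.toSpecΓ_naturality_assoc, toSpecΓ_SpecMap_ΓSpecIso_inv, Category.comp_id]

lemma fromSpec_comp {U : X.Opens} (hU : IsAffineOpen U) :
    hU.fromSpec ≫ g = Spec.map (strMap g U) := by
  conv_lhs => rw [eq_toSpecΓ_comp g]
  rw [hU.fromSpec_toSpecΓ_assoc, ← Spec.map_comp]
  simp only [strMap, Category.assoc]

variable {g i f₀}

lemma isClosedImmersion_of_isPullback
    (hsq : IsPullback i f₀ g
      (Spec.map (CommRingCat.ofHom (Ideal.Quotient.mk (IsLocalRing.maximalIdeal C))))) :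
    IsClosedImmersion i :=
  MorphismProperty.of_isPullback (P := @IsClosedImmersion) hsq.flip
    (IsClosedImmersion.spec_of_surjective _ Ideal.Quotient.mk_surjective)

lemma sq_Γ (hsq : IsPullback i f₀ g
      (Spec.map (CommRingCat.ofHom (Ideal.Quotient.mk (IsLocalRing.maximalIdeal C))))) :
    (Scheme.ΓSpecIso (CommRingCat.of C)).inv ≫ g.appTop ≫ i.appTop =
      CommRingCat.ofHom (Ideal.Quotient.mk (IsLocalRing.maximalIdeal C)) ≫
        (Scheme.ΓSpecIso _).inv ≫ f₀.appTop := by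
  rw [← Scheme.Hom.comp_appTop, hsq.w, Scheme.Hom.comp_appTop, Scheme.ΓSpecIso_inv_naturality_assoc]

lemma strMap_app (hsq : IsPullback i f₀ g
      (Spec.map (CommRingCat.ofHom (Ideal.Quotient.mk (IsLocalRing.maximalIdeal C)))))
    (U : X.Opens) :
    strMap g U ≫ i.app U = CommRingCat.ofHom (Ideal.Quotient.mk (IsLocalRing.maximalIdeal C)) ≫
        (Scheme.ΓSpecIso _).inv ≫ f₀.appTop ≫ X₀.presheaf.map (homOfLE le_top).op := by
  have := congrArg (· ≫ X₀.presheaf.map (homOfLE (le_top : i ⁻¹ᵁ U ≤ ⊤)).op) (sq_Γ hsq)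
  simp only [Category.assoc] at this
  simp only [strMap, Category.assoc]
  rw [Scheme.Hom.naturality]
  exact this

lemma app_strMap_eq_zero (hsq : IsPullback i f₀ g
      (Spec.map (CommRingCat.ofHom (Ideal.Quotient.mk (IsLocalRing.maximalIdeal C)))))
    (U : X.Opens) (c : C) (hc : c ∈ IsLocalRing.maximalIdeal C) :
    i.app U (strMap g U c) = 0 := by
  have h := strMap_app hsq U
  have h2 := congrArg (fun φ => φ.hom c) h
  simp only [CommRingCat.hom_comp, RingHom.coe_comp, Function.comp_apply, CommRingCat.hom_ofHom] at h2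
  rw [h2, Ideal.Quotient.eq_zero_iff_mem.mpr hc, map_zero, map_zero, map_zero]

lemma app_eq_zero_of_mem_map (hsq : IsPullback i f₀ g
      (Spec.map (CommRingCat.ofHom (Ideal.Quotient.mk (IsLocalRing.maximalIdeal C)))))
    (U : X.Opens) (b : Γ(X, U)) (hb : b ∈ (IsLocalRing.maximalIdeal C).map (strMap g U).hom) :
    i.app U b = 0 := by
  have : (IsLocalRing.maximalIdeal C).map (strMap g U).hom ≤ RingHom.ker (i.app U).hom := by
    rw [Ideal.map_le_iff_le_comap]
    intro c hc
    exact app_strMap_eq_zero hsq U c hc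
  exact this hb

/-- sections of `Spec.map q ≫ fromSpec` over `U`. -/
lemma fromSpec_appLE_apply {U : X.Opens} (hU : IsAffineOpen U) {R : CommRingCat.{u}}
    (q : Γ(X, U) ⟶ R) (e : (⊤ : (Spec R).Opens) ≤ (Spec.map q ≫ hU.fromSpec) ⁻¹ᵁ U) :
    (Spec.map q ≫ hU.fromSpec).appLE U ⊤ e = q ≫ (Scheme.ΓSpecIso R).inv := by
  rw [Scheme.Hom.comp_appLE, hU.fromSpec_app_self, Category.assoc, Scheme.Hom.map_appLE,
    Scheme.ΓSpecIso_inv_naturality]
  congr 1

lemma mem_map_of_app_eq_zero (hsq : IsPullback i f₀ g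
      (Spec.map (CommRingCat.ofHom (Ideal.Quotient.mk (IsLocalRing.maximalIdeal C)))))
    {U : X.Opens} (hU : IsAffineOpen U) (b : Γ(X, U)) (hb : i.app U b = 0) :
    b ∈ (IsLocalRing.maximalIdeal C).map (strMap g U).hom := by
  set 𝔞 := (IsLocalRing.maximalIdeal C).map (strMap g U).hom with h𝔞
  let q : Γ(X, U) ⟶ CommRingCat.of (Γ(X, U) ⧸ 𝔞) := CommRingCat.ofHom (Ideal.Quotient.mk 𝔞)
  let κ : C ⧸ IsLocalRing.maximalIdeal C →+* Γ(X, U) ⧸ 𝔞 :=
    Ideal.quotientMap 𝔞 (strMap g U).hom Ideal.le_comap_map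
  have comm : (Spec.map q ≫ hU.fromSpec) ≫ g = Spec.map (CommRingCat.ofHom κ) ≫
      Spec.map (CommRingCat.ofHom (Ideal.Quotient.mk (IsLocalRing.maximalIdeal C))) := by
    rw [Category.assoc, fromSpec_comp g hU, ← Spec.map_comp, ← Spec.map_comp]
    congr 1
  have hl : hsq.lift _ _ comm ≫ i = Spec.map q ≫ hU.fromSpec := hsq.lift_fst _ _ comm
  have key : ∀ (j : Spec (CommRingCat.of (Γ(X, U) ⧸ 𝔞)) ⟶ X) (l : Spec (CommRingCat.of (Γ(X, U) ⧸ 𝔞)) ⟶ X₀)
      (_ : l ≫ i = j) (e : (⊤ : (Spec _).Opens) ≤ j ⁻¹ᵁ U), j.appLE U ⊤ e b = 0 := by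
    rintro _ l rfl e
    rw [Scheme.Hom.comp_appLE]
    simp only [CommRingCat.hom_comp, RingHom.coe_comp, Function.comp_apply]
    rw [hb, map_zero]
  have e : (⊤ : (Spec (CommRingCat.of (Γ(X, U) ⧸ 𝔞))).Opens) ≤ (Spec.map q ≫ hU.fromSpec) ⁻¹ᵁ U := by
    rw [Scheme.Hom.comp_preimage, hU.fromSpec_preimage_self]
    exact le_rfl
  have h1 := key _ _ hl e
  rw [fromSpec_appLE_apply hU q e] at h1
  simp only [CommRingCat.hom_comp, RingHom.coe_comp, Function.comp_apply] at h1
  have hinj : Function.Injective (Scheme.ΓSpecIso (CommRingCat.of (Γ(X, U) ⧸ 𝔞))).inv.hom :=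
    (ConcreteCategory.bijective_of_isIso (Scheme.ΓSpecIso (CommRingCat.of (Γ(X, U) ⧸ 𝔞))).inv).1
  have h2 : q.hom b = 0 := hinj (by rw [h1, map_zero])
  exact Ideal.Quotient.eq_zero_iff_mem.mp h2




/-- Local equality of sections, tested on preimages of affine opens. -/
lemma eq_of_forall_affine_preimage (i : X₀ ⟶ X) (V₀ : X₀.Opens) (s t : Γ(X₀, V₀))
    (h : ∀ x ∈ V₀, ∃ (W : X.affineOpens) (hW : i ⁻¹ᵁ W.1 ≤ V₀), i x ∈ W.1 ∧
      X₀.presheaf.map (homOfLE hW).op s = X₀.presheaf.map (homOfLE hW).op t) : s = t := by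
  choose W hW hxW hst using h
  refine X₀.sheaf.eq_of_locally_eq' (fun x : V₀ => i ⁻¹ᵁ (W x.1 x.2).1) V₀
    (fun x => homOfLE (hW x.1 x.2)) ?_ s t (fun x => hst x.1 x.2)
  intro x hx
  exact Opens.mem_iSup.mpr ⟨⟨x, hx⟩, hxW x hx⟩

/-- A section vanishing on all affine opens vanishes. -/
lemma eq_zero_of_forall_affine (s : Γ(X, ⊤))
    (h : ∀ U : X.affineOpens, X.presheaf.map (homOfLE (le_top : U.1 ≤ ⊤)).op s = 0) : s = 0 := by
  refine X.sheaf.eq_of_locally_eq' (fun U : X.affineOpens => U.1) ⊤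
    (fun U => homOfLE le_top) ?_ s 0 (fun U => ?_)
  · intro x _
    obtain ⟨U, hU, hxU, -⟩ := Opens.isBasis_iff_nbhd.mp X.isBasis_affineOpens (Opens.mem_top x)
    exact Opens.mem_iSup.mpr ⟨⟨U, hU⟩, hxU⟩
  · rw [map_zero]
    exact h U

/-- Gluing of sections over preimages of affine opens. -/
lemma glue_affine (i : X₀ ⟶ X) (t : ∀ U : X.affineOpens, Γ(X₀, i ⁻¹ᵁ U.1))
    (ht : ∀ (U V : X.affineOpens) (h : V.1 ≤ U.1),
      X₀.presheaf.map (homOfLE (i.preimage_mono h)).op (t U) = t V) :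
    ∃ t₀ : Γ(X₀, ⊤), ∀ U : X.affineOpens,
      X₀.presheaf.map (homOfLE (le_top : i ⁻¹ᵁ U.1 ≤ ⊤)).op t₀ = t U := by
  have hcompat : TopCat.Presheaf.IsCompatible X₀.sheaf.1 (fun U : X.affineOpens => i ⁻¹ᵁ U.1) t := by
    intro U U'
    refine eq_of_forall_affine_preimage i _ _ _ ?_
    intro x hx
    have hx' : i x ∈ U.1 ⊓ U'.1 := hx
    obtain ⟨W, hW, hxW, hWU⟩ := Opens.isBasis_iff_nbhd.mp X.isBasis_affineOpens hx'
    have hWU1 : W ≤ U.1 := hWU.trans inf_le_left
    have hWU2 : W ≤ U'.1 := hWU.trans inf_le_right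
    refine ⟨⟨W, hW⟩, ?_, hxW, ?_⟩
    · exact le_inf (i.preimage_mono hWU1) (i.preimage_mono hWU2)
    · have h1 := ht U ⟨W, hW⟩ hWU1
      have h2 := ht U' ⟨W, hW⟩ hWU2
      have hW' : i ⁻¹ᵁ W ≤ i ⁻¹ᵁ U.1 ⊓ i ⁻¹ᵁ U'.1 :=
        le_inf (i.preimage_mono hWU1) (i.preimage_mono hWU2)
      have e1 : X₀.presheaf.map (homOfLE hW').op
          (X₀.presheaf.map (Opens.infLELeft (i ⁻¹ᵁ U.1) (i ⁻¹ᵁ U'.1)).op (t U)) =
          X₀.presheaf.map (homOfLE (i.preimage_mono hWU1)).op (t U) := by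
        rw [← ConcreteCategory.comp_apply, ← Functor.map_comp]
        rfl
      have e2 : X₀.presheaf.map (homOfLE hW').op
          (X₀.presheaf.map (Opens.infLERight (i ⁻¹ᵁ U.1) (i ⁻¹ᵁ U'.1)).op (t U')) =
          X₀.presheaf.map (homOfLE (i.preimage_mono hWU2)).op (t U') := by
        rw [← ConcreteCategory.comp_apply, ← Functor.map_comp]
        rfl
      exact (e1.trans h1).trans (e2.trans h2).symm
  have hcover : (⊤ : X₀.Opens) ≤ ⨆ U : X.affineOpens, i ⁻¹ᵁ U.1 := by
    intro x _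
    obtain ⟨U, hU, hxU, -⟩ := Opens.isBasis_iff_nbhd.mp X.isBasis_affineOpens (Opens.mem_top (i x))
    exact Opens.mem_iSup.mpr ⟨⟨U, hU⟩, hxU⟩
  obtain ⟨t₀, ht₀, -⟩ := X₀.sheaf.existsUnique_gluing' (fun U : X.affineOpens => i ⁻¹ᵁ U.1) ⊤
    (fun U => homOfLE le_top) hcover t hcompat
  exact ⟨t₀, ht₀⟩


end SchemePart

section Main


variable {C : Type u} [CommRing C] [IsLocalRing C]
variable {X X₀ : Scheme.{u}} (g : X ⟶ Spec (CommRingCat.of C)) (i : X₀ ⟶ X)

lemma strMap_apply (U : X.Opens) (c : C) :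
    strMap g U c = X.presheaf.map (homOfLE (le_top : U ≤ ⊤)).op
      (((Scheme.ΓSpecIso (CommRingCat.of C)).inv ≫ g.appTop) c) := rfl

lemma strMap_flat [Flat g] (U : X.affineOpens) : (strMap g U.1).hom.Flat := by
  have h1 : (g.appLE ⊤ U.1 le_top).hom.Flat :=
    HasRingHomProperty.appLE (P := @Flat) g inferInstance ⟨⊤, isAffineOpen_top _⟩ U le_top
  have h2 : (Scheme.ΓSpecIso (CommRingCat.of C)).inv.hom.Flat :=
    RingHom.Flat.of_bijective
      (ConcreteCategory.bijective_of_isIso (Scheme.ΓSpecIso (CommRingCat.of C)).inv)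
  exact RingHom.Flat.comp h2 h1

lemma res_mem_map (J : Ideal C) {U V : X.Opens} (h : V ≤ U) (y : Γ(X, U))
    (hy : y ∈ J.map (strMap g U).hom) :
    X.presheaf.map (homOfLE h).op y ∈ J.map (strMap g V).hom := by
  have : J.map (strMap g V).hom = (J.map (strMap g U).hom).map (X.presheaf.map (homOfLE h).op).hom := by
    rw [Ideal.map_map, ← CommRingCat.hom_comp, strMap_res g h]
  rw [this]
  exact Ideal.mem_map_of_mem _ hy

lemma res_res {U V : X.Opens} (h : V ≤ U) (s : Γ(X, ⊤)) :
    X.presheaf.map (homOfLE h).op (X.presheaf.map (homOfLE (le_top : U ≤ ⊤)).op s) =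
      X.presheaf.map (homOfLE (le_top : V ≤ ⊤)).op s := by
  rw [← ConcreteCategory.comp_apply, ← Functor.map_comp]
  rfl

lemma app_res {U V : X.Opens} (h : V ≤ U) (b : Γ(X, U)) :
    X₀.presheaf.map (homOfLE (i.preimage_mono h)).op (i.app U b) =
      i.app V (X.presheaf.map (homOfLE h).op b) := by
  have := i.naturality (homOfLE h).op
  exact (congrArg (fun φ => φ.hom b) this).symm

lemma mul_mem_map_of_mem_map {B : Type*} [CommRing B] (ψ : C →+* B) (J : Ideal C) (x : C)
    (hmx : ∀ y ∈ IsLocalRing.maximalIdeal C, y * x ∈ J) (y : B)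
    (hy : y ∈ (IsLocalRing.maximalIdeal C).map ψ) : ψ x * y ∈ J.map ψ := by
  have h1 : Ideal.span {x} * IsLocalRing.maximalIdeal C ≤ J := by
    rw [Ideal.span_singleton_mul_le_iff]
    intro z hz
    rw [mul_comm]
    exact hmx z hz
  have h2 := Ideal.map_mono (f := ψ) h1
  rw [Ideal.map_mul, Ideal.map_span, Set.image_singleton] at h2
  exact h2 (Ideal.mul_mem_mul (Ideal.mem_span_singleton_self _) hy)

theorem bijective_of_closedFibre (C : Type u) [CommRing C]
    [IsLocalRing C] [IsArtinianRing C] (X X₀ : Scheme.{u}) (g : X ⟶ Spec (CommRingCat.of C)) [Flat g]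
    (i : X₀ ⟶ X) (f₀ : X₀ ⟶ Spec (CommRingCat.of (C ⧸ IsLocalRing.maximalIdeal C)))
    (hsq : IsPullback i f₀ g
      (Spec.map (CommRingCat.ofHom (Ideal.Quotient.mk (IsLocalRing.maximalIdeal C)))))
    (h0 : Function.Bijective ((Scheme.ΓSpecIso (CommRingCat.of (C ⧸ IsLocalRing.maximalIdeal C))).inv ≫
      f₀.appTop)) :
    Function.Bijective ((Scheme.ΓSpecIso (CommRingCat.of C)).inv ≫ g.appTop) := by
  set m := IsLocalRing.maximalIdeal C with hm
  set φ := (Scheme.ΓSpecIso (CommRingCat.of C)).inv ≫ g.appTop with hφ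
  have hnt : Nontrivial Γ(X₀, ⊤) := by
    have : Nontrivial (C ⧸ m) := Ideal.Quotient.nontrivial_iff.mpr (IsLocalRing.maximalIdeal.isMaximal C).ne_top
    exact h0.injective.nontrivial
  constructor
  · -- injectivity
    have hex : ∃ U : X.affineOpens, m.map (strMap g U.1).hom ≠ ⊤ := by
      by_contra hall
      push Not at hall
      have h10 : (1 : Γ(X₀, ⊤)) = 0 := by
        refine eq_of_forall_affine_preimage i ⊤ 1 0 ?_
        intro x _
        obtain ⟨U, hU, hxU, -⟩ := Opens.isBasis_iff_nbhd.mp X.isBasis_affineOpens (Opens.mem_top (i x))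
        refine ⟨⟨U, hU⟩, le_top, hxU, ?_⟩
        rw [map_one, map_zero]
        have := app_eq_zero_of_mem_map hsq U 1 (by rw [hall ⟨U, hU⟩]; trivial)
        rwa [map_one] at this
      exact one_ne_zero h10
    obtain ⟨U, hU⟩ := hex
    have hinj := injective_of_flat_of_map_ne_top _ (strMap_flat g U) hU
    intro c c' hcc
    apply hinj
    show strMap g U.1 c = strMap g U.1 c'
    rw [strMap_apply, strMap_apply]
    exact congrArg _ hcc
  · -- surjectivity
    have hQ := artin_induction (C := C)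
      (fun J => ∀ s : Γ(X, ⊤), ∃ c : C, ∀ U : X.affineOpens,
        X.presheaf.map (homOfLE (le_top : U.1 ≤ ⊤)).op (s - φ c) ∈ J.map (strMap g U.1).hom) ?_ ?_ ⊥
    · intro s
      obtain ⟨c, hc⟩ := hQ s
      refine ⟨c, ?_⟩
      have : s - φ c = 0 := by
        refine eq_zero_of_forall_affine _ (fun U => ?_)
        have := hc U
        rwa [Ideal.map_bot, Ideal.mem_bot] at this
      exact (sub_eq_zero.mp this).symm
    · intro s
      refine ⟨0, fun U => ?_⟩
      rw [Ideal.map_top]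
      trivial
    · intro J x hxJ hmx hJx s
      obtain ⟨c₁, h₁⟩ := hJx s
      set s₁ := s - φ c₁ with hs₁
      have hb : ∀ U : X.affineOpens, ∃ b : Γ(X, U.1),
          X.presheaf.map (homOfLE (le_top : U.1 ≤ ⊤)).op s₁ - (strMap g U.1) x * b ∈
            J.map (strMap g U.1).hom := by
        intro U
        have h := h₁ U
        rw [Ideal.map_sup, Ideal.map_span, Set.image_singleton] at h
        obtain ⟨y, hy, z, hz, hyz⟩ := Submodule.mem_sup.mp h
        obtain ⟨a, rfl⟩ := Ideal.mem_span_singleton'.mp hz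
        refine ⟨a, ?_⟩
        rw [← hyz]
        have : y + a * (strMap g U.1).hom x - (strMap g U.1) x * a = y := by
          show y + a * (strMap g U.1) x - (strMap g U.1) x * a = y
          ring
        rw [this]
        exact hy
      choose b hb using hb
      -- compatibility
      have ht : ∀ (U V : X.affineOpens) (h : V.1 ≤ U.1),
          X₀.presheaf.map (homOfLE (i.preimage_mono h)).op (i.app U.1 (b U)) = i.app V.1 (b V) := by
        intro U V h
        rw [app_res i h]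
        rw [← sub_eq_zero, ← map_sub]
        apply app_eq_zero_of_mem_map hsq
        apply mem_map_maximalIdeal_of_mul_mem _ (strMap_flat g V) J x hxJ hmx
        have e1 := res_mem_map g J h _ (hb U)
        rw [map_sub, map_mul, res_res, strMap_res_apply] at e1
        have e2 := hb V
        have : (strMap g V.1).hom x * (X.presheaf.map (homOfLE h).op (b U) - b V) =
            (X.presheaf.map (homOfLE (le_top : V.1 ≤ ⊤)).op s₁ - (strMap g V.1) x * b V) -
            (X.presheaf.map (homOfLE (le_top : V.1 ≤ ⊤)).op s₁ -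
              (strMap g V.1) x * X.presheaf.map (homOfLE h).op (b U)) := by
          show (strMap g V.1) x * (X.presheaf.map (homOfLE h).op (b U) - b V) = _
          ring
        rw [this]
        exact Ideal.sub_mem _ e2 e1
      obtain ⟨t₀, ht₀⟩ := glue_affine i (fun U => i.app U.1 (b U)) ht
      obtain ⟨cbar, hcbar⟩ := h0.surjective t₀
      obtain ⟨c₂, rfl⟩ := Ideal.Quotient.mk_surjective cbar
      have ht₀' : i.appTop (φ c₂) = t₀ := by
        rw [← hcbar]
        have := congrArg (fun ψ => ψ.hom c₂) (sq_Γ hsq)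
        exact this
      refine ⟨c₁ + x * c₂, fun U => ?_⟩
      have hU1 : i.app U.1 (b U - strMap g U.1 c₂) = 0 := by
        rw [map_sub, sub_eq_zero, strMap_apply, ← app_res i (le_top : U.1 ≤ ⊤)]
        rw [← ht₀ U, ← ht₀']
        rfl
      have hU2 := mem_map_of_app_eq_zero hsq U.2 _ hU1
      have hU3 := mul_mem_map_of_mem_map (strMap g U.1).hom J x hmx _ hU2
      have : X.presheaf.map (homOfLE (le_top : U.1 ≤ ⊤)).op (s - φ (c₁ + x * c₂)) =
          (X.presheaf.map (homOfLE (le_top : U.1 ≤ ⊤)).op s₁ - (strMap g U.1) x * b U) +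
          (strMap g U.1).hom x * (b U - strMap g U.1 c₂) := by
        have e3 : s - φ (c₁ + x * c₂) = s₁ - φ x * φ c₂ := by
          rw [hs₁, map_add, map_mul]; ring
        rw [e3, map_sub, map_mul]
        show _ - strMap g U.1 x * strMap g U.1 c₂ = _ + strMap g U.1 x * _
        ring
      rw [this]
      exact Ideal.add_mem _ (hb U) hU3


end Main

end Groth.Agent.Lib.Helper28ArtinH0
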