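import Mathlib
import Groth.Agent.Lib.Helper28Depth
import Groth.Agent.Lib.Helper28DepthLoc

/-!
# Buchsbaum–Eisenbud, part 1: the Peskine–Szpiro acyclicity lemma (helper28)

Module-theoretic step lemma, the descent along a complex of matrices, and the clearing of
denominators needed to pass from exactness of localized complexes to torsion statements.
-/

set_option autoImplicit false

universe u

namespace Groth.Agent.Lib.Helper28.BE

open RingTheory.Sequence IsLocalRing

section Local

variable {R : Type u} [CommRing R] [IsLocalRing R] [IsNoetherianRing R]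

/-- A finite module of depth `≥ 1` over a Noetherian local ring has no `m`-power torsion. -/
theorem eq_zero_of_pow_smul_of_extVanish {Q : Type u} [AddCommGroup Q] [Module R Q]
    [Module.Finite R Q] (hQ : ExtVanish (maximalIdeal R) Q 1) (y : Q) (N : ℕ)
    (hy : ∀ a ∈ maximalIdeal R ^ N, a • y = 0) : y = 0 := by
  rcases subsingleton_or_nontrivial Q with hs | hn
  · exact Subsingleton.elim _ _
  · have h := maximalIdeal_smul_top_ne_top (R := R) (M := Q)
    have h1 : ((1 : ℕ) : ℕ∞) ≤ LocCoh.idealDepth (maximalIdeal R) Q :=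
      (natCast_le_idealDepth_iff_extVanish (maximalIdeal R) Q 1).mpr hQ
    obtain ⟨rs, hlen, hmem, hreg⟩ := (natCast_le_idealDepth_iff h 1).mp h1
    obtain ⟨x, rfl⟩ := List.length_eq_one_iff.mp hlen
    have hx : IsSMulRegular Q x := by
      have := hreg.toIsWeaklyRegular
      rw [isWeaklyRegular_cons_iff] at this
      exact this.1
    have hxm : x ∈ maximalIdeal R := hmem x (by simp)
    have hxN : x ^ N • y = 0 := hy _ (Ideal.pow_mem_pow hxm N)
    have h0 : x ^ N • y = x ^ N • (0 : Q) := by rw [hxN, smul_zero]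
    exact (hx.pow N) h0

/-- The step of the acyclicity lemma. -/
theorem acyclic_step {F G Q : Type u} [AddCommGroup F] [Module R F] [AddCommGroup G] [Module R G]
    [AddCommGroup Q] [Module R Q] [Module.Finite R Q]
    (φ : F →ₗ[R] G) (π : F →ₗ[R] Q) (hπ : Function.Surjective π)
    (hle : LinearMap.ker π ≤ LinearMap.ker φ)
    (i : ℕ) (hi : 1 ≤ i) (hQ : ExtVanish (maximalIdeal R) Q i)
    (htors : ∀ x ∈ LinearMap.ker φ, ∃ N, ∀ a ∈ maximalIdeal R ^ N, a • x ∈ LinearMap.ker π)
    (hG : ExtVanish (maximalIdeal R) G (i - 1)) :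
    LinearMap.ker φ = LinearMap.ker π ∧
      ExtVanish (maximalIdeal R) (G ⧸ LinearMap.range φ) (i - 1) := by
  have hker : LinearMap.ker φ = LinearMap.ker π := by
    refine le_antisymm (fun x hx => ?_) hle
    obtain ⟨N, hN⟩ := htors x hx
    rw [LinearMap.mem_ker]
    refine eq_zero_of_pow_smul_of_extVanish (hQ.mono hi) (π x) N (fun a ha => ?_)
    rw [← map_smul]
    exact hN a ha
  refine ⟨hker, ?_⟩
  -- the induced injection `Q → G`
  let ψ : Q →ₗ[R] G :=
    ((LinearMap.ker π).liftQ φ hle) ∘ₗ (π.quotKerEquivOfSurjective hπ).symm.toLinearMap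
  have hψπ : ∀ x, ψ (π x) = φ x := by
    intro x
    have : (π.quotKerEquivOfSurjective hπ).symm (π x) = Submodule.Quotient.mk x := by
      rw [LinearEquiv.symm_apply_eq]
      rfl
    simp only [ψ, LinearMap.coe_comp, LinearEquiv.coe_coe, Function.comp_apply, this,
      Submodule.liftQ_apply]
  have hψinj : Function.Injective ψ := by
    rw [← LinearMap.ker_eq_bot, LinearMap.ker_eq_bot']
    intro q hq
    obtain ⟨x, rfl⟩ := hπ q
    rw [hψπ] at hq
    have : x ∈ LinearMap.ker π := hker ▸ (LinearMap.mem_ker.mpr hq)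
    exact this
  have hrange : ∀ y, y ∈ LinearMap.range φ ↔ y ∈ Set.range ψ := by
    intro y
    constructor
    · rintro ⟨x, rfl⟩
      exact ⟨π x, hψπ x⟩
    · rintro ⟨q, rfl⟩
      obtain ⟨x, rfl⟩ := hπ q
      exact ⟨x, (hψπ x).symm⟩
  have hex : Function.Exact ψ (LinearMap.range φ).mkQ := by
    intro y
    rw [Submodule.mkQ_apply, Submodule.Quotient.mk_eq_zero]
    exact hrange y
  have hQ' : ExtVanish (maximalIdeal R) Q (i - 1 + 1) := by
    rwa [Nat.sub_add_cancel hi]
  exact extVanish_right (maximalIdeal R) ψ (LinearMap.range φ).mkQ hψinj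
    (Submodule.mkQ_surjective _) hex (i - 1) hG hQ'

/-- From "`(B : x)` is contained in no prime other than the maximal ideal" to `m`-power torsion. -/
theorem exists_pow_smul_mem_of_forall_prime {M : Type u} [AddCommGroup M] [Module R M]
    (B : Submodule R M) (x : M)
    (h : ∀ (p : Ideal R) [p.IsPrime], p ≠ maximalIdeal R → ∃ a, a ∉ p ∧ a • x ∈ B) :
    ∃ N, ∀ a ∈ maximalIdeal R ^ N, a • x ∈ B := by
  set J : Ideal R := B.colon ({x} : Set M) with hJ
  have hmem : ∀ a, a ∈ J ↔ a • x ∈ B := fun a => Submodule.mem_colon_singleton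
  have hrad : maximalIdeal R ≤ J.radical := by
    rw [Ideal.radical_eq_sInf]
    refine le_sInf ?_
    rintro p ⟨hJp, hp⟩
    by_cases hpm : p = maximalIdeal R
    · rw [hpm]
    · exfalso
      obtain ⟨a, hap, hax⟩ := h p hpm
      exact hap (hJp ((hmem a).mpr hax))
  obtain ⟨N, hN⟩ := Ideal.exists_pow_le_of_le_radical_of_fg hrad
    (IsNoetherian.noetherian (maximalIdeal R))
  exact ⟨N, fun a ha => (hmem a).mp (hN ha)⟩

end Local

section Denominators

variable {R : Type u} [CommRing R]

/-- Clearing denominators: if the image of `x` lies in the range of the localized matrix, then a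
multiple `s • x`, `s ∉ p`, lies in the range of the matrix. -/
theorem exists_smul_mem_range_of_map {a b : ℕ} (p : Ideal R) [p.IsPrime]
    (A : Matrix (Fin a) (Fin b) R) (x : Fin a → R)
    (hx : (algebraMap R (Localization.AtPrime p)) ∘ x ∈
      LinearMap.range ((A.map (algebraMap R (Localization.AtPrime p))).mulVecLin)) :
    ∃ s, s ∉ p ∧ s • x ∈ LinearMap.range A.mulVecLin := by
  classical
  obtain ⟨y, hy⟩ := hx
  obtain ⟨d, hd⟩ := IsLocalization.exist_integer_multiples_of_finite p.primeCompl y
  choose y' hy' using hd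
  -- `f ∘ (A *ᵥ y') = f ∘ (d • x)`
  have hcoord : ∀ k, algebraMap R (Localization.AtPrime p) ((A.mulVec y') k) =
      algebraMap R (Localization.AtPrime p) ((d : R) * x k) := by
    intro k
    rw [RingHom.map_mulVec]
    have h1 : (algebraMap R (Localization.AtPrime p)) ∘ y' = (d : R) • y := by
      funext j
      simp only [Function.comp_apply, Pi.smul_apply]
      exact hy' j
    rw [h1, Matrix.mulVec_smul]
    have h2 : (A.map (algebraMap R (Localization.AtPrime p))).mulVec y =
        (algebraMap R (Localization.AtPrime p)) ∘ x := hy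
    rw [h2]
    simp only [Pi.smul_apply, Function.comp_apply, map_mul, Algebra.smul_def]
  have hex : ∀ k, ∃ t : p.primeCompl, (t : R) * (A.mulVec y') k = (t : R) * ((d : R) * x k) :=
    fun k => (IsLocalization.eq_iff_exists p.primeCompl (Localization.AtPrime p)).mp (hcoord k)
  choose t ht using hex
  set T : p.primeCompl := ∏ k, t k with hT
  have hTk : ∀ k, (T : R) * (A.mulVec y') k = (T : R) * ((d : R) * x k) := by
    intro k
    have hdvd : (t k : R) ∣ (T : R) := by
      rw [hT, Submonoid.coe_finsetProd]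
      exact Finset.dvd_prod_of_mem _ (Finset.mem_univ k)
    obtain ⟨c, hc⟩ := hdvd
    rw [hc, mul_comm (t k : R) c, mul_assoc, ht k, mul_assoc]
  refine ⟨(T : R) * (d : R), (T * d).2, ?_⟩
  refine ⟨(T : R) • y', ?_⟩
  funext k
  simp only [Matrix.mulVecLin_apply, Matrix.mulVec_smul, Pi.smul_apply, smul_eq_mul]
  rw [hTk k, mul_assoc]

/-- Clearing denominators, kernel version. -/
theorem exists_smul_eq_zero_of_map {a : ℕ} (p : Ideal R) [p.IsPrime] (x : Fin a → R)
    (hx : (algebraMap R (Localization.AtPrime p)) ∘ x = 0) :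
    ∃ s, s ∉ p ∧ s • x = 0 := by
  classical
  have hex : ∀ k, ∃ t : p.primeCompl, (t : R) * x k = 0 := by
    intro k
    have h0 : algebraMap R (Localization.AtPrime p) (x k) = algebraMap R (Localization.AtPrime p) 0 := by
      rw [map_zero]
      exact congrFun hx k
    obtain ⟨t, ht⟩ := (IsLocalization.eq_iff_exists p.primeCompl (Localization.AtPrime p)).mp h0
    exact ⟨t, by rw [ht, mul_zero]⟩
  choose t ht using hex
  set T : p.primeCompl := ∏ k, t k with hT
  refine ⟨(T : R), T.2, ?_⟩
  funext k
  have hdvd : (t k : R) ∣ (T : R) := by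
    rw [hT, Submonoid.coe_finsetProd]
    exact Finset.dvd_prod_of_mem _ (Finset.mem_univ k)
  obtain ⟨c, hc⟩ := hdvd
  simp only [Pi.smul_apply, smul_eq_mul, Pi.zero_apply]
  rw [hc, mul_comm (t k : R) c, mul_assoc, ht k, mul_zero]

end Denominators

end Groth.Agent.Lib.Helper28.BE
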