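import Mathlib
import Groth.Agent.Lib.Helper28BE1

/-!
# Buchsbaum–Eisenbud, part 2: descent along a complex of matrices (helper28)
-/

set_option autoImplicit false

universe u

namespace Groth.Agent.Lib.Helper28.BE

open RingTheory.Sequence IsLocalRing

section Defs

variable {R : Type u} [CommRing R]

/-- The "boundaries" in degree `i` of the complex `0 → R^(n_e) → ⋯ → R^(n_0)`:
the range of `A i` for `i < e`, and `0` for `i ≥ e`. -/
noncomputable def Bsub (e : ℕ) {n : ℕ → ℕ} (A : (i : ℕ) → Matrix (Fin (n i)) (Fin (n (i + 1))) R)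
    (i : ℕ) : Submodule R (Fin (n i) → R) :=
  if i < e then LinearMap.range (A i).mulVecLin else ⊥

theorem Bsub_of_lt {e : ℕ} {n : ℕ → ℕ} (A : (i : ℕ) → Matrix (Fin (n i)) (Fin (n (i + 1))) R)
    {i : ℕ} (h : i < e) : Bsub e A i = LinearMap.range (A i).mulVecLin := by
  unfold Bsub
  rw [if_pos h]

theorem Bsub_of_not_lt {e : ℕ} {n : ℕ → ℕ} (A : (i : ℕ) → Matrix (Fin (n i)) (Fin (n (i + 1))) R)
    {i : ℕ} (h : ¬ i < e) : Bsub e A i = ⊥ := by
  unfold Bsub
  rw [if_neg h]

theorem Bsub_succ_le_ker {e : ℕ} {n : ℕ → ℕ}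
    (A : (i : ℕ) → Matrix (Fin (n i)) (Fin (n (i + 1))) R)
    (hA : ∀ i, i + 2 ≤ e → A i * A (i + 1) = 0) (k : ℕ) :
    Bsub e A (k + 1) ≤ LinearMap.ker (A k).mulVecLin := by
  by_cases h : k + 1 < e
  · rw [Bsub_of_lt A h]
    rintro _ ⟨v, rfl⟩
    rw [LinearMap.mem_ker, Matrix.mulVecLin_apply, Matrix.mulVecLin_apply, Matrix.mulVec_mulVec,
      hA k (by omega), Matrix.zero_mulVec]
  · rw [Bsub_of_not_lt A h]
    exact bot_le

/-- The exactness statement in terms of `Bsub`. -/
theorem exact_of_forall_ker_eq_Bsub {e : ℕ} (he : 1 ≤ e) {n : ℕ → ℕ}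
    (A : (i : ℕ) → Matrix (Fin (n i)) (Fin (n (i + 1))) R)
    (h : ∀ k, k < e → LinearMap.ker (A k).mulVecLin = Bsub e A (k + 1)) :
    LinearMap.ker (A (e - 1)).mulVecLin = ⊥ ∧
      ∀ i, i + 2 ≤ e → LinearMap.ker (A i).mulVecLin = LinearMap.range (A (i + 1)).mulVecLin := by
  constructor
  · rw [h (e - 1) (by omega), Bsub_of_not_lt A (by omega)]
  · intro i hi
    rw [h i (by omega), Bsub_of_lt A (by omega)]

theorem forall_ker_eq_Bsub_of_exact {e : ℕ} (he : 1 ≤ e) {n : ℕ → ℕ}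
    (A : (i : ℕ) → Matrix (Fin (n i)) (Fin (n (i + 1))) R)
    (h : LinearMap.ker (A (e - 1)).mulVecLin = ⊥ ∧
      ∀ i, i + 2 ≤ e → LinearMap.ker (A i).mulVecLin = LinearMap.range (A (i + 1)).mulVecLin) :
    ∀ k, k < e → LinearMap.ker (A k).mulVecLin = Bsub e A (k + 1) := by
  intro k hk
  by_cases hk' : k + 1 < e
  · rw [Bsub_of_lt A hk', h.2 k (by omega)]
  · rw [Bsub_of_not_lt A hk']
    obtain rfl : e = k + 1 := by omega
    exact h.1

end Defs

section ExtVanishEquiv

variable {R : Type u} [CommRing R]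

theorem extVanish_of_linearEquiv {I : Ideal R} {M M' : Type u} [AddCommGroup M] [Module R M]
    [AddCommGroup M'] [Module R M'] (e : M ≃ₗ[R] M') {n : ℕ} (h : ExtVanish I M n) :
    ExtVanish I M' n := fun i hi =>
  subsingleton_ext_of_iso_right e.toModuleIso i (h i hi)

end ExtVanishEquiv

section Descend

variable {R : Type u} [CommRing R] [IsLocalRing R] [IsNoetherianRing R]

/-- The acyclicity descent: starting from depth information at level `s`, exactness at levels
`< s` follows from torsion of the homology. -/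
theorem descend (e : ℕ) {n : ℕ → ℕ} (A : (i : ℕ) → Matrix (Fin (n i)) (Fin (n (i + 1))) R)
    (hA : ∀ i, i + 2 ≤ e → A i * A (i + 1) = 0) (s : ℕ) (hse : s ≤ e)
    (hR : ∀ j, ExtVanish (maximalIdeal R) (Fin j → R) s)
    (htors : ∀ k, k < s → ∀ x ∈ LinearMap.ker (A k).mulVecLin,
      ∃ N, ∀ a ∈ maximalIdeal R ^ N, a • x ∈ Bsub e A (k + 1))
    (htop : ExtVanish (maximalIdeal R) ((Fin (n s) → R) ⧸ Bsub e A s) s) :
    ∀ k, k < s → LinearMap.ker (A k).mulVecLin = Bsub e A (k + 1) := by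
  -- the step
  have step : ∀ k, k < s →
      ExtVanish (maximalIdeal R) ((Fin (n (k + 1)) → R) ⧸ Bsub e A (k + 1)) (k + 1) →
      LinearMap.ker (A k).mulVecLin = Bsub e A (k + 1) ∧
        ExtVanish (maximalIdeal R) ((Fin (n k) → R) ⧸ Bsub e A k) k := by
    intro k hk hQ
    have hle : LinearMap.ker (Bsub e A (k + 1)).mkQ ≤ LinearMap.ker (A k).mulVecLin := by
      rw [Submodule.ker_mkQ]
      exact Bsub_succ_le_ker A hA k
    have hstep := acyclic_step (A k).mulVecLin (Bsub e A (k + 1)).mkQ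
      (Submodule.mkQ_surjective _) hle (k + 1) (by omega) hQ
      (by
        intro x hx
        obtain ⟨N, hN⟩ := htors k hk x hx
        refine ⟨N, fun a ha => ?_⟩
        rw [Submodule.ker_mkQ]
        exact hN a ha)
      ((hR (n k)).mono (by omega))
    rw [Submodule.ker_mkQ] at hstep
    refine ⟨hstep.1, ?_⟩
    have hk' : k < e := by omega
    rw [Bsub_of_lt A hk']
    exact hstep.2
  -- downward induction
  have hall : ∀ j (hj : j ≤ s),
      ExtVanish (maximalIdeal R) ((Fin (n j) → R) ⧸ Bsub e A j) j := by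
    intro j hj
    refine Nat.decreasingInduction (motive := fun j _ =>
      ExtVanish (maximalIdeal R) ((Fin (n j) → R) ⧸ Bsub e A j) j) ?_ htop hj
    intro k hk hQ
    exact (step k hk hQ).2
  intro k hk
  exact (step k hk (hall (k + 1) hk)).1

end Descend

end Groth.Agent.Lib.Helper28.BE
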