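import Mathlib
import Groth.Prelude.Def_CAlgX
import Groth.Agent.Lib.Helper13McCoy

/-!
# Buchsbaum–Eisenbud, part 3: minor ideals and ranks of matrices (helper28)
-/

set_option autoImplicit false

universe u

namespace Groth.Agent.Lib.Helper28.BE

open Matrix CAlgX

section Basics

variable {R : Type u} [CommRing R] {a b : ℕ}

theorem det_submatrix_mem_minorIdeal (A : Matrix (Fin a) (Fin b) R) {s : ℕ} (f : Fin s → Fin a)
    (g : Fin s → Fin b) : det (A.submatrix f g) ∈ minorIdeal A s :=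
  Ideal.subset_span ⟨(f, g), rfl⟩

theorem minorIdeal_succ_le (A : Matrix (Fin a) (Fin b) R) (s : ℕ) :
    minorIdeal A (s + 1) ≤ minorIdeal A s := by
  unfold minorIdeal
  rw [Ideal.span_le]
  rintro _ ⟨⟨f, g⟩, rfl⟩
  simp only [SetLike.mem_coe]
  rw [det_succ_row_zero]
  refine Ideal.sum_mem _ fun j _ => Ideal.mul_mem_left _ _ ?_
  refine Ideal.subset_span ⟨(f ∘ Fin.succ, g ∘ j.succAbove), ?_⟩
  rfl

theorem minorIdeal_antitone (A : Matrix (Fin a) (Fin b) R) {s s' : ℕ} (h : s ≤ s') :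
    minorIdeal A s' ≤ minorIdeal A s := by
  induction h with
  | refl => exact le_rfl
  | step _ ih => exact (minorIdeal_succ_le A _).trans ih

theorem minorIdeal_zero (A : Matrix (Fin a) (Fin b) R) : minorIdeal A 0 = ⊤ := by
  rw [Ideal.eq_top_iff_one]
  have := det_submatrix_mem_minorIdeal A (s := 0) Fin.elim0 Fin.elim0
  rwa [det_fin_zero] at this

theorem minorIdeal_map {S : Type u} [CommRing S] (f : R →+* S) (A : Matrix (Fin a) (Fin b) R)
    (r : ℕ) : minorIdeal (A.map f) r = (minorIdeal A r).map f := by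
  unfold minorIdeal
  rw [Ideal.map_span, ← Set.range_comp]
  apply congrArg Ideal.span
  apply congrArg Set.range
  funext fg
  show _ = f (det (A.submatrix fg.1 fg.2))
  rw [RingHom.map_det]
  rfl

theorem bddAbove_rankSet (A : Matrix (Fin a) (Fin b) R) : BddAbove {r : ℕ | minorIdeal A r ≠ ⊥} := by
  refine ⟨b, fun r hr => ?_⟩
  by_contra hlt
  rw [not_le] at hlt
  exact hr (Groth.Agent.Helper13McCoy.minorIdeal_eq_bot_of_lt A r hlt)

theorem minorIdeal_eq_bot_of_matrixRank_lt (A : Matrix (Fin a) (Fin b) R) {r : ℕ}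
    (h : matrixRank A < r) : minorIdeal A r = ⊥ := by
  by_contra hne
  have : r ≤ matrixRank A := le_csSup (bddAbove_rankSet A) hne
  omega

theorem detIdeal_ne_bot [Nontrivial R] (A : Matrix (Fin a) (Fin b) R) : detIdeal A ≠ ⊥ := by
  have hne : {r : ℕ | minorIdeal A r ≠ ⊥}.Nonempty := by
    refine ⟨0, ?_⟩
    show minorIdeal A 0 ≠ ⊥
    rw [minorIdeal_zero]
    exact top_ne_bot
  exact Nat.sSup_mem hne (bddAbove_rankSet A)

theorem matrixRank_le_of_minorIdeal_eq_bot [Nontrivial R] (A : Matrix (Fin a) (Fin b) R) {r : ℕ}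
    (h : minorIdeal A (r + 1) = ⊥) : matrixRank A ≤ r := by
  by_contra hlt
  rw [not_le] at hlt
  have h1 : minorIdeal A (matrixRank A) ≤ minorIdeal A (r + 1) := minorIdeal_antitone A hlt
  rw [h] at h1
  exact detIdeal_ne_bot A (le_bot_iff.mp h1)

theorem le_matrixRank_of_minorIdeal_ne_bot (A : Matrix (Fin a) (Fin b) R) {r : ℕ}
    (h : minorIdeal A r ≠ ⊥) : r ≤ matrixRank A :=
  le_csSup (bddAbove_rankSet A) h

theorem matrixRank_eq_of (A : Matrix (Fin a) (Fin b) R) [Nontrivial R] {r : ℕ}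
    (h1 : minorIdeal A r ≠ ⊥) (h2 : minorIdeal A (r + 1) = ⊥) : matrixRank A = r :=
  le_antisymm (matrixRank_le_of_minorIdeal_eq_bot A h2) (le_matrixRank_of_minorIdeal_ne_bot A h1)

/-- The rank is preserved by a ring map that does not kill the determinantal ideal. -/
theorem matrixRank_map_eq {S : Type u} [CommRing S] [Nontrivial S] (f : R →+* S)
    (A : Matrix (Fin a) (Fin b) R) (hx : ∃ x ∈ detIdeal A, f x ≠ 0) :
    matrixRank (A.map f) = matrixRank A := by
  apply matrixRank_eq_of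
  · rw [minorIdeal_map]
    obtain ⟨x, hxI, hfx⟩ := hx
    intro h
    apply hfx
    have : f x ∈ (minorIdeal A (matrixRank A)).map f := Ideal.mem_map_of_mem f hxI
    rw [h] at this
    exact this
  · rw [minorIdeal_map, minorIdeal_eq_bot_of_matrixRank_lt A (Nat.lt_succ_self _), Ideal.map_bot]

theorem detIdeal_map_eq {S : Type u} [CommRing S] [Nontrivial S] (f : R →+* S)
    (A : Matrix (Fin a) (Fin b) R) (hx : ∃ x ∈ detIdeal A, f x ≠ 0) :
    detIdeal (A.map f) = (detIdeal A).map f := by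
  unfold detIdeal
  rw [matrixRank_map_eq f A hx, minorIdeal_map]

end Basics

end Groth.Agent.Lib.Helper28.BE
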