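import Mathlib
import Groth.Agent.Lib.Helper28BE3

/-!
# Buchsbaum–Eisenbud, part 4: matrices with a unit minor of maximal size (helper28)

If `A` has a unit `r × r` minor and all `(r+1) × (r+1)` minors vanish, then the range of `A` is
free of rank `r` and a direct summand with free complement of rank `a - r`.
-/

set_option autoImplicit false

universe u

namespace Groth.Agent.Lib.Helper28.BE

open Matrix CAlgX

section Split

variable {R : Type u} [CommRing R] {a b : ℕ}

/-- Row dependence: every row is a combination of the rows `f k`. -/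
theorem exists_row_combination (A : Matrix (Fin a) (Fin b) R) {r : ℕ} (f : Fin r → Fin a)
    (g : Fin r → Fin b) (hu : IsUnit (A.submatrix f g).det) (hz : minorIdeal A (r + 1) = ⊥)
    (i : Fin a) : ∃ l : Fin r → R, ∀ c : Fin b, A i c = ∑ k, l k * A (f k) c := by
  classical
  set B : Matrix (Fin r) (Fin r) R := A.submatrix f g with hB
  haveI : Invertible B.det := hu.invertible
  haveI : Invertible B := Matrix.invertibleOfDetInvertible B
  let rowi : Matrix (Fin 1) (Fin r) R := Matrix.of fun _ k => A i (g k)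
  refine ⟨fun k => (rowi * ⅟B) 0 k, fun c => ?_⟩
  let colc : Matrix (Fin r) (Fin 1) R := Matrix.of fun k _ => A (f k) c
  let D : Matrix (Fin 1) (Fin 1) R := Matrix.of fun _ _ => A i c
  have hN : Matrix.fromBlocks B colc rowi D =
      A.submatrix (Sum.elim f (fun _ => i)) (Sum.elim g (fun _ => c)) := by
    ext x y
    rcases x with x | x <;> rcases y with y | y <;> rfl
  have hdet0 : (Matrix.fromBlocks B colc rowi D).det = 0 := by
    rw [hN]
    have h1 : (A.submatrix (Sum.elim f (fun _ : Fin 1 => i)) (Sum.elim g (fun _ : Fin 1 => c))).det =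
        (A.submatrix ((Sum.elim f (fun _ : Fin 1 => i)) ∘ finSumFinEquiv.symm)
          ((Sum.elim g (fun _ : Fin 1 => c)) ∘ finSumFinEquiv.symm)).det := by
      rw [← Matrix.submatrix_submatrix, Matrix.det_submatrix_equiv_self]
    rw [h1]
    have h2 := det_submatrix_mem_minorIdeal A
      ((Sum.elim f (fun _ : Fin 1 => i)) ∘ finSumFinEquiv.symm)
      ((Sum.elim g (fun _ : Fin 1 => c)) ∘ finSumFinEquiv.symm)
    rw [hz, Ideal.mem_bot] at h2
    exact h2
  rw [Matrix.det_fromBlocks₁₁] at hdet0
  have hBu : IsUnit B.det := hu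
  have h3 : (D - rowi * ⅟B * colc).det = 0 := by
    rcases hBu with ⟨u, hu'⟩
    have : (u : R) * (D - rowi * ⅟B * colc).det = 0 := by rw [hu']; exact hdet0
    exact (Units.mul_right_eq_zero u).mp this
  rw [Matrix.det_unique] at h3
  have h4 : A i c = (rowi * ⅟B * colc) 0 0 := by
    have : D 0 0 - (rowi * ⅟B * colc) 0 0 = 0 := h3
    have hD : D 0 0 = A i c := rfl
    rw [hD] at this
    exact sub_eq_zero.mp this
  rw [h4, Matrix.mul_apply]
  rfl

/-- If `A v` vanishes on the rows `f k`, it vanishes. -/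
theorem mulVec_eq_zero_of_rows (A : Matrix (Fin a) (Fin b) R) {r : ℕ} (f : Fin r → Fin a)
    (g : Fin r → Fin b) (hu : IsUnit (A.submatrix f g).det) (hz : minorIdeal A (r + 1) = ⊥)
    (v : Fin b → R) (hv : ∀ k, (A.mulVec v) (f k) = 0) : A.mulVec v = 0 := by
  funext i
  obtain ⟨l, hl⟩ := exists_row_combination A f g hu hz i
  have : (A.mulVec v) i = ∑ k, l k * (A.mulVec v) (f k) := by
    simp only [Matrix.mulVec, dotProduct]
    simp_rw [hl, Finset.sum_mul, Finset.mul_sum]
    rw [Finset.sum_comm]
    refine Finset.sum_congr rfl fun k _ => Finset.sum_congr rfl fun c _ => ?_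
    ring
  rw [this]
  simp [hv]

end Split

end Groth.Agent.Lib.Helper28.BE

namespace Groth.Agent.Lib.Helper28.BE

open Matrix CAlgX

section SplitModules

variable {R : Type u} [CommRing R] {a b : ℕ}

/-- Any prescribed values on the rows `f k` are attained by some `A v`. -/
theorem exists_mulVec_rows_eq (A : Matrix (Fin a) (Fin b) R) {r : ℕ} (f : Fin r → Fin a)
    (g : Fin r → Fin b) (hu : IsUnit (A.submatrix f g).det) (w : Fin r → R) :
    ∃ v : Fin b → R, ∀ j, (A.mulVec v) (f j) = w j := by
  classical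
  set B : Matrix (Fin r) (Fin r) R := A.submatrix f g with hB
  haveI : Invertible B.det := hu.invertible
  haveI : Invertible B := Matrix.invertibleOfDetInvertible B
  let E : Matrix (Fin b) (Fin r) R := Matrix.of fun c k => if g k = c then 1 else 0
  refine ⟨E.mulVec ((⅟B).mulVec w), fun j => ?_⟩
  rw [Matrix.mulVec_mulVec, Matrix.mulVec_mulVec]
  have hAE : ∀ i k, (A * E) i k = A i (g k) := by
    intro i k
    simp only [Matrix.mul_apply, E, Matrix.of_apply, mul_ite, mul_one, mul_zero,
      Finset.sum_ite_eq, Finset.mem_univ, if_true]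
  have h1 : ∀ x : Fin r → R, ((A * E).mulVec x) (f j) = (B.mulVec x) j := by
    intro x
    simp only [Matrix.mulVec, dotProduct, hAE, hB, Matrix.submatrix_apply]
  rw [← Matrix.mulVec_mulVec, h1, Matrix.mulVec_mulVec, mul_invOf_self, Matrix.one_mulVec]

/-- The range of `A` is free of rank `r`, via the projection to the rows `f k`. -/
theorem nonempty_range_equiv (A : Matrix (Fin a) (Fin b) R) {r : ℕ} (f : Fin r → Fin a)
    (g : Fin r → Fin b) (hu : IsUnit (A.submatrix f g).det) (hz : minorIdeal A (r + 1) = ⊥) :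
    Nonempty (LinearMap.range A.mulVecLin ≃ₗ[R] (Fin r → R)) := by
  let π : (Fin a → R) →ₗ[R] (Fin r → R) := LinearMap.funLeft R R f
  refine ⟨LinearEquiv.ofBijective (π ∘ₗ (LinearMap.range A.mulVecLin).subtype) ⟨?_, ?_⟩⟩
  · rw [← LinearMap.ker_eq_bot, LinearMap.ker_eq_bot']
    rintro ⟨x, v, rfl⟩ hx
    ext : 1
    show A.mulVecLin v = 0
    rw [Matrix.mulVecLin_apply]
    apply mulVec_eq_zero_of_rows A f g hu hz v
    intro k
    exact congrFun hx k
  · intro w
    obtain ⟨v, hv⟩ := exists_mulVec_rows_eq A f g hu w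
    refine ⟨⟨A.mulVecLin v, v, rfl⟩, ?_⟩
    funext j
    exact hv j

/-- The kernel of the projection to the coordinates `f k` is free of rank `a - r`. -/
theorem nonempty_ker_funLeft_equiv [Nontrivial R] {r : ℕ} (f : Fin r → Fin a)
    (hf : Function.Injective f) :
    Nonempty (LinearMap.ker (LinearMap.funLeft R R f) ≃ₗ[R] (Fin (a - r) → R)) := by
  classical
  let T := {i : Fin a // i ∉ Set.range f}
  let ρ : LinearMap.ker (LinearMap.funLeft R R f) →ₗ[R] (T → R) :=
    (LinearMap.funLeft R R (Subtype.val : T → Fin a)) ∘ₗ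
      (LinearMap.ker (LinearMap.funLeft R R f)).subtype
  have hρ : Function.Bijective ρ := by
    constructor
    · rw [← LinearMap.ker_eq_bot, LinearMap.ker_eq_bot']
      rintro ⟨x, hx⟩ hx0
      ext i
      show x i = 0
      by_cases hi : i ∈ Set.range f
      · obtain ⟨k, rfl⟩ := hi
        exact congrFun hx k
      · exact congrFun hx0 ⟨i, hi⟩
    · intro u
      refine ⟨⟨fun i => if h : i ∈ Set.range f then 0 else u ⟨i, h⟩, ?_⟩, ?_⟩
      · rw [LinearMap.mem_ker]
        funext k
        show (if h : f k ∈ Set.range f then (0 : R) else u ⟨f k, h⟩) = 0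
        rw [dif_pos ⟨k, rfl⟩]
      · funext t
        show (if h : t.1 ∈ Set.range f then (0 : R) else u ⟨t.1, h⟩) = u t
        rw [dif_neg t.2]
  have hcard : Fintype.card T = a - r := by
    have h1 : Fintype.card T = Fintype.card (Fin a) - Fintype.card {i : Fin a // i ∈ Set.range f} :=
      Fintype.card_subtype_compl _
    rw [h1, Fintype.card_fin]
    congr 1
    have h2 : Fintype.card {i : Fin a // i ∈ Set.range f} = Fintype.card (Fin r) := by
      rw [← Set.card_range_of_injective hf]
    rw [h2, Fintype.card_fin]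
  exact ⟨(LinearEquiv.ofBijective ρ hρ).trans
    (LinearEquiv.funCongrLeft R R (Fintype.equivFinOfCardEq hcard).symm)⟩

/-- The cokernel of `A` is free of rank `a - r`. -/
theorem nonempty_coker_equiv [Nontrivial R] (A : Matrix (Fin a) (Fin b) R) {r : ℕ}
    (f : Fin r → Fin a) (g : Fin r → Fin b) (hu : IsUnit (A.submatrix f g).det)
    (hz : minorIdeal A (r + 1) = ⊥) :
    Nonempty (((Fin a → R) ⧸ LinearMap.range A.mulVecLin) ≃ₗ[R] (Fin (a - r) → R)) := by
  have hf : Function.Injective f := by
    intro k k' hkk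
    by_contra hne
    have : (A.submatrix f g).det = 0 :=
      Matrix.det_zero_of_row_eq hne (by ext c; simp [Matrix.submatrix_apply, hkk])
    rw [this] at hu
    exact not_isUnit_zero hu
  have hcompl : IsCompl (LinearMap.range A.mulVecLin) (LinearMap.ker (LinearMap.funLeft R R f)) := by
    constructor
    · rw [Submodule.disjoint_def]
      rintro x ⟨v, rfl⟩ hx
      rw [Matrix.mulVecLin_apply]
      apply mulVec_eq_zero_of_rows A f g hu hz v
      intro k
      exact congrFun hx k
    · rw [codisjoint_iff, eq_top_iff]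
      intro y _
      obtain ⟨v, hv⟩ := exists_mulVec_rows_eq A f g hu (fun k => y (f k))
      have hdiff : y - A.mulVecLin v ∈ LinearMap.ker (LinearMap.funLeft R R f) := by
        rw [LinearMap.mem_ker]
        funext k
        show (y - A.mulVecLin v) (f k) = 0
        rw [Pi.sub_apply, Matrix.mulVecLin_apply, hv k, sub_self]
      have : y = A.mulVecLin v + (y - A.mulVecLin v) := by abel
      rw [this]
      exact Submodule.add_mem_sup ⟨v, rfl⟩ hdiff
  obtain ⟨e2⟩ := nonempty_ker_funLeft_equiv (R := R) f hf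
  exact ⟨(Submodule.quotientEquivOfIsCompl _ _ hcompl).trans e2⟩

end SplitModules

section LocalUnit

variable {R : Type u} [CommRing R] [IsLocalRing R] {a b : ℕ}

/-- In a local ring, a unit ideal of minors contains a unit minor. -/
theorem exists_isUnit_minor (A : Matrix (Fin a) (Fin b) R) {r : ℕ} (h : minorIdeal A r = ⊤) :
    ∃ (f : Fin r → Fin a) (g : Fin r → Fin b), IsUnit (A.submatrix f g).det := by
  by_contra hcon
  push Not at hcon
  have hle : minorIdeal A r ≤ IsLocalRing.maximalIdeal R := by
    unfold minorIdeal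
    rw [Ideal.span_le]
    rintro _ ⟨⟨f, g⟩, rfl⟩
    exact (IsLocalRing.mem_maximalIdeal _).mpr (hcon f g)
  rw [h] at hle
  exact (IsLocalRing.maximalIdeal.isMaximal R).ne_top (top_le_iff.mp hle)

/-- The split step: if `A` has unit `r`-minors and vanishing `(r+1)`-minors and `B ≤ ker A` has free
quotient of rank `r`, then `B = ker A` and the cokernel of `A` is free of rank `a - r`. -/
theorem split_step (A : Matrix (Fin a) (Fin b) R) (r : ℕ) (h1 : minorIdeal A r = ⊤)
    (h2 : minorIdeal A (r + 1) = ⊥) (B : Submodule R (Fin b → R))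
    (hB : B ≤ LinearMap.ker A.mulVecLin) (eQ : ((Fin b → R) ⧸ B) ≃ₗ[R] (Fin r → R)) :
    LinearMap.ker A.mulVecLin = B ∧
      Nonempty (((Fin a → R) ⧸ LinearMap.range A.mulVecLin) ≃ₗ[R] (Fin (a - r) → R)) := by
  obtain ⟨f, g, hu⟩ := exists_isUnit_minor A h1
  refine ⟨?_, nonempty_coker_equiv A f g hu h2⟩
  obtain ⟨eR⟩ := nonempty_range_equiv A f g hu h2
  refine le_antisymm ?_ hB
  -- the induced surjection `Q → range A`
  let ψ : ((Fin b → R) ⧸ B) →ₗ[R] LinearMap.range A.mulVecLin :=
    B.liftQ A.mulVecLin.rangeRestrict (by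
      intro x hx
      rw [LinearMap.mem_ker]
      ext : 1
      exact hB hx)
  have hψ : Function.Surjective ψ := by
    rintro ⟨_, v, rfl⟩
    exact ⟨Submodule.Quotient.mk v, rfl⟩
  let θ : (Fin r → R) →ₗ[R] (Fin r → R) :=
    eR.toLinearMap ∘ₗ ψ ∘ₗ eQ.symm.toLinearMap
  have hθ : Function.Surjective θ :=
    eR.surjective.comp (hψ.comp eQ.symm.surjective)
  have hθinj : Function.Injective θ := OrzechProperty.injective_of_surjective_endomorphism θ hθ
  intro x hx
  have h0 : ψ (Submodule.Quotient.mk x) = 0 := by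
    ext : 1
    exact hx
  have h3 : θ (eQ (Submodule.Quotient.mk x)) = θ 0 := by
    simp only [θ, LinearMap.coe_comp, LinearEquiv.coe_coe, Function.comp_apply,
      LinearEquiv.symm_apply_apply, h0, map_zero]
  have h4 := hθinj h3
  have h5 : (Submodule.Quotient.mk x : (Fin b → R) ⧸ B) = 0 := by
    have := congrArg eQ.symm h4
    simpa using this
  exact (Submodule.Quotient.mk_eq_zero B).mp h5

end LocalUnit

end Groth.Agent.Lib.Helper28.BE
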