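import Mathlib
import Groth.Agent.Lib.Helper28BE2
import Groth.Agent.Lib.Helper28BE4

/-!
# Buchsbaum–Eisenbud, part 5: the sufficiency direction (helper28)
-/

set_option autoImplicit false

universe u

namespace Groth.Agent.Lib.Helper28.BE

open Matrix CAlgX IsLocalRing

section Hyp

variable {R : Type u} [CommRing R]

/-- The expected rank at level `j` (zero beyond the end of the complex). -/
noncomputable def rk (e : ℕ) {n : ℕ → ℕ} (A : (i : ℕ) → Matrix (Fin (n i)) (Fin (n (i + 1))) R)
    (j : ℕ) : ℕ :=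
  if j < e then matrixRank (A j) else 0

theorem rk_of_lt {e : ℕ} {n : ℕ → ℕ} (A : (i : ℕ) → Matrix (Fin (n i)) (Fin (n (i + 1))) R)
    {j : ℕ} (h : j < e) : rk e A j = matrixRank (A j) := by
  unfold rk
  rw [if_pos h]

theorem rk_of_not_lt {e : ℕ} {n : ℕ → ℕ} (A : (i : ℕ) → Matrix (Fin (n i)) (Fin (n (i + 1))) R)
    {j : ℕ} (h : ¬ j < e) : rk e A j = 0 := by
  unfold rk
  rw [if_neg h]

/-- The Buchsbaum–Eisenbud hypotheses in a form stable under localization. -/
structure BEHyp (R : Type u) [CommRing R] (e : ℕ) (n : ℕ → ℕ)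
    (A : (i : ℕ) → Matrix (Fin (n i)) (Fin (n (i + 1))) R) : Prop where
  cplx : ∀ i, i + 2 ≤ e → A i * A (i + 1) = 0
  rank : ∀ k, k < e → matrixRank (A k) + rk e A (k + 1) = n (k + 1)
  grade : ∀ k, k < e → ((k + 1 : ℕ) : ℕ∞) ≤ LocCoh.idealDepth (detIdeal (A k)) R

theorem exists_mem_map_ne_zero (I : Ideal R) (h1 : ((1 : ℕ) : ℕ∞) ≤ LocCoh.idealDepth I R)
    (p : Ideal R) [p.IsPrime] :
    ∃ x ∈ I, algebraMap R (Localization.AtPrime p) x ≠ 0 := by
  by_cases hI : I = ⊤
  · refine ⟨1, by rw [hI]; trivial, ?_⟩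
    rw [map_one]
    exact one_ne_zero
  · have hne : I • (⊤ : Submodule R R) ≠ ⊤ := by
      rw [smul_eq_mul, Ideal.mul_top]
      exact hI
    obtain ⟨rs, hlen, hmem, hreg⟩ := (natCast_le_idealDepth_iff hne 1).mp h1
    obtain ⟨x, rfl⟩ := List.length_eq_one_iff.mp hlen
    have hx : IsSMulRegular R x := by
      have := hreg.toIsWeaklyRegular
      rw [RingTheory.Sequence.isWeaklyRegular_cons_iff] at this
      exact this.1
    refine ⟨x, hmem x (by simp), ?_⟩
    intro h0
    obtain ⟨t, ht⟩ := (IsLocalization.map_eq_zero_iff p.primeCompl (Localization.AtPrime p) x).mp h0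
    have ht0 : (t : R) = 0 := by
      apply hx
      show x • (t : R) = x • 0
      rw [smul_eq_mul, smul_eq_mul, mul_zero, mul_comm]
      exact ht
    exact t.2 (by rw [ht0]; exact p.zero_mem)

theorem BEHyp.localize {e : ℕ} {n : ℕ → ℕ} {A : (i : ℕ) → Matrix (Fin (n i)) (Fin (n (i + 1))) R}
    (h : BEHyp R e n A) (p : Ideal R) [p.IsPrime] :
    BEHyp (Localization.AtPrime p) e n
      (fun i => (A i).map (algebraMap R (Localization.AtPrime p))) := by
  have hx : ∀ k, k < e → ∃ x ∈ detIdeal (A k), algebraMap R (Localization.AtPrime p) x ≠ 0 := by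
    intro k hk
    apply exists_mem_map_ne_zero
    refine le_trans ?_ (h.grade k hk)
    exact_mod_cast Nat.succ_le_succ (Nat.zero_le k)
  have hrank : ∀ k, k < e →
      matrixRank ((A k).map (algebraMap R (Localization.AtPrime p))) = matrixRank (A k) :=
    fun k hk => matrixRank_map_eq _ (A k) (hx k hk)
  refine ⟨fun i hi => ?_, fun k hk => ?_, fun k hk => ?_⟩
  · show (A i).map (algebraMap R (Localization.AtPrime p)) *
      (A (i + 1)).map (algebraMap R (Localization.AtPrime p)) = 0
    rw [← Matrix.map_mul, h.cplx i hi]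
    ext
    simp
  · have hrk : rk e (fun i => (A i).map (algebraMap R (Localization.AtPrime p))) (k + 1) =
        rk e A (k + 1) := by
      by_cases hk' : k + 1 < e
      · rw [rk_of_lt _ hk', rk_of_lt _ hk']
        exact hrank (k + 1) hk'
      · rw [rk_of_not_lt _ hk', rk_of_not_lt _ hk']
    rw [hrk]
    show matrixRank ((A k).map (algebraMap R (Localization.AtPrime p))) + _ = _
    rw [hrank k hk]
    exact h.rank k hk
  · show _ ≤ LocCoh.idealDepth (detIdeal ((A k).map (algebraMap R (Localization.AtPrime p)))) _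
    rw [detIdeal_map_eq _ (A k) (hx k hk)]
    exact (h.grade k hk).trans
      (idealDepth_le_of_isLocalizedModule p.primeCompl (Localization.AtPrime p)
        (Algebra.linearMap R (Localization.AtPrime p)) (detIdeal (A k)))

end Hyp

end Groth.Agent.Lib.Helper28.BE

namespace Groth.Agent.Lib.Helper28.BE

open Matrix CAlgX IsLocalRing

section LocalThm

variable {R : Type u} [CommRing R]

/-- Exactness of the localized complex gives a multiple of `x` in the boundaries. -/
theorem exists_smul_mem_Bsub_of_localized {e : ℕ} {n : ℕ → ℕ}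
    (A : (i : ℕ) → Matrix (Fin (n i)) (Fin (n (i + 1))) R) (p : Ideal R) [p.IsPrime]
    (hp : ∀ k, k < e →
      LinearMap.ker ((A k).map (algebraMap R (Localization.AtPrime p))).mulVecLin =
        Bsub e (fun i => (A i).map (algebraMap R (Localization.AtPrime p))) (k + 1))
    (k : ℕ) (hk : k < e) (x : Fin (n (k + 1)) → R) (hx : x ∈ LinearMap.ker (A k).mulVecLin) :
    ∃ s, s ∉ p ∧ s • x ∈ Bsub e A (k + 1) := by
  have hx' : (algebraMap R (Localization.AtPrime p)) ∘ x ∈
      LinearMap.ker ((A k).map (algebraMap R (Localization.AtPrime p))).mulVecLin := by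
    rw [LinearMap.mem_ker, Matrix.mulVecLin_apply]
    funext i
    rw [← RingHom.map_mulVec]
    have : (A k).mulVec x = 0 := hx
    rw [this]
    simp
  rw [hp k hk] at hx'
  by_cases hk' : k + 1 < e
  · rw [Bsub_of_lt _ hk'] at hx'
    obtain ⟨s, hs, hsx⟩ := exists_smul_mem_range_of_map p (A (k + 1)) x hx'
    exact ⟨s, hs, by rw [Bsub_of_lt A hk']; exact hsx⟩
  · rw [Bsub_of_not_lt _ hk', Submodule.mem_bot] at hx'
    obtain ⟨s, hs, hsx⟩ := exists_smul_eq_zero_of_map p x hx'
    exact ⟨s, hs, by rw [hsx]; exact Submodule.zero_mem _⟩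

variable [IsLocalRing R] [IsNoetherianRing R]

/-- The local theorem, assuming exactness on the punctured spectrum. -/
theorem local_exact_of_punctured {e : ℕ} {n : ℕ → ℕ}
    {A : (i : ℕ) → Matrix (Fin (n i)) (Fin (n (i + 1))) R} (h : BEHyp R e n A)
    (hp : ∀ (p : Ideal R) [p.IsPrime], p ≠ maximalIdeal R → ∀ k, k < e →
      LinearMap.ker ((A k).map (algebraMap R (Localization.AtPrime p))).mulVecLin =
        Bsub e (fun i => (A i).map (algebraMap R (Localization.AtPrime p))) (k + 1)) :
    ∀ k, k < e → LinearMap.ker (A k).mulVecLin = Bsub e A (k + 1) := by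
  classical
  -- torsion of the homology
  have htors : ∀ k, k < e → ∀ x ∈ LinearMap.ker (A k).mulVecLin,
      ∃ N, ∀ a ∈ maximalIdeal R ^ N, a • x ∈ Bsub e A (k + 1) := by
    intro k hk x hx
    apply exists_pow_smul_mem_of_forall_prime
    intro p _ hpm
    exact exists_smul_mem_Bsub_of_localized A p (hp p hpm) k hk x hx
  -- the depth cut-off
  set P : ℕ → Prop := fun j => ((j : ℕ) : ℕ∞) ≤ LocCoh.idealDepth (maximalIdeal R) R with hP
  set s : ℕ := Nat.findGreatest P e with hs
  have hse : s ≤ e := Nat.findGreatest_le e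
  have hPs : P s := Nat.findGreatest_spec (m := 0) (Nat.zero_le e) (by simp [hP])
  have hgreat : ∀ j, s < j → j ≤ e → ¬ P j := fun j h1 h2 => Nat.findGreatest_is_greatest h1 h2
  have hR : ∀ j, ExtVanish (maximalIdeal R) (Fin j → R) s := by
    intro j
    rw [← natCast_le_idealDepth_iff_extVanish]
    exact hPs.trans (idealDepth_le_idealDepth_pi_fin _ R j)
  -- unit determinantal ideals above the cut-off
  have htopI : ∀ k, s ≤ k → k < e → detIdeal (A k) = ⊤ := by
    intro k hsk hk
    by_contra hne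
    have hle : detIdeal (A k) ≤ maximalIdeal R := IsLocalRing.le_maximalIdeal hne
    have h1 := (h.grade k hk).trans (idealDepth_mono_ideal (M := R) hle)
    exact hgreat (k + 1) (by omega) (by omega) h1
  -- the split part
  have hsplit : ∀ j (hj : j ≤ e), s ≤ j →
      Nonempty (((Fin (n j) → R) ⧸ Bsub e A j) ≃ₗ[R] (Fin (n j - rk e A j) → R)) ∧
        ∀ k, j ≤ k → k < e → LinearMap.ker (A k).mulVecLin = Bsub e A (k + 1) := by
    intro j hj
    refine Nat.decreasingInduction (motive := fun j _ => s ≤ j →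
      Nonempty (((Fin (n j) → R) ⧸ Bsub e A j) ≃ₗ[R] (Fin (n j - rk e A j) → R)) ∧
        ∀ k, j ≤ k → k < e → LinearMap.ker (A k).mulVecLin = Bsub e A (k + 1)) ?_ ?_ hj
    · intro k hk ih hsk
      obtain ⟨⟨eQ⟩, hE⟩ := ih (by omega)
      have hr : n (k + 1) - rk e A (k + 1) = matrixRank (A k) := by
        have := h.rank k hk
        omega
      have eQ' : ((Fin (n (k + 1)) → R) ⧸ Bsub e A (k + 1)) ≃ₗ[R] (Fin (matrixRank (A k)) → R) :=
        eQ.trans (LinearEquiv.funCongrLeft R R (finCongr hr.symm))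
      have hstep := split_step (A k) (matrixRank (A k)) (htopI k hsk hk)
        (minorIdeal_eq_bot_of_matrixRank_lt (A k) (Nat.lt_succ_self _)) (Bsub e A (k + 1))
        (Bsub_succ_le_ker A h.cplx k) eQ'
      refine ⟨?_, ?_⟩
      · rw [Bsub_of_lt A hk, rk_of_lt A hk]
        exact hstep.2
      · intro k' hkk' hk'
        rcases Nat.eq_or_lt_of_le hkk' with rfl | hlt
        · exact hstep.1
        · exact hE k' hlt hk'
    · intro _
      refine ⟨?_, fun k hk1 hk2 => absurd hk2 (by omega)⟩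
      have h0 : n e - rk e A e = n e := by
        rw [rk_of_not_lt A (lt_irrefl e), Nat.sub_zero]
      rw [Bsub_of_not_lt A (lt_irrefl e)]
      exact ⟨(Submodule.quotEquivOfEqBot (⊥ : Submodule R (Fin (n e) → R)) rfl).trans
        (LinearEquiv.funCongrLeft R R (finCongr h0))⟩
  obtain ⟨⟨eS⟩, hEhigh⟩ := hsplit s hse le_rfl
  -- the acyclic part
  have hlow := descend e A h.cplx s hse hR (fun k hk => htors k (by omega))
    (extVanish_of_linearEquiv eS.symm (hR _))
  intro k hk
  by_cases hks : k < s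
  · exact hlow k hks
  · exact hEhigh k (by omega) hk

omit [IsNoetherianRing R] in
/-- Dimension drops on the punctured spectrum. -/
theorem ringKrullDim_localization_add_one_le (p : Ideal R) [p.IsPrime] (hp : p ≠ maximalIdeal R) :
    ringKrullDim (Localization.AtPrime p) + 1 ≤ ringKrullDim R := by
  rw [IsLocalization.AtPrime.ringKrullDim_eq_height p (Localization.AtPrime p),
    ← IsLocalRing.maximalIdeal_height_eq_ringKrullDim]
  have hlt : p < maximalIdeal R := lt_of_le_of_ne (IsLocalRing.le_maximalIdeal (Ideal.IsPrime.ne_top ‹_›)) hp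
  exact_mod_cast Ideal.height_add_one_le_of_lt_of_isPrime hlt

end LocalThm

theorem withBot_le_of_add_one_le (x : WithBot ℕ∞) (d : ℕ)
    (h3 : x + 1 ≤ ((d : ℕ) : WithBot ℕ∞) + 1) : x ≤ d := by
  induction x using WithBot.recBotCoe with
  | bot => exact bot_le
  | coe y =>
    induction y using ENat.recTopCoe with
    | top =>
      exfalso
      have : ((⊤ : ℕ∞) : WithBot ℕ∞) + 1 = ((⊤ : ℕ∞) : WithBot ℕ∞) := by
        rw [← WithBot.coe_one, ← WithBot.coe_add]; simp
      rw [this] at h3
      have h5 : ((⊤ : ℕ∞) : WithBot ℕ∞) ≤ ((d + 1 : ℕ) : WithBot ℕ∞) := by exact_mod_cast h3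
      have h6 : (⊤ : ℕ∞) ≤ ((d + 1 : ℕ) : ℕ∞) := by exact_mod_cast h5
      simp at h6
    | coe m =>
      have h5 : ((m + 1 : ℕ) : WithBot ℕ∞) ≤ ((d + 1 : ℕ) : WithBot ℕ∞) := by exact_mod_cast h3
      have h6 : m + 1 ≤ d + 1 := Nat.cast_le (α := WithBot ℕ∞) |>.mp h5
      have : m ≤ d := by omega
      exact_mod_cast this

/-- The local theorem. -/
theorem local_exact : ∀ (d : ℕ) (R : Type u) [CommRing R] [IsLocalRing R] [IsNoetherianRing R],
    ringKrullDim R ≤ d → ∀ (e : ℕ) (n : ℕ → ℕ)
      (A : (i : ℕ) → Matrix (Fin (n i)) (Fin (n (i + 1))) R), BEHyp R e n A →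
      ∀ k, k < e → LinearMap.ker (A k).mulVecLin = Bsub e A (k + 1) := by
  intro d
  induction d with
  | zero =>
    intro R _ _ _ hd e n A h
    apply local_exact_of_punctured h
    intro p _ hpm
    exfalso
    have h1 := ringKrullDim_localization_add_one_le p hpm
    have h2 : (0 : WithBot ℕ∞) ≤ ringKrullDim (Localization.AtPrime p) := ringKrullDim_nonneg_of_nontrivial
    have h3 : ringKrullDim (Localization.AtPrime p) + 1 ≤ 0 := h1.trans (by exact_mod_cast hd)
    have h4 : (0 : WithBot ℕ∞) + 1 ≤ 0 := (add_le_add_left h2 1).trans h3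
    rw [zero_add] at h4
    have h5 : ((1 : ℕ) : WithBot ℕ∞) ≤ ((0 : ℕ) : WithBot ℕ∞) := by exact_mod_cast h4
    have h6 := Nat.cast_le (α := WithBot ℕ∞) |>.mp h5
    omega
  | succ d ih =>
    intro R _ _ _ hd e n A h
    apply local_exact_of_punctured h
    intro p _ hpm
    apply ih (Localization.AtPrime p) _ e n _ (h.localize p)
    have h1 := ringKrullDim_localization_add_one_le p hpm
    have h3 : ringKrullDim (Localization.AtPrime p) + 1 ≤ ((d : ℕ) : WithBot ℕ∞) + 1 :=
      h1.trans (by exact_mod_cast hd)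
    exact withBot_le_of_add_one_le _ d h3

end Groth.Agent.Lib.Helper28.BE
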