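import Mathlib
import Groth.Agent.Lib.Helper28BE5

/-!
# Buchsbaum–Eisenbud, part 6: the global sufficiency theorem (helper28)
-/

set_option autoImplicit false

universe u

namespace Groth.Agent.Lib.Helper28.BE

open Matrix CAlgX IsLocalRing

section Global

variable {R : Type u} [CommRing R] [IsNoetherianRing R]

/-- The global sufficiency theorem. -/
theorem global_exact {e : ℕ} {n : ℕ → ℕ} {A : (i : ℕ) → Matrix (Fin (n i)) (Fin (n (i + 1))) R}
    (h : BEHyp R e n A) :
    ∀ k, k < e → LinearMap.ker (A k).mulVecLin = Bsub e A (k + 1) := by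
  intro k hk
  refine le_antisymm ?_ (Bsub_succ_le_ker A h.cplx k)
  intro x hx
  by_contra hxB
  set J : Ideal R := (Bsub e A (k + 1)).colon ({x} : Set (Fin (n (k + 1)) → R)) with hJ
  have hmem : ∀ a, a ∈ J ↔ a • x ∈ Bsub e A (k + 1) := fun a => Submodule.mem_colon_singleton
  have hJtop : J ≠ ⊤ := by
    intro htop
    apply hxB
    have : (1 : R) ∈ J := by rw [htop]; trivial
    have := (hmem 1).mp this
    rwa [one_smul] at this
  obtain ⟨p, hpmax, hJp⟩ := Ideal.exists_le_maximal J hJtop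
  have : p.IsPrime := hpmax.isPrime
  have hfin : p.height ≠ ⊤ := Ideal.height_ne_top (Ideal.IsPrime.ne_top ‹_›)
  have hdim : ringKrullDim (Localization.AtPrime p) ≤ ((p.height.toNat : ℕ) : WithBot ℕ∞) := by
    rw [IsLocalization.AtPrime.ringKrullDim_eq_height p (Localization.AtPrime p)]
    have : p.height = ((p.height.toNat : ℕ) : ℕ∞) := (ENat.natCast_toNat hfin).symm
    rw [this]
    simp
  have hloc := local_exact p.height.toNat (Localization.AtPrime p) hdim e n _ (h.localize p)
  obtain ⟨s, hs, hsx⟩ := exists_smul_mem_Bsub_of_localized A p hloc k hk x hx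
  exact hs (hJp ((hmem s).mpr hsx))

end Global

section AltSum

/-- The alternating sums of the `n t`. -/
def altSum (e : ℕ) (n : ℕ → ℕ) (j : ℕ) : ℤ :=
  ∑ t ∈ Finset.Icc j e, (-1 : ℤ) ^ (t - j) * (n t : ℤ)

theorem altSum_of_lt (e : ℕ) (n : ℕ → ℕ) {j : ℕ} (h : e < j) : altSum e n j = 0 := by
  unfold altSum
  rw [Finset.Icc_eq_empty (by omega), Finset.sum_empty]

theorem altSum_add_succ (e : ℕ) (n : ℕ → ℕ) {j : ℕ} (h : j ≤ e) :
    altSum e n j + altSum e n (j + 1) = n j := by
  unfold altSum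
  rw [← Finset.insert_Icc_add_one_left_eq_Icc h, Finset.sum_insert (by simp)]
  have h1 : ∑ t ∈ Finset.Icc (j + 1) e, (-1 : ℤ) ^ (t - j) * (n t : ℤ) =
      - ∑ t ∈ Finset.Icc (j + 1) e, (-1 : ℤ) ^ (t - (j + 1)) * (n t : ℤ) := by
    rw [← Finset.sum_neg_distrib]
    refine Finset.sum_congr rfl fun t ht => ?_
    rw [Finset.mem_Icc] at ht
    have : t - j = (t - (j + 1)) + 1 := by omega
    rw [this, pow_succ]
    ring
  rw [h1]
  simp

end AltSum

end Groth.Agent.Lib.Helper28.BE
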