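import Mathlib
import Groth.Agent.Lib.Helper28BE3
import Groth.Agent.Lib.Helper18Fitt29

/-!
# Buchsbaum–Eisenbud, part 7: minors of a matrix with free cokernel (helper28)

Bridge to helper18's Fitting ideals: `Fitt_k (coker A) = I_{a-k}(A)`.
-/

set_option autoImplicit false

universe u

namespace Groth.Agent.Lib.Helper28.BE

open Matrix CAlgX Groth.Agent.Helper18Fitt

section Bridge

variable {R : Type u} [CommRing R] {a b : ℕ}

theorem colFam_mulVecLin (A : Matrix (Fin a) (Fin b) R) (c : Fin b) (i : Fin a) :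
    colFam A.mulVecLin c i = A i c := by
  unfold colFam
  rw [Matrix.mulVecLin_apply, Matrix.mulVec_single_one]
  rfl

theorem minorsFam_colFam_eq (A : Matrix (Fin a) (Fin b) R) (s : ℕ) :
    minorsFam (colFam A.mulVecLin) s = minorIdeal A s := by
  unfold minorsFam minorIdeal
  apply congrArg Ideal.span
  ext d
  simp only [Set.mem_setOf_eq, Set.mem_range, Prod.exists]
  constructor
  · rintro ⟨β, ε, rfl⟩
    refine ⟨ε, β, ?_⟩
    congr 1
    ext x y
    simp [colFam_mulVecLin]
  · rintro ⟨ε, β, rfl⟩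
    refine ⟨β, ε, ?_⟩
    congr 1
    ext x y
    simp [colFam_mulVecLin]

/-- The Fitting ideals of the cokernel of a matrix are its ideals of minors. -/
theorem fitt_coker_eq_minorIdeal (A : Matrix (Fin a) (Fin b) R) (k : ℕ) :
    Fitt.ideal R ((Fin a → R) ⧸ LinearMap.range A.mulVecLin) k = minorIdeal A (a - k) := by
  rw [fitt_eq_minors (cokerGen A.mulVecLin) (cokerGen_span A.mulVecLin) k,
    minors_eq_minorsFam _ _ (cokerGen_rel A.mulVecLin) _, minorsFam_colFam_eq]

theorem minorIdeal_eq_bot_of_rows_lt (A : Matrix (Fin a) (Fin b) R) (r : ℕ) (hr : a < r) :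
    minorIdeal A r = ⊥ := by
  rw [eq_bot_iff]
  unfold minorIdeal
  rw [Ideal.span_le]
  rintro _ ⟨⟨f, g⟩, rfl⟩
  obtain ⟨i, j, hij, hf⟩ := Fintype.exists_ne_map_eq_of_card_lt f (by simp; omega)
  have : det (A.submatrix f g) = 0 :=
    det_zero_of_row_eq hij (by ext k; simp [Matrix.submatrix_apply, hf])
  simp [this]

/-- A matrix whose cokernel is free of rank `c` has unit `(a-c)`-minors and vanishing
`(a-c+1)`-minors. -/
theorem minors_of_coker_equiv [Nontrivial R] (A : Matrix (Fin a) (Fin b) R) {c : ℕ}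
    (eQ : ((Fin a → R) ⧸ LinearMap.range A.mulVecLin) ≃ₗ[R] (Fin c → R)) :
    c ≤ a ∧ minorIdeal A (a - c) = ⊤ ∧ minorIdeal A (a - c + 1) = ⊥ := by
  have hca : c ≤ a := by
    have hsurj : Function.Surjective (eQ.toLinearMap ∘ₗ (LinearMap.range A.mulVecLin).mkQ) :=
      eQ.surjective.comp (Submodule.mkQ_surjective _)
    exact le_of_fin_surjective R _ hsurj
  let bas : Module.Basis (Fin c) R ((Fin a → R) ⧸ LinearMap.range A.mulVecLin) :=
    (Pi.basisFun R (Fin c)).map eQ.symm
  refine ⟨hca, ?_, ?_⟩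
  · rw [← fitt_coker_eq_minorIdeal]
    exact (fitt_of_basis bas c).2 le_rfl
  · rcases Nat.eq_zero_or_pos c with rfl | hpos
    · exact minorIdeal_eq_bot_of_rows_lt A _ (by omega)
    · have h1 := (fitt_of_basis bas (c - 1)).1 (by omega)
      rw [fitt_coker_eq_minorIdeal] at h1
      have : a - (c - 1) = a - c + 1 := by omega
      rwa [this] at h1

end Bridge

end Groth.Agent.Lib.Helper28.BE
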