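import Mathlib
import Groth.Agent.Lib.Helper28BE6
import Groth.Agent.Lib.Helper28BE7

/-!
# Buchsbaum–Eisenbud, part 8: exact complexes over a local ring of depth zero split (helper28)
-/

set_option autoImplicit false

universe u

namespace Groth.Agent.Lib.Helper28.BE

open Matrix CAlgX IsLocalRing

section DepthZero

variable {S : Type u} [CommRing S] [IsLocalRing S]

/-- McCoy + depth zero: an injective matrix has a unit ideal of maximal minors. -/
theorem minorIdeal_eq_top_of_injective_of_depth_zero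
    (hz : ∃ z : S, z ≠ 0 ∧ ∀ a ∈ maximalIdeal S, a * z = 0) {a q : ℕ}
    (M : Matrix (Fin a) (Fin q) S) (hinj : Function.Injective M.mulVecLin) :
    minorIdeal M q = ⊤ := by
  by_contra hne
  have hle : minorIdeal M q ≤ maximalIdeal S := IsLocalRing.le_maximalIdeal hne
  obtain ⟨z, hz0, hz⟩ := hz
  have hmem : z ∈ (minorIdeal M q).annihilator := by
    rw [Submodule.mem_annihilator]
    intro x hx
    rw [smul_eq_mul, mul_comm]
    exact hz x (hle hx)
  rw [Groth.Agent.Helper13McCoy.annihilator_minorIdeal_eq_bot M hinj] at hmem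
  exact hz0 hmem

/-- In depth zero, if `F_b / B` is free and `B = ker A`, then the cokernel of `A` is free. -/
theorem coker_free_step (hz : ∃ z : S, z ≠ 0 ∧ ∀ a ∈ maximalIdeal S, a * z = 0) {a b q : ℕ}
    (A : Matrix (Fin a) (Fin b) S) (B : Submodule S (Fin b → S))
    (hB : LinearMap.ker A.mulVecLin = B) (eQ : ((Fin b → S) ⧸ B) ≃ₗ[S] (Fin q → S)) :
    q ≤ a ∧ Nonempty (((Fin a → S) ⧸ LinearMap.range A.mulVecLin) ≃ₗ[S] (Fin (a - q) → S)) := by
  let ψ : ((Fin b → S) ⧸ B) →ₗ[S] (Fin a → S) := B.liftQ A.mulVecLin (le_of_eq hB.symm)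
  have hψinj : Function.Injective ψ := by
    rw [← LinearMap.ker_eq_bot]
    exact Submodule.ker_liftQ_eq_bot _ _ _ (le_of_eq hB)
  let ψ' : (Fin q → S) →ₗ[S] (Fin a → S) := ψ ∘ₗ eQ.symm.toLinearMap
  have hψ'inj : Function.Injective ψ' := hψinj.comp eQ.symm.injective
  have hqa : q ≤ a := le_of_fin_injective S ψ' hψ'inj
  let M : Matrix (Fin a) (Fin q) S := LinearMap.toMatrix' ψ'
  have hM : M.mulVecLin = ψ' := by
    rw [← Matrix.toLin'_apply', Matrix.toLin'_toMatrix']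
  have hMinj : Function.Injective M.mulVecLin := by rw [hM]; exact hψ'inj
  have h1 : minorIdeal M q = ⊤ := minorIdeal_eq_top_of_injective_of_depth_zero hz M hMinj
  have h2 : minorIdeal M (q + 1) = ⊥ :=
    Groth.Agent.Helper13McCoy.minorIdeal_eq_bot_of_lt M (q + 1) (Nat.lt_succ_self q)
  obtain ⟨f, g, hu⟩ := exists_isUnit_minor M h1
  obtain ⟨eC⟩ := nonempty_coker_equiv M f g hu h2
  have hrange : LinearMap.range M.mulVecLin = LinearMap.range A.mulVecLin := by
    rw [hM]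
    apply le_antisymm
    · rintro _ ⟨w, rfl⟩
      obtain ⟨v, hv⟩ := Submodule.mkQ_surjective B (eQ.symm w)
      refine ⟨v, ?_⟩
      show A.mulVecLin v = ψ (eQ.symm w)
      rw [← hv]
      rfl
    · rintro _ ⟨v, rfl⟩
      refine ⟨eQ (B.mkQ v), ?_⟩
      show ψ (eQ.symm (eQ (B.mkQ v))) = A.mulVecLin v
      rw [LinearEquiv.symm_apply_apply]
      rfl
  refine ⟨hqa, ?_⟩
  rw [← hrange]
  exact ⟨eC⟩

/-- Over a local ring of depth zero, all the cokernels in an exact complex of finite free modules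
are free, of the expected ranks. -/
theorem free_cokers_of_depth_zero (hz : ∃ z : S, z ≠ 0 ∧ ∀ a ∈ maximalIdeal S, a * z = 0)
    (e : ℕ) (n : ℕ → ℕ) (A : (i : ℕ) → Matrix (Fin (n i)) (Fin (n (i + 1))) S)
    (hex : ∀ k, k < e → LinearMap.ker (A k).mulVecLin = Bsub e A (k + 1)) :
    ∀ j, j ≤ e → ∃ q : ℕ,
      Nonempty (((Fin (n j) → S) ⧸ Bsub e A j) ≃ₗ[S] (Fin q → S)) ∧ (q : ℤ) = altSum e n j := by
  intro j hj
  refine Nat.decreasingInduction (motive := fun j _ => ∃ q : ℕ,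
      Nonempty (((Fin (n j) → S) ⧸ Bsub e A j) ≃ₗ[S] (Fin q → S)) ∧ (q : ℤ) = altSum e n j)
    ?_ ?_ hj
  · intro k hk ih
    obtain ⟨q', ⟨eQ⟩, hq'⟩ := ih
    obtain ⟨hle, ⟨eC⟩⟩ := coker_free_step hz (A k) (Bsub e A (k + 1)) (hex k hk) eQ
    refine ⟨n k - q', ?_, ?_⟩
    · rw [Bsub_of_lt A hk]
      exact ⟨eC⟩
    · have h3 := altSum_add_succ e n (j := k) (by omega)
      rw [Nat.cast_sub hle, hq']
      linarith
  · refine ⟨n e, ?_, ?_⟩
    · rw [Bsub_of_not_lt A (lt_irrefl e)]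
      exact ⟨Submodule.quotEquivOfEqBot (⊥ : Submodule S (Fin (n e) → S)) rfl⟩
    · have h3 := altSum_add_succ e n (j := e) le_rfl
      rw [altSum_of_lt e n (Nat.lt_succ_self e), add_zero] at h3
      exact h3.symm

/-- Over a local ring of depth zero, an exact complex has unit ideals of minors of the expected
sizes, and the larger minors vanish. -/
theorem minors_of_depth_zero (hz : ∃ z : S, z ≠ 0 ∧ ∀ a ∈ maximalIdeal S, a * z = 0)
    (e : ℕ) (n : ℕ → ℕ) (A : (i : ℕ) → Matrix (Fin (n i)) (Fin (n (i + 1))) S)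
    (hex : ∀ k, k < e → LinearMap.ker (A k).mulVecLin = Bsub e A (k + 1)) :
    ∀ k, k < e → ∃ r : ℕ, (r : ℤ) = altSum e n (k + 1) ∧ minorIdeal (A k) r = ⊤ ∧
      minorIdeal (A k) (r + 1) = ⊥ := by
  intro k hk
  obtain ⟨q, ⟨eQ⟩, hq⟩ := free_cokers_of_depth_zero hz e n A hex k (by omega)
  rw [Bsub_of_lt A hk] at eQ
  obtain ⟨hle, h1, h2⟩ := minors_of_coker_equiv (A k) eQ
  refine ⟨n k - q, ?_, h1, h2⟩
  have h3 := altSum_add_succ e n (j := k) (by omega)
  rw [Nat.cast_sub hle, hq]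
  linarith

end DepthZero

end Groth.Agent.Lib.Helper28.BE
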