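import Mathlib
import Groth.Agent.Lib.Helper28BE8
import Groth.Agent.Lib.Helper28SkLift

/-!
# Buchsbaum–Eisenbud, part 9: reduction modulo a regular element (helper28)
-/

set_option autoImplicit false

universe u

namespace Groth.Agent.Lib.Helper28.BE

open Matrix CAlgX IsLocalRing

section AltSumShift

theorem altSum_shift (e : ℕ) (he : 1 ≤ e) (n : ℕ → ℕ) (j : ℕ) :
    altSum (e - 1) (fun i => n (i + 1)) j = altSum e n (j + 1) := by
  unfold altSum
  have h1 : Finset.Icc (j + 1) e = (Finset.Icc j (e - 1)).map (addRightEmbedding 1) := by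
    rw [Finset.map_add_right_Icc, Nat.sub_add_cancel he]
  rw [h1, Finset.sum_map]
  refine Finset.sum_congr rfl fun t _ => ?_
  simp only [addRightEmbedding_apply]
  have : t + 1 - (j + 1) = t - j := by omega
  rw [this]

end AltSumShift

section ModRegular

variable {S : Type u} [CommRing S]

/-- Exactness of the truncated complex modulo a regular element. -/
theorem exact_mod_regular (x : S) (hx : IsSMulRegular S x) (e : ℕ) (n : ℕ → ℕ)
    (A : (i : ℕ) → Matrix (Fin (n i)) (Fin (n (i + 1))) S)
    (hA : ∀ i, i + 2 ≤ e → A i * A (i + 1) = 0)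
    (hex : ∀ k, k < e → LinearMap.ker (A k).mulVecLin = Bsub e A (k + 1)) :
    ∀ k, k < e - 1 →
      LinearMap.ker ((A (k + 1)).map (Ideal.Quotient.mk (Ideal.span {x}))).mulVecLin =
        Bsub (e - 1) (n := fun i => n (i + 1))
          (fun i => (A (i + 1)).map (Ideal.Quotient.mk (Ideal.span {x}))) (k + 1) := by
  intro k hk
  set f := Ideal.Quotient.mk (Ideal.span {x}) with hf
  have hA' : ∀ i, i + 2 ≤ e - 1 → (A (i + 1)).map f * (A (i + 1 + 1)).map f = 0 := by
    intro i hi
    rw [← Matrix.map_mul, hA (i + 1) (by omega)]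
    ext
    simp
  refine le_antisymm ?_
    (Bsub_succ_le_ker (e := e - 1) (n := fun i => n (i + 1)) (fun i => (A (i + 1)).map f) hA' k)
  intro ybar hybar
  -- lift `ybar`
  have hlift : ∃ y : Fin (n (k + 1 + 1)) → S, f ∘ y = ybar := by
    choose y hy using fun j => Ideal.Quotient.mk_surjective (I := Ideal.span {x}) (ybar j)
    exact ⟨y, funext hy⟩
  obtain ⟨y, rfl⟩ := hlift
  -- `A (k+1) y = x z`
  have h1 : ∀ i, ((A (k + 1)).mulVec y) i ∈ Ideal.span {x} := by
    intro i
    rw [← Ideal.Quotient.eq_zero_iff_mem]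
    have := congrFun hybar i
    rw [Matrix.mulVecLin_apply, ← RingHom.map_mulVec] at this
    exact this
  choose z hz using fun i => Ideal.mem_span_singleton'.mp (h1 i)
  have hz' : (A (k + 1)).mulVec y = x • z := by
    funext i
    rw [Pi.smul_apply, smul_eq_mul, mul_comm]
    exact (hz i).symm
  -- `z` is a cycle
  have hzker : z ∈ LinearMap.ker (A k).mulVecLin := by
    rw [LinearMap.mem_ker, Matrix.mulVecLin_apply]
    have h2 : x • (A k).mulVec z = 0 := by
      rw [← Matrix.mulVec_smul, ← hz', Matrix.mulVec_mulVec, hA k (by omega), Matrix.zero_mulVec]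
    funext i
    have := congrFun h2 i
    rw [Pi.smul_apply, Pi.zero_apply] at this
    have h3 : x • ((A k).mulVec z) i = x • ((0 : Fin (n k) → S) i) := by
      rw [this, Pi.zero_apply, smul_zero]
    exact hx h3
  rw [hex k (by omega), Bsub_of_lt A (by omega : k + 1 < e)] at hzker
  obtain ⟨w, hw⟩ := hzker
  rw [Matrix.mulVecLin_apply] at hw
  -- `y - x w` is a cycle
  have hyker : y - x • w ∈ LinearMap.ker (A (k + 1)).mulVecLin := by
    rw [LinearMap.mem_ker, Matrix.mulVecLin_apply, Matrix.mulVec_sub, Matrix.mulVec_smul, hw, hz',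
      sub_self]
  have hfx : ∀ v : Fin (n (k + 1 + 1)) → S, f ∘ (y - x • v) = f ∘ y := by
    intro v
    funext i
    simp only [Function.comp_apply, Pi.sub_apply, Pi.smul_apply, smul_eq_mul, map_sub, map_mul]
    have : f x = 0 := Ideal.Quotient.eq_zero_iff_mem.mpr (Ideal.mem_span_singleton_self x)
    rw [this, zero_mul, sub_zero]
  rw [hex (k + 1) (by omega)] at hyker
  by_cases hk2 : k + 1 + 1 < e
  · rw [Bsub_of_lt A hk2] at hyker
    obtain ⟨u, hu⟩ := hyker
    rw [Matrix.mulVecLin_apply] at hu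
    rw [Bsub_of_lt (e := e - 1) (n := fun i => n (i + 1)) (fun i => (A (i + 1)).map f)
      (by omega : k + 1 < e - 1)]
    refine ⟨f ∘ u, ?_⟩
    rw [Matrix.mulVecLin_apply, ← hfx w, ← hu]
    funext i
    rw [← RingHom.map_mulVec]
    rfl
  · rw [Bsub_of_not_lt A hk2, Submodule.mem_bot] at hyker
    rw [Bsub_of_not_lt (e := e - 1) (n := fun i => n (i + 1)) (fun i => (A (i + 1)).map f)
      (by omega : ¬ k + 1 < e - 1), Submodule.mem_bot, ← hfx w, hyker]
    funext i
    simp

end ModRegular

end Groth.Agent.Lib.Helper28.BE
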