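import Mathlib
import Groth.Agent.Lib.Helper28BE9
import Groth.Agent.Lib.Helper28DepthMore

/-!
# Buchsbaum–Eisenbud, part 10: unit ideals of minors beyond the depth (helper28)
-/

set_option autoImplicit false

universe u

namespace Groth.Agent.Lib.Helper28.BE

open Matrix CAlgX IsLocalRing

section DepthInduction

/-- Depth zero gives a nonzero element killed by the maximal ideal. -/
theorem exists_socle_of_depth_eq_zero {S : Type u} [CommRing S] [IsLocalRing S]
    [IsNoetherianRing S] (h : LocCoh.depth S S = 0) :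
    ∃ z : S, z ≠ 0 ∧ ∀ a ∈ maximalIdeal S, a * z = 0 := by
  have hass : maximalIdeal S ∈ associatedPrimes S S := depth_eq_zero_iff.mp h
  obtain ⟨_, z, hz⟩ := (isAssociatedPrime_iff (I := maximalIdeal S) (M := S)).mp hass
  have hmem : ∀ a, a ∈ maximalIdeal S ↔ a * z = 0 := by
    intro a
    rw [hz, Submodule.mem_colon_singleton, Submodule.mem_bot, smul_eq_mul]
  refine ⟨z, ?_, fun a ha => (hmem a).mp ha⟩
  rintro rfl
  have h1 : (1 : S) ∈ maximalIdeal S := (hmem 1).mpr (by simp)
  exact (maximalIdeal.isMaximal S).ne_top ((Ideal.eq_top_iff_one _).mpr h1)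

/-- If the image of an ideal modulo an element of the maximal ideal is the unit ideal, so is the
ideal. -/
theorem eq_top_of_map_quotient_eq_top {S : Type u} [CommRing S] [IsLocalRing S] (x : S)
    (hx : x ∈ maximalIdeal S) (I : Ideal S)
    (h : I.map (Ideal.Quotient.mk (Ideal.span {x})) = ⊤) : I = ⊤ := by
  by_contra hne
  have hle : I ≤ maximalIdeal S := IsLocalRing.le_maximalIdeal hne
  have h1 : (I.map (Ideal.Quotient.mk (Ideal.span {x}))).comap (Ideal.Quotient.mk (Ideal.span {x})) =
      I ⊔ Ideal.span {x} := by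
    rw [Ideal.comap_map_of_surjective _ Ideal.Quotient.mk_surjective, ← RingHom.ker_eq_comap_bot,
      Ideal.mk_ker]
  rw [h, Ideal.comap_top] at h1
  have h2 : I ⊔ Ideal.span {x} ≤ maximalIdeal S :=
    sup_le hle ((Ideal.span_singleton_le_iff_mem _).mpr hx)
  rw [← h1] at h2
  exact (maximalIdeal.isMaximal S).ne_top (top_le_iff.mp h2)

/-- Over a Noetherian local ring, in an exact complex of finite free modules the maps beyond the
depth have unit ideals of minors of the expected size. -/
theorem unit_minors_of_depth_le : ∀ (t : ℕ) (S : Type u) [CommRing S] [IsLocalRing S]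
    [IsNoetherianRing S], LocCoh.depth S S ≤ (t : ℕ∞) → ∀ (e : ℕ) (n : ℕ → ℕ)
      (A : (i : ℕ) → Matrix (Fin (n i)) (Fin (n (i + 1))) S),
      (∀ i, i + 2 ≤ e → A i * A (i + 1) = 0) →
      (∀ k, k < e → LinearMap.ker (A k).mulVecLin = Bsub e A (k + 1)) →
      ∀ k, t ≤ k → k < e → ∃ r : ℕ, (r : ℤ) = altSum e n (k + 1) ∧ minorIdeal (A k) r = ⊤ := by
  intro t
  induction t with
  | zero =>
    intro S _ _ _ hd e n A hA hex k _ hk
    have h0 : LocCoh.depth S S = 0 := le_antisymm (by simpa using hd) zero_le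
    obtain ⟨r, hr, h1, -⟩ :=
      minors_of_depth_zero (exists_socle_of_depth_eq_zero h0) e n A hex k hk
    exact ⟨r, hr, h1⟩
  | succ t ih =>
    intro S _ _ _ hd e n A hA hex k htk hk
    by_cases h0 : LocCoh.depth S S = 0
    · obtain ⟨r, hr, h1, -⟩ :=
        minors_of_depth_zero (exists_socle_of_depth_eq_zero h0) e n A hex k hk
      exact ⟨r, hr, h1⟩
    · -- a regular element
      have h1 : ((1 : ℕ) : ℕ∞) ≤ LocCoh.depth S S := by
        rw [Nat.cast_one]
        exact Order.one_le_iff_pos.mpr (pos_iff_ne_zero.mpr h0)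
      have hne : maximalIdeal S • (⊤ : Submodule S S) ≠ ⊤ := maximalIdeal_smul_top_ne_top
      obtain ⟨rs, hlen, hmem, hreg⟩ := (natCast_le_idealDepth_iff hne 1).mp h1
      obtain ⟨x, rfl⟩ := List.length_eq_one_iff.mp hlen
      have hxreg : IsSMulRegular S x := by
        have := hreg.toIsWeaklyRegular
        rw [RingTheory.Sequence.isWeaklyRegular_cons_iff] at this
        exact this.1
      have hxm : x ∈ maximalIdeal S := hmem x (by simp)
      have hxtop : Ideal.span {x} ≠ ⊤ := by
        intro h
        have : Ideal.span {x} ≤ maximalIdeal S := (Ideal.span_singleton_le_iff_mem _).mpr hxm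
        rw [h] at this
        exact (maximalIdeal.isMaximal S).ne_top (top_le_iff.mp this)
      haveI : Nontrivial (S ⧸ Ideal.span {x}) := Ideal.Quotient.nontrivial_iff.mpr hxtop
      haveI : IsLocalRing (S ⧸ Ideal.span {x}) :=
        IsLocalRing.of_surjective' (Ideal.Quotient.mk (Ideal.span {x})) Ideal.Quotient.mk_surjective
      have hd' : LocCoh.depth (S ⧸ Ideal.span {x}) (S ⧸ Ideal.span {x}) ≤ (t : ℕ∞) := by
        have h2 := depth_quotient_span_singleton_add_one x hxm hxreg
        rw [← h2] at hd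
        push_cast at hd
        exact (ENat.add_le_add_iff_right ENat.one_ne_top).mp hd
      obtain ⟨k', rfl⟩ : ∃ k', k = k' + 1 := ⟨k - 1, by omega⟩
      have he : 1 ≤ e := by omega
      have hA' : ∀ i, i + 2 ≤ e - 1 →
          (A (i + 1)).map (Ideal.Quotient.mk (Ideal.span {x})) *
            (A (i + 1 + 1)).map (Ideal.Quotient.mk (Ideal.span {x})) = 0 := by
        intro i hi
        rw [← Matrix.map_mul, hA (i + 1) (by omega)]
        ext
        simp
      obtain ⟨r, hr, hrtop⟩ := ih (S ⧸ Ideal.span {x}) hd' (e - 1) (fun i => n (i + 1))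
        (fun i => (A (i + 1)).map (Ideal.Quotient.mk (Ideal.span {x}))) hA'
        (exact_mod_regular x hxreg e n A hA hex) k' (by omega) (by omega)
      refine ⟨r, ?_, ?_⟩
      · rw [hr, altSum_shift e he n (k' + 1)]
      · apply eq_top_of_map_quotient_eq_top x hxm
        rw [← minorIdeal_map]
        exact hrtop

end DepthInduction

end Groth.Agent.Lib.Helper28.BE
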