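import Mathlib
import Groth.Agent.Lib.Helper28BE10

/-!
# Buchsbaum–Eisenbud, part 11: the necessity direction (helper28)
-/

set_option autoImplicit false

universe u

namespace Groth.Agent.Lib.Helper28.BE

open Matrix CAlgX IsLocalRing

section Localize

variable {R : Type u} [CommRing R]

/-- Exactness of a complex of matrices localizes. -/
theorem exact_localize (p : Ideal R) [p.IsPrime] (e : ℕ) (n : ℕ → ℕ)
    (A : (i : ℕ) → Matrix (Fin (n i)) (Fin (n (i + 1))) R)
    (hA : ∀ i, i + 2 ≤ e → A i * A (i + 1) = 0)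
    (hex : ∀ k, k < e → LinearMap.ker (A k).mulVecLin = Bsub e A (k + 1)) :
    ∀ k, k < e →
      LinearMap.ker ((A k).map (algebraMap R (Localization.AtPrime p))).mulVecLin =
        Bsub e (fun i => (A i).map (algebraMap R (Localization.AtPrime p))) (k + 1) := by
  intro k hk
  set f := algebraMap R (Localization.AtPrime p) with hf
  have hA' : ∀ i, i + 2 ≤ e → (A i).map f * (A (i + 1)).map f = 0 := by
    intro i hi
    rw [← Matrix.map_mul, hA i hi]
    ext
    simp
  refine le_antisymm ?_ (Bsub_succ_le_ker (fun i => (A i).map f) hA' k)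
  intro y hy
  obtain ⟨d, hd⟩ := IsLocalization.exist_integer_multiples_of_finite p.primeCompl y
  choose y' hy' using hd
  have h1 : f ∘ y' = (d : R) • y := by
    funext j
    simp only [Function.comp_apply, Pi.smul_apply]
    exact hy' j
  have h2 : f ∘ ((A k).mulVec y') = 0 := by
    funext i
    rw [Function.comp_apply, RingHom.map_mulVec, h1, Matrix.mulVec_smul]
    have : ((A k).map f).mulVec y = 0 := hy
    rw [this]
    simp
  obtain ⟨t, ht, hty⟩ := exists_smul_eq_zero_of_map p ((A k).mulVec y') h2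
  have h3 : t • y' ∈ LinearMap.ker (A k).mulVecLin := by
    rw [LinearMap.mem_ker, Matrix.mulVecLin_apply, Matrix.mulVec_smul]
    exact hty
  have hu : IsUnit (f t * f (d : R)) :=
    (IsLocalization.map_units (Localization.AtPrime p) (⟨t, ht⟩ : p.primeCompl)).mul
      (IsLocalization.map_units (Localization.AtPrime p) d)
  have h4 : f ∘ (t • y') = (f t * f (d : R)) • y := by
    funext j
    have := congrFun h1 j
    simp only [Function.comp_apply, Pi.smul_apply, smul_eq_mul, map_mul] at this ⊢
    rw [this, Algebra.smul_def, mul_assoc]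
  rw [hex k hk] at h3
  obtain ⟨u, hu'⟩ := hu
  have hy_eq : y = (↑u⁻¹ : Localization.AtPrime p) • (f ∘ (t • y')) := by
    rw [h4, ← hu', smul_smul, Units.inv_mul, one_smul]
  by_cases hk' : k + 1 < e
  · rw [Bsub_of_lt A hk'] at h3
    obtain ⟨w, hw⟩ := h3
    rw [Matrix.mulVecLin_apply] at hw
    rw [Bsub_of_lt (fun i => (A i).map f) hk', hy_eq]
    apply Submodule.smul_mem
    refine ⟨f ∘ w, ?_⟩
    rw [Matrix.mulVecLin_apply, ← hw]
    funext i
    rw [← RingHom.map_mulVec]
    rfl
  · rw [Bsub_of_not_lt A hk', Submodule.mem_bot] at h3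
    rw [Bsub_of_not_lt (fun i => (A i).map f) hk', Submodule.mem_bot, hy_eq, h3]
    have : f ∘ (0 : Fin (n (k + 1)) → R) = 0 := by
      funext i
      simp
    rw [this, smul_zero]

end Localize

end Groth.Agent.Lib.Helper28.BE

namespace Groth.Agent.Lib.Helper28.BE

open Matrix CAlgX IsLocalRing

section Necessity

variable {R : Type u} [CommRing R] [IsNoetherianRing R]

/-- At an associated prime, the localized exact complex has unit/vanishing minors. -/
theorem minors_at_associatedPrime (p : Ideal R) (hp : p ∈ associatedPrimes R R) (e : ℕ)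
    (n : ℕ → ℕ) (A : (i : ℕ) → Matrix (Fin (n i)) (Fin (n (i + 1))) R)
    (hA : ∀ i, i + 2 ≤ e → A i * A (i + 1) = 0)
    (hex : ∀ k, k < e → LinearMap.ker (A k).mulVecLin = Bsub e A (k + 1)) :
    haveI : p.IsPrime := hp.isPrime
    ∀ k, k < e → ∃ r : ℕ, (r : ℤ) = altSum e n (k + 1) ∧
      (minorIdeal (A k) r).map (algebraMap R (Localization.AtPrime p)) = ⊤ ∧
      (minorIdeal (A k) (r + 1)).map (algebraMap R (Localization.AtPrime p)) = ⊥ := by
  haveI : p.IsPrime := hp.isPrime
  intro k hk
  have hd0 : LocCoh.depth (Localization.AtPrime p) (Localization.AtPrime p) = 0 := by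
    rw [← depth_localizedModule_self]
    exact (depth_localization_eq_zero_iff p).mpr hp
  obtain ⟨r, hr, h1, h2⟩ := minors_of_depth_zero (exists_socle_of_depth_eq_zero hd0) e n
    (fun i => (A i).map (algebraMap R (Localization.AtPrime p))) (exact_localize p e n A hA hex) k hk
  refine ⟨r, hr, ?_, ?_⟩
  · rw [← minorIdeal_map]; exact h1
  · rw [← minorIdeal_map]; exact h2

/-- The rank of the maps in an exact complex. -/
theorem rank_of_exact [Nontrivial R] (e : ℕ) (n : ℕ → ℕ)
    (A : (i : ℕ) → Matrix (Fin (n i)) (Fin (n (i + 1))) R)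
    (hA : ∀ i, i + 2 ≤ e → A i * A (i + 1) = 0)
    (hex : ∀ k, k < e → LinearMap.ker (A k).mulVecLin = Bsub e A (k + 1)) :
    ∀ k, k < e → ∃ r : ℕ, (r : ℤ) = altSum e n (k + 1) ∧ minorIdeal (A k) r ≠ ⊥ ∧
      minorIdeal (A k) (r + 1) = ⊥ := by
  intro k hk
  obtain ⟨p₀, hp₀⟩ := associatedPrimes.nonempty R R
  haveI : p₀.IsPrime := hp₀.isPrime
  obtain ⟨r, hr, h1, -⟩ := minors_at_associatedPrime p₀ hp₀ e n A hA hex k hk
  refine ⟨r, hr, ?_, ?_⟩
  · intro h
    rw [h, Ideal.map_bot] at h1
    exact bot_ne_top h1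
  · by_contra hne
    obtain ⟨d, hdI, hd0⟩ := Submodule.exists_mem_ne_zero_of_ne_bot hne
    obtain ⟨P, hP, hle⟩ := exists_le_isAssociatedPrime_of_isNoetherianRing R d hd0
    haveI : P.IsPrime := hP.isPrime
    obtain ⟨r', hr', -, h2⟩ := minors_at_associatedPrime P hP e n A hA hex k hk
    have hrr : r' = r := by
      have : (r' : ℤ) = (r : ℤ) := by rw [hr, hr']
      exact_mod_cast this
    rw [hrr] at h2
    have h3 : algebraMap R (Localization.AtPrime P) d ∈
        (minorIdeal (A k) (r + 1)).map (algebraMap R (Localization.AtPrime P)) :=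
      Ideal.mem_map_of_mem _ hdI
    rw [h2, Ideal.mem_bot] at h3
    obtain ⟨t, ht⟩ := (IsLocalization.map_eq_zero_iff P.primeCompl (Localization.AtPrime P) d).mp h3
    have htP : (t : R) ∈ P := by
      apply hle
      rw [Submodule.mem_colon_singleton, Submodule.mem_bot, smul_eq_mul]
      exact ht
    exact t.2 htP

/-- The grade of the determinantal ideals in an exact complex. -/
theorem grade_of_exact (e : ℕ) (n : ℕ → ℕ)
    (A : (i : ℕ) → Matrix (Fin (n i)) (Fin (n (i + 1))) R)
    (hA : ∀ i, i + 2 ≤ e → A i * A (i + 1) = 0)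
    (hex : ∀ k, k < e → LinearMap.ker (A k).mulVecLin = Bsub e A (k + 1))
    (k : ℕ) (hk : k < e) (r : ℕ) (hr : (r : ℤ) = altSum e n (k + 1)) :
    ((k + 1 : ℕ) : ℕ∞) ≤ LocCoh.idealDepth (minorIdeal (A k) r) R := by
  set I := minorIdeal (A k) r with hI
  by_cases hIM : I • (⊤ : Submodule R R) = ⊤
  · rw [idealDepth_eq_top_of_smul_top_eq_top I R hIM]
    exact le_top
  · obtain ⟨p, hIp, -, hdep⟩ := exists_prime_depth_localization_eq (M := R) hIM
    by_contra hlt
    rw [not_le] at hlt
    have hle : LocCoh.idealDepth I R ≤ (k : ℕ∞) := by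
      rw [Nat.cast_add, Nat.cast_one] at hlt
      exact Order.le_of_lt_add_one hlt
    have hd : LocCoh.depth (Localization.AtPrime p.asIdeal) (Localization.AtPrime p.asIdeal) ≤
        (k : ℕ∞) := by
      rw [← depth_localizedModule_self, hdep]
      exact hle
    have hA' : ∀ i, i + 2 ≤ e →
        (A i).map (algebraMap R (Localization.AtPrime p.asIdeal)) *
          (A (i + 1)).map (algebraMap R (Localization.AtPrime p.asIdeal)) = 0 := by
      intro i hi
      rw [← Matrix.map_mul, hA i hi]
      ext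
      simp
    obtain ⟨r', hr', htop⟩ := unit_minors_of_depth_le k (Localization.AtPrime p.asIdeal) hd e n
      (fun i => (A i).map (algebraMap R (Localization.AtPrime p.asIdeal))) hA'
      (exact_localize p.asIdeal e n A hA hex) k le_rfl hk
    have hrr : r' = r := by
      have : (r' : ℤ) = (r : ℤ) := by rw [hr, hr']
      exact_mod_cast this
    rw [hrr] at htop
    have hmap : (minorIdeal (A k) r).map (algebraMap R (Localization.AtPrime p.asIdeal)) = ⊤ := by
      rw [← minorIdeal_map]; exact htop
    have hle2 : (minorIdeal (A k) r).map (algebraMap R (Localization.AtPrime p.asIdeal)) ≤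
        maximalIdeal (Localization.AtPrime p.asIdeal) := by
      rw [← Localization.AtPrime.map_eq_maximalIdeal]
      exact Ideal.map_mono hIp
    rw [hmap] at hle2
    exact (maximalIdeal.isMaximal _).ne_top (top_le_iff.mp hle2)

end Necessity

end Groth.Agent.Lib.Helper28.BE
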