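import Mathlib
import Groth.Agent.Lib.Helper10FibreRank

/-!
# Basic elements (Eisenbud–Evans) for modules free of constant rank in low codimension (helper28)
-/

namespace Groth.Agent.Lib.Helper28.Basic

open TensorProduct Module

universe u

section LinAlg

variable {K V : Type*} [Field K] [AddCommGroup V] [Module K V]

/-- modified tuple `v i + c i • v_last`. -/
def modVec {t : ℕ} (v : Fin (t + 1) → V) (c : Fin t → K) : Fin t → V :=
  fun i => v i.castSucc + c i • v (Fin.last t)

lemma span_le_modVec_sup {t : ℕ} (v : Fin (t + 1) → V) (c : Fin t → K) :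
    Submodule.span K (Set.range v) ≤
      Submodule.span K (Set.range (modVec v c)) ⊔ Submodule.span K {v (Fin.last t)} := by
  rw [Submodule.span_le]
  rintro _ ⟨i, rfl⟩
  have hlast : v (Fin.last t) ∈
      Submodule.span K (Set.range (modVec v c)) ⊔ Submodule.span K {v (Fin.last t)} :=
    Submodule.mem_sup_right (Submodule.subset_span rfl)
  induction i using Fin.lastCases with
  | last => exact hlast
  | cast i =>
    have h1 : v i.castSucc = modVec v c i - c i • v (Fin.last t) := by
      simp [modVec]
    rw [h1]
    exact Submodule.sub_mem _ (Submodule.mem_sup_left (Submodule.subset_span ⟨i, rfl⟩))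
      (Submodule.smul_mem _ _ hlast)

lemma finrank_span_le_modVec_succ {t : ℕ} (v : Fin (t + 1) → V) (c : Fin t → K) :
    finrank K (Submodule.span K (Set.range v)) ≤
      finrank K (Submodule.span K (Set.range (modVec v c))) + 1 := by
  have _ : Module.Finite K (Submodule.span K (Set.range (modVec v c))) :=
    FiniteDimensional.span_of_finite K (Set.finite_range _)
  have _ : Module.Finite K (Submodule.span K {v (Fin.last t)}) :=
    FiniteDimensional.span_of_finite K (Set.finite_singleton _)
  have _ : Module.Finite K (Submodule.span K (Set.range (modVec v c)) ⊔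
      Submodule.span K {v (Fin.last t)} : Submodule K V) := by
    rw [← Submodule.span_union]
    exact FiniteDimensional.span_of_finite K ((Set.finite_range _).union (Set.finite_singleton _))
  calc finrank K (Submodule.span K (Set.range v))
      ≤ finrank K (Submodule.span K (Set.range (modVec v c)) ⊔
          Submodule.span K {v (Fin.last t)} : Submodule K V) :=
        Submodule.finrank_mono (span_le_modVec_sup v c)
    _ ≤ finrank K (Submodule.span K (Set.range (modVec v c))) +
          finrank K (Submodule.span K {v (Fin.last t)}) :=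
        Submodule.finrank_add_le_finrank_add_finrank _ _
    _ ≤ finrank K (Submodule.span K (Set.range (modVec v c))) + 1 := by
        gcongr
        have := finrank_span_le_card (R := K) ({v (Fin.last t)} : Set V)
        simpa using this

/-- The key linear algebra step of the Eisenbud–Evans lemma. -/
lemma exists_modVec {t : ℕ} (v : Fin (t + 1) → V) (c : Fin t → K) (ρ : K) (hρ : ρ ≠ 0)
    (w : ℕ) (hw : w ≤ t) (hv : w ≤ finrank K (Submodule.span K (Set.range v))) :
    ∃ l : Option (Fin t), w ≤ finrank K (Submodule.span K
      (Set.range (modVec v fun i => c i + if some i = l then ρ else 0))) := by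
  classical
  by_cases h : w ≤ finrank K (Submodule.span K (Set.range (modVec v c)))
  · refine ⟨none, ?_⟩
    have : (fun i => c i + if some i = (none : Option (Fin t)) then ρ else 0) = c := by
      funext i; simp
    rw [this]
    exact h
  · push Not at h
    have hnli : ¬ LinearIndependent K (modVec v c) := by
      intro hli
      have := linearIndependent_iff_card_eq_finrank_span.mp hli
      simp only [Fintype.card_fin, Set.finrank] at this
      omega
    obtain ⟨g, hg, l, hl⟩ := Fintype.not_linearIndependent_iff.mp hnli
    refine ⟨some l, ?_⟩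
    set c' : Fin t → K := fun i => c i + if some i = some l then ρ else 0 with hc'
    set U' := Submodule.span K (Set.range (modVec v c')) with hU'
    have _ : Module.Finite K U' := FiniteDimensional.span_of_finite K (Set.finite_range _)
    have hmem : ∀ i, modVec v c' i ∈ U' := fun i => Submodule.subset_span ⟨i, rfl⟩
    have hne : ∀ i, i ≠ l → modVec v c i ∈ U' := by
      intro i hi
      have : modVec v c' i = modVec v c i := by
        simp [modVec, hc', hi]
      rw [← this]
      exact hmem i
    have hl_mem : modVec v c l ∈ U' := by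
      have h1 : g l • modVec v c l = - ∑ i ∈ Finset.univ.erase l, g i • modVec v c i := by
        rw [eq_neg_iff_add_eq_zero, ← hg, ← Finset.add_sum_erase _ _ (Finset.mem_univ l)]
      have h2 : modVec v c l = (g l)⁻¹ • (g l • modVec v c l) := by
        rw [smul_smul, inv_mul_cancel₀ hl, one_smul]
      rw [h2, h1]
      refine Submodule.smul_mem _ _ (Submodule.neg_mem _ (Submodule.sum_mem _ ?_))
      intro i hi
      exact Submodule.smul_mem _ _ (hne i (Finset.ne_of_mem_erase hi))
    have hlast : v (Fin.last t) ∈ U' := by
      have h1 : modVec v c' l - modVec v c l = ρ • v (Fin.last t) := by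
        simp [modVec, hc', add_smul]
      have h2 : v (Fin.last t) = ρ⁻¹ • (modVec v c' l - modVec v c l) := by
        rw [h1, smul_smul, inv_mul_cancel₀ hρ, one_smul]
      rw [h2]
      exact Submodule.smul_mem _ _ (Submodule.sub_mem _ (hmem l) hl_mem)
    have hle : Submodule.span K (Set.range v) ≤ U' := by
      rw [Submodule.span_le]
      rintro _ ⟨i, rfl⟩
      induction i using Fin.lastCases with
      | last => exact hlast
      | cast i =>
        have h1 : v i.castSucc = modVec v c' i - c' i • v (Fin.last t) := by
          simp [modVec]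
        rw [h1]
        exact Submodule.sub_mem _ (hmem i) (Submodule.smul_mem _ _ hlast)
    exact hv.trans (Submodule.finrank_mono hle)

end LinAlg

section Fibre

variable {A : Type u} [CommRing A] {M : Type u} [AddCommGroup M] [Module A M]

/-- The image of `m` in the fibre `κ(p) ⊗ M`. -/
noncomputable abbrev fib (p : PrimeSpectrum A) (m : M) : p.asIdeal.ResidueField ⊗[A] M :=
  (1 : p.asIdeal.ResidueField) ⊗ₜ[A] m

lemma fib_add (p : PrimeSpectrum A) (m m' : M) : fib p (m + m') = fib p m + fib p m' :=
  TensorProduct.tmul_add _ _ _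

lemma fib_smul (p : PrimeSpectrum A) (a : A) (m : M) :
    fib p (a • m) = algebraMap A p.asIdeal.ResidueField a • fib p m := by
  unfold fib
  rw [TensorProduct.tmul_smul, algebraMap_smul]

/-- The basic rank of a tuple at a prime. -/
noncomputable def brank (p : PrimeSpectrum A) {t : ℕ} (x : Fin t → M) : ℕ :=
  finrank p.asIdeal.ResidueField
    (Submodule.span p.asIdeal.ResidueField (Set.range fun i => fib p (x i)))

/-- Modified tuple `x i + a i • x_last`. -/
def modTuple {t : ℕ} (x : Fin (t + 1) → M) (a : Fin t → A) : Fin t → M :=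
  fun i => x i.castSucc + a i • x (Fin.last t)

lemma fib_modTuple (p : PrimeSpectrum A) {t : ℕ} (x : Fin (t + 1) → M) (a : Fin t → A) :
    (fun i => fib p (modTuple x a i)) =
      modVec (fun i => fib p (x i)) (fun i => algebraMap A p.asIdeal.ResidueField (a i)) := by
  funext i
  simp only [modTuple, modVec]
  rw [fib_add, fib_smul]

lemma brank_modTuple_congr (p : PrimeSpectrum A) {t : ℕ} (x : Fin (t + 1) → M)
    (a a' : Fin t → A) (h : ∀ i, a i - a' i ∈ p.asIdeal) :
    brank p (modTuple x a) = brank p (modTuple x a') := by
  unfold brank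
  rw [fib_modTuple, fib_modTuple]
  have : (fun i => algebraMap A p.asIdeal.ResidueField (a i)) =
      fun i => algebraMap A p.asIdeal.ResidueField (a' i) := by
    funext i
    rw [← sub_eq_zero, ← map_sub, Ideal.algebraMap_residueField_eq_zero]
    exact h i
  rw [this]

lemma brank_le_modTuple_succ (p : PrimeSpectrum A) {t : ℕ} (x : Fin (t + 1) → M)
    (a : Fin t → A) : brank p x ≤ brank p (modTuple x a) + 1 := by
  unfold brank
  rw [fib_modTuple]
  exact finrank_span_le_modVec_succ _ _

/-- Eisenbud–Evans Lemma for a finite set of primes. -/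
lemma exists_modTuple_of_finset (E : Finset (PrimeSpectrum A)) {t : ℕ} (x : Fin (t + 1) → M)
    (w : PrimeSpectrum A → ℕ) (hw : ∀ p ∈ E, w p ≤ t) (hx : ∀ p ∈ E, w p ≤ brank p x) :
    ∃ a : Fin t → A, ∀ p ∈ E, w p ≤ brank p (modTuple x a) := by
  classical
  induction hn : E.card generalizing E with
  | zero =>
    rw [Finset.card_eq_zero] at hn
    subst hn
    exact ⟨0, by simp⟩
  | succ n ih =>
    have hne : E.Nonempty := by
      rw [← Finset.card_pos]; omega
    obtain ⟨p₀, hp₀E, hp₀min⟩ := E.exists_minimal hne
    obtain ⟨a', ha'⟩ := ih (E.erase p₀) (fun p hp => hw p (Finset.mem_of_mem_erase hp))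
      (fun p hp => hx p (Finset.mem_of_mem_erase hp)) (by
        rw [Finset.card_erase_of_mem hp₀E]; omega)
    -- choose r in all other primes but not in p₀
    have hnot : ¬ (∏ q ∈ E.erase p₀, q.asIdeal) ≤ p₀.asIdeal := by
      intro hle
      obtain ⟨q, hq, hqle⟩ := (Ideal.IsPrime.prod_le p₀.2).mp hle
      have hqE := Finset.mem_of_mem_erase hq
      have hqne := Finset.ne_of_mem_erase hq
      exact hqne (le_antisymm hqle (hp₀min hqE hqle))
    obtain ⟨r, hrI, hrp⟩ := SetLike.not_le_iff_exists.mp hnot
    have hrq : ∀ q ∈ E.erase p₀, r ∈ q.asIdeal := by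
      intro q hq
      exact (Ideal.prod_le_inf.trans (Finset.inf_le hq)) hrI
    have hρ : algebraMap A p₀.asIdeal.ResidueField r ≠ 0 := by
      rw [Ne, Ideal.algebraMap_residueField_eq_zero]
      exact hrp
    have hx0 := hx p₀ hp₀E
    unfold brank at hx0
    obtain ⟨l, hl⟩ := exists_modVec (fun i => fib p₀ (x i))
      (fun i => algebraMap A p₀.asIdeal.ResidueField (a' i)) _ hρ (w p₀) (hw p₀ hp₀E) hx0
    refine ⟨fun i => a' i + if some i = l then r else 0, ?_⟩
    intro p hp
    by_cases hpp : p = p₀
    · subst hpp
      unfold brank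
      rw [fib_modTuple]
      have hfun : (fun i => algebraMap A p.asIdeal.ResidueField
          (a' i + if some i = l then r else 0)) =
          fun i => algebraMap A p.asIdeal.ResidueField (a' i) +
            if some i = l then algebraMap A p.asIdeal.ResidueField r else 0 := by
        funext i
        split_ifs <;> simp
      rw [hfun]
      exact hl
    · have hpE : p ∈ E.erase p₀ := Finset.mem_erase.mpr ⟨hpp, hp⟩
      rw [brank_modTuple_congr p x _ a']
      · exact ha' p hpE
      · intro i
        split_ifs
        · simpa using hrq p hpE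
        · simp

end Fibre

section Step

variable {A : Type u} [CommRing A] {M : Type u} [AddCommGroup M] [Module A M]

lemma hNat_le {p : PrimeSpectrum A} {k : ℕ} (hp : p.asIdeal.height ≤ k) :
    p.asIdeal.height.toNat ≤ k := by
  have := ENat.toNat_le_toNat hp (ENat.natCast_ne_top k)
  simpa using this

lemma hNat_lt [IsNoetherianRing A] {p q : PrimeSpectrum A} (hqp : q < p) :
    q.asIdeal.height.toNat < p.asIdeal.height.toNat := by
  have h1 : q.asIdeal.height < p.asIdeal.height :=
    Ideal.height_strict_mono_of_isPrime_of_isPrime hqp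
  have hp : p.asIdeal.height ≠ ⊤ := Ideal.height_ne_top p.2.ne_top
  have hq : q.asIdeal.height ≠ ⊤ := Ideal.height_ne_top q.2.ne_top
  obtain ⟨a, ha⟩ := ENat.ne_top_iff_exists.mp hq
  obtain ⟨b, hb⟩ := ENat.ne_top_iff_exists.mp hp
  rw [← ha, ← hb] at h1 ⊢
  simpa using h1

lemma brank_eq_finrank_range (p : PrimeSpectrum A) {t : ℕ} (x : Fin t → M) :
    brank p x = finrank p.asIdeal.ResidueField
      (LinearMap.range ((Submodule.span A (Set.range x)).subtype.baseChange
        p.asIdeal.ResidueField)) := by
  have h1 : LinearMap.range ((Submodule.span A (Set.range x)).subtype.baseChange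
      p.asIdeal.ResidueField) =
      Submodule.span p.asIdeal.ResidueField (Set.range fun i => fib p (x i)) := by
    change (Submodule.span A (Set.range x)).baseChange p.asIdeal.ResidueField = _
    rw [Submodule.baseChange_span, ← Set.range_comp]
    rfl
  rw [h1]
  rfl

/-- `brank + fibre dimension of the cokernel = fibre dimension`. -/
lemma brank_add [Module.Finite A M] (p : PrimeSpectrum A) {t : ℕ} (x : Fin t → M) :
    brank p x + finrank p.asIdeal.ResidueField (p.asIdeal.ResidueField ⊗[A]
      (M ⧸ LinearMap.range (Submodule.span A (Set.range x)).subtype)) =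
      finrank p.asIdeal.ResidueField (p.asIdeal.ResidueField ⊗[A] M) := by
  rw [brank_eq_finrank_range]
  exact Helper10.FibreRank.finrank_range_baseChange_add _ _

lemma isClosed_setOf_le_finrank (Q : Type u) [AddCommGroup Q] [Module A Q] [Module.Finite A Q]
    (c : ℕ) : IsClosed {p : PrimeSpectrum A |
      c ≤ finrank p.asIdeal.ResidueField (p.asIdeal.ResidueField ⊗[A] Q)} := by
  rw [← isOpen_compl_iff, isOpen_iff_forall_mem_open]
  intro y hy
  obtain ⟨U, hU, hyU, hle⟩ := Helper10.FibreRank.exists_isOpen_finrank_le Q y
  refine ⟨U, ?_, hU, hyU⟩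
  intro y' hy'
  simp only [Set.mem_compl_iff, Set.mem_ofPred_eq, not_le] at hy ⊢
  exact lt_of_le_of_lt (hle y' hy') hy

lemma finite_minimal_of_isClosed [IsNoetherianRing A] (Z : Set (PrimeSpectrum A))
    (hZ : IsClosed Z) : {p | p ∈ Z ∧ ∀ q ∈ Z, q ≤ p → p ≤ q}.Finite := by
  set I := PrimeSpectrum.vanishingIdeal Z with hI
  have hZI : Z = PrimeSpectrum.zeroLocus (I : Set A) := by
    rw [hI, PrimeSpectrum.zeroLocus_vanishingIdeal_eq_closure, hZ.closure_eq]
  have hfin := I.finite_minimalPrimes_of_isNoetherianRing
  have hinj : Set.InjOn (fun p : PrimeSpectrum A => p.asIdeal)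
      ((fun p : PrimeSpectrum A => p.asIdeal) ⁻¹' I.minimalPrimes) :=
    fun p _ q _ h => PrimeSpectrum.ext h
  refine (hfin.preimage hinj).subset ?_
  rintro p ⟨hpZ, hpmin⟩
  simp only [Set.mem_preimage]
  rw [hZI, PrimeSpectrum.mem_zeroLocus] at hpZ
  refine ⟨⟨p.2, hpZ⟩, ?_⟩
  rintro q ⟨hqprime, hqI⟩ hqp
  have hqZ : (⟨q, hqprime⟩ : PrimeSpectrum A) ∈ Z := by
    rw [hZI, PrimeSpectrum.mem_zeroLocus]
    exact hqI
  exact hpmin ⟨q, hqprime⟩ hqZ hqp

end Step

section Step2

variable {A : Type u} [CommRing A] {M : Type u} [AddCommGroup M] [Module A M]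

/-- The Eisenbud–Evans reduction step. -/
lemma step [IsNoetherianRing A] [Module.Finite A M] (k r : ℕ) (hkr : k ≤ r)
    (hrk : ∀ p : PrimeSpectrum A, p.asIdeal.height ≤ k →
      finrank p.asIdeal.ResidueField (p.asIdeal.ResidueField ⊗[A] M) = r)
    {t : ℕ} (x : Fin (t + 1) → M)
    (hx : ∀ p : PrimeSpectrum A, p.asIdeal.height ≤ k →
      min (t + 1) (r - p.asIdeal.height.toNat) ≤ brank p x) :
    ∃ a : Fin t → A, ∀ p : PrimeSpectrum A, p.asIdeal.height ≤ k →
      min t (r - p.asIdeal.height.toNat) ≤ brank p (modTuple x a) := by
  classical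
  set Q := M ⧸ LinearMap.range (Submodule.span A (Set.range x)).subtype with hQ
  set d : PrimeSpectrum A → ℕ := fun p =>
    finrank p.asIdeal.ResidueField (p.asIdeal.ResidueField ⊗[A] Q) with hd
  have hbd : ∀ p : PrimeSpectrum A, p.asIdeal.height ≤ k → brank p x + d p = r := by
    intro p hp
    rw [← hrk p hp]
    exact brank_add p x
  set E : Set (PrimeSpectrum A) := {p | p.asIdeal.height ≤ k ∧
    brank p x ≤ min t (r - p.asIdeal.height.toNat)} with hE
  have hEfin : E.Finite := by
    have hsub : E ⊆ ⋃ c ∈ Finset.range (k + 1),
        {p | p ∈ {p : PrimeSpectrum A | c ≤ d p} ∧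
          ∀ q ∈ {p : PrimeSpectrum A | c ≤ d p}, q ≤ p → p ≤ q} := by
      rintro p ⟨hpk, hpb⟩
      have hh := hNat_le hpk
      have h1 := hx p hpk
      have h2 := hbd p hpk
      have h3 : r - p.asIdeal.height.toNat ≤ t := by
        by_contra hcon
        push Not at hcon
        have : min (t + 1) (r - p.asIdeal.height.toNat) = t + 1 := by omega
        have : min t (r - p.asIdeal.height.toNat) = t := by omega
        omega
      have h4 : brank p x = r - p.asIdeal.height.toNat := by omega
      have h5 : d p = p.asIdeal.height.toNat := by omega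
      simp only [Set.mem_iUnion, Finset.mem_range]
      refine ⟨p.asIdeal.height.toNat, by omega, ?_, ?_⟩
      · simp only [Set.mem_ofPred_eq]; omega
      · intro q hq hqp
        by_contra hnle
        have hlt : q < p := lt_of_le_of_ne hqp (fun h => hnle (h ▸ le_refl _))
        have hq1 := hNat_lt hlt
        have hqk : q.asIdeal.height ≤ k := (Ideal.height_mono hqp).trans hpk
        have hq2 := hx q hqk
        have hq3 := hbd q hqk
        simp only [Set.mem_ofPred_eq] at hq
        omega
    refine Set.Finite.subset ?_ hsub
    refine Set.Finite.biUnion (Finset.finite_toSet _) ?_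
    intro c _
    exact finite_minimal_of_isClosed _ (isClosed_setOf_le_finrank Q c)
  obtain ⟨a, ha⟩ := exists_modTuple_of_finset hEfin.toFinset x
    (fun p => min t (r - p.asIdeal.height.toNat)) (fun p _ => min_le_left _ _)
    (fun p hp => by
      rw [Set.Finite.mem_toFinset] at hp
      have := hx p hp.1
      omega)
  refine ⟨a, fun p hpk => ?_⟩
  by_cases hpE : p ∈ E
  · exact ha p (by rwa [Set.Finite.mem_toFinset])
  · have h1 : ¬ brank p x ≤ min t (r - p.asIdeal.height.toNat) := fun h => hpE ⟨hpk, h⟩
    have h2 := brank_le_modTuple_succ p x a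
    omega

end Step2

section Main

variable {A : Type u} [CommRing A] {M : Type u} [AddCommGroup M] [Module A M]

lemma brank_eq_of_span_eq_top (p : PrimeSpectrum A) {t : ℕ} (x : Fin t → M)
    (hx : Submodule.span A (Set.range x) = ⊤) :
    brank p x = finrank p.asIdeal.ResidueField (p.asIdeal.ResidueField ⊗[A] M) := by
  rw [brank_eq_finrank_range]
  have h1 : LinearMap.range ((Submodule.span A (Set.range x)).subtype.baseChange
      p.asIdeal.ResidueField) = ⊤ := by
    change (Submodule.span A (Set.range x)).baseChange p.asIdeal.ResidueField = _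
    rw [hx, Submodule.baseChange_top]
  rw [h1, finrank_top]

/-- Existence of a tuple of `r - k` elements of `M` whose images in all fibres at primes of
height `≤ k` are linearly independent, if all these fibres have dimension `r ≥ k`. -/
theorem exists_basic_tuple [IsNoetherianRing A] [Module.Finite A M] (k r : ℕ) (hkr : k ≤ r)
    (hrk : ∀ p : PrimeSpectrum A, p.asIdeal.height ≤ k →
      finrank p.asIdeal.ResidueField (p.asIdeal.ResidueField ⊗[A] M) = r) :
    ∃ x : Fin (r - k) → M, ∀ p : PrimeSpectrum A, p.asIdeal.height ≤ k →
      LinearIndependent p.asIdeal.ResidueField (fun i => fib p (x i)) := by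
  classical
  set s := r - k with hs
  have hdesc : ∀ t : ℕ, s ≤ t → (∃ x : Fin t → M, ∀ p : PrimeSpectrum A,
      p.asIdeal.height ≤ k → min t (r - p.asIdeal.height.toNat) ≤ brank p x) →
      ∃ x : Fin s → M, ∀ p : PrimeSpectrum A,
        p.asIdeal.height ≤ k → min s (r - p.asIdeal.height.toNat) ≤ brank p x := by
    intro t ht
    induction t, ht using Nat.le_induction with
    | base => exact id
    | succ t _ ih =>
      rintro ⟨x, hx⟩
      obtain ⟨a, ha⟩ := step k r hkr hrk x hx
      exact ih ⟨_, ha⟩
  obtain ⟨n, g, hg⟩ := Module.Finite.exists_fin (R := A) (M := M)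
  obtain ⟨x, hx⟩ := hdesc (n + s) (by omega)
    ⟨Fin.append g (fun _ : Fin s => (0 : M)), fun p hp => by
      rw [brank_eq_of_span_eq_top p _ ?_, hrk p hp]
      · omega
      · rw [eq_top_iff, ← hg]
        apply Submodule.span_mono
        rintro _ ⟨i, rfl⟩
        exact ⟨Fin.castAdd s i, Fin.append_left _ _ i⟩⟩
  refine ⟨x, fun p hp => ?_⟩
  rw [linearIndependent_iff_card_eq_finrank_span]
  have h1 := hx p hp
  have h2 := hNat_le hp
  have h3 : brank p x ≤ s := by
    unfold brank
    have := finrank_range_le_card (R := p.asIdeal.ResidueField) (fun i => fib p (x i))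
    simpa [Set.finrank] using this
  simp only [Fintype.card_fin, Set.finrank]
  unfold brank at h1 h3
  omega

end Main

section Local

variable {A : Type u} [CommRing A] (p : Ideal A) [p.IsPrime]
  (Q : Type u) [AddCommGroup Q] [Module A Q]

/-- `κ(p) ⊗_{A_p} Q_p ≃ κ(p) ⊗_A Q`. -/
noncomputable def fibEquiv :
    p.ResidueField ⊗[Localization.AtPrime p] (LocalizedModule p.primeCompl Q)
      ≃ₗ[p.ResidueField] p.ResidueField ⊗[A] Q :=
  (AlgebraTensorModule.congr (LinearEquiv.refl p.ResidueField p.ResidueField)
    (IsLocalizedModule.isBaseChange p.primeCompl (Localization.AtPrime p)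
      (LocalizedModule.mkLinearMap p.primeCompl Q)).equiv.symm) ≪≫ₗ
  AlgebraTensorModule.cancelBaseChange A (Localization.AtPrime p) p.ResidueField
    p.ResidueField Q

lemma fibEquiv_tmul (q : Q) :
    fibEquiv p Q ((1 : p.ResidueField) ⊗ₜ[Localization.AtPrime p]
      (LocalizedModule.mkLinearMap p.primeCompl Q q)) = (1 : p.ResidueField) ⊗ₜ[A] q := by
  unfold fibEquiv
  rw [LinearEquiv.trans_apply, AlgebraTensorModule.congr_tmul, IsBaseChange.equiv_symm_apply]
  simp

lemma finrank_fibre_of_equiv {r : ℕ}
    (e : LocalizedModule p.primeCompl Q ≃ₗ[Localization.AtPrime p]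
      (Fin r → Localization.AtPrime p)) :
    finrank p.ResidueField (p.ResidueField ⊗[A] Q) = r := by
  have _ : Module.Free (Localization.AtPrime p) (LocalizedModule p.primeCompl Q) :=
    Module.Free.of_equiv e.symm
  rw [← (fibEquiv p Q).finrank_eq, Module.finrank_baseChange, e.finrank_eq,
    Module.finrank_fin_fun]

/-- Linear independence in the fibre over `A` gives linear independence in the fibre over
`A_p` of the localized elements. -/
lemma linearIndependent_localized_fibre {s : ℕ} (x : Fin s → Q)
    (hx : LinearIndependent p.ResidueField (fun i => (1 : p.ResidueField) ⊗ₜ[A] x i)) :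
    LinearIndependent p.ResidueField (fun i => (1 : p.ResidueField) ⊗ₜ[Localization.AtPrime p]
      (LocalizedModule.mkLinearMap p.primeCompl Q (x i))) := by
  apply LinearIndependent.of_comp (fibEquiv p Q).toLinearMap
  convert hx using 1
  funext i
  exact fibEquiv_tmul p Q (x i)

end Local

section Final

variable {A : Type u} [CommRing A] [IsNoetherianRing A] {M : Type u} [AddCommGroup M] [Module A M]

theorem linearIndependent_of_fibres (k r : ℕ)
    (hAss : ∀ p ∈ associatedPrimes A A, p.height ≤ k)
    (hM : ∀ p : PrimeSpectrum A, p.asIdeal.height ≤ k →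
      Nonempty (LocalizedModule p.asIdeal.primeCompl M ≃ₗ[Localization.AtPrime p.asIdeal]
        (Fin r → Localization.AtPrime p.asIdeal)))
    {s : ℕ} (x : Fin s → M)
    (hx : ∀ p : PrimeSpectrum A, p.asIdeal.height ≤ k →
      LinearIndependent p.asIdeal.ResidueField (fun i => fib p (x i))) :
    LinearIndependent A x := by
  rw [Fintype.linearIndependent_iff]
  intro g hg j
  by_contra hj
  obtain ⟨P, hP, hle⟩ := exists_le_isAssociatedPrime_of_isNoetherianRing A (g j) hj
  have _ := hP.isPrime
  have hPk : P.height ≤ k := hAss P hP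
  obtain ⟨e⟩ := hM ⟨P, hP.isPrime⟩ hPk
  have _ : Module.Free (Localization.AtPrime P) (LocalizedModule P.primeCompl M) :=
    Module.Free.of_equiv e.symm
  have hli := IsLocalRing.linearIndependent_of_flat (R := Localization.AtPrime P)
    (M := LocalizedModule P.primeCompl M)
    (fun i => LocalizedModule.mkLinearMap P.primeCompl M (x i))
    (linearIndependent_localized_fibre P M x (hx ⟨P, hP.isPrime⟩ hPk))
  rw [Fintype.linearIndependent_iff] at hli
  have h0 : ∑ i, algebraMap A (Localization.AtPrime P) (g i) •
      LocalizedModule.mkLinearMap P.primeCompl M (x i) = 0 := by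
    simp_rw [algebraMap_smul, ← map_smul, ← map_sum, hg, map_zero]
  have h1 := hli _ h0 j
  obtain ⟨u, hu⟩ :=
    (IsLocalization.map_eq_zero_iff P.primeCompl (Localization.AtPrime P) (g j)).mp h1
  have : (u : A) ∈ P := hle (by
    rw [Submodule.mem_colon_singleton]
    simpa [smul_eq_mul] using hu)
  exact u.2 this

end Final

section Quot

variable {A : Type u} [CommRing A] {M : Type u} [AddCommGroup M] [Module A M]

lemma finrank_range_add_quot [Module.Finite A M] (N : Submodule A M) (κ : Type*) [Field κ]
    [Algebra A κ] :
    finrank κ (LinearMap.range (N.subtype.baseChange κ)) + finrank κ (κ ⊗[A] (M ⧸ N)) =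
      finrank κ (κ ⊗[A] M) := by
  set π := N.mkQ with hπ
  have hsurj : Function.Surjective (π.baseChange κ) :=
    LinearMap.lTensor_surjective κ (Submodule.mkQ_surjective _)
  have hker : LinearMap.ker (π.baseChange κ) = LinearMap.range (N.subtype.baseChange κ) := by
    ext x
    have hex := lTensor_exact κ (LinearMap.exact_subtype_mkQ N) (Submodule.mkQ_surjective N)
    have := hex x
    rw [LinearMap.mem_ker, LinearMap.mem_range]
    exact this
  have h := LinearMap.finrank_range_add_finrank_ker (π.baseChange κ)
  rw [LinearMap.range_eq_top.mpr hsurj, finrank_top, hker] at h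
  omega

theorem quotient_free_at [Module.Finite A M] (p : Ideal A) [p.IsPrime] {r s : ℕ}
    (e : LocalizedModule p.primeCompl M ≃ₗ[Localization.AtPrime p]
      (Fin r → Localization.AtPrime p)) (x : Fin s → M)
    (hx : LinearIndependent p.ResidueField (fun i => (1 : p.ResidueField) ⊗ₜ[A] x i)) :
    Nonempty (LocalizedModule p.primeCompl (M ⧸ Submodule.span A (Set.range x))
      ≃ₗ[Localization.AtPrime p] (Fin (r - s) → Localization.AtPrime p)) := by
  classical
  set N := Submodule.span A (Set.range x) with hN
  set S := p.primeCompl with hS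
  set R := Localization.AtPrime p with hR
  set F := LocalizedModule S M with hF
  set P := LocalizedModule S (M ⧸ N) with hP
  set y : Fin s → F := fun i => LocalizedModule.mkLinearMap S M (x i) with hy
  have hyli : LinearIndependent p.ResidueField
      (fun i => (1 : p.ResidueField) ⊗ₜ[R] y i) :=
    linearIndependent_localized_fibre p M x hx
  set f : (Fin s → R) →ₗ[R] F := Fintype.linearCombination R y with hf
  set g : F →ₗ[R] P := LocalizedModule.map S N.mkQ with hg
  have hgsurj : Function.Surjective g := by
    intro z
    induction z using LocalizedModule.induction_on with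
    | h m t =>
      obtain ⟨m, rfl⟩ := N.mkQ_surjective m
      exact ⟨LocalizedModule.mk m t, LocalizedModule.map_mk _ _ _ _⟩
  have hgy : ∀ i, g (y i) = 0 := by
    intro i
    have : y i = LocalizedModule.mk (x i) 1 := rfl
    rw [this, hg, LocalizedModule.map_mk]
    have : N.mkQ (x i) = 0 := by
      rw [Submodule.mkQ_apply, Submodule.Quotient.mk_eq_zero]
      exact Submodule.subset_span ⟨i, rfl⟩
    rw [this, LocalizedModule.zero_mk]
  have hex : Function.Exact f g := by
    rw [LinearMap.exact_iff, hf, Fintype.range_linearCombination]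
    apply le_antisymm
    · intro z hz
      rw [LinearMap.mem_ker] at hz
      induction z using LocalizedModule.induction_on with
      | h m t =>
        rw [hg, LocalizedModule.map_mk, ← LocalizedModule.zero_mk 1, LocalizedModule.mk_eq] at hz
        obtain ⟨u, hu⟩ := hz
        have hum : (u : A) • m ∈ N := by
          rw [← Submodule.Quotient.mk_eq_zero, Submodule.Quotient.mk_smul]
          simpa [Submonoid.smul_def] using hu
        obtain ⟨c, hc⟩ := (Submodule.mem_span_range_iff_exists_fun A).mp hum
        have h1 : LocalizedModule.mk m t =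
            (Localization.mk 1 (u * t) : R) • LocalizedModule.mkLinearMap S M ((u : A) • m) := by
          rw [LocalizedModule.mkLinearMap_apply, LocalizedModule.mk_smul_mk, one_smul, mul_one]
          exact (LocalizedModule.mk_cancel_common_left u t m).symm
        rw [h1, ← hc, map_sum]
        refine Submodule.smul_mem _ _ (Submodule.sum_mem _ fun i _ => ?_)
        rw [map_smul, ← algebraMap_smul R (c i)]
        exact Submodule.smul_mem _ _ (Submodule.subset_span ⟨i, rfl⟩)
    · rw [Submodule.span_le]
      rintro _ ⟨i, rfl⟩
      exact hgy i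
  have _ : Module.Free R F := Module.Free.of_equiv e.symm
  have _ : Module.Finite R F := Module.Finite.equiv e.symm
  have hfinj : Function.Injective (f.lTensor p.ResidueField) := by
    let b := (Pi.basisFun R (Fin s)).baseChange p.ResidueField
    have heq : f.baseChange p.ResidueField =
        b.constr p.ResidueField (fun i => (1 : p.ResidueField) ⊗ₜ[R] y i) := by
      apply b.ext
      intro i
      rw [Basis.constr_basis, Basis.baseChange_apply, LinearMap.baseChange_tmul, Pi.basisFun_apply,
        hf, Fintype.linearCombination_apply_single, one_smul]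
    have hinj : Function.Injective (f.baseChange p.ResidueField) := by
      rw [heq]
      exact b.injective_constr_of_linearIndependent hyli
    intro a b hab
    exact hinj hab
  have hfree : Module.Free R P :=
    Module.free_of_lTensor_residueField_injective f g hgsurj hex hfinj
  have _ : Module.Finite R P := Module.Finite.of_surjective g hgsurj
  have hrank : finrank R P = r - s := by
    have h1 : finrank R P = finrank p.ResidueField (p.ResidueField ⊗[A] (M ⧸ N)) := by
      rw [← (fibEquiv p (M ⧸ N)).finrank_eq, Module.finrank_baseChange]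
    have h2 := finrank_range_add_quot N p.ResidueField
    have h3 : finrank p.ResidueField (p.ResidueField ⊗[A] M) = r := finrank_fibre_of_equiv p M e
    have h4 : finrank p.ResidueField
        (LinearMap.range (N.subtype.baseChange p.ResidueField)) = s := by
      have h5 : LinearMap.range (N.subtype.baseChange p.ResidueField) =
          Submodule.span p.ResidueField
            (Set.range fun i => (1 : p.ResidueField) ⊗ₜ[A] x i) := by
        change N.baseChange p.ResidueField = _
        rw [hN, Submodule.baseChange_span, ← Set.range_comp]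
        rfl
      rw [h5, finrank_span_eq_card hx, Fintype.card_fin]
    omega
  exact ⟨(Module.finBasisOfFinrankEq R P hrank).equivFun⟩

end Quot

end Groth.Agent.Lib.Helper28.Basic
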