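import Mathlib
import Groth.Agent.Lib.Helper28HomShRefl2
import Groth.Agent.Lib.Helper28ReflNormal
import Groth.Agent.Lib.Helper23UnitStalk

/-!
# The biduality map on stalks (helper28)

Namespace `Groth.Agent.Lib.Helper28.BidStalk`.

* `exists_eval_eq_of_pid`: over a principal ideal domain, every linear form on the dual of a finite module is an evaluation.
* `evalStalk_stalkMapₗ_bidualMap`: the stalk of the biduality map read through the evaluation isomorphisms.
* `surjective_stalkMapₗ_bidualMap_of_pid`, `injective_stalkMapₗ_bidualMap_of_projective`.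
* `stalkSpecializes_stalkMapₗ`: stalk maps commute with specialization.
-/

set_option autoImplicit false
set_option linter.unusedSectionVars false
universe u v w
open CategoryTheory Limits AlgebraicGeometry TopologicalSpace Opposite

namespace Groth.Agent.Lib.Helper28.BidStalk

open Groth.Agent.Lib.Helper28.HomSh Groth.Agent.Lib.Helper28.ReflNormal

section Alg

variable (R : Type u) [CommRing R] [IsDomain R] [IsPrincipalIdealRing R]
  (M : Type v) [AddCommGroup M] [Module R M] [Module.Finite R M]

theorem dual_apply_eq_zero_of_mem_torsion (l : Module.Dual R M) (m : M)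
    (hm : m ∈ Submodule.torsion R M) : l m = 0 := by
  obtain ⟨a, ha⟩ := (Submodule.mem_torsion_iff m).1 hm
  have h1 : (a : R) * l m = 0 := by
    have h2 : l ((a : R) • m) = 0 := by
      have : (a : R) • m = 0 := ha
      rw [this, map_zero]
    rwa [map_smul, smul_eq_mul] at h2
  rcases mul_eq_zero.1 h1 with h | h
  · exact absurd h (nonZeroDivisors.coe_ne_zero a)
  · exact h

/-- over a principal ideal domain the evaluation map of a finite module into its double dual is surjective. -/
theorem surjective_dual_eval_of_pid : Function.Surjective (Module.Dual.eval R M) := by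
  intro ξ
  let T := Submodule.torsion R M
  haveI : Module.IsTorsionFree R (M ⧸ T) := inferInstance
  haveI : Module.Free R (M ⧸ T) := inferInstance
  haveI : Module.IsReflexive R (M ⧸ T) := inferInstance
  let ξ' : Module.Dual R (Module.Dual R (M ⧸ T)) := ξ.comp (T.mkQ.dualMap)
  obtain ⟨n, hn⟩ := (Module.bijective_dual_eval R (M ⧸ T)).2 ξ'
  obtain ⟨m, rfl⟩ := T.mkQ_surjective n
  refine ⟨m, ?_⟩
  refine LinearMap.ext fun l => ?_
  have hl : T ≤ LinearMap.ker l := fun z hz => dual_apply_eq_zero_of_mem_torsion R M l z hz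
  have h1 : l = T.mkQ.dualMap (T.liftQ l hl) := by
    refine LinearMap.ext fun z => ?_
    rw [LinearMap.dualMap_apply]
    rfl
  have h2 := LinearMap.congr_fun hn (T.liftQ l hl)
  rw [Module.Dual.eval_apply] at h2 ⊢
  change (T.liftQ l hl) (T.mkQ m) = ξ (T.mkQ.dualMap (T.liftQ l hl)) at h2
  rw [← h1] at h2
  rw [← h2]
  rfl

/-- the same with values in a module isomorphic to `R`. -/
theorem exists_eval_eq_of_pid (P : Type w) [AddCommGroup P] [Module R P] (e : R ≃ₗ[R] P)
    (ξ : (M →ₗ[R] P) →ₗ[R] P) : ∃ m : M, ∀ l : M →ₗ[R] P, ξ l = l m := by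
  let ξ' : Module.Dual R (Module.Dual R M) :=
    { toFun := fun μ => e.symm (ξ (e.toLinearMap.comp μ))
      map_add' := fun μ ν => by rw [LinearMap.comp_add, map_add, map_add]
      map_smul' := fun a μ => by rw [LinearMap.comp_smul, map_smul, map_smul]; rfl }
  obtain ⟨m, hm⟩ := surjective_dual_eval_of_pid R M ξ'
  refine ⟨m, fun l => ?_⟩
  have h1 := LinearMap.congr_fun hm (e.symm.toLinearMap.comp l)
  rw [Module.Dual.eval_apply] at h1
  change e.symm (l m) = e.symm (ξ (e.toLinearMap.comp (e.symm.toLinearMap.comp l))) at h1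
  have h2 : e.toLinearMap.comp (e.symm.toLinearMap.comp l) = l := by
    refine LinearMap.ext fun z => ?_
    simp
  rw [h2] at h1
  exact (e.symm.injective h1).symm

end Alg


section Sch

variable {X : Scheme.{u}}

/-- stalk maps commute with the specialization maps. -/
theorem stalkSpecializes_stalkMapₗ {A B : X.Modules} (φ : A ⟶ B) {x ξ : X} (h : ξ ⤳ x)
    (v : A.presheaf.stalk x) :
    B.presheaf.stalkSpecializes h (RefHull.stalkMapₗ φ x v) =
      RefHull.stalkMapₗ φ ξ (A.presheaf.stalkSpecializes h v) := by
  obtain ⟨U, hx, m, rfl⟩ := TopCat.Presheaf.exists_germ_eq A.presheaf v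
  have hξ : ξ ∈ U := h.mem_open U.isOpen hx
  have e1 : A.presheaf.stalkSpecializes h (A.presheaf.germ U x hx m) = A.presheaf.germ U ξ hξ m :=
    ConcreteCategory.congr_hom (TopCat.Presheaf.germ_stalkSpecializes A.presheaf hx h) m
  have e2 : B.presheaf.stalkSpecializes h (B.presheaf.germ U x hx (φ.app U m)) =
      B.presheaf.germ U ξ hξ (φ.app U m) :=
    ConcreteCategory.congr_hom (TopCat.Presheaf.germ_stalkSpecializes B.presheaf hx h) (φ.app U m)
  rw [RefHull.stalkMapₗ_germ, e1, e2, RefHull.stalkMapₗ_germ]

variable (F : X.Modules)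

/-- the stalk of the biduality map, read through the evaluation map of the double dual. -/
theorem evalStalk_stalkMapₗ_bidualMap (x : X) (v : F.presheaf.stalk x) :
    RefHull.evalStalk (RefHull.dual F) (Coh.structureModule X) x
      (RefHull.stalkMapₗ (RefHull.bidualMap F) x v) = RefHull.bidualAt F x v := by
  obtain ⟨U, hx, m, rfl⟩ := TopCat.Presheaf.exists_germ_eq F.presheaf v
  rw [RefHull.stalkMapₗ_germ, RefHull.evalStalk_germ]
  rfl

variable [IsLocallyNoetherian X]

/-- at a point whose local ring is a principal ideal domain, the stalk of the biduality map of a coherent module is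
surjective. -/
theorem surjective_stalkMapₗ_bidualMap_of_pid (hF : Coh.IsCoh F) (x : X)
    [IsDomain (X.presheaf.stalk x)] [IsPrincipalIdealRing (X.presheaf.stalk x)] :
    Function.Surjective (RefHull.stalkMapₗ (RefHull.bidualMap F) x) := by
  intro ζ
  haveI := finite_stalk_of_isCoh F hF x
  have hD : Coh.IsCoh (RefHull.dual F) := isCoh_homSh F _ hF (isCoh_structureModule' X)
  have hE := evalStalk_bijective_of_isCoh F (Coh.structureModule X) hF x
  have hE2 := evalStalk_bijective_of_isCoh (RefHull.dual F) (Coh.structureModule X) hD x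
  let E := LinearEquiv.ofBijective (RefHull.evalStalk F (Coh.structureModule X) x) hE
  obtain ⟨v, hv⟩ := exists_eval_eq_of_pid (X.presheaf.stalk x) (F.presheaf.stalk x)
    ((Coh.structureModule X).presheaf.stalk x) (Groth.Agent.Lib.Helper23.UnitStalk.unitStalkEquiv x)
    ((RefHull.evalStalk (RefHull.dual F) (Coh.structureModule X) x ζ).comp E.symm.toLinearMap)
  refine ⟨v, ?_⟩
  apply hE2.1
  rw [evalStalk_stalkMapₗ_bidualMap]
  refine LinearMap.ext fun θ => ?_
  rw [RefHull.bidualAt_apply]
  have h1 := hv (RefHull.evalStalk F (Coh.structureModule X) x θ)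
  rw [← h1, LinearMap.comp_apply]
  congr 1
  exact E.symm_apply_apply θ

/-- at a point where the stalk is projective, the stalk of the biduality map of a coherent module is injective. -/
theorem injective_stalkMapₗ_bidualMap_of_projective (hF : Coh.IsCoh F) (x : X)
    [Module.Projective (X.presheaf.stalk x) (F.presheaf.stalk x)] :
    Function.Injective (RefHull.stalkMapₗ (RefHull.bidualMap F) x) := by
  rw [injective_iff_map_eq_zero]
  intro v hv
  have hE := evalStalk_bijective_of_isCoh F (Coh.structureModule X) hF x
  have h1 : RefHull.bidualAt F x v = 0 := by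
    rw [← evalStalk_stalkMapₗ_bidualMap, hv, map_zero]
  rw [← Module.forall_dual_apply_eq_zero_iff (X.presheaf.stalk x)]
  intro l
  obtain ⟨θ, hθ⟩ := hE.2
    ((Groth.Agent.Lib.Helper23.UnitStalk.unitStalkEquiv x).toLinearMap.comp l)
  have h2 := LinearMap.congr_fun h1 θ
  rw [RefHull.bidualAt_apply, hθ, LinearMap.zero_apply, LinearMap.comp_apply] at h2
  exact (Groth.Agent.Lib.Helper23.UnitStalk.unitStalkEquiv x).injective (by rw [map_zero]; exact h2)

end Sch

end Groth.Agent.Lib.Helper28.BidStalk
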