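import Groth.Agent.Lib.Helper28TensorDim
import Groth.Agent.Lib.Helper28DepthFlat
import Groth.Prelude.Def_EGA4b

/-!
# Cohen--Macaulayness of `N ⊗_A M` for a flat module over a local homomorphism (helper28)

EGA IV 6.3.3: `N ⊗_A M` is Cohen--Macaulay over `B` iff `M` is over `A` and `N / m_A N` is over
`B` (equivalently over `B / m_A B`).

* `supportDim_eq_of_surjective`;
* `isCohenMacaulayModule_tensor_iff`, `isCohenMacaulayModule_fibMod_iff`.
-/

set_option autoImplicit false
universe u
open TensorProduct

namespace Groth.Agent.Lib.Helper28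

section Surj

variable {B B' : Type u} [CommRing B] [CommRing B'] [Algebra B B']
  (X : Type u) [AddCommGroup X] [Module B X] [Module B' X] [IsScalarTower B B' X]

theorem comap_annihilator_eq :
    (Module.annihilator B' X).comap (algebraMap B B') = Module.annihilator B X := by
  ext b
  rw [Ideal.mem_comap, Module.mem_annihilator, Module.mem_annihilator]
  simp only [algebraMap_smul]

theorem supportDim_eq_of_surjective (hs : Function.Surjective (algebraMap B B'))
    [Module.Finite B X] : Module.supportDim B X = Module.supportDim B' X := by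
  have hfin : Module.Finite B' X := Module.Finite.of_restrictScalars_finite B B' X
  rw [Module.supportDim_eq_ringKrullDim_quotient_annihilator,
    Module.supportDim_eq_ringKrullDim_quotient_annihilator]
  let f : B →+* B' ⧸ Module.annihilator B' X :=
    (Ideal.Quotient.mk (Module.annihilator B' X)).comp (algebraMap B B')
  have hf : Function.Surjective f := Ideal.Quotient.mk_surjective.comp hs
  have hker : RingHom.ker f = Module.annihilator B X := by
    have h0 := comap_annihilator_eq (B := B) (B' := B') X
    ext b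
    rw [← h0]
    simp only [f, RingHom.mem_ker, RingHom.comp_apply, Ideal.Quotient.eq_zero_iff_mem,
      Ideal.mem_comap]
  exact ringKrullDim_eq_of_ringEquiv
    ((Ideal.quotEquivOfEq hker.symm).trans (RingHom.quotientKerEquivOfSurjective hf))

end Surj

section CM

variable {A B : Type u} [CommRing A] [CommRing B] [IsNoetherianRing A] [IsNoetherianRing B]
  [IsLocalRing A] [IsLocalRing B] [Algebra A B] [IsLocalHom (algebraMap A B)]
  (M : Type u) [AddCommGroup M] [Module A M] [Module.Finite A M] [Nontrivial M]
  (N : Type u) [AddCommGroup N] [Module B N] [Module A N] [IsScalarTower A B N]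
  [Module.Finite B N] [Nontrivial N] [Module.Flat A N]

omit [IsNoetherianRing A] [IsNoetherianRing B] [Module.Flat A N] [Module A N]
  [IsScalarTower A B N] in
theorem nontrivial_fibre : Nontrivial
    (N ⧸ ((IsLocalRing.maximalIdeal A).map (algebraMap A B) • ⊤ : Submodule B N)) := by
  rw [Submodule.Quotient.nontrivial_iff]
  exact smul_top_ne_top_of_le_maximalIdeal
    (IsLocalRing.map_maximalIdeal_le (algebraMap A B))

theorem exists_natCast_eq_depth {R : Type u} [CommRing R] [IsLocalRing R] [IsNoetherianRing R]
    (X : Type u) [AddCommGroup X] [Module R X] [Module.Finite R X] [Nontrivial X] :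
    ∃ r : ℕ, LocCoh.depth R X = r := by
  obtain ⟨r, hr⟩ := ENat.ne_top_iff_exists.mp
    (idealDepth_ne_top (maximalIdeal_smul_top_ne_top (R := R) (M := X)))
  exact ⟨r, hr.symm⟩

theorem isCohenMacaulayModule_tensor_iff :
    LocCoh.IsCohenMacaulayModule B (N ⊗[A] M) ↔
      (LocCoh.IsCohenMacaulayModule A M ∧ LocCoh.IsCohenMacaulayModule B
        (N ⧸ ((IsLocalRing.maximalIdeal A).map (algebraMap A B) • ⊤ : Submodule B N))) := by
  have hF := nontrivial_fibre (A := A) (B := B) N
  unfold LocCoh.IsCohenMacaulayModule
  rw [supportDim_tensor_of_flat N M, depth_tensor_of_flat M N]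
  obtain ⟨a, ha⟩ := exists_natCast_eq_supportDim (R := A) (M := M)
  obtain ⟨f, hf⟩ := exists_natCast_eq_supportDim (R := B)
    (M := N ⧸ ((IsLocalRing.maximalIdeal A).map (algebraMap A B) • ⊤ : Submodule B N))
  obtain ⟨r, hr⟩ := exists_natCast_eq_depth (R := A) M
  obtain ⟨s, hs⟩ := exists_natCast_eq_depth (R := B)
    (N ⧸ ((IsLocalRing.maximalIdeal A).map (algebraMap A B) • ⊤ : Submodule B N))
  have h1 := depth_le_supportDim (R := A) (M := M)
  have h2 := depth_le_supportDim (R := B)
    (M := N ⧸ ((IsLocalRing.maximalIdeal A).map (algebraMap A B) • ⊤ : Submodule B N))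
  rw [ha, hr] at h1
  rw [hf, hs] at h2
  rw [ha, hf, hr, hs]
  have c1 : ∀ k : ℕ, ((k : ℕ∞) : WithBot ℕ∞) = ((k : ℕ) : WithBot ℕ∞) := fun _ => rfl
  rw [c1] at h1 h2
  have h1' : r ≤ a := by exact_mod_cast h1
  have h2' : s ≤ f := by exact_mod_cast h2
  have c2 : (((r : ℕ∞) + (s : ℕ∞) : ℕ∞) : WithBot ℕ∞) = ((r + s : ℕ) : WithBot ℕ∞) := by
    push_cast
    rfl
  rw [c2, c1, c1]
  constructor
  · intro h
    have h' : a + f = r + s := by exact_mod_cast h
    constructor
    · have : a = r := by omega
      rw [this]
    · have : f = s := by omega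
      rw [this]
  · rintro ⟨h3, h4⟩
    have h3' : a = r := by exact_mod_cast h3
    have h4' : f = s := by exact_mod_cast h4
    rw [h3', h4']
    push_cast
    rfl

end CM

section FibCM

variable {A B : Type u} [CommRing A] [CommRing B] [IsNoetherianRing A] [IsNoetherianRing B]
  [IsLocalRing A] [IsLocalRing B] [Algebra A B] [IsLocalHom (algebraMap A B)]
  (N : Type u) [AddCommGroup N] [Module B N] 
  [Module.Finite B N]

omit [IsNoetherianRing A] in
theorem isCohenMacaulayModule_fibMod_iff :
    LocCoh.IsCohenMacaulayModule (EGA4.FibRing A B) (EGA4.FibMod A B N) ↔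
      LocCoh.IsCohenMacaulayModule B
        (N ⧸ ((IsLocalRing.maximalIdeal A).map (algebraMap A B) • ⊤ : Submodule B N)) := by
  have hloc : IsLocalHom (algebraMap B (EGA4.FibRing A B)) :=
    IsLocalHom.of_surjective _ Ideal.Quotient.mk_surjective
  unfold LocCoh.IsCohenMacaulayModule
  have h1 := supportDim_eq_of_surjective (B := B) (B' := EGA4.FibRing A B) (EGA4.FibMod A B N)
    Ideal.Quotient.mk_surjective
  have h2 := depth_eq_depth_of_isLocalHom_of_finite (A := B) (B := EGA4.FibRing A B)
    (M := EGA4.FibMod A B N)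
  rw [← h1, ← h2]

end FibCM

end Groth.Agent.Lib.Helper28
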