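import Mathlib
import Groth.Prelude.Def_EGA4c
import Groth.Agent.Lib.Helper28CTensorF

/-!
# The completed tensor product `A ⊗̂_k B` (helper28): semilocality and residue fields
-/

set_option autoImplicit false
set_option linter.unusedSectionVars false
set_option linter.style.haveILetI false
set_option linter.deprecated false
universe u

attribute [local instance] Algebra.TensorProduct.rightAlgebra

namespace Groth.Agent.Lib.Helper28.CTensor

open IsLocalRing TensorProduct

section CT3

variable (k A B : Type u) [Field k] [CommRing A] [CommRing B] [Algebra k A] [Algebra k B]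
  [IsLocalRing A] [IsLocalRing B] [IsNoetherianRing A] [IsNoetherianRing B]
  [IsAdicComplete (maximalIdeal B) B] [Module.Finite k (ResidueField A)]

theorem finite_quotient_cTensorIdeal :
    Module.Finite B ((A ⊗[k] B) ⧸ EGA4.cTensorIdeal k A B) := by
  have hle : (maximalIdeal A).map (algebraMap A (A ⊗[k] B)) ≤ EGA4.cTensorIdeal k A B := by
    rw [cTensorIdeal_eq]; exact le_sup_left
  haveI : Module.Finite B ((A ⊗[k] B) ⧸ (maximalIdeal A).map (algebraMap A (A ⊗[k] B))) := by
    have := finite_left k A B 1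
    rwa [pow_one] at this
  exact Module.Finite.of_surjective (Ideal.Quotient.factorₐ B hle).toLinearMap
    (Ideal.Quotient.factor_surjective hle)

theorem isArtinianRing_quotient_cTensorIdeal :
    IsArtinianRing ((A ⊗[k] B) ⧸ EGA4.cTensorIdeal k A B) := by
  have hle : maximalIdeal B ≤ RingHom.ker ((Ideal.Quotient.mk (EGA4.cTensorIdeal k A B)).comp
      (algebraMap B (A ⊗[k] B))) := by
    intro b hb
    rw [RingHom.mem_ker, RingHom.comp_apply, Ideal.Quotient.eq_zero_iff_mem, cTensorIdeal_eq]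
    exact Ideal.mem_sup_right (Ideal.mem_map_of_mem _ hb)
  let φ : ResidueField B →+* (A ⊗[k] B) ⧸ EGA4.cTensorIdeal k A B :=
    Ideal.Quotient.lift (maximalIdeal B) _ hle
  letI : Algebra (ResidueField B) ((A ⊗[k] B) ⧸ EGA4.cTensorIdeal k A B) := φ.toAlgebra
  haveI : IsScalarTower B (ResidueField B) ((A ⊗[k] B) ⧸ EGA4.cTensorIdeal k A B) :=
    IsScalarTower.of_algebraMap_eq fun x => rfl
  haveI := finite_quotient_cTensorIdeal k A B
  haveI : Module.Finite (ResidueField B) ((A ⊗[k] B) ⧸ EGA4.cTensorIdeal k A B) :=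
    Module.Finite.of_restrictScalars_finite B _ _
  exact IsArtinianRing.of_finite (ResidueField B) _

/-- The completed tensor product is semilocal. -/
theorem finite_maximalSpectrum_cTensor : Finite (MaximalSpectrum (EGA4.CTensor k A B)) := by
  have hfg := fg_of_eq A B (EGA4.cTensorIdeal k A B) (cTensorIdeal_eq k A B)
  haveI := isArtinianRing_quotient_cTensorIdeal k A B
  apply finite_maximalSpectrum_of_surjective
    (AdicCompletion.evalOneₐ (EGA4.cTensorIdeal k A B)).toRingHom
    (AdicCompletion.evalOneₐ_surjective (EGA4.cTensorIdeal k A B))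
  rw [AdicCompletion.ker_evalOneₐ_eq_map _ hfg]
  exact map_le_jacobson _ hfg

/-- Residue fields of the completed tensor product are finite over `B`. -/
theorem finite_quotient_maximal (M : Ideal (EGA4.CTensor k A B)) [M.IsMaximal] :
    Module.Finite B (EGA4.CTensor k A B ⧸ M) := by
  have hfg := fg_of_eq A B (EGA4.cTensorIdeal k A B) (cTensorIdeal_eq k A B)
  have hM : (EGA4.cTensorIdeal k A B).map (algebraMap (A ⊗[k] B) (EGA4.CTensor k A B)) ≤ M := by
    refine (map_le_jacobson _ hfg).trans ?_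
    rw [Ideal.jacobson]
    exact sInf_le ⟨bot_le, ‹M.IsMaximal›⟩
  let φ : (A ⊗[k] B) →ₐ[B] EGA4.CTensor k A B ⧸ M :=
    (Ideal.Quotient.mkₐ B M).comp (IsScalarTower.toAlgHom B (A ⊗[k] B) (EGA4.CTensor k A B))
  have hφ : ∀ t, φ t = Ideal.Quotient.mk M (algebraMap (A ⊗[k] B) (EGA4.CTensor k A B) t) :=
    fun t => rfl
  have hkill : ∀ t ∈ EGA4.cTensorIdeal k A B, φ t = 0 := by
    intro t ht
    rw [hφ, Ideal.Quotient.eq_zero_iff_mem]
    exact hM (Ideal.mem_map_of_mem _ ht)
  let ψ := Ideal.Quotient.liftₐ (EGA4.cTensorIdeal k A B) φ hkill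
  have hψ : Function.Surjective ψ := by
    intro y
    obtain ⟨c, rfl⟩ := Ideal.Quotient.mk_surjective y
    obtain ⟨t, ht⟩ := Groth.Agent.Lib.Helper19.exists_sub_of_mem_map_pow
      (EGA4.cTensorIdeal k A B) hfg 1 c
    rw [pow_one] at ht
    refine ⟨Ideal.Quotient.mk _ t, ?_⟩
    change φ t = _
    rw [hφ, eq_comm, Ideal.Quotient.eq]
    exact hM ht
  haveI := finite_quotient_cTensorIdeal k A B
  exact Module.Finite.of_surjective ψ.toLinearMap hψ

/-- `C ⧸ 𝔪_A C ≃ (A ⧸ 𝔪_A) ⊗[k] B`. -/
theorem nonempty_quotient_equiv_tensor :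
    Nonempty ((EGA4.CTensor k A B ⧸ (maximalIdeal A).map (algebraMap A (EGA4.CTensor k A B))) ≃+*
      ((A ⧸ maximalIdeal A) ⊗[k] B)) := by
  obtain ⟨e, -⟩ := exists_quotient_equiv k A B 1
  have e' : ((A ⊗[k] B) ⧸ ((maximalIdeal A).map (algebraMap A (A ⊗[k] B)))) ≃+*
      (EGA4.CTensor k A B ⧸ ((maximalIdeal A).map (algebraMap A (EGA4.CTensor k A B)))) := by
    rwa [pow_one, pow_one] at e
  exact ⟨e'.symm.trans
    (Algebra.TensorProduct.quotientTensorEquiv (R := k) k B A (maximalIdeal A)).symm.toRingEquiv⟩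

end CT3

end Groth.Agent.Lib.Helper28.CTensor
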