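import Mathlib
import Groth.Prelude.Def_EGA4c
import Groth.Agent.Lib.Helper28CTensorG
import Groth.Agent.Lib.Helper18ComplProd
import Groth.Agent.Lib.Helper19Normalization
import Groth.Agent.Lib.Helper19PowerSeries
import Groth.Agent.Lib.Helper28FlatNormal

/-!
# The completed tensor product `A ⊗̂_k K` with a field `K` (helper28)
-/

set_option autoImplicit false
set_option linter.unusedSectionVars false
set_option linter.style.haveILetI false
set_option linter.deprecated false
universe u

attribute [local instance] Algebra.TensorProduct.rightAlgebra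

namespace Groth.Agent.Lib.Helper28.CTensor

open IsLocalRing TensorProduct

section PS

open MvPowerSeries Groth.Agent.Lib.Helper19

theorem maximalIdeal_mvPowerSeries_field (K : Type u) [Field K] (n : ℕ) :
    maximalIdeal (MvPowerSeries (Fin n) K) = varsIdeal (Fin n) K := by
  apply le_antisymm
  · intro g hg
    rw [maximalIdeal_eq_coeffIdeal, mem_coeffIdeal_one, maximalIdeal_eq_bot, Ideal.mem_bot] at hg
    have h1 := mem_varsIdeal_pow_of_coeff_eq_zero (σ := Fin n) (Λ := K) 1 g (by
      intro α hα
      have hα0 : α = 0 := by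
        rw [Nat.lt_one_iff] at hα
        exact (Finsupp.degree_eq_zero_iff α).1 hα
      rw [hα0, coeff_zero_eq_constantCoeff_apply, hg])
    rwa [pow_one] at h1
  · rw [maximalIdeal_eq_coeffIdeal]
    exact varsIdeal_le_coeffIdeal_one _

theorem isAdicComplete_field (K : Type u) [Field K] : IsAdicComplete (maximalIdeal K) K := by
  rw [maximalIdeal_eq_bot]
  infer_instance

/-- A `K`-algebra `C`, complete and separated for an ideal `J` generated by `n` elements, with
`C ⧸ J` finite over the field `K`, is finite over a power series ring `K[[X₁, …, Xₙ]]`. -/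
theorem exists_finite_mvPowerSeries_of_isAdicComplete (K C : Type u) [Field K] [CommRing C]
    [Algebra K C] (J : Ideal C) [IsAdicComplete J C] [Module.Finite K (C ⧸ J)]
    (n : ℕ) (a : Fin n → C) (ha : Ideal.span (Set.range a) = J) :
    ∃ ev : MvPowerSeries (Fin n) K →ₐ[K] C, ev.toRingHom.Finite := by
  classical
  have ham : ∀ i, a i ∈ J := fun i => by rw [← ha]; exact Ideal.subset_span ⟨i, rfl⟩
  obtain ⟨ev, hev⟩ := CohenStructure.exists_algHom_X_eq_of_isAdicComplete (Λ := K) J n a ham
  refine ⟨ev, ?_⟩
  letI : Algebra (MvPowerSeries (Fin n) K) C := ev.toRingHom.toAlgebra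
  have halg : ∀ g : MvPowerSeries (Fin n) K, algebraMap (MvPowerSeries (Fin n) K) C g = ev g :=
    fun g => rfl
  haveI : IsScalarTower K (MvPowerSeries (Fin n) K) C :=
    IsScalarTower.of_algebraMap_eq fun x => (ev.commutes x).symm
  haveI : IsAdicComplete (maximalIdeal K) K := isAdicComplete_field K
  haveI : IsAdicComplete (maximalIdeal (MvPowerSeries (Fin n) K)) (MvPowerSeries (Fin n) K) :=
    isAdicComplete_mvPowerSeries
  have hmap : (maximalIdeal (MvPowerSeries (Fin n) K)).map
      (algebraMap (MvPowerSeries (Fin n) K) C) = J := by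
    rw [maximalIdeal_mvPowerSeries_field, varsIdeal, Ideal.map_span, ← Set.range_comp, ← ha]
    congr 2
    funext i
    exact hev i
  haveI : IsHausdorff (maximalIdeal (MvPowerSeries (Fin n) K)) C :=
    IsHausdorff.of_map (J := J) (le_of_eq hmap)
  show Module.Finite (MvPowerSeries (Fin n) K) C
  apply Normalization.finite_of_finite_quotient_of_isAdicComplete
    (maximalIdeal (MvPowerSeries (Fin n) K))
  rw [Ideal.smul_top_eq_map, hmap]
  haveI : Module.Finite (MvPowerSeries (Fin n) K) (C ⧸ J) :=
    Module.Finite.of_restrictScalars_finite K (MvPowerSeries (Fin n) K) (C ⧸ J)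
  exact Module.Finite.equiv
    (Submodule.Quotient.restrictScalarsEquiv (MvPowerSeries (Fin n) K) J).symm

end PS

section Field

variable (k A K : Type u) [Field k] [CommRing A] [Field K] [Algebra k A] [Algebra k K]
  [IsLocalRing A] [IsNoetherianRing A] [Module.Finite k (ResidueField A)]

theorem cTensorIdeal_field : EGA4.cTensorIdeal k A K =
    (maximalIdeal A).map (algebraMap A (A ⊗[k] K)) := by
  rw [cTensorIdeal_eq, maximalIdeal_eq_bot, Ideal.map_bot, sup_bot_eq]

theorem map_cTensorIdeal_field :
    (EGA4.cTensorIdeal k A K).map (algebraMap (A ⊗[k] K) (EGA4.CTensor k A K)) =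
      (maximalIdeal A).map (algebraMap A (EGA4.CTensor k A K)) := by
  have h := cTensorIdeal_field k A K
  calc _ = ((maximalIdeal A).map (algebraMap A (A ⊗[k] K))).map
        (algebraMap (A ⊗[k] K) (EGA4.CTensor k A K)) := congrArg (Ideal.map _) h
    _ = _ := by rw [Ideal.map_map, ← IsScalarTower.algebraMap_eq]

theorem isAdicComplete_cTensor_field :
    IsAdicComplete ((maximalIdeal A).map (algebraMap A (EGA4.CTensor k A K)))
      (EGA4.CTensor k A K) := by
  have hfg := fg_of_eq A K (EGA4.cTensorIdeal k A K) (cTensorIdeal_eq k A K)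
  rw [← map_cTensorIdeal_field]
  exact AdicCompletion.isAdicComplete_self _ hfg

theorem finite_quotient_map_cTensor_field :
    Module.Finite K (EGA4.CTensor k A K ⧸
      (maximalIdeal A).map (algebraMap A (EGA4.CTensor k A K))) := by
  haveI := isAdicComplete_field K
  obtain ⟨e, he⟩ := exists_quotient_equiv k A K 1
  have hfin : Module.Finite K
      ((A ⊗[k] K) ⧸ ((maximalIdeal A).map (algebraMap A (A ⊗[k] K))) ^ 1) := by
    rw [← Ideal.map_pow]
    exact finite_left k A K 1
  have hB : ∀ b : K, e (algebraMap K _ b) = algebraMap K _ b := by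
    intro b
    change e (Ideal.Quotient.mk _ (algebraMap K (A ⊗[k] K) b)) = _
    rw [he, ← IsScalarTower.algebraMap_apply K (A ⊗[k] K) (EGA4.CTensor k A K)]
    rfl
  let l : ((A ⊗[k] K) ⧸ ((maximalIdeal A).map (algebraMap A (A ⊗[k] K))) ^ 1) →ₗ[K]
      (EGA4.CTensor k A K ⧸ ((maximalIdeal A).map (algebraMap A (EGA4.CTensor k A K))) ^ 1) :=
    { toFun := e
      map_add' := map_add e
      map_smul' := fun b x => by
        have h1 : b • x = algebraMap K _ b * x := Algebra.smul_def b x
        have h2 : (RingHom.id K) b • e x = algebraMap K _ b * e x := Algebra.smul_def b (e x)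
        rw [h1, h2, map_mul, hB] }
  have h2 : Module.Finite K
      (EGA4.CTensor k A K ⧸ ((maximalIdeal A).map (algebraMap A (EGA4.CTensor k A K))) ^ 1) :=
    Module.Finite.of_surjective l e.surjective
  rwa [pow_one] at h2

/-- The completed tensor product `A ⊗̂_k K` is finite over a power series ring over `K`. -/
theorem exists_finite_mvPowerSeries_cTensor_field :
    ∃ (n : ℕ) (ev : MvPowerSeries (Fin n) K →ₐ[K] EGA4.CTensor k A K), ev.toRingHom.Finite := by
  obtain ⟨n, a, ha⟩ := Submodule.fg_iff_exists_fin_generating_family.1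
    (IsNoetherian.noetherian (maximalIdeal A))
  haveI := isAdicComplete_cTensor_field k A K
  haveI := finite_quotient_map_cTensor_field k A K
  refine ⟨n, exists_finite_mvPowerSeries_of_isAdicComplete K (EGA4.CTensor k A K)
    ((maximalIdeal A).map (algebraMap A (EGA4.CTensor k A K))) n
    (fun i => algebraMap A (EGA4.CTensor k A K) (a i)) ?_⟩
  have h1 : maximalIdeal A = Ideal.span (Set.range a) := ha.symm
  rw [h1, Ideal.map_span, ← Set.range_comp]
  rfl

/-- Localizations of `A ⊗̂_k K` at maximal ideals are complete Noetherian local rings. -/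
theorem isAdicComplete_localization_cTensor_field
    (M : MaximalSpectrum (EGA4.CTensor k A K)) :
    IsNoetherianRing (Localization.AtPrime M.asIdeal) ∧
      IsAdicComplete (maximalIdeal (Localization.AtPrime M.asIdeal))
        (Localization.AtPrime M.asIdeal) := by
  obtain ⟨n, ev, hev⟩ := exists_finite_mvPowerSeries_cTensor_field k A K
  letI : Algebra (MvPowerSeries (Fin n) K) (EGA4.CTensor k A K) := ev.toRingHom.toAlgebra
  haveI : Module.Finite (MvPowerSeries (Fin n) K) (EGA4.CTensor k A K) := hev
  haveI : IsAdicComplete (maximalIdeal K) K := isAdicComplete_field K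
  haveI : IsAdicComplete (maximalIdeal (MvPowerSeries (Fin n) K)) (MvPowerSeries (Fin n) K) :=
    Groth.Agent.Lib.Helper19.isAdicComplete_mvPowerSeries
  exact (Groth.Agent.Lib.Helper18ComplProd.main (MvPowerSeries (Fin n) K)
    (EGA4.CTensor k A K)).2.2 M

theorem map_le_asIdeal_cTensor_field (M : MaximalSpectrum (EGA4.CTensor k A K)) :
    (maximalIdeal A).map (algebraMap A (EGA4.CTensor k A K)) ≤ M.asIdeal := by
  haveI := isAdicComplete_field K
  refine (map_maximalIdeal_le_jacobson_left k A K).trans ?_
  rw [Ideal.jacobson]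
  exact sInf_le ⟨bot_le, M.isMaximal⟩

theorem isLocalHom_localization_cTensor_field (M : MaximalSpectrum (EGA4.CTensor k A K)) :
    IsLocalHom (algebraMap A (Localization.AtPrime M.asIdeal)) := by
  constructor
  intro a ha
  by_contra hna
  have h1 : a ∈ maximalIdeal A := hna
  have h2 : algebraMap A (EGA4.CTensor k A K) a ∈ M.asIdeal :=
    map_le_asIdeal_cTensor_field k A K M (Ideal.mem_map_of_mem _ h1)
  have h3 : algebraMap (EGA4.CTensor k A K) (Localization.AtPrime M.asIdeal)
      (algebraMap A (EGA4.CTensor k A K) a) ∈ maximalIdeal (Localization.AtPrime M.asIdeal) :=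
    (IsLocalization.AtPrime.to_map_mem_maximal_iff _ M.asIdeal _).2 h2
  rw [← IsScalarTower.algebraMap_apply] at h3
  exact h3 ha

theorem faithfullyFlat_localization_cTensor_field (M : MaximalSpectrum (EGA4.CTensor k A K)) :
    Module.FaithfullyFlat A (Localization.AtPrime M.asIdeal) := by
  haveI := isAdicComplete_field K
  haveI := isLocalHom_localization_cTensor_field k A K M
  haveI : Module.Flat A (EGA4.CTensor k A K) := flat_cTensor_left k A K
  haveI : Module.Flat (EGA4.CTensor k A K) (Localization.AtPrime M.asIdeal) :=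
    IsLocalization.flat _ M.asIdeal.primeCompl
  haveI : Module.Flat A (Localization.AtPrime M.asIdeal) :=
    Module.Flat.trans A (EGA4.CTensor k A K) _
  exact Module.FaithfullyFlat.of_flat_of_isLocalHom

theorem isMaximal_of_map_le_cTensor_field (p : Ideal (EGA4.CTensor k A K)) [p.IsPrime]
    (hp : (maximalIdeal A).map (algebraMap A (EGA4.CTensor k A K)) ≤ p) : p.IsMaximal := by
  haveI := finite_quotient_map_cTensor_field k A K
  haveI : IsArtinianRing (EGA4.CTensor k A K ⧸
      (maximalIdeal A).map (algebraMap A (EGA4.CTensor k A K))) := IsArtinianRing.of_finite K _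
  have hker : RingHom.ker (Ideal.Quotient.mk
      ((maximalIdeal A).map (algebraMap A (EGA4.CTensor k A K)))) ≤ p := by
    rwa [Ideal.mk_ker]
  haveI h1 : (p.map (Ideal.Quotient.mk
      ((maximalIdeal A).map (algebraMap A (EGA4.CTensor k A K))))).IsPrime :=
    Ideal.map_isPrime_of_surjective Ideal.Quotient.mk_surjective hker
  have h2 : (p.map (Ideal.Quotient.mk
      ((maximalIdeal A).map (algebraMap A (EGA4.CTensor k A K))))).IsMaximal := inferInstance
  have h3 := Ideal.comap_isMaximal_of_surjective (Ideal.Quotient.mk
      ((maximalIdeal A).map (algebraMap A (EGA4.CTensor k A K)))) Ideal.Quotient.mk_surjective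
      (K := p.map (Ideal.Quotient.mk
      ((maximalIdeal A).map (algebraMap A (EGA4.CTensor k A K)))))
  rwa [Ideal.comap_map_of_surjective' _ Ideal.Quotient.mk_surjective, sup_eq_left.2 hker] at h3

theorem ringKrullDim_localization_cTensor_field (M : MaximalSpectrum (EGA4.CTensor k A K)) :
    ringKrullDim (Localization.AtPrime M.asIdeal) = ringKrullDim A := by
  haveI := isAdicComplete_field K
  haveI := isLocalHom_localization_cTensor_field k A K M
  haveI := (faithfullyFlat_localization_cTensor_field k A K M).toFlat
  haveI := (isAdicComplete_localization_cTensor_field k A K M).1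
  have hdim := Groth.Agent.Lib.Helper28.ringKrullDim_eq_add_of_flat (R := A)
    (S := Localization.AtPrime M.asIdeal)
    ((maximalIdeal A).map (algebraMap A (Localization.AtPrime M.asIdeal))) rfl
  have hne : (maximalIdeal A).map (algebraMap A (Localization.AtPrime M.asIdeal)) ≤
      maximalIdeal (Localization.AtPrime M.asIdeal) := by
    rw [Ideal.map_le_iff_le_comap, IsLocalRing.maximalIdeal_comap]
  haveI : Nontrivial (Localization.AtPrime M.asIdeal ⧸
      (maximalIdeal A).map (algebraMap A (Localization.AtPrime M.asIdeal))) :=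
    Ideal.Quotient.nontrivial_iff.2 fun h =>
      (IsLocalRing.maximalIdeal.isMaximal _).ne_top (top_le_iff.1 (h ▸ hne))
  have h0 : Ring.KrullDimLE 0 (Localization.AtPrime M.asIdeal ⧸
      (maximalIdeal A).map (algebraMap A (Localization.AtPrime M.asIdeal))) := by
    rw [Ring.krullDimLE_zero_iff]
    intro Q hQ
    have hP : (Q.comap (Ideal.Quotient.mk
        ((maximalIdeal A).map (algebraMap A (Localization.AtPrime M.asIdeal))))).IsPrime :=
      Ideal.comap_isPrime _ _
    have hJP : (maximalIdeal A).map (algebraMap A (Localization.AtPrime M.asIdeal)) ≤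
        Q.comap (Ideal.Quotient.mk
        ((maximalIdeal A).map (algebraMap A (Localization.AtPrime M.asIdeal)))) := by
      intro x hx
      rw [Ideal.mem_comap, Ideal.Quotient.eq_zero_iff_mem.2 hx]
      exact Ideal.zero_mem _
    set P := Q.comap (Ideal.Quotient.mk
        ((maximalIdeal A).map (algebraMap A (Localization.AtPrime M.asIdeal)))) with hPdef
    haveI hp : (P.comap (algebraMap (EGA4.CTensor k A K) (Localization.AtPrime M.asIdeal))).IsPrime :=
      Ideal.comap_isPrime _ _
    have hJp : (maximalIdeal A).map (algebraMap A (EGA4.CTensor k A K)) ≤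
        P.comap (algebraMap (EGA4.CTensor k A K) (Localization.AtPrime M.asIdeal)) := by
      rw [Ideal.map_le_iff_le_comap]
      intro a ha
      rw [Ideal.mem_comap, Ideal.mem_comap, ← IsScalarTower.algebraMap_apply]
      exact hJP (Ideal.mem_map_of_mem _ ha)
    have hpmax := isMaximal_of_map_le_cTensor_field k A K _ hJp
    have hpM : P.comap (algebraMap (EGA4.CTensor k A K) (Localization.AtPrime M.asIdeal)) ≤
        M.asIdeal := by
      have h1 : P ≤ maximalIdeal (Localization.AtPrime M.asIdeal) :=
        IsLocalRing.le_maximalIdeal hP.ne_top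
      have h2 := Ideal.comap_mono (f := algebraMap (EGA4.CTensor k A K)
        (Localization.AtPrime M.asIdeal)) h1
      exact h2.trans (le_of_eq
        (IsLocalization.AtPrime.comap_maximalIdeal (Localization.AtPrime M.asIdeal) M.asIdeal))
    have hpeq : P.comap (algebraMap (EGA4.CTensor k A K) (Localization.AtPrime M.asIdeal)) =
        M.asIdeal := hpmax.eq_of_le M.isMaximal.ne_top hpM
    have hPeq : P = maximalIdeal (Localization.AtPrime M.asIdeal) := by
      have h4 : Ideal.map (algebraMap (EGA4.CTensor k A K) (Localization.AtPrime M.asIdeal))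
          (P.comap (algebraMap (EGA4.CTensor k A K) (Localization.AtPrime M.asIdeal))) = P :=
        IsLocalization.map_comap M.asIdeal.primeCompl (Localization.AtPrime M.asIdeal) P
      rw [hpeq, Localization.AtPrime.map_eq_maximalIdeal] at h4
      exact h4.symm
    have hQeq : Q = P.map (Ideal.Quotient.mk
        ((maximalIdeal A).map (algebraMap A (Localization.AtPrime M.asIdeal)))) := by
      rw [hPdef, Ideal.map_comap_of_surjective _ Ideal.Quotient.mk_surjective]
    rw [hQeq, hPeq]
    exact Ideal.IsMaximal.map_of_surjective_of_ker_le Ideal.Quotient.mk_surjective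
      (by rwa [Ideal.mk_ker])
  rw [ringKrullDimZero_iff_ringKrullDim_eq_zero] at h0
  rw [hdim, h0, zero_add]

theorem finite_residue_cTensor_field (M : MaximalSpectrum (EGA4.CTensor k A K)) :
    (((Ideal.Quotient.mk M.asIdeal).comp
      (algebraMap (A ⊗[k] K) (EGA4.CTensor k A K))).comp
        (Algebra.TensorProduct.includeRight : K →ₐ[k] A ⊗[k] K).toRingHom).Finite := by
  haveI := isAdicComplete_field K
  haveI := M.isMaximal
  have hfin := finite_quotient_maximal k A K M.asIdeal
  rw [← RingHom.finite_algebraMap] at hfin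
  exact hfin

end Field

end Groth.Agent.Lib.Helper28.CTensor
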