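import Groth.Agent.Lib.Helper28DepthFlat2
import Groth.Agent.Lib.Helper28DepthCM2
import Groth.Agent.Lib.Helper28DimFormula

/-!
# Dimension of `N ⊗_A M` for a flat module over a local homomorphism (helper28)

EGA IV 6.1.2 (module form): for a local homomorphism of Noetherian local rings `A → B`, a finite
`A`-module `M` and a finite `B`-module `N` flat over `A`,
`dim_B (N ⊗_A M) = dim_A M + dim_B (N / m_A N)`.

* `support_tensor_quotient`, `comap_eq_of_mem_associatedPrimes_tensor_quotient` (an associated prime
  of `N ⊗ A/p` lies over `p`), `support_tensor_quotient_subset`;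
* `comap_mem_minimalPrimes_of_mem_minimalPrimes_tensor` (going down for the flat module `N`);
* `supportDim_tensor_aux`, `supportDim_tensor_of_flat`.
-/

set_option autoImplicit false
universe u
open TensorProduct

namespace Groth.Agent.Lib.Helper28

section General

variable {A B : Type u} [CommRing A] [CommRing B] [Algebra A B]
  (N : Type u) [AddCommGroup N] [Module B N] [Module A N] [IsScalarTower A B N]

/-- elements of `I` kill `N ⊗ (A/I)`. -/
theorem smul_tensor_quotient_eq_zero (I : Ideal A) {a : A} (ha : a ∈ I) (t : N ⊗[A] (A ⧸ I)) :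
    a • t = 0 := by
  induction t using TensorProduct.induction_on with
  | zero => simp
  | add x y hx hy => rw [smul_add, hx, hy, add_zero]
  | tmul n c =>
    obtain ⟨c, rfl⟩ := Ideal.Quotient.mk_surjective c
    rw [← TensorProduct.tmul_smul]
    have : a • (Ideal.Quotient.mk I c) = 0 := by
      rw [← Ideal.Quotient.mk_eq_mk, ← Submodule.Quotient.mk_smul, Ideal.Quotient.mk_eq_mk,
        Ideal.Quotient.eq_zero_iff_mem, smul_eq_mul]
      exact I.mul_mem_right c ha
    rw [this, TensorProduct.tmul_zero]

/-- The `B`-linear map `n ↦ n ⊗ 1`. -/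
noncomputable def tmulOne (I : Ideal A) : N →ₗ[B] N ⊗[A] (A ⧸ I) where
  toFun n := n ⊗ₜ[A] (1 : A ⧸ I)
  map_add' x y := TensorProduct.add_tmul x y 1
  map_smul' b x := by
    rw [RingHom.id_apply, TensorProduct.smul_tmul']

theorem tmulOne_surjective (I : Ideal A) : Function.Surjective (tmulOne (B := B) N I) := by
  intro t
  induction t using TensorProduct.induction_on with
  | zero => exact ⟨0, map_zero _⟩
  | add x y hx hy =>
    obtain ⟨x', rfl⟩ := hx
    obtain ⟨y', rfl⟩ := hy
    exact ⟨x' + y', map_add _ _ _⟩
  | tmul n c =>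
    obtain ⟨c, rfl⟩ := Ideal.Quotient.mk_surjective c
    refine ⟨c • n, ?_⟩
    change (c • n) ⊗ₜ[A] (1 : A ⧸ I) = _
    rw [TensorProduct.smul_tmul]
    congr 1
    rw [← Algebra.algebraMap_eq_smul_one]
    rfl

theorem ker_tmulOne (I : Ideal A) :
    LinearMap.ker (tmulOne (B := B) N I) = (I.map (algebraMap A B) • ⊤ : Submodule B N) := by
  ext n
  rw [LinearMap.mem_ker, mem_map_smul_top_iff]
  change n ⊗ₜ[A] (1 : A ⧸ I) = 0 ↔ _
  rw [← tensorQuotEquivQuotSMul_symm_mk, LinearEquiv.map_eq_zero_iff, Submodule.Quotient.mk_eq_zero]

theorem support_tensor_quotient [Module.Finite B N] (I : Ideal A) :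
    Module.support B (N ⊗[A] (A ⧸ I)) =
      Module.support B N ∩ PrimeSpectrum.zeroLocus (I.map (algebraMap A B) : Set B) := by
  rw [← Module.support_quotient, ← ker_tmulOne]
  exact ((tmulOne (B := B) N I).quotKerEquivOfSurjective (tmulOne_surjective N I)).support_eq.symm

/-- multiplication by `a` on `N ⊗ X` is `id ⊗ (a • ·)`. -/
theorem smul_eq_lTensor_lsmul (a : A) {X : Type u} [AddCommGroup X] [Module A X] (t : N ⊗[A] X) :
    a • t = (LinearMap.lsmul A X a).lTensor N t := by
  induction t using TensorProduct.induction_on with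
  | zero => simp
  | add x y hx hy => rw [smul_add, map_add, hx, hy]
  | tmul n x => rw [LinearMap.lTensor_tmul, LinearMap.lsmul_apply, TensorProduct.tmul_smul]

/-- Key fact: for `N` flat over `A`, an associated prime of the `B`-module `N ⊗ (A/p)` lies over
`p`. -/
theorem comap_eq_of_mem_associatedPrimes_tensor_quotient [IsNoetherianRing B] [Module.Flat A N]
    (p : Ideal A) [hp : p.IsPrime] (q : Ideal B)
    (hq : q ∈ associatedPrimes B (N ⊗[A] (A ⧸ p))) : q.comap (algebraMap A B) = p := by
  obtain ⟨hqp, e, he⟩ := (isAssociatedPrime_iff).mp hq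
  have hmem : ∀ b : B, b ∈ q ↔ b • e = 0 := by
    intro b
    rw [he, Submodule.mem_colon_singleton, Submodule.mem_bot]
  apply le_antisymm
  · intro a ha
    rw [Ideal.mem_comap, hmem, algebraMap_smul] at ha
    by_contra hap
    have hinj : Function.Injective (LinearMap.lsmul A (A ⧸ p) a) := by
      intro x y hxy
      simp only [LinearMap.lsmul_apply] at hxy
      have h1 : (Ideal.Quotient.mk p a) * x = (Ideal.Quotient.mk p a) * y := by
        rw [← Ideal.Quotient.algebraMap_eq, ← Algebra.smul_def, ← Algebra.smul_def]
        exact hxy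
      have h2 : Ideal.Quotient.mk p a ≠ 0 := by
        rw [Ne, Ideal.Quotient.eq_zero_iff_mem]
        exact hap
      exact mul_left_cancel₀ h2 h1
    have hinj2 := Module.Flat.lTensor_preserves_injective_linearMap (M := N) _ hinj
    have he0 : e = 0 := by
      apply hinj2
      rw [map_zero, ← smul_eq_lTensor_lsmul]
      exact ha
    have : (1 : B) ∈ q := by rw [hmem, he0, smul_zero]
    exact hqp.ne_top ((Ideal.eq_top_iff_one q).mpr this)
  · intro a ha
    rw [Ideal.mem_comap, hmem, algebraMap_smul]
    exact smul_tensor_quotient_eq_zero N p ha e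

/-- Lemma S: for `P ∈ Ass_A M` and `N` flat, `Supp (N ⊗ A/P) ⊆ Supp (N ⊗ M)`. -/
theorem support_tensor_quotient_subset [IsNoetherianRing A] [Module.Flat A N]
    {M : Type u} [AddCommGroup M] [Module A M] {P : Ideal A} (hP : P ∈ associatedPrimes A M) :
    Module.support B (N ⊗[A] (A ⧸ P)) ⊆ Module.support B (N ⊗[A] M) := by
  obtain ⟨_, f, hf⟩ := (isAssociatedPrime_iff_exists_injective_linearMap P M).mp hP
  have hinj : Function.Injective (TensorProduct.AlgebraTensorModule.lTensor B N f) := by
    rw [TensorProduct.AlgebraTensorModule.coe_lTensor]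
    exact Module.Flat.lTensor_preserves_injective_linearMap (M := N) f hf
  exact Module.support_subset_of_injective _ hinj

theorem annihilator_le_annihilator_tensor (M : Type u) [AddCommGroup M] [Module A M] :
    Module.annihilator B N ≤ Module.annihilator B (N ⊗[A] M) := by
  intro b hb
  rw [Module.mem_annihilator] at hb ⊢
  intro t
  induction t using TensorProduct.induction_on with
  | zero => simp
  | add x y hx hy => rw [smul_add, hx, hy, add_zero]
  | tmul n x => rw [TensorProduct.smul_tmul', hb, TensorProduct.zero_tmul]

theorem map_annihilator_le_annihilator_tensor (M : Type u) [AddCommGroup M] [Module A M] :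
    (Module.annihilator A M).map (algebraMap A B) ≤ Module.annihilator B (N ⊗[A] M) := by
  rw [Ideal.map_le_iff_le_comap]
  intro a ha
  rw [Ideal.mem_comap, Module.mem_annihilator]
  rw [Module.mem_annihilator] at ha
  intro t
  rw [algebraMap_smul]
  induction t using TensorProduct.induction_on with
  | zero => simp
  | add x y hx hy => rw [smul_add, hx, hy, add_zero]
  | tmul n x => rw [← TensorProduct.tmul_smul, ha, TensorProduct.tmul_zero]

end General

section Main

variable {A B : Type u} [CommRing A] [CommRing B] [IsNoetherianRing A] [IsNoetherianRing B]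
  [Algebra A B]
  (N : Type u) [AddCommGroup N] [Module B N] [Module A N] [IsScalarTower A B N]
  [Module.Finite B N] [Module.Flat A N]

/-- A minimal prime of the support of `N ⊗ M` contracts to a minimal prime of the support of
`M` (going down for the flat module `N`). -/
theorem comap_mem_minimalPrimes_of_mem_minimalPrimes_tensor
    (M : Type u) [AddCommGroup M] [Module A M] [Module.Finite A M] (q : Ideal B)
    (hq : q ∈ (Module.annihilator B (N ⊗[A] M)).minimalPrimes) :
    q.comap (algebraMap A B) ∈ (Module.annihilator A M).minimalPrimes := by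
  have hqp : q.IsPrime := hq.1.1
  have hfin : Module.Finite B (N ⊗[A] M) := finite_tensorProduct_of_finite (R := A) (S := B) M
  have h1 : Module.annihilator A M ≤ q.comap (algebraMap A B) := by
    rw [← Ideal.map_le_iff_le_comap]
    exact (map_annihilator_le_annihilator_tensor N M).trans hq.1.2
  obtain ⟨P, hP, hPq⟩ := Ideal.exists_minimalPrimes_le h1
  have hPp : P.IsPrime := hP.1.1
  have hPass : P ∈ associatedPrimes A M :=
    Module.associatedPrimes.minimalPrimes_annihilator_subset_associatedPrimes A M hP
  have hfinP : Module.Finite B (N ⊗[A] (A ⧸ P)) :=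
    finite_tensorProduct_of_finite (R := A) (S := B) (A ⧸ P)
  have hsub := support_tensor_quotient_subset (B := B) N hPass
  have hqsupp : (⟨q, hqp⟩ : PrimeSpectrum B) ∈ Module.support B (N ⊗[A] (A ⧸ P)) := by
    rw [support_tensor_quotient]
    refine ⟨?_, ?_⟩
    · rw [Module.support_eq_zeroLocus, PrimeSpectrum.mem_zeroLocus]
      exact (annihilator_le_annihilator_tensor N M).trans hq.1.2
    · rw [PrimeSpectrum.mem_zeroLocus, SetLike.coe_subset_coe, Ideal.map_le_iff_le_comap]
      exact hPq
  have hqmin : q ∈ (Module.annihilator B (N ⊗[A] (A ⧸ P))).minimalPrimes := by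
    refine ⟨⟨hqp, ?_⟩, ?_⟩
    · rw [Module.support_eq_zeroLocus, PrimeSpectrum.mem_zeroLocus] at hqsupp
      exact hqsupp
    · rintro q' ⟨hq'p, hq'a⟩ hq'q
      have h2 : (⟨q', hq'p⟩ : PrimeSpectrum B) ∈ Module.support B (N ⊗[A] (A ⧸ P)) := by
        rw [Module.support_eq_zeroLocus, PrimeSpectrum.mem_zeroLocus]
        exact hq'a
      have h3 := hsub h2
      rw [Module.support_eq_zeroLocus, PrimeSpectrum.mem_zeroLocus] at h3
      exact hq.2 ⟨hq'p, h3⟩ hq'q
  have hqass : q ∈ associatedPrimes B (N ⊗[A] (A ⧸ P)) :=
    Module.associatedPrimes.minimalPrimes_annihilator_subset_associatedPrimes B _ hqmin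
  rw [comap_eq_of_mem_associatedPrimes_tensor_quotient N P q hqass]
  exact hP

end Main

section MainLocal

variable {A B : Type u} [CommRing A] [CommRing B] [IsNoetherianRing A] [IsNoetherianRing B]
  [IsLocalRing A] [IsLocalRing B] [Algebra A B] [IsLocalHom (algebraMap A B)]
  (N : Type u) [AddCommGroup N] [Module B N] [Module A N] [IsScalarTower A B N]
  [Module.Finite B N] [Module.Flat A N]

omit [IsLocalRing B] [IsLocalHom (algebraMap A B)] [IsNoetherianRing B] [Module.Flat A N]
  [Module.Finite B N] [IsNoetherianRing A] in
theorem maximalIdeal_notMem_minimalPrimes_annihilator (M : Type u) [AddCommGroup M] [Module A M]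
    [Module.Finite A M] {n : ℕ} (hn : Module.supportDim A M = (n + 1 : ℕ)) :
    IsLocalRing.maximalIdeal A ∉ (Module.annihilator A M).minimalPrimes := by
  intro hmin
  have hsub : (Module.support A M).Subsingleton := by
    have key : ∀ p ∈ Module.support A M, p = IsLocalRing.closedPoint A := by
      intro p hp
      rw [Module.support_eq_zeroLocus, PrimeSpectrum.mem_zeroLocus] at hp
      have h1 : p.asIdeal ≤ IsLocalRing.maximalIdeal A := IsLocalRing.le_maximalIdeal p.2.ne_top
      have h2 := hmin.2 ⟨p.2, hp⟩ h1
      exact PrimeSpectrum.ext (le_antisymm h1 h2)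
    intro p hp p' hp'
    rw [key p hp, key p' hp']
  have : Subsingleton (Module.support A M) := hsub.coe_sort
  have h0 : Module.supportDim A M ≤ 0 := Order.krullDim_nonpos_of_subsingleton
  rw [hn] at h0
  have : ((n + 1 : ℕ) : WithBot ℕ∞) ≤ ((0 : ℕ) : WithBot ℕ∞) := h0
  rw [Nat.cast_le] at this
  omega

theorem supportDim_tensor_aux (n : ℕ) :
    ∀ (M : Type u) [AddCommGroup M] [Module A M] [Module.Finite A M] [Nontrivial M],
      Module.supportDim A M = n →
      Module.supportDim B (N ⊗[A] M) = n + Module.supportDim B
        (N ⧸ ((IsLocalRing.maximalIdeal A).map (algebraMap A B) • ⊤ : Submodule B N)) := by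
  induction n with
  | zero =>
    intro M _ _ _ _ hM
    have hfin : Module.Finite B (N ⊗[A] M) := finite_tensorProduct_of_finite (R := A) (S := B) M
    have hsuppM := support_of_supportDim_eq_zero A M (by simpa using hM)
    have hsupp : Module.support B (N ⊗[A] M) = Module.support B
        (N ⧸ ((IsLocalRing.maximalIdeal A).map (algebraMap A B) • ⊤ : Submodule B N)) := by
      rw [Module.support_quotient]
      apply Set.Subset.antisymm
      · intro q hq
        rw [Module.support_eq_zeroLocus, PrimeSpectrum.mem_zeroLocus] at hq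
        refine ⟨?_, ?_⟩
        · rw [Module.support_eq_zeroLocus, PrimeSpectrum.mem_zeroLocus]
          exact (annihilator_le_annihilator_tensor N M).trans hq
        · rw [PrimeSpectrum.mem_zeroLocus, SetLike.coe_subset_coe, Ideal.map_le_iff_le_comap]
          have h1 : Module.annihilator A M ≤ q.asIdeal.comap (algebraMap A B) := by
            rw [← Ideal.map_le_iff_le_comap]
            exact (map_annihilator_le_annihilator_tensor N M).trans hq
          have h2 : (⟨q.asIdeal.comap (algebraMap A B), inferInstance⟩ : PrimeSpectrum A) ∈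
              Module.support A M := by
            rw [Module.support_eq_zeroLocus, PrimeSpectrum.mem_zeroLocus]
            exact h1
          rw [hsuppM, PrimeSpectrum.mem_zeroLocus, SetLike.coe_subset_coe] at h2
          exact h2
      · obtain ⟨P, hP⟩ := associatedPrimes.nonempty A M
        have hPp : P.IsPrime := hP.isPrime
        have hPs : (⟨P, hPp⟩ : PrimeSpectrum A) ∈ Module.support A M :=
          mem_support_of_mem_associatedPrimes hP
        rw [hsuppM, PrimeSpectrum.mem_zeroLocus, SetLike.coe_subset_coe] at hPs
        have hPm : P = IsLocalRing.maximalIdeal A :=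
          le_antisymm (IsLocalRing.le_maximalIdeal hPp.ne_top) hPs
        subst hPm
        rw [← support_tensor_quotient]
        exact support_tensor_quotient_subset (B := B) N hP
    unfold Module.supportDim
    rw [hsupp]
    simp
  | succ n ih =>
    intro M _ _ _ _ hM
    have hfin : Module.Finite B (N ⊗[A] M) := finite_tensorProduct_of_finite (R := A) (S := B) M
    have hmnot := maximalIdeal_notMem_minimalPrimes_annihilator M hM
    -- prime avoidance
    have hfinset : (Module.annihilator A M).minimalPrimes.Finite :=
      Ideal.finite_minimalPrimes_of_isNoetherianRing A _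
    obtain ⟨x, hxm, hxP⟩ : ∃ x ∈ IsLocalRing.maximalIdeal A,
        ∀ P ∈ (Module.annihilator A M).minimalPrimes, x ∉ P := by
      by_contra hcon
      push Not at hcon
      have hsub : (IsLocalRing.maximalIdeal A : Set A) ⊆
          ⋃ P ∈ (hfinset.toFinset : Set (Ideal A)), (P : Set A) := by
        intro x hx
        obtain ⟨P, hP, hxP⟩ := hcon x hx
        exact Set.mem_biUnion (by simpa using hP) hxP
      rw [Ideal.subset_union_prime (⊥ : Ideal A) ⊥] at hsub
      · obtain ⟨P, hP, hmP⟩ := hsub
        have hP' : P ∈ (Module.annihilator A M).minimalPrimes := by simpa using hP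
        have hPp : P.IsPrime := hP'.1.1
        have : P = IsLocalRing.maximalIdeal A :=
          le_antisymm (IsLocalRing.le_maximalIdeal hPp.ne_top) hmP
        exact hmnot (this ▸ hP')
      · intro P hP _ _
        have hP' : P ∈ (Module.annihilator A M).minimalPrimes := by simpa using hP
        exact hP'.1.1
    have hdA := Module.supportDim_quotSMulTop_succ_eq_of_notMem_minimalPrimes_of_mem_maximalIdeal
      (M := M) hxP hxm
    have hxB : algebraMap A B x ∈ IsLocalRing.maximalIdeal B := by
      have : IsLocalRing.maximalIdeal A ≤ (IsLocalRing.maximalIdeal B).comap (algebraMap A B) := by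
        rw [IsLocalRing.maximalIdeal_comap]
      exact this hxm
    have hxQ : ∀ q ∈ (Module.annihilator B (N ⊗[A] M)).minimalPrimes, algebraMap A B x ∉ q := by
      intro q hq hxq
      exact hxP _ (comap_mem_minimalPrimes_of_mem_minimalPrimes_tensor N M q hq) hxq
    have hdB := Module.supportDim_quotSMulTop_succ_eq_of_notMem_minimalPrimes_of_mem_maximalIdeal
      (M := N ⊗[A] M) hxQ hxB
    have hdA' : Module.supportDim A (QuotSMulTop x M) = n := by
      apply withBot_enat_add_one_cancel
      rw [hdA, hM]
    have hnt : Nontrivial (QuotSMulTop x M) := by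
      rw [← Module.supportDim_ne_bot_iff_nontrivial A, hdA']
      exact WithBot.coe_ne_bot
    have key := ih (QuotSMulTop x M) hdA'
    rw [← Module.supportDim_eq_of_equiv (quotSMulTopTensorEquiv' (S := B) (N := N) x M)] at key
    rw [← hdB, key]
    push_cast
    rw [add_right_comm]

/-- `dim_B (N ⊗_A M) = dim_A M + dim_B (N / m_A N)`. -/
theorem supportDim_tensor_of_flat (M : Type u) [AddCommGroup M] [Module A M] [Module.Finite A M]
    [Nontrivial M] :
    Module.supportDim B (N ⊗[A] M) = Module.supportDim A M + Module.supportDim B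
      (N ⧸ ((IsLocalRing.maximalIdeal A).map (algebraMap A B) • ⊤ : Submodule B N)) := by
  obtain ⟨n, hn⟩ := exists_natCast_eq_supportDim (R := A) (M := M)
  rw [hn]
  exact supportDim_tensor_aux N n M hn

end MainLocal

end Groth.Agent.Lib.Helper28
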