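import Mathlib
import Groth.Agent.S11180
import Groth.Agent.Lib.Helper28TensorDim
import Groth.Agent.Lib.Helper19ComplFlatMap

/-!
# Helper28CplLimit: `M = lim_B (B ⊗_A M)` over complete Noetherian local flat `A`-algebras `B`

Scaffolding (families, compatibility, dévissage), completed localizations `(B_P)^`, detection of
nonzero elements of `B ⊗ M` in `(B_P)^ ⊗ M` for associated primes `P`, the maps `(A_p)^ → (B_P)^`.
-/

set_option autoImplicit false
universe u
open TensorProduct

namespace Groth.Agent.Lib.Helper28.CplLimit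

variable (A : Type u) [CommRing A]

/-- A family of elements `x_B ∈ B ⊗ M`, one for each complete Noetherian local flat `A`-algebra. -/
def Fam (M : Type u) [AddCommGroup M] [Module A M] : Type (u+1) :=
  ∀ (B : Type u) [CommRing B] [Algebra A B] [IsNoetherianRing B] [IsLocalRing B],
    IsAdicComplete (IsLocalRing.maximalIdeal B) B → Module.Flat A B → B ⊗[A] M

variable {A}

def Compat {M : Type u} [AddCommGroup M] [Module A M] (x : Fam A M) : Prop :=
  ∀ (B : Type u) [CommRing B] [Algebra A B] [IsNoetherianRing B] [IsLocalRing B]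
    (hB : IsAdicComplete (IsLocalRing.maximalIdeal B) B) (hBf : Module.Flat A B)
    (B' : Type u) [CommRing B'] [Algebra A B'] [IsNoetherianRing B'] [IsLocalRing B']
    (hB' : IsAdicComplete (IsLocalRing.maximalIdeal B') B') (hB'f : Module.Flat A B')
    (g : B →ₐ[A] B'), LinearMap.rTensor M g.toLinearMap (x B hB hBf) = x B' hB' hB'f

variable (A)

def Motive (M : Type u) [AddCommGroup M] [Module A M] : Prop :=
  ∀ x : Fam A M, Compat x → ∃ m : M,
    ∀ (B : Type u) [CommRing B] [Algebra A B] [IsNoetherianRing B] [IsLocalRing B]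
      (hB : IsAdicComplete (IsLocalRing.maximalIdeal B) B) (hBf : Module.Flat A B),
      x B hB hBf = (1 : B) ⊗ₜ[A] m

variable {A}

theorem motive_of_subsingleton (M : Type u) [AddCommGroup M] [Module A M] [Subsingleton M] :
    Motive A M := by
  intro x _
  refine ⟨0, ?_⟩
  intro B _ _ _ _ hB hBf
  exact Subsingleton.elim _ _

theorem motive_of_exact (N₁ N₂ N₃ : Type u) [AddCommGroup N₁] [Module A N₁] [AddCommGroup N₂]
    [Module A N₂] [AddCommGroup N₃] [Module A N₃] (f : N₁ →ₗ[A] N₂) (g : N₂ →ₗ[A] N₃)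
    (hf : Function.Injective f) (hg : Function.Surjective g) (hfg : Function.Exact f g)
    (h1 : Motive A N₁) (h3 : Motive A N₃) : Motive A N₂ := by
  intro x hx
  -- push to N₃
  let x3 : Fam A N₃ := fun B _ _ _ _ hB hBf => g.lTensor B (x B hB hBf)
  have hx3 : Compat x3 := by
    intro B _ _ _ _ hB hBf B' _ _ _ _ hB' hB'f φ
    change LinearMap.rTensor N₃ φ.toLinearMap (g.lTensor B (x B hB hBf)) = g.lTensor B' (x B' hB' hB'f)
    rw [← hx B hB hBf B' hB' hB'f φ]
    rw [← LinearMap.comp_apply, ← LinearMap.comp_apply, LinearMap.rTensor_comp_lTensor,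
      LinearMap.lTensor_comp_rTensor]
  obtain ⟨m3, hm3⟩ := h3 x3 hx3
  obtain ⟨m2, rfl⟩ := hg m3
  have hy : ∀ (B : Type u) [CommRing B] [Algebra A B] [IsNoetherianRing B] [IsLocalRing B]
      (hB : IsAdicComplete (IsLocalRing.maximalIdeal B) B) (hBf : Module.Flat A B),
      ∃ z : B ⊗[A] N₁, f.lTensor B z = x B hB hBf - (1 : B) ⊗ₜ[A] m2 := by
    intro B _ _ _ _ hB hBf
    have hex : Function.Exact (f.lTensor B) (g.lTensor B) := lTensor_exact B hfg hg
    apply (hex _).mp
    rw [map_sub, LinearMap.lTensor_tmul]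
    exact sub_eq_zero.mpr (hm3 B hB hBf)
  let x1 : Fam A N₁ := fun B _ _ _ _ hB hBf => (hy B hB hBf).choose
  have hx1s : ∀ (B : Type u) [CommRing B] [Algebra A B] [IsNoetherianRing B] [IsLocalRing B]
      (hB : IsAdicComplete (IsLocalRing.maximalIdeal B) B) (hBf : Module.Flat A B),
      f.lTensor B (x1 B hB hBf) = x B hB hBf - (1 : B) ⊗ₜ[A] m2 :=
    fun B _ _ _ _ hB hBf => (hy B hB hBf).choose_spec
  have hx1 : Compat x1 := by
    intro B _ _ _ _ hB hBf B' _ _ _ _ hB' hB'f φ
    have hinj : Function.Injective (f.lTensor B') :=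
      Module.Flat.lTensor_preserves_injective_linearMap f hf
    apply hinj
    rw [hx1s B' hB' hB'f, ← LinearMap.comp_apply, LinearMap.lTensor_comp_rTensor,
      ← LinearMap.rTensor_comp_lTensor, LinearMap.comp_apply, hx1s B hB hBf, map_sub,
      hx B hB hBf B' hB' hB'f φ, LinearMap.rTensor_tmul]
    simp
  obtain ⟨m1, hm1⟩ := h1 x1 hx1
  refine ⟨f m1 + m2, ?_⟩
  intro B _ _ _ _ hB hBf
  have := hx1s B hB hBf
  rw [hm1 B hB hBf, LinearMap.lTensor_tmul] at this
  rw [TensorProduct.tmul_add, this]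
  abel

theorem motive_of_equiv (N₁ N₂ : Type u) [AddCommGroup N₁] [Module A N₁] [AddCommGroup N₂]
    [Module A N₂] (e : N₁ ≃ₗ[A] N₂) (h1 : Motive A N₁) : Motive A N₂ :=
  motive_of_exact N₁ N₂ PUnit.{u+1} e.toLinearMap 0 e.injective
    (Function.surjective_to_subsingleton _)
    ((e.exact_zero_iff_surjective _).2 e.surjective) h1 (motive_of_subsingleton _)

/-- The completion of the local ring of `B` at a prime `P`. -/
abbrev CplAt (B : Type u) [CommRing B] (P : Ideal B) [P.IsPrime] : Type u :=
  AdicCompletion (IsLocalRing.maximalIdeal (Localization.AtPrime P)) (Localization.AtPrime P)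

section CplAt

variable {A : Type u} [CommRing A] (B : Type u) [CommRing B] [Algebra A B] (P : Ideal B) [P.IsPrime]

instance : IsScalarTower A B (CplAt B P) := IsScalarTower.of_algebraMap_eq (fun _ => rfl)
instance : IsScalarTower A (Localization.AtPrime P) (CplAt B P) :=
  IsScalarTower.of_algebraMap_eq (fun _ => rfl)
instance : IsScalarTower B (Localization.AtPrime P) (CplAt B P) :=
  IsScalarTower.of_algebraMap_eq (fun _ => rfl)

theorem isNoetherianRing_cplAt [IsNoetherianRing B] : IsNoetherianRing (CplAt B P) :=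
  Groth.Agent.S0543.result (Localization.AtPrime P) _

theorem flat_cplAt [IsNoetherianRing B] [Module.Flat A B] : Module.Flat A (CplAt B P) := by
  have h1 : Module.Flat B (Localization.AtPrime P) := IsLocalization.flat _ P.primeCompl
  have h2 : Module.Flat (Localization.AtPrime P) (CplAt B P) := inferInstance
  have h3 : Module.Flat B (CplAt B P) := Module.Flat.trans B (Localization.AtPrime P) (CplAt B P)
  exact Module.Flat.trans A B (CplAt B P)

theorem isAdicComplete_cplAt [IsNoetherianRing B] :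
    IsAdicComplete (IsLocalRing.maximalIdeal (CplAt B P)) (CplAt B P) := inferInstance

theorem algebraMap_mem_maximalIdeal_cplAt [IsNoetherianRing B] {b : B} (hb : b ∈ P) :
    algebraMap B (CplAt B P) b ∈ IsLocalRing.maximalIdeal (CplAt B P) := by
  have hr' : algebraMap B (Localization.AtPrime P) b ∈
      IsLocalRing.maximalIdeal (Localization.AtPrime P) :=
    (IsLocalization.AtPrime.to_map_mem_maximal_iff (Localization.AtPrime P) P b).2 hb
  rw [IsScalarTower.algebraMap_apply B (Localization.AtPrime P) (CplAt B P)]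
  rw [IsLocalRing.mem_maximalIdeal] at hr' ⊢
  exact map_nonunit (algebraMap (Localization.AtPrime P) (CplAt B P)) _ hr'

end CplAt

section Detect

variable {A : Type u} [CommRing A] (B : Type u) [CommRing B] [Algebra A B] [IsNoetherianRing B]
  (M : Type u) [AddCommGroup M] [Module A M]

/-- A nonzero element of `B ⊗ M` stays nonzero in `(B_P)^ ⊗ M` for some associated prime `P`. -/
theorem exists_assoc_rTensor_ne_zero (z : B ⊗[A] M) (hz : z ≠ 0) :
    ∃ (P : Ideal B) (_ : P.IsPrime), P ∈ associatedPrimes B (B ⊗[A] M) ∧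
      LinearMap.rTensor M (IsScalarTower.toAlgHom A B (CplAt B P)).toLinearMap z ≠ 0 := by
  obtain ⟨P, hP, hle⟩ := exists_le_isAssociatedPrime_of_isNoetherianRing B z hz
  have hPp : P.IsPrime := hP.isPrime
  refine ⟨P, hPp, hP, ?_⟩
  intro h0
  have h2 : Module.Flat B (CplAt B P) := by
    have h1 : Module.Flat B (Localization.AtPrime P) := IsLocalization.flat _ P.primeCompl
    exact Module.Flat.trans B (Localization.AtPrime P) (CplAt B P)
  have hcomp : (TensorProduct.AlgebraTensorModule.cancelBaseChange A B B (CplAt B P) M).toLinearMap.restrictScalars A ∘ₗ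
      ((TensorProduct.mk B (CplAt B P) (B ⊗[A] M) 1).restrictScalars A) =
      LinearMap.rTensor M (IsScalarTower.toAlgHom A B (CplAt B P)).toLinearMap := by
    apply TensorProduct.ext'
    intro b m
    simp [Algebra.smul_def]
  have h1 : (1 : CplAt B P) ⊗ₜ[B] z = 0 := by
    have := congrArg (fun f => f z) hcomp
    simp only [LinearMap.comp_apply, LinearMap.restrictScalars_apply, LinearEquiv.coe_coe,
      TensorProduct.mk_apply] at this
    rw [h0] at this
    exact (LinearEquiv.map_eq_zero_iff _).mp this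
  refine Groth.Agent.S11180.key B (B ⊗[A] M) z (CplAt B P) ?_ h1
  intro b hb
  apply algebraMap_mem_maximalIdeal_cplAt
  apply hle
  rw [Submodule.mem_colon_singleton, Submodule.mem_bot]
  exact hb

end Detect


section CplMap

variable {A : Type u} [CommRing A] [IsNoetherianRing A] (B : Type u) [CommRing B] [Algebra A B]
  [IsNoetherianRing B] (p : Ideal A) [p.IsPrime] (P : Ideal B) [P.IsPrime]
  (hPp : P.comap (algebraMap A B) = p)

omit [IsNoetherianRing A] [IsNoetherianRing B] in
theorem map_localRingHom_le :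
    (IsLocalRing.maximalIdeal (Localization.AtPrime p)).map
      (Localization.localRingHom p P (algebraMap A B) hPp.symm) ≤
      IsLocalRing.maximalIdeal (Localization.AtPrime P) :=
  ((IsLocalRing.local_hom_TFAE
    (Localization.localRingHom p P (algebraMap A B) hPp.symm)).out 0 2).mp
      (Localization.isLocalHom_localRingHom p P (algebraMap A B) hPp.symm)

/-- The map `(A_p)^ → (B_P)^` for a prime `P` of `B` over `p`. -/
noncomputable def cplAtMap : CplAt A p →ₐ[A] CplAt B P where
  toRingHom := FSch.complMap _ _ (Localization.localRingHom p P (algebraMap A B) hPp.symm)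
    (map_localRingHom_le B p P hPp)
  commutes' := by
    intro a
    change FSch.complMap _ _ _ _ (AdicCompletion.of _ _ (algebraMap A (Localization.AtPrime p) a)) =
      AdicCompletion.of _ _ (algebraMap A (Localization.AtPrime P) a)
    apply AdicCompletion.ext_evalₐ
    intro n
    rw [Groth.Agent.Lib.Helper19.evalₐ_complMap, AdicCompletion.evalₐ_of, AdicCompletion.evalₐ_of,
      Ideal.quotientMap_mk]
    congr 1
    rw [Localization.localRingHom_to_map]
    rfl

end CplMap

section Prime
open Groth.Agent.Lib.Helper28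

variable {A : Type u} [CommRing A] [IsNoetherianRing A] (p : Ideal A) [p.IsPrime]

/-- Every element of `(A_p)^ ⊗ A/p = κ(p)` is a fraction. -/
theorem exists_smul_eq_tmul (x₀ : CplAt A p ⊗[A] (A ⧸ p)) :
    ∃ s : A, s ∉ p ∧ ∃ a : A, s • x₀ = (1 : CplAt A p) ⊗ₜ[A] (Ideal.Quotient.mk p a) := by
  obtain ⟨b, rfl⟩ := tmulOne_surjective (B := CplAt A p) (CplAt A p) p x₀
  obtain ⟨r, hr⟩ := Groth.Agent.Lib.Helper19.exists_sub_of_mem_map_pow
    (IsLocalRing.maximalIdeal (Localization.AtPrime p))
    (IsNoetherian.noetherian _) 1 b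
  obtain ⟨a, s, rfl⟩ := IsLocalization.exists_mk'_eq p.primeCompl r
  refine ⟨s, s.2, a, ?_⟩
  have hmap : Ideal.map (algebraMap (Localization.AtPrime p) (CplAt A p))
      (IsLocalRing.maximalIdeal (Localization.AtPrime p)) = p.map (algebraMap A (CplAt A p)) := by
    rw [IsScalarTower.algebraMap_eq A (Localization.AtPrime p) (CplAt A p), ← Ideal.map_map,
      IsLocalization.AtPrime.map_eq_maximalIdeal p (Localization.AtPrime p)]
  rw [pow_one, hmap] at hr
  have h1 : ((s : A) • (b - algebraMap (Localization.AtPrime p) (CplAt A p)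
      (IsLocalization.mk' (Localization.AtPrime p) a s))) ∈
      (p.map (algebraMap A (CplAt A p)) • ⊤ : Submodule (CplAt A p) (CplAt A p)) := by
    rw [smul_eq_mul, Ideal.mul_top, Algebra.smul_def]
    exact Ideal.mul_mem_left _ _ hr
  rw [← ker_tmulOne (B := CplAt A p) (CplAt A p) p, LinearMap.mem_ker] at h1
  have h2 : (s : A) • algebraMap (Localization.AtPrime p) (CplAt A p)
      (IsLocalization.mk' (Localization.AtPrime p) a s) = algebraMap A (CplAt A p) a := by
    rw [Algebra.smul_def, IsScalarTower.algebraMap_apply A (Localization.AtPrime p) (CplAt A p),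
      ← map_mul, IsLocalization.mul_mk'_eq_mk'_of_mul, IsLocalization.mk'_mul_cancel_left,
      ← IsScalarTower.algebraMap_apply]
  rw [smul_sub, h2, map_sub, sub_eq_zero] at h1
  change ((s : A) • b) ⊗ₜ[A] (1 : A ⧸ p) = (algebraMap A (CplAt A p) a) ⊗ₜ[A] (1 : A ⧸ p) at h1
  change (s : A) • (b ⊗ₜ[A] (1 : A ⧸ p)) = _
  rw [TensorProduct.smul_tmul', h1, Algebra.algebraMap_eq_smul_one, TensorProduct.smul_tmul]
  congr 1
  rw [Algebra.smul_def, mul_one]
  rfl

theorem motive_quotient_prime : Motive A (A ⧸ p) := by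
  intro x hx
  have hN₀ : IsNoetherianRing (CplAt A p) := isNoetherianRing_cplAt A p
  have hB₀ : IsAdicComplete (IsLocalRing.maximalIdeal (CplAt A p)) (CplAt A p) :=
    isAdicComplete_cplAt A p
  have hB₀f : Module.Flat A (CplAt A p) := flat_cplAt (A := A) A p
  obtain ⟨x₀, hx₀⟩ : ∃ x₀, x₀ = x (CplAt A p) hB₀ hB₀f := ⟨_, rfl⟩
  have hK : ∀ (B : Type u) [CommRing B] [Algebra A B] [IsNoetherianRing B] [IsLocalRing B]
      (hB : IsAdicComplete (IsLocalRing.maximalIdeal B) B) (hBf : Module.Flat A B)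
      (P : Ideal B) [P.IsPrime] (hP : P ∈ associatedPrimes B (B ⊗[A] (A ⧸ p))),
      LinearMap.rTensor (A ⧸ p) (IsScalarTower.toAlgHom A B (CplAt B P)).toLinearMap (x B hB hBf) =
        LinearMap.rTensor (A ⧸ p) (cplAtMap B p P
          (comap_eq_of_mem_associatedPrimes_tensor_quotient B p P hP)).toLinearMap x₀ := by
    intro B _ _ _ _ hB hBf P _ hP
    have hN' : IsNoetherianRing (CplAt B P) := isNoetherianRing_cplAt B P
    have hC' := isAdicComplete_cplAt B P
    have hF' : Module.Flat A (CplAt B P) := flat_cplAt B P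
    rw [hx B hB hBf (CplAt B P) hC' hF' _, hx₀, hx (CplAt A p) hB₀ hB₀f (CplAt B P) hC' hF' _]
  have hD : ∀ (B : Type u) [CommRing B] [Algebra A B] [IsNoetherianRing B]
      (z : B ⊗[A] (A ⧸ p)),
      (∀ (P : Ideal B) [P.IsPrime], P ∈ associatedPrimes B (B ⊗[A] (A ⧸ p)) →
        LinearMap.rTensor (A ⧸ p) (IsScalarTower.toAlgHom A B (CplAt B P)).toLinearMap z = 0) →
      z = 0 := by
    intro B _ _ _ z hz
    by_contra hne
    obtain ⟨P, hPp, hP, hne'⟩ := exists_assoc_rTensor_ne_zero B (A ⧸ p) z hne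
    exact hne' (hz P hP)
  obtain ⟨s, hs, a, hsa⟩ := exists_smul_eq_tmul p x₀
  have hc1 : ∀ (B : Type u) [CommRing B] [Algebra A B] [IsNoetherianRing B] [IsLocalRing B]
      (hB : IsAdicComplete (IsLocalRing.maximalIdeal B) B) (hBf : Module.Flat A B),
      s • x B hB hBf = (1 : B) ⊗ₜ[A] (Ideal.Quotient.mk p a) := by
    intro B _ _ _ _ hB hBf
    rw [← sub_eq_zero]
    apply hD B
    intro P _ hP
    rw [map_sub, map_smul, hK B hB hBf P hP, ← map_smul, hsa, LinearMap.rTensor_tmul,
      LinearMap.rTensor_tmul]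
    simp
  have hc2 : a ∈ p ⊔ Ideal.span {s} := by
    have hsJ : s ∈ p ⊔ Ideal.span {s} := Ideal.mem_sup_right (Ideal.mem_span_singleton_self s)
    have hpJ : p ≤ p ⊔ Ideal.span {s} := le_sup_left
    rw [← Ideal.Quotient.eq_zero_iff_mem]
    apply Groth.Agent.S11180.result A (A ⧸ (p ⊔ Ideal.span {s}))
    intro B _ _ _ _ hB hBf
    let q : (A ⧸ p) →ₗ[A] (A ⧸ (p ⊔ Ideal.span {s})) :=
      Submodule.mapQ p (p ⊔ Ideal.span {s}) LinearMap.id hpJ
    have h1 := congrArg (q.lTensor B) (hc1 B hB hBf)
    rw [map_smul, LinearMap.lTensor_tmul,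
      smul_tensor_quotient_eq_zero B (p ⊔ Ideal.span {s}) hsJ] at h1
    exact h1.symm
  obtain ⟨π, hπ, y, hy, hsum⟩ := Submodule.mem_sup.mp hc2
  obtain ⟨d, rfl⟩ := Ideal.mem_span_singleton'.mp hy
  have hmk : Ideal.Quotient.mk p a = s • Ideal.Quotient.mk p d := by
    rw [← hsum, map_add, Ideal.Quotient.eq_zero_iff_mem.mpr hπ, zero_add, map_mul,
      Algebra.smul_def, mul_comm]
    rfl
  refine ⟨Ideal.Quotient.mk p d, ?_⟩
  have hunit : IsUnit (algebraMap A (CplAt A p) s) := by
    rw [IsScalarTower.algebraMap_apply A (Localization.AtPrime p) (CplAt A p)]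
    exact (IsLocalization.map_units (Localization.AtPrime p) (⟨s, hs⟩ : p.primeCompl)).map _
  have hx₀d : x₀ = (1 : CplAt A p) ⊗ₜ[A] (Ideal.Quotient.mk p d) := by
    have h1 : algebraMap A (CplAt A p) s • x₀ =
        algebraMap A (CplAt A p) s • ((1 : CplAt A p) ⊗ₜ[A] (Ideal.Quotient.mk p d)) := by
      rw [algebraMap_smul, algebraMap_smul, hsa, hmk, TensorProduct.tmul_smul]
    exact hunit.smul_left_cancel.mp h1
  intro B _ _ _ _ hB hBf
  rw [← sub_eq_zero]
  apply hD B
  intro P _ hP
  rw [map_sub, hK B hB hBf P hP, hx₀d, LinearMap.rTensor_tmul, LinearMap.rTensor_tmul]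
  simp

end Prime

section Final

variable {A : Type u} [CommRing A] [IsNoetherianRing A]

theorem motive_of_finite (M : Type u) [AddCommGroup M] [Module A M] [Module.Finite A M] :
    Motive A M := by
  refine IsNoetherianRing.induction_on_isQuotientEquivQuotientPrime A (M := M) inferInstance
    (motive := fun N _ _ _ => Motive A N) ?_ ?_ ?_
  · intro N _ _ _ _
    exact motive_of_subsingleton N
  · intro N _ _ _ p e
    exact motive_of_equiv _ _ e.symm (motive_quotient_prime p.asIdeal)
  · intro N₁ _ _ _ N₂ _ _ _ N₃ _ _ _ f g hf hg hfg h1 h3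
    exact motive_of_exact N₁ N₂ N₃ f g hf hg hfg h1 h3

end Final

end Groth.Agent.Lib.Helper28.CplLimit
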