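import Groth.Agent.Lib.Helper28FibBC3
import Groth.Agent.Lib.Helper28Reflexive2

/-!
# Double duals and base change (helper28): local inverses up to a scalar
-/

set_option autoImplicit false
universe u v w

namespace Groth.Agent.Lib.Helper28.DDualBC
open TensorProduct
open scoped Pointwise

section LocalInverse

variable {R : Type u} [CommRing R] (S : Submonoid R) {M : Type v} {N : Type w}
  [AddCommGroup M] [Module R M] [AddCommGroup N] [Module R N]

/-- A map of finitely presented modules which becomes bijective after localization has an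
inverse up to multiplication by an element of the submonoid. -/
theorem exists_local_inverse [Module.Finite R M] [Module.FinitePresentation R N]
    (f : M →ₗ[R] N) (hf : Function.Bijective (LocalizedModule.map S f)) :
    ∃ (g : N →ₗ[R] M) (s : R), s ∈ S ∧ g ∘ₗ f = s • LinearMap.id ∧
      f ∘ₗ g = s • LinearMap.id := by
  let e := LinearEquiv.ofBijective (LocalizedModule.map S f) hf
  have he : ∀ z, e z = LocalizedModule.map S f z := fun z => rfl
  let γ : N →ₗ[R] LocalizedModule S M :=
    (e.symm.toLinearMap.restrictScalars R) ∘ₗ (LocalizedModule.mkLinearMap S N)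
  obtain ⟨h, s, hs⟩ := Module.FinitePresentation.exists_lift_of_isLocalizedModule S
    (LocalizedModule.mkLinearMap S M) γ
  have hs' : ∀ n, LocalizedModule.mkLinearMap S M (h n) =
      s • e.symm (LocalizedModule.mkLinearMap S N n) := fun n => LinearMap.congr_fun hs n
  have hmap : ∀ m, LocalizedModule.map S f (LocalizedModule.mkLinearMap S M m) =
      LocalizedModule.mkLinearMap S N (f m) := by
    intro m
    rw [LocalizedModule.mkLinearMap_apply, LocalizedModule.map_mk,
      LocalizedModule.mkLinearMap_apply]
  have h1 : (LocalizedModule.mkLinearMap S M) ∘ₗ (h ∘ₗ f) =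
      (LocalizedModule.mkLinearMap S M) ∘ₗ ((s : R) • LinearMap.id) := by
    ext m
    simp only [LinearMap.comp_apply, LinearMap.smul_apply, LinearMap.id_apply]
    rw [hs', ← hmap, ← he, e.symm_apply_apply, map_smul]
    rfl
  obtain ⟨t, ht⟩ := Module.Finite.exists_smul_of_comp_eq_of_isLocalizedModule S
    (LocalizedModule.mkLinearMap S M) _ _ h1
  have h2 : (LocalizedModule.mkLinearMap S N) ∘ₗ (f ∘ₗ h) =
      (LocalizedModule.mkLinearMap S N) ∘ₗ ((s : R) • LinearMap.id) := by
    ext n
    simp only [LinearMap.comp_apply, LinearMap.smul_apply, LinearMap.id_apply]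
    rw [← hmap, hs', Submonoid.smul_def, LinearMap.map_smul_of_tower, ← he,
      e.apply_symm_apply, map_smul]
  haveI : Module.Finite R N := inferInstance
  obtain ⟨t', ht'⟩ := Module.Finite.exists_smul_of_comp_eq_of_isLocalizedModule S
    (LocalizedModule.mkLinearMap S N) _ _ h2
  refine ⟨((t : R) * (t' : R)) • h, (t : R) * (t' : R) * (s : R),
    mul_mem (mul_mem t.2 t'.2) s.2, ?_, ?_⟩
  · have ht2 : (t : R) • (h ∘ₗ f) = (t : R) • ((s : R) • LinearMap.id) := ht
    rw [LinearMap.smul_comp, mul_comm (t : R), mul_smul, ht2, smul_smul, smul_smul]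
  · have ht2 : (t' : R) • (f ∘ₗ h) = (t' : R) • ((s : R) • LinearMap.id) := ht'
    rw [LinearMap.comp_smul, mul_smul, ht2, smul_smul, smul_smul]

/-- A map with an inverse up to an element of `S` becomes bijective after localizing at `S`. -/
theorem bijective_localizedModule_map_of_comp_eq_smul {X : Type v} {Y : Type w}
    [AddCommGroup X] [Module R X] [AddCommGroup Y] [Module R Y]
    (Φ : X →ₗ[R] Y) (Χ : Y →ₗ[R] X) (s : R) (hs : s ∈ S)
    (h1 : Χ ∘ₗ Φ = s • LinearMap.id) (h2 : Φ ∘ₗ Χ = s • LinearMap.id) :
    Function.Bijective (LocalizedModule.map S Φ) := by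
  have h1' : ∀ x, Χ (Φ x) = s • x := fun x => LinearMap.congr_fun h1 x
  have h2' : ∀ y, Φ (Χ y) = s • y := fun y => LinearMap.congr_fun h2 y
  constructor
  · rw [injective_iff_map_eq_zero]
    intro z hz
    induction z using LocalizedModule.induction_on with
    | h x t =>
      rw [LocalizedModule.map_mk, ← LocalizedModule.zero_mk t, LocalizedModule.mk_eq] at hz
      obtain ⟨u, hu⟩ := hz
      rw [smul_zero, smul_zero] at hu
      rw [← LocalizedModule.zero_mk t, LocalizedModule.mk_eq]
      refine ⟨u * ⟨s, hs⟩, ?_⟩
      rw [smul_zero, smul_zero]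
      have : (u : R) • (t : R) • Φ x = 0 := hu
      have h3 := congrArg Χ this
      rw [map_smul, map_smul, h1', map_zero] at h3
      change ((u : R) * s) • (t : R) • x = 0
      rw [mul_smul, smul_comm s, h3]
  · intro z
    induction z using LocalizedModule.induction_on with
    | h y t =>
      refine ⟨LocalizedModule.mk (Χ y) (⟨s, hs⟩ * t), ?_⟩
      rw [LocalizedModule.map_mk, h2']
      exact LocalizedModule.mk_cancel_common_left ⟨s, hs⟩ t y

end LocalInverse

section NotAss

variable {R : Type u} [CommRing R] [IsNoetherianRing R]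

/-- A prime containing `I` is not associated to a finite module of `I`-depth `≥ 1`. -/
theorem notMem_associatedPrimes_of_one_le_idealDepth (I : Ideal R) (Y : Type v) [AddCommGroup Y]
    [Module R Y] [Module.Finite R Y] (h : 1 ≤ LocCoh.idealDepth I Y) (p : Ideal R)
    (hp : I ≤ p) : p ∉ associatedPrimes R Y := by
  intro hass
  obtain ⟨hprime, y, hy⟩ := isAssociatedPrime_iff.mp hass
  have hy0 : y = 0 := by
    refine eq_zero_of_one_le_idealDepth_of_forall_pow I h y (fun r hr => ⟨1, ?_⟩)
    have hrp : r ∈ p := hp hr
    rw [hy, Submodule.mem_colon_singleton, Submodule.mem_bot] at hrp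
    rw [pow_one]
    exact hrp
  apply hprime.ne_top
  rw [hy, hy0, eq_top_iff]
  intro b _
  rw [Submodule.mem_colon_singleton, smul_zero]
  exact Submodule.zero_mem _

end NotAss

section DDual

variable {B B' : Type u} [CommRing B] [CommRing B'] [IsNoetherianRing B] [IsNoetherianRing B']
  [Algebra B B']

/-- The double dual of the base change of `F → F^∨∨` is bijective when `F` is free off `V(J)` and
`depth_{JB'} B' ≥ 2`. -/
theorem bijective_dualMap_dualMap_baseChange_eval (J : Ideal B)
    (hB' : 2 ≤ LocCoh.idealDepth (J.map (algebraMap B B')) B')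
    (F : Type u) [AddCommGroup F] [Module B F] [Module.Finite B F]
    (hFU : ∀ q : PrimeSpectrum B, ¬ J ≤ q.asIdeal →
      Module.Free (Localization.AtPrime q.asIdeal) (LocalizedModule q.asIdeal.primeCompl F)) :
    Function.Bijective (((Module.Dual.eval B F).baseChange B').dualMap.dualMap) := by
  set ψ := (Module.Dual.eval B F).baseChange B' with hψ
  apply bijective_of_localization_depth_two
  intro p' _
  by_cases hp' : J.map (algebraMap B B') ≤ p'
  · right
    constructor
    · exact (two_le_idealDepth_dual _ _ hB').trans (idealDepth_le_depth_localization p' _ hp')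
    · exact notMem_associatedPrimes_of_one_le_idealDepth (J.map (algebraMap B B')) _
        (one_le_idealDepth_dual _ _ (le_trans (by norm_num) hB')) p' hp'
  · left
    have hq : ¬ J ≤ p'.comap (algebraMap B B') := fun hle => hp' (Ideal.map_le_iff_le_comap.mpr hle)
    haveI : (p'.comap (algebraMap B B')).IsPrime := Ideal.comap_isPrime _ _
    haveI := hFU ⟨p'.comap (algebraMap B B'), inferInstance⟩ hq
    have hbij := bijective_localizedModule_map_eval (p'.comap (algebraMap B B')) F
    haveI : Module.FinitePresentation B (Module.Dual B (Module.Dual B F)) :=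
      Module.finitePresentation_of_finite B _
    obtain ⟨χ₀, s₀, hs₀, h1, h2⟩ := exists_local_inverse _ (Module.Dual.eval B F) hbij
    set χ := χ₀.baseChange B' with hχ
    have hs : algebraMap B B' s₀ ∈ p'.primeCompl := hs₀
    have hc1 : χ ∘ₗ ψ = algebraMap B B' s₀ • LinearMap.id := by
      rw [hχ, hψ, ← LinearMap.baseChange_comp, h1]
      ext x
      simp [TensorProduct.tmul_smul, Algebra.smul_def]
    have hc2 : ψ ∘ₗ χ = algebraMap B B' s₀ • LinearMap.id := by
      rw [hχ, hψ, ← LinearMap.baseChange_comp, h2]
      ext x
      simp [TensorProduct.tmul_smul, Algebra.smul_def]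
    have hdd : ∀ (X : Type u) [AddCommGroup X] [Module B' X] (c : B'),
        (c • (LinearMap.id : X →ₗ[B'] X)).dualMap.dualMap = c • LinearMap.id := by
      intro X _ _ c
      ext ξ θ
      have h0 : (c • (LinearMap.id : X →ₗ[B'] X)).dualMap θ = c • θ := by
        ext x
        simp
      change ξ ((c • (LinearMap.id : X →ₗ[B'] X)).dualMap θ) = c * ξ θ
      rw [h0, map_smul, smul_eq_mul]
    refine bijective_localizedModule_map_of_comp_eq_smul p'.primeCompl ψ.dualMap.dualMap
      χ.dualMap.dualMap (algebraMap B B' s₀) hs ?_ ?_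
    · rw [LinearMap.dualMap_comp_dualMap, LinearMap.dualMap_comp_dualMap, hc1, hdd]
    · rw [LinearMap.dualMap_comp_dualMap, LinearMap.dualMap_comp_dualMap, hc2, hdd]

end DDual

section FreeBC

variable {B B' : Type u} [CommRing B] [CommRing B'] [Algebra B B']
  (q' : Ideal B') [q'.IsPrime] (q : Ideal B) [q.IsPrime] [hlies : q'.LiesOver q]
  (M : Type u) [AddCommGroup M] [Module B M]

include hlies in
/-- If `M_q` is free then so is the stalk at `q'` (over `q`) of the base change `B' ⊗_B M`. -/
theorem free_localization_baseChange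
    [Module.Free (Localization.AtPrime q) (LocalizedModule q.primeCompl M)] :
    Module.Free (Localization.AtPrime q') (LocalizedModule q'.primeCompl (B' ⊗[B] M)) := by
  letI alg := Localization.AtPrime.algebraOfLiesOver q q'
  haveI : IsScalarTower B (Localization.AtPrime q) (Localization.AtPrime q') := inferInstance
  letI : Module (Localization.AtPrime q) (LocalizedModule q'.primeCompl (B' ⊗[B] M)) :=
    Module.compHom _ (algebraMap (Localization.AtPrime q) (Localization.AtPrime q'))
  haveI : IsScalarTower (Localization.AtPrime q) (Localization.AtPrime q')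
      (LocalizedModule q'.primeCompl (B' ⊗[B] M)) :=
    IsScalarTower.of_algebraMap_smul fun r x => rfl
  haveI : IsScalarTower B (Localization.AtPrime q)
      (LocalizedModule q'.primeCompl (B' ⊗[B] M)) :=
    IsScalarTower.of_algebraMap_smul fun r x => by
      change algebraMap (Localization.AtPrime q) (Localization.AtPrime q')
        (algebraMap B (Localization.AtPrime q) r) • x = r • x
      rw [← IsScalarTower.algebraMap_apply, algebraMap_smul]
  have hf : IsBaseChange (Localization.AtPrime q) (LocalizedModule.mkLinearMap q.primeCompl M) :=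
    IsLocalizedModule.isBaseChange q.primeCompl (Localization.AtPrime q) _
  have hφ := IsBaseChange.comp (TensorProduct.isBaseChange B M B')
    (IsLocalizedModule.isBaseChange q'.primeCompl (Localization.AtPrime q')
        (LocalizedModule.mkLinearMap q'.primeCompl (B' ⊗[B] M)))
  set φ : M →ₗ[B] LocalizedModule q'.primeCompl (B' ⊗[B] M) :=
    ((LocalizedModule.mkLinearMap q'.primeCompl (B' ⊗[B] M)).restrictScalars B) ∘ₗ
      (TensorProduct.mk B B' M 1) with hφdef
  let f₂ : LocalizedModule q.primeCompl M →ₗ[Localization.AtPrime q]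
      LocalizedModule q'.primeCompl (B' ⊗[B] M) := hf.lift φ
  have h₂ : IsBaseChange (Localization.AtPrime q') f₂ := by
    apply IsBaseChange.of_comp hf
    have : (f₂.restrictScalars B) ∘ₗ (LocalizedModule.mkLinearMap q.primeCompl M) = φ :=
      hf.lift_comp φ
    rw [this]
    exact hφ
  exact h₂.free

end FreeBC

end Groth.Agent.Lib.Helper28.DDualBC
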