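import Groth.Agent.Lib.Helper8Tilde

set_option autoImplicit false
universe u
open CategoryTheory AlgebraicGeometry TopologicalSpace Opposite

namespace Groth.Agent.Lib.Helper8.Tilde

variable {R : Type u} [CommRing R] {M : Type u} [AddCommGroup M] [Module R M]

/-- (K) a section over `W ⊇ D(a)` vanishing on `D(a)` is killed by a power of `a`. -/
theorem exists_pow_smul_eq_zero_of_res_eq_zero [IsNoetherianRing R] (a : Ideal R)
    (W : Opens (PrimeSpectrum.Top R)) (hUW : LocCoh.puncturedOpen R a ≤ W) (s : Sec R M W)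
    (hs : ∀ x : LocCoh.puncturedOpen R a, s.1 ⟨x.1, hUW x.2⟩ = 0) :
    ∃ n : ℕ, ∀ c ∈ a ^ n, c • s = 0 := by
  classical
  obtain ⟨t, ht, hcov⟩ := exists_finite_cover W s
  have hp : ∀ p ∈ t, ∃ n : ℕ, ∀ c ∈ a ^ n, p.1 ^ n • c • p.2 = 0 := by
    intro p hp
    obtain ⟨n, hn⟩ := exists_pow_kills (Ideal.span {p.1} * a)
      ((Submodule.fg_span_singleton p.1).mul (IsNoetherian.noetherian a)) p.2 (by
        rintro y ⟨f, hf, hfy⟩
        have hpy : p.1 ∉ y.asIdeal := by
          intro h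
          apply hfy
          have : Ideal.span {p.1} * a ≤ y.asIdeal :=
            Ideal.mul_le_left.trans ((Ideal.span_singleton_le_iff_mem _).mpr h)
          exact this hf
        have hyU : (y : PrimeSpectrum.Top R) ∈ LocCoh.puncturedOpen R a :=
          mem_puncturedOpen.mpr ⟨f, Ideal.mul_le_right hf, hfy⟩
        obtain ⟨hyW, h1⟩ := ht p hp y hpy
        have h2 := hs ⟨y, hyU⟩
        have h3 : (LocalizedModule.mk p.2 ⟨p.1, hpy⟩ : LocalizedModule y.asIdeal.primeCompl M) = 0 := by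
          rw [← h1]
          exact h2
        exact (mk_eq_zero_iff _ _).mp h3)
    refine ⟨n, fun c hc => ?_⟩
    rw [smul_smul]
    apply hn
    rw [mul_pow]
    exact Ideal.mul_mem_mul (Ideal.pow_mem_pow (Ideal.mem_span_singleton_self _) n) hc
  choose! k hk using hp
  let N := t.sup k
  refine ⟨N, fun c hc => ?_⟩
  apply sec_ext
  intro x
  obtain ⟨q, hq, hqx⟩ := hcov x.1 x.2
  obtain ⟨_, h1⟩ := ht q hq x.1 hqx
  have h2 : s.1 x = LocalizedModule.mk q.2 ⟨q.1, hqx⟩ := h1
  rw [structureSheafInType.smul_apply, zero_apply, h2, LocalizedModule.smul'_mk, mk_eq_zero_iff]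
  refine ⟨q.1 ^ k q, fun h => hqx (x.1.isPrime.mem_of_pow_mem _ h), ?_⟩
  exact hk q hq c (Ideal.pow_le_pow_right (Finset.le_sup hq) hc)

theorem secEquiv_res (U W : Opens (PrimeSpectrum.Top R)) (hUW : U ≤ W)
    (x : ↑((modulesSpecToSheaf.obj (tilde (R := CommRingCat.of R) (ModuleCat.of R M))).presheaf.obj
      (op W))) (y : U) :
    (secEquiv U (((modulesSpecToSheaf.obj (tilde (R := CommRingCat.of R)
      (ModuleCat.of R M))).presheaf.map (homOfLE hUW).op).hom x)).1 y =
      (secEquiv W x).1 ⟨y.1, hUW y.2⟩ := rfl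

end Groth.Agent.Lib.Helper8.Tilde
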