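import Groth.Prelude.Def_EGA4c
import Groth.Agent.Lib.Helper8Tilde2
import Groth.Agent.Lib.Helper8LC2

/-!
# Helper28Deligne: sections of `M~` over `Spec A ∖ V(J)` versus the ideal transform `D_J(M)`

* `IsIT J ε`: `ε : M → N` exhibits `N` as an ideal transform of `M` along `J` (kernel and cokernel
  `J`-power torsion, `N` has no `J`-power torsion and is `J`-closed).
* `IsIT.finite_of_finite`: any two ideal transforms are finite simultaneously (Noetherian base).
* `isIT_toDT`, `isIT_toOpen`: the colimit `D_J(M)` and the module of sections of `M~` over the open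
  complement of `V(J)` are ideal transforms.
* `isCoherentPushCompl_iff_finite_sec`, `isCoherentPushCompl_iff_finite_DT`,
  `isCoherentPushCompl_iff_finite_H1`.
-/

set_option autoImplicit false
universe u
open EGA4 AlgebraicGeometry CategoryTheory Opposite TopologicalSpace

namespace Groth.Agent.Lib.Helper28.Deligne

open Groth.Agent.Lib.Helper8.Tilde Groth.Agent.Lib.Helper8.DT LocCoh

/-- Transfer of finiteness along a surjective ring map with compatible actions on the same type. -/
theorem finite_iff_of_compat {R S N : Type*} [Ring R] [Ring S] [AddCommGroup N]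
    [Module R N] [Module S N] (σ : R →+* S) (hσ : Function.Surjective σ)
    (h : ∀ (r : R) (n : N), σ r • n = r • n) : Module.Finite S N ↔ Module.Finite R N := by
  constructor
  · rintro ⟨T, hT⟩
    refine ⟨T, ?_⟩
    rw [eq_top_iff]
    intro n _
    have hn : n ∈ Submodule.span S (T : Set N) := by rw [hT]; exact Submodule.mem_top
    refine Submodule.span_induction ?_ ?_ ?_ ?_ hn
    · intro x hx; exact Submodule.subset_span hx
    · exact Submodule.zero_mem _
    · intro x y _ _ hx hy; exact Submodule.add_mem _ hx hy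
    · intro s x _ hx
      obtain ⟨r, rfl⟩ := hσ s
      rw [h]; exact Submodule.smul_mem _ r hx
  · rintro ⟨T, hT⟩
    refine ⟨T, ?_⟩
    rw [eq_top_iff]
    intro n _
    have hn : n ∈ Submodule.span R (T : Set N) := by rw [hT]; exact Submodule.mem_top
    refine Submodule.span_induction ?_ ?_ ?_ ?_ hn
    · intro x hx; exact Submodule.subset_span hx
    · exact Submodule.zero_mem _
    · intro x y _ _ hx hy; exact Submodule.add_mem _ hx hy
    · intro r x _ hx
      rw [← h]; exact Submodule.smul_mem _ (σ r) hx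

section Bridge0

variable (A : Type u) [CommRing A] (J : Ideal A) (M : Type u) [AddCommGroup M] [Module A M]

/-- The `Γ(Spec A, ⊤)`-module structure on sections over `U` (restriction of scalars). -/
noncomputable def instS :
    Module ↑((Spec (CommRingCat.of A)).ringCatSheaf.obj.obj (op ⊤) : RingCat)
      ↑((modulesSpecToSheaf.obj (tilde (R := CommRingCat.of A)
        (ModuleCat.of (CommRingCat.of A) M))).presheaf.obj (op (openCompl A J))) :=
  inferInstanceAs (Module ↑((Spec (CommRingCat.of A)).ringCatSheaf.obj.obj (op ⊤) : RingCat)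
    ↑((ModuleCat.restrictScalars ((Spec (CommRingCat.of A)).ringCatSheaf.obj.map
        (homOfLE (le_top : openCompl A J ≤ ⊤)).op).hom).obj
      ((tildeOf A M).val.obj (op (openCompl A J)))))

theorem isCoherentPushCompl_iff_finite_sec :
    EGA4.IsCoherentPushCompl A J M ↔ Module.Finite A (Sec A M (LocCoh.puncturedOpen A J)) := by
  unfold EGA4.IsCoherentPushCompl
  have e := secEquiv (R := A) (M := M) (openCompl A J)
  change _ ↔ Module.Finite A (Sec A M (openCompl A J))
  rw [← Module.Finite.equiv_iff e]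
  have hσ : Function.Surjective (Scheme.ΓSpecIso (CommRingCat.of A)).inv.hom :=
    (ConcreteCategory.bijective_of_isIso (Scheme.ΓSpecIso (CommRingCat.of A)).inv).2
  exact @finite_iff_of_compat A ↑((Spec (CommRingCat.of A)).ringCatSheaf.obj.obj (op ⊤) : RingCat)
    ↑((modulesSpecToSheaf.obj (tilde (R := CommRingCat.of A)
        (ModuleCat.of (CommRingCat.of A) M))).presheaf.obj (op (openCompl A J))) _ _ _ _
    (instS A J M) (Scheme.ΓSpecIso (CommRingCat.of A)).inv.hom hσ (fun r n => rfl)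

end Bridge0

section IT

variable {A : Type u} [CommRing A] (J : Ideal A)

/-- `ε : M → N` exhibits `N` as an ideal transform of `M` with respect to `J`. -/
structure IsIT {M N : Type u} [AddCommGroup M] [Module A M] [AddCommGroup N] [Module A N]
    (ε : M →ₗ[A] N) : Prop where
  ker : ∀ m, ε m = 0 ↔ ∃ n : ℕ, ∀ c ∈ J ^ n, c • m = 0
  tf : ∀ s : N, (∃ n : ℕ, ∀ c ∈ J ^ n, c • s = 0) → s = 0
  cok : ∀ s : N, ∃ n : ℕ, ∀ c ∈ J ^ n, c • s ∈ LinearMap.range ε
  closed : ∀ (n : ℕ) (φ : ↥(J ^ n) →ₗ[A] N), ∃ t : N, ∀ c : ↥(J ^ n), φ c = (c : A) • t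

variable {J}
variable {M N₁ N₂ : Type u} [AddCommGroup M] [Module A M] [AddCommGroup N₁] [Module A N₁]
  [AddCommGroup N₂] [Module A N₂] {ε₁ : M →ₗ[A] N₁} {ε₂ : M →ₗ[A] N₂}

/-- The graph of the comparison between two ideal transforms. -/
def graph (J : Ideal A) (ε₁ : M →ₗ[A] N₁) (ε₂ : M →ₗ[A] N₂) : Submodule A (N₁ × N₂) where
  carrier := {x | ∃ k : ℕ, ∀ c ∈ J ^ k, ∃ m, ε₁ m = c • x.1 ∧ ε₂ m = c • x.2}
  add_mem' := by
    rintro x y ⟨k₁, h₁⟩ ⟨k₂, h₂⟩
    refine ⟨max k₁ k₂, fun c hc => ?_⟩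
    obtain ⟨m₁, hm₁, hm₁'⟩ := h₁ c (Ideal.pow_le_pow_right (le_max_left _ _) hc)
    obtain ⟨m₂, hm₂, hm₂'⟩ := h₂ c (Ideal.pow_le_pow_right (le_max_right _ _) hc)
    exact ⟨m₁ + m₂, by rw [map_add, hm₁, hm₂, Prod.fst_add, smul_add],
      by rw [map_add, hm₁', hm₂', Prod.snd_add, smul_add]⟩
  zero_mem' := ⟨0, fun c _ => ⟨0, by simp, by simp⟩⟩
  smul_mem' := by
    rintro r x ⟨k, h⟩
    refine ⟨k, fun c hc => ?_⟩
    obtain ⟨m, hm, hm'⟩ := h c hc
    exact ⟨r • m, by rw [map_smul, hm, Prod.smul_fst, smul_comm],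
      by rw [map_smul, hm', Prod.smul_snd, smul_comm]⟩

theorem IsIT.finite_of_finite [IsNoetherianRing A] (h₁ : IsIT J ε₁) (h₂ : IsIT J ε₂)
    [Module.Finite A N₂] : Module.Finite A N₁ := by
  have hker : LinearMap.ker ε₁ ≤ LinearMap.ker ε₂ := by
    intro m hm
    rw [LinearMap.mem_ker] at hm ⊢
    exact (h₂.ker m).mpr ((h₁.ker m).mp hm)
  let G := graph J ε₁ ε₂
  -- second projection is injective on the graph
  have hsnd : Function.Injective ((LinearMap.snd A N₁ N₂) ∘ₗ G.subtype) := by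
    rw [← LinearMap.ker_eq_bot, LinearMap.ker_eq_bot']
    rintro ⟨x, k, hk⟩ hx
    have hx2 : x.2 = 0 := hx
    have hx1 : x.1 = 0 := by
      apply h₁.tf
      refine ⟨k, fun c hc => ?_⟩
      obtain ⟨m, hm, hm'⟩ := hk c hc
      rw [hx2, smul_zero] at hm'
      rw [← hm]
      exact (h₁.ker m).mpr ((h₂.ker m).mp hm')
    exact Subtype.ext (Prod.ext hx1 hx2)
  -- first projection is surjective from the graph
  have hfst : Function.Surjective ((LinearMap.fst A N₁ N₂) ∘ₗ G.subtype) := by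
    intro s
    obtain ⟨n, hn⟩ := h₁.cok s
    let ψ : ↥(J ^ n) →ₗ[A] LinearMap.range ε₁ :=
      LinearMap.codRestrict (LinearMap.range ε₁)
        ((LinearMap.toSpanSingleton A N₁ s) ∘ₗ (Submodule.subtype (J ^ n)))
        (fun c => by
          simp only [LinearMap.comp_apply, Submodule.subtype_apply,
            LinearMap.toSpanSingleton_apply]
          exact hn c c.2)
    let ρ : LinearMap.range ε₁ →ₗ[A] N₂ :=
      (Submodule.liftQ (LinearMap.ker ε₁) ε₂ hker) ∘ₗ (ε₁.quotKerEquivRange).symm.toLinearMap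
    have hρ : ∀ m (hm : ε₁ m ∈ LinearMap.range ε₁), ρ ⟨ε₁ m, hm⟩ = ε₂ m := by
      intro m hm
      have : (ε₁.quotKerEquivRange).symm ⟨ε₁ m, hm⟩ = Submodule.Quotient.mk m := by
        rw [LinearEquiv.symm_apply_eq]
        exact Subtype.ext (by rw [LinearMap.quotKerEquivRange_apply_mk])
      simp only [ρ, LinearMap.comp_apply, LinearEquiv.coe_coe, this, Submodule.liftQ_apply]
    obtain ⟨t, ht⟩ := h₂.closed n (ρ ∘ₗ ψ)
    refine ⟨⟨(s, t), n, fun c hc => ?_⟩, rfl⟩
    obtain ⟨m, hm⟩ := hn c hc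
    refine ⟨m, hm, ?_⟩
    have h1 := ht ⟨c, hc⟩
    have h2 : ψ ⟨c, hc⟩ = ⟨ε₁ m, ⟨m, rfl⟩⟩ := by
      apply Subtype.ext
      simp only [ψ, LinearMap.codRestrict_apply, LinearMap.comp_apply, Submodule.subtype_apply,
        LinearMap.toSpanSingleton_apply]
      exact hm.symm
    rw [LinearMap.comp_apply, h2, hρ] at h1
    exact h1
  have hN : IsNoetherian A N₂ := isNoetherian_of_isNoetherianRing_of_finite A N₂
  have hG : Module.Finite A G := Module.Finite.of_injective _ hsnd
  exact Module.Finite.of_surjective _ hfst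

theorem IsIT.finite_iff [IsNoetherianRing A] (h₁ : IsIT J ε₁) (h₂ : IsIT J ε₂) :
    Module.Finite A N₁ ↔ Module.Finite A N₂ :=
  ⟨fun _ => h₂.finite_of_finite h₁, fun _ => h₁.finite_of_finite h₂⟩

end IT

section DT

variable {A : Type u} [CommRing A] [IsNoetherianRing A] (J : Ideal A) (M : Type u)
  [AddCommGroup M] [Module A M]

theorem isIT_toDT : IsIT J (toDT J M) := by
  have htf : ∀ s : DT J M, (∃ n : ℕ, ∀ c ∈ J ^ n, c • s = 0) → s = 0 := by
    intro s hs
    have : s ∈ DRing.torsionSub J (DT J M) := hs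
    rw [torsionSub_DT_eq_bot] at this
    exact (Submodule.mem_bot A).mp this
  refine ⟨?_, htf, ?_, ?_⟩
  · intro m
    rw [← LinearMap.mem_ker, ker_toDT]
    rfl
  · intro s
    obtain ⟨n, f, rfl⟩ := exists_rep J M s
    refine ⟨n, fun c hc => ?_⟩
    rw [smul_cls J M f ⟨c, hc⟩]
    exact ⟨_, rfl⟩
  · intro n φ
    obtain ⟨t, ht⟩ := (toDT_DT_bijective J M).2 (cls J (DT J M) n φ)
    rw [toDT_eq' J (DT J M) t n, cls_eq_iff] at ht
    obtain ⟨k, hn, _, hk⟩ := ht
    refine ⟨t, fun c => ?_⟩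
    rw [← sub_eq_zero]
    apply htf
    refine ⟨k, fun d hd => ?_⟩
    have hdc : d * (c : A) ∈ J ^ k := Ideal.mul_mem_right _ _ hd
    have h1 := LinearMap.congr_fun hk ⟨d * (c : A), hdc⟩
    simp only [LinearMap.comp_apply, Submodule.subtype_apply, LinearMap.toSpanSingleton_apply,
      incl_coe] at h1
    have h2 : incl J hn ⟨d * (c : A), hdc⟩ = d • c := Subtype.ext rfl
    rw [h2, map_smul] at h1
    rw [smul_sub, ← h1, mul_smul, sub_self]

end DT

section SecClosed

variable {R : Type u} [CommRing R] {M : Type u} [AddCommGroup M] [Module R M]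

theorem sec_smul_apply {U : Opens (PrimeSpectrum.Top R)} (c : R) (s : Sec R M U) (x : U) :
    (c • s).1 x = c • s.1 x := rfl

/-- The module of sections over the complement of `V(a)` is `a`-closed. -/
theorem sec_closed (a : Ideal R) (n : ℕ)
    (φ : ↥(a ^ n) →ₗ[R] Sec R M (LocCoh.puncturedOpen R a)) :
    ∃ t : Sec R M (LocCoh.puncturedOpen R a), ∀ c : ↥(a ^ n), φ c = (c : R) • t := by
  classical
  have hex : ∀ x : (LocCoh.puncturedOpen R a), ∃ f ∈ a, f ∉ x.1.asIdeal :=
    fun x => mem_puncturedOpen.mp x.2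
  choose f hfa hfx using hex
  have hg : ∀ x, f x ^ n ∈ a ^ n := fun x => Ideal.pow_mem_pow (hfa x) n
  have hgx : ∀ x : (LocCoh.puncturedOpen R a), f x ^ n ∈ x.1.asIdeal.primeCompl :=
    fun x h => hfx x (x.1.isPrime.mem_of_pow_mem n h)
  have hsymm : ∀ c d : ↥(a ^ n), (d : R) • φ c = (c : R) • φ d := by
    intro c d
    rw [← map_smul, ← map_smul]
    congr 1
    apply Subtype.ext
    simp [mul_comm]
  let tf : ∀ x : (LocCoh.puncturedOpen R a), StructureSheaf.Localizations M x.1 := fun x =>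
    LocalizedModule.divBy ⟨f x ^ n, hgx x⟩ ((φ ⟨f x ^ n, hg x⟩).1 x)
  have hpt : ∀ (c : ↥(a ^ n)) (x : (LocCoh.puncturedOpen R a)), (c : R) • tf x = (φ c).1 x := by
    intro c x
    apply IsLocalizedModule.smul_injective
      (LocalizedModule.mkLinearMap x.1.asIdeal.primeCompl M) ⟨f x ^ n, hgx x⟩
    change (f x ^ n) • ((c : R) • tf x) = (f x ^ n) • (φ c).1 x
    rw [smul_comm]
    have h1 : (f x ^ n) • tf x = (φ ⟨f x ^ n, hg x⟩).1 x := by
      have := LocalizedModule.mul_by_divBy (⟨f x ^ n, hgx x⟩ : x.1.asIdeal.primeCompl)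
        ((φ ⟨f x ^ n, hg x⟩).1 x)
      rw [Module.algebraMap_end_apply] at this
      exact this
    rw [h1, ← sec_smul_apply, ← sec_smul_apply]
    have := hsymm c ⟨f x ^ n, hg x⟩
    exact congrArg (fun s => s.1 x) this.symm
  have hloc : (StructureSheaf.isLocallyFraction R M).pred tf := by
    intro x
    obtain ⟨V, hxV, i, r, s, w⟩ := (φ ⟨f x ^ n, hg x⟩).2 x
    refine ⟨V ⊓ PrimeSpectrum.basicOpen (f x), ⟨hxV, hfx x⟩, Opens.infLELeft _ _ ≫ i, r,
      s * f x ^ n, fun y => ?_⟩
    obtain ⟨hs, hw⟩ := w ⟨y.1, y.2.1⟩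
    have hfy : f x ∉ y.1.asIdeal := y.2.2
    have hgy : f x ^ n ∉ y.1.asIdeal := fun h => hfy (y.1.isPrime.mem_of_pow_mem n h)
    have hsg : s * f x ^ n ∉ y.1.asIdeal := fun h =>
      (y.1.isPrime.mem_or_mem h).elim hs hgy
    refine ⟨hsg, ?_⟩
    set y' : (LocCoh.puncturedOpen R a) := (Opens.infLELeft _ _ ≫ i) y with hy'
    apply IsLocalizedModule.smul_injective
      (LocalizedModule.mkLinearMap y'.1.asIdeal.primeCompl M)
      (⟨f x ^ n, hgy⟩ : y'.1.asIdeal.primeCompl)
    change (f x ^ n) • tf y' = (f x ^ n) • LocalizedModule.mk r ⟨s * f x ^ n, hsg⟩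
    have h1 := hpt ⟨f x ^ n, hg x⟩ y'
    change (f x ^ n) • tf y' = _ at h1
    rw [h1]
    have h2 : (φ ⟨f x ^ n, hg x⟩).1 y' = LocalizedModule.mk r ⟨s, hs⟩ := hw
    rw [h2, LocalizedModule.smul'_mk, LocalizedModule.mk_eq]
    refine ⟨1, ?_⟩
    simp only [one_smul, Submonoid.smul_def]
    rw [smul_smul, mul_comm]
  refine ⟨⟨tf, hloc⟩, fun c => ?_⟩
  apply sec_ext
  intro x
  rw [sec_smul_apply]
  exact (hpt c x).symm

theorem isIT_toOpen [IsNoetherianRing R] (a : Ideal R) :
    IsIT a (StructureSheaf.toOpenₗ R M (LocCoh.puncturedOpen R a)) where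
  ker m := toOpenₗ_eq_zero_iff a (IsNoetherian.noetherian a) m
  tf := by
    rintro s ⟨n, hn⟩
    exact eq_zero_of_pow_smul_eq_zero a s n hn
  cok s := exists_pow_smul_mem_range a s
  closed n φ := sec_closed a n φ

end SecClosed

section Main

variable (A : Type u) [CommRing A] [IsNoetherianRing A] (J : Ideal A) (M : Type u)
  [AddCommGroup M] [Module A M]

theorem isCoherentPushCompl_iff_finite_DT :
    EGA4.IsCoherentPushCompl A J M ↔ Module.Finite A (DT J M) := by
  rw [isCoherentPushCompl_iff_finite_sec]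
  exact (isIT_toOpen (M := M) J).finite_iff (isIT_toDT J M)

theorem isCoherentPushCompl_iff_finite_H1 [Module.Finite A M] :
    EGA4.IsCoherentPushCompl A J M ↔ Module.Finite A (LocCoh.H J 1 M) := by
  rw [isCoherentPushCompl_iff_finite_DT]
  obtain ⟨e⟩ := Groth.Agent.Lib.Helper8.LC.nonempty_coker_toDT_equiv J M
  constructor
  · intro h
    have h2 : Module.Finite A (DT J M ⧸ LinearMap.range (toDT J M)) := Module.Finite.quotient A _
    exact Module.Finite.equiv e
  · intro h
    have h2 : Module.Finite A (DT J M ⧸ LinearMap.range (toDT J M)) := Module.Finite.equiv e.symm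
    have h3 : Module.Finite A (LinearMap.range (toDT J M)) := Module.Finite.range _
    exact Module.Finite.of_submodule_quotient (LinearMap.range (toDT J M))

end Main

end Groth.Agent.Lib.Helper28.Deligne
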