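import Mathlib
import Groth.Prelude.Def_CAlgX
import Groth.Agent.S10890

/-!
# Determinantal varieties, smooth locus, part 1: linear algebra (helper28)

* `eq_mul_of_minors_vanish`: a matrix with vanishing `(r+1)`-minors and an invertible `r × r`
  submatrix `D = A[f, g]` factors as `A = A[:, g] * D⁻¹ * A[f, :]`.
* `minorIdeal_mul_eq_bot`: a product through `r` has vanishing `(r+1)`-minors.
* `derivation_det`: `d (det A) = ∑ adj(A)_{qp} • d (A_{pq})`.
-/

set_option autoImplicit false

universe u v w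

namespace Groth.Agent.Lib.Helper28.DetSm

open Matrix

section LinAlg

variable {S : Type u} [CommRing S] {p q r : ℕ}

theorem det_submatrix_eq_zero_of_minorIdeal_eq_bot (A : Matrix (Fin p) (Fin q) S) {s : ℕ}
    (h : CAlgX.minorIdeal A s = ⊥) (F : Fin s → Fin p) (G : Fin s → Fin q) :
    det (A.submatrix F G) = 0 := by
  have : det (A.submatrix F G) ∈ CAlgX.minorIdeal A s := Ideal.subset_span ⟨(F, G), rfl⟩
  rw [h] at this
  simpa using this

theorem eq_mul_of_minors_vanish (A : Matrix (Fin p) (Fin q) S)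
    (f : Fin r → Fin p) (g : Fin r → Fin q) (E : Matrix (Fin r) (Fin r) S)
    (hE1 : A.submatrix f g * E = 1) (hE2 : E * A.submatrix f g = 1)
    (hmin : CAlgX.minorIdeal A (r + 1) = ⊥) :
    A = A.submatrix id g * E * A.submatrix f id := by
  ext i j
  letI : Invertible (A.submatrix f g) := ⟨E, hE2, hE1⟩
  let T : Matrix (Fin r ⊕ Fin 1) (Fin r ⊕ Fin 1) S :=
    fromBlocks (A.submatrix f g) (A.submatrix f (fun _ : Fin 1 => j))
      (A.submatrix (fun _ : Fin 1 => i) g) (A.submatrix (fun _ : Fin 1 => i) (fun _ : Fin 1 => j))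
  have hT : T = A.submatrix (Sum.elim f (fun _ => i)) (Sum.elim g (fun _ => j)) := by
    ext a b
    rcases a with a | a <;> rcases b with b | b <;> simp [T]
  have hdet0 : det T = 0 := by
    let e : Fin (r + 1) ≃ Fin r ⊕ Fin 1 := finSumFinEquiv.symm
    rw [← Matrix.det_submatrix_equiv_self e T, hT]
    exact det_submatrix_eq_zero_of_minorIdeal_eq_bot A hmin _ _
  have hdet1 := Matrix.det_fromBlocks₁₁ (A.submatrix f g) (A.submatrix f (fun _ : Fin 1 => j))
      (A.submatrix (fun _ : Fin 1 => i) g) (A.submatrix (fun _ : Fin 1 => i) (fun _ : Fin 1 => j))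
  change det T = _ at hdet1
  rw [hdet0] at hdet1
  have hu : IsUnit (det (A.submatrix f g)) := Matrix.isUnit_det_of_invertible _
  have h0 := (hu.mul_right_eq_zero).mp hdet1.symm
  rw [Matrix.det_unique] at h0
  have hinv : ⅟(A.submatrix f g) = E := rfl
  rw [hinv] at h0
  simp only [Matrix.sub_apply, Matrix.submatrix_apply, sub_eq_zero] at h0
  rw [h0]
  simp only [Matrix.mul_apply, Matrix.submatrix_apply, id]

theorem minorIdeal_mul_eq_bot (P : Matrix (Fin p) (Fin r) S) (Q : Matrix (Fin r) (Fin q) S) :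
    CAlgX.minorIdeal (P * Q) (r + 1) = ⊥ := by
  rw [eq_bot_iff]
  unfold CAlgX.minorIdeal
  rw [Ideal.span_le]
  rintro _ ⟨⟨F, G⟩, rfl⟩
  simp only [SetLike.mem_coe, Ideal.mem_bot]
  rw [Groth.Agent.S10890.Aux.LocRank.det_mul_cols]
  refine Finset.sum_eq_zero fun τ _ => ?_
  obtain ⟨a, b, hab, hτ⟩ := Fintype.exists_ne_map_eq_of_card_lt τ (by simp)
  have : det (P.submatrix F τ) = 0 :=
    det_zero_of_column_eq hab (fun k => by simp [Matrix.submatrix_apply, hτ])
  rw [this, mul_zero]

end LinAlg

section Deriv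

variable {k : Type u} {R : Type v} {M : Type w} [CommRing k] [CommRing R] [Algebra k R]
  [AddCommGroup M] [Module k M] [Module R M]

theorem leibniz_prod (d : Derivation k R M) {ι : Type*} [DecidableEq ι] (s : Finset ι)
    (a : ι → R) :
    d (∏ i ∈ s, a i) = ∑ i ∈ s, (∏ j ∈ s.erase i, a j) • d (a i) := by
  induction s using Finset.induction_on with
  | empty => simp
  | insert x s hx ih =>
    rw [Finset.prod_insert hx, Derivation.leibniz, ih, Finset.sum_insert hx,
      Finset.erase_insert hx, Finset.smul_sum, add_comm]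
    congr 1
    refine Finset.sum_congr rfl fun i hi => ?_
    have hxi : x ≠ i := fun h => hx (h ▸ hi)
    rw [Finset.erase_insert_of_ne hxi, Finset.prod_insert (fun h => hx (Finset.mem_of_mem_erase h)),
      smul_smul]

theorem prod_updateRow_single {s : Type*} [Fintype s] [DecidableEq s] (A : Matrix s s R)
    (σ : Equiv.Perm s) (p' q' : s) :
    ∏ l, (A.updateRow p' (Pi.single q' 1)) (σ l) l =
      if σ q' = p' then ∏ l ∈ Finset.univ.erase q', A (σ l) l else 0 := by
  split_ifs with h
  · rw [← Finset.mul_prod_erase Finset.univ _ (Finset.mem_univ q')]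
    have h1 : (A.updateRow p' (Pi.single q' 1)) (σ q') q' = 1 := by
      rw [h, Matrix.updateRow_self, Pi.single_eq_same]
    rw [h1, one_mul]
    refine Finset.prod_congr rfl fun l hl => ?_
    have hl' : l ≠ q' := Finset.ne_of_mem_erase hl
    have : σ l ≠ p' := fun h2 => hl' (σ.injective (h2.trans h.symm))
    rw [Matrix.updateRow_ne this]
  · refine Finset.prod_eq_zero (Finset.mem_univ (σ.symm p')) ?_
    rw [Equiv.apply_symm_apply, Matrix.updateRow_self]
    have : σ.symm p' ≠ q' := fun h2 => h (by rw [← h2, Equiv.apply_symm_apply])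
    rw [Pi.single_eq_of_ne this]

theorem derivation_det (d : Derivation k R M) {s : Type*} [Fintype s] [DecidableEq s]
    (A : Matrix s s R) :
    d A.det = ∑ q' : s, ∑ p' : s, Matrix.adjugate A q' p' • d (A p' q') := by
  have hL : d A.det = ∑ σ : Equiv.Perm s, ∑ q' : s,
      (Equiv.Perm.sign σ : ℤ) • ((∏ l ∈ Finset.univ.erase q', A (σ l) l) • d (A (σ q') q')) := by
    rw [Matrix.det_apply, map_sum]
    refine Finset.sum_congr rfl fun σ _ => ?_
    rw [Units.smul_def, map_zsmul, leibniz_prod, Finset.smul_sum]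
  have hR : ∀ q' p' : s, Matrix.adjugate A q' p' • d (A p' q') =
      ∑ σ : Equiv.Perm s, (Equiv.Perm.sign σ : ℤ) •
        ((if σ q' = p' then ∏ l ∈ Finset.univ.erase q', A (σ l) l else 0) • d (A p' q')) := by
    intro q' p'
    rw [Matrix.adjugate_apply, Matrix.det_apply, Finset.sum_smul]
    refine Finset.sum_congr rfl fun σ _ => ?_
    rw [prod_updateRow_single, Units.smul_def, smul_assoc]
  rw [hL, Finset.sum_comm]
  refine Finset.sum_congr rfl fun q' _ => ?_
  simp_rw [hR]
  rw [Finset.sum_comm]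
  refine Finset.sum_congr rfl fun σ _ => ?_
  rw [← Finset.smul_sum]
  congr 1
  rw [Finset.sum_eq_single (σ q')]
  · rw [if_pos rfl]
  · intro b _ hb
    rw [if_neg (Ne.symm hb), zero_smul]
  · intro h
    exact absurd (Finset.mem_univ _) h

end Deriv

end Groth.Agent.Lib.Helper28.DetSm
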