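import Mathlib
import Groth.Prelude.Def_CAlgX
import Groth.Agent.Lib.Helper28DetSm1
import Groth.Agent.Lib.Helper28BE3

/-!
# Determinantal varieties, smooth locus, part 2: the locus where an `r`-minor is invertible is
formally smooth (helper28)
-/

set_option autoImplicit false

universe u

namespace Groth.Agent.Lib.Helper28.DetSm

open Matrix MvPolynomial

variable (k : Type u) [Field k] (n m : ℕ)

/-- the generic `n × m` matrix -/
noncomputable abbrev genM : Matrix (Fin n) (Fin m) (MvPolynomial (Fin n × Fin m) k) :=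
  Matrix.of fun (i : Fin n) (j : Fin m) => (MvPolynomial.X (i, j) : MvPolynomial (Fin n × Fin m) k)

variable {k n m}

theorem genM_map_aeval {C : Type u} [CommRing C] [Algebra k C] (A : Matrix (Fin n) (Fin m) C) :
    (genM k n m).map (MvPolynomial.aeval (R := k) fun ij : Fin n × Fin m => A ij.1 ij.2) = A := by
  ext i j
  simp [genM]

/-- lifting matrices of rank `≤ r` with an invertible `r`-minor along a square-zero extension -/
theorem exists_lift_matrix {C : Type u} [CommRing C] (N : Ideal C) (hN : N ^ 2 = ⊥) {r : ℕ}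
    (Abar : Matrix (Fin n) (Fin m) (C ⧸ N)) (f : Fin r → Fin n) (g : Fin r → Fin m)
    (h1 : CAlgX.minorIdeal Abar (r + 1) = ⊥) (h2 : IsUnit (det (Abar.submatrix f g))) :
    ∃ A : Matrix (Fin n) (Fin m) C, A.map (Ideal.Quotient.mk N) = Abar ∧
      CAlgX.minorIdeal A (r + 1) = ⊥ ∧ IsUnit (det (A.submatrix f g)) := by
  classical
  let s : C ⧸ N → C := Function.surjInv Ideal.Quotient.mk_surjective
  have hs : ∀ x, Ideal.Quotient.mk N (s x) = x := Function.surjInv_eq Ideal.Quotient.mk_surjective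
  let Dt : Matrix (Fin r) (Fin r) C := (Abar.submatrix f g).map s
  let Ct : Matrix (Fin n) (Fin r) C := (Abar.submatrix id g).map s
  let Rt : Matrix (Fin r) (Fin m) C := (Abar.submatrix f id).map s
  have hDt : Dt.map (Ideal.Quotient.mk N) = Abar.submatrix f g := by
    ext a b; simp [Dt, hs]
  have hCt : Ct.map (Ideal.Quotient.mk N) = Abar.submatrix id g := by
    ext a b; simp [Ct, hs]
  have hRt : Rt.map (Ideal.Quotient.mk N) = Abar.submatrix f id := by
    ext a b; simp [Rt, hs]
  have hdetDt : IsUnit (det Dt) := by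
    apply (IsNilpotent.isUnit_quotient_mk_iff (I := N) ⟨2, hN⟩).mp
    rw [RingHom.map_det, RingHom.mapMatrix_apply, hDt]
    exact h2
  have hDt1 : Dt * Dt⁻¹ = 1 := Matrix.mul_nonsing_inv Dt hdetDt
  have hDt2 : Dt⁻¹ * Dt = 1 := Matrix.nonsing_inv_mul Dt hdetDt
  let E : Matrix (Fin r) (Fin r) C := Dt⁻¹
  let Ebar : Matrix (Fin r) (Fin r) (C ⧸ N) := E.map (Ideal.Quotient.mk N)
  have hE1 : Abar.submatrix f g * Ebar = 1 := by
    rw [← hDt, ← Matrix.map_mul, hDt1, Matrix.map_one _ (map_zero _) (map_one _)]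
  have hE2 : Ebar * Abar.submatrix f g = 1 := by
    rw [← hDt, ← Matrix.map_mul, hDt2, Matrix.map_one _ (map_zero _) (map_one _)]
  refine ⟨Ct * E * Rt, ?_, ?_, ?_⟩
  · rw [Matrix.map_mul, Matrix.map_mul, hCt, hRt]
    exact (eq_mul_of_minors_vanish Abar f g Ebar hE1 hE2 h1).symm
  · exact minorIdeal_mul_eq_bot (Ct * E) Rt
  · have h3 : (Ct * E * Rt).submatrix f g = Dt * E * Dt := by
      rw [Matrix.submatrix_mul _ _ f id g Function.bijective_id,
        Matrix.submatrix_mul _ _ f id id Function.bijective_id]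
      rfl
    rw [h3, hDt1, one_mul]
    exact hdetDt

theorem minorIdeal_genM_map {C : Type u} [CommRing C] [Algebra k C]
    (φ : MvPolynomial (Fin n × Fin m) k →+* C) (s : ℕ) :
    (CAlgX.minorIdeal (genM k n m) s).map φ = CAlgX.minorIdeal ((genM k n m).map φ) s :=
  (Groth.Agent.Lib.Helper28.BE.minorIdeal_map φ (genM k n m) s).symm

/-- After inverting an `r`-minor, the determinantal ring of `(r+1)`-minors is formally smooth. -/
theorem formallySmooth_away {r : ℕ} (f : Fin r → Fin n) (g : Fin r → Fin m) :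
    Algebra.FormallySmooth k (Localization.Away
      (Ideal.Quotient.mk (CAlgX.minorIdeal (genM k n m) (r + 1))
        (det ((genM k n m).submatrix f g)))) := by
  set I := CAlgX.minorIdeal (genM k n m) (r + 1) with hI
  set δ := det ((genM k n m).submatrix f g) with hδ
  set δb := Ideal.Quotient.mk I δ with hδb
  refine Algebra.FormallySmooth.of_comp_surjective fun C _ _ N hN u => ?_
  -- the matrix over `C ⧸ N`
  let φ0 : MvPolynomial (Fin n × Fin m) k →ₐ[k] Localization.Away δb :=
    (Algebra.algHom k (MvPolynomial (Fin n × Fin m) k ⧸ I) (Localization.Away δb)).comp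
      (Ideal.Quotient.mkₐ k I)
  let ψ : MvPolynomial (Fin n × Fin m) k →ₐ[k] C ⧸ N := u.comp φ0
  let Abar : Matrix (Fin n) (Fin m) (C ⧸ N) := (genM k n m).map ψ
  have hφ0 : ∀ x ∈ I, φ0 x = 0 := by
    intro x hx
    have : Ideal.Quotient.mk I x = 0 := Ideal.Quotient.eq_zero_iff_mem.mpr hx
    simp [φ0, this]
  have h1 : CAlgX.minorIdeal Abar (r + 1) = ⊥ := by
    have := minorIdeal_genM_map (k := k) (n := n) (m := m) (ψ : _ →+* C ⧸ N) (r + 1)
    change _ = CAlgX.minorIdeal Abar (r + 1) at this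
    rw [← this, eq_bot_iff, Ideal.map_le_iff_le_comap]
    intro x hx
    rw [Ideal.mem_comap, Ideal.mem_bot]
    change u (φ0 x) = 0
    rw [hφ0 x hx, map_zero]
  have h2 : IsUnit (det (Abar.submatrix f g)) := by
    have e1 : det (Abar.submatrix f g) = ψ δ := by
      rw [hδ, AlgHom.map_det]
      rfl
    rw [e1]
    change IsUnit (u (algebraMap _ (Localization.Away δb) δb))
    exact (IsLocalization.Away.algebraMap_isUnit δb).map u
  obtain ⟨A, hA1, hA2, hA3⟩ := exists_lift_matrix N hN Abar f g h1 h2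
  -- the lift
  let v0 : MvPolynomial (Fin n × Fin m) k →ₐ[k] C :=
    MvPolynomial.aeval (R := k) fun ij : Fin n × Fin m => A ij.1 ij.2
  have hv0A : (genM k n m).map v0 = A := genM_map_aeval A
  have hv0 : ∀ x ∈ I, v0 x = 0 := by
    have := minorIdeal_genM_map (k := k) (n := n) (m := m) (v0 : _ →+* C) (r + 1)
    change _ = CAlgX.minorIdeal ((genM k n m).map v0) (r + 1) at this
    rw [hv0A, hA2, eq_bot_iff, Ideal.map_le_iff_le_comap] at this
    intro x hx
    simpa using this hx
  let v1 : (MvPolynomial (Fin n × Fin m) k ⧸ I) →ₐ[k] C := Ideal.Quotient.liftₐ I v0 hv0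
  have hv1 : IsUnit (v1 δb) := by
    have e1 : v1 δb = det (A.submatrix f g) := by
      change v0 δ = _
      rw [hδ, AlgHom.map_det, ← hv0A]
      rfl
    rw [e1]
    exact hA3
  let v : Localization.Away δb →ₐ[k] C := IsLocalization.Away.liftAlgHom δb hv1
  refine ⟨v, ?_⟩
  apply IsLocalization.algHom_ext (Submonoid.powers δb)
  apply Ideal.Quotient.algHom_ext
  apply MvPolynomial.algHom_ext
  intro ij
  obtain ⟨i, j⟩ := ij
  change Ideal.Quotient.mk N (v (algebraMap _ _ (Ideal.Quotient.mk I (X (i, j))))) = ψ (X (i, j))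
  have e2 : v (algebraMap _ _ (Ideal.Quotient.mk I (X (i, j)))) = A i j := by
    change IsLocalization.Away.lift δb hv1 _ = _
    rw [IsLocalization.Away.lift_eq]
    change v0 (X (i, j)) = _
    simp [v0]
  rw [e2]
  have e3 : Ideal.Quotient.mk N (A i j) = Abar i j := by
    rw [← hA1]
    rfl
  rw [e3]
  rfl

end Groth.Agent.Lib.Helper28.DetSm
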