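import Mathlib
import Groth.Prelude.Def_CAlgX
import Groth.Agent.Lib.Helper28DetSm2

/-!
# Determinantal varieties, smooth locus, part 3: points of rank `< r` are singular (helper28)
-/

set_option autoImplicit false

universe u

namespace Groth.Agent.Lib.Helper28.DetSm

open Matrix MvPolynomial TensorProduct KaehlerDifferential IsLocalRing

section General

variable {k S : Type u} [CommRing k] [CommRing S] [Algebra k S]

/-- Jacobian criterion, negative form: if `S` is local Noetherian, formally smooth over `k`, and the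
generators of `J` lie in `𝔪` and have differentials in `𝔪 Ω`, then `S ⧸ J` formally smooth forces
`J = 0`. -/
theorem eq_bot_of_formallySmooth_quotient [IsLocalRing S] [IsNoetherianRing S]
    [Algebra.FormallySmooth k S] (G : Set S)
    (hG : ∀ x ∈ G, x ∈ maximalIdeal S ∧
      D k S x ∈ (maximalIdeal S • ⊤ : Submodule S Ω[S⁄k]))
    (hsm : Algebra.FormallySmooth k (S ⧸ Ideal.span G)) : Ideal.span G = ⊥ := by
  set J := Ideal.span G with hJ
  set 𝔪 := maximalIdeal S with h𝔪
  -- the ideal of elements with small differential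
  let T : Ideal S :=
    { carrier := {x | x ∈ 𝔪 ∧ ((1 : S ⧸ J) ⊗ₜ[S] D k S x) ∈
        (𝔪 • ⊤ : Submodule S ((S ⧸ J) ⊗[S] Ω[S⁄k]))}
      add_mem' := by
        rintro a b ⟨ha1, ha2⟩ ⟨hb1, hb2⟩
        refine ⟨𝔪.add_mem ha1 hb1, ?_⟩
        rw [map_add, TensorProduct.tmul_add]
        exact Submodule.add_mem _ ha2 hb2
      zero_mem' := by
        refine ⟨𝔪.zero_mem, ?_⟩
        rw [map_zero, TensorProduct.tmul_zero]
        exact Submodule.zero_mem _
      smul_mem' := by
        rintro c x ⟨hx1, hx2⟩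
        refine ⟨𝔪.mul_mem_left c hx1, ?_⟩
        rw [smul_eq_mul, Derivation.leibniz, TensorProduct.tmul_add, TensorProduct.tmul_smul,
          TensorProduct.tmul_smul]
        refine Submodule.add_mem _ (Submodule.smul_mem _ c hx2) ?_
        exact Submodule.smul_mem_smul hx1 Submodule.mem_top }
  have hJT : J ≤ T := by
    rw [hJ, Ideal.span_le]
    intro x hx
    obtain ⟨h1, h2⟩ := hG x hx
    refine ⟨h1, ?_⟩
    have h3 := Submodule.mem_map_of_mem (f := TensorProduct.mk S (S ⧸ J) Ω[S⁄k] 1) h2
    rw [Submodule.map_smul''] at h3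
    exact Submodule.smul_mono le_rfl le_top h3
  have hJ𝔪 : J ≤ 𝔪 := fun x hx => (hJT hx).1
  -- the splitting
  have hsurj : Function.Surjective (algebraMap S (S ⧸ J)) := Ideal.Quotient.mk_surjective
  obtain ⟨l, hl⟩ := (Algebra.FormallySmooth.iff_split_injection (R := k) (P := S)
    (A := S ⧸ J) hsurj).mp hsm
  have hker : RingHom.ker (algebraMap S (S ⧸ J)) = J := by
    rw [Ideal.Quotient.algebraMap_eq, Ideal.mk_ker]
  have htop : (⊤ : Submodule S (RingHom.ker (algebraMap S (S ⧸ J))).Cotangent) ≤
      𝔪 • ⊤ := by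
    intro y _
    obtain ⟨x, rfl⟩ := Ideal.toCotangent_surjective _ y
    have h1 : l (kerCotangentToTensor k S (S ⧸ J) (Ideal.toCotangent _ x)) =
        Ideal.toCotangent _ x := by
      have := LinearMap.congr_fun hl (Ideal.toCotangent _ x)
      simpa using this
    rw [← h1, kerCotangentToTensor_toCotangent]
    have hx : x.1 ∈ T := hJT (hker.le x.2)
    have h3 := Submodule.mem_map_of_mem (f := l) hx.2
    rw [Submodule.map_smul''] at h3
    exact Submodule.smul_mono le_rfl le_top h3
  have hnoeth : IsNoetherian S (RingHom.ker (algebraMap S (S ⧸ J))).Cotangent :=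
    isNoetherian_of_surjective (f := (RingHom.ker (algebraMap S (S ⧸ J))).toCotangent)
      (LinearMap.range_eq_top.mpr (Ideal.toCotangent_surjective _))
  have hfin : (⊤ : Submodule S (RingHom.ker (algebraMap S (S ⧸ J))).Cotangent).FG :=
    IsNoetherian.noetherian _
  have hbot := Submodule.eq_bot_of_le_smul_of_le_jacobson_bot 𝔪 _ hfin htop
    (IsLocalRing.maximalIdeal_le_jacobson _)
  have hsub : Subsingleton (RingHom.ker (algebraMap S (S ⧸ J))).Cotangent := by
    rw [← Submodule.subsingleton_iff S]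
    exact subsingleton_of_bot_eq_top hbot.symm
  rw [Ideal.cotangent_subsingleton_iff, hker,
    Ideal.isIdempotentElem_iff_eq_bot_or_top_of_isLocalRing] at hsub
  rcases hsub with h | h
  · exact h
  · exfalso
    have : 𝔪 = ⊤ := top_le_iff.mp (h ▸ hJ𝔪)
    exact (IsLocalRing.maximalIdeal.isMaximal S).ne_top this

end General

end Groth.Agent.Lib.Helper28.DetSm

namespace Groth.Agent.Lib.Helper28.DetSm

open Matrix MvPolynomial TensorProduct KaehlerDifferential IsLocalRing

section Apply

variable {k : Type u} [Field k] {n m : ℕ}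

theorem genM_minor_ne_zero {r : ℕ} (hn : r ≤ n) (hm : r ≤ m) :
    det ((genM k n m).submatrix (Fin.castLE hn) (Fin.castLE hm)) ≠ 0 := by
  intro h
  let ev : MvPolynomial (Fin n × Fin m) k →ₐ[k] k :=
    MvPolynomial.aeval fun ij : Fin n × Fin m => if ij.1.val = ij.2.val then (1 : k) else 0
  have h1 := congrArg ev h
  rw [AlgHom.map_det, map_zero] at h1
  have h2 : ev.mapMatrix ((genM k n m).submatrix (Fin.castLE hn) (Fin.castLE hm)) = 1 := by
    ext a b
    simp [ev, genM, Matrix.one_apply, Fin.ext_iff]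
  rw [h2, det_one] at h1
  exact one_ne_zero h1

theorem minor_mem_minorIdeal (s : ℕ) (F : Fin s → Fin n) (G : Fin s → Fin m) :
    det ((genM k n m).submatrix F G) ∈ CAlgX.minorIdeal (genM k n m) s :=
  Ideal.subset_span ⟨(F, G), rfl⟩

theorem D_minor_mem {S : Type u} [CommRing S] [Algebra k S]
    [Algebra (MvPolynomial (Fin n × Fin m) k) S] [IsScalarTower k (MvPolynomial (Fin n × Fin m) k) S]
    (𝔮 : Ideal S) {r : ℕ}
    (h : ∀ x ∈ CAlgX.minorIdeal (genM k n m) r, algebraMap (MvPolynomial (Fin n × Fin m) k) S x ∈ 𝔮)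
    (F : Fin (r + 1) → Fin n) (G : Fin (r + 1) → Fin m) :
    D k S (algebraMap (MvPolynomial (Fin n × Fin m) k) S (det ((genM k n m).submatrix F G))) ∈
      (𝔮 • ⊤ : Submodule S Ω[S⁄k]) := by
  let d : Derivation k (MvPolynomial (Fin n × Fin m) k) Ω[S⁄k] :=
    (D k S).compAlgebraMap (MvPolynomial (Fin n × Fin m) k)
  change d (det ((genM k n m).submatrix F G)) ∈ _
  rw [derivation_det]
  refine Submodule.sum_mem _ fun q' _ => Submodule.sum_mem _ fun p' _ => ?_
  have e1 : ((genM k n m).submatrix F G).adjugate q' p' • d ((genM k n m).submatrix F G p' q') =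
      algebraMap (MvPolynomial (Fin n × Fin m) k) S (((genM k n m).submatrix F G).adjugate q' p') •
        d ((genM k n m).submatrix F G p' q') := (algebraMap_smul S _ _).symm
  rw [e1]
  refine Submodule.smul_mem_smul (h _ ?_) Submodule.mem_top
  rw [Matrix.adjugate_fin_succ_eq_det_submatrix]
  exact Ideal.mul_mem_left _ _ (minor_mem_minorIdeal r (F ∘ p'.succAbove) (G ∘ q'.succAbove))

end Apply

end Groth.Agent.Lib.Helper28.DetSm
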