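import Mathlib
import Groth.Prelude.Def_CAlgX
import Groth.Agent.Lib.Helper28DetSm3

set_option autoImplicit false

universe u

namespace Groth.Agent.Lib.Helper28.DetSm

open Matrix MvPolynomial TensorProduct KaehlerDifferential IsLocalRing

variable {k : Type u} [Field k] {n m : ℕ}

theorem not_formallySmooth_atPrime_aux {r : ℕ} (hn : r + 1 ≤ n) (hm : r + 1 ≤ m)
    (I : Ideal (MvPolynomial (Fin n × Fin m) k)) (hI : I = CAlgX.minorIdeal (genM k n m) (r + 1))
    (P : Ideal (MvPolynomial (Fin n × Fin m) k ⧸ I))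
    [P.IsPrime]
    (hP : (CAlgX.minorIdeal (genM k n m) r).map (Ideal.Quotient.mk I) ≤ P) :
    ¬ Algebra.FormallySmooth k (Localization.AtPrime P) := by
  intro hsm
  let Q : Ideal (MvPolynomial (Fin n × Fin m) k) := P.comap (Ideal.Quotient.mk I)
  have : Q.IsPrime := Ideal.comap_isPrime _ P
  let S := Localization.AtPrime Q
  have hIQ : I ≤ Q := by
    intro x hx
    change Ideal.Quotient.mk I x ∈ P
    rw [Ideal.Quotient.eq_zero_iff_mem.mpr hx]
    exact P.zero_mem
  have hIrQ : CAlgX.minorIdeal (genM k n m) r ≤ Q := Ideal.map_le_iff_le_comap.mp hP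
  let G : Set S := algebraMap (MvPolynomial (Fin n × Fin m) k) S ''
    (Set.range fun fg : (Fin (r + 1) → Fin n) × (Fin (r + 1) → Fin m) =>
      det ((genM k n m).submatrix fg.1 fg.2))
  have hspan : Ideal.span G = I.map (algebraMap (MvPolynomial (Fin n × Fin m) k) S) := by
    rw [hI]
    unfold CAlgX.minorIdeal
    rw [Ideal.map_span]
  have hmem : ∀ x, algebraMap (MvPolynomial (Fin n × Fin m) k) S x ∈ maximalIdeal S ↔ x ∈ Q :=
    fun x => IsLocalization.AtPrime.to_map_mem_maximal_iff S Q x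
  have hG : ∀ x ∈ G, x ∈ maximalIdeal S ∧ D k S x ∈ (maximalIdeal S • ⊤ : Submodule S Ω[S⁄k]) := by
    rintro _ ⟨_, ⟨⟨F, G'⟩, rfl⟩, rfl⟩
    refine ⟨(hmem _).mpr (hIQ (hI ▸ minor_mem_minorIdeal (r + 1) F G')), ?_⟩
    exact D_minor_mem (maximalIdeal S) (fun x hx => (hmem x).mpr (hIrQ hx)) F G'
  -- transfer formal smoothness
  have hsm' : Algebra.FormallySmooth k (S ⧸ Ideal.span G) := by
    rw [hspan]
    have : IsScalarTower k (MvPolynomial (Fin n × Fin m) k ⧸ I)
        (S ⧸ I.map (algebraMap (MvPolynomial (Fin n × Fin m) k) S)) :=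
      IsScalarTower.of_algebraMap_eq (R := k) (S := MvPolynomial (Fin n × Fin m) k ⧸ I)
        (A := S ⧸ I.map (algebraMap (MvPolynomial (Fin n × Fin m) k) S)) fun c => by
        have e1 : algebraMap k (MvPolynomial (Fin n × Fin m) k ⧸ I) c =
            Ideal.Quotient.mk I (algebraMap k (MvPolynomial (Fin n × Fin m) k) c) := rfl
        have e2 : algebraMap k (S ⧸ I.map (algebraMap (MvPolynomial (Fin n × Fin m) k) S)) c =
            Ideal.Quotient.mk _ (algebraMap k S c) := rfl
        rw [e1, e2, Ideal.Quotient.algebraMap_quotient_map_quotient,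
          ← IsScalarTower.algebraMap_apply]
    have hsub : Algebra.algebraMapSubmonoid (MvPolynomial (Fin n × Fin m) k ⧸ I) Q.primeCompl =
        P.primeCompl := by
      ext y
      constructor
      · rintro ⟨x, hx, rfl⟩
        exact hx
      · intro hy
        obtain ⟨x, rfl⟩ := Ideal.Quotient.mk_surjective y
        exact ⟨x, hy, rfl⟩
    have : IsLocalization.AtPrime
        (S ⧸ I.map (algebraMap (MvPolynomial (Fin n × Fin m) k) S)) P := by
      change IsLocalization P.primeCompl _
      rw [← hsub]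
      infer_instance
    let e : Localization.AtPrime P ≃ₐ[MvPolynomial (Fin n × Fin m) k ⧸ I]
        (S ⧸ I.map (algebraMap (MvPolynomial (Fin n × Fin m) k) S)) :=
      IsLocalization.algEquiv P.primeCompl (Localization.AtPrime P)
        (S ⧸ I.map (algebraMap (MvPolynomial (Fin n × Fin m) k) S))
    exact (Algebra.FormallySmooth.iff_of_equiv (R := k) (A := Localization.AtPrime P)
      (B := S ⧸ I.map (algebraMap (MvPolynomial (Fin n × Fin m) k) S)) (e.restrictScalars k)).mp hsm
  have hbot := eq_bot_of_formallySmooth_quotient G hG hsm'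
  -- contradiction: a nonzero minor
  have hμ : algebraMap (MvPolynomial (Fin n × Fin m) k) S
      (det ((genM k n m).submatrix (Fin.castLE hn) (Fin.castLE hm))) ∈ Ideal.span G :=
    Ideal.subset_span ⟨_, ⟨(Fin.castLE hn, Fin.castLE hm), rfl⟩, rfl⟩
  rw [hbot, Ideal.mem_bot] at hμ
  have hinj : Function.Injective (algebraMap (MvPolynomial (Fin n × Fin m) k) S) :=
    IsLocalization.injective S Q.primeCompl_le_nonZeroDivisors
  exact genM_minor_ne_zero hn hm (hinj (hμ.trans (map_zero _).symm))

theorem not_formallySmooth_atPrime {r : ℕ} (hn : r + 1 ≤ n) (hm : r + 1 ≤ m)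
    (P : Ideal (MvPolynomial (Fin n × Fin m) k ⧸ CAlgX.minorIdeal (genM k n m) (r + 1)))
    [P.IsPrime]
    (hP : (CAlgX.minorIdeal (genM k n m) r).map
      (Ideal.Quotient.mk (CAlgX.minorIdeal (genM k n m) (r + 1))) ≤ P) :
    ¬ Algebra.FormallySmooth k (Localization.AtPrime P) :=
  not_formallySmooth_atPrime_aux hn hm _ rfl P hP

end Groth.Agent.Lib.Helper28.DetSm
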