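import Mathlib
import Groth.Agent.Lib.Helper23IdealSec
import Groth.Agent.Lib.Helper23InvDual
import Groth.Agent.Lib.Helper18Cart1
import Groth.Agent.Lib.Helper23SecTw10

set_option autoImplicit false
set_option linter.style.haveILetI false
set_option linter.unusedSectionVars false
universe u
open CategoryTheory CategoryTheory.Limits AlgebraicGeometry TopologicalSpace Opposite

namespace Groth.Agent.Lib.Helper28.EffCartSec

open Groth.Agent.Lib.Helper23.SecTw Groth.Agent.Lib.Helper23.GenLocus Groth.Agent.Lib.Helper6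
  Groth.Agent.Lib.Helper23.TensorMap Groth.Agent.Lib.Helper23.IdealSec Groth.Agent.Lib.Helper23.InvDual
  Groth.Agent.Lib.Helper23.Extend

variable {X : Scheme.{u}}

theorem genLocus_eq_top_of_isIso {L : X.Modules} (s : Coh.structureModule X ⟶ L) [IsIso s] :
    CohB1.genLocus L s = ⊤ := by
  refine top_le_iff.1 ?_
  unfold CohB1.genLocus
  refine le_sSup ?_
  change IsIso ((Scheme.Modules.restrictFunctor (⊤ : X.Opens).ι).map s)
  infer_instance

/-- the ideal of an ideal sheaf over an affine open disjoint from the support is the unit ideal. -/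
theorem ideal_eq_top_of_disjoint (J : X.IdealSheafData) (W : X.affineOpens)
    (hW : ∀ y ∈ W.1, y ∉ J.support) : J.ideal W = ⊤ := by
  rw [← PrimeSpectrum.zeroLocus_empty_iff_eq_top]
  by_contra hne
  obtain ⟨p, hp⟩ := Set.nonempty_iff_ne_empty.2 hne
  have h1 : W.2.fromSpec p ∈ X.zeroLocus (U := W.1) (J.ideal W) ∩ W.1 := by
    rw [← W.2.fromSpec_image_zeroLocus]
    exact ⟨p, hp, rfl⟩
  have h2 : W.2.fromSpec p ∈ J.support := by
    rw [Scheme.IdealSheafData.mem_support_iff_of_mem h1.2]
    exact h1.1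
  exact hW _ h1.2 h2

/-- **`O(D)` and its canonical section**: an invertible tensor-inverse `P` of the ideal sheaf `J`, with a section whose
non-vanishing locus is the complement of the support of `J`. -/
theorem exists_invertible_section_of_isEffCartier (J : X.IdealSheafData)
    (hJ : BlowUp.IsEffCartierIdeal J) :
    ∃ (P : X.Modules) (σ : Coh.structureModule X ⟶ P), PicF.IsInvertible P ∧
      CohB1.genLocus P σ = J.support.compl := by
  have hJinv : PicF.IsInvertible (ClSub.idealMod J) :=
    (Groth.Agent.Helper18Cart.main_S8914 J).2 hJ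
  set P := RefHull.dual (ClSub.idealMod J) with hPdef
  have hP : PicF.IsInvertible P := isInvertible_dual _ hJinv
  obtain ⟨ε⟩ := nonempty_tensorMod_dual_iso (ClSub.idealMod J) hJinv
  set σ : Coh.structureModule X ⟶ P := ε.inv ≫ mulHom (ClSub.idealModι J) P with hσ
  refine ⟨P, σ, hP, le_antisymm ?_ ?_⟩
  · refine genLocus_comp_mulHom_le J P hP J.support.compl (fun y hy => ?_) ε.inv
    by_contra h
    exact hy h
  · intro x hx
    obtain ⟨W₀, e₀, hxW₀, hgen₀⟩ := exists_gen P hP x
    obtain ⟨W, hW, hxW, hWle⟩ : ∃ W : X.Opens, IsAffineOpen W ∧ x ∈ W ∧ W ≤ W₀ ⊓ J.support.compl := by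
      obtain ⟨W, hW, hxW, hle⟩ := Opens.isBasis_iff_nbhd.1 X.isBasis_affineOpens
        (show x ∈ W₀ ⊓ J.support.compl from ⟨hxW₀, hx⟩)
      exact ⟨W, hW, hxW, hle⟩
    have hWW₀ : W ≤ W₀ := hWle.trans inf_le_left
    have hgen : IsGen P W (res P hWW₀ e₀) := hgen₀.mono hWW₀
    have hJW : J.ideal ⟨W, hW⟩ = ⊤ :=
      ideal_eq_top_of_disjoint J ⟨W, hW⟩ (fun y hy => (hWle hy).2)
    obtain ⟨jU, hjU⟩ := exists_ι_eq J ⟨W, hW⟩ 1 (by rw [hJW]; trivial)
    -- the generator of `J ⊗ P`
    haveI : IsIso ε.inv := inferInstance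
    have hgenε : IsGen (CohB1.tensorMod (ClSub.idealMod J) P) W (sv ε.inv W) := by
      have h1 := isGen_sv_genLocus (CohB1.tensorMod (ClSub.idealMod J) P) ε.inv
      rw [genLocus_eq_top_of_isIso] at h1
      have h2 := h1.mono (le_top : W ≤ ⊤)
      rwa [res_sv] at h2
    have hbij := bijective_tm_of_isGen (ClSub.idealMod J) P W _ hgen W le_rfl
    simp only [res_self] at hbij
    obtain ⟨j', hj'⟩ := hbij.2 (sv ε.inv W)
    obtain ⟨b, hb⟩ := (hgenε W le_rfl).2 (tm (ClSub.idealMod J) P W jU (res P hWW₀ e₀))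
    simp only [res_self] at hb
    rw [← hj', ← tm_smul_left] at hb
    have hb' : b • j' = jU := hbij.1 hb
    set a : Γ(X, W) := ofS W ((ClSub.idealModι J).app W j') with ha
    have hba : b * a = 1 := by
      have h3 := congrArg (fun j => ofS W ((ClSub.idealModι J).app W j)) hb'
      simp only at h3
      rw [hjU] at h3
      have h4 : (ClSub.idealModι J).app W (b • j') = b • (ClSub.idealModι J).app W j' :=
        Scheme.Modules.Hom.app_smul _ _ _
      rw [h4] at h3
      exact h3
    have hsv : sv σ W = a • res P hWW₀ e₀ := by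
      have h5 : sv σ W = (mulHom (ClSub.idealModι J) P).app W (sv ε.inv W) := rfl
      rw [h5, ← hj', mulHom_tm]
    have h6 := genLocus_inf_eq_of_isGen P σ W _ _ hgen hsv
    have hau : IsUnit a := ⟨⟨a, b, by rw [mul_comm]; exact hba, hba⟩, rfl⟩
    rw [Scheme.basicOpen_of_isUnit _ hau] at h6
    have : x ∈ CohB1.genLocus P σ ⊓ W := by rw [h6]; exact hxW
    exact this.1

end Groth.Agent.Lib.Helper28.EffCartSec
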