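import Mathlib
import Groth.Agent.S5789
import Groth.Agent.Lib.Helper21PdLoc

/-!
# Projective dimension detected by `Ext^i(M, R)` for modules of finite projective dimension (helper28)
-/

universe u
open CategoryTheory CategoryTheory.Abelian

namespace Groth.Agent.Lib.Helper28

section ExtSelf

variable {R : Type u} [CommRing R] [IsNoetherianRing R]

/-- If `pd M ≤ p + 1` and `Ext^{p+1}(M, R) = 0` then `pd M ≤ p` (finite `M`, Noetherian `R`). -/
theorem hasProjectiveDimensionLT_of_subsingleton_ext_self (M : Type u) [AddCommGroup M] [Module R M]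
    [Module.Finite R M] (p : ℕ)
    (h1 : HasProjectiveDimensionLT (ModuleCat.of R M) (p + 2))
    (h2 : Subsingleton (Ext (ModuleCat.of R M) (ModuleCat.of R R) (p + 1))) :
    HasProjectiveDimensionLT (ModuleCat.of R M) (p + 1) := by
  rw [Groth.Agent.S5789.result]
  intro I
  let S : ShortComplex (ModuleCat.{u} R) :=
    ShortComplex.mk (ModuleCat.ofHom I.subtype) (ModuleCat.ofHom (Submodule.mkQ I))
      (ModuleCat.hom_ext (LinearMap.ext fun y =>
        (LinearMap.exact_subtype_mkQ I).apply_apply_eq_zero y))
  have hS : S.ShortExact := ModuleCat.shortComplex_shortExact S (LinearMap.exact_subtype_mkQ I)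
    (Submodule.injective_subtype _) (Submodule.mkQ_surjective _)
  refine subsingleton_of_forall_eq 0 fun x₃ => ?_
  have h3 : Subsingleton (Ext (ModuleCat.of R M) S.X₁ (p + 2)) :=
    HasProjectiveDimensionLT.subsingleton (ModuleCat.of R M) (p + 2) (p + 2) le_rfl _
  obtain ⟨x₂, hx₂⟩ := Ext.covariant_sequence_exact₃ (ModuleCat.of R M) hS x₃ (rfl : p + 1 + 1 = p + 2)
    (Subsingleton.elim _ _)
  have : x₂ = 0 := Subsingleton.elim _ _
  rw [← hx₂, this, Ext.zero_comp]

/-- finite projective dimension plus vanishing of `Ext^i(M, R)` for `i > q` gives `pd M ≤ q`. -/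
theorem hasProjectiveDimensionLT_of_forall_subsingleton_ext_self (M : Type u) [AddCommGroup M]
    [Module R M] [Module.Finite R M] (q N : ℕ)
    (h1 : HasProjectiveDimensionLT (ModuleCat.of R M) N)
    (h2 : ∀ i : ℕ, q < i → Subsingleton (Ext (ModuleCat.of R M) (ModuleCat.of R R) i)) :
    HasProjectiveDimensionLT (ModuleCat.of R M) (q + 1) := by
  have key : ∀ k : ℕ, HasProjectiveDimensionLT (ModuleCat.of R M) (q + 1 + k) →
      HasProjectiveDimensionLT (ModuleCat.of R M) (q + 1) := by
    intro k
    induction k with
    | zero => intro h; exact h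
    | succ k ih =>
      intro h
      apply ih
      have h' : HasProjectiveDimensionLT (ModuleCat.of R M) (q + k + 2) := by
        have : q + 1 + (k + 1) = q + k + 2 := by omega
        rwa [this] at h
      have := hasProjectiveDimensionLT_of_subsingleton_ext_self M (q + k) h' (h2 _ (by omega))
      have e : q + 1 + k = q + k + 1 := by omega
      rwa [e]
  by_cases hN : N ≤ q + 1
  · exact hasProjectiveDimensionLT_of_ge _ N (q + 1) hN
  · apply key (N - (q + 1))
    have : q + 1 + (N - (q + 1)) = N := by omega
    rwa [this]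

end ExtSelf

end Groth.Agent.Lib.Helper28
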