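import Mathlib
import Groth.Prelude.Def_RefHull
import Groth.Agent.Lib.Helper28RestrHom
import Groth.Agent.Lib.Helper23TensorMap
import Groth.Agent.Lib.Helper23FinType
import Groth.Agent.Lib.Helper20LocFree
import Groth.Agent.Lib.Helper4ModEpi

set_option autoImplicit false
set_option linter.unusedSectionVars false
set_option linter.style.haveILetI false
universe u
open CategoryTheory CategoryTheory.Limits AlgebraicGeometry TopologicalSpace Opposite

namespace Groth.Agent.Lib.Helper28.FTSpan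

open Groth.Agent.Lib.Helper23.SecTw Groth.Agent.Lib.Helper23.LocGen Groth.Agent.Lib.Helper23.TensorMap
  Groth.Agent.Lib.Helper28.HomSh Groth.Agent.Lib.Helper6 Groth.Agent.Lib.Helper23.GenLocus Groth.Agent.Lib.Helper23.Serre

attribute [local instance] Abelian.hasFiniteBiproducts

section Free

variable {Y : Scheme.{u}}

/-- an epimorphism from a free module of finite rank, from finitely many generating sections. -/
theorem exists_epi_freeMod (M : Y.Modules) (G : M.GeneratingSections) [G.IsFiniteType] :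
    ∃ (k : ℕ) (p : FlatMod.freeMod Y k ⟶ M), Epi p := by
  obtain ⟨k, ⟨e⟩⟩ := Finite.exists_equiv_fin G.I
  let e' : G.I ≃ ULift.{u} (Fin k) := e.trans Equiv.ulift.symm
  let φ : SheafOfModules.free (R := Y.ringCatSheaf) G.I ≅
      SheafOfModules.free (R := Y.ringCatSheaf) (ULift.{u} (Fin k)) :=
    (SheafOfModules.freeFunctor (R := Y.ringCatSheaf)).mapIso e'.toIso
  haveI hG : @Epi (SheafOfModules.{u} Y.ringCatSheaf) _ _ _ G.π := G.epi
  let q : (SheafOfModules.free (R := Y.ringCatSheaf) (ULift.{u} (Fin k)) : Y.Modules) ⟶ M :=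
    φ.inv ≫ G.π
  haveI hq : Epi q := by
    haveI : @Epi (SheafOfModules.{u} Y.ringCatSheaf) _ _ _ φ.inv := inferInstance
    exact @epi_comp (SheafOfModules.{u} Y.ringCatSheaf) _ _ _ _ φ.inv _ G.π hG
  refine ⟨k, (Groth.Agent.Lib.Helper20.LocFree.freeModIsoFree Y k).hom ≫ q, ?_⟩
  haveI : Epi (Groth.Agent.Lib.Helper20.LocFree.freeModIsoFree Y k).hom := inferInstance
  exact epi_comp _ q

/-- sections of a quotient of a finite free module are locally combinations of the images of the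
basis sections. -/
theorem exists_res_eq_sum {k : ℕ} {N : Y.Modules} (p : FlatMod.freeMod Y k ⟶ N) [Epi p]
    (A : Y.Opens) (m : Γ(N, A)) (y : Y) (hy : y ∈ A) :
    ∃ (B : Y.Opens) (hB : B ≤ A) (_ : y ∈ B) (r : Fin k → Γ(Y, B)),
      res N hB m = ∑ i, r i • sv (Sigma.ι (fun _ : Fin k => Coh.structureModule Y) i ≫ p) B := by
  obtain ⟨B, hBA, hyB, a, ha⟩ := Groth.Agent.Lib.Helper4.ModEpi.exists_app_eq_of_epi p A m y hy
  let O : Y.Modules := Coh.structureModule Y
  let e : (⨁ fun _ : Fin k => O) ≅ ∐ fun _ : Fin k => O := biproduct.isoCoproduct _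
  let p' : (⨁ fun _ : Fin k => O) ⟶ N := e.hom ≫ p
  let σ : Fin k → (O ⟶ N) := fun i => Sigma.ι (fun _ : Fin k => O) i ≫ p
  have hp' : ∀ i, biproduct.ι (fun _ : Fin k => O) i ≫ p' = σ i := by
    intro i
    change biproduct.ι (fun _ : Fin k => O) i ≫ (biproduct.isoCoproduct _).hom ≫ p = _
    rw [biproduct.isoCoproduct_hom, biproduct.ι_desc_assoc]
  have hsum : p' = ∑ i, biproduct.π (fun _ : Fin k => O) i ≫ σ i := by
    have h1 : p' = (∑ i, biproduct.π (fun _ : Fin k => O) i ≫ biproduct.ι (fun _ : Fin k => O) i) ≫ p' := by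
      rw [biproduct.total, Category.id_comp]
    rw [h1, Preadditive.sum_comp]
    refine Finset.sum_congr rfl (fun i _ => ?_)
    rw [Category.assoc, hp']
  let a' : Γ((⨁ fun _ : Fin k => O : Y.Modules), B) := e.inv.app B a
  have h2 : p.app B a = p'.app B a' := by
    have h3 : e.inv ≫ p' = p := by
      change e.inv ≫ e.hom ≫ p = _
      rw [Iso.inv_hom_id_assoc]
    exact (congrArg (fun φ : (∐ fun _ : Fin k => O) ⟶ N => φ.app B a) h3).symm
  have h4 : p'.app B a' = ∑ i, (σ i).app B ((biproduct.π (fun _ : Fin k => O) i).app B a') := by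
    have := congrArg (evalHom (N := N) B a') hsum
    rw [map_sum] at this
    exact this
  refine ⟨B, hBA, hyB, fun i => ofS B ((biproduct.π (fun _ : Fin k => O) i).app B a'), ?_⟩
  change N.presheaf.map (homOfLE hBA).op m = _
  rw [← ha, h2, h4]
  refine Finset.sum_congr rfl (fun i _ => ?_)
  rw [app_eq_smul_sv]

end Free


section Stalk

open Groth.Agent.Lib.Helper28.RestrHom

variable {X : Scheme.{u}}

/-- a module of finite type is spanned, near every point, by finitely many sections. -/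
theorem exists_spansOn (F : X.Modules) (hF : CohB1.IsFT F) (x : X) :
    ∃ (V : X.Opens) (_ : x ∈ V) (n : ℕ) (s : Fin n → Γ(F, V)), SpansOn F V s := by
  haveI : SheafOfModules.IsFiniteType (R := X.ringCatSheaf) F := hF
  obtain ⟨ι, U, G, hG, hU, -⟩ :=
    Groth.Agent.Lib.Helper23.FinType.exists_isOpenCover_generatingSections F
  have hx : x ∈ (⨆ i, U i : X.Opens) := by rw [hU.iSup_eq_top]; trivial
  obtain ⟨i₀, hxi⟩ := Opens.mem_iSup.1 hx
  haveI := hG i₀
  obtain ⟨k, p, hp⟩ := exists_epi_freeMod (F.restrict (U i₀).ι) (G i₀)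
  let σ : Fin k → (Coh.structureModule (U i₀ : Scheme.{u}) ⟶ F.restrict (U i₀).ι) := fun i =>
    Sigma.ι (fun _ : Fin k => Coh.structureModule (U i₀ : Scheme.{u})) i ≫ p
  refine ⟨(U i₀).ι ''ᵁ ⊤, ⟨⟨x, hxi⟩, trivial, rfl⟩, k,
    fun i => (show Γ(F, (U i₀).ι ''ᵁ ⊤) from sv (σ i) ⊤), ?_⟩
  rintro z ⟨y, hyT, rfl⟩
  rw [eq_top_iff]
  rintro c -
  -- transport to the restriction
  obtain ⟨A, hyA, m', hm'⟩ := TopCat.Presheaf.exists_germ_eq (F.restrict (U i₀).ι).presheaf
    ((sig (U i₀) F y).inv c)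
  obtain ⟨B, hBA, hyB, r, hr⟩ := exists_res_eq_sum p A m' y hyA
  have h1 : (sig (U i₀) F y).inv c = ∑ i, (U i₀ : Scheme.{u}).presheaf.germ B y hyB (r i) •
      (F.restrict (U i₀).ι).presheaf.germ ⊤ y trivial (sv (σ i) ⊤) := by
    rw [← hm', ← germ_res' (F.restrict (U i₀).ι) hBA y hyB m', hr, germ_sum_smul]
    refine Finset.sum_congr rfl fun i _ => ?_
    rw [← res_sv (σ i) (le_top : B ≤ ⊤), germ_res']
  have h2 : c = (sig (U i₀) F y).hom ((sig (U i₀) F y).inv c) := (sig_hom_inv (U i₀) F y c).symm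
  rw [h2, h1, map_sum]
  refine Submodule.sum_mem _ fun i _ => ?_
  rw [sig_hom_smul, sig_hom_germ]
  exact Submodule.smul_mem _ _ (Submodule.subset_span ⟨i, rfl⟩)

end Stalk

end Groth.Agent.Lib.Helper28.FTSpan
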