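import Groth.Agent.Lib.Helper28FibLoc
import Groth.Agent.Lib.Helper5LocalFlat2

/-!
# Base change of fibre depth, part 1 (helper28): general base-change lemmas
-/

set_option autoImplicit false
universe u v w

namespace Groth.Agent.Lib.Helper28.FibBC
open TensorProduct RingTheory.Sequence
open scoped Pointwise

section General

variable {S : Type u} [CommRing S] (I : Ideal S) {P : Type v} [AddCommGroup P] [Module S P]

/-- The kernel of a base change map to `S ⧸ I` is `I • ⊤`. -/
theorem eq_zero_iff_mem_smul_top_of_isBaseChange {N : Type w} [AddCommGroup N] [Module S N]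
    [Module (S ⧸ I) N] [IsScalarTower S (S ⧸ I) N]
    {f : P →ₗ[S] N} (hf : IsBaseChange (S ⧸ I) f) (n : P) :
    f n = 0 ↔ n ∈ (I • ⊤ : Submodule S P) := by
  have h1 : f n = hf.equiv (1 ⊗ₜ n) := by rw [hf.equiv_tmul, one_smul]
  rw [h1, LinearEquiv.map_eq_zero_iff,
    ← LinearEquiv.map_eq_zero_iff (quotTensorEquivQuotSMul P I),
    quotTensorEquivQuotSMul_mk_one_tmul, Submodule.Quotient.mk_eq_zero]

/-- `P → P / I P` is a base change to `S / I`. -/
theorem isBaseChange_mkQ : IsBaseChange (S ⧸ I) ((I • ⊤ : Submodule S P).mkQ) := by
  refine IsBaseChange.of_equiv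
    ((quotTensorEquivQuotSMul P I).extendScalarsOfSurjective Ideal.Quotient.mk_surjective) ?_
  intro x
  rw [LinearEquiv.extendScalarsOfSurjective_apply, quotTensorEquivQuotSMul_mk_one_tmul]
  rfl

end General

section QuotBC

variable {R : Type u} {S : Type v} [CommRing R] [CommRing S] [Algebra R S]
  {M : Type w} {N : Type*} [AddCommGroup M] [Module R M] [AddCommGroup N] [Module R N]
  [Module S N] [IsScalarTower R S N]

/-- Base change commutes with `QuotSMulTop`. -/
theorem exists_isBaseChange_quotSMulTop {f : M →ₗ[R] N} (hf : IsBaseChange S f) (x : R) :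
    ∃ g : QuotSMulTop x M →ₗ[R] QuotSMulTop (algebraMap R S x) N, IsBaseChange S g := by
  have e := (QuotSMulTop.algebraMapTensorEquivTensorQuotSMulTop x M S).symm ≪≫ₗ
    QuotSMulTop.congr ((algebraMap R S) x) hf.equiv
  have hg : IsBaseChange S <|
      e.toLinearMap.restrictScalars R ∘ₗ TensorProduct.mk R S (QuotSMulTop x M) 1 :=
    IsBaseChange.of_equiv e (fun _ ↦ by simp)
  exact ⟨_, hg⟩

end QuotBC

section Local

variable {A B : Type u} [CommRing A] [CommRing B] [IsNoetherianRing B] [Algebra A B]
  (q : Ideal B) [q.IsPrime]
  (P : Type u) [AddCommGroup P] [Module (Localization.AtPrime q) P] [Module A P]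
  [IsScalarTower A (Localization.AtPrime q) P] [Module.Finite (Localization.AtPrime q) P]
  [Module.Flat A P]

/-- Stacks 00ME for `A_p → B_q`: an element of `B_q` which is regular on the fibre `P / p P` of a
finite `B_q`-module `P` flat over `A` is regular on `P`, with `A`-flat quotient. -/
theorem isSMulRegular_and_flat_of_fibre_regular (x : Localization.AtPrime q)
    (h : ∀ n : P, x • n ∈ ((q.comap (algebraMap A B)) • ⊤ : Submodule A P) →
      n ∈ ((q.comap (algebraMap A B)) • ⊤ : Submodule A P)) :
    IsSMulRegular P x ∧ Module.Flat A (QuotSMulTop x P) := by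
  set p : Ideal A := q.comap (algebraMap A B) with hp
  have hlies : q.LiesOver p := ⟨rfl⟩
  let alg := Localization.AtPrime.algebraOfLiesOver p q
  have hloc : IsLocalHom (algebraMap (Localization.AtPrime p) (Localization.AtPrime q)) := by
    rw [RingHom.algebraMap_toAlgebra]
    exact Localization.isLocalHom_localRingHom p q (algebraMap A B) Ideal.LiesOver.over
  let mod : Module (Localization.AtPrime p) P :=
    Module.compHom _ (algebraMap (Localization.AtPrime p) (Localization.AtPrime q))
  have t1 : IsScalarTower (Localization.AtPrime p) (Localization.AtPrime q) P :=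
    ⟨fun a b x => by
      change (a • b) • x = algebraMap _ (Localization.AtPrime q) a • (b • x)
      rw [Algebra.smul_def, mul_smul]⟩
  have t2 : IsScalarTower A (Localization.AtPrime p) P :=
    IsScalarTower.of_algebraMap_smul fun r x => by
      change algebraMap (Localization.AtPrime p) (Localization.AtPrime q) (algebraMap A _ r) • x
        = r • x
      rw [← IsScalarTower.algebraMap_apply, algebraMap_smul]
  have hflat : Module.Flat (Localization.AtPrime p) P :=
    (Module.flat_iff_of_isLocalization (Localization.AtPrime p) p.primeCompl _).mpr inferInstance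
  let u : P →ₗ[Localization.AtPrime p] P :=
    (LinearMap.lsmul (Localization.AtPrime q) P x).restrictScalars (Localization.AtPrime p)
  have hu : Function.Injective
      (u.lTensor (Localization.AtPrime p ⧸ IsLocalRing.maximalIdeal (Localization.AtPrime p))) := by
    rw [Groth.Agent.Lib.Helper5.lTensor_quotient_injective_iff]
    intro n hn
    rw [← Localization.AtPrime.map_eq_maximalIdeal,
      mem_map_smul_top_iff (S := Localization.AtPrime p) p] at hn ⊢
    exact h n hn
  have hall := Groth.Agent.Lib.Helper5.lTensor_quotient_injective_of_residue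
    (Localization.AtPrime q) u hu
  have hinj := (Groth.Agent.Lib.Helper5.injective_and_flat_of_lTensor_residue_injective
    (Localization.AtPrime q) u hu).1
  refine ⟨fun a b hab => hinj hab, ?_⟩
  let π : P →ₗ[Localization.AtPrime p] QuotSMulTop x P :=
    (Submodule.mkQ (x • (⊤ : Submodule (Localization.AtPrime q) P))).restrictScalars
      (Localization.AtPrime p)
  have hπ : Function.Surjective π := fun y => by
    obtain ⟨z, rfl⟩ := Submodule.Quotient.mk_surjective _ y
    exact ⟨z, rfl⟩
  have hex : Function.Exact u π := by
    intro y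
    change Submodule.Quotient.mk y = 0 ↔ _
    rw [Submodule.Quotient.mk_eq_zero, Submodule.mem_smul_pointwise_iff_exists]
    constructor
    · rintro ⟨z, -, hz⟩
      exact ⟨z, hz⟩
    · rintro ⟨z, hz⟩
      exact ⟨z, Submodule.mem_top, hz⟩
  have hQ : Module.Flat (Localization.AtPrime p) (QuotSMulTop x P) :=
    Groth.Agent.Lib.Helper5.flat_of_exact_of_lTensor_quotient_injective u π hπ hex hall
  have t3 : IsScalarTower A (Localization.AtPrime p) (QuotSMulTop x P) :=
    IsScalarTower.of_algebraMap_smul fun r y => by
      obtain ⟨y, rfl⟩ := Submodule.Quotient.mk_surjective _ y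
      rw [← Submodule.Quotient.mk_smul, ← Submodule.Quotient.mk_smul, algebraMap_smul]
  exact (Module.flat_iff_of_isLocalization (Localization.AtPrime p) p.primeCompl _).mp hQ

end Local

end Groth.Agent.Lib.Helper28.FibBC
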