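import Groth.Agent.Lib.Helper28FibBC1

/-!
# Base change of fibre depth, part 2 (helper28): fibre-regular elements stay regular after base change
-/

set_option autoImplicit false
universe u v w

namespace Groth.Agent.Lib.Helper28.FibBC
open TensorProduct RingTheory.Sequence
open scoped Pointwise

section Step

variable {A B : Type u} [CommRing A] [CommRing B] [IsNoetherianRing B] [Algebra A B]
  (A' : Type u) {B' : Type u} [CommRing A'] [CommRing B'] [Algebra A A'] [Algebra B B']
  [Algebra A' B']
  [Algebra A B'] [IsScalarTower A B B'] [IsScalarTower A A' B'] [hpo : Algebra.IsPushout A B A' B']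
  (q' : Ideal B') [q'.IsPrime] (q : Ideal B) [q.IsPrime]
  [Algebra (Localization.AtPrime q) (Localization.AtPrime q')]
  [IsScalarTower B (Localization.AtPrime q) (Localization.AtPrime q')]
  (P : Type u) [AddCommGroup P] [Module (Localization.AtPrime q) P] [Module A P]
  [IsScalarTower A (Localization.AtPrime q) P] [Module.Finite (Localization.AtPrime q) P]
  [Module.Flat A P]

include q' hpo in
/-- An element `b` of `B` which is regular on the fibre `P / p P` of a finite `B_q`-module `P`
flat over `A` is regular on the base change of `P` to `B'_{q'}`. -/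
theorem isSMulRegular_baseChange_of_fibre_regular (b : B)
    (h : ∀ n : P, (algebraMap B (Localization.AtPrime q) b) • n ∈
        ((q.comap (algebraMap A B)) • ⊤ : Submodule A P) →
      n ∈ ((q.comap (algebraMap A B)) • ⊤ : Submodule A P))
    {N₂ : Type u} [AddCommGroup N₂] [Module (Localization.AtPrime q) N₂]
    [Module (Localization.AtPrime q') N₂]
    [IsScalarTower (Localization.AtPrime q) (Localization.AtPrime q') N₂]
    {f₂ : P →ₗ[Localization.AtPrime q] N₂} (h₂ : IsBaseChange (Localization.AtPrime q') f₂) :
    IsSMulRegular N₂ (algebraMap B (Localization.AtPrime q') b) := by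
  obtain ⟨hreg, hflat⟩ := isSMulRegular_and_flat_of_fibre_regular q P
    (algebraMap B (Localization.AtPrime q) b) h
  letI : Module B P := Module.compHom P (algebraMap B (Localization.AtPrime q))
  haveI : IsScalarTower B (Localization.AtPrime q) P :=
    IsScalarTower.of_algebraMap_smul fun r x => rfl
  haveI : IsScalarTower A B P := IsScalarTower.of_algebraMap_smul fun a x => by
    change algebraMap B (Localization.AtPrime q) (algebraMap A B a) • x = a • x
    rw [← IsScalarTower.algebraMap_apply, algebraMap_smul]
  -- multiplication by `b` on `P`, as an `A`-linear map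
  let g : P →ₗ[A] P := (LinearMap.lsmul B P b).restrictScalars A
  let π : P →ₗ[A] QuotSMulTop (algebraMap B (Localization.AtPrime q) b) P :=
    (Submodule.mkQ (algebraMap B (Localization.AtPrime q) b •
      (⊤ : Submodule (Localization.AtPrime q) P))).restrictScalars A
  have hπ : Function.Surjective π := fun y => by
    obtain ⟨z, rfl⟩ := Submodule.Quotient.mk_surjective _ y
    exact ⟨z, rfl⟩
  have hg : Function.Injective g := fun a c hac => hreg hac
  have hex : Function.Exact g π := by
    intro y
    change Submodule.Quotient.mk y = 0 ↔ _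
    rw [Submodule.Quotient.mk_eq_zero, Submodule.mem_smul_pointwise_iff_exists]
    constructor
    · rintro ⟨z, -, hz⟩
      exact ⟨z, hz⟩
    · rintro ⟨z, hz⟩
      exact ⟨z, Submodule.mem_top, hz⟩
  have hgT : Function.Injective (g.lTensor A') :=
    LinearMap.lTensor_injective_of_exact_of_flat π hπ g hg hex A'
  haveI : Algebra.IsPushout A A' B B' := Algebra.IsPushout.symm inferInstance
  let e := Algebra.IsPushout.cancelBaseChange A A' B B' P
  have hcomm : ∀ z : A' ⊗[A] P, e.symm (g.lTensor A' z) = b • e.symm z := by
    intro z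
    induction z with
    | zero => simp
    | add x y hx hy => simp only [map_add, smul_add, hx, hy]
    | tmul a' m =>
      rw [LinearMap.lTensor_tmul, Algebra.IsPushout.cancelBaseChange_symm_tmul,
        Algebra.IsPushout.cancelBaseChange_symm_tmul]
      change algebraMap A' B' a' ⊗ₜ[B] (b • m) = _
      rw [TensorProduct.tmul_smul]
  have hY : IsSMulRegular (B' ⊗[B] P) (algebraMap B B' b) := by
    intro y₁ y₂ hy
    simp only [algebraMap_smul] at hy
    obtain ⟨z₁, rfl⟩ := e.symm.surjective y₁
    obtain ⟨z₂, rfl⟩ := e.symm.surjective y₂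
    rw [← hcomm, ← hcomm] at hy
    rw [hgT (e.symm.injective hy)]
  -- localize at `q'`
  have hYq : IsSMulRegular (LocalizedModule q'.primeCompl (B' ⊗[B] P))
      (algebraMap B' (Localization.AtPrime q') (algebraMap B B' b)) :=
    IsSMulRegular.of_flat_of_isBaseChange
      (IsLocalizedModule.isBaseChange q'.primeCompl (Localization.AtPrime q')
        (LocalizedModule.mkLinearMap q'.primeCompl (B' ⊗[B] P))) hY
  -- identify with `N₂`
  have hb1 := IsBaseChange.comp (TensorProduct.isBaseChange B P B')
    (IsLocalizedModule.isBaseChange q'.primeCompl (Localization.AtPrime q')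
        (LocalizedModule.mkLinearMap q'.primeCompl (B' ⊗[B] P)))
  have hid : IsBaseChange (Localization.AtPrime q) (LinearMap.id : P →ₗ[B] P) := by
    haveI := isLocalizedModule_id q.primeCompl P (Localization.AtPrime q)
    exact IsLocalizedModule.isBaseChange q.primeCompl (Localization.AtPrime q) LinearMap.id
  letI : Module B N₂ := Module.compHom N₂ (algebraMap B (Localization.AtPrime q))
  haveI : IsScalarTower B (Localization.AtPrime q) N₂ :=
    IsScalarTower.of_algebraMap_smul fun r x => rfl
  haveI : IsScalarTower B (Localization.AtPrime q') N₂ :=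
    IsScalarTower.of_algebraMap_smul fun r x => by
      change _ = algebraMap B (Localization.AtPrime q) r • x
      rw [IsScalarTower.algebraMap_apply B (Localization.AtPrime q) (Localization.AtPrime q'),
        algebraMap_smul]
  have hb2 := IsBaseChange.comp hid h₂
  let e2 : N₂ ≃ₗ[Localization.AtPrime q'] LocalizedModule q'.primeCompl (B' ⊗[B] P) :=
    hb2.equiv.symm ≪≫ₗ hb1.equiv
  intro n₁ n₂ hn
  apply e2.injective
  apply hYq
  change algebraMap B' (Localization.AtPrime q') (algebraMap B B' b) • e2 n₁ =
    algebraMap B' (Localization.AtPrime q') (algebraMap B B' b) • e2 n₂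
  rw [← IsScalarTower.algebraMap_apply, ← map_smul, ← map_smul]
  exact congrArg e2 hn

omit [Module.Finite (Localization.AtPrime q) P] [Module.Flat A P] in
/-- Regularity on a base change to the fibre ring, in elementwise form. -/
theorem mem_smul_top_of_smul_mem_of_isSMulRegular (x : Localization.AtPrime q)
    {N₁ : Type u} [AddCommGroup N₁] [Module (Localization.AtPrime q) N₁]
    [Module (EGA4.FibLocRing A B q) N₁]
    [IsScalarTower (Localization.AtPrime q) (EGA4.FibLocRing A B q) N₁]
    {f₁ : P →ₗ[Localization.AtPrime q] N₁} (h₁ : IsBaseChange (EGA4.FibLocRing A B q) f₁)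
    (hx : IsSMulRegular N₁ (algebraMap (Localization.AtPrime q) (EGA4.FibLocRing A B q) x))
    (n : P) (hn : x • n ∈ ((q.comap (algebraMap A B)) • ⊤ : Submodule A P)) :
    n ∈ ((q.comap (algebraMap A B)) • ⊤ : Submodule A P) := by
  rw [← mem_map_smul_top_iff (S := Localization.AtPrime q),
    ← eq_zero_iff_mem_smul_top_of_isBaseChange _ h₁] at hn ⊢
  rw [map_smul] at hn
  apply hx
  change algebraMap (Localization.AtPrime q) (EGA4.FibLocRing A B q) x • f₁ n =
    algebraMap (Localization.AtPrime q) (EGA4.FibLocRing A B q) x • (0 : N₁)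
  rw [smul_zero, algebraMap_smul]
  exact hn

include q' hpo in
/-- Single-element step for elements of `B_q`. -/
theorem isSMulRegular_baseChange_of_fibre_regular' (x : Localization.AtPrime q)
    {N₁ : Type u} [AddCommGroup N₁] [Module (Localization.AtPrime q) N₁]
    [Module (EGA4.FibLocRing A B q) N₁]
    [IsScalarTower (Localization.AtPrime q) (EGA4.FibLocRing A B q) N₁]
    {f₁ : P →ₗ[Localization.AtPrime q] N₁} (h₁ : IsBaseChange (EGA4.FibLocRing A B q) f₁)
    (hx : IsSMulRegular N₁ (algebraMap (Localization.AtPrime q) (EGA4.FibLocRing A B q) x))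
    {N₂ : Type u} [AddCommGroup N₂] [Module (Localization.AtPrime q) N₂]
    [Module (Localization.AtPrime q') N₂]
    [IsScalarTower (Localization.AtPrime q) (Localization.AtPrime q') N₂]
    {f₂ : P →ₗ[Localization.AtPrime q] N₂} (h₂ : IsBaseChange (Localization.AtPrime q') f₂) :
    IsSMulRegular N₂ (algebraMap (Localization.AtPrime q) (Localization.AtPrime q') x) := by
  obtain ⟨b, s, hbs⟩ := IsLocalization.exists_mk'_eq q.primeCompl x
  have hxs : x * algebraMap B (Localization.AtPrime q) s = algebraMap B (Localization.AtPrime q) b := by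
    rw [← hbs, IsLocalization.mk'_spec]
  have hsu : IsUnit (algebraMap B (Localization.AtPrime q) s) :=
    IsLocalization.map_units (Localization.AtPrime q) s
  have hb : ∀ n : P, (algebraMap B (Localization.AtPrime q) b) • n ∈
        ((q.comap (algebraMap A B)) • ⊤ : Submodule A P) →
      n ∈ ((q.comap (algebraMap A B)) • ⊤ : Submodule A P) := by
    intro n hn
    rw [← mem_map_smul_top_iff (S := Localization.AtPrime q),
      ← eq_zero_iff_mem_smul_top_of_isBaseChange _ h₁] at hn ⊢
    rw [map_smul, ← hxs, mul_smul] at hn
    have h0 : algebraMap B (Localization.AtPrime q) s • f₁ n = 0 := by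
      apply hx
      change algebraMap (Localization.AtPrime q) (EGA4.FibLocRing A B q) x •
        (algebraMap B (Localization.AtPrime q) s • f₁ n) =
        algebraMap (Localization.AtPrime q) (EGA4.FibLocRing A B q) x • (0 : N₁)
      rw [smul_zero, algebraMap_smul]
      exact hn
    obtain ⟨u, hu⟩ := hsu
    rw [← hu] at h0
    have := congrArg (fun y => (↑u⁻¹ : Localization.AtPrime q) • y) h0
    simpa [smul_smul] using this
  have hreg := isSMulRegular_baseChange_of_fibre_regular A' q' q P b hb h₂
  have heq : algebraMap B (Localization.AtPrime q') b =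
      algebraMap (Localization.AtPrime q) (Localization.AtPrime q')
        (algebraMap B (Localization.AtPrime q) s) *
      algebraMap (Localization.AtPrime q) (Localization.AtPrime q') x := by
    rw [← map_mul, mul_comm, hxs, ← IsScalarTower.algebraMap_apply]
  rw [heq] at hreg
  exact hreg.of_mul

end Step

section Induction

variable {A B : Type u} [CommRing A] [CommRing B] [IsNoetherianRing B] [Algebra A B]
  (A' : Type u) {B' : Type u} [CommRing A'] [CommRing B'] [Algebra A A'] [Algebra B B']
  [Algebra A' B']
  [Algebra A B'] [IsScalarTower A B B'] [IsScalarTower A A' B'] [hpo : Algebra.IsPushout A B A' B']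
  (q' : Ideal B') [q'.IsPrime] (q : Ideal B) [q.IsPrime]
  [Algebra (Localization.AtPrime q) (Localization.AtPrime q')]
  [IsScalarTower B (Localization.AtPrime q) (Localization.AtPrime q')]

include q' hpo in
/-- A sequence in `B_q` which is weakly regular on the fibre `P / p P` of a finite `B_q`-module
`P` flat over `A` is weakly regular on the base change of `P` to `B'_{q'}`. -/
theorem isWeaklyRegular_baseChange_of_fibre (xs : List (Localization.AtPrime q)) :
    ∀ (P : Type u) [AddCommGroup P] [Module (Localization.AtPrime q) P] [Module A P]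
      [IsScalarTower A (Localization.AtPrime q) P] [Module.Finite (Localization.AtPrime q) P]
      [Module.Flat A P]
      (N₁ : Type u) [AddCommGroup N₁] [Module (Localization.AtPrime q) N₁]
      [Module (EGA4.FibLocRing A B q) N₁]
      [IsScalarTower (Localization.AtPrime q) (EGA4.FibLocRing A B q) N₁]
      (f₁ : P →ₗ[Localization.AtPrime q] N₁) (_ : IsBaseChange (EGA4.FibLocRing A B q) f₁)
      (N₂ : Type u) [AddCommGroup N₂] [Module (Localization.AtPrime q) N₂]
      [Module (Localization.AtPrime q') N₂]
      [IsScalarTower (Localization.AtPrime q) (Localization.AtPrime q') N₂]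
      (f₂ : P →ₗ[Localization.AtPrime q] N₂) (_ : IsBaseChange (Localization.AtPrime q') f₂),
      IsWeaklyRegular N₁ (xs.map (algebraMap (Localization.AtPrime q) (EGA4.FibLocRing A B q))) →
      IsWeaklyRegular N₂
        (xs.map (algebraMap (Localization.AtPrime q) (Localization.AtPrime q'))) := by
  induction xs with
  | nil =>
    intro P _ _ _ _ _ _ N₁ _ _ _ _ f₁ h₁ N₂ _ _ _ _ f₂ h₂ _
    simp
  | cons x xs ih =>
    intro P _ _ _ _ _ _ N₁ _ _ _ _ f₁ h₁ N₂ _ _ _ _ f₂ h₂ hreg
    simp only [List.map_cons, isWeaklyRegular_cons_iff] at hreg ⊢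
    have hx2 := isSMulRegular_baseChange_of_fibre_regular' A' q' q P x h₁ hreg.1 h₂
    refine ⟨hx2, ?_⟩
    obtain ⟨g₁, hg₁⟩ := exists_isBaseChange_quotSMulTop h₁ x
    obtain ⟨g₂, hg₂⟩ := exists_isBaseChange_quotSMulTop h₂ x
    have hfib := mem_smul_top_of_smul_mem_of_isSMulRegular q P x h₁ hreg.1
    haveI : Module.Flat A (QuotSMulTop x P) :=
      (isSMulRegular_and_flat_of_fibre_regular q P x hfib).2
    exact ih (QuotSMulTop x P) _ g₁ hg₁ _ g₂ hg₂ hreg.2

end Induction

end Groth.Agent.Lib.Helper28.FibBC
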