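import Groth.Agent.Lib.Helper28FibBC2

/-!
# Base change of fibre depth, part 3 (helper28): depth of the stalks of a base change
-/

set_option autoImplicit false
universe u v w

namespace Groth.Agent.Lib.Helper28.FibBC
open TensorProduct RingTheory.Sequence
open scoped Pointwise

section Top

variable {A B : Type u} [CommRing A] [CommRing B] [IsNoetherianRing B] [Algebra A B]
  (A' : Type u) {B' : Type u} [CommRing A'] [CommRing B'] [Algebra A A'] [Algebra B B']
  [Algebra A' B']
  [Algebra A B'] [IsScalarTower A B B'] [IsScalarTower A A' B'] [hpo : Algebra.IsPushout A B A' B']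
  (q' : Ideal B') [q'.IsPrime] (q : Ideal B) [q.IsPrime] [hlies : q'.LiesOver q]
  (M : Type u) [AddCommGroup M] [Module B M] [Module A M] [IsScalarTower A B M]
  [Module.Finite B M]

include hpo hlies in
/-- Fibre depth at `q` bounds the depth of the stalk at `q'` of the base change, for a module
whose stalk at `q` is flat over `A`. -/
theorem natCast_le_depth_localization_baseChange
    (hflat : Module.Flat A (LocalizedModule q.primeCompl M)) (n : ℕ)
    (h : (n : ℕ∞) ≤ LocCoh.idealDepth (q.map (algebraMap B (EGA4.FibLocRing A B q)))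
      (EGA4.FibLocMod A B q M)) :
    (n : ℕ∞) ≤ LocCoh.depth (Localization.AtPrime q')
      (LocalizedModule q'.primeCompl (B' ⊗[B] M)) := by
  letI alg := Localization.AtPrime.algebraOfLiesOver q q'
  have hloc : IsLocalHom (algebraMap (Localization.AtPrime q) (Localization.AtPrime q')) := by
    rw [RingHom.algebraMap_toAlgebra]
    exact Localization.isLocalHom_localRingHom q q' (algebraMap B B') Ideal.LiesOver.over
  haveI : IsScalarTower B (Localization.AtPrime q) (Localization.AtPrime q') := inferInstance
  -- the base change of `M_q` to the fibre ring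
  have h₁ : IsBaseChange (EGA4.FibLocRing A B q)
      ((((q.comap (algebraMap A B)).map (algebraMap A (Localization.AtPrime q))) •
        (⊤ : Submodule (Localization.AtPrime q) (LocalizedModule q.primeCompl M))).mkQ) :=
    isBaseChange_mkQ _
  -- the stalk of the base change, as a `B_q`-module
  letI : Module (Localization.AtPrime q) (LocalizedModule q'.primeCompl (B' ⊗[B] M)) :=
    Module.compHom _ (algebraMap (Localization.AtPrime q) (Localization.AtPrime q'))
  haveI : IsScalarTower (Localization.AtPrime q) (Localization.AtPrime q')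
      (LocalizedModule q'.primeCompl (B' ⊗[B] M)) :=
    IsScalarTower.of_algebraMap_smul fun r x => rfl
  haveI : IsScalarTower B (Localization.AtPrime q)
      (LocalizedModule q'.primeCompl (B' ⊗[B] M)) :=
    IsScalarTower.of_algebraMap_smul fun r x => by
      change algebraMap (Localization.AtPrime q) (Localization.AtPrime q')
        (algebraMap B (Localization.AtPrime q) r) • x = r • x
      rw [← IsScalarTower.algebraMap_apply, algebraMap_smul]
  have hf : IsBaseChange (Localization.AtPrime q) (LocalizedModule.mkLinearMap q.primeCompl M) :=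
    IsLocalizedModule.isBaseChange q.primeCompl (Localization.AtPrime q) _
  have hφ := IsBaseChange.comp (TensorProduct.isBaseChange B M B')
    (IsLocalizedModule.isBaseChange q'.primeCompl (Localization.AtPrime q')
        (LocalizedModule.mkLinearMap q'.primeCompl (B' ⊗[B] M)))
  set φ : M →ₗ[B] LocalizedModule q'.primeCompl (B' ⊗[B] M) :=
    ((LocalizedModule.mkLinearMap q'.primeCompl (B' ⊗[B] M)).restrictScalars B) ∘ₗ
      (TensorProduct.mk B B' M 1) with hφdef
  let f₂ : LocalizedModule q.primeCompl M →ₗ[Localization.AtPrime q]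
      LocalizedModule q'.primeCompl (B' ⊗[B] M) := hf.lift φ
  have h₂ : IsBaseChange (Localization.AtPrime q') f₂ := by
    apply IsBaseChange.of_comp hf
    have : (f₂.restrictScalars B) ∘ₗ (LocalizedModule.mkLinearMap q.primeCompl M) = φ :=
      hf.lift_comp φ
    rw [this]
    exact hφ
  -- extract a weakly regular sequence on the fibre
  haveI hfin : Module.Finite (EGA4.FibLocRing A B q) (EGA4.FibLocMod A B q M) :=
    Module.Finite.of_restrictScalars_finite (Localization.AtPrime q) _ _
  obtain ⟨rs, hlen, hmem, hreg⟩ := exists_isWeaklyRegular_of_natCast_le_idealDepth _ n h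
  obtain ⟨xs, rfl⟩ := (List.map_surjective_iff.mpr
    (Ideal.Quotient.mk_surjective (I := (q.comap (algebraMap A B)).map
      (algebraMap A (Localization.AtPrime q))))) rs
  have hG := isWeaklyRegular_baseChange_of_fibre A' q' q xs (LocalizedModule q.primeCompl M)
    (EGA4.FibLocMod A B q M) _ h₁ (LocalizedModule q'.primeCompl (B' ⊗[B] M)) f₂ h₂ hreg
  have hmem' : ∀ y ∈ xs.map (algebraMap (Localization.AtPrime q) (Localization.AtPrime q')),
      y ∈ IsLocalRing.maximalIdeal (Localization.AtPrime q') := by
    intro y hy
    obtain ⟨x, hx, rfl⟩ := List.mem_map.mp hy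
    have h1 : Ideal.Quotient.mk _ x ∈ q.map (algebraMap B (EGA4.FibLocRing A B q)) :=
      hmem _ (List.mem_map.mpr ⟨x, hx, rfl⟩)
    have hx' : x ∈ IsLocalRing.maximalIdeal (Localization.AtPrime q) := by
      rw [← Localization.AtPrime.map_eq_maximalIdeal]
      have hIle : (q.comap (algebraMap A B)).map (algebraMap A (Localization.AtPrime q)) ≤
          q.map (algebraMap B (Localization.AtPrime q)) := by
        rw [Ideal.map_le_iff_le_comap]
        intro a ha
        rw [Ideal.mem_comap, IsScalarTower.algebraMap_apply A B (Localization.AtPrime q)]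
        exact Ideal.mem_map_of_mem _ ha
      rw [IsScalarTower.algebraMap_eq B (Localization.AtPrime q) (EGA4.FibLocRing A B q),
        ← Ideal.map_map, Ideal.Quotient.algebraMap_eq] at h1
      obtain ⟨y, hy, hyx⟩ :=
        (Ideal.mem_map_iff_of_surjective _ Ideal.Quotient.mk_surjective).mp h1
      have h2 : x - y ∈ (q.comap (algebraMap A B)).map (algebraMap A (Localization.AtPrime q)) := by
        rw [← Ideal.Quotient.eq]
        exact hyx.symm
      have h3 := Ideal.add_mem _ (hIle h2) hy
      rwa [sub_add_cancel] at h3
    rw [IsLocalRing.mem_maximalIdeal, mem_nonunits_iff]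
    intro hu
    exact (IsLocalRing.mem_maximalIdeal _).mp hx' (isUnit_of_map_unit _ x hu)
  have := length_le_idealDepth hG hmem'
  rw [List.length_map] at hlen
  rw [List.length_map, hlen] at this
  exact this

end Top

section Global

variable {A B : Type u} [CommRing A] [CommRing B] [IsNoetherianRing B] [Algebra A B]
  (A' : Type u) {B' : Type u} [CommRing A'] [CommRing B'] [IsNoetherianRing B']
  [Algebra A A'] [Algebra B B'] [Algebra A' B']
  [Algebra A B'] [IsScalarTower A B B'] [IsScalarTower A A' B'] [hpo : Algebra.IsPushout A B A' B']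
  (M : Type u) [AddCommGroup M] [Module B M] [Module A M] [IsScalarTower A B M]
  [Module.Finite B M] [Module.Flat A M]

include hpo in
/-- Fibrewise depth `≥ n` along `V(J)` of an `A`-flat finite `B`-module gives
`depth_{JB'} (B' ⊗_B M) ≥ n` for the pushout `B' = A' ⊗_A B`. -/
theorem natCast_le_idealDepth_baseChange (J : Ideal B) (n : ℕ)
    (h : ∀ q : PrimeSpectrum B, J ≤ q.asIdeal →
      (n : ℕ∞) ≤ LocCoh.idealDepth (q.asIdeal.map (algebraMap B (EGA4.FibLocRing A B q.asIdeal)))
        (EGA4.FibLocMod A B q.asIdeal M)) :
    (n : ℕ∞) ≤ LocCoh.idealDepth (J.map (algebraMap B B')) (B' ⊗[B] M) := by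
  rw [idealDepth_eq_iInf_depth_localization]
  refine le_iInf₂ fun q' hq' => ?_
  haveI : (q'.asIdeal.comap (algebraMap B B')).IsPrime := Ideal.comap_isPrime _ _
  haveI : q'.asIdeal.LiesOver (q'.asIdeal.comap (algebraMap B B')) := ⟨rfl⟩
  have hJq : J ≤ q'.asIdeal.comap (algebraMap B B') :=
    fun x hx => hq' (Ideal.mem_map_of_mem _ hx)
  exact natCast_le_depth_localization_baseChange A' q'.asIdeal
    (q'.asIdeal.comap (algebraMap B B')) M
    (flat_localizedModule_of_flat _) n
    (h ⟨q'.asIdeal.comap (algebraMap B B'), inferInstance⟩ hJq)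

end Global

end Groth.Agent.Lib.Helper28.FibBC
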