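import Groth.Agent.Lib.Helper28FibBC3

/-!
# Base change of fibre depth, part 4 (helper28): quotients of the base change by an ideal of `A'`
-/

set_option autoImplicit false
universe u v w

namespace Groth.Agent.Lib.Helper28.FibBC
open TensorProduct RingTheory.Sequence
open scoped Pointwise

section FlatBC

variable {A B : Type u} [CommRing A] [CommRing B] [Algebra A B]
  (A' : Type u) {B' : Type u} [CommRing A'] [CommRing B'] [Algebra A A'] [Algebra B B']
  [Algebra A' B']
  [Algebra A B'] [IsScalarTower A B B'] [IsScalarTower A A' B'] [hpo : Algebra.IsPushout A B A' B']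
  (q' : Ideal B') [q'.IsPrime] (q : Ideal B) [q.IsPrime]
  [Algebra (Localization.AtPrime q) (Localization.AtPrime q')]
  [IsScalarTower B (Localization.AtPrime q) (Localization.AtPrime q')]
  (P : Type u) [AddCommGroup P] [Module (Localization.AtPrime q) P] [Module A P]
  [IsScalarTower A (Localization.AtPrime q) P] [Module.Flat A P]

include hpo in
/-- The base change to `B'_{q'}` of an `A`-flat `B_q`-module is `A'`-flat. -/
theorem flat_baseChange_localization :
    Module.Flat A' (Localization.AtPrime q' ⊗[Localization.AtPrime q] P) := by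
  letI : Module B P := Module.compHom P (algebraMap B (Localization.AtPrime q))
  haveI : IsScalarTower B (Localization.AtPrime q) P :=
    IsScalarTower.of_algebraMap_smul fun r x => rfl
  haveI : IsScalarTower A B P := IsScalarTower.of_algebraMap_smul fun a x => by
    change algebraMap B (Localization.AtPrime q) (algebraMap A B a) • x = a • x
    rw [← IsScalarTower.algebraMap_apply, algebraMap_smul]
  haveI : Algebra.IsPushout A A' B B' := Algebra.IsPushout.symm inferInstance
  let e := Algebra.IsPushout.cancelBaseChange A A' B B' P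
  haveI : Module.Flat A' (B' ⊗[B] P) := Module.Flat.of_linearEquiv e
  haveI : Module.Flat A' (LocalizedModule q'.primeCompl (B' ⊗[B] P)) :=
    flat_localizedModule_of_flat _
  have hb1 := IsBaseChange.comp (TensorProduct.isBaseChange B P B')
    (IsLocalizedModule.isBaseChange q'.primeCompl (Localization.AtPrime q')
        (LocalizedModule.mkLinearMap q'.primeCompl (B' ⊗[B] P)))
  have hid : IsBaseChange (Localization.AtPrime q) (LinearMap.id : P →ₗ[B] P) := by
    haveI := isLocalizedModule_id q.primeCompl P (Localization.AtPrime q)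
    exact IsLocalizedModule.isBaseChange q.primeCompl (Localization.AtPrime q) LinearMap.id
  have hb2 := IsBaseChange.comp hid
    (TensorProduct.isBaseChange (Localization.AtPrime q) P (Localization.AtPrime q'))
  let e2 : (Localization.AtPrime q' ⊗[Localization.AtPrime q] P) ≃ₗ[Localization.AtPrime q']
      LocalizedModule q'.primeCompl (B' ⊗[B] P) := hb2.equiv.symm ≪≫ₗ hb1.equiv
  exact Module.Flat.of_linearEquiv (e2.restrictScalars A')

end FlatBC

section StepQuot

variable {A B : Type u} [CommRing A] [CommRing B] [IsNoetherianRing B] [Algebra A B]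
  (A' : Type u) {B' : Type u} [CommRing A'] [CommRing B'] [Algebra A A'] [Algebra B B']
  [Algebra A' B']
  [Algebra A B'] [IsScalarTower A B B'] [IsScalarTower A A' B'] [hpo : Algebra.IsPushout A B A' B']
  (q' : Ideal B') [q'.IsPrime] (q : Ideal B) [q.IsPrime]
  [Algebra (Localization.AtPrime q) (Localization.AtPrime q')]
  [IsScalarTower B (Localization.AtPrime q) (Localization.AtPrime q')]
  (P : Type u) [AddCommGroup P] [Module (Localization.AtPrime q) P] [Module A P]
  [IsScalarTower A (Localization.AtPrime q) P] [Module.Finite (Localization.AtPrime q) P]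
  [Module.Flat A P]

include q' hpo in
/-- Elementwise-hypothesis version of the single-element step. -/
theorem isSMulRegular_baseChange_of_fibre_regular'' (x : Localization.AtPrime q)
    (hx : ∀ n : P, x • n ∈ ((q.comap (algebraMap A B)) • ⊤ : Submodule A P) →
      n ∈ ((q.comap (algebraMap A B)) • ⊤ : Submodule A P))
    {N₂ : Type u} [AddCommGroup N₂] [Module (Localization.AtPrime q) N₂]
    [Module (Localization.AtPrime q') N₂]
    [IsScalarTower (Localization.AtPrime q) (Localization.AtPrime q') N₂]
    {f₂ : P →ₗ[Localization.AtPrime q] N₂} (h₂ : IsBaseChange (Localization.AtPrime q') f₂) :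
    IsSMulRegular N₂ (algebraMap (Localization.AtPrime q) (Localization.AtPrime q') x) := by
  have h₁ : IsBaseChange (EGA4.FibLocRing A B q)
      ((((q.comap (algebraMap A B)).map (algebraMap A (Localization.AtPrime q))) •
        (⊤ : Submodule (Localization.AtPrime q) P)).mkQ) :=
    isBaseChange_mkQ _
  refine isSMulRegular_baseChange_of_fibre_regular' A' q' q P x h₁ ?_ h₂
  rw [isSMulRegular_iff_right_eq_zero_of_smul]
  intro m hm
  obtain ⟨n, rfl⟩ := Submodule.Quotient.mk_surjective _ m
  rw [algebraMap_smul, ← Submodule.Quotient.mk_smul, Submodule.Quotient.mk_eq_zero,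
    mem_map_smul_top_iff] at hm
  rw [Submodule.Quotient.mk_eq_zero, mem_map_smul_top_iff]
  exact hx n hm

include q' hpo in
/-- Single-element step for the quotient of the base change by an ideal `𝔞` of `A'`. -/
theorem isSMulRegular_baseChange_quot_of_fibre_regular (𝔞 : Ideal A')
    (x : Localization.AtPrime q)
    (hx : ∀ n : P, x • n ∈ ((q.comap (algebraMap A B)) • ⊤ : Submodule A P) →
      n ∈ ((q.comap (algebraMap A B)) • ⊤ : Submodule A P))
    {N : Type u} [AddCommGroup N] [Module (Localization.AtPrime q) N]
    [Module (Localization.AtPrime q' ⧸ 𝔞.map (algebraMap A' (Localization.AtPrime q'))) N]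
    [IsScalarTower (Localization.AtPrime q)
      (Localization.AtPrime q' ⧸ 𝔞.map (algebraMap A' (Localization.AtPrime q'))) N]
    {f : P →ₗ[Localization.AtPrime q] N}
    (hf : IsBaseChange
      (Localization.AtPrime q' ⧸ 𝔞.map (algebraMap A' (Localization.AtPrime q'))) f) :
    IsSMulRegular N (algebraMap (Localization.AtPrime q)
      (Localization.AtPrime q' ⧸ 𝔞.map (algebraMap A' (Localization.AtPrime q'))) x) := by
  obtain ⟨hreg, hflatQ⟩ := isSMulRegular_and_flat_of_fibre_regular q P x hx
  -- the base change to `C = B'_{q'}`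
  have h2 : IsBaseChange (Localization.AtPrime q')
      (TensorProduct.mk (Localization.AtPrime q) (Localization.AtPrime q') P 1) :=
    TensorProduct.isBaseChange (Localization.AtPrime q) P (Localization.AtPrime q')
  have hx2 : IsSMulRegular (Localization.AtPrime q' ⊗[Localization.AtPrime q] P)
      (algebraMap (Localization.AtPrime q) (Localization.AtPrime q') x) :=
    isSMulRegular_baseChange_of_fibre_regular'' A' q' q P x hx h2
  -- flatness of the quotient by `x`
  haveI : Module.Flat A' (Localization.AtPrime q' ⊗[Localization.AtPrime q] QuotSMulTop x P) :=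
    flat_baseChange_localization (A := A) A' q' q (QuotSMulTop x P)
  haveI hflat2 : Module.Flat A' (QuotSMulTop
      (algebraMap (Localization.AtPrime q) (Localization.AtPrime q') x)
      (Localization.AtPrime q' ⊗[Localization.AtPrime q] P)) :=
    Module.Flat.of_linearEquiv
      ((QuotSMulTop.algebraMapTensorEquivTensorQuotSMulTop x P
        (Localization.AtPrime q')).restrictScalars A')
  -- Tor vanishing
  let g : (Localization.AtPrime q' ⊗[Localization.AtPrime q] P) →ₗ[A']
      (Localization.AtPrime q' ⊗[Localization.AtPrime q] P) :=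
    (LinearMap.lsmul (Localization.AtPrime q') _
      (algebraMap (Localization.AtPrime q) (Localization.AtPrime q') x)).restrictScalars A'
  let π : (Localization.AtPrime q' ⊗[Localization.AtPrime q] P) →ₗ[A'] QuotSMulTop
      (algebraMap (Localization.AtPrime q) (Localization.AtPrime q') x)
      (Localization.AtPrime q' ⊗[Localization.AtPrime q] P) :=
    (Submodule.mkQ _).restrictScalars A'
  have hπ : Function.Surjective π := fun y => by
    obtain ⟨z, rfl⟩ := Submodule.Quotient.mk_surjective _ y
    exact ⟨z, rfl⟩
  have hg : Function.Injective g := fun a c hac => hx2 hac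
  have hex : Function.Exact g π := by
    intro y
    change Submodule.Quotient.mk y = 0 ↔ _
    rw [Submodule.Quotient.mk_eq_zero, Submodule.mem_smul_pointwise_iff_exists]
    constructor
    · rintro ⟨z, -, hz⟩
      exact ⟨z, hz⟩
    · rintro ⟨z, hz⟩
      exact ⟨z, Submodule.mem_top, hz⟩
  have hgT : Function.Injective (g.lTensor (A' ⧸ 𝔞)) :=
    LinearMap.lTensor_injective_of_exact_of_flat π hπ g hg hex (A' ⧸ 𝔞)
  rw [Groth.Agent.Lib.Helper5.lTensor_quotient_injective_iff] at hgT
  -- the quotient `N₃` of the base change by `𝔞`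
  have h3 := IsBaseChange.comp h2 (isBaseChange_mkQ
    (𝔞.map (algebraMap A' (Localization.AtPrime q')))
    (P := Localization.AtPrime q' ⊗[Localization.AtPrime q] P))
  let e3 := hf.equiv.symm ≪≫ₗ h3.equiv
  have hreg3 : IsSMulRegular ((Localization.AtPrime q' ⊗[Localization.AtPrime q] P) ⧸
      ((𝔞.map (algebraMap A' (Localization.AtPrime q'))) •
        (⊤ : Submodule (Localization.AtPrime q')
          (Localization.AtPrime q' ⊗[Localization.AtPrime q] P))))
      (algebraMap (Localization.AtPrime q)
        (Localization.AtPrime q' ⧸ 𝔞.map (algebraMap A' (Localization.AtPrime q'))) x) := by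
    rw [isSMulRegular_iff_right_eq_zero_of_smul]
    intro m hm
    obtain ⟨n, rfl⟩ := Submodule.Quotient.mk_surjective _ m
    rw [IsScalarTower.algebraMap_apply (Localization.AtPrime q) (Localization.AtPrime q'),
      algebraMap_smul, ← Submodule.Quotient.mk_smul, Submodule.Quotient.mk_eq_zero,
      mem_map_smul_top_iff] at hm
    rw [Submodule.Quotient.mk_eq_zero, mem_map_smul_top_iff]
    exact hgT n hm
  intro n₁ n₂ hn
  apply e3.injective
  apply hreg3
  change _ • e3 n₁ = _ • e3 n₂
  rw [← map_smul, ← map_smul]
  exact congrArg e3 hn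

end StepQuot

section InductionQuot

variable {A B : Type u} [CommRing A] [CommRing B] [IsNoetherianRing B] [Algebra A B]
  (A' : Type u) {B' : Type u} [CommRing A'] [CommRing B'] [Algebra A A'] [Algebra B B']
  [Algebra A' B']
  [Algebra A B'] [IsScalarTower A B B'] [IsScalarTower A A' B'] [hpo : Algebra.IsPushout A B A' B']
  (q' : Ideal B') [q'.IsPrime] (q : Ideal B) [q.IsPrime]
  [Algebra (Localization.AtPrime q) (Localization.AtPrime q')]
  [IsScalarTower B (Localization.AtPrime q) (Localization.AtPrime q')]

include q' hpo in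
/-- A sequence in `B_q` which is weakly regular on the fibre `P / p P` of a finite `B_q`-module
`P` flat over `A` is weakly regular on the base change of `P` to `B'_{q'} / 𝔞 B'_{q'}`, for any
ideal `𝔞` of `A'`. -/
theorem isWeaklyRegular_baseChange_quot_of_fibre (𝔞 : Ideal A')
    (xs : List (Localization.AtPrime q)) :
    ∀ (P : Type u) [AddCommGroup P] [Module (Localization.AtPrime q) P] [Module A P]
      [IsScalarTower A (Localization.AtPrime q) P] [Module.Finite (Localization.AtPrime q) P]
      [Module.Flat A P]
      (N₁ : Type u) [AddCommGroup N₁] [Module (Localization.AtPrime q) N₁]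
      [Module (EGA4.FibLocRing A B q) N₁]
      [IsScalarTower (Localization.AtPrime q) (EGA4.FibLocRing A B q) N₁]
      (f₁ : P →ₗ[Localization.AtPrime q] N₁) (_ : IsBaseChange (EGA4.FibLocRing A B q) f₁)
      (N : Type u) [AddCommGroup N] [Module (Localization.AtPrime q) N]
      [Module (Localization.AtPrime q' ⧸ 𝔞.map (algebraMap A' (Localization.AtPrime q'))) N]
      [IsScalarTower (Localization.AtPrime q)
        (Localization.AtPrime q' ⧸ 𝔞.map (algebraMap A' (Localization.AtPrime q'))) N]
      (f : P →ₗ[Localization.AtPrime q] N) (_ : IsBaseChange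
        (Localization.AtPrime q' ⧸ 𝔞.map (algebraMap A' (Localization.AtPrime q'))) f),
      IsWeaklyRegular N₁ (xs.map (algebraMap (Localization.AtPrime q) (EGA4.FibLocRing A B q))) →
      IsWeaklyRegular N
        (xs.map (algebraMap (Localization.AtPrime q)
          (Localization.AtPrime q' ⧸ 𝔞.map (algebraMap A' (Localization.AtPrime q'))))) := by
  induction xs with
  | nil =>
    intro P _ _ _ _ _ _ N₁ _ _ _ _ f₁ h₁ N _ _ _ _ f hf _
    simp
  | cons x xs ih =>
    intro P _ _ _ _ _ _ N₁ _ _ _ _ f₁ h₁ N _ _ _ _ f hf hreg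
    simp only [List.map_cons, isWeaklyRegular_cons_iff] at hreg ⊢
    have hfib := mem_smul_top_of_smul_mem_of_isSMulRegular q P x h₁ hreg.1
    have hx2 := isSMulRegular_baseChange_quot_of_fibre_regular A' q' q P 𝔞 x hfib hf
    refine ⟨hx2, ?_⟩
    obtain ⟨g₁, hg₁⟩ := exists_isBaseChange_quotSMulTop h₁ x
    obtain ⟨g₂, hg₂⟩ := exists_isBaseChange_quotSMulTop hf x
    haveI : Module.Flat A (QuotSMulTop x P) :=
      (isSMulRegular_and_flat_of_fibre_regular q P x hfib).2
    exact ih (QuotSMulTop x P) _ g₁ hg₁ _ g₂ hg₂ hreg.2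

end InductionQuot

section MemMax

variable {A B : Type u} [CommRing A] [CommRing B] [Algebra A B] (q : Ideal B) [q.IsPrime]

/-- An element of `B_q` whose class in the fibre ring lies in `q R` lies in the maximal ideal. -/
theorem mem_maximalIdeal_of_mk_mem (x : Localization.AtPrime q)
    (h1 : Ideal.Quotient.mk ((q.comap (algebraMap A B)).map
      (algebraMap A (Localization.AtPrime q))) x ∈
      q.map (algebraMap B (EGA4.FibLocRing A B q))) :
    x ∈ IsLocalRing.maximalIdeal (Localization.AtPrime q) := by
  rw [← Localization.AtPrime.map_eq_maximalIdeal]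
  have hIle : (q.comap (algebraMap A B)).map (algebraMap A (Localization.AtPrime q)) ≤
      q.map (algebraMap B (Localization.AtPrime q)) := by
    rw [Ideal.map_le_iff_le_comap]
    intro a ha
    rw [Ideal.mem_comap, IsScalarTower.algebraMap_apply A B (Localization.AtPrime q)]
    exact Ideal.mem_map_of_mem _ ha
  rw [IsScalarTower.algebraMap_eq B (Localization.AtPrime q) (EGA4.FibLocRing A B q),
    ← Ideal.map_map, Ideal.Quotient.algebraMap_eq] at h1
  obtain ⟨y, hy, hyx⟩ :=
    (Ideal.mem_map_iff_of_surjective _ Ideal.Quotient.mk_surjective).mp h1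
  have h2 : x - y ∈ (q.comap (algebraMap A B)).map (algebraMap A (Localization.AtPrime q)) := by
    rw [← Ideal.Quotient.eq]
    exact hyx.symm
  have h3 := Ideal.add_mem _ (hIle h2) hy
  rwa [sub_add_cancel] at h3

end MemMax

section TopQuot

variable {A B : Type u} [CommRing A] [CommRing B] [IsNoetherianRing B] [Algebra A B]
  (A' : Type u) {B' : Type u} [CommRing A'] [CommRing B'] [Algebra A A'] [Algebra B B']
  [Algebra A' B']
  [Algebra A B'] [IsScalarTower A B B'] [IsScalarTower A A' B'] [hpo : Algebra.IsPushout A B A' B']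
  (q' : Ideal B') [q'.IsPrime] (q : Ideal B) [q.IsPrime] [hlies : q'.LiesOver q]
  (M : Type u) [AddCommGroup M] [Module B M] [Module A M] [IsScalarTower A B M]
  [Module.Finite B M]

include hpo hlies in
/-- Fibre depth at `q` bounds the depth of the stalk at `q'` of the base change modulo an ideal
`𝔞` of `A'`, for a module whose stalk at `q` is flat over `A`. -/
theorem natCast_le_depth_localization_baseChange_quot (𝔞 : Ideal A')
    (hflat : Module.Flat A (LocalizedModule q.primeCompl M)) (n : ℕ)
    (h : (n : ℕ∞) ≤ LocCoh.idealDepth (q.map (algebraMap B (EGA4.FibLocRing A B q)))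
      (EGA4.FibLocMod A B q M)) :
    (n : ℕ∞) ≤ LocCoh.depth (Localization.AtPrime q')
      (LocalizedModule q'.primeCompl ((B' ⊗[B] M) ⧸
        ((𝔞.map (algebraMap A' B')) • (⊤ : Submodule B' (B' ⊗[B] M))))) := by
  letI alg := Localization.AtPrime.algebraOfLiesOver q q'
  have hloc : IsLocalHom (algebraMap (Localization.AtPrime q) (Localization.AtPrime q')) := by
    rw [RingHom.algebraMap_toAlgebra]
    exact Localization.isLocalHom_localRingHom q q' (algebraMap B B') Ideal.LiesOver.over
  haveI : IsScalarTower B (Localization.AtPrime q) (Localization.AtPrime q') := inferInstance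
  have h₁ : IsBaseChange (EGA4.FibLocRing A B q)
      ((((q.comap (algebraMap A B)).map (algebraMap A (Localization.AtPrime q))) •
        (⊤ : Submodule (Localization.AtPrime q) (LocalizedModule q.primeCompl M))).mkQ) :=
    isBaseChange_mkQ _
  letI : Module (Localization.AtPrime q) (LocalizedModule q'.primeCompl (B' ⊗[B] M)) :=
    Module.compHom _ (algebraMap (Localization.AtPrime q) (Localization.AtPrime q'))
  haveI : IsScalarTower (Localization.AtPrime q) (Localization.AtPrime q')
      (LocalizedModule q'.primeCompl (B' ⊗[B] M)) :=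
    IsScalarTower.of_algebraMap_smul fun r x => rfl
  haveI : IsScalarTower B (Localization.AtPrime q)
      (LocalizedModule q'.primeCompl (B' ⊗[B] M)) :=
    IsScalarTower.of_algebraMap_smul fun r x => by
      change algebraMap (Localization.AtPrime q) (Localization.AtPrime q')
        (algebraMap B (Localization.AtPrime q) r) • x = r • x
      rw [← IsScalarTower.algebraMap_apply, algebraMap_smul]
  have hf : IsBaseChange (Localization.AtPrime q) (LocalizedModule.mkLinearMap q.primeCompl M) :=
    IsLocalizedModule.isBaseChange q.primeCompl (Localization.AtPrime q) _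
  have hφ := IsBaseChange.comp (TensorProduct.isBaseChange B M B')
    (IsLocalizedModule.isBaseChange q'.primeCompl (Localization.AtPrime q')
        (LocalizedModule.mkLinearMap q'.primeCompl (B' ⊗[B] M)))
  set φ : M →ₗ[B] LocalizedModule q'.primeCompl (B' ⊗[B] M) :=
    ((LocalizedModule.mkLinearMap q'.primeCompl (B' ⊗[B] M)).restrictScalars B) ∘ₗ
      (TensorProduct.mk B B' M 1) with hφdef
  let f₂ : LocalizedModule q.primeCompl M →ₗ[Localization.AtPrime q]
      LocalizedModule q'.primeCompl (B' ⊗[B] M) := hf.lift φ
  have h₂ : IsBaseChange (Localization.AtPrime q') f₂ := by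
    apply IsBaseChange.of_comp hf
    have : (f₂.restrictScalars B) ∘ₗ (LocalizedModule.mkLinearMap q.primeCompl M) = φ :=
      hf.lift_comp φ
    rw [this]
    exact hφ
  -- the quotient by `𝔞`
  have h₃ := IsBaseChange.comp h₂ (isBaseChange_mkQ
    (𝔞.map (algebraMap A' (Localization.AtPrime q')))
    (P := LocalizedModule q'.primeCompl (B' ⊗[B] M)))
  haveI hfin : Module.Finite (EGA4.FibLocRing A B q) (EGA4.FibLocMod A B q M) :=
    Module.Finite.of_restrictScalars_finite (Localization.AtPrime q) _ _
  obtain ⟨rs, hlen, hmem, hreg⟩ := exists_isWeaklyRegular_of_natCast_le_idealDepth _ n h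
  obtain ⟨xs, rfl⟩ := (List.map_surjective_iff.mpr
    (Ideal.Quotient.mk_surjective (I := (q.comap (algebraMap A B)).map
      (algebraMap A (Localization.AtPrime q))))) rs
  have hG := isWeaklyRegular_baseChange_quot_of_fibre A' q' q 𝔞 xs
    (LocalizedModule q.primeCompl M) (EGA4.FibLocMod A B q M) _ h₁ _ _ h₃ hreg
  have hlist : xs.map (algebraMap (Localization.AtPrime q)
      (Localization.AtPrime q' ⧸ 𝔞.map (algebraMap A' (Localization.AtPrime q')))) =
      (xs.map (algebraMap (Localization.AtPrime q) (Localization.AtPrime q'))).map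
        (algebraMap (Localization.AtPrime q')
          (Localization.AtPrime q' ⧸ 𝔞.map (algebraMap A' (Localization.AtPrime q')))) := by
    rw [List.map_map]
    congr 1
  rw [hlist, isWeaklyRegular_map_algebraMap_iff] at hG
  -- transport to the localization of the quotient
  have heq : ((𝔞.map (algebraMap A' (Localization.AtPrime q'))) •
      (⊤ : Submodule (Localization.AtPrime q') (LocalizedModule q'.primeCompl (B' ⊗[B] M)))) =
      Submodule.localized q'.primeCompl
        ((𝔞.map (algebraMap A' B')) • (⊤ : Submodule B' (B' ⊗[B] M))) := by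
    rw [Submodule.localized, Submodule.localized'_smul, Ideal.localized'_eq_map,
      Submodule.localized'_top, Ideal.map_map, ← IsScalarTower.algebraMap_eq]
  let e := Submodule.quotEquivOfEq _ _ heq ≪≫ₗ localizedQuotientEquiv q'.primeCompl
    ((𝔞.map (algebraMap A' B')) • (⊤ : Submodule B' (B' ⊗[B] M)))
  have hG' := (e.isWeaklyRegular_congr _).mp hG
  have hmem' : ∀ y ∈ xs.map (algebraMap (Localization.AtPrime q) (Localization.AtPrime q')),
      y ∈ IsLocalRing.maximalIdeal (Localization.AtPrime q') := by
    intro y hy
    obtain ⟨x, hx, rfl⟩ := List.mem_map.mp hy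
    have hx' := mem_maximalIdeal_of_mk_mem (A := A) q x (hmem _ (List.mem_map.mpr ⟨x, hx, rfl⟩))
    rw [IsLocalRing.mem_maximalIdeal, mem_nonunits_iff]
    intro hu
    exact (IsLocalRing.mem_maximalIdeal _).mp hx' (isUnit_of_map_unit _ x hu)
  have := length_le_idealDepth hG' hmem'
  rw [List.length_map] at hlen
  rw [List.length_map, hlen] at this
  exact this

end TopQuot

section GlobalQuot

variable {A B : Type u} [CommRing A] [CommRing B] [IsNoetherianRing B] [Algebra A B]
  (A' : Type u) {B' : Type u} [CommRing A'] [CommRing B'] [IsNoetherianRing B']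
  [Algebra A A'] [Algebra B B'] [Algebra A' B']
  [Algebra A B'] [IsScalarTower A B B'] [IsScalarTower A A' B'] [hpo : Algebra.IsPushout A B A' B']
  (M : Type u) [AddCommGroup M] [Module B M] [Module A M] [IsScalarTower A B M]
  [Module.Finite B M] [Module.Flat A M]

include hpo in
/-- Fibrewise depth `≥ n` along `V(J)` of an `A`-flat finite `B`-module `M` gives
`depth_{JB'} ((B' ⊗_B M) / 𝔞 (B' ⊗_B M)) ≥ n` for the pushout `B' = A' ⊗_A B` and any ideal `𝔞`
of `A'`. -/
theorem natCast_le_idealDepth_baseChange_quot (𝔞 : Ideal A') (J : Ideal B) (n : ℕ)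
    (h : ∀ q : PrimeSpectrum B, J ≤ q.asIdeal →
      (n : ℕ∞) ≤ LocCoh.idealDepth (q.asIdeal.map (algebraMap B (EGA4.FibLocRing A B q.asIdeal)))
        (EGA4.FibLocMod A B q.asIdeal M)) :
    (n : ℕ∞) ≤ LocCoh.idealDepth (J.map (algebraMap B B'))
      ((B' ⊗[B] M) ⧸ ((𝔞.map (algebraMap A' B')) • (⊤ : Submodule B' (B' ⊗[B] M)))) := by
  rw [idealDepth_eq_iInf_depth_localization]
  refine le_iInf₂ fun q' hq' => ?_
  haveI : (q'.asIdeal.comap (algebraMap B B')).IsPrime := Ideal.comap_isPrime _ _
  haveI : q'.asIdeal.LiesOver (q'.asIdeal.comap (algebraMap B B')) := ⟨rfl⟩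
  have hJq : J ≤ q'.asIdeal.comap (algebraMap B B') :=
    fun x hx => hq' (Ideal.mem_map_of_mem _ hx)
  exact natCast_le_depth_localization_baseChange_quot A' q'.asIdeal
    (q'.asIdeal.comap (algebraMap B B')) M 𝔞
    (flat_localizedModule_of_flat _) n
    (h ⟨q'.asIdeal.comap (algebraMap B B'), inferInstance⟩ hJq)

end GlobalQuot

end Groth.Agent.Lib.Helper28.FibBC
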