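import Mathlib
import Groth.Agent.Lib.Helper22MilnorFlat
import Groth.Agent.Lib.Helper5NilFlat

/-!
# Helper28: descent of flatness along a finite injective ring map onto a Noetherian ring

`flat_of_finite_injective`: `R → S` injective, `S` Noetherian and finite over `R`, `M` an arbitrary
`R`-module with `S ⊗ M` flat over `S`; then `M` is flat over `R`.  (Ferrand; Raynaud–Gruson.)
Noetherian induction on ideals of `S`, Milnor patching (`Helper22.fs_flat`), the local criterion
for a nilpotent ideal (`Helper5.flat_of_isNilpotent`) and a free intermediate subring in the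
domain case.
-/

set_option autoImplicit false
open TensorProduct

namespace Groth.Agent.Lib.Helper28.FinDescent

universe u


section Tower
variable {R A B : Type*} [CommRing R] [CommRing A] [CommRing B] [Algebra R A] [Algebra R B]
  [Algebra A B] [IsScalarTower R A B] (M : Type*) [AddCommGroup M] [Module R M]

theorem flat_tower_up [Module.Flat A (A ⊗[R] M)] : Module.Flat B (B ⊗[R] M) :=
  Module.Flat.of_linearEquiv (AlgebraTensorModule.cancelBaseChange R A B B M).symm

theorem flat_tower_mid [Module.Flat B (B ⊗[R] M)] : Module.Flat B (B ⊗[A] (A ⊗[R] M)) :=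
  Module.Flat.of_linearEquiv (AlgebraTensorModule.cancelBaseChange R A B B M)

end Tower



theorem flat_of_common_ideal {R S : Type u} [CommRing R] [CommRing S] [Algebra R S]
    (hinj : Function.Injective (algebraMap R S)) (𝔞 : Ideal S)
    (h𝔞 : ∀ a ∈ 𝔞, a ∈ (algebraMap R S).range)
    (M : Type u) [AddCommGroup M] [Module R M]
    [Module.Flat S (S ⊗[R] M)]
    [Module.Flat (R ⧸ 𝔞.comap (algebraMap R S)) ((R ⧸ 𝔞.comap (algebraMap R S)) ⊗[R] M)] :
    Module.Flat R M := by
  have : IsScalarTower R (R ⧸ 𝔞.comap (algebraMap R S)) (S ⧸ 𝔞) := inferInstance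
  have : IsScalarTower R S (S ⧸ 𝔞) := inferInstance
  refine Helper22.fs_flat (B' := R) (B := R ⧸ 𝔞.comap (algebraMap R S)) (A' := S) (A := S ⧸ 𝔞) ?_
  refine ⟨Ideal.Quotient.mk_surjective, ?_⟩
  intro b s hbs
  obtain ⟨r, rfl⟩ := Ideal.Quotient.mk_surjective b
  have h1 : algebraMap (R ⧸ 𝔞.comap (algebraMap R S)) (S ⧸ 𝔞) (Ideal.Quotient.mk _ r)
      = Ideal.Quotient.mk 𝔞 (algebraMap R S r) := rfl
  rw [h1] at hbs
  have h2 : algebraMap R S r - s ∈ 𝔞 := by
    rw [← Ideal.Quotient.eq]; exact hbs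
  obtain ⟨t, ht⟩ := h𝔞 _ h2
  refine ⟨r - t, ⟨?_, ?_⟩, ?_⟩
  · change Ideal.Quotient.mk _ (r - t) = Ideal.Quotient.mk _ r
    rw [Ideal.Quotient.eq, Ideal.mem_comap]
    have : algebraMap R S (r - t - r) = -(algebraMap R S r - s) := by
      rw [← ht]; simp
    rw [this]
    exact neg_mem h2
  · rw [map_sub]
    change algebraMap R S r - algebraMap R S t = s
    rw [show algebraMap R S t = algebraMap R S r - s from ht]; ring
  · rintro y ⟨_, hy2⟩
    apply hinj
    rw [hy2, map_sub]
    change s = algebraMap R S r - algebraMap R S t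
    rw [show algebraMap R S t = algebraMap R S r - s from ht]; ring



theorem flat_of_inf_eq_bot {R : Type u} [CommRing R] (a b : Ideal R) (hab : a ⊓ b = ⊥)
    (M : Type u) [AddCommGroup M] [Module R M]
    [Module.Flat (R ⧸ a) ((R ⧸ a) ⊗[R] M)] [Module.Flat (R ⧸ b) ((R ⧸ b) ⊗[R] M)] :
    Module.Flat R M := by
  let _ : Algebra (R ⧸ a) (R ⧸ (a ⊔ b)) := (Ideal.Quotient.factor (le_sup_left)).toAlgebra
  let _ : Algebra (R ⧸ b) (R ⧸ (a ⊔ b)) := (Ideal.Quotient.factor (le_sup_right)).toAlgebra
  have : IsScalarTower R (R ⧸ a) (R ⧸ (a ⊔ b)) := IsScalarTower.of_algebraMap_eq (fun x => rfl)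
  have : IsScalarTower R (R ⧸ b) (R ⧸ (a ⊔ b)) := IsScalarTower.of_algebraMap_eq (fun x => rfl)
  refine Helper22.fs_flat (B' := R) (B := R ⧸ a) (A' := R ⧸ b) (A := R ⧸ (a ⊔ b)) ?_
  refine ⟨Ideal.Quotient.factor_surjective _, ?_⟩
  intro x y hxy
  obtain ⟨x, rfl⟩ := Ideal.Quotient.mk_surjective x
  obtain ⟨y, rfl⟩ := Ideal.Quotient.mk_surjective y
  have h1 : Ideal.Quotient.mk (a ⊔ b) x = Ideal.Quotient.mk (a ⊔ b) y := hxy
  rw [Ideal.Quotient.eq, Submodule.mem_sup] at h1
  obtain ⟨u, hu, v, hv, huv⟩ := h1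
  -- x - y = u + v; take z = x - u = y + v
  refine ⟨x - u, ⟨?_, ?_⟩, ?_⟩
  · change Ideal.Quotient.mk a (x - u) = Ideal.Quotient.mk a x
    rw [Ideal.Quotient.eq]
    simpa using neg_mem hu
  · change Ideal.Quotient.mk b (x - u) = Ideal.Quotient.mk b y
    rw [Ideal.Quotient.eq]
    have : x - u - y = v := by linear_combination huv.symm
    rw [this]; exact hv
  · rintro z ⟨hz1, hz2⟩
    have hz1' : Ideal.Quotient.mk a z = Ideal.Quotient.mk a x := hz1
    have hz2' : Ideal.Quotient.mk b z = Ideal.Quotient.mk b y := hz2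
    rw [Ideal.Quotient.eq] at hz1' hz2'
    have h3 : z - (x - u) ∈ a ⊓ b := by
      refine ⟨?_, ?_⟩
      · have : z - (x - u) = (z - x) + u := by ring
        rw [this]; exact add_mem hz1' hu
      · have : z - (x - u) = (z - y) - v := by linear_combination huv
        rw [this]; exact sub_mem hz2' hv
    rw [hab, Ideal.mem_bot, sub_eq_zero] at h3
    exact h3



theorem flat_of_sq_zero {R S : Type u} [CommRing R] [CommRing S] [Algebra R S]
    (hinj : Function.Injective (algebraMap R S)) (𝔞 : Ideal S)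
    (h𝔞 : ∀ a ∈ 𝔞, ∀ b ∈ 𝔞, a * b = 0)
    (M : Type u) [AddCommGroup M] [Module R M]
    [Module.Flat S (S ⊗[R] M)]
    [Module.Flat (R ⧸ 𝔞.comap (algebraMap R S)) ((R ⧸ 𝔞.comap (algebraMap R S)) ⊗[R] M)] :
    Module.Flat R M := by
  set I : Ideal R := 𝔞.comap (algebraMap R S) with hI
  have hIsq : I ^ 2 = ⊥ := by
    rw [eq_bot_iff, pow_two, Ideal.mul_le]
    intro x hx y hy
    rw [Ideal.mem_bot]
    apply hinj
    rw [map_mul, map_zero]
    exact h𝔞 _ hx _ hy
  refine Helper5.flat_of_isNilpotent I ⟨2, hIsq⟩ ?_ inferInstance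
  rw [LinearMap.lTensor_inj_iff_rTensor_inj]
  -- the R-module X = 𝔞
  let X : Submodule R S := 𝔞.restrictScalars R
  have htors : Module.IsTorsionBySet R X (I : Set R) := by
    intro x a
    apply Subtype.ext
    rw [Submodule.coe_smul, Submodule.coe_zero, Algebra.smul_def]
    exact h𝔞 _ a.2 _ x.2
  letI : Module (R ⧸ I) X := htors.module
  haveI : IsScalarTower R (R ⧸ I) X := htors.isScalarTower
  let j : I →ₗ[R] X :=
    { toFun := fun i => ⟨algebraMap R S i, i.2⟩
      map_add' := fun a b => by apply Subtype.ext; simp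
      map_smul' := fun c a => by
        apply Subtype.ext
        simp [Algebra.smul_def] }
  have hj : Function.Injective j := by
    intro a b hab
    apply Subtype.ext
    apply hinj
    exact congrArg Subtype.val hab
  have h1 : Function.Injective ((LinearMap.range j).subtype.rTensor M) :=
    Helper22.rTensor_subtype_injective_of_surjective (S := R ⧸ I) Ideal.Quotient.mk_surjective _
  have h2 : Function.Injective (j.rTensor M) := by
    have : j = (LinearMap.range j).subtype ∘ₗ (LinearEquiv.ofInjective j hj).toLinearMap := by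
      ext x; rfl
    rw [this, LinearMap.rTensor_comp]
    exact h1.comp (LinearEquiv.rTensor M (LinearEquiv.ofInjective j hj)).injective
  have h3 : Function.Injective (X.subtype.rTensor M) :=
    Helper22.rTensor_subtype_restrictScalars_injective (R := R) (S := S) (M := M) (X := S) 𝔞
  have h4 : (Algebra.linearMap R S) ∘ₗ I.subtype = X.subtype ∘ₗ j := by
    ext x; rfl
  have h5 : Function.Injective (((Algebra.linearMap R S) ∘ₗ I.subtype).rTensor M) := by
    rw [h4, LinearMap.rTensor_comp]
    exact h3.comp h2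
  rw [LinearMap.rTensor_comp] at h5
  exact Function.Injective.of_comp h5



theorem exists_family {R S : Type*} [CommRing R] [IsDomain R] [CommRing S] [IsDomain S]
    [Algebra R S] (hinj : Function.Injective (algebraMap R S)) [Module.Finite R S] :
    ∃ (n : ℕ) (e : Fin n → S) (i₀ : Fin n) (f : R), f ≠ 0 ∧ e i₀ = 1 ∧ LinearIndependent R e ∧
      ∀ s : S, f • s ∈ Submodule.span R (Set.range e) := by
  haveI : FaithfulSMul R S := (faithfulSMul_iff_algebraMap_injective R S).mpr hinj
  haveI : Module.IsTorsionFree R S := inferInstance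
  let P : ℕ → Prop := fun n => ∃ (e : Fin n → S) (i₀ : Fin n), e i₀ = 1 ∧ LinearIndependent R e
  have hP1 : P 1 := ⟨fun _ => 1, 0, rfl, by
    rw [linearIndependent_unique_iff]; exact one_ne_zero⟩
  have hbound : ∀ n, P n → n ≤ Module.finrank R S := by
    rintro n ⟨e, _, _, he⟩
    simpa using he.fintype_card_le_finrank
  classical
  let N := Nat.findGreatest P (Module.finrank R S)
  have hPN : P N := Nat.findGreatest_spec (hbound 1 hP1) hP1
  have hmax : ¬ P (N + 1) := by
    intro h
    have h1 := hbound _ h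
    have := Nat.le_findGreatest h1 h
    omega
  obtain ⟨e, i₀, he1, heli⟩ := hPN
  have key : ∀ s : S, ∃ c : R, c ≠ 0 ∧ c • s ∈ Submodule.span R (Set.range e) := by
    intro s
    by_contra hcon
    push Not at hcon
    apply hmax
    refine ⟨Fin.cons s e, i₀.succ, by simpa using he1, ?_⟩
    refine LinearIndependent.finCons' s e heli ?_
    intro c y hy hcy
    by_contra hc
    apply hcon c hc
    have : c • s = -y := eq_neg_of_add_eq_zero_left hcy
    rw [this]
    exact neg_mem hy
  choose c hc0 hc using key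
  obtain ⟨G, hG⟩ := (Module.finite_def (R := R) (M := S)).mp inferInstance
  refine ⟨N, e, i₀, ∏ g ∈ G, c g, ?_, he1, heli, ?_⟩
  · rw [Finset.prod_ne_zero_iff]
    exact fun g _ => hc0 g
  · intro s
    have hs : s ∈ Submodule.span R (G : Set S) := by rw [hG]; trivial
    induction hs using Submodule.span_induction with
    | mem x hx =>
      have hx' : x ∈ G := hx
      rw [← Finset.mul_prod_erase G c hx', mul_comm, mul_smul]
      exact Submodule.smul_mem _ _ (hc x)
    | zero => simp
    | add x y _ _ hx hy => rw [smul_add]; exact add_mem hx hy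
    | smul a x _ hx => rw [smul_comm]; exact Submodule.smul_mem _ _ hx



theorem exists_free_subalgebra {R S : Type*} [CommRing R] [IsDomain R] [CommRing S] [IsDomain S]
    [Algebra R S] (hinj : Function.Injective (algebraMap R S))
    {n : ℕ} (e : Fin n → S) (i₀ : Fin n) (f : R) (hf : f ≠ 0) (he1 : e i₀ = 1)
    (heli : LinearIndependent R e) (hspan : ∀ s : S, f • s ∈ Submodule.span R (Set.range e)) :
    ∃ R₁ : Subalgebra R S, Module.Free R R₁ ∧ Module.Finite R R₁ ∧ ∀ s : S, (f * f) • s ∈ R₁ := by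
  haveI : FaithfulSMul R S := (faithfulSMul_iff_algebraMap_injective R S).mpr hinj
  haveI : Module.IsTorsionFree R S := inferInstance
  classical
  let u : Fin n → R := fun i => if i = i₀ then 1 else f
  have hu : ∀ i, u i ≠ 0 := by
    intro i; simp only [u]; split_ifs
    · exact one_ne_zero
    · exact hf
  let e' : Fin n → S := fun i => u i • e i
  have he'0 : e' i₀ = 1 := by simp [e', u, he1]
  have he'k : ∀ k, k ≠ i₀ → e' k = f • e k := by
    intro k hk; simp [e', u, hk]
  have heli' : LinearIndependent R e' := by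
    rw [Fintype.linearIndependent_iff] at heli ⊢
    intro g hg i
    have h1 : ∑ i, (g i * u i) • e i = 0 := by
      rw [← hg]
      exact Finset.sum_congr rfl (fun i _ => by simp only [e', mul_smul])
    have h2 := heli _ h1 i
    exact (mul_eq_zero.mp h2).resolve_right (hu i)
  let p : Submodule R S := Submodule.span R (Set.range e')
  have hfp : ∀ x ∈ Submodule.span R (Set.range e), f • x ∈ p := by
    intro x hx
    induction hx using Submodule.span_induction with
    | mem x hx =>
      obtain ⟨k, rfl⟩ := hx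
      by_cases hk : k = i₀
      · rw [hk, he1, ← he'0]
        exact Submodule.smul_mem _ _ (Submodule.subset_span ⟨i₀, rfl⟩)
      · rw [← he'k k hk]
        exact Submodule.subset_span ⟨k, rfl⟩
    | zero => simp
    | add x y _ _ hx hy => rw [smul_add]; exact add_mem hx hy
    | smul a x _ hx => rw [smul_comm]; exact Submodule.smul_mem _ _ hx
  have h1 : (1 : S) ∈ p := by
    rw [← he'0]; exact Submodule.subset_span ⟨i₀, rfl⟩
  have hmul : ∀ x y : S, x ∈ p → y ∈ p → x * y ∈ p := by
    intro x y hx hy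
    have h2 : x * y ∈ p * p := Submodule.mul_mem_mul hx hy
    have h3 : p * p ≤ p := by
      simp only [p]
      rw [Submodule.span_mul_span, Submodule.span_le]
      rintro _ ⟨_, ⟨i, rfl⟩, _, ⟨j, rfl⟩, rfl⟩
      change e' i * e' j ∈ Submodule.span R (Set.range e')
      by_cases hi : i = i₀
      · rw [hi, he'0, one_mul]; exact Submodule.subset_span ⟨j, rfl⟩
      by_cases hj : j = i₀
      · rw [hj, he'0, mul_one]; exact Submodule.subset_span ⟨i, rfl⟩
      rw [he'k i hi, he'k j hj, smul_mul_smul_comm, mul_smul]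
      exact hfp _ (hspan _)
    exact h3 h2
  refine ⟨p.toSubalgebra h1 hmul, ?_, ?_, ?_⟩
  · let b : Module.Basis (Fin n) R p := Module.Basis.span heli'
    let eq : p ≃ₗ[R] (p.toSubalgebra h1 hmul) :=
      { toFun := fun x => ⟨x.1, x.2⟩
        invFun := fun x => ⟨x.1, x.2⟩
        map_add' := fun _ _ => rfl
        map_smul' := fun _ _ => rfl
        left_inv := fun _ => rfl
        right_inv := fun _ => rfl }
    exact Module.Free.of_basis (b.map eq)
  · let eq : p ≃ₗ[R] (p.toSubalgebra h1 hmul) :=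
      { toFun := fun x => ⟨x.1, x.2⟩
        invFun := fun x => ⟨x.1, x.2⟩
        map_add' := fun _ _ => rfl
        map_smul' := fun _ _ => rfl
        left_inv := fun _ => rfl
        right_inv := fun _ => rfl }
    haveI : Module.Finite R p := Module.Finite.span_of_finite R (Set.finite_range e')
    exact Module.Finite.equiv eq
  · intro s
    change (f * f) • s ∈ p
    rw [mul_smul]
    exact hfp _ (hspan s)


/-- The descent statement for a fixed target ring `S`. -/
def TAll (S : Type u) [CommRing S] : Prop :=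
  ∀ (R : Type u) [CommRing R] [Algebra R S] [Module.Finite R S],
    Function.Injective (algebraMap R S) → ∀ (M : Type u) [AddCommGroup M] [Module R M],
      Module.Flat S (S ⊗[R] M) → Module.Flat R M

/-- the induction hypothesis gives flatness modulo a contracted ideal. -/
theorem flat_quotient_of_TAll {R S : Type u} [CommRing R] [CommRing S] [Algebra R S]
    [Module.Finite R S] (𝔞 : Ideal S) (h : TAll (S ⧸ 𝔞))
    (M : Type u) [AddCommGroup M] [Module R M] [Module.Flat S (S ⊗[R] M)] :
    Module.Flat (R ⧸ 𝔞.comap (algebraMap R S)) ((R ⧸ 𝔞.comap (algebraMap R S)) ⊗[R] M) := by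
  haveI : Module.Finite (R ⧸ 𝔞.comap (algebraMap R S)) (S ⧸ 𝔞) :=
    Module.Finite.of_restrictScalars_finite R _ _
  refine h (R ⧸ 𝔞.comap (algebraMap R S)) ?_ _ ?_
  · exact Ideal.quotientMap_injective
  · haveI : Module.Flat (S ⧸ 𝔞) ((S ⧸ 𝔞) ⊗[R] M) := flat_tower_up (R := R) (A := S) (B := S ⧸ 𝔞) M
    exact flat_tower_mid (R := R) (A := R ⧸ 𝔞.comap (algebraMap R S)) (B := S ⧸ 𝔞) M

/-- domain case -/
theorem flat_of_isDomain {S : Type u} [CommRing S] [IsDomain S]
    (IH : ∀ 𝔞 : Ideal S, 𝔞 ≠ ⊥ → TAll (S ⧸ 𝔞)) : TAll S := by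
  intro R _ _ _ hinj M _ _ hM
  haveI : IsDomain R := hinj.isDomain (algebraMap R S)
  obtain ⟨n, e, i₀, f, hf, he1, heli, hspan⟩ := exists_family hinj
  obtain ⟨R₁, hfree, hfin, hcond⟩ := exists_free_subalgebra hinj e i₀ f hf he1 heli hspan
  haveI : Module.Finite R₁ S := Module.Finite.of_restrictScalars_finite R R₁ S
  haveI : Module.Flat S (S ⊗[R₁] (R₁ ⊗[R] M)) := flat_tower_mid (R := R) (A := R₁) (B := S) M
  let 𝔞 : Ideal S := Ideal.span {algebraMap R S (f * f)}
  have h𝔞0 : 𝔞 ≠ ⊥ := by
    intro h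
    rw [Ideal.span_singleton_eq_bot] at h
    exact mul_ne_zero hf hf (hinj (by rw [h, map_zero]))
  have hinj₁ : Function.Injective (algebraMap R₁ S) := Subtype.val_injective
  haveI := flat_quotient_of_TAll (R := R₁) 𝔞 (IH 𝔞 h𝔞0) (R₁ ⊗[R] M)
  have h1 : Module.Flat R₁ (R₁ ⊗[R] M) := by
    refine flat_of_common_ideal hinj₁ 𝔞 ?_ (R₁ ⊗[R] M)
    intro a ha
    obtain ⟨s, rfl⟩ := Ideal.mem_span_singleton'.mp ha
    refine ⟨⟨(f * f) • s, hcond s⟩, ?_⟩
    change (f * f) • s = s * algebraMap R S (f * f)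
    rw [Algebra.smul_def, mul_comm]
  haveI : Nontrivial R₁ := inferInstance
  exact Module.Flat.of_flat_tensorProduct (R := R) (M := M) R₁

/-- non-reduced case -/
theorem flat_of_not_isReduced {S : Type u} [CommRing S] (hS : ¬ IsReduced S)
    (IH : ∀ 𝔞 : Ideal S, 𝔞 ≠ ⊥ → TAll (S ⧸ 𝔞)) : TAll S := by
  intro R _ _ _ hinj M _ _ hM
  -- a nonzero element with square zero
  obtain ⟨y, hy0, hy2⟩ : ∃ y : S, y ≠ 0 ∧ y * y = 0 := by
    rw [isReduced_iff] at hS
    push Not at hS
    obtain ⟨x, hx, hx0⟩ := hS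
    classical
    have hex : ∃ m, x ^ m = 0 := hx
    let m := Nat.find hex
    have hm : x ^ m = 0 := Nat.find_spec hex
    have hm1 : 1 ≤ m := by
      by_contra h
      have : m = 0 := by omega
      rw [this, pow_zero] at hm
      exact hx0 (by rw [← mul_one x, hm, mul_zero])
    have hm2 : 2 ≤ m := by
      by_contra h
      have : m = 1 := by omega
      rw [this, pow_one] at hm
      exact hx0 hm
    refine ⟨x ^ (m - 1), Nat.find_min hex (by omega), ?_⟩
    rw [← pow_add]
    have : m - 1 + (m - 1) = m + (m - 2) := by omega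
    rw [this, pow_add, hm, zero_mul]
  let 𝔞 : Ideal S := Ideal.span {y}
  have h𝔞0 : 𝔞 ≠ ⊥ := by
    intro h
    rw [Ideal.span_singleton_eq_bot] at h
    exact hy0 h
  haveI := flat_quotient_of_TAll (R := R) 𝔞 (IH 𝔞 h𝔞0) M
  refine flat_of_sq_zero hinj 𝔞 ?_ M
  intro a ha b hb
  obtain ⟨s, rfl⟩ := Ideal.mem_span_singleton'.mp ha
  obtain ⟨t, rfl⟩ := Ideal.mem_span_singleton'.mp hb
  calc s * y * (t * y) = s * t * (y * y) := by ring
    _ = 0 := by rw [hy2, mul_zero]

/-- reduced, with zero divisors -/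
theorem flat_of_zero_divisors {S : Type u} [CommRing S] [IsReduced S] (x y : S) (hx : x ≠ 0)
    (hy : y ≠ 0) (hxy : x * y = 0)
    (IH : ∀ 𝔞 : Ideal S, 𝔞 ≠ ⊥ → TAll (S ⧸ 𝔞)) : TAll S := by
  intro R _ _ _ hinj M _ _ hM
  let 𝔞 : Ideal S := Ideal.span {x}
  let 𝔟 : Ideal S := Ideal.span {y}
  have h𝔞0 : 𝔞 ≠ ⊥ := fun h => hx (Ideal.span_singleton_eq_bot.mp h)
  have h𝔟0 : 𝔟 ≠ ⊥ := fun h => hy (Ideal.span_singleton_eq_bot.mp h)
  haveI := flat_quotient_of_TAll (R := R) 𝔞 (IH 𝔞 h𝔞0) M
  haveI := flat_quotient_of_TAll (R := R) 𝔟 (IH 𝔟 h𝔟0) M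
  refine flat_of_inf_eq_bot (𝔞.comap (algebraMap R S)) (𝔟.comap (algebraMap R S)) ?_ M
  rw [eq_bot_iff]
  rintro r ⟨hr1, hr2⟩
  rw [Ideal.mem_bot]
  apply hinj
  rw [map_zero]
  obtain ⟨s, hs⟩ := Ideal.mem_span_singleton'.mp hr1
  obtain ⟨t, ht⟩ := Ideal.mem_span_singleton'.mp hr2
  have : algebraMap R S r ^ 2 = 0 := by
    rw [pow_two]
    nth_rewrite 1 [← hs]
    rw [← ht]
    calc s * x * (t * y) = s * t * (x * y) := by ring
      _ = 0 := by rw [hxy, mul_zero]
  exact pow_eq_zero_iff (two_ne_zero) |>.mp this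

theorem tAll_of_subsingleton {S : Type u} [CommRing S] [Subsingleton S] : TAll S := by
  intro R _ _ _ hinj M _ _ hM
  haveI : Subsingleton R := hinj.subsingleton
  haveI : Subsingleton M := Module.subsingleton R M
  infer_instance

theorem step {S : Type u} [CommRing S]
    (IH : ∀ 𝔞 : Ideal S, 𝔞 ≠ ⊥ → TAll (S ⧸ 𝔞)) : TAll S := by
  rcases subsingleton_or_nontrivial S with hS | hS
  · exact tAll_of_subsingleton
  by_cases hred : IsReduced S
  · by_cases hdom : ∀ x y : S, x * y = 0 → x = 0 ∨ y = 0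
    · haveI : NoZeroDivisors S := ⟨fun {a b} h => hdom a b h⟩
      haveI : IsDomain S := NoZeroDivisors.to_isDomain S
      exact flat_of_isDomain IH
    · push Not at hdom
      obtain ⟨x, y, hxy, hx, hy⟩ := hdom
      exact flat_of_zero_divisors x y hx hy hxy IH
  · exact flat_of_not_isReduced hred IH

theorem tAll_of_isNoetherianRing (S : Type u) [CommRing S] [IsNoetherianRing S] : TAll S := by
  suffices h : ∀ 𝔞 : Ideal S, ∀ (S' : Type u) [CommRing S'] (π : S →+* S'),
      Function.Surjective π → RingHom.ker π = 𝔞 → TAll S' by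
    exact h ⊥ S (RingHom.id S) Function.surjective_id (by
      ext x; simp [RingHom.mem_ker])
  intro 𝔞
  induction 𝔞 using IsNoetherian.induction with
  | hgt 𝔞 ih =>
    intro S' _ π hπ hker
    apply step
    intro 𝔟 h𝔟
    refine ih (𝔟.comap π) ?_ (S' ⧸ 𝔟) ((Ideal.Quotient.mk 𝔟).comp π)
      (Ideal.Quotient.mk_surjective.comp hπ) ?_
    · rw [← hker]
      refine lt_of_le_of_ne (fun x hx => ?_) ?_
      · rw [Ideal.mem_comap, RingHom.mem_ker.mp hx]; exact zero_mem _
      · intro heq
        apply h𝔟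
        rw [eq_bot_iff]
        intro b hb
        obtain ⟨s, rfl⟩ := hπ b
        have : s ∈ 𝔟.comap π := hb
        rw [← heq, RingHom.mem_ker] at this
        rw [this]; exact zero_mem _
    · ext x
      rw [RingHom.mem_ker, RingHom.comp_apply, Ideal.Quotient.eq_zero_iff_mem, Ideal.mem_comap]

/-- **Descent of flatness along a finite injective ring map** (target Noetherian). -/
theorem flat_of_finite_injective {R S : Type u} [CommRing R] [CommRing S] [IsNoetherianRing S]
    [Algebra R S] [Module.Finite R S] (hinj : Function.Injective (algebraMap R S))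
    (M : Type u) [AddCommGroup M] [Module R M] [Module.Flat S (S ⊗[R] M)] : Module.Flat R M :=
  tAll_of_isNoetherianRing S R hinj M inferInstance

end Groth.Agent.Lib.Helper28.FinDescent
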