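import Mathlib

/-! helper29: Chevalley's lemma for complete Noetherian local rings: a decreasing sequence of ideals
with zero intersection is cofinal with the powers of the maximal ideal. -/

set_option autoImplicit false
universe u

namespace Groth.Agent.Lib.Helper29.Chevalley

open IsLocalRing

variable {A : Type u} [CommRing A] [IsLocalRing A] [IsNoetherianRing A]

/-- Ideals of a Noetherian local ring are closed in the adic topology. -/
theorem mem_of_forall_mem_sup_pow (𝔞 : Ideal A) (L : A)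
    (h : ∀ n : ℕ, L ∈ 𝔞 ⊔ maximalIdeal A ^ n) : L ∈ 𝔞 := by
  have hkrull := Ideal.iInf_pow_smul_eq_bot_of_isLocalRing (R := A) (M := A ⧸ 𝔞) (maximalIdeal A)
    (Ideal.IsPrime.ne_top inferInstance)
  have hmem : (Ideal.Quotient.mk 𝔞 L : A ⧸ 𝔞) ∈
      (⨅ i : ℕ, maximalIdeal A ^ i • ⊤ : Submodule A (A ⧸ 𝔞)) := by
    rw [Submodule.mem_iInf]
    intro n
    obtain ⟨a, ha, z, hz, rfl⟩ := Submodule.mem_sup.mp (h n)
    rw [map_add, Ideal.Quotient.eq_zero_iff_mem.mpr ha, zero_add]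
    have : (Ideal.Quotient.mk 𝔞 z : A ⧸ 𝔞) = z • (1 : A ⧸ 𝔞) := by
      rw [Algebra.smul_def, mul_one]; rfl
    rw [this]
    exact Submodule.smul_mem_smul hz Submodule.mem_top
  rw [hkrull, Submodule.mem_bot] at hmem
  exact Ideal.Quotient.eq_zero_iff_mem.mp hmem

/-- modulo a power of the maximal ideal, a decreasing sequence of ideals stabilises. -/
theorem stabilizes_mod_pow (𝔞 : ℕ → Ideal A) (hanti : Antitone 𝔞) (n : ℕ) :
    ∃ K, ∀ k, K ≤ k → 𝔞 k ⊔ maximalIdeal A ^ n = 𝔞 K ⊔ maximalIdeal A ^ n := by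
  cases n with
  | zero =>
    refine ⟨0, fun k _ => ?_⟩
    rw [pow_zero, Ideal.one_eq_top, sup_top_eq, sup_top_eq]
  | succ n =>
    have hmin : maximalIdeal A ∈ (maximalIdeal A ^ (n + 1)).minimalPrimes := by
      refine ⟨⟨inferInstance, Ideal.pow_le_self (Nat.succ_ne_zero n)⟩, ?_⟩
      rintro q ⟨hq, hle⟩ _
      exact hq.le_of_pow_le hle
    haveI : IsArtinianRing (A ⧸ maximalIdeal A ^ (n + 1)) :=
      IsLocalRing.quotient_artinian_of_mem_minimalPrimes_of_isLocalRing _ hmin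
    let f : ℕ →o (Ideal (A ⧸ maximalIdeal A ^ (n + 1)))ᵒᵈ :=
      { toFun := fun k => OrderDual.toDual
          (Ideal.map (Ideal.Quotient.mk (maximalIdeal A ^ (n + 1))) (𝔞 k))
        monotone' := fun i j hij => OrderDual.toDual_le_toDual.2 (Ideal.map_mono (hanti hij)) }
    obtain ⟨K, hK⟩ := IsArtinian.monotone_stabilizes f
    refine ⟨K, fun k hk => ?_⟩
    have h1 : Ideal.map (Ideal.Quotient.mk (maximalIdeal A ^ (n + 1))) (𝔞 K) =
        Ideal.map (Ideal.Quotient.mk (maximalIdeal A ^ (n + 1))) (𝔞 k) := hK k hk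
    have h2 := congrArg (Ideal.comap (Ideal.Quotient.mk (maximalIdeal A ^ (n + 1)))) h1
    rw [Ideal.comap_map_of_surjective _ Ideal.Quotient.mk_surjective,
      Ideal.comap_map_of_surjective _ Ideal.Quotient.mk_surjective, ← RingHom.ker_eq_comap_bot,
      Ideal.mk_ker] at h2
    exact h2.symm

variable [IsAdicComplete (maximalIdeal A) A]

/-- **Chevalley's lemma**. -/
theorem chevalley (𝔞 : ℕ → Ideal A) (hanti : Antitone 𝔞) (hinf : ⨅ k, 𝔞 k = ⊥) (N : ℕ) :
    ∃ k, 𝔞 k ≤ maximalIdeal A ^ N := by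
  by_contra hcon
  push_neg at hcon
  choose K hK using stabilizes_mod_pow 𝔞 hanti
  -- the stable values
  set b : ℕ → Ideal A := fun n => 𝔞 (K n) ⊔ maximalIdeal A ^ n with hb
  have hb_eq : ∀ n k, K n ≤ k → 𝔞 k ⊔ maximalIdeal A ^ n = b n := fun n k hk => hK n k hk
  have hb_pow : ∀ n, maximalIdeal A ^ n ≤ b n := fun n => le_sup_right
  have hb_le : ∀ n k, b n ≤ 𝔞 k ⊔ maximalIdeal A ^ n := by
    intro n k
    rw [← hb_eq n (max k (K n)) (le_max_right _ _)]
    exact sup_le_sup_right (hanti (le_max_left _ _)) _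
  have hb_step : ∀ n, b n ≤ b (n + 1) ⊔ maximalIdeal A ^ n := by
    intro n
    have h1 := hb_eq n (max (K n) (K (n + 1))) (le_max_left _ _)
    have h2 := hb_eq (n + 1) (max (K n) (K (n + 1))) (le_max_right _ _)
    rw [← h1, ← h2]
    exact sup_le (le_sup_of_le_left le_sup_left) le_sup_right
  -- a starting element
  obtain ⟨x0, hx0b, hx0⟩ : ∃ x0, x0 ∈ b N ∧ x0 ∉ maximalIdeal A ^ N := by
    obtain ⟨x0, hx0, hx0'⟩ := Set.not_subset.mp (hcon (K N))
    exact ⟨x0, Ideal.mem_sup_left hx0, hx0'⟩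
  -- the sequence
  have hstep : ∀ (j : ℕ) (x : {x : A // x ∈ b (N + j)}),
      ∃ y : {y : A // y ∈ b (N + (j + 1))}, y.1 - x.1 ∈ maximalIdeal A ^ (N + j) := by
    intro j x
    obtain ⟨y, hy, z, hz, hyz⟩ := Submodule.mem_sup.mp (hb_step (N + j) x.2)
    refine ⟨⟨y, hy⟩, ?_⟩
    have : y - x.1 = -z := by rw [← hyz]; ring
    rw [this]
    exact neg_mem hz
  choose next hnext using hstep
  let s : ∀ j : ℕ, {x : A // x ∈ b (N + j)} := fun j =>
    Nat.rec (motive := fun j => {x : A // x ∈ b (N + j)}) ⟨x0, hx0b⟩ (fun j x => next j x) j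
  have hs0 : (s 0).1 = x0 := rfl
  have hs_succ : ∀ j, (s (j + 1)).1 - (s j).1 ∈ maximalIdeal A ^ (N + j) := fun j => hnext j (s j)
  let f : ℕ → A := fun j => (s j).1
  -- differences
  have hdiff : ∀ j j', j ≤ j' → f j' - f j ∈ maximalIdeal A ^ (N + j) := by
    intro j j' hjj'
    induction j', hjj' using Nat.le_induction with
    | base => rw [sub_self]; exact zero_mem _
    | succ j' hj' ih =>
      have h1 : f (j' + 1) - f j = (f (j' + 1) - f j') + (f j' - f j) := by ring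
      rw [h1]
      exact add_mem (Ideal.pow_le_pow_right (by omega) (hs_succ j')) ih
  have hcauchy : ∀ {m n}, m ≤ n →
      f m ≡ f n [SMOD (maximalIdeal A ^ m • ⊤ : Submodule A A)] := by
    intro m n hmn
    rw [SModEq.sub_mem, smul_eq_mul, Ideal.mul_top]
    have := hdiff m n hmn
    have h2 : f m - f n = -(f n - f m) := by ring
    rw [h2]
    exact neg_mem (Ideal.pow_le_pow_right (by omega) this)
  obtain ⟨L, hL⟩ := IsPrecomplete.prec' (I := maximalIdeal A) f hcauchy
  have hL' : ∀ n, f n - L ∈ maximalIdeal A ^ n := by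
    intro n
    have := hL n
    rwa [SModEq.sub_mem, smul_eq_mul, Ideal.mul_top] at this
  -- `L ≡ f j` modulo `m^(N+j)`
  have hLf : ∀ j, L - f j ∈ maximalIdeal A ^ (N + j) := by
    intro j
    have h1 : L - f j = -(f (N + j) - L) + (f (N + j) - f j) := by ring
    rw [h1]
    exact add_mem (neg_mem (hL' (N + j))) (hdiff j (N + j) (by omega))
  -- `L ∈ b (N + j)`
  have hLb : ∀ j, L ∈ b (N + j) := by
    intro j
    have h1 : L = (L - f j) + f j := by ring
    rw [h1]
    exact add_mem (hb_pow _ (hLf j)) (s j).2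
  -- `L ∈ 𝔞 k` for all `k`
  have hLa : ∀ k, L ∈ 𝔞 k := by
    intro k
    apply mem_of_forall_mem_sup_pow
    intro n
    have h1 := hb_le (N + n) k (hLb n)
    have h2 : 𝔞 k ⊔ maximalIdeal A ^ (N + n) ≤ 𝔞 k ⊔ maximalIdeal A ^ n :=
      sup_le le_sup_left (le_sup_of_le_right (Ideal.pow_le_pow_right (Nat.le_add_left n N)))
    exact h2 h1
  have hL0 : L = 0 := by
    have : L ∈ ⨅ k, 𝔞 k := by
      rw [Ideal.mem_iInf]; exact hLa
    rw [hinf] at this
    exact this
  -- contradiction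
  apply hx0
  have h1 := hLf 0
  rw [hL0, zero_sub, add_zero] at h1
  have h2 : f 0 = x0 := hs0
  rw [h2] at h1
  simpa using neg_mem h1

end Groth.Agent.Lib.Helper29.Chevalley
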