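import Mathlib
import Groth.Agent.Lib.Helper28FinDescent
import Groth.Agent.Lib.Helper5LocalFlat3
import Groth.Agent.Lib.Helper29Chevalley
import Groth.Agent.Lib.Helper19Restricted2

/-!
# Helper28: the smallest flattening ideal over a complete local ring

For an `R`-module `N` and an ideal `J ⊆ R` write `F(J)` for "`(R/J) ⊗ N` is flat over `R/J`".
* `F_mono`, `F_inf`: `F` is monotone and closed under binary intersections.
* `flat_of_flat_quotient_pow`: adic local criterion of flatness (Jacobson form).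
* `F_of_forall_sup_pow`: `F(J + I^n)` for all `n` implies `F(J)`.
-/

set_option autoImplicit false
open TensorProduct IsLocalRing

namespace Groth.Agent.Lib.Helper28.Flattening

universe u

section General

variable {R : Type u} [CommRing R] (N : Type u) [AddCommGroup N] [Module R N]

/-- Transfer of "flat after base change" along an algebra map. -/
theorem flat_of_algHom {C C' : Type u} [CommRing C] [CommRing C'] [Algebra R C] [Algebra R C']
    (f : C →ₐ[R] C') (h : Module.Flat C (C ⊗[R] N)) : Module.Flat C' (C' ⊗[R] N) := by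
  letI := f.toRingHom.toAlgebra
  haveI : IsScalarTower R C C' := IsScalarTower.of_algebraMap_eq (fun x => (f.commutes x).symm)
  exact FinDescent.flat_tower_up (A := C) (B := C') N

theorem F_mono {J J' : Ideal R} (h : J ≤ J') (hJ : Module.Flat (R ⧸ J) ((R ⧸ J) ⊗[R] N)) :
    Module.Flat (R ⧸ J') ((R ⧸ J') ⊗[R] N) :=
  flat_of_algHom N (Ideal.Quotient.factorₐ R h) hJ

theorem F_inf {J₁ J₂ : Ideal R} (h₁ : Module.Flat (R ⧸ J₁) ((R ⧸ J₁) ⊗[R] N))
    (h₂ : Module.Flat (R ⧸ J₂) ((R ⧸ J₂) ⊗[R] N)) :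
    Module.Flat (R ⧸ (J₁ ⊓ J₂)) ((R ⧸ (J₁ ⊓ J₂)) ⊗[R] N) := by
  let A := R ⧸ (J₁ ⊓ J₂)
  let a : Ideal A := J₁.map (Ideal.Quotient.mk (J₁ ⊓ J₂))
  let b : Ideal A := J₂.map (Ideal.Quotient.mk (J₁ ⊓ J₂))
  have hab : a ⊓ b = ⊥ := by
    rw [eq_bot_iff]
    rintro x ⟨hx1, hx2⟩
    obtain ⟨r, rfl⟩ := Ideal.Quotient.mk_surjective x
    have h1 : r ∈ J₁ ⊔ (J₁ ⊓ J₂) := Ideal.mem_quotient_iff_mem_sup.mp hx1
    have h2 : r ∈ J₂ ⊔ (J₁ ⊓ J₂) := Ideal.mem_quotient_iff_mem_sup.mp hx2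
    rw [sup_eq_left.mpr inf_le_left] at h1
    rw [sup_eq_left.mpr inf_le_right] at h2
    exact Ideal.Quotient.eq_zero_iff_mem.mpr ⟨h1, h2⟩
  let f₁ : (R ⧸ J₁) →ₐ[R] (A ⧸ a) :=
    Ideal.Quotient.liftₐ J₁ ((Ideal.Quotient.mkₐ R a).comp (Ideal.Quotient.mkₐ R (J₁ ⊓ J₂)))
      (fun x hx => Ideal.Quotient.eq_zero_iff_mem.mpr (Ideal.mem_map_of_mem _ hx))
  let f₂ : (R ⧸ J₂) →ₐ[R] (A ⧸ b) :=
    Ideal.Quotient.liftₐ J₂ ((Ideal.Quotient.mkₐ R b).comp (Ideal.Quotient.mkₐ R (J₁ ⊓ J₂)))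
      (fun x hx => Ideal.Quotient.eq_zero_iff_mem.mpr (Ideal.mem_map_of_mem _ hx))
  haveI : Module.Flat (A ⧸ a) ((A ⧸ a) ⊗[R] N) := flat_of_algHom N f₁ h₁
  haveI : Module.Flat (A ⧸ b) ((A ⧸ b) ⊗[R] N) := flat_of_algHom N f₂ h₂
  haveI : Module.Flat (A ⧸ a) ((A ⧸ a) ⊗[A] (A ⊗[R] N)) :=
    FinDescent.flat_tower_mid (R := R) (A := A) (B := A ⧸ a) N
  haveI : Module.Flat (A ⧸ b) ((A ⧸ b) ⊗[A] (A ⊗[R] N)) :=
    FinDescent.flat_tower_mid (R := R) (A := A) (B := A ⧸ b) N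
  exact FinDescent.flat_of_inf_eq_bot a b hab (A ⊗[R] N)

end General

section LC

/-- Adic local criterion of flatness, Jacobson form. -/
theorem flat_of_flat_quotient_pow {A B : Type u} [CommRing A] [CommRing B] [Algebra A B]
    [IsNoetherianRing A] [IsNoetherianRing B]
    (M : Type u) [AddCommGroup M] [Module B M] [Module A M] [IsScalarTower A B M] [Module.Finite B M]
    (I : Ideal A) (hI : I.map (algebraMap A B) ≤ Ideal.jacobson ⊥)
    (h : ∀ n : ℕ, 0 < n → Module.Flat (A ⧸ I ^ n) ((A ⧸ I ^ n) ⊗[A] M)) : Module.Flat A M := by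
  rw [Module.Flat.iff_lTensor_injective']
  intro J
  rw [injective_iff_map_eq_zero]
  intro z hz
  obtain ⟨⟨r, hr⟩, hrz⟩ := Helper5.exists_smul_eq_self_of_lTensor_eq_zero (B := B) M I h J z hz
  have hu : IsUnit (1 - r) := by
    have := Ideal.mem_jacobson_bot.mp (hI hr) (-1)
    have h2 : r * -1 + 1 = 1 - r := by ring
    rwa [h2] at this
  have h0 : (1 - r) • z = 0 := by
    rw [sub_smul, one_smul]
    exact sub_eq_zero.mpr hrz.symm
  exact (hu.smul_eq_zero).mp h0

end LC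

section Rel

variable {R B : Type u} [CommRing R] [CommRing B] [Algebra R B]
  (N : Type u) [AddCommGroup N] [Module B N] [Module R N] [IsScalarTower R B N]

theorem smul_top_eq_restrictScalars (J : Ideal R) :
    (J • ⊤ : Submodule R N) = ((J.map (algebraMap R B)) • (⊤ : Submodule B N)).restrictScalars R := by
  apply le_antisymm
  · rw [Submodule.smul_le]
    intro r hr n _
    rw [Submodule.restrictScalars_mem, ← algebraMap_smul B r n]
    exact Submodule.smul_mem_smul (Ideal.mem_map_of_mem _ hr) trivial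
  · intro x hx
    rw [Submodule.restrictScalars_mem] at hx
    refine Submodule.smul_induction_on hx (fun b hb n _ => ?_) (fun x y hx hy => add_mem hx hy)
    -- b ∈ J.map
    have : ∀ b ∈ J.map (algebraMap R B), ∀ n : N, b • n ∈ (J • ⊤ : Submodule R N) := by
      intro b hb
      refine Submodule.span_induction (p := fun b _ => ∀ n : N, b • n ∈ (J • ⊤ : Submodule R N))
        ?_ ?_ ?_ ?_ hb
      · rintro _ ⟨r, hr, rfl⟩ n
        rw [algebraMap_smul]
        exact Submodule.smul_mem_smul hr trivial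
      · intro n; rw [zero_smul]; exact zero_mem _
      · intro x y _ _ hx hy n; rw [add_smul]; exact add_mem (hx n) (hy n)
      · intro c x _ hx n
        rw [smul_eq_mul, mul_comm, mul_smul]
        exact hx _
    exact this b hb n

theorem map_jacobson_bot_le {B B' : Type*} [CommRing B] [CommRing B'] (f : B →+* B')
    (hf : Function.Surjective f) : (Ideal.jacobson (⊥ : Ideal B)).map f ≤ Ideal.jacobson ⊥ := by
  rw [Ideal.map_le_iff_le_comap]
  intro y hy
  rw [Ideal.mem_comap, Ideal.mem_jacobson_bot]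
  intro z
  obtain ⟨z, rfl⟩ := hf z
  have := Ideal.mem_jacobson_bot.mp hy z
  rw [← map_mul, ← map_one f, ← map_add]
  exact this.map f

/-- `F(J + I^n)` for all `n > 0` implies `F(J)`, when `N` is finite over a Noetherian `R`-algebra
`B` with `IB` in the Jacobson radical. -/
theorem F_of_forall_sup_pow [IsNoetherianRing R] [IsNoetherianRing B] [Module.Finite B N]
    (I : Ideal R) (hI : I.map (algebraMap R B) ≤ Ideal.jacobson ⊥) (J : Ideal R)
    (h : ∀ n : ℕ, 0 < n → Module.Flat (R ⧸ (J ⊔ I ^ n)) ((R ⧸ (J ⊔ I ^ n)) ⊗[R] N)) :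
    Module.Flat (R ⧸ J) ((R ⧸ J) ⊗[R] N) := by
  let A := R ⧸ J
  let 𝔟 : Ideal B := J.map (algebraMap R B)
  let B' := B ⧸ 𝔟
  let M' := N ⧸ (𝔟 • ⊤ : Submodule B N)
  letI : Module A M' := Module.compHom M' (algebraMap A B')
  haveI : IsScalarTower A B' M' := ⟨fun a b m => by
    change (a • b) • m = algebraMap A B' a • (b • m)
    rw [Algebra.smul_def, mul_smul]⟩
  haveI : IsScalarTower R A M' := ⟨fun r a m => by
    change algebraMap A B' (r • a) • m = r • (algebraMap A B' a • m)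
    rw [Algebra.smul_def, map_mul, mul_smul, ← IsScalarTower.algebraMap_apply, algebraMap_smul]⟩
  haveI : IsNoetherianRing B' := inferInstance
  haveI : Module.Finite B' M' := Module.Finite.of_restrictScalars_finite B B' M'
  let e : A ⊗[R] N ≃ₗ[A] M' :=
    ((TensorProduct.quotTensorEquivQuotSMul N J) ≪≫ₗ
      (Submodule.quotEquivOfEq _ _ (smul_top_eq_restrictScalars (B := B) N J)) ≪≫ₗ
      (Submodule.Quotient.restrictScalarsEquiv R (𝔟 • ⊤ : Submodule B N))).extendScalarsOfSurjective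
        Ideal.Quotient.mk_surjective
  let I' : Ideal A := I.map (Ideal.Quotient.mk J)
  have hI' : I'.map (algebraMap A B') ≤ Ideal.jacobson ⊥ := by
    have h1 : I'.map (algebraMap A B') = (I.map (algebraMap R B)).map (Ideal.Quotient.mk 𝔟) := by
      rw [Ideal.map_map, Ideal.map_map]
      congr 1
    rw [h1]
    exact (Ideal.map_mono hI).trans (map_jacobson_bot_le _ Ideal.Quotient.mk_surjective)
  have key : Module.Flat A M' := by
    refine flat_of_flat_quotient_pow (A := A) (B := B') M' I' hI' ?_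
    intro n hn
    let f : (R ⧸ (J ⊔ I ^ n)) →ₐ[R] (A ⧸ I' ^ n) :=
      Ideal.Quotient.liftₐ (J ⊔ I ^ n) ((Ideal.Quotient.mkₐ R (I' ^ n)).comp (Ideal.Quotient.mkₐ R J))
        (fun x hx => by
          obtain ⟨j, hj, i, hi, rfl⟩ := Submodule.mem_sup.mp hx
          change Ideal.Quotient.mk (I' ^ n) (Ideal.Quotient.mk J (j + i)) = 0
          rw [map_add, Ideal.Quotient.eq_zero_iff_mem.mpr hj, zero_add,
            Ideal.Quotient.eq_zero_iff_mem, ← Ideal.map_pow]
          exact Ideal.mem_map_of_mem _ hi)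
    haveI h1 : Module.Flat (A ⧸ I' ^ n) ((A ⧸ I' ^ n) ⊗[R] N) := flat_of_algHom N f (h n hn)
    haveI h2 : Module.Flat (A ⧸ I' ^ n) ((A ⧸ I' ^ n) ⊗[A] (A ⊗[R] N)) :=
      FinDescent.flat_tower_mid (R := R) (A := A) (B := A ⧸ I' ^ n) N
    exact Module.Flat.of_linearEquiv
      (AlgebraTensorModule.congr (LinearEquiv.refl (A ⧸ I' ^ n) (A ⧸ I' ^ n)) e.symm)
  exact Module.Flat.of_linearEquiv e

end Rel

section Chev

variable {A : Type u} [CommRing A] [IsLocalRing A] [IsNoetherianRing A]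

theorem map_mk_maximalIdeal (J : Ideal A) [Nontrivial (A ⧸ J)] [IsLocalRing (A ⧸ J)] :
    (maximalIdeal A).map (Ideal.Quotient.mk J) = maximalIdeal (A ⧸ J) := by
  have hJ : J ≠ ⊤ := Ideal.Quotient.nontrivial_iff.mp inferInstance
  haveI := IsLocalHom.of_surjective (Ideal.Quotient.mk J) Ideal.Quotient.mk_surjective
  ext x
  obtain ⟨x, rfl⟩ := Ideal.Quotient.mk_surjective x
  simp [sup_eq_left.mpr (le_maximalIdeal hJ)]

/-- Chevalley's lemma, relative form. -/
theorem chevalley_rel [IsAdicComplete (maximalIdeal A) A]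
    (𝔞 : ℕ → Ideal A) (hanti : Antitone 𝔞) (N : ℕ) :
    ∃ k, 𝔞 k ≤ (⨅ k, 𝔞 k) ⊔ maximalIdeal A ^ N := by
  set J := ⨅ k, 𝔞 k with hJdef
  by_cases hJ : J = ⊤
  · exact ⟨0, by rw [hJ, top_sup_eq]; exact le_top⟩
  haveI : Nontrivial (A ⧸ J) := Ideal.Quotient.nontrivial_iff.mpr hJ
  haveI : IsLocalRing (A ⧸ J) :=
    IsLocalRing.of_surjective' (Ideal.Quotient.mk J) Ideal.Quotient.mk_surjective
  have hmax := map_mk_maximalIdeal J
  haveI : IsAdicComplete (maximalIdeal (A ⧸ J)) (A ⧸ J) :=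
    hmax ▸ Groth.Agent.Lib.Helper19.isAdicComplete_quotient_of_isNoetherianRing A (maximalIdeal A) J
  have hJle : ∀ k, J ≤ 𝔞 k := fun k => iInf_le _ k
  obtain ⟨k, hk⟩ := Groth.Agent.Lib.Helper29.Chevalley.chevalley (A := A ⧸ J)
    (fun k => (𝔞 k).map (Ideal.Quotient.mk J))
    (fun i j hij => Ideal.map_mono (hanti hij))
    (by
      rw [eq_bot_iff]
      intro x hx
      obtain ⟨r, rfl⟩ := Ideal.Quotient.mk_surjective x
      rw [Ideal.mem_iInf] at hx
      have hr : r ∈ J := by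
        rw [hJdef, Ideal.mem_iInf]
        intro k
        have h1 : r ∈ 𝔞 k ⊔ J := Ideal.mem_quotient_iff_mem_sup.mp (hx k)
        rwa [sup_eq_left.mpr (hJle k)] at h1
      exact Ideal.Quotient.eq_zero_iff_mem.mpr hr) N
  refine ⟨k, fun x hx => ?_⟩
  have h1 : Ideal.Quotient.mk J x ∈ maximalIdeal (A ⧸ J) ^ N := hk (Ideal.mem_map_of_mem _ hx)
  rw [← hmax, ← Ideal.map_pow] at h1
  have h2 := Ideal.mem_quotient_iff_mem_sup.mp h1
  rwa [sup_comm] at h2

end Chev

section Lim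

variable {R B : Type u} [CommRing R] [IsLocalRing R] [IsNoetherianRing R]
  [IsAdicComplete (maximalIdeal R) R] [CommRing B] [Algebra R B] [IsNoetherianRing B]
  (N : Type u) [AddCommGroup N] [Module B N] [Module R N] [IsScalarTower R B N] [Module.Finite B N]

theorem F_iInf_of_antitone (hI : (maximalIdeal R).map (algebraMap R B) ≤ Ideal.jacobson ⊥)
    (Js : ℕ → Ideal R) (hanti : Antitone Js)
    (h : ∀ k, Module.Flat (R ⧸ Js k) ((R ⧸ Js k) ⊗[R] N)) :
    Module.Flat (R ⧸ ⨅ k, Js k) ((R ⧸ ⨅ k, Js k) ⊗[R] N) := by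
  apply F_of_forall_sup_pow (B := B) N (maximalIdeal R) hI
  intro n _
  obtain ⟨k, hk⟩ := chevalley_rel Js hanti n
  exact F_mono N hk (h k)

end Lim

section Smallest

variable {R : Type u} [CommRing R] [IsLocalRing R] [IsNoetherianRing R]

theorem exists_le_sup_pow (P : Ideal R → Prop) (htop : P ⊤)
    (hinf : ∀ J₁ J₂, P J₁ → P J₂ → P (J₁ ⊓ J₂)) (n : ℕ) :
    ∃ J', P J' ∧ ∀ J, P J → J' ≤ J ⊔ maximalIdeal R ^ n := by
  cases n with
  | zero =>
    refine ⟨⊤, htop, fun J _ => ?_⟩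
    rw [pow_zero, Ideal.one_eq_top, sup_top_eq]
  | succ n =>
    have hmin : maximalIdeal R ∈ (maximalIdeal R ^ (n + 1)).minimalPrimes := by
      refine ⟨⟨inferInstance, Ideal.pow_le_self (Nat.succ_ne_zero n)⟩, ?_⟩
      rintro q ⟨hq, hle⟩ _
      exact hq.le_of_pow_le hle
    haveI : IsArtinianRing (R ⧸ maximalIdeal R ^ (n + 1)) :=
      IsLocalRing.quotient_artinian_of_mem_minimalPrimes_of_isLocalRing _ hmin
    let mk := Ideal.Quotient.mk (maximalIdeal R ^ (n + 1))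
    let T : Set (Ideal (R ⧸ maximalIdeal R ^ (n + 1))) := {K | ∃ J, P J ∧ K = J.map mk}
    have hT : T.Nonempty := ⟨_, ⊤, htop, rfl⟩
    obtain ⟨K, ⟨J', hJ', rfl⟩, hKmin⟩ := IsArtinian.set_has_minimal T hT
    refine ⟨J', hJ', fun J hJ => ?_⟩
    have h1 : ¬ (J ⊓ J').map mk < J'.map mk := hKmin _ ⟨_, hinf _ _ hJ hJ', rfl⟩
    have h2 : (J ⊓ J').map mk = J'.map mk := by
      by_contra hne
      exact h1 (lt_of_le_of_ne (Ideal.map_mono inf_le_right) hne)
    have h3 : J'.map mk ≤ J.map mk := h2 ▸ Ideal.map_mono inf_le_left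
    intro x hx
    have h4 : mk x ∈ J.map mk := h3 (Ideal.mem_map_of_mem _ hx)
    exact Ideal.mem_quotient_iff_mem_sup.mp h4

theorem exists_smallest (P : Ideal R → Prop) (htop : P ⊤)
    (hinf : ∀ J₁ J₂, P J₁ → P J₂ → P (J₁ ⊓ J₂))
    (hlim : ∀ Js : ℕ → Ideal R, Antitone Js → (∀ k, P (Js k)) → P (⨅ k, Js k)) :
    ∃ I, P I ∧ ∀ J, P J → I ≤ J := by
  choose J' hJ'P hJ'le using exists_le_sup_pow P htop hinf
  let Is : ℕ → Ideal R := fun k => Nat.rec (J' 0) (fun k Ik => Ik ⊓ J' (k + 1)) k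
  have hIs_succ : ∀ k, Is (k + 1) = Is k ⊓ J' (k + 1) := fun k => rfl
  have hIsP : ∀ k, P (Is k) := by
    intro k
    induction k with
    | zero => exact hJ'P 0
    | succ k ih => rw [hIs_succ]; exact hinf _ _ ih (hJ'P _)
  have hIs_le : ∀ k, Is k ≤ J' k := by
    intro k
    cases k with
    | zero => exact le_rfl
    | succ k => rw [hIs_succ]; exact inf_le_right
  have hanti : Antitone Is := antitone_nat_of_succ_le (fun k => by rw [hIs_succ]; exact inf_le_left)
  refine ⟨⨅ k, Is k, hlim Is hanti hIsP, fun J hJ x hx => ?_⟩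
  apply Groth.Agent.Lib.Helper29.Chevalley.mem_of_forall_mem_sup_pow
  intro n
  exact hJ'le n J hJ (hIs_le n ((Ideal.mem_iInf.mp hx) n))

end Smallest

end Groth.Agent.Lib.Helper28.Flattening
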