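import Mathlib
import Groth.Agent.Lib.Helper5LocalFlat2
import Groth.Agent.Lib.Helper28Flattening
import Groth.Agent.Lib.Helper3FlatLocA
import Groth.Agent.Lib.Helper3FlatDescE

/-!
# Fibrewise regular elements on flat finitely presented modules (helper28)

If `M` is a finitely presented module over a finitely presented `A`-algebra, flat over `A`, and
`a` acts injectively on every fibre `κ(p) ⊗ M`, then `a` is a nonzerodivisor on `M`.
-/

set_option autoImplicit false
open TensorProduct IsLocalRing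

namespace Groth.Agent.Lib.Helper28.FibReg

universe u

section ResidueKer

variable {A₀ : Type u} [CommRing A₀] (X₀ : Type u) [AddCommGroup X₀] [Module A₀ X₀]

/-- `p • X` dies in `κ(p) ⊗ X`. -/
theorem one_tmul_eq_zero_of_mem_smul_top (p₀ : Ideal A₀) [p₀.IsPrime] {x : X₀}
    (hx : x ∈ (p₀ • ⊤ : Submodule A₀ X₀)) : (1 : p₀.ResidueField) ⊗ₜ[A₀] x = 0 := by
  refine Submodule.smul_induction_on (p := fun y => (1 : p₀.ResidueField) ⊗ₜ[A₀] y = 0) hx
    (fun c hc x' _ => ?_) (fun x y hx hy => ?_)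
  · show (1 : p₀.ResidueField) ⊗ₜ[A₀] (c • x') = 0
    rw [← TensorProduct.smul_tmul, Algebra.smul_def, mul_one,
      Ideal.algebraMap_residueField_eq_zero.mpr hc, zero_tmul]
  · show (1 : p₀.ResidueField) ⊗ₜ[A₀] (x + y) = 0
    rw [TensorProduct.tmul_add, hx, hy, add_zero]

/-- The kernel of `X → κ(p) ⊗ X`. -/
theorem exists_smul_mem_of_one_tmul_eq_zero (p₀ : Ideal A₀) [p₀.IsPrime] {x : X₀}
    (hx : (1 : p₀.ResidueField) ⊗ₜ[A₀] x = 0) :
    ∃ t ∈ p₀.primeCompl, t • x ∈ (p₀ • ⊤ : Submodule A₀ X₀) := by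
  let D := A₀ ⧸ p₀
  let κ := p₀.ResidueField
  let e := AlgebraTensorModule.cancelBaseChange A₀ D κ κ X₀
  have h1 : (1 : κ) ⊗ₜ[D] ((1 : D) ⊗ₜ[A₀] x) = 0 := by
    apply e.injective
    rw [map_zero, AlgebraTensorModule.cancelBaseChange_tmul, one_smul]
    exact hx
  have h2 : TensorProduct.mk D κ (D ⊗[A₀] X₀) 1 ((1 : D) ⊗ₜ[A₀] x) = 0 := h1
  rw [IsLocalizedModule.eq_zero_iff (nonZeroDivisors D)] at h2
  obtain ⟨⟨d, hd⟩, hdx⟩ := h2
  obtain ⟨t, rfl⟩ := Ideal.Quotient.mk_surjective d
  refine ⟨t, ?_, ?_⟩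
  · intro ht
    have : (Ideal.Quotient.mk p₀ t) = 0 := Ideal.Quotient.eq_zero_iff_mem.mpr ht
    exact (nonZeroDivisors.ne_zero hd) this
  · rw [← LinearMap.ker_tensorProductMk, LinearMap.mem_ker]
    change (Ideal.Quotient.mk p₀ t) • ((1 : D) ⊗ₜ[A₀] x) = 0 at hdx
    show (1 : D) ⊗ₜ[A₀] (t • x) = 0
    rw [← TensorProduct.smul_tmul, Algebra.smul_def, mul_one]
    rw [TensorProduct.smul_tmul', smul_eq_mul, mul_one] at hdx
    exact hdx

end ResidueKer

section SmulTop

theorem mem_map_smul_top_iff {A : Type*} [CommRing A] {S : Type*} [CommRing S] [Algebra A S]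
    {M : Type*} [AddCommGroup M] [Module A M] [Module S M] [IsScalarTower A S M]
    (I : Ideal A) (x : M) :
    x ∈ (I.map (algebraMap A S) • ⊤ : Submodule S M) ↔ x ∈ (I • ⊤ : Submodule A M) := by
  have h := Ideal.smul_restrictScalars (S := S) I (⊤ : Submodule S M)
  rw [Submodule.restrictScalars_top] at h
  rw [← h, Submodule.restrictScalars_mem]

end SmulTop

section NoethReg

variable {A₀ P₀ : Type u} [CommRing A₀] [CommRing P₀] [Algebra A₀ P₀] [IsNoetherianRing P₀]
  (X₀ : Type u) [AddCommGroup X₀] [Module P₀ X₀] [Module A₀ X₀] [IsScalarTower A₀ P₀ X₀]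
  [Module.Finite P₀ X₀] [Module.Flat A₀ X₀]

/-- Fibrewise injectivity at `p₀ = q₀ ∩ A₀` of multiplication by `a₀` on a finite module over a
Noetherian `A₀`-algebra, flat over `A₀`, gives injectivity after localizing at `q₀`. -/
theorem exists_smul_eq_zero_of_fibre_injective (a₀ : P₀) (q₀ : Ideal P₀) [q₀.IsPrime]
    (H : Function.Injective (((LinearMap.lsmul P₀ X₀ a₀).restrictScalars A₀).lTensor
      (q₀.comap (algebraMap A₀ P₀)).ResidueField))
    (y : X₀) (hy : a₀ • y = 0) : ∃ s ∈ q₀.primeCompl, s • y = 0 := by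
  classical
  set p₀ := q₀.comap (algebraMap A₀ P₀) with hp₀
  -- consequence of `H`
  have HC : ∀ y' : X₀, a₀ • y' ∈ (p₀ • ⊤ : Submodule A₀ X₀) →
      ∃ t ∈ p₀.primeCompl, t • y' ∈ (p₀ • ⊤ : Submodule A₀ X₀) := by
    intro y' hy'
    apply exists_smul_mem_of_one_tmul_eq_zero
    apply H
    rw [map_zero, LinearMap.lTensor_tmul]
    exact one_tmul_eq_zero_of_mem_smul_top X₀ p₀ hy'
  let R₁ := Localization.AtPrime p₀
  let S₁ := Localization.AtPrime q₀
  let N₁ := LocalizedModule q₀.primeCompl X₀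
  let f := LocalizedModule.mkLinearMap q₀.primeCompl X₀
  letI : Algebra R₁ S₁ := (Localization.localRingHom p₀ q₀ (algebraMap A₀ P₀) rfl).toAlgebra
  haveI : IsLocalHom (algebraMap R₁ S₁) := Localization.isLocalHom_localRingHom _ _ _ rfl
  haveI : IsScalarTower A₀ R₁ S₁ := IsScalarTower.of_algebraMap_eq (fun x => by
    rw [IsScalarTower.algebraMap_apply A₀ P₀ S₁]
    exact (Localization.localRingHom_to_map p₀ q₀ (algebraMap A₀ P₀) rfl x).symm)
  letI : Module R₁ N₁ := Module.compHom N₁ (algebraMap R₁ S₁)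
  haveI : IsScalarTower R₁ S₁ N₁ := IsScalarTower.of_algebraMap_smul (fun r x => rfl)
  haveI : IsScalarTower A₀ R₁ N₁ := ⟨fun a r n => by
    show algebraMap R₁ S₁ (a • r) • n = a • (algebraMap R₁ S₁ r • n)
    rw [Algebra.smul_def, map_mul, ← IsScalarTower.algebraMap_apply, ← Algebra.smul_def,
      smul_assoc]⟩
  haveI : Module.Flat A₀ N₁ := Groth.Agent.Lib.Helper3.FlatLoc.flat_localizedModule_of_flat
    q₀.primeCompl
  haveI : Module.Flat R₁ N₁ :=
    (Module.flat_iff_of_isLocalization R₁ p₀.primeCompl N₁).mpr inferInstance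
  haveI : Module.Finite S₁ N₁ := inferInstance
  -- membership in `𝔪 N₁`
  have hmem : ∀ n : N₁, n ∈ (maximalIdeal R₁ • ⊤ : Submodule R₁ N₁) ↔
      ∃ m ∈ (p₀ • ⊤ : Submodule A₀ X₀), ∃ s : q₀.primeCompl,
        IsLocalizedModule.mk' f m s = n := by
    intro n
    rw [← Localization.AtPrime.map_eq_maximalIdeal,
      mem_map_smul_top_iff (S := R₁) p₀ n,
      ← mem_map_smul_top_iff (S := P₀) p₀ n]
    have h1 := Submodule.localized₀_smul q₀.primeCompl f (⊤ : Submodule P₀ X₀)
      (p₀.map (algebraMap A₀ P₀))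
    rw [Submodule.localized₀_top] at h1
    rw [← h1, Submodule.mem_localized₀]
    constructor
    · rintro ⟨m, hm, s, rfl⟩
      exact ⟨m, (mem_map_smul_top_iff (S := P₀) p₀ m).mp hm, s, rfl⟩
    · rintro ⟨m, hm, s, rfl⟩
      exact ⟨m, (mem_map_smul_top_iff (S := P₀) p₀ m).mpr hm, s, rfl⟩
  -- `p₀ X₀` is stable under `P₀`
  have hstable : ∀ (b : P₀) (m : X₀), m ∈ (p₀ • ⊤ : Submodule A₀ X₀) →
      b • m ∈ (p₀ • ⊤ : Submodule A₀ X₀) := by
    intro b m hm
    rw [← mem_map_smul_top_iff (S := P₀) p₀] at hm ⊢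
    exact Submodule.smul_mem _ b hm
  let u₁ : N₁ →ₗ[R₁] N₁ := (LinearMap.lsmul S₁ N₁ (algebraMap P₀ S₁ a₀)).restrictScalars R₁
  have hu₁ : ∀ n, u₁ n = a₀ • n := fun n => algebraMap_smul S₁ a₀ n
  have h : Function.Injective (u₁.lTensor (R₁ ⧸ maximalIdeal R₁)) := by
    rw [Groth.Agent.Lib.Helper5.lTensor_quotient_injective_iff]
    intro n hn
    obtain ⟨⟨x, s⟩, rfl⟩ := IsLocalizedModule.mk'_surjective q₀.primeCompl f n
    simp only [Function.uncurry_apply_pair] at hn ⊢
    rw [hmem] at hn ⊢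
    obtain ⟨m, hm, s', hms⟩ := hn
    rw [hu₁, ← IsLocalizedModule.mk'_smul, IsLocalizedModule.mk'_eq_mk'_iff] at hms
    obtain ⟨c, hc⟩ := hms
    have h2 : a₀ • (((c : P₀) * (s' : P₀)) • x) ∈ (p₀ • ⊤ : Submodule A₀ X₀) := by
      have : a₀ • (((c : P₀) * (s' : P₀)) • x) = ((c : P₀) * (s : P₀)) • m := by
        simp only [Submonoid.smul_def] at hc
        rw [mul_smul, mul_smul, ← hc, smul_comm a₀ (c : P₀), smul_comm a₀ (s' : P₀)]
      rw [this]
      exact hstable _ _ hm
    obtain ⟨t, ht, htx⟩ := HC _ h2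
    have htq : algebraMap A₀ P₀ t ∈ q₀.primeCompl := ht
    refine ⟨t • (((c : P₀) * (s' : P₀)) • x), htx, ⟨algebraMap A₀ P₀ t, htq⟩ * c * s' * s, ?_⟩
    rw [IsLocalizedModule.mk'_eq_mk'_iff]
    refine ⟨1, ?_⟩
    simp only [Submonoid.smul_def, Submonoid.coe_mul, one_smul]
    rw [← algebraMap_smul P₀ t, ← mul_smul, ← mul_smul]
    congr 1
    ring
  have hinj := (Groth.Agent.Lib.Helper5.injective_and_flat_of_lTensor_residue_injective
    (S := S₁) u₁ h).1
  have h0 : f y = 0 := by
    apply hinj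
    rw [map_zero, hu₁, ← map_smul, hy, map_zero]
  obtain ⟨s, hs⟩ := (IsLocalizedModule.eq_zero_iff q₀.primeCompl f).mp h0
  exact ⟨s.1, s.2, hs⟩

end NoethReg

section Descent

variable {A₀ A : Type*} [CommRing A₀] [CommRing A] [Algebra A₀ A]
  {X₀ X : Type*} [AddCommGroup X₀] [Module A₀ X₀] [AddCommGroup X] [Module A X] [Module A₀ X]
  [IsScalarTower A₀ A X]

/-- Injectivity on a fibre descends along a base change and an extension of residue fields. -/
theorem lTensor_injective_descent (g : X₀ →ₗ[A₀] X) (hg : IsBaseChange A g)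
    (φ₀ : X₀ →ₗ[A₀] X₀) (φ : X →ₗ[A] X) (hφ : ∀ x, g (φ₀ x) = φ (g x))
    (κ₀ κ : Type*) [Field κ₀] [Field κ] [Algebra A₀ κ₀] [Algebra A κ] [Algebra A₀ κ]
    [IsScalarTower A₀ A κ] [Algebra κ₀ κ] [IsScalarTower A₀ κ₀ κ]
    (h : Function.Injective (φ.lTensor κ)) : Function.Injective (φ₀.lTensor κ₀) := by
  -- the comparison isomorphism
  let Θ : κ ⊗[A₀] X₀ ≃ₗ[κ] κ ⊗[A] X :=
    (AlgebraTensorModule.cancelBaseChange A₀ A κ κ X₀).symm ≪≫ₗ
      (AlgebraTensorModule.congr (LinearEquiv.refl κ κ) hg.equiv)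
  have hΘ : ∀ (t : κ) (x : X₀), Θ (t ⊗ₜ x) = t ⊗ₜ g x := by
    intro t x
    simp [Θ, IsBaseChange.equiv_tmul]
  have hnat : ∀ z : κ ⊗[A₀] X₀, Θ (φ₀.lTensor κ z) = φ.lTensor κ (Θ z) := by
    intro z
    induction z with
    | zero => simp
    | add a b ha hb => simp only [map_add, ha, hb]
    | tmul t x => rw [LinearMap.lTensor_tmul, hΘ, hΘ, LinearMap.lTensor_tmul, hφ]
  -- the split injection `κ₀ → κ`
  let ι : κ₀ →ₗ[κ₀] κ := Algebra.linearMap κ₀ κ
  obtain ⟨r, hr⟩ := LinearMap.exists_leftInverse_of_injective ι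
    (LinearMap.ker_eq_bot.mpr (algebraMap κ₀ κ).injective)
  let ι' : κ₀ →ₗ[A₀] κ := ι.restrictScalars A₀
  let r' : κ →ₗ[A₀] κ₀ := r.restrictScalars A₀
  have hr' : r' ∘ₗ ι' = LinearMap.id := by
    ext x
    exact LinearMap.congr_fun hr x
  have hιinj : Function.Injective (ι'.rTensor X₀) := by
    apply Function.LeftInverse.injective (g := r'.rTensor X₀)
    intro z
    rw [← LinearMap.comp_apply, ← LinearMap.rTensor_comp, hr', LinearMap.rTensor_id,
      LinearMap.id_apply]
  rw [injective_iff_map_eq_zero]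
  intro z hz
  apply hιinj
  rw [map_zero]
  apply Θ.injective
  rw [map_zero]
  apply h
  rw [map_zero, ← hnat]
  have : φ₀.lTensor κ (ι'.rTensor X₀ z) = ι'.rTensor X₀ (φ₀.lTensor κ₀ z) := by
    rw [← LinearMap.comp_apply, ← LinearMap.comp_apply, LinearMap.lTensor_comp_rTensor,
      LinearMap.rTensor_comp_lTensor]
  rw [this, hz, map_zero, map_zero]

end Descent

section Model

open MvPolynomial Groth.Agent.Lib.Helper3.FlatOpen Groth.Agent.Lib.Helper3.FlatDesc
  Groth.Agent.Lib.Helper3.FlatLoc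

attribute [local instance] MvPolynomial.algebraMvPolynomial

section Stage

variable {Λ A₀ A : Type u} [CommRing Λ] [CommRing A₀] [CommRing A] [Algebra Λ A₀] [Algebra Λ A]
  [Algebra A₀ A] [IsScalarTower Λ A₀ A] {n k m : ℕ}
  [IsScalarTower (MvPolynomial (Fin n) Λ) (MvPolynomial (Fin n) A₀) (MvPolynomial (Fin n) A)]

omit [IsScalarTower Λ A₀ A] in
theorem model_stage [IsNoetherianRing A₀]
    (w : Fin m → Fin k → MvPolynomial (Fin n) Λ)
    (hflat₀ : Module.Flat A₀
      ((Fin k → MvPolynomial (Fin n) A₀) ⧸ KT w (MvPolynomial (Fin n) A₀)))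
    (a₀ : MvPolynomial (Fin n) A₀)
    (H : ∀ (p : Ideal A) [p.IsPrime], Function.Injective
      (((LinearMap.lsmul (MvPolynomial (Fin n) A)
        ((Fin k → MvPolynomial (Fin n) A) ⧸ KT w (MvPolynomial (Fin n) A))
          (algebraMap (MvPolynomial (Fin n) A₀) (MvPolynomial (Fin n) A) a₀)).restrictScalars
          A).lTensor p.ResidueField))
    (ξ₀ : (Fin k → MvPolynomial (Fin n) A₀) ⧸ KT w (MvPolynomial (Fin n) A₀))
    (hξ₀ : a₀ • ξ₀ = 0) :
    Mmap w (MvPolynomial (Fin n) A₀) (MvPolynomial (Fin n) A) ξ₀ = 0 := by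
  classical
  have hb : IsBaseChange A ((Mmap w (MvPolynomial (Fin n) A₀)
      (MvPolynomial (Fin n) A)).restrictScalars A₀) :=
    isBaseChange_restrictScalars_of_isPushout _ (isBaseChange_Mmap w _ _)
  -- for each prime of the polynomial ring
  have key : ∀ (q : Ideal (MvPolynomial (Fin n) A)) [q.IsPrime], ∃ s ∈ q.primeCompl,
      s • Mmap w (MvPolynomial (Fin n) A₀) (MvPolynomial (Fin n) A) ξ₀ = 0 := by
    intro q _
    let p : Ideal A := q.comap (algebraMap A (MvPolynomial (Fin n) A))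
    let q₀ : Ideal (MvPolynomial (Fin n) A₀) :=
      q.comap (algebraMap (MvPolynomial (Fin n) A₀) (MvPolynomial (Fin n) A))
    have hp₀ : q₀.comap (algebraMap A₀ (MvPolynomial (Fin n) A₀)) =
        p.comap (algebraMap A₀ A) := by
      rw [Ideal.comap_comap, Ideal.comap_comap, ← IsScalarTower.algebraMap_eq,
        ← IsScalarTower.algebraMap_eq]
    letI : Algebra (q₀.comap (algebraMap A₀ (MvPolynomial (Fin n) A₀))).ResidueField
        p.ResidueField :=
      (Ideal.ResidueField.map _ p (algebraMap A₀ A) hp₀).toAlgebra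
    haveI : IsScalarTower A₀ (q₀.comap (algebraMap A₀ (MvPolynomial (Fin n) A₀))).ResidueField
        p.ResidueField := IsScalarTower.of_algebraMap_eq (fun r => by
      rw [RingHom.algebraMap_toAlgebra, Ideal.ResidueField.map_algebraMap,
        ← IsScalarTower.algebraMap_apply])
    have H₀ := lTensor_injective_descent
      ((Mmap w (MvPolynomial (Fin n) A₀) (MvPolynomial (Fin n) A)).restrictScalars A₀) hb
      ((LinearMap.lsmul (MvPolynomial (Fin n) A₀) _ a₀).restrictScalars A₀)
      ((LinearMap.lsmul (MvPolynomial (Fin n) A) _ (algebraMap (MvPolynomial (Fin n) A₀)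
        (MvPolynomial (Fin n) A) a₀)).restrictScalars A)
      (fun y => by
        show Mmap w (MvPolynomial (Fin n) A₀) (MvPolynomial (Fin n) A) (a₀ • y) =
          algebraMap (MvPolynomial (Fin n) A₀) (MvPolynomial (Fin n) A) a₀ •
            Mmap w (MvPolynomial (Fin n) A₀) (MvPolynomial (Fin n) A) y
        rw [map_smul, algebraMap_smul])
      (q₀.comap (algebraMap A₀ (MvPolynomial (Fin n) A₀))).ResidueField p.ResidueField (H p)
    obtain ⟨s₀, hs₀, hs₀ξ⟩ := exists_smul_eq_zero_of_fibre_injective _ a₀ q₀ H₀ _ hξ₀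
    refine ⟨algebraMap _ _ s₀, hs₀, ?_⟩
    rw [algebraMap_smul, ← map_smul, hs₀ξ, map_zero]
  -- conclude
  by_contra hne
  let I : Ideal (MvPolynomial (Fin n) A) := LinearMap.ker (LinearMap.toSpanSingleton
    (MvPolynomial (Fin n) A) _ (Mmap w (MvPolynomial (Fin n) A₀) (MvPolynomial (Fin n) A) ξ₀))
  have hI : I ≠ ⊤ := by
    intro htop
    apply hne
    have : (1 : MvPolynomial (Fin n) A) ∈ I := by rw [htop]; trivial
    simpa [I] using this
  obtain ⟨q, hq, hle⟩ := Ideal.exists_le_maximal I hI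
  obtain ⟨s, hs, hsx⟩ := key q
  exact hs (hle (by simpa [I] using hsx))

end Stage

variable {A : Type u} [CommRing A] {n k m : ℕ}

/-- lifting a polynomial with coefficients in a subalgebra -/
theorem exists_map_eq_of_coeffs_subset {Λ : Type u} [CommRing Λ] [Algebra Λ A]
    (A₀ : Subalgebra Λ A) (f : MvPolynomial (Fin n) A) (hf : (f.coeffs : Set A) ⊆ A₀) :
    ∃ f₀ : MvPolynomial (Fin n) A₀, algebraMap (MvPolynomial (Fin n) A₀) (MvPolynomial (Fin n) A) f₀
      = f := by
  rw [MvPolynomial.algebraMap_def]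
  apply MvPolynomial.mem_range_map_iff_coeffs_subset.mpr
  intro c hc
  exact ⟨⟨c, hf hc⟩, rfl⟩

theorem isSMulRegular_model (Λ : Subalgebra ℤ A) (hΛ : Λ.FG)
    (w : Fin m → Fin k → MvPolynomial (Fin n) Λ)
    (hflat : Module.Flat A
      ((Fin k → MvPolynomial (Fin n) A) ⧸ KT w (MvPolynomial (Fin n) A)))
    (a : MvPolynomial (Fin n) A)
    (H : ∀ (p : Ideal A) [p.IsPrime], Function.Injective
      (((LinearMap.lsmul (MvPolynomial (Fin n) A)
        ((Fin k → MvPolynomial (Fin n) A) ⧸ KT w (MvPolynomial (Fin n) A)) a).restrictScalars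
          A).lTensor p.ResidueField)) :
    IsSMulRegular ((Fin k → MvPolynomial (Fin n) A) ⧸ KT w (MvPolynomial (Fin n) A)) a := by
  classical
  haveI : Algebra.FiniteType ℤ Λ := (Subalgebra.fg_iff_finiteType Λ).mp hΛ
  haveI : IsNoetherianRing Λ := Algebra.FiniteType.isNoetherianRing ℤ Λ
  rw [isSMulRegular_iff_right_eq_zero_of_smul]
  intro ξ hξ
  obtain ⟨x, rfl⟩ := Submodule.Quotient.mk_surjective _ ξ
  have hx : a • x ∈ KT w (MvPolynomial (Fin n) A) := by
    rw [← Submodule.Quotient.mk_smul, Submodule.Quotient.mk_eq_zero] at hξ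
    exact hξ
  obtain ⟨c, hc⟩ := hx
  -- the coefficients
  let extra : Finset A := a.coeffs ∪ (Finset.univ.biUnion fun i => (x i).coeffs) ∪
    (Finset.univ.biUnion fun j => (c j).coeffs)
  obtain ⟨A₀, hA₀fg, hextra, hA₀flat⟩ := exists_fg_subalgebra_flat_global w hflat extra
  haveI : Algebra.FiniteType Λ A₀ := (Subalgebra.fg_iff_finiteType A₀).mp hA₀fg
  haveI : Algebra.FiniteType ℤ A₀ := Algebra.FiniteType.trans (S := Λ) inferInstance inferInstance
  haveI : IsNoetherianRing A₀ := Algebra.FiniteType.isNoetherianRing ℤ A₀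
  haveI := isScalarTower_mvPolynomial (σ := Fin n) Λ A₀ A
  -- lifts
  obtain ⟨a₀, ha₀⟩ := exists_map_eq_of_coeffs_subset A₀ a (fun c hc => hextra (by
    simp only [extra, Finset.coe_union, Set.mem_union]
    exact Or.inl (Or.inl hc)))
  have hx₀ : ∀ i, ∃ f₀ : MvPolynomial (Fin n) A₀,
      algebraMap _ (MvPolynomial (Fin n) A) f₀ = x i := fun i =>
    exists_map_eq_of_coeffs_subset A₀ (x i) (fun c hc => hextra (by
      simp only [extra, Finset.coe_union, Set.mem_union]
      refine Or.inl (Or.inr ?_)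
      exact Finset.mem_biUnion.mpr ⟨i, Finset.mem_univ i, hc⟩))
  have hc₀ : ∀ j, ∃ f₀ : MvPolynomial (Fin n) A₀,
      algebraMap _ (MvPolynomial (Fin n) A) f₀ = c j := fun j =>
    exists_map_eq_of_coeffs_subset A₀ (c j) (fun c' hc' => hextra (by
      simp only [extra, Finset.coe_union, Set.mem_union]
      refine Or.inr ?_
      exact Finset.mem_biUnion.mpr ⟨j, Finset.mem_univ j, hc'⟩))
  choose x₀ hx₀ using hx₀
  choose c₀ hc₀ using hc₀
  have hFx : Fmap (MvPolynomial (Fin n) A₀) (MvPolynomial (Fin n) A) (Fin k) x₀ = x :=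
    funext hx₀
  have hFc : Fmap (MvPolynomial (Fin n) A₀) (MvPolynomial (Fin n) A) (Fin m) c₀ = c :=
    funext hc₀
  have hinjP : Function.Injective
      (algebraMap (MvPolynomial (Fin n) A₀) (MvPolynomial (Fin n) A)) := by
    rw [MvPolynomial.algebraMap_def]
    exact MvPolynomial.map_injective _ Subtype.val_injective
  have hrel : WT w (MvPolynomial (Fin n) A₀) c₀ = a₀ • x₀ := by
    funext i
    apply hinjP
    have h1 := congrFun (WT_Fmap w (MvPolynomial (Fin n) A₀) (MvPolynomial (Fin n) A) c₀) i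
    rw [Fmap_apply] at h1
    rw [← h1, hFc, hc, ← ha₀, ← hFx]
    simp [Fmap_apply]
  have hξ₀ : a₀ • ((KT w (MvPolynomial (Fin n) A₀)).mkQ x₀) = 0 := by
    rw [Submodule.mkQ_apply, ← Submodule.Quotient.mk_smul, Submodule.Quotient.mk_eq_zero]
    exact ⟨c₀, hrel⟩
  have H' : ∀ (p : Ideal A) [p.IsPrime], Function.Injective
      (((LinearMap.lsmul (MvPolynomial (Fin n) A)
        ((Fin k → MvPolynomial (Fin n) A) ⧸ KT w (MvPolynomial (Fin n) A))
          (algebraMap (MvPolynomial (Fin n) A₀) (MvPolynomial (Fin n) A) a₀)).restrictScalars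
          A).lTensor p.ResidueField) := by
    rw [ha₀]
    exact H
  have hfin := model_stage w hA₀flat a₀ H' _ hξ₀
  rw [Submodule.mkQ_apply, Mmap_mk, hFx] at hfin
  exact hfin

end Model

section Transport

open MvPolynomial Groth.Agent.Lib.Helper3.FlatOpen Groth.Agent.Lib.Helper3.FlatDesc
  Groth.Agent.Lib.Helper3.FlatLoc

attribute [local instance] MvPolynomial.algebraMvPolynomial

/-- Fibrewise injectivity of multiplication by `a` on a finitely presented module over a polynomial
ring, flat over the base, implies that `a` is a nonzerodivisor. -/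
theorem isSMulRegular_of_fibre_injective {A : Type u} [CommRing A] {n : ℕ} {M : Type u}
    [AddCommGroup M] [Module (MvPolynomial (Fin n) A) M] [Module A M]
    [IsScalarTower A (MvPolynomial (Fin n) A) M]
    [Module.FinitePresentation (MvPolynomial (Fin n) A) M] [Module.Flat A M]
    (a : MvPolynomial (Fin n) A)
    (H : ∀ (p : Ideal A) [p.IsPrime], Function.Injective
      (((LinearMap.lsmul (MvPolynomial (Fin n) A) M a).restrictScalars A).lTensor
        p.ResidueField)) :
    IsSMulRegular M a := by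
  obtain ⟨k, m, Λ, hΛ, w, ⟨e⟩⟩ := exists_model_equiv (R := A) (n := n) (M := M)
  have hflat : Module.Flat A
      ((Fin k → MvPolynomial (Fin n) A) ⧸ KT w (MvPolynomial (Fin n) A)) :=
    Module.Flat.of_linearEquiv (e.restrictScalars A)
  have H' : ∀ (p : Ideal A) [p.IsPrime], Function.Injective
      (((LinearMap.lsmul (MvPolynomial (Fin n) A)
        ((Fin k → MvPolynomial (Fin n) A) ⧸ KT w (MvPolynomial (Fin n) A)) a).restrictScalars
          A).lTensor p.ResidueField) := by
    intro p _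
    have hcomm : ((LinearMap.lsmul (MvPolynomial (Fin n) A) M a).restrictScalars A) ∘ₗ
        (e.restrictScalars A).toLinearMap = (e.restrictScalars A).toLinearMap ∘ₗ
        ((LinearMap.lsmul (MvPolynomial (Fin n) A)
        ((Fin k → MvPolynomial (Fin n) A) ⧸ KT w (MvPolynomial (Fin n) A)) a).restrictScalars
          A) := by
      refine LinearMap.ext (fun y => ?_)
      show a • e y = e (a • y)
      rw [map_smul]
    have h2 := congrArg (LinearMap.lTensor p.ResidueField) hcomm
    rw [LinearMap.lTensor_comp, LinearMap.lTensor_comp] at h2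
    have hinj : Function.Injective (((LinearMap.lsmul (MvPolynomial (Fin n) A) M a).restrictScalars
        A).lTensor p.ResidueField ∘ₗ
        (e.restrictScalars A).toLinearMap.lTensor p.ResidueField) := by
      rw [LinearMap.coe_comp]
      exact (H p).comp ((e.restrictScalars A).lTensor p.ResidueField).injective
    rw [h2, LinearMap.coe_comp] at hinj
    exact Function.Injective.of_comp hinj
  have hreg := isSMulRegular_model Λ hΛ w hflat a H'
  intro x y hxy
  apply e.symm.injective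
  apply hreg
  show a • e.symm x = a • e.symm y
  rw [← map_smul, ← map_smul]
  exact congrArg e.symm hxy

end Transport

section Fibre

variable {A B M : Type u} [CommRing A] [CommRing B] [Algebra A B] [AddCommGroup M] [Module B M]
  [Module A M] [IsScalarTower A B M]

/-- Regularity of `a ⊗ 1` on the fibre module gives injectivity of `a` on `κ ⊗ M`. -/
theorem lTensor_injective_of_isSMulRegular_fibre (κ : Type u) [CommRing κ] [Algebra A κ] (a : B)
    (hreg : IsSMulRegular ((B ⊗[A] κ) ⊗[B] M) (a ⊗ₜ[A] (1 : κ))) :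
    Function.Injective (((LinearMap.lsmul B M a).restrictScalars A).lTensor κ) := by
  let e₁ := TensorProduct.comm A κ M
  let e₂ := (AlgebraTensorModule.cancelBaseChange A B B M κ).symm
  let e₃ := TensorProduct.comm B M (B ⊗[A] κ)
  have hΨ : ∀ (t : κ) (m : M), e₃ (e₂ (e₁ (t ⊗ₜ m))) = ((1 : B) ⊗ₜ[A] t) ⊗ₜ[B] m := by
    intro t m
    simp [e₁, e₂, e₃]
  have hnat : ∀ z : κ ⊗[A] M,
      e₃ (e₂ (e₁ (((LinearMap.lsmul B M a).restrictScalars A).lTensor κ z))) =
      (a ⊗ₜ[A] (1 : κ)) • e₃ (e₂ (e₁ z)) := by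
    intro z
    induction z with
    | zero => simp
    | add x y hx hy => simp only [map_add, hx, hy, smul_add]
    | tmul t m =>
      rw [LinearMap.lTensor_tmul, hΨ, hΨ]
      show ((1 : B) ⊗ₜ[A] t) ⊗ₜ[B] (a • m) = _
      rw [← TensorProduct.smul_tmul, TensorProduct.smul_tmul', TensorProduct.smul_tmul',
        smul_eq_mul, mul_one, smul_eq_mul, Algebra.TensorProduct.tmul_mul_tmul, mul_one, one_mul]
  rw [injective_iff_map_eq_zero]
  intro z hz
  have h0 : e₃ (e₂ (e₁ z)) = 0 := by
    apply hreg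
    show (a ⊗ₜ[A] (1 : κ)) • e₃ (e₂ (e₁ z)) = (a ⊗ₜ[A] (1 : κ)) • 0
    rw [smul_zero, ← hnat, hz, map_zero, map_zero, map_zero]
  have h1 : e₂ (e₁ z) = 0 := e₃.injective (h0.trans (map_zero e₃).symm)
  have h2 : e₁ z = 0 := e₂.injective (h1.trans (map_zero e₂).symm)
  exact e₁.injective (h2.trans (map_zero e₁).symm)

end Fibre

section Front

/-- Fibrewise injectivity of multiplication by `a` on a finitely presented module over a finitely
presented algebra, flat over the base, implies that `a` is a nonzerodivisor. -/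
theorem isSMulRegular_of_fibres (A B M : Type u) [CommRing A] [CommRing B] [Algebra A B]
    [Algebra.FinitePresentation A B] [AddCommGroup M] [Module B M] [Module A M]
    [IsScalarTower A B M] [Module.FinitePresentation B M] [Module.Flat A M] (a : B)
    (H : ∀ (p : Ideal A) [p.IsPrime], Function.Injective
      (((LinearMap.lsmul B M a).restrictScalars A).lTensor p.ResidueField)) :
    IsSMulRegular M a := by
  obtain ⟨n, f, hf, hker⟩ := Algebra.FinitePresentation.out (R := A) (A := B)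
  letI : Algebra (MvPolynomial (Fin n) A) B := f.toRingHom.toAlgebra
  haveI : IsScalarTower A (MvPolynomial (Fin n) A) B :=
    .of_algebraMap_eq' f.comp_algebraMap.symm
  letI : Module (MvPolynomial (Fin n) A) M := Module.compHom M f.toRingHom
  haveI : IsScalarTower (MvPolynomial (Fin n) A) B M :=
    ⟨fun p s m => by
      change (f p * s) • m = f p • (s • m)
      rw [mul_smul]⟩
  haveI : IsScalarTower A (MvPolynomial (Fin n) A) M :=
    ⟨fun r p m => by
      change f (r • p) • m = r • (f p • m)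
      rw [map_smul, smul_assoc]⟩
  haveI : Module.FinitePresentation (MvPolynomial (Fin n) A) B :=
    Module.finitePresentation_of_surjective (Algebra.linearMap (MvPolynomial (Fin n) A) B) hf
      hker
  haveI : Module.FinitePresentation (MvPolynomial (Fin n) A) M :=
    Module.FinitePresentation.trans (MvPolynomial (Fin n) A) M B
  obtain ⟨a', rfl⟩ := hf a
  exact isSMulRegular_of_fibre_injective (M := M) a' (fun p _ => by
    have : ((LinearMap.lsmul (MvPolynomial (Fin n) A) M a').restrictScalars A) =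
        ((LinearMap.lsmul B M (f a')).restrictScalars A) := LinearMap.ext (fun m => rfl)
    rw [this]
    exact H p)

end Front

end Groth.Agent.Lib.Helper28.FibReg
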