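import Mathlib
import Groth.Agent.Lib.Helper28Flattening
import Groth.Agent.Lib.Helper3FlatBC
import Groth.Agent.Lib.Helper5ArtFlat

/-!
# Helper28: universal property of the flattening ideal (local Noetherian test rings)

* `rTensor_injective_iff`, `lTensor_injective_of_flat_baseChange`,
  `flat_baseChange_of_lTensor_injective`: relative flatness `Flat C (C ⊗[R] N)` in terms of
  injectivity of `N ⊗[R] Q₁ → N ⊗[R] Q₂` for `C`-modules `Q_i`.
* `lTensor_injective_of_forall_prime`: flatness at all primes over `𝔫` gives injectivity on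
  `𝔫`-torsion modules.
* `flat_localizedModule_of_isBaseChange_rel`: base change of flatness at a point, relative form.
-/

set_option autoImplicit false
open TensorProduct IsLocalRing

namespace Groth.Agent.Lib.Helper28.Flattening

universe u

section RelInj

variable {R C : Type u} [CommRing R] [CommRing C] [Algebra R C]
  (N : Type u) [AddCommGroup N] [Module R N]

theorem cancel_square {Q₁ Q₂ : Type u} [AddCommGroup Q₁] [AddCommGroup Q₂] [Module R Q₁]
    [Module R Q₂] [Module C Q₁] [Module C Q₂] [IsScalarTower R C Q₁] [IsScalarTower R C Q₂]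
    (g : Q₁ →ₗ[C] Q₂) (t : Q₁ ⊗[C] (C ⊗[R] N)) :
    ((g.restrictScalars R).rTensor N) (AlgebraTensorModule.cancelBaseChange R C C Q₁ N t) =
      AlgebraTensorModule.cancelBaseChange R C C Q₂ N (g.rTensor (C ⊗[R] N) t) := by
  induction t with
  | zero => simp
  | add a b ha hb => rw [map_add, map_add, ha, hb, map_add, map_add]
  | tmul x y =>
    induction y with
    | zero => simp
    | add a b ha hb => rw [tmul_add, map_add, map_add, ha, hb, map_add, map_add]
    | tmul c n =>
      simp only [LinearMap.rTensor_tmul, AlgebraTensorModule.cancelBaseChange_tmul,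
        LinearMap.coe_restrictScalars, map_smul]

theorem rTensor_injective_iff {Q₁ Q₂ : Type u} [AddCommGroup Q₁] [AddCommGroup Q₂] [Module R Q₁]
    [Module R Q₂] [Module C Q₁] [Module C Q₂] [IsScalarTower R C Q₁] [IsScalarTower R C Q₂]
    (g : Q₁ →ₗ[C] Q₂) :
    Function.Injective ((g.restrictScalars R).rTensor N) ↔
      Function.Injective (g.rTensor (C ⊗[R] N)) := by
  let e₁ := AlgebraTensorModule.cancelBaseChange R C C Q₁ N
  let e₂ := AlgebraTensorModule.cancelBaseChange R C C Q₂ N
  constructor
  · intro h t₁ t₂ ht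
    apply e₁.injective
    apply h
    change ((g.restrictScalars R).rTensor N) (e₁ t₁) = ((g.restrictScalars R).rTensor N) (e₁ t₂)
    rw [cancel_square, cancel_square, ht]
  · intro h t₁ t₂ ht
    obtain ⟨s₁, rfl⟩ := e₁.surjective t₁
    obtain ⟨s₂, rfl⟩ := e₁.surjective t₂
    change ((g.restrictScalars R).rTensor N) (e₁ s₁) = ((g.restrictScalars R).rTensor N) (e₁ s₂) at ht
    rw [cancel_square, cancel_square] at ht
    rw [h (e₂.injective ht)]

theorem lTensor_injective_of_flat_baseChange (h : Module.Flat C (C ⊗[R] N))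
    {Q₁ Q₂ : Type u} [AddCommGroup Q₁] [AddCommGroup Q₂] [Module R Q₁]
    [Module R Q₂] [Module C Q₁] [Module C Q₂] [IsScalarTower R C Q₁] [IsScalarTower R C Q₂]
    (g : Q₁ →ₗ[C] Q₂) (hg : Function.Injective g) :
    Function.Injective ((g.restrictScalars R).lTensor N) := by
  rw [LinearMap.lTensor_inj_iff_rTensor_inj, rTensor_injective_iff]
  exact Module.Flat.rTensor_preserves_injective_linearMap g hg

theorem flat_baseChange_of_lTensor_injective
    (h : ∀ K : Ideal C, Function.Injective ((K.subtype.restrictScalars R).lTensor N)) :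
    Module.Flat C (C ⊗[R] N) := by
  rw [Module.Flat.iff_rTensor_injective']
  intro K
  rw [← rTensor_injective_iff, ← LinearMap.lTensor_inj_iff_rTensor_inj]
  exact h K

end RelInj

section GlobInj

variable {R' S' : Type u} [CommRing R'] [CommRing S'] [Algebra R' S']
  (M' : Type u) [AddCommGroup M'] [Module S' M'] [Module R' M'] [IsScalarTower R' S' M']

/-- If `M'` is flat over `R'` at all primes of `S'` containing `𝔫 S'`, then tensoring `M'` with an
injective map out of a module killed by `𝔫` stays injective. -/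
theorem lTensor_injective_of_forall_prime (𝔫 : Ideal R')
    (h : ∀ (q' : Ideal S') [q'.IsPrime], 𝔫.map (algebraMap R' S') ≤ q' →
      Module.Flat R' (LocalizedModule q'.primeCompl M'))
    {Q₁ Q₂ : Type u} [AddCommGroup Q₁] [AddCommGroup Q₂] [Module R' Q₁] [Module R' Q₂]
    (g : Q₁ →ₗ[R'] Q₂) (hg : Function.Injective g) (hQ : ∀ r ∈ 𝔫, ∀ x : Q₁, r • x = 0) :
    Function.Injective (g.lTensor M') := by
  rw [injective_iff_map_eq_zero]
  intro z hz
  by_contra hz0
  let 𝔞 : Ideal S' := LinearMap.ker (LinearMap.toSpanSingleton S' (M' ⊗[R'] Q₁) z)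
  have h𝔞 : ∀ s : S', s ∈ 𝔞 ↔ s • z = 0 := fun s => by
    simp [𝔞, LinearMap.mem_ker]
  have hne : 𝔞 ≠ ⊤ := by
    intro htop
    have : (1 : S') ∈ 𝔞 := by rw [htop]; trivial
    rw [h𝔞, one_smul] at this
    exact hz0 this
  obtain ⟨q', hq'max, hq'⟩ := Ideal.exists_le_maximal 𝔞 hne
  haveI : q'.IsPrime := hq'max.isPrime
  have hkill : ∀ r ∈ 𝔫, ∀ w : M' ⊗[R'] Q₁, r • w = 0 := by
    intro r hr w
    induction w with
    | zero => simp
    | add a b ha hb => rw [smul_add, ha, hb, add_zero]
    | tmul m x => rw [TensorProduct.smul_tmul', TensorProduct.smul_tmul, hQ r hr x, tmul_zero]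
  have h𝔫 : 𝔫.map (algebraMap R' S') ≤ q' := by
    rw [Ideal.map_le_iff_le_comap]
    intro r hr
    apply hq'
    rw [h𝔞, algebraMap_smul]
    exact hkill r hr z
  have hflat := h q' h𝔫
  have hinj : Function.Injective (g.lTensor (LocalizedModule q'.primeCompl M')) :=
    Module.Flat.lTensor_preserves_injective_linearMap g hg
  obtain ⟨s, hs, hsz⟩ := (Groth.Agent.Lib.Helper3.FlatLoc.lTensor_localizedModule_injective_iff
    q'.primeCompl g).mp hinj z hz
  exact hs (hq' ((h𝔞 s).mpr hsz))

end GlobInj

section BCRel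

open Groth.Agent.Lib.Helper3.FlatLoc

variable {A R : Type*} [CommRing A] [CommRing R] [Algebra A R]
  {MA MR : Type*} [AddCommGroup MA] [Module A MA] [AddCommGroup MR] [Module R MR] [Module A MR]
  [IsScalarTower A R MR]
  {SA SR : Type*} [CommRing SA] [CommRing SR] [Algebra A SA] [Algebra R SR]
  [Algebra SA SR] [Module SA MA] [IsScalarTower A SA MA] [Module SR MR] [IsScalarTower R SR MR]
  [Module SA MR] [IsScalarTower SA SR MR] [IsScalarTower A SA MR]

/-- Flatness at a point after base change, from injectivity of `M_T ⊗_A I → M_T ⊗_A R` for all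
ideals `I` of `R` (which holds e.g. if `M_T` is flat over `A` modulo an ideal killed in `R`). -/
theorem flat_localizedModule_of_isBaseChange_rel (φ : MA →ₗ[SA] MR)
    (hφ : IsBaseChange R (φ.restrictScalars A)) (TA : Submonoid SA) (TR : Submonoid SR)
    (hT : ∀ s ∈ TA, algebraMap SA SR s ∈ TR)
    (h : ∀ I : Ideal R, Function.Injective
      ((I.subtype.restrictScalars A).lTensor (LocalizedModule TA MA))) :
    Module.Flat R (LocalizedModule TR MR) := by
  rw [flat_localizedModule_iff']
  intro I z' hz'
  let g : I →ₗ[A] R := I.subtype.restrictScalars A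
  have hg : Function.Injective (g.lTensor (LocalizedModule TA MA)) := h I
  have key := (lTensor_localizedModule_injective_iff TA g).mp hg
  obtain ⟨z, rfl⟩ := (bcMap_bijective (φ.restrictScalars A) hφ I).2 z'
  have nat : ∀ z : MA ⊗[A] I, bcMap (R := R) (φ.restrictScalars A) R (g.lTensor MA z) =
      I.subtype.lTensor MR (bcMap (R := R) (φ.restrictScalars A) I z) := by
    intro z
    induction z with
    | zero => simp
    | add a b ha hb => simp only [map_add, ha, hb]
    | tmul m i => rfl
  have hz : g.lTensor MA z = 0 := by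
    apply (bcMap_bijective (φ.restrictScalars A) hφ R).1
    rw [map_zero, nat, hz']
  obtain ⟨s, hs, hsz⟩ := key z hz
  refine ⟨algebraMap SA SR s, hT s hs, ?_⟩
  have comp : ∀ z : MA ⊗[A] I, bcMap (R := R) (φ.restrictScalars A) I (s • z) =
      algebraMap SA SR s • bcMap (R := R) (φ.restrictScalars A) I z := by
    intro z
    induction z with
    | zero => simp
    | add a b ha hb => simp only [smul_add, map_add, ha, hb]
    | tmul m i =>
      rw [smul_tmul', bcMap_tmul, bcMap_tmul, smul_tmul', LinearMap.coe_restrictScalars,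
        map_smul, algebraMap_smul]
  rw [← comp, hsz, map_zero]

end BCRel

section Univ

variable {R S R' S' : Type u} [CommRing R] [CommRing S] [CommRing R'] [CommRing S']
  [Algebra R S] [Algebra R R'] [Algebra S S'] [Algebra R' S'] [Algebra R S']
  [IsScalarTower R S S'] [IsScalarTower R R' S'] [Algebra.IsPushout R S R' S']
  {M M' : Type u} [AddCommGroup M] [Module S M] [Module R M] [IsScalarTower R S M]
  [AddCommGroup M'] [Module S' M'] [Module R' M'] [IsScalarTower R' S' M'] [Module S M']
  [IsScalarTower S S' M']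

/-- The `R`-module structure on `M'` through `S'`. -/
@[reducible] def moduleBase (R : Type u) {S' : Type u} [CommRing R] [CommRing S'] [Algebra R S']
    (M' : Type u) [AddCommGroup M'] [Module S' M'] : Module R M' :=
  Module.compHom M' (algebraMap R S')

theorem isBaseChange_base [Module R M'] [IsScalarTower R S' M'] [IsScalarTower R S M']
    [IsScalarTower R R' M'] (f : M →ₗ[S] M') (hf : IsBaseChange S' f) :
    IsBaseChange R' (f.restrictScalars R) := by
  haveI : Algebra.IsPushout R R' S S' := Algebra.IsPushout.symm inferInstance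
  exact Groth.Agent.Lib.Helper3.FlatLoc.isBaseChange_restrictScalars_of_isPushout
    (A := R) (R := R') (PA := S) (PR := S') f hf

theorem flatAt_of_le_ker [Module R M'] [IsScalarTower R S' M'] [IsScalarTower R S M']
    [IsScalarTower R R' M'] (f : M →ₗ[S] M') (hf : IsBaseChange S' f) (I : Ideal R)
    (hker : I ≤ RingHom.ker (algebraMap R R')) (q' : Ideal S') [q'.IsPrime]
    (q : Ideal S) [q.IsPrime] (hq : q = q'.comap (algebraMap S S'))
    (h : Module.Flat (R ⧸ I) ((R ⧸ I) ⊗[R] LocalizedModule q.primeCompl M)) :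
    Module.Flat R' (LocalizedModule q'.primeCompl M') := by
  have hφ := isBaseChange_base (R := R) (R' := R') f hf
  refine flat_localizedModule_of_isBaseChange_rel (A := R) (R := R') (SA := S) (SR := S') f hφ
    q.primeCompl q'.primeCompl ?_ ?_
  · intro s hs hmem
    apply hs
    rw [hq]
    exact hmem
  · intro K
    letI : Algebra (R ⧸ I) R' := (Ideal.Quotient.lift I (algebraMap R R')
      (fun a ha => hker ha)).toAlgebra
    haveI : IsScalarTower R (R ⧸ I) R' := IsScalarTower.of_algebraMap_eq (fun x => rfl)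
    exact lTensor_injective_of_flat_baseChange (C := R ⧸ I) (LocalizedModule q.primeCompl M) h
      (K.subtype.restrictScalars (R ⧸ I)) Subtype.val_injective

/-- Global flatness of `M' / 𝔫 M'` over `R' / 𝔫` from flatness at all primes over `𝔫`. -/
theorem flat_quotient_of_forall_prime (𝔫 : Ideal R')
    (h : ∀ (q' : Ideal S') [q'.IsPrime], 𝔫.map (algebraMap R' S') ≤ q' →
      Module.Flat R' (LocalizedModule q'.primeCompl M')) :
    Module.Flat (R' ⧸ 𝔫) ((R' ⧸ 𝔫) ⊗[R'] M') := by
  apply flat_baseChange_of_lTensor_injective (R := R') (C := R' ⧸ 𝔫) M'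
  intro 𝔟
  refine lTensor_injective_of_forall_prime M' 𝔫 h (𝔟.subtype.restrictScalars R')
    Subtype.val_injective ?_
  intro r hr x
  rw [← algebraMap_smul (R' ⧸ 𝔫) r x, Ideal.Quotient.algebraMap_eq,
    Ideal.Quotient.eq_zero_iff_mem.mpr hr, zero_smul]

theorem F_comap_of_forall_prime [IsLocalRing R] [IsNoetherianRing R] [Module R M'] [IsScalarTower R S' M']
    [IsScalarTower R S M'] [IsScalarTower R R' M']
    (f : M →ₗ[S] M') (hf : IsBaseChange S' f) (𝔫 : Ideal R')
    (hnil : ∃ n, maximalIdeal R ^ n ≤ 𝔫.comap (algebraMap R R'))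
    (h : ∀ (q' : Ideal S') [q'.IsPrime], 𝔫.map (algebraMap R' S') ≤ q' →
      Module.Flat R' (LocalizedModule q'.primeCompl M'))
    (q : Ideal S) [q.IsPrime] :
    Module.Flat (R ⧸ 𝔫.comap (algebraMap R R'))
      ((R ⧸ 𝔫.comap (algebraMap R R')) ⊗[R] LocalizedModule q.primeCompl M) := by
  set J := 𝔫.comap (algebraMap R R') with hJdef
  by_cases hJ : J = ⊤
  · haveI : Subsingleton (R ⧸ J) := Ideal.Quotient.subsingleton_iff.mpr hJ
    haveI : Subsingleton ((R ⧸ J) ⊗[R] LocalizedModule q.primeCompl M) :=
      Module.subsingleton (R ⧸ J) _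
    infer_instance
  let A := R ⧸ J
  let B := R' ⧸ 𝔫
  haveI : Nontrivial A := Ideal.Quotient.nontrivial_iff.mpr hJ
  haveI : IsLocalRing A :=
    IsLocalRing.of_surjective' (Ideal.Quotient.mk J) Ideal.Quotient.mk_surjective
  letI : Algebra A B := (Ideal.quotientMap 𝔫 (algebraMap R R') le_rfl).toAlgebra
  haveI : IsScalarTower R A B := IsScalarTower.of_algebraMap_eq (fun x => rfl)
  have hinj : Function.Injective (algebraMap A B) := Ideal.quotientMap_injective
  haveI hB : Module.Flat B (B ⊗[R'] M') := flat_quotient_of_forall_prime 𝔫 h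
  have hφ := isBaseChange_base (R := R) (R' := R') f hf
  let e : B ⊗[R] M ≃ₗ[B] B ⊗[R'] M' :=
    (AlgebraTensorModule.cancelBaseChange R R' B B M).symm ≪≫ₗ
      AlgebraTensorModule.congr (LinearEquiv.refl B B) hφ.equiv
  haveI hB2 : Module.Flat B (B ⊗[R] M) := Module.Flat.of_linearEquiv e
  haveI hB3 : Module.Flat B (B ⊗[A] (A ⊗[R] M)) :=
    FinDescent.flat_tower_mid (R := R) (A := A) (B := B) M
  have hnilA : IsNilpotent (maximalIdeal A) := by
    obtain ⟨n, hn⟩ := hnil
    refine ⟨n, ?_⟩
    rw [← map_mk_maximalIdeal J, ← Ideal.map_pow, Ideal.zero_eq_bot, Ideal.map_eq_bot_iff_le_ker,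
      Ideal.mk_ker]
    exact hn
  haveI hfree : Module.Free A (A ⊗[R] M) :=
    Groth.Agent.Lib.Helper5.free_of_flat_isBaseChange_of_injective hnilA hinj
      (TensorProduct.mk A B (A ⊗[R] M) 1) (TensorProduct.isBaseChange A (A ⊗[R] M) B)
  have hA : Module.Flat A (A ⊗[R] M) := inferInstance
  apply flat_baseChange_of_lTensor_injective (R := R) (C := A) (LocalizedModule q.primeCompl M)
  intro K
  rw [Groth.Agent.Lib.Helper3.FlatLoc.lTensor_localizedModule_injective_iff q.primeCompl]
  intro z hz
  refine ⟨1, one_mem _, ?_⟩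
  rw [one_smul]
  have hinjK := lTensor_injective_of_flat_baseChange (C := A) M hA K.subtype Subtype.val_injective
  exact hinjK (by rw [hz, map_zero])

end Univ

end Groth.Agent.Lib.Helper28.Flattening
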