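import Mathlib
import Groth.Agent.Lib.Helper28Flattening2
import Groth.Agent.Lib.Helper3FlatDescE

/-!
# Helper28: flattening ideal, universal property for arbitrary local test rings (finite type case)

Descent of "flat at all points of the closed fibre" from an arbitrary local `R`-algebra `R'` to a
Noetherian local `R`-subalgebra essentially of finite type, via helper3's presented-module models.
-/

set_option autoImplicit false
open TensorProduct IsLocalRing

namespace Groth.Agent.Lib.Helper28.Flattening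

universe u

open Groth.Agent.Lib.Helper3.FlatDesc Groth.Agent.Lib.Helper3.FlatLoc Groth.Agent.Lib.Helper3.FlatOpen

section PresA

/-- A finitely presented module is a presented module `T₀^k / KT w`, compatibly with all base
changes. -/
theorem exists_presentation_baseChange (T₀ : Type u) [CommRing T₀] (M : Type u) [AddCommGroup M]
    [Module T₀ M] [Module.FinitePresentation T₀ M] :
    ∃ (k m : ℕ) (w : Fin m → Fin k → T₀),
      ∀ (T' : Type u) [CommRing T'] [Algebra T₀ T'] (M' : Type u) [AddCommGroup M'] [Module T' M']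
        [Module T₀ M'] [IsScalarTower T₀ T' M'] (g : M →ₗ[T₀] M'), IsBaseChange T' g →
        Nonempty (((Fin k → T') ⧸ KT w T') ≃ₗ[T'] M') := by
  classical
  obtain ⟨k, m, π, g, hπ, hex⟩ := Module.FinitePresentation.exists_fin' T₀ M
  let w : Fin m → Fin k → T₀ := fun j => g (Pi.single j 1)
  have hwT : wT w T₀ = w := by
    ext j i
    rfl
  have hg : WT w T₀ = g := by
    apply LinearMap.ext
    intro a
    rw [WT_apply, hwT, LinearMap.pi_apply_eq_sum_univ g a]
    refine Finset.sum_congr rfl fun j _ => ?_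
    have hsingle : (Pi.single j 1 : Fin m → T₀) = fun j' => if j = j' then 1 else 0 := by
      funext j'
      simp [Pi.single_apply, eq_comm]
    change a j • g (Pi.single j 1) = _
    rw [hsingle]
  have hK : KT w T₀ = LinearMap.ker π := by
    rw [KT, hg]
    exact (LinearMap.exact_iff.mp hex).symm
  let e : ((Fin k → T₀) ⧸ KT w T₀) ≃ₗ[T₀] M :=
    (Submodule.quotEquivOfEq _ _ hK) ≪≫ₗ (LinearMap.quotKerEquivOfSurjective π hπ)
  refine ⟨k, m, w, ?_⟩
  intro T' _ _ M' _ _ _ _ g' hg'
  have h1 : IsBaseChange T' (Mmap w T₀ T') := isBaseChange_Mmap w T₀ T'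
  exact ⟨h1.equiv.symm ≪≫ₗ (AlgebraTensorModule.congr (LinearEquiv.refl T' T') e) ≪≫ₗ hg'.equiv⟩

end PresA

attribute [local instance] MvPolynomial.algebraMvPolynomial

section FS

variable {σ : Type*}

/-- `k₂[X]` is faithfully flat over `k₁[X]` for a field extension `k₂ / k₁`. -/
theorem faithfullyFlat_mvPolynomial_field (k₁ k₂ : Type*) [Field k₁] [Field k₂] [Algebra k₁ k₂] :
    Module.FaithfullyFlat (MvPolynomial σ k₁) (MvPolynomial σ k₂) := by
  have e : (MvPolynomial σ k₁) ⊗[k₁] k₂ ≃ₗ[MvPolynomial σ k₁] MvPolynomial σ k₂ :=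
    (Algebra.IsPushout.equiv k₁ (MvPolynomial σ k₁) k₂ (MvPolynomial σ k₂)).toLinearEquiv
  exact Module.FaithfullyFlat.of_linearEquiv _ _ e.symm

/-- Fibre surjectivity: for a local homomorphism of local rings `T₁ → T₂`, every prime of `T₁[X]`
over the maximal ideal is the contraction of a prime of `T₂[X]` over the maximal ideal. -/
theorem exists_prime_mvPolynomial_over {T₁ T₂ : Type*} [CommRing T₁] [CommRing T₂] [IsLocalRing T₁]
    [IsLocalRing T₂] [Algebra T₁ T₂] [IsLocalHom (algebraMap T₁ T₂)]
    (Q₁ : Ideal (MvPolynomial σ T₁)) [Q₁.IsPrime]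
    (hQ₁ : (maximalIdeal T₁).map (MvPolynomial.C (σ := σ)) ≤ Q₁) :
    ∃ (Q₂ : Ideal (MvPolynomial σ T₂)) (_ : Q₂.IsPrime),
      (maximalIdeal T₂).map (MvPolynomial.C (σ := σ)) ≤ Q₂ ∧
      Q₂.comap (algebraMap (MvPolynomial σ T₁) (MvPolynomial σ T₂)) = Q₁ := by
  let k₁ := ResidueField T₁
  let k₂ := ResidueField T₂
  let m₁ : MvPolynomial σ T₁ →+* MvPolynomial σ k₁ := MvPolynomial.map (residue T₁)
  let m₂ : MvPolynomial σ T₂ →+* MvPolynomial σ k₂ := MvPolynomial.map (residue T₂)
  have hm₁ : Function.Surjective m₁ := MvPolynomial.map_surjective _ (residue_surjective)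
  have hker₁ : RingHom.ker m₁ = (maximalIdeal T₁).map (MvPolynomial.C (σ := σ)) := by
    rw [MvPolynomial.ker_map, ker_residue]
  have hker₂ : RingHom.ker m₂ = (maximalIdeal T₂).map (MvPolynomial.C (σ := σ)) := by
    rw [MvPolynomial.ker_map, ker_residue]
  haveI : (Q₁.map m₁).IsPrime := Ideal.map_isPrime_of_surjective hm₁ (hker₁ ▸ hQ₁)
  have hcomap₁ : (Q₁.map m₁).comap m₁ = Q₁ := by
    rw [Ideal.comap_map_of_surjective _ hm₁, ← RingHom.ker_eq_comap_bot, hker₁]
    exact sup_eq_left.mpr hQ₁
  haveI := faithfullyFlat_mvPolynomial_field (σ := σ) k₁ k₂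
  obtain ⟨Qb, hQbp, hlies⟩ := Ideal.exists_isPrime_liesOver_of_faithfullyFlat
    (B := MvPolynomial σ k₂) (Q₁.map m₁)
  refine ⟨Qb.comap m₂, inferInstance, ?_, ?_⟩
  · rw [← hker₂, RingHom.ker_eq_comap_bot]
    exact Ideal.comap_mono bot_le
  · have hsq : m₂.comp (algebraMap (MvPolynomial σ T₁) (MvPolynomial σ T₂)) =
        (algebraMap (MvPolynomial σ k₁) (MvPolynomial σ k₂)).comp m₁ := by
      rw [MvPolynomial.algebraMap_def, MvPolynomial.algebraMap_def]
      ext <;> simp [m₁, m₂]
      rfl
    rw [Ideal.comap_comap, hsq, ← Ideal.comap_comap, ← hcomap₁]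
    congr 1
    exact (hlies.over).symm

end FS

section Model

variable {R T S ST : Type u} [CommRing R] [CommRing T] [CommRing S] [CommRing ST]
  [Algebra R T] [Algebra R S] [Algebra S ST] [Algebra T ST] [Algebra R ST]
  [IsScalarTower R S ST] [IsScalarTower R T ST] [Algebra.IsPushout R S T ST]
  {σ : Type} [Finite σ]
  [Algebra (MvPolynomial σ R) S] [IsScalarTower R (MvPolynomial σ R) S]

/-- The induced presentation `T[X] → S_T`. -/
noncomputable def psi (R T S ST : Type u) [CommRing R] [CommRing T] [CommRing S] [CommRing ST]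
    [Algebra S ST] [Algebra T ST] (σ : Type) [Algebra (MvPolynomial σ R) S] :
    MvPolynomial σ T →ₐ[T] ST :=
  MvPolynomial.aeval (fun i => algebraMap S ST (algebraMap (MvPolynomial σ R) S (MvPolynomial.X i)))

theorem psi_comp :
    (psi R T S ST σ).toRingHom.comp (algebraMap (MvPolynomial σ R) (MvPolynomial σ T)) =
      (algebraMap S ST).comp (algebraMap (MvPolynomial σ R) S) := by
  rw [MvPolynomial.algebraMap_def]
  apply MvPolynomial.ringHom_ext
  · intro r
    simp only [RingHom.comp_apply, MvPolynomial.map_C, AlgHom.toRingHom_eq_coe, RingHom.coe_coe]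
    rw [psi, MvPolynomial.aeval_C, ← IsScalarTower.algebraMap_apply R T ST,
      ← MvPolynomial.algebraMap_eq, ← IsScalarTower.algebraMap_apply R (MvPolynomial σ R) S,
      ← IsScalarTower.algebraMap_apply R S ST]
  · intro i
    simp only [RingHom.comp_apply, MvPolynomial.map_X, AlgHom.toRingHom_eq_coe, RingHom.coe_coe]
    rw [psi, MvPolynomial.aeval_X]

variable {M MT : Type u} [AddCommGroup M] [Module S M] [Module (MvPolynomial σ R) M]
  [IsScalarTower (MvPolynomial σ R) S M]
  [AddCommGroup MT] [Module ST MT] [Module S MT] [IsScalarTower S ST MT] [Module T MT]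
  [IsScalarTower T ST MT]

theorem model_flat (hπ : Function.Surjective (algebraMap (MvPolynomial σ R) S))
    (f : M →ₗ[S] MT) (hf : IsBaseChange ST f) {k m : ℕ} (w : Fin m → Fin k → MvPolynomial σ R)
    (hw : ∀ (T' : Type u) [CommRing T'] [Algebra (MvPolynomial σ R) T'] (M' : Type u)
        [AddCommGroup M'] [Module T' M'] [Module (MvPolynomial σ R) M']
        [IsScalarTower (MvPolynomial σ R) T' M'] (g : M →ₗ[MvPolynomial σ R] M'),
        IsBaseChange T' g → Nonempty (((Fin k → T') ⧸ KT w T') ≃ₗ[T'] M')) :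
    Function.Surjective (psi R T S ST σ) ∧
    (∀ (q : Ideal ST) [q.IsPrime], Module.Flat T (LocalizedModule q.primeCompl MT) ↔
      Module.Flat T (LocalizedModule (q.comap (psi R T S ST σ).toRingHom).primeCompl
        ((Fin k → MvPolynomial σ T) ⧸ KT w (MvPolynomial σ T)))) ∧
    (∀ (Q : Ideal (MvPolynomial σ T)) [Q.IsPrime], ¬ RingHom.ker (psi R T S ST σ).toRingHom ≤ Q →
      Module.Flat T (LocalizedModule Q.primeCompl
        ((Fin k → MvPolynomial σ T) ⧸ KT w (MvPolynomial σ T)))) := by
  classical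
  let ψ := psi R T S ST σ
  letI : Algebra (MvPolynomial σ T) ST := ψ.toRingHom.toAlgebra
  haveI : IsScalarTower T (MvPolynomial σ T) ST :=
    IsScalarTower.of_algebraMap_eq (fun x => (ψ.commutes x).symm)
  letI : Algebra (MvPolynomial σ R) ST :=
    ((algebraMap S ST).comp (algebraMap (MvPolynomial σ R) S)).toAlgebra
  haveI : IsScalarTower (MvPolynomial σ R) S ST := IsScalarTower.of_algebraMap_eq (fun x => rfl)
  haveI : IsScalarTower (MvPolynomial σ R) (MvPolynomial σ T) ST :=
    IsScalarTower.of_algebraMap_eq (fun x => by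
      have := congrArg (fun g => g x) (psi_comp (R := R) (T := T) (S := S) (ST := ST) (σ := σ))
      exact this.symm)
  haveI : IsScalarTower R (MvPolynomial σ T) ST := IsScalarTower.of_algebraMap_eq (fun x => by
    rw [IsScalarTower.algebraMap_apply R T ST, IsScalarTower.algebraMap_apply R T (MvPolynomial σ T),
      IsScalarTower.algebraMap_apply T (MvPolynomial σ T) ST])
  have hpo : Algebra.IsPushout (MvPolynomial σ R) S (MvPolynomial σ T) ST :=
    (Algebra.IsPushout.comp_iff R (MvPolynomial σ R) T (S' := MvPolynomial σ T) (T := S)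
      (T' := ST)).mp inferInstance
  haveI hpo' : Algebra.IsPushout (MvPolynomial σ R) (MvPolynomial σ T) S ST := hpo.symm
  -- module structures
  letI : Module (MvPolynomial σ T) MT := Module.compHom MT (algebraMap (MvPolynomial σ T) ST)
  haveI : IsScalarTower (MvPolynomial σ T) ST MT := ⟨fun p s x => by
    change (p • s) • x = algebraMap (MvPolynomial σ T) ST p • (s • x)
    rw [Algebra.smul_def, mul_smul]⟩
  letI : Module (MvPolynomial σ R) MT := Module.compHom MT (algebraMap (MvPolynomial σ R) ST)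
  haveI : IsScalarTower (MvPolynomial σ R) ST MT := ⟨fun p s x => by
    change (p • s) • x = algebraMap (MvPolynomial σ R) ST p • (s • x)
    rw [Algebra.smul_def, mul_smul]⟩
  haveI : IsScalarTower (MvPolynomial σ R) S MT := ⟨fun p s x => by
    change (p • s) • x = algebraMap (MvPolynomial σ R) ST p • (s • x)
    rw [← algebraMap_smul ST (p • s) x, ← algebraMap_smul ST s x, ← mul_smul, Algebra.smul_def,
      map_mul, ← IsScalarTower.algebraMap_apply]⟩
  haveI : IsScalarTower (MvPolynomial σ R) (MvPolynomial σ T) MT := ⟨fun p s x => by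
    change algebraMap (MvPolynomial σ T) ST (p • s) • x =
      algebraMap (MvPolynomial σ R) ST p • (algebraMap (MvPolynomial σ T) ST s • x)
    rw [← mul_smul, Algebra.smul_def, map_mul, ← IsScalarTower.algebraMap_apply]⟩
  haveI : IsScalarTower T (MvPolynomial σ T) MT := ⟨fun t p x => by
    change algebraMap (MvPolynomial σ T) ST (t • p) • x =
      t • (algebraMap (MvPolynomial σ T) ST p • x)
    rw [Algebra.smul_def, map_mul, mul_smul, ← IsScalarTower.algebraMap_apply, algebraMap_smul]⟩
  have hbc : IsBaseChange (MvPolynomial σ T) (f.restrictScalars (MvPolynomial σ R)) :=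
    isBaseChange_restrictScalars_of_isPushout (A := MvPolynomial σ R) (R := MvPolynomial σ T)
      (PA := S) (PR := ST) f hf
  obtain ⟨θ⟩ := hw (MvPolynomial σ T) MT (f.restrictScalars (MvPolynomial σ R)) hbc
  have hsurj : Function.Surjective (algebraMap (MvPolynomial σ T) ST) := by
    intro x
    have hb : IsBaseChange (MvPolynomial σ T)
        (IsScalarTower.toAlgHom (MvPolynomial σ R) S ST).toLinearMap := hpo'.out
    refine hb.inductionOn x (fun x => ∃ y, algebraMap (MvPolynomial σ T) ST y = x) ?_ ?_ ?_ ?_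
    · exact ⟨0, map_zero _⟩
    · intro s
      obtain ⟨p₀, rfl⟩ := hπ s
      refine ⟨algebraMap (MvPolynomial σ R) (MvPolynomial σ T) p₀, ?_⟩
      rw [← IsScalarTower.algebraMap_apply (MvPolynomial σ R) (MvPolynomial σ T) ST]
      rfl
    · rintro p _ ⟨y, rfl⟩
      exact ⟨p * y, by rw [map_mul, Algebra.smul_def]⟩
    · rintro _ _ ⟨y₁, rfl⟩ ⟨y₂, rfl⟩
      exact ⟨y₁ + y₂, map_add _ _ _⟩
  refine ⟨hsurj, ?_, ?_⟩
  · intro q _
    rw [← flat_localizedModule_comap_iff (R := T) (P := MvPolynomial σ T) (S := ST) (M := MT)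
      hsurj q]
    exact ⟨fun h => flat_localizedModule_of_linearEquiv (R := T) θ.symm _ h,
      fun h => flat_localizedModule_of_linearEquiv (R := T) θ _ h⟩
  · intro Q _ hQ
    obtain ⟨s, hsker, hsQ⟩ := Set.not_subset.mp hQ
    have hkill : ∀ x : (Fin k → MvPolynomial σ T) ⧸ KT w (MvPolynomial σ T), s • x = 0 := by
      intro x
      apply θ.injective
      rw [map_smul, map_zero]
      change algebraMap (MvPolynomial σ T) ST s • θ x = 0
      have : algebraMap (MvPolynomial σ T) ST s = 0 := hsker
      rw [this, zero_smul]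
    rw [flat_localizedModule_iff']
    intro I z hz
    clear hz
    refine ⟨s, hsQ, ?_⟩
    induction z with
    | zero => simp
    | add a b ha hb => rw [smul_add, ha, hb, add_zero]
    | tmul x i => rw [TensorProduct.smul_tmul', hkill, zero_tmul]

end Model

section D2

variable {Λ : Type u} [CommRing Λ]
  {σ ι κ : Type} [Finite σ] [Fintype ι] [DecidableEq ι] [Fintype κ]
  (w : κ → ι → MvPolynomial σ Λ) {R : Type u} [CommRing R] [Algebra Λ R]

/-- A finitely generated subalgebra over which the model is flat at the images of all primes in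
a compact set of primes where the model over `R` is flat. -/
theorem exists_fg_subalgebra_VA_of_isCompact [IsNoetherianRing Λ]
    (Z : Set (PrimeSpectrum (MvPolynomial σ R))) (hZ : IsCompact Z)
    (hflat : ∀ Q ∈ Z, Module.Flat R (LocalizedModule Q.asIdeal.primeCompl
      ((ι → MvPolynomial σ R) ⧸ KT w (MvPolynomial σ R)))) :
    ∃ A : Subalgebra Λ R, A.FG ∧ Z ⊆ VA w A := by
  classical
  have h1 : ∀ Q : PrimeSpectrum (MvPolynomial σ R), ∃ A : Subalgebra Λ R, A.FG ∧
      (Q ∈ Z → Q ∈ VA w A) := by
    intro Q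
    by_cases hQ : Q ∈ Z
    · obtain ⟨A, hAfg, -, hA⟩ := exists_fg_subalgebra_flat w Q.asIdeal (hflat Q hQ) ∅
      exact ⟨A, hAfg, fun _ => hA⟩
    · exact ⟨⊥, Subalgebra.fg_bot, fun h => absurd h hQ⟩
  choose AQ hAQfg hAQ using h1
  obtain ⟨t, ht⟩ := hZ.elim_finite_subcover (fun Q => VA w (AQ Q))
    (fun Q => isOpen_VA w _ (hAQfg Q)) (fun Q hQ => Set.mem_iUnion.mpr ⟨Q, hAQ Q hQ⟩)
  refine ⟨t.sup AQ, fg_finset_sup t AQ hAQfg, ?_⟩
  intro Q hQ
  obtain ⟨Q', hQ't, hQ'⟩ : ∃ Q' ∈ t, Q ∈ VA w (AQ Q') := by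
    simpa using ht hQ
  exact VA_mono w (Finset.le_sup hQ't) hQ'

end D2

section Noeth

variable {R S R' S' : Type u} [CommRing R] [IsLocalRing R] [IsNoetherianRing R]
  [CommRing S] [CommRing R'] [IsLocalRing R'] [IsNoetherianRing R'] [CommRing S']
  [Algebra R S] [Algebra R R'] [IsLocalHom (algebraMap R R')] [Algebra S S'] [Algebra R' S']
  [Algebra R S'] [IsScalarTower R S S'] [IsScalarTower R R' S'] [Algebra.IsPushout R S R' S']
  {M M' : Type u} [AddCommGroup M] [Module S M] [Module R M] [IsScalarTower R S M]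
  [AddCommGroup M'] [Module S' M'] [Module R' M'] [IsScalarTower R' S' M'] [Module S M']
  [IsScalarTower S S' M']

/-- The `⇒` half of the universal property, Noetherian local test ring. -/
theorem le_ker_of_forall_flatAt_noetherian (f : M →ₗ[S] M') (hf : IsBaseChange S' f) (I : Ideal R)
    (hmin : ∀ J : Ideal R, (∀ (q : Ideal S) [q.IsPrime],
        q.comap (algebraMap R S) = maximalIdeal R →
        Module.Flat (R ⧸ J) ((R ⧸ J) ⊗[R] LocalizedModule q.primeCompl M)) → I ≤ J)
    (hall : ∀ (q' : Ideal S') [q'.IsPrime], q'.comap (algebraMap R' S') = maximalIdeal R' →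
      Module.Flat R' (LocalizedModule q'.primeCompl M')) :
    I ≤ RingHom.ker (algebraMap R R') := by
  classical
  letI : Module R M' := Module.compHom M' (algebraMap R S')
  haveI : IsScalarTower R S' M' := ⟨fun r s m => by
    change (r • s) • m = algebraMap R S' r • (s • m)
    rw [Algebra.smul_def, mul_smul]⟩
  haveI : IsScalarTower R S M' := ⟨fun r s m => by
    change (r • s) • m = algebraMap R S' r • (s • m)
    rw [← algebraMap_smul S' (r • s) m, ← algebraMap_smul S' s m, ← mul_smul, Algebra.smul_def,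
      map_mul, ← IsScalarTower.algebraMap_apply]⟩
  haveI : IsScalarTower R R' M' := ⟨fun r s m => by
    change (r • s) • m = algebraMap R S' r • (s • m)
    rw [← algebraMap_smul S' (r • s) m, ← algebraMap_smul S' s m, ← mul_smul, Algebra.smul_def,
      map_mul, ← IsScalarTower.algebraMap_apply]⟩
  have hcomap : (maximalIdeal R').comap (algebraMap R R') = maximalIdeal R :=
    ((local_hom_TFAE (algebraMap R R')).out 0 4).mp ‹IsLocalHom (algebraMap R R')›
  have hn : ∀ n : ℕ, I ≤ (maximalIdeal R' ^ n).comap (algebraMap R R') := by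
    intro n
    apply hmin
    intro q _ _
    refine F_comap_of_forall_prime f hf (maximalIdeal R' ^ n) ⟨n, ?_⟩ ?_ q
    · rw [← Ideal.map_le_iff_le_comap, Ideal.map_pow]
      exact Ideal.pow_right_mono (Ideal.map_le_iff_le_comap.mpr hcomap.ge) n
    · intro q' _ hq'
      apply hall q'
      have h1 : maximalIdeal R' ^ n ≤ q'.comap (algebraMap R' S') :=
        Ideal.map_le_iff_le_comap.mp hq'
      have h2 : maximalIdeal R' ≤ q'.comap (algebraMap R' S') := Ideal.IsPrime.le_of_pow_le h1
      exact ((maximalIdeal.isMaximal R').eq_of_le (Ideal.IsPrime.ne_top inferInstance) h2).symm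
  intro x hx
  rw [RingHom.mem_ker]
  have hmem : algebraMap R R' x ∈ ⨅ n : ℕ, maximalIdeal R' ^ n := by
    rw [Ideal.mem_iInf]
    intro n
    exact hn n hx
  rw [Ideal.iInf_pow_eq_bot_of_isLocalRing _ (Ideal.IsPrime.ne_top inferInstance)] at hmem
  exact hmem

end Noeth

attribute [local instance] Algebra.TensorProduct.rightAlgebra

section Stage

variable {R R' : Type u} [CommRing R] [IsLocalRing R] [IsNoetherianRing R]
  [CommRing R'] [IsLocalRing R'] [Algebra R R'] [IsLocalHom (algebraMap R R')]

/-- The localization of a finitely generated subalgebra of a local `R`-algebra `R'` at the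
contraction of the maximal ideal: a Noetherian local ring between `R` and `R'`. -/
theorem exists_stage (A : Subalgebra R R') (hA : A.FG) :
    ∃ (R₁ : Type u) (_ : CommRing R₁) (_ : IsLocalRing R₁) (_ : IsNoetherianRing R₁)
      (_ : Algebra R R₁) (_ : Algebra A R₁) (_ : Algebra R₁ R') (_ : IsScalarTower R A R₁)
      (_ : IsScalarTower A R₁ R') (_ : IsScalarTower R R₁ R'),
      IsLocalHom (algebraMap R R₁) ∧ IsLocalHom (algebraMap R₁ R') := by
  classical
  let 𝔭 : Ideal A := (maximalIdeal R').comap (algebraMap A R')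
  haveI : 𝔭.IsPrime := Ideal.comap_isPrime _ _
  haveI : Algebra.FiniteType R A := (Subalgebra.fg_iff_finiteType A).mp hA
  haveI : IsNoetherianRing A := Algebra.FiniteType.isNoetherianRing R A
  let R₁ := Localization.AtPrime 𝔭
  haveI : IsNoetherianRing R₁ := IsLocalization.isNoetherianRing 𝔭.primeCompl R₁ inferInstance
  have hunit : ∀ y : 𝔭.primeCompl, IsUnit (algebraMap A R' y) := by
    intro y
    have : algebraMap A R' y ∉ maximalIdeal R' := y.2
    exact (IsLocalRing.notMem_maximalIdeal.mp this)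
  let ρ : R₁ →+* R' := IsLocalization.lift (M := 𝔭.primeCompl) (g := algebraMap A R') hunit
  letI : Algebra R₁ R' := ρ.toAlgebra
  haveI h1 : IsScalarTower A R₁ R' :=
    IsScalarTower.of_algebraMap_eq (fun a => (IsLocalization.lift_eq hunit a).symm)
  haveI h2 : IsScalarTower R R₁ R' := IsScalarTower.of_algebraMap_eq (fun r => by
    rw [IsScalarTower.algebraMap_apply R A R₁, ← IsScalarTower.algebraMap_apply A R₁ R',
      ← IsScalarTower.algebraMap_apply R A R'])
  have hloc2 : IsLocalHom (algebraMap R₁ R') := by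
    constructor
    intro x hx
    obtain ⟨⟨a, s⟩, has⟩ := IsLocalization.surj 𝔭.primeCompl x
    have h3 : IsUnit (algebraMap R₁ R' (x * algebraMap A R₁ s)) := by
      rw [map_mul]
      exact hx.mul (by rw [← IsScalarTower.algebraMap_apply A R₁ R']; exact hunit s)
    rw [has, ← IsScalarTower.algebraMap_apply A R₁ R'] at h3
    have ha : a ∈ 𝔭.primeCompl := fun hmem => (IsLocalRing.notMem_maximalIdeal.mpr h3) hmem
    have h4 : IsUnit (algebraMap A R₁ a) := IsLocalization.map_units R₁ ⟨a, ha⟩
    rw [← has] at h4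
    exact isUnit_of_mul_isUnit_left h4
  refine ⟨R₁, inferInstance, inferInstance, inferInstance, inferInstance, inferInstance,
    inferInstance, inferInstance, h1, h2, ?_, hloc2⟩
  constructor
  intro r hr
  have h5 : IsUnit (algebraMap R R' r) := by
    rw [IsScalarTower.algebraMap_apply R R₁ R']
    exact hr.map _
  exact (isUnit_map_iff (algebraMap R R') r).mp h5

end Stage

section Main

variable {R S R' S' : Type u} [CommRing R] [IsLocalRing R] [IsNoetherianRing R]
  [CommRing S] [CommRing R'] [IsLocalRing R'] [CommRing S']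
  [Algebra R S] [Algebra.FiniteType R S] [Algebra R R'] [IsLocalHom (algebraMap R R')]
  [Algebra S S'] [Algebra R' S']
  [Algebra R S'] [IsScalarTower R S S'] [IsScalarTower R R' S'] [Algebra.IsPushout R S R' S']
  {M M' : Type u} [AddCommGroup M] [Module S M] [Module R M] [IsScalarTower R S M]
  [Module.Finite S M]
  [AddCommGroup M'] [Module S' M'] [Module R' M'] [IsScalarTower R' S' M'] [Module S M']
  [IsScalarTower S S' M']

/-- The `⇒` half of the universal property, arbitrary local test ring, finite type case. -/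
theorem le_ker_of_forall_flatAt_finiteType (f : M →ₗ[S] M') (hf : IsBaseChange S' f) (I : Ideal R)
    (hmin : ∀ J : Ideal R, (∀ (q : Ideal S) [q.IsPrime],
        q.comap (algebraMap R S) = maximalIdeal R →
        Module.Flat (R ⧸ J) ((R ⧸ J) ⊗[R] LocalizedModule q.primeCompl M)) → I ≤ J)
    (hall : ∀ (q' : Ideal S') [q'.IsPrime], q'.comap (algebraMap R' S') = maximalIdeal R' →
      Module.Flat R' (LocalizedModule q'.primeCompl M')) :
    I ≤ RingHom.ker (algebraMap R R') := by
  classical
  -- Step 0: presentation of `S` and `M`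
  obtain ⟨n, π, hπ⟩ := Algebra.FiniteType.iff_quotient_mvPolynomial''.mp
    (inferInstance : Algebra.FiniteType R S)
  letI : Algebra (MvPolynomial (Fin n) R) S := π.toRingHom.toAlgebra
  haveI : IsScalarTower R (MvPolynomial (Fin n) R) S :=
    IsScalarTower.of_algebraMap_eq (fun x => (π.commutes x).symm)
  letI : Module (MvPolynomial (Fin n) R) M := Module.compHom M π.toRingHom
  haveI : IsScalarTower (MvPolynomial (Fin n) R) S M := ⟨fun p s x => by
    change (p • s) • x = π p • (s • x)
    rw [Algebra.smul_def, mul_smul]; rfl⟩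
  have hπ' : Function.Surjective (algebraMap (MvPolynomial (Fin n) R) S) := hπ
  haveI : Module.Finite (MvPolynomial (Fin n) R) S :=
    Module.Finite.of_surjective (Algebra.linearMap (MvPolynomial (Fin n) R) S) hπ'
  haveI : Module.Finite (MvPolynomial (Fin n) R) M := Module.Finite.trans S M
  haveI : Module.FinitePresentation (MvPolynomial (Fin n) R) M :=
    Module.finitePresentation_of_finite _ _
  obtain ⟨k, m, w, hw⟩ := exists_presentation_baseChange (MvPolynomial (Fin n) R) M
  -- Step 1: the model over `R'`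
  obtain ⟨hψsurj, hiff, hout⟩ := model_flat (T := R') (ST := S') hπ' f hf w hw
  let ψ := psi R R' S S' (Fin n)
  have hψsurj' : Function.Surjective ψ.toRingHom := hψsurj
  let Z : Set (PrimeSpectrum (MvPolynomial (Fin n) R')) :=
    PrimeSpectrum.zeroLocus (((maximalIdeal R').map (MvPolynomial.C (σ := Fin n)) :
      Ideal (MvPolynomial (Fin n) R')) : Set (MvPolynomial (Fin n) R'))
  have hZc : IsCompact Z := (PrimeSpectrum.isClosed_zeroLocus _).isCompact
  have hD1 : ∀ Q ∈ Z, Module.Flat R' (LocalizedModule Q.asIdeal.primeCompl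
      ((Fin k → MvPolynomial (Fin n) R') ⧸ KT w (MvPolynomial (Fin n) R'))) := by
    intro Q hQ
    have hQ' : (maximalIdeal R').map (MvPolynomial.C (σ := Fin n)) ≤ Q.asIdeal :=
      (PrimeSpectrum.mem_zeroLocus _ _).mp hQ
    by_cases hker : RingHom.ker ψ.toRingHom ≤ Q.asIdeal
    · haveI : (Q.asIdeal.map ψ.toRingHom).IsPrime :=
        Ideal.map_isPrime_of_surjective hψsurj' hker
      have hcm : (Q.asIdeal.map ψ.toRingHom).comap ψ.toRingHom = Q.asIdeal := by
        rw [Ideal.comap_map_of_surjective ψ.toRingHom hψsurj', ← RingHom.ker_eq_comap_bot]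
        exact sup_eq_left.mpr hker
      have hover : (Q.asIdeal.map ψ.toRingHom).comap (algebraMap R' S') = maximalIdeal R' := by
        have hcomp : algebraMap R' S' = ψ.toRingHom.comp (MvPolynomial.C) := by
          ext t
          exact (ψ.commutes t).symm
        rw [hcomp, ← Ideal.comap_comap, hcm]
        exact ((maximalIdeal.isMaximal R').eq_of_le (Ideal.IsPrime.ne_top inferInstance)
          (Ideal.map_le_iff_le_comap.mp hQ')).symm
      have h1 := (hiff (Q.asIdeal.map ψ.toRingHom)).mp (hall _ hover)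
      refine flat_localizedModule_of_le ?_ h1
      intro s hs hmem
      have h2 : s ∈ Ideal.comap ψ.toRingHom (Ideal.map ψ.toRingHom Q.asIdeal) := by
        rw [hcm]; exact hmem
      exact hs h2
    · exact hout Q.asIdeal hker
  -- Step 2: a finitely generated subalgebra
  obtain ⟨A, hAfg, hZA⟩ := exists_fg_subalgebra_VA_of_isCompact (Λ := R) w Z hZc hD1
  -- Step 3: the Noetherian local stage
  obtain ⟨R₁, _, _, _, _, _, _, _, _, _, hloc1, hloc2⟩ := exists_stage A hAfg
  haveI := hloc1
  haveI := hloc2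
  -- Step 4: base change to the stage
  let S₁ := S ⊗[R] R₁
  let M₁ := S₁ ⊗[S] M
  let f₁ : M →ₗ[S] M₁ := TensorProduct.mk S S₁ M 1
  have hf₁ : IsBaseChange S₁ f₁ := TensorProduct.isBaseChange S M S₁
  have hker₁ : I ≤ RingHom.ker (algebraMap R R₁) := by
    refine le_ker_of_forall_flatAt_noetherian (R' := R₁) (S' := S₁) f₁ hf₁ I hmin ?_
    obtain ⟨-, hiff₁, -⟩ := model_flat (T := R₁) (ST := S₁) hπ' f₁ hf₁ w hw
    intro q₁ _ hq₁
    rw [hiff₁ q₁]
    let ψ₁ := psi R R₁ S S₁ (Fin n)
    have hQ₁ : (maximalIdeal R₁).map (MvPolynomial.C (σ := Fin n)) ≤ q₁.comap ψ₁.toRingHom := by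
      rw [Ideal.map_le_iff_le_comap]
      intro t ht
      rw [Ideal.mem_comap, Ideal.mem_comap]
      have h1 : ψ₁.toRingHom (MvPolynomial.C t) = algebraMap R₁ S₁ t := ψ₁.commutes t
      rw [h1, ← Ideal.mem_comap, hq₁]
      exact ht
    obtain ⟨Q, hQp, hQm, hQc⟩ := exists_prime_mvPolynomial_over (T₁ := R₁) (T₂ := R')
      (q₁.comap ψ₁.toRingHom) hQ₁
    have hQZ : (⟨Q, hQp⟩ : PrimeSpectrum (MvPolynomial (Fin n) R')) ∈ Z :=
      (PrimeSpectrum.mem_zeroLocus _ _).mpr hQm
    have hVA := hZA hQZ
    change Module.Flat A (LocalizedModule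
      (Q.comap (algebraMap (MvPolynomial (Fin n) A) (MvPolynomial (Fin n) R'))).primeCompl _) at hVA
    apply flat_model_of_algebra (Λ := R) (A := A) (R := R₁) w (q₁.comap ψ₁.toRingHom)
    haveI := isScalarTower_mvPolynomial (σ := Fin n) A R₁ R'
    have heq : (q₁.comap ψ₁.toRingHom).comap
        (algebraMap (MvPolynomial (Fin n) A) (MvPolynomial (Fin n) R₁)) =
        Q.comap (algebraMap (MvPolynomial (Fin n) A) (MvPolynomial (Fin n) R')) := by
      rw [← hQc, Ideal.comap_comap, ← IsScalarTower.algebraMap_eq]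
    refine flat_localizedModule_of_le ?_ hVA
    intro s hs hmem
    exact hs (heq ▸ hmem)
  intro x hx
  have h1 := hker₁ hx
  rw [RingHom.mem_ker] at h1 ⊢
  rw [IsScalarTower.algebraMap_apply R R₁ R', h1, map_zero]

end Main

end Groth.Agent.Lib.Helper28.Flattening
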