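import Groth.Agent.Lib.Helper28DDualBC
import Groth.Agent.Lib.Helper28FibBC5

/-!
# Four-term exact sequences with projective middle terms (helper28)

For an exact sequence `0 → F → E⁰ → E¹ → G → 0` of finite modules with `E¹` projective and `G`
locally free at a prime `q`, there is a contracting homotopy up to an element `s ∉ q`; it survives
every base change, so the kernel of `B' ⊗ E⁰ → B' ⊗ E¹` is locally `B' ⊗ F`.
-/

set_option autoImplicit false
universe u v w

namespace Groth.Agent.Lib.Helper28.FourTerm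
open TensorProduct
open scoped Pointwise

section Homotopy

variable {B : Type u} [CommRing B] [IsNoetherianRing B]
  {F E0 E1 G : Type u} [AddCommGroup F] [Module B F]
  [AddCommGroup E0] [Module B E0]
  [AddCommGroup E1] [Module B E1] [Module.Finite B E1] [Module.Projective B E1]
  [AddCommGroup G] [Module B G] [Module.Finite B G]
  (f : F →ₗ[B] E0) (u : E0 →ₗ[B] E1) (v : E1 →ₗ[B] G)

/-- A section of `v` up to an element outside `q`, when `G_q` is projective. -/
theorem exists_section_up_to (hv : Function.Surjective v) (q : Ideal B) [q.IsPrime]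
    [Module.Projective (Localization.AtPrime q) (LocalizedModule q.primeCompl G)] :
    ∃ (s : B) (h2 : G →ₗ[B] E1), s ∉ q ∧ v ∘ₗ h2 = s • LinearMap.id := by
  have hvq : Function.Surjective (LocalizedModule.map q.primeCompl v) :=
    LocalizedModule.map_surjective _ _ hv
  obtain ⟨σ, hσ⟩ := Module.projective_lifting_property (LocalizedModule.map q.primeCompl v)
    LinearMap.id hvq
  have hσ' : ∀ z, LocalizedModule.map q.primeCompl v (σ z) = z := fun z => LinearMap.congr_fun hσ z
  haveI : Module.FinitePresentation B G := Module.finitePresentation_of_finite B G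
  let γ : G →ₗ[B] LocalizedModule q.primeCompl E1 :=
    (σ.restrictScalars B) ∘ₗ (LocalizedModule.mkLinearMap q.primeCompl G)
  obtain ⟨h2, t, ht⟩ := Module.FinitePresentation.exists_lift_of_isLocalizedModule q.primeCompl
    (LocalizedModule.mkLinearMap q.primeCompl E1) γ
  have ht' : ∀ g, LocalizedModule.mkLinearMap q.primeCompl E1 (h2 g) =
      t • σ (LocalizedModule.mkLinearMap q.primeCompl G g) := fun g => LinearMap.congr_fun ht g
  have hmap : ∀ m, LocalizedModule.map q.primeCompl v (LocalizedModule.mkLinearMap q.primeCompl E1 m) =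
      LocalizedModule.mkLinearMap q.primeCompl G (v m) := by
    intro m
    rw [LocalizedModule.mkLinearMap_apply, LocalizedModule.map_mk,
      LocalizedModule.mkLinearMap_apply]
  have h1 : (LocalizedModule.mkLinearMap q.primeCompl G) ∘ₗ (v ∘ₗ h2) =
      (LocalizedModule.mkLinearMap q.primeCompl G) ∘ₗ ((t : B) • LinearMap.id) := by
    ext g
    simp only [LinearMap.comp_apply, LinearMap.smul_apply, LinearMap.id_apply]
    rw [← hmap, ht', Submonoid.smul_def, LinearMap.map_smul_of_tower, hσ', map_smul]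
  obtain ⟨t', ht2⟩ := Module.Finite.exists_smul_of_comp_eq_of_isLocalizedModule q.primeCompl
    (LocalizedModule.mkLinearMap q.primeCompl G) _ _ h1
  refine ⟨(t' : B) * (t : B), (t' : B) • h2, (mul_mem t'.2 t.2), ?_⟩
  have ht3 : (t' : B) • (v ∘ₗ h2) = (t' : B) • ((t : B) • LinearMap.id) := ht2
  rw [LinearMap.comp_smul, ht3, smul_smul]

/-- A contracting homotopy up to an element outside `q`. -/
theorem exists_homotopy_up_to (hf : Function.Injective f) (hfu : Function.Exact f u)
    (huv : Function.Exact u v) (hv : Function.Surjective v) (q : Ideal B) [q.IsPrime]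
    [Module.Projective (Localization.AtPrime q) (LocalizedModule q.primeCompl G)] :
    ∃ (s : B) (h0 : E0 →ₗ[B] F) (h1 : E1 →ₗ[B] E0), s ∉ q ∧ h0 ∘ₗ f = s • LinearMap.id ∧
      f ∘ₗ h0 + h1 ∘ₗ u = s • LinearMap.id := by
  obtain ⟨s, h2, hs, hh2⟩ := exists_section_up_to v hv q
  have hh2' : ∀ g, v (h2 g) = s • g := fun g => LinearMap.congr_fun hh2 g
  -- `φ = s - h2 ∘ v` lands in `range u`
  let φ : E1 →ₗ[B] E1 := s • LinearMap.id - h2 ∘ₗ v
  have hφ : ∀ e, φ e ∈ LinearMap.range u := by
    intro e
    apply (huv (φ e)).mp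
    simp only [φ, LinearMap.sub_apply, LinearMap.smul_apply, LinearMap.id_apply,
      LinearMap.comp_apply, map_sub, map_smul, hh2', sub_self]
  obtain ⟨h1, hh1⟩ := Module.projective_lifting_property u.rangeRestrict
    (φ.codRestrict (LinearMap.range u) hφ) (LinearMap.surjective_rangeRestrict u)
  have hh1' : ∀ e, u (h1 e) = φ e := by
    intro e
    have := LinearMap.congr_fun hh1 e
    exact congrArg Subtype.val this
  -- `ψ = s - h1 ∘ u` lands in `range f`
  let ψ : E0 →ₗ[B] E0 := s • LinearMap.id - h1 ∘ₗ u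
  have huv0 : ∀ e, v (u e) = 0 := fun e => (huv (u e)).mpr ⟨e, rfl⟩
  have hfu0 : ∀ x, u (f x) = 0 := fun x => (hfu (f x)).mpr ⟨x, rfl⟩
  have hψ : ∀ e, ψ e ∈ LinearMap.range f := by
    intro e
    apply (hfu (ψ e)).mp
    simp only [ψ, φ, LinearMap.sub_apply, LinearMap.smul_apply, LinearMap.id_apply,
      LinearMap.comp_apply, map_sub, map_smul, hh1', huv0, map_zero, sub_zero, sub_self]
  let h0 : E0 →ₗ[B] F :=
    (LinearEquiv.ofInjective f hf).symm.toLinearMap ∘ₗ (ψ.codRestrict (LinearMap.range f) hψ)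
  have hfh0 : ∀ e, f (h0 e) = ψ e := by
    intro e
    have := (LinearEquiv.ofInjective f hf).apply_symm_apply (ψ.codRestrict (LinearMap.range f) hψ e)
    exact congrArg Subtype.val this
  refine ⟨s, h0, h1, hs, ?_, ?_⟩
  · ext x
    apply hf
    simp only [LinearMap.comp_apply, LinearMap.smul_apply, LinearMap.id_apply, hfh0, ψ,
      LinearMap.sub_apply, hfu0, map_zero, sub_zero, map_smul]
  · ext e
    simp only [LinearMap.add_apply, LinearMap.comp_apply, hfh0, ψ, LinearMap.sub_apply,
      LinearMap.smul_apply, LinearMap.id_apply, sub_add_cancel]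

end Homotopy

section Aux

/-- Elementwise form of `bijective_localizedModule_map_of_comp_eq_smul` for maps into a
submodule. -/
theorem bijective_localizedModule_map_of_apply_eq_smul {R : Type u} [CommRing R]
    (S : Submonoid R) {X Y₀ : Type u} [AddCommGroup X] [Module R X]
    [AddCommGroup Y₀] [Module R Y₀] (K : Submodule R Y₀) (Φ : X →ₗ[R] K) (Χ : K →ₗ[R] X) (c : R)
    (hc : c ∈ S) (h1 : ∀ x, Χ (Φ x) = c • x) (h2 : ∀ k, Φ (Χ k) = c • k) :
    Function.Bijective (LocalizedModule.map S Φ) :=
  Groth.Agent.Lib.Helper28.DDualBC.bijective_localizedModule_map_of_comp_eq_smul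
      S Φ Χ c hc (LinearMap.ext h1) (LinearMap.ext h2)

end Aux

section KerBC

variable {B B' : Type u} [CommRing B] [CommRing B'] [IsNoetherianRing B] [Algebra B B']
  {F E0 E1 G : Type u} [AddCommGroup F] [Module B F]
  [AddCommGroup E0] [Module B E0]
  [AddCommGroup E1] [Module B E1] [Module.Finite B E1] [Module.Projective B E1]
  [AddCommGroup G] [Module B G] [Module.Finite B G]
  (f : F →ₗ[B] E0) (u : E0 →ₗ[B] E1) (v : E1 →ₗ[B] G)

/-- At a prime `p'` of `B'` over a prime of `B` at which `F` and `G` are free, the kernel of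
`B' ⊗ E⁰ → B' ⊗ E¹` is free. -/
theorem free_localization_ker_baseChange (hf : Function.Injective f) (hfu : Function.Exact f u)
    (huv : Function.Exact u v) (hv : Function.Surjective v) (p' : Ideal B') [p'.IsPrime]
    (q : Ideal B) [q.IsPrime] [hlies : p'.LiesOver q]
    [Module.Free (Localization.AtPrime q) (LocalizedModule q.primeCompl F)]
    [Module.Free (Localization.AtPrime q) (LocalizedModule q.primeCompl G)] :
    Module.Free (Localization.AtPrime p')
      (LocalizedModule p'.primeCompl (LinearMap.ker (u.baseChange B'))) := by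
  obtain ⟨s, h0, h1, hs, hh0, hh⟩ := exists_homotopy_up_to f u v hf hfu huv hv q
  have hs' : algebraMap B B' s ∈ p'.primeCompl := by
    intro hmem
    apply hs
    rw [hlies.over]
    exact hmem
  have huf : u ∘ₗ f = 0 := by
    ext x
    exact (hfu (f x)).mpr ⟨x, rfl⟩
  have hu'f' : ∀ x, (u.baseChange B') ((f.baseChange B') x) = 0 := by
    intro x
    rw [← LinearMap.comp_apply, ← LinearMap.baseChange_comp, huf, LinearMap.baseChange_zero,
      LinearMap.zero_apply]
  obtain ⟨Φ, hΦ⟩ : ∃ Φ : B' ⊗[B] F →ₗ[B'] LinearMap.ker (u.baseChange B'),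
      ∀ x, (Φ x : B' ⊗[B] E0) = f.baseChange B' x :=
    ⟨(f.baseChange B').codRestrict _ (fun x => LinearMap.mem_ker.mpr (hu'f' x)), fun x => rfl⟩
  obtain ⟨Χ, hΧ⟩ : ∃ Χ : LinearMap.ker (u.baseChange B') →ₗ[B'] B' ⊗[B] F,
      ∀ k, Χ k = h0.baseChange B' (k : B' ⊗[B] E0) :=
    ⟨(h0.baseChange B') ∘ₗ (LinearMap.ker (u.baseChange B')).subtype, fun k => rfl⟩
  have hΧΦ : ∀ x, Χ (Φ x) = algebraMap B B' s • x := by
    intro x
    rw [hΧ, hΦ, ← LinearMap.comp_apply, ← LinearMap.baseChange_comp, hh0,
      LinearMap.baseChange_smul, LinearMap.baseChange_id, LinearMap.smul_apply,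
      LinearMap.id_apply, algebraMap_smul]
  have hΦΧ : ∀ k, Φ (Χ k) = algebraMap B B' s • k := by
    intro k
    refine Subtype.ext ?_
    have hk : (u.baseChange B') (k : B' ⊗[B] E0) = 0 := LinearMap.mem_ker.mp k.2
    have h3 : f ∘ₗ h0 = s • LinearMap.id - h1 ∘ₗ u := by
      rw [← hh, add_sub_cancel_right]
    rw [hΦ, hΧ, Submodule.coe_smul,
      ← LinearMap.comp_apply, ← LinearMap.baseChange_comp, h3, LinearMap.baseChange_sub,
      LinearMap.baseChange_smul, LinearMap.baseChange_id, LinearMap.baseChange_comp,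
      LinearMap.sub_apply, LinearMap.smul_apply, LinearMap.id_apply, LinearMap.comp_apply, hk,
      map_zero, sub_zero, algebraMap_smul]
  have hbij : Function.Bijective (LocalizedModule.map p'.primeCompl Φ) :=
    bijective_localizedModule_map_of_apply_eq_smul p'.primeCompl _ Φ Χ (algebraMap B B' s) hs'
      hΧΦ hΦΧ
  haveI := Groth.Agent.Lib.Helper28.DDualBC.free_localization_baseChange p' q F
  exact Module.Free.of_equiv (LinearEquiv.ofBijective (LocalizedModule.map p'.primeCompl Φ) hbij)

end KerBC

end Groth.Agent.Lib.Helper28.FourTerm
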