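import Groth.Agent.Lib.Helper28TateCLoc3
import Groth.Agent.Lib.Helper11BoschG

/-!
# Towards Gabber's flatness lemma (helper28), part 1

Noetherianity of `B[1/t]`, comparison of `B` and its completion modulo ideals `𝔟` with `B ⧸ 𝔟`
finite over the base, rigid Nullstellensatz step.
-/

set_option autoImplicit false
universe u
open AdicRing TensorProduct

namespace Groth.Agent.Lib.Helper28.Gabber

section noeth

variable (R : Type u) [CommRing R] [IsDomain R] [ValuationRing R] [Ring.KrullDimLE 1 R]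
  (t : R) (ht : t ≠ 0) [IsHausdorff (Ideal.span {t}) R]

include ht in
/-- Inverting `t` in an algebra topologically of finite type gives a Noetherian ring. -/
theorem isNoetherianRing_away (B : Type u) [CommRing B] [Algebra R B]
    (hB : TopFiniteType R (Ideal.span {t}) B) (S : Type*) [CommRing S] [Algebra B S]
    [IsLocalization.Away (algebraMap R B t) S] : IsNoetherianRing S := by
  rw [isNoetherianRing_iff_ideal_fg]
  intro 𝔞
  rw [← IsLocalization.map_comap (Submonoid.powers (algebraMap R B t)) S 𝔞]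
  apply Ideal.FG.map
  apply TateBase.fg_of_saturated R t ht B hB B
  intro x hx
  rw [Ideal.mem_comap] at hx ⊢
  rw [smul_eq_mul, map_mul] at hx
  have hu : IsUnit (algebraMap B S (algebraMap R B t)) :=
    IsLocalization.Away.algebraMap_isUnit _
  exact (Ideal.unit_mul_mem_iff_mem 𝔞 hu).mp hx

attribute [local instance] MvPolynomial.algebraMvPolynomial in
include ht in
theorem isNoetherianRing_away_mvPolynomial (n m : ℕ)
    (S : Type*) [CommRing S] [Algebra (MvPolynomial (Fin m) (RPow R (Ideal.span {t}) n)) S]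
    [IsLocalization.Away (algebraMap R (MvPolynomial (Fin m) (RPow R (Ideal.span {t}) n)) t) S] :
    IsNoetherianRing S := by
  set A₀ := RPow R (Ideal.span {t}) n with hA₀
  set τ := algebraMap R A₀ t with hτ
  have h1 : IsNoetherianRing (Localization.Away τ) :=
    isNoetherianRing_away R t ht A₀ (TateBase.topFiniteType_rPow R _ n) _
  have h2 : IsLocalization ((Submonoid.powers τ).map (MvPolynomial.C : A₀ →+* MvPolynomial (Fin m) A₀))
      (MvPolynomial (Fin m) (Localization.Away τ)) := inferInstance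
  rw [Submonoid.map_powers] at h2
  have h3 : (MvPolynomial.C τ : MvPolynomial (Fin m) A₀) = algebraMap R (MvPolynomial (Fin m) A₀) t := by
    rw [hτ, IsScalarTower.algebraMap_apply R A₀ (MvPolynomial (Fin m) A₀)]
    rfl
  rw [h3] at h2
  have e : MvPolynomial (Fin m) (Localization.Away τ) ≃+* S :=
    (IsLocalization.algEquiv (Submonoid.powers (algebraMap R (MvPolynomial (Fin m) A₀) t))
      (MvPolynomial (Fin m) (Localization.Away τ)) S).toRingEquiv
  exact isNoetherianRing_of_ringEquiv _ e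

end noeth

section approx

variable {P : Type*} [CommRing P] (J : Ideal P) (𝔟 : Ideal P)

/-- elements of `𝔟 P̂` are approximated by elements of `𝔟`. -/
theorem approx_mem_map (hJ : J.FG) (i : ℕ) (z : AdicCompletion J P)
    (hz : z ∈ 𝔟.map (algebraMap P (AdicCompletion J P))) :
    ∃ b ∈ 𝔟, z - algebraMap P (AdicCompletion J P) b ∈
      (J ^ i).map (algebraMap P (AdicCompletion J P)) := by
  have key : ∀ z, z ∈ Submodule.span (AdicCompletion J P)
      ((algebraMap P (AdicCompletion J P)) '' (𝔟 : Set P)) →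
      ∃ b ∈ 𝔟, z - algebraMap P (AdicCompletion J P) b ∈
        (J ^ i).map (algebraMap P (AdicCompletion J P)) := by
    intro z hz'
    induction hz' using Submodule.span_induction with
    | mem z hz =>
      obtain ⟨b, hb, rfl⟩ := hz
      exact ⟨b, hb, by simp⟩
    | zero => exact ⟨0, 𝔟.zero_mem, by simp⟩
    | add z w _ _ hz hw =>
      obtain ⟨b, hb, hbz⟩ := hz
      obtain ⟨c, hc, hcw⟩ := hw
      refine ⟨b + c, 𝔟.add_mem hb hc, ?_⟩
      have : z + w - algebraMap P (AdicCompletion J P) (b + c) =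
          (z - algebraMap P (AdicCompletion J P) b) +
            (w - algebraMap P (AdicCompletion J P) c) := by rw [map_add]; ring
      rw [this]
      exact Ideal.add_mem _ hbz hcw
    | smul y z _ hz =>
      obtain ⟨b, hb, hbz⟩ := hz
      obtain ⟨y₀, hy₀⟩ := TateTrunc.exists_sub_mem_map_pow J hJ i y
      refine ⟨y₀ * b, 𝔟.mul_mem_left _ hb, ?_⟩
      have : y • z - algebraMap P (AdicCompletion J P) (y₀ * b) =
          y * (z - algebraMap P (AdicCompletion J P) b) +
            (y - algebraMap P (AdicCompletion J P) y₀) * algebraMap P (AdicCompletion J P) b := by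
        rw [smul_eq_mul, map_mul]; ring
      rw [this]
      exact Ideal.add_mem _ (Ideal.mul_mem_left _ _ hbz) (Ideal.mul_mem_right _ _ hy₀)
  exact key z hz

end approx

section quot

variable (R : Type u) [CommRing R] (I : Ideal R) 
  (B : Type u) [CommRing B] [Algebra R B]
  (𝔟 : Ideal B)

/-- membership of `mk p` in `I^i • ⊤` of the quotient `B ⧸ 𝔟`. -/
theorem mk_mem_smul_top_iff (i : ℕ) (p : B) :
    (Ideal.Quotient.mk 𝔟 p) ∈ I ^ i • (⊤ : Submodule R (B ⧸ 𝔟)) ↔
      ∃ j ∈ (I.map (algebraMap R B)) ^ i, p - j ∈ 𝔟 := by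
  have h1 : I ^ i • (⊤ : Submodule R (B ⧸ 𝔟)) =
      (I ^ i • (⊤ : Submodule R B)).map ((Ideal.Quotient.mkₐ R 𝔟).toLinearMap) := by
    rw [Submodule.map_smul'', Submodule.map_top, LinearMap.range_eq_top.mpr]
    exact Ideal.Quotient.mk_surjective
  have h2 : ∀ j : B, j ∈ I ^ i • (⊤ : Submodule R B) ↔ j ∈ (I.map (algebraMap R B)) ^ i := by
    intro j
    rw [Ideal.smul_top_eq_map, ← Ideal.map_pow]
    rfl
  rw [h1, Submodule.mem_map]
  constructor
  · rintro ⟨j, hj, hjp⟩
    refine ⟨j, (h2 j).mp hj, ?_⟩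
    have : Ideal.Quotient.mk 𝔟 j = Ideal.Quotient.mk 𝔟 p := hjp
    rw [← Ideal.Quotient.eq, this]
  · rintro ⟨j, hj, hpj⟩
    refine ⟨j, (h2 j).mpr hj, ?_⟩
    change Ideal.Quotient.mk 𝔟 j = Ideal.Quotient.mk 𝔟 p
    rw [eq_comm, Ideal.Quotient.eq]
    exact hpj

end quot

section integral

variable (R : Type u) [CommRing R] (I : Ideal R) (hR : IsBase R I)
  (A₀ : Type u) [CommRing A₀] [Algebra R A₀] (hA₀ : TopFiniteType R I A₀)
  (B : Type u) [CommRing B] [Algebra R B] [Algebra A₀ B] [IsScalarTower R A₀ B]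
  (𝔟 : Ideal B) [Module.Finite A₀ (B ⧸ 𝔟)]

include hR hA₀ in
theorem mem_of_algebraMap_mem_map (p : B)
    (hp : algebraMap B (AdicCompletion (I.map (algebraMap R B)) B) p ∈
      𝔟.map (algebraMap B (AdicCompletion (I.map (algebraMap R B)) B))) : p ∈ 𝔟 := by
  have hI := TateCLoc.isBase_fg R I hR
  have hJ : (I.map (algebraMap R B)).FG := hI.map _
  have hc : IsAdicComplete I (B ⧸ 𝔟) := Groth.Agent.S11529.result R I hR A₀ hA₀ (B ⧸ 𝔟)
  rw [← Ideal.Quotient.eq_zero_iff_mem]
  apply hc.toIsHausdorff.haus'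
  intro i
  rw [SModEq.zero, mk_mem_smul_top_iff]
  obtain ⟨b, hb, hbz⟩ := approx_mem_map _ 𝔟 hJ i _ hp
  rw [← map_sub] at hbz
  have := TateTrunc.mem_pow_of_algebraMap_mem _ hJ i (p - b) hbz
  exact ⟨p - b, this, by simpa using hb⟩

include hR hA₀ in
theorem exists_sub_mem_map [Algebra.FiniteType A₀ B]
    (y : AdicCompletion (I.map (algebraMap R B)) B) :
    ∃ p : B, y - algebraMap B (AdicCompletion (I.map (algebraMap R B)) B) p ∈
      𝔟.map (algebraMap B (AdicCompletion (I.map (algebraMap R B)) B)) := by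
  have hI := TateCLoc.isBase_fg R I hR
  have hJ : (I.map (algebraMap R B)).FG := hI.map _
  have hc : IsAdicComplete I (B ⧸ 𝔟) := Groth.Agent.S11529.result R I hR A₀ hA₀ (B ⧸ 𝔟)
  choose p hp using fun i => TateTrunc.exists_sub_mem_map_pow _ hJ i y
  have hcauchy : ∀ {m n : ℕ}, m ≤ n → Ideal.Quotient.mk 𝔟 (p m) ≡ Ideal.Quotient.mk 𝔟 (p n)
      [SMOD I ^ m • (⊤ : Submodule R (B ⧸ 𝔟))] := by
    intro m n hmn
    rw [SModEq.sub_mem, ← map_sub, mk_mem_smul_top_iff]
    refine ⟨p m - p n, ?_, by simp⟩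
    apply TateTrunc.mem_pow_of_algebraMap_mem _ hJ m
    have : algebraMap B (AdicCompletion (I.map (algebraMap R B)) B) (p m - p n) =
        (y - algebraMap B _ (p n)) - (y - algebraMap B _ (p m)) := by
      rw [map_sub]; ring
    rw [this]
    exact Ideal.sub_mem _ (Ideal.map_mono (Ideal.pow_le_pow_right hmn) (hp n)) (hp m)
  obtain ⟨L, hL⟩ := hc.toIsPrecomplete.prec' _ hcauchy
  obtain ⟨q, rfl⟩ := Ideal.Quotient.mk_surjective L
  refine ⟨q, ?_⟩
  have hBc := TateCLoc.topFiniteType_completion R I A₀ B hI hA₀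
  have hH : IsHausdorff (I.map (algebraMap R (AdicCompletion (I.map (algebraMap R B)) B)))
      (AdicCompletion (I.map (algebraMap R B)) B ⧸
        𝔟.map (algebraMap B (AdicCompletion (I.map (algebraMap R B)) B))) :=
    TateFlat.isHausdorff_map R I hR _ hBc _
  rw [← Ideal.Quotient.eq_zero_iff_mem]
  apply hH.haus'
  intro i
  rw [SModEq.zero]
  have h1 := hL i
  rw [SModEq.sub_mem, ← map_sub, mk_mem_smul_top_iff] at h1
  obtain ⟨j, hj, hjb⟩ := h1
  set ι := algebraMap B (AdicCompletion (I.map (algebraMap R B)) B) with hι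
  have h2 : Ideal.Quotient.mk (𝔟.map ι) (y - ι q) =
      ((y - ι (p i)) + ι j) • (1 : AdicCompletion (I.map (algebraMap R B)) B ⧸ 𝔟.map ι) := by
    rw [Algebra.smul_def, mul_one, Ideal.Quotient.algebraMap_eq, eq_comm, ← sub_eq_zero,
      ← map_sub, Ideal.Quotient.eq_zero_iff_mem]
    have : y - ι (p i) + ι j - (y - ι q) = - ι (p i - q - j) := by
      simp only [map_sub]; ring
    rw [this, neg_mem_iff]
    exact Ideal.mem_map_of_mem _ hjb
  rw [h2]
  refine Submodule.smul_mem_smul ?_ Submodule.mem_top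
  rw [← TateCLoc.map_completion_eq, ← Ideal.map_pow]
  exact Ideal.add_mem _ (hp i) (Ideal.mem_map_of_mem _ hj)

end integral

section loc

variable {B : Type*} [CommRing B] {Bh : Type*} [CommRing Bh] [Algebra B Bh]
  (π : B)
  (S : Type*) [CommRing S] [Algebra B S] [IsLocalization.Away π S]
  (S' : Type*) [CommRing S'] [Algebra Bh S'] [IsLocalization.Away (algebraMap B Bh π) S']
  [Algebra S S'] [Algebra B S'] [IsScalarTower B S S'] [IsScalarTower B Bh S']
  (𝔟 : Ideal B)

omit [IsLocalization.Away π S] [IsLocalization.Away (algebraMap B Bh π) S'] in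
theorem map_map_eq :
    (𝔟.map (algebraMap B S)).map (algebraMap S S') =
      (𝔟.map (algebraMap B Bh)).map (algebraMap Bh S') := by
  rw [Ideal.map_map, Ideal.map_map, ← IsScalarTower.algebraMap_eq, ← IsScalarTower.algebraMap_eq]

omit [IsLocalization.Away π S] [IsLocalization.Away (algebraMap B Bh π) S'] in
theorem algebraMap_comm (p : B) :
    algebraMap Bh S' (algebraMap B Bh p) = algebraMap S S' (algebraMap B S p) := by
  rw [← IsScalarTower.algebraMap_apply B Bh S', IsScalarTower.algebraMap_apply B S S']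

include π in
theorem loc_surj
    (hsurj : ∀ y : Bh, ∃ p : B, y - algebraMap B Bh p ∈ 𝔟.map (algebraMap B Bh)) (y : S') :
    ∃ x : S, y - algebraMap S S' x ∈ (𝔟.map (algebraMap B S)).map (algebraMap S S') := by
  obtain ⟨yh, ⟨_, a, rfl⟩, rfl⟩ :=
    IsLocalization.exists_mk'_eq (Submonoid.powers (algebraMap B Bh π)) y
  obtain ⟨p, hp⟩ := hsurj yh
  refine ⟨IsLocalization.mk' S p (⟨π ^ a, a, rfl⟩ : Submonoid.powers π), ?_⟩
  have hu : IsUnit (algebraMap Bh S' ((algebraMap B Bh π) ^ a)) := by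
    rw [map_pow]
    exact (IsLocalization.Away.algebraMap_isUnit _).pow a
  rw [← Ideal.mul_unit_mem_iff_mem _ hu, map_map_eq (Bh := Bh) S S' 𝔟, sub_mul]
  have h0 : IsLocalization.mk' S' yh
      (⟨(algebraMap B Bh π) ^ a, a, rfl⟩ : Submonoid.powers (algebraMap B Bh π)) *
      algebraMap Bh S' ((algebraMap B Bh π) ^ a) = algebraMap Bh S' yh :=
    IsLocalization.mk'_spec S' yh _
  have h1 : algebraMap S S' (IsLocalization.mk' S p (⟨π ^ a, a, rfl⟩ : Submonoid.powers π)) *
      algebraMap Bh S' ((algebraMap B Bh π) ^ a) = algebraMap Bh S' (algebraMap B Bh p) := by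
    rw [← map_pow, algebraMap_comm (Bh := Bh) S S', ← map_mul, algebraMap_comm (Bh := Bh) S S']
    congr 1
    exact IsLocalization.mk'_spec S p (⟨π ^ a, a, rfl⟩ : Submonoid.powers π)
  rw [h1]
  erw [h0]
  rw [← map_sub]
  exact Ideal.mem_map_of_mem _ hp

include π in
theorem loc_inj
    (hinj : ∀ p : B, algebraMap B Bh p ∈ 𝔟.map (algebraMap B Bh) → p ∈ 𝔟) (x : S)
    (hx : algebraMap S S' x ∈ (𝔟.map (algebraMap B S)).map (algebraMap S S')) :
    x ∈ 𝔟.map (algebraMap B S) := by
  obtain ⟨p, ⟨_, a, rfl⟩, rfl⟩ := IsLocalization.exists_mk'_eq (Submonoid.powers π) x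
  have huS : ∀ k : ℕ, IsUnit (algebraMap B S (π ^ k)) := by
    intro k
    rw [map_pow]
    exact (IsLocalization.Away.algebraMap_isUnit π).pow k
  rw [← Ideal.mul_unit_mem_iff_mem _ (huS a)]
  erw [IsLocalization.mk'_spec S p _]
  -- now show `algebraMap B S p ∈ 𝔟 S`
  rw [map_map_eq (Bh := Bh) S S' 𝔟] at hx
  have h1 : algebraMap Bh S' (algebraMap B Bh p) ∈
      (𝔟.map (algebraMap B Bh)).map (algebraMap Bh S') := by
    rw [algebraMap_comm (Bh := Bh) S S']
    have h2 : algebraMap B S p = IsLocalization.mk' S p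
        (⟨π ^ a, a, rfl⟩ : Submonoid.powers π) * algebraMap B S (π ^ a) :=
      (IsLocalization.mk'_spec S p (⟨π ^ a, a, rfl⟩ : Submonoid.powers π)).symm
    rw [h2, map_mul]
    exact Ideal.mul_mem_right _ _ hx
  rw [IsLocalization.mem_map_algebraMap_iff (Submonoid.powers (algebraMap B Bh π)) S'] at h1
  obtain ⟨⟨⟨c, hc⟩, ⟨_, k, rfl⟩⟩, hck⟩ := h1
  simp only at hck
  rw [← map_mul, IsLocalization.eq_iff_exists (Submonoid.powers (algebraMap B Bh π)) S'] at hck
  obtain ⟨⟨_, l, rfl⟩, hl⟩ := hck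
  simp only at hl
  have h3 : algebraMap B Bh (π ^ l * (p * π ^ k)) ∈ 𝔟.map (algebraMap B Bh) := by
    rw [map_mul, map_mul, map_pow, map_pow, hl]
    exact Ideal.mul_mem_left _ _ hc
  have h4 := hinj _ h3
  have h5 : algebraMap B S p * algebraMap B S (π ^ (l + k)) ∈ 𝔟.map (algebraMap B S) := by
    rw [← map_mul]
    apply Ideal.mem_map_of_mem
    have : p * π ^ (l + k) = π ^ l * (p * π ^ k) := by ring
    rw [this]
    exact h4
  exact (Ideal.mul_unit_mem_iff_mem _ (huS (l + k))).mp h5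

end loc

section NS

variable (R : Type u) [CommRing R] [IsDomain R] [ValuationRing R] [Ring.KrullDimLE 1 R]
  (t : R) (ht : t ≠ 0) [IsAdicComplete (Ideal.span {t}) R]
  (E : Type u) [CommRing E] [Algebra R E] (hE : TopFiniteType R (Ideal.span {t}) E)
  (S' : Type*) [CommRing S'] [Algebra E S'] [IsLocalization.Away (algebraMap R E t) S']

include ht hE in
/-- rigid Nullstellensatz: modulo a maximal ideal of `E[1/t]` every element of `E` is integral
over `R`. -/
theorem exists_monic_mem_maximal (𝔫 : Ideal S') [h𝔫 : 𝔫.IsMaximal] (b : E) :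
    ∃ g : Polynomial R, g.Monic ∧ algebraMap E S' (Polynomial.aeval b g) ∈ 𝔫 := by
  set 𝔭 := 𝔫.comap (algebraMap E S') with h𝔭
  have hprime : 𝔭.IsPrime := Ideal.comap_isPrime _ _
  have hu : IsUnit (algebraMap E S' (algebraMap R E t)) :=
    IsLocalization.Away.algebraMap_isUnit _
  have htD : algebraMap R (E ⧸ 𝔭) t ≠ 0 := by
    rw [IsScalarTower.algebraMap_apply R E (E ⧸ 𝔭), Ideal.Quotient.algebraMap_eq, Ne,
      Ideal.Quotient.eq_zero_iff_mem, h𝔭, Ideal.mem_comap]
    intro hmem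
    exact h𝔫.ne_top (Ideal.eq_top_of_isUnit_mem _ hmem hu)
  have hD : TopFiniteType R (Ideal.span {t}) (E ⧸ 𝔭) := by
    obtain ⟨n, φ, hφ⟩ := hE
    exact ⟨n, (Ideal.Quotient.mkₐ R 𝔭).comp φ,
      (Ideal.Quotient.mkₐ_surjective R 𝔭).comp hφ⟩
  have hF : ∀ x : E ⧸ 𝔭, x ≠ 0 → ∃ (y : E ⧸ 𝔭) (k : ℕ),
      x * y = algebraMap R (E ⧸ 𝔭) t ^ k := by
    intro xb hxb
    obtain ⟨x, rfl⟩ := Ideal.Quotient.mk_surjective xb
    have hx : algebraMap E S' x ∉ 𝔫 := by
      intro hmem
      exact hxb (Ideal.Quotient.eq_zero_iff_mem.mpr hmem)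
    obtain ⟨z, i, hi, hzi⟩ := Ideal.IsMaximal.exists_inv h𝔫 hx
    obtain ⟨zh, ⟨_, k, rfl⟩, rfl⟩ :=
      IsLocalization.exists_mk'_eq (Submonoid.powers (algebraMap R E t)) z
    refine ⟨Ideal.Quotient.mk 𝔭 zh, k, ?_⟩
    rw [IsScalarTower.algebraMap_apply R E (E ⧸ 𝔭), Ideal.Quotient.algebraMap_eq, ← map_pow,
      ← map_mul, Ideal.Quotient.eq, h𝔭, Ideal.mem_comap]
    have hspec : IsLocalization.mk' S' zh
        (⟨(algebraMap R E t) ^ k, k, rfl⟩ : Submonoid.powers (algebraMap R E t)) *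
        algebraMap E S' ((algebraMap R E t) ^ k) = algebraMap E S' zh :=
      IsLocalization.mk'_spec S' zh _
    have h2 : algebraMap E S' (x * zh - (algebraMap R E t) ^ k) =
        - (i * algebraMap E S' ((algebraMap R E t) ^ k)) := by
      have h3 := congrArg (fun w => w * algebraMap E S' ((algebraMap R E t) ^ k)) hzi
      simp only [add_mul, one_mul] at h3
      rw [mul_right_comm] at h3
      erw [hspec] at h3
      rw [map_sub, map_mul]
      linear_combination h3
    rw [h2, neg_mem_iff]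
    exact Ideal.mul_mem_right _ _ hi
  have hfin := Groth.Agent.Lib.Helper11.Bosch.finite_of_localization_isField R t ht (E ⧸ 𝔭) hD htD hF
  have hint : IsIntegral R (Ideal.Quotient.mk 𝔭 b) := Algebra.IsIntegral.isIntegral _
  obtain ⟨g, hg, hg0⟩ := hint
  refine ⟨g, hg, ?_⟩
  rw [← Polynomial.aeval_def] at hg0
  have h1 : Polynomial.aeval (Ideal.Quotient.mk 𝔭 b) g =
      Ideal.Quotient.mk 𝔭 (Polynomial.aeval b g) := by
    have := Polynomial.aeval_algHom_apply (Ideal.Quotient.mkₐ R 𝔭) b g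
    simpa using this
  rw [h1, Ideal.Quotient.eq_zero_iff_mem] at hg0
  exact hg0

end NS

section fin

variable (R : Type u) [CommRing R] (A₀ : Type u) [CommRing A₀] [Algebra R A₀] (m : ℕ)
  (g : Fin m → Polynomial R)

/-- the ideal of `A₀[ζ]` generated by the `g_j(ζ_j)` -/
noncomputable def bIdeal : Ideal (MvPolynomial (Fin m) A₀) :=
  Ideal.span (Set.range fun j => Polynomial.aeval (MvPolynomial.X j : MvPolynomial (Fin m) A₀) (g j))

theorem finite_quot_pow (hg : ∀ j, (g j).Monic) (k : ℕ) :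
    Module.Finite A₀ (MvPolynomial (Fin m) A₀ ⧸ (bIdeal R A₀ m g) ^ k) := by
  set Q := MvPolynomial (Fin m) A₀ ⧸ (bIdeal R A₀ m g) ^ k with hQ
  have hft : Algebra.FiniteType A₀ Q :=
    Algebra.FiniteType.of_surjective (Ideal.Quotient.mkₐ A₀ _)
      (Ideal.Quotient.mkₐ_surjective A₀ _)
  have hX : ∀ j, IsIntegral A₀ (Ideal.Quotient.mk ((bIdeal R A₀ m g) ^ k)
      (MvPolynomial.X j : MvPolynomial (Fin m) A₀)) := by
    intro j
    refine ⟨((g j).map (algebraMap R A₀)) ^ k, ((hg j).map _).pow k, ?_⟩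
    rw [← Polynomial.aeval_def, map_pow, Polynomial.aeval_map_algebraMap]
    have h1 : Polynomial.aeval (Ideal.Quotient.mk ((bIdeal R A₀ m g) ^ k)
        (MvPolynomial.X j : MvPolynomial (Fin m) A₀)) (g j) =
        Ideal.Quotient.mk ((bIdeal R A₀ m g) ^ k)
          (Polynomial.aeval (MvPolynomial.X j : MvPolynomial (Fin m) A₀) (g j)) := by
      have := Polynomial.aeval_algHom_apply
        (Ideal.Quotient.mkₐ R ((bIdeal R A₀ m g) ^ k)) (MvPolynomial.X j) (g j)
      simpa using this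
    rw [h1, ← map_pow, Ideal.Quotient.eq_zero_iff_mem]
    have hmem : Polynomial.aeval (MvPolynomial.X j : MvPolynomial (Fin m) A₀) (g j) ∈
        bIdeal R A₀ m g := Ideal.subset_span ⟨j, rfl⟩
    exact Ideal.pow_mem_pow hmem k
  have hint : Algebra.IsIntegral A₀ Q := by
    constructor
    intro q
    obtain ⟨p, rfl⟩ := Ideal.Quotient.mk_surjective q
    induction p using MvPolynomial.induction_on with
    | C a =>
      have : Ideal.Quotient.mk ((bIdeal R A₀ m g) ^ k) (MvPolynomial.C a) = algebraMap A₀ Q a := rfl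
      rw [this]
      exact isIntegral_algebraMap
    | add p q hp hq => rw [map_add]; exact hp.add hq
    | mul_X p j hp => rw [map_mul]; exact hp.mul (hX j)
  exact Algebra.IsIntegral.finite

end fin

end Groth.Agent.Lib.Helper28.Gabber
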