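import Mathlib
import Groth.Agent.Lib.Helper5NilFlat

/-!
# Flatness from flatness away from `f` and modulo `f` (helper5)
-/

set_option autoImplicit false
universe u v
open scoped Pointwise

namespace Groth.Agent.Lib.Helper5

open TensorProduct LinearMap RingTheory.Sequence

section

variable {A : Type u} [CommRing A] {M : Type v} [AddCommGroup M] [Module A M]

/-- If `f` is `M`-regular then `M ⊗ (f) → M` is injective. -/
theorem lTensor_span_singleton_subtype_injective (f : A) (hM : IsSMulRegular M f) :
    Function.Injective ((Ideal.span {f}).subtype.lTensor M) := by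
  have hw : IsWeaklyRegular M [f] :=
    (isWeaklyRegular_cons_iff M f []).mpr ⟨hM, IsWeaklyRegular.nil _ _⟩
  have key : ∀ J : Ideal A, J = Ideal.ofList [f] → Function.Injective (J.subtype.lTensor M) := by
    intro J hJ
    subst hJ
    exact lTensor_ofList_subtype_injective_of_isWeaklyRegular [f] hw
  exact key _ (Ideal.ofList_singleton f).symm

/-- If `f` is regular on `A` and `M` and `M/fM` is flat over `A/f` then `f` is regular on
`M ⊗ J` for every ideal `J`. -/
theorem isSMulRegular_tensor_ideal (f : A) (hA : f ∈ nonZeroDivisors A) (hM : IsSMulRegular M f)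
    (h : Module.Flat (A ⧸ Ideal.span {f}) ((A ⧸ Ideal.span {f}) ⊗[A] M)) (J : Ideal A) :
    IsSMulRegular (M ⊗[A] J) f := by
  have H1 := lTensor_span_singleton_subtype_injective f hM
  have hT := tor1Vanish_of_module_quotient (Ideal.span {f}) H1 h
    (↥J ⧸ (Ideal.span {f} • ⊤ : Submodule A ↥J))
  let i : ↥J →ₗ[A] ↥J := LinearMap.lsmul A ↥J f
  have hi : Function.Injective i := by
    intro a b hab
    apply Subtype.ext
    have h1 : f * (a : A) = f * (b : A) := congrArg Subtype.val hab
    have h2 : ((a : A) - b) * f = 0 := by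
      rw [sub_mul, mul_comm, h1, mul_comm, sub_self]
    exact sub_eq_zero.mp ((mem_nonZeroDivisors_iff_right.mp hA) _ h2)
  have hex : Function.Exact i (Ideal.span {f} • ⊤ : Submodule A ↥J).mkQ := by
    intro y
    rw [Submodule.mkQ_apply, Submodule.Quotient.mk_eq_zero, Submodule.ideal_span_singleton_smul,
      Submodule.mem_smul_pointwise_iff_exists]
    constructor
    · rintro ⟨b, -, hb⟩
      exact ⟨b, hb⟩
    · rintro ⟨b, hb⟩
      exact ⟨b, trivial, hb⟩
  have hinj := hT ↥J ↥J i _ hi (Submodule.mkQ_surjective _) hex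
  intro a b hab
  apply hinj
  have hsm : ∀ z : M ⊗[A] ↥J, i.lTensor M z = f • z := by
    intro z
    induction z with
    | zero => simp
    | add a b ha hb => rw [map_add, ha, hb, smul_add]
    | tmul m y =>
      rw [LinearMap.lTensor_tmul, TensorProduct.smul_tmul', TensorProduct.smul_tmul]
      rfl
  rw [hsm, hsm]
  exact hab

/-- Stacks-type lemma: `f` regular on `A` and `M`, `M_f` flat over `A_f`, `M/fM` flat over
`A/f` imply `M` flat over `A`. -/
theorem flat_of_flat_away_of_flat_quotient (f : A) (hA : f ∈ nonZeroDivisors A)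
    (hM : IsSMulRegular M f)
    (h1 : Module.Flat (Localization.Away f) (LocalizedModule (Submonoid.powers f) M))
    (h2 : Module.Flat (A ⧸ Ideal.span {f}) ((A ⧸ Ideal.span {f}) ⊗[A] M)) : Module.Flat A M := by
  have hflatA : Module.Flat A (LocalizedModule (Submonoid.powers f) M) :=
    (Module.flat_iff_of_isLocalization (Localization.Away f) (Submonoid.powers f) _).mp h1
  rw [Module.Flat.iff_lTensor_injective']
  intro J
  rw [injective_iff_map_eq_zero]
  intro x hx
  let g : M →ₗ[A] LocalizedModule (Submonoid.powers f) M :=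
    LocalizedModule.mkLinearMap (Submonoid.powers f) M
  have hloc : IsLocalizedModule (Submonoid.powers f) (AlgebraTensorModule.rTensor A ↥J g) :=
    inferInstance
  have h3 : (J.subtype.lTensor (LocalizedModule (Submonoid.powers f) M)) (g.rTensor ↥J x) = 0 := by
    rw [← LinearMap.comp_apply, LinearMap.lTensor_comp_rTensor, ← LinearMap.rTensor_comp_lTensor,
      LinearMap.comp_apply, hx, map_zero]
  have h4 : g.rTensor ↥J x = 0 :=
    Module.Flat.lTensor_preserves_injective_linearMap
      (M := LocalizedModule (Submonoid.powers f) M) J.subtype J.injective_subtype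
      (by rw [h3, map_zero])
  have h5 : (AlgebraTensorModule.rTensor A ↥J g) x = 0 := h4
  obtain ⟨⟨c, n, rfl⟩, hc⟩ :=
    (IsLocalizedModule.eq_zero_iff (Submonoid.powers f) (AlgebraTensorModule.rTensor A ↥J g)).mp h5
  have hreg := (isSMulRegular_tensor_ideal f hA hM h2 J).pow n
  apply hreg
  change f ^ n • x = f ^ n • 0
  rw [smul_zero]
  exact hc

end

end Groth.Agent.Lib.Helper5
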