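import Groth.Agent.Lib.Helper28Gabber1
import Groth.Agent.Lib.Helper5LocalFlat3
import Groth.Agent.Lib.Helper17AdicFlat
import Groth.Agent.S11538

/-!
# Towards Gabber's flatness lemma (helper28), part 2: `R⟨ξ,ζ⟩` is flat over `R⟨ξ⟩[ζ]`
-/

set_option autoImplicit false
universe u
open AdicRing TensorProduct

namespace Groth.Agent.Lib.Helper28.Gabber

/-- the ring `R⟨ξ⟩[ζ]` -/
abbrev PB (R : Type u) [CommRing R] (t : R) (n m : ℕ) : Type u :=
  MvPolynomial (Fin m) (RPow R (Ideal.span {t}) n)

/-- its `t`-adic completion -/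
abbrev PBh (R : Type u) [CommRing R] (t : R) (n m : ℕ) : Type u :=
  AdicCompletion ((Ideal.span {t}).map (algebraMap R (PB R t n m))) (PB R t n m)

section flatloc

variable (R : Type u) [CommRing R] [IsDomain R] [ValuationRing R] [Ring.KrullDimLE 1 R]
  (t : R) (ht : t ≠ 0) [IsAdicComplete (Ideal.span {t}) R] (hR : IsBase R (Ideal.span {t}))
  (n m : ℕ)

variable (S : Type u) [CommRing S] [Algebra (PB R t n m) S]
  [IsLocalization.Away (algebraMap R (PB R t n m) t) S]
  (S' : Type u) [CommRing S'] [Algebra (PBh R t n m) S']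
  [IsLocalization.Away (algebraMap (PB R t n m) (PBh R t n m) (algebraMap R (PB R t n m) t)) S']
  [Algebra S S'] [Algebra (PB R t n m) S'] [IsScalarTower (PB R t n m) S S']
  [IsScalarTower (PB R t n m) (PBh R t n m) S']

include ht hR n m in
theorem flat_loc : Module.Flat S S' := by
  have hI : (Ideal.span {t} : Ideal R).FG := ⟨{t}, by simp⟩
  have hA0 : TopFiniteType R (Ideal.span {t}) (RPow R (Ideal.span {t}) n) :=
    TateBase.topFiniteType_rPow R _ n
  have hBh : TopFiniteType R (Ideal.span {t}) (PBh R t n m) :=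
    TateCLoc.topFiniteType_completion R (Ideal.span {t}) (RPow R (Ideal.span {t}) n)
      (PB R t n m) hI hA0
  have hNS : IsNoetherianRing S := isNoetherianRing_away_mvPolynomial R t ht n m S
  have hloc : IsLocalization.Away (algebraMap R (PBh R t n m) t) S' := by
    rw [IsScalarTower.algebraMap_apply R (PB R t n m) (PBh R t n m)]
    infer_instance
  have hNS' : IsNoetherianRing S' := isNoetherianRing_away R t ht (PBh R t n m) hBh S'
  apply Module.flat_of_isLocalized_maximal S' S'
    (fun 𝔫 _ => LocalizedModule 𝔫.primeCompl S')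
    (fun 𝔫 _ => LocalizedModule.mkLinearMap 𝔫.primeCompl S')
  intro 𝔫 h𝔫
  have hns : ∀ j : Fin m, ∃ g : Polynomial R, g.Monic ∧ algebraMap (PBh R t n m) S'
      (Polynomial.aeval (algebraMap (PB R t n m) (PBh R t n m) (MvPolynomial.X j)) g) ∈ 𝔫 :=
    fun j => exists_monic_mem_maximal R t ht (PBh R t n m) hBh S' 𝔫 _
  choose g hgm hgn using hns
  refine Groth.Agent.Lib.Helper5.flat_localizedModule_of_flat_baseChange_pow (A := S) (B := S') S'
    ((bIdeal R (RPow R (Ideal.span {t}) n) m g).map (algebraMap (PB R t n m) S)) ?_ 𝔫 ?_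
  · intro k hk
    have hfin : Module.Finite (RPow R (Ideal.span {t}) n)
        ((PB R t n m) ⧸ (bIdeal R (RPow R (Ideal.span {t}) n) m g) ^ k) :=
      finite_quot_pow R (RPow R (Ideal.span {t}) n) m g hgm k
    have hsurj := exists_sub_mem_map R (Ideal.span {t}) hR (RPow R (Ideal.span {t}) n) hA0
      (PB R t n m) ((bIdeal R (RPow R (Ideal.span {t}) n) m g) ^ k)
    have hinj := mem_of_algebraMap_mem_map R (Ideal.span {t}) hR (RPow R (Ideal.span {t}) n) hA0
      (PB R t n m) ((bIdeal R (RPow R (Ideal.span {t}) n) m g) ^ k)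
    have hsS := loc_surj (algebraMap R (PB R t n m) t) S S'
      ((bIdeal R (RPow R (Ideal.span {t}) n) m g) ^ k) hsurj
    have hiS := loc_inj (algebraMap R (PB R t n m) t) S S'
      ((bIdeal R (RPow R (Ideal.span {t}) n) m g) ^ k) hinj
    rw [← Ideal.map_pow]
    apply TateCLoc.flat_quot_tensor_of_bijective _ (Algebra.linearMap S S')
    apply TateCLoc.bijective_lTensor_quotient
    · intro y
      obtain ⟨x, hx⟩ := hsS y
      refine ⟨x, ?_⟩
      rw [Ideal.smul_top_eq_map]
      exact hx
    · intro x hx
      rw [Ideal.smul_top_eq_map] at hx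
      have := hiS x hx
      rw [smul_eq_mul, Ideal.mul_top]
      exact this
  · rw [map_map_eq (Bh := PBh R t n m) S S', Ideal.map_le_iff_le_comap,
      Ideal.map_le_iff_le_comap, bIdeal, Ideal.span_le]
    rintro _ ⟨j, rfl⟩
    simp only [SetLike.mem_coe, Ideal.mem_comap]
    have h1 : algebraMap (PB R t n m) (PBh R t n m)
        (Polynomial.aeval (MvPolynomial.X j : PB R t n m) (g j)) =
        Polynomial.aeval (algebraMap (PB R t n m) (PBh R t n m) (MvPolynomial.X j)) (g j) := by
      have := Polynomial.aeval_algHom_apply (IsScalarTower.toAlgHom R (PB R t n m) (PBh R t n m))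
        (MvPolynomial.X j : PB R t n m) (g j)
      simpa using this.symm
    rw [h1]
    exact hgn j

end flatloc

section flatloc2

variable (R : Type u) [CommRing R] [IsDomain R] [ValuationRing R] [Ring.KrullDimLE 1 R]
  (t : R) (ht : t ≠ 0) [IsAdicComplete (Ideal.span {t}) R] (hR : IsBase R (Ideal.span {t}))
  (n m : ℕ)

include ht hR in
theorem flat_away_tensor :
    Module.Flat (Localization.Away (algebraMap R (PB R t n m) t))
      ((Localization.Away (algebraMap R (PB R t n m) t)) ⊗[PB R t n m] (PBh R t n m)) := by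
  set π := algebraMap R (PB R t n m) t with hπ
  set ι := algebraMap (PB R t n m) (PBh R t n m) with hι
  let S := Localization.Away π
  let S' := Localization.Away (ι π)
  have tower1 : IsScalarTower (PB R t n m) (PBh R t n m) S' := inferInstance
  let φ : S →+* S' := IsLocalization.Away.map S S' ι π
  let algSS' : Algebra S S' := φ.toAlgebra
  have tower2 : IsScalarTower (PB R t n m) S S' := by
    apply IsScalarTower.of_algebraMap_eq
    intro x
    rw [IsScalarTower.algebraMap_apply (PB R t n m) (PBh R t n m) S']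
    change algebraMap (PBh R t n m) S' (ι x) = φ (algebraMap (PB R t n m) S x)
    exact (IsLocalization.map_eq _ x).symm
  have hflat : Module.Flat S S' := flat_loc R t ht hR n m S S'
  have hloc : IsLocalization (Algebra.algebraMapSubmonoid (PBh R t n m) (Submonoid.powers π)) S' := by
    have : Algebra.algebraMapSubmonoid (PBh R t n m) (Submonoid.powers π) =
        Submonoid.powers (ι π) := by
      rw [Algebra.algebraMapSubmonoid, Submonoid.map_powers]
    rw [this]
    infer_instance
  have hlm : IsLocalizedModule (Submonoid.powers π)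
      (IsScalarTower.toAlgHom (PB R t n m) (PBh R t n m) S').toLinearMap :=
    isLocalizedModule_iff_isLocalization.mpr hloc
  have hbc : IsBaseChange S (IsScalarTower.toAlgHom (PB R t n m) (PBh R t n m) S').toLinearMap :=
    IsLocalizedModule.isBaseChange (Submonoid.powers π) S _
  exact Module.Flat.of_linearEquiv hbc.equiv

end flatloc2

theorem pow_regular {P : Type*} [CommRing P] (τ : P) (hτ : ∀ x : P, τ * x = 0 → x = 0)
    (k : ℕ) (x : P) (h : τ ^ k * x = 0) : x = 0 := by
  induction k with
  | zero => simpa using h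
  | succ k ih =>
    apply ih
    apply hτ
    rw [← mul_assoc, ← pow_succ']
    exact h

theorem completion_torsionFree {P : Type*} [CommRing P] (τ : P)
    (hτ : ∀ x : P, τ * x = 0 → x = 0) (J : Ideal P) (hJ : J = Ideal.span {τ}) (k : ℕ)
    (x : AdicCompletion J P) (h : (τ ^ k) • x = 0) : x = 0 := by
  subst hJ
  apply AdicCompletion.ext
  intro m
  obtain ⟨y, hy⟩ := Submodule.Quotient.mk_surjective _ (x.val (m + k))
  have h1 : ((τ ^ k) • x).val (m + k) = 0 := by rw [h]; rfl
  rw [AdicCompletion.val_smul_apply, ← hy, ← Submodule.Quotient.mk_smul,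
    Submodule.Quotient.mk_eq_zero, smul_eq_mul, Ideal.mul_top, Ideal.span_singleton_pow,
    Ideal.mem_span_singleton] at h1
  obtain ⟨z, hz⟩ := h1
  have hz' : τ ^ k * y = τ ^ (m + k) * z := hz
  have h2 : τ ^ k * (y - τ ^ m * z) = 0 := by
    rw [mul_sub, hz', pow_add]
    ring
  have h3 := pow_regular τ hτ k _ h2
  have h4 : y = τ ^ m * z := sub_eq_zero.mp h3
  have h5 : x.val m = AdicCompletion.transitionMap (Ideal.span {τ}) P (Nat.le_add_right m k)
      (x.val (m + k)) := (x.property (Nat.le_add_right m k)).symm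
  rw [h5, ← hy]
  change Submodule.Quotient.mk y = 0
  rw [Submodule.Quotient.mk_eq_zero, smul_eq_mul, Ideal.mul_top, Ideal.span_singleton_pow,
    Ideal.mem_span_singleton, h4]
  exact Dvd.intro z rfl

section

variable (R : Type u) [CommRing R] [IsDomain R] (t : R) (ht : t ≠ 0) (n m : ℕ)

include ht in
theorem pi_regular (x : PB R t n m) (h : algebraMap R (PB R t n m) t * x = 0) : x = 0 := by
  apply MvPolynomial.ext
  intro u
  have h1 := congrArg (MvPolynomial.coeff u) h
  have h2 : algebraMap R (PB R t n m) t =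
      MvPolynomial.C (algebraMap R (RPow R (Ideal.span {t}) n) t) := by
    rw [IsScalarTower.algebraMap_apply R (RPow R (Ideal.span {t}) n) (PB R t n m)]
    rfl
  rw [h2, MvPolynomial.coeff_C_mul, MvPolynomial.coeff_zero, ← Algebra.smul_def] at h1
  rw [MvPolynomial.coeff_zero]
  exact Groth.Agent.Lib.Helper17.Adic.torsionFree_rpow_aux R t ht n 1 _ (by rw [pow_one]; exact h1)

theorem map_span_eq : (Ideal.span {t}).map (algebraMap R (PB R t n m)) =
    Ideal.span {algebraMap R (PB R t n m) t} := by
  rw [Ideal.map_span (algebraMap R (PB R t n m)) {t}, Set.image_singleton]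

end

end Groth.Agent.Lib.Helper28.Gabber
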