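import Groth.Agent.Lib.Helper28TateCLoc2

/-!
# Completions of finite type algebras over algebras topologically of finite type (helper28)
-/

set_option autoImplicit false
universe u
open AdicRing TensorProduct MvPolynomial

namespace Groth.Agent.Lib.Helper28.TateCLoc

section compl

variable (R : Type u) [CommRing R] (I : Ideal R) (A : Type u) [CommRing A] [Algebra R A]
  (B : Type u) [CommRing B] [Algebra R B]

theorem isAdicComplete_completion (hI : I.FG) :
    IsAdicComplete (I.map (algebraMap R (AdicCompletion (I.map (algebraMap R B)) B)))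
      (AdicCompletion (I.map (algebraMap R B)) B) := by
  have h1 : IsAdicComplete (I.map (algebraMap R B)) (AdicCompletion (I.map (algebraMap R B)) B) :=
    AdicCompletion.isAdicComplete (hI.map _)
  have h2 : IsAdicComplete I (AdicCompletion (I.map (algebraMap R B)) B) :=
    (IsAdicComplete.map_algebraMap_iff (R := R) (S := B) I _).mp h1
  exact (IsAdicComplete.map_algebraMap_iff (R := R)
    (S := AdicCompletion (I.map (algebraMap R B)) B) I _).mpr h2

theorem map_completion_eq (J : Ideal R) :
    (J.map (algebraMap R B)).map (algebraMap B (AdicCompletion (I.map (algebraMap R B)) B)) =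
      J.map (algebraMap R (AdicCompletion (I.map (algebraMap R B)) B)) := by
  rw [Ideal.map_map, ← IsScalarTower.algebraMap_eq]

variable [Algebra A B] [IsScalarTower R A B]

theorem topFiniteType_completion (hI : I.FG) (hA : TopFiniteType R I A)
    [Algebra.FiniteType A B] :
    TopFiniteType R I (AdicCompletion (I.map (algebraMap R B)) B) := by
  have hc := isAdicComplete_completion R I B hI
  apply topFiniteType_of_finiteType_quot R I _ hI
  rw [← RingHom.finiteType_algebraMap]
  -- the surjection `B → B̂ / I B̂`
  set Q := AdicCompletion (I.map (algebraMap R B)) B ⧸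
    (I ^ 1).map (algebraMap R (AdicCompletion (I.map (algebraMap R B)) B)) with hQ
  let g : B →+* Q := (Ideal.Quotient.mk _).comp
    (algebraMap B (AdicCompletion (I.map (algebraMap R B)) B))
  have hg : Function.Surjective g := by
    intro yb
    obtain ⟨y, rfl⟩ := Ideal.Quotient.mk_surjective yb
    obtain ⟨x, hx⟩ := TateTrunc.exists_sub_mem_map_pow
      (I.map (algebraMap R B)) (hI.map _) 1 y
    refine ⟨x, ?_⟩
    rw [← Ideal.map_pow, map_completion_eq] at hx
    exact (Ideal.Quotient.eq.mpr hx).symm
  have hkill : (I ^ 1).map (algebraMap R A) ≤ RingHom.ker (g.comp (algebraMap A B)) := by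
    rw [Ideal.map_le_iff_le_comap]
    intro r hr
    rw [Ideal.mem_comap, RingHom.mem_ker]
    simp only [g, RingHom.comp_apply]
    rw [← IsScalarTower.algebraMap_apply R A B, ← IsScalarTower.algebraMap_apply R B,
      Ideal.Quotient.eq_zero_iff_mem]
    exact Ideal.mem_map_of_mem _ hr
  let gA : A ⧸ (I ^ 1).map (algebraMap R A) →+* Q :=
    Ideal.Quotient.lift _ (g.comp (algebraMap A B)) (fun a ha => hkill ha)
  have h1 : gA.comp (Ideal.Quotient.mk _) = g.comp (algebraMap A B) := by
    ext a
    simp [gA]
  have h2 : (g.comp (algebraMap A B)).FiniteType :=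
    (RingHom.FiniteType.of_surjective g hg).comp
      (RingHom.finiteType_algebraMap.mpr inferInstance)
  rw [← h1] at h2
  have h3 : gA.FiniteType := RingHom.FiniteType.of_comp_finiteType h2
  have h4 := h3.comp (finiteType_quot_of_topFiniteType R I A hI hA 1)
  have h5 : gA.comp (algebraMap R (A ⧸ (I ^ 1).map (algebraMap R A))) = algebraMap R Q := by
    ext r
    simp only [RingHom.comp_apply]
    rw [IsScalarTower.algebraMap_apply R A (A ⧸ (I ^ 1).map (algebraMap R A)),
      Ideal.Quotient.algebraMap_eq, ← RingHom.comp_apply gA, h1]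
    simp only [g, RingHom.comp_apply]
    rw [← IsScalarTower.algebraMap_apply R A B, ← IsScalarTower.algebraMap_apply R B]
    rfl
  rw [h5] at h4
  exact h4

end compl

section inj

variable {B : Type u} [CommRing B] (J : Ideal B) (M : Type u) [AddCommGroup M] [Module B M]

/-- every tensor is a pure tensor `1 ⊗ m` modulo `J^k` -/
theorem exists_one_tmul_approx (hJ : J.FG) (k : ℕ) (z : AdicCompletion J B ⊗[B] M) :
    ∃ m : M, z - (1 : AdicCompletion J B) ⊗ₜ[B] m ∈
      ((J ^ k).map (algebraMap B (AdicCompletion J B))) •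
        (⊤ : Submodule (AdicCompletion J B) (AdicCompletion J B ⊗[B] M)) := by
  induction z using TensorProduct.induction_on with
  | zero => exact ⟨0, by simp⟩
  | tmul β x =>
    obtain ⟨b, hb⟩ := TateTrunc.exists_sub_mem_map_pow J hJ k β
    refine ⟨b • x, ?_⟩
    have h1 : β ⊗ₜ[B] x - (1 : AdicCompletion J B) ⊗ₜ[B] (b • x) =
        (β - algebraMap B (AdicCompletion J B) b) • ((1 : AdicCompletion J B) ⊗ₜ[B] x) := by
      rw [TensorProduct.smul_tmul', smul_eq_mul, mul_one, TensorProduct.sub_tmul,
        TensorProduct.tmul_smul, TensorProduct.smul_tmul', Algebra.smul_def, mul_one]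
    rw [h1]
    exact Submodule.smul_mem_smul hb Submodule.mem_top
  | add z w hz hw =>
    obtain ⟨m, hm⟩ := hz
    obtain ⟨m', hm'⟩ := hw
    refine ⟨m + m', ?_⟩
    have : z + w - (1 : AdicCompletion J B) ⊗ₜ[B] (m + m') =
        (z - (1 : AdicCompletion J B) ⊗ₜ[B] m) + (w - (1 : AdicCompletion J B) ⊗ₜ[B] m') := by
      rw [TensorProduct.tmul_add]
      abel
    rw [this]
    exact Submodule.add_mem _ hm hm'

theorem one_tmul_mem (k : ℕ) (m : M) (hm : m ∈ J ^ k • (⊤ : Submodule B M)) :
    (1 : AdicCompletion J B) ⊗ₜ[B] m ∈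
      ((J ^ k).map (algebraMap B (AdicCompletion J B))) •
        (⊤ : Submodule (AdicCompletion J B) (AdicCompletion J B ⊗[B] M)) := by
  refine Submodule.smul_induction_on hm ?_ ?_
  · intro j hj x _
    have : (1 : AdicCompletion J B) ⊗ₜ[B] (j • x) =
        algebraMap B (AdicCompletion J B) j • ((1 : AdicCompletion J B) ⊗ₜ[B] x) := by
      rw [TensorProduct.tmul_smul, TensorProduct.smul_tmul', TensorProduct.smul_tmul',
        Algebra.smul_def, smul_eq_mul]
    rw [this]
    exact Submodule.smul_mem_smul (Ideal.mem_map_of_mem _ hj) Submodule.mem_top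
  · intro x y hx hy
    rw [TensorProduct.tmul_add]
    exact Submodule.add_mem _ hx hy

theorem mem_of_of_mem (hJ : J.FG) (k : ℕ) (m : M)
    (h : AdicCompletion.of J M m ∈ ((J ^ k).map (algebraMap B (AdicCompletion J B))) •
      (⊤ : Submodule (AdicCompletion J B) (AdicCompletion J M))) :
    m ∈ J ^ k • (⊤ : Submodule B M) := by
  have h1 : AdicCompletion.of J M m ∈ (J ^ k • (⊤ : Submodule B (AdicCompletion J M))) := by
    have := Ideal.smul_restrictScalars (R := B) (S := AdicCompletion J B) (J ^ k)
      (⊤ : Submodule (AdicCompletion J B) (AdicCompletion J M))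
    rw [Submodule.restrictScalars_top] at this
    rw [← this]
    exact h
  rw [AdicCompletion.pow_smul_top_eq_ker_eval hJ, LinearMap.mem_ker, AdicCompletion.eval_of,
    Submodule.mkQ_apply, Submodule.Quotient.mk_eq_zero] at h1
  exact h1

theorem injective_ofTensorProduct_of_isHausdorff (hJ : J.FG)
    [IsHausdorff (J.map (algebraMap B (AdicCompletion J B))) (AdicCompletion J B ⊗[B] M)] :
    Function.Injective (AdicCompletion.ofTensorProduct J M) := by
  rw [← LinearMap.ker_eq_bot, LinearMap.ker_eq_bot']
  intro z hz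
  apply IsHausdorff.haus' (I := J.map (algebraMap B (AdicCompletion J B))) z
  intro k
  rw [SModEq.zero, ← Ideal.map_pow]
  obtain ⟨m, hm⟩ := exists_one_tmul_approx J M hJ k z
  have h1 : AdicCompletion.ofTensorProduct J M (z - (1 : AdicCompletion J B) ⊗ₜ[B] m) ∈
      ((J ^ k).map (algebraMap B (AdicCompletion J B))) •
        (⊤ : Submodule (AdicCompletion J B) (AdicCompletion J M)) := by
    refine Submodule.smul_induction_on hm ?_ ?_
    · intro ε hε w _
      rw [map_smul]
      exact Submodule.smul_mem_smul hε Submodule.mem_top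
    · intro x y hx hy
      rw [map_add]
      exact Submodule.add_mem _ hx hy
  rw [map_sub, hz, zero_sub, AdicCompletion.ofTensorProduct_tmul, one_smul,
    Submodule.neg_mem_iff] at h1
  have h2 := mem_of_of_mem J M hJ k m h1
  have h3 := one_tmul_mem J M k m h2
  have : z = (z - (1 : AdicCompletion J B) ⊗ₜ[B] m) + (1 : AdicCompletion J B) ⊗ₜ[B] m := by abel
  rw [this]
  exact Submodule.add_mem _ hm h3

end inj

end Groth.Agent.Lib.Helper28.TateCLoc
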