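import Groth.Agent.Lib.Helper28Gabber2
import Groth.Agent.S11537

/-!
# Gabber's flatness lemma (helper28), part 3: general finite type algebras
-/

set_option autoImplicit false
universe u
open AdicRing TensorProduct

namespace Groth.Agent.Lib.Helper28.Gabber

section

variable (R : Type u) [CommRing R] [IsDomain R] [ValuationRing R] [Ring.KrullDimLE 1 R]
  (t : R) (ht : t ≠ 0) [IsAdicComplete (Ideal.span {t}) R] (hR : IsBase R (Ideal.span {t}))
  (n m : ℕ)

include ht hR in
/-- Gabber's lemma for `R⟨ξ⟩[ζ]`. -/
theorem flat_PBh : Module.Flat (PB R t n m) (PBh R t n m) := by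
  have hπ : algebraMap R (PB R t n m) t ∈ nonZeroDivisors (PB R t n m) := by
    rw [mem_nonZeroDivisors_iff_right]
    intro x hx
    rw [mul_comm] at hx
    exact pi_regular R t ht n m x hx
  rw [Groth.Agent.S11538.result (PB R t n m) (algebraMap R (PB R t n m) t) hπ (PBh R t n m)]
  have hI : (Ideal.span {t} : Ideal R).FG := ⟨{t}, by simp⟩
  have hJ : ((Ideal.span {t}).map (algebraMap R (PB R t n m))).FG := hI.map _
  refine ⟨?_, ?_, flat_away_tensor R t ht hR n m⟩
  · intro x k hx
    exact completion_torsionFree (algebraMap R (PB R t n m) t) (pi_regular R t ht n m) _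
      (map_span_eq R t n m) k x hx
  · apply TateCLoc.flat_quot_tensor_of_bijective _
      (Algebra.linearMap (PB R t n m) (PBh R t n m))
    apply TateCLoc.bijective_lTensor_quotient
    · intro y
      obtain ⟨p, hp⟩ := TateTrunc.exists_sub_mem_map_pow _ hJ 1 y
      refine ⟨p, ?_⟩
      rw [pow_one] at hp
      rw [Ideal.smul_top_eq_map, ← map_span_eq]
      exact hp
    · intro p hp
      rw [Ideal.smul_top_eq_map, ← map_span_eq] at hp
      have := TateTrunc.mem_pow_of_algebraMap_mem _ hJ 1 p (by rw [pow_one]; exact hp)
      rw [pow_one] at this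
      rw [smul_eq_mul, Ideal.mul_top, ← map_span_eq]
      exact this

end

section general

variable {P : Type*} [CommRing P] (J : Ideal P)

theorem coe_algebraTensorModule_map {M N : Type*} [AddCommGroup M] [Module P M]
    [AddCommGroup N] [Module P N] (f : M →ₗ[P] N) :
    ((TensorProduct.AlgebraTensorModule.map (LinearMap.id (R := AdicCompletion J P)
      (M := AdicCompletion J P)) f : AdicCompletion J P ⊗[P] M →ₗ[AdicCompletion J P]
        AdicCompletion J P ⊗[P] N) : AdicCompletion J P ⊗[P] M → AdicCompletion J P ⊗[P] N) =
      f.lTensor (AdicCompletion J P) := by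
  funext z
  induction z using TensorProduct.induction_on with
  | zero => simp
  | tmul x y => simp
  | add x y hx hy => rw [map_add, map_add, hx, hy]

/-- flatness of the completion gives injectivity of completed injective maps -/
theorem injective_map_of_flat [Module.Flat P (AdicCompletion J P)] {M N : Type*}
    [AddCommGroup M] [Module P M] [AddCommGroup N] [Module P N] (f : M →ₗ[P] N)
    (hf : Function.Injective f)
    (hM : Function.Surjective (AdicCompletion.ofTensorProduct J M))
    (hN : Function.Injective (AdicCompletion.ofTensorProduct J N)) :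
    Function.Injective (AdicCompletion.map J f) := by
  have hnat := AdicCompletion.ofTensorProduct_naturality J f
  have h1 : Function.Injective (f.lTensor (AdicCompletion J P)) :=
    Module.Flat.lTensor_preserves_injective_linearMap f hf
  have h2 : Function.Injective ((AdicCompletion.map J f) ∘ (AdicCompletion.ofTensorProduct J M)) := by
    have : ((AdicCompletion.map J f) ∘ (AdicCompletion.ofTensorProduct J M)) =
        (AdicCompletion.ofTensorProduct J N) ∘ (f.lTensor (AdicCompletion J P)) := by
      rw [← coe_algebraTensorModule_map]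
      funext z
      exact congrArg (fun g => g z) hnat
    rw [this]
    exact hN.comp h1
  intro x y hxy
  obtain ⟨x', rfl⟩ := hM x
  obtain ⟨y', rfl⟩ := hM y
  rw [h2 hxy]

/-- ideal criterion for flatness of the completion -/
theorem flat_completion_of_injective_map
    (hsurj : ∀ 𝔟 : Ideal P, 𝔟.FG → Function.Injective (AdicCompletion.ofTensorProduct J 𝔟))
    (hinj : ∀ 𝔟 : Ideal P, 𝔟.FG → Function.Injective (AdicCompletion.map J 𝔟.subtype)) :
    Module.Flat P (AdicCompletion J P) := by
  rw [Module.Flat.iff_lTensor_injective]
  intro 𝔟 h𝔟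
  have hnat := AdicCompletion.ofTensorProduct_naturality J 𝔟.subtype
  have h2 : Function.Injective ((AdicCompletion.ofTensorProduct J P) ∘
      (𝔟.subtype.lTensor (AdicCompletion J P))) := by
    have : (AdicCompletion.ofTensorProduct J P) ∘ (𝔟.subtype.lTensor (AdicCompletion J P)) =
        ((AdicCompletion.map J 𝔟.subtype) ∘ (AdicCompletion.ofTensorProduct J 𝔟)) := by
      rw [← coe_algebraTensorModule_map]
      funext z
      exact (congrArg (fun g => g z) hnat).symm
    rw [this]
    exact (hinj 𝔟 h𝔟).comp (hsurj 𝔟 h𝔟)
  exact Function.Injective.of_comp h2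

end general

section transfer

variable {P C : Type*} [CommRing P] [CommRing C] [Algebra P C] (JP : Ideal P) (JC : Ideal C)
  (hJ : JP.map (algebraMap P C) = JC)

include hJ in
theorem mem_smul_top_transfer {M : Type*} [AddCommGroup M] [Module C M] [Module P M]
    [IsScalarTower P C M] (k : ℕ) (x : M) :
    x ∈ JP ^ k • (⊤ : Submodule P M) ↔ x ∈ JC ^ k • (⊤ : Submodule C M) := by
  have h1 := Ideal.smul_restrictScalars (R := P) (S := C) (JP ^ k) (⊤ : Submodule C M)
  rw [Submodule.restrictScalars_top, Ideal.map_pow, hJ] at h1
  rw [← h1]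
  rfl

theorem mk_eq_zero_iff {P : Type*} [CommRing P] (J : Ideal P) {M : Type*} [AddCommGroup M]
    [Module P M] (a : AdicCompletion.AdicCauchySequence J M) :
    AdicCompletion.mk J M a = 0 ↔ ∀ n, a n ∈ J ^ n • (⊤ : Submodule P M) := by
  constructor
  · intro h n
    have := congrArg (fun x => x.val n) h
    simp only [AdicCompletion.mk_apply_coe, AdicCompletion.val_zero, Pi.zero_apply] at this
    rw [Submodule.mkQ_apply, Submodule.Quotient.mk_eq_zero] at this
    exact this
  · intro h
    apply AdicCompletion.ext
    intro n
    rw [AdicCompletion.mk_apply_coe, Submodule.mkQ_apply, AdicCompletion.val_zero,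
      Pi.zero_apply, Submodule.Quotient.mk_eq_zero]
    exact h n

include hJ in
theorem map_injective_transfer {M N : Type*} [AddCommGroup M] [Module C M] [Module P M]
    [IsScalarTower P C M] [AddCommGroup N] [Module C N] [Module P N] [IsScalarTower P C N]
    (f : M →ₗ[C] N)
    (h : Function.Injective (AdicCompletion.map JP (f.restrictScalars P))) :
    Function.Injective (AdicCompletion.map JC f) := by
  rw [injective_iff_map_eq_zero]
  intro x hx
  obtain ⟨a, rfl⟩ := AdicCompletion.mk_surjective JC M x
  let a' : AdicCompletion.AdicCauchySequence JP M :=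
    AdicCompletion.AdicCauchySequence.mk JP M (fun n => a n) (by
      intro n
      have := a.property (Nat.le_succ n)
      rw [SModEq.sub_mem] at this ⊢
      exact (mem_smul_top_transfer JP JC hJ n _).mpr this)
  rw [AdicCompletion.map_mk, mk_eq_zero_iff] at hx
  have h1 : AdicCompletion.map JP (f.restrictScalars P) (AdicCompletion.mk JP M a') = 0 := by
    rw [AdicCompletion.map_mk, mk_eq_zero_iff]
    intro n
    exact (mem_smul_top_transfer JP JC hJ n _).mpr (hx n)
  have h2 : AdicCompletion.mk JP M a' = 0 := h (by rw [h1, map_zero])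
  rw [mk_eq_zero_iff] at h2 ⊢
  intro n
  exact (mem_smul_top_transfer JP JC hJ n _).mp (h2 n)

end transfer

end Groth.Agent.Lib.Helper28.Gabber
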