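import Mathlib
import Groth.Agent.Lib.Helper28Deligne4

/-!
# Globalizing finiteness of ideal transforms via associated primes (helper28)
-/

set_option autoImplicit false
set_option linter.unusedSectionVars false
universe u

namespace Groth.Agent.Lib.Helper28.H1Glob

open Groth.Agent.Lib.Helper28.Deligne

section A

variable {R : Type u} [CommRing R] {J : Ideal R}
  {M D : Type u} [AddCommGroup M] [Module R M] [AddCommGroup D] [Module R D] (ε : M →ₗ[R] D)

/-- `Dn J ε n`: the elements of the transform carried into the image of `M` by `J ^ n`. -/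
def Dn (J : Ideal R) (ε : M →ₗ[R] D) (n : ℕ) : Submodule R D where
  carrier := {y | ∀ c ∈ J ^ n, c • y ∈ LinearMap.range ε}
  add_mem' := by
    intro x y hx hy c hc
    rw [smul_add]
    exact Submodule.add_mem _ (hx c hc) (hy c hc)
  zero_mem' := by
    intro c _
    rw [smul_zero]
    exact Submodule.zero_mem _
  smul_mem' := by
    intro r y hy c hc
    rw [smul_comm]
    exact Submodule.smul_mem _ r (hy c hc)

theorem mem_Dn {n : ℕ} {y : D} : y ∈ Dn J ε n ↔ ∀ c ∈ J ^ n, c • y ∈ LinearMap.range ε := Iff.rfl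

theorem Dn_mono {n m : ℕ} (h : n ≤ m) : Dn J ε n ≤ Dn J ε m := by
  intro y hy c hc
  exact hy c (Ideal.pow_le_pow_right h hc)

theorem range_le_Dn (n : ℕ) : LinearMap.range ε ≤ Dn J ε n := by
  intro y hy c _
  exact Submodule.smul_mem _ c hy

variable {ε}

theorem exists_mem_Dn (h : IsIT J ε) (y : D) : ∃ n, y ∈ Dn J ε n := h.cok y

/-- `Dn` is a finite module. -/
theorem finite_Dn [IsNoetherianRing R] [Module.Finite R M] (h : IsIT J ε) (n : ℕ) :
    Module.Finite R (Dn J ε n) := by
  classical
  obtain ⟨r, a, ha⟩ := Submodule.fg_iff_exists_fin_generating_family.mp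
    (IsNoetherian.noetherian (J ^ n))
  have ham : ∀ i, a i ∈ J ^ n := fun i => by
    rw [← ha]; exact Submodule.subset_span ⟨i, rfl⟩
  let Φ : Dn J ε n →ₗ[R] (Fin r → LinearMap.range ε) :=
    LinearMap.pi fun i =>
      { toFun := fun y => ⟨a i • (y : D), y.2 (a i) (ham i)⟩
        map_add' := fun x y => Subtype.ext (by
          change a i • ((x : D) + (y : D)) = a i • (x : D) + a i • (y : D)
          rw [smul_add])
        map_smul' := fun c y => Subtype.ext (by
          change a i • (c • (y : D)) = c • (a i • (y : D))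
          rw [smul_comm]) }
  have hΦ : Function.Injective Φ := by
    rw [← LinearMap.ker_eq_bot, LinearMap.ker_eq_bot']
    intro y hy
    have hy' : ∀ i, a i • (y : D) = 0 := fun i => by
      have := congrFun hy i
      exact congrArg Subtype.val this
    apply Subtype.ext
    apply h.tf
    refine ⟨n, fun c hc => ?_⟩
    rw [← ha] at hc
    refine Submodule.span_induction ?_ ?_ ?_ ?_ hc
    · rintro _ ⟨i, rfl⟩
      exact hy' i
    · exact zero_smul _ _
    · intro x z _ _ hx hz
      rw [add_smul, hx, hz, add_zero]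
    · intro b x _ hx
      rw [smul_eq_mul, mul_smul, hx, smul_zero]
  exact Module.Finite.of_injective Φ hΦ

end A

section Ass

variable {R : Type u} [CommRing R] [IsNoetherianRing R] {J : Ideal R}
  {M D : Type u} [AddCommGroup M] [Module R M] [AddCommGroup D] [Module R D] {ε : M →ₗ[R] D}

theorem mem_ass_quot_iff (N : Submodule R D) (P : Ideal R) :
    P ∈ associatedPrimes R (D ⧸ N) ↔ P.IsPrime ∧ ∃ y : D, ∀ r, r ∈ P ↔ r • y ∈ N := by
  rw [AssociatedPrimes.mem_iff, isAssociatedPrime_iff]
  constructor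
  · rintro ⟨hP, x, hx⟩
    obtain ⟨y, rfl⟩ := Submodule.Quotient.mk_surjective N x
    refine ⟨hP, y, fun r => ?_⟩
    rw [hx, Submodule.mem_colon_singleton, Submodule.mem_bot, ← Submodule.Quotient.mk_smul,
      Submodule.Quotient.mk_eq_zero]
  · rintro ⟨hP, y, hy⟩
    refine ⟨hP, Submodule.Quotient.mk y, ?_⟩
    ext r
    rw [hy, Submodule.mem_colon_singleton, Submodule.mem_bot, ← Submodule.Quotient.mk_smul,
      Submodule.Quotient.mk_eq_zero]

theorem le_of_mem_ass_quot_range (h : IsIT J ε) {P : Ideal R}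
    (hP : P ∈ associatedPrimes R (D ⧸ LinearMap.range ε)) : J ≤ P := by
  obtain ⟨hPp, y, hy⟩ := (mem_ass_quot_iff _ P).mp hP
  obtain ⟨k, hk⟩ := h.cok y
  have h1 : J ^ k ≤ P := fun c hc => (hy c).mpr (hk c hc)
  exact hPp.le_of_pow_le h1

/-- The associated primes of `D ⧸ range ε` form a finite set. -/
theorem finite_ass_quot_range [Module.Finite R M] (h : IsIT J ε) :
    (associatedPrimes R (D ⧸ LinearMap.range ε)).Finite := by
  have hfin : Module.Finite R (Dn J ε 1) := finite_Dn h 1
  refine Set.Finite.subset (associatedPrimes.finite R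
    ((Dn J ε 1) ⧸ (LinearMap.range ε).comap (Dn J ε 1).subtype)) ?_
  intro P hP
  have hJP := le_of_mem_ass_quot_range h hP
  obtain ⟨hPp, y, hy⟩ := (mem_ass_quot_iff _ P).mp hP
  have hy1 : y ∈ Dn J ε 1 := by
    intro c hc
    rw [pow_one] at hc
    exact (hy c).mp (hJP hc)
  rw [mem_ass_quot_iff]
  refine ⟨hPp, ⟨y, hy1⟩, fun r => ?_⟩
  rw [hy r, Submodule.mem_comap]
  rfl

theorem ass_quot_Dn_subset (n : ℕ) :
    associatedPrimes R (D ⧸ Dn J ε n) ⊆ associatedPrimes R (D ⧸ LinearMap.range ε) := by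
  classical
  intro P hP
  obtain ⟨hPp, y, hy⟩ := (mem_ass_quot_iff _ P).mp hP
  obtain ⟨r, a, ha⟩ := Submodule.fg_iff_exists_fin_generating_family.mp
    (IsNoetherian.noetherian (J ^ n))
  have ham : ∀ i, a i ∈ J ^ n := fun i => by
    rw [← ha]; exact Submodule.subset_span ⟨i, rfl⟩
  have hle : (Finset.univ.inf fun i => (LinearMap.range ε).colon {a i • y}) ≤ P := by
    intro b hb
    rw [hy b]
    intro c hc
    rw [← ha] at hc
    refine Submodule.span_induction ?_ ?_ ?_ ?_ hc
    · rintro _ ⟨i, rfl⟩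
      have h0 : (Finset.univ.inf fun i => (LinearMap.range ε).colon {a i • y}) ≤
          (LinearMap.range ε).colon {a i • y} := Finset.inf_le (Finset.mem_univ i)
      have h1 : b ∈ (LinearMap.range ε).colon {a i • y} := h0 hb
      rw [Submodule.mem_colon_singleton] at h1
      rwa [smul_comm]
    · rw [zero_smul]; exact Submodule.zero_mem _
    · intro x z _ _ hx hz
      rw [add_smul]; exact Submodule.add_mem _ hx hz
    · intro d x _ hx
      rw [smul_eq_mul, mul_smul]; exact Submodule.smul_mem _ d hx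
  obtain ⟨i, -, hi⟩ := (Ideal.IsPrime.inf_le' hPp).mp hle
  rw [mem_ass_quot_iff]
  refine ⟨hPp, a i • y, fun b => ⟨fun hb => ?_, fun hb => ?_⟩⟩
  · have h1 := (hy b).mp hb (a i) (ham i)
    rwa [smul_comm] at h1
  · exact hi (Submodule.mem_colon_singleton.mpr hb)

/-- Main step: a uniform exponent killing the "bad" associated primes. -/
theorem exists_forall_ass_notMem [Module.Finite R M] (h : IsIT J ε) (S : Set (Ideal R))
    (hS : ∀ P ∈ S, P.IsPrime → J ≤ P → ∃ n, ∀ y : D, ∃ s, s ∉ P ∧ s • y ∈ Dn J ε n) :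
    ∃ n, ∀ P ∈ associatedPrimes R (D ⧸ Dn J ε n), P ∉ S := by
  classical
  have hF := finite_ass_quot_range h
  let f : Ideal R → ℕ := fun P =>
    if hc : P ∈ S ∧ P.IsPrime ∧ J ≤ P then Classical.choose (hS P hc.1 hc.2.1 hc.2.2) else 0
  refine ⟨hF.toFinset.sup f, fun P hP hPS => ?_⟩
  have hPF : P ∈ associatedPrimes R (D ⧸ LinearMap.range ε) := ass_quot_Dn_subset _ hP
  have hJP := le_of_mem_ass_quot_range h hPF
  obtain ⟨hPp, y, hy⟩ := (mem_ass_quot_iff _ P).mp hP
  have hc : P ∈ S ∧ P.IsPrime ∧ J ≤ P := ⟨hPS, hPp, hJP⟩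
  have hfP : f P = Classical.choose (hS P hc.1 hc.2.1 hc.2.2) := dif_pos hc
  obtain ⟨s, hsP, hs⟩ := Classical.choose_spec (hS P hc.1 hc.2.1 hc.2.2) y
  have hle : f P ≤ hF.toFinset.sup f := Finset.le_sup (hF.mem_toFinset.mpr hPF)
  rw [← hfP] at hs
  exact hsP ((hy s).mpr (Dn_mono ε hle hs))

/-- Global form: if every prime is good, the transform is finite. -/
theorem finite_of_forall_prime [Module.Finite R M] (h : IsIT J ε)
    (hS : ∀ P : Ideal R, P.IsPrime → J ≤ P → ∃ n, ∀ y : D, ∃ s, s ∉ P ∧ s • y ∈ Dn J ε n) :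
    Module.Finite R D := by
  obtain ⟨n, hn⟩ := exists_forall_ass_notMem h Set.univ (fun P _ hP hJP => hS P hP hJP)
  have hsub : Subsingleton (D ⧸ Dn J ε n) := by
    by_contra hns
    rw [not_subsingleton_iff_nontrivial] at hns
    obtain ⟨P, hP⟩ := associatedPrimes.nonempty R (D ⧸ Dn J ε n)
    exact hn P hP (Set.mem_univ P)
  have htop : Dn J ε n = ⊤ := Submodule.Quotient.subsingleton_iff.mp hsub
  have hfin : Module.Finite R (Dn J ε n) := finite_Dn h n
  rw [htop] at hfin
  exact Module.Finite.equiv (Submodule.topEquiv (R := R) (M := D))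

end Ass

section Local

variable {R : Type u} [CommRing R] [IsNoetherianRing R] [IsLocalRing R] {J : Ideal R}
  {M D : Type u} [AddCommGroup M] [Module R M] [AddCommGroup D] [Module R D] {ε : M →ₗ[R] D}

open IsLocalRing

/-- If the only possible associated prime of `D ⧸ Dn n` is the maximal ideal, then `D` is the
transform of `Dn n` along the maximal ideal. -/
theorem isIT_subtype_Dn (h : IsIT J ε) (hJ : J ≤ maximalIdeal R) (n : ℕ)
    (hn : ∀ P ∈ associatedPrimes R (D ⧸ Dn J ε n), P = maximalIdeal R) :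
    IsIT (maximalIdeal R) (Dn J ε n).subtype := by
  have htf : ∀ s : D, (∃ k : ℕ, ∀ c ∈ maximalIdeal R ^ k, c • s = 0) → s = 0 := by
    rintro s ⟨k, hk⟩
    exact h.tf s ⟨k, fun c hc => hk c (Ideal.pow_right_mono hJ k hc)⟩
  refine ⟨fun y => ⟨fun hy => ⟨0, fun c _ => ?_⟩, fun hy => ?_⟩, htf, fun y => ?_, fun k φ => ?_⟩
  · have : y = 0 := Subtype.ext hy
    rw [this, smul_zero]
  · obtain ⟨k, hk⟩ := hy
    apply htf
    refine ⟨k, fun c hc => ?_⟩
    have := congrArg Subtype.val (hk c hc)
    simpa using this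
  · -- cokernel
    by_cases hy : y ∈ Dn J ε n
    · exact ⟨0, fun c _ => ⟨⟨c • y, Submodule.smul_mem _ c hy⟩, rfl⟩⟩
    have hne : (Dn J ε n).colon {y} ≠ ⊤ := by
      intro htop
      have h1 : (1 : R) ∈ (Dn J ε n).colon {y} := by rw [htop]; exact Submodule.mem_top
      rw [Submodule.mem_colon_singleton, one_smul] at h1
      exact hy h1
    have hmin : ∀ P ∈ ((Dn J ε n).colon {y}).minimalPrimes, P = maximalIdeal R := by
      intro P hP
      apply hn
      have hann : Module.annihilator R (Submodule.span R {(Submodule.Quotient.mk y : D ⧸ Dn J ε n)}) =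
          (Dn J ε n).colon {y} := by
        ext r
        rw [Module.mem_annihilator, Submodule.mem_colon_singleton]
        constructor
        · intro hr
          have h1 := hr ⟨Submodule.Quotient.mk y, Submodule.mem_span_singleton_self _⟩
          have h2 := congrArg Subtype.val h1
          simp only [Submodule.coe_smul, Submodule.coe_zero] at h2
          rwa [← Submodule.Quotient.mk_smul, Submodule.Quotient.mk_eq_zero] at h2
        · intro hr
          rintro ⟨x, hx⟩
          obtain ⟨b, rfl⟩ := Submodule.mem_span_singleton.mp hx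
          apply Subtype.ext
          simp only [Submodule.coe_smul, Submodule.coe_zero]
          rw [smul_comm, ← Submodule.Quotient.mk_smul,
            (Submodule.Quotient.mk_eq_zero _).mpr hr, smul_zero]
      rw [← hann] at hP
      have h1 := Module.associatedPrimes.minimalPrimes_annihilator_subset_associatedPrimes R
        (Submodule.span R {(Submodule.Quotient.mk y : D ⧸ Dn J ε n)}) hP
      exact associatedPrimes.subset_of_injective
        (f := (Submodule.span R {(Submodule.Quotient.mk y : D ⧸ Dn J ε n)}).subtype)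
        (Submodule.injective_subtype _) h1
    have hrad : maximalIdeal R ≤ ((Dn J ε n).colon {y}).radical := by
      rw [← Ideal.sInf_minimalPrimes]
      exact le_sInf fun P hP => (hmin P hP).ge
    obtain ⟨k, hk⟩ := Ideal.exists_pow_le_of_le_radical_of_fg hrad
      (IsNoetherian.noetherian _)
    refine ⟨k, fun c hc => ?_⟩
    have h1 := hk hc
    rw [Submodule.mem_colon_singleton] at h1
    exact ⟨⟨c • y, h1⟩, rfl⟩
  · -- closed
    have hle : J ^ k ≤ maximalIdeal R ^ k := Ideal.pow_right_mono hJ k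
    let ψ : ↥(J ^ k) →ₗ[R] D := φ ∘ₗ (Submodule.inclusion hle)
    obtain ⟨t, ht⟩ := h.closed k ψ
    refine ⟨t, fun c => ?_⟩
    rw [← sub_eq_zero]
    apply h.tf
    refine ⟨k, fun a ha => ?_⟩
    have h1 : a • φ c = (c : R) • φ ⟨a, hle ha⟩ := by
      rw [← map_smul, ← map_smul]
      congr 1
      apply Subtype.ext
      simp [mul_comm]
    have h2 : φ ⟨a, hle ha⟩ = a • t := ht ⟨a, ha⟩
    rw [smul_sub, h1, h2, smul_comm, sub_self]

end Local

section Loc

open TensorProduct

variable {R : Type u} [CommRing R] [IsNoetherianRing R] {J : Ideal R}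
  {M D : Type u} [AddCommGroup M] [Module R M] [AddCommGroup D] [Module R D] {ε : M →ₗ[R] D}
  (T : Submonoid R) (R' : Type u) [CommRing R'] [Algebra R R'] [IsLocalization T R']

theorem exists_mem_baseChange_Dn (h : IsIT J ε) (z : R' ⊗[R] D) :
    ∃ n, z ∈ Submodule.baseChange R' (Dn J ε n) := by
  induction z using TensorProduct.induction_on with
  | zero => exact ⟨0, Submodule.zero_mem _⟩
  | tmul r y =>
    obtain ⟨n, hn⟩ := exists_mem_Dn h y
    refine ⟨n, ?_⟩
    have h1 : r ⊗ₜ[R] y = r • ((1 : R') ⊗ₜ[R] y) := by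
      rw [TensorProduct.smul_tmul', smul_eq_mul, mul_one]
    rw [h1]
    exact Submodule.smul_mem _ r (Submodule.tmul_mem_baseChange_of_mem 1 hn)
  | add a b ha hb =>
    obtain ⟨n₁, h₁⟩ := ha
    obtain ⟨n₂, h₂⟩ := hb
    refine ⟨max n₁ n₂, Submodule.add_mem _ ?_ ?_⟩
    · exact Submodule.baseChange_mono (A := R') (Dn_mono ε (le_max_left _ _)) h₁
    · exact Submodule.baseChange_mono (A := R') (Dn_mono ε (le_max_right _ _)) h₂

/-- If the base change of the transform to a localization is finite, there is a uniform exponent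
which works up to denominators. -/
theorem exists_forall_exists_smul_mem_Dn (h : IsIT J ε) [Module.Finite R' (R' ⊗[R] D)] :
    ∃ n, ∀ y : D, ∃ s ∈ T, s • y ∈ Dn J ε n := by
  classical
  obtain ⟨G, hG⟩ := (Module.finite_def (R := R') (M := R' ⊗[R] D)).mp inferInstance
  choose f hf using exists_mem_baseChange_Dn (R' := R') h
  have htop : Submodule.baseChange R' (Dn J ε (G.sup f)) = ⊤ := by
    rw [eq_top_iff, ← hG, Submodule.span_le]
    intro z hz
    exact Submodule.baseChange_mono (A := R') (Dn_mono ε (Finset.le_sup hz)) (hf z)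
  refine ⟨G.sup f, fun y => ?_⟩
  have hzero : ∀ z : R' ⊗[R] D,
      LinearMap.baseChange R' (Dn J ε (G.sup f)).mkQ z = 0 := by
    intro z
    have hz : z ∈ Submodule.baseChange R' (Dn J ε (G.sup f)) := by rw [htop]; exact Submodule.mem_top
    rw [Submodule.baseChange_eq_span] at hz
    refine Submodule.span_induction ?_ ?_ ?_ ?_ hz
    · rintro _ ⟨y', hy', rfl⟩
      change LinearMap.baseChange R' _ ((1 : R') ⊗ₜ[R] y') = 0
      rw [LinearMap.baseChange_tmul, Submodule.mkQ_apply,
        (Submodule.Quotient.mk_eq_zero _).mpr hy', TensorProduct.tmul_zero]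
    · exact map_zero _
    · intro a b _ _ ha hb
      rw [map_add, ha, hb, add_zero]
    · intro r a _ ha
      rw [map_smul, ha, smul_zero]
  have h1 := hzero ((1 : R') ⊗ₜ[R] y)
  rw [LinearMap.baseChange_tmul] at h1
  have h2 : TensorProduct.mk R R' (D ⧸ Dn J ε (G.sup f)) 1 ((Dn J ε (G.sup f)).mkQ y) = 0 := h1
  rw [IsLocalizedModule.eq_zero_iff T] at h2
  obtain ⟨s, hs⟩ := h2
  refine ⟨s, s.2, ?_⟩
  rw [Submodule.mkQ_apply, ← Submodule.Quotient.mk_smul, Submodule.Quotient.mk_eq_zero] at hs
  exact hs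

end Loc

end Groth.Agent.Lib.Helper28.H1Glob
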