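import Mathlib
import Groth.Agent.Lib.Helper28H1Glob
import Groth.Agent.S2725

set_option autoImplicit false
set_option linter.unusedSectionVars false
universe u

namespace Groth.Agent.Lib.Helper28.H1Glob

open Groth.Agent.Lib.Helper28.Deligne Groth.Agent.Lib.Helper8.DT TensorProduct LocCoh

section C1

variable {R : Type u} [CommRing R] {J : Ideal R}
  {M M' D : Type u} [AddCommGroup M] [Module R M] [AddCommGroup M'] [Module R M']
  [AddCommGroup D] [Module R D] {ε : M →ₗ[R] D}

theorem isIT_comp_equiv (h : IsIT J ε) (e : M' ≃ₗ[R] M) : IsIT J (ε ∘ₗ e.toLinearMap) := by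
  refine ⟨fun m => ?_, h.tf, fun s => ?_, h.closed⟩
  · rw [LinearMap.comp_apply, h.ker]
    constructor
    · rintro ⟨n, hn⟩
      refine ⟨n, fun c hc => ?_⟩
      apply e.injective
      rw [map_smul, map_zero]
      exact hn c hc
    · rintro ⟨n, hn⟩
      refine ⟨n, fun c hc => ?_⟩
      change c • e m = 0
      rw [← map_smul, hn c hc, map_zero]
  · obtain ⟨n, hn⟩ := h.cok s
    refine ⟨n, fun c hc => ?_⟩
    obtain ⟨m, hm⟩ := hn c hc
    exact ⟨e.symm m, by rw [LinearMap.comp_apply]; simpa using hm⟩

end C1

section C2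

variable {R : Type u} [CommRing R] [IsNoetherianRing R] {J : Ideal R}
  {D : Type u} [AddCommGroup D] [Module R D] {ε : R →ₗ[R] D}
  (R' : Type u) [CommRing R'] [IsNoetherianRing R'] [Algebra R R'] [Module.Flat R R']

/-- Finiteness of the transform of the base-changed ring implies finiteness of the base change of
the transform. -/
theorem finite_baseChange_of_finite_DT (h : IsIT J ε)
    (hfin : Module.Finite R' (DT (J.map (algebraMap R R')) R')) :
    Module.Finite R' (R' ⊗[R] D) := by
  have hk := bc_ker R' h.ker h.tf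
  have htf := bc_tf R' (ε := ε) h.tf
  have hcok := bc_cok R' h.cok
  have h2 : IsIT (J.map (algebraMap R R'))
      ((toDT (J.map (algebraMap R R')) R') ∘ₗ
        (TensorProduct.AlgebraTensorModule.rid R R' R').toLinearMap) :=
    isIT_comp_equiv (isIT_toDT (J.map (algebraMap R R')) R') _
  exact finite_of_finite_of_pre hk htf hcok h2

end C2

end Groth.Agent.Lib.Helper28.H1Glob
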