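import Mathlib
import Groth.Agent.Lib.Helper28H1GlobB

set_option autoImplicit false
set_option linter.unusedSectionVars false
universe u

namespace Groth.Agent.Lib.Helper28.H1Glob

open Groth.Agent.Lib.Helper28.Deligne Groth.Agent.Lib.Helper8.DT TensorProduct LocCoh IsLocalRing

section D1

variable {R : Type u} [CommRing R] [IsDomain R] [IsNoetherianRing R] {J : Ideal R}
  {D : Type u} [AddCommGroup D] [Module R D] {ε : R →ₗ[R] D}

theorem injective_of_isIT_of_isDomain (h : IsIT J ε) (hJ : J ≠ ⊥) : Function.Injective ε := by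
  rw [← LinearMap.ker_eq_bot, LinearMap.ker_eq_bot']
  intro m hm
  obtain ⟨n, hn⟩ := (h.ker m).mp hm
  obtain ⟨a, haJ, ha0⟩ := Submodule.exists_mem_ne_zero_of_ne_bot hJ
  have h1 := hn (a ^ n) (Ideal.pow_mem_pow haJ n)
  rw [smul_eq_mul] at h1
  rcases mul_eq_zero.mp h1 with h2 | h2
  · exact absurd (eq_zero_of_pow_eq_zero h2) ha0
  · exact h2

theorem smul_injective_of_isIT_of_isDomain (h : IsIT J ε) (hJ : J ≠ ⊥) {a : R} (ha : a ≠ 0) :
    Function.Injective (fun y : D => a • y) := by
  have hinj := injective_of_isIT_of_isDomain h hJ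
  intro y₁ y₂ hy
  rw [← sub_eq_zero]
  have hy' : a • (y₁ - y₂) = 0 := by
    change a • y₁ = a • y₂ at hy
    rw [smul_sub, hy, sub_self]
  obtain ⟨k, hk⟩ := h.cok (y₁ - y₂)
  apply h.tf
  refine ⟨k, fun c hc => ?_⟩
  obtain ⟨r, hr⟩ := hk c hc
  have h1 : ε (a • r) = 0 := by
    rw [map_smul, hr, smul_comm, hy', smul_zero]
  have h2 : a • r = 0 := hinj (by rw [h1, map_zero])
  rw [smul_eq_mul] at h2
  rcases mul_eq_zero.mp h2 with h3 | h3
  · exact absurd h3 ha
  · rw [← hr, h3, map_zero]

/-- `Dn n` embeds into `R`. -/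
theorem exists_injective_Dn (h : IsIT J ε) (hJ : J ≠ ⊥) (n : ℕ) :
    ∃ φ : Dn J ε n →ₗ[R] R, Function.Injective φ := by
  have hinj := injective_of_isIT_of_isDomain h hJ
  obtain ⟨a, haJ, ha0⟩ := Submodule.exists_mem_ne_zero_of_ne_bot hJ
  have han0 : a ^ n ≠ 0 := pow_ne_zero n ha0
  let ψ : Dn J ε n →ₗ[R] D := (LinearMap.lsmul R D (a ^ n)) ∘ₗ (Dn J ε n).subtype
  have hψ : ∀ y, ψ y ∈ LinearMap.range ε := fun y => y.2 _ (Ideal.pow_mem_pow haJ n)
  have hψinj : Function.Injective ψ := by
    intro y₁ y₂ hy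
    apply Subtype.ext
    exact smul_injective_of_isIT_of_isDomain h hJ han0 hy
  let ψ' : Dn J ε n →ₗ[R] LinearMap.range ε := LinearMap.codRestrict _ ψ hψ
  have hψ'inj : Function.Injective ψ' := by
    intro y₁ y₂ hy
    apply hψinj
    exact congrArg Subtype.val hy
  exact ⟨(LinearEquiv.ofInjective ε hinj).symm.toLinearMap ∘ₗ ψ',
    (LinearEquiv.ofInjective ε hinj).symm.injective.comp hψ'inj⟩

end D1

section D2

variable (R : Type u) [CommRing R] [IsDomain R] [IsNoetherianRing R] [IsLocalRing R]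

/-- Associated primes of the completed tensor product of a submodule of `R` are associated primes
of the completion. -/
theorem ass_cpl_tensor_subset {N : Type u} [AddCommGroup N] [Module R N] (φ : N →ₗ[R] R)
    (hφ : Function.Injective φ) :
    associatedPrimes (EGA4.Cpl R) ((EGA4.Cpl R) ⊗[R] N) ⊆
      associatedPrimes (EGA4.Cpl R) (EGA4.Cpl R) := by
  have hflat : Module.Flat R (EGA4.Cpl R) := inferInstance
  have h1 : Function.Injective (φ.baseChange (EGA4.Cpl R)) := by
    rw [LinearMap.baseChange_eq_ltensor]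
    exact Module.Flat.lTensor_preserves_injective_linearMap φ hφ
  exact associatedPrimes.subset_of_injective
    (f := (TensorProduct.AlgebraTensorModule.rid R (EGA4.Cpl R) (EGA4.Cpl R)).toLinearMap ∘ₗ
      (φ.baseChange (EGA4.Cpl R)))
    ((TensorProduct.AlgebraTensorModule.rid R (EGA4.Cpl R) (EGA4.Cpl R)).injective.comp h1)

/-- Local step. -/
theorem finite_DT_of_local (J : Ideal R) (hJ0 : J ≠ ⊥) (hJ : J ≤ maximalIdeal R)
    (ha : ∀ P : Ideal R, P ≠ maximalIdeal R → P.IsPrime → J ≤ P →
      ∃ n, ∀ y : DT J R, ∃ s, s ∉ P ∧ s • y ∈ Dn J (toDT J R) n)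
    (hb : ∀ P ∈ associatedPrimes (EGA4.Cpl R) (EGA4.Cpl R),
      (2 : WithBot ℕ∞) ≤ ringKrullDim (EGA4.Cpl R ⧸ P)) :
    Module.Finite R (DT J R) := by
  have h := isIT_toDT J R
  obtain ⟨n, hn⟩ := exists_forall_ass_notMem h {P | P ≠ maximalIdeal R} ha
  have hn' : ∀ P ∈ associatedPrimes R (DT J R ⧸ Dn J (toDT J R) n), P = maximalIdeal R := by
    intro P hP
    by_contra hne
    exact hn P hP hne
  have hIT' := isIT_subtype_Dn h hJ n hn'
  have hfinDn : Module.Finite R (Dn J (toDT J R) n) := finite_Dn h n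
  obtain ⟨φ, hφ⟩ := exists_injective_Dn h hJ0 n
  have hcoh : EGA4.IsCoherentPushCompl R (maximalIdeal R) (Dn J (toDT J R) n) := by
    rw [Groth.Agent.S2725.result R (Dn J (toDT J R) n)]
    intro p' hp' _
    exact hb p' (ass_cpl_tensor_subset R φ hφ hp')
  have hfin2 : Module.Finite R (DT (maximalIdeal R) (Dn J (toDT J R) n)) :=
    (isCoherentPushCompl_iff_finite_DT R (maximalIdeal R) (Dn J (toDT J R) n)).mp hcoh
  exact IsIT.finite_of_finite hIT' (isIT_toDT (maximalIdeal R) (Dn J (toDT J R) n))

end D2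

section D3

variable (A : Type u) [CommRing A] [IsNoetherianRing A] (I : Ideal A)

/-- Passing to a smaller prime: uniform exponent up to denominators. -/
theorem exists_forall_exists_smul_mem_Dn_of_lt (q : Ideal A) [q.IsPrime]
    (P : Ideal (Localization.AtPrime q)) [P.IsPrime]
    (hfin : haveI : (P.comap (algebraMap A (Localization.AtPrime q))).IsPrime :=
        Ideal.comap_isPrime _ _
      Module.Finite (Localization.AtPrime (P.comap (algebraMap A (Localization.AtPrime q))))
      (DT (I.map (algebraMap A (Localization.AtPrime (P.comap (algebraMap A (Localization.AtPrime q))))))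
        (Localization.AtPrime (P.comap (algebraMap A (Localization.AtPrime q)))))) :
    ∃ n, ∀ y : DT (I.map (algebraMap A (Localization.AtPrime q))) (Localization.AtPrime q),
      ∃ s, s ∉ P ∧ s • y ∈ Dn (I.map (algebraMap A (Localization.AtPrime q)))
        (toDT (I.map (algebraMap A (Localization.AtPrime q))) (Localization.AtPrime q)) n := by
  have hq'p : (P.comap (algebraMap A (Localization.AtPrime q))).IsPrime := Ideal.comap_isPrime _ _
  set q' := P.comap (algebraMap A (Localization.AtPrime q)) with hq'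
  set R := Localization.AtPrime q with hR
  set R' := Localization.AtPrime q' with hR'
  have hle : q' ≤ q := by
    intro a ha
    by_contra hna
    have hu : IsUnit (algebraMap A R a) := IsLocalization.map_units R (⟨a, hna⟩ : q.primeCompl)
    exact (Ideal.IsPrime.ne_top inferInstance) (Ideal.eq_top_of_isUnit_mem P ha hu)
  have hle' : q.primeCompl ≤ q'.primeCompl := fun a ha ha' => ha (hle ha')
  let _ : Algebra R R' := IsLocalization.localizationAlgebraOfSubmonoidLe R R' q.primeCompl
    q'.primeCompl hle'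
  have hst : IsScalarTower A R R' :=
    IsLocalization.localization_isScalarTower_of_submonoid_le R R' q.primeCompl q'.primeCompl hle'
  have hloc : IsLocalization (q'.primeCompl.map (algebraMap A R)) R' :=
    IsLocalization.isLocalization_of_submonoid_le R R' q.primeCompl q'.primeCompl hle'
  have hflat : Module.Flat R R' := IsLocalization.flat R' (q'.primeCompl.map (algebraMap A R))
  have hmap : (I.map (algebraMap A R)).map (algebraMap R R') = I.map (algebraMap A R') := by
    rw [Ideal.map_map, ← IsScalarTower.algebraMap_eq]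
  have h := isIT_toDT (I.map (algebraMap A R)) R
  have hfin' : Module.Finite R' (DT ((I.map (algebraMap A R)).map (algebraMap R R')) R') := by
    rw [hmap]; exact hfin
  have hfin2 : Module.Finite R' (R' ⊗[R] DT (I.map (algebraMap A R)) R) :=
    finite_baseChange_of_finite_DT R' h hfin'
  obtain ⟨n, hn⟩ := exists_forall_exists_smul_mem_Dn (q'.primeCompl.map (algebraMap A R)) R' h
  refine ⟨n, fun y => ?_⟩
  obtain ⟨s, hsT, hs⟩ := hn y
  refine ⟨s, ?_, hs⟩
  obtain ⟨a, ha, rfl⟩ := hsT
  exact ha

end D3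

end Groth.Agent.Lib.Helper28.H1Glob
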