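import Mathlib
import Groth.Agent.Lib.Helper28H1GlobB
import Groth.Agent.Lib.Helper28H1GlobC

set_option autoImplicit false
set_option linter.unusedSectionVars false
universe u

namespace Groth.Agent.Lib.Helper28.H1Glob

open Groth.Agent.Lib.Helper28.Deligne Groth.Agent.Lib.Helper8.DT TensorProduct LocCoh IsLocalRing

section D4

variable (A : Type u) [CommRing A] [IsDomain A] [IsNoetherianRing A] (I : Ideal A)

theorem finite_DT_localization (hI : I ≠ ⊥)
    (h : ∀ (q : Ideal A) [q.IsPrime], I ≤ q →
      ∀ P ∈ associatedPrimes (EGA4.Cpl (Localization.AtPrime q)) (EGA4.Cpl (Localization.AtPrime q)),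
        (2 : WithBot ℕ∞) ≤ ringKrullDim (EGA4.Cpl (Localization.AtPrime q) ⧸ P))
    (q : Ideal A) [q.IsPrime] (hIq : I ≤ q) :
    Module.Finite (Localization.AtPrime q)
      (DT (I.map (algebraMap A (Localization.AtPrime q))) (Localization.AtPrime q)) := by
  have key : ∀ (x : ℕ∞) (q : Ideal A) [q.IsPrime], q.height = x → I ≤ q →
      Module.Finite (Localization.AtPrime q)
        (DT (I.map (algebraMap A (Localization.AtPrime q))) (Localization.AtPrime q)) := by
    intro x
    induction x using WellFoundedLT.induction with
    | ind x ih =>
      intro q _ hx hIq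
      have hinj : Function.Injective (algebraMap A (Localization.AtPrime q)) :=
        IsLocalization.injective (Localization.AtPrime q) q.primeCompl_le_nonZeroDivisors
      refine finite_DT_of_local (Localization.AtPrime q) (I.map (algebraMap A _)) ?_ ?_ ?_ (h q hIq)
      · rw [Ne, Ideal.map_eq_bot_iff_of_injective hinj]
        exact hI
      · rw [← IsLocalization.AtPrime.map_eq_maximalIdeal q (Localization.AtPrime q)]
        exact Ideal.map_mono hIq
      · intro P hPne hPp hJP
        have := hPp
        have hq'p : (P.comap (algebraMap A (Localization.AtPrime q))).IsPrime :=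
          Ideal.comap_isPrime _ _
        apply exists_forall_exists_smul_mem_Dn_of_lt A I q P
        have hle : P.comap (algebraMap A (Localization.AtPrime q)) ≤ q := by
          intro a ha
          by_contra hna
          have hu : IsUnit (algebraMap A (Localization.AtPrime q) a) :=
            IsLocalization.map_units (Localization.AtPrime q) (⟨a, hna⟩ : q.primeCompl)
          exact (Ideal.IsPrime.ne_top inferInstance) (Ideal.eq_top_of_isUnit_mem P ha hu)
        have hne : P.comap (algebraMap A (Localization.AtPrime q)) ≠ q := by
          intro heq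
          apply hPne
          rw [← IsLocalization.AtPrime.map_eq_maximalIdeal q (Localization.AtPrime q)]
          calc P = Ideal.map (algebraMap A (Localization.AtPrime q))
                (P.comap (algebraMap A (Localization.AtPrime q))) :=
                (IsLocalization.map_under q.primeCompl (Localization.AtPrime q) P).symm
            _ = Ideal.map (algebraMap A (Localization.AtPrime q)) q := congrArg _ heq
        have hlt : P.comap (algebraMap A (Localization.AtPrime q)) < q := lt_of_le_of_ne hle hne
        refine ih (P.comap (algebraMap A (Localization.AtPrime q))).height ?_ _ rfl ?_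
        · rw [← hx]
          exact Ideal.height_strict_mono_of_isPrime hlt
        · exact Ideal.map_le_iff_le_comap.mp hJP
  exact key q.height q rfl hIq

/-- Global finiteness of the transform. -/
theorem finite_DT_of_completion (hI : I ≠ ⊥)
    (h : ∀ (q : Ideal A) [q.IsPrime], I ≤ q →
      ∀ P ∈ associatedPrimes (EGA4.Cpl (Localization.AtPrime q)) (EGA4.Cpl (Localization.AtPrime q)),
        (2 : WithBot ℕ∞) ≤ ringKrullDim (EGA4.Cpl (Localization.AtPrime q) ⧸ P)) :
    Module.Finite A (DT I A) := by
  have hIT := isIT_toDT I A
  refine finite_of_forall_prime hIT ?_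
  intro P hPp hIP
  have := hPp
  have hfin := finite_DT_localization A I hI h P hIP
  have hflat : Module.Flat A (Localization.AtPrime P) :=
    IsLocalization.flat (Localization.AtPrime P) P.primeCompl
  have hfin2 : Module.Finite (Localization.AtPrime P) (Localization.AtPrime P ⊗[A] DT I A) :=
    finite_baseChange_of_finite_DT (Localization.AtPrime P) hIT hfin
  obtain ⟨n, hn⟩ := exists_forall_exists_smul_mem_Dn P.primeCompl (Localization.AtPrime P) hIT
  refine ⟨n, fun y => ?_⟩
  obtain ⟨s, hsT, hs⟩ := hn y
  exact ⟨s, hsT, hs⟩

end D4

end Groth.Agent.Lib.Helper28.H1Glob
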