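import Mathlib
import Groth.Agent.Lib.Helper5NilComplex

/-!
# Lifting Hilbert–Burch type presentations along nilpotent thickenings (helper5)

For an `(r+1) × r` matrix `φ` over a flat `C`-algebra `S`, if modulo a nilpotent ideal `J ⊆ C`
the sequence `0 → S^r → S^{r+1} → S` (matrix, then signed maximal minors) is exact with cokernel
flat over `C/J`, then the same holds over `C`.
-/

set_option autoImplicit false
universe u v
open scoped TensorProduct

namespace Groth.Agent.Lib.Helper5

section Pi

variable {C : Type u} [CommRing C] {S : Type v} [CommRing S] [Algebra C S]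

theorem flat_pi_fin [Module.Flat C S] (n : ℕ) : Module.Flat C (Fin n → S) :=
  Module.Flat.of_linearEquiv
    (DFinsupp.linearEquivFunOnFintype (R := C) (M := fun _ : Fin n => S)).symm

/-- Membership in `J (S^n)` is coordinatewise membership in `J S`. -/
theorem mem_smul_top_pi_iff (J : Ideal C) {n : ℕ} (v : Fin n → S) :
    v ∈ (J • ⊤ : Submodule C (Fin n → S)) ↔ ∀ i, v i ∈ J.map (algebraMap C S) := by
  constructor
  · intro hv
    refine Submodule.smul_induction_on hv ?_ ?_
    · intro a ha w _ i
      rw [Pi.smul_apply, Algebra.smul_def]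
      exact Ideal.mul_mem_right _ _ (Ideal.mem_map_of_mem _ ha)
    · intro x y hx hy i
      rw [Pi.add_apply]
      exact Ideal.add_mem _ (hx i) (hy i)
  · intro h
    have hsum : v = ∑ i, LinearMap.single C (fun _ : Fin n => S) i (v i) := by
      ext j
      rw [Finset.sum_apply]
      simp [Pi.single_apply]
    rw [hsum]
    refine Submodule.sum_mem _ fun i _ => ?_
    have h1 : v i ∈ (J • ⊤ : Submodule C S) := by
      rw [Ideal.smul_top_eq_map, Submodule.restrictScalars_mem]
      exact h i
    have h2 : LinearMap.single C (fun _ : Fin n => S) i (v i) ∈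
        (J • ⊤ : Submodule C S).map (LinearMap.single C (fun _ : Fin n => S) i) :=
      Submodule.mem_map_of_mem h1
    rw [Submodule.map_smul''] at h2
    exact Submodule.smul_mono le_rfl le_top h2

end Pi

section Minors

variable {S : Type v} [CommRing S]

/-- The signed maximal minors of an `(r+1) × r` matrix. -/
def signedMinor {r : ℕ} (φ : Matrix (Fin (r + 1)) (Fin r) S) (i : Fin (r + 1)) : S :=
  (-1 : S) ^ (i : ℕ) * (φ.submatrix i.succAbove id).det

/-- The signed maximal minors give relations on the columns. -/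
theorem sum_mul_signedMinor_eq_zero {r : ℕ} (φ : Matrix (Fin (r + 1)) (Fin r) S) (j : Fin r) :
    ∑ i, φ i j * signedMinor φ i = 0 := by
  obtain ⟨M, hM⟩ : ∃ M : Matrix (Fin (r + 1)) (Fin (r + 1)) S,
      (∀ i, M i 0 = φ i j) ∧ ∀ i l, M i (Fin.succ l) = φ i l :=
    ⟨fun i k => Fin.cases (φ i j) (fun l => φ i l) k, fun i => rfl, fun i l => rfl⟩
  have hdet : M.det = 0 := by
    apply Matrix.det_zero_of_column_eq (i := 0) (j := Fin.succ j) (Fin.succ_ne_zero j).symm
    intro k
    rw [hM.1, hM.2]
  rw [Matrix.det_succ_column_zero] at hdet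
  rw [← hdet]
  apply Finset.sum_congr rfl
  intro i _
  have hsub : M.submatrix i.succAbove Fin.succ = φ.submatrix i.succAbove id := by
    ext a l
    exact hM.2 _ l
  rw [hM.1, hsub, signedMinor]
  ring

theorem map_signedMinor {T : Type*} [CommRing T] (ψ : S →+* T) {r : ℕ}
    (φ : Matrix (Fin (r + 1)) (Fin r) S) (i : Fin (r + 1)) :
    ψ (signedMinor φ i) = signedMinor (φ.map ψ) i := by
  unfold signedMinor
  rw [map_mul, map_pow, map_neg, map_one, RingHom.map_det, RingHom.mapMatrix_apply,
    Matrix.submatrix_map]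

end Minors

section Main

variable {C : Type u} [CommRing C] {S : Type u} [CommRing S] [Algebra C S]

/-- Lifting of Hilbert–Burch presentations along a nilpotent ideal of the base. -/
theorem hilbertBurch_lift [Module.Flat C S] (J : Ideal C) (hJ : IsNilpotent J) {r : ℕ}
    (φ : Matrix (Fin (r + 1)) (Fin r) S)
    (hinj : Function.Injective
      (φ.map (Ideal.Quotient.mk (J.map (algebraMap C S)))).mulVecLin)
    (hex : LinearMap.range (φ.map (Ideal.Quotient.mk (J.map (algebraMap C S)))).mulVecLin =
      LinearMap.ker (Fintype.linearCombination (S ⧸ J.map (algebraMap C S))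
        (signedMinor (φ.map (Ideal.Quotient.mk (J.map (algebraMap C S)))))))
    (hflat : Module.Flat (C ⧸ J) ((S ⧸ J.map (algebraMap C S)) ⧸
      Ideal.span (Set.range (signedMinor (φ.map (Ideal.Quotient.mk (J.map (algebraMap C S)))))))) :
    Function.Injective φ.mulVecLin ∧
      LinearMap.range φ.mulVecLin =
        LinearMap.ker (Fintype.linearCombination S (signedMinor φ)) ∧
      Module.Flat C (S ⧸ Ideal.span (Set.range (signedMinor φ))) := by
  classical
  have hQ : Module.Flat C (Fin (r + 1) → S) := flat_pi_fin (r + 1)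
  -- abbreviations
  obtain ⟨mk, hmk⟩ : ∃ mk : S →+* S ⧸ J.map (algebraMap C S),
      mk = Ideal.Quotient.mk (J.map (algebraMap C S)) := ⟨_, rfl⟩
  rw [← hmk] at hinj hex hflat
  have hmk0 : ∀ x : S, mk x = 0 ↔ x ∈ J.map (algebraMap C S) := by
    intro x
    rw [hmk]
    exact Ideal.Quotient.eq_zero_iff_mem
  have hmks : Function.Surjective mk := by
    rw [hmk]
    exact Ideal.Quotient.mk_surjective
  obtain ⟨f, hf⟩ : ∃ f : (Fin r → S) →ₗ[C] (Fin (r + 1) → S), ∀ p, f p = φ.mulVec p :=
    ⟨φ.mulVecLin.restrictScalars C, fun p => rfl⟩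
  obtain ⟨g, hg⟩ : ∃ g : (Fin (r + 1) → S) →ₗ[C] S, ∀ q, g q = ∑ i, q i * signedMinor φ i :=
    ⟨(Fintype.linearCombination S (signedMinor φ)).restrictScalars C, fun q => by
      rw [LinearMap.restrictScalars_apply, Fintype.linearCombination_apply]
      rfl⟩
  have hgf : ∀ p, g (f p) = 0 := by
    intro p
    rw [hg, hf]
    simp only [Matrix.mulVec, dotProduct]
    have : ∀ i, (∑ j, φ i j * p j) * signedMinor φ i = ∑ j, p j * (φ i j * signedMinor φ i) := by
      intro i
      rw [Finset.sum_mul]
      apply Finset.sum_congr rfl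
      intro j _
      ring
    simp only [this]
    rw [Finset.sum_comm]
    apply Finset.sum_eq_zero
    intro j _
    rw [← Finset.mul_sum, sum_mul_signedMinor_eq_zero, mul_zero]
  -- reduction of vectors
  have hredvec : ∀ p : Fin r → S, (φ.map mk).mulVec (mk ∘ p) = mk ∘ (φ.mulVec p) := by
    intro p
    ext i
    rw [Function.comp_apply, RingHom.map_mulVec]
  have hredg : ∀ q : Fin (r + 1) → S,
      Fintype.linearCombination (S ⧸ J.map (algebraMap C S)) (signedMinor (φ.map mk)) (mk ∘ q) =
        mk (g q) := by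
    intro q
    rw [Fintype.linearCombination_apply, hg, map_sum]
    apply Finset.sum_congr rfl
    intro i _
    rw [Function.comp_apply, smul_eq_mul, map_mul, map_signedMinor]
  -- injectivity modulo `J`
  have h0 : Function.Injective (f.lTensor (C ⧸ J)) := by
    rw [lTensor_quotient_injective_iff]
    intro p hp
    rw [mem_smul_top_pi_iff] at hp ⊢
    have h1 : (φ.map mk).mulVecLin (mk ∘ p) = (φ.map mk).mulVecLin 0 := by
      rw [Matrix.mulVecLin_apply, Matrix.mulVecLin_apply, hredvec, Matrix.mulVec_zero]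
      ext i
      rw [Function.comp_apply, Pi.zero_apply, hmk0, ← hf]
      exact hp i
    have h2 := hinj h1
    intro j
    rw [← hmk0]
    exact congrFun h2 j
  -- exactness modulo `J`
  have hred : Function.Exact (f.lTensor (C ⧸ J)) (g.lTensor (C ⧸ J)) := by
    apply exact_lTensor_quotient_of_forall f g hgf
    intro q hq
    rw [Ideal.smul_top_eq_map, Submodule.restrictScalars_mem, ← hmk0, ← hredg,
      ← LinearMap.mem_ker, ← hex] at hq
    obtain ⟨pb, hpb⟩ := hq
    choose p hp using fun j => hmks (pb j)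
    refine ⟨p, ?_⟩
    rw [mem_smul_top_pi_iff]
    intro i
    rw [← hmk0, Pi.sub_apply, map_sub, hf, sub_eq_zero]
    have h1 : mk ∘ p = pb := funext hp
    rw [Matrix.mulVecLin_apply, ← h1, hredvec] at hpb
    exact (congrFun hpb i).symm
  -- the image of `g`
  have hrange : ∀ x : S, x ∈ LinearMap.range g ↔ x ∈ Ideal.span (Set.range (signedMinor φ)) := by
    intro x
    rw [Ideal.mem_span_range_iff_exists_fun, LinearMap.mem_range]
    constructor
    · rintro ⟨q, rfl⟩
      exact ⟨q, (hg q).symm⟩
    · rintro ⟨q, rfl⟩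
      exact ⟨q, hg q⟩
  -- flatness of the reduction of the cokernel
  have hfl : Module.Flat (C ⧸ J) ((C ⧸ J) ⊗[C] (S ⧸ LinearMap.range g)) := by
    obtain ⟨ρ, hρ⟩ : ∃ ρ : S →ₗ[C] ((S ⧸ J.map (algebraMap C S)) ⧸
        Ideal.span (Set.range (signedMinor (φ.map mk)))),
        ∀ x, ρ x = Ideal.Quotient.mk _ (mk x) := by
      refine ⟨((Ideal.Quotient.mkₐ C (Ideal.span (Set.range (signedMinor (φ.map mk))))).comp
        (Ideal.Quotient.mkₐ C (J.map (algebraMap C S)))).toLinearMap, fun x => ?_⟩
      rw [hmk]
      rfl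
    refine flat_quotient_tensor_of_surjective_of_ker_eq g ρ ?_ ?_ hflat
    · intro y
      obtain ⟨z, rfl⟩ := Ideal.Quotient.mk_surjective y
      obtain ⟨x, rfl⟩ := hmks z
      exact ⟨x, hρ x⟩
    · ext x
      rw [LinearMap.mem_ker, hρ, Ideal.Quotient.eq_zero_iff_mem]
      have hspan : Ideal.span (Set.range (signedMinor (φ.map mk))) =
          (Ideal.span (Set.range (signedMinor φ))).map mk := by
        rw [Ideal.map_span]
        congr 1
        ext y
        constructor
        · rintro ⟨i, rfl⟩
          exact ⟨signedMinor φ i, ⟨i, rfl⟩, map_signedMinor mk φ i⟩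
        · rintro ⟨_, ⟨i, rfl⟩, rfl⟩
          exact ⟨i, (map_signedMinor mk φ i).symm⟩
      rw [hspan, Ideal.mem_map_iff_of_surjective mk hmks, Submodule.mem_sup]
      constructor
      · rintro ⟨y, hy, hyx⟩
        refine ⟨y, (hrange y).mpr hy, x - y, ?_, by abel⟩
        rw [Ideal.smul_top_eq_map, Submodule.restrictScalars_mem, ← hmk0, map_sub, hyx, sub_self]
      · rintro ⟨y, hy, z, hz, rfl⟩
        refine ⟨y, (hrange y).mp hy, ?_⟩
        rw [Ideal.smul_top_eq_map, Submodule.restrictScalars_mem, ← hmk0] at hz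
        rw [map_add, hz, add_zero]
  obtain ⟨h1, h2, h3⟩ := injective_and_exact_and_flat_of_lTensor_quotient_of_isNilpotent hJ f g
    hgf h0 hred hfl
  refine ⟨?_, ?_, ?_⟩
  · intro a b hab
    apply h1
    rw [hf, hf]
    exact hab
  · ext x
    have h4 : x ∈ LinearMap.range f ↔ x ∈ LinearMap.ker g := by rw [h2]
    rw [LinearMap.mem_range, LinearMap.mem_ker] at h4 ⊢
    rw [Fintype.linearCombination_apply]
    constructor
    · rintro ⟨p, rfl⟩
      have := h4.mp ⟨p, hf p⟩
      rw [hg] at this
      exact this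
    · intro hx
      have h5 : g x = 0 := by
        rw [hg]
        exact hx
      obtain ⟨p, hp⟩ := h4.mpr h5
      exact ⟨p, (hf p).symm.trans hp⟩
  · have heq : LinearMap.range g = (Ideal.span (Set.range (signedMinor φ))).restrictScalars C := by
      ext x
      rw [hrange, Submodule.restrictScalars_mem]
    exact Module.Flat.of_linearEquiv
      ((Submodule.quotEquivOfEq _ _ heq) ≪≫ₗ
        (Submodule.Quotient.restrictScalarsEquiv C
          (Ideal.span (Set.range (signedMinor φ))))).symm

end Main

end Groth.Agent.Lib.Helper5
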