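import Mathlib
import Groth.Agent.Lib.Helper5LocalFlat2

/-!
# Nakayama for nilpotent ideals, relative form; kernels of maps onto flat modules (helper5)
-/

set_option autoImplicit false
universe u v w
open scoped TensorProduct Pointwise

namespace Groth.Agent.Lib.Helper5

variable {A : Type u} [CommRing A] {F : Type v} [AddCommGroup F] [Module A F]

/-- Relative Nakayama for a nilpotent ideal: `K ≤ L + I K` implies `K ≤ L`. -/
theorem le_of_le_sup_smul_of_isNilpotent {I : Ideal A} (hI : IsNilpotent I)
    {K L : Submodule A F} (h : K ≤ L ⊔ I • K) : K ≤ L := by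
  obtain ⟨n, hn⟩ := hI
  have key : ∀ k : ℕ, K ≤ L ⊔ I ^ k • K := by
    intro k
    induction k with
    | zero =>
      rw [pow_zero, Ideal.one_eq_top, Submodule.top_smul]
      exact le_sup_right
    | succ k ih =>
      refine h.trans (sup_le le_sup_left ?_)
      calc I • K ≤ I • (L ⊔ I ^ k • K) := Submodule.smul_mono le_rfl ih
        _ = I • L ⊔ I • (I ^ k • K) := Submodule.smul_sup _ _ _
        _ ≤ L ⊔ I ^ (k + 1) • K := by
          refine sup_le_sup Submodule.smul_le_right ?_
          rw [← mul_smul, ← pow_succ']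
  have h2 := key n
  rw [hn, Ideal.zero_eq_bot, Submodule.bot_smul, sup_bot_eq] at h2
  exact h2

/-- For a surjection `ψ : F → B` onto a flat module with kernel `K`: `K ∩ I F = I K`. -/
theorem mem_smul_ker_of_mem_smul_top_of_flat {B : Type w} [AddCommGroup B] [Module A B]
    [Module.Flat A B] (ψ : F →ₗ[A] B) (hψ : Function.Surjective ψ) (I : Ideal A) (x : F)
    (hx : ψ x = 0) (hxI : x ∈ (I • ⊤ : Submodule A F)) :
    x ∈ (I • LinearMap.ker ψ : Submodule A F) := by
  have hex : Function.Exact (LinearMap.ker ψ).subtype ψ := LinearMap.exact_subtype_ker_map ψ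
  have hinj : Function.Injective ((LinearMap.ker ψ).subtype.lTensor (A ⧸ I)) :=
    LinearMap.lTensor_injective_of_exact_of_flat ψ hψ _ (Submodule.injective_subtype _) hex _
  rw [lTensor_quotient_injective_iff] at hinj
  have h1 := hinj ⟨x, hx⟩ hxI
  have h2 : (LinearMap.ker ψ).subtype ⟨x, hx⟩ ∈
      (I • ⊤ : Submodule A (LinearMap.ker ψ)).map (LinearMap.ker ψ).subtype :=
    Submodule.mem_map_of_mem h1
  rw [Submodule.map_smul'', Submodule.map_top, Submodule.range_subtype] at h2
  exact h2

/-- Lifting generators: if `S/I'` is flat over `C`, `J ⊆ C` is nilpotent and the image of `I'`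
in `S/JS` is generated by `a_1, …, a_r`, then `I'` is generated by lifts of the `a_i`. -/
theorem exists_lift_span_range_eq_of_flat_quotient {C : Type u} [CommRing C] {S : Type v}
    [CommRing S] [Algebra C S] {J : Ideal C} (hJ : IsNilpotent J) (I' : Ideal S)
    [Module.Flat C (S ⧸ I')] {r : ℕ} (a : Fin r → S ⧸ J.map (algebraMap C S))
    (hI' : I'.map (Ideal.Quotient.mk (J.map (algebraMap C S))) = Ideal.span (Set.range a)) :
    ∃ a' : Fin r → S, (∀ i, Ideal.Quotient.mk (J.map (algebraMap C S)) (a' i) = a i) ∧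
      I' = Ideal.span (Set.range a') := by
  have hlift : ∀ i, ∃ x ∈ I', Ideal.Quotient.mk (J.map (algebraMap C S)) x = a i := by
    intro i
    have h1 : a i ∈ I'.map (Ideal.Quotient.mk (J.map (algebraMap C S))) := by
      rw [hI']
      exact Ideal.subset_span ⟨i, rfl⟩
    exact (Ideal.mem_map_iff_of_surjective _ Ideal.Quotient.mk_surjective).mp h1
  choose a' ha'mem ha' using hlift
  refine ⟨a', ha', le_antisymm ?_ ?_⟩
  · obtain ⟨ψ, hψ⟩ : ∃ ψ : S →ₗ[C] S ⧸ I', ∀ x, ψ x = Ideal.Quotient.mk I' x :=
      ⟨(Ideal.Quotient.mkₐ C I').toLinearMap, fun x => rfl⟩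
    have hψsurj : Function.Surjective ψ := by
      intro y
      obtain ⟨x, rfl⟩ := Ideal.Quotient.mk_surjective y
      exact ⟨x, hψ x⟩
    have hker : ∀ x, x ∈ LinearMap.ker ψ ↔ x ∈ I' := by
      intro x
      rw [LinearMap.mem_ker, hψ, Ideal.Quotient.eq_zero_iff_mem]
    have hle : LinearMap.ker ψ ≤ (Ideal.span (Set.range a')).restrictScalars C := by
      apply le_of_le_sup_smul_of_isNilpotent hJ
      intro x hx
      rw [hker] at hx
      have h1 : Ideal.Quotient.mk (J.map (algebraMap C S)) x ∈ Ideal.span (Set.range a) := by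
        rw [← hI']
        exact Ideal.mem_map_of_mem _ hx
      obtain ⟨cb, hcb⟩ := Ideal.mem_span_range_iff_exists_fun.mp h1
      choose c hc using fun i => Ideal.Quotient.mk_surjective (cb i)
      have h2 : ∑ i, c i * a' i ∈ (Ideal.span (Set.range a')).restrictScalars C := by
        rw [Submodule.restrictScalars_mem]
        exact Ideal.sum_mem _ fun i _ => Ideal.mul_mem_left _ _ (Ideal.subset_span ⟨i, rfl⟩)
      have h3 : x - ∑ i, c i * a' i ∈ (J • LinearMap.ker ψ : Submodule C S) := by
        apply mem_smul_ker_of_mem_smul_top_of_flat ψ hψsurj J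
        · rw [← LinearMap.mem_ker, hker]
          exact I'.sub_mem hx (Ideal.sum_mem _ fun i _ => Ideal.mul_mem_left _ _ (ha'mem i))
        · rw [Ideal.smul_top_eq_map, Submodule.restrictScalars_mem,
            ← Ideal.Quotient.eq_zero_iff_mem, map_sub, map_sum, ← hcb, sub_eq_zero]
          apply Finset.sum_congr rfl
          intro i _
          rw [map_mul, hc, ha']
      have hxx : x = ∑ i, c i * a' i + (x - ∑ i, c i * a' i) := by abel
      rw [hxx]
      exact Submodule.add_mem_sup h2 h3
    intro x hx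
    exact hle ((hker x).mpr hx)
  · rw [Ideal.span_le]
    rintro _ ⟨i, rfl⟩
    exact ha'mem i

end Groth.Agent.Lib.Helper5
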