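import Groth.Agent.Lib.Helper28Kollar
import Groth.Agent.Lib.Helper5LocalFlat
import Groth.Prelude.Def_FlatCA

/-!
# Kollár's "hulls and husks" flatness criteria, affine-local forms (helper28)

`A → B` local homomorphism of Noetherian local rings, `J ⊆ B` an ideal, `M` a finite `B`-module flat
over `A` off `V(J)`.

* `mem_map_maximalIdeal_smul_top_of_flat_off`: condition (C) `(I'M : a) ⊆ mM` when
  `depth_J (M/mM) ≥ 1`;
* `lTensor_maximalIdeal_injective_of_colonCond`: (C) ⇒ `Tor_1(k, M) = 0` (composition series +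
  Krull intersection);
* `flat_of_flat_off_of_one_le_depth`: `depth_J (M/mM) ≥ 1` ⇒ `M` flat over `A`
  (uses helper5's local criterion of flatness);
* `two_le_idealDepth_quotient_of_pow_le`: `depth_J (M/mM) ≥ 2` ⇒ `depth_J (M/IM) ≥ 2` for all
  `m`-primary `I ≤ m`.
-/

set_option autoImplicit false
universe u v w u' v'

namespace Groth.Agent.Lib.Helper28
open RingTheory.Sequence CategoryTheory Abelian TensorProduct
open scoped Pointwise

section HullC

variable {A : Type u} {B : Type u} [CommRing A] [CommRing B] [IsLocalRing A] [Algebra A B]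
  {M : Type u} [AddCommGroup M] [Module B M] [Module A M] [IsScalarTower A B M]

/-- Local step: flatness of `M_q` over `A` gives `(I'M : a) ⊆ mM` up to a unit of `B_q`. -/
theorem exists_notMem_smul_mem_of_flatAt (q : Ideal B) [q.IsPrime]
    (hflat : FlatCA.FlatAt A q M) (I' : Ideal A) (a : A) (ha : a ∉ I') (b : M)
    (hb : a • b ∈ (I'.map (algebraMap A B)) • (⊤ : Submodule B M)) :
    ∃ s : B, s ∉ q ∧ s • b ∈ ((IsLocalRing.maximalIdeal A).map (algebraMap A B)) •
      (⊤ : Submodule B M) := by
  set Mq := LocalizedModule q.primeCompl M with hMq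
  set f := LocalizedModule.mkLinearMap q.primeCompl M with hf
  have hflat' : Module.Flat A Mq := hflat
  -- transfer of `I • ⊤`
  have key : ∀ (I : Ideal A) (x : M), x ∈ (I.map (algebraMap A B)) • (⊤ : Submodule B M) →
      f x ∈ I • (⊤ : Submodule A Mq) := by
    intro I x hx
    have h1 : (I.map (algebraMap A B) • (⊤ : Submodule B M)).restrictScalars A =
        I • (⊤ : Submodule A M) := by
      rw [Ideal.smul_restrictScalars, Submodule.restrictScalars_top]
    have hx' : x ∈ I • (⊤ : Submodule A M) := by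
      rw [← h1]; exact hx
    refine Submodule.smul_induction_on hx' ?_ ?_
    · intro c hc y _
      have : f (c • y) = c • f y := by
        rw [hf, LocalizedModule.mkLinearMap_apply, LocalizedModule.mkLinearMap_apply,
          LocalizedModule.smul'_mk]
      rw [this]
      exact Submodule.smul_mem_smul hc Submodule.mem_top
    · intro x y hx hy
      rw [map_add]; exact Submodule.add_mem _ hx hy
  have h1 : a • f b ∈ I' • (⊤ : Submodule A Mq) := by
    have := key I' (a • b) hb
    have e : f (a • b) = a • f b := by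
      rw [hf, LocalizedModule.mkLinearMap_apply, LocalizedModule.mkLinearMap_apply,
        LocalizedModule.smul'_mk]
    rwa [e] at this
  have h2 := mem_colon_smul_top_of_flat I' a (f b) h1
  have hcolon : (Submodule.colon I' {a} : Ideal A) ≤ IsLocalRing.maximalIdeal A := by
    apply IsLocalRing.le_maximalIdeal
    intro htop
    have : (1 : A) ∈ (Submodule.colon I' {a} : Ideal A) := htop ▸ Submodule.mem_top
    rw [Submodule.mem_colon_singleton, one_smul] at this
    exact ha this
  have h3 : f b ∈ (IsLocalRing.maximalIdeal A) • (⊤ : Submodule A Mq) :=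
    Submodule.smul_mono_left hcolon h2
  -- now `m • ⊤ ≤ localized' (mB • ⊤)`
  set mM : Submodule B M := ((IsLocalRing.maximalIdeal A).map (algebraMap A B)) •
    (⊤ : Submodule B M) with hmM
  have h4 : f b ∈ (mM.localized' (Localization.AtPrime q) q.primeCompl f).restrictScalars A := by
    refine Submodule.smul_le.mpr ?_ h3
    intro c hc y _
    induction y using LocalizedModule.induction_on with
    | h y s =>
      rw [Submodule.restrictScalars_mem, Submodule.mem_localized']
      refine ⟨c • y, ?_, s, ?_⟩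
      · have : c • y = (algebraMap A B c) • y := by rw [algebraMap_smul]
        rw [this]
        exact Submodule.smul_mem_smul (Ideal.mem_map_of_mem _ hc) Submodule.mem_top
      · rw [LocalizedModule.smul'_mk, ← IsLocalizedModule.mk_eq_mk']
  rw [Submodule.restrictScalars_mem, Submodule.mem_localized'] at h4
  obtain ⟨y, hy, s, hys⟩ := h4
  rw [← IsLocalizedModule.mk'_one q.primeCompl f b, IsLocalizedModule.mk'_eq_mk'_iff] at hys
  obtain ⟨t, ht⟩ := hys
  refine ⟨t * s, ?_, ?_⟩
  · intro hmem
    rcases Ideal.IsPrime.mem_or_mem inferInstance hmem with h | h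
    · exact t.2 h
    · exact s.2 h
  · have : ((t : B) * (s : B)) • b = (t : B) • y := by
      rw [mul_smul]
      simpa [Submonoid.smul_def] using ht
    rw [this]
    exact mM.smul_mem _ hy

variable [IsNoetherianRing B] [IsLocalRing B] [Module.Finite B M]

/-- Condition (C): `(I' M : a) ⊆ m M`, from flatness off `V(J)` and `depth_J (M/mM) ≥ 1`. -/
theorem mem_map_maximalIdeal_smul_top_of_flat_off (J : Ideal B)
    (hU : ∀ q : PrimeSpectrum B, ¬ J ≤ q.asIdeal → FlatCA.FlatAt A q.asIdeal M)
    (h1 : 1 ≤ LocCoh.idealDepth J (EGA4.FibMod A B M))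
    (I' : Ideal A) (a : A) (ha : a ∉ I') (b : M)
    (hb : a • b ∈ (I'.map (algebraMap A B)) • (⊤ : Submodule B M)) :
    b ∈ ((IsLocalRing.maximalIdeal A).map (algebraMap A B)) • (⊤ : Submodule B M) := by
  set mM : Submodule B M := ((IsLocalRing.maximalIdeal A).map (algebraMap A B)) •
    (⊤ : Submodule B M) with hmM
  set Ann : Ideal B := Submodule.colon mM {b} with hAnn
  -- `J ≤ radical Ann`
  have hrad : J ≤ Ann.radical := by
    rw [Ideal.radical_eq_sInf]
    refine le_sInf ?_
    rintro q ⟨hAq, hq⟩
    by_contra hJq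
    obtain ⟨s, hs, hsb⟩ := exists_notMem_smul_mem_of_flatAt q (hU ⟨q, hq⟩ hJq) I' a ha b hb
    apply hs
    apply hAq
    rw [hAnn, Submodule.mem_colon_singleton]
    exact hsb
  obtain ⟨k, hk⟩ := Ideal.exists_pow_le_of_le_radical_of_fg_radical hrad
    ((isNoetherianRing_iff_ideal_fg B).mp inferInstance _)
  -- work in the fibre module
  set N := EGA4.FibMod A B M with hN
  set bbar : N := Submodule.Quotient.mk b with hbbar
  suffices hzero : bbar = 0 by
    rwa [hbbar, Submodule.Quotient.mk_eq_zero] at hzero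
  have hkill : ∀ c ∈ J ^ k, c • bbar = 0 := by
    intro c hc
    rw [hbbar, ← Submodule.Quotient.mk_smul, Submodule.Quotient.mk_eq_zero]
    have := hk hc
    rwa [hAnn, Submodule.mem_colon_singleton] at this
  by_cases hJN : J • (⊤ : Submodule B N) = ⊤
  · by_cases hJm : J ≤ IsLocalRing.maximalIdeal B
    · -- Nakayama: `N = 0`
      have hfg : (⊤ : Submodule B N).FG := Module.Finite.fg_top
      have := Submodule.eq_bot_of_le_smul_of_le_jacobson_bot J ⊤ hfg (le_of_eq hJN.symm)
        (hJm.trans (IsLocalRing.maximalIdeal_le_jacobson _))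
      have hb0 : bbar ∈ (⊤ : Submodule B N) := Submodule.mem_top
      rw [this] at hb0
      exact (Submodule.mem_bot B).mp hb0
    · have hJtop : J = ⊤ := by
        by_contra hne
        exact hJm (IsLocalRing.le_maximalIdeal hne)
      have := hkill 1 (by rw [hJtop, Ideal.top_pow]; exact Submodule.mem_top)
      rwa [one_smul] at this
  · obtain ⟨u, hu, hreg⟩ := (one_le_idealDepth_iff hJN).mp h1
    have := hkill (u ^ k) (Ideal.pow_mem_pow hu k)
    exact (hreg.pow k) (by change u ^ k • bbar = u ^ k • 0; rw [this, smul_zero])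

end HullC


section HullFlat

variable {A : Type u} [CommRing A] [IsLocalRing A] {M : Type u} [AddCommGroup M] [Module A M]

/-- Condition (C): `(I' M : a) ⊆ m M` for every ideal `I'` and `a ∉ I'`. -/
def ColonCond (A : Type u) [CommRing A] [IsLocalRing A] (M : Type u) [AddCommGroup M]
    [Module A M] : Prop :=
  ∀ (I' : Ideal A) (a : A), a ∉ I' → ∀ b : M, a • b ∈ I' • (⊤ : Submodule A M) →
    b ∈ (IsLocalRing.maximalIdeal A) • (⊤ : Submodule A M)

/-- One step: kernel elements of `M ⊗ I → M` lift to `M ⊗ I'`. -/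
theorem exists_lTensor_inclusion_eq (hC : ColonCond A M) (I' I : Ideal A) (hle : I' ≤ I) (a : A)
    (haI : a ∈ I) (ha : a ∉ I') (hsup : I = I' ⊔ Ideal.span {a})
    (hma : ∀ c ∈ IsLocalRing.maximalIdeal A, c * a ∈ I') (z : M ⊗[A] I)
    (hz : LinearMap.lTensor M I.subtype z = 0) :
    ∃ z' : M ⊗[A] I', LinearMap.lTensor M (Submodule.inclusion hle) z' = z := by
  let incl : I' →ₗ[A] I := Submodule.inclusion hle
  have hcomp : I.subtype ∘ₗ incl = I'.subtype := by
    ext i; rfl
  have hdecomp : ∀ z : M ⊗[A] I, ∃ (z' : M ⊗[A] I') (b : M),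
      z = LinearMap.lTensor M incl z' + b ⊗ₜ[A] (⟨a, haI⟩ : I) := by
    intro z
    induction z using TensorProduct.induction_on with
    | zero => exact ⟨0, 0, by simp⟩
    | tmul b i =>
      have hi : (i : A) ∈ I' ⊔ Ideal.span {a} := hsup ▸ i.2
      obtain ⟨i', hi', w, hw, hsum⟩ := Submodule.mem_sup.mp hi
      obtain ⟨r, rfl⟩ := Ideal.mem_span_singleton'.mp hw
      refine ⟨b ⊗ₜ[A] (⟨i', hi'⟩ : I'), r • b, ?_⟩
      rw [LinearMap.lTensor_tmul, TensorProduct.smul_tmul, ← TensorProduct.tmul_add]
      congr 1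
      apply Subtype.ext
      simp only [incl, Submodule.coe_add, Submodule.coe_inclusion, Submodule.coe_smul,
        smul_eq_mul]
      exact hsum.symm
    | add z1 z2 h1 h2 =>
      obtain ⟨z1', b1, e1⟩ := h1
      obtain ⟨z2', b2, e2⟩ := h2
      refine ⟨z1' + z2', b1 + b2, ?_⟩
      rw [e1, e2, map_add, TensorProduct.add_tmul]
      abel
  obtain ⟨z', b, rfl⟩ := hdecomp z
  have himg : ∀ w : M ⊗[A] I',
      TensorProduct.rid A M (LinearMap.lTensor M I'.subtype w) ∈
        I' • (⊤ : Submodule A M) := by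
    intro w
    induction w using TensorProduct.induction_on with
    | zero => simp
    | tmul b' i =>
      rw [LinearMap.lTensor_tmul, TensorProduct.rid_tmul, Submodule.subtype_apply]
      exact Submodule.smul_mem_smul i.2 Submodule.mem_top
    | add w1 w2 h1 h2 =>
      rw [map_add, map_add]; exact Submodule.add_mem _ h1 h2
  have hz' := congrArg (TensorProduct.rid A M) hz
  rw [map_add, map_add, map_zero, ← LinearMap.lTensor_comp_apply, hcomp,
    LinearMap.lTensor_tmul, TensorProduct.rid_tmul, Submodule.subtype_apply] at hz'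
  have hab : a • b ∈ I' • (⊤ : Submodule A M) := by
    have : a • b = - TensorProduct.rid A M (LinearMap.lTensor M I'.subtype z') := by
      rw [eq_neg_iff_add_eq_zero, add_comm]; exact hz'
    rw [this]
    exact Submodule.neg_mem _ (himg z')
  have hbm := hC I' a ha b hab
  have hrange : ∀ b' ∈ (IsLocalRing.maximalIdeal A) • (⊤ : Submodule A M),
      b' ⊗ₜ[A] (⟨a, haI⟩ : I) ∈ LinearMap.range (LinearMap.lTensor M incl) := by
    intro b' hb'
    refine Submodule.smul_induction_on hb' ?_ ?_
    · intro c hc b'' _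
      refine ⟨b'' ⊗ₜ[A] (⟨c * a, hma c hc⟩ : I'), ?_⟩
      rw [LinearMap.lTensor_tmul, TensorProduct.smul_tmul]
      congr 1
    · intro x y hx hy
      rw [TensorProduct.add_tmul]
      exact Submodule.add_mem _ hx hy
  obtain ⟨z'', hz''⟩ := hrange b hbm
  exact ⟨z' + z'', by rw [map_add, hz'']⟩

variable [IsNoetherianRing A]

/-- Downward induction: kernel elements of `M ⊗ m → M` come from `M ⊗ I'` for every
`m`-primary `I' ≤ m`. -/
theorem exists_lTensor_inclusion_eq_of_pow_le (hC : ColonCond A M) (n : ℕ) :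
    ∀ (I' : Ideal A) (hI'm : I' ≤ IsLocalRing.maximalIdeal A),
      IsLocalRing.maximalIdeal A ^ n ≤ I' →
      ∀ z : M ⊗[A] (IsLocalRing.maximalIdeal A),
        LinearMap.lTensor M (IsLocalRing.maximalIdeal A).subtype z = 0 →
        ∃ z' : M ⊗[A] I', LinearMap.lTensor M (Submodule.inclusion hI'm) z' = z := by
  intro I'
  induction I' using WellFoundedGT.induction with
  | ind I' ih =>
    intro hI'm hn z hz
    by_cases hI' : I' = IsLocalRing.maximalIdeal A
    · subst hI'
      refine ⟨z, ?_⟩
      have : Submodule.inclusion hI'm = LinearMap.id := by ext; rfl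
      rw [this, LinearMap.lTensor_id, LinearMap.id_apply]
    · have hlt : I' < IsLocalRing.maximalIdeal A := lt_of_le_of_ne hI'm hI'
      -- find a socle element
      have hex : ∃ j, IsLocalRing.maximalIdeal A ^ j ≤ I' := ⟨n, hn⟩
      classical
      have hj0le : IsLocalRing.maximalIdeal A ^ (Nat.find hex) ≤ I' := Nat.find_spec hex
      have hj0pos : 2 ≤ Nat.find hex := by
        by_contra hlt2
        have h1 : Nat.find hex = 0 ∨ Nat.find hex = 1 := by omega
        rcases h1 with h0 | h1
        · rw [h0, pow_zero, Ideal.one_eq_top] at hj0le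
          exact (IsLocalRing.maximalIdeal.isMaximal A).ne_top
            (top_le_iff.mp (hj0le.trans hI'm))
        · rw [h1, pow_one] at hj0le
          exact hlt.not_ge hj0le
      have hnot : ¬ IsLocalRing.maximalIdeal A ^ (Nat.find hex - 1) ≤ I' :=
        Nat.find_min hex (by omega)
      obtain ⟨a, ham, haI'⟩ := SetLike.not_le_iff_exists.mp hnot
      have ham' : a ∈ IsLocalRing.maximalIdeal A := Ideal.pow_le_self (by omega) ham
      have hma : ∀ c ∈ IsLocalRing.maximalIdeal A, c * a ∈ I' := by
        intro c hc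
        apply hj0le
        have : Nat.find hex = (Nat.find hex - 1) + 1 := by omega
        rw [this, pow_succ']
        exact Ideal.mul_mem_mul hc ham
      have haI : a ∈ I' ⊔ Ideal.span {a} :=
        (le_sup_right : Ideal.span {a} ≤ I' ⊔ Ideal.span {a}) (Ideal.mem_span_singleton_self a)
      have hI'I : I' < I' ⊔ Ideal.span {a} := by
        refine lt_of_le_of_ne le_sup_left fun h => haI' ?_
        rw [h]; exact haI
      have hIm : I' ⊔ Ideal.span {a} ≤ IsLocalRing.maximalIdeal A :=
        sup_le hI'm ((Ideal.span_singleton_le_iff_mem _).mpr ham')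
      obtain ⟨zI, hzI⟩ := ih (I' ⊔ Ideal.span {a}) hI'I hIm (hn.trans hI'I.le) z hz
      have hzI0 : LinearMap.lTensor M (I' ⊔ Ideal.span {a}).subtype zI = 0 := by
        have hc : (IsLocalRing.maximalIdeal A).subtype ∘ₗ Submodule.inclusion hIm =
            (I' ⊔ Ideal.span {a}).subtype := by ext; rfl
        rw [← hc, LinearMap.lTensor_comp_apply, hzI, hz]
      obtain ⟨z', hz'⟩ := exists_lTensor_inclusion_eq hC I' (I' ⊔ Ideal.span {a}) hI'I.le a haI
        haI' rfl hma zI hzI0
      refine ⟨z', ?_⟩
      have hc : Submodule.inclusion hIm ∘ₗ Submodule.inclusion hI'I.le =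
          Submodule.inclusion hI'm := by ext; rfl
      rw [← hc, LinearMap.lTensor_comp_apply, hz', hzI]

end HullFlat

section HullFlatB

variable {A : Type u} {B : Type u} [CommRing A] [CommRing B] [IsLocalRing A] [Algebra A B]
  [IsNoetherianRing A] [IsNoetherianRing B]
  {M : Type u} [AddCommGroup M] [Module B M] [Module A M] [IsScalarTower A B M] [Module.Finite B M]

/-- Condition (C) and `m_A B ⊆ rad B` give `Tor_1(k, M) = 0`. -/
theorem lTensor_maximalIdeal_injective_of_colonCond
    (hmB : (IsLocalRing.maximalIdeal A).map (algebraMap A B) ≤ (⊥ : Ideal B).jacobson)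
    (hC : ColonCond A M) :
    Function.Injective (LinearMap.lTensor M (IsLocalRing.maximalIdeal A).subtype) := by
  rw [injective_iff_map_eq_zero]
  intro z hz
  have hmfin : Module.Finite A (IsLocalRing.maximalIdeal A) :=
    Module.Finite.of_fg (IsNoetherian.noetherian (IsLocalRing.maximalIdeal A))
  have hfinT : Module.Finite B (M ⊗[A] (IsLocalRing.maximalIdeal A)) :=
    Groth.Agent.Lib.Helper5.finite_tensorProduct_of_finite M (IsLocalRing.maximalIdeal A)
  have hK := Ideal.iInf_pow_smul_eq_bot_of_le_jacobson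
    ((IsLocalRing.maximalIdeal A).map (algebraMap A B))
    (M := M ⊗[A] (IsLocalRing.maximalIdeal A)) hmB
  suffices hz' : z ∈ (⨅ i : ℕ, ((IsLocalRing.maximalIdeal A).map (algebraMap A B)) ^ i • ⊤ :
      Submodule B (M ⊗[A] (IsLocalRing.maximalIdeal A))) by
    rw [hK] at hz'
    exact (Submodule.mem_bot B).mp hz'
  rw [Submodule.mem_iInf]
  intro n
  have hle : IsLocalRing.maximalIdeal A ^ (n + 1) ≤ IsLocalRing.maximalIdeal A :=
    Ideal.pow_le_self (by omega)
  obtain ⟨z', rfl⟩ := exists_lTensor_inclusion_eq_of_pow_le hC (n + 1)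
    (IsLocalRing.maximalIdeal A ^ (n + 1)) hle le_rfl z hz
  clear hz
  have h2 : IsLocalRing.maximalIdeal A ^ (n + 1) ≤
      Submodule.map (IsLocalRing.maximalIdeal A).subtype
        (IsLocalRing.maximalIdeal A ^ n • (⊤ : Submodule A ↥(IsLocalRing.maximalIdeal A))) := by
    rw [Submodule.map_smul'', Submodule.map_top, Submodule.range_subtype, pow_succ]
    exact le_of_eq (smul_eq_mul _ _).symm
  induction z' using TensorProduct.induction_on with
  | zero => rw [map_zero]; exact Submodule.zero_mem _
  | add a b ha hb => rw [map_add]; exact Submodule.add_mem _ ha hb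
  | tmul x y =>
    rw [LinearMap.lTensor_tmul]
    obtain ⟨y', hy'mem, hy'eq⟩ := h2 y.2
    have hyy : Submodule.inclusion hle y = y' := Subtype.ext hy'eq.symm
    rw [hyy]
    refine Submodule.smul_induction_on hy'mem ?_ ?_
    · intro c hc t _
      rw [TensorProduct.tmul_smul, ← algebraMap_smul B c (x ⊗ₜ[A] t)]
      refine Submodule.smul_mem_smul ?_ trivial
      rw [← Ideal.map_pow]
      exact Ideal.mem_map_of_mem _ hc
    · intro t₁ t₂ h₁ h₂
      rw [TensorProduct.tmul_add]
      exact Submodule.add_mem _ h₁ h₂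

end HullFlatB


section HullFlatMain

variable {A : Type u} {B : Type u} [CommRing A] [CommRing B] [IsLocalRing A] [Algebra A B]
  {M : Type u} [AddCommGroup M] [Module B M] [Module A M] [IsScalarTower A B M]

omit [IsLocalRing A] in
theorem smul_top_restrictScalars_eq (I : Ideal A) :
    ((I.map (algebraMap A B)) • (⊤ : Submodule B M)).restrictScalars A =
      I • (⊤ : Submodule A M) := by
  rw [Ideal.smul_restrictScalars, Submodule.restrictScalars_top]

variable [IsNoetherianRing A] [IsNoetherianRing B] [IsLocalRing B] [IsLocalHom (algebraMap A B)]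
  [Module.Finite B M]

omit [IsNoetherianRing A] [IsLocalHom (algebraMap A B)] in
theorem colonCond_of_flat_off (J : Ideal B)
    (hU : ∀ q : PrimeSpectrum B, ¬ J ≤ q.asIdeal → FlatCA.FlatAt A q.asIdeal M)
    (h1 : 1 ≤ LocCoh.idealDepth J (EGA4.FibMod A B M)) : ColonCond A M := by
  intro I' a ha b hb
  rw [← smul_top_restrictScalars_eq (B := B), Submodule.restrictScalars_mem] at hb ⊢
  exact mem_map_maximalIdeal_smul_top_of_flat_off J hU h1 I' a ha b hb

/-- Kollár: flat off `V(J)` and `depth_J (M/mM) ≥ 1` imply flat. -/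
theorem flat_of_flat_off_of_one_le_depth (J : Ideal B)
    (hU : ∀ q : PrimeSpectrum B, ¬ J ≤ q.asIdeal → FlatCA.FlatAt A q.asIdeal M)
    (h1 : 1 ≤ LocCoh.idealDepth J (EGA4.FibMod A B M)) : Module.Flat A M := by
  have hmB : (IsLocalRing.maximalIdeal A).map (algebraMap A B) ≤ (⊥ : Ideal B).jacobson := by
    rw [IsLocalRing.jacobson_eq_maximalIdeal ⊥ bot_ne_top]
    exact IsLocalRing.map_maximalIdeal_le (algebraMap A B)
  exact Groth.Agent.Lib.Helper5.flat_of_lTensor_maximalIdeal_injective M hmB
    (lTensor_maximalIdeal_injective_of_colonCond hmB (colonCond_of_flat_off J hU h1))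

end HullFlatMain


section SocleStep

variable {A : Type u} [CommRing A] [IsLocalRing A]

/-- A socle element of `m / I'` for an `m`-primary ideal `I' < m`. -/
theorem exists_socle_element (I' : Ideal A) (hlt : I' < IsLocalRing.maximalIdeal A) (n : ℕ)
    (hn : IsLocalRing.maximalIdeal A ^ n ≤ I') :
    ∃ a, a ∈ IsLocalRing.maximalIdeal A ∧ a ∉ I' ∧
      ∀ c ∈ IsLocalRing.maximalIdeal A, c * a ∈ I' := by
  have hex : ∃ j, IsLocalRing.maximalIdeal A ^ j ≤ I' := ⟨n, hn⟩
  classical
  have hj0le : IsLocalRing.maximalIdeal A ^ (Nat.find hex) ≤ I' := Nat.find_spec hex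
  have hj0pos : 2 ≤ Nat.find hex := by
    by_contra hlt2
    have h1 : Nat.find hex = 0 ∨ Nat.find hex = 1 := by omega
    rcases h1 with h0 | h1
    · rw [h0, pow_zero, Ideal.one_eq_top] at hj0le
      exact (IsLocalRing.maximalIdeal.isMaximal A).ne_top
        (top_le_iff.mp (hj0le.trans hlt.le))
    · rw [h1, pow_one] at hj0le
      exact hlt.not_ge hj0le
  have hnot : ¬ IsLocalRing.maximalIdeal A ^ (Nat.find hex - 1) ≤ I' :=
    Nat.find_min hex (by omega)
  obtain ⟨a, ham, haI'⟩ := SetLike.not_le_iff_exists.mp hnot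
  refine ⟨a, Ideal.pow_le_self (by omega) ham, haI', ?_⟩
  intro c hc
  apply hj0le
  have : Nat.find hex = (Nat.find hex - 1) + 1 := by omega
  rw [this, pow_succ']
  exact Ideal.mul_mem_mul hc ham

end SocleStep

section HullDepth

variable {A : Type u} {B : Type u} [CommRing A] [CommRing B] [IsLocalRing A] [Algebra A B]
  [IsNoetherianRing A] [IsNoetherianRing B] [IsLocalRing B]
  {M : Type u} [AddCommGroup M] [Module B M] [Module A M] [IsScalarTower A B M]
  [Module.Finite B M]

omit [IsNoetherianRing A] [IsLocalRing B] in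
/-- One step of the filtration: `depth_J (M/I'M) ≥ min (depth_J (M/mM), depth_J (M/IM))`. -/
theorem min_idealDepth_le_quotient_step (J : Ideal B)
    (hC : ∀ (I' : Ideal A) (a : A), a ∉ I' → ∀ b : M,
      a • b ∈ (I'.map (algebraMap A B)) • (⊤ : Submodule B M) →
      b ∈ ((IsLocalRing.maximalIdeal A).map (algebraMap A B)) • (⊤ : Submodule B M))
    (I' : Ideal A) (a : A) (ha : a ∉ I')
    (hma : ∀ c ∈ IsLocalRing.maximalIdeal A, c * a ∈ I') :
    min (LocCoh.idealDepth J (M ⧸ (((IsLocalRing.maximalIdeal A).map (algebraMap A B)) •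
          (⊤ : Submodule B M))))
        (LocCoh.idealDepth J (M ⧸ (((I' ⊔ Ideal.span {a}).map (algebraMap A B)) •
          (⊤ : Submodule B M)))) ≤
      LocCoh.idealDepth J (M ⧸ ((I'.map (algebraMap A B)) • (⊤ : Submodule B M))) := by
  set φ := algebraMap A B with hφ
  set mM : Submodule B M := ((IsLocalRing.maximalIdeal A).map φ) • ⊤ with hmM
  set I'M : Submodule B M := (I'.map φ) • ⊤ with hI'M
  set IM : Submodule B M := ((I' ⊔ Ideal.span {a}).map φ) • ⊤ with hIM
  have hle1 : mM ≤ I'M.comap ((φ a) • (LinearMap.id : M →ₗ[B] M)) := by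
    rw [hmM]
    refine Submodule.smul_le.mpr ?_
    intro c hc x _
    rw [Submodule.mem_comap, LinearMap.smul_apply, LinearMap.id_apply, smul_smul]
    refine Submodule.smul_mem_smul ?_ Submodule.mem_top
    exact algebraMap_mul_mem_map_of_forall_mul_mem I' a hma c hc
  have hle2 : I'M ≤ IM.comap (LinearMap.id : M →ₗ[B] M) := by
    rw [Submodule.comap_id]
    exact Submodule.smul_mono_left (Ideal.map_mono le_sup_left)
  let f : (M ⧸ mM) →ₗ[B] (M ⧸ I'M) := Submodule.mapQ mM I'M ((φ a) • LinearMap.id) hle1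
  let g : (M ⧸ I'M) →ₗ[B] (M ⧸ IM) := Submodule.mapQ I'M IM LinearMap.id hle2
  have hf : Function.Injective f := by
    rw [injective_iff_map_eq_zero]
    intro x hx
    obtain ⟨b, rfl⟩ := Submodule.Quotient.mk_surjective _ x
    rw [Submodule.mapQ_apply, Submodule.Quotient.mk_eq_zero, LinearMap.smul_apply,
      LinearMap.id_apply, algebraMap_smul] at hx
    rw [Submodule.Quotient.mk_eq_zero]
    exact hC I' a ha b hx
  have hg : Function.Surjective g := by
    intro y
    obtain ⟨b, rfl⟩ := Submodule.Quotient.mk_surjective _ y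
    exact ⟨Submodule.Quotient.mk b, rfl⟩
  have hIMsup : IM = I'M ⊔ (Ideal.span {φ a}) • (⊤ : Submodule B M) := by
    rw [hIM, hI'M, Ideal.map_sup, Ideal.map_span, Set.image_singleton, Submodule.sup_smul]
  have hfg : Function.Exact f g := by
    intro y
    obtain ⟨b, rfl⟩ := Submodule.Quotient.mk_surjective _ y
    rw [Submodule.mapQ_apply, Submodule.Quotient.mk_eq_zero, LinearMap.id_apply]
    constructor
    · intro hb
      rw [hIMsup] at hb
      obtain ⟨b1, hb1, b2, hb2, rfl⟩ := Submodule.mem_sup.mp hb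
      rw [Submodule.ideal_span_singleton_smul, Submodule.mem_smul_pointwise_iff_exists] at hb2
      obtain ⟨x, -, rfl⟩ := hb2
      refine ⟨Submodule.Quotient.mk x, ?_⟩
      rw [Submodule.mapQ_apply, LinearMap.smul_apply, LinearMap.id_apply, Submodule.Quotient.eq]
      have : φ a • x - (b1 + φ a • x) = -b1 := by abel
      rw [this]
      exact Submodule.neg_mem _ hb1
    · rintro ⟨x, hx⟩
      obtain ⟨x, rfl⟩ := Submodule.Quotient.mk_surjective _ x
      rw [Submodule.mapQ_apply, LinearMap.smul_apply, LinearMap.id_apply,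
        Submodule.Quotient.eq] at hx
      have : b = φ a • x - (φ a • x - b) := by abel
      rw [this]
      refine Submodule.sub_mem _ ?_ (hle2 hx)
      rw [hIMsup]
      refine Submodule.mem_sup_right ?_
      exact Submodule.smul_mem_smul (Ideal.mem_span_singleton_self _) Submodule.mem_top
  exact min_idealDepth_le_mid J f g hf hg hfg

/-- Kollár: `depth_J (M/mM) ≥ 2` propagates to all infinitesimal neighbourhoods. -/
theorem two_le_idealDepth_quotient_of_pow_le (J : Ideal B)
    (hU : ∀ q : PrimeSpectrum B, ¬ J ≤ q.asIdeal → FlatCA.FlatAt A q.asIdeal M)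
    (h2 : 2 ≤ LocCoh.idealDepth J (EGA4.FibMod A B M)) (n : ℕ) :
    ∀ (I' : Ideal A), I' ≤ IsLocalRing.maximalIdeal A → IsLocalRing.maximalIdeal A ^ n ≤ I' →
      2 ≤ LocCoh.idealDepth J (M ⧸ ((I'.map (algebraMap A B)) • (⊤ : Submodule B M))) := by
  have h1 : 1 ≤ LocCoh.idealDepth J (EGA4.FibMod A B M) :=
    le_trans (by norm_num) h2
  have hC := fun I' a ha b hb =>
    mem_map_maximalIdeal_smul_top_of_flat_off (A := A) (M := M) J hU h1 I' a ha b hb
  intro I'
  induction I' using WellFoundedGT.induction with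
  | ind I' ih =>
    intro hI'm hn
    by_cases hI' : I' = IsLocalRing.maximalIdeal A
    · subst hI'
      exact h2
    · have hlt : I' < IsLocalRing.maximalIdeal A := lt_of_le_of_ne hI'm hI'
      obtain ⟨a, ham, haI', hma⟩ := exists_socle_element I' hlt n hn
      have haI : a ∈ I' ⊔ Ideal.span {a} :=
        (le_sup_right : Ideal.span {a} ≤ I' ⊔ Ideal.span {a}) (Ideal.mem_span_singleton_self a)
      have hI'I : I' < I' ⊔ Ideal.span {a} := by
        refine lt_of_le_of_ne le_sup_left fun h => haI' ?_
        rw [h]; exact haI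
      have hIm : I' ⊔ Ideal.span {a} ≤ IsLocalRing.maximalIdeal A :=
        sup_le hI'm ((Ideal.span_singleton_le_iff_mem _).mpr ham)
      have hI := ih (I' ⊔ Ideal.span {a}) hI'I hIm (hn.trans hI'I.le)
      exact (le_min h2 hI).trans (min_idealDepth_le_quotient_step J hC I' a haI' hma)

end HullDepth

end Groth.Agent.Lib.Helper28
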