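import Mathlib
import Groth.Agent.Lib.Helper8LC2
import Groth.Agent.Lib.Helper8LCDepth
import Groth.Agent.Lib.Helper21HZB3

set_option autoImplicit false
universe u

namespace Groth.Agent.Lib.Helper28.Husk

open CategoryTheory Groth.Agent.Lib.Helper8.LC

section HV

variable {B : Type u} [CommRing B] (J : Ideal B)

/-- `H^i_J(M) = 0`. -/
def HV (i : ℕ) (M : Type u) [AddCommGroup M] [Module B M] : Prop :=
  ∀ y : (localCohomology J i).obj (ModuleCat.of B M), y = 0

variable {J}
variable {M' M M'' : Type u} [AddCommGroup M'] [Module B M'] [AddCommGroup M] [Module B M]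
  [AddCommGroup M''] [Module B M'']

theorem HV.of_equiv {i : ℕ} (e : M ≃ₗ[B] M') (h : HV J i M) : HV J i M' := by
  intro y
  have h1 : (localCohomology J i).map (ModuleCat.ofHom e.toLinearMap)
      ((localCohomology J i).map (ModuleCat.ofHom e.symm.toLinearMap) y) = y := by
    rw [← ModuleCat.comp_apply, ← CategoryTheory.Functor.map_comp, ← ModuleCat.ofHom_comp]
    have : e.toLinearMap ∘ₗ e.symm.toLinearMap = LinearMap.id := by
      ext x; simp
    rw [this, ModuleCat.ofHom_id, CategoryTheory.Functor.map_id]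
    rfl
  rw [← h1, h ((localCohomology J i).map (ModuleCat.ofHom e.symm.toLinearMap) y), map_zero]

variable (f : M' →ₗ[B] M) (g : M →ₗ[B] M'') (hf : Function.Injective f)
  (hg : Function.Surjective g) (hex : Function.Exact f g)

include hf hg hex in
theorem HV.mid {i : ℕ} (h1 : HV J i M') (h3 : HV J i M'') : HV J i M := by
  intro y
  obtain ⟨x, hx⟩ := H_exact₂ J i (Sfg f g hex) (Sfg_shortExact f g hf hg hex) y (h3 _)
  rw [← hx, h1 x, map_zero]

include hf hg hex in
theorem HV.left_succ {i : ℕ} (h3 : HV J i M'') (h2 : HV J (i + 1) M) : HV J (i + 1) M' := by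
  intro x
  obtain ⟨z, hz⟩ := H_exact₁ J i (Sfg f g hex) (Sfg_shortExact f g hf hg hex) x (h2 _)
  rw [← hz, h3 z, map_zero]

include hf hg hex in
theorem HV.right {i : ℕ} (h2 : HV J i M) (h1 : HV J (i + 1) M') : HV J i M'' := by
  intro z
  obtain ⟨y, hy⟩ := H_exact₃ J i (Sfg f g hex) (Sfg_shortExact f g hf hg hex) z (h1 _)
  rw [← hy, h2 y, map_zero]

theorem HV_zero_iff : HV J 0 M ↔ DRing.torsionSub J M = ⊥ := by
  constructor
  · intro h
    rw [eq_bot_iff]
    intro m hm
    obtain ⟨y, hy⟩ := exists_Φ_eq J (ModuleCat.of B M) m hm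
    rw [h y, map_zero] at hy
    exact (Submodule.mem_bot B).mpr hy.symm
  · intro h y
    apply Φ_injective J (ModuleCat.of B M)
    rw [map_zero]
    have := Φ_mem_torsionSub J (ModuleCat.of B M) y
    rw [h] at this
    exact (Submodule.mem_bot B).mp this

include hf in
theorem HV.left_zero (h2 : HV J 0 M) : HV J 0 M' := by
  rw [HV_zero_iff] at h2 ⊢
  rw [eq_bot_iff]
  intro m hm
  have := DRing.map_mem_torsionSub J f hm
  rw [h2, Submodule.mem_bot] at this
  exact (Submodule.mem_bot B).mpr (hf (by rw [this, map_zero]))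

theorem eq_zero_of_HV_zero_of_torsion (h : HV J 0 M) (ht : DRing.torsionSub J M = ⊤) (m : M) :
    m = 0 := by
  rw [HV_zero_iff] at h
  have : m ∈ DRing.torsionSub J M := ht ▸ Submodule.mem_top
  rw [h] at this
  exact (Submodule.mem_bot B).mp this

end HV

end Groth.Agent.Lib.Helper28.Husk
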