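import Mathlib
import Groth.Agent.Lib.Helper28Husk1

set_option autoImplicit false
universe u

namespace Groth.Agent.Lib.Helper28.Husk

open CategoryTheory Groth.Agent.Lib.Helper8.LC TensorProduct

section Core

variable {A B : Type u} [CommRing A] [CommRing B]

/-- `E ⊗ φ`, `B`-linear. -/
noncomputable abbrev lT (B : Type u) [CommRing B] [Algebra A B] (E : Type u) [AddCommGroup E] [Module B E] [Module A E] [IsScalarTower A B E]
    {N N' : Type u} [AddCommGroup N] [Module A N] [AddCommGroup N'] [Module A N']
    (φ : N →ₗ[A] N') : E ⊗[A] N →ₗ[B] E ⊗[A] N' :=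
  AlgebraTensorModule.lTensor B E φ

/-- `u ⊗ N`, `B`-linear. -/
noncomputable abbrev rT (A : Type u) [CommRing A] [Algebra A B] {E E' : Type u} [AddCommGroup E] [Module B E] [Module A E] [IsScalarTower A B E]
    [AddCommGroup E'] [Module B E'] [Module A E'] [IsScalarTower A B E']
    (N : Type u) [AddCommGroup N] [Module A N] (u : E →ₗ[B] E') : E ⊗[A] N →ₗ[B] E' ⊗[A] N :=
  AlgebraTensorModule.rTensor A N u

variable [Algebra A B]

variable {E0 E1 G : Type u} [AddCommGroup E0] [Module B E0] [Module A E0] [IsScalarTower A B E0]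
  [AddCommGroup E1] [Module B E1] [Module A E1] [IsScalarTower A B E1]
  [AddCommGroup G] [Module B G] [Module A G] [IsScalarTower A B G]

theorem rT_lT (u : E0 →ₗ[B] E1) {N N' : Type u} [AddCommGroup N] [Module A N] [AddCommGroup N']
    [Module A N'] (φ : N →ₗ[A] N') (x : E0 ⊗[A] N) :
    rT A N' u (lT B E0 φ x) = lT B E1 φ (rT A N u x) := by
  induction x using TensorProduct.induction_on with
  | zero => simp
  | tmul e n => simp
  | add x y hx hy => simp only [map_add, hx, hy]

theorem lT_exact (E : Type u) [AddCommGroup E] [Module B E] [Module A E] [IsScalarTower A B E]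
    {N' N N'' : Type u} [AddCommGroup N'] [Module A N'] [AddCommGroup N] [Module A N]
    [AddCommGroup N''] [Module A N''] (i : N' →ₗ[A] N) (p : N →ₗ[A] N'')
    (hp : Function.Surjective p) (hex : Function.Exact i p) :
    Function.Exact (lT B E i) (lT B E p) := by
  have := lTensor_exact E hex hp
  intro x
  exact this x

theorem lT_surjective (E : Type u) [AddCommGroup E] [Module B E] [Module A E] [IsScalarTower A B E]
    {N N'' : Type u} [AddCommGroup N] [Module A N]
    [AddCommGroup N''] [Module A N''] (p : N →ₗ[A] N'')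
    (hp : Function.Surjective p) : Function.Surjective (lT B E p) :=
  LinearMap.lTensor_surjective E hp

theorem lT_injective (E : Type u) [AddCommGroup E] [Module B E] [Module A E] [IsScalarTower A B E]
    [Module.Flat A E]
    {N' N : Type u} [AddCommGroup N'] [Module A N'] [AddCommGroup N] [Module A N]
    (i : N' →ₗ[A] N) (hi : Function.Injective i) : Function.Injective (lT B E i) :=
  Module.Flat.lTensor_preserves_injective_linearMap i hi

theorem rT_exact (u : E0 →ₗ[B] E1) (v : E1 →ₗ[B] G) (hv : Function.Surjective v)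
    (huv : Function.Exact u v) (N : Type u) [AddCommGroup N] [Module A N] :
    Function.Exact (rT A N u) (rT A N v) := by
  have := rTensor_exact N (f := u.restrictScalars A) (g := v.restrictScalars A) huv hv
  intro x
  exact this x

theorem rT_surjective (v : E1 →ₗ[B] G) (hv : Function.Surjective v)
    (N : Type u) [AddCommGroup N] [Module A N] :
    Function.Surjective (rT A N v) :=
  LinearMap.rTensor_surjective N (g := v.restrictScalars A) hv

/-- `K(N) = ker (u ⊗ N)`. -/
noncomputable abbrev K (A : Type u) [CommRing A] [Algebra A B] [Module A E0] [IsScalarTower A B E0] [Module A E1] [IsScalarTower A B E1] (u : E0 →ₗ[B] E1) (N : Type u) [AddCommGroup N] [Module A N] :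
    Submodule B (E0 ⊗[A] N) :=
  LinearMap.ker (rT A N u)

theorem lT_mem_K (u : E0 →ₗ[B] E1) {N N' : Type u} [AddCommGroup N] [Module A N] [AddCommGroup N']
    [Module A N'] (φ : N →ₗ[A] N') {x : E0 ⊗[A] N} (hx : x ∈ K A u N) : lT B E0 φ x ∈ K A u N' := by
  rw [LinearMap.mem_ker] at hx ⊢
  rw [rT_lT, hx, map_zero]

/-- The induced map `K(N) → K(N')`. -/
noncomputable def Kmap (u : E0 →ₗ[B] E1) {N N' : Type u} [AddCommGroup N] [Module A N]
    [AddCommGroup N'] [Module A N'] (φ : N →ₗ[A] N') : K A u N →ₗ[B] K A u N' :=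
  (lT B E0 φ).restrict fun _ hx => lT_mem_K u φ hx

@[simp] theorem Kmap_coe (u : E0 →ₗ[B] E1) {N N' : Type u} [AddCommGroup N] [Module A N]
    [AddCommGroup N'] [Module A N'] (φ : N →ₗ[A] N') (x : K A u N) :
    ((Kmap u φ x : K A u N') : E0 ⊗[A] N') = lT B E0 φ (x : E0 ⊗[A] N) := rfl

end Core

end Groth.Agent.Lib.Helper28.Husk
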