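import Mathlib
import Groth.Agent.Lib.Helper28Husk2

set_option autoImplicit false
universe u

namespace Groth.Agent.Lib.Helper28.Husk

open CategoryTheory Groth.Agent.Lib.Helper8.LC TensorProduct

section Main

variable {A B : Type u} [CommRing A] [CommRing B] [Algebra A B] (J : Ideal B)
  {E0 E1 G : Type u} [AddCommGroup E0] [Module B E0] [Module A E0] [IsScalarTower A B E0]
  [AddCommGroup E1] [Module B E1] [Module A E1] [IsScalarTower A B E1]
  [AddCommGroup G] [Module B G] [Module A G] [IsScalarTower A B G]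
  (u : E0 →ₗ[B] E1) (v : E1 →ₗ[B] G) (hv : Function.Surjective v) (huv : Function.Exact u v)
  {k' N N'' : Type u} [AddCommGroup k'] [Module A k'] [AddCommGroup N] [Module A N]
  [AddCommGroup N''] [Module A N'']
  (i : k' →ₗ[A] N) (p : N →ₗ[A] N'') (hi : Function.Injective i) (hp : Function.Surjective p)
  (hex : Function.Exact i p)

include hv huv hp hex in
/-- The cokernel of `K(N) → K(N'')` is killed by whatever kills `ker (G ⊗ k' → G ⊗ N)`. -/
theorem smul_mem_range_Kmap (b : B)
    (hb : ∀ x : G ⊗[A] k', lT B G i x = 0 → b • x = 0) (w'' : K A u N'') :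
    b • w'' ∈ LinearMap.range (Kmap u p) := by
  obtain ⟨w, hw⟩ := lT_surjective (B := B) E0 p hp (w'' : E0 ⊗[A] N'')
  have h1 : lT B E1 p (rT A N u w) = 0 := by
    rw [← rT_lT, hw]
    exact w''.2
  obtain ⟨y, hy⟩ := (lT_exact (B := B) E1 i p hp hex _).mp h1
  have h2 : lT B G i (rT A k' v y) = 0 := by
    rw [← rT_lT, hy]
    exact (rT_exact u v hv huv N).apply_apply_eq_zero w
  have h3 : rT A k' v (b • y) = 0 := by
    rw [map_smul]
    exact hb _ h2
  obtain ⟨t, ht⟩ := (rT_exact u v hv huv k' _).mp h3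
  have hw1 : b • w - lT B E0 i t ∈ K A u N := by
    rw [LinearMap.mem_ker, map_sub, map_smul, rT_lT, ht, map_smul, hy, sub_self]
  refine ⟨⟨_, hw1⟩, ?_⟩
  apply Subtype.ext
  rw [Kmap_coe]
  change lT B E0 p (b • w - lT B E0 i t) = b • (w'' : E0 ⊗[A] N'')
  rw [map_sub, map_smul, hw, (lT_exact (B := B) E0 i p hp hex).apply_apply_eq_zero, sub_zero]

include hi in
theorem Kmap_injective [Module.Flat A E0] : Function.Injective (Kmap (A := A) u i) := by
  intro x y hxy
  apply Subtype.ext
  apply lT_injective (B := B) E0 i hi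
  have := congrArg Subtype.val hxy
  exact this

include hi hp hex in
theorem Kmap_exact [Module.Flat A E1] :
    Function.Exact (Kmap (A := A) u i) (Kmap (A := A) u p) := by
  intro x
  constructor
  · intro hx
    have h1 : lT B E0 p (x : E0 ⊗[A] N) = 0 := congrArg Subtype.val hx
    obtain ⟨t, ht⟩ := (lT_exact (B := B) E0 i p hp hex _).mp h1
    have ht' : t ∈ K A u k' := by
      rw [LinearMap.mem_ker]
      apply lT_injective (B := B) E1 i hi
      rw [← rT_lT, ht, map_zero]
      exact x.2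
    exact ⟨⟨t, ht'⟩, Subtype.ext ht⟩
  · rintro ⟨t, rfl⟩
    apply Subtype.ext
    change lT B E0 p (lT B E0 i (t : E0 ⊗[A] k')) = 0
    exact (lT_exact (B := B) E0 i p hp hex).apply_apply_eq_zero _

include hv huv hi hp hex in
/-- **Key step**: `K(N) → K(N'')` is surjective. -/
theorem Kmap_surjective [IsNoetherianRing B] [Module.Flat A E0] [Module.Flat A E1]
    (hT : ∃ n : ℕ, ∀ b ∈ J ^ n, ∀ x : G ⊗[A] k', lT B G i x = 0 → b • x = 0)
    (h1N : HV J 1 (K A u N)) (h2k : HV J 2 (K A u k')) (h0N'' : HV J 0 (K A u N'')) :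
    Function.Surjective (Kmap (A := A) u p) := by
  -- `Q = range`
  set Q : Submodule B (K A u N'') := LinearMap.range (Kmap (A := A) u p) with hQ
  have hQ1 : HV J 1 Q := by
    refine HV.right (Kmap (A := A) u i) (Kmap (A := A) u p).rangeRestrict
      (Kmap_injective u i hi) (LinearMap.surjective_rangeRestrict _) ?_ h1N h2k
    intro x
    rw [← (Kmap_exact u i p hi hp hex) x]
    constructor
    · intro h
      have := congrArg Subtype.val h
      exact this
    · intro h
      exact Subtype.ext h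
  have hQ0 : HV J 0 (K A u N'' ⧸ Q) :=
    HV.right Q.subtype Q.mkQ Q.injective_subtype (Submodule.mkQ_surjective _)
      (LinearMap.exact_subtype_mkQ Q) h0N'' hQ1
  have htors : DRing.torsionSub J (K A u N'' ⧸ Q) = ⊤ := by
    rw [eq_top_iff]
    intro z _
    obtain ⟨w'', rfl⟩ := Submodule.mkQ_surjective Q z
    obtain ⟨n, hn⟩ := hT
    refine ⟨n, fun b hb => ?_⟩
    rw [← map_smul, Submodule.mkQ_apply, Submodule.Quotient.mk_eq_zero]
    exact smul_mem_range_Kmap u v hv huv i p hp hex b (hn b hb) w''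
  intro w''
  have := eq_zero_of_HV_zero_of_torsion hQ0 htors (Q.mkQ w'')
  rw [Submodule.mkQ_apply, Submodule.Quotient.mk_eq_zero] at this
  exact this

include hv huv hi hp hex in
/-- **Key step**, `Tor` form: `G ⊗ k' → G ⊗ N` is injective. -/
theorem lT_G_injective [IsNoetherianRing B] [Module.Flat A E0] [Module.Flat A E1]
    (hT : ∃ n : ℕ, ∀ b ∈ J ^ n, ∀ x : G ⊗[A] k', lT B G i x = 0 → b • x = 0)
    (h1N : HV J 1 (K A u N)) (h2k : HV J 2 (K A u k')) (h0N'' : HV J 0 (K A u N'')) :
    Function.Injective (lT B G i) := by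
  rw [injective_iff_map_eq_zero]
  intro x hx
  obtain ⟨y, rfl⟩ := rT_surjective (A := A) v hv k' x
  have h1 : rT A N v (lT B E1 i y) = 0 := by rw [rT_lT, hx]
  obtain ⟨w, hw⟩ := (rT_exact u v hv huv N _).mp h1
  have hw'' : lT B E0 p w ∈ K A u N'' := by
    rw [LinearMap.mem_ker, rT_lT, hw]
    exact (lT_exact (B := B) E1 i p hp hex).apply_apply_eq_zero _
  obtain ⟨w₁, hw₁⟩ := Kmap_surjective J u v hv huv i p hi hp hex hT h1N h2k h0N'' ⟨_, hw''⟩
  have hw₁' : lT B E0 p (w₁ : E0 ⊗[A] N) = lT B E0 p w := congrArg Subtype.val hw₁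
  have h2 : lT B E0 p (w - w₁) = 0 := by rw [map_sub, hw₁', sub_self]
  obtain ⟨t, ht⟩ := (lT_exact (B := B) E0 i p hp hex _).mp h2
  have h3 : lT B E1 i (rT A k' u t) = lT B E1 i y := by
    rw [← rT_lT, ht, map_sub, hw]
    have : rT A N u (w₁ : E0 ⊗[A] N) = 0 := w₁.2
    rw [this, sub_zero]
  have h4 := lT_injective (B := B) E1 i hi h3
  rw [← h4]
  exact (rT_exact u v hv huv k').apply_apply_eq_zero t

end Main

end Groth.Agent.Lib.Helper28.Husk
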