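import Mathlib
import Groth.Agent.Lib.Helper28Husk3
import Groth.Agent.Lib.Helper5LocalFlat

set_option autoImplicit false
universe u

namespace Groth.Agent.Lib.Helper28.Husk

open CategoryTheory Groth.Agent.Lib.Helper8.LC TensorProduct

section L1

variable {A B : Type u} [CommRing A] [CommRing B] [Algebra A B] (J : Ideal B)
  {G : Type u} [AddCommGroup G] [Module B G] [Module A G] [IsScalarTower A B G]

/-- A finitely generated submodule which vanishes at all primes not containing `J` is killed by a
power of `J`. -/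
theorem exists_pow_le_annihilator [IsNoetherianRing B] {M : Type u} [AddCommGroup M] [Module B M]
    (T : Submodule B M) (hT : T.FG)
    (h : ∀ q : PrimeSpectrum B, ¬ J ≤ q.asIdeal → ∀ t ∈ T, ∃ s : q.asIdeal.primeCompl, s • t = 0) :
    ∃ n : ℕ, J ^ n ≤ T.annihilator := by
  apply Ideal.exists_pow_le_of_le_radical_of_fg _ (IsNoetherian.noetherian J)
  rw [Ideal.radical_eq_sInf]
  apply le_sInf
  rintro q ⟨hq, hqp⟩
  by_contra hJ
  obtain ⟨S, hS⟩ := hT
  have key : ∀ (F : Finset M), (∀ t ∈ F, t ∈ T) → ∃ s : B, s ∉ q ∧ ∀ t ∈ F, s • t = 0 := by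
    intro F
    classical
    induction F using Finset.induction_on with
    | empty => exact fun _ => ⟨1, fun h1 => hqp.ne_top ((Ideal.eq_top_iff_one q).mpr h1), by simp⟩
    | insert a F ha ih =>
      intro hF
      obtain ⟨s, hs, hsF⟩ := ih fun t ht => hF t (Finset.mem_insert_of_mem ht)
      obtain ⟨⟨s', hs'⟩, hs'a⟩ := h ⟨q, hqp⟩ hJ a (hF a (Finset.mem_insert_self a F))
      refine ⟨s' * s, fun hmem => ?_, ?_⟩
      · rcases hqp.mem_or_mem hmem with h1 | h1
        · exact hs' h1
        · exact hs h1
      · intro t ht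
        rcases Finset.mem_insert.mp ht with rfl | ht
        · rw [mul_comm, mul_smul]
          have : s' • t = 0 := hs'a
          rw [this, smul_zero]
        · rw [mul_smul, hsF t ht, smul_zero]
  obtain ⟨s, hs, hsS⟩ := key S (fun t ht => hS ▸ Submodule.subset_span ht)
  apply hs
  apply hq
  rw [Submodule.mem_annihilator]
  intro t ht
  rw [← hS] at ht
  induction ht using Submodule.span_induction with
  | mem x hx => exact hsS x hx
  | zero => exact smul_zero s
  | add x y _ _ hx hy => rw [smul_add, hx, hy, add_zero]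
  | smul a x _ hx => rw [smul_comm, hx, smul_zero]

/-- **(L1)**: the kernel of `G ⊗ N' → G ⊗ N` is killed by a power of `J` if `G` is `A`-flat at all
primes not containing `J`. -/
theorem exists_pow_smul_eq_zero [IsNoetherianRing B] [Module.Finite B G]
    (hGU : ∀ q : PrimeSpectrum B, ¬ J ≤ q.asIdeal →
      Module.Flat A (LocalizedModule q.asIdeal.primeCompl G))
    {N' N : Type u} [AddCommGroup N'] [Module A N'] [Module.Finite A N'] [AddCommGroup N]
    [Module A N] (i : N' →ₗ[A] N) (hi : Function.Injective i) :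
    ∃ n : ℕ, ∀ b ∈ J ^ n, ∀ x : G ⊗[A] N', lT B G i x = 0 → b • x = 0 := by
  haveI : Module.Finite B (G ⊗[A] N') := Groth.Agent.Lib.Helper5.finite_tensorProduct_of_finite G N'
  haveI : IsNoetherian B (G ⊗[A] N') := isNoetherian_of_isNoetherianRing_of_finite B _
  obtain ⟨n, hn⟩ := exists_pow_le_annihilator J (LinearMap.ker (lT B G i))
    (IsNoetherian.noetherian _) (by
      intro q hq t ht
      haveI := hGU q hq
      let gq := LocalizedModule.mkLinearMap q.asIdeal.primeCompl G
      have hcomm : lT B (LocalizedModule q.asIdeal.primeCompl G) i (rT A N' gq t) =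
          rT A N gq (lT B G i t) := (rT_lT gq i t).symm
      rw [LinearMap.mem_ker.mp ht, map_zero] at hcomm
      have h0 : rT A N' gq t = 0 := by
        apply lT_injective (B := B) (LocalizedModule q.asIdeal.primeCompl G) i hi
        rw [hcomm, map_zero]
      exact (IsLocalizedModule.eq_zero_iff q.asIdeal.primeCompl (rT A N' gq)).mp h0)
  refine ⟨n, fun b hb x hx => ?_⟩
  exact Submodule.mem_annihilator.mp (hn hb) x (LinearMap.mem_ker.mpr hx)

end L1

end Groth.Agent.Lib.Helper28.Husk
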