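import Mathlib
import Groth.Agent.Lib.Helper28Husk4
import Groth.Agent.Lib.Helper8LCAdd

set_option autoImplicit false
universe u

namespace Groth.Agent.Lib.Helper28.Husk

open CategoryTheory Groth.Agent.Lib.Helper8.LC TensorProduct IsLocalRing

section Dev

variable {A B : Type u} [CommRing A] [CommRing B] [Algebra A B] (J : Ideal B)

theorem HV_of_subsingleton (i : ℕ) (M : Type u) [AddCommGroup M] [Module B M] [Subsingleton M] :
    HV J i M := by
  intro y
  have h1 : (localCohomology J i).map (𝟙 (ModuleCat.of B M)) y = y := by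
    rw [CategoryTheory.Functor.map_id]; rfl
  have h2 : (𝟙 (ModuleCat.of B M)) = 0 := by
    apply ModuleCat.hom_ext
    apply LinearMap.ext
    intro x
    exact Subsingleton.elim _ _
  rw [← h1, h2, H_map_zero]

variable (E : Type u) [AddCommGroup E] [Module B E] [Module A E] [IsScalarTower A B E]

/-- Dévissage: vanishing for `E ⊗ k` implies vanishing for `E ⊗ N`, `N` of finite length. -/
theorem HV_tensor_of_isFiniteLength [IsLocalRing A] [Module.Flat A E] (i : ℕ)
    (hk : HV J i (E ⊗[A] (A ⧸ maximalIdeal A))) {N : Type u} [AddCommGroup N] [Module A N]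
    (hN : IsFiniteLength A N) : HV J i (E ⊗[A] N) := by
  induction hN with
  | of_subsingleton => exact HV_of_subsingleton J i _
  | @of_simple_quotient N _ _ N₁ hS _ ih =>
    obtain ⟨I, hI, ⟨e⟩⟩ := isSimpleModule_iff_quot_maximal.mp hS
    have hIm : I = maximalIdeal A := IsLocalRing.eq_maximalIdeal hI
    subst hIm
    have h3 : HV J i (E ⊗[A] (N ⧸ N₁)) :=
      HV.of_equiv (AlgebraTensorModule.congr (LinearEquiv.refl B E) e.symm) hk
    exact HV.mid (lT B E N₁.subtype) (lT B E N₁.mkQ)
      (lT_injective (B := B) E _ N₁.injective_subtype)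
      (lT_surjective (B := B) E _ (Submodule.mkQ_surjective _))
      (lT_exact (B := B) E _ _ (Submodule.mkQ_surjective _) (LinearMap.exact_subtype_mkQ N₁)) ih h3

end Dev

section KV

variable {A B : Type u} [CommRing A] [CommRing B] [Algebra A B] (J : Ideal B)
  {E0 E1 : Type u} [AddCommGroup E0] [Module B E0] [Module A E0] [IsScalarTower A B E0]
  [AddCommGroup E1] [Module B E1] [Module A E1] [IsScalarTower A B E1]
  (u : E0 →ₗ[B] E1) (N : Type u) [AddCommGroup N] [Module A N]

theorem HV_zero_K (h0 : HV J 0 (E0 ⊗[A] N)) : HV J 0 (K A u N) :=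
  HV.left_zero (K A u N).subtype (K A u N).injective_subtype h0

theorem HV_one_K (h01 : HV J 1 (E0 ⊗[A] N)) (h10 : HV J 0 (E1 ⊗[A] N)) : HV J 1 (K A u N) := by
  have hR : HV J 0 (LinearMap.range (rT A N u)) :=
    HV.left_zero (LinearMap.range (rT A N u)).subtype (Submodule.injective_subtype _) h10
  refine HV.left_succ (K A u N).subtype (rT A N u).rangeRestrict (K A u N).injective_subtype
    (LinearMap.surjective_rangeRestrict _) ?_ hR h01
  intro x
  constructor
  · intro h
    have hx : x ∈ K A u N := by
      rw [LinearMap.mem_ker]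
      exact congrArg Subtype.val h
    exact ⟨⟨x, hx⟩, rfl⟩
  · rintro ⟨y, rfl⟩
    apply Subtype.ext
    exact y.2

end KV

end Groth.Agent.Lib.Helper28.Husk
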