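import Mathlib
import Groth.Agent.Lib.Helper28Husk5

set_option autoImplicit false
universe u

namespace Groth.Agent.Lib.Helper28.Husk

open CategoryTheory Groth.Agent.Lib.Helper8.LC TensorProduct IsLocalRing

section Ind

variable {A B : Type u} [CommRing A] [CommRing B] [Algebra A B]

theorem lT_comp_apply (E : Type u) [AddCommGroup E] [Module B E] [Module A E] [IsScalarTower A B E]
    {N₁ N₂ N₃ : Type u} [AddCommGroup N₁] [Module A N₁] [AddCommGroup N₂] [Module A N₂]
    [AddCommGroup N₃] [Module A N₃] (f : N₂ →ₗ[A] N₃) (g : N₁ →ₗ[A] N₂) (x : E ⊗[A] N₁) :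
    lT B E (f ∘ₗ g) x = lT B E f (lT B E g x) := by
  induction x using TensorProduct.induction_on with
  | zero => simp
  | tmul e n => simp
  | add x y hx hy => simp only [map_add, hx, hy]

variable [IsLocalRing A] [IsNoetherianRing B] (J : Ideal B)
  {E0 E1 G : Type u} [AddCommGroup E0] [Module B E0] [Module A E0] [IsScalarTower A B E0]
  [AddCommGroup E1] [Module B E1] [Module A E1] [IsScalarTower A B E1]
  [AddCommGroup G] [Module B G] [Module A G] [IsScalarTower A B G]
  [Module.Flat A E0] [Module.Flat A E1] [Module.Finite B G]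
  (u : E0 →ₗ[B] E1) (v : E1 →ₗ[B] G) (hv : Function.Surjective v) (huv : Function.Exact u v)
  (hGU : ∀ q : PrimeSpectrum B, ¬ J ≤ q.asIdeal →
      Module.Flat A (LocalizedModule q.asIdeal.primeCompl G))
  (h00 : HV J 0 (E0 ⊗[A] (A ⧸ maximalIdeal A))) (h01 : HV J 1 (E0 ⊗[A] (A ⧸ maximalIdeal A)))
  (h10 : HV J 0 (E1 ⊗[A] (A ⧸ maximalIdeal A))) (h2 : HV J 2 (K A u (A ⧸ maximalIdeal A)))

include hv huv hGU h00 h01 h10 h2 in
theorem lT_G_injective_of_isFiniteLength {N' : Type u} [AddCommGroup N'] [Module A N']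
    (hN' : IsFiniteLength A N') :
    ∀ {N : Type u} [AddCommGroup N] [Module A N], IsFiniteLength A N → ∀ (j : N' →ₗ[A] N),
      Function.Injective j → Function.Injective (lT B G j) := by
  induction hN' with
  | @of_subsingleton N' _ _ _ =>
    intro N _ _ _ j _ x y _
    have hsub : ∀ z : G ⊗[A] N', z = 0 := by
      intro z
      induction z using TensorProduct.induction_on with
      | zero => rfl
      | tmul g n => rw [Subsingleton.elim n 0, TensorProduct.tmul_zero]
      | add a b ha hb => rw [ha, hb, add_zero]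
    rw [hsub x, hsub y]
  | @of_simple_quotient N' _ _ N₁ hS hN₁ ih =>
    intro N _ _ hN j hj
    obtain ⟨I, hI, ⟨e⟩⟩ := isSimpleModule_iff_quot_maximal.mp hS
    have hIm : I = maximalIdeal A := IsLocalRing.eq_maximalIdeal hI
    subst hIm
    -- the image of `N₁`
    let N₁' : Submodule A N := N₁.map j
    have hle : N₁ ≤ N₁'.comap j := Submodule.le_comap_map j N₁
    let jbar : (N' ⧸ N₁) →ₗ[A] (N ⧸ N₁') := N₁.mapQ N₁' j hle
    have hjbar : Function.Injective jbar := by
      rw [injective_iff_map_eq_zero]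
      intro x hx
      obtain ⟨y, rfl⟩ := Submodule.Quotient.mk_surjective _ x
      rw [Submodule.mapQ_apply, Submodule.Quotient.mk_eq_zero] at hx
      obtain ⟨y', hy', hyy'⟩ := hx
      rw [Submodule.Quotient.mk_eq_zero, ← hj hyy']
      exact hy'
    let i : (A ⧸ maximalIdeal A) →ₗ[A] (N ⧸ N₁') := jbar ∘ₗ e.symm.toLinearMap
    have hi : Function.Injective i := hjbar.comp e.symm.injective
    let p := (LinearMap.range i).mkQ
    have hp : Function.Surjective p := Submodule.mkQ_surjective _
    have hex : Function.Exact i p := LinearMap.exact_map_mkQ_range i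
    have hfl1 : IsFiniteLength A (N ⧸ N₁') := hN.of_surjective (Submodule.mkQ_surjective N₁')
    have hfl2 : IsFiniteLength A ((N ⧸ N₁') ⧸ LinearMap.range i) := hfl1.of_surjective hp
    have hT := exists_pow_smul_eq_zero J hGU i hi
    have hkey : Function.Injective (lT B G i) :=
      lT_G_injective J u v hv huv i p hi hp hex hT
        (HV_one_K J u _ (HV_tensor_of_isFiniteLength J E0 1 h01 hfl1)
          (HV_tensor_of_isFiniteLength J E1 0 h10 hfl1)) h2
        (HV_zero_K J u _ (HV_tensor_of_isFiniteLength J E0 0 h00 hfl2))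
    have hjbarG : Function.Injective (lT B G jbar) := by
      rw [injective_iff_map_eq_zero]
      intro y hy
      have h1 : y = lT B G (e.symm.toLinearMap) (lT B G e.toLinearMap y) := by
        rw [← lT_comp_apply]
        have : e.symm.toLinearMap ∘ₗ e.toLinearMap = LinearMap.id := by ext z; simp
        rw [this]
        simp
      have h3 : lT B G i (lT B G e.toLinearMap y) = 0 := by
        rw [lT_comp_apply, ← h1, hy]
      rw [h1, hkey (h3.trans (map_zero _).symm), map_zero]
    rw [injective_iff_map_eq_zero]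
    intro x hx
    have hsq : lT B G jbar (lT B G N₁.mkQ x) = 0 := by
      rw [← lT_comp_apply]
      have : jbar ∘ₗ N₁.mkQ = N₁'.mkQ ∘ₗ j := by
        ext z
        rfl
      rw [this, lT_comp_apply, hx, map_zero]
    have h4 : lT B G N₁.mkQ x = 0 := hjbarG (hsq.trans (map_zero _).symm)
    obtain ⟨x₁, rfl⟩ := (lT_exact (B := B) G N₁.subtype N₁.mkQ (Submodule.mkQ_surjective _)
      (LinearMap.exact_subtype_mkQ N₁) x).mp h4
    rw [← lT_comp_apply] at hx
    have h5 := ih hN (j ∘ₗ N₁.subtype) (hj.comp N₁.injective_subtype) (hx.trans (map_zero _).symm)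
    rw [h5, map_zero]

end Ind

end Groth.Agent.Lib.Helper28.Husk
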