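import Mathlib
import Groth.Agent.Lib.Helper28Husk6

set_option autoImplicit false
universe u

namespace Groth.Agent.Lib.Helper28.Husk

open CategoryTheory Groth.Agent.Lib.Helper8.LC TensorProduct IsLocalRing

section Krull

variable {A B : Type u} [CommRing A] [CommRing B] [Algebra A B]
  [IsLocalRing A] [IsNoetherianRing A] [IsNoetherianRing B]
  (G : Type u) [AddCommGroup G] [Module B G] [Module A G] [IsScalarTower A B G] [Module.Finite B G]

/-- Krull intersection step: injectivity of `G ⊗ -` on finite length modules gives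
`G ⊗ m → G` injective. -/
theorem lTensor_maximalIdeal_injective
    (hmB : (maximalIdeal A).map (algebraMap A B) ≤ (⊥ : Ideal B).jacobson)
    (h : ∀ {N' N : Type u} [AddCommGroup N'] [Module A N'] [AddCommGroup N] [Module A N],
      IsFiniteLength A N' → IsFiniteLength A N → ∀ (j : N' →ₗ[A] N), Function.Injective j →
      Function.Injective (j.lTensor G)) :
    Function.Injective ((maximalIdeal A).subtype.lTensor G) := by
  set m := maximalIdeal A with hm
  rw [injective_iff_map_eq_zero]
  intro z hz
  have hJfin : Module.Finite A m := Module.Finite.of_fg (IsNoetherian.noetherian m)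
  have hfinT : Module.Finite B (G ⊗[A] m) := Groth.Agent.Lib.Helper5.finite_tensorProduct_of_finite G m
  have hK := Ideal.iInf_pow_smul_eq_bot_of_le_jacobson (m.map (algebraMap A B))
    (M := G ⊗[A] m) hmB
  suffices hz' : z ∈ (⨅ i : ℕ, (m.map (algebraMap A B)) ^ i • ⊤ : Submodule B (G ⊗[A] m)) by
    rw [hK] at hz'
    exact (Submodule.mem_bot B).mp hz'
  rw [Submodule.mem_iInf]
  intro n
  let mn : Submodule A ↥m := Submodule.comap m.subtype (m ^ (n + 1))
  have hstep1 : z ∈ LinearMap.range (mn.subtype.lTensor G) := by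
    let iₙ : (↥m ⧸ mn) →ₗ[A] A ⧸ (m ^ (n + 1)) :=
      Submodule.mapQ mn (m ^ (n + 1)) m.subtype le_rfl
    have hiₙ : Function.Injective iₙ := by
      rw [injective_iff_map_eq_zero]
      intro x hx
      obtain ⟨y, rfl⟩ := Submodule.Quotient.mk_surjective _ x
      rw [Submodule.mapQ_apply, Submodule.Quotient.mk_eq_zero] at hx
      rw [Submodule.Quotient.mk_eq_zero]
      exact hx
    have hfl : IsFiniteLength A (A ⧸ (m ^ (n + 1))) :=
      Groth.Agent.Lib.Helper5.isFiniteLength_quotient_of_pow_le _ (n + 1) le_rfl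
    have hinjₙ := h (hfl.of_injective hiₙ) hfl iₙ hiₙ
    have hcomm : iₙ ∘ₗ mn.mkQ = (m ^ (n + 1)).mkQ ∘ₗ m.subtype := by
      ext y
      rfl
    have h1 : (mn.mkQ.lTensor G) z = 0 := by
      apply hinjₙ
      rw [map_zero, ← LinearMap.comp_apply, ← LinearMap.lTensor_comp, hcomm, LinearMap.lTensor_comp,
        LinearMap.comp_apply, hz, map_zero]
    have hexT := lTensor_exact G (LinearMap.exact_subtype_mkQ mn) (Submodule.mkQ_surjective mn)
    exact (hexT z).mp h1
  have hmn_le : mn ≤ m ^ n • (⊤ : Submodule A ↥m) := by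
    intro y hy
    have hy' : (y : A) ∈ m ^ n * m := by
      rw [← pow_succ]
      exact hy
    have h2 : m ^ n * m ≤ Submodule.map m.subtype (m ^ n • (⊤ : Submodule A ↥m)) := by
      rw [Submodule.map_smul'', Submodule.map_top, Submodule.range_subtype]
      exact le_rfl
    obtain ⟨y', hy'mem, hy'eq⟩ := h2 hy'
    have : y' = y := Subtype.ext hy'eq
    rw [← this]
    exact hy'mem
  have hstep2 : ∀ w : G ⊗[A] ↥mn, (mn.subtype.lTensor G) w ∈
      ((m.map (algebraMap A B)) ^ n • ⊤ : Submodule B (G ⊗[A] m)) := by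
    intro w
    induction w with
    | zero => rw [map_zero]; exact Submodule.zero_mem _
    | add a b ha hb => rw [map_add]; exact Submodule.add_mem _ ha hb
    | tmul g y =>
      rw [LinearMap.lTensor_tmul, Submodule.subtype_apply]
      have hy := hmn_le y.2
      refine Submodule.smul_induction_on hy ?_ ?_
      · intro c hc t _
        rw [TensorProduct.tmul_smul, ← algebraMap_smul B c (g ⊗ₜ[A] t)]
        refine Submodule.smul_mem_smul ?_ trivial
        rw [← Ideal.map_pow]
        exact Ideal.mem_map_of_mem _ hc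
      · intro t₁ t₂ h₁ h₂
        rw [TensorProduct.tmul_add]
        exact Submodule.add_mem _ h₁ h₂
  obtain ⟨w, rfl⟩ := hstep1
  exact hstep2 w

end Krull

section Flat

variable {A B : Type u} [CommRing A] [CommRing B] [Algebra A B]
  [IsLocalRing A] [IsNoetherianRing A] [IsNoetherianRing B] (J : Ideal B)
  {E0 E1 G : Type u} [AddCommGroup E0] [Module B E0] [Module A E0] [IsScalarTower A B E0]
  [AddCommGroup E1] [Module B E1] [Module A E1] [IsScalarTower A B E1]
  [AddCommGroup G] [Module B G] [Module A G] [IsScalarTower A B G]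
  [Module.Flat A E0] [Module.Flat A E1] [Module.Finite B G]
  (u : E0 →ₗ[B] E1) (v : E1 →ₗ[B] G) (hv : Function.Surjective v) (huv : Function.Exact u v)
  (hGU : ∀ q : PrimeSpectrum B, ¬ J ≤ q.asIdeal →
      Module.Flat A (LocalizedModule q.asIdeal.primeCompl G))
  (h00 : HV J 0 (E0 ⊗[A] (A ⧸ maximalIdeal A))) (h01 : HV J 1 (E0 ⊗[A] (A ⧸ maximalIdeal A)))
  (h10 : HV J 0 (E1 ⊗[A] (A ⧸ maximalIdeal A))) (h2 : HV J 2 (K A u (A ⧸ maximalIdeal A)))

include hv huv hGU h00 h01 h10 h2 in
/-- **Flatness of the cokernel** from `H²_J` vanishing on the closed fibre of the kernel. -/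
theorem flat_coker (hmB : (maximalIdeal A).map (algebraMap A B) ≤ (⊥ : Ideal B).jacobson) :
    Module.Flat A G := by
  apply Groth.Agent.Lib.Helper5.flat_of_lTensor_maximalIdeal_injective G hmB
  apply lTensor_maximalIdeal_injective G hmB
  intro N' N _ _ _ _ hN' hN j hj
  exact lT_G_injective_of_isFiniteLength J u v hv huv hGU h00 h01 h10 h2 hN' hN j hj

end Flat

end Groth.Agent.Lib.Helper28.Husk
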