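import Mathlib
import Groth.Agent.Lib.Helper28Husk7
import Groth.Agent.Lib.Helper28Hull2

set_option autoImplicit false
universe u

namespace Groth.Agent.Lib.Helper28.Husk

open CategoryTheory Groth.Agent.Lib.Helper8.LC TensorProduct IsLocalRing

section H2

variable {A B : Type u} [CommRing A] [CommRing B] [Algebra A B]
  [IsLocalRing A] [IsNoetherianRing A] [IsNoetherianRing B] (J : Ideal B)
  {F E0 E1 G : Type u} [AddCommGroup F] [Module B F] [Module A F] [IsScalarTower A B F]
  [AddCommGroup E0] [Module B E0] [Module A E0] [IsScalarTower A B E0]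
  [AddCommGroup E1] [Module B E1] [Module A E1] [IsScalarTower A B E1]
  [AddCommGroup G] [Module B G] [Module A G] [IsScalarTower A B G]

theorem rT_comp_eq_zero (f : F →ₗ[B] E0) (u : E0 →ₗ[B] E1) (hfu : ∀ x, u (f x) = 0)
    (N : Type u) [AddCommGroup N] [Module A N] (x : F ⊗[A] N) :
    rT A N u (rT A N f x) = 0 := by
  induction x using TensorProduct.induction_on with
  | zero => simp
  | tmul e n => simp [hfu]
  | add x y hx hy => simp only [map_add, hx, hy, add_zero]

/-- `K(A) = 0` if `u` is injective. -/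
theorem K_self_eq_bot (f : F →ₗ[B] E0) (hf : Function.Injective f) (w : K A f A) : w = 0 := by
  apply Subtype.ext
  have hw : rT A A f (w : F ⊗[A] A) = 0 := w.2
  have h1 : (w : F ⊗[A] A) = (TensorProduct.rid A F (w : F ⊗[A] A)) ⊗ₜ[A] (1 : A) := by
    conv_lhs => rw [← (TensorProduct.rid A F).symm_apply_apply (w : F ⊗[A] A)]
    rfl
  rw [h1, AlgebraTensorModule.rTensor_tmul] at hw
  have h2 := congrArg (TensorProduct.rid A E0) hw
  rw [TensorProduct.rid_tmul, one_smul, map_zero] at h2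
  have h3 : TensorProduct.rid A F (w : F ⊗[A] A) = 0 := hf (h2.trans (map_zero f).symm)
  rw [h1, h3, TensorProduct.zero_tmul]
  rfl

variable (f : F →ₗ[B] E0) (u : E0 →ₗ[B] E1) (v : E1 →ₗ[B] G)

/-- the kernel of `F ⊗ k → E0 ⊗ k` is killed by a power of `J` if the cokernel of `f` is flat off
`V(J)`. -/
theorem ker_rT_torsion {G : Type u} [AddCommGroup G] [Module B G] [Module A G]
    [IsScalarTower A B G] [Module.Finite B G] (v : E0 →ₗ[B] G) (hf : Function.Injective f)
    (hv : Function.Surjective v) (hfv : Function.Exact f v)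
    (hGU : ∀ q : PrimeSpectrum B, ¬ J ≤ q.asIdeal →
      Module.Flat A (LocalizedModule q.asIdeal.primeCompl G)) :
    ∃ n : ℕ, ∀ b ∈ J ^ n, ∀ x : F ⊗[A] (A ⧸ maximalIdeal A),
      rT A (A ⧸ maximalIdeal A) f x = 0 → b • x = 0 := by
  haveI : Module.Finite A (maximalIdeal A) := Module.Finite.of_fg (IsNoetherian.noetherian _)
  obtain ⟨n, hn⟩ := exists_pow_smul_eq_zero J hGU (maximalIdeal A).subtype
    (maximalIdeal A).injective_subtype
  refine ⟨n, fun b hb x hx => ?_⟩
  have hxK : x ∈ K A f (A ⧸ maximalIdeal A) := LinearMap.mem_ker.mpr hx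
  obtain ⟨w, hw⟩ := smul_mem_range_Kmap f v hv hfv (maximalIdeal A).subtype (maximalIdeal A).mkQ
    (Submodule.mkQ_surjective _) (LinearMap.exact_subtype_mkQ _) b (hn b hb) ⟨x, hxK⟩
  rw [K_self_eq_bot f hf w, map_zero] at hw
  have := congrArg Subtype.val hw
  exact this.symm

/-- the cokernel of `F ⊗ k → K(k)` is killed by a power of `J` if `G` is flat off `V(J)`. -/
theorem coker_torsion [Module.Finite B G] (hfu : Function.Exact f u)
    (hv : Function.Surjective v) (huv : Function.Exact u v)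
    (hGU : ∀ q : PrimeSpectrum B, ¬ J ≤ q.asIdeal →
      Module.Flat A (LocalizedModule q.asIdeal.primeCompl G)) :
    ∃ n : ℕ, ∀ b ∈ J ^ n, ∀ y ∈ K A u (A ⧸ maximalIdeal A),
      ∃ x : F ⊗[A] (A ⧸ maximalIdeal A), rT A (A ⧸ maximalIdeal A) f x = b • y := by
  haveI : Module.Finite A (maximalIdeal A) := Module.Finite.of_fg (IsNoetherian.noetherian _)
  obtain ⟨n, hn⟩ := exists_pow_smul_eq_zero J hGU (maximalIdeal A).subtype
    (maximalIdeal A).injective_subtype
  refine ⟨n, fun b hb y hy => ?_⟩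
  obtain ⟨w, hw⟩ := smul_mem_range_Kmap u v hv huv (maximalIdeal A).subtype (maximalIdeal A).mkQ
    (Submodule.mkQ_surjective _) (LinearMap.exact_subtype_mkQ _) b (hn b hb) ⟨y, hy⟩
  have hw' : lT B E0 (maximalIdeal A).mkQ (w : E0 ⊗[A] A) = b • y := congrArg Subtype.val hw
  have hwK : rT A A u (w : E0 ⊗[A] A) = 0 := w.2
  have h1 : (w : E0 ⊗[A] A) = (TensorProduct.rid A E0 (w : E0 ⊗[A] A)) ⊗ₜ[A] (1 : A) := by
    conv_lhs => rw [← (TensorProduct.rid A E0).symm_apply_apply (w : E0 ⊗[A] A)]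
    rfl
  rw [h1, AlgebraTensorModule.rTensor_tmul] at hwK
  have h2 := congrArg (TensorProduct.rid A E1) hwK
  rw [TensorProduct.rid_tmul, one_smul, map_zero] at h2
  obtain ⟨x₀, hx₀⟩ := (hfu _).mp h2
  refine ⟨x₀ ⊗ₜ[A] ((maximalIdeal A).mkQ 1), ?_⟩
  rw [AlgebraTensorModule.rTensor_tmul, hx₀, ← hw']
  conv_rhs => rw [h1]
  rw [AlgebraTensorModule.lTensor_tmul]

include J in
/-- **`H²` bridge**: `H²_J (F ⊗ k) = 0` implies `H²_J (K(k)) = 0`. -/
theorem HV_two_K [Module.Finite B E1] [Module.Finite B G] [Module.Flat A E1]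
    (hf : Function.Injective f) (hfu : Function.Exact f u)
    (hv : Function.Surjective v) (huv : Function.Exact u v)
    (hGU : ∀ q : PrimeSpectrum B, ¬ J ≤ q.asIdeal →
      Module.Flat A (LocalizedModule q.asIdeal.primeCompl G))
    (hF2 : HV J 2 (F ⊗[A] (A ⧸ maximalIdeal A))) : HV J 2 (K A u (A ⧸ maximalIdeal A)) := by
  -- the image of `u`
  have hexI : Function.Exact f u.rangeRestrict := by
    intro x
    rw [← hfu x]
    constructor
    · intro h
      exact congrArg Subtype.val h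
    · intro h
      exact Subtype.ext h
  have hexIv : Function.Exact (LinearMap.range u).subtype v := by
    intro x
    rw [huv x]
    constructor
    · rintro ⟨y, rfl⟩
      exact ⟨⟨u y, ⟨y, rfl⟩⟩, rfl⟩
    · rintro ⟨⟨_, ⟨y, rfl⟩⟩, rfl⟩
      exact ⟨y, rfl⟩
  have hIU : ∀ q : PrimeSpectrum B, ¬ J ≤ q.asIdeal →
      Module.Flat A (LocalizedModule q.asIdeal.primeCompl (LinearMap.range u)) := by
    intro q hq
    exact Groth.Agent.Lib.Helper28.flat_localizedModule_of_exact q.asIdeal.primeCompl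
      (LinearMap.range u).subtype v (Submodule.injective_subtype _) hv hexIv
      (Groth.Agent.Lib.Helper28.flat_localizedModule_of_flat _) (hGU q hq)
  obtain ⟨n1, h1⟩ := ker_rT_torsion J f u.rangeRestrict hf (LinearMap.surjective_rangeRestrict u)
    hexI hIU
  obtain ⟨n2, h2⟩ := coker_torsion J f u v hfu hv huv hGU
  let Kf : F ⊗[A] (A ⧸ maximalIdeal A) →ₗ[B] K A u (A ⧸ maximalIdeal A) :=
    (rT A (A ⧸ maximalIdeal A) f).codRestrict (K A u (A ⧸ maximalIdeal A)) (fun x =>
      LinearMap.mem_ker.mpr (rT_comp_eq_zero f u hfu.apply_apply_eq_zero _ x))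
  have hKf : ∀ x, ((Kf x : K A u (A ⧸ maximalIdeal A)) : E0 ⊗[A] (A ⧸ maximalIdeal A)) =
      rT A (A ⧸ maximalIdeal A) f x := fun x => rfl
  -- kernel
  have htors : DRing.torsionSub J (LinearMap.ker Kf) = ⊤ := by
    rw [eq_top_iff]
    intro t _
    refine ⟨n1, fun b hb => ?_⟩
    apply Subtype.ext
    have ht : rT A (A ⧸ maximalIdeal A) f (t : F ⊗[A] (A ⧸ maximalIdeal A)) = 0 := by
      rw [← hKf, LinearMap.mem_ker.mp t.2]
      rfl
    exact h1 b hb _ ht
  have hT3 : HV J 3 (LinearMap.ker Kf) := H_succ_eq_zero_of_torsion J 2 _ htors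
  have hexK : Function.Exact (LinearMap.ker Kf).subtype Kf.rangeRestrict := by
    intro x
    constructor
    · intro h
      have hx : x ∈ LinearMap.ker Kf := by
        rw [LinearMap.mem_ker]
        exact congrArg Subtype.val h
      exact ⟨⟨x, hx⟩, rfl⟩
    · rintro ⟨y, rfl⟩
      apply Subtype.ext
      exact y.2
  have hR2 : HV J 2 (LinearMap.range Kf) :=
    HV.right (LinearMap.ker Kf).subtype Kf.rangeRestrict (Submodule.injective_subtype _)
      (LinearMap.surjective_rangeRestrict _) hexK hF2 hT3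
  -- cokernel
  have htorsQ : DRing.torsionSub J (K A u (A ⧸ maximalIdeal A) ⧸ LinearMap.range Kf) = ⊤ := by
    rw [eq_top_iff]
    intro z _
    obtain ⟨y, rfl⟩ := Submodule.mkQ_surjective _ z
    refine ⟨n2, fun b hb => ?_⟩
    rw [← map_smul, Submodule.mkQ_apply, Submodule.Quotient.mk_eq_zero]
    obtain ⟨x, hx⟩ := h2 b hb y y.2
    exact ⟨x, Subtype.ext hx⟩
  have hQ2 : HV J 2 (K A u (A ⧸ maximalIdeal A) ⧸ LinearMap.range Kf) :=
    H_succ_eq_zero_of_torsion J 1 _ htorsQ
  exact HV.mid (LinearMap.range Kf).subtype (LinearMap.range Kf).mkQ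
    (Submodule.injective_subtype _) (Submodule.mkQ_surjective _)
    (LinearMap.exact_subtype_mkQ _) hR2 hQ2

end H2

end Groth.Agent.Lib.Helper28.Husk
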