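import Mathlib
import Groth.Agent.Lib.Helper28Husk8
import Groth.Agent.Lib.Helper28FibReg
import Groth.Prelude.Def_EGA4b

set_option autoImplicit false
universe u

namespace Groth.Agent.Lib.Helper28.Husk

open CategoryTheory Groth.Agent.Lib.Helper8.LC TensorProduct IsLocalRing

section Bridge

variable (A B : Type u) [CommRing A] [CommRing B] [Algebra A B] [IsLocalRing A]
  (E : Type u) [AddCommGroup E] [Module B E] [Module A E] [IsScalarTower A B E]

/-- `e ↦ e ⊗ 1`, `B`-linear. -/
noncomputable def toTensorResidue : E →ₗ[B] E ⊗[A] (A ⧸ maximalIdeal A) where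
  toFun e := e ⊗ₜ[A] (1 : A ⧸ maximalIdeal A)
  map_add' x y := TensorProduct.add_tmul x y _
  map_smul' b x := (TensorProduct.smul_tmul' b x _).symm

theorem toTensorResidue_surjective : Function.Surjective (toTensorResidue A B E) := by
  intro z
  induction z using TensorProduct.induction_on with
  | zero => exact ⟨0, map_zero _⟩
  | tmul e a =>
    obtain ⟨a, rfl⟩ := Ideal.Quotient.mk_surjective a
    refine ⟨a • e, ?_⟩
    change (a • e) ⊗ₜ[A] (1 : A ⧸ maximalIdeal A) = _
    rw [TensorProduct.smul_tmul]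
    congr 1
    rw [Algebra.smul_def, mul_one]
    rfl
  | add x y hx hy =>
    obtain ⟨x', rfl⟩ := hx
    obtain ⟨y', rfl⟩ := hy
    exact ⟨x' + y', map_add _ _ _⟩

theorem ker_toTensorResidue :
    LinearMap.ker (toTensorResidue A B E) = (EGA4.mB A B • ⊤ : Submodule B E) := by
  ext e
  rw [LinearMap.mem_ker, Groth.Agent.Lib.Helper28.FibReg.mem_map_smul_top_iff (S := B)]
  change e ⊗ₜ[A] (1 : A ⧸ maximalIdeal A) = 0 ↔ _
  rw [← (TensorProduct.tensorQuotEquivQuotSMul E (maximalIdeal A)).map_eq_zero_iff]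
  have : (1 : A ⧸ maximalIdeal A) = Ideal.Quotient.mk (maximalIdeal A) 1 := rfl
  rw [this, TensorProduct.tensorQuotEquivQuotSMul_tmul_mk, one_smul, Submodule.Quotient.mk_eq_zero]

/-- The closed fibre `E/mE` as a tensor product, `B`-linearly. -/
noncomputable def fibEquiv : EGA4.FibMod A B E ≃ₗ[B] E ⊗[A] (A ⧸ maximalIdeal A) :=
  (Submodule.quotEquivOfEq _ _ (ker_toTensorResidue A B E).symm).trans
    ((toTensorResidue A B E).quotKerEquivOfSurjective (toTensorResidue_surjective A B E))

end Bridge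

end Groth.Agent.Lib.Helper28.Husk
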