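import Mathlib

set_option autoImplicit false
universe u

namespace Groth.Agent.Lib.Helper28.HuskLoc

open TensorProduct

section DoubleLoc

variable {A' D : Type*} [CommRing A'] [CommRing D] [Algebra A' D]
variable {P : Type*} [AddCommGroup P] [Module A' P] [Module D P] [IsScalarTower A' D P]

/-- Flatness of a double localization `(P_S)_𝔪` from flatness of `P_Q`, `Q = 𝔪 ∩ D`. -/
theorem flat_localizedModule_localizedModule (S : Submonoid D) (𝔪 : Ideal (Localization S))
    [𝔪.IsPrime]
    (hQ : Module.Flat A' (LocalizedModule (𝔪.comap (algebraMap D (Localization S))).primeCompl P)) :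
    Module.Flat A' (LocalizedModule 𝔪.primeCompl (LocalizedModule S P)) := by
  let Q := 𝔪.comap (algebraMap D (Localization S))
  have hQprime : Q.IsPrime := Ideal.comap_isPrime _ _
  let c : P →ₗ[D] LocalizedModule 𝔪.primeCompl (LocalizedModule S P) :=
    ((LocalizedModule.mkLinearMap 𝔪.primeCompl (LocalizedModule S P)).restrictScalars D).comp
      (LocalizedModule.mkLinearMap S P)
  have hbc : IsBaseChange (Localization.AtPrime 𝔪) c :=
    (IsLocalizedModule.isBaseChange S (Localization S) (LocalizedModule.mkLinearMap S P)).comp
      (IsLocalizedModule.isBaseChange 𝔪.primeCompl (Localization.AtPrime 𝔪)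
        (LocalizedModule.mkLinearMap 𝔪.primeCompl (LocalizedModule S P)))
  haveI : IsLocalizedModule Q.primeCompl c :=
    (isLocalizedModule_iff_isBaseChange Q.primeCompl (Localization.AtPrime 𝔪) c).mpr hbc
  have e := IsLocalizedModule.linearEquiv Q.primeCompl (LocalizedModule.mkLinearMap Q.primeCompl P) c
  exact Module.Flat.of_linearEquiv (e.symm.restrictScalars A')

end DoubleLoc

end Groth.Agent.Lib.Helper28.HuskLoc
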