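import Mathlib
import Groth.Agent.Lib.Helper28HuskLoc1
import Groth.Agent.Lib.Helper28FibLoc
import Groth.Agent.S18708

set_option autoImplicit false
universe u

namespace Groth.Agent.Lib.Helper28.HuskLoc

open TensorProduct Groth.Agent.Lib.Helper28

section CompHom

theorem compHom_tower1 {R S M : Type*} [CommRing R] [CommRing S] [Algebra R S] [AddCommGroup M]
    [Module S M] :
    letI := Module.compHom M (algebraMap R S)
    IsScalarTower R S M :=
  letI := Module.compHom M (algebraMap R S)
  ⟨fun a b x => by
    change (a • b) • x = algebraMap R S a • (b • x)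
    rw [Algebra.smul_def, mul_smul]⟩

theorem compHom_tower2 {A R S M : Type*} [CommRing A] [CommRing R] [CommRing S] [Algebra R S]
    [Algebra A R] [Algebra A S] [IsScalarTower A R S] [AddCommGroup M] [Module S M] [Module A M]
    [IsScalarTower A S M] :
    letI := Module.compHom M (algebraMap R S)
    IsScalarTower A R M :=
  letI := Module.compHom M (algebraMap R S)
  IsScalarTower.of_algebraMap_smul fun r x => by
    change algebraMap R S (algebraMap A R r) • x = r • x
    rw [← IsScalarTower.algebraMap_apply, algebraMap_smul]

end CompHom

section Pkg

variable {A B : Type u} [CommRing A] [CommRing B] [IsNoetherianRing A] [IsNoetherianRing B]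
  [Algebra A B] (q : Ideal B) [q.IsPrime]

/-- conversion of the depth of a fibre stalk: over `B_q` w.r.t. the maximal ideal and the fibre of
the local homomorphism `A_p → B_q`, versus the frozen `FibLocMod` form. -/
theorem idealDepth_fibMod_eq_fibLocMod (M : Type u) [AddCommGroup M] [Module B M] [Module.Finite B M] :
    letI := Localization.AtPrime.algebraOfLiesOver (q.comap (algebraMap A B)) q
    LocCoh.idealDepth (IsLocalRing.maximalIdeal (Localization.AtPrime q))
      (EGA4.FibMod (Localization.AtPrime (q.comap (algebraMap A B))) (Localization.AtPrime q)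
        (LocalizedModule q.primeCompl M)) =
    LocCoh.idealDepth (q.map (algebraMap B (EGA4.FibLocRing A B q))) (EGA4.FibLocMod A B q M) := by
  set p : Ideal A := q.comap (algebraMap A B) with hp
  have hlies : q.LiesOver p := ⟨rfl⟩
  letI alg := Localization.AtPrime.algebraOfLiesOver p q
  have hmapeq : (IsLocalRing.maximalIdeal (Localization.AtPrime p)).map
      (algebraMap (Localization.AtPrime p) (Localization.AtPrime q)) =
      p.map (algebraMap A (Localization.AtPrime q)) := by
    rw [← IsLocalization.AtPrime.map_eq_maximalIdeal p (Localization.AtPrime p), Ideal.map_map,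
      ← IsScalarTower.algebraMap_eq]
  rw [idealDepth_congr (Submodule.quotEquivOfEq _
    (p.map (algebraMap A (Localization.AtPrime q)) •
      (⊤ : Submodule (Localization.AtPrime q) (LocalizedModule q.primeCompl M)))
    (congrArg (fun I : Ideal (Localization.AtPrime q) => I •
      (⊤ : Submodule (Localization.AtPrime q) (LocalizedModule q.primeCompl M))) hmapeq))]
  have hfin : Module.Finite (EGA4.FibLocRing A B q) (EGA4.FibLocMod A B q M) :=
    Module.Finite.of_restrictScalars_finite (Localization.AtPrime q) _ _
  rw [idealDepth_restrictScalars_eq_idealDepth_map (B := EGA4.FibLocRing A B q)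
    (IsLocalRing.maximalIdeal (Localization.AtPrime q)) (EGA4.FibLocMod A B q M)]
  have hq : (IsLocalRing.maximalIdeal (Localization.AtPrime q)).map
      (algebraMap (Localization.AtPrime q) (EGA4.FibLocRing A B q)) =
      q.map (algebraMap B (EGA4.FibLocRing A B q)) := by
    rw [← Localization.AtPrime.map_eq_maximalIdeal, Ideal.map_map,
      ← IsScalarTower.algebraMap_eq]
  rw [hq]

variable {F E0 E1 G : Type u} [AddCommGroup F] [Module B F] [Module A F] [IsScalarTower A B F]
  [Module.Finite B F]
  [AddCommGroup E0] [Module B E0] [Module A E0] [IsScalarTower A B E0] [Module.Finite B E0]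
  [Module.Flat A E0]
  [AddCommGroup E1] [Module B E1] [Module A E1] [IsScalarTower A B E1] [Module.Finite B E1]
  [Module.Flat A E1]
  [AddCommGroup G] [Module B G] [Module A G] [IsScalarTower A B G] [Module.Finite B G]
  (f : F →ₗ[B] E0) (u : E0 →ₗ[B] E1) (v : E1 →ₗ[B] G)

/-- **Localized form of S18708.**  At a prime `q` all of whose proper generizations are flat
points of `G`, the fibre stalk of `F` at `q` has depth `≥ 2` iff `G` is flat at `q`. -/
theorem two_le_depth_fibLocMod_iff_flat
    (hf : Function.Injective f) (hfu : Function.Exact f u) (huv : Function.Exact u v)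
    (hv : Function.Surjective v)
    (hGq : ∀ (q' : Ideal B) [q'.IsPrime], q' < q → Module.Flat A (LocalizedModule q'.primeCompl G))
    (h0 : 2 ≤ LocCoh.idealDepth (q.map (algebraMap B (EGA4.FibLocRing A B q)))
      (EGA4.FibLocMod A B q E0))
    (h1 : 1 ≤ LocCoh.idealDepth (q.map (algebraMap B (EGA4.FibLocRing A B q)))
      (EGA4.FibLocMod A B q E1)) :
    2 ≤ LocCoh.idealDepth (q.map (algebraMap B (EGA4.FibLocRing A B q)))
      (EGA4.FibLocMod A B q F) ↔ Module.Flat A (LocalizedModule q.primeCompl G) := by
  set p : Ideal A := q.comap (algebraMap A B) with hp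
  have hlies : q.LiesOver p := ⟨rfl⟩
  letI alg := Localization.AtPrime.algebraOfLiesOver p q
  have hloc : IsLocalHom (algebraMap (Localization.AtPrime p) (Localization.AtPrime q)) := by
    rw [RingHom.algebraMap_toAlgebra]
    exact Localization.isLocalHom_localRingHom p q (algebraMap A B) Ideal.LiesOver.over
  letI modF : Module (Localization.AtPrime p) (LocalizedModule q.primeCompl F) :=
    Module.compHom _ (algebraMap (Localization.AtPrime p) (Localization.AtPrime q))
  haveI t1F : IsScalarTower (Localization.AtPrime p) (Localization.AtPrime q)
      (LocalizedModule q.primeCompl F) := compHom_tower1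
  haveI t2F : IsScalarTower A (Localization.AtPrime p) (LocalizedModule q.primeCompl F) :=
    compHom_tower2
  letI modE0 : Module (Localization.AtPrime p) (LocalizedModule q.primeCompl E0) :=
    Module.compHom _ (algebraMap (Localization.AtPrime p) (Localization.AtPrime q))
  haveI t1E0 : IsScalarTower (Localization.AtPrime p) (Localization.AtPrime q)
      (LocalizedModule q.primeCompl E0) := compHom_tower1
  haveI t2E0 : IsScalarTower A (Localization.AtPrime p) (LocalizedModule q.primeCompl E0) :=
    compHom_tower2
  letI modE1 : Module (Localization.AtPrime p) (LocalizedModule q.primeCompl E1) :=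
    Module.compHom _ (algebraMap (Localization.AtPrime p) (Localization.AtPrime q))
  haveI t1E1 : IsScalarTower (Localization.AtPrime p) (Localization.AtPrime q)
      (LocalizedModule q.primeCompl E1) := compHom_tower1
  haveI t2E1 : IsScalarTower A (Localization.AtPrime p) (LocalizedModule q.primeCompl E1) :=
    compHom_tower2
  letI modG : Module (Localization.AtPrime p) (LocalizedModule q.primeCompl G) :=
    Module.compHom _ (algebraMap (Localization.AtPrime p) (Localization.AtPrime q))
  haveI t1G : IsScalarTower (Localization.AtPrime p) (Localization.AtPrime q)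
      (LocalizedModule q.primeCompl G) := compHom_tower1
  haveI t2G : IsScalarTower A (Localization.AtPrime p) (LocalizedModule q.primeCompl G) :=
    compHom_tower2
  haveI hflatE0 : Module.Flat (Localization.AtPrime p) (LocalizedModule q.primeCompl E0) :=
    (Module.flat_iff_of_isLocalization (Localization.AtPrime p) p.primeCompl _).mpr
      (flat_localizedModule_of_flat q.primeCompl)
  haveI hflatE1 : Module.Flat (Localization.AtPrime p) (LocalizedModule q.primeCompl E1) :=
    (Module.flat_iff_of_isLocalization (Localization.AtPrime p) p.primeCompl _).mpr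
      (flat_localizedModule_of_flat q.primeCompl)
  haveI : IsNoetherianRing (Localization.AtPrime p) :=
    IsLocalization.isNoetherianRing p.primeCompl _ inferInstance
  haveI : IsNoetherianRing (Localization.AtPrime q) :=
    IsLocalization.isNoetherianRing q.primeCompl _ inferInstance
  -- the hypothesis off the closed point
  have hGU' : ∀ q' : PrimeSpectrum (Localization.AtPrime q),
      ¬ IsLocalRing.maximalIdeal (Localization.AtPrime q) ≤ q'.asIdeal →
      FlatCA.FlatAt (Localization.AtPrime p) q'.asIdeal (LocalizedModule q.primeCompl G) := by
    intro q' hq'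
    have hq'' : q'.asIdeal.comap (algebraMap B (Localization.AtPrime q)) < q := by
      have hm : (IsLocalRing.maximalIdeal (Localization.AtPrime q)).comap
          (algebraMap B (Localization.AtPrime q)) = q :=
        IsLocalization.AtPrime.comap_maximalIdeal (Localization.AtPrime q) q
      have hle : q'.asIdeal.comap (algebraMap B (Localization.AtPrime q)) ≤ q :=
        le_trans (Ideal.comap_mono (IsLocalRing.le_maximalIdeal q'.2.ne_top)) hm.le
      refine lt_of_le_of_ne hle ?_
      intro heq
      apply hq'
      have h1 : (q'.asIdeal.comap (algebraMap B (Localization.AtPrime q))).map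
          (algebraMap B (Localization.AtPrime q)) = q'.asIdeal :=
        IsLocalization.map_comap q.primeCompl (Localization.AtPrime q) q'.asIdeal
      have h2 : q.map (algebraMap B (Localization.AtPrime q)) =
          IsLocalRing.maximalIdeal (Localization.AtPrime q) :=
        IsLocalization.AtPrime.map_eq_maximalIdeal q (Localization.AtPrime q)
      have h3 : q.map (algebraMap B (Localization.AtPrime q)) =
          (q'.asIdeal.comap (algebraMap B (Localization.AtPrime q))).map
            (algebraMap B (Localization.AtPrime q)) :=
        congrArg (Ideal.map (algebraMap B (Localization.AtPrime q))) heq.symm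
      exact (h2.symm.trans (h3.trans h1)).le
    have hflat := hGq (q'.asIdeal.comap (algebraMap B (Localization.AtPrime q))) hq''
    have h2 := flat_localizedModule_localizedModule (A' := A) (P := G) q.primeCompl q'.asIdeal hflat
    unfold FlatCA.FlatAt
    exact (Module.flat_iff_of_isLocalization (Localization.AtPrime p) p.primeCompl _).mpr h2
  have h0' := (idealDepth_fibMod_eq_fibLocMod (A := A) q E0).symm ▸ h0
  have h1' := (idealDepth_fibMod_eq_fibLocMod (A := A) q E1).symm ▸ h1
  have hexfu : Function.Exact (LocalizedModule.map q.primeCompl f)
      (LocalizedModule.map q.primeCompl u) := fun x =>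
    (LocalizedModule.map_exact q.primeCompl f u hfu) x
  have hexuv : Function.Exact (LocalizedModule.map q.primeCompl u)
      (LocalizedModule.map q.primeCompl v) := fun x =>
    (LocalizedModule.map_exact q.primeCompl u v huv) x
  obtain ⟨hiff, -, -⟩ := Groth.Agent.S18708.result (Localization.AtPrime p) (Localization.AtPrime q)
    (IsLocalRing.maximalIdeal (Localization.AtPrime q))
    (LocalizedModule q.primeCompl F) (LocalizedModule q.primeCompl E0)
    (LocalizedModule q.primeCompl E1) (LocalizedModule q.primeCompl G)
    (LocalizedModule.map q.primeCompl f) (LocalizedModule.map q.primeCompl u)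
    (LocalizedModule.map q.primeCompl v)
    (LocalizedModule.map_injective q.primeCompl f hf) hexfu hexuv
    (LocalizedModule.map_surjective q.primeCompl v hv) hGU' h0' h1'
  rw [← idealDepth_fibMod_eq_fibLocMod (A := A) q F, hiff]
  exact Module.flat_iff_of_isLocalization (Localization.AtPrime p) p.primeCompl _

end Pkg

end Groth.Agent.Lib.Helper28.HuskLoc
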