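import Mathlib
import Groth.Agent.Lib.Helper28HzFFa
import Groth.Agent.Lib.Helper28HzRegA
import Groth.Agent.Lib.Helper28HzRegB
import Groth.Agent.Lib.Helper28HzRegC
import Groth.Agent.Lib.Helper28FormalFibres

/-!
# Helper28HzProp: descent of geometric properties of fibres from `R → C` to `S → C` when the fibres of
`R → S` are finite products of separable algebraic field extensions (general property; normal rings).
-/

set_option autoImplicit false
universe u

namespace Groth.Agent.Lib.Helper28.HzFF
open TensorProduct Polynomial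

section PureNormal

variable {N N' : Type u} [CommRing N] [CommRing N'] (ψ : N →+* N') (hψ : Function.Surjective ψ)
  (H : ∀ z, ψ z = 0 → ∃ e, ψ e = 0 ∧ e * z = z)

include hψ H in
theorem isNormalRing_of_surjective_of_ker_pure (hN : EGA4.IsNormalRing N) : EGA4.IsNormalRing N' := by
  intro P' hP'
  let _ : Algebra N (Localization.AtPrime P') :=
    ((algebraMap N' (Localization.AtPrime P')).comp ψ).toAlgebra
  have hloc := isLocalization_atPrime_of_surjective_of_ker_pure ψ hψ H P'
  have : (P'.comap ψ).IsPrime := Ideal.comap_isPrime ψ P'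
  let e : Localization.AtPrime (P'.comap ψ) ≃+* Localization.AtPrime P' :=
    (IsLocalization.algEquiv (P'.comap ψ).primeCompl (Localization.AtPrime (P'.comap ψ))
      (Localization.AtPrime P')).toRingEquiv
  obtain ⟨h1, h2⟩ := hN (P'.comap ψ)
  exact ⟨e.toMulEquiv.isDomain_iff.mp h1, IsIntegrallyClosed.of_equiv e⟩

end PureNormal

section DescentProp

variable (R S C : Type u) [CommRing R] [CommRing S] [CommRing C] [Algebra R S]
  [Algebra S C] [Algebra R C] [IsScalarTower R S C]

/-- General form: for a property `P` of rings invariant under isomorphisms and passing to quotients by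
pure ideals. -/
theorem fiber_property_of_isPiSeparable (P : ∀ (T : Type u) [CommRing T], Prop)
    (hPe : ∀ (T T' : Type u) [CommRing T] [CommRing T'], (T ≃+* T') → P T → P T')
    (hPq : ∀ (N N' : Type u) [CommRing N] [CommRing N'] (ψ : N →+* N'), Function.Surjective ψ →
      (∀ z, ψ z = 0 → ∃ e, ψ e = 0 ∧ e * z = z) → P N → P N')
    (hF : ∀ (p : Ideal R) [p.IsPrime], IsPiSeparable p.ResidueField (p.Fiber S))
    (hC : ∀ (p : Ideal R) [p.IsPrime] (k'' : Type u) [Field k''] [Algebra p.ResidueField k''],
      Module.Finite p.ResidueField k'' → P (k'' ⊗[p.ResidueField] (p.Fiber C)))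
    (q : Ideal S) [q.IsPrime] (k' : Type u) [Field k'] [Algebra q.ResidueField k']
    (hfin : Module.Finite q.ResidueField k') : P (k' ⊗[q.ResidueField] (q.Fiber C)) := by
  let _ : Algebra S k' := ((algebraMap q.ResidueField k').comp (algebraMap S q.ResidueField)).toAlgebra
  have : IsScalarTower S q.ResidueField k' := IsScalarTower.of_algebraMap_eq (fun _ => rfl)
  let _ : Algebra R k' := ((algebraMap S k').comp (algebraMap R S)).toAlgebra
  have : IsScalarTower R S k' := IsScalarTower.of_algebraMap_eq (fun _ => rfl)
  have hp : (q.comap (algebraMap R S)).IsPrime := Ideal.comap_isPrime _ q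
  set p := q.comap (algebraMap R S) with hpdef
  have hmap : ∀ r : R, algebraMap R k' r = 0 ↔ r ∈ p := by
    intro r
    rw [IsScalarTower.algebraMap_apply R S k', IsScalarTower.algebraMap_apply S q.ResidueField k',
      map_eq_zero_iff _ (algebraMap q.ResidueField k').injective, Ideal.algebraMap_residueField_eq_zero]
    rfl
  let f : p.ResidueField →+* k' := Ideal.ResidueField.lift p (algebraMap R k')
    (fun r hr => (hmap r).mpr hr)
    (fun r hr => IsUnit.mk0 _ (fun h0 => hr ((hmap r).mp h0)))
  let _ : Algebra p.ResidueField k' := f.toAlgebra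
  have : IsScalarTower R p.ResidueField k' := IsScalarTower.of_algebraMap_eq (fun r =>
    (Ideal.ResidueField.lift_algebraMap p (algebraMap R k') _ _ r).symm)
  obtain ⟨k'', hfin'', hsurj⟩ := exists_finite_intermediateField_mulMap_surjective R S p q k' (hF p)
  have A1 : IsReduced (S ⊗[R] k'') :=
    have := (hF p).isReduced_tensor k''
    isReduced_of_injective (tensorFiberEquiv R S p k'') (tensorFiberEquiv R S p k'').injective
  have A2 : ∀ Q : Ideal (S ⊗[R] k''), Q.IsPrime → Q.IsMaximal := by
    intro Q hQ
    have h1 : (Q.comap (tensorFiberEquiv R S p k'').symm.toRingHom).IsPrime :=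
      Ideal.comap_isPrime _ Q
    have h2 := (hF p).isMaximal_of_isPrime k'' _ h1
    have h3 : Q = (Q.comap (tensorFiberEquiv R S p k'').symm.toRingHom).comap
        (tensorFiberEquiv R S p k'').toRingHom := by
      ext x
      simp
    rw [h3]
    exact Ideal.comap_isMaximal_of_surjective _ (tensorFiberEquiv R S p k'').surjective
  have h0 : P (k'' ⊗[p.ResidueField] (p.Fiber C)) := hC p k'' hfin''
  have h1 : P (C ⊗[R] k'') := hPe _ _ (tensorFiberEquiv R C p k'').symm h0
  have h2 : P (C ⊗[S] (S ⊗[R] k'')) :=
    hPe _ _ (Algebra.TensorProduct.cancelBaseChange R S S C k'').symm.toRingEquiv h1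
  have hψ : Function.Surjective
      (Algebra.TensorProduct.map (AlgHom.id S C) (mulMap R S p k' k'')) :=
    LinearMap.lTensor_surjective C hsurj
  have h3 : P (C ⊗[S] k') :=
    hPq _ _ (Algebra.TensorProduct.map (AlgHom.id S C) (mulMap R S p k' k'')).toRingHom hψ
      (exists_mul_eq_self_of_map_tensor_eq_zero S C (S ⊗[R] k'') k' (mulMap R S p k' k'') hsurj A2)
      h2
  exact hPe _ _ (tensorFiberEquiv S C q k') h3

/-- geometric normality of the fibres -/
theorem isGeomNormal_fiber_of_isPiSeparable
    (hF : ∀ (p : Ideal R) [p.IsPrime], IsPiSeparable p.ResidueField (p.Fiber S))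
    (hC : ∀ (p : Ideal R) [p.IsPrime], EGA4.IsGeomNormal p.ResidueField (p.Fiber C))
    (q : Ideal S) [q.IsPrime] : EGA4.IsGeomNormal q.ResidueField (q.Fiber C) := by
  intro k' _ _ hfin
  exact fiber_property_of_isPiSeparable R S C (fun T _ => EGA4.IsNormalRing T)
    (fun T T' _ _ e h => isNormalRing_of_ringEquiv e h)
    (fun N N' _ _ ψ hψ H h => isNormalRing_of_surjective_of_ker_pure ψ hψ H h)
    hF (fun p _ k'' _ _ hk'' => hC p k'' hk'') q k' hfin

end DescentProp

end Groth.Agent.Lib.Helper28.HzFF
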