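import Groth.Agent.Lib.Helper28FibBC3
import Groth.Agent.Lib.Helper28LocLoc
import Groth.Agent.Lib.Helper28DepthLoc
import Groth.Agent.Lib.Helper28DepthMore

/-!
# Depth along an ideal of fibre rings (helper28)

* `two_le_idealDepth_fibLocRing`: `S₂` of the fibre local ring at `n` plus fibre codimension `≥ 2`
  along `V(J)` gives `depth_J ≥ 2`.
* `natCast_le_idealDepth_localization_baseChange`: the `J`-version of the base change of fibre depth.
-/

set_option autoImplicit false
universe u v w

namespace Groth.Agent.Lib.Helper28.Inf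
open Groth.Agent.Lib.Helper28 Groth.Agent.Lib.Helper28.FibBC
open TensorProduct RingTheory.Sequence
open scoped Pointwise

section Height

variable {C : Type u} [CommRing C]

/-- Heights of primes in `C_n / 𝔭 C_n` versus dimensions of `C_q / 𝔭 C_q`. -/
theorem ringKrullDim_eq_height_of_comap_eq (𝔭 : Ideal C) (n q : Ideal C) [n.IsPrime] [q.IsPrime]
    (𝔞n : Ideal (Localization.AtPrime n)) (h𝔞n : 𝔞n = 𝔭.map (algebraMap C (Localization.AtPrime n)))
    (𝔞q : Ideal (Localization.AtPrime q)) (h𝔞q : 𝔞q = 𝔭.map (algebraMap C (Localization.AtPrime q)))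
    (h𝔭q : 𝔭 ≤ q) (P : Ideal (Localization.AtPrime n ⧸ 𝔞n)) [P.IsPrime]
    (hP : P.comap (algebraMap C (Localization.AtPrime n ⧸ 𝔞n)) = q) :
    ringKrullDim (Localization.AtPrime q ⧸ 𝔞q) = ((P.height : ℕ∞) : WithBot ℕ∞) := by
  subst h𝔞n h𝔞q
  rw [ringKrullDim_localization_quotient_eq_height 𝔭 q h𝔭q]
  have inst : IsLocalization (Algebra.algebraMapSubmonoid (C ⧸ 𝔭) n.primeCompl)
      (Localization.AtPrime n ⧸ 𝔭.map (algebraMap C (Localization.AtPrime n))) := inferInstance
  rw [← IsLocalization.height_under (Algebra.algebraMapSubmonoid (C ⧸ 𝔭) n.primeCompl) P]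
  congr 2
  rw [← Ideal.map_comap_of_surjective (Ideal.Quotient.mk 𝔭) Ideal.Quotient.mk_surjective
    (P.under (C ⧸ 𝔭))]
  congr 1
  rw [← hP, Ideal.under, Ideal.comap_comap]
  congr 1

end Height

section FibDepth

variable {R C : Type u} [CommRing R] [CommRing C] [Algebra R C] [IsNoetherianRing C]

/-- **`J`-depth of the fibre local ring** from `S₂` and fibre codimension `≥ 2` along `V(J)`. -/
theorem two_le_idealDepth_fibLocRing (n : Ideal C) [n.IsPrime] (J : Ideal C)
    (hS2 : LocCoh.HasSk 2 (EGA4.FibLocRing R C n) (EGA4.FibLocRing R C n))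
    (hcodim : ∀ q : PrimeSpectrum C, J ≤ q.asIdeal →
      q.asIdeal.comap (algebraMap R C) = n.comap (algebraMap R C) →
      (2 : WithBot ℕ∞) ≤ ringKrullDim (EGA4.FibLocRing R C q.asIdeal)) :
    2 ≤ LocCoh.idealDepth (J.map (algebraMap C (EGA4.FibLocRing R C n)))
      (EGA4.FibLocRing R C n) := by
  have key := le_idealDepth_of_hasSk (R := EGA4.FibLocRing R C n) (EGA4.FibLocRing R C n)
    (J.map (algebraMap C (EGA4.FibLocRing R C n))) 2 hS2 ?_
  · exact_mod_cast key
  intro P hJP _
  -- the prime of `C` under `P`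
  set q : Ideal C := P.asIdeal.comap (algebraMap C (EGA4.FibLocRing R C n)) with hq
  haveI : q.IsPrime := Ideal.comap_isPrime _ _
  have hJq : J ≤ q := fun x hx => hJP (Ideal.mem_map_of_mem _ hx)
  -- `q ∩ R = n ∩ R`
  have hle : (n.comap (algebraMap R C)).map (algebraMap R C) ≤ q := by
    rw [Ideal.map_le_iff_le_comap]
    intro r hr
    rw [hq, Ideal.mem_comap, Ideal.mem_comap, ← IsScalarTower.algebraMap_apply,
      IsScalarTower.algebraMap_apply R (Localization.AtPrime n) (EGA4.FibLocRing R C n),
      Ideal.Quotient.algebraMap_eq, Ideal.Quotient.eq_zero_iff_mem.mpr (Ideal.mem_map_of_mem _ hr)]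
    exact Ideal.zero_mem _
  have hqn : q ≤ n := by
    intro x hx
    by_contra hxn
    have hu : IsUnit (algebraMap C (EGA4.FibLocRing R C n) x) := by
      rw [IsScalarTower.algebraMap_apply C (Localization.AtPrime n) (EGA4.FibLocRing R C n)]
      exact (IsLocalization.map_units (Localization.AtPrime n) (⟨x, hxn⟩ : n.primeCompl)).map _
    exact P.isPrime.ne_top (Ideal.eq_top_of_isUnit_mem _ hx hu)
  have hcomap : q.comap (algebraMap R C) = n.comap (algebraMap R C) :=
    le_antisymm (Ideal.comap_mono hqn) (Ideal.map_le_iff_le_comap.mp hle)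
  have h2 := hcodim ⟨q, inferInstance⟩ hJq hcomap
  have h3 := ringKrullDim_eq_height_of_comap_eq
    ((n.comap (algebraMap R C)).map (algebraMap R C)) n q
    ((n.comap (algebraMap R C)).map (algebraMap R (Localization.AtPrime n)))
    (by rw [Ideal.map_map, ← IsScalarTower.algebraMap_eq])
    ((q.comap (algebraMap R C)).map (algebraMap R (Localization.AtPrime q)))
    (by rw [hcomap, Ideal.map_map, ← IsScalarTower.algebraMap_eq])
    hle P.asIdeal rfl
  have h2' : (2 : WithBot ℕ∞) ≤ ((P.asIdeal.height : ℕ∞) : WithBot ℕ∞) := h3 ▸ h2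
  rw [Module.supportDim_eq_of_equiv (localizedModuleSelfEquiv P.asIdeal),
    supportDim_localization_self]
  exact_mod_cast h2'

end FibDepth

section ListLift

/-- Lifting a list of elements of `I.map f` along a surjection `f` to elements of `I`. -/
theorem exists_list_map_eq_of_forall_mem_map {S T : Type*} [CommRing S] [CommRing T]
    (f : S →+* T) (hf : Function.Surjective f) (I : Ideal S) :
    ∀ rs : List T, (∀ r ∈ rs, r ∈ I.map f) →
      ∃ xs : List S, xs.map f = rs ∧ ∀ x ∈ xs, x ∈ I := by
  intro rs
  induction rs with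
  | nil => exact fun _ => ⟨[], rfl, fun x hx => by simp at hx⟩
  | cons r rs ih =>
    intro h
    obtain ⟨xs, hxs, hmem⟩ := ih fun r' hr' => h r' (List.mem_cons_of_mem _ hr')
    obtain ⟨y, hy, hyr⟩ := (Ideal.mem_map_iff_of_surjective f hf).mp (h r List.mem_cons_self)
    refine ⟨y :: xs, by rw [List.map_cons, hyr, hxs], ?_⟩
    intro x hx
    rcases List.mem_cons.mp hx with rfl | hx
    · exact hy
    · exact hmem x hx

end ListLift

section Top

variable {A B : Type u} [CommRing A] [CommRing B] [IsNoetherianRing B] [Algebra A B]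
  (A' : Type u) {B' : Type u} [CommRing A'] [CommRing B'] [Algebra A A'] [Algebra B B']
  [Algebra A' B']
  [Algebra A B'] [IsScalarTower A B B'] [IsScalarTower A A' B'] [hpo : Algebra.IsPushout A B A' B']
  (q' : Ideal B') [q'.IsPrime] (q : Ideal B) [q.IsPrime] [hlies : q'.LiesOver q]
  (M : Type u) [AddCommGroup M] [Module B M] [Module A M] [IsScalarTower A B M]
  [Module.Finite B M]

include hpo hlies in
/-- Fibre depth along `J` at `q` bounds the depth along `J` of the stalk at `q'` of the base
change, for a module whose stalk at `q` is flat over `A`. -/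
theorem natCast_le_idealDepth_localization_baseChange (J : Ideal B)
    (hflat : Module.Flat A (LocalizedModule q.primeCompl M)) (n : ℕ)
    (h : (n : ℕ∞) ≤ LocCoh.idealDepth (J.map (algebraMap B (EGA4.FibLocRing A B q)))
      (EGA4.FibLocMod A B q M)) :
    (n : ℕ∞) ≤ LocCoh.idealDepth (J.map (algebraMap B (Localization.AtPrime q')))
      (LocalizedModule q'.primeCompl (B' ⊗[B] M)) := by
  letI alg := Localization.AtPrime.algebraOfLiesOver q q'
  haveI : IsScalarTower B (Localization.AtPrime q) (Localization.AtPrime q') := inferInstance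
  -- the base change of `M_q` to the fibre ring
  have h₁ : IsBaseChange (EGA4.FibLocRing A B q)
      ((((q.comap (algebraMap A B)).map (algebraMap A (Localization.AtPrime q))) •
        (⊤ : Submodule (Localization.AtPrime q) (LocalizedModule q.primeCompl M))).mkQ) :=
    isBaseChange_mkQ _
  -- the stalk of the base change, as a `B_q`-module
  letI : Module (Localization.AtPrime q) (LocalizedModule q'.primeCompl (B' ⊗[B] M)) :=
    Module.compHom _ (algebraMap (Localization.AtPrime q) (Localization.AtPrime q'))
  haveI : IsScalarTower (Localization.AtPrime q) (Localization.AtPrime q')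
      (LocalizedModule q'.primeCompl (B' ⊗[B] M)) :=
    IsScalarTower.of_algebraMap_smul fun r x => rfl
  haveI : IsScalarTower B (Localization.AtPrime q)
      (LocalizedModule q'.primeCompl (B' ⊗[B] M)) :=
    IsScalarTower.of_algebraMap_smul fun r x => by
      change algebraMap (Localization.AtPrime q) (Localization.AtPrime q')
        (algebraMap B (Localization.AtPrime q) r) • x = r • x
      rw [← IsScalarTower.algebraMap_apply, algebraMap_smul]
  have hf : IsBaseChange (Localization.AtPrime q) (LocalizedModule.mkLinearMap q.primeCompl M) :=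
    IsLocalizedModule.isBaseChange q.primeCompl (Localization.AtPrime q) _
  have hφ := IsBaseChange.comp (TensorProduct.isBaseChange B M B')
    (IsLocalizedModule.isBaseChange q'.primeCompl (Localization.AtPrime q')
        (LocalizedModule.mkLinearMap q'.primeCompl (B' ⊗[B] M)))
  set φ : M →ₗ[B] LocalizedModule q'.primeCompl (B' ⊗[B] M) :=
    ((LocalizedModule.mkLinearMap q'.primeCompl (B' ⊗[B] M)).restrictScalars B) ∘ₗ
      (TensorProduct.mk B B' M 1) with hφdef
  let f₂ : LocalizedModule q.primeCompl M →ₗ[Localization.AtPrime q]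
      LocalizedModule q'.primeCompl (B' ⊗[B] M) := hf.lift φ
  have h₂ : IsBaseChange (Localization.AtPrime q') f₂ := by
    apply IsBaseChange.of_comp hf
    have : (f₂.restrictScalars B) ∘ₗ (LocalizedModule.mkLinearMap q.primeCompl M) = φ :=
      hf.lift_comp φ
    rw [this]
    exact hφ
  -- extract a weakly regular sequence on the fibre
  haveI hfin : Module.Finite (EGA4.FibLocRing A B q) (EGA4.FibLocMod A B q M) :=
    Module.Finite.of_restrictScalars_finite (Localization.AtPrime q) _ _
  obtain ⟨rs, hlen, hmem, hreg⟩ := exists_isWeaklyRegular_of_natCast_le_idealDepth _ n h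
  have hmap : J.map (algebraMap B (EGA4.FibLocRing A B q)) =
      (J.map (algebraMap B (Localization.AtPrime q))).map
        (Ideal.Quotient.mk ((q.comap (algebraMap A B)).map
          (algebraMap A (Localization.AtPrime q)))) := by
    rw [Ideal.map_map]
    rfl
  obtain ⟨xs, rfl, hxs⟩ := exists_list_map_eq_of_forall_mem_map
    (Ideal.Quotient.mk ((q.comap (algebraMap A B)).map
      (algebraMap A (Localization.AtPrime q)))) Ideal.Quotient.mk_surjective
    (J.map (algebraMap B (Localization.AtPrime q))) rs (fun r hr => hmap ▸ hmem r hr)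
  have hG := isWeaklyRegular_baseChange_of_fibre A' q' q xs (LocalizedModule q.primeCompl M)
    (EGA4.FibLocMod A B q M) _ h₁ (LocalizedModule q'.primeCompl (B' ⊗[B] M)) f₂ h₂ hreg
  have hmem' : ∀ y ∈ xs.map (algebraMap (Localization.AtPrime q) (Localization.AtPrime q')),
      y ∈ J.map (algebraMap B (Localization.AtPrime q')) := by
    intro y hy
    obtain ⟨x, hx, rfl⟩ := List.mem_map.mp hy
    have h1 := Ideal.mem_map_of_mem
      (algebraMap (Localization.AtPrime q) (Localization.AtPrime q')) (hxs x hx)
    rwa [Ideal.map_map, ← IsScalarTower.algebraMap_eq] at h1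
  have := length_le_idealDepth hG hmem'
  rw [List.length_map] at hlen
  rw [List.length_map, hlen] at this
  exact this

end Top

end Groth.Agent.Lib.Helper28.Inf
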