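import Mathlib
import Groth.Agent.Lib.Helper28FourTerm
import Groth.Agent.Lib.Helper28Reflexive2

/-!
# Four-term dual presentation of a reflexive module (helper28)

For a finite reflexive module `F` over a Noetherian ring `C` we dualise a finite free
presentation `P₁ → P₀ → F^∨ → 0` of its dual: `0 → F → P₀^∨ → P₁^∨ → G → 0` is exact, and the
cokernel `G` is free at every prime where `F` is free.
-/

set_option autoImplicit false
universe u

namespace Groth.Agent.Lib.Helper28.Inf
open Groth.Agent.Lib.Helper28

section Retract

variable {B : Type u} [CommRing B] {E G : Type u} [AddCommGroup E] [Module B E]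
  [AddCommGroup G] [Module B G]

/-- A module which is a retract of a projective module up to an element `s ∉ q` is projective
at `q`. -/
theorem projective_localization_of_retract_up_to (q : Ideal B) [q.IsPrime]
    [Module.Projective (Localization.AtPrime q) (LocalizedModule q.primeCompl E)]
    (v : E →ₗ[B] G) (h : G →ₗ[B] E) (s : B) (hs : s ∉ q) (hvh : v ∘ₗ h = s • LinearMap.id) :
    Module.Projective (Localization.AtPrime q) (LocalizedModule q.primeCompl G) := by
  have hu : IsUnit (algebraMap B (Localization.AtPrime q) s) :=
    IsLocalization.map_units (Localization.AtPrime q) (⟨s, hs⟩ : q.primeCompl)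
  obtain ⟨c, hc⟩ := hu
  refine Module.Projective.of_split
    (((c⁻¹ : (Localization.AtPrime q)ˣ) : Localization.AtPrime q) •
      LocalizedModule.map q.primeCompl h)
    (LocalizedModule.map q.primeCompl v) ?_
  apply LinearMap.ext
  intro x
  rw [LinearMap.comp_apply, LinearMap.smul_apply, map_smul]
  induction x using LocalizedModule.induction_on with
  | h m t =>
    rw [LocalizedModule.map_mk, LocalizedModule.map_mk, LinearMap.id_apply]
    have h0 : v (h m) = s • m := by
      have := LinearMap.congr_fun hvh m
      simpa using this
    have h1 : LocalizedModule.mk (s • m) t =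
        algebraMap B (Localization.AtPrime q) s • LocalizedModule.mk m t := by
      rw [algebraMap_smul, LocalizedModule.smul'_mk]
    rw [h0, h1, ← hc, smul_smul, Units.inv_mul, one_smul]

end Retract

section FourTerm

variable {C : Type u} [CommRing C] [IsNoetherianRing C]
  (F : Type u) [AddCommGroup F] [Module C F] [Module.Finite C F]

/-- A finite free presentation of the dual. -/
theorem exists_presentation_dual :
    ∃ (a b : ℕ) (π : (Fin b → C) →ₗ[C] Module.Dual C F) (ψ : (Fin a → C) →ₗ[C] (Fin b → C)),
      Function.Surjective π ∧ Function.Exact ψ π := by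
  obtain ⟨b, π, hπ⟩ := Module.Finite.exists_fin' C (Module.Dual C F)
  obtain ⟨a, ψ₀, hψ₀⟩ := Module.Finite.exists_fin' C (LinearMap.ker π)
  refine ⟨a, b, π, (LinearMap.ker π).subtype ∘ₗ ψ₀, hπ, ?_⟩
  intro y
  constructor
  · intro hy
    obtain ⟨z, hz⟩ := hψ₀ ⟨y, hy⟩
    exact ⟨z, by rw [LinearMap.comp_apply, hz]; rfl⟩
  · rintro ⟨z, rfl⟩
    exact (ψ₀ z).2

/-- The dual of a module free at `q` is projective at `q`. -/
theorem projective_localization_dual (q : Ideal C) [q.IsPrime]
    [Module.Free (Localization.AtPrime q) (LocalizedModule q.primeCompl F)] :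
    Module.Projective (Localization.AtPrime q)
      (LocalizedModule q.primeCompl (Module.Dual C F)) := by
  let e0 := IsLocalizedModule.iso q.primeCompl (dualLoc q F)
  let e := LinearEquiv.extendScalarsOfIsLocalization q.primeCompl (Localization.AtPrime q) e0
  exact Module.Projective.of_equiv e.symm

/-- **Four-term dual presentation** of a finite reflexive module, with cokernel free wherever
the module is. -/
theorem exists_fourTerm [Module.IsReflexive C F] :
    ∃ (a b : ℕ) (f : F →ₗ[C] Module.Dual C (Fin b → C))
      (u : Module.Dual C (Fin b → C) →ₗ[C] Module.Dual C (Fin a → C)),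
      Function.Injective f ∧ Function.Exact f u ∧
      ∀ (q : Ideal C) [q.IsPrime],
        Module.Free (Localization.AtPrime q) (LocalizedModule q.primeCompl F) →
        Module.Free (Localization.AtPrime q)
          (LocalizedModule q.primeCompl (Module.Dual C (Fin a → C) ⧸ LinearMap.range u)) := by
  obtain ⟨a, b, π, ψ, hπ, hex⟩ := exists_presentation_dual (C := C) F
  have hπψ : ∀ x, π (ψ x) = 0 := fun x => hex.apply_apply_eq_zero x
  refine ⟨a, b, π.dualMap ∘ₗ Module.Dual.eval C F, ψ.dualMap, ?_, ?_, ?_⟩
  · exact (LinearMap.dualMap_injective_of_surjective hπ).comp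
      (Module.bijective_dual_eval C F).injective
  · intro ξ
    constructor
    · intro hξ
      -- `ξ` kills `ker π = range ψ`
      have hker : LinearMap.ker π ≤ LinearMap.ker ξ := by
        intro y hy
        obtain ⟨z, rfl⟩ := (hex y).mp hy
        have := LinearMap.congr_fun hξ z
        simpa using this
      have hmem : ξ ∈ LinearMap.range π.dualMap := by
        rw [LinearMap.range_dualMap_eq_dualAnnihilator_ker_of_surjective π hπ,
          Submodule.mem_dualAnnihilator]
        intro w hw
        exact hker hw
      obtain ⟨η, rfl⟩ := hmem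
      obtain ⟨x, rfl⟩ := (Module.bijective_dual_eval C F).surjective η
      exact ⟨x, rfl⟩
    · rintro ⟨x, rfl⟩
      apply LinearMap.ext
      intro z
      simp [LinearMap.dualMap_apply, hπψ]
  · intro q _ hfree
    haveI := hfree
    haveI := projective_localization_dual F q
    obtain ⟨s, σ, hs, hσ⟩ := FourTerm.exists_section_up_to π hπ q
    have hσ' : ∀ y, π (σ y) = s • y := fun y => by
      have := LinearMap.congr_fun hσ y
      simpa using this
    -- the defect `w = s - σ π` maps into `range ψ`
    let w : (Fin b → C) →ₗ[C] (Fin b → C) := s • LinearMap.id - σ ∘ₗ π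
    have hw : ∀ x, ∃ t, ψ t = w x := by
      intro x
      apply (hex (w x)).mp
      simp only [w, LinearMap.sub_apply, LinearMap.smul_apply, LinearMap.id_apply,
        LinearMap.comp_apply, map_sub, map_smul, hσ', sub_self]
    choose t ht using fun i => hw (Pi.basisFun C (Fin b) i)
    let τ : (Fin b → C) →ₗ[C] (Fin a → C) := (Pi.basisFun C (Fin b)).constr C t
    have hτ : ψ ∘ₗ τ = w := by
      apply (Pi.basisFun C (Fin b)).ext
      intro i
      rw [LinearMap.comp_apply, Module.Basis.constr_basis, ht]
    have hwψ : w ∘ₗ ψ = s • ψ := by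
      apply LinearMap.ext
      intro x
      simp only [w, LinearMap.comp_apply, LinearMap.sub_apply, LinearMap.smul_apply,
        LinearMap.id_apply, hπψ, map_zero, sub_zero]
    have hutu : ∀ y, ψ.dualMap (τ.dualMap (ψ.dualMap y)) = s • ψ.dualMap y := by
      intro y
      apply LinearMap.ext
      intro x
      have h1 : ψ (τ (ψ x)) = s • ψ x := by
        have := LinearMap.congr_fun hwψ x
        rw [← hτ] at this
        simpa using this
      simp only [LinearMap.dualMap_apply, LinearMap.smul_apply, h1, map_smul]
    let g : Module.Dual C (Fin a → C) →ₗ[C] Module.Dual C (Fin a → C) :=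
      s • LinearMap.id - ψ.dualMap ∘ₗ τ.dualMap
    have hle : LinearMap.range ψ.dualMap ≤ LinearMap.ker g := by
      rintro _ ⟨y, rfl⟩
      simp only [g, LinearMap.mem_ker, LinearMap.sub_apply, LinearMap.smul_apply,
        LinearMap.id_apply, LinearMap.comp_apply, hutu, sub_self]
    let h : (Module.Dual C (Fin a → C) ⧸ LinearMap.range ψ.dualMap) →ₗ[C]
        Module.Dual C (Fin a → C) := (LinearMap.range ψ.dualMap).liftQ g hle
    have hvh : (LinearMap.range ψ.dualMap).mkQ ∘ₗ h = s • LinearMap.id := by
      apply LinearMap.ext
      intro y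
      obtain ⟨y, rfl⟩ := Submodule.Quotient.mk_surjective _ y
      have h2 : (LinearMap.range ψ.dualMap).mkQ (ψ.dualMap (τ.dualMap y)) = 0 := by
        rw [Submodule.mkQ_apply, Submodule.Quotient.mk_eq_zero]
        exact ⟨_, rfl⟩
      simp only [h, g, LinearMap.comp_apply, LinearMap.smul_apply, LinearMap.id_apply]
      rw [Submodule.liftQ_apply]
      simp only [LinearMap.sub_apply, LinearMap.smul_apply, LinearMap.id_apply,
        LinearMap.comp_apply, map_sub, map_smul, h2, sub_zero]
      rfl
    haveI := projective_localization_of_retract_up_to q (LinearMap.range ψ.dualMap).mkQ h s hs hvh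
    exact Module.free_of_flat_of_isLocalRing

end FourTerm

end Groth.Agent.Lib.Helper28.Inf
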