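import Mathlib
import Groth.Agent.Lib.Helper6PdFib

/-!
# Upper semicontinuity of the fibrewise projective dimension (helper6)
-/

set_option autoImplicit false
set_option linter.style.haveILetI false

universe u

open TensorProduct

namespace Groth.Agent.Lib.Helper6.PdSemi

open Groth.Agent.Lib.Helper6.PdFib

attribute [local instance] Algebra.TensorProduct.rightAlgebra in
/-- `S ⧸ pS` is the pushout of `A ⧸ p` and `S` over `A`. -/
theorem isPushout_quotient (A S : Type u) [CommRing A] [CommRing S] [Algebra A S] (p : Ideal A) :
    Algebra.IsPushout A (A ⧸ p) S (S ⧸ p.map (algebraMap A S)) := by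
  have h : Algebra.IsPushout A S (A ⧸ p) (S ⊗[A] (A ⧸ p)) := TensorProduct.isPushout
  have h2 : Algebra.IsPushout A S (A ⧸ p) (S ⧸ p.map (algebraMap A S)) := by
    refine Algebra.IsPushout.of_equiv (h := h)
      (Algebra.TensorProduct.quotIdealMapEquivTensorQuot S p).symm ?_
    apply Ideal.Quotient.ringHom_ext
    ext a
    simp only [RingHom.coe_comp, Function.comp_apply]
    show (Algebra.TensorProduct.quotIdealMapEquivTensorQuot S p).symm
      ((1 : S) ⊗ₜ[A] (Ideal.Quotient.mk p a)) = _
    rw [Ideal.Quotient.algebraMap_quotient_map_quotient, Algebra.algebraMap_eq_smul_one a]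
    rfl
  exact h2.symm

/-- `N ⊗[B] M` is flat over `A` when `N` is flat over `B` and `M` is flat over `A`. -/
theorem flat_tensor_of_flat (A B : Type*) [CommRing A] [CommRing B] [Algebra A B]
    (N M : Type*) [AddCommGroup N] [Module B N] [Module A N] [IsScalarTower A B N]
    [Module.Flat B N] [AddCommGroup M] [Module B M] [Module A M] [IsScalarTower A B M]
    [Module.Flat A M] : Module.Flat A (N ⊗[B] M) := by
  rw [Module.Flat.iff_lTensor_injective']
  intro I
  have h1 : Function.Injective (LinearMap.lTensor M I.subtype) :=
    Module.Flat.lTensor_preserves_injective_linearMap _ (Submodule.subtype_injective I)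
  have h2 : Function.Injective
      (LinearMap.lTensor N (AlgebraTensorModule.lTensor B M I.subtype)) :=
    Module.Flat.lTensor_preserves_injective_linearMap _ h1
  have hsq : ∀ x : (N ⊗[B] M) ⊗[A] I,
      AlgebraTensorModule.assoc A B B N M A (LinearMap.lTensor (N ⊗[B] M) I.subtype x) =
        LinearMap.lTensor N (AlgebraTensorModule.lTensor B M I.subtype)
          (AlgebraTensorModule.assoc A B B N M I x) := by
    intro x
    induction x using TensorProduct.induction_on with
    | zero => simp
    | add x y hx hy => simp only [map_add, hx, hy]
    | tmul t i =>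
      induction t using TensorProduct.induction_on with
      | zero => simp
      | add x y hx hy => simp only [add_tmul, map_add, hx, hy]
      | tmul n m => rfl
  intro x y hxy
  apply (AlgebraTensorModule.assoc A B B N M I).injective
  apply h2
  rw [← hsq, ← hsq, hxy]

/-- transitivity of base change for injectivity. -/
theorem baseChange_injective_trans {B S C : Type*} [CommRing B] [CommRing S] [CommRing C]
    [Algebra B S] [Algebra S C] [Algebra B C] [IsScalarTower B S C]
    {K F : Type*} [AddCommGroup K] [AddCommGroup F] [Module B K] [Module B F] (ι : K →ₗ[B] F)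
    (h1 : Function.Injective ((ι.baseChange S).baseChange C)) :
    Function.Injective (ι.baseChange C) := by
  have hsq := AlgebraTensorModule.lTensor_comp_cancelBaseChange (R := B) (A := S) (B := C)
    (M := C) ι
  intro x y hxy
  obtain ⟨x', rfl⟩ := (AlgebraTensorModule.cancelBaseChange B S C C K).surjective x
  obtain ⟨y', rfl⟩ := (AlgebraTensorModule.cancelBaseChange B S C C K).surjective y
  have hx := LinearMap.congr_fun hsq x'
  have hy := LinearMap.congr_fun hsq y'
  simp only [LinearMap.coe_comp, Function.comp_apply, LinearEquiv.coe_coe] at hx hy
  have h2 : (AlgebraTensorModule.cancelBaseChange B S C C F)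
      (((ι.baseChange S).baseChange C) x') =
      (AlgebraTensorModule.cancelBaseChange B S C C F)
      (((ι.baseChange S).baseChange C) y') := by
    erw [← hx, ← hy]
    exact hxy
  rw [h1 ((AlgebraTensorModule.cancelBaseChange B S C C F).injective h2)]

/-- if `κ(P) ⊗ K → κ(P) ⊗ F` is injective for a finite presentation `K → F → M → 0`, then `M_P` is
free. -/
theorem free_localization_of_lTensor_residueField_injective {B : Type u} [CommRing B]
    {K F M : Type u} [AddCommGroup K] [AddCommGroup F] [AddCommGroup M] [Module B K] [Module B F]
    [Module B M] (ι : K →ₗ[B] F) (π : F →ₗ[B] M)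
    (hex : Function.Exact ι π) (hπ : Function.Surjective π)
    [Module.Finite B K] [Module.Finite B F] [Module.Free B F] (P : Ideal B) [P.IsPrime]
    (h : Function.Injective (ι.lTensor P.ResidueField)) :
    Module.Free (Localization.AtPrime P) (Localization.AtPrime P ⊗[B] M) := by
  refine Module.free_of_lTensor_residueField_injective (ι.baseChange (Localization.AtPrime P))
    (π.baseChange (Localization.AtPrime P)) (baseChange_surjective π hπ)
    (baseChange_exact ι π hex hπ) ?_
  have hsq := AlgebraTensorModule.lTensor_comp_cancelBaseChange (R := B)
    (A := Localization.AtPrime P) (B := Localization.AtPrime P) (M := P.ResidueField) ι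
  intro x y hxy
  have hx := LinearMap.congr_fun hsq x
  have hy := LinearMap.congr_fun hsq y
  simp only [LinearMap.coe_comp, Function.comp_apply, LinearEquiv.coe_coe] at hx hy
  have h2 : (AlgebraTensorModule.cancelBaseChange B (Localization.AtPrime P)
      (Localization.AtPrime P) P.ResidueField K) x =
      (AlgebraTensorModule.cancelBaseChange B (Localization.AtPrime P)
      (Localization.AtPrime P) P.ResidueField K) y := by
    apply h
    erw [hx, hy]
    exact congrArg _ hxy
  exact (AlgebraTensorModule.cancelBaseChange B (Localization.AtPrime P)
      (Localization.AtPrime P) P.ResidueField K).injective h2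

section fibre

variable (A : Type u) {B : Type u} [CommRing A] [CommRing B] [Algebra A B]

/-- the local ring of the fibre at `P`. -/
abbrev fibRing (P : PrimeSpectrum B) : Type u :=
  Localization.AtPrime P.asIdeal ⧸
    (P.asIdeal.under A).map (algebraMap A (Localization.AtPrime P.asIdeal))

/-- base change to the local ring of the fibre keeps presentations of `A`-flat modules left
exact. -/
theorem baseChange_fibRing_injective (M : Type u) [AddCommGroup M] [Module B M] [Module A M]
    [IsScalarTower A B M] [Module.Flat A M] {K F : Type u} [AddCommGroup K] [AddCommGroup F]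
    [Module B K] [Module B F] (ι : K →ₗ[B] F) (π : F →ₗ[B] M) (hι : Function.Injective ι)
    (hex : Function.Exact ι π) (hπ : Function.Surjective π) (P : PrimeSpectrum B) :
    Function.Injective (ι.baseChange (fibRing A P)) := by
  have hιS : Function.Injective (ι.baseChange (Localization.AtPrime P.asIdeal)) := by
    rw [LinearMap.baseChange_eq_ltensor]
    exact Module.Flat.lTensor_preserves_injective_linearMap ι hι
  have hexS := baseChange_exact (C := Localization.AtPrime P.asIdeal) ι π hex hπ
  have hπS := baseChange_surjective (C := Localization.AtPrime P.asIdeal) π hπ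
  haveI : Module.Flat A (Localization.AtPrime P.asIdeal ⊗[B] M) :=
    flat_tensor_of_flat A B (Localization.AtPrime P.asIdeal) M
  haveI := isPushout_quotient A (Localization.AtPrime P.asIdeal) (P.asIdeal.under A)
  refine baseChange_injective_trans (S := Localization.AtPrime P.asIdeal) ι ?_
  exact Groth.Agent.Lib.Helper6.PdTor.baseChange_injective_of_flat (R₀ := A)
    (A ⧸ P.asIdeal.under A) (ι.baseChange (Localization.AtPrime P.asIdeal))
    (π.baseChange (Localization.AtPrime P.asIdeal)) hιS hπS hexS

theorem map_under_le_maximalIdeal (P : PrimeSpectrum B) :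
    (P.asIdeal.under A).map (algebraMap A (Localization.AtPrime P.asIdeal)) ≤
      IsLocalRing.maximalIdeal (Localization.AtPrime P.asIdeal) := by
  rw [Ideal.map_le_iff_le_comap]
  intro a ha
  rw [Ideal.mem_comap, IsScalarTower.algebraMap_apply A B (Localization.AtPrime P.asIdeal)]
  exact (IsLocalization.AtPrime.to_map_mem_maximal_iff _ P.asIdeal _).mpr ha

/-- the canonical map from the local ring of the fibre at `P` to `κ(P)`. -/
noncomputable def fibRingToResidueField (P : PrimeSpectrum B) :
    fibRing A P →ₐ[B] P.asIdeal.ResidueField :=
  Ideal.Quotient.liftₐ _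
    (IsScalarTower.toAlgHom B (Localization.AtPrime P.asIdeal) P.asIdeal.ResidueField) (by
      intro a ha
      exact (IsLocalRing.residue_eq_zero_iff a).mpr (map_under_le_maximalIdeal A P ha))

section pointwise

variable (M : Type u) [AddCommGroup M] [Module B M] (P : PrimeSpectrum B)

/-- the `B`-module structure of `κ(P)` through the local ring of the fibre. -/
noncomputable abbrev moduleResidueField :
    Module (fibRing A P) P.asIdeal.ResidueField :=
  Module.compHom _ (fibRingToResidueField A P).toRingHom

theorem isScalarTower_residueField :
    letI := moduleResidueField A P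
    IsScalarTower B (fibRing A P) P.asIdeal.ResidueField :=
  letI := moduleResidueField A P
  ⟨fun b c x => by
    show (fibRingToResidueField A P) (b • c) * x = b • ((fibRingToResidueField A P) c * x)
    rw [map_smul, smul_mul_assoc]⟩

/-- the fibre module at `P` vanishes iff `P` is not in the support. -/
theorem subsingleton_fibRing_tensor_iff [Module.Finite B M] :
    Subsingleton (fibRing A P ⊗[B] M) ↔ P ∉ Module.support B M := by
  constructor
  · intro h
    rw [Module.mem_support_iff_nontrivial_residueField_tensorProduct,
      not_nontrivial_iff_subsingleton]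
    letI := moduleResidueField A P
    haveI := isScalarTower_residueField A P
    exact (AlgebraTensorModule.cancelBaseChange B (fibRing A P) (fibRing A P)
      P.asIdeal.ResidueField M).symm.subsingleton
  · intro h
    rw [Module.notMem_support_iff] at h
    haveI : Subsingleton (Localization.AtPrime P.asIdeal ⊗[B] M) :=
      (LocalizedModule.equivTensorProduct P.asIdeal.primeCompl M).symm.subsingleton
    exact (AlgebraTensorModule.cancelBaseChange B (Localization.AtPrime P.asIdeal) (fibRing A P)
      (fibRing A P) M).symm.subsingleton

/-- the fibre module at `P` is projective iff `M` is free at `P`. -/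
theorem projective_fibRing_tensor_iff [Module.FinitePresentation B M] [Module A M]
    [IsScalarTower A B M] [Module.Flat A M] :
    Module.Projective (fibRing A P) (fibRing A P ⊗[B] M) ↔ P ∈ Module.freeLocus B M := by
  rw [Module.mem_freeLocus_iff_tensor P (Localization.AtPrime P.asIdeal)]
  constructor
  · intro h
    obtain ⟨m, π, hπ⟩ := Module.Finite.exists_fin' B M
    haveI : Module.Finite B (LinearMap.ker π) :=
      Module.Finite.iff_fg.mpr (Module.FinitePresentation.fg_ker π hπ)
    refine free_localization_of_lTensor_residueField_injective (LinearMap.ker π).subtype π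
      (LinearMap.exact_subtype_ker_map π) hπ P.asIdeal ?_
    letI := moduleResidueField A P
    haveI := isScalarTower_residueField A P
    exact lTensor_injective_of_baseChange (C := fibRing A P) (LinearMap.ker π).subtype π
      (LinearMap.exact_subtype_ker_map π) hπ
      (baseChange_fibRing_injective A M (LinearMap.ker π).subtype π
        (Submodule.subtype_injective _) (LinearMap.exact_subtype_ker_map π) hπ P)
      P.asIdeal.ResidueField
  · intro h
    exact Module.Projective.of_equiv (AlgebraTensorModule.cancelBaseChange B
      (Localization.AtPrime P.asIdeal) (fibRing A P) (fibRing A P) M)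

end pointwise

end fibre

section main

open CategoryTheory

variable (A B : Type u) [CommRing A] [CommRing B] [Algebra A B]
  [Algebra.FinitePresentation A B] [Module.Flat A B]

/-- the locus where the fibre module has projective dimension `< i` is open. -/
theorem isOpen_setOf_pdLT (i : ℕ) :
    ∀ (M : Type u) [AddCommGroup M] [Module B M] [Module A M] [IsScalarTower A B M]
      [Module.FinitePresentation B M] [Module.Flat A M],
      IsOpen {P : PrimeSpectrum B | HasProjectiveDimensionLT
        (ModuleCat.of (fibRing A P) (fibRing A P ⊗[B] M)) i} := by
  induction i with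
  | zero =>
    intro M _ _ _ _ _ _
    have : {P : PrimeSpectrum B | HasProjectiveDimensionLT
        (ModuleCat.of (fibRing A P) (fibRing A P ⊗[B] M)) 0} = (Module.support B M)ᶜ := by
      ext P
      simp only [Set.mem_setOf_eq, Set.mem_compl_iff, hasProjectiveDimensionLT_zero_iff_isZero,
        ModuleCat.isZero_iff_subsingleton]
      exact subsingleton_fibRing_tensor_iff A M P
    rw [this]
    exact (Module.isClosed_support (R := B) (M := M)).isOpen_compl
  | succ i ih =>
    intro M _ _ _ _ _ _
    rcases Nat.eq_zero_or_pos i with rfl | hi
    · have : {P : PrimeSpectrum B | HasProjectiveDimensionLT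
          (ModuleCat.of (fibRing A P) (fibRing A P ⊗[B] M)) (0 + 1)} = Module.freeLocus B M := by
        ext P
        simp only [Set.mem_setOf_eq, zero_add, ← projective_iff_hasProjectiveDimensionLT_one]
        rw [← projective_fibRing_tensor_iff A M P]
        exact (IsProjective.iff_projective _).symm
      rw [this]
      exact Module.isOpen_freeLocus
    · obtain ⟨i', rfl⟩ : ∃ i', i = i' + 1 := ⟨i - 1, by omega⟩
      obtain ⟨F, _, _, _, _, π, hπ, hK⟩ := Groth.Agent.Lib.Helper6.PdTor.exists_fp_syzygy A B M
      letI : Module A F := Module.compHom F (algebraMap A B)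
      haveI : IsScalarTower A B F := IsScalarTower.of_algebraMap_smul (fun _ _ => rfl)
      haveI : Module.Flat A F := Module.Flat.trans A B F
      haveI : Module.Flat A (LinearMap.ker π) :=
        Groth.Agent.Lib.Helper5.flat_of_exact_of_flat_of_flat
          ((LinearMap.ker π).subtype.restrictScalars A) (π.restrictScalars A)
          (Submodule.subtype_injective _) hπ (LinearMap.exact_subtype_ker_map π)
      have hex := LinearMap.exact_subtype_ker_map π
      have hι : Function.Injective (LinearMap.ker π).subtype := Submodule.subtype_injective _
      have : {P : PrimeSpectrum B | HasProjectiveDimensionLT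
          (ModuleCat.of (fibRing A P) (fibRing A P ⊗[B] M)) (i' + 1 + 1)} =
          {P : PrimeSpectrum B | HasProjectiveDimensionLT
          (ModuleCat.of (fibRing A P) (fibRing A P ⊗[B] (LinearMap.ker π))) (i' + 1)} := by
        ext P
        exact hasProjectiveDimensionLT_iff_of_ses
          ((LinearMap.ker π).subtype.baseChange (fibRing A P))
          (π.baseChange (fibRing A P))
          (baseChange_fibRing_injective A M (LinearMap.ker π).subtype π hι hex hπ P)
          (baseChange_exact _ π hex hπ) (baseChange_surjective π hπ) i'
      rw [this]
      exact ih (LinearMap.ker π)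

/-- **The fibrewise projective dimension is upper semicontinuous on `Spec B`.** -/
theorem main (M : Type u) [AddCommGroup M] [Module B M] [Module A M] [IsScalarTower A B M]
    [Module.FinitePresentation B M] [Module.Flat A M] :
    UpperSemicontinuous fun P : PrimeSpectrum B => projectiveDimension
      (ModuleCat.of (fibRing A P) (fibRing A P ⊗[B] M)) := by
  intro P y hy
  obtain ⟨i, hi1, hi2⟩ : ∃ i : ℕ, projectiveDimension
      (ModuleCat.of (fibRing A P) (fibRing A P ⊗[B] M)) < i ∧ (i : WithBot ℕ∞) ≤ y := by
    induction y using WithBot.recBotCoe with
    | bot => exact absurd hy (not_lt_bot)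
    | coe y =>
      induction y using ENat.recTopCoe with
      | top =>
        have hne : projectiveDimension
            (ModuleCat.of (fibRing A P) (fibRing A P ⊗[B] M)) ≠ ⊤ := hy.ne
        obtain ⟨n, hn⟩ := (projectiveDimension_ne_top_iff _).1 hne
        exact ⟨n + 1, projectiveDimension_lt_iff.2 hn, le_top⟩
      | coe n => exact ⟨n, hy, le_rfl⟩
  have hopen := isOpen_setOf_pdLT A B i M
  have hmem : P ∈ {P : PrimeSpectrum B | HasProjectiveDimensionLT
      (ModuleCat.of (fibRing A P) (fibRing A P ⊗[B] M)) i} := projectiveDimension_lt_iff.1 hi1
  filter_upwards [hopen.mem_nhds hmem] with P' hP'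
  exact lt_of_lt_of_le (projectiveDimension_lt_iff.2 hP') hi2

end main

end Groth.Agent.Lib.Helper6.PdSemi
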