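import Groth.Agent.Lib.Helper28InfLevel
import Groth.Agent.Lib.Helper28InfDepth
import Groth.Agent.Lib.Helper28InfFourTerm
import Groth.Agent.Lib.Helper28Flattening
import Groth.Agent.Lib.Helper28FibLoc
import Groth.Agent.Lib.Helper6PdSemi

/-!
# The infinitesimal criterion: assembling the levels (helper28)
-/

set_option autoImplicit false
universe u

namespace Groth.Agent.Lib.Helper28.Inf
open Groth.Agent.Lib.Helper28
open TensorProduct IsLocalRing
open scoped Pointwise

section Setup

variable (R : Type u) [CommRing R] [IsLocalRing R]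

theorem maximalIdeal_pow_ne_top {k : ℕ} (hk : k ≠ 0) : maximalIdeal R ^ k ≠ ⊤ := by
  intro htop
  have : maximalIdeal R ^ k ≤ maximalIdeal R := Ideal.pow_le_self hk
  rw [htop] at this
  exact (IsLocalRing.maximalIdeal.isMaximal R).ne_top (top_le_iff.mp this)

theorem isLocalRing_quotient_pow {k : ℕ} (hk : k ≠ 0) : IsLocalRing (R ⧸ maximalIdeal R ^ k) := by
  haveI : Nontrivial (R ⧸ maximalIdeal R ^ k) :=
    Ideal.Quotient.nontrivial_iff.mpr (maximalIdeal_pow_ne_top R hk)
  exact IsLocalRing.of_surjective' (Ideal.Quotient.mk _) Ideal.Quotient.mk_surjective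

theorem maximalIdeal_quotient_pow_eq {k : ℕ} (hk : k ≠ 0) :
    letI := isLocalRing_quotient_pow R hk
    maximalIdeal (R ⧸ maximalIdeal R ^ k) = (maximalIdeal R).map (Ideal.Quotient.mk _) := by
  letI := isLocalRing_quotient_pow R hk
  haveI : IsLocalHom (Ideal.Quotient.mk (maximalIdeal R ^ k)) :=
    IsLocalHom.of_surjective _ Ideal.Quotient.mk_surjective
  apply le_antisymm
  · intro x hx
    obtain ⟨y, rfl⟩ := Ideal.Quotient.mk_surjective x
    refine Ideal.mem_map_of_mem _ ?_
    rw [mem_maximalIdeal, mem_nonunits_iff] at hx ⊢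
    exact fun hu => hx (hu.map _)
  · exact IsLocalRing.map_maximalIdeal_le (Ideal.Quotient.mk (maximalIdeal R ^ k))

theorem maximalIdeal_quotient_pow_pow {k : ℕ} (hk : k ≠ 0) :
    letI := isLocalRing_quotient_pow R hk
    maximalIdeal (R ⧸ maximalIdeal R ^ k) ^ k = ⊥ := by
  letI := isLocalRing_quotient_pow R hk
  rw [maximalIdeal_quotient_pow_eq R hk, ← Ideal.map_pow, Ideal.map_quotient_self]

theorem isArtinianRing_quotient_pow [IsNoetherianRing R] {k : ℕ} (hk : k ≠ 0) :
    IsArtinianRing (R ⧸ maximalIdeal R ^ k) := by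
  letI := isLocalRing_quotient_pow R hk
  rw [isArtinianRing_iff_isNilpotent_maximalIdeal]
  exact ⟨k, maximalIdeal_quotient_pow_pow R hk⟩

end Setup

section DDualLoc

variable {B B' : Type u} [CommRing B] [CommRing B'] [IsNoetherianRing B'] [Algebra B B']
  (q' : Ideal B') [q'.IsPrime] (F : Type u) [AddCommGroup F] [Module B F] [Module.Finite B F]

/-- The stalk at `q'` of the double dual of `B' ⊗ F` is the double dual of `B'_{q'} ⊗ F`. -/
theorem nonempty_localizedModule_ddual_equiv :
    Nonempty (LocalizedModule q'.primeCompl (Module.Dual B' (Module.Dual B' (B' ⊗[B] F)))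
      ≃ₗ[Localization.AtPrime q']
      Module.Dual (Localization.AtPrime q')
        (Module.Dual (Localization.AtPrime q') (Localization.AtPrime q' ⊗[B] F))) := by
  -- localization of the double dual
  let e0 := IsLocalizedModule.iso q'.primeCompl (dualDualLoc q' (B' ⊗[B] F))
  let e1 := LinearEquiv.extendScalarsOfIsLocalization q'.primeCompl (Localization.AtPrime q') e0
  -- the two base changes of `F` to `B'_{q'}`
  have hφ := IsBaseChange.comp (TensorProduct.isBaseChange B F B')
    (IsLocalizedModule.isBaseChange q'.primeCompl (Localization.AtPrime q')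
        (LocalizedModule.mkLinearMap q'.primeCompl (B' ⊗[B] F)))
  let e2 : Localization.AtPrime q' ⊗[B] F ≃ₗ[Localization.AtPrime q']
      LocalizedModule q'.primeCompl (B' ⊗[B] F) := hφ.equiv
  exact ⟨e1 ≪≫ₗ (e2.dualMap.dualMap).symm⟩

end DDualLoc

section Transport

variable {R C A' B' : Type u} [CommRing R] [CommRing C] [CommRing A'] [CommRing B']
  [Algebra R C] [Algebra R A'] [Algebra C B'] [Algebra A' B'] [Algebra R B']
  [IsScalarTower R C B'] [IsScalarTower R A' B'] [hpo : Algebra.IsPushout R C A' B']
  (n : Ideal C) [n.IsPrime] (q' : Ideal B') [q'.IsPrime] [hlies : q'.LiesOver n]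
  (G : Type u) [AddCommGroup G] [Module C G] [Module R G] [IsScalarTower R C G]

include hpo hlies in
theorem nonempty_baseChange_localization_equiv
    (hS : Algebra.algebraMapSubmonoid B' n.primeCompl = q'.primeCompl) :
    Nonempty (Localization.AtPrime q' ⊗[C] G ≃ₗ[A'] A' ⊗[R] LocalizedModule n.primeCompl G) := by
  letI alg := Localization.AtPrime.algebraOfLiesOver n q'
  haveI t1 : IsScalarTower C (Localization.AtPrime n) (Localization.AtPrime q') := inferInstance
  haveI t2 : IsScalarTower R C (Localization.AtPrime q') := inferInstance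
  haveI t3 : IsScalarTower R (Localization.AtPrime n) (Localization.AtPrime q') :=
    IsScalarTower.of_algebraMap_eq fun r => by
      rw [IsScalarTower.algebraMap_apply R C (Localization.AtPrime n),
        ← IsScalarTower.algebraMap_apply C (Localization.AtPrime n) (Localization.AtPrime q'),
        ← IsScalarTower.algebraMap_apply R C (Localization.AtPrime q')]
  haveI loc : IsLocalization (Algebra.algebraMapSubmonoid B' n.primeCompl)
      (Localization.AtPrime q') := by
    rw [hS]
    infer_instance
  have p1 : Algebra.IsPushout C B' (Localization.AtPrime n) (Localization.AtPrime q') :=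
    Algebra.isPushout_of_isLocalization n.primeCompl (Localization.AtPrime n) B'
      (Localization.AtPrime q')
  have p2 : Algebra.IsPushout R (Localization.AtPrime n) A' (Localization.AtPrime q') :=
    (Algebra.IsPushout.comp_iff R C A' (S' := B') (T := Localization.AtPrime n)
      (T' := Localization.AtPrime q')).mpr p1.symm
  haveI p3 : Algebra.IsPushout R A' (Localization.AtPrime n) (Localization.AtPrime q') := p2.symm
  -- the two base changes of `G` to `L`
  have h1 : IsBaseChange (Localization.AtPrime n) (LocalizedModule.mkLinearMap n.primeCompl G) :=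
    IsLocalizedModule.isBaseChange n.primeCompl (Localization.AtPrime n) _
  have h2 : IsBaseChange (Localization.AtPrime q')
      (TensorProduct.mk (Localization.AtPrime n) (Localization.AtPrime q')
        (LocalizedModule n.primeCompl G) 1) :=
    TensorProduct.isBaseChange (Localization.AtPrime n) (LocalizedModule n.primeCompl G)
      (Localization.AtPrime q')
  have h3 := IsBaseChange.comp h1 h2
  let e1 : Localization.AtPrime q' ⊗[C] G ≃ₗ[Localization.AtPrime q']
      Localization.AtPrime q' ⊗[Localization.AtPrime n] LocalizedModule n.primeCompl G := h3.equiv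
  let e2 := Algebra.IsPushout.cancelBaseChange R A' (Localization.AtPrime n)
    (Localization.AtPrime q') (LocalizedModule n.primeCompl G)
  exact ⟨(e1.restrictScalars A') ≪≫ₗ e2⟩

end Transport

section LevelK

variable {R C : Type u} [CommRing R] [CommRing C] [IsLocalRing R] [IsNoetherianRing R]
  [IsNoetherianRing C] [Algebra R C] [Module.Flat R C]
  (n : Ideal C) [n.IsPrime]

/-- `depth_J ≥ 2` of the local ring of the `k`-th infinitesimal neighbourhood of the fibre. -/
theorem two_le_idealDepth_localization_quotient_pow (J : Ideal C) (k : ℕ)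
    (qk : Ideal (C ⧸ (maximalIdeal R ^ k).map (algebraMap R C))) [qk.IsPrime]
    (hqk : qk.comap (algebraMap C (C ⧸ (maximalIdeal R ^ k).map (algebraMap R C))) = n)
    (hdepth : 2 ≤ LocCoh.idealDepth (J.map (algebraMap C (EGA4.FibLocRing R C n)))
      (EGA4.FibLocRing R C n)) :
    2 ≤ LocCoh.idealDepth (J.map (algebraMap C (Localization.AtPrime qk)))
      (Localization.AtPrime qk) := by
  haveI hpo : Algebra.IsPushout R C (R ⧸ maximalIdeal R ^ k)
      (C ⧸ (maximalIdeal R ^ k).map (algebraMap R C)) :=
    (Helper6.PdSemi.isPushout_quotient R C (maximalIdeal R ^ k)).symm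
  haveI : qk.LiesOver n := ⟨hqk.symm⟩
  -- fibre depth of `C` itself at `n`
  have h1 : ((2 : ℕ) : ℕ∞) ≤ LocCoh.idealDepth (J.map (algebraMap C (EGA4.FibLocRing R C n)))
      (EGA4.FibLocMod R C n C) := by
    have hJ : (J.map (algebraMap C (Localization.AtPrime n))).map
        (algebraMap (Localization.AtPrime n) (EGA4.FibLocRing R C n)) =
        J.map (algebraMap C (EGA4.FibLocRing R C n)) := by
      rw [Ideal.map_map, ← IsScalarTower.algebraMap_eq]
    have hfin : Module.Finite (EGA4.FibLocRing R C n) (EGA4.FibLocMod R C n C) :=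
      Module.Finite.of_restrictScalars_finite (Localization.AtPrime n) _ _
    rw [← hJ, ← idealDepth_restrictScalars_eq_idealDepth_map (B := EGA4.FibLocRing R C n)
      (J.map (algebraMap C (Localization.AtPrime n))) (EGA4.FibLocMod R C n C),
      idealDepth_congr (fibLocModSelfEquiv (A := R) n) _,
      idealDepth_restrictScalars_eq_idealDepth_map (B := EGA4.FibLocRing R C n)
      (J.map (algebraMap C (Localization.AtPrime n))) (EGA4.FibLocRing R C n), hJ]
    exact_mod_cast hdepth
  have h2 := natCast_le_idealDepth_localization_baseChange (A := R) (R ⧸ maximalIdeal R ^ k)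
    (B' := C ⧸ (maximalIdeal R ^ k).map (algebraMap R C)) qk n C J
    (flat_localizedModule_of_flat _) 2 h1
  -- `(C_k ⊗ C)_{q_k} ≅ L`
  let e : LocalizedModule qk.primeCompl
      ((C ⧸ (maximalIdeal R ^ k).map (algebraMap R C)) ⊗[C] C) ≃ₗ[Localization.AtPrime qk]
      Localization.AtPrime qk :=
    (IsLocalizedModule.mapEquiv qk.primeCompl
      (LocalizedModule.mkLinearMap qk.primeCompl _)
      (LocalizedModule.mkLinearMap qk.primeCompl _) (Localization.AtPrime qk)
      (TensorProduct.AlgebraTensorModule.rid C
        (C ⧸ (maximalIdeal R ^ k).map (algebraMap R C))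
        (C ⧸ (maximalIdeal R ^ k).map (algebraMap R C)))) ≪≫ₗ localizedModuleSelfEquiv qk
  rw [idealDepth_congr e] at h2
  exact_mod_cast h2

variable {F E0 E1 G : Type u} [AddCommGroup F] [Module C F] [Module.Finite C F]
  [AddCommGroup E0] [Module C E0] [Module.Finite C E0] [Module.Projective C E0]
  [AddCommGroup E1] [Module C E1] [Module.Finite C E1] [Module.Projective C E1]
  [AddCommGroup G] [Module C G] [Module.Finite C G] [Module R G] [IsScalarTower R C G]
  (f : F →ₗ[C] E0) (u : E0 →ₗ[C] E1) (v : E1 →ₗ[C] G)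

/-- **Level `k`**: flatness of the stalk of the double dual of `F/m^k F` over `R/m^k` gives
flatness of `G_n / m^k G_n` over `R/m^k`. -/
theorem flat_quotient_pow_tensor_localization
    (hn : (maximalIdeal R).map (algebraMap R C) ≤ n)
    (hf : Function.Injective f)
    (hfu : Function.Exact f u) (huv : Function.Exact u v) (hv : Function.Surjective v)
    (J : Ideal C)
    (hFU : ∀ q : PrimeSpectrum C, ¬ J ≤ q.asIdeal →
      Module.Free (Localization.AtPrime q.asIdeal) (LocalizedModule q.asIdeal.primeCompl F))
    (hGU : ∀ q : PrimeSpectrum C, ¬ J ≤ q.asIdeal →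
      Module.Free (Localization.AtPrime q.asIdeal) (LocalizedModule q.asIdeal.primeCompl G))
    (hdepth : 2 ≤ LocCoh.idealDepth (J.map (algebraMap C (EGA4.FibLocRing R C n)))
      (EGA4.FibLocRing R C n))
    (k : ℕ) (hk : k ≠ 0)
    (qk : Ideal (C ⧸ (maximalIdeal R ^ k).map (algebraMap R C))) [qk.IsPrime]
    (hqk : qk.comap (algebraMap C (C ⧸ (maximalIdeal R ^ k).map (algebraMap R C))) = n)
    (hflatk : Module.Flat (R ⧸ maximalIdeal R ^ k) (LocalizedModule qk.primeCompl
      (Module.Dual (C ⧸ (maximalIdeal R ^ k).map (algebraMap R C))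
        (Module.Dual (C ⧸ (maximalIdeal R ^ k).map (algebraMap R C))
          ((C ⧸ (maximalIdeal R ^ k).map (algebraMap R C)) ⊗[C] F))))) :
    Module.Flat (R ⧸ maximalIdeal R ^ k)
      ((R ⧸ maximalIdeal R ^ k) ⊗[R] LocalizedModule n.primeCompl G) := by
  letI := isLocalRing_quotient_pow R hk
  haveI hpo : Algebra.IsPushout R C (R ⧸ maximalIdeal R ^ k)
      (C ⧸ (maximalIdeal R ^ k).map (algebraMap R C)) :=
    (Helper6.PdSemi.isPushout_quotient R C (maximalIdeal R ^ k)).symm
  haveI : qk.LiesOver n := ⟨hqk.symm⟩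
  -- the local homomorphism `R/m^k → L`
  haveI hloc : IsLocalHom (algebraMap (R ⧸ maximalIdeal R ^ k) (Localization.AtPrime qk)) := by
    constructor
    intro a ha
    by_contra hna
    have hmem : a ∈ maximalIdeal (R ⧸ maximalIdeal R ^ k) := (mem_maximalIdeal a).mpr hna
    rw [maximalIdeal_quotient_pow_eq R hk] at hmem
    obtain ⟨r, hr, rfl⟩ := (Ideal.mem_map_iff_of_surjective _ Ideal.Quotient.mk_surjective).mp hmem
    have h1 : algebraMap (R ⧸ maximalIdeal R ^ k) (Localization.AtPrime qk)
        (Ideal.Quotient.mk _ r) = algebraMap C (Localization.AtPrime qk) (algebraMap R C r) := by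
      rw [← IsScalarTower.algebraMap_apply R C (Localization.AtPrime qk),
        IsScalarTower.algebraMap_apply R (R ⧸ maximalIdeal R ^ k) (Localization.AtPrime qk)]
      rfl
    have h2 : algebraMap R C r ∈ n := hn (Ideal.mem_map_of_mem _ hr)
    rw [← hqk, Ideal.mem_comap] at h2
    rw [h1, IsScalarTower.algebraMap_apply C
      (C ⧸ (maximalIdeal R ^ k).map (algebraMap R C)) (Localization.AtPrime qk)] at ha
    exact (IsLocalization.AtPrime.isUnit_to_map_iff (Localization.AtPrime qk) qk _).mp ha h2
  -- flatness of `L` over `R/m^k`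
  haveI hCkflat : Module.Flat (R ⧸ maximalIdeal R ^ k)
      (C ⧸ (maximalIdeal R ^ k).map (algebraMap R C)) :=
    Module.Flat.isBaseChange R (R ⧸ maximalIdeal R ^ k) C _
      (Algebra.IsPushout.out (self := Algebra.IsPushout.symm hpo))
  haveI : Module.Flat (R ⧸ maximalIdeal R ^ k) (Localization.AtPrime qk) :=
    Module.Flat.trans _ (C ⧸ (maximalIdeal R ^ k).map (algebraMap R C)) _
  have hL2 := two_le_idealDepth_localization_quotient_pow n J k qk hqk hdepth
  -- flatness of the double dual over `L`
  obtain ⟨e⟩ := nonempty_localizedModule_ddual_equiv (B := C) qk F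
  have hflat' : Module.Flat (R ⧸ maximalIdeal R ^ k)
      (Module.Dual (Localization.AtPrime qk)
        (Module.Dual (Localization.AtPrime qk) (Localization.AtPrime qk ⊗[C] F))) :=
    Module.Flat.of_linearEquiv (e.symm.restrictScalars (R ⧸ maximalIdeal R ^ k))
  have hlevel := flat_baseChange_coker f u v (Localization.AtPrime qk) (R ⧸ maximalIdeal R ^ k)
    hf hfu huv hv J hFU hGU hL2 k (maximalIdeal_quotient_pow_pow R hk) hflat'
  -- transport to `R/m^k ⊗ G_n`
  have hqkmap : qk = n.map (Ideal.Quotient.mk ((maximalIdeal R ^ k).map (algebraMap R C))) := by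
    rw [← hqk]
    exact (Ideal.map_comap_of_surjective _ Ideal.Quotient.mk_surjective qk).symm
  have hle : (maximalIdeal R ^ k).map (algebraMap R C) ≤ n :=
    (Ideal.map_mono (Ideal.pow_le_self hk)).trans hn
  have hS : Algebra.algebraMapSubmonoid (C ⧸ (maximalIdeal R ^ k).map (algebraMap R C))
      n.primeCompl = qk.primeCompl := by
    subst hqkmap
    exact algebraMapSubmonoid_quotient_primeCompl _ n hle
  obtain ⟨e'⟩ := nonempty_baseChange_localization_equiv (R := R) (A' := R ⧸ maximalIdeal R ^ k)
    n qk G hS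
  exact Module.Flat.of_linearEquiv e'.symm

end LevelK

end Groth.Agent.Lib.Helper28.Inf
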