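import Groth.Agent.Lib.Helper28FibBC4
import Groth.Agent.Lib.Helper28InfDepth

/-!
# Fibre depth along an ideal after base change, abstract form (helper28)

`natCast_le_idealDepth_isBaseChange_quot`: for a pushout `B' = A' ⊗_A B`, a prime `q'` of
`B'` over `q`, `L = B'_{q'}`, an ideal `𝔞` of `A'` and a base change `N` of `M` to `L`: fibre depth
`≥ n` along `J` at `q` of a module `M` flat at `q` gives `depth_J (N/𝔞N) ≥ n`.
-/

set_option autoImplicit false
universe u

namespace Groth.Agent.Lib.Helper28.Inf
open Groth.Agent.Lib.Helper28 Groth.Agent.Lib.Helper28.FibBC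
open TensorProduct RingTheory.Sequence
open scoped Pointwise

section TensorQuot

variable {A B : Type u} [CommRing A] [CommRing B] [IsNoetherianRing B] [Algebra A B]
  (A' : Type u) {B' : Type u} [CommRing A'] [CommRing B'] [Algebra A A'] [Algebra B B']
  [Algebra A' B']
  [Algebra A B'] [IsScalarTower A B B'] [IsScalarTower A A' B'] [hpo : Algebra.IsPushout A B A' B']
  (q' : Ideal B') [q'.IsPrime] (q : Ideal B) [q.IsPrime] [hlies : q'.LiesOver q]
  (M : Type u) [AddCommGroup M] [Module B M] [Module A M] [IsScalarTower A B M]
  [Module.Finite B M]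

include hpo hlies in
theorem natCast_le_idealDepth_isBaseChange_quot (𝔞 : Ideal A') (J : Ideal B)
    (hflat : Module.Flat A (LocalizedModule q.primeCompl M)) (n : ℕ)
    (h : (n : ℕ∞) ≤ LocCoh.idealDepth (J.map (algebraMap B (EGA4.FibLocRing A B q)))
      (EGA4.FibLocMod A B q M))
    (N : Type u) [AddCommGroup N] [Module (Localization.AtPrime q') N] [Module B N]
    [IsScalarTower B (Localization.AtPrime q') N]
    (g : M →ₗ[B] N) (hg : IsBaseChange (Localization.AtPrime q') g) :
    (n : ℕ∞) ≤ LocCoh.idealDepth (J.map (algebraMap B (Localization.AtPrime q')))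
      (N ⧸ ((𝔞.map (algebraMap A' (Localization.AtPrime q'))) •
          (⊤ : Submodule (Localization.AtPrime q') N))) := by
  letI alg := Localization.AtPrime.algebraOfLiesOver q q'
  haveI : IsScalarTower B (Localization.AtPrime q) (Localization.AtPrime q') := inferInstance
  have h₁ : IsBaseChange (EGA4.FibLocRing A B q)
      ((((q.comap (algebraMap A B)).map (algebraMap A (Localization.AtPrime q))) •
        (⊤ : Submodule (Localization.AtPrime q) (LocalizedModule q.primeCompl M))).mkQ) :=
    isBaseChange_mkQ _
  letI : Module (Localization.AtPrime q) N :=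
    Module.compHom _ (algebraMap (Localization.AtPrime q) (Localization.AtPrime q'))
  haveI : IsScalarTower (Localization.AtPrime q) (Localization.AtPrime q') N :=
    IsScalarTower.of_algebraMap_smul fun r x => rfl
  haveI : IsScalarTower B (Localization.AtPrime q) N :=
    IsScalarTower.of_algebraMap_smul fun r x => by
      change algebraMap (Localization.AtPrime q) (Localization.AtPrime q')
        (algebraMap B (Localization.AtPrime q) r) • x = r • x
      rw [← IsScalarTower.algebraMap_apply, algebraMap_smul]
  have hf : IsBaseChange (Localization.AtPrime q) (LocalizedModule.mkLinearMap q.primeCompl M) :=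
    IsLocalizedModule.isBaseChange q.primeCompl (Localization.AtPrime q) _
  let f₂ : LocalizedModule q.primeCompl M →ₗ[Localization.AtPrime q] N := hf.lift g
  have h₂ : IsBaseChange (Localization.AtPrime q') f₂ := by
    apply IsBaseChange.of_comp hf
    have : (f₂.restrictScalars B) ∘ₗ (LocalizedModule.mkLinearMap q.primeCompl M) = g :=
      hf.lift_comp _
    rw [this]
    exact hg
  have h₃ := IsBaseChange.comp h₂ (isBaseChange_mkQ
    (𝔞.map (algebraMap A' (Localization.AtPrime q'))) (P := N))
  haveI hfin : Module.Finite (EGA4.FibLocRing A B q) (EGA4.FibLocMod A B q M) :=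
    Module.Finite.of_restrictScalars_finite (Localization.AtPrime q) _ _
  obtain ⟨rs, hlen, hmem, hreg⟩ := exists_isWeaklyRegular_of_natCast_le_idealDepth _ n h
  have hmap : J.map (algebraMap B (EGA4.FibLocRing A B q)) =
      (J.map (algebraMap B (Localization.AtPrime q))).map
        (Ideal.Quotient.mk ((q.comap (algebraMap A B)).map
          (algebraMap A (Localization.AtPrime q)))) := by
    rw [Ideal.map_map]
    rfl
  obtain ⟨xs, rfl, hxs⟩ := exists_list_map_eq_of_forall_mem_map
    (Ideal.Quotient.mk ((q.comap (algebraMap A B)).map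
      (algebraMap A (Localization.AtPrime q)))) Ideal.Quotient.mk_surjective
    (J.map (algebraMap B (Localization.AtPrime q))) rs (fun r hr => hmap ▸ hmem r hr)
  have hG := isWeaklyRegular_baseChange_quot_of_fibre A' q' q 𝔞 xs
    (LocalizedModule q.primeCompl M) (EGA4.FibLocMod A B q M) _ h₁ _ _ h₃ hreg
  have hlist : xs.map (algebraMap (Localization.AtPrime q)
      (Localization.AtPrime q' ⧸ 𝔞.map (algebraMap A' (Localization.AtPrime q')))) =
      (xs.map (algebraMap (Localization.AtPrime q) (Localization.AtPrime q'))).map
        (algebraMap (Localization.AtPrime q')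
          (Localization.AtPrime q' ⧸ 𝔞.map (algebraMap A' (Localization.AtPrime q')))) := by
    rw [List.map_map]
    congr 1
  rw [hlist, isWeaklyRegular_map_algebraMap_iff] at hG
  have hmem' : ∀ y ∈ xs.map (algebraMap (Localization.AtPrime q) (Localization.AtPrime q')),
      y ∈ J.map (algebraMap B (Localization.AtPrime q')) := by
    intro y hy
    obtain ⟨x, hx, rfl⟩ := List.mem_map.mp hy
    have h1 := Ideal.mem_map_of_mem
      (algebraMap (Localization.AtPrime q) (Localization.AtPrime q')) (hxs x hx)
    rwa [Ideal.map_map, ← IsScalarTower.algebraMap_eq] at h1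
  have := length_le_idealDepth hG hmem'
  rw [List.length_map] at hlen
  rw [List.length_map, hlen] at this
  exact this

end TensorQuot

end Groth.Agent.Lib.Helper28.Inf
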