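import Groth.Agent.Lib.Helper28Hull
import Groth.Agent.Lib.Helper28Hull2
import Groth.Agent.Lib.Helper5LocalFlat2

/-!
# Flatness of the cokernel from flatness and fibre depth of the kernel (helper28)

`A → B` a local homomorphism of Noetherian local rings, `0 → K → E⁰ → E¹ → G → 0` exact with
`E⁰, E¹` flat over `A`, `G` flat over `A` off `V(J)`.  If `K` is flat over `A` with
`depth_J (K/mK) ≥ 2` and `depth_J (E⁰/mE⁰) ≥ 1` then `G` is flat over `A`.
-/

set_option autoImplicit false
universe u

namespace Groth.Agent.Lib.Helper28.Inf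
open Groth.Agent.Lib.Helper28
open scoped Pointwise

section OneStep

variable {A : Type u} {B : Type u} [CommRing A] [CommRing B] [IsLocalRing A] [IsLocalRing B]
  [IsNoetherianRing B] [Algebra A B] [IsLocalHom (algebraMap A B)]
  {X' X X'' : Type u} [AddCommGroup X'] [Module B X'] [Module A X'] [IsScalarTower A B X']
  [AddCommGroup X] [Module B X] [Module A X] [IsScalarTower A B X]
  [AddCommGroup X''] [Module B X''] [Module A X''] [IsScalarTower A B X'']
  [Module.Finite B X'] [Module.Flat A X]

/-- Stacks 00ME in the form used here: for `0 → X' → X → X'' → 0` exact with `X` flat over `A` and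
`X'/mX' → X/mX` injective, `X''` is flat over `A`. -/
theorem flat_of_exact_of_fibre_injective (i : X' →ₗ[B] X) (p : X →ₗ[B] X'')
    (hp : Function.Surjective p) (hex : Function.Exact i p)
    (h : ∀ x : X', i x ∈ EGA4.mB A B • (⊤ : Submodule B X) →
      x ∈ EGA4.mB A B • (⊤ : Submodule B X')) : Module.Flat A X'' := by
  have hinj : Function.Injective
      ((i.restrictScalars A).lTensor (A ⧸ IsLocalRing.maximalIdeal A)) := by
    rw [Helper5.lTensor_quotient_injective_iff]
    intro n hn
    rw [← smul_top_restrictScalars_eq (B := B)] at hn ⊢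
    exact h n hn
  have h2 := (Helper5.injective_and_flat_of_lTensor_residue_injective B
    (i.restrictScalars A) hinj).2
  have hker : LinearMap.ker (p.restrictScalars A) = LinearMap.range (i.restrictScalars A) := by
    ext y
    exact hex y
  let e : (X ⧸ LinearMap.range (i.restrictScalars A)) ≃ₗ[A] X'' :=
    (Submodule.quotEquivOfEq _ _ hker.symm) ≪≫ₗ
      (p.restrictScalars A).quotKerEquivOfSurjective hp
  exact Module.Flat.of_linearEquiv e.symm

end OneStep

section Main

variable {A : Type u} {B : Type u} [CommRing A] [CommRing B] [IsLocalRing A] [IsLocalRing B]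
  [IsNoetherianRing A] [IsNoetherianRing B] [Algebra A B] [IsLocalHom (algebraMap A B)]
  {K E0 E1 G : Type u} [AddCommGroup K] [Module B K] [Module A K] [IsScalarTower A B K]
  [Module.Finite B K]
  [AddCommGroup E0] [Module B E0] [Module A E0] [IsScalarTower A B E0] [Module.Finite B E0]
  [Module.Flat A E0]
  [AddCommGroup E1] [Module B E1] [Module A E1] [IsScalarTower A B E1] [Module.Finite B E1]
  [Module.Flat A E1]
  [AddCommGroup G] [Module B G] [Module A G] [IsScalarTower A B G] [Module.Finite B G]

/-- **Flatness of the cokernel** from fibre depth `≥ 2` of the kernel. -/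
theorem flat_coker_of_fibre_depth_ker (i : K →ₗ[B] E0) (u : E0 →ₗ[B] E1) (v : E1 →ₗ[B] G)
    (hi : Function.Injective i) (hiu : Function.Exact i u) (huv : Function.Exact u v)
    (hv : Function.Surjective v) (J : Ideal B)
    (hGU : ∀ q : PrimeSpectrum B, ¬ J ≤ q.asIdeal → FlatCA.FlatAt A q.asIdeal G)
    (hK : 2 ≤ LocCoh.idealDepth J (EGA4.FibMod A B K))
    (hE0 : 1 ≤ LocCoh.idealDepth J (EGA4.FibMod A B E0)) : Module.Flat A G := by
  -- the image of `u`
  have hexI : Function.Exact i u.rangeRestrict := by
    intro y
    rw [← hiu y]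
    constructor
    · intro h
      have := congrArg Subtype.val h
      simpa using this
    · intro h
      exact Subtype.ext (by simpa using h)
  have hexIv : Function.Exact (LinearMap.range u).subtype v := by
    intro y
    rw [huv y]
    constructor
    · rintro ⟨x, rfl⟩
      exact ⟨⟨u x, ⟨x, rfl⟩⟩, rfl⟩
    · rintro ⟨⟨_, ⟨x, rfl⟩⟩, rfl⟩
      exact ⟨x, rfl⟩
  have hsurjI : Function.Surjective u.rangeRestrict := LinearMap.surjective_rangeRestrict u
  have hinjI : Function.Injective (LinearMap.range u).subtype := Submodule.injective_subtype _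
  -- the image is flat off `V(J)`
  have hIU : ∀ q : PrimeSpectrum B, ¬ J ≤ q.asIdeal →
      FlatCA.FlatAt A q.asIdeal (LinearMap.range u) := by
    intro q hq
    exact flat_localizedModule_of_exact q.asIdeal.primeCompl (LinearMap.range u).subtype v
      hinjI hv hexIv (flat_localizedModule_of_flat _) (hGU q hq)
  -- `K/mK → E⁰/mE⁰` is injective
  have hKinj : ∀ x : K, i x ∈ EGA4.mB A B • (⊤ : Submodule B E0) →
      x ∈ EGA4.mB A B • (⊤ : Submodule B K) :=
    mem_map_maximalIdeal_smul_top_of_exact_of_flat_off J i u.rangeRestrict hi hsurjI hexI hIU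
      (le_trans (by norm_num) hK)
  -- the image is flat
  haveI hIflat : Module.Flat A (LinearMap.range u) :=
    flat_of_exact_of_fibre_injective i u.rangeRestrict hsurjI hexI hKinj
  -- fibre depth of the image
  have hI1 : 1 ≤ LocCoh.idealDepth J (EGA4.FibMod A B (LinearMap.range u)) := by
    have h := min_idealDepth_le_right J (quotSMulTopMap (EGA4.mB A B) i)
      (quotSMulTopMap (EGA4.mB A B) u.rangeRestrict)
      (quotSMulTopMap_injective _ i hKinj)
      (quotSMulTopMap_surjective _ u.rangeRestrict hsurjI)
      (quotSMulTopMap_exact _ i u.rangeRestrict hsurjI hexI)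
    refine le_trans (le_min hE0 ?_) h
    have h21 : (1 : ℕ∞) = 2 - 1 := by
      have : ((2 : ℕ) : ℕ∞) - ((1 : ℕ) : ℕ∞) = ((1 : ℕ) : ℕ∞) := by
        rw [← ENat.coe_sub]
      exact_mod_cast this.symm
    rw [h21]
    exact tsub_le_tsub_right hK 1
  -- `I/mI → E¹/mE¹` is injective
  have hIinj : ∀ x : LinearMap.range u,
      (LinearMap.range u).subtype x ∈ EGA4.mB A B • (⊤ : Submodule B E1) →
      x ∈ EGA4.mB A B • (⊤ : Submodule B (LinearMap.range u)) :=
    mem_map_maximalIdeal_smul_top_of_exact_of_flat_off J (LinearMap.range u).subtype v hinjI hv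
      hexIv hGU hI1
  exact flat_of_exact_of_fibre_injective (LinearMap.range u).subtype v hv hexIv hIinj

end Main

end Groth.Agent.Lib.Helper28.Inf
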