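import Groth.Agent.Lib.Helper28DepthLoc
import Groth.Agent.Lib.Helper28DepthAss

/-!
# `(S_k)` submodules of modules of depth `≥ k` (helper28)

`le_idealDepth_of_hasSk_of_injective`: over a Noetherian ring, a finite module `Φ` satisfying
`(S_k)` which embeds into a finite module `E` with `depth_I E ≥ k` has `depth_I Φ ≥ k`.
-/

set_option autoImplicit false
universe u

namespace Groth.Agent.Lib.Helper28.Inf
open Groth.Agent.Lib.Helper28

theorem le_idealDepth_of_hasSk_of_injective {Λ : Type u} [CommRing Λ] [IsNoetherianRing Λ]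
    {Φ E : Type u} [AddCommGroup Φ] [Module Λ Φ] [Module.Finite Λ Φ]
    [AddCommGroup E] [Module Λ E] [Module.Finite Λ E]
    (ι : Φ →ₗ[Λ] E) (hι : Function.Injective ι) (I : Ideal Λ) (k : ℕ)
    (hE : (k : ℕ∞) ≤ LocCoh.idealDepth I E) (hS : LocCoh.HasSk k Λ Φ) :
    (k : ℕ∞) ≤ LocCoh.idealDepth I Φ := by
  refine le_idealDepth_of_hasSk Φ I k hS ?_
  intro p hIp hpΦ
  haveI : Nontrivial (LocalizedModule p.asIdeal.primeCompl Φ) := Module.mem_support_iff.mp hpΦ
  obtain ⟨𝔭, h𝔭⟩ := associatedPrimes.nonempty (Localization.AtPrime p.asIdeal)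
    (LocalizedModule p.asIdeal.primeCompl Φ)
  have hιp : Function.Injective (LocalizedModule.map p.asIdeal.primeCompl ι) :=
    LocalizedModule.map_injective _ _ hι
  have h𝔭E : 𝔭 ∈ associatedPrimes (Localization.AtPrime p.asIdeal)
      (LocalizedModule p.asIdeal.primeCompl E) :=
    associatedPrimes.subset_of_injective hιp h𝔭
  have h1 := depth_le_ringKrullDim_quotient_of_mem_associatedPrimes h𝔭E
  have h2 : (k : ℕ∞) ≤ LocCoh.depth (Localization.AtPrime p.asIdeal)
      (LocalizedModule p.asIdeal.primeCompl E) :=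
    hE.trans (idealDepth_le_depth_localization p.asIdeal E hIp)
  have h3 : ringKrullDim (Localization.AtPrime p.asIdeal ⧸ 𝔭) ≤
      Module.supportDim (Localization.AtPrime p.asIdeal)
        (LocalizedModule p.asIdeal.primeCompl Φ) := by
    rw [Module.supportDim_eq_ringKrullDim_quotient_annihilator]
    exact ringKrullDim_le_of_surjective (Ideal.Quotient.factor (Submodule.annihilator_top (R := Localization.AtPrime p.asIdeal) (M := LocalizedModule p.asIdeal.primeCompl Φ) ▸ h𝔭.annihilator_le))
      (Ideal.Quotient.factor_surjective _)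
  exact (WithBot.coe_le_coe.mpr h2).trans (h1.trans h3)

end Groth.Agent.Lib.Helper28.Inf
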