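import Groth.Agent.Lib.Helper28Hull2
import Groth.Agent.Lib.Helper28DepthBC
import Groth.Agent.Lib.Helper28DepthSk
import Groth.Agent.Lib.Helper28InfSkSub

/-!
# Fibre depth of a kernel over a principal fibre ideal (helper28)

For `𝔞 = (t)` in a Noetherian ring `L`, `0 → K → E⁰ → E¹` exact with `E¹` `t`-torsion-free:
`K/𝔞K → E⁰/𝔞E⁰` is injective, so `(S_k)` for `K/𝔞K` over `L/𝔞` and `depth_I (E⁰/𝔞E⁰) ≥ k` give
`depth_I (K/𝔞K) ≥ k`.
-/

set_option autoImplicit false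
universe u

namespace Groth.Agent.Lib.Helper28.Inf
open Groth.Agent.Lib.Helper28
open scoped Pointwise

section Abstract

variable {L : Type u} [CommRing L] (𝔞 : Ideal L)
  {K E0 E1 : Type u} [AddCommGroup K] [Module L K]
  [AddCommGroup E0] [Module L E0] [AddCommGroup E1] [Module L E1]

theorem mem_smul_top_of_map_mem_of_isSMulRegular (t : L) (h𝔞 : 𝔞 = Ideal.span {t})
    (i : K →ₗ[L] E0) (hi : Function.Injective i) (u : E0 →ₗ[L] E1) (hiu : Function.Exact i u)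
    (hreg : IsSMulRegular E1 t) :
    ∀ x : K, i x ∈ 𝔞 • (⊤ : Submodule L E0) → x ∈ 𝔞 • (⊤ : Submodule L K) := by
  subst h𝔞
  intro x hx
  rw [Submodule.ideal_span_singleton_smul] at hx ⊢
  obtain ⟨y, -, hy⟩ := (Submodule.mem_smul_pointwise_iff_exists _ _ _).mp hx
  have huy : u y = 0 := by
    apply hreg
    show t • u y = t • 0
    rw [← map_smul, hy, smul_zero]
    exact hiu.apply_apply_eq_zero x
  obtain ⟨k, rfl⟩ := (hiu y).mp huy
  rw [← map_smul] at hy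
  have := hi hy
  rw [← this]
  exact Submodule.smul_mem_pointwise_smul k t ⊤ Submodule.mem_top

/-- The equivalence on quotients by `𝔞` induced by a linear equivalence, over `L ⧸ 𝔞`. -/
noncomputable def quotSMulTopEquivOfEquiv {M N : Type u} [AddCommGroup M] [Module L M]
    [AddCommGroup N] [Module L N] (e : M ≃ₗ[L] N) :
    (M ⧸ 𝔞 • (⊤ : Submodule L M)) ≃ₗ[L ⧸ 𝔞] (N ⧸ 𝔞 • (⊤ : Submodule L N)) :=
  (Submodule.Quotient.equiv _ _ e (by
    rw [Submodule.map_smul'', Submodule.map_top, LinearEquiv.range])).extendScalarsOfSurjective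
    Ideal.Quotient.mk_surjective

variable [IsNoetherianRing L] [Module.Finite L K] [Module.Finite L E0]

theorem le_idealDepth_quot_of_hasSk (t : L) (h𝔞 : 𝔞 = Ideal.span {t})
    (i : K →ₗ[L] E0) (hi : Function.Injective i) (u : E0 →ₗ[L] E1) (hiu : Function.Exact i u)
    (hreg : IsSMulRegular E1 t) (I : Ideal L) (k : ℕ)
    (hE0 : (k : ℕ∞) ≤ LocCoh.idealDepth I (E0 ⧸ 𝔞 • (⊤ : Submodule L E0)))
    (hS : LocCoh.HasSk k (L ⧸ 𝔞) (K ⧸ 𝔞 • (⊤ : Submodule L K))) :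
    (k : ℕ∞) ≤ LocCoh.idealDepth I (K ⧸ 𝔞 • (⊤ : Submodule L K)) := by
  have hKinj := mem_smul_top_of_map_mem_of_isSMulRegular 𝔞 t h𝔞 i hi u hiu hreg
  have hιinj := quotSMulTopMap_injective 𝔞 i hKinj
  haveI : Module.Finite (L ⧸ 𝔞) (K ⧸ 𝔞 • (⊤ : Submodule L K)) :=
    Module.Finite.of_restrictScalars_finite L _ _
  haveI : Module.Finite (L ⧸ 𝔞) (E0 ⧸ 𝔞 • (⊤ : Submodule L E0)) :=
    Module.Finite.of_restrictScalars_finite L _ _
  have h1 := idealDepth_restrictScalars_eq_idealDepth_map (B := L ⧸ 𝔞) I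
    (E0 ⧸ 𝔞 • (⊤ : Submodule L E0))
  have h2 := idealDepth_restrictScalars_eq_idealDepth_map (B := L ⧸ 𝔞) I
    (K ⧸ 𝔞 • (⊤ : Submodule L K))
  let ιΛ : (K ⧸ 𝔞 • (⊤ : Submodule L K)) →ₗ[L ⧸ 𝔞] (E0 ⧸ 𝔞 • (⊤ : Submodule L E0)) :=
    (quotSMulTopMap 𝔞 i).extendScalarsOfSurjective Ideal.Quotient.mk_surjective
  have h3 := le_idealDepth_of_hasSk_of_injective ιΛ hιinj
    (I.map (algebraMap L (L ⧸ 𝔞))) k (h1 ▸ hE0) hS
  rw [h2]
  exact h3

end Abstract

section DVRAbstract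

variable {L : Type u} [CommRing L] [IsNoetherianRing L]
  (D : Type u) [CommRing D] [IsDomain D] [IsDiscreteValuationRing D] [Algebra D L]
  {X Y K M0 M1 : Type u} [AddCommGroup X] [Module L X] [AddCommGroup Y] [Module L Y]
  [AddCommGroup K] [Module L K] [Module.Finite L K]
  [AddCommGroup M0] [Module L M0] [Module.Finite L M0]
  [AddCommGroup M1] [Module L M1] [Module D M1] [IsScalarTower D L M1] [Module.Flat D M1]

/-- Over a DVR `D`: `(S_k)` for the fibre of `X ≅ K = ker (M⁰ → M¹)` with `M¹` flat over `D`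
and fibre depth `≥ k` of `M⁰` give fibre depth `≥ k` of `K`. -/
theorem le_idealDepth_fibMod_of_hasSk_of_dvr (𝔞 : Ideal D) (h𝔞 : 𝔞 = IsLocalRing.maximalIdeal D)
    (e₁ : X ≃ₗ[L] Y) (e₂ : Y ≃ₗ[L] K) (i : K →ₗ[L] M0) (hi : Function.Injective i)
    (u : M0 →ₗ[L] M1) (hiu : Function.Exact i u) (I : Ideal L) (k : ℕ)
    (hM0 : (k : ℕ∞) ≤ LocCoh.idealDepth I
      (M0 ⧸ (𝔞.map (algebraMap D L)) • (⊤ : Submodule L M0)))
    (hS : LocCoh.HasSk k (L ⧸ 𝔞.map (algebraMap D L))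
      (X ⧸ (𝔞.map (algebraMap D L)) • (⊤ : Submodule L X))) :
    (k : ℕ∞) ≤ LocCoh.idealDepth I (EGA4.FibMod D L K) ∧
    (k : ℕ∞) ≤ LocCoh.idealDepth I (EGA4.FibMod D L M0) := by
  subst h𝔞
  refine ⟨?_, hM0⟩
  obtain ⟨π, hπ⟩ := IsDiscreteValuationRing.exists_irreducible D
  have hspan : (IsLocalRing.maximalIdeal D).map (algebraMap D L) =
      Ideal.span {algebraMap D L π} := by
    rw [hπ.maximalIdeal_eq, Ideal.map_span, Set.image_singleton]
  have hπreg : IsSMulRegular M1 π :=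
    Module.Flat.isSMulRegular_of_nonZeroDivisors (mem_nonZeroDivisors_of_ne_zero hπ.ne_zero)
  have hreg : IsSMulRegular M1 (algebraMap D L π) := by
    intro x y hxy
    apply hπreg
    show π • x = π • y
    rw [← algebraMap_smul L π x, ← algebraMap_smul L π y]
    exact hxy
  have hSK : LocCoh.HasSk k (L ⧸ (IsLocalRing.maximalIdeal D).map (algebraMap D L))
      (K ⧸ ((IsLocalRing.maximalIdeal D).map (algebraMap D L)) • (⊤ : Submodule L K)) :=
    hasSk_of_linearEquiv (quotSMulTopEquivOfEquiv _ (e₁ ≪≫ₗ e₂)) hS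
  exact le_idealDepth_quot_of_hasSk _ _ hspan i hi u hiu hreg I k hM0 hSK

end DVRAbstract

end Groth.Agent.Lib.Helper28.Inf
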