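import Groth.Agent.Lib.Helper28InfAssemble
import Groth.Agent.Lib.Helper28InfBCQuot
import Groth.Agent.Lib.Helper28InfKerQuot
import Groth.Agent.Lib.Helper22VC2

/-!
# The DVR step of the valuative criterion (helper28)
-/

set_option autoImplicit false
universe u

namespace Groth.Agent.Lib.Helper28.Inf
open Groth.Agent.Lib.Helper28
open TensorProduct IsLocalRing
open scoped Pointwise

section LevelDepth

variable {B : Type u} [CommRing B] [IsNoetherianRing B]
  {F E0 E1 G : Type u} [AddCommGroup F] [Module B F] [Module.Finite B F]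
  [AddCommGroup E0] [Module B E0] [Module.Finite B E0] [Module.Projective B E0]
  [AddCommGroup E1] [Module B E1] [Module.Finite B E1] [Module.Projective B E1]
  [AddCommGroup G] [Module B G] [Module.Finite B G]
  (u : E0 →ₗ[B] E1) (v : E1 →ₗ[B] G)
  (L : Type u) [CommRing L] [IsNoetherianRing L] [IsLocalRing L] [Algebra B L]
  (A' : Type u) [CommRing A'] [IsLocalRing A'] [IsNoetherianRing A'] [Algebra A' L]
  [IsLocalHom (algebraMap A' L)] [Module.Flat A' L]

/-- Variant of `flat_baseChange_coker` with the fibre depths as hypotheses. -/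
theorem flat_baseChange_coker_of_fibre_depth
    (huv : Function.Exact u v) (hv : Function.Surjective v)
    (J : Ideal B)
    (hGU : ∀ q : PrimeSpectrum B, ¬ J ≤ q.asIdeal →
      Module.Free (Localization.AtPrime q.asIdeal) (LocalizedModule q.asIdeal.primeCompl G))
    (hKfib : 2 ≤ LocCoh.idealDepth (J.map (algebraMap B L))
      (EGA4.FibMod A' L (LinearMap.ker (u.baseChange L))))
    (hE0fib : 1 ≤ LocCoh.idealDepth (J.map (algebraMap B L))
      (EGA4.FibMod A' L (L ⊗[B] E0))) :
    Module.Flat A' (L ⊗[B] G) := by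
  haveI : Module.Flat A' (L ⊗[B] E0) := Module.Flat.trans A' L _
  haveI : Module.Flat A' (L ⊗[B] E1) := Module.Flat.trans A' L _
  haveI : Module.Finite L (LinearMap.ker (u.baseChange L)) := inferInstance
  have hexu : Function.Exact (u.baseChange L) (v.baseChange L) := by
    have := lTensor_exact L huv hv
    rw [LinearMap.baseChange_eq_ltensor, LinearMap.baseChange_eq_ltensor]
    exact this
  have hv' : Function.Surjective (v.baseChange L) := by
    rw [LinearMap.baseChange_eq_ltensor]
    exact LinearMap.lTensor_surjective L hv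
  have hGU' : ∀ Q : PrimeSpectrum L, ¬ J.map (algebraMap B L) ≤ Q.asIdeal →
      FlatCA.FlatAt A' Q.asIdeal (L ⊗[B] G) := by
    intro Q hQ
    have hq : ¬ J ≤ Q.asIdeal.comap (algebraMap B L) :=
      fun hle => hQ (Ideal.map_le_iff_le_comap.mpr hle)
    haveI : (Q.asIdeal.comap (algebraMap B L)).IsPrime := Ideal.comap_isPrime _ _
    haveI : Q.asIdeal.LiesOver (Q.asIdeal.comap (algebraMap B L)) := ⟨rfl⟩
    haveI := hGU ⟨Q.asIdeal.comap (algebraMap B L), inferInstance⟩ hq
    haveI := DDualBC.free_localization_baseChange Q.asIdeal (Q.asIdeal.comap (algebraMap B L)) G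
    haveI : Module.Flat A' (Localization.AtPrime Q.asIdeal) := Module.Flat.trans A' L _
    exact Module.Flat.trans A' (Localization.AtPrime Q.asIdeal) _
  exact flat_coker_of_fibre_depth_ker (A := A') (B := L)
    (LinearMap.ker (u.baseChange L)).subtype (u.baseChange L) (v.baseChange L)
    (Submodule.injective_subtype _) (LinearMap.exact_subtype_ker_map _) hexu hv'
    (J.map (algebraMap B L)) hGU' hKfib hE0fib

end LevelDepth

section DVRPrelim

variable (D : Type u) [CommRing D] [IsLocalRing D] {C' : Type u} [CommRing C'] [Algebra D C']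
  (q' : Ideal C') [hq'p : q'.IsPrime]

include hq'p in
theorem comap_eq_maximalIdeal_of_map_le (h : (maximalIdeal D).map (algebraMap D C') ≤ q') :
    q'.comap (algebraMap D C') = maximalIdeal D := by
  have hle : maximalIdeal D ≤ q'.comap (algebraMap D C') := Ideal.map_le_iff_le_comap.mp h
  exact ((IsLocalRing.maximalIdeal.isMaximal D).eq_of_le
    (Ideal.comap_ne_top _ hq'p.ne_top) hle).symm

theorem isLocalHom_algebraMap_localization_of_map_le
    (h : (maximalIdeal D).map (algebraMap D C') ≤ q') :
    IsLocalHom (algebraMap D (Localization.AtPrime q')) := by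
  constructor
  intro a ha
  by_contra hna
  have hmem : a ∈ maximalIdeal D := (mem_maximalIdeal a).mpr hna
  have h2 : algebraMap D C' a ∈ q' := h (Ideal.mem_map_of_mem _ hmem)
  rw [IsScalarTower.algebraMap_apply D C' (Localization.AtPrime q')] at ha
  exact (IsLocalization.AtPrime.isUnit_to_map_iff (Localization.AtPrime q') q' _).mp ha h2

end DVRPrelim

section DVR

variable {R C : Type u} [CommRing R] [CommRing C] [IsNoetherianRing C] [Algebra R C]
  [Module.Flat R C] (n : Ideal C) [n.IsPrime]
  (D : Type u) [CommRing D] [IsDomain D] [IsDiscreteValuationRing D] [Algebra R D]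
  {C' : Type u} [CommRing C'] [IsNoetherianRing C'] [Algebra C C'] [Algebra D C'] [Algebra R C']
  [IsScalarTower R C C'] [IsScalarTower R D C'] [hpo : Algebra.IsPushout R C D C']
  (q' : Ideal C') [q'.IsPrime]
  {F E0 E1 G : Type u} [AddCommGroup F] [Module C F] [Module.Finite C F]
  [AddCommGroup E0] [Module C E0] [Module.Finite C E0] [Module.Projective C E0]
  [AddCommGroup E1] [Module C E1] [Module.Finite C E1] [Module.Projective C E1]
  [AddCommGroup G] [Module C G] [Module.Finite C G]
  (f : F →ₗ[C] E0) (u : E0 →ₗ[C] E1) (v : E1 →ₗ[C] G)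

include hpo in
/-- **The DVR step.** Over a DVR `D`, `(S₂)` for the fibre stalk of the double dual of `C' ⊗ F`
gives flatness of `C'_{q'} ⊗ G` over `D`. -/
theorem flat_tensor_coker_of_dvr
    (hq' : q'.comap (algebraMap C C') = n)
    (hmq' : (maximalIdeal D).map (algebraMap D C') ≤ q')
    (hf : Function.Injective f) (hfu : Function.Exact f u) (huv : Function.Exact u v)
    (hv : Function.Surjective v) (J : Ideal C)
    (hFU : ∀ q : PrimeSpectrum C, ¬ J ≤ q.asIdeal →
      Module.Free (Localization.AtPrime q.asIdeal) (LocalizedModule q.asIdeal.primeCompl F))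
    (hGU : ∀ q : PrimeSpectrum C, ¬ J ≤ q.asIdeal →
      Module.Free (Localization.AtPrime q.asIdeal) (LocalizedModule q.asIdeal.primeCompl G))
    (hdepth : 2 ≤ LocCoh.idealDepth (J.map (algebraMap C (EGA4.FibLocRing R C n)))
      (EGA4.FibLocRing R C n))
    (hS2X : LocCoh.HasSk 2 (EGA4.FibLocRing D C' q')
      (EGA4.FibLocMod D C' q' (Module.Dual C' (Module.Dual C' (C' ⊗[C] F))))) :
    Module.Flat D (Localization.AtPrime q' ⊗[C] G) := by
  haveI : q'.LiesOver n := ⟨hq'.symm⟩
  haveI hloc := isLocalHom_algebraMap_localization_of_map_le D q' hmq'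
  have hcomap := comap_eq_maximalIdeal_of_map_le D q' hmq'
  haveI hC'flat : Module.Flat D C' :=
    Module.Flat.isBaseChange R D C _ (Algebra.IsPushout.out (self := Algebra.IsPushout.symm hpo))
  haveI : Module.Flat D (Localization.AtPrime q') := Module.Flat.trans _ C' _
  -- an `R`-module structure on `E⁰`
  letI : Module R E0 := Module.compHom E0 (algebraMap R C)
  haveI : IsScalarTower R C E0 := IsScalarTower.of_algebraMap_smul fun _ _ => rfl
  haveI : Module.Flat R E0 := Module.Flat.trans R C E0
  -- fibre depths at `n`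
  have h1 : ((2 : ℕ) : ℕ∞) ≤ LocCoh.idealDepth (J.map (algebraMap C (EGA4.FibLocRing R C n)))
      (EGA4.FibLocMod R C n C) := by
    exact_mod_cast FibBC.two_le_idealDepth_fibLocMod_of_projective (A := R) n C _ hdepth
  have h1E0 : ((2 : ℕ) : ℕ∞) ≤ LocCoh.idealDepth (J.map (algebraMap C (EGA4.FibLocRing R C n)))
      (EGA4.FibLocMod R C n E0) := by
    exact_mod_cast FibBC.two_le_idealDepth_fibLocMod_of_projective (A := R) n E0 _ hdepth
  -- depth of `L` along `J`
  have hL2' := natCast_le_idealDepth_isBaseChange_quot (A := R) D q' n C ⊥ J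
    (flat_localizedModule_of_flat _) 2 h1 (Localization.AtPrime q')
    (Algebra.linearMap C (Localization.AtPrime q')) (IsBaseChange.linearMap _ _)
  have hL2 : 2 ≤ LocCoh.idealDepth (J.map (algebraMap C (Localization.AtPrime q')))
      (Localization.AtPrime q') := by
    rw [idealDepth_congr (Submodule.quotEquivOfEqBot _
      (by rw [Ideal.map_bot, Submodule.bot_smul]))] at hL2'
    exact_mod_cast hL2'
  -- fibre depth of `L ⊗ E⁰`
  have hE0' := natCast_le_idealDepth_isBaseChange_quot (A := R) D q' n E0
    (q'.comap (algebraMap D C')) J (flat_localizedModule_of_flat _) 2 h1E0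
    (Localization.AtPrime q' ⊗[C] E0) (TensorProduct.mk C (Localization.AtPrime q') E0 1)
    (TensorProduct.isBaseChange C E0 (Localization.AtPrime q'))
  -- the kernel and the double dual
  obtain ⟨-, ⟨e₂⟩⟩ := two_le_idealDepth_ker_and_nonempty_equiv f u v (Localization.AtPrime q')
    hf hfu huv hv J hFU hGU hL2
  obtain ⟨e₁⟩ := nonempty_localizedModule_ddual_equiv (B := C) q' F
  haveI : Module.Finite (Localization.AtPrime q')
      (LinearMap.ker (u.baseChange (Localization.AtPrime q'))) := inferInstance
  haveI : Module.Flat D (Localization.AtPrime q' ⊗[C] E1) :=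
    Module.Flat.trans D (Localization.AtPrime q') _
  obtain ⟨hKfib, hE0fib⟩ := le_idealDepth_fibMod_of_hasSk_of_dvr D
    (X := LocalizedModule q'.primeCompl (Module.Dual C' (Module.Dual C' (C' ⊗[C] F))))
    (Y := Module.Dual (Localization.AtPrime q')
      (Module.Dual (Localization.AtPrime q') (Localization.AtPrime q' ⊗[C] F)))
    (K := LinearMap.ker (u.baseChange (Localization.AtPrime q')))
    (M0 := Localization.AtPrime q' ⊗[C] E0) (M1 := Localization.AtPrime q' ⊗[C] E1)
    (q'.comap (algebraMap D C')) hcomap e₁ e₂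
    (LinearMap.ker (u.baseChange (Localization.AtPrime q'))).subtype
    (Submodule.injective_subtype _) (u.baseChange (Localization.AtPrime q'))
    (LinearMap.exact_subtype_ker_map _) (J.map (algebraMap C (Localization.AtPrime q'))) 2
    hE0' hS2X
  exact flat_baseChange_coker_of_fibre_depth u v (Localization.AtPrime q') D huv hv J hGU
    (by exact_mod_cast hKfib) (le_trans (by norm_num) hE0fib)

end DVR

section TF

variable (D : Type u) [CommRing D] [IsDomain D] {C C' : Type u} [CommRing C] [CommRing C']
  [Algebra C C'] [Algebra D C'] (q' : Ideal C') [q'.IsPrime]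
  (G : Type u) [AddCommGroup G] [Module C G]

/-- Flatness of `C'_{q'} ⊗ G` over the domain `D` gives torsion-freeness of `C' ⊗ G` at `q'`. -/
theorem tfAt_of_flat_tensor_localization
    (h : Module.Flat D (Localization.AtPrime q' ⊗[C] G)) :
    Groth.Agent.Lib.Helper22.VC.TFAt D q' (C' ⊗[C] G) := by
  intro a ha z hz
  let ψ : C' ⊗[C] G →ₗ[C'] Localization.AtPrime q' ⊗[C] G :=
    AlgebraTensorModule.rTensor C G (Algebra.linearMap C' (Localization.AtPrime q'))
  haveI : IsLocalizedModule q'.primeCompl ψ := IsLocalizedModule.rTensor (R := C) (A := C') (S := q'.primeCompl) (N := G) (Algebra.linearMap C' (Localization.AtPrime q'))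
  have h1 : ψ (algebraMap D C' a • z) = 0 := by rw [hz, map_zero]
  rw [map_smul] at h1
  have h2 : a • ψ z = a • (0 : Localization.AtPrime q' ⊗[C] G) := by
    rw [smul_zero, ← algebraMap_smul C' a (ψ z)]
    exact h1
  have h3 : ψ z = 0 :=
    (Module.Flat.isSMulRegular_of_nonZeroDivisors (mem_nonZeroDivisors_of_ne_zero ha)) h2
  obtain ⟨c, hc⟩ := (IsLocalizedModule.eq_zero_iff q'.primeCompl ψ).mp h3
  exact ⟨c.1, c.2, hc⟩

end TF

end Groth.Agent.Lib.Helper28.Inf
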