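import Groth.Agent.Lib.Helper28DepthDom

/-!
# Depth library, part 10 (helper28): localization of the evaluation map to the double dual,
reflexivity from `depth_I ≥ 2` plus reflexivity off `V(I)`
-/

set_option autoImplicit false
universe u v
open RingTheory.Sequence

namespace Groth.Agent.Lib.Helper28

section EvalLoc

variable {A : Type u} [CommRing A] (p : Ideal A) [p.IsPrime]
  (G : Type v) [AddCommGroup G] [Module A G]

/-- The localization map on duals. -/
noncomputable def dualLoc :
    Module.Dual A G →ₗ[A]
      Module.Dual (Localization.AtPrime p) (LocalizedModule p.primeCompl G) :=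
  IsLocalizedModule.mapExtendScalars p.primeCompl (LocalizedModule.mkLinearMap p.primeCompl G)
    (Algebra.linearMap A (Localization.AtPrime p)) (Localization.AtPrime p)

instance [IsNoetherianRing A] [Module.Finite A G] :
    IsLocalizedModule p.primeCompl (dualLoc p G) := by
  have : Module.FinitePresentation A G := Module.finitePresentation_of_finite A G
  unfold dualLoc
  infer_instance

theorem dualLoc_apply (φ : Module.Dual A G) (x : G) :
    dualLoc p G φ (LocalizedModule.mkLinearMap p.primeCompl G x) =
      algebraMap A (Localization.AtPrime p) (φ x) := by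
  unfold dualLoc
  rw [IsLocalizedModule.mapExtendScalars_apply_apply, IsLocalizedModule.map_apply]
  rfl

variable [IsNoetherianRing A] [Module.Finite A G]

/-- The localization map on double duals. -/
noncomputable def dualDualLoc :
    Module.Dual A (Module.Dual A G) →ₗ[A]
      Module.Dual (Localization.AtPrime p)
        (Module.Dual (Localization.AtPrime p) (LocalizedModule p.primeCompl G)) :=
  IsLocalizedModule.mapExtendScalars p.primeCompl (dualLoc p G)
    (Algebra.linearMap A (Localization.AtPrime p)) (Localization.AtPrime p)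

instance :
    IsLocalizedModule p.primeCompl (dualDualLoc p G) := by
  have : Module.FinitePresentation A (Module.Dual A G) :=
    Module.finitePresentation_of_finite A _
  unfold dualDualLoc
  infer_instance

theorem dualDualLoc_apply
    (ψ : Module.Dual A (Module.Dual A G)) (φ : Module.Dual A G) :
    dualDualLoc p G ψ (dualLoc p G φ) = algebraMap A (Localization.AtPrime p) (ψ φ) := by
  unfold dualDualLoc
  rw [IsLocalizedModule.mapExtendScalars_apply_apply, IsLocalizedModule.map_apply]
  rfl

theorem dualDualLoc_eval (x : G) :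
    dualDualLoc p G (Module.Dual.eval A G x) =
      Module.Dual.eval (Localization.AtPrime p) (LocalizedModule p.primeCompl G)
        (LocalizedModule.mkLinearMap p.primeCompl G x) := by
  apply LinearMap.restrictScalars_injective A
  apply IsLocalizedModule.ext p.primeCompl (dualLoc p G)
    (IsLocalizedModule.map_units (Algebra.linearMap A (Localization.AtPrime p)))
  ext φ
  simp only [LinearMap.coe_comp, LinearMap.coe_restrictScalars, Function.comp_apply]
  rw [dualDualLoc_apply, Module.Dual.eval_apply, Module.Dual.eval_apply, dualLoc_apply]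

theorem map_eval_eq :
    IsLocalizedModule.map p.primeCompl (LocalizedModule.mkLinearMap p.primeCompl G)
      (dualDualLoc p G) (Module.Dual.eval A G) =
    (Module.Dual.eval (Localization.AtPrime p) (LocalizedModule p.primeCompl G)).restrictScalars A := by
  apply IsLocalizedModule.ext p.primeCompl (LocalizedModule.mkLinearMap p.primeCompl G)
    (IsLocalizedModule.map_units (dualDualLoc p G))
  ext x : 1
  simp only [LinearMap.coe_comp, LinearMap.coe_restrictScalars, Function.comp_apply,
    IsLocalizedModule.map_apply]
  exact dualDualLoc_eval p G x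

end EvalLoc

section OffVI

variable {A : Type u} [CommRing A]

/-- If `x` is killed, locally at every prime not containing `I`, then every element of `I` has
a power killing `x`. -/
theorem exists_pow_smul_eq_zero_of_forall_prime {X : Type v} [AddCommGroup X] [Module A X]
    (I : Ideal A) (x : X)
    (h : ∀ (p : Ideal A) [p.IsPrime], ¬ I ≤ p → ∃ s ∉ p, s • x = 0) :
    ∀ r ∈ I, ∃ n : ℕ, r ^ n • x = 0 := by
  intro r hr
  have hrad : r ∈ (Ideal.torsionOf A X x).radical := by
    rw [Ideal.radical_eq_sInf, Ideal.mem_sInf]
    rintro q ⟨hq, hqp⟩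
    by_contra hrq
    have hIq : ¬ I ≤ q := fun hle => hrq (hle hr)
    obtain ⟨s, hs, hsx⟩ := h q hIq
    exact hs (hq ((Ideal.mem_torsionOf_iff x s).mpr hsx))
  obtain ⟨n, hn⟩ := hrad
  exact ⟨n, (Ideal.mem_torsionOf_iff x _).mp hn⟩

variable [IsNoetherianRing A]

omit [IsNoetherianRing A] in
theorem eq_zero_of_one_le_idealDepth_of_forall_pow {X : Type v} [AddCommGroup X] [Module A X]
    [Module.Finite A X] (I : Ideal A) (hX : 1 ≤ LocCoh.idealDepth I X) (x : X)
    (h : ∀ r ∈ I, ∃ n : ℕ, r ^ n • x = 0) : x = 0 := by
  by_cases hIM : I • (⊤ : Submodule A X) = ⊤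
  · obtain ⟨c, hc1, hc2⟩ := Submodule.exists_sub_one_mem_and_smul_eq_zero_of_fg_of_le_smul I
      (⊤ : Submodule A X) Module.Finite.fg_top (le_of_eq hIM.symm)
    have ha : (1 - c) ∈ I := by
      have := I.neg_mem hc1
      rwa [neg_sub] at this
    have hact : ∀ m : X, (1 - c) • m = m := by
      intro m
      rw [sub_smul, one_smul, hc2 m Submodule.mem_top, sub_zero]
    obtain ⟨n, hn⟩ := h _ ha
    have : ∀ k : ℕ, (1 - c) ^ k • x = x := by
      intro k
      induction k with
      | zero => simp
      | succ k ih => rw [pow_succ, mul_smul, hact, ih]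
    rw [← this n, hn]
  · obtain ⟨r, hr, hreg⟩ := (one_le_idealDepth_iff hIM).mp hX
    obtain ⟨n, hn⟩ := h r hr
    exact (hreg.pow n) (by simp only [hn, smul_zero])

/-- Local reflexivity at `p` kills the kernel of `eval` locally. -/
theorem exists_smul_eq_zero_of_eval_eq_zero (p : Ideal A) [p.IsPrime] (G : Type v)
    [AddCommGroup G] [Module A G] [Module.Finite A G]
    [hR : Module.IsReflexive (Localization.AtPrime p) (LocalizedModule p.primeCompl G)]
    (x : G) (hx : Module.Dual.eval A G x = 0) : ∃ s ∉ p, s • x = 0 := by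
  have h1 := dualDualLoc_eval p G x
  rw [hx, map_zero] at h1
  have h2 : LocalizedModule.mkLinearMap p.primeCompl G x = 0 := by
    apply (Module.bijective_dual_eval (Localization.AtPrime p)
      (LocalizedModule p.primeCompl G)).1
    rw [← h1, map_zero]
  obtain ⟨s, hs⟩ := (IsLocalizedModule.eq_zero_iff p.primeCompl
    (LocalizedModule.mkLinearMap p.primeCompl G)).mp h2
  exact ⟨s.1, s.2, hs⟩

/-- Local reflexivity at `p` kills the cokernel of `eval` locally. -/
theorem exists_smul_mem_range_eval (p : Ideal A) [p.IsPrime] (G : Type v)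
    [AddCommGroup G] [Module A G] [Module.Finite A G]
    [hR : Module.IsReflexive (Localization.AtPrime p) (LocalizedModule p.primeCompl G)]
    (y : Module.Dual A (Module.Dual A G)) :
    ∃ s ∉ p, s • y ∈ LinearMap.range (Module.Dual.eval A G) := by
  obtain ⟨z, hz⟩ := (Module.bijective_dual_eval (Localization.AtPrime p)
    (LocalizedModule p.primeCompl G)).2 (dualDualLoc p G y)
  obtain ⟨⟨x, s⟩, hxs⟩ := IsLocalizedModule.surj p.primeCompl
    (LocalizedModule.mkLinearMap p.primeCompl G) z
  have h1 : dualDualLoc p G (s.1 • y - Module.Dual.eval A G x) = 0 := by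
    rw [map_sub, map_smul, dualDualLoc_eval, ← hz, ← hxs, sub_eq_zero]
    change _ = (Module.Dual.eval (Localization.AtPrime p) (LocalizedModule p.primeCompl G))
      (s.1 • z)
    rw [← algebraMap_smul (Localization.AtPrime p) s.1 z, map_smul, algebraMap_smul]
  obtain ⟨t, ht⟩ := (IsLocalizedModule.eq_zero_iff p.primeCompl (dualDualLoc p G)).mp h1
  refine ⟨t.1 * s.1, fun hmem => ?_, ?_⟩
  · rcases Ideal.IsPrime.mem_or_mem ‹p.IsPrime› hmem with h | h
    · exact t.2 h
    · exact s.2 h
  · refine ⟨t.1 • x, ?_⟩
    rw [map_smul, mul_smul]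
    have : t.1 • (s.1 • y - Module.Dual.eval A G x) = 0 := ht
    rw [smul_sub, sub_eq_zero] at this
    exact this.symm

end OffVI

section ReflexiveDepthTwo

variable {A : Type u} [CommRing A] [IsNoetherianRing A]

theorem isReflexive_of_idealDepth_two (I : Ideal A)
    (hA : 1 ≤ LocCoh.idealDepth I A)
    (G : Type u) [AddCommGroup G] [Module A G] [Module.Finite A G]
    (hU : ∀ (p : Ideal A) [p.IsPrime], ¬ I ≤ p →
      Module.IsReflexive (Localization.AtPrime p) (LocalizedModule p.primeCompl G))
    (hG : 2 ≤ LocCoh.idealDepth I G) : Module.IsReflexive A G := by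
  have hG1 : 1 ≤ LocCoh.idealDepth I G := le_trans (by norm_num) hG
  have hinj : Function.Injective (Module.Dual.eval A G) := by
    rw [injective_iff_map_eq_zero]
    intro x hx
    refine eq_zero_of_one_le_idealDepth_of_forall_pow I hG1 x
      (exists_pow_smul_eq_zero_of_forall_prime I x ?_)
    intro p _ hp
    have := hU p hp
    exact exists_smul_eq_zero_of_eval_eq_zero p G x hx
  have hDD : 1 ≤ LocCoh.idealDepth I (Module.Dual A (Module.Dual A G)) :=
    one_le_idealDepth_dual I _ hA
  -- the cokernel
  have hC : 1 ≤ LocCoh.idealDepth I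
      (Module.Dual A (Module.Dual A G) ⧸ LinearMap.range (Module.Dual.eval A G)) := by
    have := min_idealDepth_le_right I (Module.Dual.eval A G)
      (LinearMap.range (Module.Dual.eval A G)).mkQ hinj (Submodule.mkQ_surjective _)
      (LinearMap.exact_map_mkQ_range _)
    refine le_trans (le_min hDD ?_) this
    have h2 : ((2 : ℕ) : ℕ∞) ≤ LocCoh.idealDepth I G := by simpa using hG
    calc (1 : ℕ∞) = ((2 : ℕ) : ℕ∞) - 1 := by
          change ((1 : ℕ) : ℕ∞) = ((2 : ℕ) : ℕ∞) - ((1 : ℕ) : ℕ∞)
          rw [← ENat.natCast_sub]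
      _ ≤ LocCoh.idealDepth I G - 1 := tsub_le_tsub_right h2 1
  have hsurj : Function.Surjective (Module.Dual.eval A G) := by
    intro y
    have hy : (LinearMap.range (Module.Dual.eval A G)).mkQ y = 0 := by
      refine eq_zero_of_one_le_idealDepth_of_forall_pow I hC _
        (exists_pow_smul_eq_zero_of_forall_prime I _ ?_)
      intro p _ hp
      have := hU p hp
      obtain ⟨s, hs, hsy⟩ := exists_smul_mem_range_eval p G y
      refine ⟨s, hs, ?_⟩
      rw [← map_smul]
      exact (Submodule.Quotient.mk_eq_zero _).mpr hsy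
    exact (Submodule.Quotient.mk_eq_zero _).mp hy
  exact ⟨⟨hinj, hsurj⟩⟩

end ReflexiveDepthTwo

end Groth.Agent.Lib.Helper28
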