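import Groth.Agent.Lib.Helper28RelS2
import Groth.Agent.Lib.Helper28FibBC5
import Groth.Agent.Lib.Helper28DepthSk
import Groth.Agent.Lib.Helper28Reflexive

/-!
# From flatness of the cokernel to relative `S₂` of the kernel at a prime (helper28)
-/

set_option autoImplicit false
universe u

namespace Groth.Agent.Lib.Helper28.Inf
open Groth.Agent.Lib.Helper28 Groth.Agent.Lib.Helper28.FibBC Groth.Agent.Lib.Helper28.DDualBC
  Groth.Agent.Lib.Helper28.RelS2
open TensorProduct
open scoped Pointwise

section Final

variable {R C : Type u} [CommRing R] [CommRing C] [IsNoetherianRing R] [IsNoetherianRing C]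
  [Algebra R C] [Module.Flat R C]
  (n : Ideal C) [n.IsPrime]
  {F E0 E1 G : Type u} [AddCommGroup F] [Module C F] [Module R F] [IsScalarTower R C F]
  [Module.Finite C F]
  [AddCommGroup E0] [Module C E0] [Module R E0] [IsScalarTower R C E0] [Module.Finite C E0]
  [Module.Projective C E0]
  [AddCommGroup E1] [Module C E1] [Module R E1] [IsScalarTower R C E1] [Module.Finite C E1]
  [Module.Projective C E1]
  [AddCommGroup G] [Module C G] [Module R G] [IsScalarTower R C G] [Module.Finite C G]
  (f : F →ₗ[C] E0) (u : E0 →ₗ[C] E1) (v : E1 →ₗ[C] G)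

/-- If `G` is flat over `R` at `n` then `F` is flat over `R` at `n` and its fibre stalk at `n`
satisfies `S₂`. -/
theorem flatAt_and_hasSk_of_flat_coker (hf : Function.Injective f)
    (hfu : Function.Exact f u) (huv : Function.Exact u v) (hv : Function.Surjective v)
    (J : Ideal C)
    (hFU : ∀ q : PrimeSpectrum C, ¬ J ≤ q.asIdeal →
      Module.Free (Localization.AtPrime q.asIdeal) (LocalizedModule q.asIdeal.primeCompl F))
    (hS2 : LocCoh.HasSk 2 (EGA4.FibLocRing R C n) (EGA4.FibLocRing R C n))
    (hdepth : 2 ≤ LocCoh.idealDepth (J.map (algebraMap C (EGA4.FibLocRing R C n)))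
      (EGA4.FibLocRing R C n))
    (hG : Module.Flat R (LocalizedModule n.primeCompl G)) :
    FlatCA.FlatAt R n F ∧
      LocCoh.HasSk 2 (EGA4.FibLocRing R C n) (EGA4.FibLocMod R C n F) := by
  haveI : Module.Flat R E0 := Module.Flat.trans R C E0
  haveI : Module.Flat R E1 := Module.Flat.trans R C E1
  -- exact sequences through the image
  have hexI : Function.Exact f u.rangeRestrict := by
    intro y
    rw [← hfu y]
    constructor
    · intro h
      have := congrArg Subtype.val h
      simpa using this
    · intro h
      exact Subtype.ext (by simpa using h)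
  have hexIv : Function.Exact (LinearMap.range u).subtype v := by
    intro y
    rw [huv y]
    constructor
    · rintro ⟨x, rfl⟩
      exact ⟨⟨u x, ⟨x, rfl⟩⟩, rfl⟩
    · rintro ⟨⟨_, ⟨x, rfl⟩⟩, rfl⟩
      exact ⟨x, rfl⟩
  have hI : Module.Flat R (LocalizedModule n.primeCompl (LinearMap.range u)) :=
    flat_localizedModule_of_exact n.primeCompl (LinearMap.range u).subtype v
      (Submodule.injective_subtype _) hv hexIv (flat_localizedModule_of_flat _) hG
  have hFflat : Module.Flat R (LocalizedModule n.primeCompl F) :=
    flat_localizedModule_of_exact n.primeCompl f u.rangeRestrict hf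
      (LinearMap.surjective_rangeRestrict u) hexI (flat_localizedModule_of_flat _) hI
  refine ⟨hFflat, ?_⟩
  -- fibre depth of `F` along `J`
  have hF2 : 2 ≤ LocCoh.idealDepth (J.map (algebraMap C (EGA4.FibLocRing R C n)))
      (EGA4.FibLocMod R C n F) :=
    two_le_idealDepth_fibLocMod_of_flat f u v hf hfu huv hv n J hG
      (two_le_idealDepth_fibLocMod_of_projective (A := R) n E0 _ hdepth)
      (one_le_idealDepth_fibLocMod_of_projective (A := R) n E1 _ (le_trans (by norm_num) hdepth))
  haveI hfin : Module.Finite (EGA4.FibLocRing R C n) (EGA4.FibLocMod R C n F) :=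
    Module.Finite.of_restrictScalars_finite (Localization.AtPrime n) _ _
  -- the fibre stalk is reflexive
  haveI hrefl : Module.IsReflexive (EGA4.FibLocRing R C n) (EGA4.FibLocMod R C n F) := by
    refine isReflexive_of_idealDepth_two (J.map (algebraMap C (EGA4.FibLocRing R C n)))
      (le_trans (by norm_num) hdepth) _ ?_ hF2
    intro P _ hP
    have hq : ¬ J ≤ P.comap (algebraMap C (EGA4.FibLocRing R C n)) :=
      fun hle => hP (Ideal.map_le_iff_le_comap.mpr hle)
    haveI : (P.comap (algebraMap C (EGA4.FibLocRing R C n))).IsPrime := Ideal.comap_isPrime _ _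
    haveI : P.LiesOver (P.comap (algebraMap C (EGA4.FibLocRing R C n))) := ⟨rfl⟩
    haveI := hFU ⟨P.comap (algebraMap C (EGA4.FibLocRing R C n)), inferInstance⟩ hq
    haveI := free_localization_baseChange P (P.comap (algebraMap C (EGA4.FibLocRing R C n))) F
    let e₀ : EGA4.FibLocRing R C n ⊗[C] F ≃ₗ[EGA4.FibLocRing R C n] EGA4.FibLocMod R C n F :=
      (isBaseChange_fibLocMod (A := R) n F).equiv
    let e : LocalizedModule P.primeCompl (EGA4.FibLocRing R C n ⊗[C] F) ≃ₗ[Localization.AtPrime P]
        LocalizedModule P.primeCompl (EGA4.FibLocMod R C n F) :=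
      IsLocalizedModule.mapEquiv P.primeCompl (LocalizedModule.mkLinearMap P.primeCompl _)
        (LocalizedModule.mkLinearMap P.primeCompl _) (Localization.AtPrime P) e₀
    haveI : Module.Free (Localization.AtPrime P)
        (LocalizedModule P.primeCompl (EGA4.FibLocMod R C n F)) := Module.Free.of_equiv e
    infer_instance
  exact hasSk_two_of_isReflexive _ hS2

end Final

end Groth.Agent.Lib.Helper28.Inf
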