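import Groth.Agent.Lib.Helper28Hull
import Groth.Agent.Lib.Helper28Hull2

/-!
# Depth of the closed fibre of a flat module over an Artinian local base (helper28)

`A` a local ring with nilpotent maximal ideal, `A → B` with `B` Noetherian local, `M` a finite
`B`-module flat over `A`.  Then `depth_J M ≥ d` implies `depth_J (M / mM) ≥ d` for `d = 1, 2`
(the closed fibre embeds in `M` through a socle element).
-/

set_option autoImplicit false
universe u

namespace Groth.Agent.Lib.Helper28.Inf
open Groth.Agent.Lib.Helper28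
open scoped Pointwise

section Step

variable {A : Type u} {B : Type u} [CommRing A] [CommRing B] [IsLocalRing A] [Algebra A B]
  [IsNoetherianRing B]
  {M : Type u} [AddCommGroup M] [Module B M] [Module A M] [IsScalarTower A B M]
  [Module.Finite B M]

/-- The exact sequence `0 → M/mM → M/I'M → M/(I'+a)M → 0` for a socle element `a` modulo `I'`. -/
theorem exists_exact_quotient_step
    (hC : ∀ (I' : Ideal A) (a : A), a ∉ I' → ∀ b : M,
      a • b ∈ (I'.map (algebraMap A B)) • (⊤ : Submodule B M) →
      b ∈ ((IsLocalRing.maximalIdeal A).map (algebraMap A B)) • (⊤ : Submodule B M))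
    (I' : Ideal A) (a : A) (ha : a ∉ I')
    (hma : ∀ c ∈ IsLocalRing.maximalIdeal A, c * a ∈ I') :
    ∃ (f : (M ⧸ (((IsLocalRing.maximalIdeal A).map (algebraMap A B)) • (⊤ : Submodule B M))) →ₗ[B]
          (M ⧸ ((I'.map (algebraMap A B)) • (⊤ : Submodule B M))))
      (g : (M ⧸ ((I'.map (algebraMap A B)) • (⊤ : Submodule B M))) →ₗ[B]
          (M ⧸ (((I' ⊔ Ideal.span {a}).map (algebraMap A B)) • (⊤ : Submodule B M)))),
      Function.Injective f ∧ Function.Surjective g ∧ Function.Exact f g := by
  set φ := algebraMap A B with hφ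
  set mM : Submodule B M := ((IsLocalRing.maximalIdeal A).map φ) • ⊤ with hmM
  set I'M : Submodule B M := (I'.map φ) • ⊤ with hI'M
  set IM : Submodule B M := ((I' ⊔ Ideal.span {a}).map φ) • ⊤ with hIM
  have hle1 : mM ≤ I'M.comap ((φ a) • (LinearMap.id : M →ₗ[B] M)) := by
    rw [hmM]
    refine Submodule.smul_le.mpr ?_
    intro c hc x _
    rw [Submodule.mem_comap, LinearMap.smul_apply, LinearMap.id_apply, smul_smul]
    refine Submodule.smul_mem_smul ?_ Submodule.mem_top
    exact algebraMap_mul_mem_map_of_forall_mul_mem I' a hma c hc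
  have hle2 : I'M ≤ IM.comap (LinearMap.id : M →ₗ[B] M) := by
    rw [Submodule.comap_id]
    exact Submodule.smul_mono_left (Ideal.map_mono le_sup_left)
  let f : (M ⧸ mM) →ₗ[B] (M ⧸ I'M) := Submodule.mapQ mM I'M ((φ a) • LinearMap.id) hle1
  let g : (M ⧸ I'M) →ₗ[B] (M ⧸ IM) := Submodule.mapQ I'M IM LinearMap.id hle2
  have hf : Function.Injective f := by
    rw [injective_iff_map_eq_zero]
    intro x hx
    obtain ⟨b, rfl⟩ := Submodule.Quotient.mk_surjective _ x
    rw [Submodule.mapQ_apply, Submodule.Quotient.mk_eq_zero, LinearMap.smul_apply,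
      LinearMap.id_apply, algebraMap_smul] at hx
    rw [Submodule.Quotient.mk_eq_zero]
    exact hC I' a ha b hx
  have hg : Function.Surjective g := by
    intro y
    obtain ⟨b, rfl⟩ := Submodule.Quotient.mk_surjective _ y
    exact ⟨Submodule.Quotient.mk b, rfl⟩
  have hIMsup : IM = I'M ⊔ (Ideal.span {φ a}) • (⊤ : Submodule B M) := by
    rw [hIM, hI'M, Ideal.map_sup, Ideal.map_span, Set.image_singleton, Submodule.sup_smul]
  have hfg : Function.Exact f g := by
    intro y
    obtain ⟨b, rfl⟩ := Submodule.Quotient.mk_surjective _ y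
    rw [Submodule.mapQ_apply, Submodule.Quotient.mk_eq_zero, LinearMap.id_apply]
    constructor
    · intro hb
      rw [hIMsup] at hb
      obtain ⟨b1, hb1, b2, hb2, rfl⟩ := Submodule.mem_sup.mp hb
      rw [Submodule.ideal_span_singleton_smul, Submodule.mem_smul_pointwise_iff_exists] at hb2
      obtain ⟨x, -, rfl⟩ := hb2
      refine ⟨Submodule.Quotient.mk x, ?_⟩
      rw [Submodule.mapQ_apply, LinearMap.smul_apply, LinearMap.id_apply, Submodule.Quotient.eq]
      have : φ a • x - (b1 + φ a • x) = -b1 := by abel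
      rw [this]
      exact Submodule.neg_mem _ hb1
    · rintro ⟨x, hx⟩
      obtain ⟨x, rfl⟩ := Submodule.Quotient.mk_surjective _ x
      rw [Submodule.mapQ_apply, LinearMap.smul_apply, LinearMap.id_apply,
        Submodule.Quotient.eq] at hx
      have : b = φ a • x - (φ a • x - b) := by abel
      rw [this]
      refine Submodule.sub_mem _ ?_ (hle2 hx)
      rw [hIMsup]
      refine Submodule.mem_sup_right ?_
      exact Submodule.smul_mem_smul (Ideal.mem_span_singleton_self _) Submodule.mem_top
  exact ⟨f, g, hf, hg, hfg⟩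

/-- Propagation of a lower bound for `depth_J (M/mM)` to all infinitesimal neighbourhoods. -/
theorem le_idealDepth_quotient_of_pow_le [IsNoetherianRing A] (J : Ideal B)
    (hC : ∀ (I' : Ideal A) (a : A), a ∉ I' → ∀ b : M,
      a • b ∈ (I'.map (algebraMap A B)) • (⊤ : Submodule B M) →
      b ∈ ((IsLocalRing.maximalIdeal A).map (algebraMap A B)) • (⊤ : Submodule B M))
    (d : ℕ∞) (hd : d ≤ LocCoh.idealDepth J (EGA4.FibMod A B M)) (n : ℕ) :
    ∀ (I' : Ideal A), I' ≤ IsLocalRing.maximalIdeal A → IsLocalRing.maximalIdeal A ^ n ≤ I' →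
      d ≤ LocCoh.idealDepth J (M ⧸ ((I'.map (algebraMap A B)) • (⊤ : Submodule B M))) := by
  intro I'
  induction I' using WellFoundedGT.induction with
  | ind I' ih =>
    intro hI'm hn
    by_cases hI' : I' = IsLocalRing.maximalIdeal A
    · subst hI'
      exact hd
    · have hlt : I' < IsLocalRing.maximalIdeal A := lt_of_le_of_ne hI'm hI'
      obtain ⟨a, ham, haI', hma⟩ := exists_socle_element I' hlt n hn
      have haI : a ∈ I' ⊔ Ideal.span {a} :=
        (le_sup_right : Ideal.span {a} ≤ I' ⊔ Ideal.span {a}) (Ideal.mem_span_singleton_self a)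
      have hI'I : I' < I' ⊔ Ideal.span {a} := by
        refine lt_of_le_of_ne le_sup_left fun h => haI' ?_
        rw [h]; exact haI
      have hIm : I' ⊔ Ideal.span {a} ≤ IsLocalRing.maximalIdeal A :=
        sup_le hI'm ((Ideal.span_singleton_le_iff_mem _).mpr ham)
      have hI := ih (I' ⊔ Ideal.span {a}) hI'I hIm (hn.trans hI'I.le)
      exact (le_min hd hI).trans (min_idealDepth_le_quotient_step J hC I' a haI' hma)

end Step

section Main

variable {A : Type u} {B : Type u} [CommRing A] [CommRing B] [IsLocalRing A] [Algebra A B]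
  [IsNoetherianRing A] [IsNoetherianRing B] [IsLocalRing B]
  {M : Type u} [AddCommGroup M] [Module B M] [Module A M] [IsScalarTower A B M]
  [Module.Finite B M]

omit [IsNoetherianRing A] [IsNoetherianRing B] [Module.Finite B M] in
/-- The colon condition for a flat module. -/
theorem colon_of_flat [Module.Flat A M] (I' : Ideal A) (a : A) (ha : a ∉ I') (b : M)
    (hb : a • b ∈ (I'.map (algebraMap A B)) • (⊤ : Submodule B M)) :
    b ∈ ((IsLocalRing.maximalIdeal A).map (algebraMap A B)) • (⊤ : Submodule B M) := by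
  obtain ⟨s, hs, hsb⟩ := exists_notMem_smul_mem_of_flatAt (A := A) (M := M)
    (IsLocalRing.maximalIdeal B) (flatAt_of_flat _) I' a ha b hb
  have hu : IsUnit s := by
    by_contra h
    exact hs ((IsLocalRing.mem_maximalIdeal s).mpr h)
  obtain ⟨c, rfl⟩ := hu
  have := Submodule.smul_mem _ ((c⁻¹ : Bˣ) : B) hsb
  rwa [smul_smul, Units.inv_mul, one_smul] at this

/-- **Closed fibre depth of a flat module over an Artinian local base.** -/
theorem le_idealDepth_fibMod_of_flat [Module.Flat A M] (N : ℕ)
    (hnil : IsLocalRing.maximalIdeal A ^ N = ⊥) (J : Ideal B) :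
    (1 ≤ LocCoh.idealDepth J M → 1 ≤ LocCoh.idealDepth J (EGA4.FibMod A B M)) ∧
    (2 ≤ LocCoh.idealDepth J M → 2 ≤ LocCoh.idealDepth J (EGA4.FibMod A B M)) := by
  have hC := fun I' a ha b hb => colon_of_flat (A := A) (B := B) (M := M) I' a ha b hb
  -- `M / 0·M ≅ M`
  have hbot : ((⊥ : Ideal A).map (algebraMap A B)) • (⊤ : Submodule B M) = ⊥ := by
    rw [Ideal.map_bot, Submodule.bot_smul]
  have hcongr : LocCoh.idealDepth J
      (M ⧸ (((⊥ : Ideal A).map (algebraMap A B)) • (⊤ : Submodule B M))) =
      LocCoh.idealDepth J M :=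
    idealDepth_congr (Submodule.quotEquivOfEqBot _ hbot) J
  by_cases hm : IsLocalRing.maximalIdeal A = ⊥
  · -- `A` is a field
    have h0 : (EGA4.mB A B) • (⊤ : Submodule B M) = ⊥ := by
      rw [show EGA4.mB A B = (IsLocalRing.maximalIdeal A).map (algebraMap A B) from rfl, hm]
      exact hbot
    have hc : LocCoh.idealDepth J (EGA4.FibMod A B M) = LocCoh.idealDepth J M :=
      idealDepth_congr (Submodule.quotEquivOfEqBot _ h0) J
    rw [hc]
    exact ⟨id, id⟩
  · have hlt : (⊥ : Ideal A) < IsLocalRing.maximalIdeal A := bot_lt_iff_ne_bot.mpr hm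
    obtain ⟨a, ham, ha0, hma⟩ := exists_socle_element ⊥ hlt N (le_of_eq hnil)
    obtain ⟨f, g, hf, hg, hfg⟩ := exists_exact_quotient_step (M := M) hC ⊥ a ha0 hma
    have h1 : 1 ≤ LocCoh.idealDepth J M → 1 ≤ LocCoh.idealDepth J (EGA4.FibMod A B M) := by
      intro h
      rw [← hcongr] at h
      exact one_le_idealDepth_of_injective J f hf h
    refine ⟨h1, ?_⟩
    intro h2
    have h1' := h1 (le_trans (by norm_num) h2)
    have hIm : (⊥ : Ideal A) ⊔ Ideal.span {a} ≤ IsLocalRing.maximalIdeal A :=
      sup_le bot_le ((Ideal.span_singleton_le_iff_mem _).mpr ham)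
    have h3 := le_idealDepth_quotient_of_pow_le (M := M) J hC 1 h1' N
      ((⊥ : Ideal A) ⊔ Ideal.span {a}) hIm (by rw [hnil]; exact bot_le)
    have h4 := min_idealDepth_le_left J f g hf hg hfg
    rw [hcongr] at h4
    refine le_trans (le_min h2 ?_) h4
    calc (2 : ℕ∞) = 1 + 1 := by norm_num
      _ ≤ _ := add_le_add_left h3 1

end Main

end Groth.Agent.Lib.Helper28.Inf
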