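import Groth.Agent.Lib.Helper28FourTerm
import Groth.Agent.Lib.Helper28DepthSk
import Groth.Agent.Lib.Helper28InfSocle
import Groth.Agent.Lib.Helper28InfCoker

/-!
# The infinitesimal step (helper28)

For a four-term sequence `0 → F → E⁰ → E¹ → G → 0` over `B` with `F`, `G` free off `V(J)` and a
Noetherian local `B`-algebra `L` with `depth_{JL} L ≥ 2`:
* the kernel of `L ⊗ E⁰ → L ⊗ E¹` is the double dual of `L ⊗ F`;
* if `L` is flat over an Artinian local ring `A'` and that double dual is flat over `A'`, then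
  `L ⊗ G` is flat over `A'`.
-/

set_option autoImplicit false
universe u

namespace Groth.Agent.Lib.Helper28.Inf
open Groth.Agent.Lib.Helper28 Groth.Agent.Lib.Helper28.FourTerm Groth.Agent.Lib.Helper28.DDualBC
open TensorProduct
open scoped Pointwise

section DDualApply

variable {R : Type u} [CommRing R] {X Y : Type u} [AddCommGroup X] [Module R X]
  [AddCommGroup Y] [Module R Y]

theorem dualMap_dualMap_apply_eq_smul (Φ : X →ₗ[R] Y) (Χ : Y →ₗ[R] X) (c : R)
    (h : ∀ x, Χ (Φ x) = c • x) (ξ : Module.Dual R (Module.Dual R X)) :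
    Χ.dualMap.dualMap (Φ.dualMap.dualMap ξ) = c • ξ := by
  apply LinearMap.ext
  intro θ
  change ξ (Φ.dualMap (Χ.dualMap θ)) = c • ξ θ
  have h0 : Φ.dualMap (Χ.dualMap θ) = c • θ := by
    apply LinearMap.ext
    intro x
    change θ (Χ (Φ x)) = c • θ x
    rw [h, map_smul]
  rw [h0, map_smul]

/-- A map with local inverses off `V(I)` induces a bijection on double duals when
`depth_I L ≥ 2`. -/
theorem bijective_dualMap_dualMap_of_local_inverse [IsNoetherianRing R] [Module.Finite R X]
    [Module.Finite R Y] (I : Ideal R) (hR2 : 2 ≤ LocCoh.idealDepth I R) (Φ : X →ₗ[R] Y)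
    (h : ∀ (p : Ideal R) [p.IsPrime], ¬ I ≤ p → ∃ (Χ : Y →ₗ[R] X) (c : R), c ∉ p ∧
      (∀ x, Χ (Φ x) = c • x) ∧ (∀ y, Φ (Χ y) = c • y)) :
    Function.Bijective Φ.dualMap.dualMap := by
  have hR1 : 1 ≤ LocCoh.idealDepth I R := le_trans (by norm_num) hR2
  apply bijective_of_localization_depth_two
  intro p _
  by_cases hp : I ≤ p
  · right
    constructor
    · exact (two_le_idealDepth_dual _ _ hR2).trans (idealDepth_le_depth_localization p _ hp)
    · exact notMem_associatedPrimes_of_one_le_idealDepth I _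
        (one_le_idealDepth_dual _ _ hR1) p hp
  · left
    obtain ⟨Χ, c, hc, h1, h2⟩ := h p hp
    refine bijective_localizedModule_map_of_comp_eq_smul p.primeCompl Φ.dualMap.dualMap
      Χ.dualMap.dualMap c hc ?_ ?_
    · apply LinearMap.ext
      intro ξ
      exact dualMap_dualMap_apply_eq_smul Φ Χ _ h1 ξ
    · apply LinearMap.ext
      intro ξ
      exact dualMap_dualMap_apply_eq_smul Χ Φ _ h2 ξ

/-- The double dual of `X` is `Y` when `Y` is reflexive and `X → Y` has local inverses off
`V(I)`, `depth_I R ≥ 2`. -/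
theorem nonempty_equiv_ddual_of_local_inverse [IsNoetherianRing R] [Module.Finite R X]
    [Module.Finite R Y] [Module.IsReflexive R Y]
    (I : Ideal R) (hR2 : 2 ≤ LocCoh.idealDepth I R) (Φ : X →ₗ[R] Y)
    (h : ∀ (p : Ideal R) [p.IsPrime], ¬ I ≤ p → ∃ (Χ : Y →ₗ[R] X) (c : R), c ∉ p ∧
      (∀ x, Χ (Φ x) = c • x) ∧ (∀ y, Φ (Χ y) = c • y)) :
    Nonempty (Module.Dual R (Module.Dual R X) ≃ₗ[R] Y) :=
  ⟨(LinearEquiv.ofBijective Φ.dualMap.dualMap
    (bijective_dualMap_dualMap_of_local_inverse I hR2 Φ h)) ≪≫ₗ (Module.evalEquiv R Y).symm⟩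

end DDualApply

section KerDDual

variable {B : Type u} [CommRing B] [IsNoetherianRing B]
  {F E0 E1 G : Type u} [AddCommGroup F] [Module B F] [Module.Finite B F]
  [AddCommGroup E0] [Module B E0] [Module.Finite B E0] [Module.Projective B E0]
  [AddCommGroup E1] [Module B E1] [Module.Finite B E1] [Module.Projective B E1]
  [AddCommGroup G] [Module B G] [Module.Finite B G]
  (f : F →ₗ[B] E0) (u : E0 →ₗ[B] E1) (v : E1 →ₗ[B] G)
  (L : Type u) [CommRing L] [IsNoetherianRing L] [Algebra B L]

/-- The kernel of `L ⊗ E⁰ → L ⊗ E¹` has `J`-depth `≥ 2` and is the double dual of `L ⊗ F`. -/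
theorem two_le_idealDepth_ker_and_nonempty_equiv (hf : Function.Injective f)
    (hfu : Function.Exact f u) (huv : Function.Exact u v) (hv : Function.Surjective v)
    (J : Ideal B)
    (hFU : ∀ q : PrimeSpectrum B, ¬ J ≤ q.asIdeal →
      Module.Free (Localization.AtPrime q.asIdeal) (LocalizedModule q.asIdeal.primeCompl F))
    (hGU : ∀ q : PrimeSpectrum B, ¬ J ≤ q.asIdeal →
      Module.Free (Localization.AtPrime q.asIdeal) (LocalizedModule q.asIdeal.primeCompl G))
    (hL2 : 2 ≤ LocCoh.idealDepth (J.map (algebraMap B L)) L) :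
    2 ≤ LocCoh.idealDepth (J.map (algebraMap B L)) (LinearMap.ker (u.baseChange L)) ∧
    Nonempty (Module.Dual L (Module.Dual L (L ⊗[B] F)) ≃ₗ[L] LinearMap.ker (u.baseChange L)) := by
  have hL1 : 1 ≤ LocCoh.idealDepth (J.map (algebraMap B L)) L := le_trans (by norm_num) hL2
  haveI : Module.Finite L (LinearMap.ker (u.baseChange L)) := inferInstance
  have hK2 : 2 ≤ LocCoh.idealDepth (J.map (algebraMap B L)) (LinearMap.ker (u.baseChange L)) :=
    (idealDepth_ker _ (u.baseChange L)).2
      (two_le_idealDepth_of_isReflexive _ (L ⊗[B] E0) hL2)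
      (one_le_idealDepth_of_isReflexive _ (L ⊗[B] E1) hL1)
  refine ⟨hK2, ?_⟩
  -- freeness of the kernel off `V(JL)`
  have hKfree : ∀ (p : Ideal L) [p.IsPrime], ¬ J.map (algebraMap B L) ≤ p →
      Module.Free (Localization.AtPrime p)
        (LocalizedModule p.primeCompl (LinearMap.ker (u.baseChange L))) := by
    intro p _ hp
    have hq : ¬ J ≤ p.comap (algebraMap B L) :=
      fun hle => hp (Ideal.map_le_iff_le_comap.mpr hle)
    haveI : (p.comap (algebraMap B L)).IsPrime := Ideal.comap_isPrime _ _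
    haveI : p.LiesOver (p.comap (algebraMap B L)) := ⟨rfl⟩
    haveI := hFU ⟨p.comap (algebraMap B L), inferInstance⟩ hq
    haveI := hGU ⟨p.comap (algebraMap B L), inferInstance⟩ hq
    exact free_localization_ker_baseChange (B' := L) f u v hf hfu huv hv p
      (p.comap (algebraMap B L))
  -- the kernel is reflexive
  haveI hKrefl : Module.IsReflexive L (LinearMap.ker (u.baseChange L)) := by
    refine isReflexive_of_idealDepth_two (J.map (algebraMap B L)) hL1 _ ?_ hK2
    intro p _ hp
    haveI := hKfree p hp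
    infer_instance
  -- the comparison map
  have huf : u ∘ₗ f = 0 := by
    ext x
    exact (hfu (f x)).mpr ⟨x, rfl⟩
  have hu'f' : ∀ x, (u.baseChange L) ((f.baseChange L) x) = 0 := by
    intro x
    rw [← LinearMap.comp_apply, ← LinearMap.baseChange_comp, huf, LinearMap.baseChange_zero,
      LinearMap.zero_apply]
  obtain ⟨Φ, hΦ⟩ : ∃ Φ : L ⊗[B] F →ₗ[L] LinearMap.ker (u.baseChange L),
      ∀ x, (Φ x : L ⊗[B] E0) = f.baseChange L x :=
    ⟨(f.baseChange L).codRestrict _ (fun x => LinearMap.mem_ker.mpr (hu'f' x)), fun x => rfl⟩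
  have hloc : ∀ (p : Ideal L) [p.IsPrime], ¬ J.map (algebraMap B L) ≤ p →
      ∃ (Χ : LinearMap.ker (u.baseChange L) →ₗ[L] L ⊗[B] F) (c : L), c ∉ p ∧
        (∀ x, Χ (Φ x) = c • x) ∧ (∀ y, Φ (Χ y) = c • y) := by
    intro p _ hp
    have hq : ¬ J ≤ p.comap (algebraMap B L) :=
      fun hle => hp (Ideal.map_le_iff_le_comap.mpr hle)
    haveI : (p.comap (algebraMap B L)).IsPrime := Ideal.comap_isPrime _ _
    haveI := hGU ⟨p.comap (algebraMap B L), inferInstance⟩ hq
    obtain ⟨s, h0, h1, hs, hh0, hh⟩ :=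
      exists_homotopy_up_to f u v hf hfu huv hv (p.comap (algebraMap B L))
    have hs' : algebraMap B L s ∉ p := hs
    obtain ⟨Χ, hΧ⟩ : ∃ Χ : LinearMap.ker (u.baseChange L) →ₗ[L] L ⊗[B] F,
        ∀ k, Χ k = h0.baseChange L (k : L ⊗[B] E0) :=
      ⟨(h0.baseChange L) ∘ₗ (LinearMap.ker (u.baseChange L)).subtype, fun k => rfl⟩
    refine ⟨Χ, algebraMap B L s, hs', ?_, ?_⟩
    · intro x
      rw [hΧ, hΦ, ← LinearMap.comp_apply, ← LinearMap.baseChange_comp, hh0,
        LinearMap.baseChange_smul, LinearMap.baseChange_id, LinearMap.smul_apply,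
        LinearMap.id_apply, algebraMap_smul]
    · intro k
      refine Subtype.ext ?_
      have hk : (u.baseChange L) (k : L ⊗[B] E0) = 0 := LinearMap.mem_ker.mp k.2
      have h3 : f ∘ₗ h0 = s • LinearMap.id - h1 ∘ₗ u := by
        rw [← hh, add_sub_cancel_right]
      rw [hΦ, hΧ, Submodule.coe_smul,
        ← LinearMap.comp_apply, ← LinearMap.baseChange_comp, h3, LinearMap.baseChange_sub,
        LinearMap.baseChange_smul, LinearMap.baseChange_id, LinearMap.baseChange_comp,
        LinearMap.sub_apply, LinearMap.smul_apply, LinearMap.id_apply, LinearMap.comp_apply, hk,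
        map_zero, sub_zero, algebraMap_smul]
  obtain ⟨e⟩ := nonempty_equiv_ddual_of_local_inverse (X := L ⊗[B] F)
    (Y := LinearMap.ker (u.baseChange L)) (J.map (algebraMap B L)) hL2 Φ hloc
  exact ⟨e⟩

end KerDDual

section Level

variable {B : Type u} [CommRing B] [IsNoetherianRing B]
  {F E0 E1 G : Type u} [AddCommGroup F] [Module B F] [Module.Finite B F]
  [AddCommGroup E0] [Module B E0] [Module.Finite B E0] [Module.Projective B E0]
  [AddCommGroup E1] [Module B E1] [Module.Finite B E1] [Module.Projective B E1]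
  [AddCommGroup G] [Module B G] [Module.Finite B G]
  (f : F →ₗ[B] E0) (u : E0 →ₗ[B] E1) (v : E1 →ₗ[B] G)
  (L : Type u) [CommRing L] [IsNoetherianRing L] [IsLocalRing L] [Algebra B L]
  (A' : Type u) [CommRing A'] [IsLocalRing A'] [IsNoetherianRing A'] [Algebra A' L]
  [IsLocalHom (algebraMap A' L)] [Module.Flat A' L]

/-- **The infinitesimal step.** If the double dual of `L ⊗ F` is flat over the Artinian local
ring `A'`, so is `L ⊗ G`. -/
theorem flat_baseChange_coker (hf : Function.Injective f)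
    (hfu : Function.Exact f u) (huv : Function.Exact u v) (hv : Function.Surjective v)
    (J : Ideal B)
    (hFU : ∀ q : PrimeSpectrum B, ¬ J ≤ q.asIdeal →
      Module.Free (Localization.AtPrime q.asIdeal) (LocalizedModule q.asIdeal.primeCompl F))
    (hGU : ∀ q : PrimeSpectrum B, ¬ J ≤ q.asIdeal →
      Module.Free (Localization.AtPrime q.asIdeal) (LocalizedModule q.asIdeal.primeCompl G))
    (hL2 : 2 ≤ LocCoh.idealDepth (J.map (algebraMap B L)) L)
    (N : ℕ) (hnil : IsLocalRing.maximalIdeal A' ^ N = ⊥)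
    (hflat : Module.Flat A' (Module.Dual L (Module.Dual L (L ⊗[B] F)))) :
    Module.Flat A' (L ⊗[B] G) := by
  have hL1 : 1 ≤ LocCoh.idealDepth (J.map (algebraMap B L)) L := le_trans (by norm_num) hL2
  obtain ⟨hK2, ⟨e⟩⟩ := two_le_idealDepth_ker_and_nonempty_equiv f u v L hf hfu huv hv J hFU hGU hL2
  -- `A'`-structures
  haveI : Module.Flat A' (L ⊗[B] E0) := Module.Flat.trans A' L _
  haveI : Module.Flat A' (L ⊗[B] E1) := Module.Flat.trans A' L _
  haveI : Module.Finite L (LinearMap.ker (u.baseChange L)) := inferInstance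
  haveI hKflat : Module.Flat A' (LinearMap.ker (u.baseChange L)) :=
    Module.Flat.of_linearEquiv (e.symm.restrictScalars A')
  -- fibre depths
  have hKfib : 2 ≤ LocCoh.idealDepth (J.map (algebraMap B L))
      (EGA4.FibMod A' L (LinearMap.ker (u.baseChange L))) :=
    (le_idealDepth_fibMod_of_flat (A := A') (B := L)
      (M := LinearMap.ker (u.baseChange L)) N hnil (J.map (algebraMap B L))).2 hK2
  have hE0fib : 1 ≤ LocCoh.idealDepth (J.map (algebraMap B L))
      (EGA4.FibMod A' L (L ⊗[B] E0)) :=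
    (le_idealDepth_fibMod_of_flat (A := A') (B := L)
      (M := L ⊗[B] E0) N hnil (J.map (algebraMap B L))).1
      (one_le_idealDepth_of_isReflexive _ (L ⊗[B] E0) hL1)
  -- exactness after base change
  have hexu : Function.Exact (u.baseChange L) (v.baseChange L) := by
    have := lTensor_exact L huv hv
    rw [LinearMap.baseChange_eq_ltensor, LinearMap.baseChange_eq_ltensor]
    exact this
  have hv' : Function.Surjective (v.baseChange L) := by
    rw [LinearMap.baseChange_eq_ltensor]
    exact LinearMap.lTensor_surjective L hv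
  -- flatness of `L ⊗ G` off `V(JL)`
  have hGU' : ∀ Q : PrimeSpectrum L, ¬ J.map (algebraMap B L) ≤ Q.asIdeal →
      FlatCA.FlatAt A' Q.asIdeal (L ⊗[B] G) := by
    intro Q hQ
    have hq : ¬ J ≤ Q.asIdeal.comap (algebraMap B L) :=
      fun hle => hQ (Ideal.map_le_iff_le_comap.mpr hle)
    haveI : (Q.asIdeal.comap (algebraMap B L)).IsPrime := Ideal.comap_isPrime _ _
    haveI : Q.asIdeal.LiesOver (Q.asIdeal.comap (algebraMap B L)) := ⟨rfl⟩
    haveI := hGU ⟨Q.asIdeal.comap (algebraMap B L), inferInstance⟩ hq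
    haveI := free_localization_baseChange Q.asIdeal (Q.asIdeal.comap (algebraMap B L)) G
    haveI : Module.Flat A' (Localization.AtPrime Q.asIdeal) := Module.Flat.trans A' L _
    exact Module.Flat.trans A' (Localization.AtPrime Q.asIdeal) _
  exact flat_coker_of_fibre_depth_ker (A := A') (B := L)
    (LinearMap.ker (u.baseChange L)).subtype (u.baseChange L) (v.baseChange L)
    (Submodule.injective_subtype _) (LinearMap.exact_subtype_ker_map _) hexu hv'
    (J.map (algebraMap B L)) hGU' hKfib hE0fib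

end Level

end Groth.Agent.Lib.Helper28.Inf
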