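import Mathlib

/-!
# Injective modules over Noetherian rings: `𝔞`-power torsion is injective, and extension of
"sections" (helper28)
-/

set_option autoImplicit false

universe u

namespace Groth.Agent.Lib.Helper28.InjFlasque

variable {R : Type u} [CommRing R] (𝔞 : Ideal R) {Q : Type u} [AddCommGroup Q] [Module R Q]

/-- the `𝔞`-power torsion submodule -/
def tors (Q : Type u) [AddCommGroup Q] [Module R Q] : Submodule R Q where
  carrier := {m | ∃ n : ℕ, ∀ c ∈ 𝔞 ^ n, c • m = 0}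
  add_mem' := by
    rintro x y ⟨n, hn⟩ ⟨k, hk⟩
    refine ⟨max n k, fun c hc => ?_⟩
    rw [smul_add, hn c (Ideal.pow_le_pow_right (le_max_left n k) hc),
      hk c (Ideal.pow_le_pow_right (le_max_right n k) hc), add_zero]
  zero_mem' := ⟨0, fun c _ => smul_zero c⟩
  smul_mem' := by
    rintro r x ⟨n, hn⟩
    exact ⟨n, fun c hc => by rw [smul_comm, hn c hc, smul_zero]⟩

theorem mem_tors {m : Q} : m ∈ tors 𝔞 Q ↔ ∃ n : ℕ, ∀ c ∈ 𝔞 ^ n, c • m = 0 := Iff.rfl

variable [IsNoetherianRing R]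

/-- a map from an ideal to the torsion has image killed by a uniform power -/
theorem exists_uniform_pow (b : Ideal R) (g : b →ₗ[R] tors 𝔞 Q) :
    ∃ K : ℕ, ∀ x : b, ∀ c ∈ 𝔞 ^ K, c • (g x : Q) = 0 := by
  classical
  obtain ⟨S, hS⟩ := (inferInstance : Module.Finite R b).fg_top
  have hex : ∀ x : b, ∃ n : ℕ, ∀ c ∈ 𝔞 ^ n, c • (g x : Q) = 0 := fun x => (g x).2
  choose k hk using hex
  refine ⟨S.sup k, fun x => ?_⟩
  have hx : x ∈ Submodule.span R (S : Set b) := by rw [hS]; exact Submodule.mem_top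
  induction hx using Submodule.span_induction with
  | mem y hy =>
    intro c hc
    exact hk y c (Ideal.pow_le_pow_right (Finset.le_sup hy) hc)
  | zero =>
    intro c _
    simp
  | add y z _ _ hy hz =>
    intro c hc
    rw [map_add, Submodule.coe_add, smul_add, hy c hc, hz c hc, add_zero]
  | smul r y _ hy =>
    intro c hc
    rw [map_smul, Submodule.coe_smul, smul_comm, hy c hc, smul_zero]

theorem tors_injective [Module.Injective R Q] : Module.Injective R (tors 𝔞 Q) := by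
  apply Module.Baer.injective
  intro b g
  obtain ⟨K, hK⟩ := exists_uniform_pow 𝔞 b g
  obtain ⟨k₀, hk₀⟩ := Ideal.exists_pow_inf_eq_pow_smul 𝔞 (b : Submodule R R)
  set n := k₀ + K with hn
  let g₁ : b →ₗ[R] Q := (tors 𝔞 Q).subtype ∘ₗ g
  -- `g₁` kills `b ∩ 𝔞^n`
  have hkill : ∀ (r : R) (hr : r ∈ b), r ∈ 𝔞 ^ n → g₁ ⟨r, hr⟩ = 0 := by
    intro r hr hrn
    have h1 : r ∈ (𝔞 ^ n • ⊤ ⊓ (b : Submodule R R) : Submodule R R) := by
      refine ⟨?_, hr⟩
      rw [smul_eq_mul, Ideal.mul_top]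
      exact hrn
    rw [hk₀ n (Nat.le_add_right _ _)] at h1
    have hnk : n - k₀ = K := by omega
    rw [hnk] at h1
    have h2 : (𝔞 ^ K • (𝔞 ^ k₀ • ⊤ ⊓ (b : Submodule R R)) : Submodule R R) ≤
        Submodule.map b.subtype (𝔞 ^ K • (⊤ : Submodule R b)) := by
      rw [Submodule.map_smul'', Submodule.map_subtype_top]
      exact Submodule.smul_mono le_rfl inf_le_right
    obtain ⟨w, hw, hwr⟩ := h2 h1
    have hwe : w = ⟨r, hr⟩ := Subtype.ext hwr
    have h3 : g₁ w ∈ Submodule.map g₁ (𝔞 ^ K • (⊤ : Submodule R b)) :=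
      Submodule.mem_map_of_mem hw
    rw [Submodule.map_smul''] at h3
    have h4 : (𝔞 ^ K • Submodule.map g₁ (⊤ : Submodule R b)) ≤ ⊥ := by
      rw [Submodule.smul_le]
      rintro c hc _ ⟨x, -, rfl⟩
      rw [Submodule.mem_bot]
      exact hK x c hc
    rw [← hwe]
    simpa using h4 h3
  -- pass to quotients
  let K' : Submodule R b := Submodule.comap b.subtype (𝔞 ^ n : Ideal R)
  have hK' : K' ≤ LinearMap.ker g₁ := by
    intro x hx
    rw [LinearMap.mem_ker]
    exact hkill x.1 x.2 hx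
  let gbar : (b ⧸ K') →ₗ[R] Q := K'.liftQ g₁ hK'
  let f : (b ⧸ K') →ₗ[R] (R ⧸ (𝔞 ^ n : Ideal R)) :=
    K'.mapQ (𝔞 ^ n : Ideal R) b.subtype le_rfl
  have hf : Function.Injective f := by
    rw [← LinearMap.ker_eq_bot, eq_bot_iff]
    intro x hx
    obtain ⟨y, rfl⟩ := Submodule.Quotient.mk_surjective _ x
    rw [LinearMap.mem_ker, Submodule.mapQ_apply, Submodule.Quotient.mk_eq_zero] at hx
    rw [Submodule.mem_bot, Submodule.Quotient.mk_eq_zero]
    exact hx
  obtain ⟨h, hh⟩ := Module.Injective.extension_property R Q _ _ f hf gbar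
  let x : Q := h (Submodule.Quotient.mk (1 : R))
  have hx : x ∈ tors 𝔞 Q := by
    refine ⟨n, fun c hc => ?_⟩
    change c • h (Submodule.Quotient.mk (1 : R)) = 0
    rw [← map_smul, ← Submodule.Quotient.mk_smul, smul_eq_mul, mul_one,
      (Submodule.Quotient.mk_eq_zero _).mpr hc, map_zero]
  refine ⟨LinearMap.toSpanSingleton R _ ⟨x, hx⟩, fun r hr => ?_⟩
  apply Subtype.ext
  rw [LinearMap.toSpanSingleton_apply]
  change r • h (Submodule.Quotient.mk (1 : R)) = g₁ ⟨r, hr⟩
  rw [← map_smul, ← Submodule.Quotient.mk_smul, smul_eq_mul, mul_one]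
  have h5 : (Submodule.Quotient.mk r : R ⧸ (𝔞 ^ n : Ideal R)) =
      f (Submodule.Quotient.mk ⟨r, hr⟩) := by
    rw [Submodule.mapQ_apply]
    rfl
  rw [h5]
  have h6 := LinearMap.congr_fun hh (Submodule.Quotient.mk ⟨r, hr⟩)
  rw [LinearMap.comp_apply] at h6
  rw [h6]
  rfl

omit [IsNoetherianRing R] in
/-- extension of a "section" `s` with `b • s ⊆ range ε`, when `Q` and `ker ε` are injective -/
theorem exists_extension {N : Type u} [AddCommGroup N] [Module R N] [Module.Injective R Q]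
    (ε : Q →ₗ[R] N) (hT : Module.Injective R (LinearMap.ker ε)) (b : Ideal R) (s : N)
    (hs : ∀ c ∈ b, c • s ∈ LinearMap.range ε) : ∃ t : Q, ∀ c ∈ b, c • ε t = c • s := by
  obtain ⟨ρ, hρ⟩ := Module.Injective.extension_property R (LinearMap.ker ε) _ _
    (LinearMap.ker ε).subtype (Submodule.subtype_injective _) LinearMap.id
  have hρ' : ∀ x (hx : x ∈ LinearMap.ker ε), ρ x = ⟨x, hx⟩ := fun x hx =>
    LinearMap.congr_fun hρ ⟨x, hx⟩
  let θ : Q →ₗ[R] Q := LinearMap.id - (LinearMap.ker ε).subtype ∘ₗ ρ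
  have hθker : ∀ x ∈ LinearMap.ker ε, θ x = 0 := by
    intro x hx
    change x - ((ρ x : LinearMap.ker ε) : Q) = 0
    rw [hρ' x hx, sub_self]
  have hεθ : ∀ x, ε (θ x) = ε x := by
    intro x
    change ε (x - ((ρ x : LinearMap.ker ε) : Q)) = ε x
    rw [map_sub, LinearMap.mem_ker.mp (ρ x).2, sub_zero]
  choose m hm using fun c : b => hs c.1 c.2
  let μ : b →ₗ[R] Q :=
    { toFun := fun c => θ (m c)
      map_add' := by
        intro c c'
        rw [← map_add, ← sub_eq_zero, ← map_sub]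
        apply hθker
        rw [LinearMap.mem_ker, map_sub, map_add, hm, hm, hm, Submodule.coe_add, add_smul, sub_self]
      map_smul' := by
        intro r c
        rw [RingHom.id_apply, ← map_smul, ← sub_eq_zero, ← map_sub]
        apply hθker
        rw [LinearMap.mem_ker, map_sub, map_smul, hm, hm, Submodule.coe_smul, smul_eq_mul, mul_smul,
          sub_self] }
  obtain ⟨h, hh⟩ := Module.Injective.extension_property R Q _ _ b.subtype
    (Submodule.subtype_injective _) μ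
  refine ⟨h 1, fun c hc => ?_⟩
  have h1 : c • h 1 = μ ⟨c, hc⟩ := by
    rw [← map_smul, smul_eq_mul, mul_one]
    exact LinearMap.congr_fun hh ⟨c, hc⟩
  rw [← map_smul, h1]
  change ε (θ (m ⟨c, hc⟩)) = _
  rw [hεθ, hm]

end Groth.Agent.Lib.Helper28.InjFlasque
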