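import Mathlib
import Groth.Agent.Lib.Helper28FinDescent
import Groth.Agent.Lib.Helper3FlatDescE

/-!
# Helper28: descent of flatness along an injective integral ring map (finitely presented case)

`flat_of_integral_injective`: `R → S` injective and integral, `M` a finitely presented module over
`R[x₁,…,xₙ]` with `S ⊗ M` flat over `S`; then `M` is flat over `R`.  Reduction to the Noetherian
finite case (`Helper28FinDescent`) via helper3's presented-module models and descent of flatness to
a finitely generated subalgebra (`exists_fg_subalgebra_flat_global`).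
-/

set_option autoImplicit false
open TensorProduct

namespace Groth.Agent.Lib.Helper28.IntDescent

universe u

open Groth.Agent.Lib.Helper3.FlatOpen Groth.Agent.Lib.Helper3.FlatDesc Groth.Agent.Lib.Helper3.FlatLoc

attribute [local instance] MvPolynomial.algebraMvPolynomial

section

variable {Λ : Type u} [CommRing Λ]
  {σ ι κ : Type} [Finite σ] [Fintype ι] [DecidableEq ι] [Fintype κ]
  (w : κ → ι → MvPolynomial σ Λ)

/-- base change of the model along `A → R`. -/
theorem flat_tensor_model {A R : Type u} [CommRing A] [CommRing R] [Algebra Λ A] [Algebra Λ R]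
    [Algebra A R] [IsScalarTower Λ A R]
    (h : Module.Flat R ((ι → MvPolynomial σ R) ⧸ KT w (MvPolynomial σ R))) :
    Module.Flat R (R ⊗[A] ((ι → MvPolynomial σ A) ⧸ KT w (MvPolynomial σ A))) := by
  haveI := isScalarTower_mvPolynomial (σ := σ) Λ A R
  have hb : IsBaseChange R ((Mmap w (MvPolynomial σ A) (MvPolynomial σ R)).restrictScalars A) :=
    isBaseChange_restrictScalars_of_isPushout _ (isBaseChange_Mmap w _ _)
  exact Module.Flat.of_linearEquiv hb.equiv

/-- the core: integral injective `R → S` of `Λ`-algebras (`Λ` Noetherian), model flat over `S`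
implies model flat over `R`. -/
theorem flat_model_of_integral_injective [IsNoetherianRing Λ] [Algebra.FiniteType ℤ Λ]
    {R S : Type u} [CommRing R] [CommRing S]
    [Algebra Λ R] [Algebra Λ S] [Algebra R S] [IsScalarTower Λ R S] [Algebra.IsIntegral R S]
    (hinj : Function.Injective (algebraMap R S))
    (hflatS : Module.Flat S ((ι → MvPolynomial σ S) ⧸ KT w (MvPolynomial σ S))) :
    Module.Flat R ((ι → MvPolynomial σ R) ⧸ KT w (MvPolynomial σ R)) := by
  classical
  obtain ⟨A'', hA''fg, -, hA''flat⟩ := exists_fg_subalgebra_flat_global w hflatS ∅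
  obtain ⟨G, hG⟩ := hA''fg
  have hint : ∀ s : S, IsIntegral R s := Algebra.IsIntegral.isIntegral
  choose p hpmonic hpeval using hint
  let Cf : Finset R := G.biUnion (fun s => (p s).coeffs)
  let R₀ : Subalgebra Λ R := Algebra.adjoin Λ (Cf : Set R)
  have hR₀fg : R₀.FG := ⟨Cf, rfl⟩
  haveI : Algebra.FiniteType Λ R₀ := (Subalgebra.fg_iff_finiteType R₀).mp hR₀fg
  haveI : Algebra.FiniteType ℤ R₀ := Algebra.FiniteType.trans (S := Λ) inferInstance inferInstance
  haveI : IsNoetherianRing R₀ := Algebra.FiniteType.isNoetherianRing ℤ R₀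
  haveI : IsScalarTower Λ R₀ S := IsScalarTower.of_algebraMap_eq (fun l => by
    rw [IsScalarTower.algebraMap_apply Λ R S]; rfl)
  -- integrality over R₀
  have hintG : ∀ s ∈ (G : Set S), IsIntegral R₀ s := by
    intro s hs
    have hlifts : p s ∈ Polynomial.lifts (algebraMap R₀ R) := by
      rw [Polynomial.lifts_iff_coeffs_subset_range]
      intro c hc
      have hcf : c ∈ (Cf : Set R) := by
        rw [Finset.mem_coe, Finset.mem_biUnion]
        exact ⟨s, hs, hc⟩
      exact ⟨⟨c, Algebra.subset_adjoin hcf⟩, rfl⟩
    obtain ⟨q, hq1, -, hq3⟩ := Polynomial.lifts_and_natDegree_eq_and_monic hlifts (hpmonic s)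
    refine ⟨q, hq3, ?_⟩
    have h2 : algebraMap R₀ S = (algebraMap R S).comp (algebraMap R₀ R) := rfl
    rw [h2, ← Polynomial.eval₂_map, hq1]
    exact hpeval s
  let S₀ : Subalgebra R₀ S := Algebra.adjoin R₀ (G : Set S)
  haveI : Module.Finite R₀ S₀ :=
    Algebra.finite_adjoin_of_finite_of_isIntegral G.finite_toSet hintG
  haveI : IsNoetherianRing S₀ := IsNoetherianRing.of_finite R₀ S₀
  haveI : IsScalarTower Λ R₀ S₀ := inferInstance
  have hle : ∀ x ∈ A'', x ∈ S₀ := by
    intro x hx
    rw [← hG] at hx
    induction hx using Algebra.adjoin_induction with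
    | mem x hx => exact Algebra.subset_adjoin hx
    | algebraMap l =>
      rw [IsScalarTower.algebraMap_apply Λ R₀ S]
      exact Subalgebra.algebraMap_mem _ _
    | add x y _ _ hx hy => exact add_mem hx hy
    | mul x y _ _ hx hy => exact mul_mem hx hy
  let ψ : A'' →ₐ[Λ] S₀ :=
    { toFun := fun x => ⟨x.1, hle x.1 x.2⟩
      map_one' := rfl
      map_mul' := fun _ _ => rfl
      map_zero' := rfl
      map_add' := fun _ _ => rfl
      commutes' := fun l => by
        apply Subtype.ext
        rfl }
  have hS₀flat := flat_model_of_algHom w ψ hA''flat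
  haveI := flat_tensor_model w (A := R₀) (R := S₀) hS₀flat
  have hinj₀ : Function.Injective (algebraMap R₀ S₀) := by
    intro a b hab
    apply Subtype.ext
    apply hinj
    exact congrArg Subtype.val hab
  have hR₀flat : Module.Flat R₀ ((ι → MvPolynomial σ R₀) ⧸ KT w (MvPolynomial σ R₀)) :=
    FinDescent.flat_of_finite_injective hinj₀ _
  exact flat_model_of_algHom w R₀.val hR₀flat

end

/-- **Descent of flatness along an injective integral ring map**, for finitely presented modules
over a polynomial ring. -/
theorem flat_of_integral_injective (R S : Type u) [CommRing R] [CommRing S] [Algebra R S]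
    [Algebra.IsIntegral R S] (hinj : Function.Injective (algebraMap R S)) (n : ℕ)
    (M : Type u) [AddCommGroup M] [Module (MvPolynomial (Fin n) R) M] [Module R M]
    [IsScalarTower R (MvPolynomial (Fin n) R) M]
    [Module.FinitePresentation (MvPolynomial (Fin n) R) M]
    [Module.Flat S (S ⊗[R] M)] : Module.Flat R M := by
  obtain ⟨n', k, m, Λ, hΛ, w, hT⟩ := exists_model_tensor R (MvPolynomial (Fin n) R) M
  haveI : Algebra.FiniteType ℤ Λ := (Subalgebra.fg_iff_finiteType Λ).mp hΛ
  haveI : IsNoetherianRing Λ := Algebra.FiniteType.isNoetherianRing ℤ Λ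
  obtain ⟨eS⟩ := hT S
  have hflatS : Module.Flat S ((Fin k → MvPolynomial (Fin n') S) ⧸
      KT w (MvPolynomial (Fin n') S)) := Module.Flat.of_linearEquiv eS.symm
  have hR := flat_model_of_integral_injective w hinj hflatS
  obtain ⟨eR⟩ := hT R
  haveI : Module.Flat R (R ⊗[R] M) := Module.Flat.of_linearEquiv eR
  exact Module.Flat.of_linearEquiv (TensorProduct.lid R M).symm

end Groth.Agent.Lib.Helper28.IntDescent
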