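import Groth.Agent.Lib.Helper14Japanese
import Mathlib.FieldTheory.Galois.Basic
import Mathlib.FieldTheory.PurelyInseparable.Basic
import Mathlib.FieldTheory.Normal.Closure
import Mathlib.FieldTheory.IsAlgClosed.AlgebraicClosure

/-!
# Japanese rings: reduction to the purely inseparable case (helper4)

* `isPurelyInseparable_fixedField_top`: for `M/K` normal, the fixed field of `Aut(M/K)` is purely
  inseparable over `K`.
* `finite_integralClosure_of_separable_tower`, `finite_integralClosure_of_normal`,
  `finite_integralClosure_of_injective`.
* `finite_integralClosure_of_purelyInseparable`: a Noetherian domain `A` with fraction field `K` has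
  finite integral closure in every finite extension of `K` as soon as it has in the finite purely
  inseparable ones (Stacks 0333 / EGA 0_IV 23.1.2).
-/

set_option autoImplicit false
set_option linter.style.haveILetI false
universe u

namespace Groth.Agent.Lib.Helper4.Japanese

open CAlg Groth.Agent.Lib.Helper14 IntermediateField Polynomial

/-- The fixed field of the full automorphism group of a finite normal extension `M/K` is purely
inseparable over `K`. -/
theorem isPurelyInseparable_fixedField_top (K M : Type*) [Field K] [Field M] [Algebra K M]
    [Normal K M] :
    IsPurelyInseparable K (fixedField (⊤ : Subgroup (M ≃ₐ[K] M))) := by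
  classical
  rw [isPurelyInseparable_iff_natSepDegree_eq_one]
  intro x
  have hmin : minpoly K x = minpoly K (x : M) := (IntermediateField.minpoly_eq x)
  rw [hmin]
  have hsplit : ((minpoly K (x : M)).map (algebraMap K M)).Splits := Normal.splits inferInstance _
  rw [natSepDegree_eq_of_splits _ hsplit]
  have halg : IsAlgebraic K (x : M) := (Normal.isIntegral (F := K) (K := M) inferInstance _).isAlgebraic
  have hroots : ((minpoly K (x : M)).aroots M).toFinset = {(x : M)} := by
    ext y
    simp only [Multiset.mem_toFinset, Finset.mem_singleton]
    constructor
    · intro hy
      rw [mem_aroots] at hy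
      obtain ⟨σ, hσ⟩ := minpoly.exists_algEquiv_of_root' halg hy.2
      rw [← hσ]
      exact x.2 ⟨σ, Subgroup.mem_top σ⟩
    · rintro rfl
      rw [mem_aroots]
      exact ⟨minpoly.ne_zero halg.isIntegral, minpoly.aeval K _⟩
  rw [hroots, Finset.card_singleton]

theorem finite_integralClosure_of_separable_tower (A F M : Type*) [CommRing A] [IsDomain A]
    [IsNoetherianRing A] [Field F] [Field M] [Algebra A F] [Algebra F M] [Algebra A M]
    [IsScalarTower A F M] [FiniteDimensional F M] [Algebra.IsSeparable F M]
    (hF : Module.Finite A (integralClosure A F))
    (hfr : IsFractionRing (integralClosure A F) F)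
    (hic : IsIntegrallyClosed (integralClosure A F)) :
    Module.Finite A (integralClosure A M) := by
  let B := integralClosure A F
  haveI : Module.Finite A B := hF
  haveI : IsNoetherian A B := isNoetherian_of_isNoetherianRing_of_finite A B
  haveI : IsNoetherianRing B := isNoetherianRing_iff.mpr (isNoetherian_of_tower A inferInstance)
  haveI : IsFractionRing B F := hfr
  haveI : IsIntegrallyClosed B := hic
  have h1 : Module.Finite B (integralClosure B M) :=
    IsIntegralClosure.finite B F M (integralClosure B M)
  exact finite_integralClosure_of_finite_tower A B M h1

/-- Lemma A: reduction to the purely inseparable case, for a finite normal extension. -/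
theorem finite_integralClosure_of_normal
    (A : Type u) [CommRing A] [IsDomain A] [IsNoetherianRing A] (K : Type u) [Field K]
    [Algebra A K] [IsFractionRing A K]
    (h : ∀ (K' : Type u) [Field K'] [Algebra A K'] [Algebra K K'] [IsScalarTower A K K'],
      FiniteDimensional K K' → IsPurelyInseparable K K' → Module.Finite A (integralClosure A K'))
    (M : Type u) [Field M] [Algebra A M] [Algebra K M] [IsScalarTower A K M]
    [FiniteDimensional K M] [Normal K M] : Module.Finite A (integralClosure A M) := by
  let F : IntermediateField K M := fixedField (⊤ : Subgroup (M ≃ₐ[K] M))
  haveI hpi : IsPurelyInseparable K F := isPurelyInseparable_fixedField_top K M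
  haveI hgal : IsGalois F M := IsGalois.of_fixed_field M (⊤ : Subgroup (M ≃ₐ[K] M))
  haveI : IsScalarTower A K F := inferInstance
  have hF : Module.Finite A (integralClosure A F) := h F inferInstance hpi
  haveI : IsScalarTower A F M := IsScalarTower.of_algebraMap_eq fun a => by
    rfl
  exact finite_integralClosure_of_separable_tower A F M hF
    (integralClosure.isFractionRing_of_finite_extension K F)
    (integralClosure.isIntegrallyClosedOfFiniteExtension K (L := F))

/-- Finiteness of integral closure passes to a subextension (Noetherian base). -/
theorem finite_integralClosure_of_injective (A L M : Type*) [CommRing A] [IsNoetherianRing A]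
    [CommRing L] [CommRing M] [Algebra A L] [Algebra A M] (f : L →ₐ[A] M)
    (hf : Function.Injective f) (hM : Module.Finite A (integralClosure A M)) :
    Module.Finite A (integralClosure A L) := by
  haveI : IsNoetherian A (integralClosure A M) := isNoetherian_of_isNoetherianRing_of_finite A _
  refine Module.Finite.of_injective (f.mapIntegralClosure).toLinearMap ?_
  intro x y hxy
  apply Subtype.ext
  apply hf
  exact congrArg Subtype.val hxy

theorem finite_integralClosure_of_purelyInseparable
    (A : Type u) [CommRing A] [IsDomain A] [IsNoetherianRing A] (K : Type u) [Field K]
    [Algebra A K] [IsFractionRing A K]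
    (h : ∀ (K' : Type u) [Field K'] [Algebra A K'] [Algebra K K'] [IsScalarTower A K K'],
      FiniteDimensional K K' → IsPurelyInseparable K K' → Module.Finite A (integralClosure A K'))
    (L : Type u) [Field L] [Algebra A L] [Algebra K L] [IsScalarTower A K L]
    [FiniteDimensional K L] : Module.Finite A (integralClosure A L) := by
  let Ω := AlgebraicClosure L
  haveI : Algebra.IsAlgebraic K L := Algebra.IsAlgebraic.of_finite K L
  haveI : Algebra.IsAlgebraic K Ω := Algebra.IsAlgebraic.trans K L Ω
  haveI : IsAlgClosure K Ω := ⟨inferInstance, inferInstance⟩
  haveI : Normal K Ω := IsAlgClosure.normal K Ω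
  let M : IntermediateField K Ω := normalClosure K L Ω
  haveI : IsScalarTower A K M := inferInstance
  have hM : Module.Finite A (integralClosure A M) := finite_integralClosure_of_normal A K h M
  let f : L →ₐ[A] M := (IsScalarTower.toAlgHom K L M).restrictScalars A
  exact finite_integralClosure_of_injective A L M f (RingHom.injective _) hM

end Groth.Agent.Lib.Helper4.Japanese
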