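import Mathlib
import Groth.Prelude.Def_Found
import Groth.Agent.Lib.Helper4TotalFrac
import Groth.Agent.Lib.Helper4Japanese
import Groth.Agent.Lib.Helper14Japanese

set_option autoImplicit false
set_option linter.style.haveILetI false
universe u

namespace Groth.Agent.Lib.Helper7.Stab

open TensorProduct Groth CAlg

/-- going down: minimal primes contract to minimal primes -/
theorem under_mem_minimalPrimes {R S : Type*} [CommRing R] [CommRing S] [Algebra R S]
    [Algebra.HasGoingDown R S] {P : Ideal S} (hP : P ∈ minimalPrimes S) :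
    P.under R ∈ minimalPrimes R := by
  haveI : P.IsPrime := hP.1.1
  refine ⟨⟨inferInstance, bot_le⟩, ?_⟩
  rintro q ⟨hq, -⟩ hqle
  haveI := hq
  obtain ⟨P', hP'le, hP'prime, hP'over⟩ :=
    Ideal.exists_ideal_le_liesOver_of_le (p := q) (q := P.under R) P hqle
  have h1 : P ≤ P' := hP.2 ⟨hP'prime, bot_le⟩ hP'le
  have hPP' : P' = P := le_antisymm hP'le h1
  rw [hP'over.over, hPP']

section LemmaG

variable {R₀ T : Type u} [CommRing R₀] [IsNoetherianRing R₀] [CommRing T] [Algebra R₀ T]

instance (P : minimalPrimes T) : P.1.IsPrime := P.2.1.1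

/-- The integral closure of a Noetherian ring `R₀` in `T_red` is finite as soon as `T` has finitely
many minimal primes `P` and the integral closures in the `Frac (T/P)` are finite. -/
theorem finite_integralClosure_red (hfin : (minimalPrimes T).Finite)
    (h : ∀ P : minimalPrimes T, Module.Finite R₀ (integralClosure R₀ (FractionRing (T ⧸ P.1)))) :
    Module.Finite R₀ (integralClosure R₀ (T ⧸ nilradical T)) := by
  haveI : Finite (minimalPrimes T) := hfin
  let Φ₀ : T →ₐ[R₀] (∀ P : minimalPrimes T, FractionRing (T ⧸ P.1)) :=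
    AlgHom.pi (fun P => (IsScalarTower.toAlgHom R₀ (T ⧸ P.1) (FractionRing (T ⧸ P.1))).comp
      (Ideal.Quotient.mkₐ R₀ P.1))
  have hker : ∀ x : T, Φ₀ x = 0 ↔ x ∈ nilradical T := by
    intro x
    rw [nilradical, ← Ideal.sInf_minimalPrimes, Ideal.mem_sInf]
    constructor
    · intro hx P hP
      have h1 : Φ₀ x ⟨P, hP⟩ = 0 := by rw [hx]; rfl
      have h2 : algebraMap (T ⧸ P) (FractionRing (T ⧸ P)) (Ideal.Quotient.mk P x) = 0 := h1
      haveI : P.IsPrime := hP.1.1
      have h3 := (IsFractionRing.injective (T ⧸ P) (FractionRing (T ⧸ P))) (h2.trans (map_zero _).symm)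
      exact Ideal.Quotient.eq_zero_iff_mem.mp h3
    · intro hx
      funext P
      show algebraMap (T ⧸ P.1) (FractionRing (T ⧸ P.1)) (Ideal.Quotient.mk P.1 x) = 0
      rw [Ideal.Quotient.eq_zero_iff_mem.mpr (hx P.2), map_zero]
  let Φ : (T ⧸ nilradical T) →ₐ[R₀] (∀ P : minimalPrimes T, FractionRing (T ⧸ P.1)) :=
    Ideal.Quotient.liftₐ (nilradical T) Φ₀ (fun x hx => (hker x).mpr hx)
  have hΦ : Function.Injective Φ := by
    rw [injective_iff_map_eq_zero]
    intro y hy
    obtain ⟨x, rfl⟩ := Ideal.Quotient.mk_surjective y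
    have : Φ₀ x = 0 := hy
    exact Ideal.Quotient.eq_zero_iff_mem.mpr ((hker x).mp this)
  haveI : ∀ P : minimalPrimes T, Module.Finite R₀ (integralClosure R₀ (FractionRing (T ⧸ P.1))) := h
  haveI : Module.Finite R₀
      (integralClosure R₀ (∀ P : minimalPrimes T, FractionRing (T ⧸ P.1))) :=
    Module.Finite.equiv (Groth.Agent.Lib.Helper4.TotalFrac.integralClosurePiEquiv R₀
      (fun P : minimalPrimes T => FractionRing (T ⧸ P.1))).symm.toLinearEquiv
  exact Groth.Agent.Lib.Helper4.Japanese.finite_integralClosure_of_injective R₀ _ _ Φ hΦ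
    inferInstance

end LemmaG


section FinDim

variable {A : Type u} [CommRing A] [IsDomain A]
  {K' : Type u} [Field K'] [Algebra A K'] [Algebra (FractionRing A) K']
  [IsScalarTower A (FractionRing A) K'] [FiniteDimensional (FractionRing A) K']
  {D : Type u} [CommRing D] [IsDomain D] [Algebra A D]
  {L : Type u} [Field L] [Algebra D L] [Algebra A L] [IsScalarTower A D L]
  [Algebra (FractionRing D) L] [IsScalarTower D (FractionRing D) L]

/-- A field generated over `Frac D` by the image of a finite extension `K'` of `Frac A` is finite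
over `Frac D`. -/
theorem finiteDimensional_fractionRing_of_generated
    (hAD : Function.Injective (algebraMap A D)) (ι : K' →ₐ[A] L)
    (hgen : ∀ E : Subfield L, (∀ d : D, algebraMap D L d ∈ E) → (∀ k : K', ι k ∈ E) → E = ⊤) :
    FiniteDimensional (FractionRing D) L := by
  classical
  haveI : IsScalarTower A (FractionRing D) L := IsScalarTower.of_algebraMap_eq fun a => by
    rw [IsScalarTower.algebraMap_apply A D L, IsScalarTower.algebraMap_apply D (FractionRing D) L,
      ← IsScalarTower.algebraMap_apply A D (FractionRing D)]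
  have hAF : ∀ a : A, a ≠ 0 → algebraMap A (FractionRing D) a ≠ 0 := by
    intro a ha h0
    rw [IsScalarTower.algebraMap_apply A D (FractionRing D)] at h0
    have h1 := (IsFractionRing.injective D (FractionRing D)) (h0.trans (map_zero _).symm)
    exact ha (hAD (h1.trans (map_zero _).symm))
  let bs := Module.finBasis (FractionRing A) K'
  let E : IntermediateField (FractionRing D) L :=
    IntermediateField.adjoin (FractionRing D) (Set.range fun i => ι (bs i))
  -- integrality of the generators
  have hint : ∀ i, IsIntegral (FractionRing D) (ι (bs i)) := by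
    intro i
    have h1 : IsIntegral (FractionRing A) (bs i) := Algebra.IsIntegral.isIntegral _
    obtain ⟨m, hm⟩ :=
      IsIntegral.exists_multiple_integral_of_isLocalization (nonZeroDivisors A) (bs i) h1
    have h2 : IsIntegral A (ι (m • bs i)) := hm.map ι
    have h3 : IsIntegral (FractionRing D) (ι (m • bs i)) := h2.tower_top
    have hm0 : algebraMap A (FractionRing D) (m : A) ≠ 0 := hAF _ (nonZeroDivisors.ne_zero m.2)
    have h4 : ι (bs i) = algebraMap (FractionRing D) L (algebraMap A (FractionRing D) (m : A))⁻¹ *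
        ι (m • bs i) := by
      rw [Submonoid.smul_def, map_smul, Algebra.smul_def,
        IsScalarTower.algebraMap_apply A (FractionRing D) L, ← mul_assoc, ← map_mul,
        inv_mul_cancel₀ hm0, map_one, one_mul]
    rw [h4]
    exact isIntegral_algebraMap.mul h3
  haveI : FiniteDimensional (FractionRing D) E := by
    apply IntermediateField.finiteDimensional_adjoin
    rintro _ ⟨i, rfl⟩
    exact hint i
  have hbsE : ∀ i, ι (bs i) ∈ E := fun i => IntermediateField.subset_adjoin _ _ ⟨i, rfl⟩
  have hsmul : ∀ (κ : FractionRing A) (b : K'), ι b ∈ E → ι (κ • b) ∈ E := by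
    intro κ b hb
    obtain ⟨a, d, rfl⟩ := IsLocalization.exists_mk'_eq (nonZeroDivisors A) κ
    have hd0 : algebraMap A (FractionRing D) (d : A) ≠ 0 := hAF _ (nonZeroDivisors.ne_zero d.2)
    have h1 : (d : A) • (IsLocalization.mk' (FractionRing A) a d • b) = a • b := by
      rw [← smul_assoc, Algebra.smul_def (d : A), mul_comm, IsLocalization.mk'_spec,
        algebraMap_smul]
    have h2 : algebraMap A L (d : A) * ι (IsLocalization.mk' (FractionRing A) a d • b) =
        algebraMap A L a * ι b := by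
      rw [← Algebra.smul_def, ← map_smul, h1, map_smul, Algebra.smul_def]
    have h3 : ι (IsLocalization.mk' (FractionRing A) a d • b) =
        algebraMap (FractionRing D) L (algebraMap A (FractionRing D) (d : A))⁻¹ *
          (algebraMap (FractionRing D) L (algebraMap A (FractionRing D) a) * ι b) := by
      rw [← IsScalarTower.algebraMap_apply A (FractionRing D) L a, ← h2,
        IsScalarTower.algebraMap_apply A (FractionRing D) L (d : A), ← mul_assoc, ← map_mul,
        inv_mul_cancel₀ hd0, map_one, one_mul]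
    rw [h3]
    exact E.mul_mem (E.algebraMap_mem _) (E.mul_mem (E.algebraMap_mem _) hb)
  have hE : E.toSubfield = ⊤ := by
    apply hgen
    · intro d
      rw [IsScalarTower.algebraMap_apply D (FractionRing D) L]
      exact E.algebraMap_mem _
    · intro k
      rw [← bs.sum_repr k, map_sum]
      exact E.toSubfield.sum_mem (fun i _ => hsmul _ _ (hbsE i))
  have hEtop : E = ⊤ := by
    apply IntermediateField.toSubfield_injective
    rw [hE]; rfl
  rw [hEtop] at this
  exact (IntermediateField.topEquiv (F := FractionRing D) (E := L)).toLinearEquiv.finiteDimensional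

end FinDim


section Fibre

variable {A B K' : Type u} [CommRing A] [IsDomain A] [CommRing B] [Algebra A B]
  [IsNoetherianRing B] [Module.Flat A B] [Field K'] [Algebra A K'] [Algebra (FractionRing A) K']
  [IsScalarTower A (FractionRing A) K'] [FiniteDimensional (FractionRing A) K']

omit [IsNoetherianRing B] [Module.Flat A B] [FiniteDimensional (FractionRing A) K'] in
theorem flat_K' : Module.Flat A K' :=
  haveI : Module.Flat A (FractionRing A) := IsLocalization.flat _ (nonZeroDivisors A)
  Module.Flat.trans A (FractionRing A) K'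

omit [IsNoetherianRing B] in
theorem algebraMap_mem_nonZeroDivisors {a : A} (ha : a ≠ 0) :
    algebraMap A B a ∈ nonZeroDivisors B := by
  have hreg : IsSMulRegular B a :=
    Module.Flat.isSMulRegular_of_nonZeroDivisors (mem_nonZeroDivisors_of_ne_zero ha)
  rw [mem_nonZeroDivisors_iff_right]
  intro x hx
  apply hreg
  show a • x = a • 0
  rw [smul_zero, Algebra.smul_def, mul_comm]
  exact hx

theorem finite_integralClosure_fractionRing_quotient
    (hJ : ∀ (q : Ideal B) [q.IsPrime], q ∈ minimalPrimes B → CAlg.IsN2 (B ⧸ q))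
    (P : Ideal (B ⊗[A] K')) (hP : P ∈ minimalPrimes (B ⊗[A] K')) [P.IsPrime] :
    Module.Finite B (integralClosure B (FractionRing ((B ⊗[A] K') ⧸ P))) := by
  haveI : Module.Flat A K' := flat_K'
  have hq : P.under B ∈ minimalPrimes B := under_mem_minimalPrimes hP
  haveI : (P.under B).IsPrime := hq.1.1
  have hAD : Function.Injective (algebraMap A (B ⧸ P.under B)) := by
    rw [injective_iff_map_eq_zero]
    intro a ha
    by_contra ha0
    have h1 : algebraMap A B a ∈ P.under B := by
      rw [IsScalarTower.algebraMap_apply A B (B ⧸ P.under B)] at ha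
      exact Ideal.Quotient.eq_zero_iff_mem.mp ha
    exact Set.disjoint_left.mp (Ideal.disjoint_nonZeroDivisors_of_mem_minimalPrimes hq) h1
      (algebraMap_mem_nonZeroDivisors ha0)
  -- the field `L` and its structure over `B ⧸ q`
  haveI : IsScalarTower A (B ⧸ P.under B) (FractionRing ((B ⊗[A] K') ⧸ P)) :=
    IsScalarTower.of_algebraMap_eq fun a => rfl
  have hinjL : Function.Injective
      (algebraMap (B ⧸ P.under B) (FractionRing ((B ⊗[A] K') ⧸ P))) := by
    rw [IsScalarTower.algebraMap_eq (B ⧸ P.under B) ((B ⊗[A] K') ⧸ P)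
      (FractionRing ((B ⊗[A] K') ⧸ P))]
    exact (IsFractionRing.injective ((B ⊗[A] K') ⧸ P) (FractionRing ((B ⊗[A] K') ⧸ P))).comp
      (FaithfulSMul.algebraMap_injective (B ⧸ P.under B) ((B ⊗[A] K') ⧸ P))
  haveI : FaithfulSMul (B ⧸ P.under B) (FractionRing ((B ⊗[A] K') ⧸ P)) :=
    (faithfulSMul_iff_algebraMap_injective _ _).mpr hinjL
  letI : Algebra (FractionRing (B ⧸ P.under B)) (FractionRing ((B ⊗[A] K') ⧸ P)) :=
    FractionRing.liftAlgebra (B ⧸ P.under B) (FractionRing ((B ⊗[A] K') ⧸ P))
  haveI : IsScalarTower (B ⧸ P.under B) (FractionRing (B ⧸ P.under B))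
      (FractionRing ((B ⊗[A] K') ⧸ P)) :=
    FractionRing.isScalarTower_liftAlgebra _ _
  let ι : K' →ₐ[A] FractionRing ((B ⊗[A] K') ⧸ P) :=
    (IsScalarTower.toAlgHom A ((B ⊗[A] K') ⧸ P) (FractionRing ((B ⊗[A] K') ⧸ P))).comp
      ((Ideal.Quotient.mkₐ A P).comp Algebra.TensorProduct.includeRight)
  haveI : FiniteDimensional (FractionRing (B ⧸ P.under B)) (FractionRing ((B ⊗[A] K') ⧸ P)) := by
    refine finiteDimensional_fractionRing_of_generated hAD ι ?_
    intro E hD hK
    rw [eq_top_iff]
    intro z _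
    have hT : ∀ t : B ⊗[A] K', algebraMap ((B ⊗[A] K') ⧸ P) (FractionRing ((B ⊗[A] K') ⧸ P))
        (Ideal.Quotient.mk P t) ∈ E := by
      intro t
      induction t using TensorProduct.induction_on with
      | zero => simp
      | tmul b k =>
        have h1 : (b ⊗ₜ[A] k : B ⊗[A] K') = (b ⊗ₜ[A] (1 : K')) * ((1 : B) ⊗ₜ[A] k) := by
          rw [Algebra.TensorProduct.tmul_mul_tmul, mul_one, one_mul]
        rw [h1, map_mul, map_mul]
        refine E.mul_mem ?_ ?_
        · exact hD (Ideal.Quotient.mk (P.under B) b)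
        · exact hK k
      | add x y hx hy => rw [map_add, map_add]; exact E.add_mem hx hy
    obtain ⟨x, y, -, rfl⟩ := IsFractionRing.div_surjective (A := (B ⊗[A] K') ⧸ P) z
    obtain ⟨x, rfl⟩ := Ideal.Quotient.mk_surjective x
    obtain ⟨y, rfl⟩ := Ideal.Quotient.mk_surjective y
    exact E.div_mem (hT x) (hT y)
  have hfin1 : Module.Finite (B ⧸ P.under B)
      (integralClosure (B ⧸ P.under B) (FractionRing ((B ⊗[A] K') ⧸ P))) :=
    hJ (P.under B) hq (FractionRing ((B ⊗[A] K') ⧸ P)) inferInstance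
  haveI : IsScalarTower B (B ⧸ P.under B) (FractionRing ((B ⊗[A] K') ⧸ P)) :=
    IsScalarTower.of_algebraMap_eq fun a => rfl
  haveI : Module.Finite B
      (integralClosure (B ⧸ P.under B) (FractionRing ((B ⊗[A] K') ⧸ P))) :=
    Module.Finite.trans (B ⧸ P.under B) _
  haveI : IsNoetherian B (integralClosure (B ⧸ P.under B) (FractionRing ((B ⊗[A] K') ⧸ P))) :=
    isNoetherian_of_isNoetherianRing_of_finite B _
  let g : integralClosure B (FractionRing ((B ⊗[A] K') ⧸ P)) →ₗ[B]
      integralClosure (B ⧸ P.under B) (FractionRing ((B ⊗[A] K') ⧸ P)) :=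
    { toFun := fun x => ⟨x.1, x.2.tower_top⟩
      map_add' := fun x y => rfl
      map_smul' := fun b x => rfl }
  refine Module.Finite.of_injective g ?_
  intro x y hxy
  have h1 : ((g x : integralClosure (B ⧸ P.under B) (FractionRing ((B ⊗[A] K') ⧸ P))) :
      FractionRing ((B ⊗[A] K') ⧸ P)) = (g y : _) := congrArg Subtype.val hxy
  exact Subtype.ext h1

omit [Module.Flat A B] in
theorem isNoetherianRing_tensor : IsNoetherianRing (B ⊗[A] K') := by
  classical
  haveI : IsNoetherianRing (B ⊗[A] FractionRing A) :=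
    IsLocalization.isNoetherianRing (Algebra.algebraMapSubmonoid B (nonZeroDivisors A)) _ inferInstance
  let f : B ⊗[A] FractionRing A →+* B ⊗[A] K' :=
    (Algebra.TensorProduct.map (AlgHom.id A B) (IsScalarTower.toAlgHom A (FractionRing A) K')).toRingHom
  letI : Algebra (B ⊗[A] FractionRing A) (B ⊗[A] K') := f.toAlgebra
  have hf : ∀ (b : B) (κ : FractionRing A),
      algebraMap (B ⊗[A] FractionRing A) (B ⊗[A] K') (b ⊗ₜ κ) = b ⊗ₜ (algebraMap (FractionRing A) K' κ) := by
    intro b κ
    rfl
  let bs := Module.finBasis (FractionRing A) K'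
  haveI : Module.Finite (B ⊗[A] FractionRing A) (B ⊗[A] K') := by
    refine ⟨⟨Finset.univ.image (fun i => (1 : B) ⊗ₜ[A] bs i), ?_⟩⟩
    rw [eq_top_iff]
    intro t _
    have hsm : ∀ (b : B) (κ : FractionRing A) (i),
        (b ⊗ₜ[A] κ : B ⊗[A] FractionRing A) • ((1 : B) ⊗ₜ[A] bs i : B ⊗[A] K') =
          b ⊗ₜ[A] (κ • bs i) := by
      intro b κ i
      rw [Algebra.smul_def, hf, Algebra.TensorProduct.tmul_mul_tmul, mul_one, ← Algebra.smul_def]
    have key : ∀ t : B ⊗[A] K', t ∈ Submodule.span (B ⊗[A] FractionRing A)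
        ((Finset.univ.image (fun i => (1 : B) ⊗ₜ[A] bs i) : Finset (B ⊗[A] K')) : Set (B ⊗[A] K')) := by
      intro t
      induction t using TensorProduct.induction_on with
      | zero => exact Submodule.zero_mem _
      | add x y hx hy => exact Submodule.add_mem _ hx hy
      | tmul b k =>
        have h1 : (b ⊗ₜ[A] k : B ⊗[A] K') =
            ∑ i, (b ⊗ₜ[A] (bs.repr k i) : B ⊗[A] FractionRing A) • ((1 : B) ⊗ₜ[A] bs i) := by
          conv_lhs => rw [← bs.sum_repr k, TensorProduct.tmul_sum]
          exact Finset.sum_congr rfl (fun i _ => (hsm b _ i).symm)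
        rw [h1]
        refine Submodule.sum_mem _ (fun i _ => Submodule.smul_mem _ _ (Submodule.subset_span ?_))
        exact Finset.mem_coe.mpr (Finset.mem_image_of_mem _ (Finset.mem_univ i))
    exact key t
  exact IsNoetherianRing.of_finite (B ⊗[A] FractionRing A) (B ⊗[A] K')

section Maps

omit [IsDomain A] [IsNoetherianRing B] [Module.Flat A B] [IsScalarTower A (FractionRing A) K']
  [FiniteDimensional (FractionRing A) K'] [Algebra (FractionRing A) K'] in
/-- the map `C ⊗ B → B ⊗ K'` -/
noncomputable def jmap (C : Subalgebra A K') : ↥C ⊗[A] B →ₐ[A] B ⊗[A] K' :=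
  (Algebra.TensorProduct.map (AlgHom.id A B) C.val).comp
    (Algebra.TensorProduct.comm A C B).toAlgHom

omit [IsDomain A] [IsNoetherianRing B] [Module.Flat A B] [IsScalarTower A (FractionRing A) K']
  [FiniteDimensional (FractionRing A) K'] [Algebra (FractionRing A) K'] in
@[simp] theorem jmap_tmul (C : Subalgebra A K') (c : C) (b : B) :
    jmap (B := B) C (c ⊗ₜ[A] b) = b ⊗ₜ[A] (c : K') := by
  simp [jmap]

omit [IsDomain A] [IsNoetherianRing B] [IsScalarTower A (FractionRing A) K']
  [FiniteDimensional (FractionRing A) K'] [Algebra (FractionRing A) K'] in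
theorem jmap_injective (C : Subalgebra A K') : Function.Injective (jmap (B := B) C) := by
  have h1 : Function.Injective (LinearMap.lTensor B C.val.toLinearMap) :=
    Module.Flat.lTensor_preserves_injective_linearMap _ Subtype.val_injective
  have h2 : ∀ y, Algebra.TensorProduct.map (AlgHom.id A B) C.val y =
      LinearMap.lTensor B C.val.toLinearMap y := by
    intro y
    induction y using TensorProduct.induction_on with
    | zero => simp
    | tmul b c => simp
    | add x y hx hy => rw [map_add, map_add, hx, hy]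
  intro x y hxy
  apply (Algebra.TensorProduct.comm A C B).injective
  apply h1
  rw [← h2, ← h2]
  exact hxy

omit [IsDomain A] [IsNoetherianRing B] [Module.Flat A B] [IsScalarTower A (FractionRing A) K']
  [FiniteDimensional (FractionRing A) K'] [Algebra (FractionRing A) K'] in
theorem jmap_inclusion {C C' : Subalgebra A K'} (h : C ≤ C') (x : ↥C ⊗[A] B) :
    jmap C' (Algebra.TensorProduct.map (Subalgebra.inclusion h) (AlgHom.id A B) x) = jmap C x := by
  induction x using TensorProduct.induction_on with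
  | zero => simp
  | tmul c b => simp
  | add x y hx hy => rw [map_add, map_add, map_add, hx, hy]


omit [IsDomain A] [IsNoetherianRing B] [Module.Flat A B] [IsScalarTower A (FractionRing A) K']
  [FiniteDimensional (FractionRing A) K'] [Algebra (FractionRing A) K'] in
/-- the image of `C ⊗ B` in `(B ⊗ K')_red`, as a `B`-submodule -/
noncomputable def Mred (C : Subalgebra A K') :
    Submodule B ((B ⊗[A] K') ⧸ nilradical (B ⊗[A] K')) :=
  Submodule.span B (Set.range fun c : C =>
    Ideal.Quotient.mk (nilradical (B ⊗[A] K')) ((1 : B) ⊗ₜ[A] (c : K')))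

omit [IsDomain A] [IsNoetherianRing B] [Module.Flat A B] [IsScalarTower A (FractionRing A) K']
  [FiniteDimensional (FractionRing A) K'] [Algebra (FractionRing A) K'] in
theorem mk_jmap_mem (C : Subalgebra A K') (y : ↥C ⊗[A] B) :
    Ideal.Quotient.mk (nilradical (B ⊗[A] K')) (jmap C y) ∈ Mred (B := B) C := by
  induction y using TensorProduct.induction_on with
  | zero => simp
  | tmul c b =>
    rw [jmap_tmul]
    have h1 : (b ⊗ₜ[A] (c : K') : B ⊗[A] K') = b • ((1 : B) ⊗ₜ[A] (c : K')) := by
      rw [TensorProduct.smul_tmul', smul_eq_mul, mul_one]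
    rw [h1]
    have h2 : Ideal.Quotient.mk (nilradical (B ⊗[A] K')) (b • ((1 : B) ⊗ₜ[A] (c : K'))) =
        b • Ideal.Quotient.mk (nilradical (B ⊗[A] K')) ((1 : B) ⊗ₜ[A] (c : K')) := rfl
    rw [h2]
    exact Submodule.smul_mem _ _ (Submodule.subset_span ⟨c, rfl⟩)
  | add x y hx hy => rw [map_add, map_add]; exact Submodule.add_mem _ hx hy

omit [IsDomain A] [IsNoetherianRing B] [Module.Flat A B] [IsScalarTower A (FractionRing A) K']
  [FiniteDimensional (FractionRing A) K'] [Algebra (FractionRing A) K'] in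
theorem exists_of_mem_Mred (C : Subalgebra A K')
    (m : (B ⊗[A] K') ⧸ nilradical (B ⊗[A] K')) (hm : m ∈ Mred (B := B) C) :
    ∃ y : ↥C ⊗[A] B, Ideal.Quotient.mk (nilradical (B ⊗[A] K')) (jmap C y) = m := by
  induction hm using Submodule.span_induction with
  | mem x hx =>
    obtain ⟨c, rfl⟩ := hx
    exact ⟨c ⊗ₜ[A] (1 : B), by rw [jmap_tmul]⟩
  | zero => exact ⟨0, by simp⟩
  | add x y _ _ hx hy =>
    obtain ⟨y1, rfl⟩ := hx
    obtain ⟨y2, rfl⟩ := hy
    exact ⟨y1 + y2, by rw [map_add, map_add]⟩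
  | smul b x _ hx =>
    obtain ⟨y1, rfl⟩ := hx
    refine ⟨y1 * ((1 : C) ⊗ₜ[A] b), ?_⟩
    rw [map_mul, jmap_tmul, map_mul]
    have h1 : (b ⊗ₜ[A] (((1 : C) : C) : K') : B ⊗[A] K') = algebraMap B (B ⊗[A] K') b := by
      rw [Algebra.TensorProduct.algebraMap_apply]
      simp
    rw [h1, mul_comm, ← map_mul, ← Algebra.smul_def]
    rfl

omit [IsDomain A] [IsNoetherianRing B] [Module.Flat A B] [IsScalarTower A (FractionRing A) K']
  [FiniteDimensional (FractionRing A) K'] [Algebra (FractionRing A) K'] in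
theorem Mred_mono {C C' : Subalgebra A K'} (h : C ≤ C') : Mred (B := B) C ≤ Mred C' := by
  apply Submodule.span_mono
  rintro _ ⟨c, rfl⟩
  exact ⟨⟨c, h c.2⟩, rfl⟩

omit [IsDomain A] [IsNoetherianRing B] [Module.Flat A B] [IsScalarTower A (FractionRing A) K']
  [FiniteDimensional (FractionRing A) K'] [Algebra (FractionRing A) K'] in
theorem Mred_le_integralClosure (C : Subalgebra A K') [Module.Finite A C] :
    Mred (B := B) C ≤
      Subalgebra.toSubmodule (integralClosure B ((B ⊗[A] K') ⧸ nilradical (B ⊗[A] K'))) := by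
  apply Submodule.span_le.mpr
  rintro _ ⟨c, rfl⟩
  have h1 : IsIntegral A c := Algebra.IsIntegral.isIntegral c
  have h2 : IsIntegral A (c : K') := h1.map C.val
  have h3 : IsIntegral A ((1 : B) ⊗ₜ[A] (c : K') : B ⊗[A] K') :=
    h2.map (Algebra.TensorProduct.includeRight : K' →ₐ[A] B ⊗[A] K')
  have h4 : IsIntegral B ((1 : B) ⊗ₜ[A] (c : K') : B ⊗[A] K') := h3.tower_top
  exact h4.map (Ideal.Quotient.mkₐ B (nilradical (B ⊗[A] K')))

end Maps

section Main

omit [IsNoetherianRing B] [Module.Flat A B] [CommRing B] [Algebra A B] in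
/-- there is a finite sub-`A`-algebra of `K'` with fraction field `K'` -/
theorem exists_PP : ∃ C₀ : Subalgebra A K', Module.Finite A C₀ ∧
    ∀ x : K', ∃ a b : C₀, (b : K') ≠ 0 ∧ x * b = a := by
  classical
  obtain ⟨s, bs, hbs⟩ := FiniteDimensional.exists_is_basis_integral A (FractionRing A) K'
  let C₀ : Subalgebra A K' := Algebra.adjoin A (Set.range bs)
  have hfin : Module.Finite A C₀ := by
    have hfg : (Algebra.adjoin A (Set.range bs)).toSubmodule.FG :=
      fg_adjoin_of_finite (Set.finite_range bs) (by rintro _ ⟨i, rfl⟩; exact hbs i)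
    exact Module.Finite.iff_fg.mpr hfg
  have hinj : Function.Injective (algebraMap A K') := by
    rw [IsScalarTower.algebraMap_eq A (FractionRing A) K']
    exact (algebraMap (FractionRing A) K').injective.comp (IsFractionRing.injective A (FractionRing A))
  have key : ∀ z : K', ∃ d : A, d ≠ 0 ∧ d • z ∈ C₀ := by
    intro z
    have hz : z ∈ Submodule.span (FractionRing A) (Set.range bs) := by
      rw [bs.span_eq]; exact Submodule.mem_top
    induction hz using Submodule.span_induction with
    | mem x hx => exact ⟨1, one_ne_zero, by rw [one_smul]; exact Algebra.subset_adjoin hx⟩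
    | zero => exact ⟨1, one_ne_zero, by simp⟩
    | add x y _ _ hx hy =>
      obtain ⟨d1, hd1, h1⟩ := hx
      obtain ⟨d2, hd2, h2⟩ := hy
      refine ⟨d1 * d2, mul_ne_zero hd1 hd2, ?_⟩
      rw [smul_add]
      refine C₀.add_mem ?_ ?_
      · rw [mul_comm, mul_smul]; exact C₀.smul_mem h1 d2
      · rw [mul_smul]; exact C₀.smul_mem h2 d1
    | smul k x _ hx =>
      obtain ⟨d, hd, h1⟩ := hx
      obtain ⟨a, t, rfl⟩ := IsLocalization.exists_mk'_eq (nonZeroDivisors A) k
      refine ⟨t * d, mul_ne_zero (nonZeroDivisors.ne_zero t.2) hd, ?_⟩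
      have : ((t : A) * d) • (IsLocalization.mk' (FractionRing A) a t • x) = a • (d • x) := by
        rw [mul_smul, smul_comm d, ← smul_assoc (t : A), Algebra.smul_def (t : A), mul_comm,
          IsLocalization.mk'_spec, algebraMap_smul, smul_comm]
      rw [this]
      exact C₀.smul_mem h1 a
  refine ⟨C₀, hfin, ?_⟩
  intro x
  obtain ⟨d, hd, hdx⟩ := key x
  refine ⟨⟨d • x, hdx⟩, ⟨algebraMap A K' d, C₀.algebraMap_mem d⟩, ?_, ?_⟩
  · show algebraMap A K' d ≠ 0
    intro h0
    exact hd (hinj (h0.trans (map_zero _).symm))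
  · show x * algebraMap A K' d = d • x
    rw [Algebra.smul_def, mul_comm]

/-- stabilisation of the images of `C ⊗ B` in `(B ⊗ K')_red` -/
theorem exists_stable
    (hJ : ∀ (q : Ideal B) [q.IsPrime], q ∈ minimalPrimes B → CAlg.IsN2 (B ⧸ q)) :
    ∃ Cα : Subalgebra A K', (Module.Finite A Cα ∧ ∀ x : K', ∃ a b : Cα, (b : K') ≠ 0 ∧ x * b = a) ∧
      ∀ C : Subalgebra A K', Module.Finite A C → Cα ≤ C → Mred (B := B) C = Mred Cα := by
  classical
  haveI : IsNoetherianRing (B ⊗[A] K') := isNoetherianRing_tensor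
  have hfinN : Module.Finite B (integralClosure B ((B ⊗[A] K') ⧸ nilradical (B ⊗[A] K'))) := by
    refine finite_integralClosure_red (minimalPrimes.finite_of_isNoetherianRing (B ⊗[A] K')) ?_
    intro P
    exact finite_integralClosure_fractionRing_quotient hJ P.1 P.2
  let N : Submodule B ((B ⊗[A] K') ⧸ nilradical (B ⊗[A] K')) :=
    Subalgebra.toSubmodule (integralClosure B ((B ⊗[A] K') ⧸ nilradical (B ⊗[A] K')))
  haveI : Module.Finite B N := hfinN
  haveI : IsNoetherian B N := isNoetherian_of_isNoetherianRing_of_finite B N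
  obtain ⟨C₀, hC₀⟩ := exists_PP (A := A) (K' := K')
  let S : Set (Submodule B N) :=
    {M | ∃ C : Subalgebra A K', (Module.Finite A C ∧ ∀ x : K', ∃ a b : C, (b : K') ≠ 0 ∧ x * b = a) ∧
      M = Submodule.comap N.subtype (Mred (B := B) C)}
  have hS : S.Nonempty := ⟨_, C₀, hC₀, rfl⟩
  obtain ⟨M', ⟨Cα, hCα, rfl⟩, hmax⟩ := (set_has_maximal_iff_noetherian.mpr ‹IsNoetherian B N›) S hS
  refine ⟨Cα, hCα, ?_⟩
  intro C hCfin hle
  haveI := hCfin
  haveI := hCα.1
  have hPC : (Module.Finite A C ∧ ∀ x : K', ∃ a b : C, (b : K') ≠ 0 ∧ x * b = a) := by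
    refine ⟨hCfin, ?_⟩
    intro x
    obtain ⟨a, b, hb, hab⟩ := hCα.2 x
    exact ⟨⟨a, hle a.2⟩, ⟨b, hle b.2⟩, hb, hab⟩
  have h1 : Submodule.comap N.subtype (Mred (B := B) Cα) ≤ Submodule.comap N.subtype (Mred (B := B) C) :=
    Submodule.comap_mono (Mred_mono hle)
  have h2 : Submodule.comap N.subtype (Mred (B := B) Cα) = Submodule.comap N.subtype (Mred (B := B) C) := by
    by_contra hne
    exact hmax _ ⟨C, hPC, rfl⟩ (lt_of_le_of_ne h1 hne)
  have h3 : ∀ C' : Subalgebra A K', Module.Finite A C' →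
      Submodule.map N.subtype (Submodule.comap N.subtype (Mred (B := B) C')) = Mred C' := by
    intro C' hC'
    haveI := hC'
    rw [Submodule.map_comap_subtype]
    exact inf_eq_right.mpr (Mred_le_integralClosure C')
  rw [← h3 C hCfin, ← h3 Cα hCα.1, h2]

end Main

section Parts

omit [IsDomain A] [IsNoetherianRing B] [IsScalarTower A (FractionRing A) K']
  [FiniteDimensional (FractionRing A) K'] [Algebra (FractionRing A) K'] in
/-- part (i): bijectivity modulo nilpotents from stabilisation -/
theorem part_one {Cα C : Subalgebra A K'} (hle : Cα ≤ C) (hM : Mred (B := B) C = Mred Cα) :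
    (∀ x : ↥Cα ⊗[A] B,
      IsNilpotent (Algebra.TensorProduct.map (Subalgebra.inclusion hle) (AlgHom.id A B) x) →
        IsNilpotent x) ∧
    (∀ y : ↥C ⊗[A] B, ∃ x : ↥Cα ⊗[A] B,
      IsNilpotent (Algebra.TensorProduct.map (Subalgebra.inclusion hle) (AlgHom.id A B) x - y)) := by
  constructor
  · intro x hx
    have h1 : IsNilpotent (jmap (B := B) C
        (Algebra.TensorProduct.map (Subalgebra.inclusion hle) (AlgHom.id A B) x)) := hx.map _
    rw [jmap_inclusion] at h1
    exact (IsNilpotent.map_iff (jmap_injective (B := B) Cα)).mp h1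
  · intro y
    have h1 := mk_jmap_mem (B := B) C y
    rw [hM] at h1
    obtain ⟨x, hx⟩ := exists_of_mem_Mred Cα _ h1
    refine ⟨x, ?_⟩
    apply (IsNilpotent.map_iff (jmap_injective (B := B) C)).mp
    rw [map_sub, jmap_inclusion]
    have h2 : Ideal.Quotient.mk (nilradical (B ⊗[A] K')) (jmap Cα x - jmap C y) = 0 := by
      rw [map_sub, hx, sub_self]
    exact (mem_nilradical).mp (Ideal.Quotient.eq_zero_iff_mem.mp h2)

omit [IsDomain A] [IsNoetherianRing B] [IsScalarTower A (FractionRing A) K']
  [FiniteDimensional (FractionRing A) K'] [Algebra (FractionRing A) K'] [Module.Flat A B] in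
/-- part (ii): radiciality from surjectivity modulo nilpotents -/
theorem part_two (hff : Module.FaithfullyFlat A B) {Cα : Subalgebra A K'}
    (hfin : Module.Finite A Cα)
    (hsurj : ∀ C : Subalgebra A K', Module.Finite A C → ∀ hle : Cα ≤ C, ∀ y : ↥C ⊗[A] B,
      ∃ x : ↥Cα ⊗[A] B,
        IsNilpotent (Algebra.TensorProduct.map (Subalgebra.inclusion hle) (AlgHom.id A B) x - y))
    (hint : Cα ≤ integralClosure A K') (Ω : Type u) [Field Ω]
    (g₁ g₂ : ↥(integralClosure A K') →+* Ω)
    (hg : g₁.comp (Subalgebra.inclusion hint).toRingHom =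
      g₂.comp (Subalgebra.inclusion hint).toRingHom) : g₁ = g₂ := by
  classical
  apply RingHom.ext
  rintro ⟨x, hx⟩
  let C : Subalgebra A K' := Cα ⊔ Algebra.adjoin A {x}
  have hle : Cα ≤ C := le_sup_left
  have hxC : x ∈ C := (le_sup_right : Algebra.adjoin A {x} ≤ C) (Algebra.subset_adjoin rfl)
  haveI : Module.Finite A (Algebra.adjoin A {x}) :=
    Module.Finite.iff_fg.mpr (IsIntegral.fg_adjoin_singleton hx)
  haveI := hfin
  have hCfin : Module.Finite A C := Subalgebra.finite_sup Cα (Algebra.adjoin A {x})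
  have hCint : C ≤ integralClosure A K' :=
    sup_le hint (Algebra.adjoin_le (Set.singleton_subset_iff.mpr hx))
  have hg' : ∀ c : Cα, g₁ (Subalgebra.inclusion hint c) = g₂ (Subalgebra.inclusion hint c) :=
    fun c => RingHom.congr_fun hg c
  letI : Algebra A Ω := (g₁.comp (algebraMap A (integralClosure A K'))).toAlgebra
  let h₁ : C →ₐ[A] Ω :=
    { g₁.comp (Subalgebra.inclusion hCint).toRingHom with commutes' := fun a => rfl }
  let h₂ : C →ₐ[A] Ω :=
    { g₂.comp (Subalgebra.inclusion hCint).toRingHom with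
      commutes' := fun a => (hg' (algebraMap A Cα a)).symm }
  have h12 : ∀ c : Cα, h₁ (Subalgebra.inclusion hle c) = h₂ (Subalgebra.inclusion hle c) :=
    fun c => hg' c
  haveI : Nontrivial (Ω ⊗[A] B) :=
    (Module.FaithfullyFlat.nontrivial_tensorProduct_iff_left A Ω).mpr inferInstance
  obtain ⟨m, hm⟩ := Ideal.exists_maximal (Ω ⊗[A] B)
  haveI : m.IsPrime := hm.isPrime
  let H₁ : ↥C ⊗[A] B →+* (Ω ⊗[A] B) ⧸ m :=
    (Ideal.Quotient.mk m).comp (Algebra.TensorProduct.map h₁ (AlgHom.id A B)).toRingHom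
  let H₂ : ↥C ⊗[A] B →+* (Ω ⊗[A] B) ⧸ m :=
    (Ideal.Quotient.mk m).comp (Algebra.TensorProduct.map h₂ (AlgHom.id A B)).toRingHom
  have hH : ∀ x' : ↥Cα ⊗[A] B,
      H₁ (Algebra.TensorProduct.map (Subalgebra.inclusion hle) (AlgHom.id A B) x') =
      H₂ (Algebra.TensorProduct.map (Subalgebra.inclusion hle) (AlgHom.id A B) x') := by
    intro x'
    induction x' using TensorProduct.induction_on with
    | zero => simp
    | tmul c b =>
      show Ideal.Quotient.mk m (Algebra.TensorProduct.map h₁ (AlgHom.id A B)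
          (Algebra.TensorProduct.map (Subalgebra.inclusion hle) (AlgHom.id A B) (c ⊗ₜ[A] b))) =
        Ideal.Quotient.mk m (Algebra.TensorProduct.map h₂ (AlgHom.id A B)
          (Algebra.TensorProduct.map (Subalgebra.inclusion hle) (AlgHom.id A B) (c ⊗ₜ[A] b)))
      rw [Algebra.TensorProduct.map_tmul, Algebra.TensorProduct.map_tmul,
        Algebra.TensorProduct.map_tmul, h12 c]
    | add x y hx hy => rw [map_add, map_add, map_add, hx, hy]
  have hHeq : ∀ y : ↥C ⊗[A] B, H₁ y = H₂ y := by
    intro y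
    obtain ⟨x', hx'⟩ := hsurj C hCfin hle y
    have e1 : H₁ (Algebra.TensorProduct.map (Subalgebra.inclusion hle) (AlgHom.id A B) x' - y) = 0 :=
      (hx'.map H₁).eq_zero
    have e2 : H₂ (Algebra.TensorProduct.map (Subalgebra.inclusion hle) (AlgHom.id A B) x' - y) = 0 :=
      (hx'.map H₂).eq_zero
    rw [map_sub, sub_eq_zero] at e1 e2
    rw [← e1, ← e2, hH]
  let ρ : Ω →+* (Ω ⊗[A] B) ⧸ m :=
    (Ideal.Quotient.mk m).comp (Algebra.TensorProduct.includeLeft : Ω →ₐ[A] Ω ⊗[A] B).toRingHom
  have hρ : Function.Injective ρ := ρ.injective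
  have h3 : ρ (h₁ ⟨x, hxC⟩) = ρ (h₂ ⟨x, hxC⟩) := by
    have := hHeq ((⟨x, hxC⟩ : C) ⊗ₜ[A] (1 : B))
    exact this
  exact hρ h3

end Parts

end Fibre

end Groth.Agent.Lib.Helper7.Stab
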