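import Mathlib
import Groth.Agent.Lib.Helper7Stab
import Groth.Agent.Lib.Helper6ReducedSmooth
import Groth.Agent.Lib.Helper28AUNormal

set_option autoImplicit false
set_option linter.unusedSectionVars false
set_option linter.style.haveILetI false
set_option linter.deprecated false
universe u
open TensorProduct CAlg

namespace Groth.Agent.Lib.Helper28.NagSmooth

/-- N-2 descends along smooth faithfully flat maps with Nagata target (domain case). -/
theorem isN2_of_smooth_of_isNagata (R S : Type u) [CommRing R] [IsDomain R] [CommRing S]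
    [Algebra R S] [Algebra.Smooth R S] [Module.FaithfullyFlat R S] (hS : IsNagata S) :
    IsN2 R := by
  haveI := hS.1
  intro L _ _ _ _ hfd
  haveI hNT : IsNoetherianRing (S ⊗[R] L) := Groth.Agent.Lib.Helper7.Stab.isNoetherianRing_tensor
  have hfin : (minimalPrimes (S ⊗[R] L)).Finite := minimalPrimes.finite_of_isNoetherianRing _
  have h1 : Module.Finite S (integralClosure S ((S ⊗[R] L) ⧸ nilradical (S ⊗[R] L))) := by
    refine Groth.Agent.Lib.Helper7.Stab.finite_integralClosure_red hfin (fun P => ?_)
    exact Groth.Agent.Lib.Helper7.Stab.finite_integralClosure_fractionRing_quotient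
      (fun q _ _ => hS.2 q) P.1 P.2
  -- `S ⊗ L` is reduced
  haveI : IsReduced (L ⊗[R] S) := Groth.Agent.Lib.Helper6.isReduced_of_smooth L (L ⊗[R] S)
  haveI hred : IsReduced (S ⊗[R] L) :=
    isReduced_of_injective (Algebra.TensorProduct.comm R S L) (AlgEquiv.injective _)
  have hnil : nilradical (S ⊗[R] L) = ⊥ := nilradical_eq_bot_iff.mpr hred
  have h2 : Module.Finite S (integralClosure S (S ⊗[R] L)) := by
    let e : (S ⊗[R] L) ≃ₐ[S] ((S ⊗[R] L) ⧸ nilradical (S ⊗[R] L)) :=
      (AlgEquiv.quotientBot S (S ⊗[R] L)).symm.trans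
        (Ideal.quotientEquivAlgOfEq S hnil.symm)
    exact Module.Finite.equiv (e.mapIntegralClosure).symm.toLinearEquiv
  have hbij := TensorProduct.toIntegralClosure_bijective_of_smooth (R := R) (S := S) (B := L)
  haveI : Module.Finite S (S ⊗[R] integralClosure R L) :=
    Module.Finite.equiv (AlgEquiv.ofBijective _ hbij).symm.toLinearEquiv
  exact Module.Finite.of_finite_tensorProduct_of_faithfullyFlat S

end Groth.Agent.Lib.Helper28.NagSmooth
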