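import Mathlib
import Groth.Agent.Lib.Helper28AlgClosedCpl
import Groth.Agent.Lib.Helper14GeomRed

/-!
# Helper28NagataDVR: descent of the Nagata property along a separable extension of DVRs

* `isField_tensor_of_isSeparable_of_isPurelyInseparable`
* `isGeometricallyReduced_of_isSeparable` (transitivity of geometric reducedness)
* `isNagata_of_cpl_embeds`
-/

set_option autoImplicit false
universe u

namespace Groth.Agent.Lib.Helper28.NagataDVR
open TensorProduct

section Trans

variable (K L K₁ : Type u) [Field K] [Field L] [Field K₁] [Algebra K L] [Algebra K K₁]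

/-- `L ⊗[K] K₁` is a field if `L/K` is separable algebraic and `K₁/K` is purely inseparable. -/
theorem isField_tensor_of_isSeparable_of_isPurelyInseparable [Algebra.IsSeparable K L]
    [IsPurelyInseparable K K₁] : IsField (L ⊗[K] K₁) := by
  have hred : IsReduced (L ⊗[K] K₁) :=
    Groth.Agent.Lib.Helper14.GeomRed.isReduced_tensor_of_isSeparable
  have hinj : Function.Injective (algebraMap L (L ⊗[K] K₁)) :=
    Algebra.TensorProduct.includeLeft_injective (S := L) (algebraMap K K₁).injective
  have hnt : Nontrivial (L ⊗[K] K₁) := hinj.nontrivial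
  refine ⟨exists_pair_ne _, mul_comm, fun {z} hz => ?_⟩
  obtain ⟨n, hn, l, hl⟩ := IsPurelyInseparable.exists_pow_mem_range_tensorProduct (k := K) (K := K₁)
    (R := L) z
  have hl0 : l ≠ 0 := by
    rintro rfl
    rw [map_zero] at hl
    exact hz (IsReduced.eq_zero z ⟨n, hl.symm⟩)
  have hu : IsUnit (z ^ n) := by
    rw [← hl]
    exact (IsUnit.mk0 l hl0).map _
  have hz' : IsUnit z := (isUnit_pow_iff hn.ne').mp hu
  obtain ⟨w, hw⟩ := hz'.exists_right_inv
  exact ⟨w, hw⟩

variable (F : Type u) [CommRing F] [Algebra L F] [Algebra K F] [IsScalarTower K L F]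

/-- transitivity: `L/K` separable algebraic and `F/L` geometrically reduced implies `F/K`
geometrically reduced. -/
theorem isGeometricallyReduced_of_isSeparable [Algebra.IsSeparable K L]
    (h : Algebra.IsGeometricallyReduced L F) : Algebra.IsGeometricallyReduced K F := by
  apply Groth.Agent.Lib.Helper14.GeomRed.isGeometricallyReduced_of_forall_finite_purelyInseparable
  intro K₁ _ _ _ _
  have hM := isField_tensor_of_isSeparable_of_isPurelyInseparable K L K₁
  let _ : Field (L ⊗[K] K₁) := hM.toField
  have h1 : IsReduced ((L ⊗[K] K₁) ⊗[L] F) :=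
    Groth.Agent.Lib.Helper14.GeomRed.isReduced_tensor_of_isGeometricallyReduced (k := L) (S := F)
      (L ⊗[K] K₁)
  have h2 : IsReduced (F ⊗[L] (L ⊗[K] K₁)) :=
    isReduced_of_injective (Algebra.TensorProduct.comm L _ _)
      (Algebra.TensorProduct.comm L _ _).injective
  let e := Algebra.TensorProduct.cancelBaseChange K L L F K₁
  have h3 : IsReduced (F ⊗[K] K₁) := isReduced_of_injective e.symm e.symm.injective
  exact isReduced_of_injective (Algebra.TensorProduct.comm K _ _)
    (Algebra.TensorProduct.comm K _ _).injective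

end Trans

section G

variable (A : Type u) [CommRing A] [IsDomain A] [IsNoetherianRing A] [IsLocalRing A]
  (K F : Type u) [Field K] [Field F] [Algebra A K] [IsFractionRing A K]
  [Algebra A F] [Algebra (EGA4.Cpl A) F] [IsScalarTower A (EGA4.Cpl A) F]
  [Algebra K F] [IsScalarTower A K F]

/-- A one-dimensional Noetherian local domain whose completion embeds (over `A`) in a field `F`
geometrically reduced over `Frac A` is Nagata. -/
theorem isNagata_of_cpl_embeds (hdim : ringKrullDim A = 1)
    (hinj : Function.Injective (algebraMap (EGA4.Cpl A) F))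
    (h : Algebra.IsGeometricallyReduced K F) : CAlg.IsNagata A := by
  let Ω := AlgebraicClosure (⊥ : Ideal A).ResidueField
  have h1 : IsReduced (AlgebraicClosure K ⊗[K] F) :=
    (Algebra.isGeometricallyReduced_field_iff K F).mp h
  let e : K ≃ₐ[A] (⊥ : Ideal A).ResidueField :=
    IsLocalization.algEquiv (nonZeroDivisors A) K (⊥ : Ideal A).ResidueField
  let f : AlgebraicClosure K ≃+* Ω := IsAlgClosure.equivOfEquiv (AlgebraicClosure K) Ω e.toRingEquiv
  let f' : AlgebraicClosure K ≃ₐ[A] Ω := AlgEquiv.ofRingEquiv (f := f) (by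
    intro a
    rw [IsScalarTower.algebraMap_apply A K (AlgebraicClosure K),
      IsAlgClosure.equivOfEquiv_algebraMap]
    change algebraMap (⊥ : Ideal A).ResidueField Ω (e (algebraMap A K a)) = _
    rw [e.commutes, ← IsScalarTower.algebraMap_apply])
  let E1 : AlgebraicClosure K ⊗[K] F ≃ₐ[K] AlgebraicClosure K ⊗[A] F :=
    IsLocalization.algebraTensorEquiv (nonZeroDivisors A) K (AlgebraicClosure K) F
  let E2 : AlgebraicClosure K ⊗[A] F ≃ₐ[A] Ω ⊗[A] F :=
    Algebra.TensorProduct.congr f' AlgEquiv.refl
  have h2 : IsReduced (Ω ⊗[A] F) :=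
    isReduced_of_injective
      (E1.symm.toRingEquiv.toRingHom.comp E2.symm.toRingEquiv.toRingHom)
      (E1.symm.injective.comp E2.symm.injective)
  let φ : EGA4.Cpl A →ₐ[A] F := IsScalarTower.toAlgHom A (EGA4.Cpl A) F
  have hψ : Function.Injective (Algebra.TensorProduct.map (AlgHom.id A Ω) φ) :=
    Module.Flat.lTensor_preserves_injective_linearMap (M := Ω) φ.toLinearMap hinj
  have hR : IsReduced (Ω ⊗[A] EGA4.Cpl A) :=
    isReduced_of_injective (Algebra.TensorProduct.map (AlgHom.id A Ω) φ) hψ
  have hFF : EGA4.HasGeomReducedFormalFibres A := by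
    intro p hp
    rcases Groth.Agent.Lib.Helper7.Dim1N2.eq_bot_or_eq_maximalIdeal A hdim p with rfl | rfl
    · exact (Groth.Agent.Lib.Helper7.Dim1N2.isReduced_tensor_cpl_iff A).mp hR
    · exact Groth.Agent.Lib.Helper7.ClosedFF.isGeometricallyReduced_closedFormalFibre A
  exact Groth.Agent.S2657.result A hFF

end G

end Groth.Agent.Lib.Helper28.NagataDVR
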