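import Mathlib
import Groth.Agent.Lib.Helper28NormFib4
import Groth.Agent.Lib.Helper28CMFib5
import Groth.Agent.Lib.Helper28GeomRed5
import Groth.Agent.Lib.Helper7ExcCpl

/-!
# Helper28NormFib5: EGA IV 7.5.2 for "normal"

`isGeomNormal_fiber_of_cpl_closedFibre`: flat local `A → B` of Noetherian local rings with finite
residue field extension; if the formal fibres of `A` are geometrically normal and the closed fibre
of `A → B̂` is geometrically normal, then all fibres of `A → B` are geometrically normal.
-/

set_option autoImplicit false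
universe u

namespace Groth.Agent.Lib.Helper28.NormFib
open Groth.Agent.Lib.Helper28 IsLocalRing Groth.Agent.Lib.Helper28.CMFib TensorProduct

section ClosedFibre

/-- the closed-fibre hypothesis in "finite field over `A`" form. -/
theorem isNormalRing_tensor_of_closedFibre (A B : Type u) [CommRing A] [IsLocalRing A] [CommRing B]
    [Algebra A B]
    (h : EGA4.IsGeomNormal (maximalIdeal A).ResidueField ((maximalIdeal A).Fiber B))
    (F : Type u) [Field F] [Algebra A F] [Module.Finite A F] : EGA4.IsNormalRing (F ⊗[A] B) := by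
  have hint : Algebra.IsIntegral A F := Algebra.IsIntegral.of_finite A F
  have hker : RingHom.ker (algebraMap A F) = maximalIdeal A := by
    have h1 : ((⊥ : Ideal F).comap (algebraMap A F)).IsMaximal :=
      Ideal.isMaximal_comap_of_isIntegral_of_isMaximal (R := A) (⊥ : Ideal F)
    exact IsLocalRing.eq_maximalIdeal h1
  let φ : (maximalIdeal A).ResidueField →+* F :=
    Ideal.ResidueField.lift (maximalIdeal A) (algebraMap A F) hker.ge (by
      intro x hx
      have hx' : IsUnit x := by
        by_contra hnu
        exact hx ((IsLocalRing.mem_maximalIdeal x).mpr hnu)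
      exact hx'.map (algebraMap A F))
  let _ : Algebra (maximalIdeal A).ResidueField F := φ.toAlgebra
  have hst : IsScalarTower A (maximalIdeal A).ResidueField F :=
    IsScalarTower.of_algebraMap_eq fun x =>
      (Ideal.ResidueField.lift_algebraMap (maximalIdeal A) (algebraMap A F) _ _ x).symm
  have hfin : Module.Finite (maximalIdeal A).ResidueField F :=
    Module.Finite.of_restrictScalars_finite A _ F
  have h1 : EGA4.IsNormalRing (F ⊗[(maximalIdeal A).ResidueField] ((maximalIdeal A).Fiber B)) :=
    h F hfin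
  have h2 : EGA4.IsNormalRing (B ⊗[A] F) :=
    isNormalRing_of_ringEquiv (tensorFiberEquiv A B (maximalIdeal A) F).symm h1
  exact isNormalRing_of_ringEquiv (Algebra.TensorProduct.comm A B F).toRingEquiv h2

/-- the converse. -/
theorem isGeomNormal_closedFibre_of_forall (A B : Type u) [CommRing A] [IsLocalRing A]
    [CommRing B] [Algebra A B]
    (h : ∀ (F : Type u) [Field F] [Algebra A F] [Module.Finite A F],
      EGA4.IsNormalRing (F ⊗[A] B)) :
    EGA4.IsGeomNormal (maximalIdeal A).ResidueField ((maximalIdeal A).Fiber B) := by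
  intro F _ _ hfin
  let _ : Algebra A F :=
    ((algebraMap (maximalIdeal A).ResidueField F).comp
      (algebraMap A (maximalIdeal A).ResidueField)).toAlgebra
  have hst : IsScalarTower A (maximalIdeal A).ResidueField F := IsScalarTower.of_algebraMap_eq' rfl
  have hfin0 : Module.Finite A (maximalIdeal A).ResidueField :=
    Module.Finite.of_surjective (Algebra.linearMap A (maximalIdeal A).ResidueField)
      (Ideal.algebraMap_residueField_surjective (maximalIdeal A))
  have hfinA : Module.Finite A F := Module.Finite.trans (maximalIdeal A).ResidueField F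
  have h1 : EGA4.IsNormalRing (F ⊗[A] B) := h F
  have h2 : EGA4.IsNormalRing (B ⊗[A] F) :=
    isNormalRing_of_ringEquiv (Algebra.TensorProduct.comm A F B).toRingEquiv h1
  exact isNormalRing_of_ringEquiv (tensorFiberEquiv A B (maximalIdeal A) F) h2

end ClosedFibre

section Cpl

variable (A : Type u) [CommRing A] [IsNoetherianRing A] [IsLocalRing A]

/-- the closed fibre hypothesis for `Â → B'` from that of `A → B'`. -/
theorem isGeomNormal_closedFibre_cpl (B' : Type u) [CommRing B'] [Algebra A B']
    [Algebra (EGA4.Cpl A) B'] [IsScalarTower A (EGA4.Cpl A) B']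
    (h : EGA4.IsGeomNormal (maximalIdeal A).ResidueField ((maximalIdeal A).Fiber B')) :
    EGA4.IsGeomNormal (maximalIdeal (EGA4.Cpl A)).ResidueField
      ((maximalIdeal (EGA4.Cpl A)).Fiber B') := by
  apply isGeomNormal_closedFibre_of_forall
  intro F _ _ _
  let _ : Algebra A F := ((algebraMap (EGA4.Cpl A) F).comp (algebraMap A (EGA4.Cpl A))).toAlgebra
  have hst : IsScalarTower A (EGA4.Cpl A) F := IsScalarTower.of_algebraMap_eq' rfl
  have hint : Algebra.IsIntegral (EGA4.Cpl A) F := Algebra.IsIntegral.of_finite _ F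
  have hmax : (RingHom.ker (algebraMap (EGA4.Cpl A) F)).IsMaximal :=
    Ideal.isMaximal_comap_of_isIntegral_of_isMaximal (R := EGA4.Cpl A) (⊥ : Ideal F)
  have hF : (maximalIdeal A).map (algebraMap A (EGA4.Cpl A)) ≤
      RingHom.ker (algebraMap (EGA4.Cpl A) F) :=
    map_le_of_isMaximal_adicCompletion (maximalIdeal A) _
  have hdense := exists_sub_mem_map_adicCompletion (A := A) (maximalIdeal A)
  have hfinA : Module.Finite A F := GeomRed.finite_of_dense (maximalIdeal A) hdense F hF
  have h1 : EGA4.IsNormalRing (F ⊗[A] B') := isNormalRing_tensor_of_closedFibre A B' h F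
  have hcs : TensorProduct.CompatibleSMul A (EGA4.Cpl A) F B' :=
    GeomRed.compatibleSMul_of_dense (maximalIdeal A) hdense F hF B'
  let e : F ⊗[EGA4.Cpl A] B' ≃ₐ[F] F ⊗[A] B' :=
    Algebra.TensorProduct.equivOfCompatibleSMul A (EGA4.Cpl A) F F B'
  exact isNormalRing_of_ringEquiv e.symm.toRingEquiv h1

end Cpl

section Final

theorem normal_asc_gen {R S A : Type u} [CommRing R] [CommRing S] [CommRing A] [Algebra R S]
    [Algebra R A] [Module.Flat R S] [Algebra.QuasiFinite R A] [IsNoetherianRing A]
    [IsNoetherianRing (A ⊗[R] S)]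
    (hS : ∀ (q : Ideal R) [q.IsPrime], EGA4.IsGeomNormal q.ResidueField (q.Fiber S))
    (h : EGA4.IsNormalRing A) : EGA4.IsNormalRing (A ⊗[R] S) := by
  refine isNormalRing_of_flat_of_forall_isNormalRing_fiber (A := A) (B := A ⊗[R] S) h
    (fun P _ => ?_)
  exact isNormalRing_fiber_tensorProduct P (hS _)

variable (A B : Type u) [CommRing A] [CommRing B]
    [IsNoetherianRing A] [IsNoetherianRing B] [IsLocalRing A] [IsLocalRing B] [Algebra A B]
    [IsLocalHom (algebraMap A B)] [Module.Flat A B]

/-- **EGA IV 7.5.2 (normal case)**: flat local `A → B` (finite residue extension), formal fibres of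
`A` geometrically normal, closed fibre of `A → B̂` geometrically normal: all fibres of `A → B` are
geometrically normal. -/
theorem isGeomNormal_fiber_of_cpl_closedFibre (hres : ResFin A B)
    (hA : EGA4.HasGeomNormalFormalFibres A)
    (h : EGA4.IsGeomNormal (maximalIdeal A).ResidueField ((maximalIdeal A).Fiber (EGA4.Cpl B)))
    (p : Ideal A) [p.IsPrime] : EGA4.IsGeomNormal p.ResidueField (p.Fiber B) := by
  obtain ⟨alg, htower, hloc, hflat⟩ := exists_algebra_adicCompletion_of_isLocalHom A B
  have hfl : Module.Flat (EGA4.Cpl A) (EGA4.Cpl B) := hflat inferInstance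
  have hcompA := isAdicComplete_maximalIdeal_adicCompletion A
  have hcompB := isAdicComplete_maximalIdeal_adicCompletion B
  have hcl := isGeomNormal_closedFibre_cpl A (EGA4.Cpl B) h
  have hres' : ResFin (EGA4.Cpl A) (EGA4.Cpl B) := resFin_cpl A B hres
  have hUC : CAlg.IsUniversallyCatenary (EGA4.Cpl B) :=
    Groth.Agent.Lib.Helper7.ExcCpl.isUniversallyCatenary_of_complete_local (EGA4.Cpl B)
  have hfib : ∀ (P : Ideal (EGA4.Cpl A)) [P.IsPrime],
      EGA4.IsGeomNormal P.ResidueField (P.Fiber (EGA4.Cpl B)) := fun P _ =>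
    isGeomNormal_fiber_of_isAdicComplete (EGA4.Cpl A) (EGA4.Cpl B) hres' hUC hcl P
  intro k' _ _ hfin
  have hN1 : IsNoetherianRing (p.Fiber B) := isNoetherianRing_fiber p
  have hN2 : IsNoetherianRing (p.Fiber (EGA4.Cpl B)) := isNoetherianRing_fiber p
  have hN3 : IsNoetherianRing (p.Fiber (EGA4.Cpl A)) := isNoetherianRing_fiber p
  have h0 : EGA4.IsNormalRing (k' ⊗[p.ResidueField] (p.Fiber (EGA4.Cpl A))) := hA p k' hfin
  have h1 : EGA4.IsNormalRing (k' ⊗[p.ResidueField] (p.Fiber (EGA4.Cpl B))) :=
    tensor_fiber_comp_of_property A (EGA4.Cpl A) (EGA4.Cpl B) p k'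
      (fun T _ => EGA4.IsNormalRing T) (fun T T' _ _ e hT => isNormalRing_of_ringEquiv e hT)
      (fun R' _ _ _ _ _ hR' => normal_asc_gen hfib hR') h0
  have hff : Module.FaithfullyFlat B (EGA4.Cpl B) := faithfullyFlat_adicCompletion B
  exact tensor_fiber_descent_of_property A B (EGA4.Cpl B) p k'
    (fun T _ => EGA4.IsNormalRing T) (fun T T' _ _ e hT => isNormalRing_of_ringEquiv e hT)
    (fun R' T _ _ _ _ _ _ hT => isNormalRing_of_faithfullyFlat (A := R') (B := T) hT) h1

end Final

end Groth.Agent.Lib.Helper28.NormFib
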