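import Mathlib
import Groth.Prelude.Def_Found
import Groth.Agent.Lib.Helper14Japanese
import Groth.Agent.Lib.Helper4Japanese3
import Groth.Agent.Lib.Helper19Normalization

/-!
# Tate's lemma on N-2 (helper28)
-/

set_option autoImplicit false
set_option linter.unusedSectionVars false
set_option linter.style.haveILetI false
set_option linter.deprecated false
universe u

namespace Groth.Agent.Lib.Helper28.Tate


section LinInd

variable {R S : Type*} [CommRing R] [IsDomain R] [CommRing S] [Algebra R S]
  [Module.IsTorsionFree R S]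
  (x : R) (hx0 : x ≠ 0) [IsHausdorff (Ideal.span {x}) R]
  (J : Ideal S) [J.LiesOver (Ideal.span {x})]

include hx0 in
theorem dvd_pow_of_sum_eq_zero {ι : Type*} [Fintype ι] (b : ι → S)
    (hb : LinearIndependent (R ⧸ Ideal.span {x}) (fun i => Ideal.Quotient.mk J (b i)))
    (n : ℕ) : ∀ g : ι → R, ∑ i, g i • b i = 0 → ∀ i, x ^ n ∣ g i := by
  induction n with
  | zero => intro g _ i; simp
  | succ n ih =>
    intro g hg i
    have h1 := ih g hg
    choose h hh using h1
    have h2 : ∑ i, h i • b i = 0 := by
      have h3 : x ^ n • ∑ i, h i • b i = 0 := by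
        rw [Finset.smul_sum, ← hg]
        refine Finset.sum_congr rfl fun i _ => ?_
        rw [hh i, mul_smul]
      exact (smul_eq_zero_iff_right (pow_ne_zero n hx0)).mp h3
    have h4 : ∑ i, Ideal.Quotient.mk (Ideal.span {x}) (h i) • Ideal.Quotient.mk J (b i) = 0 := by
      have h5 := congrArg (Ideal.Quotient.mk J) h2
      rw [map_sum, map_zero] at h5
      rw [← h5]
      refine Finset.sum_congr rfl fun i _ => ?_
      rw [Algebra.smul_def, Algebra.smul_def, map_mul]
      rfl
    have h6 := Fintype.linearIndependent_iff.mp hb _ h4 i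
    rw [Ideal.Quotient.eq_zero_iff_mem, Ideal.mem_span_singleton] at h6
    obtain ⟨c, hc⟩ := h6
    exact ⟨c, by rw [hh i, hc, pow_succ, mul_assoc]⟩

include hx0 in
theorem linearIndependent_of_quotient {ι : Type*} [Fintype ι] (b : ι → S)
    (hb : LinearIndependent (R ⧸ Ideal.span {x}) (fun i => Ideal.Quotient.mk J (b i))) :
    LinearIndependent R b := by
  rw [Fintype.linearIndependent_iff]
  intro g hg i
  apply IsHausdorff.haus' (I := Ideal.span {x}) (g i)
  intro n
  rw [SModEq.zero, smul_eq_mul, Ideal.mul_top, Ideal.span_singleton_pow, Ideal.mem_span_singleton]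
  exact dvd_pow_of_sum_eq_zero x hx0 J b hb n g hg i

end LinInd

section Rank

variable {R S : Type u} [CommRing R] [IsDomain R] [CommRing S] [IsDomain S] [Algebra R S]
  [Module.IsTorsionFree R S]
  (x : R) (hx0 : x ≠ 0) [IsHausdorff (Ideal.span {x}) R]
  (J : Ideal S) [J.LiesOver (Ideal.span {x})]
  (K L : Type u) [Field K] [Field L] [Algebra R K] [IsFractionRing R K] [Algebra K L]
  [Algebra R L] [IsScalarTower R K L] [FiniteDimensional K L] [Algebra S L] [IsScalarTower R S L]

include hx0 in
theorem rank_quotient_le (hSL : Function.Injective (algebraMap S L)) :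
    Module.rank (R ⧸ Ideal.span {x}) (S ⧸ J) ≤ (Module.finrank K L : Cardinal) := by
  apply rank_le
  intro s hs
  choose b hb using fun i : s => Ideal.Quotient.mk_surjective (I := J) (i : S ⧸ J)
  have h1 : LinearIndependent R b := by
    apply linearIndependent_of_quotient x hx0 J b
    simpa only [hb] using hs
  have h2 : LinearIndependent R (fun i => algebraMap S L (b i)) := by
    have := h1.map' (IsScalarTower.toAlgHom R S L).toLinearMap
      (LinearMap.ker_eq_bot.mpr hSL)
    exact this
  have h3 : LinearIndependent K (fun i => algebraMap S L (b i)) :=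
    (LinearIndependent.iff_fractionRing R K).mp h2
  have h4 := h3.fintype_card_le_finrank
  simpa using h4

include hx0 K in
theorem finite_quotient_of_isN2 [IsNoetherianRing R] [hI : (Ideal.span {x}).IsPrime] [hJ : J.IsPrime]
    [Algebra.IsIntegral R S] (h2 : CAlg.IsN2 (R ⧸ Ideal.span {x}))
    (hSL : Function.Injective (algebraMap S L)) :
    Module.Finite (R ⧸ Ideal.span {x}) (S ⧸ J) := by
  haveI : Algebra.IsIntegral (R ⧸ Ideal.span {x}) (S ⧸ J) := inferInstance
  letI : Algebra (FractionRing (R ⧸ Ideal.span {x})) (FractionRing (S ⧸ J)) :=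
    FractionRing.liftAlgebra (R ⧸ Ideal.span {x}) (FractionRing (S ⧸ J))
  haveI : IsScalarTower (R ⧸ Ideal.span {x}) (FractionRing (R ⧸ Ideal.span {x}))
      (FractionRing (S ⧸ J)) :=
    FractionRing.isScalarTower_liftAlgebra (R ⧸ Ideal.span {x}) (FractionRing (S ⧸ J))
  have hrank : Module.rank (FractionRing (R ⧸ Ideal.span {x})) (FractionRing (S ⧸ J)) =
      Module.rank (R ⧸ Ideal.span {x}) (S ⧸ J) :=
    Algebra.IsAlgebraic.rank_fractionRing (R ⧸ Ideal.span {x}) (S ⧸ J)
  haveI : FiniteDimensional (FractionRing (R ⧸ Ideal.span {x})) (FractionRing (S ⧸ J)) := by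
    rw [FiniteDimensional, ← Module.rank_lt_aleph0_iff, hrank]
    exact lt_of_le_of_lt (rank_quotient_le x hx0 J K L hSL) (Cardinal.nat_lt_aleph0 _)
  have h3 : Module.Finite (R ⧸ Ideal.span {x})
      (integralClosure (R ⧸ Ideal.span {x}) (FractionRing (S ⧸ J))) :=
    h2 (FractionRing (S ⧸ J)) inferInstance
  haveI : IsNoetherian (R ⧸ Ideal.span {x})
      (integralClosure (R ⧸ Ideal.span {x}) (FractionRing (S ⧸ J))) :=
    isNoetherian_of_isNoetherianRing_of_finite _ _
  let f : (S ⧸ J) →ₐ[R ⧸ Ideal.span {x}]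
      integralClosure (R ⧸ Ideal.span {x}) (FractionRing (S ⧸ J)) :=
    (IsScalarTower.toAlgHom (R ⧸ Ideal.span {x}) (S ⧸ J) (FractionRing (S ⧸ J))).codRestrict _
      (fun b => (Algebra.IsIntegral.isIntegral b).map _)
  refine Module.Finite.of_injective f.toLinearMap ?_
  intro a b hab
  have h4 := congrArg Subtype.val hab
  exact IsFractionRing.injective (S ⧸ J) (FractionRing (S ⧸ J)) h4

end Rank



section Filt

variable {R S : Type*} [CommRing R] [CommRing S] [Algebra R S] (y : S)

theorem exists_finite_span_of_finite_quotient (J : Ideal S) (h : Module.Finite R (S ⧸ J)) :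
    ∃ G : Set S, G.Finite ∧ ∀ s : S, ∃ g ∈ Submodule.span R G, s - g ∈ J := by
  obtain ⟨T, hT⟩ := h.fg_top
  choose lift hlift using fun z : S ⧸ J => Ideal.Quotient.mk_surjective z
  refine ⟨lift '' (T : Set (S ⧸ J)), T.finite_toSet.image _, fun s => ?_⟩
  have h1 : Ideal.Quotient.mk J s ∈ Submodule.span R (T : Set (S ⧸ J)) := by rw [hT]; trivial
  have h2 : (T : Set (S ⧸ J)) = (Ideal.Quotient.mkₐ R J).toLinearMap '' (lift '' (T : Set (S ⧸ J))) := by
    rw [Set.image_image]
    ext z
    simp only [Set.mem_image, Finset.mem_coe, AlgHom.toLinearMap_apply, Ideal.Quotient.mkₐ_eq_mk,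
      hlift, exists_eq_right]
  rw [h2, ← Submodule.map_span] at h1
  obtain ⟨g, hg, hgs⟩ := h1
  refine ⟨g, hg, ?_⟩
  rw [← Ideal.Quotient.eq]
  exact hgs.symm

theorem exists_finite_span_pow (h : Module.Finite R (S ⧸ Ideal.span {y})) (n : ℕ) :
    ∃ G : Set S, G.Finite ∧ ∀ s : S, ∃ g ∈ Submodule.span R G, y ^ n ∣ s - g := by
  obtain ⟨G, hGfin, hG⟩ := exists_finite_span_of_finite_quotient (R := R) (Ideal.span {y}) h
  induction n with
  | zero => exact ⟨∅, Set.finite_empty, fun s => ⟨0, Submodule.zero_mem _, by simp⟩⟩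
  | succ n ih =>
    obtain ⟨Gn, hGnfin, hGn⟩ := ih
    refine ⟨Gn ∪ (fun g => y ^ n * g) '' G, hGnfin.union (hGfin.image _), fun s => ?_⟩
    obtain ⟨g, hg, t, ht⟩ := hGn s
    obtain ⟨g', hg', hd⟩ := hG t
    rw [Ideal.mem_span_singleton] at hd
    obtain ⟨t', ht'⟩ := hd
    refine ⟨g + y ^ n * g', Submodule.add_mem _ (Submodule.span_mono Set.subset_union_left hg) ?_,
      t', ?_⟩
    · have h3 : y ^ n * g' ∈ Submodule.map (LinearMap.mulLeft R (y ^ n)) (Submodule.span R G) :=
        ⟨g', hg', rfl⟩
      rw [Submodule.map_span] at h3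
      exact Submodule.span_mono Set.subset_union_right h3
    · rw [pow_succ, mul_assoc, ← ht', mul_sub, ← ht]
      ring

theorem finite_quotient_pow (h : Module.Finite R (S ⧸ Ideal.span {y})) (n : ℕ) :
    Module.Finite R (S ⧸ Ideal.span {y ^ n}) := by
  obtain ⟨G, hGfin, hG⟩ := exists_finite_span_pow (R := R) y h n
  haveI : Module.Finite R (Submodule.span R G) := Module.Finite.span_of_finite R hGfin
  refine Module.Finite.of_surjective
    ((Ideal.Quotient.mkₐ R (Ideal.span {y ^ n})).toLinearMap.comp (Submodule.span R G).subtype) ?_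
  intro z
  obtain ⟨s, rfl⟩ := Ideal.Quotient.mk_surjective z
  obtain ⟨g, hg, hd⟩ := hG s
  refine ⟨⟨g, hg⟩, ?_⟩
  simp only [LinearMap.coe_comp, Function.comp_apply, Submodule.subtype_apply,
    AlgHom.toLinearMap_apply, Ideal.Quotient.mkₐ_eq_mk]
  rw [eq_comm, Ideal.Quotient.eq, Ideal.mem_span_singleton]
  exact hd

end Filt



section Core

variable {R : Type u} [CommRing R] [IsDomain R] [IsIntegrallyClosed R]
  (K L S : Type u) [Field K] [Field L] [Algebra R K] [IsFractionRing R K] [Algebra K L] [Algebra R L]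
  [IsScalarTower R K L]
  [CommRing S] [Algebra R S] [Algebra S L] [IsScalarTower R S L] [IsIntegralClosure S R L]
  (q : ℕ) (hq : 0 < q) (hL : ∀ l : L, l ^ q ∈ (algebraMap K L).range)

include K hq hL in
/-- elements of `L` in the integral closure are those whose `q`-th power lies in `R`. -/
theorem mem_iff (l : L) : (∃ s : S, algebraMap S L s = l) ↔ ∃ r : R, l ^ q = algebraMap R L r := by
  rw [← IsIntegralClosure.isIntegral_iff (R := R) (A := S) (B := L)]
  constructor
  · intro hl
    obtain ⟨k, hk⟩ := hL l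
    have h1 : IsIntegral R (algebraMap K L k) := hk ▸ hl.pow q
    have h2 : IsIntegral R k := (isIntegral_algebraMap_iff (algebraMap K L).injective).mp h1
    obtain ⟨r, hr⟩ := IsIntegrallyClosed.isIntegral_iff.mp h2
    refine ⟨r, ?_⟩
    rw [← hk, ← hr, ← IsScalarTower.algebraMap_apply]
  · rintro ⟨r, hr⟩
    exact IsIntegral.of_pow hq (hr ▸ isIntegral_algebraMap)

include K hq hL in
theorem exists_pow_eq (s : S) : ∃ r : R, s ^ q = algebraMap R S r := by
  obtain ⟨r, hr⟩ := (mem_iff (R := R) K L S q hq hL (algebraMap S L s)).mp ⟨s, rfl⟩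
  refine ⟨r, IsIntegralClosure.algebraMap_injective S R L ?_⟩
  rw [map_pow, hr, ← IsScalarTower.algebraMap_apply]

include K L in
theorem algebraMap_RL_injective : Function.Injective (algebraMap R L) := by
  rw [IsScalarTower.algebraMap_eq R K L]
  exact (algebraMap K L).injective.comp (IsFractionRing.injective R K)

include K L in
theorem algebraMap_RS_injective : Function.Injective (algebraMap R S) := by
  have h := algebraMap_RL_injective (R := R) K L
  rw [IsScalarTower.algebraMap_eq R S L] at h
  exact Function.Injective.of_comp h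

variable (x : R) (y : S) (hy : y ^ q = algebraMap R S x) (hx0 : x ≠ 0)

include K L hq hL hy hx0 in
theorem dvd_iff (s : S) (r : R) (hs : s ^ q = algebraMap R S r) : y ∣ s ↔ x ∣ r := by
  have hinj := algebraMap_RS_injective (R := R) K L S
  constructor
  · rintro ⟨t, rfl⟩
    obtain ⟨r', hr'⟩ := exists_pow_eq (R := R) K L S q hq hL t
    refine ⟨r', hinj ?_⟩
    rw [← hs, mul_pow, hy, hr', map_mul]
  · rintro ⟨r', rfl⟩
    have hyL : algebraMap S L y ≠ 0 := by
      intro h0
      have h1 : algebraMap S L (y ^ q) = 0 := by rw [map_pow, h0, zero_pow hq.ne']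
      rw [hy, ← IsScalarTower.algebraMap_apply] at h1
      exact hx0 (algebraMap_RL_injective (R := R) K L (by rw [h1, map_zero]))
    obtain ⟨t, ht⟩ := (mem_iff (R := R) K L S q hq hL (algebraMap S L s / algebraMap S L y)).mpr
      ⟨r', by
        rw [div_pow, ← map_pow, ← map_pow, hs, hy, map_mul, map_mul,
          ← IsScalarTower.algebraMap_apply, ← IsScalarTower.algebraMap_apply,
          mul_div_assoc, mul_comm, div_mul_cancel₀]
        intro h0
        exact hx0 (algebraMap_RL_injective (R := R) K L (by rw [h0, map_zero]))⟩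
    refine ⟨t, IsIntegralClosure.algebraMap_injective S R L ?_⟩
    rw [map_mul, ht, mul_div_cancel₀ _ hyL]

include K L hq hL hy hx0 in
theorem y_ne_zero : y ≠ 0 := by
  intro h0
  rw [h0, zero_pow hq.ne'] at hy
  exact hx0 (algebraMap_RS_injective (R := R) K L S (by rw [← hy, map_zero]))

include K L hq hL hy hx0 in
theorem prime_y (hx : Prime x) : Prime y := by
  refine ⟨y_ne_zero K L S q hq hL x y hy hx0, ?_, ?_⟩
  · intro hu
    have h1 : y ∣ (1 : S) := hu.dvd
    have h2 := (dvd_iff K L S q hq hL x y hy hx0 1 1 (by rw [one_pow, map_one])).mp h1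
    exact hx.not_unit (isUnit_of_dvd_one h2)
  · intro a b hab
    obtain ⟨ra, hra⟩ := exists_pow_eq (R := R) K L S q hq hL a
    obtain ⟨rb, hrb⟩ := exists_pow_eq (R := R) K L S q hq hL b
    have h2 := (dvd_iff K L S q hq hL x y hy hx0 (a * b) (ra * rb)
      (by rw [mul_pow, hra, hrb, map_mul])).mp hab
    rcases hx.dvd_or_dvd h2 with h | h
    · exact Or.inl ((dvd_iff K L S q hq hL x y hy hx0 a ra hra).mpr h)
    · exact Or.inr ((dvd_iff K L S q hq hL x y hy hx0 b rb hrb).mpr h)

include K L hq hL hy hx0 in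
theorem comap_span_y (hx : Prime x) :
    (Ideal.span {y}).comap (algebraMap R S) = Ideal.span {x} := by
  ext r
  rw [Ideal.mem_comap, Ideal.mem_span_singleton, Ideal.mem_span_singleton,
    dvd_iff K L S q hq hL x y hy hx0 (algebraMap R S r) (r ^ q) (by rw [map_pow])]
  exact ⟨fun h => hx.dvd_of_dvd_pow h, fun h => dvd_pow h hq.ne'⟩

end Core


section Assemble

variable {R : Type u} [CommRing R] [IsDomain R] [IsNoetherianRing R] [IsIntegrallyClosed R]
  (K L S : Type u) [Field K] [Field L] [Algebra R K] [IsFractionRing R K] [Algebra K L]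
  [Algebra R L] [IsScalarTower R K L] [FiniteDimensional K L]
  [CommRing S] [Algebra R S] [Algebra S L] [IsScalarTower R S L] [IsIntegralClosure S R L]
  (q : ℕ) (hq : 0 < q) (hL : ∀ l : L, l ^ q ∈ (algebraMap K L).range)
  (x : R) (y : S) (hy : y ^ q = algebraMap R S x) (hx0 : x ≠ 0)

include K L hq hL hy hx0 in
theorem isHausdorff_of_pow [IsDomain S] [IsHausdorff (Ideal.span {x}) R] :
    IsHausdorff (Ideal.span {x}) S := by
  constructor
  intro s hs
  obtain ⟨r, hr⟩ := exists_pow_eq (R := R) K L S q hq hL s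
  have hr0 : r = 0 := by
    apply IsHausdorff.haus' (I := Ideal.span {x}) r
    intro n
    rw [SModEq.zero, smul_eq_mul, Ideal.mul_top, Ideal.span_singleton_pow,
      Ideal.mem_span_singleton]
    have h1 := hs n
    rw [SModEq.zero, Ideal.span_singleton_pow, Submodule.ideal_span_singleton_smul] at h1
    obtain ⟨t, -, rfl⟩ := (Submodule.mem_smul_pointwise_iff_exists _ _ _).mp h1
    obtain ⟨r', hr'⟩ := exists_pow_eq (R := R) K L S q hq hL t
    have h2 : r = (x ^ n) ^ q * r' := by
      apply algebraMap_RS_injective (R := R) K L S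
      rw [← hr, Algebra.smul_def, mul_pow, hr', map_mul, map_pow, map_pow, map_pow]
    rw [h2]
    refine Dvd.dvd.mul_right ?_ _
    exact dvd_pow_self _ hq.ne'
  rw [hr0, map_zero] at hr
  exact pow_eq_zero_iff hq.ne' |>.mp hr

include K L hq hL hy hx0 in
theorem tate_core [hP : (Ideal.span {x}).IsPrime] (h2 : CAlg.IsN2 (R ⧸ Ideal.span {x}))
    [IsAdicComplete (Ideal.span {x}) R] : Module.Finite R S := by
  have hSL : Function.Injective (algebraMap S L) := IsIntegralClosure.algebraMap_injective S R L
  haveI : IsDomain S := hSL.isDomain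
  have hRL := algebraMap_RL_injective (R := R) K L
  haveI : Module.IsTorsionFree R L := Module.isTorsionFree_iff_algebraMap_injective.mpr hRL
  haveI : Module.IsTorsionFree R S := IsIntegralClosure.isTorsionFree R L
  haveI : Algebra.IsIntegral R S := IsIntegralClosure.isIntegral_algebra R L
  have hxp : Prime x := (Ideal.span_singleton_prime hx0).mp hP
  have hyp : Prime y := prime_y K L S q hq hL x y hy hx0 hxp
  haveI hJ : (Ideal.span {y}).IsPrime :=
    (Ideal.span_singleton_prime hyp.ne_zero).mpr hyp
  haveI : (Ideal.span {y}).LiesOver (Ideal.span {x}) :=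
    ⟨(comap_span_y K L S q hq hL x y hy hx0 hxp).symm⟩
  have hfin1 : Module.Finite (R ⧸ Ideal.span {x}) (S ⧸ Ideal.span {y}) :=
    finite_quotient_of_isN2 x hx0 (Ideal.span {y}) K L h2 hSL
  have hfin2 : Module.Finite R (S ⧸ Ideal.span {y}) :=
    Module.Finite.trans (R ⧸ Ideal.span {x}) _
  obtain ⟨G, hGfin, hG⟩ := exists_finite_span_pow (R := R) y hfin2 q
  haveI : IsHausdorff (Ideal.span {x}) S := isHausdorff_of_pow K L S q hq hL x y hy hx0
  apply Groth.Agent.Lib.Helper19.Normalization.finite_of_finite_quotient_of_isAdicComplete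
    (Ideal.span {x})
  haveI : Module.Finite R (Submodule.span R G) := Module.Finite.span_of_finite R hGfin
  refine Module.Finite.of_surjective
    ((Ideal.span {x} • ⊤ : Submodule R S).mkQ.comp (Submodule.span R G).subtype) ?_
  intro z
  obtain ⟨s, rfl⟩ := Submodule.Quotient.mk_surjective _ z
  obtain ⟨g, hg, t, ht⟩ := hG s
  refine ⟨⟨g, hg⟩, ?_⟩
  simp only [LinearMap.coe_comp, Function.comp_apply, Submodule.subtype_apply,
    Submodule.mkQ_apply]
  rw [eq_comm, Submodule.Quotient.eq, ht, hy, ← Algebra.smul_def]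
  exact Submodule.smul_mem_smul (Ideal.mem_span_singleton_self x) Submodule.mem_top

end Assemble

open Polynomial

section Reduce

variable {R : Type u} [CommRing R] [IsDomain R] [IsNoetherianRing R] [IsIntegrallyClosed R]
  (x : R) (hx0 : x ≠ 0) [hP : (Ideal.span {x}).IsPrime] (h2 : CAlg.IsN2 (R ⧸ Ideal.span {x}))
  [IsAdicComplete (Ideal.span {x}) R]
  (p : ℕ) [ExpChar R p]
  (K L : Type u) [Field K] [Field L] [Algebra R K] [IsFractionRing R K] [Algebra K L]
  [Algebra R L] [IsScalarTower R K L] [FiniteDimensional K L] [IsPurelyInseparable K L]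

include hx0 h2 p K in
theorem finite_integralClosure_of_isPurelyInseparable :
    Module.Finite R (integralClosure R L) := by
  haveI : ExpChar K p := expChar_of_injective_algebraMap (IsFractionRing.injective R K) p
  haveI : ExpChar L p := expChar_of_injective_algebraMap (algebraMap K L).injective p
  obtain ⟨e, he⟩ := (IsPurelyInseparable.hasExponent_iff' K L p).mp inferInstance
  have hq : 0 < p ^ e := pow_pos (expChar_pos K p) e
  obtain ⟨f, hf⟩ : ∃ f : L[X], f = X ^ (p ^ e) - C (algebraMap R L x) := ⟨_, rfl⟩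
  have hdeg : f.natDegree = p ^ e := by rw [hf]; exact natDegree_X_pow_sub_C
  have hsplit := SplittingField.splits f
  obtain ⟨y₀, hy₀⟩ := hsplit.exists_eval_eq_zero (by
    rw [degree_map]
    intro h0
    have := natDegree_eq_zero_iff_degree_le_zero.mpr h0.le
    omega)
  rw [eval_map] at hy₀
  replace hy₀ : eval₂ (algebraMap L f.SplittingField) y₀ (X ^ (p ^ e) - C (algebraMap R L x)) = 0 := by
    rw [← hf]; exact hy₀
  rw [eval₂_sub, eval₂_pow, eval₂_X, eval₂_C, sub_eq_zero] at hy₀
  haveI : IsScalarTower R K f.SplittingField := IsScalarTower.of_algebraMap_eq fun r => by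
    rw [IsScalarTower.algebraMap_apply R L f.SplittingField,
      IsScalarTower.algebraMap_apply R K L, ← IsScalarTower.algebraMap_apply K L f.SplittingField]
  -- all elements of the splitting field have `q`-th power in `K`
  let T : Subalgebra L f.SplittingField :=
    { carrier := {z | z ^ (p ^ e) ∈ (algebraMap K f.SplittingField).range}
      mul_mem' := fun {a b} ha hb => by
        change (a * b) ^ (p ^ e) ∈ (algebraMap K f.SplittingField).range
        rw [mul_pow]
        exact mul_mem ha hb
      add_mem' := fun {a b} ha hb => by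
        change (a + b) ^ (p ^ e) ∈ (algebraMap K f.SplittingField).range
        rw [add_pow_expChar_pow]
        exact add_mem ha hb
      algebraMap_mem' := fun l => by
        change (algebraMap L f.SplittingField l) ^ (p ^ e) ∈ (algebraMap K f.SplittingField).range
        obtain ⟨k, hk⟩ := he l
        refine ⟨k, ?_⟩
        rw [← map_pow, ← hk, ← IsScalarTower.algebraMap_apply] }
  have hT : T = ⊤ := by
    rw [_root_.eq_top_iff, ← SplittingField.adjoin_rootSet f]
    apply Algebra.adjoin_le
    intro z hz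
    have hz'' : aeval z f = 0 := (mem_rootSet.mp hz).2
    have hz' : aeval z (X ^ (p ^ e) - C (algebraMap R L x)) = 0 := by rw [← hf]; exact hz''
    rw [map_sub, map_pow, aeval_X, aeval_C, sub_eq_zero] at hz'
    change z ^ (p ^ e) ∈ (algebraMap K f.SplittingField).range
    rw [hz']
    exact ⟨algebraMap R K x, by
      rw [← IsScalarTower.algebraMap_apply, ← IsScalarTower.algebraMap_apply]⟩
  have hL' : ∀ l : f.SplittingField, l ^ (p ^ e) ∈ (algebraMap K f.SplittingField).range := by
    intro l
    have : l ∈ T := by rw [hT]; trivial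
    exact this
  haveI : FiniteDimensional K f.SplittingField := Module.Finite.trans L _
  have hy₀int : IsIntegral R y₀ := by
    refine IsIntegral.of_pow hq ?_
    rw [hy₀, ← IsScalarTower.algebraMap_apply]
    exact isIntegral_algebraMap
  have hfin : Module.Finite R (integralClosure R f.SplittingField) :=
    tate_core K f.SplittingField (integralClosure R f.SplittingField) (p ^ e) hq hL' x
      ⟨y₀, hy₀int⟩ (by
        apply Subtype.ext
        change y₀ ^ (p ^ e) = algebraMap R f.SplittingField x
        rw [hy₀, ← IsScalarTower.algebraMap_apply]) hx0 h2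
  exact Groth.Agent.Lib.Helper4.Japanese.finite_integralClosure_of_injective R L f.SplittingField
    (IsScalarTower.toAlgHom R L f.SplittingField) (algebraMap L f.SplittingField).injective hfin

end Reduce


end Groth.Agent.Lib.Helper28.Tate
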