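import Mathlib
import Groth.Prelude.Def_Found
import Groth.Agent.Lib.Helper14Japanese
import Groth.Agent.Lib.Helper14PSNormal
import Groth.Agent.Lib.Helper4Japanese3
import Groth.Agent.S0569

/-!
# Helper28PSN2: power series rings over N-2 domains are N-2 (Stacks 0333), and finite descent of N-2.
-/

set_option autoImplicit false
set_option linter.unusedSectionVars false
set_option linter.style.haveILetI false
set_option linter.deprecated false
universe u
open TensorProduct CAlg PowerSeries

namespace Groth.Agent.Lib.Helper28.PSN2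


/-- N-2 descends along finite injective extensions of domains (the base Noetherian). -/
theorem isN2_of_finite_injective_of_isN2 (P S : Type u) [CommRing P] [IsDomain P]
    [IsNoetherianRing P] [CommRing S] [IsDomain S] [Algebra P S] [Module.Finite P S]
    (hinj : Function.Injective (algebraMap P S)) (hS : IsN2 S) : IsN2 P := by
  intro L _ _ _ _ hfd
  haveI : FaithfulSMul P S := (faithfulSMul_iff_algebraMap_injective P S).mpr hinj
  letI := FractionRing.liftAlgebra P (FractionRing S)
  haveI : Algebra.IsAlgebraic P S := (Algebra.IsIntegral.of_finite P S).isAlgebraic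
  haveI : IsLocalization (Algebra.algebraMapSubmonoid S (nonZeroDivisors P)) (FractionRing S) :=
    inferInstance
  haveI : Module.Finite (FractionRing P) (FractionRing S) :=
    Module.Finite.of_isLocalization P S (nonZeroDivisors P)
  -- the finite `K`-algebra `M = F ⊗ L`
  have hincl : Function.Injective
      (Algebra.TensorProduct.includeRight (R := FractionRing P) (A := FractionRing S) (B := L)) :=
    Algebra.TensorProduct.includeRight_injective (algebraMap (FractionRing P) (FractionRing S)).injective
  haveI : Nontrivial (FractionRing S ⊗[FractionRing P] L) :=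
    hincl.nontrivial
  obtain ⟨𝔪, h𝔪⟩ := Ideal.exists_maximal (FractionRing S ⊗[FractionRing P] L)
  letI : Field ((FractionRing S ⊗[FractionRing P] L) ⧸ 𝔪) := Ideal.Quotient.field 𝔪
  let φ : L →ₐ[FractionRing P] ((FractionRing S ⊗[FractionRing P] L) ⧸ 𝔪) :=
    (Ideal.Quotient.mkₐ (FractionRing P) 𝔪).comp
      (Algebra.TensorProduct.includeRight (R := FractionRing P) (A := FractionRing S) (B := L))
  have hφ : Function.Injective φ := φ.toRingHom.injective
  haveI : FiniteDimensional (FractionRing S) ((FractionRing S ⊗[FractionRing P] L) ⧸ 𝔪) :=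
    inferInstance
  have h1 : Module.Finite S (integralClosure S ((FractionRing S ⊗[FractionRing P] L) ⧸ 𝔪)) :=
    Groth.Agent.Lib.Helper14.IsN2.finite hS (FractionRing S) _
  haveI : Module.Finite P (integralClosure S ((FractionRing S ⊗[FractionRing P] L) ⧸ 𝔪)) :=
    Module.Finite.trans S _
  haveI : IsNoetherian P (integralClosure S ((FractionRing S ⊗[FractionRing P] L) ⧸ 𝔪)) :=
    isNoetherian_of_isNoetherianRing_of_finite P _
  let φP : L →ₐ[P] ((FractionRing S ⊗[FractionRing P] L) ⧸ 𝔪) := φ.restrictScalars P
  have hmem : ∀ x : integralClosure P L,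
      φP x ∈ integralClosure S ((FractionRing S ⊗[FractionRing P] L) ⧸ 𝔪) := by
    intro x
    have h2 : IsIntegral P (φP x) := x.2.map φP
    exact h2.tower_top
  let g : integralClosure P L →ₗ[P] integralClosure S ((FractionRing S ⊗[FractionRing P] L) ⧸ 𝔪) :=
    { toFun := fun x => ⟨φP x, hmem x⟩
      map_add' := fun x y => Subtype.ext (by simp)
      map_smul' := fun r x => Subtype.ext (by simp) }
  have hg : Function.Injective g := by
    intro x y hxy
    have h3 : φP x = φP y := congrArg Subtype.val hxy
    exact Subtype.ext (hφ h3)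
  exact Module.Finite.of_injective g hg



section Basic

variable (R : Type u) [CommRing R]

theorem span_X_pow (n : ℕ) : (Ideal.span ({X} : Set R⟦X⟧)) ^ n = Ideal.span {(X : R⟦X⟧) ^ n} :=
  Ideal.span_singleton_pow _ n

theorem mem_span_X_pow_iff (n : ℕ) (f : R⟦X⟧) :
    f ∈ (Ideal.span ({X} : Set R⟦X⟧)) ^ n ↔ ∀ m < n, coeff m f = 0 := by
  rw [span_X_pow, Ideal.mem_span_singleton, X_pow_dvd_iff]

theorem isAdicComplete_span_X : IsAdicComplete (Ideal.span ({X} : Set R⟦X⟧)) R⟦X⟧ where
  haus' := by
    intro x hx
    ext m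
    have h1 := hx (m + 1)
    rw [SModEq.zero, smul_eq_mul, Ideal.mul_top, mem_span_X_pow_iff] at h1
    rw [h1 m (Nat.lt_succ_self m), map_zero]
  prec' := by
    intro f hf
    refine ⟨PowerSeries.mk fun k => coeff k (f (k + 1)), fun n => ?_⟩
    rw [SModEq.sub_mem, smul_eq_mul, Ideal.mul_top, mem_span_X_pow_iff]
    intro m hm
    have h1 := hf (Nat.succ_le_of_lt hm)
    rw [SModEq.sub_mem, smul_eq_mul, Ideal.mul_top, mem_span_X_pow_iff] at h1
    have h2 := h1 m (Nat.lt_succ_self m)
    rw [map_sub, sub_eq_zero] at h2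
    rw [map_sub, coeff_mk, sub_eq_zero, h2]

/-- `R⟦X⟧ / (X) ≃ R`. -/
noncomputable def quotientSpanXEquiv : (R⟦X⟧ ⧸ Ideal.span ({X} : Set R⟦X⟧)) ≃+* R :=
  (Ideal.quotEquivOfEq (by
    ext f
    rw [Ideal.mem_span_singleton, X_dvd_iff, RingHom.mem_ker])).trans
    (RingHom.quotientKerEquivOfSurjective (f := constantCoeff (R := R))
      (fun r => ⟨C r, constantCoeff_C r⟩))

end Basic

/-- power series over a Noetherian normal N-2 domain are N-2. -/
theorem isN2_powerSeries_of_isIntegrallyClosed (R : Type u) [CommRing R] [IsDomain R]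
    [IsNoetherianRing R] [IsIntegrallyClosed R] (h : IsN2 R) : IsN2 R⟦X⟧ := by
  haveI : IsIntegrallyClosed R⟦X⟧ :=
    Groth.Agent.Lib.Helper14.PSNormal.isIntegrallyClosed_powerSeries R
  haveI : (Ideal.span ({X} : Set R⟦X⟧)).IsPrime := span_X_isPrime
  haveI := isAdicComplete_span_X R
  have h2 : IsN2 (R⟦X⟧ ⧸ Ideal.span ({X} : Set R⟦X⟧)) :=
    Groth.Agent.Lib.Helper14.isN2_of_ringEquiv (quotientSpanXEquiv R).symm h
  exact Groth.Agent.S0569.result R⟦X⟧ X h2



theorem finite_powerSeries (R A : Type u) [CommRing R] [CommRing A] [Algebra R A]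
    [Module.Finite R A] : Module.Finite R⟦X⟧ A⟦X⟧ := by
  classical
  obtain ⟨n, s, hs⟩ := Module.Finite.exists_fin (R := R) (M := A)
  have hrep : ∀ a : A, ∃ c : Fin n → R, a = ∑ i, c i • s i := by
    intro a
    have ha : a ∈ Submodule.span R (Set.range s) := hs ▸ Submodule.mem_top
    rw [Submodule.mem_span_range_iff_exists_fun] at ha
    obtain ⟨c, hc⟩ := ha
    exact ⟨c, hc.symm⟩
  choose c hc using hrep
  refine ⟨⟨Finset.univ.image fun i => (C (s i) : A⟦X⟧), ?_⟩⟩
  rw [eq_top_iff]
  intro g _
  have hg : g = ∑ i, (PowerSeries.mk fun k => c (coeff k g) i : R⟦X⟧) • (C (s i) : A⟦X⟧) := by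
    ext k
    rw [map_sum]
    conv_lhs => rw [hc (coeff k g)]
    refine Finset.sum_congr rfl fun i _ => ?_
    rw [Algebra.smul_def (c (coeff k g) i) (s i),
      Algebra.smul_def (PowerSeries.mk fun k => c (coeff k g) i : R⟦X⟧) (C (s i) : A⟦X⟧),
      algebraMap_apply'', mul_comm _ (C (s i)), coeff_C_mul, coeff_map, coeff_mk, mul_comm]
  rw [hg]
  refine Submodule.sum_mem _ fun i _ => Submodule.smul_mem _ _ (Submodule.subset_span ?_)
  simp

theorem algebraMap_powerSeries_injective (R A : Type u) [CommRing R] [CommRing A] [Algebra R A]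
    (hinj : Function.Injective (algebraMap R A)) :
    Function.Injective (algebraMap R⟦X⟧ A⟦X⟧) := by
  intro f g hfg
  ext k
  have := congrArg (coeff k) hfg
  rw [algebraMap_apply'', algebraMap_apply'', coeff_map, coeff_map] at this
  exact hinj this


/-- **Stacks 0333**: power series over a Noetherian N-2 domain are N-2. -/
theorem isN2_powerSeries (R : Type u) [CommRing R] [IsDomain R] [IsNoetherianRing R]
    (h : IsN2 R) : IsN2 R⟦X⟧ := by
  haveI hN1 : Module.Finite R (integralClosure R (FractionRing R)) :=
    Groth.Agent.Lib.Helper14.IsN2.isN1 h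
  haveI : IsIntegrallyClosed (integralClosure R (FractionRing R)) :=
    integralClosure.isIntegrallyClosedOfFiniteExtension (FractionRing R)
  haveI : IsNoetherianRing (integralClosure R (FractionRing R)) := IsNoetherianRing.of_finite R _
  have hinj : Function.Injective (algebraMap R (integralClosure R (FractionRing R))) := by
    intro x y hxy
    have := congrArg (algebraMap (integralClosure R (FractionRing R)) (FractionRing R)) hxy
    rw [← IsScalarTower.algebraMap_apply, ← IsScalarTower.algebraMap_apply] at this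
    exact IsFractionRing.injective R (FractionRing R) this
  have h1 : IsN2 (integralClosure R (FractionRing R)) :=
    Groth.Agent.Lib.Helper4.Japanese.isN2_of_finite_injective R _ hinj h
  have h2 : IsN2 (integralClosure R (FractionRing R))⟦X⟧ :=
    isN2_powerSeries_of_isIntegrallyClosed _ h1
  haveI := finite_powerSeries R (integralClosure R (FractionRing R))
  exact isN2_of_finite_injective_of_isN2 R⟦X⟧ (integralClosure R (FractionRing R))⟦X⟧
    (algebraMap_powerSeries_injective R _ hinj) h2

end Groth.Agent.Lib.Helper28.PSN2
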