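import Mathlib
import Groth.Agent.Lib.Helper5NilLift
import Groth.Agent.Lib.Helper5FlatKer

/-!
# Projectivity lifts along nilpotent ideals for flat modules (helper5)
-/

set_option autoImplicit false
universe u v w
open scoped TensorProduct
namespace Groth.Agent.Lib.Helper5

/-- Given a short exact sequence `0 → K → F → M → 0` with `F` projective and `M` flat, a section
of `F/IF → M/IM` for a nilpotent ideal `I` yields a retraction of `K → F`. -/
theorem exists_retraction_of_section_quotient_of_isNilpotent {A : Type u} [CommRing A]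
    {I : Ideal A} (hI : IsNilpotent I) {K : Type v} {F : Type w} {M : Type*}
    [AddCommGroup K] [Module A K] [AddCommGroup F] [Module A F] [AddCommGroup M] [Module A M]
    [Module.Projective A F] [Module.Flat A M] [Module.Flat A K]
    (i : K →ₗ[A] F) (π : F →ₗ[A] M) (hi : Function.Injective i) (hπ : Function.Surjective π)
    (hex : Function.Exact i π)
    (sb : (A ⧸ I) ⊗[A] M →ₗ[A] (A ⧸ I) ⊗[A] F)
    (hsb : ∀ t, π.lTensor (A ⧸ I) (sb t) = t) :
    ∃ ρ : F →ₗ[A] K, ρ ∘ₗ i = LinearMap.id := by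
  have hib : Function.Injective (i.lTensor (A ⧸ I)) :=
    LinearMap.lTensor_injective_of_exact_of_flat π hπ _ hi hex _
  have hexb : Function.Exact (i.lTensor (A ⧸ I)) (π.lTensor (A ⧸ I)) := lTensor_exact _ hex hπ
  -- the map `g = 1 - s π` modulo `I`, corestricted to the range of `K/IK → F/IF`
  obtain ⟨g, hg⟩ : ∃ g : F →ₗ[A] (A ⧸ I) ⊗[A] F,
      ∀ x, g x = (1 : A ⧸ I) ⊗ₜ[A] x - sb ((1 : A ⧸ I) ⊗ₜ[A] π x) :=
    ⟨(TensorProduct.mk A (A ⧸ I) F 1) - sb ∘ₗ (TensorProduct.mk A (A ⧸ I) M 1) ∘ₗ π,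
      fun x => rfl⟩
  have hgker : ∀ x, π.lTensor (A ⧸ I) (g x) = 0 := by
    intro x
    rw [hg, map_sub, hsb, LinearMap.lTensor_tmul, sub_self]
  obtain ⟨q, hq⟩ : ∃ q : K →ₗ[A] (A ⧸ I) ⊗[A] F, ∀ y, q y = (1 : A ⧸ I) ⊗ₜ[A] i y :=
    ⟨(TensorProduct.mk A (A ⧸ I) F 1) ∘ₗ i, fun y => rfl⟩
  have hgq : LinearMap.range g ≤ LinearMap.range q := by
    rintro _ ⟨x, rfl⟩
    obtain ⟨t, ht⟩ := (hexb _).mp (hgker x)
    obtain ⟨y, rfl⟩ := exists_one_tmul_eq I t
    refine ⟨y, ?_⟩
    rw [hq, ← ht, LinearMap.lTensor_tmul]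
  obtain ⟨r, hr⟩ := Module.projective_lifting_property
    (q.rangeRestrict) (g.codRestrict (LinearMap.range q) (fun x => hgq ⟨x, rfl⟩))
    (LinearMap.surjective_rangeRestrict q)
  have hr' : ∀ x, (1 : A ⧸ I) ⊗ₜ[A] i (r x) = g x := by
    intro x
    have := congrArg Subtype.val (LinearMap.congr_fun hr x)
    rw [← hq]
    exact this
  -- `u = r ∘ i` is the identity modulo `I`
  have hu1 : ∀ y : K, (1 : A ⧸ I) ⊗ₜ[A] (r ∘ₗ i) y = (1 : A ⧸ I) ⊗ₜ[A] y := by
    intro y
    apply hib
    rw [LinearMap.lTensor_tmul, LinearMap.lTensor_tmul, LinearMap.comp_apply, hr', hg,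
      hex.apply_apply_eq_zero, TensorProduct.tmul_zero, map_zero, sub_zero]
  have hu : ∀ t, (r ∘ₗ i).lTensor (A ⧸ I) t = t := by
    intro t
    obtain ⟨y, rfl⟩ := exists_one_tmul_eq I t
    rw [LinearMap.lTensor_tmul, hu1]
  have husurj : Function.Surjective (r ∘ₗ i) := by
    apply surjective_of_lTensor_quotient_surjective_of_isNilpotent hI
    intro t
    exact ⟨t, hu t⟩
  have huinj : Function.Injective (r ∘ₗ i) := by
    apply injective_of_lTensor_quotient_injective_of_isNilpotent hI (r ∘ₗ i) husurj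
    intro s t hst
    rwa [hu, hu] at hst
  obtain ⟨e, he⟩ : ∃ e : K ≃ₗ[A] K, ∀ y, e y = r (i y) :=
    ⟨LinearEquiv.ofBijective (r ∘ₗ i) ⟨huinj, husurj⟩, fun y => rfl⟩
  refine ⟨e.symm.toLinearMap ∘ₗ r, ?_⟩
  ext y : 1
  rw [LinearMap.comp_apply, LinearMap.comp_apply, LinearMap.id_apply, LinearEquiv.coe_coe,
    ← he, e.symm_apply_apply]

/-- A flat module which is projective modulo a nilpotent ideal is projective. -/
theorem projective_of_flat_of_projective_quotient_of_isNilpotent {A : Type u} [CommRing A]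
    {I : Ideal A} (hI : IsNilpotent I) (M : Type v) [AddCommGroup M] [Module A M]
    [Module.Flat A M] (hproj : Module.Projective (A ⧸ I) ((A ⧸ I) ⊗[A] M)) :
    Module.Projective A M := by
  classical
  have hπ : Function.Surjective (Finsupp.linearCombination A (id : M → M)) :=
    Finsupp.linearCombination_id_surjective A M
  obtain ⟨π, hπdef⟩ : ∃ π : (M →₀ A) →ₗ[A] M, π = Finsupp.linearCombination A (id : M → M) :=
    ⟨_, rfl⟩
  rw [← hπdef] at hπ
  have hex : Function.Exact (LinearMap.ker π).subtype π := LinearMap.exact_subtype_ker_map π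
  have hKflat : Module.Flat A (LinearMap.ker π) :=
    flat_of_exact_of_flat_of_flat (M := LinearMap.ker π)
      (LinearMap.ker π).subtype π (Submodule.injective_subtype _) hπ hex
  have hπb : Function.Surjective (π.baseChange (A ⧸ I)) :=
    LinearMap.lTensor_surjective _ hπ
  obtain ⟨sb, hsb⟩ := Module.projective_lifting_property (π.baseChange (A ⧸ I))
    LinearMap.id hπb
  have hsb' : ∀ t, π.lTensor (A ⧸ I) ((sb.restrictScalars A) t) = t :=
    fun t => LinearMap.congr_fun hsb t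
  obtain ⟨ρ, hρ⟩ := exists_retraction_of_section_quotient_of_isNilpotent
    (K := LinearMap.ker π) hI (LinearMap.ker π).subtype π (Submodule.injective_subtype _) hπ hex
    (sb.restrictScalars A) hsb'
  obtain ⟨-, σ, hσ⟩ := ((Function.Exact.split_tfae' (M := LinearMap.ker π) hex).out 1 0
    rfl rfl).mp ⟨hπ, ρ, hρ⟩
  exact Module.Projective.of_split σ π hσ

end Groth.Agent.Lib.Helper5
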