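import Mathlib
import Groth.Agent.Lib.Helper28FinDescent
import Groth.Agent.Lib.Helper27ProjPatch
import Groth.Agent.Lib.Helper5NilProj

/-!
# Helper28: descent of projectivity along a finite injective ring map onto a Noetherian ring

`projective_of_finite_injective`: `R → S` injective, `S` Noetherian and finite over `R`, `P` an
arbitrary `R`-module with `S ⊗ P` projective over `S`; then `P` is projective over `R`.
Same Noetherian induction as `Helper28FinDescent`, with patching of projectivity along a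
conductor square (`projective_of_common_ideal`) and along two ideals with zero intersection
(`Helper27ProjPatch.main`).
-/
set_option autoImplicit false
open TensorProduct

namespace Groth.Agent.Lib.Helper28.ProjDescent

universe u

theorem coeff_mem_of_mem_smul_top {S : Type*} [CommRing S] {X : Type*} (a : Ideal S)
    (x : X →₀ S) (hx : x ∈ (a • ⊤ : Submodule S (X →₀ S))) (p : X) : x p ∈ a := by
  refine Submodule.smul_induction_on (p := fun x : X →₀ S => x p ∈ a) hx
    (fun r hr y _ => ?_) (fun y z hy hz => ?_)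
  · show (r • y) p ∈ a
    rw [Finsupp.smul_apply, smul_eq_mul]
    exact a.mul_mem_right _ hr
  · show (y + z) p ∈ a
    rw [Finsupp.add_apply]
    exact a.add_mem hy hz

section

variable {R S : Type u} [CommRing R] [CommRing S] [Algebra R S]
  (P : Type u) [AddCommGroup P] [Module R P]

/-- `S^(P) → S ⊗ P`. -/
noncomputable def piS : (P →₀ S) →ₗ[S] S ⊗[R] P :=
  Finsupp.linearCombination S (fun p : P => (1 : S) ⊗ₜ[R] p)

theorem piS_surj : Function.Surjective (piS (R := R) (S := S) P) := by
  intro z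
  induction z using TensorProduct.induction_on with
  | zero => exact ⟨0, map_zero _⟩
  | tmul s p =>
    refine ⟨Finsupp.single p s, ?_⟩
    simp [piS, TensorProduct.smul_tmul']
  | add x y hx hy =>
    obtain ⟨x', rfl⟩ := hx
    obtain ⟨y', rfl⟩ := hy
    exact ⟨x' + y', map_add _ _ _⟩

/-- `R^(P) → S^(P)`. -/
noncomputable def phiF : (P →₀ R) →ₗ[R] (P →₀ S) :=
  Finsupp.mapRange.linearMap (Algebra.linearMap R S)

theorem phiF_apply (v : P →₀ R) (p : P) : phiF (R := R) (S := S) P v p = algebraMap R S (v p) := rfl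

theorem piS_phiF (v : P →₀ R) :
    piS P (phiF (R := R) (S := S) P v) = (1 : S) ⊗ₜ[R] (Helper27ProjPatch.pi P v) := by
  induction v using Finsupp.induction_linear with
  | zero => simp
  | add x y hx hy => rw [map_add, map_add, map_add, TensorProduct.tmul_add, hx, hy]
  | single p r =>
    simp only [phiF, Finsupp.mapRange.linearMap_apply, Finsupp.mapRange_single,
      Algebra.linearMap_apply, piS, Finsupp.linearCombination_single, Helper27ProjPatch.pi, id]
    rw [Algebra.algebraMap_eq_smul_one r, smul_assoc, one_smul, TensorProduct.tmul_smul]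

theorem phiF_injective (hinj : Function.Injective (algebraMap R S)) :
    Function.Injective (phiF (R := R) (S := S) P) := by
  intro v w h
  ext p
  apply hinj
  rw [← phiF_apply, ← phiF_apply, h]

theorem mem_range_phiF (w : P →₀ S) (hw : ∀ p, w p ∈ (algebraMap R S).range) :
    ∃ v : P →₀ R, phiF (R := R) (S := S) P v = w := by
  classical
  choose c hc using hw
  refine ⟨Finsupp.onFinset w.support (fun p => if w p = 0 then 0 else c p) ?_, ?_⟩
  · intro p hp
    rw [Finsupp.mem_support_iff]
    intro h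
    rw [if_pos h] at hp
    exact hp rfl
  · ext p
    rw [phiF_apply, Finsupp.onFinset_apply]
    split_ifs with h
    · rw [map_zero, h]
    · exact hc p


theorem one_tmul_injective (hinj : Function.Injective (algebraMap R S)) [Module.Flat R P] :
    Function.Injective (TensorProduct.mk R S P 1) := by
  have h1 : Function.Injective ((Algebra.linearMap R S).rTensor P) :=
    Module.Flat.rTensor_preserves_injective_linearMap _ hinj
  have h2 : (TensorProduct.mk R S P 1) =
      ((Algebra.linearMap R S).rTensor P) ∘ₗ (TensorProduct.lid R P).symm.toLinearMap := by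
    ext p
    simp
  rw [h2]
  exact h1.comp (TensorProduct.lid R P).symm.injective

/-- **Patching projectivity along a conductor square.** -/
theorem projective_of_common_ideal (hinj : Function.Injective (algebraMap R S)) (𝔞 : Ideal S)
    (h𝔞 : ∀ a ∈ 𝔞, a ∈ (algebraMap R S).range) [Module.Flat R P]
    (hS : Module.Projective S (S ⊗[R] P))
    (hI : Module.Projective (R ⧸ 𝔞.comap (algebraMap R S))
      ((R ⧸ 𝔞.comap (algebraMap R S)) ⊗[R] P)) :
    Module.Projective R P := by
  classical
  set I := 𝔞.comap (algebraMap R S) with hIdef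
  obtain ⟨σ₂, hσ₂⟩ := Module.projective_lifting_property (piS (R := R) (S := S) P)
    LinearMap.id (piS_surj P)
  obtain ⟨u₁, hu₁⟩ := Helper27ProjPatch.lift_of_torsion I P hI
    (Module.isTorsionBySet_quotient_ideal_smul (P →₀ R) I)
    (Module.isTorsionBySet_quotient_ideal_smul P I)
    (Helper27ProjPatch.piQ P I) (Helper27ProjPatch.piQ_surj P I) (Submodule.mkQ _)
  let ιP : P →ₗ[R] S ⊗[R] P := TensorProduct.mk R S P 1
  let τ₀ : P →ₗ[R] (P →₀ S) := (σ₂.restrictScalars R) ∘ₗ ιP
  have hτ₀ : ∀ p, piS P (τ₀ p) = (1 : S) ⊗ₜ[R] p := fun p => LinearMap.congr_fun hσ₂ (1 ⊗ₜ p)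
  let ρ₂ : (P →₀ S) →ₗ[S] ((P →₀ S) ⧸ (𝔞 • ⊤ : Submodule S (P →₀ S))) := Submodule.mkQ _
  have hker : (I • ⊤ : Submodule R (P →₀ R)) ≤
      LinearMap.ker ((ρ₂.restrictScalars R) ∘ₗ phiF (R := R) (S := S) P) := by
    rw [Submodule.smul_le]
    intro r hr v _
    rw [LinearMap.mem_ker, LinearMap.comp_apply, map_smul, LinearMap.coe_restrictScalars]
    change ρ₂ (r • phiF (R := R) (S := S) P v) = 0
    rw [← algebraMap_smul S r, Submodule.mkQ_apply, Submodule.Quotient.mk_eq_zero]
    exact Submodule.smul_mem_smul hr trivial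
  let ρ₁ : ((P →₀ R) ⧸ (I • ⊤ : Submodule R (P →₀ R))) →ₗ[R]
      ((P →₀ S) ⧸ (𝔞 • ⊤ : Submodule S (P →₀ S))) :=
    Submodule.liftQ _ ((ρ₂.restrictScalars R) ∘ₗ phiF (R := R) (S := S) P) hker
  have hρ₁ : ∀ v : P →₀ R, ρ₁ (Submodule.Quotient.mk v) = ρ₂ (phiF (R := R) (S := S) P v) :=
    fun v => rfl
  let d : P →ₗ[R] ((P →₀ S) ⧸ (𝔞 • ⊤ : Submodule S (P →₀ S))) :=
    ρ₁ ∘ₗ u₁ - (ρ₂.restrictScalars R) ∘ₗ τ₀
  let ρ₂K : LinearMap.ker (piS (R := R) (S := S) P) →ₗ[S]
      ((P →₀ S) ⧸ (𝔞 • ⊤ : Submodule S (P →₀ S))) :=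
    ρ₂ ∘ₗ (LinearMap.ker (piS (R := R) (S := S) P)).subtype
  -- elements of `1 ⊗ IP` are hit by `𝔞 S^(P)`
  have hIP : ∀ z ∈ (I • ⊤ : Submodule R P), ∃ y ∈ (𝔞 • ⊤ : Submodule S (P →₀ S)),
      piS (R := R) (S := S) P y = (1 : S) ⊗ₜ[R] z := by
    intro z hz
    refine Submodule.smul_induction_on hz (fun r hr p' _ => ?_) (fun x y hx hy => ?_)
    · refine ⟨algebraMap R S r • Finsupp.single p' 1, Submodule.smul_mem_smul hr trivial, ?_⟩
      rw [map_smul, piS, Finsupp.linearCombination_single, one_smul, algebraMap_smul,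
        TensorProduct.tmul_smul]
    · obtain ⟨x', hx1, hx2⟩ := hx
      obtain ⟨y', hy1, hy2⟩ := hy
      exact ⟨x' + y', add_mem hx1 hy1, by rw [map_add, hx2, hy2, TensorProduct.tmul_add]⟩
  have hu₁' : ∀ (p : P) (v : P →₀ R), Submodule.Quotient.mk v = u₁ p →
      Helper27ProjPatch.pi P v - p ∈ (I • ⊤ : Submodule R P) := by
    intro p v hv
    have h1 := LinearMap.congr_fun hu₁ p
    rw [LinearMap.comp_apply, ← hv, Helper27ProjPatch.piQ_mk, Submodule.mkQ_apply] at h1
    exact (Submodule.Quotient.eq _).mp h1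
  have hd : ∀ p, d p ∈ LinearMap.range ρ₂K := by
    intro p
    obtain ⟨v, hv⟩ := Submodule.Quotient.mk_surjective _ (u₁ p)
    obtain ⟨y, hy1, hy2⟩ := hIP _ (hu₁' p v hv)
    have hx : phiF (R := R) (S := S) P v - τ₀ p - y ∈ LinearMap.ker (piS (R := R) (S := S) P) := by
      rw [LinearMap.mem_ker, map_sub, map_sub, piS_phiF, hτ₀, hy2, ← TensorProduct.tmul_sub,
        sub_self]
    refine ⟨⟨_, hx⟩, ?_⟩
    change ρ₂ (phiF (R := R) (S := S) P v - τ₀ p - y) = d p
    have hy0 : ρ₂ y = 0 := (Submodule.Quotient.mk_eq_zero _).mpr hy1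
    rw [map_sub, map_sub, hy0, sub_zero]
    change _ = ρ₁ (u₁ p) - ρ₂ (τ₀ p)
    rw [← hv, hρ₁]
  let dS : S ⊗[R] P →ₗ[S] ((P →₀ S) ⧸ (𝔞 • ⊤ : Submodule S (P →₀ S))) :=
    LinearMap.liftBaseChange S d
  have hdS : ∀ z, dS z ∈ LinearMap.range ρ₂K := by
    intro z
    induction z using TensorProduct.induction_on with
    | zero => rw [map_zero]; exact zero_mem _
    | tmul s p =>
      rw [LinearMap.liftBaseChange_tmul]
      exact Submodule.smul_mem _ _ (hd p)
    | add x y hx hy => rw [map_add]; exact add_mem hx hy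
  obtain ⟨h, hh⟩ := Module.projective_lifting_property ρ₂K.rangeRestrict
    (dS.codRestrict _ hdS) (LinearMap.surjective_rangeRestrict _)
  have hh' : ∀ z, ρ₂ ((h z : P →₀ S)) = dS z :=
    fun z => congrArg Subtype.val (LinearMap.congr_fun hh z)
  let τ : P →ₗ[R] (P →₀ S) :=
    τ₀ + ((LinearMap.ker (piS (R := R) (S := S) P)).subtype.restrictScalars R) ∘ₗ
      (h.restrictScalars R) ∘ₗ ιP
  have hτ : ∀ p, τ p = τ₀ p + (h ((1 : S) ⊗ₜ[R] p) : P →₀ S) := fun p => rfl
  have hτa : ∀ p, piS P (τ p) = (1 : S) ⊗ₜ[R] p := by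
    intro p
    rw [hτ, map_add, hτ₀, LinearMap.mem_ker.mp (h ((1 : S) ⊗ₜ[R] p)).2, add_zero]
  have hτb : ∀ p q, τ p q ∈ (algebraMap R S).range := by
    intro p q
    obtain ⟨v, hv⟩ := Submodule.Quotient.mk_surjective _ (u₁ p)
    have h1 : ρ₂ (τ p - phiF (R := R) (S := S) P v) = 0 := by
      rw [map_sub, hτ, map_add, hh', LinearMap.liftBaseChange_tmul, one_smul]
      change ρ₂ (τ₀ p) + (ρ₁ (u₁ p) - ρ₂ (τ₀ p)) - _ = 0
      rw [← hv, hρ₁]
      abel
    have hmem : τ p - phiF (R := R) (S := S) P v ∈ (𝔞 • ⊤ : Submodule S (P →₀ S)) :=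
      (Submodule.Quotient.mk_eq_zero _).mp h1
    have hc := coeff_mem_of_mem_smul_top 𝔞 _ hmem q
    obtain ⟨r, hr⟩ := h𝔞 _ hc
    refine ⟨r + v q, ?_⟩
    rw [map_add, hr, Finsupp.sub_apply, phiF_apply]
    ring
  choose v hv using fun p => mem_range_phiF (R := R) (S := S) P (τ p) (hτb p)
  have hφinj := phiF_injective (R := R) (S := S) P hinj
  let s : P →ₗ[R] (P →₀ R) :=
    { toFun := v
      map_add' := fun a b => by
        apply hφinj
        rw [map_add, hv, hv, hv, map_add]
      map_smul' := fun c a => by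
        apply hφinj
        rw [map_smul, hv, hv, map_smul, RingHom.id_apply] }
  have hs : (Helper27ProjPatch.pi P) ∘ₗ s = LinearMap.id := by
    ext p
    apply one_tmul_injective P hinj
    change (1 : S) ⊗ₜ[R] (Helper27ProjPatch.pi P (v p)) = (1 : S) ⊗ₜ[R] p
    rw [← piS_phiF, hv, hτa]
  exact Module.Projective.of_split s (Helper27ProjPatch.pi P) hs

end

section Tower
variable {R A B : Type*} [CommRing R] [CommRing A] [CommRing B] [Algebra R A] [Algebra R B]
  [Algebra A B] [IsScalarTower R A B] (M : Type*) [AddCommGroup M] [Module R M]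

theorem projective_tower_up [Module.Projective A (A ⊗[R] M)] : Module.Projective B (B ⊗[R] M) :=
  Module.Projective.of_equiv' (AlgebraTensorModule.cancelBaseChange R A B B M)

theorem projective_tower_mid [Module.Projective B (B ⊗[R] M)] :
    Module.Projective B (B ⊗[A] (A ⊗[R] M)) :=
  Module.Projective.of_equiv' (AlgebraTensorModule.cancelBaseChange R A B B M).symm

end Tower

/-- projectivity over a free algebra implies projectivity over the base. -/
theorem projective_of_free_algebra {R R₁ : Type*} [CommRing R] [CommRing R₁] [Algebra R R₁]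
    [Module.Free R R₁] (N : Type*) [AddCommGroup N] [Module R₁ N] [Module R N]
    [IsScalarTower R R₁ N] [Module.Projective R₁ N] : Module.Projective R N := by
  obtain ⟨s, hs⟩ := Module.projective_def'.mp (inferInstance : Module.Projective R₁ N)
  haveI : Module.Projective R (N →₀ R₁) := Module.Projective.of_free
  refine Module.Projective.of_split (s.restrictScalars R)
    ((Finsupp.linearCombination R₁ (id : N → N)).restrictScalars R) ?_
  ext x
  exact LinearMap.congr_fun hs x

/-- descent of projectivity along a free extension with a retraction. -/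
theorem projective_of_retraction {R R₁ : Type*} [CommRing R] [CommRing R₁] [Algebra R R₁]
    [Module.Free R R₁] (r : R₁ →ₗ[R] R) (hr : r 1 = 1) (P : Type*) [AddCommGroup P] [Module R P]
    [Module.Projective R₁ (R₁ ⊗[R] P)] : Module.Projective R P := by
  haveI : Module.Projective R (R₁ ⊗[R] P) := projective_of_free_algebra (R₁ := R₁) _
  refine Module.Projective.of_split (TensorProduct.mk R R₁ P 1)
    ((TensorProduct.lid R P).toLinearMap ∘ₗ r.rTensor P) ?_
  ext p
  simp [hr]

/-- variant of `FinDescent.exists_free_subalgebra` with a retraction. -/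
theorem exists_free_subalgebra {R S : Type*} [CommRing R] [IsDomain R] [CommRing S] [IsDomain S]
    [Algebra R S] (hinj : Function.Injective (algebraMap R S))
    {n : ℕ} (e : Fin n → S) (i₀ : Fin n) (f : R) (hf : f ≠ 0) (he1 : e i₀ = 1)
    (heli : LinearIndependent R e) (hspan : ∀ s : S, f • s ∈ Submodule.span R (Set.range e)) :
    ∃ R₁ : Subalgebra R S, Module.Free R R₁ ∧ Module.Finite R R₁ ∧ (∀ s : S, (f * f) • s ∈ R₁) ∧
      ∃ r : R₁ →ₗ[R] R, r 1 = 1 := by
  haveI : FaithfulSMul R S := (faithfulSMul_iff_algebraMap_injective R S).mpr hinj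
  haveI : Module.IsTorsionFree R S := inferInstance
  classical
  let u : Fin n → R := fun i => if i = i₀ then 1 else f
  have hu : ∀ i, u i ≠ 0 := by
    intro i; simp only [u]; split_ifs
    · exact one_ne_zero
    · exact hf
  let e' : Fin n → S := fun i => u i • e i
  have he'0 : e' i₀ = 1 := by simp [e', u, he1]
  have he'k : ∀ k, k ≠ i₀ → e' k = f • e k := by
    intro k hk; simp [e', u, hk]
  have heli' : LinearIndependent R e' := by
    rw [Fintype.linearIndependent_iff] at heli ⊢
    intro g hg i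
    have h1 : ∑ i, (g i * u i) • e i = 0 := by
      rw [← hg]
      exact Finset.sum_congr rfl (fun i _ => by simp only [e', mul_smul])
    have h2 := heli _ h1 i
    exact (mul_eq_zero.mp h2).resolve_right (hu i)
  let p : Submodule R S := Submodule.span R (Set.range e')
  have hfp : ∀ x ∈ Submodule.span R (Set.range e), f • x ∈ p := by
    intro x hx
    induction hx using Submodule.span_induction with
    | mem x hx =>
      obtain ⟨k, rfl⟩ := hx
      by_cases hk : k = i₀
      · rw [hk, he1, ← he'0]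
        exact Submodule.smul_mem _ _ (Submodule.subset_span ⟨i₀, rfl⟩)
      · rw [← he'k k hk]
        exact Submodule.subset_span ⟨k, rfl⟩
    | zero => simp
    | add x y _ _ hx hy => rw [smul_add]; exact add_mem hx hy
    | smul a x _ hx => rw [smul_comm]; exact Submodule.smul_mem _ _ hx
  have h1 : (1 : S) ∈ p := by
    rw [← he'0]; exact Submodule.subset_span ⟨i₀, rfl⟩
  have hmul : ∀ x y : S, x ∈ p → y ∈ p → x * y ∈ p := by
    intro x y hx hy
    have h2 : x * y ∈ p * p := Submodule.mul_mem_mul hx hy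
    have h3 : p * p ≤ p := by
      simp only [p]
      rw [Submodule.span_mul_span, Submodule.span_le]
      rintro _ ⟨_, ⟨i, rfl⟩, _, ⟨j, rfl⟩, rfl⟩
      change e' i * e' j ∈ Submodule.span R (Set.range e')
      by_cases hi : i = i₀
      · rw [hi, he'0, one_mul]; exact Submodule.subset_span ⟨j, rfl⟩
      by_cases hj : j = i₀
      · rw [hj, he'0, mul_one]; exact Submodule.subset_span ⟨i, rfl⟩
      rw [he'k i hi, he'k j hj, smul_mul_smul_comm, mul_smul]
      exact hfp _ (hspan _)
    exact h3 h2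
  let eq : p ≃ₗ[R] (p.toSubalgebra h1 hmul) :=
    { toFun := fun x => ⟨x.1, x.2⟩
      invFun := fun x => ⟨x.1, x.2⟩
      map_add' := fun _ _ => rfl
      map_smul' := fun _ _ => rfl
      left_inv := fun _ => rfl
      right_inv := fun _ => rfl }
  let b : Module.Basis (Fin n) R p := Module.Basis.span heli'
  refine ⟨p.toSubalgebra h1 hmul, ?_, ?_, ?_, ?_⟩
  · exact Module.Free.of_basis (b.map eq)
  · haveI : Module.Finite R p := Module.Finite.span_of_finite R (Set.finite_range e')
    exact Module.Finite.equiv eq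
  · intro s
    change (f * f) • s ∈ p
    rw [mul_smul]
    exact hfp _ (hspan s)
  · refine ⟨(b.map eq).coord i₀, ?_⟩
    have hb : (b.map eq) i₀ = 1 := by
      apply Subtype.ext
      change ((b i₀ : p) : S) = 1
      rw [Module.Basis.span_apply]
      exact he'0
    rw [← hb, Module.Basis.coord_apply, Module.Basis.repr_self, Finsupp.single_eq_same]

/-- The descent statement for a fixed target ring `S`. -/
def TAllP (S : Type u) [CommRing S] : Prop :=
  ∀ (R : Type u) [CommRing R] [Algebra R S] [Module.Finite R S],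
    Function.Injective (algebraMap R S) → ∀ (P : Type u) [AddCommGroup P] [Module R P],
      Module.Projective S (S ⊗[R] P) → Module.Projective R P

theorem projective_quotient_of_TAllP {R S : Type u} [CommRing R] [CommRing S] [Algebra R S]
    [Module.Finite R S] (𝔞 : Ideal S) (h : TAllP (S ⧸ 𝔞))
    (P : Type u) [AddCommGroup P] [Module R P] [Module.Projective S (S ⊗[R] P)] :
    Module.Projective (R ⧸ 𝔞.comap (algebraMap R S))
      ((R ⧸ 𝔞.comap (algebraMap R S)) ⊗[R] P) := by
  haveI : Module.Finite (R ⧸ 𝔞.comap (algebraMap R S)) (S ⧸ 𝔞) :=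
    Module.Finite.of_restrictScalars_finite R _ _
  refine h (R ⧸ 𝔞.comap (algebraMap R S)) ?_ _ ?_
  · exact Ideal.quotientMap_injective
  · haveI : Module.Projective (S ⧸ 𝔞) ((S ⧸ 𝔞) ⊗[R] P) :=
      projective_tower_up (R := R) (A := S) (B := S ⧸ 𝔞) P
    exact projective_tower_mid (R := R) (A := R ⧸ 𝔞.comap (algebraMap R S)) (B := S ⧸ 𝔞) P

/-- domain case -/
theorem projective_of_isDomain {S : Type u} [CommRing S] [IsDomain S] [IsNoetherianRing S]
    (IH : ∀ 𝔞 : Ideal S, 𝔞 ≠ ⊥ → TAllP (S ⧸ 𝔞)) : TAllP S := by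
  intro R _ _ _ hinj P _ _ hP
  haveI : IsDomain R := hinj.isDomain (algebraMap R S)
  obtain ⟨n, e, i₀, f, hf, he1, heli, hspan⟩ := FinDescent.exists_family hinj
  obtain ⟨R₁, hfree, hfin, hcond, r, hr⟩ := exists_free_subalgebra hinj e i₀ f hf he1 heli hspan
  haveI : Module.Finite R₁ S := Module.Finite.of_restrictScalars_finite R R₁ S
  haveI : Module.Projective S (S ⊗[R₁] (R₁ ⊗[R] P)) :=
    projective_tower_mid (R := R) (A := R₁) (B := S) P
  let 𝔞 : Ideal S := Ideal.span {algebraMap R S (f * f)}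
  have h𝔞0 : 𝔞 ≠ ⊥ := by
    intro h
    rw [Ideal.span_singleton_eq_bot] at h
    exact mul_ne_zero hf hf (hinj (by rw [h, map_zero]))
  have hinj₁ : Function.Injective (algebraMap R₁ S) := Subtype.val_injective
  have hI := projective_quotient_of_TAllP (R := R₁) 𝔞 (IH 𝔞 h𝔞0) (R₁ ⊗[R] P)
  haveI : Module.Flat R₁ (R₁ ⊗[R] P) := FinDescent.flat_of_finite_injective hinj₁ _
  have h1 : Module.Projective R₁ (R₁ ⊗[R] P) := by
    refine projective_of_common_ideal (R₁ ⊗[R] P) hinj₁ 𝔞 ?_ inferInstance hI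
    intro a ha
    obtain ⟨s, rfl⟩ := Ideal.mem_span_singleton'.mp ha
    refine ⟨⟨(f * f) • s, hcond s⟩, ?_⟩
    change (f * f) • s = s * algebraMap R S (f * f)
    rw [Algebra.smul_def, mul_comm]
  exact projective_of_retraction r hr P

/-- non-reduced case -/
theorem projective_of_not_isReduced {S : Type u} [CommRing S] [IsNoetherianRing S]
    (hS : ¬ IsReduced S)
    (IH : ∀ 𝔞 : Ideal S, 𝔞 ≠ ⊥ → TAllP (S ⧸ 𝔞)) : TAllP S := by
  intro R _ _ _ hinj P _ _ hP
  obtain ⟨y, hy0, hy2⟩ : ∃ y : S, y ≠ 0 ∧ y * y = 0 := by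
    rw [isReduced_iff] at hS
    push Not at hS
    obtain ⟨x, hx, hx0⟩ := hS
    classical
    have hex : ∃ m, x ^ m = 0 := hx
    let m := Nat.find hex
    have hm : x ^ m = 0 := Nat.find_spec hex
    have hm1 : 1 ≤ m := by
      by_contra h
      have : m = 0 := by omega
      rw [this, pow_zero] at hm
      exact hx0 (by rw [← mul_one x, hm, mul_zero])
    have hm2 : 2 ≤ m := by
      by_contra h
      have : m = 1 := by omega
      rw [this, pow_one] at hm
      exact hx0 hm
    refine ⟨x ^ (m - 1), Nat.find_min hex (by omega), ?_⟩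
    rw [← pow_add]
    have : m - 1 + (m - 1) = m + (m - 2) := by omega
    rw [this, pow_add, hm, zero_mul]
  let 𝔞 : Ideal S := Ideal.span {y}
  have h𝔞0 : 𝔞 ≠ ⊥ := by
    intro h
    rw [Ideal.span_singleton_eq_bot] at h
    exact hy0 h
  have hI := projective_quotient_of_TAllP (R := R) 𝔞 (IH 𝔞 h𝔞0) P
  haveI : Module.Flat R P := FinDescent.flat_of_finite_injective hinj P
  have hnil : IsNilpotent (𝔞.comap (algebraMap R S)) := by
    refine ⟨2, ?_⟩
    rw [Ideal.zero_eq_bot, eq_bot_iff, pow_two, Ideal.mul_le]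
    intro a ha b hb
    rw [Ideal.mem_bot]
    apply hinj
    rw [map_mul, map_zero]
    obtain ⟨s, hs⟩ := Ideal.mem_span_singleton'.mp ha
    obtain ⟨t, ht⟩ := Ideal.mem_span_singleton'.mp hb
    rw [← hs, ← ht]
    calc s * y * (t * y) = s * t * (y * y) := by ring
      _ = 0 := by rw [hy2, mul_zero]
  exact Helper5.projective_of_flat_of_projective_quotient_of_isNilpotent hnil P hI

/-- reduced, with zero divisors -/
theorem projective_of_zero_divisors {S : Type u} [CommRing S] [IsReduced S] (x y : S) (hx : x ≠ 0)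
    (hy : y ≠ 0) (hxy : x * y = 0)
    (IH : ∀ 𝔞 : Ideal S, 𝔞 ≠ ⊥ → TAllP (S ⧸ 𝔞)) : TAllP S := by
  intro R _ _ _ hinj P _ _ hP
  let 𝔞 : Ideal S := Ideal.span {x}
  let 𝔟 : Ideal S := Ideal.span {y}
  have h𝔞0 : 𝔞 ≠ ⊥ := fun h => hx (Ideal.span_singleton_eq_bot.mp h)
  have h𝔟0 : 𝔟 ≠ ⊥ := fun h => hy (Ideal.span_singleton_eq_bot.mp h)
  have h1 := projective_quotient_of_TAllP (R := R) 𝔞 (IH 𝔞 h𝔞0) P
  have h2 := projective_quotient_of_TAllP (R := R) 𝔟 (IH 𝔟 h𝔟0) P
  refine Helper27ProjPatch.main P (𝔞.comap (algebraMap R S)) (𝔟.comap (algebraMap R S)) ?_ h1 h2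
  rw [eq_bot_iff]
  rintro r ⟨hr1, hr2⟩
  rw [Ideal.mem_bot]
  apply hinj
  rw [map_zero]
  obtain ⟨s, hs⟩ := Ideal.mem_span_singleton'.mp hr1
  obtain ⟨t, ht⟩ := Ideal.mem_span_singleton'.mp hr2
  have : algebraMap R S r ^ 2 = 0 := by
    rw [pow_two]
    nth_rewrite 1 [← hs]
    rw [← ht]
    calc s * x * (t * y) = s * t * (x * y) := by ring
      _ = 0 := by rw [hxy, mul_zero]
  exact pow_eq_zero_iff (two_ne_zero) |>.mp this

theorem tAllP_of_subsingleton {S : Type u} [CommRing S] [Subsingleton S] : TAllP S := by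
  intro R _ _ _ hinj P _ _ hP
  haveI : Subsingleton R := hinj.subsingleton
  haveI : Subsingleton P := Module.subsingleton R P
  infer_instance

theorem stepP {S : Type u} [CommRing S] [IsNoetherianRing S]
    (IH : ∀ 𝔞 : Ideal S, 𝔞 ≠ ⊥ → TAllP (S ⧸ 𝔞)) : TAllP S := by
  rcases subsingleton_or_nontrivial S with hS | hS
  · exact tAllP_of_subsingleton
  by_cases hred : IsReduced S
  · by_cases hdom : ∀ x y : S, x * y = 0 → x = 0 ∨ y = 0
    · haveI : NoZeroDivisors S := ⟨fun {a b} h => hdom a b h⟩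
      haveI : IsDomain S := NoZeroDivisors.to_isDomain S
      exact projective_of_isDomain IH
    · push Not at hdom
      obtain ⟨x, y, hxy, hx, hy⟩ := hdom
      exact projective_of_zero_divisors x y hx hy hxy IH
  · exact projective_of_not_isReduced hred IH

theorem tAllP_of_isNoetherianRing (S : Type u) [CommRing S] [IsNoetherianRing S] : TAllP S := by
  suffices h : ∀ 𝔞 : Ideal S, ∀ (S' : Type u) [CommRing S'] (π : S →+* S'),
      Function.Surjective π → RingHom.ker π = 𝔞 → TAllP S' by
    exact h ⊥ S (RingHom.id S) Function.surjective_id (by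
      ext x; simp [RingHom.mem_ker])
  intro 𝔞
  induction 𝔞 using IsNoetherian.induction with
  | hgt 𝔞 ih =>
    intro S' _ π hπ hker
    haveI : IsNoetherianRing S' := isNoetherianRing_of_surjective S S' π hπ
    apply stepP
    intro 𝔟 h𝔟
    refine ih (𝔟.comap π) ?_ (S' ⧸ 𝔟) ((Ideal.Quotient.mk 𝔟).comp π)
      (Ideal.Quotient.mk_surjective.comp hπ) ?_
    · rw [← hker]
      refine lt_of_le_of_ne (fun x hx => ?_) ?_
      · rw [Ideal.mem_comap, RingHom.mem_ker.mp hx]; exact zero_mem _
      · intro heq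
        apply h𝔟
        rw [eq_bot_iff]
        intro b hb
        obtain ⟨s, rfl⟩ := hπ b
        have : s ∈ 𝔟.comap π := hb
        rw [← heq, RingHom.mem_ker] at this
        rw [this]; exact zero_mem _
    · ext x
      rw [RingHom.mem_ker, RingHom.comp_apply, Ideal.Quotient.eq_zero_iff_mem, Ideal.mem_comap]

/-- **Descent of projectivity along a finite injective ring map** (target Noetherian). -/
theorem projective_of_finite_injective {R S : Type u} [CommRing R] [CommRing S]
    [IsNoetherianRing S] [Algebra R S] [Module.Finite R S]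
    (hinj : Function.Injective (algebraMap R S))
    (P : Type u) [AddCommGroup P] [Module R P] [Module.Projective S (S ⊗[R] P)] :
    Module.Projective R P :=
  tAllP_of_isNoetherianRing S R hinj P inferInstance

end Groth.Agent.Lib.Helper28.ProjDescent
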