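import Mathlib

set_option autoImplicit false
set_option linter.unusedSectionVars false
universe u

namespace Groth.Agent.Lib.Helper28.Ratliff

section S1

variable {R : Type u} [CommRing R] [IsNoetherianRing R]

/-- An element lying in all minimal primes except the given one. -/
theorem exists_mem_minimalPrimes_notMem {q : Ideal R} (hq : q ∈ minimalPrimes R) :
    ∃ t : R, t ∉ q ∧ ∀ P ∈ minimalPrimes R, P ≠ q → t ∈ P := by
  classical
  have hqp : q.IsPrime := hq.1.1
  have hfin : (minimalPrimes R).Finite := minimalPrimes.finite_of_isNoetherianRing R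
  let s : Finset (Ideal R) := hfin.toFinset.erase q
  by_contra hcon
  push Not at hcon
  have hle : s.inf id ≤ q := by
    intro t ht
    by_contra htq
    obtain ⟨P, hP, hPq, htP⟩ := hcon t htq
    apply htP
    have hPs : P ∈ s := Finset.mem_erase.mpr ⟨hPq, hfin.mem_toFinset.mpr hP⟩
    exact (Finset.inf_le hPs : s.inf id ≤ id P) ht
  obtain ⟨P, hPs, hPq⟩ := (Ideal.IsPrime.inf_le' hqp).mp hle
  have hP := Finset.mem_erase.mp hPs
  have hPmin : P ∈ minimalPrimes R := hfin.mem_toFinset.mp hP.2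
  have hPp : P.IsPrime := hPmin.1.1
  exact hP.1 (le_antisymm hPq (hq.2 ⟨hPp, bot_le⟩ hPq))

/-- Splitting off a minimal prime: ideals `a`, `b` with `a ∩ b = 0`, `V(a) ⊆ V(q)`, `b ⊄ q`. -/
theorem exists_ideals_of_mem_minimalPrimes {q : Ideal R} (hq : q ∈ minimalPrimes R) :
    ∃ a b : Ideal R, a ⊓ b = ⊥ ∧ (∀ P : Ideal R, P.IsPrime → a ≤ P → q ≤ P) ∧ ¬ b ≤ q := by
  have hqp : q.IsPrime := hq.1.1
  obtain ⟨t, htq, ht⟩ := exists_mem_minimalPrimes_notMem hq
  -- the chain of annihilators of powers of t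
  let f : ℕ →o Ideal R :=
    ⟨fun n => (⊥ : Submodule R R).colon {t ^ n}, by
      intro n m hnm z hz
      rw [Submodule.mem_colon_singleton, Submodule.mem_bot, smul_eq_mul] at hz ⊢
      obtain ⟨k, rfl⟩ := Nat.exists_eq_add_of_le hnm
      rw [pow_add, ← mul_assoc, hz, zero_mul]⟩
  obtain ⟨N, hN⟩ := monotone_stabilizes_iff_noetherian.mpr inferInstance f
  have hmem : ∀ n z, z ∈ f n ↔ z * t ^ n = 0 := by
    intro n z
    change z ∈ (⊥ : Submodule R R).colon {t ^ n} ↔ _
    rw [Submodule.mem_colon_singleton, Submodule.mem_bot, smul_eq_mul]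
  refine ⟨f N, Ideal.span {t ^ N}, ?_, ?_, ?_⟩
  · rw [eq_bot_iff]
    rintro z ⟨hz1, hz2⟩
    obtain ⟨w, rfl⟩ := Ideal.mem_span_singleton'.mp hz2
    have h1 : w ∈ f (N + N) := by
      rw [hmem, pow_add, ← mul_assoc]
      exact (hmem N _).mp hz1
    rw [← hN (N + N) (by omega)] at h1
    rw [Submodule.mem_bot]
    exact (hmem N w).mp h1
  · intro P hP haP
    -- work in R ⧸ f N
    have hreg : ∀ z : R, z * t ∈ f N → z ∈ f N := by
      intro z hz
      have h1 : z ∈ f (N + 1) := by
        rw [hmem, pow_succ', ← mul_assoc]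
        exact (hmem N _).mp hz
      rwa [← hN (N + 1) (by omega)] at h1
    obtain ⟨P₁, hP₁, hP₁P⟩ := Ideal.exists_minimalPrimes_le haP
    have hP₁p : P₁.IsPrime := hP₁.1.1
    have htP₁ : t ∉ P₁ := by
      intro htP₁
      -- elements of minimal primes over `f N` are zero divisors modulo `f N`
      rw [Ideal.minimalPrimes_eq_comap] at hP₁
      obtain ⟨Pbar, h2, rfl⟩ := hP₁
      have h3 : Ideal.Quotient.mk (f N) t ∈ Pbar := htP₁
      have h4 : Ideal.Quotient.mk (f N) t ∈ nonZeroDivisors (R ⧸ f N) := by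
        rw [mem_nonZeroDivisors_iff_right]
        intro z hz
        obtain ⟨z, rfl⟩ := Ideal.Quotient.mk_surjective z
        rw [← map_mul, Ideal.Quotient.eq_zero_iff_mem] at hz
        exact Ideal.Quotient.eq_zero_iff_mem.mpr (hreg z hz)
      exact Set.disjoint_left.mp (Ideal.disjoint_nonZeroDivisors_of_mem_minimalPrimes h2) h3 h4
    obtain ⟨P₂, hP₂, hP₂P₁⟩ := Ideal.exists_minimalPrimes_le (bot_le : ⊥ ≤ P₁)
    have hP₂q : P₂ = q := by
      by_contra hne
      exact htP₁ (hP₂P₁ (ht P₂ hP₂ hne))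
    rw [← hP₂q]
    exact hP₂P₁.trans hP₁P
  · intro hle
    have h1 : t ^ N ∈ q := hle (Ideal.mem_span_singleton_self _)
    exact htq (hqp.mem_of_pow_mem N h1)

end S1

section S2

open IsLocalRing

variable {R : Type u} [CommRing R] [IsNoetherianRing R]

/-- If every prime containing `a` contains `q`, then `dim R/a ≤ dim R/q`. -/
theorem ringKrullDim_quotient_le_of_forall_prime {a q : Ideal R}
    (h : ∀ P : Ideal R, P.IsPrime → a ≤ P → q ≤ P) :
    ringKrullDim (R ⧸ a) ≤ ringKrullDim (R ⧸ q) := by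
  rw [ringKrullDim_quotient, ringKrullDim_quotient]
  have hsub : PrimeSpectrum.zeroLocus (a : Set R) ⊆ PrimeSpectrum.zeroLocus (q : Set R) := by
    intro P hP
    rw [PrimeSpectrum.mem_zeroLocus, SetLike.coe_subset_coe] at hP ⊢
    exact h P.asIdeal P.2 hP
  exact Order.krullDim_le_of_strictMono (Set.inclusion hsub)
    (fun x y hxy => hxy)

/-- In a local ring, if `dim R/q = 1`, `V(a) ⊆ V(q)` and `b ⊄ q`, then `a + b` contains a power of
the maximal ideal. -/
theorem exists_pow_maximalIdeal_le_sup [IsLocalRing R] {q a b : Ideal R} [hqp : q.IsPrime]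
    (hdim : ringKrullDim (R ⧸ q) = 1)
    (ha : ∀ P : Ideal R, P.IsPrime → a ≤ P → q ≤ P) (hb : ¬ b ≤ q) :
    ∃ k : ℕ, maximalIdeal R ^ k ≤ a ⊔ b := by
  have hrad : maximalIdeal R ≤ (a ⊔ b).radical := by
    rw [Ideal.radical_eq_sInf]
    refine le_sInf ?_
    rintro P ⟨hle, hP⟩
    have hqP : q ≤ P := ha P hP (le_sup_left.trans hle)
    have hne : q ≠ P := by
      rintro rfl
      exact hb (le_sup_right.trans hle)
    have hlt : q < P := lt_of_le_of_ne hqP hne
    by_contra hmP
    have hPm : P < maximalIdeal R :=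
      lt_of_le_of_ne (IsLocalRing.le_maximalIdeal hP.ne_top) (fun h => hmP h.ge)
    -- chain q < P < m in R ⧸ q
    have hP' : (P.map (Ideal.Quotient.mk q)).IsPrime :=
      Ideal.isPrime_map_quotientMk_of_isPrime hqP
    have hm' : ((maximalIdeal R).map (Ideal.Quotient.mk q)).IsPrime :=
      Ideal.isPrime_map_quotientMk_of_isPrime (hqP.trans hPm.le)
    have hdom : IsDomain (R ⧸ q) := Ideal.Quotient.isDomain q
    have hcm : ∀ K : Ideal R, q ≤ K →
        (K.map (Ideal.Quotient.mk q)).comap (Ideal.Quotient.mk q) = K := by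
      intro K hK
      rw [Ideal.comap_map_of_surjective _ Ideal.Quotient.mk_surjective,
        ← RingHom.ker_eq_comap_bot, Ideal.mk_ker, sup_eq_left.mpr hK]
    have h1 : (⊥ : Ideal (R ⧸ q)) < P.map (Ideal.Quotient.mk q) := by
      rw [bot_lt_iff_ne_bot]
      intro h0
      have := hcm P hqP
      rw [h0, ← RingHom.ker_eq_comap_bot, Ideal.mk_ker] at this
      exact hne this
    have h2 : P.map (Ideal.Quotient.mk q) < (maximalIdeal R).map (Ideal.Quotient.mk q) := by
      refine lt_of_le_of_ne (Ideal.map_mono hPm.le) ?_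
      intro heq
      have h3 := hcm P hqP
      rw [heq, hcm _ (hqP.trans hPm.le)] at h3
      exact hPm.ne h3.symm
    have hbp : (⊥ : Ideal (R ⧸ q)).IsPrime := Ideal.isPrime_bot
    have h3 : (1 : ℕ∞) ≤ (P.map (Ideal.Quotient.mk q)).height := by
      have := Ideal.height_strict_mono_of_isPrime_of_isPrime h1
      exact Order.one_le_iff_pos.mpr (lt_of_le_of_lt zero_le this)
    have h4 : (2 : ℕ∞) ≤ ((maximalIdeal R).map (Ideal.Quotient.mk q)).height := by
      have := Ideal.height_strict_mono_of_isPrime_of_isPrime h2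
      have h5 : (1 : ℕ∞) < ((maximalIdeal R).map (Ideal.Quotient.mk q)).height :=
        lt_of_le_of_lt h3 this
      exact Order.add_one_le_of_lt h5
    have h5 := Ideal.height_le_ringKrullDim_of_ne_top hm'.ne_top
    rw [hdim] at h5
    have h6 : ((2 : ℕ∞) : WithBot ℕ∞) ≤ 1 := (WithBot.coe_le_coe.mpr h4).trans h5
    exact absurd (WithBot.coe_le_coe.mp h6) (by decide)
  exact Ideal.exists_pow_le_of_le_radical_of_fg hrad (IsNoetherian.noetherian _)

end S2

end Groth.Agent.Lib.Helper28.Ratliff
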