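import Mathlib

set_option autoImplicit false
set_option linter.unusedSectionVars false
universe u

namespace Groth.Agent.Lib.Helper28.Ratliff

open TensorProduct

section EndIdeal

variable {A : Type u} [CommRing A] (c : Ideal A)

/-- Key identity: for `x ∈ c`, `x • φ = φ(x) • 1` in `End_A(c)`. -/
theorem smul_end_eq (φ : Module.End A c) (x : c) :
    (x : A) • φ = ((φ x : c) : A) • (1 : Module.End A c) := by
  ext y
  rw [LinearMap.smul_apply, LinearMap.smul_apply, Module.End.one_apply, ← map_smul]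
  have h1 : (x : A) • y = (y : A) • x := by
    apply Subtype.ext
    simp [mul_comm]
  rw [h1, map_smul]
  simp [mul_comm]

theorem end_noZeroDivisors [IsDomain A] (φ ψ : Module.End A c) (h : φ * ψ = 0) :
    φ = 0 ∨ ψ = 0 := by
  by_contra hcon
  push Not at hcon
  obtain ⟨hφ, hψ⟩ := hcon
  obtain ⟨y, hy⟩ : ∃ y, ψ y ≠ 0 := by
    by_contra hall
    push Not at hall
    exact hψ (LinearMap.ext hall)
  apply hφ
  ext x
  have h1 : φ (ψ y) = 0 := by
    have := LinearMap.congr_fun h y
    simpa using this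
  have h2 : ((ψ y : c) : A) • φ x = 0 := by
    rw [← map_smul]
    have h3 : ((ψ y : c) : A) • x = (x : A) • ψ y := by
      apply Subtype.ext
      simp [mul_comm]
    rw [h3, map_smul, h1, smul_zero]
  have h4 : ((ψ y : c) : A) * ((φ x : c) : A) = 0 := by
    have := congrArg Subtype.val h2
    simpa using this
  rcases mul_eq_zero.mp h4 with h5 | h5
  · exact absurd (Subtype.ext h5) hy
  · simpa using h5

variable {c}
variable {S : Type u} [CommRing S] [Algebra A S]

/-- Decomposition of elements of `S ⊗ End_A(c)` when `S = A + J S` with `J ⊆ c`. -/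
theorem exists_decomp_tensor_end {J : Ideal A} (hJ : J ≤ c)
    (hS : ∀ s : S, ∃ r : A, s - algebraMap A S r ∈ J.map (algebraMap A S))
    (ξ : S ⊗[A] Module.End A c) :
    ∃ (s : S) (φ : Module.End A c), ξ = s ⊗ₜ[A] (1 : Module.End A c) + (1 : S) ⊗ₜ[A] φ := by
  induction ξ using TensorProduct.induction_on with
  | zero => exact ⟨0, 0, by simp⟩
  | add x y hx hy =>
    obtain ⟨s₁, φ₁, rfl⟩ := hx
    obtain ⟨s₂, φ₂, rfl⟩ := hy
    refine ⟨s₁ + s₂, φ₁ + φ₂, ?_⟩
    rw [TensorProduct.add_tmul, TensorProduct.tmul_add]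
    abel
  | tmul s φ =>
    have key : ∀ s₁ ∈ J.map (algebraMap A S), ∃ s' : S,
        s₁ ⊗ₜ[A] φ = s' ⊗ₜ[A] (1 : Module.End A c) := by
      intro s₁ hs₁
      refine Submodule.span_induction ?_ ?_ ?_ ?_ hs₁
      · rintro _ ⟨j, hj, rfl⟩
        refine ⟨algebraMap A S (((φ ⟨j, hJ hj⟩ : c) : A)), ?_⟩
        rw [Algebra.algebraMap_eq_smul_one, Algebra.algebraMap_eq_smul_one,
          TensorProduct.smul_tmul, TensorProduct.smul_tmul]
        congr 1
        exact smul_end_eq c φ ⟨j, hJ hj⟩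
      · exact ⟨0, by simp⟩
      · rintro x y _ _ ⟨x', hx'⟩ ⟨y', hy'⟩
        exact ⟨x' + y', by rw [TensorProduct.add_tmul, TensorProduct.add_tmul, hx', hy']⟩
      · rintro u x _ ⟨x', hx'⟩
        refine ⟨u * x', ?_⟩
        rw [smul_eq_mul, ← smul_eq_mul, ← TensorProduct.smul_tmul', hx', TensorProduct.smul_tmul',
          smul_eq_mul]
    obtain ⟨r, hr⟩ := hS s
    obtain ⟨s', hs'⟩ := key _ hr
    refine ⟨s', r • φ, ?_⟩
    have h1 : s = (s - algebraMap A S r) + algebraMap A S r := by ring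
    conv_lhs => rw [h1]
    rw [TensorProduct.add_tmul, hs', Algebra.algebraMap_eq_smul_one, TensorProduct.smul_tmul]

end EndIdeal

section Iota

variable {A : Type u} [CommRing A] {S : Type u} [CommRing S] [Algebra A S] (c : Ideal A)

/-- The canonical map `S ⊗ c → S`. -/
noncomputable def iota : S ⊗[A] c →ₗ[S] S :=
  (TensorProduct.AlgebraTensorModule.rid A S S).toLinearMap ∘ₗ (c.subtype.baseChange S)

theorem iota_tmul (s : S) (x : c) : iota (S := S) c (s ⊗ₜ[A] x) = (x : A) • s := by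
  simp [iota]

theorem iota_injective [Module.Flat A S] : Function.Injective (iota (S := S) c) := by
  unfold iota
  rw [LinearMap.coe_comp]
  refine (TensorProduct.AlgebraTensorModule.rid A S S).injective.comp ?_
  rw [LinearMap.baseChange_eq_ltensor]
  exact Module.Flat.lTensor_preserves_injective_linearMap c.subtype (Submodule.injective_subtype c)

theorem range_iota : LinearMap.range (iota (S := S) c) = c.map (algebraMap A S) := by
  apply le_antisymm
  · rintro _ ⟨y, rfl⟩
    induction y using TensorProduct.induction_on with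
    | zero => rw [map_zero]; exact Ideal.zero_mem _
    | add x y hx hy => rw [map_add]; exact Ideal.add_mem _ hx hy
    | tmul s x =>
      rw [iota_tmul, Algebra.smul_def]
      exact Ideal.mul_mem_right _ _ (Ideal.mem_map_of_mem _ x.2)
  · rw [Ideal.map, Ideal.span_le]
    rintro _ ⟨x, hx, rfl⟩
    refine ⟨(1 : S) ⊗ₜ[A] (⟨x, hx⟩ : c), ?_⟩
    rw [iota_tmul, Algebra.smul_def, mul_one]

end Iota

section Proj

variable {A : Type u} [CommRing A] {S : Type u} [CommRing S] [Algebra A S] [Module.Flat A S]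
  (c : Ideal A)

/-- The projection of `c S = a ⊕ b` onto `b`, as an endomorphism of `S ⊗ c`. -/
theorem exists_idempotent_end (a b : Ideal S) (hab : a ⊓ b = ⊥)
    (hsup : a ⊔ b = c.map (algebraMap A S)) (hb : b ≠ ⊥) :
    ∃ π : Module.End S (S ⊗[A] c), π * π = π ∧ π ≠ 0 ∧ ∀ z ∈ a, z • π = 0 := by
  have hι := iota_injective (S := S) c
  have hrange := range_iota (S := S) c
  let a' : Submodule S (S ⊗[A] c) := Submodule.comap (iota c) a
  let b' : Submodule S (S ⊗[A] c) := Submodule.comap (iota c) b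
  have hdisj : b' ⊓ a' = ⊥ := by
    rw [eq_bot_iff]
    rintro y ⟨hyb, hya⟩
    have h1 : iota c y ∈ a ⊓ b := ⟨hya, hyb⟩
    rw [hab] at h1
    rw [Submodule.mem_bot]
    exact hι (by rw [(Submodule.mem_bot S).mp h1, map_zero])
  have hsup' : b' ⊔ a' = ⊤ := by
    rw [eq_top_iff]
    intro y _
    have hy : iota c y ∈ a ⊔ b := by
      rw [hsup, ← hrange]
      exact ⟨y, rfl⟩
    obtain ⟨α, hα, β, hβ, hαβ⟩ := Submodule.mem_sup.mp hy
    have hαr : α ∈ LinearMap.range (iota (S := S) c) := by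
      rw [hrange, ← hsup]
      exact Ideal.mem_sup_left hα
    have hβr : β ∈ LinearMap.range (iota (S := S) c) := by
      rw [hrange, ← hsup]
      exact Ideal.mem_sup_right hβ
    obtain ⟨y₁, rfl⟩ := hαr
    obtain ⟨y₂, rfl⟩ := hβr
    have h2 : y = y₂ + y₁ := hι (by rw [map_add, ← hαβ, add_comm])
    rw [h2]
    exact Submodule.add_mem_sup hβ hα
  have hcompl : IsCompl b' a' := ⟨disjoint_iff.mpr hdisj, codisjoint_iff.mpr hsup'⟩
  let π : Module.End S (S ⊗[A] c) := Submodule.projection b' a' hcompl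
  have hπb : ∀ y ∈ b', π y = y := fun y hy =>
    Submodule.projection_apply_left hcompl ⟨y, hy⟩
  have hπmem : ∀ y, π y ∈ b' := fun y => Submodule.projection_apply_mem hcompl y
  refine ⟨π, (Submodule.isIdempotentElem_projection hcompl).eq, ?_, ?_⟩
  · intro h0
    apply hb
    rw [eq_bot_iff]
    intro β hβ
    have hβr : β ∈ LinearMap.range (iota (S := S) c) := by
      rw [hrange, ← hsup]
      exact Ideal.mem_sup_right hβ
    obtain ⟨y, rfl⟩ := hβr
    have h1 : π y = y := hπb y hβ
    rw [h0, LinearMap.zero_apply] at h1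
    rw [← h1, map_zero]
    exact Submodule.zero_mem _
  · intro z hz
    refine LinearMap.ext fun y => ?_
    rw [LinearMap.smul_apply, LinearMap.zero_apply]
    apply hι
    rw [map_smul, map_zero, smul_eq_mul]
    have h1 : z * iota c (π y) ∈ a ⊓ b :=
      ⟨Ideal.mul_mem_right _ _ hz, Ideal.mul_mem_left _ _ (hπmem y)⟩
    rw [hab] at h1
    exact (Submodule.mem_bot S).mp h1

end Proj

section Construct

open Polynomial

variable {A : Type u} [CommRing A] [IsDomain A] [IsNoetherianRing A]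
  {S : Type u} [CommRing S] [Algebra A S] [Module.Flat A S] (c : Ideal A)

instance instNoZeroDivisorsEnd : NoZeroDivisors (Module.End A c) :=
  ⟨fun {φ ψ} h => end_noZeroDivisors c φ ψ h⟩

theorem exists_finite_algebra_idempotent (hc : c ≠ ⊥) {J : Ideal A} (hJ : J ≤ c)
    (hS : ∀ s : S, ∃ r : A, s - algebraMap A S r ∈ J.map (algebraMap A S))
    (a b : Ideal S) (hab : a ⊓ b = ⊥) (hsup : a ⊔ b = c.map (algebraMap A S)) (hb : b ≠ ⊥) :
    ∃ (A' : Type u) (_ : CommRing A') (_ : IsDomain A') (_ : Algebra A A')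
      (_ : Module.Finite A A'),
      Function.Injective (algebraMap A A') ∧
      ∃ e : A' ⊗[A] S, e * e = e ∧ e ≠ 0 ∧ ∀ z ∈ a, ((1 : A') ⊗ₜ[A] z) * e = 0 := by
  classical
  obtain ⟨π, hπ2, hπ0, hπz⟩ := exists_idempotent_end c a b hab hsup hb
  have hfp : Module.FinitePresentation A c := Module.finitePresentation_of_finite A c
  have hbc := Module.FinitePresentation.isBaseChange_map A c c S
  obtain ⟨s, φ₀, hξ⟩ := exists_decomp_tensor_end hJ hS (hbc.equiv.symm π)
  have hπeq : π = s • (1 : Module.End S (S ⊗[A] c)) + Module.End.baseChangeHom A S c φ₀ := by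
    have h1 := congrArg hbc.equiv hξ
    rw [LinearEquiv.apply_symm_apply, map_add, hbc.equiv_tmul, hbc.equiv_tmul, one_smul] at h1
    rw [h1]
    congr 1
    congr 1
    exact LinearMap.baseChange_one (R := A) (A := S) (M := c)
  -- the algebra `A' = A[φ₀]`
  let ev : A[X] →ₐ[A] Module.End A c := Polynomial.aeval φ₀
  let κ : (A[X] ⧸ RingHom.ker ev) →ₐ[A] Module.End A c := Ideal.kerLiftAlg ev
  have hκ : Function.Injective κ := Ideal.kerLiftAlg_injective ev
  have hκX : κ (Ideal.Quotient.mk _ X) = φ₀ := by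
    change ev X = φ₀
    exact Polynomial.aeval_X φ₀
  obtain ⟨x₀, hx₀⟩ := Submodule.exists_mem_ne_zero_of_ne_bot hc
  have hnt : Nontrivial (A[X] ⧸ RingHom.ker ev) := by
    refine ⟨⟨0, 1, fun h01 => ?_⟩⟩
    have h1 := congrArg κ h01
    rw [map_zero, map_one] at h1
    have h2 := LinearMap.congr_fun h1 ⟨x₀, hx₀.1⟩
    rw [LinearMap.zero_apply, Module.End.one_apply] at h2
    exact hx₀.2 (congrArg Subtype.val h2.symm)
  have hnzd : NoZeroDivisors (A[X] ⧸ RingHom.ker ev) :=
    hκ.noZeroDivisors κ (map_zero κ) (map_mul κ)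
  have hdom : IsDomain (A[X] ⧸ RingHom.ker ev) := NoZeroDivisors.to_isDomain _
  have hfin : Module.Finite A (A[X] ⧸ RingHom.ker ev) :=
    Module.Finite.of_injective κ.toLinearMap hκ
  have hinj : Function.Injective (algebraMap A (A[X] ⧸ RingHom.ker ev)) := by
    rw [injective_iff_map_eq_zero]
    intro r hr
    have h1 := congrArg κ hr
    rw [map_zero, AlgHom.commutes] at h1
    have h2 := LinearMap.congr_fun h1 ⟨x₀, hx₀.1⟩
    rw [LinearMap.zero_apply, Module.algebraMap_end_apply] at h2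
    have h3 : r * x₀ = 0 := by simpa using congrArg Subtype.val h2
    rcases mul_eq_zero.mp h3 with h4 | h4
    · exact h4
    · exact absurd h4 hx₀.2
  refine ⟨A[X] ⧸ RingHom.ker ev, inferInstance, hdom, inferInstance, hfin, hinj, ?_⟩
  let Φ : Module.End A c →ₐ[A] Module.End S (S ⊗[A] c) := Module.End.baseChangeHom A S c
  let f₁ : (A[X] ⧸ RingHom.ker ev) →ₐ[A] Module.End S (S ⊗[A] c) := Φ.comp κ
  let f₂ : S →ₐ[A] Module.End S (S ⊗[A] c) :=
    IsScalarTower.toAlgHom A S (Module.End S (S ⊗[A] c))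
  let Θ : (A[X] ⧸ RingHom.ker ev) ⊗[A] S →ₐ[A] Module.End S (S ⊗[A] c) :=
    Algebra.TensorProduct.lift f₁ f₂ (fun x y => (Algebra.commutes y (f₁ x)).symm)
  let L : (A[X] ⧸ RingHom.ker ev) ⊗[A] S →ₗ[A] Module.End S (S ⊗[A] c) :=
    (hbc.equiv.toLinearMap.restrictScalars A) ∘ₗ (LinearMap.lTensor S κ.toLinearMap) ∘ₗ
      (TensorProduct.comm A (A[X] ⧸ RingHom.ker ev) S).toLinearMap
  have hL : Function.Injective L := by
    have h1 : Function.Injective (LinearMap.lTensor S κ.toLinearMap) :=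
      Module.Flat.lTensor_preserves_injective_linearMap κ.toLinearMap hκ
    exact hbc.equiv.injective.comp (h1.comp (TensorProduct.comm A _ S).injective)
  have hΘL : ∀ x, Θ x = L x := by
    intro x
    induction x using TensorProduct.induction_on with
    | zero => rw [map_zero, map_zero]
    | add x y hx hy => rw [map_add, map_add, hx, hy]
    | tmul x y =>
      change Θ (x ⊗ₜ[A] y) = hbc.equiv (y ⊗ₜ[A] κ x)
      rw [hbc.equiv_tmul, Algebra.TensorProduct.lift_tmul]
      change Φ (κ x) * algebraMap S (Module.End S (S ⊗[A] c)) y = y • Φ (κ x)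
      rw [← Algebra.commutes, ← Algebra.smul_def]
  have hΘ : Function.Injective Θ := fun x y hxy => hL (by rw [← hΘL, ← hΘL, hxy])
  have hΘe : Θ ((Ideal.Quotient.mk _ X) ⊗ₜ[A] (1 : S) + (1 : A[X] ⧸ RingHom.ker ev) ⊗ₜ[A] s) = π := by
    rw [map_add, Algebra.TensorProduct.lift_tmul, Algebra.TensorProduct.lift_tmul, map_one, map_one,
      mul_one, one_mul, hπeq, add_comm]
    have h1 : f₂ s = s • (1 : Module.End S (S ⊗[A] c)) := by
      change algebraMap S (Module.End S (S ⊗[A] c)) s = _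
      rw [Algebra.algebraMap_eq_smul_one]
    have h2 : f₁ (Ideal.Quotient.mk _ X) = Module.End.baseChangeHom A S c φ₀ := by
      change Φ (κ (Ideal.Quotient.mk _ X)) = _
      rw [hκX]
    rw [h1, h2]
  refine ⟨(Ideal.Quotient.mk _ X) ⊗ₜ[A] (1 : S) + (1 : A[X] ⧸ RingHom.ker ev) ⊗ₜ[A] s, ?_, ?_, ?_⟩
  · apply hΘ
    rw [map_mul, hΘe, hπ2]
  · intro h0
    rw [h0, map_zero] at hΘe
    exact hπ0 hΘe.symm
  · intro z hz
    apply hΘ
    rw [map_mul, hΘe, map_zero, Algebra.TensorProduct.lift_tmul, map_one, one_mul]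
    change algebraMap S (Module.End S (S ⊗[A] c)) z * π = 0
    rw [← Algebra.smul_def]
    exact hπz z hz

end Construct

end Groth.Agent.Lib.Helper28.Ratliff
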