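import Mathlib
import Groth.Agent.Lib.Helper28RatliffA
import Groth.Agent.Lib.Helper28RatliffB
import Groth.Agent.Lib.Helper28ComplQuot
import Groth.Agent.Lib.Helper4DimFormulaE
import Groth.Agent.Lib.Helper5IntDim
import Groth.Agent.Lib.Helper19ComplNoeth
import Groth.Prelude

set_option autoImplicit false
set_option linter.unusedSectionVars false
universe u

namespace Groth.Agent.Lib.Helper28.Ratliff

open TensorProduct IsLocalRing

section C1

variable {R : Type u} [CommRing R]

/-- If all primes below `n` contain `K`, then `ht n ≤ dim R/K`. -/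
theorem height_le_ringKrullDim_quotient_of_forall_le (n : Ideal R) [hn : n.IsPrime] (K : Ideal R)
    (h : ∀ P : Ideal R, P.IsPrime → P ≤ n → K ≤ P) :
    ((n.height : ℕ∞) : WithBot ℕ∞) ≤ ringKrullDim (R ⧸ K) := by
  have h1 := PrimeSpectrum.height_eq_orderHeight (⟨n, hn⟩ : PrimeSpectrum R)
  change n.height = _ at h1
  rw [h1, Order.height_eq_krullDim_Iic, ringKrullDim_quotient]
  let f : Set.Iic (⟨n, hn⟩ : PrimeSpectrum R) → PrimeSpectrum.zeroLocus (K : Set R) :=
    fun P => ⟨P.1, by
      rw [PrimeSpectrum.mem_zeroLocus, SetLike.coe_subset_coe]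
      exact h P.1.asIdeal P.1.2 P.2⟩
  exact Order.krullDim_le_of_strictMono f (fun x y hxy => hxy)

end C1

section C2

variable {A : Type u} [CommRing A] [IsNoetherianRing A] (I : Ideal A)

theorem exists_sub_mem_map_pow_adicCompletion (k : ℕ) (x : AdicCompletion I A) :
    ∃ a : A, x - algebraMap A (AdicCompletion I A) a ∈
      (I ^ k).map (algebraMap A (AdicCompletion I A)) := by
  obtain ⟨a, ha⟩ := Groth.Agent.Lib.Helper28.exists_sub_of_mem_pow_smul_top I
    (IsNoetherian.noetherian _) k x
  refine ⟨a, ?_⟩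
  rw [← Submodule.restrictScalars_mem A, ← Ideal.smul_top_eq_map]
  exact ha

/-- An ideal of the completion containing `I^k Â` is extended from its contraction. -/
theorem map_comap_eq_of_map_pow_le (k : ℕ) (n : Ideal (AdicCompletion I A))
    (hn : (I ^ k).map (algebraMap A (AdicCompletion I A)) ≤ n) :
    (n.comap (algebraMap A (AdicCompletion I A))).map (algebraMap A (AdicCompletion I A)) = n := by
  apply le_antisymm Ideal.map_comap_le
  intro x hx
  obtain ⟨a, ha⟩ := exists_sub_mem_map_pow_adicCompletion I k x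
  have ha' : algebraMap A (AdicCompletion I A) a ∈ n := by
    have := n.sub_mem hx (hn ha)
    rwa [sub_sub_cancel] at this
  have hI : I ^ k ≤ n.comap (algebraMap A (AdicCompletion I A)) :=
    Ideal.map_le_iff_le_comap.mp hn
  have e : x = (x - algebraMap A (AdicCompletion I A) a) + algebraMap A (AdicCompletion I A) a := by
    ring
  rw [e]
  exact Ideal.add_mem _ (Ideal.map_mono hI ha) (Ideal.mem_map_of_mem _ ha')

end C2

section E4

variable {A : Type u} [CommRing A] [IsNoetherianRing A] {S : Type u} [CommRing S]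
  [IsNoetherianRing S] [IsLocalRing S] [Algebra A S] [Module.Flat A S]

/-- From an idempotent of `A' ⊗ S` killed by `a`, a prime of `A'` of small height over the closed
point. -/
theorem exists_prime_height_le (A' : Type u) [CommRing A'] [Algebra A A'] [Module.Finite A A']
    (e : A' ⊗[A] S) (he : e * e = e) (he0 : e ≠ 0) (a : Ideal S)
    (hae : ∀ z ∈ a, ((1 : A') ⊗ₜ[A] z) * e = 0) :
    ∃ n : Ideal A', n.IsPrime ∧
      n.comap (algebraMap A A') = (maximalIdeal S).comap (algebraMap A S) ∧
      ((n.height : ℕ∞) : WithBot ℕ∞) ≤ ringKrullDim (S ⧸ a) := by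
  let g : S →+* A' ⊗[A] S := (Algebra.TensorProduct.includeRight : S →ₐ[A] A' ⊗[A] S).toRingHom
  have hg : ∀ z, g z = (1 : A') ⊗ₜ[A] z := fun z => rfl
  let e' := Algebra.TensorProduct.comm A A' S
  have hgint : g.IsIntegral := by
    have h1 : (algebraMap S (S ⊗[A] A')).IsIntegral :=
      algebraMap_isIntegral_iff.mpr inferInstance
    have h2 : g = (e'.symm : S ⊗[A] A' →+* A' ⊗[A] S).comp (algebraMap S (S ⊗[A] A')) := by
      ext z
      rw [hg, RingHom.comp_apply, Algebra.TensorProduct.algebraMap_apply]
      simp [e']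
    rw [h2]
    exact RingHom.IsIntegral.trans _ _ h1
      (RingHom.isIntegral_of_surjective _ e'.symm.surjective)
  have hNoeth : IsNoetherianRing (A' ⊗[A] S) := by
    have h1 : IsNoetherianRing (S ⊗[A] A') := IsNoetherianRing.of_finite S (S ⊗[A] A')
    exact isNoetherianRing_of_ringEquiv _ e'.symm.toRingEquiv
  -- a maximal ideal containing `1 - e`
  have hK : Ideal.span {1 - e} ≠ (⊤ : Ideal (A' ⊗[A] S)) := by
    intro htop
    have h1 : (1 : A' ⊗[A] S) ∈ Ideal.span {1 - e} := by rw [htop]; exact Submodule.mem_top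
    obtain ⟨x, hx⟩ := Ideal.mem_span_singleton'.mp h1
    apply he0
    calc e = e * 1 := (mul_one e).symm
      _ = e * (x * (1 - e)) := by rw [hx]
      _ = x * (e - e * e) := by ring
      _ = 0 := by rw [he, sub_self, mul_zero]
  obtain ⟨nh, hnh, hle⟩ := Ideal.exists_le_maximal _ hK
  have henh : e ∉ nh := by
    intro hmem
    have h1 : (1 - e) ∈ nh := hle (Ideal.mem_span_singleton_self _)
    have h2 : (1 : A' ⊗[A] S) ∈ nh := by
      have := nh.add_mem hmem h1
      rwa [add_sub_cancel] at this
    exact hnh.ne_top ((Ideal.eq_top_iff_one _).mpr h2)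
  have hnhp : nh.IsPrime := hnh.isPrime
  -- contraction to S is the maximal ideal
  have hcS : nh.comap g = maximalIdeal S :=
    IsLocalRing.eq_maximalIdeal (Ideal.isMaximal_comap_of_isIntegral_of_isMaximal' g hgint nh)
  -- height of nh
  have hht : ((nh.height : ℕ∞) : WithBot ℕ∞) ≤ ringKrullDim (S ⧸ a) := by
    have h1 : ∀ P : Ideal (A' ⊗[A] S), P.IsPrime → P ≤ nh → a.map g ≤ P := by
      intro P hP hPn
      rw [Ideal.map_le_iff_le_comap]
      intro z hz
      rw [Ideal.mem_comap]
      have h2 : g z * e ∈ P := by rw [hg, hae z hz]; exact P.zero_mem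
      rcases hP.mem_or_mem h2 with h3 | h3
      · exact h3
      · exact absurd (hPn h3) henh
    refine (height_le_ringKrullDim_quotient_of_forall_le nh (a.map g) h1).trans ?_
    -- integrality
    let f : S →+* (A' ⊗[A] S) ⧸ a.map g := (Ideal.Quotient.mk (a.map g)).comp g
    have hfint : f.IsIntegral :=
      RingHom.IsIntegral.trans _ _ hgint
        (RingHom.isIntegral_of_surjective _ Ideal.Quotient.mk_surjective)
    rw [Groth.Agent.Lib.Helper5.ringKrullDim_eq_ringKrullDim_quotient_ker_of_isIntegral f hfint]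
    have hker : a ≤ RingHom.ker f := by
      intro z hz
      rw [RingHom.mem_ker]
      change Ideal.Quotient.mk (a.map g) (g z) = 0
      exact Ideal.Quotient.eq_zero_iff_mem.mpr (Ideal.mem_map_of_mem g hz)
    exact ringKrullDim_le_of_surjective (Ideal.Quotient.factor hker)
      (Ideal.Quotient.factor_surjective hker)
  -- contraction to A'
  refine ⟨nh.comap (algebraMap A' (A' ⊗[A] S)), Ideal.comap_isPrime _ _, ?_, ?_⟩
  · rw [← hcS, Ideal.comap_comap, Ideal.comap_comap]
    congr 1
    ext r
    rw [RingHom.comp_apply, RingHom.comp_apply, hg, Algebra.TensorProduct.algebraMap_apply,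
      Algebra.algebraMap_self, RingHom.id_apply,
      Algebra.algebraMap_eq_smul_one r, Algebra.algebraMap_eq_smul_one (A := S) r,
      TensorProduct.smul_tmul]
  · refine le_trans ?_ hht
    rw [WithBot.coe_le_coe]
    have hlo : nh.LiesOver (nh.comap (algebraMap A' (A' ⊗[A] S))) := ⟨rfl⟩
    have hNA' : IsNoetherianRing A' := IsNoetherianRing.of_finite A A'
    have hnp : (nh.comap (algebraMap A' (A' ⊗[A] S))).IsPrime := Ideal.comap_isPrime _ _
    rw [Ideal.height_eq_height_add_of_liesOver_of_hasGoingDown
      (nh.comap (algebraMap A' (A' ⊗[A] S))) nh]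
    exact le_self_add

end E4

section R1

variable (A : Type u) [CommRing A] [IsDomain A] [IsNoetherianRing A] [IsLocalRing A]

/-- **Ratliff's theorem, one-dimensional components**: the completion of a universally catenary
Noetherian local domain of dimension at least two has no minimal prime of coheight one. -/
theorem ringKrullDim_quotient_minimalPrime_ne_one (hUC : CAlg.IsUniversallyCatenary A)
    (hdim : (2 : WithBot ℕ∞) ≤ ringKrullDim A)
    (q : Ideal (AdicCompletion (maximalIdeal A) A))
    (hq : q ∈ minimalPrimes (AdicCompletion (maximalIdeal A) A)) :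
    ringKrullDim (AdicCompletion (maximalIdeal A) A ⧸ q) ≠ 1 := by
  intro hq1
  have hNS : IsNoetherianRing (AdicCompletion (maximalIdeal A) A) :=
    Groth.Agent.Lib.Helper19.isNoetherianRing_adicCompletion _
  have hqp : q.IsPrime := hq.1.1
  obtain ⟨a, b, hab, ha, hb⟩ := exists_ideals_of_mem_minimalPrimes hq
  obtain ⟨k, hk⟩ := exists_pow_maximalIdeal_le_sup hq1 ha hb
  have hb0 : b ≠ ⊥ := by
    rintro rfl
    exact hb bot_le
  have hmap : maximalIdeal (AdicCompletion (maximalIdeal A) A) =
      (maximalIdeal A).map (algebraMap A (AdicCompletion (maximalIdeal A) A)) :=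
    AdicCompletion.maximalIdeal_eq_map
  have hk' : ((maximalIdeal A) ^ k).map (algebraMap A (AdicCompletion (maximalIdeal A) A)) ≤
      a ⊔ b := by
    rw [Ideal.map_pow, ← hmap]
    exact hk
  set c : Ideal A := (a ⊔ b).comap (algebraMap A (AdicCompletion (maximalIdeal A) A)) with hc
  have hcmap : c.map (algebraMap A (AdicCompletion (maximalIdeal A) A)) = a ⊔ b :=
    map_comap_eq_of_map_pow_le (maximalIdeal A) k (a ⊔ b) hk'
  have hJc : maximalIdeal A ^ k ≤ c := Ideal.map_le_iff_le_comap.mp hk'
  have hc0 : c ≠ ⊥ := by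
    intro h0
    rw [h0, Ideal.map_bot] at hcmap
    exact hb0 (le_bot_iff.mp (hcmap ▸ le_sup_right))
  obtain ⟨A', _, _, _, _, hinj, e, he, he0, hae⟩ :=
    exists_finite_algebra_idempotent (S := AdicCompletion (maximalIdeal A) A) c hc0 hJc
      (exists_sub_mem_map_pow_adicCompletion (maximalIdeal A) k) a b hab hcmap.symm hb0
  obtain ⟨n, hnp, hncomap, hnht⟩ := exists_prime_height_le A' e he he0 a hae
  -- dimension bounds
  have h1 : ((n.height : ℕ∞) : WithBot ℕ∞) ≤ 1 := by
    refine hnht.trans ?_
    rw [← hq1]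
    exact ringKrullDim_quotient_le_of_forall_prime ha
  -- the dimension formula
  have hcm : (maximalIdeal (AdicCompletion (maximalIdeal A) A)).comap
      (algebraMap A (AdicCompletion (maximalIdeal A) A)) = maximalIdeal A :=
    IsLocalRing.maximalIdeal_comap _
  rw [hcm] at hncomap
  have hlo : n.LiesOver (maximalIdeal A) := ⟨hncomap.symm⟩
  have hfs : FaithfulSMul A A' := (faithfulSMul_iff_algebraMap_injective A A').mpr hinj
  have hft : Algebra.FiniteType A A' := inferInstance
  have hint : Algebra.IsIntegral A A' := inferInstance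
  have hmp : (maximalIdeal A).IsPrime := inferInstance
  have hformula := Groth.Agent.Lib.Helper4.DimFormula.height_add_trdeg_eq A hUC A'
    (maximalIdeal A) n
  have hint2 : Algebra.IsIntegral (A ⧸ maximalIdeal A) (A' ⧸ n) := inferInstance
  rw [trdeg_eq_zero, trdeg_eq_zero, add_zero, add_zero] at hformula
  have hheq : n.height = (maximalIdeal A).height := by exact_mod_cast hformula
  rw [hheq, IsLocalRing.maximalIdeal_height_eq_ringKrullDim] at h1
  have h2 : (2 : WithBot ℕ∞) ≤ 1 := hdim.trans h1
  exact absurd h2 (by decide)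

end R1

end Groth.Agent.Lib.Helper28.Ratliff
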