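import Groth.Agent.Lib.Helper28RatliffC
import Groth.Agent.Lib.Helper28Equidim
import Groth.Agent.Lib.Helper28ComplCat
import Groth.Agent.Lib.Helper28FormalEquidimLoc
import Groth.Agent.Lib.Helper19ComplDim
import Groth.Agent.S9126

/-!
# Helper28RatliffD: auxiliary lemmas for the induction in Ratliff's theorem
-/

set_option autoImplicit false
set_option linter.unusedSectionVars false
universe u

namespace Groth.Agent.Lib.Helper28.Ratliff

open IsLocalRing

section D1

variable {R : Type u} [CommRing R] [IsNoetherianRing R]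

/-- A prime minimal over `q + (x)` covers `q`: nothing strictly in between. -/
theorem eq_of_lt_of_le_of_mem_minimalPrimes_sup_span {q q' P : Ideal R} [hq : q.IsPrime]
    [hP : P.IsPrime] {x : R} (hq' : q' ∈ (q ⊔ Ideal.span {x}).minimalPrimes)
    (h1 : q < P) (h2 : P ≤ q') : P = q' := by
  by_contra hne
  have hlt : P < q' := lt_of_le_of_ne h2 hne
  have hq'p : q'.IsPrime := hq'.1.1
  have hht := Ideal.map_height_le_one_of_mem_minimalPrimes hq'
  have hker : RingHom.ker (Ideal.Quotient.mk q) = q := Ideal.mk_ker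
  have hsurj : Function.Surjective (Ideal.Quotient.mk q) := Ideal.Quotient.mk_surjective
  have hPm : (P.map (Ideal.Quotient.mk q)).IsPrime :=
    Ideal.map_isPrime_of_surjective hsurj (by rw [hker]; exact h1.le)
  have hq'm : (q'.map (Ideal.Quotient.mk q)).IsPrime :=
    Ideal.map_isPrime_of_surjective hsurj (by rw [hker]; exact h1.le.trans h2)
  have hcm : ∀ J : Ideal R, q ≤ J → (J.map (Ideal.Quotient.mk q)).comap (Ideal.Quotient.mk q) = J := by
    intro J hJ
    rw [Ideal.comap_map_of_surjective _ hsurj, ← RingHom.ker_eq_comap_bot, hker]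
    exact sup_eq_left.mpr hJ
  have hlt1 : P.map (Ideal.Quotient.mk q) < q'.map (Ideal.Quotient.mk q) := by
    refine lt_of_le_of_ne (Ideal.map_mono h2) (fun e => hne ?_)
    rw [← hcm P h1.le, e, hcm q' (h1.le.trans h2)]
  have hlt0 : (⊥ : Ideal (R ⧸ q)) < P.map (Ideal.Quotient.mk q) := by
    refine lt_of_le_of_ne bot_le (fun e => ?_)
    have := hcm P h1.le
    rw [← e, ← RingHom.ker_eq_comap_bot, hker] at this
    exact h1.ne this
  have hbp : (⊥ : Ideal (R ⧸ q)).IsPrime := Ideal.isPrime_bot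
  have a1 := Ideal.height_strict_mono_of_isPrime hlt0
  have a2 := Ideal.height_strict_mono_of_isPrime hlt1
  have a3 : (P.map (Ideal.Quotient.mk q)).height < 1 := lt_of_lt_of_le a2 hht
  rw [Order.lt_one_iff] at a3
  rw [a3] at a1
  exact not_lt_bot a1

end D1

section D2

variable (A : Type u) [CommRing A] [IsDomain A] [IsNoetherianRing A] [IsLocalRing A]

local notation "Ahat" => AdicCompletion (maximalIdeal A) A

theorem exists_nat_ringKrullDim (R : Type u) [CommRing R] [IsNoetherianRing R] [IsLocalRing R] :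
    ∃ n : ℕ, ringKrullDim R = n := by
  have h1 : ringKrullDim R < ⊤ := ringKrullDim_lt_top
  have h2 : 0 ≤ ringKrullDim R := ringKrullDim_nonneg_of_nontrivial
  have h3 : ringKrullDim R ≠ ⊥ := fun e => by rw [e] at h2; exact absurd h2 (by decide)
  obtain ⟨m, hm⟩ := WithBot.ne_bot_iff_exists.mp h3
  have h4 : m ≠ ⊤ := by
    rintro rfl
    rw [← hm] at h1
    exact lt_irrefl _ h1
  obtain ⟨n, hn⟩ := ENat.ne_top_iff_exists.mp h4
  exact ⟨n, by rw [← hm, ← hn]; rfl⟩

theorem algebraMap_notMem_of_mem_minimalPrimes (P : Ideal Ahat) (hP : P ∈ minimalPrimes Ahat)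
    (b : A) (hb : b ≠ 0) : algebraMap A Ahat b ∉ P := by
  intro hbP
  have h1 : IsSMulRegular A b :=
    (isRegular_iff_mem_nonZeroDivisors.mpr (mem_nonZeroDivisors_of_ne_zero hb)).isSMulRegular
  have h2 : IsSMulRegular Ahat (algebraMap A Ahat b) := h1.of_flat
  have h3 : algebraMap A Ahat b ∈ nonZeroDivisors Ahat := by
    rw [← isRegular_iff_mem_nonZeroDivisors]
    exact isLeftRegular_iff_isRegular.mp h2.isLeftRegular
  exact Set.disjoint_left.mp (Ideal.disjoint_nonZeroDivisors_of_mem_minimalPrimes hP) hbP h3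

/-- Prime avoidance in the completion. -/
theorem exists_mem_maximalIdeal_forall_notMem (hm : maximalIdeal A ≠ ⊥) (T : Set (Ideal Ahat))
    (hT : T.Finite) (hTp : ∀ P ∈ T, P.IsPrime) (hTm : ∀ P ∈ T, P ≠ maximalIdeal Ahat) :
    ∃ x ∈ maximalIdeal A, x ≠ 0 ∧ ∀ P ∈ T, algebraMap A Ahat x ∉ P := by
  classical
  by_contra hcon
  push Not at hcon
  let s : Finset (Ideal A) := insert ⊥ (hT.toFinset.image (Ideal.comap (algebraMap A Ahat)))
  have hp : ∀ i ∈ s, i ≠ ⊥ → i ≠ ⊥ → (id i : Ideal A).IsPrime := by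
    intro i hi hi0 _
    rcases Finset.mem_insert.mp hi with h | h
    · exact absurd h hi0
    · obtain ⟨P, hP, rfl⟩ := Finset.mem_image.mp h
      have := hTp P (hT.mem_toFinset.mp hP)
      exact Ideal.comap_isPrime _ _
  have hsub : ((maximalIdeal A : Ideal A) : Set A) ⊆ ⋃ i ∈ (↑s : Set (Ideal A)), (id i : Ideal A) := by
    intro x hx
    rw [Set.mem_iUnion₂]
    by_cases hx0 : x = 0
    · exact ⟨⊥, Finset.mem_coe.mpr (Finset.mem_insert_self _ _), by rw [hx0]; exact Ideal.zero_mem _⟩
    · obtain ⟨P, hP, hxP⟩ := hcon x hx hx0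
      refine ⟨P.comap (algebraMap A Ahat), Finset.mem_coe.mpr (Finset.mem_insert_of_mem
        (Finset.mem_image_of_mem _ (hT.mem_toFinset.mpr hP))), ?_⟩
      exact hxP
  obtain ⟨i, hi, hle⟩ := (Ideal.subset_union_prime (f := id) ⊥ ⊥ hp).mp hsub
  rcases Finset.mem_insert.mp hi with h | h
  · rw [h] at hle
    exact hm (le_bot_iff.mp hle)
  · obtain ⟨P, hP, rfl⟩ := Finset.mem_image.mp h
    have hPT := hT.mem_toFinset.mp hP
    have hPp := hTp P hPT
    have h1 : maximalIdeal Ahat ≤ P := by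
      rw [AdicCompletion.maximalIdeal_eq_map, Ideal.map_le_iff_le_comap]
      exact hle
    exact hTm P hPT (le_antisymm (IsLocalRing.le_maximalIdeal hPp.ne_top) h1)

end D2

section D3

/-- transport of a minimal prime along a ring isomorphism -/
theorem exists_minimalPrime_of_ringEquiv {R R' : Type u} [CommRing R] [CommRing R'] (e : R ≃+* R')
    (P : Ideal R) (hP : P ∈ minimalPrimes R) :
    ∃ P' ∈ minimalPrimes R', Nonempty (R ⧸ P ≃+* R' ⧸ P') := by
  refine ⟨P.comap (e.symm : R' →+* R), ?_, ⟨Ideal.quotientEquiv P _ e ?_⟩⟩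
  · have h := Ideal.minimalPrimes_comap_of_surjective (f := (e.symm : R' →+* R))
      e.symm.surjective (I := ⊥) (J := P) hP
    have h0 : Ideal.comap (e.symm : R' →+* R) ⊥ = ⊥ :=
      Ideal.comap_bot_of_injective _ e.symm.injective
    rwa [h0] at h
  · exact (Ideal.map_comap_of_equiv e).symm

variable (A : Type u) [CommRing A] [IsDomain A] [IsNoetherianRing A] [IsLocalRing A]

local notation "Ahat" => AdicCompletion (maximalIdeal A) A

/-- the completion of `A ⧸ p` as a quotient of the completion -/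
theorem exists_ringEquiv_quotient_adicCompletion (p : Ideal A) [p.IsPrime] :
    Nonempty ((Ahat ⧸ p.map (algebraMap A Ahat)) ≃+*
      AdicCompletion (maximalIdeal (A ⧸ p)) (A ⧸ p)) := by
  obtain ⟨e, -⟩ := Groth.Agent.Lib.Helper28.exists_ringEquiv_adicCompletion_quotient
    (maximalIdeal A) p
  have hJ : (maximalIdeal A).map (Ideal.Quotient.mk p) = maximalIdeal (A ⧸ p) := by
    exact IsLocalRing.map_maximalIdeal_of_surjective _ Ideal.Quotient.mk_surjective
  rw [hJ] at e
  exact ⟨e⟩

end D3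

end Groth.Agent.Lib.Helper28.Ratliff
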