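import Groth.Agent.Lib.Helper28RatliffE
import Groth.Agent.Lib.Helper28GeomFibre6
import Groth.Agent.Lib.Helper28FormalFibres
import Groth.Agent.Lib.Helper28DepthMore

/-!
# Helper28RatliffF: consequences of Ratliff's theorem for completions with `(S_1)` formal fibres
-/

set_option autoImplicit false
set_option linter.unusedSectionVars false
universe u

namespace Groth.Agent.Lib.Helper28.Ratliff

open IsLocalRing Groth.Agent.Lib.Helper28

section F

/-- `(S_n)` formal fibres pass to quotients. -/
theorem hasSnFormalFibres_quotient (n : ℕ) (A : Type u) [CommRing A] [IsNoetherianRing A]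
    [IsLocalRing A] (hA : EGA4.HasSnFormalFibres n A) (I : Ideal A) [Nontrivial (A ⧸ I)] :
    EGA4.HasSnFormalFibres n (A ⧸ I) := by
  obtain ⟨e⟩ := nonempty_algEquiv_tensor_adicCompletion_quotient A I
  have hN1 : IsNoetherianRing (EGA4.Cpl A) :=
    Groth.Agent.Lib.Helper19.isNoetherianRing_adicCompletion _
  have hN2 : IsNoetherianRing (EGA4.Cpl (A ⧸ I)) :=
    Groth.Agent.Lib.Helper19.isNoetherianRing_adicCompletion _
  intro P' _
  rw [hasSk_fiber_iff]
  exact fiber_of_property_of_algEquiv
    (RingHom.surjectiveOnStalks_of_surjective Ideal.Quotient.mk_surjective) e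
    (fun T _ => ∀ (Q : Ideal T) [Q.IsPrime], SnLocalRing n (Localization.AtPrime Q))
    (fun T T' _ _ e h Q hQ => by
      have hp : (Q.comap (e : T →+* T')).IsPrime := Ideal.comap_isPrime _ _
      exact snLocalRing_of_ringEquiv n _ _
        (Localization.localRingEquiv (Q.comap (e : T →+* T')) Q e rfl) (h _))
    (fun p _ => (hasSk_fiber_iff n p).mp (hA p)) P'

/-- A Noetherian domain satisfies `(S_1)`. -/
theorem hasSk_one_of_isDomain (D : Type u) [CommRing D] [IsDomain D] [IsNoetherianRing D] :
    LocCoh.HasSk 1 D D := by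
  rw [← hasSk_one_iff_forall_mem_minimalPrimes]
  intro p hp
  have h1 : associatedPrimes D D = {⊥} := isTorsionFree_iff_associatedPrimes_eq.mp inferInstance
  rw [h1, Set.mem_singleton_iff] at hp
  rw [hp, Module.annihilator_eq_bot.mpr inferInstance]
  exact ⟨⟨Ideal.isPrime_bot, le_rfl⟩, fun q _ _ => bot_le⟩

/-- The completion of a universally catenary Noetherian local domain of dimension at least two
with `(S_1)` formal fibres: all associated primes have coheight at least two. -/
theorem two_le_ringKrullDim_quotient_of_mem_associatedPrimes_cpl (D : Type u) [CommRing D]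
    [IsDomain D] [IsNoetherianRing D] [IsLocalRing D] (hUC : CAlg.IsUniversallyCatenary D)
    (hFF : EGA4.HasSnFormalFibres 1 D) (hdim : (2 : WithBot ℕ∞) ≤ ringKrullDim D) :
    ∀ P ∈ associatedPrimes (EGA4.Cpl D) (EGA4.Cpl D),
      (2 : WithBot ℕ∞) ≤ ringKrullDim (EGA4.Cpl D ⧸ P) := by
  intro P hP
  have hN : IsNoetherianRing (EGA4.Cpl D) :=
    Groth.Agent.Lib.Helper19.isNoetherianRing_adicCompletion _
  have hS1 : LocCoh.HasSk 1 (EGA4.Cpl D) (EGA4.Cpl D) :=
    hasSk_of_flat_of_forall_hasSk_fiber 1 (hasSk_one_of_isDomain D) hFF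
  have hmin := (hasSk_one_iff_forall_mem_minimalPrimes).mpr hS1 P hP
  rw [Module.annihilator_eq_bot.mpr inferInstance] at hmin
  have heq := isEquidim_adicCompletion_of_isUniversallyCatenary D hUC P hmin
  rw [heq, Groth.Agent.Lib.Helper19.ringKrullDim_adicCompletion_maximalIdeal D]
  exact hdim

/-- The height of `q` among the primes above `p` is at most the height of `q/p` in `A/p`. -/
theorem height_Ici_le_height_map_mk {A : Type u} [CommRing A] (p q : PrimeSpectrum A)
    (hpq : p ≤ q) :
    Order.height (⟨q, hpq⟩ : Set.Ici p) ≤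
      (q.asIdeal.map (Ideal.Quotient.mk p.asIdeal)).height := by
  have hsurj : Function.Surjective (Ideal.Quotient.mk p.asIdeal) := Ideal.Quotient.mk_surjective
  let F : Set.Ici p → PrimeSpectrum (A ⧸ p.asIdeal) := fun x =>
    ⟨x.1.asIdeal.map (Ideal.Quotient.mk p.asIdeal),
      Ideal.map_isPrime_of_surjective hsurj (by rw [Ideal.mk_ker]; exact x.2)⟩
  have hcm : ∀ x : Set.Ici p,
      (x.1.asIdeal.map (Ideal.Quotient.mk p.asIdeal)).comap (Ideal.Quotient.mk p.asIdeal) =
        x.1.asIdeal := by
    intro x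
    rw [Ideal.comap_map_of_surjective _ hsurj, ← RingHom.ker_eq_comap_bot, Ideal.mk_ker,
      sup_eq_left]
    exact x.2
  have hF : StrictMono F := by
    intro x y hxy
    have hle : x.1.asIdeal ≤ y.1.asIdeal := hxy.le
    refine lt_of_le_of_ne (Ideal.map_mono hle : (F x).asIdeal ≤ (F y).asIdeal) ?_
    intro heq
    have h1 : (F x).asIdeal = (F y).asIdeal := congrArg PrimeSpectrum.asIdeal heq
    have h3 : x.1.asIdeal = y.1.asIdeal := by
      rw [← hcm x, ← hcm y]
      exact congrArg (Ideal.comap (Ideal.Quotient.mk p.asIdeal)) h1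
    exact hxy.ne (Subtype.ext (PrimeSpectrum.ext h3))
  have h3 := Order.height_le_height_apply_of_strictMono F hF ⟨q, hpq⟩
  have h5 := PrimeSpectrum.height_eq_orderHeight (F ⟨q, hpq⟩)
  exact h3.trans h5.ge

end F

end Groth.Agent.Lib.Helper28.Ratliff
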