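import Mathlib
import Groth.Agent.Lib.Helper28WeakKrull3

/-!
# Helper28RedQuot1: reduced principal quotients of Noetherian normal domains, part 1

* `symSq Q`: the second symbolic power of a prime;
* `isReduced_quotient_of_forall_not_mem_symSq`: `R ⧸ (f)` is reduced when `f ∉ Q^(2)` for every
  height-one prime `Q ∋ f` (`R` a Noetherian normal domain);
* `exists_mem_inf_not_mem_symSq` (Lemma A), `exists_modification` (Lemma M).
-/

set_option autoImplicit false
universe u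

namespace Groth.Agent.Lib.Helper28.RedQuot
open IsLocalRing

section SymSq

variable {R : Type u} [CommRing R]

/-- The second symbolic power of a prime. -/
def symSq (Q : Ideal R) [Q.IsPrime] : Ideal R :=
  ((maximalIdeal (Localization.AtPrime Q)) ^ 2).comap (algebraMap R (Localization.AtPrime Q))

theorem symSq_le (Q : Ideal R) [Q.IsPrime] : symSq Q ≤ Q := by
  intro x hx
  have h1 : algebraMap R (Localization.AtPrime Q) x ∈ maximalIdeal (Localization.AtPrime Q) :=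
    Ideal.pow_le_self two_ne_zero hx
  rw [← Localization.AtPrime.under_maximalIdeal (I := Q)]
  exact h1

theorem sq_le_symSq (Q : Ideal R) [Q.IsPrime] : Q ^ 2 ≤ symSq Q := by
  rw [symSq, ← Ideal.map_le_iff_le_comap, Ideal.map_pow,
    Localization.AtPrime.map_eq_maximalIdeal]

theorem mem_symSq_of_mul_mem (Q : Ideal R) [Q.IsPrime] {a x : R} (ha : a ∉ Q)
    (h : a * x ∈ symSq Q) : x ∈ symSq Q := by
  have hu : IsUnit (algebraMap R (Localization.AtPrime Q) a) :=
    IsLocalization.map_units (Localization.AtPrime Q) (⟨a, ha⟩ : Q.primeCompl)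
  have h' : algebraMap R (Localization.AtPrime Q) (a * x) ∈
      (maximalIdeal (Localization.AtPrime Q)) ^ 2 := h
  rw [map_mul] at h'
  exact (Ideal.unit_mul_mem_iff_mem _ hu).mp h'

theorem exists_mem_not_mem_symSq [IsDomain R] [IsNoetherianRing R] (Q : Ideal R) [Q.IsPrime]
    (hQ : Q ≠ ⊥) : ∃ q ∈ Q, q ∉ symSq Q := by
  by_contra hcon
  push Not at hcon
  have hle : Q ≤ symSq Q := hcon
  have h1 : maximalIdeal (Localization.AtPrime Q) ≤ (maximalIdeal (Localization.AtPrime Q)) ^ 2 := by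
    rw [← Localization.AtPrime.map_eq_maximalIdeal (I := Q), Ideal.map_le_iff_le_comap]
    rw [Localization.AtPrime.map_eq_maximalIdeal]
    exact hle
  have hN : IsNoetherianRing (Localization.AtPrime Q) :=
    IsLocalization.isNoetherianRing Q.primeCompl _ inferInstance
  have h2 : maximalIdeal (Localization.AtPrime Q) = ⊥ := by
    apply Submodule.eq_bot_of_le_smul_of_le_jacobson_bot (maximalIdeal (Localization.AtPrime Q))
      (maximalIdeal (Localization.AtPrime Q)) (IsNoetherian.noetherian _)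
    · rw [smul_eq_mul, ← pow_two]; exact h1
    · exact IsLocalRing.maximalIdeal_le_jacobson _
  apply hQ
  rw [← Localization.AtPrime.under_maximalIdeal (I := Q), h2]
  have hfs : FaithfulSMul R (Localization.AtPrime Q) :=
    (faithfulSMul_iff_algebraMap_injective _ _).mpr
      (IsLocalization.injective (Localization.AtPrime Q) Q.primeCompl_le_nonZeroDivisors)
  exact Ideal.under_bot R (Localization.AtPrime Q)

/-- In a DVR, an element of `𝔪 \ 𝔪²` dividing a power divides the base. -/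
theorem dvd_of_dvd_pow_of_not_mem_sq {A : Type u} [CommRing A] [IsDomain A]
    [IsDiscreteValuationRing A] {x w : A} (hx : x ∈ maximalIdeal A)
    (hx2 : x ∉ (maximalIdeal A) ^ 2) {n : ℕ} (h : x ∣ w ^ n) : x ∣ w := by
  have hx0 : x ≠ 0 := by
    rintro rfl
    exact hx2 (zero_mem _)
  obtain ⟨ϖ, hϖ⟩ := IsDiscreteValuationRing.exists_irreducible A
  obtain ⟨k, hk⟩ := IsDiscreteValuationRing.associated_pow_irreducible hx0 hϖ
  have hm : maximalIdeal A = Ideal.span {ϖ} := hϖ.maximalIdeal_eq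
  have hk1 : k = 1 := by
    rcases Nat.lt_trichotomy k 1 with hlt | heq | hgt
    · exfalso
      have hk0 : k = 0 := by omega
      rw [hk0, pow_zero] at hk
      have hu : IsUnit x := (associated_one_iff_isUnit).mp hk
      exact (IsLocalRing.mem_maximalIdeal x).mp hx hu
    · exact heq
    · exfalso
      apply hx2
      have h2 : ϖ ^ k ∈ (maximalIdeal A) ^ 2 := by
        rw [hm, Ideal.span_singleton_pow, Ideal.mem_span_singleton]
        exact pow_dvd_pow ϖ hgt
      obtain ⟨u, hu⟩ := hk.symm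
      rw [← hu]
      exact Ideal.mul_mem_right _ _ h2
  rw [hk1, pow_one] at hk
  have hirr : Irreducible x := hk.symm.irreducible hϖ
  exact hirr.prime.dvd_of_dvd_pow h

/-- Reducedness of a principal quotient of a Noetherian normal domain, tested on the height-one
primes. -/
theorem isReduced_quotient_of_forall_not_mem_symSq [IsDomain R] [IsNoetherianRing R]
    [IsIntegrallyClosed R] (f : R) (hf : f ≠ 0)
    (h : ∀ (Q : Ideal R) [Q.IsPrime], Q.height = 1 → f ∈ Q → f ∉ symSq Q) :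
    IsReduced (R ⧸ Ideal.span {f}) := by
  refine ⟨fun x hx => ?_⟩
  obtain ⟨z, rfl⟩ := Ideal.Quotient.mk_surjective x
  obtain ⟨n, hn⟩ := hx
  rw [← map_pow, Ideal.Quotient.eq_zero_iff_mem, Ideal.mem_span_singleton] at hn
  rw [Ideal.Quotient.eq_zero_iff_mem, Ideal.mem_span_singleton]
  apply Groth.Agent.Lib.Helper28.WeakKrull.dvd_of_forall_associatedPrimes R f z
  intro Q hQp hQ
  have hht : Q.height = 1 :=
    Groth.Agent.Lib.Helper22.AssHeightOne.height_eq_one_of_mem_associatedPrimes f hf Q hQ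
  have hfQ : f ∈ Q := by
    have h1 := (AssociatedPrimes.mem_iff.mp hQ).annihilator_le
    rw [Submodule.annihilator_top, Ideal.annihilator_quotient] at h1
    exact h1 (Ideal.mem_span_singleton_self f)
  have hdvr :=
    Groth.Agent.Lib.Helper28.WeakKrull.isDiscreteValuationRing_localization_of_height_one R Q hht
  have hnot := h Q hht hfQ
  have hx1 : algebraMap R (Localization.AtPrime Q) f ∈ maximalIdeal (Localization.AtPrime Q) := by
    rw [← Localization.AtPrime.map_eq_maximalIdeal (I := Q)]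
    exact Ideal.mem_map_of_mem _ hfQ
  have hx2 : algebraMap R (Localization.AtPrime Q) f ∉
      (maximalIdeal (Localization.AtPrime Q)) ^ 2 := hnot
  apply dvd_of_dvd_pow_of_not_mem_sq hx1 hx2 (n := n)
  rw [← map_pow]
  exact map_dvd _ hn

end SymSq


section Modify

variable {R : Type u} [CommRing R]

theorem one_le_height_of_ne_bot [IsDomain R] (P : Ideal R) (hP : P ≠ ⊥) :
    1 ≤ P.height := by
  rw [Order.one_le_iff_ne_zero, Ne, Ideal.height_eq_zero_iff_eq_bot]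
  exact hP

/-- Two distinct height-one primes of a Noetherian domain are incomparable. -/
theorem not_le_of_height_eq_one [IsDomain R] [IsNoetherianRing R] {P Q : Ideal R} [P.IsPrime]
    [Q.IsPrime] (hP0 : P ≠ ⊥) (hQ : Q.height = 1) (hne : P ≠ Q) : ¬ P ≤ Q := by
  intro hle
  have hlt : P < Q := lt_of_le_of_ne hle hne
  have h1 : P.height < Q.height := Ideal.height_strict_mono_of_isPrime hlt
  have h2 := one_le_height_of_ne_bot P hP0
  rw [hQ] at h1
  exact absurd h2 (not_le.mpr h1)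

/-- **Lemma A**: a nonzero radical ideal contains, for each height-one prime `Q`, an element of
`Q` outside `Q^(2)`. -/
theorem exists_mem_inf_not_mem_symSq [IsDomain R] [IsNoetherianRing R] (J : Ideal R)
    (hJ : J.IsRadical) (hJ0 : J ≠ ⊥) (Q : Ideal R) [Q.IsPrime] (hQ : Q.height = 1) :
    ∃ j ∈ J ⊓ Q, j ∉ symSq Q := by
  classical
  have hQ0 : Q ≠ ⊥ := by
    intro h0
    rw [h0, Ideal.height_bot] at hQ
    exact zero_ne_one hQ
  have hfin : (J.minimalPrimes \ {Q}).Finite :=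
    (Ideal.finite_minimalPrimes_of_isNoetherianRing R J).subset Set.sdiff_subset
  have hnot : ¬ hfin.toFinset.inf id ≤ Q := by
    intro hle
    obtain ⟨P, hPF, hPQ⟩ := (Ideal.IsPrime.inf_le' (inferInstance : Q.IsPrime)).mp hle
    rw [Set.Finite.mem_toFinset] at hPF
    obtain ⟨hPmin, hPne⟩ := hPF
    have hPp : P.IsPrime := hPmin.1.1
    have hP0 : P ≠ ⊥ := fun h0 => hJ0 (le_bot_iff.mp (h0 ▸ hPmin.1.2))
    exact not_le_of_height_eq_one hP0 hQ (fun h => hPne (by rw [h]; rfl)) hPQ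
  obtain ⟨s, hsF, hsQ⟩ := SetLike.not_le_iff_exists.mp hnot
  obtain ⟨q, hqQ, hq2⟩ := exists_mem_not_mem_symSq Q hQ0
  have hmem : s * q ∈ J := by
    rw [← hJ.radical, ← Ideal.sInf_minimalPrimes, Ideal.mem_sInf]
    intro P hP
    by_cases hPQ : P = Q
    · rw [hPQ]; exact Q.mul_mem_left s hqQ
    · have hPF : P ∈ hfin.toFinset := by
        rw [Set.Finite.mem_toFinset]
        exact ⟨hP, hPQ⟩
      have h1 : hfin.toFinset.inf id ≤ P := Finset.inf_le (f := id) hPF
      exact P.mul_mem_right q (h1 hsF)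
  exact ⟨s * q, ⟨hmem, Q.mul_mem_left s hqQ⟩, fun h => hq2 (mem_symSq_of_mul_mem Q hsQ h)⟩

/-- **Lemma M**: an element of `𝔞` with prescribed behaviour at finitely many height-one
primes. -/
theorem exists_modification [IsDomain R] [IsNoetherianRing R] (𝔞 : Ideal R)
    (T : Finset (PrimeSpectrum R)) (hT : ∀ Q ∈ T, Q.asIdeal.height = 1)
    (h𝔞 : ∀ Q ∈ T, ∃ a ∈ 𝔞 ⊓ Q.asIdeal, a ∉ symSq Q.asIdeal)
    (T₂ : Finset (PrimeSpectrum R)) (hT₂ : T₂ ⊆ T) :
    ∃ g ∈ 𝔞, (∀ Q ∈ T₂, g ∈ Q.asIdeal ∧ g ∉ symSq Q.asIdeal) ∧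
      (∀ Q ∈ T, Q ∉ T₂ → g ∈ symSq Q.asIdeal) := by
  classical
  have hbot : ∀ Q ∈ T, Q.asIdeal ≠ ⊥ := by
    intro Q hQ h0
    have := hT Q hQ
    rw [h0, Ideal.height_bot] at this
    exact zero_ne_one this
  -- separating elements
  have hsep : ∀ Q' ∈ T, ∀ Q ∈ T, Q' ≠ Q → ∃ c ∈ Q'.asIdeal, c ∉ Q.asIdeal := by
    intro Q' hQ' Q hQ hne
    have h1 : ¬ Q'.asIdeal ≤ Q.asIdeal :=
      not_le_of_height_eq_one (hbot Q' hQ') (hT Q hQ)
        (fun h => hne (PrimeSpectrum.ext h))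
    exact SetLike.not_le_iff_exists.mp h1
  choose! c hc1 hc2 using hsep
  choose! a ha1 ha2 using h𝔞
  let b : PrimeSpectrum R → R := fun Q => ∏ Q' ∈ T.erase Q, (c Q' Q) ^ 2
  let z : PrimeSpectrum R → R := fun Q => a Q * b Q
  have hbQ : ∀ Q ∈ T, b Q ∉ Q.asIdeal := by
    intro Q hQ hmem
    obtain ⟨Q', hQ'e, hQ'm⟩ := Ideal.IsPrime.prod_mem_iff.mp hmem
    rw [Finset.mem_erase] at hQ'e
    have h2 : c Q' Q ∈ Q.asIdeal := Q.isPrime.mem_of_pow_mem 2 hQ'm
    exact hc2 Q' hQ'e.2 Q hQ hQ'e.1 h2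
  have hz1 : ∀ Q ∈ T, z Q ∈ 𝔞 := fun Q hQ => 𝔞.mul_mem_right _ (ha1 Q hQ).1
  have hz2 : ∀ Q ∈ T, z Q ∈ Q.asIdeal := fun Q hQ => Q.asIdeal.mul_mem_right _ (ha1 Q hQ).2
  have hz3 : ∀ Q ∈ T, z Q ∉ symSq Q.asIdeal := by
    intro Q hQ hmem
    apply ha2 Q hQ
    apply mem_symSq_of_mul_mem Q.asIdeal (hbQ Q hQ)
    rw [mul_comm]
    exact hmem
  have hz4 : ∀ Q ∈ T, ∀ Q' ∈ T, Q' ≠ Q → z Q ∈ symSq Q'.asIdeal := by
    intro Q hQ Q' hQ' hne
    have hmemE : Q' ∈ T.erase Q := Finset.mem_erase.mpr ⟨hne, hQ'⟩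
    have h1 : b Q = (c Q' Q) ^ 2 * ∏ Q'' ∈ (T.erase Q).erase Q', (c Q'' Q) ^ 2 :=
      (Finset.mul_prod_erase (T.erase Q) (fun Q'' => (c Q'' Q) ^ 2) hmemE).symm
    have h2 : (c Q' Q) ^ 2 ∈ symSq Q'.asIdeal :=
      sq_le_symSq Q'.asIdeal (Ideal.pow_mem_pow (hc1 Q' hQ' Q hQ hne) 2)
    change a Q * b Q ∈ _
    rw [h1]
    exact Ideal.mul_mem_left _ _ (Ideal.mul_mem_right _ _ h2)
  refine ⟨∑ Q ∈ T₂, z Q, Ideal.sum_mem _ (fun Q hQ => hz1 Q (hT₂ hQ)), ?_, ?_⟩
  · intro Q hQ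
    have hsplit : ∑ Q' ∈ T₂, z Q' = z Q + ∑ Q' ∈ T₂.erase Q, z Q' :=
      (Finset.add_sum_erase T₂ z hQ).symm
    have hrest : ∑ Q' ∈ T₂.erase Q, z Q' ∈ symSq Q.asIdeal := by
      refine Ideal.sum_mem _ (fun Q' hQ' => ?_)
      rw [Finset.mem_erase] at hQ'
      exact hz4 Q' (hT₂ hQ'.2) Q (hT₂ hQ) (fun h => hQ'.1 h.symm)
    rw [hsplit]
    refine ⟨Ideal.add_mem _ (hz2 Q (hT₂ hQ)) (symSq_le _ hrest), fun hmem => ?_⟩
    apply hz3 Q (hT₂ hQ)
    have := Ideal.sub_mem _ hmem hrest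
    rwa [add_sub_cancel_right] at this
  · intro Q hQ hQ2
    refine Ideal.sum_mem _ (fun Q' hQ' => ?_)
    exact hz4 Q' (hT₂ hQ') Q hQ (fun h => hQ2 (h ▸ hQ'))

end Modify

end Groth.Agent.Lib.Helper28.RedQuot
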