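import Mathlib
import Groth.Agent.Lib.Helper5ParamOne

/-!
# Integral modules and parts of systems of parameters (helper5)

A module `M` over a Noetherian ring is *integral* here if it has a single associated prime `p` and
`M_p` has length one over `A_p`.  Main result (`main_list`): if `rs` is part of a system of
parameters of a finite module `M` over a Noetherian local ring and `M/(rs)M` is integral, then `M`
is integral and `rs` is an `M`-regular sequence.
-/

set_option autoImplicit false
universe u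

namespace Groth.Agent.Lib.Helper5.IntegralMod

open AssocFormula Pointwise

section basic

variable {A : Type u} [CommRing A]

/-- Integral modules. -/
def Integral (A : Type u) [CommRing A] (M : Type u) [AddCommGroup M] [Module A M] : Prop :=
  ∃ p : PrimeSpectrum A, associatedPrimes A M = {p.asIdeal} ∧ L A M p = 1

theorem Integral.congr {M M' : Type u} [AddCommGroup M] [Module A M] [AddCommGroup M']
    [Module A M'] (e : M ≃ₗ[A] M') (h : Integral A M) : Integral A M' := by
  obtain ⟨p, h1, h2⟩ := h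
  refine ⟨p, ?_, ?_⟩
  · rw [← LinearEquiv.AssociatedPrimes.eq e]
    exact h1
  · rw [← L_congr e p]
    exact h2

theorem nat_succ_not_le (n : ℕ) : ¬ ((n : ℕ∞) + 1 ≤ n) := by
  intro h
  have h' : ((n + 1 : ℕ) : ℕ∞) ≤ (n : ℕ∞) := by exact_mod_cast h
  have h'' : n + 1 ≤ n := by exact_mod_cast h'
  omega

theorem coheight_le_supportDim (M : Type u) [AddCommGroup M] [Module A M]
    (q : PrimeSpectrum A) (hq : q ∈ Module.support A M) :
    ((Order.coheight q : ℕ∞) : WithBot ℕ∞) ≤ Module.supportDim A M := by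
  rw [← ringKrullDim_quot_eq_coheight, ← Module.supportDim_quotient_eq_ringKrullDim]
  have hsub : Module.support A (A ⧸ q.asIdeal) ⊆ Module.support A M := by
    intro P hP
    have h1 := Module.annihilator_le_of_mem_support hP
    rw [Ideal.annihilator_quotient] at h1
    exact Module.mem_support_mono ((PrimeSpectrum.asIdeal_le_asIdeal q P).1 h1) hq
  exact Order.krullDim_le_of_strictMono (Set.inclusion hsub) (by intro a b h; exact h)

theorem exists_coheight_ge (M : Type u) [AddCommGroup M] [Module A M] (n : ℕ)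
    (h : (n : WithBot ℕ∞) ≤ Module.supportDim A M) :
    ∃ q ∈ Module.support A M, (n : ℕ∞) ≤ Order.coheight q := by
  obtain ⟨l, hl⟩ := Order.le_krullDim_iff.1 h
  refine ⟨l.head.1, l.head.2, ?_⟩
  have h1 := Order.length_le_coheight_head (p := l.map Subtype.val (Subtype.strictMono_coe _))
  rw [LTSeries.head_map] at h1
  have h2 : (l.map Subtype.val (Subtype.strictMono_coe _)).length = n := hl
  rw [h2] at h1
  exact h1

theorem exists_nat_supportDim [IsNoetherianRing A] [IsLocalRing A] (M : Type u) [AddCommGroup M]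
    [Module A M] [Nontrivial M] : ∃ n : ℕ, Module.supportDim A M = n := by
  have h1 : Module.supportDim A M ≠ ⊥ := Module.supportDim_ne_bot_of_nontrivial A M
  have h2 : Module.supportDim A M ≠ ⊤ :=
    ne_top_of_le_ne_top ringKrullDim_ne_top (Module.supportDim_le_ringKrullDim A M)
  obtain ⟨a, ha⟩ := WithBot.ne_bot_iff_exists.1 h1
  have ha' : a ≠ ⊤ := by
    rintro rfl
    exact h2 ha.symm
  obtain ⟨m, hm⟩ := ENat.ne_top_iff_exists.1 ha'
  refine ⟨m, ?_⟩
  rw [← ha, ← hm]
  rfl

theorem exists_elt [IsNoetherianRing A] {M : Type u} [AddCommGroup M] [Module A M] (q : Ideal A)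
    (hq : q ∈ associatedPrimes A M) : ∃ m : M, m ≠ 0 ∧ ∀ r ∈ q, r • m = 0 := by
  obtain ⟨hqprime, m, hm⟩ := isAssociatedPrime_iff.1 hq
  refine ⟨m, ?_, ?_⟩
  · rintro rfl
    apply hqprime.ne_top
    rw [hm, eq_top_iff]
    intro r _
    rw [Submodule.mem_colon_singleton, smul_zero]
    exact Submodule.zero_mem _
  · intro r hr
    rw [hm, Submodule.mem_colon_singleton, Submodule.mem_bot] at hr
    exact hr

end basic

section step

variable {A : Type u} [CommRing A] [IsNoetherianRing A]

theorem le_of_mem_support (N : Type u) [AddCommGroup N] [Module A N] [Module.Finite A N]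
    (p : PrimeSpectrum A) (hAss : associatedPrimes A N = {p.asIdeal}) (P : PrimeSpectrum A)
    (hP : P ∈ Module.support A N) : p ≤ P := by
  have h1 := Module.annihilator_le_of_mem_support hP
  obtain ⟨p', hp', hle⟩ := Ideal.exists_minimalPrimes_le h1
  have h2 := Module.associatedPrimes.minimalPrimes_annihilator_subset_associatedPrimes A N hp'
  rw [hAss] at h2
  have h3 : p' = p.asIdeal := h2
  rw [← PrimeSpectrum.asIdeal_le_asIdeal, ← h3]
  exact hle

theorem notMem_support_quot (N : Type u) [AddCommGroup N] [Module A N] [Module.Finite A N]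
    (p : PrimeSpectrum A) (hAss : associatedPrimes A N = {p.asIdeal}) (hL : L A N p = 1)
    (N' : Submodule A N) (hN' : N' ≠ ⊥) : p ∉ Module.support A (N ⧸ N') := by
  have hadd := L_add N'.subtype N'.mkQ (Submodule.injective_subtype _)
    (Submodule.mkQ_surjective _) (LinearMap.exact_subtype_mkQ N') p
  have hnt : Nontrivial N' := Submodule.nontrivial_iff_ne_bot.2 hN'
  obtain ⟨q, hq⟩ := associatedPrimes.nonempty A N'
  have hq' : q ∈ associatedPrimes A N :=
    associatedPrimes.subset_of_injective (f := N'.subtype) (Submodule.injective_subtype N') hq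
  rw [hAss] at hq'
  have hqp : q = p.asIdeal := hq'
  have hsupp : p ∈ Module.support A N' := by
    rw [Module.mem_support_iff_of_finite, ← hqp]
    exact le_of_eq_of_le Submodule.annihilator_top.symm (IsAssociatedPrime.annihilator_le hq)
  have h1 : 1 ≤ L A N' p := by
    rw [Order.one_le_iff_ne_zero]
    unfold L
    rw [Ne, Module.length_eq_zero_iff, not_subsingleton_iff_nontrivial]
    exact Module.mem_support_iff.1 hsupp
  have h0 : L A (N ⧸ N') p = 0 := by
    by_contra hb
    have h2 : 1 ≤ L A (N ⧸ N') p := Order.one_le_iff_ne_zero.2 hb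
    have h3 : (1 : ℕ∞) + 1 ≤ L A N' p + L A (N ⧸ N') p := add_le_add h1 h2
    rw [← hadd, hL] at h3
    exact nat_succ_not_le 1 (by exact_mod_cast h3)
  rw [Module.notMem_support_iff]
  unfold L at h0
  exact Module.length_eq_zero_iff.1 h0

variable [IsLocalRing A] (M : Type u) [AddCommGroup M] [Module A M] [Module.Finite A M]
  (x : A)

theorem support_quotSMulTop (X : Type u) [AddCommGroup X] [Module A X] [Module.Finite A X]
    (P : PrimeSpectrum A) :
    P ∈ Module.support A (QuotSMulTop x X) ↔ P ∈ Module.support A X ∧ x ∈ P.asIdeal := by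
  have h := Module.support_quotient (M := X) (Ideal.span {x})
  rw [Submodule.ideal_span_singleton_smul] at h
  have h' : Module.support A (QuotSMulTop x X) =
      Module.support A X ∩ PrimeSpectrum.zeroLocus (Ideal.span {x}) := h
  rw [h', Set.mem_inter_iff, PrimeSpectrum.mem_zeroLocus, SetLike.coe_subset_coe,
    Ideal.span_singleton_le_iff_mem]

theorem mem_of_ass_quotSMulTop (p : PrimeSpectrum A)
    (hAss : associatedPrimes A (QuotSMulTop x M) = {p.asIdeal}) : x ∈ p.asIdeal := by
  have hp : p.asIdeal ∈ associatedPrimes A (QuotSMulTop x M) := by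
    rw [hAss]
    rfl
  have h1 := le_of_eq_of_le Submodule.annihilator_top.symm (IsAssociatedPrime.annihilator_le hp)
  apply h1
  rw [Module.mem_annihilator]
  intro v
  obtain ⟨m, rfl⟩ := Submodule.Quotient.mk_surjective _ v
  rw [← Submodule.Quotient.mk_smul, Submodule.Quotient.mk_eq_zero]
  exact Submodule.smul_mem_pointwise_smul m x ⊤ Submodule.mem_top

theorem exists_lt [Nontrivial M] (hx : x ∈ IsLocalRing.maximalIdeal A) (p : PrimeSpectrum A)
    (hdim : Module.supportDim A (QuotSMulTop x M) + 1 = Module.supportDim A M)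
    (hAss : associatedPrimes A (QuotSMulTop x M) = {p.asIdeal}) :
    ∃ q₀ ∈ Module.support A M, q₀ < p := by
  haveI : Nontrivial (QuotSMulTop x M) := nontrivial_quotSMulTop_of_mem_maximalIdeal M hx
  obtain ⟨n, hn⟩ := exists_nat_supportDim (A := A) (QuotSMulTop x M)
  have hM : ((n + 1 : ℕ) : WithBot ℕ∞) ≤ Module.supportDim A M := by
    rw [← hdim, hn]
    push_cast
    exact le_rfl
  obtain ⟨q₀, hq₀, hco⟩ := exists_coheight_ge M (n + 1) hM
  have hcoN : ∀ P ∈ Module.support A (QuotSMulTop x M), Order.coheight P ≤ (n : ℕ∞) := by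
    intro P hP
    have h1 := coheight_le_supportDim (QuotSMulTop x M) P hP
    rw [hn] at h1
    exact_mod_cast h1
  have hx0 : x ∉ q₀.asIdeal := by
    intro hxq
    have h1 := hcoN q₀ ((support_quotSMulTop x M q₀).2 ⟨hq₀, hxq⟩)
    have h2 : ((n : ℕ∞) + 1) ≤ n := by
      refine le_trans ?_ h1
      exact_mod_cast hco
    exact nat_succ_not_le n h2
  haveI : Nontrivial (A ⧸ q₀.asIdeal) := Ideal.Quotient.nontrivial_iff.2 q₀.2.ne_top
  haveI : Nontrivial (QuotSMulTop x (A ⧸ q₀.asIdeal)) :=
    nontrivial_quotSMulTop_of_mem_maximalIdeal (A ⧸ q₀.asIdeal) hx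
  have h1 : Module.supportDim A (A ⧸ q₀.asIdeal) ≤
      Module.supportDim A (QuotSMulTop x (A ⧸ q₀.asIdeal)) + 1 :=
    Module.supportDim_le_supportDim_quotSMulTop_succ hx
  have h2 : Module.supportDim A (A ⧸ q₀.asIdeal) = ((Order.coheight q₀ : ℕ∞) : WithBot ℕ∞) := by
    rw [Module.supportDim_quotient_eq_ringKrullDim, ringKrullDim_quot_eq_coheight]
  obtain ⟨b, hb⟩ := exists_nat_supportDim (A := A) (QuotSMulTop x (A ⧸ q₀.asIdeal))
  have h3 : ((n : ℕ) : WithBot ℕ∞) ≤ Module.supportDim A (QuotSMulTop x (A ⧸ q₀.asIdeal)) := by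
    rw [h2, hb] at h1
    have h4 : Order.coheight q₀ ≤ ((b + 1 : ℕ) : ℕ∞) := by exact_mod_cast h1
    have h5 : ((n + 1 : ℕ) : ℕ∞) ≤ ((b + 1 : ℕ) : ℕ∞) := hco.trans h4
    have h6 : n + 1 ≤ b + 1 := by exact_mod_cast h5
    rw [hb]
    have h7 : n ≤ b := by omega
    exact_mod_cast h7
  obtain ⟨P, hP, hcoP⟩ := exists_coheight_ge (QuotSMulTop x (A ⧸ q₀.asIdeal)) n h3
  obtain ⟨hPq, hPx⟩ := (support_quotSMulTop x (A ⧸ q₀.asIdeal) P).1 hP
  have hq₀P : q₀ ≤ P := by
    have h4 := Module.annihilator_le_of_mem_support hPq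
    rw [Ideal.annihilator_quotient] at h4
    exact (PrimeSpectrum.asIdeal_le_asIdeal q₀ P).1 h4
  have hPM : P ∈ Module.support A M := Module.mem_support_mono hq₀P hq₀
  have hPN : P ∈ Module.support A (QuotSMulTop x M) := (support_quotSMulTop x M P).2 ⟨hPM, hPx⟩
  have hpP : p ≤ P := le_of_mem_support (QuotSMulTop x M) p hAss P hPN
  have hpN : p ∈ Module.support A (QuotSMulTop x M) := by
    rw [Module.mem_support_iff_of_finite]
    have hp : p.asIdeal ∈ associatedPrimes A (QuotSMulTop x M) := by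
      rw [hAss]
      rfl
    exact le_of_eq_of_le Submodule.annihilator_top.symm (IsAssociatedPrime.annihilator_le hp)
  have hPp : P = p := by
    by_contra hne
    have hlt : p < P := lt_of_le_of_ne hpP (Ne.symm hne)
    have h4 := Order.coheight_add_one_le hlt
    have h5 := hcoN p hpN
    exact nat_succ_not_le n ((add_le_add hcoP le_rfl).trans (h4.trans h5))
  refine ⟨q₀, hq₀, lt_of_le_of_ne (hPp ▸ hq₀P) ?_⟩
  rintro rfl
  have h5 := hcoN q₀ hpN
  have h6 : ((n : ℕ∞) + 1) ≤ n := by
    refine le_trans ?_ h5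
    exact_mod_cast hco
  exact nat_succ_not_le n h6

theorem star (hx : x ∈ IsLocalRing.maximalIdeal A) (p : PrimeSpectrum A)
    (hAss : associatedPrimes A (QuotSMulTop x M) = {p.asIdeal})
    (hL : L A (QuotSMulTop x M) p = 1) (M' : Submodule A M) (hM' : M' ≠ ⊥) :
    ∃ s : A, s ∉ p.asIdeal ∧ ∃ n : ℕ, ∀ m : M, (s * x ^ n) • m ∈ M' := by
  classical
  have hxp : x ∈ p.asIdeal := mem_of_ass_quotSMulTop M x p hAss
  have hI : Ideal.span {x} ≠ ⊤ := by
    rw [Ne, Ideal.span_singleton_eq_top]
    exact (IsLocalRing.mem_maximalIdeal x).1 hx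
  have hkrull := Ideal.iInf_pow_smul_eq_bot_of_isLocalRing (M := M) (Ideal.span {x}) hI
  have hex : ∃ i : ℕ, ¬ M' ≤ Ideal.span {x} ^ i • (⊤ : Submodule A M) := by
    by_contra h
    push Not at h
    exact hM' (eq_bot_iff.2 (hkrull ▸ le_iInf h))
  obtain ⟨n1, hn1, hmin⟩ : ∃ i : ℕ, ¬ M' ≤ Ideal.span {x} ^ i • (⊤ : Submodule A M) ∧
      ∀ j < i, M' ≤ Ideal.span {x} ^ j • (⊤ : Submodule A M) :=
    ⟨Nat.find hex, Nat.find_spec hex, fun j hj => not_not.1 (Nat.find_min hex hj)⟩
  have hn1pos : n1 ≠ 0 := by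
    rintro rfl
    apply hn1
    rw [pow_zero, Ideal.one_eq_top, Submodule.top_smul]
    exact le_top
  obtain ⟨n, rfl⟩ := Nat.exists_eq_succ_of_ne_zero hn1pos
  have hle := hmin n (Nat.lt_succ_self n)
  obtain ⟨m0, hm0, hm0'⟩ := SetLike.not_le_iff_exists.1 hn1
  obtain ⟨y0, hy0⟩ := (ParamOne.mem_iff x n m0).1 (hle hm0)
  obtain ⟨M'', hM''⟩ : ∃ M'' : Submodule A M,
      M'' = Submodule.comap (LinearMap.lsmul A M (x ^ n)) M' := ⟨_, rfl⟩
  have hmemM'' : ∀ y : M, y ∈ M'' ↔ x ^ n • y ∈ M' := by
    intro y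
    rw [hM'']
    rfl
  obtain ⟨N', hN'def⟩ : ∃ N' : Submodule A (QuotSMulTop x M),
      N' = Submodule.map (Submodule.mkQ (x • (⊤ : Submodule A M))) M'' := ⟨_, rfl⟩
  have hN' : N' ≠ ⊥ := by
    rw [Submodule.ne_bot_iff]
    refine ⟨Submodule.mkQ _ y0, ?_, ?_⟩
    · rw [hN'def]
      refine Submodule.mem_map_of_mem ((hmemM'' y0).2 ?_)
      rw [hy0]
      exact hm0
    · intro h0
      rw [Submodule.mkQ_apply, Submodule.Quotient.mk_eq_zero,
        Submodule.mem_smul_pointwise_iff_exists] at h0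
      obtain ⟨z, -, hz⟩ := h0
      apply hm0'
      rw [ParamOne.mem_iff]
      refine ⟨z, ?_⟩
      rw [← hy0, ← hz, smul_smul, ← pow_succ]
  have hnot := notMem_support_quot (QuotSMulTop x M) p hAss hL N' hN'
  rw [Module.mem_support_iff_of_finite] at hnot
  obtain ⟨s, hs, hsp⟩ := SetLike.not_le_iff_exists.1 hnot
  have hs' : ∀ m : M, ∃ y : M, y ∈ M'' ∧ ∃ z : M, s • m = y + x • z := by
    intro m
    have h1 := Module.mem_annihilator.1 hs
      (Submodule.Quotient.mk (Submodule.Quotient.mk m : QuotSMulTop x M))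
    rw [← Submodule.Quotient.mk_smul, Submodule.Quotient.mk_eq_zero, hN'def] at h1
    obtain ⟨y, hy, hyeq⟩ := h1
    have hyeq' : (Submodule.Quotient.mk y : QuotSMulTop x M) = Submodule.Quotient.mk (s • m) :=
      hyeq
    rw [Submodule.Quotient.eq, Submodule.mem_smul_pointwise_iff_exists] at hyeq'
    obtain ⟨z, -, hz⟩ := hyeq'
    refine ⟨y, hy, -z, ?_⟩
    rw [smul_neg, hz]
    abel
  have hD : p ∉ Module.support A (M ⧸ M'') := by
    intro hpD
    have hmem : p ∈ Module.support A
        ((M ⧸ M'') ⧸ (Ideal.span {x} • (⊤ : Submodule A (M ⧸ M'')))) := by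
      rw [Module.support_quotient]
      refine ⟨hpD, ?_⟩
      rw [PrimeSpectrum.mem_zeroLocus, SetLike.coe_subset_coe, Ideal.span_singleton_le_iff_mem]
      exact hxp
    have hann := Module.annihilator_le_of_mem_support hmem
    apply hsp
    apply hann
    rw [Module.mem_annihilator]
    intro v
    obtain ⟨v, rfl⟩ := Submodule.Quotient.mk_surjective _ v
    obtain ⟨m, rfl⟩ := Submodule.Quotient.mk_surjective _ v
    obtain ⟨y, hy, z, hz⟩ := hs' m
    rw [← Submodule.Quotient.mk_smul, Submodule.Quotient.mk_eq_zero,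
      ← Submodule.Quotient.mk_smul, hz, Submodule.Quotient.mk_add,
      (Submodule.Quotient.mk_eq_zero _).2 hy, zero_add, Submodule.Quotient.mk_smul]
    exact Submodule.smul_mem_smul (Ideal.mem_span_singleton_self x) Submodule.mem_top
  rw [Module.mem_support_iff_of_finite] at hD
  obtain ⟨s', hs'ann, hs'p⟩ := SetLike.not_le_iff_exists.1 hD
  refine ⟨s', hs'p, n, fun m => ?_⟩
  have h1 := Module.mem_annihilator.1 hs'ann (Submodule.Quotient.mk m)
  rw [← Submodule.Quotient.mk_smul, Submodule.Quotient.mk_eq_zero, hmemM''] at h1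
  rw [mul_comm, mul_smul]
  exact h1

theorem step [Nontrivial M] (hx : x ∈ IsLocalRing.maximalIdeal A)
    (hdim : Module.supportDim A (QuotSMulTop x M) + 1 = Module.supportDim A M)
    (hint : Integral A (QuotSMulTop x M)) : Integral A M ∧ IsSMulRegular M x := by
  obtain ⟨p, hAss, hL⟩ := hint
  obtain ⟨q₀, hq₀, hq₀p⟩ := exists_lt M x hx p hdim hAss
  have hstar := star M x hx p hAss hL
  have hxq : ∀ q' ∈ Module.support A M, q' < p → x ∉ q'.asIdeal := by
    intro q' hq' hlt hxq'
    have h1 := le_of_mem_support (QuotSMulTop x M) p hAss q'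
      ((support_quotSMulTop x M q').2 ⟨hq', hxq'⟩)
    exact absurd h1 (not_le_of_gt hlt)
  have hkey : ∀ (m₁ : M), m₁ ≠ 0 → ∀ r : A, r • m₁ = 0 →
      ∀ q' ∈ Module.support A M, q' < p → r ∈ q'.asIdeal := by
    intro m₁ hm₁ r hr q' hq' hlt
    obtain ⟨s, hs, n, hsn⟩ := hstar (Submodule.span A {m₁})
      (by rw [Ne, Submodule.span_singleton_eq_bot]; exact hm₁)
    have hann : r * (s * x ^ n) ∈ Module.annihilator A M := by
      rw [Module.mem_annihilator]
      intro m
      obtain ⟨c, hc⟩ := Submodule.mem_span_singleton.1 (hsn m)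
      rw [mul_smul, ← hc, smul_comm, hr, smul_zero]
    have h1 := Module.annihilator_le_of_mem_support hq' hann
    rcases q'.2.mem_or_mem h1 with h | h
    · exact h
    · exfalso
      rcases q'.2.mem_or_mem h with h | h
      · exact hs ((PrimeSpectrum.asIdeal_le_asIdeal _ _).2 hlt.le h)
      · exact hxq q' hq' hlt (q'.2.mem_of_pow_mem n h)
  have hreg : IsSMulRegular M x := by
    by_contra hnr
    obtain ⟨a, b, hab, hne⟩ := Function.not_injective_iff.1 hnr
    have hm1 : a - b ≠ 0 := sub_ne_zero.2 hne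
    have hxm1 : x • (a - b) = 0 := by
      rw [smul_sub]
      exact sub_eq_zero.2 hab
    exact hxq q₀ hq₀ hq₀p (hkey (a - b) hm1 x hxm1 q₀ hq₀ hq₀p)
  have hAssLe : ∀ q ∈ associatedPrimes A M, ∀ q' ∈ Module.support A M, q' < p →
      q ≤ q'.asIdeal := by
    intro q hq q' hq' hlt r hr
    obtain ⟨m, hm0, hm⟩ := exists_elt q hq
    exact hkey m hm0 r (hm r hr) q' hq' hlt
  have hAssSupp : ∀ q (hq : q ∈ associatedPrimes A M),
      (⟨q, hq.isPrime⟩ : PrimeSpectrum A) ∈ Module.support A M ∧
        (⟨q, hq.isPrime⟩ : PrimeSpectrum A) < p := by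
    intro q hq
    refine ⟨Module.mem_support_iff_of_finite.2
      (le_of_eq_of_le Submodule.annihilator_top.symm (IsAssociatedPrime.annihilator_le hq)), ?_⟩
    have h1 := hAssLe q hq q₀ hq₀ hq₀p
    exact lt_of_le_of_lt ((PrimeSpectrum.asIdeal_le_asIdeal ⟨q, hq.isPrime⟩ q₀).1 h1) hq₀p
  obtain ⟨q, hq⟩ := associatedPrimes.nonempty A M
  have huniq : associatedPrimes A M = {q} := by
    ext q'
    rw [Set.mem_singleton_iff]
    constructor
    · intro hq'
      obtain ⟨h1, h2⟩ := hAssSupp q hq
      obtain ⟨h1', h2'⟩ := hAssSupp q' hq'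
      exact le_antisymm (hAssLe q' hq' _ h1 h2) (hAssLe q hq _ h1' h2')
    · rintro rfl
      exact hq
  refine ⟨⟨⟨q, hq.isPrime⟩, huniq, ?_⟩, hreg⟩
  obtain ⟨hqprime, f, hf⟩ := (isAssociatedPrime_iff_exists_injective_linearMap q M).1 hq
  obtain ⟨hqs, hqlt⟩ := hAssSupp q hq
  have hrange : LinearMap.range f ≠ ⊥ := by
    intro h
    have h1 : f (Ideal.Quotient.mk q 1) ∈ LinearMap.range f := LinearMap.mem_range_self f _
    rw [h, Submodule.mem_bot] at h1
    have h2 := hf (h1.trans (map_zero f).symm)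
    exact hqprime.ne_top ((Ideal.eq_top_iff_one q).2 (Ideal.Quotient.eq_zero_iff_mem.1 h2))
  obtain ⟨s, hs, n, hsn⟩ := hstar (LinearMap.range f) hrange
  have hcq : s * x ^ n ∉ q := by
    intro h
    rcases hqprime.mem_or_mem h with h | h
    · exact hs ((PrimeSpectrum.asIdeal_le_asIdeal ⟨q, hq.isPrime⟩ p).2 hqlt.le h)
    · exact hxq _ hqs hqlt (hqprime.mem_of_pow_mem n h)
  have hnot : (⟨q, hq.isPrime⟩ : PrimeSpectrum A) ∉
      Module.support A (M ⧸ LinearMap.range f) := by
    intro hmem
    have hann := Module.annihilator_le_of_mem_support hmem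
    apply hcq
    apply hann
    rw [Module.mem_annihilator]
    intro v
    obtain ⟨m, rfl⟩ := Submodule.Quotient.mk_surjective _ v
    rw [← Submodule.Quotient.mk_smul, Submodule.Quotient.mk_eq_zero]
    exact hsn m
  have hadd := L_add (LinearMap.range f).subtype (LinearMap.range f).mkQ
    (Submodule.injective_subtype _) (Submodule.mkQ_surjective _)
    (LinearMap.exact_subtype_mkQ (LinearMap.range f)) ⟨q, hq.isPrime⟩
  rw [hadd, L_eq_zero_of_notMem hnot, add_zero,
    ← L_congr (LinearEquiv.ofInjective f hf) ⟨q, hq.isPrime⟩]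
  exact L_quot_self ⟨q, hq.isPrime⟩

end step

section main

variable {A : Type u} [CommRing A] [IsNoetherianRing A] [IsLocalRing A]

theorem main_list : ∀ (rs : List A) (M : Type u) [AddCommGroup M] [Module A M]
    [Module.Finite A M] [Nontrivial M],
    (∀ r ∈ rs, r ∈ IsLocalRing.maximalIdeal A) →
    Module.supportDim A (M ⧸ (Ideal.ofList rs • (⊤ : Submodule A M))) + (rs.length : ℕ) =
      Module.supportDim A M →
    Integral A (M ⧸ (Ideal.ofList rs • (⊤ : Submodule A M))) →
    Integral A M ∧ RingTheory.Sequence.IsRegular M rs := by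
  intro rs
  induction rs with
  | nil =>
    intro M _ _ _ _ _ _ hint
    refine ⟨Integral.congr ?_ hint, RingTheory.Sequence.IsRegular.nil A M⟩
    exact Submodule.quotEquivOfEqBot _ (by rw [Ideal.ofList_nil, Submodule.bot_smul])
  | cons r rs ih =>
    intro M _ _ _ _ hmem hdim hint
    have hr : r ∈ IsLocalRing.maximalIdeal A := hmem r List.mem_cons_self
    have hrs : ∀ r' ∈ rs, r' ∈ IsLocalRing.maximalIdeal A :=
      fun r' h => hmem r' (List.mem_cons_of_mem _ h)
    haveI : Nontrivial (QuotSMulTop r M) := nontrivial_quotSMulTop_of_mem_maximalIdeal M hr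
    have e := Submodule.quotOfListConsSMulTopEquivQuotSMulTopInner M r rs
    have hint' : Integral A (QuotSMulTop r M ⧸
        (Ideal.ofList rs • (⊤ : Submodule A (QuotSMulTop r M)))) := Integral.congr e hint
    haveI : Nontrivial (QuotSMulTop r M ⧸
        (Ideal.ofList rs • (⊤ : Submodule A (QuotSMulTop r M)))) := by
      by_contra hnt
      rw [not_nontrivial_iff_subsingleton] at hnt
      obtain ⟨p, hp, -⟩ := hint'
      have h1 : p.asIdeal ∈ associatedPrimes A (QuotSMulTop r M ⧸
          (Ideal.ofList rs • (⊤ : Submodule A (QuotSMulTop r M)))) := by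
        rw [hp]
        rfl
      rw [associatedPrimes.eq_empty_of_subsingleton] at h1
      exact h1
    obtain ⟨a, ha⟩ := exists_nat_supportDim (A := A) (QuotSMulTop r M ⧸
        (Ideal.ofList rs • (⊤ : Submodule A (QuotSMulTop r M))))
    obtain ⟨b, hb⟩ := exists_nat_supportDim (A := A) (QuotSMulTop r M)
    obtain ⟨c, hc⟩ := exists_nat_supportDim (A := A) M
    have h1 : Module.supportDim A M ≤ Module.supportDim A (QuotSMulTop r M) + 1 :=
      Module.supportDim_le_supportDim_quotSMulTop_succ hr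
    have h2 : Module.supportDim A (QuotSMulTop r M) ≤
        Module.supportDim A (QuotSMulTop r M ⧸
          (Ideal.ofList rs • (⊤ : Submodule A (QuotSMulTop r M)))) + rs.length :=
      supportDim_le_supportDim_quot_ofList_add_length rs (fun r' h => by
        rw [IsLocalRing.ringJacobson_eq_maximalIdeal]
        exact hrs r' h)
    have h3 : Module.supportDim A (M ⧸ (Ideal.ofList (r :: rs) • (⊤ : Submodule A M))) =
        Module.supportDim A (QuotSMulTop r M ⧸
          (Ideal.ofList rs • (⊤ : Submodule A (QuotSMulTop r M)))) :=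
      Module.supportDim_eq_of_equiv e
    rw [h3, ha, hc, List.length_cons] at hdim
    rw [hb, hc] at h1
    rw [ha, hb] at h2
    have hdim' : a + (rs.length + 1) = c := by exact_mod_cast hdim
    have h1' : c ≤ b + 1 := by exact_mod_cast h1
    have h2' : b ≤ a + rs.length := by exact_mod_cast h2
    have hdimM' : Module.supportDim A (QuotSMulTop r M ⧸
          (Ideal.ofList rs • (⊤ : Submodule A (QuotSMulTop r M)))) + (rs.length : ℕ) =
        Module.supportDim A (QuotSMulTop r M) := by
      rw [ha, hb]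
      have h4 : a + rs.length = b := by omega
      exact_mod_cast h4
    have hdimM : Module.supportDim A (QuotSMulTop r M) + 1 = Module.supportDim A M := by
      rw [hb, hc]
      have h4 : b + 1 = c := by omega
      exact_mod_cast h4
    obtain ⟨hintM', hregM'⟩ := ih (QuotSMulTop r M) hrs hdimM' hint'
    obtain ⟨hintM, hreg⟩ := step M r hr hdimM hintM'
    exact ⟨hintM, (RingTheory.Sequence.isRegular_cons_iff M r rs).2 ⟨hreg, hregM'⟩⟩

end main

end Groth.Agent.Lib.Helper5.IntegralMod
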