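import Mathlib
import Groth.Agent.Lib.Helper5IntegralMod

/-!
# Systems of parameters containing a given parameter element (helper5)
-/

set_option autoImplicit false
universe u

namespace Groth.Agent.Lib.Helper5.Sop

variable (R : Type u) [CommRing R] [IsNoetherianRing R] [IsLocalRing R]

theorem exists_sop (d : ℕ) (hd : ringKrullDim R = d) (f : R)
    (hf : f ∈ IsLocalRing.maximalIdeal R) (hmin : ∀ p ∈ minimalPrimes R, f ∉ p) (k : ℕ) :
    ∃ g : Fin (d - 1) → R, (∀ i, g i ∈ IsLocalRing.maximalIdeal R ^ k) ∧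
      (∀ i, g i ∈ IsLocalRing.maximalIdeal R) ∧
      IsLocalRing.maximalIdeal R ≤ (Ideal.span (insert f (Set.range g))).radical := by
  haveI : Nontrivial (QuotSMulTop f R) := nontrivial_quotSMulTop_of_mem_maximalIdeal R hf
  have hsucc : Module.supportDim R (QuotSMulTop f R) + 1 = Module.supportDim R R := by
    refine Module.supportDim_quotSMulTop_succ_eq_of_notMem_minimalPrimes_of_mem_maximalIdeal ?_ hf
    intro p hp
    rw [Module.annihilator_eq_bot.2 inferInstance] at hp
    exact hmin p hp
  rw [Module.supportDim_self_eq_ringKrullDim, hd] at hsucc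
  obtain ⟨b, hb⟩ := IntegralMod.exists_nat_supportDim (A := R) (QuotSMulTop f R)
  rw [hb] at hsucc
  have hbd : b + 1 = d := by exact_mod_cast hsucc
  have hle : Module.supportDim R (QuotSMulTop f R) ≤ ((d - 1 : ℕ) : WithBot ℕ∞) := by
    rw [hb]
    have h1 : b ≤ d - 1 := by omega
    exact_mod_cast h1
  obtain ⟨rs, hlen, hrsmem, hfl⟩ :=
    exists_list_isFiniteLength_quot_of_supportDim_le (A := R) (d - 1) (QuotSMulTop f R) hle
  have hget : ∀ i : ℕ, rs.getD i 0 ∈ IsLocalRing.maximalIdeal R := by
    intro i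
    by_cases hi : i < rs.length
    · rw [List.getD_eq_getElem _ _ hi]
      have h1 := hrsmem _ (List.getElem_mem hi)
      rwa [IsLocalRing.ringJacobson_eq_maximalIdeal] at h1
    · rw [List.getD_eq_default _ _ (not_lt.1 hi)]
      exact zero_mem _
  refine ⟨fun i => (rs.getD i 0) ^ (k + 1), ?_, ?_, ?_⟩
  · intro i
    exact Ideal.pow_le_pow_right (Nat.le_succ k) (Ideal.pow_mem_pow (hget i) (k + 1))
  · intro i
    exact Ideal.pow_mem_of_mem _ (hget i) (k + 1) (Nat.succ_pos k)
  · rw [Ideal.radical_eq_sInf]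
    refine le_sInf (fun P hP => ?_)
    obtain ⟨hIP, hPprime⟩ := hP
    have hfP : f ∈ P := hIP (Ideal.subset_span (Set.mem_insert _ _))
    have hrP : ∀ r ∈ rs, r ∈ P := by
      intro r hr
      obtain ⟨i, hi, rfl⟩ := List.mem_iff_getElem.1 hr
      have hi' : i < d - 1 := lt_of_lt_of_le hi hlen
      have h1 : (rs.getD i 0) ^ (k + 1) ∈ P :=
        hIP (Ideal.subset_span (Set.mem_insert_of_mem _ ⟨⟨i, hi'⟩, rfl⟩))
      rw [List.getD_eq_getElem _ _ hi] at h1
      exact hPprime.mem_of_pow_mem _ h1
    have hmem : (⟨P, hPprime⟩ : PrimeSpectrum R) ∈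
        Module.support R (QuotSMulTop f R ⧸ Ideal.ofList rs • (⊤ : Submodule R (QuotSMulTop f R))) := by
      rw [Module.support_quotient]
      refine ⟨(IntegralMod.support_quotSMulTop f R _).2 ⟨?_, hfP⟩, ?_⟩
      · rw [Module.mem_support_iff_of_finite, Module.annihilator_eq_bot.2 inferInstance]
        exact bot_le
      · rw [PrimeSpectrum.mem_zeroLocus, SetLike.coe_subset_coe]
        exact Ideal.span_le.2 hrP
    haveI := hPprime
    have h2 := isMaximal_of_annihilator_le_of_isFiniteLength hfl P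
      (Module.annihilator_le_of_mem_support hmem)
    rw [IsLocalRing.eq_maximalIdeal h2]

theorem exists_sop_stable (d : ℕ) (hd : ringKrullDim R = d) (f : R)
    (hf : f ∈ IsLocalRing.maximalIdeal R) (hmin : ∀ p ∈ minimalPrimes R, f ∉ p) :
    ∃ (g : Fin (d - 1) → R) (N : ℕ), (∀ i, g i ∈ IsLocalRing.maximalIdeal R) ∧
      IsLocalRing.maximalIdeal R ≤ (Ideal.span (insert f (Set.range g))).radical ∧
      ∀ h ∈ IsLocalRing.maximalIdeal R ^ N,
        IsLocalRing.maximalIdeal R ≤ (Ideal.span (insert (f + h) (Set.range g))).radical ∧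
        Module.length R (R ⧸ Ideal.span (insert f (Set.range g))) =
          Module.length R (R ⧸ Ideal.span (insert (f + h) (Set.range g))) := by
  obtain ⟨g, -, hgm, hrad⟩ := exists_sop R d hd f hf hmin 0
  obtain ⟨N0, hN0⟩ := Ideal.exists_pow_le_of_le_radical_of_fg hrad (IsNoetherian.noetherian _)
  refine ⟨g, N0 + 1, hgm, hrad, fun h hh => ?_⟩
  have hhI : h ∈ IsLocalRing.maximalIdeal R * Ideal.span (insert f (Set.range g)) := by
    rw [mul_comm]
    rw [pow_succ] at hh
    exact Ideal.mul_mono_left hN0 hh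
  have hI : Ideal.span (insert (f + h) (Set.range g)) = Ideal.span (insert f (Set.range g)) := by
    apply le_antisymm
    · rw [Ideal.span_le]
      intro y hy
      rcases hy with rfl | hy
      · exact add_mem (Ideal.subset_span (Set.mem_insert _ _)) (Ideal.mul_le_right hhI)
      · exact Ideal.subset_span (Set.mem_insert_of_mem _ hy)
    · refine Submodule.le_of_le_smul_of_le_jacobson_bot (I := IsLocalRing.maximalIdeal R)
        (IsNoetherian.noetherian _)
        (by rw [IsLocalRing.jacobson_eq_maximalIdeal ⊥ bot_ne_top]) ?_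
      rw [Ideal.span_le]
      intro y hy
      rcases hy with rfl | hy
      · have h2 : (y + h) + (-h) ∈ Ideal.span (insert (y + h) (Set.range g)) ⊔
            IsLocalRing.maximalIdeal R • Ideal.span (insert y (Set.range g)) :=
          Submodule.add_mem_sup (Ideal.subset_span (Set.mem_insert _ _)) (neg_mem hhI)
        rwa [add_neg_cancel_right] at h2
      · exact Submodule.mem_sup_left (Ideal.subset_span (Set.mem_insert_of_mem _ hy))
  rw [hI]
  exact ⟨hrad, rfl⟩

end Groth.Agent.Lib.Helper5.Sop
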