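import Mathlib
import Groth.Agent.Lib.Helper5HilbertRLR

/-!
# Bounding the Hilbert-Samuel function of an ideal with `d` generators (helper5)

For an ideal `I` generated by `d` elements, `length (A ⧸ I ^ i) ≤ length (A ⧸ I) * C(i + d - 1, d)`.
-/

set_option autoImplicit false
universe u

namespace Groth.Agent.Lib.Helper5.MultBound

open Groth.Agent.Lib.Helper5.HilbertRLR

/-- `A ⧸ (J + (x))` and `Ā ⧸ J̄` have the same length, `Ā = A ⧸ (x)`. -/
theorem length_quotient_sup' {A : Type u} [CommRing A] (J : Ideal A) (x : A) :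
    Module.length A (A ⧸ (J ⊔ Ideal.span {x})) =
      Module.length (A ⧸ Ideal.span {x})
        ((A ⧸ Ideal.span {x}) ⧸ J.map (Ideal.Quotient.mk (Ideal.span {x}))) := by
  rw [← Module.length_eq_of_surjective (S := A) (R := A ⧸ Ideal.span {x})
    (M := (A ⧸ Ideal.span {x}) ⧸ J.map (Ideal.Quotient.mk (Ideal.span {x})))
    Ideal.Quotient.mk_surjective]
  obtain ⟨φ, hφ⟩ : ∃ φ : A →ₗ[A] (A ⧸ Ideal.span {x}) ⧸ J.map (Ideal.Quotient.mk (Ideal.span {x})),
      ∀ a, φ a = Ideal.Quotient.mk _ (Ideal.Quotient.mk (Ideal.span {x}) a) :=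
    ⟨((J.map (Ideal.Quotient.mk (Ideal.span {x}))).mkQ.restrictScalars A).comp
      (Algebra.linearMap A (A ⧸ Ideal.span {x})), fun a => rfl⟩
  have hsurj : Function.Surjective φ := by
    intro b
    obtain ⟨b, rfl⟩ := Ideal.Quotient.mk_surjective b
    obtain ⟨b, rfl⟩ := Ideal.Quotient.mk_surjective b
    exact ⟨b, hφ b⟩
  have hker : LinearMap.ker φ = J ⊔ Ideal.span {x} := by
    ext a
    rw [LinearMap.mem_ker, hφ, Ideal.Quotient.eq_zero_iff_mem,
      ← Ideal.mem_comap, Ideal.comap_map_of_surjective _ Ideal.Quotient.mk_surjective,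
      ← RingHom.ker_eq_comap_bot, Ideal.mk_ker]
  exact ((Submodule.quotEquivOfEq _ _ hker).symm.trans
    (LinearMap.quotKerEquivOfSurjective φ hsurj)).length_eq

theorem map_span_range_succ {A : Type u} [CommRing A] {d : ℕ} (g : Fin (d + 1) → A) :
    (Ideal.span (Set.range g)).map (Ideal.Quotient.mk (Ideal.span {g 0})) =
      Ideal.span (Set.range fun j : Fin d => Ideal.Quotient.mk (Ideal.span {g 0}) (g j.succ)) := by
  rw [Ideal.map_span]
  apply le_antisymm
  · rw [Ideal.span_le]
    rintro _ ⟨_, ⟨i, rfl⟩, rfl⟩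
    refine Fin.cases ?_ (fun j => ?_) i
    · have : Ideal.Quotient.mk (Ideal.span {g 0}) (g 0) = 0 :=
        Ideal.Quotient.eq_zero_iff_mem.mpr (Ideal.mem_span_singleton_self _)
      rw [this]
      exact Ideal.zero_mem _
    · exact Ideal.subset_span ⟨j, rfl⟩
  · rw [Ideal.span_le]
    rintro _ ⟨j, rfl⟩
    exact Ideal.subset_span ⟨_, ⟨j.succ, rfl⟩, rfl⟩

/-- The Hilbert-Samuel function of an ideal with `d` generators is bounded by
`length (A ⧸ I) * C(i + d - 1, d)`. -/
theorem length_quotient_pow_le (d : ℕ) :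
    ∀ (A : Type u) [CommRing A] (g : Fin d → A) (i : ℕ),
      Module.length A (A ⧸ Ideal.span (Set.range g) ^ i) ≤
        Module.length A (A ⧸ Ideal.span (Set.range g)) * (((i + d - 1).choose d : ℕ) : ℕ∞) := by
  induction d with
  | zero =>
    intro A _ g i
    rcases Nat.eq_zero_or_pos i with rfl | hi
    · rw [length_quotient_pow_zero]
      exact zero_le
    · have hI : Ideal.span (Set.range g) = ⊥ := by
        rw [Set.range_eq_empty, Ideal.span_empty]
      have hpow : Ideal.span (Set.range g) ^ i = Ideal.span (Set.range g) := by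
        rw [hI, ← Ideal.zero_eq_bot, zero_pow (by omega)]
      rw [hpow, Nat.choose_zero_right, Nat.cast_one, mul_one]
  | succ d ih =>
    intro A _ g
    obtain ⟨I, hI⟩ : ∃ I : Ideal A, I = Ideal.span (Set.range g) := ⟨_, rfl⟩
    rw [← hI]
    have hxI : g 0 ∈ I := by rw [hI]; exact Ideal.subset_span ⟨0, rfl⟩
    obtain ⟨g', hg'⟩ : ∃ g' : Fin d → A ⧸ Ideal.span {g 0},
        g' = fun j : Fin d => Ideal.Quotient.mk (Ideal.span {g 0}) (g j.succ) := ⟨_, rfl⟩
    have hmap : I.map (Ideal.Quotient.mk (Ideal.span {g 0})) = Ideal.span (Set.range g') := by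
      rw [hI, hg']
      exact map_span_range_succ g
    have hL : Module.length (A ⧸ Ideal.span {g 0})
        ((A ⧸ Ideal.span {g 0}) ⧸ Ideal.span (Set.range g')) = Module.length A (A ⧸ I) := by
      rw [← hmap, ← length_quotient_sup']
      have : I ⊔ Ideal.span {g 0} = I :=
        sup_eq_left.mpr ((Ideal.span_singleton_le_iff_mem _).mpr hxI)
      rw [this]
    have hx' : ∀ (i : ℕ) (a : A), a ∈ I ^ i → g 0 * a ∈ I ^ (i + 1) := by
      intro i a ha
      rw [pow_succ']
      exact Ideal.mul_mem_mul hxI ha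
    have hstep : ∀ i : ℕ, Module.length A (A ⧸ I ^ (i + 1)) ≤
        Module.length A (A ⧸ I ^ i) + Module.length A (A ⧸ I) *
          (((i + d).choose d : ℕ) : ℕ∞) := by
      intro i
      refine (length_le_add (I ^ i) (I ^ (i + 1)) (g 0) (hx' i)).trans ?_
      gcongr
      rw [length_quotient_sup', Ideal.map_pow, hmap, ← hL]
      have := ih (A ⧸ Ideal.span {g 0}) g' (i + 1)
      have e : i + 1 + d - 1 = i + d := by omega
      rwa [e] at this
    have hbound : ∀ i : ℕ, Module.length A (A ⧸ I ^ i) ≤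
        Module.length A (A ⧸ I) * (((i + d).choose (d + 1) : ℕ) : ℕ∞) := by
      intro i
      induction i with
      | zero =>
        rw [length_quotient_pow_zero]
        exact zero_le
      | succ i ihi =>
        have e : i + 1 + d = i + d + 1 := by omega
        rw [e, Nat.choose_succ_succ (i + d) d, add_comm ((i + d).choose d)]
        push_cast
        rw [mul_add]
        exact (hstep i).trans (add_le_add ihi le_rfl)
    intro i
    have e : i + (d + 1) - 1 = i + d := by omega
    rw [e]
    exact hbound i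

end Groth.Agent.Lib.Helper5.MultBound
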