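import Mathlib
import Groth.Agent.Lib.Helper28RedQuot1
import Groth.Agent.Lib.Helper5RLR
import Groth.Agent.S7115
import Groth.Agent.S7117

/-!
# Helper28RedQuot2: reduced principal quotients of Noetherian normal local domains, part 2

`exists_reduced_quotient`: `R` a Noetherian normal local domain of dimension `d ≥ 2` all of whose
height-one primes `Q` have `dim R/Q = d - 1`; every nonzero proper radical ideal `J` contains a
nonzero `f` with `R ⧸ (f)` reduced.  (Slow modification `f ↦ f + g` keeping `(f) + (y)` fixed for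
a system of parameters `y` of `R/(f)`; the number of height-one primes containing `f` is bounded by
the colength of `(f) + (y)`.)
-/

set_option autoImplicit false
universe u

namespace Groth.Agent.Lib.Helper28.RedQuot
open IsLocalRing

section Length

theorem length_self_eq_of_ringEquiv {A B : Type u} [CommRing A] [CommRing B] (e : A ≃+* B) :
    Module.length A A = Module.length B B := by
  let _ : Algebra A B := e.toRingHom.toAlgebra
  have h1 : Module.length A B = Module.length B B :=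
    Module.length_eq_of_surjective (S := A) (R := B) (M := B) e.surjective
  let l : A ≃ₗ[A] B :=
    { e with
      map_smul' := fun a x => by
        change e (a * x) = e a * e x
        exact map_mul e a x }
  rw [← h1]
  exact l.length_eq

theorem length_quotient_ne_top {R : Type u} [CommRing R] [IsNoetherianRing R] [IsLocalRing R]
    (𝔮 : Ideal R) (h : maximalIdeal R ≤ 𝔮.radical) :
    Module.length (R ⧸ 𝔮) (R ⧸ 𝔮) ≠ ⊤ := by
  have hK0 : Ring.KrullDimLE 0 (R ⧸ 𝔮) := by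
    rw [Ring.krullDimLE_zero_iff]
    intro P hP
    have hcp : (P.comap (Ideal.Quotient.mk 𝔮)).IsPrime := Ideal.comap_isPrime _ _
    have hle : 𝔮 ≤ P.comap (Ideal.Quotient.mk 𝔮) := by
      intro x hx
      rw [Ideal.mem_comap, Ideal.Quotient.eq_zero_iff_mem.mpr hx]
      exact zero_mem _
    have hm : maximalIdeal R ≤ P.comap (Ideal.Quotient.mk 𝔮) :=
      h.trans (hcp.radical_le_iff.mpr hle)
    have hmax : (P.comap (Ideal.Quotient.mk 𝔮)).IsMaximal := by
      have := (IsLocalRing.maximalIdeal.isMaximal R).eq_of_le hcp.ne_top hm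
      rw [← this]
      exact IsLocalRing.maximalIdeal.isMaximal R
    have hP' : (P.comap (Ideal.Quotient.mk 𝔮)).map (Ideal.Quotient.mk 𝔮) = P :=
      Ideal.map_comap_of_surjective _ Ideal.Quotient.mk_surjective P
    rcases Ideal.map_eq_top_or_isMaximal_of_surjective (Ideal.Quotient.mk 𝔮)
      Ideal.Quotient.mk_surjective hmax with h1 | h1
    · rw [hP'] at h1
      exact absurd h1 hP.ne_top
    · rwa [hP'] at h1
  have hArt : IsArtinianRing (R ⧸ 𝔮) := isArtinianRing_iff_krullDimLE_zero.mpr hK0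
  exact Module.length_ne_top

end Length

section Count

variable {R : Type u} [CommRing R] [IsDomain R] [IsNoetherianRing R]

/-- The height-one primes containing `f`. -/
def primesOf (f : R) : Set (PrimeSpectrum R) := {Q | Q.asIdeal.height = 1 ∧ f ∈ Q.asIdeal}

theorem mem_minimalPrimes_of_mem_primesOf {f : R} (hf : f ≠ 0) {Q : PrimeSpectrum R}
    (hQ : Q ∈ primesOf f) : Q.asIdeal ∈ (Ideal.span {f}).minimalPrimes := by
  obtain ⟨hht, hfQ⟩ := hQ
  refine ⟨⟨Q.isPrime, (Ideal.span_singleton_le_iff_mem _).mpr hfQ⟩, ?_⟩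
  rintro P ⟨hPp, hfP⟩ hPQ
  by_contra hnot
  have hP0 : P ≠ ⊥ := by
    intro h0
    rw [h0, Ideal.span_singleton_le_iff_mem, Ideal.mem_bot] at hfP
    exact hf hfP
  have hne : P ≠ Q.asIdeal := fun h => hnot (h ▸ le_refl _)
  have := Q.isPrime
  exact not_le_of_height_eq_one hP0 hht hne hPQ

theorem finite_primesOf {f : R} (hf : f ≠ 0) : (primesOf f).Finite := by
  have hfin := Ideal.finite_minimalPrimes_of_isNoetherianRing R (Ideal.span {f})
  refine Set.Finite.of_finite_image (f := PrimeSpectrum.asIdeal) (hfin.subset ?_) ?_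
  · rintro _ ⟨Q, hQ, rfl⟩
    exact mem_minimalPrimes_of_mem_primesOf hf hQ
  · intro Q _ Q' _ h
    exact PrimeSpectrum.ext h

theorem primesOf_nonempty {f : R} (hf : f ≠ 0) (hfu : ¬ IsUnit f) : (primesOf f).Nonempty := by
  have hne : Ideal.span {f} ≠ ⊤ := by
    rw [Ne, Ideal.span_singleton_eq_top]; exact hfu
  obtain ⟨M, hM, hfM⟩ := Ideal.exists_le_maximal _ hne
  obtain ⟨P, hP, -⟩ := Ideal.exists_minimalPrimes_le hfM
  have hPp : P.IsPrime := hP.1.1
  have h1 : P.height ≤ 1 := Ideal.height_le_one_of_isPrincipal_of_mem_minimalPrimes _ P hP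
  have hP0 : P ≠ ⊥ := by
    intro h0
    have := hP.1.2
    rw [h0, Ideal.span_singleton_le_iff_mem, Ideal.mem_bot] at this
    exact hf this
  have h2 := one_le_height_of_ne_bot P hP0
  exact ⟨⟨P, hPp⟩, le_antisymm h1 h2, (Ideal.span_singleton_le_iff_mem _).mp hP.1.2⟩

section Dim

variable [IsLocalRing R] (d : ℕ)
  (hQd : ∀ Q : PrimeSpectrum R, Q.asIdeal.height = 1 →
    ringKrullDim (R ⧸ Q.asIdeal) = ((d - 1 : ℕ) : WithBot ℕ∞))

include hQd in
theorem ringKrullDim_quotient_span_singleton (hd : ringKrullDim R = d) {f : R} (hf : f ≠ 0)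
    (hfu : ¬ IsUnit f) : ringKrullDim (R ⧸ Ideal.span {f}) = ((d - 1 : ℕ) : WithBot ℕ∞) := by
  have hne : Ideal.span {f} ≠ ⊤ := by
    rw [Ne, Ideal.span_singleton_eq_top]; exact hfu
  have hnt : Nontrivial (R ⧸ Ideal.span {f}) := Ideal.Quotient.nontrivial_iff.mpr hne
  have hloc : IsLocalRing (R ⧸ Ideal.span {f}) :=
    IsLocalRing.of_surjective' (Ideal.Quotient.mk _) Ideal.Quotient.mk_surjective
  obtain ⟨n, hn⟩ := Groth.Agent.Lib.Helper5.exists_nat_ringKrullDim_eq (R ⧸ Ideal.span {f})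
  have h1 := ringKrullDim_quotient_succ_le_of_nonZeroDivisor (mem_nonZeroDivisors_of_ne_zero hf)
  rw [hn, hd] at h1
  have h1' : n + 1 ≤ d := by exact_mod_cast h1
  obtain ⟨Q, hQ⟩ := primesOf_nonempty hf hfu
  have hle : Ideal.span {f} ≤ Q.asIdeal := (Ideal.span_singleton_le_iff_mem _).mpr hQ.2
  have h2 : ringKrullDim (R ⧸ Q.asIdeal) ≤ ringKrullDim (R ⧸ Ideal.span {f}) :=
    ringKrullDim_le_of_surjective (Ideal.Quotient.factor hle) (Ideal.Quotient.factor_surjective hle)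
  rw [hQd Q hQ.1, hn] at h2
  have h2' : d - 1 ≤ n := by exact_mod_cast h2
  rw [hn]
  have : n = d - 1 := by omega
  rw [this]

include hQd in
theorem ncard_primesOf_le (hd : ringKrullDim R = d) {f : R} (hf : f ≠ 0)
    (hfm : f ∈ maximalIdeal R) (y : Fin (d - 1) → R) (hy : ∀ i, y i ∈ maximalIdeal R)
    (hsop : maximalIdeal R ≤ (Ideal.span {f} ⊔ Ideal.span (Set.range y)).radical) :
    ((primesOf f).ncard : ℕ∞) ≤
      Module.length (R ⧸ (Ideal.span {f} ⊔ Ideal.span (Set.range y)))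
        (R ⧸ (Ideal.span {f} ⊔ Ideal.span (Set.range y))) := by
  have hfu : ¬ IsUnit f := (IsLocalRing.mem_maximalIdeal f).mp hfm
  have hne : Ideal.span {f} ≠ ⊤ := by
    rw [Ne, Ideal.span_singleton_eq_top]; exact hfu
  have hnt : Nontrivial (R ⧸ Ideal.span {f}) := Ideal.Quotient.nontrivial_iff.mpr hne
  have hloc : IsLocalRing (R ⧸ Ideal.span {f}) :=
    IsLocalRing.of_surjective' (Ideal.Quotient.mk _) Ideal.Quotient.mk_surjective
  have hd' := ringKrullDim_quotient_span_singleton d hQd hd hf hfu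
  have hspan : Ideal.span (Set.range (fun i => Ideal.Quotient.mk (Ideal.span {f}) (y i))) =
      (Ideal.span (Set.range y)).map (Ideal.Quotient.mk (Ideal.span {f})) := by
    rw [Ideal.map_span, ← Set.range_comp]
    rfl
  have hg' : ∀ i, Ideal.Quotient.mk (Ideal.span {f}) (y i) ∈
      maximalIdeal (R ⧸ Ideal.span {f}) := by
    intro i
    rw [Groth.Agent.Lib.Helper5.maximalIdeal_quotient_eq_map]
    exact Ideal.mem_map_of_mem _ (hy i)
  have hsop' : maximalIdeal (R ⧸ Ideal.span {f}) ≤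
      (Ideal.span (Set.range (fun i => Ideal.Quotient.mk (Ideal.span {f}) (y i)))).radical := by
    rw [Groth.Agent.Lib.Helper5.maximalIdeal_quotient_eq_map, hspan]
    refine (Ideal.map_mono hsop).trans ?_
    refine (Ideal.map_radical_le _).trans ?_
    apply Ideal.radical_mono
    rw [Ideal.map_sup, Ideal.map_quotient_self, bot_sup_eq]
  have key := Groth.Agent.S7117.result (R ⧸ Ideal.span {f}) (d - 1) hd'
    (fun i => Ideal.Quotient.mk (Ideal.span {f}) (y i)) hg' hsop'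
  have hR : Module.length (R ⧸ Ideal.span {f}) ((R ⧸ Ideal.span {f}) ⧸
      Ideal.span (Set.range (fun i => Ideal.Quotient.mk (Ideal.span {f}) (y i)))) =
      Module.length (R ⧸ (Ideal.span {f} ⊔ Ideal.span (Set.range y)))
        (R ⧸ (Ideal.span {f} ⊔ Ideal.span (Set.range y))) := by
    rw [hspan, Module.length_eq_of_surjective (S := R ⧸ Ideal.span {f})
      (R := (R ⧸ Ideal.span {f}) ⧸
        (Ideal.span (Set.range y)).map (Ideal.Quotient.mk (Ideal.span {f})))
      Ideal.Quotient.mk_surjective]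
    exact length_self_eq_of_ringEquiv
      (DoubleQuot.quotQuotEquivQuotSup (Ideal.span {f}) (Ideal.span (Set.range y)))
  rw [hR] at key
  refine le_trans ?_ key
  have hfinS : {p : Ideal (R ⧸ Ideal.span {f}) | p ∈ minimalPrimes (R ⧸ Ideal.span {f}) ∧
      ringKrullDim ((R ⧸ Ideal.span {f}) ⧸ p) = ((d - 1 : ℕ) : WithBot ℕ∞)}.Finite :=
    (minimalPrimes.finite_of_isNoetherianRing (R ⧸ Ideal.span {f})).subset (fun p hp => hp.1)
  have hcard := Set.ncard_le_ncard_of_injOn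
    (fun Q : PrimeSpectrum R => Q.asIdeal.map (Ideal.Quotient.mk (Ideal.span {f}))) (s := primesOf f)
    (t := {p : Ideal (R ⧸ Ideal.span {f}) | p ∈ minimalPrimes (R ⧸ Ideal.span {f}) ∧
      ringKrullDim ((R ⧸ Ideal.span {f}) ⧸ p) = ((d - 1 : ℕ) : WithBot ℕ∞)}) ?_ ?_ hfinS
  · exact_mod_cast hcard
  · intro Q hQ
    have hle : Ideal.span {f} ≤ Q.asIdeal := (Ideal.span_singleton_le_iff_mem _).mpr hQ.2
    have hmin := mem_minimalPrimes_of_mem_primesOf hf hQ
    rw [Ideal.minimalPrimes_eq_comap] at hmin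
    obtain ⟨p', hp', hp'Q⟩ := hmin
    have hmap : Q.asIdeal.map (Ideal.Quotient.mk (Ideal.span {f})) = p' := by
      rw [← hp'Q, Ideal.map_comap_of_surjective _ Ideal.Quotient.mk_surjective]
    refine ⟨by rw [hmap]; exact hp', ?_⟩
    rw [ringKrullDim_eq_of_ringEquiv (DoubleQuot.quotQuotEquivQuotOfLE hle)]
    exact hQd Q hQ.1
  · intro Q hQ Q' hQ' h
    have hle : Ideal.span {f} ≤ Q.asIdeal := (Ideal.span_singleton_le_iff_mem _).mpr hQ.2
    have hle' : Ideal.span {f} ≤ Q'.asIdeal := (Ideal.span_singleton_le_iff_mem _).mpr hQ'.2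
    apply PrimeSpectrum.ext
    have h' : Q.asIdeal.map (Ideal.Quotient.mk (Ideal.span {f})) =
        Q'.asIdeal.map (Ideal.Quotient.mk (Ideal.span {f})) := h
    rw [← Ideal.comap_map_mk hle, ← Ideal.comap_map_mk hle', h']

include hQd in
/-- **Main lemma**: reduced principal quotients inside a radical ideal. -/
theorem exists_reduced_quotient [IsIntegrallyClosed R] (hd : ringKrullDim R = d) (h2 : 2 ≤ d)
    (J : Ideal R) (hJ : J.IsRadical) (hJ0 : J ≠ ⊥) (hJtop : J ≠ ⊤) :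
    ∃ f ∈ J, f ≠ 0 ∧ IsReduced (R ⧸ Ideal.span {f}) := by
  classical
  have hJm : J ≤ maximalIdeal R := le_maximalIdeal hJtop
  obtain ⟨f₀, hf₀J, hf₀0⟩ := Submodule.exists_mem_ne_zero_of_ne_bot hJ0
  have hf₀m := hJm hf₀J
  have hmin : ∀ p ∈ minimalPrimes R, f₀ ∉ p := by
    intro p hp
    rw [IsDomain.minimalPrimes_eq_singleton_bot, Set.mem_singleton_iff] at hp
    rw [hp, Ideal.mem_bot]
    exact hf₀0
  obtain ⟨y, -, hy, hsop⟩ := Groth.Agent.S7115.result R d hd (by omega) f₀ hf₀m hmin 1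
  rw [Ideal.span_insert] at hsop
  have hLfin := length_quotient_ne_top (Ideal.span {f₀} ⊔ Ideal.span (Set.range y)) hsop
  obtain ⟨B, hB⟩ := ENat.ne_top_iff_exists.mp hLfin
  -- the family
  have hbound : ∀ f : R, f ≠ 0 → f ∈ J →
      Ideal.span {f} ⊔ Ideal.span (Set.range y) = Ideal.span {f₀} ⊔ Ideal.span (Set.range y) →
      (primesOf f).ncard ≤ B := by
    intro f hf0 hfJ hfq
    have h1 := ncard_primesOf_le d hQd hd hf0 (hJm hfJ) y hy (by rw [hfq]; exact hsop)
    rw [hfq, ← hB] at h1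
    exact_mod_cast h1
  obtain ⟨f, ⟨hf0, hfJ, hfq⟩, hmax⟩ : ∃ f : R, (f ≠ 0 ∧ f ∈ J ∧
      Ideal.span {f} ⊔ Ideal.span (Set.range y) = Ideal.span {f₀} ⊔ Ideal.span (Set.range y)) ∧
      ∀ f' : R, (f' ≠ 0 ∧ f' ∈ J ∧ Ideal.span {f'} ⊔ Ideal.span (Set.range y) =
        Ideal.span {f₀} ⊔ Ideal.span (Set.range y)) →
        (primesOf f').ncard ≤ (primesOf f).ncard := by
    have hVne : ((fun f : R => (primesOf f).ncard) '' {f | f ≠ 0 ∧ f ∈ J ∧
        Ideal.span {f} ⊔ Ideal.span (Set.range y) =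
          Ideal.span {f₀} ⊔ Ideal.span (Set.range y)}).Nonempty :=
      ⟨_, f₀, ⟨hf₀0, hf₀J, rfl⟩, rfl⟩
    have hVb : BddAbove ((fun f : R => (primesOf f).ncard) '' {f | f ≠ 0 ∧ f ∈ J ∧
        Ideal.span {f} ⊔ Ideal.span (Set.range y) =
          Ideal.span {f₀} ⊔ Ideal.span (Set.range y)}) :=
      ⟨B, by rintro _ ⟨f, ⟨h1, h2, h3⟩, rfl⟩; exact hbound f h1 h2 h3⟩
    obtain ⟨f, hf, hfe⟩ := Nat.sSup_mem hVne hVb
    have hfe' : (primesOf f).ncard = sSup ((fun f : R => (primesOf f).ncard) '' {f | f ≠ 0 ∧ f ∈ J ∧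
        Ideal.span {f} ⊔ Ideal.span (Set.range y) =
          Ideal.span {f₀} ⊔ Ideal.span (Set.range y)}) := hfe
    exact ⟨f, hf, fun f' hf' => by rw [hfe']; exact le_csSup hVb ⟨f', hf', rfl⟩⟩
  have hfm := hJm hfJ
  have hfu : ¬ IsUnit f := (IsLocalRing.mem_maximalIdeal f).mp hfm
  have hTfin := finite_primesOf hf0
  have hT1 : ∀ Q ∈ hTfin.toFinset, Q.asIdeal.height = 1 :=
    fun Q hQ => ((Set.Finite.mem_toFinset _).mp hQ).1
  have h𝔞 : ∀ Q ∈ hTfin.toFinset, ∃ a ∈ (J ⊓ Ideal.span (Set.range y)) ⊓ Q.asIdeal,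
      a ∉ symSq Q.asIdeal := by
    intro Q hQ
    have hQ' := (Set.Finite.mem_toFinset _).mp hQ
    obtain ⟨j, ⟨hjJ, hjQ⟩, hj2⟩ := exists_mem_inf_not_mem_symSq J hJ hJ0 Q.asIdeal hQ'.1
    have hyQ : ¬ Ideal.span (Set.range y) ≤ Q.asIdeal := by
      intro hle
      have h𝔮Q : Ideal.span {f₀} ⊔ Ideal.span (Set.range y) ≤ Q.asIdeal := by
        rw [← hfq]
        exact sup_le ((Ideal.span_singleton_le_iff_mem _).mpr hQ'.2) hle
      have hmQ : maximalIdeal R ≤ Q.asIdeal :=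
        hsop.trans (Q.isPrime.radical_le_iff.mpr h𝔮Q)
      have hQm : maximalIdeal R = Q.asIdeal :=
        (IsLocalRing.maximalIdeal.isMaximal R).eq_of_le Q.isPrime.ne_top hmQ
      have hht : ((maximalIdeal R).height : WithBot ℕ∞) = d := by
        rw [IsLocalRing.maximalIdeal_height_eq_ringKrullDim, hd]
      rw [hQm, hQ'.1] at hht
      have : (1 : ℕ) = d := by exact_mod_cast hht
      omega
    obtain ⟨y₀, hy₀, hy₀Q⟩ := SetLike.not_le_iff_exists.mp hyQ
    exact ⟨y₀ * j, ⟨⟨J.mul_mem_left _ hjJ, Ideal.mul_mem_right _ _ hy₀⟩,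
      Q.asIdeal.mul_mem_left _ hjQ⟩, fun h => hj2 (mem_symSq_of_mul_mem _ hy₀Q h)⟩
  obtain ⟨g, hg𝔞, hg2, hg1⟩ := exists_modification (J ⊓ Ideal.span (Set.range y))
    hTfin.toFinset hT1 h𝔞 (hTfin.toFinset.filter (fun Q => f ∈ symSq Q.asIdeal))
    (Finset.filter_subset _ _)
  have hf'Q : ∀ Q ∈ hTfin.toFinset, f + g ∈ Q.asIdeal ∧ f + g ∉ symSq Q.asIdeal := by
    intro Q hQ
    have hQ' := (Set.Finite.mem_toFinset _).mp hQ
    by_cases h2 : f ∈ symSq Q.asIdeal
    · have hQ2 : Q ∈ hTfin.toFinset.filter (fun Q => f ∈ symSq Q.asIdeal) :=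
        Finset.mem_filter.mpr ⟨hQ, h2⟩
      obtain ⟨hgQ, hg2'⟩ := hg2 Q hQ2
      refine ⟨Ideal.add_mem _ hQ'.2 hgQ, fun h => hg2' ?_⟩
      have := Ideal.sub_mem _ h h2
      rwa [add_sub_cancel_left] at this
    · have hQ2 : Q ∉ hTfin.toFinset.filter (fun Q => f ∈ symSq Q.asIdeal) :=
        fun h => h2 (Finset.mem_filter.mp h).2
      have hgs := hg1 Q hQ hQ2
      refine ⟨Ideal.add_mem _ hQ'.2 (symSq_le _ hgs), fun h => h2 ?_⟩
      have := Ideal.sub_mem _ h hgs
      rwa [add_sub_cancel_right] at this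
  obtain ⟨Q₀, hQ₀⟩ := primesOf_nonempty hf0 hfu
  have hQ₀T : Q₀ ∈ hTfin.toFinset := (Set.Finite.mem_toFinset _).mpr hQ₀
  have hf'0 : f + g ≠ 0 := fun h0 => (hf'Q Q₀ hQ₀T).2 (h0 ▸ zero_mem _)
  have hf'q : Ideal.span {f + g} ⊔ Ideal.span (Set.range y) =
      Ideal.span {f₀} ⊔ Ideal.span (Set.range y) := by
    rw [← hfq]
    apply le_antisymm
    · apply sup_le _ le_sup_right
      rw [Ideal.span_singleton_le_iff_mem]
      exact Ideal.add_mem _ (Ideal.mem_sup_left (Ideal.mem_span_singleton_self f))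
        (Ideal.mem_sup_right hg𝔞.2)
    · apply sup_le _ le_sup_right
      rw [Ideal.span_singleton_le_iff_mem]
      have hfe : f = (f + g) - g := by ring
      have hmem : (f + g) - g ∈ Ideal.span {f + g} ⊔ Ideal.span (Set.range y) :=
        Ideal.sub_mem _ (Ideal.mem_sup_left (Ideal.mem_span_singleton_self (f + g)))
          (Ideal.mem_sup_right hg𝔞.2)
      rwa [← hfe] at hmem
  have hf'J : f + g ∈ J := J.add_mem hfJ hg𝔞.1
  have hsub : primesOf f ⊆ primesOf (f + g) :=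
    fun Q hQ => ⟨hQ.1, (hf'Q Q ((Set.Finite.mem_toFinset _).mpr hQ)).1⟩
  have hfin' := finite_primesOf hf'0
  have heq : primesOf f = primesOf (f + g) :=
    Set.eq_of_subset_of_ncard_le hsub (hmax _ ⟨hf'0, hf'J, hf'q⟩) hfin'
  refine ⟨f + g, hf'J, hf'0, isReduced_quotient_of_forall_not_mem_symSq (f + g) hf'0 ?_⟩
  intro Q hQp hht hmem
  have hQT : (⟨Q, hQp⟩ : PrimeSpectrum R) ∈ hTfin.toFinset := by
    rw [Set.Finite.mem_toFinset, heq]
    exact ⟨hht, hmem⟩
  exact (hf'Q ⟨Q, hQp⟩ hQT).2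

end Dim

section Hyp

variable [IsLocalRing R]

/-- the dimension hypothesis in dimension two. -/
theorem ringKrullDim_quotient_of_height_one_of_dim_two (hd : ringKrullDim R = (2 : ℕ))
    (Q : PrimeSpectrum R) (hQ : Q.asIdeal.height = 1) :
    ringKrullDim (R ⧸ Q.asIdeal) = ((2 - 1 : ℕ) : WithBot ℕ∞) := by
  have hQp := Q.isPrime
  have hQ0 : Q.asIdeal ≠ ⊥ := by
    intro h0
    rw [h0, Ideal.height_bot] at hQ
    exact zero_ne_one hQ
  obtain ⟨x, hxQ, hx0⟩ := Submodule.exists_mem_ne_zero_of_ne_bot hQ0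
  have hle : Ideal.span {x} ≤ Q.asIdeal := (Ideal.span_singleton_le_iff_mem _).mpr hxQ
  have h1 := ringKrullDim_quotient_succ_le_of_nonZeroDivisor (mem_nonZeroDivisors_of_ne_zero hx0)
  have h2 : ringKrullDim (R ⧸ Q.asIdeal) ≤ ringKrullDim (R ⧸ Ideal.span {x}) :=
    ringKrullDim_le_of_surjective (Ideal.Quotient.factor hle) (Ideal.Quotient.factor_surjective hle)
  have hloc : IsLocalRing (R ⧸ Q.asIdeal) :=
    IsLocalRing.of_surjective' (Ideal.Quotient.mk _) Ideal.Quotient.mk_surjective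
  obtain ⟨n, hn⟩ := Groth.Agent.Lib.Helper5.exists_nat_ringKrullDim_eq (R ⧸ Q.asIdeal)
  have h3 : ringKrullDim (R ⧸ Q.asIdeal) + 1 ≤ ringKrullDim R :=
    (add_le_add_left h2 1).trans h1
  rw [hn, hd] at h3
  have h3' : n + 1 ≤ 2 := by exact_mod_cast h3
  have hn0 : n ≠ 0 := by
    intro h0
    rw [h0] at hn
    have hK0 : Ring.KrullDimLE 0 (R ⧸ Q.asIdeal) := Ring.krullDimLE_iff.mpr (le_of_eq hn)
    have hdom : IsDomain (R ⧸ Q.asIdeal) := Ideal.Quotient.isDomain _
    have hfield : IsField (R ⧸ Q.asIdeal) := Ring.KrullDimLE.isField_of_isDomain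
    have hmax : Q.asIdeal.IsMaximal := Ideal.Quotient.maximal_of_isField _ hfield
    have hQm : Q.asIdeal = maximalIdeal R := IsLocalRing.eq_maximalIdeal hmax
    have hht : ((maximalIdeal R).height : WithBot ℕ∞) = (2 : ℕ) := by
      rw [IsLocalRing.maximalIdeal_height_eq_ringKrullDim, hd]
    rw [← hQm, hQ] at hht
    have h' : ((1 : ℕ∞) : WithBot ℕ∞) = ((2 : ℕ∞) : WithBot ℕ∞) := by
      rw [hht]; rfl
    have h2 : (1 : ℕ∞) = 2 := WithBot.coe_injective h'
    exact absurd h2 (by decide)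
  rw [hn]
  have : n = 2 - 1 := by omega
  rw [this]

end Hyp

end Count

end Groth.Agent.Lib.Helper28.RedQuot
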