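import Groth.Agent.S0563
import Groth.Agent.S0604
import Groth.Agent.Lib.Helper28DepthSk
import Groth.Agent.Lib.Helper28DepthLoc
import Groth.Agent.Lib.Helper5RLR

/-!
# Reflexive modules over regular local rings of dimension at most two are free (helper28)
-/

set_option autoImplicit false
universe u

namespace Groth.Agent.Lib.Helper28.ReflReg
open Groth.Agent.Lib.Helper28 CategoryTheory

theorem free_of_isReflexive_of_dim_le_two (R : Type u) [CommRing R] [IsRegularLocalRing R]
    (hdim : ringKrullDim R ≤ 2) (M : Type u) [AddCommGroup M] [Module R M] [Module.Finite R M]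
    [Module.IsReflexive R M] : Module.Free R M := by
  by_cases hsub : Subsingleton M
  · exact Module.Free.of_subsingleton R M
  rw [not_subsingleton_iff_nontrivial] at hsub
  obtain ⟨d, hd⟩ := Groth.Agent.Lib.Helper5.exists_nat_ringKrullDim_eq R
  have hpd : HasProjectiveDimensionLT (ModuleCat.of R M) (d + 1) := Groth.Agent.S0563.result R d hd M
  have hnz : ¬ Limits.IsZero (ModuleCat.of R M) := by
    intro h
    exact not_subsingleton M (ModuleCat.subsingleton_of_isZero h)
  -- the projective dimension is a natural number
  obtain ⟨e, he⟩ : ∃ e : ℕ, projectiveDimension (ModuleCat.of R M) = e := by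
    have h1 := projectiveDimension_lt_iff.mpr hpd
    generalize hpdv : projectiveDimension (ModuleCat.of R M) = pd at h1
    induction pd with
    | bot => exact absurd ((projectiveDimension_eq_bot_iff _).mp hpdv) hnz
    | coe pd =>
      induction pd with
      | top => exact absurd h1 (by simp)
      | coe n => exact ⟨n, rfl⟩
  have hAB := Groth.Agent.S0604.result R M e he
  -- depth bounds
  have hdR : ((LocCoh.depth R R : ℕ∞) : WithBot ℕ∞) ≤ 2 :=
    (depth_le_supportDim (R := R) (M := R)).trans ((Module.supportDim_le_ringKrullDim R R).trans hdim)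
  have hdR' : LocCoh.depth R R ≤ 2 := by
    have h2 : ((2 : ℕ∞) : WithBot ℕ∞) = 2 := rfl
    rw [← h2] at hdR
    exact WithBot.coe_le_coe.mp hdR
  have he0 : e = 0 := by
    by_contra hne
    have he1 : 1 ≤ e := Nat.one_le_iff_ne_zero.mpr hne
    -- depth R ≥ 1, so depth M ≥ 1 and then depth R ≥ 2, so depth M ≥ 2: contradiction
    have h1 : (1 : ℕ∞) ≤ LocCoh.depth R R := by
      rw [hAB]
      exact le_add_right (by exact_mod_cast he1)
    have h2 : (1 : ℕ∞) ≤ LocCoh.depth R M :=
      one_le_idealDepth_of_isReflexive (IsLocalRing.maximalIdeal R) M h1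
    have h3 : (2 : ℕ∞) ≤ LocCoh.depth R R := by
      rw [hAB]
      have : (2 : ℕ∞) = 1 + 1 := by norm_num
      rw [this]
      exact add_le_add (by exact_mod_cast he1) h2
    have h4 : (2 : ℕ∞) ≤ LocCoh.depth R M :=
      two_le_idealDepth_of_isReflexive (IsLocalRing.maximalIdeal R) M h3
    have h5 : (3 : ℕ∞) ≤ LocCoh.depth R R := by
      rw [hAB]
      have : (3 : ℕ∞) = 1 + 2 := by norm_num
      rw [this]
      exact add_le_add (by exact_mod_cast he1) h4
    have := h5.trans hdR'
    norm_num at this
  subst he0
  have hproj : Projective (ModuleCat.of R M) :=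
    ((projectiveDimension_eq_zero_iff _).mp (by simpa using he)).1
  haveI : Module.Projective R M := (IsProjective.iff_projective (R := R) (P := M)).mpr hproj
  exact Module.free_of_flat_of_isLocalRing

end Groth.Agent.Lib.Helper28.ReflReg
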