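import Groth.Agent.Lib.Helper28Depth

/-!
# Regular sequences and short exact sequences (helper28)

* `isWeaklyRegular_of_exact_of_ends`, `isWeaklyRegular_of_exact_of_dropLast`, `isWeaklyRegular_prod`;
* the sequence `0 → A/(I ∩ J) → A/I × A/J → A/(I + J) → 0` and `isWeaklyRegular_quotient_inf`.
-/
set_option autoImplicit false
universe u v w u' v'

namespace Groth.Agent.Lib.Helper28
open RingTheory.Sequence CategoryTheory Abelian TensorProduct
open scoped Pointwise

section RegSeqExact

variable {R : Type u} [CommRing R]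

/-- Weak regularity on both ends of a short exact sequence gives weak regularity in the middle. -/
theorem isWeaklyRegular_of_exact_of_ends (rs : List R) :
    ∀ {N' N N'' : Type v} [AddCommGroup N'] [Module R N'] [AddCommGroup N] [Module R N]
      [AddCommGroup N''] [Module R N'']
      (i : N' →ₗ[R] N) (π : N →ₗ[R] N''),
      Function.Injective i → Function.Surjective π → Function.Exact i π →
      IsWeaklyRegular N' rs → IsWeaklyRegular N'' rs → IsWeaklyRegular N rs := by
  induction rs with
  | nil =>
    intro N' N N'' _ _ _ _ _ _ i π _ _ _ _ _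
    exact IsWeaklyRegular.nil R N
  | cons c cs ih =>
    intro N' N N'' _ _ _ _ _ _ i π hi hπ hiπ h' h''
    rw [isWeaklyRegular_cons_iff] at h' h'' ⊢
    obtain ⟨hc', hcs'⟩ := h'
    obtain ⟨hc'', hcs''⟩ := h''
    have hc : IsSMulRegular N c :=
      isSMulRegular_of_range_eq_ker hi (LinearMap.exact_iff.mp hiπ).symm hc' hc''
    refine ⟨hc, ?_⟩
    have hi' : Function.Injective (QuotSMulTop.map c i) := by
      have := QuotSMulTop.map_first_exact_on_four_term_exact_of_isSMulRegular_last
        (f₁ := (0 : N' →ₗ[R] N')) (f₂ := i) (f₃ := π)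
        ((LinearMap.exact_zero_iff_injective N' i).mpr hi) hiπ hc''
      rw [map_zero] at this
      exact (LinearMap.exact_zero_iff_injective _ _).mp this
    exact ih (QuotSMulTop.map c i) (QuotSMulTop.map c π) hi' (QuotSMulTop.map_surjective c hπ)
      (QuotSMulTop.map_exact c hiπ hπ) hcs' hcs''

/-- In a short exact sequence `0 → N' → N → N'' → 0`: if `rs` is weakly regular on `N` and `rs`
without its last term is weakly regular on `N''`, then `rs` is weakly regular on `N'`. -/
theorem isWeaklyRegular_of_exact_of_dropLast (rs : List R) :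
    ∀ {N' N N'' : Type v} [AddCommGroup N'] [Module R N'] [AddCommGroup N] [Module R N]
      [AddCommGroup N''] [Module R N'']
      (i : N' →ₗ[R] N) (π : N →ₗ[R] N''),
      Function.Injective i → Function.Surjective π → Function.Exact i π →
      IsWeaklyRegular N rs → IsWeaklyRegular N'' rs.dropLast → IsWeaklyRegular N' rs := by
  induction rs with
  | nil =>
    intro N' N N'' _ _ _ _ _ _ i π _ _ _ _ _
    exact IsWeaklyRegular.nil R N'
  | cons c cs ih =>
    intro N' N N'' _ _ _ _ _ _ i π hi hπ hiπ h h''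
    rw [isWeaklyRegular_cons_iff] at h ⊢
    obtain ⟨hc, hcs⟩ := h
    have hc' : IsSMulRegular N' c := hc.of_injective i hi
    refine ⟨hc', ?_⟩
    cases cs with
    | nil => exact IsWeaklyRegular.nil R _
    | cons c2 cs2 =>
      rw [List.dropLast_cons_cons, isWeaklyRegular_cons_iff] at h''
      obtain ⟨hc'', hcs''⟩ := h''
      have hi' : Function.Injective (QuotSMulTop.map c i) := by
        have := QuotSMulTop.map_first_exact_on_four_term_exact_of_isSMulRegular_last
          (f₁ := (0 : N' →ₗ[R] N')) (f₂ := i) (f₃ := π)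
          ((LinearMap.exact_zero_iff_injective N' i).mpr hi) hiπ hc''
        rw [map_zero] at this
        exact (LinearMap.exact_zero_iff_injective _ _).mp this
      exact ih (QuotSMulTop.map c i) (QuotSMulTop.map c π) hi'
        (QuotSMulTop.map_surjective c hπ) (QuotSMulTop.map_exact c hiπ hπ) hcs hcs''

/-- Weak regularity on a product. -/
theorem isWeaklyRegular_prod (rs : List R) {M M' : Type v} [AddCommGroup M] [Module R M]
    [AddCommGroup M'] [Module R M'] (h : IsWeaklyRegular M rs) (h' : IsWeaklyRegular M' rs) :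
    IsWeaklyRegular (M × M') rs :=
  isWeaklyRegular_of_exact_of_ends rs (LinearMap.inl R M M') (LinearMap.snd R M M')
    LinearMap.inl_injective LinearMap.snd_surjective
    (fun x => by
      constructor
      · intro hx
        exact ⟨x.1, Prod.ext rfl (by simpa using hx.symm)⟩
      · rintro ⟨y, rfl⟩
        rfl) h h'

end RegSeqExact

section InfSup

variable {A : Type u} [CommRing A] (I J : Ideal A)

/-- `A/(I ∩ J) → A/I × A/J`. -/
def quotInfToProd : (A ⧸ (I ⊓ J)) →ₗ[A] (A ⧸ I) × (A ⧸ J) :=
  Submodule.liftQ (I ⊓ J) (LinearMap.prod I.mkQ J.mkQ) (by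
    intro x hx
    rw [LinearMap.mem_ker, LinearMap.prod_apply, Prod.mk_eq_zero]
    exact ⟨(Submodule.Quotient.mk_eq_zero I).mpr hx.1, (Submodule.Quotient.mk_eq_zero J).mpr hx.2⟩)

/-- `A/I × A/J → A/(I + J)`, `(a, b) ↦ a - b`. -/
def prodToQuotSup : (A ⧸ I) × (A ⧸ J) →ₗ[A] (A ⧸ (I ⊔ J)) :=
  LinearMap.coprod (Submodule.mapQ I (I ⊔ J) LinearMap.id (by
      intro x hx; exact Submodule.mem_sup_left hx))
    (-(Submodule.mapQ J (I ⊔ J) LinearMap.id (by
      intro x hx; exact Submodule.mem_sup_right hx)))

theorem quotInfToProd_mk (x : A) :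
    quotInfToProd I J (Submodule.Quotient.mk x) =
      (Submodule.Quotient.mk x, Submodule.Quotient.mk x) := rfl

theorem prodToQuotSup_mk (x y : A) :
    prodToQuotSup I J (Submodule.Quotient.mk x, Submodule.Quotient.mk y) =
      Submodule.Quotient.mk (x - y) := by
  simp [prodToQuotSup, sub_eq_add_neg]

theorem quotInfToProd_injective : Function.Injective (quotInfToProd I J) := by
  rw [injective_iff_map_eq_zero]
  intro x hx
  obtain ⟨x, rfl⟩ := Submodule.Quotient.mk_surjective _ x
  rw [quotInfToProd_mk, Prod.mk_eq_zero] at hx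
  exact (Submodule.Quotient.mk_eq_zero _).mpr
    ⟨(Submodule.Quotient.mk_eq_zero I).mp hx.1, (Submodule.Quotient.mk_eq_zero J).mp hx.2⟩

theorem prodToQuotSup_surjective : Function.Surjective (prodToQuotSup I J) := by
  intro z
  obtain ⟨z, rfl⟩ := Submodule.Quotient.mk_surjective _ z
  exact ⟨(Submodule.Quotient.mk z, Submodule.Quotient.mk 0), by rw [prodToQuotSup_mk, sub_zero]⟩

theorem quotInfToProd_prodToQuotSup_exact :
    Function.Exact (quotInfToProd I J) (prodToQuotSup I J) := by
  rintro ⟨a, b⟩
  obtain ⟨a, rfl⟩ := Submodule.Quotient.mk_surjective _ a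
  obtain ⟨b, rfl⟩ := Submodule.Quotient.mk_surjective _ b
  rw [prodToQuotSup_mk, Submodule.Quotient.mk_eq_zero]
  constructor
  · intro h
    obtain ⟨u, hu, v, hv, huv⟩ := Submodule.mem_sup.mp h
    refine ⟨Submodule.Quotient.mk (a - u), ?_⟩
    rw [quotInfToProd_mk]
    refine Prod.ext ?_ ?_
    · exact (Submodule.Quotient.eq I).mpr (by simpa using I.neg_mem hu)
    · refine (Submodule.Quotient.eq J).mpr ?_
      have : a - u - b = v := by linear_combination -huv
      rw [this]; exact hv
  · rintro ⟨x, hx⟩
    obtain ⟨x, rfl⟩ := Submodule.Quotient.mk_surjective _ x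
    rw [quotInfToProd_mk, Prod.mk.injEq] at hx
    have h1 : x - a ∈ I := (Submodule.Quotient.eq I).mp hx.1
    have h2 : x - b ∈ J := (Submodule.Quotient.eq J).mp hx.2
    have : a - b = -(x - a) + (x - b) := by ring
    rw [this]
    exact Submodule.add_mem _ (Submodule.mem_sup_left (I.neg_mem h1)) (Submodule.mem_sup_right h2)

/-- A sequence weakly regular on `A/I`, `A/J` and, without its last term, on `A/(I+J)`, is weakly
regular on `A/(I ∩ J)`. -/
theorem isWeaklyRegular_quotient_inf (rs : List A) (hI : IsWeaklyRegular (A ⧸ I) rs)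
    (hJ : IsWeaklyRegular (A ⧸ J) rs) (hIJ : IsWeaklyRegular (A ⧸ (I ⊔ J)) rs.dropLast) :
    IsWeaklyRegular (A ⧸ (I ⊓ J)) rs :=
  isWeaklyRegular_of_exact_of_dropLast rs (quotInfToProd I J) (prodToQuotSup I J)
    (quotInfToProd_injective I J) (prodToQuotSup_surjective I J)
    (quotInfToProd_prodToQuotSup_exact I J) (isWeaklyRegular_prod rs hI hJ) hIJ

end InfSup

end Groth.Agent.Lib.Helper28
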