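import Groth.Agent.Lib.Helper28FourTerm
import Groth.Agent.Lib.Helper28HuskLoc2

/-!
# Flatness of the cokernel versus fibrewise depth of the kernel (helper28)
-/

set_option autoImplicit false
universe u v w

namespace Groth.Agent.Lib.Helper28.RelS2
open TensorProduct
open scoped Pointwise

section Local

variable {A B : Type u} [CommRing A] [CommRing B] [IsNoetherianRing A] [IsNoetherianRing B]
  [Algebra A B]
  {K E0 E1 G : Type u} [AddCommGroup K] [Module B K] [Module A K] [IsScalarTower A B K]
  [Module.Finite B K]
  [AddCommGroup E0] [Module B E0] [Module A E0] [IsScalarTower A B E0] [Module.Finite B E0]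
  [Module.Flat A E0]
  [AddCommGroup E1] [Module B E1] [Module A E1] [IsScalarTower A B E1] [Module.Finite B E1]
  [Module.Flat A E1]
  [AddCommGroup G] [Module B G] [Module A G] [IsScalarTower A B G] [Module.Finite B G]
  (i : K →ₗ[B] E0) (u : E0 →ₗ[B] E1) (v : E1 →ₗ[B] G)

/-- If `G` is `A`-flat at `q` then the fibre stalk of `K` at `q` is the kernel of the map of fibre
stalks of `E⁰ → E¹`, so its `J`-depth is `≥ 2` when those of `E⁰`, `E¹` are `≥ 2`, `≥ 1`. -/
theorem two_le_idealDepth_fibLocMod_of_flat (hi : Function.Injective i)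
    (hiu : Function.Exact i u) (huv : Function.Exact u v) (hv : Function.Surjective v)
    (q : Ideal B) [q.IsPrime] (J : Ideal B)
    (hGq : Module.Flat A (LocalizedModule q.primeCompl G))
    (h0 : 2 ≤ LocCoh.idealDepth (J.map (algebraMap B (EGA4.FibLocRing A B q)))
      (EGA4.FibLocMod A B q E0))
    (h1 : 1 ≤ LocCoh.idealDepth (J.map (algebraMap B (EGA4.FibLocRing A B q)))
      (EGA4.FibLocMod A B q E1)) :
    2 ≤ LocCoh.idealDepth (J.map (algebraMap B (EGA4.FibLocRing A B q)))
      (EGA4.FibLocMod A B q K) := by
  -- the image of `u`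
  have hexI : Function.Exact i u.rangeRestrict := by
    intro y
    rw [← hiu y]
    constructor
    · intro h
      have := congrArg Subtype.val h
      simpa using this
    · intro h
      exact Subtype.ext (by simpa using h)
  have hexIv : Function.Exact (LinearMap.range u).subtype v := by
    intro y
    rw [huv y]
    constructor
    · rintro ⟨x, rfl⟩
      exact ⟨⟨u x, ⟨x, rfl⟩⟩, rfl⟩
    · rintro ⟨⟨_, ⟨x, rfl⟩⟩, rfl⟩
      exact ⟨x, rfl⟩
  have hIq : Module.Flat A (LocalizedModule q.primeCompl (LinearMap.range u)) :=
    flat_localizedModule_of_exact q.primeCompl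
      (LinearMap.range u).subtype v (Submodule.injective_subtype _) hv hexIv
      (flat_localizedModule_of_flat _) hGq
  -- localized maps
  set 𝔞 : Ideal (Localization.AtPrime q) :=
    (q.comap (algebraMap A B)).map (algebraMap A (Localization.AtPrime q)) with h𝔞
  let iq := LocalizedModule.map q.primeCompl i
  let rq := LocalizedModule.map q.primeCompl u.rangeRestrict
  let jq := LocalizedModule.map q.primeCompl (LinearMap.range u).subtype
  let vq := LocalizedModule.map q.primeCompl v
  have hiq : Function.Injective iq := LocalizedModule.map_injective _ _ hi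
  have hrq : Function.Surjective rq :=
    LocalizedModule.map_surjective _ _ (LinearMap.surjective_rangeRestrict u)
  have hjq : Function.Injective jq :=
    LocalizedModule.map_injective _ _ (Submodule.injective_subtype _)
  have hvq : Function.Surjective vq := LocalizedModule.map_surjective _ _ hv
  have hex1 : Function.Exact iq rq := LocalizedModule.map_exact q.primeCompl i u.rangeRestrict hexI
  have hex2 : Function.Exact jq vq :=
    LocalizedModule.map_exact q.primeCompl (LinearMap.range u).subtype v hexIv
  -- Tor vanishing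
  have hT1 : ∀ x, iq x ∈ 𝔞 • (⊤ : Submodule (Localization.AtPrime q) _) →
      x ∈ 𝔞 • (⊤ : Submodule (Localization.AtPrime q) _) := by
    intro x hx
    rw [h𝔞, mem_map_smul_top_iff] at hx ⊢
    haveI := hIq
    exact mem_smul_top_of_exact_of_flat (iq.restrictScalars A) (rq.restrictScalars A) hiq hrq
      hex1 _ x hx
  have hT2 : ∀ x, jq x ∈ 𝔞 • (⊤ : Submodule (Localization.AtPrime q) _) →
      x ∈ 𝔞 • (⊤ : Submodule (Localization.AtPrime q) _) := by
    intro x hx
    rw [h𝔞, mem_map_smul_top_iff] at hx ⊢
    haveI := hGq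
    exact mem_smul_top_of_exact_of_flat (jq.restrictScalars A) (vq.restrictScalars A) hjq hvq
      hex2 _ x hx
  have hibar : Function.Injective (quotSMulTopMap 𝔞 iq) := quotSMulTopMap_injective 𝔞 iq hT1
  have hjbar : Function.Injective (quotSMulTopMap 𝔞 jq) := quotSMulTopMap_injective 𝔞 jq hT2
  have hex : Function.Exact (quotSMulTopMap 𝔞 iq) (quotSMulTopMap 𝔞 rq) :=
    quotSMulTopMap_exact 𝔞 iq rq hrq hex1
  let ubar := quotSMulTopMap 𝔞 jq ∘ₗ quotSMulTopMap 𝔞 rq
  have hker : LinearMap.ker ubar = LinearMap.range (quotSMulTopMap 𝔞 iq) := by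
    ext y
    rw [LinearMap.mem_ker, LinearMap.comp_apply]
    constructor
    · intro h
      have h0 : quotSMulTopMap 𝔞 rq y = 0 := hjbar (h.trans (map_zero _).symm)
      exact (hex y).mp h0
    · intro h
      rw [(hex y).mpr h, map_zero]
  let e : EGA4.FibLocMod A B q K ≃ₗ[Localization.AtPrime q] LinearMap.ker ubar :=
    LinearEquiv.ofInjective (quotSMulTopMap 𝔞 iq) hibar ≪≫ₗ LinearEquiv.ofEq _ _ hker.symm
  -- conversion between depth over `B_q` and over the fibre ring
  have hconv : ∀ (X : Type u) [AddCommGroup X] [Module B X] [Module.Finite B X],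
      LocCoh.idealDepth (J.map (algebraMap B (Localization.AtPrime q))) (EGA4.FibLocMod A B q X) =
      LocCoh.idealDepth (J.map (algebraMap B (EGA4.FibLocRing A B q)))
        (EGA4.FibLocMod A B q X) := by
    intro X _ _ _
    haveI hfin : Module.Finite (EGA4.FibLocRing A B q) (EGA4.FibLocMod A B q X) :=
      Module.Finite.of_restrictScalars_finite (Localization.AtPrime q) _ _
    rw [idealDepth_restrictScalars_eq_idealDepth_map (B := EGA4.FibLocRing A B q)
      (J.map (algebraMap B (Localization.AtPrime q))) (EGA4.FibLocMod A B q X),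
      Ideal.map_map, ← IsScalarTower.algebraMap_eq]
  rw [← hconv K, idealDepth_congr e]
  rw [← hconv E0] at h0
  rw [← hconv E1] at h1
  exact (idealDepth_ker _ ubar).2 h0 h1

/-- **Flatness of the cokernel versus fibrewise `J`-depth of the kernel.** -/
theorem forall_flatAt_and_fibre_depth_iff_flat (hi : Function.Injective i)
    (hiu : Function.Exact i u) (huv : Function.Exact u v) (hv : Function.Surjective v)
    (J : Ideal B)
    (hGU : ∀ q : PrimeSpectrum B, ¬ J ≤ q.asIdeal →
      Module.Flat A (LocalizedModule q.asIdeal.primeCompl G))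
    (h0 : ∀ q : PrimeSpectrum B,
      2 ≤ LocCoh.idealDepth (J.map (algebraMap B (EGA4.FibLocRing A B q.asIdeal)))
        (EGA4.FibLocMod A B q.asIdeal E0))
    (h1 : ∀ q : PrimeSpectrum B,
      1 ≤ LocCoh.idealDepth (J.map (algebraMap B (EGA4.FibLocRing A B q.asIdeal)))
        (EGA4.FibLocMod A B q.asIdeal E1)) :
    (∀ q : PrimeSpectrum B, FlatCA.FlatAt A q.asIdeal K ∧
      2 ≤ LocCoh.idealDepth (J.map (algebraMap B (EGA4.FibLocRing A B q.asIdeal)))
        (EGA4.FibLocMod A B q.asIdeal K)) ↔ Module.Flat A G := by
  have hexI : Function.Exact i u.rangeRestrict := by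
    intro y
    rw [← hiu y]
    constructor
    · intro h
      have := congrArg Subtype.val h
      simpa using this
    · intro h
      exact Subtype.ext (by simpa using h)
  have hexIv : Function.Exact (LinearMap.range u).subtype v := by
    intro y
    rw [huv y]
    constructor
    · rintro ⟨x, rfl⟩
      exact ⟨⟨u x, ⟨x, rfl⟩⟩, rfl⟩
    · rintro ⟨⟨_, ⟨x, rfl⟩⟩, rfl⟩
      exact ⟨x, rfl⟩
  constructor
  · intro H
    have key : ∀ q : PrimeSpectrum B, Module.Flat A (LocalizedModule q.asIdeal.primeCompl G) := by
      intro q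
      refine WellFounded.induction (C := fun q : PrimeSpectrum B =>
          Module.Flat A (LocalizedModule q.asIdeal.primeCompl G))
        (InvImage.wf (fun q : PrimeSpectrum B => q.asIdeal.height) wellFounded_lt) q ?_
      intro q ih
      by_cases hJq : J ≤ q.asIdeal
      · have hmono : J.map (algebraMap B (EGA4.FibLocRing A B q.asIdeal)) ≤
            q.asIdeal.map (algebraMap B (EGA4.FibLocRing A B q.asIdeal)) := Ideal.map_mono hJq
        refine (HuskLoc.two_le_depth_fibLocMod_iff_flat q.asIdeal i u v
          hi hiu huv hv ?_ ((h0 q).trans (idealDepth_mono_ideal _ hmono))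
          ((h1 q).trans (idealDepth_mono_ideal _ hmono))).mp
          ((H q).2.trans (idealDepth_mono_ideal _ hmono))
        intro q' hq' hlt
        exact ih ⟨q', hq'⟩ (Ideal.height_strict_mono_of_isPrime hlt)
      · exact hGU q hJq
    exact Module.flat_of_isLocalized_maximal B G (fun P _ => LocalizedModule P.primeCompl G)
      (fun P _ => LocalizedModule.mkLinearMap P.primeCompl G)
      (fun P hP => key ⟨P, hP.isPrime⟩)
  · intro hG q
    haveI := hG
    haveI hI : Module.Flat A (LinearMap.range u) :=
      flat_of_exact_of_flat_of_flat ((LinearMap.range u).subtype.restrictScalars A)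
        (v.restrictScalars A) (Submodule.injective_subtype _) hv hexIv
    haveI hK : Module.Flat A K :=
      flat_of_exact_of_flat_of_flat (i.restrictScalars A) (u.rangeRestrict.restrictScalars A) hi
        (LinearMap.surjective_rangeRestrict u) hexI
    exact ⟨flatAt_of_flat q.asIdeal, two_le_idealDepth_fibLocMod_of_flat i u v hi hiu huv hv
      q.asIdeal J (flat_localizedModule_of_flat _) (h0 q) (h1 q)⟩

end Local

end Groth.Agent.Lib.Helper28.RelS2
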