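import Mathlib
import Groth.Agent.Lib.Helper28SFC1
import Groth.Agent.Lib.Helper28RatliffF
import Groth.Agent.Lib.Helper28UnivCat
import Groth.Agent.S9126

/-!
# Helper28SFC2: strictly formally catenary local rings

* `isStrictlyEquidim_iff`: strictly equidimensional = equidimensional + `(S_1)`;
* `isFormallyStrictlyCatenary_iff`: strictly formally catenary = formally catenary + `(S_1)`
  formal fibres;
* `isFormallyStrictlyCatenary_of_essFiniteType` (EGA IV 7.2.x).
-/

set_option autoImplicit false
universe u

namespace Groth.Agent.Lib.Helper28.SFC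
open Groth.Agent.Lib.Helper28 IsLocalRing Groth.Agent.Lib.Helper28.CMFib TensorProduct
  Groth.Agent.Lib.Helper28.Ratliff

section StrictEquidim

/-- For a Noetherian local ring: strictly equidimensional iff equidimensional and `(S_1)`. -/
theorem isStrictlyEquidim_iff (R : Type u) [CommRing R] [IsNoetherianRing R] [IsLocalRing R] :
    EGA4.IsStrictlyEquidim R ↔ EGA4.IsEquidim R ∧ LocCoh.HasSk 1 R R := by
  have hann : Module.annihilator R R = ⊥ := Module.annihilator_eq_bot.mpr inferInstance
  constructor
  · intro h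
    refine ⟨fun q hq => h q ?_, ?_⟩
    · have h1 := Module.associatedPrimes.minimalPrimes_annihilator_subset_associatedPrimes R R
      rw [hann] at h1
      exact h1 hq
    · rw [← hasSk_one_iff_forall_mem_minimalPrimes]
      intro p hp
      have hpp : p.IsPrime := hp.isPrime
      rw [hann]
      obtain ⟨q, hq, hqp⟩ := Ideal.exists_minimalPrimes_le (I := (⊥ : Ideal R)) (J := p) bot_le
      have hqq : q.IsPrime := hq.1.1
      by_contra hne
      have hlt : q < p := lt_of_le_of_ne hqp (fun heq => hne (heq ▸ hq))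
      have h1 := ringKrullDim_quotient_succ_le_of_lt hlt
      rw [h p hp] at h1
      have h2 : ringKrullDim (R ⧸ q) ≤ ringKrullDim R :=
        ringKrullDim_le_of_surjective _ Ideal.Quotient.mk_surjective
      have h3 := h1.trans h2
      obtain ⟨d, hd⟩ := exists_nat_ringKrullDim R
      rw [hd] at h3
      have h4 : ((d + 1 : ℕ) : WithBot ℕ∞) ≤ (d : WithBot ℕ∞) := by exact_mod_cast h3
      have h5 : d + 1 ≤ d := by exact_mod_cast h4
      omega
  · rintro ⟨heq, hS1⟩ p hp
    have hmin := (hasSk_one_iff_forall_mem_minimalPrimes).mpr hS1 p hp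
    rw [hann] at hmin
    exact heq p hmin

end StrictEquidim

section Transfer

variable (n : ℕ)

/-- the ring property used to express `(S_n)` in an isomorphism-invariant way -/
def SnProp (T : Type u) [CommRing T] : Prop :=
  ∀ (Q : Ideal T) [Q.IsPrime], SnLocalRing n (Localization.AtPrime Q)

theorem snProp_of_ringEquiv (T T' : Type u) [CommRing T] [CommRing T'] (e : T ≃+* T')
    (h : SnProp n T) : SnProp n T' := by
  intro Q hQ
  have hp : (Q.comap (e : T →+* T')).IsPrime := Ideal.comap_isPrime _ _
  exact snLocalRing_of_ringEquiv n _ _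
    (Localization.localRingEquiv (Q.comap (e : T →+* T')) Q e rfl) (h _)

theorem not_snProp_of_ringEquiv (T T' : Type u) [CommRing T] [CommRing T'] (e : T ≃+* T')
    (h : ¬ SnProp n T) : ¬ SnProp n T' :=
  fun h' => h (snProp_of_ringEquiv n T' T e.symm h')

variable (A : Type u) [CommRing A] [IsNoetherianRing A] [IsLocalRing A]

/-- The formal fibre of `A/I` at `P'` has `(S_n)` iff the formal fibre of `A` at `P' ∩ A` has. -/
theorem snProp_formalFibre_quotient_iff (I : Ideal A) [Nontrivial (A ⧸ I)] (P' : Ideal (A ⧸ I))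
    [P'.IsPrime] :
    SnProp n (P'.Fiber (EGA4.Cpl (A ⧸ I))) ↔ SnProp n ((P'.under A).Fiber (EGA4.Cpl A)) := by
  obtain ⟨e⟩ := nonempty_algEquiv_tensor_adicCompletion_quotient A I
  have hsurj : (algebraMap A (A ⧸ I)).SurjectiveOnStalks :=
    RingHom.surjectiveOnStalks_of_surjective Ideal.Quotient.mk_surjective
  constructor
  · intro h
    by_contra hn
    exact (fiber_tensorProduct_of_property_of_surjectiveOnStalks hsurj
      (fun T _ => ¬ SnProp n T) (not_snProp_of_ringEquiv n) P' hn)
      (snProp_of_ringEquiv n _ _ (fiberCongr e P').symm h)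
  · intro h
    exact snProp_of_ringEquiv n _ _ (fiberCongr e P')
      (fiber_tensorProduct_of_property_of_surjectiveOnStalks hsurj
        (fun T _ => SnProp n T) (snProp_of_ringEquiv n) P' h)

end Transfer

section Generic

/-- If the completion of a Noetherian local domain `D` satisfies `(S_n)`, so does its generic
formal fibre. -/
theorem snProp_generic_formalFibre (n : ℕ) (D : Type u) [CommRing D] [IsDomain D]
    [IsNoetherianRing D] [IsLocalRing D] (h : LocCoh.HasSk n (EGA4.Cpl D) (EGA4.Cpl D)) :
    SnProp n ((⊥ : Ideal D).Fiber (EGA4.Cpl D)) := by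
  have hN : IsNoetherianRing (EGA4.Cpl D) :=
    Groth.Agent.Lib.Helper19.isNoetherianRing_adicCompletion _
  rw [hasSk_self_iff_enat] at h
  intro Q hQ
  have hr : (Q.comap (Algebra.TensorProduct.includeRight :
      EGA4.Cpl D →ₐ[D] (⊥ : Ideal D).Fiber (EGA4.Cpl D))).IsPrime := Ideal.comap_isPrime _ _
  obtain ⟨e⟩ := nonempty_localization_fiber_equiv (⊥ : Ideal D) Q _ rfl
  have hr0 := comap_includeRight_comap (⊥ : Ideal D) Q
  set r := Q.comap (Algebra.TensorProduct.includeRight :
      EGA4.Cpl D →ₐ[D] (⊥ : Ideal D).Fiber (EGA4.Cpl D)) with hrdef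
  have hI : (r.comap (algebraMap D (EGA4.Cpl D))).map
      (algebraMap D (Localization.AtPrime r)) = ⊥ := by
    rw [hr0, Ideal.map_bot]
  have hNr : IsNoetherianRing (Localization.AtPrime r) :=
    IsLocalization.isNoetherianRing r.primeCompl _ inferInstance
  have h1 : SnLocalRing n (Localization.AtPrime r) := by
    rw [snLocalRing_iff]
    have h2 : (IsLocalRing.maximalIdeal (Localization.AtPrime r)).height = r.height := by
      have h3 := IsLocalization.AtPrime.ringKrullDim_eq_height r (Localization.AtPrime r)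
      rw [← IsLocalRing.maximalIdeal_height_eq_ringKrullDim] at h3
      exact WithBot.coe_injective h3
    rw [h2]
    exact h r
  refine snLocalRing_of_ringEquiv n _ _ e.symm ?_
  exact snLocalRing_of_ringEquiv n _ _
    ((Ideal.quotEquivOfEq hI).trans (RingEquiv.quotientBot _)).symm h1

end Generic

section Main

variable (A : Type u) [CommRing A] [IsNoetherianRing A] [IsLocalRing A]

theorem snProp_iff_hasSk (n : ℕ) (p : Ideal A) [p.IsPrime] :
    SnProp n (p.Fiber (EGA4.Cpl A)) ↔
      LocCoh.HasSk n (p.Fiber (EGA4.Cpl A)) (p.Fiber (EGA4.Cpl A)) := by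
  have hN : IsNoetherianRing (EGA4.Cpl A) :=
    Groth.Agent.Lib.Helper19.isNoetherianRing_adicCompletion _
  exact (hasSk_fiber_iff n p).symm

/-- A Noetherian local ring is strictly formally catenary iff it is formally catenary and its
formal fibres satisfy `(S_1)`. -/
theorem isFormallyStrictlyCatenary_iff :
    EGA4.IsFormallyStrictlyCatenary A ↔
      EGA4.IsFormallyCatenary A ∧ EGA4.HasSnFormalFibres 1 A := by
  constructor
  · intro h
    have hall : ∀ (p : Ideal A) [p.IsPrime],
        EGA4.IsEquidim (EGA4.Cpl (A ⧸ p)) ∧ LocCoh.HasSk 1 (EGA4.Cpl (A ⧸ p)) (EGA4.Cpl (A ⧸ p)) := by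
      intro p _
      have hN : IsNoetherianRing (EGA4.Cpl (A ⧸ p)) :=
        Groth.Agent.Lib.Helper19.isNoetherianRing_adicCompletion _
      exact (isStrictlyEquidim_iff _).mp (h p)
    refine ⟨fun p _ => (hall p).1, fun p _ => ?_⟩
    rw [← snProp_iff_hasSk]
    have h1 := snProp_generic_formalFibre 1 (A ⧸ p) (hall p).2
    have h2 := (snProp_formalFibre_quotient_iff 1 A p ⊥).mp h1
    have hbot : (⊥ : Ideal (A ⧸ p)).under A = p := by
      rw [Ideal.under_def]
      change Ideal.comap (Ideal.Quotient.mk p) ⊥ = p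
      rw [← RingHom.ker_eq_comap_bot, Ideal.mk_ker]
    have key : ∀ (P Q : Ideal A) [P.IsPrime] [Q.IsPrime], P = Q →
        SnProp 1 (P.Fiber (EGA4.Cpl A)) → SnProp 1 (Q.Fiber (EGA4.Cpl A)) := by
      intro P Q _ _ hPQ hP
      subst hPQ
      exact hP
    exact key _ _ hbot h2
  · rintro ⟨hfc, hS1⟩ p _
    have hN : IsNoetherianRing (EGA4.Cpl (A ⧸ p)) :=
      Groth.Agent.Lib.Helper19.isNoetherianRing_adicCompletion _
    rw [isStrictlyEquidim_iff]
    refine ⟨hfc p, ?_⟩
    exact hasSk_of_flat_of_forall_hasSk_fiber 1 (hasSk_one_of_isDomain (A ⧸ p))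
      (hasSnFormalFibres_quotient 1 A hS1 p)

end Main

/-- Strict formal catenarity passes to local rings essentially of finite type. -/
theorem isFormallyStrictlyCatenary_of_essFiniteType (A : Type u) [CommRing A] [IsNoetherianRing A]
    [IsLocalRing A] (hA : EGA4.IsFormallyStrictlyCatenary A) (B : Type u) [CommRing B]
    [IsNoetherianRing B] [IsLocalRing B] [Algebra A B] [Algebra.EssFiniteType A B] :
    EGA4.IsFormallyStrictlyCatenary B := by
  obtain ⟨hfc, hS1⟩ := (isFormallyStrictlyCatenary_iff A).mp hA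
  have hUC := isUniversallyCatenary_of_isFormallyCatenary A hfc
  have hUCB := Groth.Agent.S9126.result A B hUC
  have hfcB := isFormallyCatenary_of_isUniversallyCatenary B hUCB
  have hS1B := hasSnFormalFibres_of_essFiniteType 1 A hS1 B
  exact (isFormallyStrictlyCatenary_iff B).mpr ⟨hfcB, hS1B⟩

end Groth.Agent.Lib.Helper28.SFC
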