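import Groth.Agent.Lib.Helper28DepthDom
import Groth.Agent.Lib.Helper28Normal
import Groth.Agent.Lib.Helper4DimFormulaE
import Groth.Agent.Lib.Helper4DimFormulaP

/-!
# Sections of the structure sheaf outside a closed set of codimension ≥ 2 (helper28), part A

The set of sections as a subalgebra of the fraction field; the universally catenary +
universally Japanese case via the normalization and the dimension formula.
-/

set_option autoImplicit false
universe u v

namespace Groth.Agent.Lib.Helper28.SecFinite
open Groth.Agent.Lib.Helper28

section Defs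

variable {B : Type u} [CommRing B] (K : Type v) [Field K] [Algebra B K]

/-- the sections over the complement of `V(J)` inside the fraction field. -/
def secSet (J : Ideal B) : Set K :=
  {x | ∀ (p : Ideal B) [p.IsPrime], ¬ J ≤ p →
    ∃ s : B, s ∉ p ∧ ∃ a : B, algebraMap B K a = algebraMap B K s * x}

/-- the sections form a subalgebra. -/
def secSubalgebra (J : Ideal B) : Subalgebra B K where
  carrier := secSet K J
  mul_mem' := by
    intro x y hx hy p hp hJ
    obtain ⟨s, hs, a, ha⟩ := hx p hJ
    obtain ⟨t, ht, b, hb⟩ := hy p hJ
    refine ⟨s * t, hp.mul_notMem hs ht, a * b, ?_⟩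
    rw [map_mul, map_mul, ha, hb]; ring
  add_mem' := by
    intro x y hx hy p hp hJ
    obtain ⟨s, hs, a, ha⟩ := hx p hJ
    obtain ⟨t, ht, b, hb⟩ := hy p hJ
    refine ⟨s * t, hp.mul_notMem hs ht, a * t + b * s, ?_⟩
    rw [map_add, map_mul, map_mul, map_mul, ha, hb]; ring
  algebraMap_mem' := by
    intro r p hp hJ
    exact ⟨1, fun h => hp.ne_top ((Ideal.eq_top_iff_one _).mpr h), r, by simp⟩

theorem coe_secSubalgebra (J : Ideal B) : (secSubalgebra K J : Set K) = secSet K J := rfl

end Defs

section DepthOne

variable {A : Type u} [CommRing A] [IsDomain A] [IsNoetherianRing A]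
  {K : Type v} [Field K] [Algebra A K] [IsFractionRing A K]

/-- generic fraction field version of `mem_range_of_forall_depth_one`. -/
theorem mem_range_of_forall_depth_one' (x : K)
    (hx : ∀ (p : Ideal A) [p.IsPrime],
      LocCoh.depth (Localization.AtPrime p) (Localization.AtPrime p) = 1 →
        ∃ s : A, s ∉ p ∧ ∃ a : A, algebraMap A K a = algebraMap A K s * x) :
    x ∈ Set.range (algebraMap A K) := by
  let e : FractionRing A ≃ₐ[A] K := FractionRing.algEquiv A K
  have h := mem_range_of_forall_depth_one (A := A) (e.symm x) ?_
  · obtain ⟨a, ha⟩ := h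
    refine ⟨a, ?_⟩
    have := congrArg e ha
    rwa [AlgEquiv.commutes, AlgEquiv.apply_symm_apply] at this
  · intro p hp hd
    obtain ⟨s, hs, a, ha⟩ := hx p hd
    let sp : p.primeCompl := ⟨s, hs⟩
    refine ⟨IsLocalization.mk' (Localization.AtPrime p) a sp, ?_⟩
    have hs0 : algebraMap A (FractionRing A) s ≠ 0 := by
      intro h0
      have : s = 0 := IsFractionRing.injective A (FractionRing A) (by rw [h0, map_zero])
      exact hs (this ▸ p.zero_mem)
    have h1 : algebraMap A (FractionRing A) a = algebraMap A (FractionRing A) s * e.symm x := by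
      apply e.injective
      rw [map_mul, AlgEquiv.commutes, AlgEquiv.commutes, AlgEquiv.apply_symm_apply, ha]
    have h2 : algebraMap (Localization.AtPrime p) (FractionRing A)
        (IsLocalization.mk' (Localization.AtPrime p) a sp) *
        algebraMap A (FractionRing A) s = algebraMap A (FractionRing A) a := by
      rw [IsScalarTower.algebraMap_apply A (Localization.AtPrime p) (FractionRing A),
        IsScalarTower.algebraMap_apply A (Localization.AtPrime p) (FractionRing A), ← map_mul]
      congr 1
      exact IsLocalization.mk'_spec (Localization.AtPrime p) a sp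
    apply mul_right_cancel₀ hs0
    rw [h2, h1, mul_comm]

end DepthOne

end Groth.Agent.Lib.Helper28.SecFinite
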