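import Groth.Agent.Lib.Helper28SecFiniteA
import Groth.Agent.Lib.Helper28DepthSk
import Groth.Agent.Lib.Helper28Reflexive2
import Groth.Agent.Lib.Helper5RLR3
import Groth.Agent.Lib.Helper4DimFormulaA

/-!
# Sections outside codimension ≥ 2 (helper28), part B: abstract criterion and the CM quotient
-/

set_option autoImplicit false
universe u v

namespace Groth.Agent.Lib.Helper28.SecFinite
open Groth.Agent.Lib.Helper28 RingTheory.Sequence
open scoped Pointwise

section General

variable {R : Type u} [CommRing R] [IsNoetherianRing R] {B : Type u} [CommRing B] [IsDomain B]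
  [Algebra R B] {K : Type u} [Field K] [Algebra B K] [IsFractionRing B K] [Algebra R K]
  [IsScalarTower R B K]

/-- If the sections act into a finite torsion-free module, they form a finite module. -/
theorem finite_of_module (J : Ideal B)
    (W : Type v) [AddCommGroup W] [Module R W] [Module.Finite R W]
    (htf : ∀ r : R, algebraMap R B r ≠ 0 → ∀ w : W, r • w = 0 → w = 0)
    (hann : ∀ r : R, algebraMap R B r = 0 → ∀ w : W, r • w = 0)
    (w₀ : W) (hw₀ : w₀ ≠ 0)
    (h : ∀ x ∈ secSet K J, ∃ w' : W, ∃ a s : R, algebraMap R B s ≠ 0 ∧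
      algebraMap R K a = algebraMap R K s * x ∧ s • w' = a • w₀) :
    Module.Finite B (secSubalgebra K J) := by
  have hιinj : Function.Injective (algebraMap B K) := IsFractionRing.injective B K
  have hRK : ∀ r : R, algebraMap R K r = algebraMap B K (algebraMap R B r) := fun r =>
    IsScalarTower.algebraMap_apply R B K r
  let Rel : K → W → Prop := fun x w' => ∃ a s : R, algebraMap R B s ≠ 0 ∧
      algebraMap R K a = algebraMap R K s * x ∧ s • w' = a • w₀
  have hs0 : ∀ s : R, algebraMap R B s ≠ 0 → algebraMap R K s ≠ 0 := by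
    intro s hs h0
    apply hs
    apply hιinj
    rw [← hRK, h0, map_zero]
  have uniq : ∀ x w' w'', Rel x w' → Rel x w'' → w' = w'' := by
    rintro x w' w'' ⟨a, s, hs, hx, hw⟩ ⟨a', s', hs', hx', hw'⟩
    have h1 : algebraMap R B (a * s' - a' * s) = 0 := by
      apply hιinj
      rw [← hRK, map_sub, map_mul, map_mul, hx, hx', map_zero]
      ring
    have h2 := hann _ h1 w₀
    have e1 : (s * s') • w' = (s' * a) • w₀ := by rw [mul_comm s s', mul_smul, hw, mul_smul]
    have e2 : (s * s') • w'' = (s * a') • w₀ := by rw [mul_smul, hw', mul_smul]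
    have h3 : (s * s') • (w' - w'') = 0 := by
      rw [smul_sub, e1, e2, ← sub_smul]
      have : s' * a - s * a' = a * s' - a' * s := by ring
      rw [this, h2]
    have h4 : algebraMap R B (s * s') ≠ 0 := by
      rw [map_mul]; exact mul_ne_zero hs hs'
    exact sub_eq_zero.mp (htf _ h4 _ h3)
  have hadd : ∀ x y w' w'', Rel x w' → Rel y w'' → Rel (x + y) (w' + w'') := by
    rintro x y w' w'' ⟨a, s, hs, hx, hw⟩ ⟨a', s', hs', hx', hw'⟩
    refine ⟨a * s' + a' * s, s * s', ?_, ?_, ?_⟩
    · rw [map_mul]; exact mul_ne_zero hs hs'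
    · rw [map_add, map_mul, map_mul, map_mul, hx, hx']; ring
    · have e1 : (s * s') • w' = (s' * a) • w₀ := by rw [mul_comm s s', mul_smul, hw, mul_smul]
      have e2 : (s * s') • w'' = (s * a') • w₀ := by rw [mul_smul, hw', mul_smul]
      rw [smul_add, e1, e2, ← add_smul]
      congr 1
      ring
  have hsmul : ∀ (r : R) x w', Rel x w' → Rel (r • x) (r • w') := by
    rintro r x w' ⟨a, s, hs, hx, hw⟩
    refine ⟨r * a, s, hs, ?_, ?_⟩
    · rw [map_mul, hx, Algebra.smul_def]; ring
    · rw [smul_comm, hw, mul_smul]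
  have hzero : ∀ x, Rel x 0 → x = 0 := by
    rintro x ⟨a, s, hs, hx, hw⟩
    rw [smul_zero] at hw
    have ha : algebraMap R B a = 0 := by
      by_contra ha
      exact hw₀ (htf a ha w₀ hw.symm)
    have : algebraMap R K s * x = 0 := by rw [← hx, hRK, ha, map_zero]
    rcases mul_eq_zero.mp this with h0 | h0
    · exact absurd h0 (hs0 s hs)
    · exact h0
  let S' : Submodule R K := (Subalgebra.toSubmodule (secSubalgebra K J)).restrictScalars R
  have hex : ∀ x : S', ∃ w', Rel x.1 w' := fun x => h x.1 x.2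
  choose f hf using hex
  let F : S' →ₗ[R] W :=
    { toFun := f
      map_add' := fun x y => uniq _ _ _ (hf (x + y)) (hadd _ _ _ _ (hf x) (hf y))
      map_smul' := fun r x => uniq _ _ _ (hf (r • x)) (hsmul r _ _ (hf x)) }
  have hF : Function.Injective F := by
    rw [← LinearMap.ker_eq_bot, LinearMap.ker_eq_bot']
    intro x hx
    have h1 := hf x
    have h2 : f x = 0 := hx
    rw [h2] at h1
    exact Subtype.ext (hzero _ h1)
  have hfin : Module.Finite R S' := Module.Finite.of_injective F hF
  have hfg : S'.FG := Module.Finite.iff_fg.mp hfin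
  have hfg' : (Subalgebra.toSubmodule (secSubalgebra K J)).FG :=
    Submodule.FG.of_restrictScalars R hfg
  exact Module.Finite.iff_fg.mpr hfg'

end General

section TwoRegular

variable {R : Type u} [CommRing R] {W : Type v} [AddCommGroup W] [Module R W]

/-- the closure property given a regular sequence of length two. -/
theorem exists_eq_smul_of_isWeaklyRegular {c₁ c₂ : R} (hreg : IsWeaklyRegular W [c₁, c₂])
    (s : R) (hs : ∀ w : W, s • w = 0 → w = 0) (v : W)
    (h1 : ∃ w, c₁ • v = s • w) (h2 : ∃ w, c₂ • v = s • w) : ∃ w', v = s • w' := by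
  rw [isWeaklyRegular_cons_iff, isWeaklyRegular_singleton_iff] at hreg
  obtain ⟨hr1, hr2⟩ := hreg
  obtain ⟨w₁, hw₁⟩ := h1
  obtain ⟨w₂, hw₂⟩ := h2
  have h3 : c₂ • w₁ = c₁ • w₂ := by
    have : s • (c₂ • w₁ - c₁ • w₂) = 0 := by
      rw [smul_sub, smul_comm s c₂, ← hw₁, smul_comm s c₁, ← hw₂, smul_comm, sub_self]
    exact sub_eq_zero.mp (hs _ this)
  have h4 : (Submodule.Quotient.mk w₁ : QuotSMulTop c₁ W) = 0 := by
    apply hr2
    change c₂ • (Submodule.Quotient.mk w₁ : QuotSMulTop c₁ W) = c₂ • 0
    rw [smul_zero, ← Submodule.Quotient.mk_smul, h3, Submodule.Quotient.mk_eq_zero]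
    exact Submodule.smul_mem_pointwise_smul _ _ _ Submodule.mem_top
  rw [Submodule.Quotient.mk_eq_zero, Submodule.mem_smul_pointwise_iff_exists] at h4
  obtain ⟨w', -, hw'⟩ := h4
  refine ⟨w', ?_⟩
  apply hr1
  change c₁ • v = c₁ • s • w'
  rw [hw₁, ← hw', smul_comm]

end TwoRegular

end Groth.Agent.Lib.Helper28.SecFinite
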