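import Mathlib
import Groth.Agent.Lib.Helper28FinDescent
import Groth.Agent.Lib.Helper28Nagata
import Groth.Agent.Lib.Helper7LeastIdeal

/-!
# Helper28: flat / finitely presented algebras over a semi-valuation ring `O = A ×_K R`

`A` a local ring, `O ⊆ A` a subring containing the maximal ideal of `A` and such that every element
of `A` lies in `O` or is the inverse of an element of `O` (e.g. the preimage of a valuation ring of
the residue field).  For a finite type `O`-algebra `C` with `C → A ⊗ C` injective and `A ⊗ C` flat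
and finitely presented over `A`, `C` is flat and finitely presented over `O`.
-/

set_option autoImplicit false
open TensorProduct

namespace Groth.Agent.Lib.Helper28.SemiVal

universe u

section BaseChangePoly

/-! ### base change of a presentation `π : R[x] → C` along `R → S` -/

variable {R : Type*} [CommRing R] (S : Type*) [CommRing S] [Algebra R S] {C : Type*} [CommRing C]
  [Algebra R C] {n : ℕ} (π : MvPolynomial (Fin n) R →ₐ[R] C)

/-- the base change `S[x] → S ⊗ C`. -/
noncomputable def bc : MvPolynomial (Fin n) S →ₐ[S] S ⊗[R] C :=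
  MvPolynomial.aeval (fun i => (1 : S) ⊗ₜ[R] π (MvPolynomial.X i))

theorem bc_map (p : MvPolynomial (Fin n) R) :
    bc S π (MvPolynomial.map (algebraMap R S) p) = (1 : S) ⊗ₜ[R] π p := by
  induction p using MvPolynomial.induction_on with
  | C r =>
    rw [MvPolynomial.map_C, bc, MvPolynomial.aeval_C, ← MvPolynomial.algebraMap_eq,
      AlgHom.commutes, Algebra.TensorProduct.algebraMap_apply,
      Algebra.algebraMap_self, RingHom.id_apply]
    rw [Algebra.algebraMap_eq_smul_one r, Algebra.algebraMap_eq_smul_one (A := C) r,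
      TensorProduct.smul_tmul]
  | add p q hp hq => rw [map_add, map_add, map_add, TensorProduct.tmul_add, hp, hq]
  | mul_X p i hp =>
    rw [map_mul, map_mul, map_mul, hp, MvPolynomial.map_X, bc, MvPolynomial.aeval_X,
      Algebra.TensorProduct.tmul_mul_tmul, one_mul]

theorem bc_surjective (hπ : Function.Surjective π) : Function.Surjective (bc S π) := by
  intro z
  induction z using TensorProduct.induction_on with
  | zero => exact ⟨0, map_zero _⟩
  | tmul s c =>
    obtain ⟨p, rfl⟩ := hπ c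
    refine ⟨s • MvPolynomial.map (algebraMap R S) p, ?_⟩
    rw [map_smul, bc_map, TensorProduct.smul_tmul', smul_eq_mul, mul_one]
  | add x y hx hy =>
    obtain ⟨p, rfl⟩ := hx
    obtain ⟨q, rfl⟩ := hy
    exact ⟨p + q, map_add _ _ _⟩

end BaseChangePoly


section

variable {A : Type u} [CommRing A] [IsLocalRing A] (O : Subring A)
  (h1 : ∀ a ∈ IsLocalRing.maximalIdeal A, a ∈ O)
  (h2 : ∀ a : A, a ∈ O ∨ ∃ b ∈ O, a * b = 1)

/-- the maximal ideal of `A`, as an ideal of `O`. -/
abbrev mO : Ideal O := (IsLocalRing.maximalIdeal A).comap (algebraMap O A)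

instance : (mO O).IsPrime := Ideal.comap_isPrime _ _

include h2 in
theorem valuationRing_quotient : ValuationRing (O ⧸ mO O) := by
  refine { cond' := fun a b => ?_ }
  obtain ⟨x, rfl⟩ := Ideal.Quotient.mk_surjective a
  obtain ⟨y, rfl⟩ := Ideal.Quotient.mk_surjective b
  by_cases hy : (y : A) ∈ IsLocalRing.maximalIdeal A
  · refine ⟨0, Or.inl ?_⟩
    rw [mul_zero, eq_comm, Ideal.Quotient.eq_zero_iff_mem]
    exact hy
  · have hyu : IsUnit (y : A) := by
      rw [IsLocalRing.mem_maximalIdeal, mem_nonunits_iff, not_not] at hy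
      exact hy
    obtain ⟨yi, hyi⟩ := hyu.exists_right_inv
    rcases h2 ((x : A) * yi) with hz | ⟨w, hw, hzw⟩
    · refine ⟨Ideal.Quotient.mk _ ⟨_, hz⟩, Or.inr ?_⟩
      rw [← map_mul]
      congr 1
      apply Subtype.ext
      change (y : A) * ((x : A) * yi) = x
      rw [mul_comm (x : A), ← mul_assoc, hyi, one_mul]
    · refine ⟨Ideal.Quotient.mk _ ⟨w, hw⟩, Or.inl ?_⟩
      rw [← map_mul]
      congr 1
      apply Subtype.ext
      change (x : A) * w = y
      calc (x : A) * w = (x * yi * w) * y := by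
            rw [mul_assoc (x : A), mul_comm yi, mul_assoc, mul_assoc, mul_comm yi, hyi, mul_one]
        _ = y := by rw [hzw, one_mul]


variable {n : ℕ}

include h2 in
/-- clearing denominators. -/
theorem exists_unit_mul_mem_range (q : MvPolynomial (Fin n) A) :
    ∃ t : O, IsUnit (t : A) ∧ ∃ p : MvPolynomial (Fin n) O,
      MvPolynomial.map (algebraMap O A) p = MvPolynomial.C (t : A) * q := by
  induction q using MvPolynomial.induction_on' with
  | monomial s a =>
    rcases h2 a with ha | ⟨b, hb, hab⟩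
    · exact ⟨1, by simp, MvPolynomial.monomial s ⟨a, ha⟩, by
        rw [MvPolynomial.map_monomial]; simp; rfl⟩
    · refine ⟨⟨b, hb⟩, .of_mul_eq_one a (by rw [mul_comm]; exact hab), MvPolynomial.monomial s 1, ?_⟩
      rw [MvPolynomial.map_monomial, map_one, MvPolynomial.C_mul_monomial]
      change _ = MvPolynomial.monomial s (b * a)
      rw [mul_comm b a, hab]
  | add p q hp hq =>
    obtain ⟨t₁, ht₁, p₁, hp₁⟩ := hp
    obtain ⟨t₂, ht₂, p₂, hp₂⟩ := hq
    refine ⟨t₁ * t₂, by simpa using ht₁.mul ht₂, MvPolynomial.C t₂ * p₁ + MvPolynomial.C t₁ * p₂, ?_⟩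
    rw [map_add, map_mul, map_mul, hp₁, hp₂, MvPolynomial.map_C, MvPolynomial.map_C]
    change MvPolynomial.C (t₂ : A) * _ + MvPolynomial.C (t₁ : A) * _ = MvPolynomial.C ((t₁ : A) * t₂) * _
    rw [map_mul]; ring

include h1 in
theorem exists_map_eq_C_mul (w : MvPolynomial (Fin n) A) (m : A)
    (hm : m ∈ IsLocalRing.maximalIdeal A) :
    ∃ w' : MvPolynomial (Fin n) O, MvPolynomial.map (algebraMap O A) w' = MvPolynomial.C m * w := by
  induction w using MvPolynomial.induction_on' with
  | monomial s a =>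
    refine ⟨MvPolynomial.monomial s ⟨m * a, h1 _ (Ideal.mul_mem_right _ _ hm)⟩, ?_⟩
    rw [MvPolynomial.map_monomial, MvPolynomial.C_mul_monomial]; rfl
  | add p q hp hq =>
    obtain ⟨p', hp'⟩ := hp
    obtain ⟨q', hq'⟩ := hq
    exact ⟨p' + q', by rw [map_add, hp', hq', mul_add]⟩

theorem map_mem_smul_top (p : MvPolynomial (Fin n) O)
    (hp : ∀ s, ((MvPolynomial.coeff s p : O) : A) ∈ IsLocalRing.maximalIdeal A) :
    MvPolynomial.map (algebraMap O A) p ∈
      IsLocalRing.maximalIdeal A • (⊤ : Submodule A (MvPolynomial (Fin n) A)) := by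
  rw [MvPolynomial.as_sum (MvPolynomial.map (algebraMap O A) p)]
  refine Submodule.sum_mem _ (fun s _ => ?_)
  have : MvPolynomial.monomial s ((MvPolynomial.map (algebraMap O A) p).coeff s)
      = ((MvPolynomial.coeff s p : O) : A) • (MvPolynomial.monomial s (1 : A)) := by
    rw [MvPolynomial.coeff_map, MvPolynomial.smul_monomial, smul_eq_mul, mul_one]; rfl
  rw [this]
  exact Submodule.smul_mem_smul (hp s) trivial


variable (C : Type u) [CommRing C] [Algebra O C]
  (hadm : Function.Injective (Algebra.TensorProduct.includeRight : C →ₐ[O] A ⊗[O] C))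

include hadm in
/-- elements of `O` outside the maximal ideal of `A` are regular on `C`. -/
theorem eq_zero_of_smul_eq_zero (t : O) (ht : (t : A) ∉ IsLocalRing.maximalIdeal A) (c : C)
    (h : t • c = 0) : c = 0 := by
  have htu : IsUnit (t : A) := by
    rw [IsLocalRing.mem_maximalIdeal, mem_nonunits_iff, not_not] at ht
    exact ht
  apply hadm
  rw [map_zero]
  have h3 : (t : A) • ((1 : A) ⊗ₜ[O] c) = 0 := by
    rw [TensorProduct.smul_tmul', smul_eq_mul, mul_one]
    have : ((t : A) ⊗ₜ[O] c : A ⊗[O] C) = (t • (1 : A)) ⊗ₜ[O] c := by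
      congr 1
      rw [Algebra.smul_def, mul_one]; rfl
    rw [this, TensorProduct.smul_tmul, h, TensorProduct.tmul_zero]
  obtain ⟨ti, hti⟩ := htu.exists_left_inv
  have h4 := congrArg (fun z => ti • z) h3
  simp only [smul_zero] at h4
  rw [← mul_smul, hti, one_smul] at h4
  exact h4

include h1 hadm in
theorem mem_smul_top_of_smul_mem (t : O) (ht : (t : A) ∉ IsLocalRing.maximalIdeal A) (c : C)
    (h : t • c ∈ mO O • (⊤ : Submodule O C)) : c ∈ mO O • (⊤ : Submodule O C) := by
  have htu : IsUnit (t : A) := by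
    rw [IsLocalRing.mem_maximalIdeal, mem_nonunits_iff, not_not] at ht
    exact ht
  obtain ⟨ti, hti⟩ := htu.exists_left_inv
  have key : ∀ x ∈ mO O • (⊤ : Submodule O C), ∃ y ∈ mO O • (⊤ : Submodule O C), x = t • y := by
    intro x hx
    refine Submodule.smul_induction_on hx (fun m hm c _ => ?_) (fun x y hx hy => ?_)
    · have hm' : ti * (m : A) ∈ IsLocalRing.maximalIdeal A := Ideal.mul_mem_left _ _ hm
      refine ⟨(⟨ti * (m : A), h1 _ hm'⟩ : O) • c, Submodule.smul_mem_smul hm' trivial, ?_⟩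
      rw [← mul_smul]
      congr 1
      apply Subtype.ext
      change (m : A) = (t : A) * (ti * m)
      rw [← mul_assoc, mul_comm (t : A), hti, one_mul]
    · obtain ⟨x', hx', rfl⟩ := hx
      obtain ⟨y', hy', rfl⟩ := hy
      exact ⟨x' + y', add_mem hx' hy', by rw [smul_add]⟩
  obtain ⟨y, hy, hty⟩ := key _ h
  have : c = y := by
    rw [← sub_eq_zero]
    apply eq_zero_of_smul_eq_zero O C hadm t ht
    rw [smul_sub, hty, sub_self]
  rw [this]; exact hy

include h1 hadm in
/-- `C/𝔪C` is torsion-free over `O/𝔪`. -/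
theorem torsionFree_quotient (r : O ⧸ mO O) (z : (O ⧸ mO O) ⊗[O] C) (hr : r ≠ 0)
    (hz : r • z = 0) : z = 0 := by
  obtain ⟨t, rfl⟩ := Ideal.Quotient.mk_surjective r
  have ht : (t : A) ∉ IsLocalRing.maximalIdeal A := by
    intro h
    apply hr
    rw [Ideal.Quotient.eq_zero_iff_mem]
    exact h
  have hsurj : Function.Surjective (algebraMap O (O ⧸ mO O)) := Ideal.Quotient.mk_surjective
  obtain ⟨c, rfl⟩ := Algebra.TensorProduct.includeRight_surjective (R := O) (S := O ⧸ mO O) C
    hsurj z
  have hker : RingHom.ker (algebraMap O (O ⧸ mO O)) = mO O := Ideal.mk_ker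
  have h3 : ((1 : O ⧸ mO O) ⊗ₜ[O] (t • c) : (O ⧸ mO O) ⊗[O] C) = 0 := by
    rw [← hz]
    change _ = Ideal.Quotient.mk _ t • ((1 : O ⧸ mO O) ⊗ₜ[O] c)
    rw [TensorProduct.smul_tmul', smul_eq_mul, mul_one, ← TensorProduct.smul_tmul]
    congr 1
    rw [Algebra.smul_def, mul_one]; rfl
  have h4 := Helper22.mem_ker_smul_top_of_one_tmul_eq_zero hsurj _ h3
  rw [hker] at h4
  have h5 := mem_smul_top_of_smul_mem O h1 C hadm t ht c h4
  change (1 : O ⧸ mO O) ⊗ₜ[O] c = 0
  refine Submodule.smul_induction_on h5 (fun m hm c _ => ?_) (fun x y hx hy => ?_)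
  · rw [← TensorProduct.smul_tmul]
    have : m • (1 : O ⧸ mO O) = 0 := by
      rw [Algebra.smul_def, mul_one]
      exact Ideal.Quotient.eq_zero_iff_mem.mpr hm
    rw [this, TensorProduct.zero_tmul]
  · rw [TensorProduct.tmul_add, hx, hy, add_zero]


include h1 h2 hadm in
theorem flat_quotient :
    haveI : ValuationRing (O ⧸ mO O) := valuationRing_quotient O h2
    Module.Flat (O ⧸ mO O) ((O ⧸ mO O) ⊗[O] C) := by
  haveI : ValuationRing (O ⧸ mO O) := valuationRing_quotient O h2
  rw [Module.Flat.flat_iff_torsion_eq_bot_of_isBezout, eq_bot_iff]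
  intro z hz
  rw [Submodule.mem_torsion_iff] at hz
  obtain ⟨r, hr⟩ := hz
  rw [Submodule.mem_bot]
  exact torsionFree_quotient O h1 C hadm r.1 z (nonZeroDivisors.coe_ne_zero r) hr

include h1 h2 hadm in
theorem flat_of_admissible [Module.Flat A (A ⊗[O] C)] : Module.Flat O C := by
  haveI := flat_quotient O h1 h2 C hadm
  exact FinDescent.flat_of_common_ideal (R := O) (S := A) Subtype.val_injective
    (IsLocalRing.maximalIdeal A) (fun a ha => ⟨⟨a, h1 a ha⟩, rfl⟩) C

include h1 h2 hadm in
theorem finitePresentation_of_admissible [Algebra.FiniteType O C] [Module.Flat A (A ⊗[O] C)]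
    [Algebra.FinitePresentation A (A ⊗[O] C)] : Algebra.FinitePresentation O C := by
  classical
  obtain ⟨n, π, hπ⟩ := Algebra.FiniteType.iff_quotient_mvPolynomial''.mp
    (inferInstance : Algebra.FiniteType O C)
  refine Algebra.FinitePresentation.of_surjective hπ ?_
  let ι : MvPolynomial (Fin n) O →+* MvPolynomial (Fin n) A := MvPolynomial.map (algebraMap O A)
  have hι : Function.Injective ι := MvPolynomial.map_injective _ Subtype.val_injective
  have hπA : Function.Surjective (bc A π) := bc_surjective A π hπ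
  have hbcA : ∀ p, bc A π (ι p) = (1 : A) ⊗ₜ[O] π p := bc_map A π
  -- `A`-side generators
  obtain ⟨G₀, hG₀⟩ := Algebra.FinitePresentation.ker_fG_of_surjective (bc A π) hπA
  choose t ht p hp using fun q => exists_unit_mul_mem_range O h2 (n := n) q
  let G' : Finset (MvPolynomial (Fin n) O) := G₀.image p
  have hG₀ker : ∀ q ∈ G₀, bc A π q = 0 := by
    intro q hq
    have : q ∈ RingHom.ker (bc A π).toRingHom := by
      rw [← hG₀]; exact Ideal.subset_span hq
    exact this
  have hG'ker : ∀ g ∈ G', π g = 0 := by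
    intro g hg
    obtain ⟨q, hq, rfl⟩ := Finset.mem_image.mp hg
    apply hadm
    rw [map_zero, Algebra.TensorProduct.includeRight_apply, ← hbcA]
    change bc A π (MvPolynomial.map (algebraMap O A) (p q)) = 0
    rw [hp q, map_mul, hG₀ker q hq, mul_zero]
  have hspanA : Ideal.span (ι '' (G' : Set (MvPolynomial (Fin n) O)))
      = RingHom.ker (bc A π).toRingHom := by
    apply le_antisymm
    · rw [Ideal.span_le]
      rintro _ ⟨g, hg, rfl⟩
      rw [SetLike.mem_coe, RingHom.mem_ker]
      change bc A π (ι g) = 0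
      rw [hbcA, hG'ker g hg, TensorProduct.tmul_zero]
    · rw [← hG₀, Ideal.span_le]
      intro q hq
      obtain ⟨ti, hti⟩ := (ht q).exists_left_inv
      have h3 : q = MvPolynomial.C ti * ι (p q) := by
        change q = MvPolynomial.C ti * MvPolynomial.map (algebraMap O A) (p q)
        rw [hp q, ← mul_assoc, ← map_mul, hti, map_one, one_mul]
      rw [h3]
      exact Ideal.mul_mem_left _ _ (Ideal.subset_span ⟨p q, Finset.mem_image_of_mem _ hq, rfl⟩)
  -- the residue side
  haveI : ValuationRing (O ⧸ mO O) := valuationRing_quotient O h2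
  let ρ : MvPolynomial (Fin n) O →+* MvPolynomial (Fin n) (O ⧸ mO O) :=
    MvPolynomial.map (Ideal.Quotient.mk (mO O))
  have hρ : Function.Surjective ρ := MvPolynomial.map_surjective _ Ideal.Quotient.mk_surjective
  have hbcR : ∀ p, bc (O ⧸ mO O) π (ρ p) = (1 : O ⧸ mO O) ⊗ₜ[O] π p := bc_map (O ⧸ mO O) π
  have hπR : Function.Surjective (bc (O ⧸ mO O) π) := bc_surjective _ π hπ
  haveI : Algebra.FinitePresentation (O ⧸ mO O) ((O ⧸ mO O) ⊗[O] C) :=
    Nagata.finitePresentation_of_torsionFree _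
      (fun a x ha hax => torsionFree_quotient O h1 C hadm a x ha hax)
  obtain ⟨H₀, hH₀⟩ := Algebra.FinitePresentation.ker_fG_of_surjective (bc (O ⧸ mO O) π) hπR
  have hsurj : Function.Surjective (algebraMap O (O ⧸ mO O)) := Ideal.Quotient.mk_surjective
  have hker : RingHom.ker (algebraMap O (O ⧸ mO O)) = mO O := Ideal.mk_ker
  have hlift0 : ∀ c ∈ mO O • (⊤ : Submodule O C), ∃ h₂ : MvPolynomial (Fin n) O,
      ρ h₂ = 0 ∧ π h₂ = c := by
    intro c hc
    refine Submodule.smul_induction_on hc (fun m hm c' _ => ?_) (fun x y hx hy => ?_)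
    · obtain ⟨p', rfl⟩ := hπ c'
      refine ⟨MvPolynomial.C m * p', ?_, ?_⟩
      · change MvPolynomial.map _ _ = 0
        rw [map_mul, MvPolynomial.map_C, Ideal.Quotient.eq_zero_iff_mem.mpr hm, map_zero, zero_mul]
      · rw [map_mul, ← MvPolynomial.algebraMap_eq, AlgHom.commutes, Algebra.smul_def]
    · obtain ⟨x', hx1, hx2⟩ := hx
      obtain ⟨y', hy1, hy2⟩ := hy
      exact ⟨x' + y', by rw [map_add, hx1, hy1, add_zero], by rw [map_add, hx2, hy2]⟩
  have hlift : ∀ hb : MvPolynomial (Fin n) (O ⧸ mO O), hb ∈ H₀ →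
      ∃ h : MvPolynomial (Fin n) O, ρ h = hb ∧ π h = 0 := by
    intro hb hhb
    obtain ⟨h₁, rfl⟩ := hρ hb
    have h3 : bc (O ⧸ mO O) π (ρ h₁) = 0 := by
      have : ρ h₁ ∈ RingHom.ker (bc (O ⧸ mO O) π).toRingHom := by
        rw [← hH₀]; exact Ideal.subset_span hhb
      exact this
    rw [hbcR] at h3
    have h4 := Helper22.mem_ker_smul_top_of_one_tmul_eq_zero hsurj _ h3
    rw [hker] at h4
    obtain ⟨h₂, h21, h22⟩ := hlift0 _ h4
    exact ⟨h₁ - h₂, by rw [map_sub, h21, sub_zero], by rw [map_sub, h22, sub_self]⟩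
  choose! l hl1 hl2 using hlift
  let H' : Finset (MvPolynomial (Fin n) O) := H₀.image l
  have hH'ker : ∀ h ∈ H', π h = 0 := by
    intro h hh
    obtain ⟨hb, hhb, rfl⟩ := Finset.mem_image.mp hh
    exact hl2 hb hhb
  -- key claim on the `A`-side
  have hQ : ∀ k ∈ Ideal.span (ι '' (G' : Set (MvPolynomial (Fin n) O))),
      ∀ m ∈ IsLocalRing.maximalIdeal A, ∀ w : MvPolynomial (Fin n) A,
        ∃ p' ∈ Ideal.span (G' : Set (MvPolynomial (Fin n) O)), ι p' = MvPolynomial.C m * (w * k) := by
    intro k hk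
    induction hk using Submodule.span_induction with
    | mem k hk =>
      obtain ⟨g, hg, rfl⟩ := hk
      intro m hm w
      obtain ⟨w', hw'⟩ := exists_map_eq_C_mul O h1 w m hm
      refine ⟨w' * g, Ideal.mul_mem_left _ _ (Ideal.subset_span hg), ?_⟩
      rw [map_mul]
      change MvPolynomial.map (algebraMap O A) w' * ι g = _
      rw [hw', mul_assoc]
    | zero =>
      intro m hm w
      exact ⟨0, zero_mem _, by simp⟩
    | add x y _ _ hx hy =>
      intro m hm w
      obtain ⟨x', hx1, hx2⟩ := hx m hm w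
      obtain ⟨y', hy1, hy2⟩ := hy m hm w
      exact ⟨x' + y', add_mem hx1 hy1, by rw [map_add, hx2, hy2]; ring⟩
    | smul v x _ hx =>
      intro m hm w
      obtain ⟨x', hx1, hx2⟩ := hx m hm (w * v)
      exact ⟨x', hx1, by rw [hx2, smul_eq_mul, mul_assoc]⟩
  have hQ2 : ∀ x ∈ IsLocalRing.maximalIdeal A • LinearMap.ker (bc A π).toLinearMap,
      ∃ p' ∈ Ideal.span (G' : Set (MvPolynomial (Fin n) O)), ι p' = x := by
    intro x hx
    refine Submodule.smul_induction_on hx (fun m hm k hk => ?_) (fun x y hx hy => ?_)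
    · have hk' : k ∈ Ideal.span (ι '' (G' : Set (MvPolynomial (Fin n) O))) := by
        rw [hspanA]; exact hk
      obtain ⟨p', hp1, hp2⟩ := hQ k hk' m hm 1
      exact ⟨p', hp1, by rw [hp2, one_mul, MvPolynomial.smul_eq_C_mul]⟩
    · obtain ⟨x', hx1, hx2⟩ := hx
      obtain ⟨y', hy1, hy2⟩ := hy
      exact ⟨x' + y', add_mem hx1 hy1, by rw [map_add, hx2, hy2]⟩
  -- the main claim
  have hmain : ∀ j', π j' = 0 → ρ j' = 0 →
      j' ∈ Ideal.span (G' : Set (MvPolynomial (Fin n) O)) := by
    intro j' hj1 hj2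
    have hcoeff : ∀ s, ((MvPolynomial.coeff s j' : O) : A) ∈ IsLocalRing.maximalIdeal A := by
      intro s
      have := congrArg (MvPolynomial.coeff s) hj2
      change MvPolynomial.coeff s (MvPolynomial.map _ j') = _ at this
      rw [MvPolynomial.coeff_map, MvPolynomial.coeff_zero, Ideal.Quotient.eq_zero_iff_mem] at this
      exact this
    have h3 : ι j' ∈ LinearMap.ker (bc A π).toLinearMap ⊓
        IsLocalRing.maximalIdeal A • (⊤ : Submodule A (MvPolynomial (Fin n) A)) := by
      refine ⟨?_, map_mem_smul_top O j' hcoeff⟩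
      change bc A π (ι j') = 0
      rw [hbcA, hj1, TensorProduct.tmul_zero]
    have h4 := Helper7.LeastIdeal.ker_inf_smul_le (bc A π).toLinearMap hπA
      (IsLocalRing.maximalIdeal A) h3
    obtain ⟨p', hp1, hp2⟩ := hQ2 _ h4
    rw [← hι hp2]; exact hp1
  refine ⟨G' ∪ H', ?_⟩
  apply le_antisymm
  · rw [Ideal.span_le]
    intro x hx
    rw [Finset.coe_union] at hx
    rcases hx with hx | hx
    · exact hG'ker x hx
    · exact hH'ker x hx
  · intro j hj
    have hj0 : π j = 0 := hj
    have h3 : ρ j ∈ RingHom.ker (bc (O ⧸ mO O) π).toRingHom := by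
      rw [RingHom.mem_ker]
      change bc (O ⧸ mO O) π (ρ j) = 0
      rw [hbcR, hj0, TensorProduct.tmul_zero]
    have h4 : Ideal.span (H₀ : Set (MvPolynomial (Fin n) (O ⧸ mO O))) ≤
        (Ideal.span (H' : Set (MvPolynomial (Fin n) O))).map ρ := by
      rw [Ideal.span_le]
      intro hb hhb
      rw [SetLike.mem_coe, ← hl1 hb hhb]
      exact Ideal.mem_map_of_mem _ (Ideal.subset_span (Finset.mem_image_of_mem _ hhb))
    rw [← hH₀] at h3
    obtain ⟨j₁, hj₁, hj₁'⟩ := (Ideal.mem_map_iff_of_surjective ρ hρ).mp (h4 h3)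
    have hj₁ker : π j₁ = 0 := by
      have : Ideal.span (H' : Set (MvPolynomial (Fin n) O)) ≤ RingHom.ker π.toRingHom := by
        rw [Ideal.span_le]
        intro x hx
        exact hH'ker x hx
      exact this hj₁
    have h5 := hmain (j - j₁) (by rw [map_sub, hj0, hj₁ker, sub_zero]) (by rw [map_sub, hj₁', sub_self])
    have h6 : j = (j - j₁) + j₁ := by ring
    rw [h6]
    refine add_mem (Ideal.span_mono ?_ h5) (Ideal.span_mono ?_ hj₁)
    · rw [Finset.coe_union]; exact Set.subset_union_left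
    · rw [Finset.coe_union]; exact Set.subset_union_right

end

end Groth.Agent.Lib.Helper28.SemiVal
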