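import Mathlib

set_option autoImplicit false
universe u

namespace Groth.Agent.Lib.Helper28
open TensorProduct


section SepLocalization

variable (k k₀ B A : Type u) [Field k] [Field k₀] [CommRing B] [Algebra k k₀] [Algebra k₀ B]
  [Algebra k B] [IsScalarTower k k₀ B] [CommRing A] [Algebra k₀ A] [Algebra k A]
  [IsScalarTower k k₀ A]

/-- The canonical surjection `B ⊗[k] A → B ⊗[k₀] A`. -/
noncomputable def tensorSurj : B ⊗[k] A →ₐ[k] B ⊗[k₀] A :=
  Algebra.TensorProduct.mapOfCompatibleSMul k₀ k k B A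

/-- The map `k₀ ⊗[k] k₀ → B ⊗[k] A`. -/
noncomputable def tensorIncl : k₀ ⊗[k] k₀ →ₐ[k] B ⊗[k] A :=
  Algebra.TensorProduct.map ((Algebra.ofId k₀ B).restrictScalars k)
    ((Algebra.ofId k₀ A).restrictScalars k)

theorem tensorSurj_tensorIncl (t : k₀ ⊗[k] k₀) :
    tensorSurj k k₀ B A (tensorIncl k k₀ B A t) =
      algebraMap k₀ (B ⊗[k₀] A) (Algebra.TensorProduct.lmul' k t) := by
  induction t with
  | zero => simp
  | add x y hx hy => simp only [map_add, hx, hy]
  | tmul c d =>
    simp only [tensorSurj, tensorIncl, Algebra.TensorProduct.map_tmul,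
      Algebra.TensorProduct.mapOfCompatibleSMul_tmul, Algebra.TensorProduct.lmul'_apply_tmul,
      AlgHom.coe_restrictScalars', Algebra.ofId_apply]
    rw [Algebra.TensorProduct.algebraMap_apply, map_mul, Algebra.algebraMap_eq_smul_one (A := A) d,
      ← TensorProduct.smul_tmul, Algebra.smul_def, mul_comm]


variable [Algebra.FormallyUnramified k k₀] [Algebra.EssFiniteType k k₀]

/-- The image of the separability idempotent in `B ⊗[k] A`. -/
noncomputable def sepElem : B ⊗[k] A :=
  tensorIncl k k₀ B A (Algebra.FormallyUnramified.elem k k₀)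

theorem tensorSurj_sepElem : tensorSurj k k₀ B A (sepElem k k₀ B A) = 1 := by
  rw [sepElem, tensorSurj_tensorIncl, Algebra.FormallyUnramified.lmul_elem, map_one]

theorem sepElem_mul_eq_zero_of_tensorSurj_eq_zero (z : B ⊗[k] A)
    (hz : tensorSurj k k₀ B A z = 0) : sepElem k k₀ B A * z = 0 := by
  have hker : z ∈ (TensorProduct.mapOfCompatibleSMul k₀ k k₀ B A).ker := by
    rw [LinearMap.mem_ker]
    exact hz
  rw [TensorProduct.AlgebraTensorModule.ker_mapOfCompatibleSMul] at hker
  clear hz
  induction hker using Submodule.span_induction with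
  | mem x hx =>
    obtain ⟨a, m, n, rfl⟩ := hx
    have h1 : (a • m) ⊗ₜ[k] n - m ⊗ₜ[k] (a • n) =
        tensorIncl k k₀ B A (a ⊗ₜ 1 - 1 ⊗ₜ a) * (m ⊗ₜ[k] n) := by
      simp only [tensorIncl, map_sub, Algebra.TensorProduct.map_tmul, map_one,
        AlgHom.coe_restrictScalars', Algebra.ofId_apply, sub_mul,
        Algebra.TensorProduct.tmul_mul_tmul, one_mul, Algebra.smul_def]
    rw [h1, ← mul_assoc, sepElem, ← map_mul]
    have h2 : Algebra.FormallyUnramified.elem k k₀ * (a ⊗ₜ[k] 1 - 1 ⊗ₜ[k] a) = 0 := by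
      rw [mul_comm, ← neg_sub, neg_mul,
        Algebra.FormallyUnramified.one_tmul_sub_tmul_one_mul_elem, neg_zero]
    rw [h2, map_zero, zero_mul]
  | zero => simp
  | add x y _ _ hx hy => rw [mul_add, hx, hy, add_zero]
  | smul a x _ hx =>
    rw [Algebra.smul_def, mul_left_comm, hx, mul_zero]


/-- For `k₀/k` unramified (e.g. finite separable), `B ⊗[k₀] A` is the localization of `B ⊗[k] A`
at an idempotent. -/
theorem isLocalization_away_sepElem :
    let _ : Algebra (B ⊗[k] A) (B ⊗[k₀] A) := (tensorSurj k k₀ B A).toRingHom.toAlgebra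
    IsLocalization.Away (sepElem k k₀ B A) (B ⊗[k₀] A) := by
  let _ : Algebra (B ⊗[k] A) (B ⊗[k₀] A) := (tensorSurj k k₀ B A).toRingHom.toAlgebra
  have halg : ∀ x, algebraMap (B ⊗[k] A) (B ⊗[k₀] A) x = tensorSurj k k₀ B A x := fun _ => rfl
  have H : ∀ x y, algebraMap (B ⊗[k] A) (B ⊗[k₀] A) x = algebraMap (B ⊗[k] A) (B ⊗[k₀] A) y ↔
      sepElem k k₀ B A * x = sepElem k k₀ B A * y := by
    intro x y
    rw [halg, halg]
    constructor
    · intro h
      have := sepElem_mul_eq_zero_of_tensorSurj_eq_zero k k₀ B A (x - y)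
        (by rw [map_sub, h, sub_self])
      rw [mul_sub, sub_eq_zero] at this
      exact this
    · intro h
      have := congrArg (tensorSurj k k₀ B A) h
      rw [map_mul, map_mul, tensorSurj_sepElem, one_mul, one_mul] at this
      exact this
  have he : IsIdempotentElem (sepElem k k₀ B A) := by
    have := (H (sepElem k k₀ B A) 1).mp (by rw [halg, halg, tensorSurj_sepElem, map_one])
    rw [mul_one] at this
    exact this
  exact IsLocalization.away_of_isIdempotentElem_of_mul he H
    (Algebra.TensorProduct.mapOfCompatibleSMul_surjective k₀ k k B A)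

/-- Transfer of a localization-stable property from `B ⊗[k] A` to `B ⊗[k₀] A`, for `k₀/k`
unramified. -/
theorem property_tensor_of_formallyUnramified (P : ∀ (R : Type u) [CommRing R], Prop)
    (hloc : ∀ (R : Type u) [CommRing R] (M : Submonoid R) (R' : Type u) [CommRing R'] [Algebra R R']
      [IsLocalization M R'], P R → P R')
    (h : P (B ⊗[k] A)) : P (B ⊗[k₀] A) := by
  let _ : Algebra (B ⊗[k] A) (B ⊗[k₀] A) := (tensorSurj k k₀ B A).toRingHom.toAlgebra
  have := isLocalization_away_sepElem k k₀ B A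
  exact hloc (B ⊗[k] A) (Submonoid.powers (sepElem k k₀ B A)) (B ⊗[k₀] A) h

end SepLocalization

end Groth.Agent.Lib.Helper28
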