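import Mathlib
import Groth.Agent.Lib.Helper18GeomReg
import Groth.Agent.Lib.Helper28SepLoc

set_option autoImplicit false
universe u

namespace Groth.Agent.Lib.Helper28
open TensorProduct

section Directed

/-- Generic version of `Helper18GeomReg.main`: a property of geometric fibres over a directed
union of subfields. -/
theorem geomProperty_of_directed (P : ∀ (R : Type u) [CommRing R], Prop)
    (hP : ∀ (R S : Type u) [CommRing R] [CommRing S], (R ≃+* S) → P R → P S)
    (k : Type u) [Field k] {ι : Type u}
    (K : ι → Type u) [∀ i, Field (K i)] [∀ i, Algebra (K i) k]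
    (hdir : ∀ i j, ∃ l, Set.range (algebraMap (K i) k) ⊆ Set.range (algebraMap (K l) k) ∧
      Set.range (algebraMap (K j) k) ⊆ Set.range (algebraMap (K l) k))
    (hcov : ∀ x : k, ∃ i, x ∈ Set.range (algebraMap (K i) k))
    (A : Type u) [CommRing A] [Algebra k A] [∀ i, Algebra (K i) A]
    [∀ i, IsScalarTower (K i) k A]
    (h : ∀ i, ∀ (F : Type u) [Field F] [Algebra (K i) F], Module.Finite (K i) F →
      P (F ⊗[K i] A))
    (k' : Type u) [Field k'] [Algebra k k'] (hfin : Module.Finite k k') : P (k' ⊗[k] A) := by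
  classical
  set b := Module.finBasis k k'
  let T : Finset k :=
    (Finset.univ.image fun x : Fin (Module.finrank k k') × Fin (Module.finrank k k') ×
      Fin (Module.finrank k k') => b.repr (b x.1 * b x.2.1) x.2.2) ∪
    (Finset.univ.image fun m : Fin (Module.finrank k k') => b.repr 1 m)
  obtain ⟨l, hl⟩ := Groth.Agent.Lib.Helper18GeomReg.exists_index k K hdir hcov T
  let _ : Algebra (K l) k' := ((algebraMap k k').comp (algebraMap (K l) k)).toAlgebra
  have : IsScalarTower (K l) k k' := .of_algebraMap_eq (fun _ => rfl)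
  obtain ⟨F, hFfin, hFle, hFb⟩ := Groth.Agent.Lib.Helper18GeomReg.exists_descent (K l) k k'
    (fun i j m => hl _ (Finset.mem_union_left _ (Finset.mem_image.mpr ⟨(i, j, m), by simp, rfl⟩)))
    (fun m => hl _ (Finset.mem_union_right _ (Finset.mem_image.mpr ⟨m, by simp, rfl⟩)))
  obtain ⟨e⟩ := Groth.Agent.Lib.Helper18GeomReg.tensor_equiv (K l) k k' A F hFle hFb
  exact hP _ _ e (h l F hFfin)

end Directed

section SepUp

variable (k k' A : Type u) [Field k] [Field k'] [Algebra k k'] [Algebra.IsSeparable k k']
  [CommRing A] [Algebra k' A] [Algebra k A] [IsScalarTower k k' A]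

/-- Going up along a separable algebraic extension `k'/k`: if `P` holds for all `K ⊗[k] A` with
`K/k` finite, then it holds for all `K' ⊗[k'] A` with `K'/k'` finite. -/
theorem geomProperty_of_isSeparable_up (P : ∀ (R : Type u) [CommRing R], Prop)
    (hP : ∀ (R S : Type u) [CommRing R] [CommRing S], (R ≃+* S) → P R → P S)
    (hloc : ∀ (R : Type u) [CommRing R] (M : Submonoid R) (R' : Type u) [CommRing R'] [Algebra R R']
      [IsLocalization M R'], P R → P R')
    (h : ∀ (K : Type u) [Field K] [Algebra k K], Module.Finite k K → P (K ⊗[k] A))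
    (K' : Type u) [Field K'] [Algebra k' K'] (hfin : Module.Finite k' K') : P (K' ⊗[k'] A) := by
  have hint : Algebra.IsIntegral k k' := ⟨fun x => Algebra.IsSeparable.isIntegral k x⟩
  refine geomProperty_of_directed P hP k'
    (ι := {F : IntermediateField k k' // Module.Finite k F}) (fun i => i.1) ?_ ?_ A ?_ K' hfin
  · intro i j
    have := i.2
    have := j.2
    refine ⟨⟨i.1 ⊔ j.1, IntermediateField.finiteDimensional_sup i.1 j.1⟩, ?_, ?_⟩
    · rintro _ ⟨x, rfl⟩
      exact ⟨⟨x.1, (le_sup_left : i.1 ≤ i.1 ⊔ j.1) x.2⟩, rfl⟩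
    · rintro _ ⟨x, rfl⟩
      exact ⟨⟨x.1, (le_sup_right : j.1 ≤ i.1 ⊔ j.1) x.2⟩, rfl⟩
  · intro x
    refine ⟨⟨IntermediateField.adjoin k {x}, ?_⟩, ⟨x, IntermediateField.mem_adjoin_simple_self k x⟩,
      rfl⟩
    exact IntermediateField.adjoin.finiteDimensional (Algebra.IsIntegral.isIntegral x)
  · intro i F _ _ hF
    have := i.2
    let _ : Algebra k F := ((algebraMap i.1 F).comp (algebraMap k i.1)).toAlgebra
    have : IsScalarTower k i.1 F := .of_algebraMap_eq' rfl
    have : Algebra.IsSeparable k i.1 := Algebra.isSeparable_tower_bot_of_isSeparable k i.1 k'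
    have : Algebra.FormallyUnramified k i.1 := Algebra.FormallyUnramified.of_isSeparable k i.1
    have hfinF : Module.Finite k F := Module.Finite.trans i.1 F
    exact property_tensor_of_formallyUnramified k i.1 F A P hloc (h F hfinF)

end SepUp

end Groth.Agent.Lib.Helper28
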