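import Mathlib
import Groth.Prelude.Def_Coh
import Groth.Agent.Lib.Helper23Serre

/-!
# Relative Serre criterion over an arbitrary base (helper28)

Only closed subschemes are used (the reduced structure on the closure in `X` of a closed subset of
`f⁻¹V` extends it), so no extension of quasi-coherent modules from `f⁻¹V` to `X` is needed and `Y` need
not be quasi-separated.

* `ClSurj U`: sections over the open `U` lift along every closed immersion into `X`
* `exists_basicOpen_le`, `exists_affine_basicOpen_mem`, `exists_fin_cover`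
* `clSurj_basicOpen`: `ClSurj` passes to basic opens (`U` quasi-compact quasi-separated)
* `isAffineOpen_of_clSurj`: `U` quasi-compact quasi-separated with `ClSurj U` is affine
* `surjective_app_of_epi_of_isAffineOpen`, `isQuasiSeparated_preimage`
* `isAffineHom_of_epi_push_unitPush`
-/

set_option autoImplicit false
universe u
open CategoryTheory Limits AlgebraicGeometry TopologicalSpace Opposite

namespace Groth.Agent.Lib.Helper28.SerreRel

open Groth.Agent.Lib.Helper23.Serre

variable {X : Scheme.{u}}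

/-- sections over `U` lift along every closed immersion into `X` -/
def ClSurj (U : X.Opens) : Prop :=
  ∀ (Z : Scheme.{u}) (i : Z ⟶ X), IsClosedImmersion i → Function.Surjective (i.app U)

theorem exists_idempotent_of_disjoint_cover' (Z : Scheme.{u}) (V1 V2 V : Z.Opens) (hinf : V1 ⊓ V2 = ⊥)
    (hsup : V1 ⊔ V2 = V) :
    ∃ e : Γ(Z, V), Z.presheaf.map (homOfLE (hsup ▸ le_sup_left : V1 ≤ V)).op e = 1 ∧
      Z.presheaf.map (homOfLE (hsup ▸ le_sup_right : V2 ≤ V)).op e = 0 := by
  subst hsup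
  have hss : Subsingleton Γ(Z, V1 ⊓ V2) := by rw [hinf]; infer_instance
  let x : ↑(CommRingCat.of (RingHom.eqLocus
      (RingHom.comp (Z.sheaf.obj.map (homOfLE inf_le_left : V1 ⊓ V2 ⟶ V1).op).hom
        (RingHom.fst (Z.sheaf.obj.obj <| op V1) (Z.sheaf.obj.obj <| op V2)))
      (RingHom.comp (Z.sheaf.obj.map (homOfLE inf_le_right : V1 ⊓ V2 ⟶ V2).op).hom
        (RingHom.snd (Z.sheaf.obj.obj <| op V1) (Z.sheaf.obj.obj <| op V2))))) :=
    ⟨(1, 0), @Subsingleton.elim _ hss _ _⟩
  let e' : Γ(Z, V1 ⊔ V2) := (Z.sheaf.objSupIsoProdEqLocus V1 V2).inv x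
  refine ⟨e', ?_, ?_⟩
  · exact TopCat.Sheaf.objSupIsoProdEqLocus_inv_fst Z.sheaf V1 V2 x
  · exact TopCat.Sheaf.objSupIsoProdEqLocus_inv_snd Z.sheaf V1 V2 x

theorem closure_diff_inter_subset (U W : X.Opens) :
    closure ((U : Set X) \ W) ∩ (W : Set X) = ∅ := by
  rw [Set.eq_empty_iff_forall_notMem]
  rintro y ⟨h1, h2⟩
  have h3 : closure ((U : Set X) \ W) ⊆ (W : Set X)ᶜ :=
    closure_minimal (fun z hz => hz.2) W.isOpen.isClosed_compl
  exact h3 h1 h2

theorem exists_basicOpen_le (U : X.Opens) (h : ClSurj U) (x : X) (_hxU : x ∈ U)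
    (hx : closure ({x} : Set X) ∩ U ⊆ {x}) (W : X.Opens) (hWU : W ≤ U) (hxW : x ∈ W) :
    ∃ g : Γ(X, U), x ∈ X.basicOpen g ∧ X.basicOpen g ≤ W := by
  let T : Closeds X := ⟨closure ((U : Set X) \ W) ∪ closure {x}, isClosed_closure.union isClosed_closure⟩
  let J := Scheme.IdealSheafData.vanishingIdeal T
  let i : J.subscheme ⟶ X := J.subschemeι
  have hrange : Set.range i = closure ((U : Set X) \ W) ∪ closure {x} := by
    rw [J.range_subschemeι]
    exact Scheme.IdealSheafData.coe_support_vanishingIdeal T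
  let Ux : X.Opens := U ⊓ ⟨(closure ({x} : Set X))ᶜ, isClosed_closure.isOpen_compl⟩
  let V1 : J.subscheme.Opens := i ⁻¹ᵁ W
  let V2 : J.subscheme.Opens := i ⁻¹ᵁ Ux
  have hinf : V1 ⊓ V2 = ⊥ := by
    ext z
    simp only [Opens.coe_inf, Set.mem_inter_iff, SetLike.mem_coe, Opens.coe_bot, Set.mem_empty_iff_false,
      iff_false, not_and]
    intro hz1 hz2
    have hz : i z ∈ closure ((U : Set X) \ W) ∪ closure {x} := hrange ▸ Set.mem_range_self z
    rcases hz with hz | hz
    · have := closure_diff_inter_subset U W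
      rw [Set.eq_empty_iff_forall_notMem] at this
      exact this (i z) ⟨hz, hz1⟩
    · exact hz2.2 hz
  have hsup : V1 ⊔ V2 = i ⁻¹ᵁ U := by
    ext z
    simp only [Opens.coe_sup, Set.mem_union, SetLike.mem_coe]
    constructor
    · rintro (hz | hz)
      · exact hWU hz
      · exact hz.1
    · intro hz
      by_cases hzx : i z ∈ closure ({x} : Set X)
      · left
        have : i z = x := hx ⟨hzx, hz⟩
        change i z ∈ W
        rw [this]; exact hxW
      · right
        exact ⟨hz, hzx⟩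
  obtain ⟨e, he1, he2⟩ := exists_idempotent_of_disjoint_cover' J.subscheme V1 V2 _ hinf hsup
  obtain ⟨g, hg⟩ := h _ i inferInstance e
  have hpre : i ⁻¹ᵁ (X.basicOpen g) = J.subscheme.basicOpen e := by
    rw [Scheme.preimage_basicOpen, hg]
  have hV1 : V1 ≤ J.subscheme.basicOpen e := by
    have h1 := J.subscheme.basicOpen_res e (homOfLE (hsup ▸ le_sup_left : V1 ≤ i ⁻¹ᵁ U)).op
    rw [he1] at h1
    have h2 : J.subscheme.basicOpen (1 : Γ(J.subscheme, V1)) = V1 := J.subscheme.basicOpen_of_isUnit isUnit_one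
    rw [h2] at h1
    exact inf_eq_left.1 h1.symm
  have hV2 : V2 ⊓ J.subscheme.basicOpen e = ⊥ := by
    have h1 := J.subscheme.basicOpen_res e (homOfLE (hsup ▸ le_sup_right : V2 ≤ i ⁻¹ᵁ U)).op
    rw [he2, Scheme.basicOpen_zero] at h1
    exact h1.symm
  have hxr : x ∈ Set.range i := by rw [hrange]; right; exact subset_closure rfl
  obtain ⟨z₀, hz₀⟩ := hxr
  refine ⟨g, ?_, ?_⟩
  · have : z₀ ∈ i ⁻¹ᵁ (X.basicOpen g) := by
      rw [hpre]
      apply hV1
      change i z₀ ∈ W
      rw [hz₀]; exact hxW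
    rw [← hz₀]
    exact this
  · intro y hy
    by_contra hyW
    have hyU : y ∈ U := X.basicOpen_le g hy
    have hyr : y ∈ Set.range i := by rw [hrange]; left; exact subset_closure ⟨hyU, hyW⟩
    obtain ⟨z, rfl⟩ := hyr
    have hz1 : z ∈ J.subscheme.basicOpen e := by
      rw [← hpre]; exact hy
    have hz2 : z ∈ V2 := by
      refine ⟨hyU, ?_⟩
      intro hzx
      have : i z = x := hx ⟨hzx, hyU⟩
      rw [this] at hyW
      exact hyW hxW
    have : z ∈ V2 ⊓ J.subscheme.basicOpen e := ⟨hz2, hz1⟩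
    rw [hV2] at this
    exact this

/-- a nonempty compact subset of a T0 space has a point closed in it -/
theorem exists_closed_point_of_isCompact {α : Type*} [TopologicalSpace α] [T0Space α] (S : Set α)
    (hS : IsCompact S) (hne : S.Nonempty) : ∃ x ∈ S, closure ({x} : Set α) ∩ S ⊆ {x} := by
  have : CompactSpace ↥S := isCompact_iff_compactSpace.1 hS
  have hne' : (Set.univ : Set ↥S).Nonempty := by
    obtain ⟨y, hy⟩ := hne
    exact ⟨⟨y, hy⟩, trivial⟩
  obtain ⟨x, -, hx⟩ := IsClosed.exists_closed_singleton (S := (Set.univ : Set ↥S)) isClosed_univ hne'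
  refine ⟨x.1, x.2, ?_⟩
  rintro y ⟨hy1, hy2⟩
  have h1 : (⟨y, hy2⟩ : ↥S) ∈ closure ({x} : Set ↥S) := by
    rw [closure_subtype]
    simpa using hy1
  rw [hx.closure_eq] at h1
  exact congrArg Subtype.val h1

theorem exists_affine_basicOpen_mem (U : X.Opens) (hc : IsCompact (U : Set X)) (h : ClSurj U) (y : X)
    (hy : y ∈ U) : ∃ g : Γ(X, U), IsAffineOpen (X.basicOpen g) ∧ y ∈ X.basicOpen g := by
  by_contra hcon
  push Not at hcon
  let W₀ : X.Opens := ⨆ g : {g : Γ(X, U) // IsAffineOpen (X.basicOpen g)}, X.basicOpen g.1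
  have hyW : y ∉ W₀ := by
    intro hy'
    obtain ⟨g, hg⟩ := Opens.mem_iSup.1 hy'
    exact hcon g.1 g.2 hg
  have hScomp : IsCompact ((U : Set X) \ W₀) := hc.diff W₀.isOpen
  obtain ⟨x, hxS, hx⟩ := exists_closed_point_of_isCompact _ hScomp ⟨y, hy, hyW⟩
  have hx' : closure ({x} : Set X) ∩ U ⊆ {x} := by
    rintro z ⟨hz1, hz2⟩
    by_cases hzW : z ∈ W₀
    · exfalso
      have : ((W₀ : Set X) ∩ {x}).Nonempty := mem_closure_iff.1 hz1 _ W₀.isOpen hzW
      obtain ⟨w, hw1, hw2⟩ := this
      rw [Set.mem_singleton_iff] at hw2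
      rw [hw2] at hw1
      exact hxS.2 hw1
    · exact hx ⟨hz1, hz2, hzW⟩
  obtain ⟨_, ⟨W, hW, rfl⟩, hxW, hWU⟩ :=
    X.isBasis_affineOpens.exists_subset_of_mem_open hxS.1 U.isOpen
  obtain ⟨g, hxg, hgW⟩ := exists_basicOpen_le U h x hxS.1 hx' W hWU hxW
  have haff : IsAffineOpen (X.basicOpen g) := by
    have h1 := X.basicOpen_res g (homOfLE (show W ≤ U from hWU)).op
    rw [inf_eq_right.2 hgW] at h1
    rw [← h1]
    exact hW.basicOpen _
  exact hxS.2 (Opens.mem_iSup.2 ⟨⟨g, haff⟩, hxg⟩)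

theorem exists_fin_cover (U : X.Opens) (hc : IsCompact (U : Set X)) (h : ClSurj U) :
    ∃ (n : ℕ) (g : Fin n → Γ(X, U)), (∀ k, IsAffineOpen (X.basicOpen (g k))) ∧
      U ≤ ⨆ k, X.basicOpen (g k) := by
  classical
  have h1 : ∀ y : ↥U, ∃ g : Γ(X, U), IsAffineOpen (X.basicOpen g) ∧ y.1 ∈ X.basicOpen g :=
    fun y => exists_affine_basicOpen_mem U hc h y.1 y.2
  choose f hf1 hf2 using h1
  obtain ⟨t, ht⟩ := hc.elim_finite_subcover (fun y : ↥U => (X.basicOpen (f y) : Set X))
    (fun y => (X.basicOpen (f y)).isOpen) (fun z hz => Set.mem_iUnion.2 ⟨⟨z, hz⟩, hf2 ⟨z, hz⟩⟩)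
  refine ⟨t.card, fun k => f (t.equivFin.symm k).1, fun k => hf1 _, ?_⟩
  intro z hz
  obtain ⟨y, hyt, hzy⟩ := Set.mem_iUnion₂.1 (ht hz)
  refine Opens.mem_iSup.2 ⟨t.equivFin ⟨y, hyt⟩, ?_⟩
  change z ∈ X.basicOpen (f (t.equivFin.symm (t.equivFin ⟨y, hyt⟩)).1)
  rw [Equiv.symm_apply_apply]
  exact hzy

theorem exists_eq_pow_mul_aux (Z : Scheme.{u}) (V : Z.Opens) (hV : IsCompact (V : Set Z))
    (hV' : IsQuasiSeparated (V : Set Z)) (f : Γ(Z, V)) (V' : Z.Opens) (h : V' = Z.basicOpen f)
    (s : Γ(Z, V')) :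
    ∃ (n : ℕ) (t : Γ(Z, V)), Z.presheaf.map (homOfLE (h ▸ Z.basicOpen_le f : V' ≤ V)).op t =
      (Z.presheaf.map (homOfLE (h ▸ Z.basicOpen_le f : V' ≤ V)).op f) ^ n * s := by
  subst h
  exact exists_eq_pow_mul_of_isCompact_of_isQuasiSeparated Z V hV hV' f s

theorem app_map_le {Z : Scheme.{u}} (i : Z ⟶ X) {A B : X.Opens} (hAB : A ≤ B) (a : Γ(X, B)) :
    i.app A (X.presheaf.map (homOfLE hAB).op a) =
      Z.presheaf.map (homOfLE (show i ⁻¹ᵁ A ≤ i ⁻¹ᵁ B from fun _ hz => hAB hz)).op (i.app B a) := by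
  have := ConcreteCategory.congr_hom (i.naturality (homOfLE hAB).op) a
  exact this

theorem clSurj_basicOpen (U : X.Opens) (hc : IsCompact (U : Set X)) (hqs : IsQuasiSeparated (U : Set X))
    (h : ClSurj U) (b : Γ(X, U)) : ClSurj (X.basicOpen b) := by
  intro Z i hi s
  let b' : Γ(Z, i ⁻¹ᵁ U) := i.app U b
  have hpre : i ⁻¹ᵁ X.basicOpen b = Z.basicOpen b' := Scheme.preimage_basicOpen i b
  have hcZ : IsCompact ((i ⁻¹ᵁ U : Z.Opens) : Set Z) :=
    QuasiCompact.isCompact_preimage (f := i) _ U.isOpen hc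
  have hqsZ : IsQuasiSeparated ((i ⁻¹ᵁ U : Z.Opens) : Set Z) := by
    have h1 : QuasiSeparatedSpace ↥U := (isQuasiSeparated_iff_quasiSeparatedSpace _ U.isOpen).1 hqs
    have h2 : QuasiSeparatedSpace (U : Scheme.{u}) := h1
    have h3 : QuasiSeparatedSpace ((i ⁻¹ᵁ U : Z.Opens) : Scheme.{u}) :=
      quasiSeparatedSpace_of_quasiSeparated (i ∣_ U)
    exact (isQuasiSeparated_iff_quasiSeparatedSpace _ (i ⁻¹ᵁ U).isOpen).2 h3
  obtain ⟨n, t, ht⟩ := exists_eq_pow_mul_aux Z (i ⁻¹ᵁ U) hcZ hqsZ b' _ hpre s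
  obtain ⟨t', ht'⟩ := h Z i hi t
  have hu : IsUnit (X.presheaf.map (homOfLE (X.basicOpen_le b)).op b) :=
    RingedSpace.isUnit_res_basicOpen _ b
  obtain ⟨c, hc'⟩ := hu.exists_left_inv
  refine ⟨c ^ n * X.presheaf.map (homOfLE (X.basicOpen_le b)).op t', ?_⟩
  have e1 : i.app (X.basicOpen b) (X.presheaf.map (homOfLE (X.basicOpen_le b)).op t') =
      Z.presheaf.map (homOfLE (hpre ▸ Z.basicOpen_le b' : i ⁻¹ᵁ X.basicOpen b ≤ i ⁻¹ᵁ U)).op t := by
    rw [app_map_le, ht']
  have e2 : i.app (X.basicOpen b) (X.presheaf.map (homOfLE (X.basicOpen_le b)).op b) =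
      Z.presheaf.map (homOfLE (hpre ▸ Z.basicOpen_le b' : i ⁻¹ᵁ X.basicOpen b ≤ i ⁻¹ᵁ U)).op b' := by
    rw [app_map_le]
  have e3 : i.app (X.basicOpen b) c *
      Z.presheaf.map (homOfLE (hpre ▸ Z.basicOpen_le b' : i ⁻¹ᵁ X.basicOpen b ≤ i ⁻¹ᵁ U)).op b' = 1 := by
    rw [← e2, ← map_mul, hc', map_one]
  rw [map_mul, map_pow, e1, ht, ← mul_assoc, ← mul_pow, e3, one_pow, one_mul]

theorem isAffineOpen_of_clSurj_aux (n : ℕ) : ∀ (U : X.Opens), IsQuasiSeparated (U : Set X) → ClSurj U →
    ∀ (g : Fin n → Γ(X, U)), (∀ k, IsAffineOpen (X.basicOpen (g k))) → U ≤ ⨆ k, X.basicOpen (g k) →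
      IsAffineOpen U := by
  induction n with
  | zero =>
    intro U _ _ g _ hcov
    have : U = ⊥ := by
      rw [eq_bot_iff]
      refine hcov.trans ?_
      rw [iSup_le_iff]
      intro k
      exact k.elim0
    rw [this]
    exact isAffineOpen_bot X
  | succ n ih =>
    intro U hqs h g hg hcov
    have hc : IsCompact (U : Set X) := by
      have : U = ⨆ k, X.basicOpen (g k) :=
        le_antisymm hcov (iSup_le fun k => X.basicOpen_le (g k))
      rw [this, Opens.coe_iSup]
      exact isCompact_iUnion fun k => (hg k).isCompact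
    let U' : X.Opens := ⨆ k : Fin n, X.basicOpen (g k.castSucc)
    let Un : X.Opens := X.basicOpen (g (Fin.last n))
    have hU'U : U' ≤ U := iSup_le fun k => X.basicOpen_le _
    have hUnU : Un ≤ U := X.basicOpen_le _
    have hcov' : U ≤ U' ⊔ Un := by
      intro y hy
      obtain ⟨k, hk⟩ := Opens.mem_iSup.1 (hcov hy)
      revert hk
      refine Fin.lastCases ?_ (fun k => ?_) k
      · intro hk; exact Or.inr hk
      · intro hk; exact Or.inl (Opens.mem_iSup.2 ⟨k, hk⟩)
    let T : Closeds X := ⟨closure ((U : Set X) \ U') ∪ closure ((U : Set X) \ Un),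
      isClosed_closure.union isClosed_closure⟩
    let J := Scheme.IdealSheafData.vanishingIdeal T
    let i : J.subscheme ⟶ X := J.subschemeι
    have hrange : Set.range i = closure ((U : Set X) \ U') ∪ closure ((U : Set X) \ Un) := by
      rw [J.range_subschemeι]
      exact Scheme.IdealSheafData.coe_support_vanishingIdeal T
    let V1 : J.subscheme.Opens := i ⁻¹ᵁ Un
    let V2 : J.subscheme.Opens := i ⁻¹ᵁ U'
    have hinf : V1 ⊓ V2 = ⊥ := by
      ext z
      simp only [Opens.coe_inf, Set.mem_inter_iff, SetLike.mem_coe, Opens.coe_bot,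
        Set.mem_empty_iff_false, iff_false, not_and]
      intro hz1 hz2
      have hz : i z ∈ closure ((U : Set X) \ U') ∪ closure ((U : Set X) \ Un) :=
        hrange ▸ Set.mem_range_self z
      rcases hz with hz | hz
      · have := closure_diff_inter_subset U U'
        rw [Set.eq_empty_iff_forall_notMem] at this
        exact this (i z) ⟨hz, hz2⟩
      · have := closure_diff_inter_subset U Un
        rw [Set.eq_empty_iff_forall_notMem] at this
        exact this (i z) ⟨hz, hz1⟩
    have hsup : V1 ⊔ V2 = i ⁻¹ᵁ U := by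
      ext z
      simp only [Opens.coe_sup, Set.mem_union, SetLike.mem_coe]
      constructor
      · rintro (hz | hz)
        · exact hUnU hz
        · exact hU'U hz
      · intro hz
        rcases hcov' hz with hz' | hz'
        · exact Or.inr hz'
        · exact Or.inl hz'
    obtain ⟨e, he1, he2⟩ := exists_idempotent_of_disjoint_cover' J.subscheme V1 V2 _ hinf hsup
    obtain ⟨a, ha⟩ := h _ i inferInstance e
    have hpre : i ⁻¹ᵁ (X.basicOpen a) = J.subscheme.basicOpen e := by
      rw [Scheme.preimage_basicOpen, ha]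
    have hpre' : i ⁻¹ᵁ (X.basicOpen (1 - a)) = J.subscheme.basicOpen (1 - e) := by
      rw [Scheme.preimage_basicOpen, map_sub, map_one, ha]
    have hV2 : V2 ⊓ J.subscheme.basicOpen e = ⊥ := by
      have h1 := J.subscheme.basicOpen_res e (homOfLE (hsup ▸ le_sup_right : V2 ≤ i ⁻¹ᵁ U)).op
      rw [he2, Scheme.basicOpen_zero] at h1
      exact h1.symm
    have hV1 : V1 ⊓ J.subscheme.basicOpen (1 - e) = ⊥ := by
      have h1 := J.subscheme.basicOpen_res (1 - e) (homOfLE (hsup ▸ le_sup_left : V1 ≤ i ⁻¹ᵁ U)).op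
      rw [map_sub, map_one, he1, sub_self, Scheme.basicOpen_zero] at h1
      exact h1.symm
    have hle1 : X.basicOpen a ≤ Un := by
      intro y hy
      by_contra hyn
      have hyU : y ∈ U := X.basicOpen_le a hy
      have hyr : y ∈ Set.range i := by rw [hrange]; right; exact subset_closure ⟨hyU, hyn⟩
      obtain ⟨z, rfl⟩ := hyr
      have hz1 : z ∈ J.subscheme.basicOpen e := by rw [← hpre]; exact hy
      have hz2 : z ∈ V2 := by
        rcases hcov' hyU with hz' | hz'
        · exact hz'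
        · exact absurd hz' hyn
      have : z ∈ V2 ⊓ J.subscheme.basicOpen e := ⟨hz2, hz1⟩
      rw [hV2] at this
      exact this
    have hle2 : X.basicOpen (1 - a) ≤ U' := by
      intro y hy
      by_contra hyn
      have hyU : y ∈ U := X.basicOpen_le (1 - a) hy
      have hyr : y ∈ Set.range i := by rw [hrange]; left; exact subset_closure ⟨hyU, hyn⟩
      obtain ⟨z, rfl⟩ := hyr
      have hz1 : z ∈ J.subscheme.basicOpen (1 - e) := by rw [← hpre']; exact hy
      have hz2 : z ∈ V1 := by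
        rcases hcov' hyU with hz' | hz'
        · exact absurd hz' hyn
        · exact hz'
      have : z ∈ V1 ⊓ J.subscheme.basicOpen (1 - e) := ⟨hz2, hz1⟩
      rw [hV1] at this
      exact this
    have haff1 : IsAffineOpen (X.basicOpen a) := by
      have h1 := X.basicOpen_res a (homOfLE hUnU).op
      rw [inf_eq_right.2 hle1] at h1
      rw [← h1]
      exact (hg (Fin.last n)).basicOpen _
    have haff2 : IsAffineOpen (X.basicOpen (1 - a)) := by
      let g'' : Fin n → Γ(X, X.basicOpen (1 - a)) := fun k =>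
        X.presheaf.map (homOfLE (X.basicOpen_le (1 - a))).op (g k.castSucc)
      have hg''open : ∀ k, X.basicOpen (g'' k) = X.basicOpen (1 - a) ⊓ X.basicOpen (g k.castSucc) :=
        fun k => X.basicOpen_res (g k.castSucc) (homOfLE (X.basicOpen_le (1 - a))).op
      refine ih (X.basicOpen (1 - a)) (hqs.of_subset (X.basicOpen_le (1 - a)))
        (clSurj_basicOpen U hc hqs h (1 - a)) g'' ?_ ?_
      · intro k
        rw [hg''open k]
        have h1 := X.basicOpen_res (1 - a) (homOfLE (X.basicOpen_le (g k.castSucc))).op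
        rw [inf_comm, ← h1]
        exact (hg k.castSucc).basicOpen _
      · intro y hy
        obtain ⟨k, hk⟩ := Opens.mem_iSup.1 (hle2 hy)
        refine Opens.mem_iSup.2 ⟨k, ?_⟩
        rw [hg''open k]
        exact ⟨hy, hk⟩
    refine isAffineOpen_of_isAffineOpen_basicOpen U {a, 1 - a} ?_ ?_
    · rw [Ideal.eq_top_iff_one]
      have h1 : a ∈ Ideal.span ({a, 1 - a} : Set Γ(X, U)) := Ideal.subset_span (by simp)
      have h2 : 1 - a ∈ Ideal.span ({a, 1 - a} : Set Γ(X, U)) := Ideal.subset_span (by simp)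
      have := Ideal.add_mem _ h1 h2
      rwa [add_sub_cancel] at this
    · intro r hr
      rcases hr with rfl | hr
      · exact haff1
      · rw [Set.mem_singleton_iff] at hr
        rw [hr]
        exact haff2

/-- **Relative Serre criterion, key lemma**: a quasi-compact quasi-separated open `U` of `X` such that
sections over `U` lift along every closed immersion into `X` is affine. -/
theorem isAffineOpen_of_clSurj (U : X.Opens) (hc : IsCompact (U : Set X))
    (hqs : IsQuasiSeparated (U : Set X)) (h : ClSurj U) : IsAffineOpen U := by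
  obtain ⟨n, g, hg, hcov⟩ := exists_fin_cover U hc h
  exact isAffineOpen_of_clSurj_aux n U hqs h g hg hcov

open Groth.Agent.Lib.Helper23.AffVanish Groth.Agent.Lib.Helper23.QCohLocal
open Groth.Agent.Lib.Helper23.GenLocus

/-- an epimorphism of quasi-coherent modules is surjective on sections over affine opens -/
theorem surjective_app_of_epi_of_isAffineOpen {Y : Scheme.{u}} {M N : Y.Modules} [M.IsQuasicoherent]
    [N.IsQuasicoherent] (π : M ⟶ N) [Epi π] {V : Y.Opens} (hV : IsAffineOpen V) :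
    Function.Surjective (π.app V) := by
  let S : ShortComplex Y.Modules := ShortComplex.mk (kernel.ι π) π (kernel.condition π)
  have hS : S.ShortExact :=
    { exact := ShortComplex.exact_kernel π
      mono_f := inferInstanceAs (Mono (kernel.ι π))
      epi_g := inferInstanceAs (Epi π) }
  have : (kernel π).IsQuasicoherent := isQuasicoherent_kernel π
  exact surjective_app_of_subsingleton_HE S hS V (subsingleton_HE_of_isAffineOpen hV (kernel π) 0)

theorem isQuasiSeparated_preimage {Y : Scheme.{u}} (f : X ⟶ Y) [QuasiSeparated f] {V : Y.Opens}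
    (hV : IsAffineOpen V) : IsQuasiSeparated ((f ⁻¹ᵁ V : X.Opens) : Set X) := by
  haveI : IsAffine (V : Scheme.{u}) := hV
  have h3 : QuasiSeparatedSpace ((f ⁻¹ᵁ V : X.Opens) : Scheme.{u}) :=
    quasiSeparatedSpace_of_quasiSeparated (f ∣_ V)
  exact (isQuasiSeparated_iff_quasiSeparatedSpace _ (f ⁻¹ᵁ V).isOpen).2 h3

/-- relative Serre criterion: if `f_*` preserves the epimorphisms `O_X → i_* O_Z` for closed immersions
`i : Z → X`, then the quasi-compact quasi-separated morphism `f` is affine -/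
theorem isAffineHom_of_epi_push_unitPush {Y : Scheme.{u}} (f : X ⟶ Y) [QuasiCompact f] [QuasiSeparated f]
    (h : ∀ (Z : Scheme.{u}) (i : Z ⟶ X), IsClosedImmersion i →
      Epi ((Scheme.Modules.pushforward f).map (unitPush i))) : IsAffineHom f := by
  refine ⟨fun V hV => ?_⟩
  have hc : IsCompact ((f ⁻¹ᵁ V : X.Opens) : Set X) :=
    QuasiCompact.isCompact_preimage (f := f) _ V.isOpen hV.isCompact
  refine isAffineOpen_of_clSurj _ hc (isQuasiSeparated_preimage f hV) ?_
  intro Z i hi b
  have : (Coh.structureModule Z).IsQuasicoherent := isQuasicoherent_structureModule' Z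
  have : (Coh.structureModule X).IsQuasicoherent := isQuasicoherent_structureModule' X
  have : ((Scheme.Modules.pushforward i).obj (Coh.structureModule Z)).IsQuasicoherent :=
    isQuasicoherent_pushforward i _
  have : ((Scheme.Modules.pushforward f).obj (Coh.structureModule X)).IsQuasicoherent :=
    isQuasicoherent_pushforward f _
  have : ((Scheme.Modules.pushforward f).obj
      ((Scheme.Modules.pushforward i).obj (Coh.structureModule Z))).IsQuasicoherent :=
    isQuasicoherent_pushforward f _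
  have hepi := h Z i hi
  obtain ⟨a, ha⟩ := surjective_app_of_epi_of_isAffineOpen
    ((Scheme.Modules.pushforward f).map (unitPush i)) hV (toS (i ⁻¹ᵁ (f ⁻¹ᵁ V)) b)
  exact ⟨ofS (f ⁻¹ᵁ V) a, congrArg (ofS (i ⁻¹ᵁ (f ⁻¹ᵁ V))) ha⟩

end Groth.Agent.Lib.Helper28.SerreRel
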