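import Mathlib
import Groth.Agent.Lib.Helper28ComplAss
import Groth.Agent.Lib.Helper28ComplQuot
import Groth.Agent.Lib.Helper28ComplQuot2
import Groth.Agent.Lib.Helper5RLR

/-!
# Helper28StrictEquidim: strict equidimensionality of quotients of completions

* `isStrictlyEquidim_quotient_of_associatedPrimes_subset`
* `isStrictlyEquidim_adicCompletion_quotient_of_mem_associatedPrimes`
-/

set_option autoImplicit false
universe u

namespace Groth.Agent.Lib.Helper28.StrictEquidim
open IsLocalRing TensorProduct Groth.Agent.Lib.Helper28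

/-- If `T` is strictly equidimensional, `K` is an ideal, and every associated prime of the
`T`-module `T ⧸ K` is an associated prime of `T`, then `T ⧸ K` is strictly equidimensional. -/
theorem isStrictlyEquidim_quotient_of_associatedPrimes_subset {T : Type u} [CommRing T]
    [IsNoetherianRing T] (K : Ideal T) (hT : EGA4.IsStrictlyEquidim T)
    (hK : associatedPrimes T (T ⧸ K) ⊆ associatedPrimes T T) :
    EGA4.IsStrictlyEquidim (T ⧸ K) := by
  intro Q hQ
  have hQ' := comap_mem_associatedPrimes_of_quotient K Q hQ
  have h1 := hT _ (hK hQ')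
  have hQp : Q.IsPrime := (AssociatedPrimes.mem_iff.mp hQ).isPrime
  have hKle : K ≤ Q.comap (Ideal.Quotient.mk K) := by
    intro x hx
    rw [Ideal.mem_comap, Ideal.Quotient.eq_zero_iff_mem.mpr hx]
    exact Q.zero_mem
  have hmap : (Q.comap (Ideal.Quotient.mk K)).map (Ideal.Quotient.mk K) = Q :=
    Ideal.map_comap_of_surjective _ Ideal.Quotient.mk_surjective Q
  have e : ((T ⧸ K) ⧸ Q) ≃+* (T ⧸ Q.comap (Ideal.Quotient.mk K)) := by
    have := DoubleQuot.quotQuotEquivQuotOfLE hKle
    rwa [hmap] at this
  have h2 : ringKrullDim ((T ⧸ K) ⧸ Q) = ringKrullDim T := by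
    rw [ringKrullDim_eq_of_ringEquiv e, h1]
  apply le_antisymm
  · exact ringKrullDim_quotient_le _
  · rw [h2]
    exact ringKrullDim_quotient_le _

variable (A : Type u) [CommRing A] [IsLocalRing A] [IsNoetherianRing A]

/-- If `Â` is strictly equidimensional and `q` is an associated prime of `A`, then `(A/q)^` is
strictly equidimensional. -/
theorem isStrictlyEquidim_adicCompletion_quotient_of_mem_associatedPrimes
    (hT : EGA4.IsStrictlyEquidim (AdicCompletion (maximalIdeal A) A))
    (q : Ideal A) [q.IsPrime] (hq : q ∈ associatedPrimes A A) :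
    EGA4.IsStrictlyEquidim (AdicCompletion (maximalIdeal (A ⧸ q)) (A ⧸ q)) := by
  have hNT : IsNoetherianRing (AdicCompletion (maximalIdeal A) A) :=
    Groth.Agent.Lib.Helper19.isNoetherianRing_adicCompletion _
  obtain ⟨e, -⟩ := exists_ringEquiv_adicCompletion_quotient (maximalIdeal A) q
  rw [← Groth.Agent.Lib.Helper5.maximalIdeal_quotient_eq_map] at e
  have hNQ : IsNoetherianRing (AdicCompletion (maximalIdeal (A ⧸ q)) (A ⧸ q)) :=
    Groth.Agent.Lib.Helper19.isNoetherianRing_adicCompletion _
  refine isStrictlyEquidim_of_ringEquiv e ?_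
  apply isStrictlyEquidim_quotient_of_associatedPrimes_subset _ hT
  intro Q hQ
  rw [AssociatedPrimes.mem_iff, isAssociatedPrime_iff] at hq
  obtain ⟨-, n, hn⟩ := hq
  have hker : LinearMap.ker (LinearMap.toSpanSingleton A A n) = q := by
    ext r
    rw [hn, LinearMap.mem_ker, LinearMap.toSpanSingleton_apply, Submodule.mem_colon_singleton,
      Submodule.mem_bot]
  have h1 := mem_associatedPrimes_tensor_of_mem_associatedPrimes_quotient (A := A)
    (AdicCompletion (maximalIdeal A) A) n Q (by rw [hker]; exact hQ)
  rwa [LinearEquiv.AssociatedPrimes.eq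
    (TensorProduct.AlgebraTensorModule.rid A (AdicCompletion (maximalIdeal A) A)
      (AdicCompletion (maximalIdeal A) A))] at h1

end Groth.Agent.Lib.Helper28.StrictEquidim
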