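import Mathlib
import Groth.Agent.Lib.Helper28BigOpen
import Groth.Agent.Lib.Helper23QCohAbelian
import Groth.Agent.Lib.Helper23FinTypeLocal
import Groth.Agent.Lib.Helper1PC10

/-!
# Finite type submodules of quasi-coherent modules; `F** = j_* j^* F` over the flat locus (helper28)

Namespace `Groth.Agent.Lib.Helper28.SubQCoh`.

* `isQuasicoherent_of_mono_of_isFT`: a submodule of finite type of a quasi-coherent module is quasi-coherent.
* `isReflexiveAt_structureModule`, `isReflexiveAt_homSh`, `isReflexiveAt_ddual`: pointwise reflexivity of sheaf Homs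
  at points whose local ring is a domain.
* `injective_stalkMapₗ_of_mono`.
* `exists_ddual_iso_push` (S16486).
-/

set_option autoImplicit false
universe u v
open CategoryTheory Limits AlgebraicGeometry TopologicalSpace Opposite

namespace Groth.Agent.Lib.Helper28.SubQCoh

open Groth.Agent.Lib.Helper23.FinType Groth.Agent.Lib.Helper23.QCohLocal
  Groth.Agent.Lib.Helper28.HomSh Groth.Agent.Lib.Helper28.ReflNormal Groth.Agent.Lib.Helper28.BigOpen
  Groth.Agent.Lib.Helper28.ReflLoc

variable {X : Scheme.{u}}

/-- a sub-module of finite type of a quasi-coherent module is quasi-coherent. -/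
theorem isQuasicoherent_of_mono_of_isFT {F A : X.Modules} (ι : F ⟶ A) [Mono ι] [A.IsQuasicoherent]
    (hF : CohB1.IsFT F) : F.IsQuasicoherent := by
  haveI := hF
  obtain ⟨I, U, G, hG, hU, -⟩ := exists_isOpenCover_generatingSections F
  refine isQuasicoherent_of_open_cover F U hU fun i => ?_
  haveI := (hG i).finite
  let π : (SheafOfModules.free (R := ((U i : X.Opens) : Scheme.{u}).ringCatSheaf) (G i).I :
      ((U i : X.Opens) : Scheme.{u}).Modules) ⟶ F.restrict (U i).ι := (G i).π
  haveI hπ : Epi π := (G i).epi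
  let m : F.restrict (U i).ι ⟶ A.restrict (U i).ι := (Scheme.Modules.restrictFunctor (U i).ι).map ι
  have hm : Mono m := inferInstance
  haveI : (SheafOfModules.free (R := ((U i : X.Opens) : Scheme.{u}).ringCatSheaf) (G i).I :
      ((U i : X.Opens) : Scheme.{u}).Modules).IsQuasicoherent := by
    obtain ⟨n, ⟨e⟩⟩ := Finite.exists_equiv_fin (G i).I
    let e' : (G i).I ≃ ULift.{u} (Fin n) := e.trans Equiv.ulift.symm
    let iso : (SheafOfModules.free (R := ((U i : X.Opens) : Scheme.{u}).ringCatSheaf) (G i).I :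
        ((U i : X.Opens) : Scheme.{u}).Modules) ≅ FlatMod.freeMod ((U i : X.Opens) : Scheme.{u}) n :=
      (SheafOfModules.freeFunctor (R := ((U i : X.Opens) : Scheme.{u}).ringCatSheaf)).mapIso
        (Equiv.toIso e') ≪≫ (Groth.Agent.Lib.Helper20.LocFree.freeModIsoFree _ n).symm
    exact Groth.Agent.Lib.Helper26.Glue.isQuasicoherent_of_iso iso.symm inferInstance
  haveI : (A.restrict (U i).ι).IsQuasicoherent :=
    Groth.Agent.Lib.Helper26.Glue.isQuasicoherent_restrict (U i).ι A
  haveI : (cokernel (π ≫ m)).IsQuasicoherent := isQuasicoherent_cokernel (π ≫ m)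
  haveI h2 : (kernel (cokernel.π (π ≫ m))).IsQuasicoherent := isQuasicoherent_kernel _
  have hse : StrongEpi π := strongEpi_of_epi π
  let e1 : F.restrict (U i).ι ≅ image (π ≫ m) :=
    @image.isoStrongEpiMono _ _ _ _ _ (π ≫ m) _ π m rfl hse hm
  let e : F.restrict (U i).ι ≅ kernel (cokernel.π (π ≫ m)) :=
    e1 ≪≫ (Abelian.imageIsoImage (π ≫ m)).symm
  exact Groth.Agent.Lib.Helper26.Glue.isQuasicoherent_of_iso e.symm h2


theorem isReflexiveAt_structureModule (x : X) :
    RefHull.IsReflexiveAt (Coh.structureModule X) x := by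
  have e := Groth.Agent.Lib.Helper23.UnitStalk.unitStalkEquiv x
  haveI : Module.Free (X.presheaf.stalk x) ((Coh.structureModule X).presheaf.stalk x) :=
    Module.Free.of_equiv e
  haveI : Module.Finite (X.presheaf.stalk x) ((Coh.structureModule X).presheaf.stalk x) :=
    Module.Finite.equiv e
  change Module.IsReflexive _ _
  infer_instance

theorem isReflexiveAt_homSh [IsLocallyNoetherian X] (F G : X.Modules) (hF : Coh.IsCoh F)
    (hG : Coh.IsCoh G) (x : X) [IsDomain (X.presheaf.stalk x)] (hGx : RefHull.IsReflexiveAt G x) :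
    RefHull.IsReflexiveAt (RefHull.homSh F G) x := by
  haveI := finite_stalk_of_isCoh F hF x
  haveI := finite_stalk_of_isCoh G hG x
  haveI : Module.IsReflexive (X.presheaf.stalk x) (G.presheaf.stalk x) := hGx
  haveI := isReflexive_linearMap (X.presheaf.stalk x) (F.presheaf.stalk x) (G.presheaf.stalk x)
  exact Module.equiv (LinearEquiv.ofBijective (RefHull.evalStalk F G x)
    (evalStalk_bijective_of_isCoh F G hF x)).symm

theorem isReflexiveAt_ddual [IsLocallyNoetherian X] (F : X.Modules) (hF : Coh.IsCoh F) (x : X)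
    [IsDomain (X.presheaf.stalk x)] : RefHull.IsReflexiveAt (RefHull.ddual F) x :=
  isReflexiveAt_homSh _ _ (isCoh_homSh F _ hF (isCoh_structureModule' X)) (isCoh_structureModule' X) x
    (isReflexiveAt_structureModule x)

theorem injective_stalkMapₗ_of_mono {F A : X.Modules} (ι : F ⟶ A) [Mono ι] (x : X) :
    Function.Injective (RefHull.stalkMapₗ ι x) :=
  TopCat.Presheaf.stalkFunctor_map_injective_of_app_injective (f := ι.mapPresheaf)
    (fun U => Groth.Agent.Lib.Helper20.StalkExact.injective_app_of_mono ι U) x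

/-- S16486. -/
theorem exists_ddual_iso_push [IsNoetherian X] (hS : Pi1.IsNormalScheme X) (A F : X.Modules)
    (hA : Coh.IsQCoh A) (hAfl : FlatMod.IsFlat A) (ι : F ⟶ A) [Mono ι] (hF : CohB1.IsFT F)
    (U : X.Opens) (hU : (U : Set X) = {s : X | FlatMod.IsFlatAt F s}) :
    ∃ e : RefHull.ddual F ≅ (Scheme.Modules.pushforward U.ι).obj (F.restrict U.ι),
      RefHull.bidualMap F ≫ e.hom = (Scheme.Modules.restrictAdjunction U.ι).unit.app F := by
  haveI : A.IsQuasicoherent := hA
  haveI hq : F.IsQuasicoherent := isQuasicoherent_of_mono_of_isFT ι hF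
  have hc : Coh.IsCoh F := ⟨hq, hF⟩
  have hmem : ∀ x : X, x ∈ U ↔ FlatMod.IsFlatAt F x := by
    intro x
    change x ∈ (U : Set X) ↔ _
    rw [hU]; rfl
  -- torsion-freeness of the stalks of `F`
  have htf : ∀ x : X, Module.IsTorsionFree (X.presheaf.stalk x) (F.presheaf.stalk x) := by
    intro x
    haveI : Module.Flat (X.presheaf.stalk x) (A.presheaf.stalk x) := hAfl x
    exact (injective_stalkMapₗ_of_mono ι x).moduleIsTorsionFree _ (fun r v => map_smul _ r v)
  have hdepth : ∀ x : X, x ∉ U →
      (2 : ℕ∞) ≤ LocCoh.depth (X.presheaf.stalk x) (X.presheaf.stalk x) := by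
    intro x hx
    haveI : IsDomain (X.presheaf.stalk x) := (hS x).1
    haveI : IsIntegrallyClosed (X.presheaf.stalk x) := (hS x).2
    apply Groth.Agent.Lib.Helper28.two_le_depth_of_isIntegrallyClosed_of_two_le_dim
    by_contra hdim
    apply hx
    rw [hmem]
    haveI := finite_stalk_of_isCoh F hc x
    haveI := htf x
    haveI : Module.Free (X.presheaf.stalk x) (F.presheaf.stalk x) :=
      free_of_isTorsionFree_of_dim_lt_two _ hdim _
    change Module.Flat (X.presheaf.stalk x) (F.presheaf.stalk x)
    infer_instance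
  have ha : IsIso ((Scheme.Modules.restrictFunctor U.ι).map (RefHull.bidualMap F)) := by
    refine isIso_restrict_bidualMap F hc U fun x hx => ?_
    haveI := finite_stalk_of_isCoh F hc x
    haveI : Module.Flat (X.presheaf.stalk x) (F.presheaf.stalk x) := (hmem x).1 hx
    haveI : Module.Free (X.presheaf.stalk x) (F.presheaf.stalk x) :=
      Module.free_of_flat_of_isLocalRing
    change Module.IsReflexive _ _
    infer_instance
  have hb : IsIso ((Scheme.Modules.restrictAdjunction U.ι).unit.app (RefHull.ddual F)) := by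
    refine isIso_unit_of_isReflexiveAt _ (isCoh_ddual F hc) U hdepth fun x _ => ?_
    haveI : IsDomain (X.presheaf.stalk x) := (hS x).1
    exact isReflexiveAt_ddual F hc x
  obtain ⟨⟨ψ, hψ, -⟩, hiso⟩ :=
    Groth.Agent.Lib.Helper20.ZClosLib.push_restrict_universal U (RefHull.bidualMap F) ha hb
  haveI := hiso ψ hψ
  exact ⟨asIso ψ, hψ⟩

end Groth.Agent.Lib.Helper28.SubQCoh
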