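import Groth.Agent.Lib.Helper28Hull2
import Groth.Agent.Lib.Helper5LocalFlat2

/-!
# Symbolic powers under flat extensions (helper28)

* `mem_comap_map_localization_iff`: `x ∈ Y R_p ∩ R ↔ ∃ s ∉ p, s x ∈ Y`;
* `mk_mem_map_smul_top_iff`: `y/s ∈ I M_p ↔ ∃ s' ∉ p, s' y ∈ I M`;
* `mem_of_algebraMap_mem_map_of_flat`: `pS ∩ R = p` for flat `R → S` with `pS ≠ S`;
* `exists_notMem_smul_mem_pow_smul_top`: if `pS` is prime, `t ∉ pS` and `t y ∈ p^n S` then
  `s y ∈ p^n S` for some `s ∈ R ∖ p` (dévissage over `R_p / p^n R_p`, helper5's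
  `lTensor_injective_of_pow_smul_top_eq_bot`).
-/

set_option autoImplicit false
universe u v w u' v'

namespace Groth.Agent.Lib.Helper28
open RingTheory.Sequence CategoryTheory Abelian TensorProduct
open scoped Pointwise

section SymbolicPower

variable {R : Type u} [CommRing R] (p : Ideal R) [p.IsPrime]

/-- Membership in the symbolic power `p^(n) = p^n R_p ∩ R`. -/
theorem mem_comap_map_localization_iff (Y : Ideal R) (x : R) :
    x ∈ (Y.map (algebraMap R (Localization.AtPrime p))).comap
        (algebraMap R (Localization.AtPrime p)) ↔ ∃ s, s ∉ p ∧ s * x ∈ Y := by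
  constructor
  · intro h
    exact exists_notMem_mul_mem_of_algebraMap_mem_map p Y x h
  · rintro ⟨s, hs, hsx⟩
    rw [Ideal.mem_comap]
    have hu : IsUnit (algebraMap R (Localization.AtPrime p) s) :=
      IsLocalization.map_units _ (⟨s, hs⟩ : p.primeCompl)
    rw [← Ideal.unit_mul_mem_iff_mem _ hu, ← map_mul]
    exact Ideal.mem_map_of_mem _ hsx

/-- `I M_p`-membership of fractions, for a module `M`. -/
theorem mk_mem_map_smul_top_iff (I : Ideal R) {M : Type v} [AddCommGroup M] [Module R M]
    (y : M) (s : p.primeCompl) :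
    LocalizedModule.mk y s ∈ (I.map (algebraMap R (Localization.AtPrime p))) •
        (⊤ : Submodule (Localization.AtPrime p) (LocalizedModule p.primeCompl M)) ↔
      ∃ s', s' ∉ p ∧ s' • y ∈ I • (⊤ : Submodule R M) := by
  rw [← localized'_smul_top p.primeCompl (Localization.AtPrime p)
    (LocalizedModule.mkLinearMap p.primeCompl M) I, Submodule.mem_localized']
  constructor
  · rintro ⟨m, hm, s'', hms⟩
    rw [IsLocalizedModule.mk_eq_mk', IsLocalizedModule.mk'_eq_mk'_iff] at hms
    obtain ⟨c, hc⟩ := hms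
    refine ⟨(c : R) * (s'' : R), ?_, ?_⟩
    · intro hmem
      rcases Ideal.IsPrime.mem_or_mem inferInstance hmem with h | h
      · exact c.2 h
      · exact s''.2 h
    · have : ((c : R) * (s'' : R)) • y = (c : R) • (s : R) • m := by
        rw [mul_smul]
        simpa [Submonoid.smul_def] using hc
      rw [this]
      exact Submodule.smul_mem _ _ (Submodule.smul_mem _ _ hm)
  · rintro ⟨s', hs', hsy⟩
    refine ⟨s' • y, hsy, ⟨s', hs'⟩ * s, ?_⟩
    rw [IsLocalizedModule.mk_eq_mk', IsLocalizedModule.mk'_eq_mk'_iff]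
    refine ⟨1, ?_⟩
    simp only [one_smul, Submonoid.smul_def, mul_smul]
    rw [smul_comm]

end SymbolicPower


section SymbolicFlat

variable {R S : Type u} [CommRing R] [CommRing S] [Algebra R S] [Module.Flat R S]
  (p : Ideal R) [p.IsPrime]

/-- For flat `R → S` with `pS ≠ S`: `pS ∩ R = p`. -/
theorem mem_of_algebraMap_mem_map_of_flat (hq : p.map (algebraMap R S) ≠ ⊤) (s : R)
    (hs : algebraMap R S s ∈ p.map (algebraMap R S)) : s ∈ p := by
  by_contra hsp
  have h1 : s • (1 : S) ∈ p • (⊤ : Submodule R S) := by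
    rw [Ideal.smul_top_eq_map, Submodule.restrictScalars_mem, Algebra.smul_def, mul_one]
    exact hs
  have h2 := mem_colon_smul_top_of_flat p s (1 : S) h1
  have hcolon : (Submodule.colon p {s} : Ideal R) ≤ p := by
    intro r hr
    rw [Submodule.mem_colon_singleton, smul_eq_mul] at hr
    rcases Ideal.IsPrime.mem_or_mem inferInstance hr with h | h
    · exact h
    · exact absurd h hsp
  have h3 : (1 : S) ∈ p • (⊤ : Submodule R S) := Submodule.smul_mono_left hcolon h2
  rw [Ideal.smul_top_eq_map, Submodule.restrictScalars_mem] at h3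
  exact hq ((Ideal.eq_top_iff_one _).mpr h3)

variable [hqp : (p.map (algebraMap R S)).IsPrime]

/-- Key step: elements outside `pS` are non-zero-divisors modulo `p^n S`, up to `R ∖ p`. -/
theorem exists_notMem_smul_mem_pow_smul_top (n : ℕ) (t y : S)
    (ht : t ∉ p.map (algebraMap R S)) (hty : t * y ∈ (p ^ n) • (⊤ : Submodule R S)) :
    ∃ s, s ∉ p ∧ s • y ∈ (p ^ n) • (⊤ : Submodule R S) := by
  let u : LocalizedModule p.primeCompl S →ₗ[Localization.AtPrime p] LocalizedModule p.primeCompl S :=
    LocalizedModule.map p.primeCompl (LinearMap.mulLeft R t)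
  have hu : ∀ (y : S) (s : p.primeCompl), u (LocalizedModule.mk y s) = LocalizedModule.mk (t * y) s := by
    intro y s
    simp only [u, LocalizedModule.map_mk, LinearMap.mulLeft_apply]
  have hm : IsLocalRing.maximalIdeal (Localization.AtPrime p) =
      p.map (algebraMap R (Localization.AtPrime p)) :=
    (Localization.AtPrime.map_eq_maximalIdeal).symm
  have h : Function.Injective (u.lTensor (Localization.AtPrime p ⧸
      IsLocalRing.maximalIdeal (Localization.AtPrime p))) := by
    rw [Groth.Agent.Lib.Helper5.lTensor_quotient_injective_iff]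
    intro z hz
    induction z using LocalizedModule.induction_on with
    | h y s =>
      rw [hu, hm, mk_mem_map_smul_top_iff] at hz
      obtain ⟨s', hs', hsy⟩ := hz
      rw [hm, mk_mem_map_smul_top_iff]
      refine ⟨1, fun h1 => (inferInstance : p.IsPrime).ne_top ((Ideal.eq_top_iff_one _).mpr h1), ?_⟩
      rw [one_smul, Ideal.smul_top_eq_map, Submodule.restrictScalars_mem]
      rw [Ideal.smul_top_eq_map, Submodule.restrictScalars_mem, Algebra.smul_def, ← mul_assoc] at hsy
      rcases hqp.mem_or_mem hsy with h1 | h1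
      · rcases hqp.mem_or_mem h1 with h2 | h2
        · exact absurd (mem_of_algebraMap_mem_map_of_flat p hqp.ne_top s' h2) hs'
        · exact absurd h2 ht
      · exact h1
  have hQ : IsLocalRing.maximalIdeal (Localization.AtPrime p) ^ n •
      (⊤ : Submodule (Localization.AtPrime p) (Localization.AtPrime p ⧸
        IsLocalRing.maximalIdeal (Localization.AtPrime p) ^ n)) = ⊥ := by
    rw [eq_bot_iff]
    refine Submodule.smul_le.mpr ?_
    intro a ha z _
    obtain ⟨z, rfl⟩ := Submodule.Quotient.mk_surjective _ z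
    rw [← Submodule.Quotient.mk_smul, Submodule.mem_bot, Submodule.Quotient.mk_eq_zero,
      smul_eq_mul]
    exact Ideal.mul_mem_right _ _ ha
  have hinj := Groth.Agent.Lib.Helper5.lTensor_injective_of_pow_smul_top_eq_bot u h n
    (Localization.AtPrime p ⧸ IsLocalRing.maximalIdeal (Localization.AtPrime p) ^ n) hQ
  rw [Groth.Agent.Lib.Helper5.lTensor_quotient_injective_iff] at hinj
  have h1 := hinj (LocalizedModule.mk y 1) (by
    rw [hu, hm, ← Ideal.map_pow, mk_mem_map_smul_top_iff]
    refine ⟨1, fun h1 => (inferInstance : p.IsPrime).ne_top ((Ideal.eq_top_iff_one _).mpr h1), ?_⟩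
    rw [one_smul]
    exact hty)
  rw [hm, ← Ideal.map_pow, mk_mem_map_smul_top_iff] at h1
  exact h1

end SymbolicFlat

end Groth.Agent.Lib.Helper28
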