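/-
helper28: truncations of adic completions, universal property of restricted power series,
intersections of f.g. ideals in coherent rings.
-/
import Groth.Agent.Lib.Helper28TateCompl3

set_option autoImplicit false

namespace Groth.Agent.Lib.Helper28.TateTrunc

universe u

section general

variable {P : Type*} [CommRing P] (J : Ideal P)

theorem mem_map_pow_iff_eval (hJ : J.FG) (k : ℕ) (x : AdicCompletion J P) :
    x ∈ (J ^ k).map (algebraMap P (AdicCompletion J P)) ↔ AdicCompletion.eval J P k x = 0 := by
  rw [← LinearMap.mem_ker, ← AdicCompletion.pow_smul_top_eq_ker_eval hJ]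
  have h := Ideal.smul_top_eq_map (R := P) (S := AdicCompletion J P) (J ^ k)
  rw [h]
  rfl

theorem exists_sub_mem_map_pow (hJ : J.FG) (k : ℕ) (x : AdicCompletion J P) :
    ∃ p : P, x - algebraMap P (AdicCompletion J P) p ∈
      (J ^ k).map (algebraMap P (AdicCompletion J P)) := by
  obtain ⟨y, hy⟩ := Submodule.Quotient.mk_surjective _ (AdicCompletion.eval J P k x)
  refine ⟨y, ?_⟩
  rw [mem_map_pow_iff_eval J hJ, map_sub, AdicCompletion.algebraMap_apply,
    Algebra.algebraMap_self_apply, AdicCompletion.eval_of, Submodule.mkQ_apply, hy, sub_self]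

theorem mem_pow_of_algebraMap_mem (hJ : J.FG) (k : ℕ) (p : P)
    (h : algebraMap P (AdicCompletion J P) p ∈ (J ^ k).map (algebraMap P (AdicCompletion J P))) :
    p ∈ J ^ k := by
  rw [mem_map_pow_iff_eval J hJ, AdicCompletion.algebraMap_apply,
    Algebra.algebraMap_self_apply, AdicCompletion.eval_of, Submodule.mkQ_apply,
    Submodule.Quotient.mk_eq_zero, smul_eq_mul, Ideal.mul_top] at h
  exact h

/-- Contraction to `P` of a f.g. ideal of the completion containing `J^k`. -/
theorem fg_comap_of_fg (hJ : J.FG) (k : ℕ) (K : Ideal (AdicCompletion J P)) (hK : K.FG)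
    (hle : (J ^ k).map (algebraMap P (AdicCompletion J P)) ≤ K) :
    (K.comap (algebraMap P (AdicCompletion J P))).FG := by
  classical
  set ι := algebraMap P (AdicCompletion J P) with hι
  obtain ⟨s, hs⟩ := hK
  have happ : ∀ g : AdicCompletion J P, ∃ p : P, g - ι p ∈ (J ^ k).map ι :=
    fun g => exists_sub_mem_map_pow J hJ k g
  choose ap hap using happ
  have h1 : K.comap ι = Ideal.span ((s.image ap : Finset P) : Set P) ⊔ J ^ k := by
    apply le_antisymm
    · intro p hp
      have hp' : ι p ∈ Ideal.span (s : Set (AdicCompletion J P)) := by rw [hs]; exact hp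
      -- every element of span s is congruent to ι of an element of span (ap '' s)
      have key : ∀ x ∈ Ideal.span (s : Set (AdicCompletion J P)),
          ∃ q ∈ Ideal.span ((s.image ap : Finset P) : Set P), x - ι q ∈ (J ^ k).map ι := by
        intro x hx
        refine Submodule.span_induction ?_ ?_ ?_ ?_ hx
        · intro g hg
          exact ⟨ap g, Ideal.subset_span (by simpa using ⟨g, hg, rfl⟩), hap g⟩
        · exact ⟨0, Ideal.zero_mem _, by simp⟩
        · rintro x y _ _ ⟨q1, hq1, h1⟩ ⟨q2, hq2, h2⟩
          refine ⟨q1 + q2, Ideal.add_mem _ hq1 hq2, ?_⟩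
          have : x + y - ι (q1 + q2) = (x - ι q1) + (y - ι q2) := by rw [map_add]; ring
          rw [this]
          exact Ideal.add_mem _ h1 h2
        · rintro b x _ ⟨q, hq, h1⟩
          refine ⟨ap b * q, Ideal.mul_mem_left _ _ hq, ?_⟩
          have : b • x - ι (ap b * q) = b * (x - ι q) + (b - ι (ap b)) * ι q := by
            rw [map_mul, smul_eq_mul]; ring
          rw [this]
          exact Ideal.add_mem _ (Ideal.mul_mem_left _ _ h1) (Ideal.mul_mem_right _ _ (hap b))
      obtain ⟨q, hq, hpq⟩ := key _ hp'
      have h2 : p - q ∈ J ^ k := by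
        apply mem_pow_of_algebraMap_mem J hJ k
        rw [map_sub]
        exact hpq
      have : p = q + (p - q) := by ring
      rw [this]
      exact Submodule.add_mem_sup hq h2
    · apply sup_le
      · rw [Ideal.span_le]
        intro q hq
        simp only [Finset.coe_image, Set.mem_image, Finset.mem_coe] at hq
        obtain ⟨g, hg, rfl⟩ := hq
        change ι (ap g) ∈ K
        have h3 : g ∈ K := by rw [← hs]; exact Ideal.subset_span hg
        have h4 : ι (ap g) = g - (g - ι (ap g)) := by ring
        rw [h4]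
        exact K.sub_mem h3 (hle (hap g))
      · intro p hp
        exact hle (Ideal.mem_map_of_mem _ hp)
  rw [h1]
  exact Submodule.FG.sup ⟨_, rfl⟩ (hJ.pow)

end general

section coherent

theorem fg_inf_of_fp {C : Type*} [CommRing C]
    (h : ∀ J : Ideal C, J.FG → Module.FinitePresentation C J) (K L : Ideal C)
    (hK : K.FG) (hL : L.FG) : (K ⊓ L).FG := by
  have hKfin : Module.Finite C K := Module.Finite.iff_fg.mpr hK
  have hLfin : Module.Finite C L := Module.Finite.iff_fg.mpr hL
  have hSfp : Module.FinitePresentation C (K ⊔ L : Ideal C) := h _ (Submodule.FG.sup hK hL)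
  let ψ : (K × L) →ₗ[C] (K ⊔ L : Ideal C) :=
    LinearMap.codRestrict (K ⊔ L : Ideal C)
      (LinearMap.coprod K.subtype (-L.subtype)) (by
        rintro ⟨x, y⟩
        simp only [LinearMap.coprod_apply, Submodule.subtype_apply, LinearMap.neg_apply]
        exact Submodule.add_mem _ (Ideal.mem_sup_left x.2) (Ideal.neg_mem_iff _ |>.mpr
          (Ideal.mem_sup_right y.2)))
  have hψ : Function.Surjective ψ := by
    rintro ⟨s, hs⟩
    obtain ⟨x, hx, y, hy, rfl⟩ := Submodule.mem_sup.mp hs
    refine ⟨(⟨x, hx⟩, ⟨-y, L.neg_mem hy⟩), ?_⟩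
    apply Subtype.ext
    simp [ψ]
  have hker : (LinearMap.ker ψ).FG := Module.FinitePresentation.fg_ker ψ hψ
  have himg : K ⊓ L = Submodule.map (K.subtype ∘ₗ LinearMap.fst C K L) (LinearMap.ker ψ) := by
    ext z
    constructor
    · rintro ⟨hzK, hzL⟩
      refine ⟨(⟨z, hzK⟩, ⟨z, hzL⟩), ?_, rfl⟩
      rw [SetLike.mem_coe, LinearMap.mem_ker]
      apply Subtype.ext
      simp [ψ]
    · rintro ⟨⟨x, y⟩, hxy, rfl⟩
      rw [SetLike.mem_coe, LinearMap.mem_ker] at hxy
      have h1 : (x : C) + -(y : C) = 0 := by
        have := congrArg Subtype.val hxy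
        simpa [ψ] using this
      have h2 : (x : C) = y := by
        rw [← sub_eq_zero, sub_eq_add_neg]
        exact h1
      refine ⟨x.2, ?_⟩
      change (x : C) ∈ L
      rw [h2]
      exact y.2
  rw [himg]
  exact hker.map _

end coherent

section universal

open AdicRing MvPolynomial

variable (R : Type u) [CommRing R] (I : Ideal R) (A : Type u) [CommRing A] [Algebra R A]

theorem map_aeval_le {n : ℕ} (a : Fin n → A) :
    (I.map (C : R →+* MvPolynomial (Fin n) R)).map (aeval a : MvPolynomial (Fin n) R →ₐ[R] A) ≤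
      I.map (algebraMap R A) := by
  rw [Ideal.map_le_iff_le_comap, Ideal.map_le_iff_le_comap]
  intro r hr
  simp only [Ideal.mem_comap]
  have h1 : (aeval a : MvPolynomial (Fin n) R →ₐ[R] A) (C r) = algebraMap R A r := aeval_C _ r
  rw [h1]
  exact Ideal.mem_map_of_mem _ hr

variable [IsAdicComplete (I.map (algebraMap R A)) A]

/-- Universal property of restricted power series: lift of a tuple in a complete algebra. -/
noncomputable def liftRPow {n : ℕ} (a : Fin n → A) : RPow R I n →ₐ[R] A :=
  ((AdicCompletion.ofAlgEquiv (I.map (algebraMap R A))).symm.toAlgHom.restrictScalars R).comp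
    (TateCompl.complMap (I.map (C : R →+* MvPolynomial (Fin n) R)) (I.map (algebraMap R A))
      (aeval a) (map_aeval_le R I A a))

theorem liftRPow_algebraMap {n : ℕ} (a : Fin n → A) (p : MvPolynomial (Fin n) R) :
    liftRPow R I A a (algebraMap (MvPolynomial (Fin n) R) (RPow R I n) p) = aeval a p := by
  simp only [liftRPow, AlgHom.comp_apply]
  rw [TateCompl.complMap_of]
  simp only [AlgHom.restrictScalars_apply]
  rw [AdicCompletion.algebraMap_apply, Algebra.algebraMap_self_apply]
  exact AdicCompletion.ofAlgEquiv_symm_of _ _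

theorem liftRPow_surjective (hI : I.FG) {n : ℕ} (a : Fin n → A)
    (h : ∀ x : A, ∃ p : MvPolynomial (Fin n) R, x - aeval a p ∈ I.map (algebraMap R A)) :
    Function.Surjective (liftRPow R I A a) := by
  have hc : IsAdicComplete I (RPow R I n) := TateCompl.isAdicComplete_rPow R I hI n
  have hc' : IsAdicComplete (I.map (algebraMap R (RPow R I n))) (RPow R I n) :=
    (IsAdicComplete.map_algebraMap_iff (R := R) (S := RPow R I n) I (RPow R I n)).mpr hc
  have hmap : (I.map (algebraMap R (RPow R I n))).map (liftRPow R I A a).toRingHom =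
      I.map (algebraMap R A) := by
    rw [Ideal.map_map]
    congr 1
    ext r
    simp
  have hH : IsHausdorff ((I.map (algebraMap R (RPow R I n))).map (liftRPow R I A a).toRingHom) A := by
    rw [hmap]
    infer_instance
  have := surjective_of_mk_map_comp_surjective (I := I.map (algebraMap R (RPow R I n)))
    (liftRPow R I A a).toRingHom (by
      intro xbar
      obtain ⟨x, rfl⟩ := Ideal.Quotient.mk_surjective xbar
      obtain ⟨p, hp⟩ := h x
      refine ⟨algebraMap _ _ p, ?_⟩
      change Ideal.Quotient.mk _ ((liftRPow R I A a) (algebraMap _ _ p)) = Ideal.Quotient.mk _ x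
      rw [liftRPow_algebraMap, eq_comm, Ideal.Quotient.eq, hmap]
      exact hp)
  exact this

end universal

end Groth.Agent.Lib.Helper28.TateTrunc
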