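import Groth.Agent.Lib.Helper28TateCLoc
import Groth.Agent.S11530

/-!
# Complete localizations, II: truncations of `A⟨f⁻¹⟩` are localizations of truncations (helper28)
-/

set_option autoImplicit false
universe u
open AdicRing TensorProduct MvPolynomial

namespace Groth.Agent.Lib.Helper28.TateCLoc

section quot1

variable (R : Type u) [CommRing R] (I : Ideal R) (A : Type u) [CommRing A] [Algebra R A] (f : A)
  (k : ℕ)

theorem map_le_comap_cLoc (J : Ideal R) :
    J.map (algebraMap R A) ≤ (J.map (algebraMap R (CLoc I f))).comap (algebraMap A (CLoc I f)) := by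
  rw [← Ideal.map_le_iff_le_comap, map_cLoc_eq']

/-- the ring map `A / I^k A → A⟨f⁻¹⟩ / I^k A⟨f⁻¹⟩` -/
noncomputable def qMap : A ⧸ (I ^ k).map (algebraMap R A) →+*
    CLoc I f ⧸ (I ^ k).map (algebraMap R (CLoc I f)) :=
  Ideal.quotientMap _ (algebraMap A (CLoc I f)) (map_le_comap_cLoc R I A f (I ^ k))

theorem qMap_mk (a : A) : qMap R I A f k (Ideal.Quotient.mk _ a) =
    Ideal.Quotient.mk _ (algebraMap A (CLoc I f) a) := rfl

theorem isLocalization_away_quot (hI : I.FG) :
    @IsLocalization.Away (A ⧸ (I ^ k).map (algebraMap R A)) _ (Ideal.Quotient.mk _ f)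
      (CLoc I f ⧸ (I ^ k).map (algebraMap R (CLoc I f))) _ (qMap R I A f k).toAlgebra := by
  let _ : Algebra (A ⧸ (I ^ k).map (algebraMap R A))
      (CLoc I f ⧸ (I ^ k).map (algebraMap R (CLoc I f))) := (qMap R I A f k).toAlgebra
  have h := IsLocalization.of_surjective (Submonoid.powers f) (Localization.Away f)
    (Ideal.Quotient.mk ((I ^ k).map (algebraMap R A))) Ideal.Quotient.mk_surjective
    ((Ideal.Quotient.mk ((I ^ k).map (algebraMap R (CLoc I f)))).comp
      (algebraMap (Localization.Away f) (CLoc I f))) ?_ ?_ ?_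
  · rw [Submonoid.map_powers] at h
    exact h
  · intro yb
    obtain ⟨y, rfl⟩ := Ideal.Quotient.mk_surjective yb
    obtain ⟨x, hx⟩ := TateTrunc.exists_sub_mem_map_pow
      (I.map (algebraMap R (Localization.Away f))) (hI.map _) k y
    refine ⟨x, ?_⟩
    rw [← Ideal.map_pow, map_cLoc_eq] at hx
    exact (Ideal.Quotient.eq.mpr hx).symm
  · ext a
    simp only [RingHom.comp_apply]
    rw [← IsScalarTower.algebraMap_apply]
    rfl
  · intro x hx
    rw [RingHom.mem_ker, RingHom.comp_apply, Ideal.Quotient.eq_zero_iff_mem,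
      ← map_cLoc_eq, Ideal.map_pow] at hx
    have h1 := TateTrunc.mem_pow_of_algebraMap_mem _ (hI.map _) k x hx
    rw [Ideal.mk_ker, map_away_eq, Ideal.map_pow]
    exact h1

end quot1

section quot2

variable (R : Type u) [CommRing R] (I : Ideal R) (A : Type u) [CommRing A] [Algebra R A]

theorem topFiniteType_of_finiteType_quot [IsAdicComplete (I.map (algebraMap R A)) A] (hI : I.FG)
    (h : Algebra.FiniteType R (A ⧸ (I ^ 1).map (algebraMap R A))) : TopFiniteType R I A := by
  obtain ⟨n, g, hg⟩ := Algebra.FiniteType.iff_quotient_mvPolynomial''.mp h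
  have hl : ∀ i : Fin n, ∃ a : A, Ideal.Quotient.mk _ a = g (X i) :=
    fun i => Ideal.Quotient.mk_surjective _
  choose a ha using hl
  refine topFiniteType_of_gens R I A hI a (fun x => ?_)
  obtain ⟨p, hp⟩ := hg (Ideal.Quotient.mk _ x)
  refine ⟨p, ?_⟩
  have key : g = (Ideal.Quotient.mkₐ R ((I ^ 1).map (algebraMap R A))).comp (aeval a) := by
    apply MvPolynomial.algHom_ext
    intro i
    simp only [AlgHom.comp_apply, aeval_X, Ideal.Quotient.mkₐ_eq_mk]
    exact (ha i).symm
  rw [key, AlgHom.comp_apply, Ideal.Quotient.mkₐ_eq_mk] at hp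
  have h3 := Ideal.Quotient.eq.mp hp.symm
  rw [pow_one] at h3
  exact h3

theorem finiteType_quot_of_topFiniteType (hI : I.FG) (hA : TopFiniteType R I A) (k : ℕ) :
    (algebraMap R (A ⧸ (I ^ k).map (algebraMap R A))).FiniteType := by
  obtain ⟨n, φ, hφ⟩ := hA
  have hs := Groth.Agent.S11530.bet_surjective R I A φ k hI hφ
  have hC : (MvPolynomial.C : R →+* MvPolynomial (Fin n) R).FiniteType := by
    rw [← MvPolynomial.algebraMap_eq, RingHom.finiteType_algebraMap]
    infer_instance
  have h1 := (RingHom.FiniteType.of_surjective _ hs).comp hC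
  have h2 : (Groth.Agent.S11530.bet R I A φ k).comp
      (MvPolynomial.C : R →+* MvPolynomial (Fin n) R) =
      algebraMap R (A ⧸ (I ^ k).map (algebraMap R A)) := by
    ext r
    change Ideal.Quotient.mk _ (φ (algebraMap R (AdicRing.RPow R I n) r)) = _
    rw [AlgHom.commutes]
    rfl
  rw [h2] at h1
  exact h1

end quot2

end Groth.Agent.Lib.Helper28.TateCLoc
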