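import Mathlib
import Groth.Agent.Lib.Helper28WeakKrull3
import Groth.Agent.Lib.Helper28TensorDim

/-!
# Helper28UnitPow: descent of `f = unit * h^n` along flat local maps of normal domains

* `isAssociatedPrime_of_tensor_flat`: `Ass_A (F ⊗ M) ⊆ Ass_A M` for flat `F`, finite `M`;
* `exists_local_uniformizer`: local uniformizers at height-one primes of normal Noetherian domains;
* `exists_eq_mul_of_weaklyUnramified`: divisibility of the order of `f` by `n`.
-/

set_option autoImplicit false
universe u
open TensorProduct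

namespace Groth.Agent.Lib.Helper28.UnitPow

section F1

variable {A : Type u} [CommRing A] [IsNoetherianRing A]
  (F : Type u) [AddCommGroup F] [Module A F] [Module.Flat A F]
  (M : Type u) [AddCommGroup M] [Module A M] [Module.Finite A M]

/-- Associated primes (over `A`) of `F ⊗ M` for a flat module `F` are associated primes of `M`. -/
theorem isAssociatedPrime_of_tensor_flat (p : Ideal A) (hp : IsAssociatedPrime p (F ⊗[A] M)) :
    IsAssociatedPrime p M := by
  classical
  by_contra hnot
  obtain ⟨hprime, z, hz⟩ := (isAssociatedPrime_iff).mp hp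
  obtain ⟨S, hS⟩ := (IsNoetherian.noetherian p : p.FG)
  -- the map `m ↦ (a • m)_{a ∈ S}`
  let φ : M →ₗ[A] (S → M) := LinearMap.pi (fun a => LinearMap.lsmul A M (a : A))
  have hφ : ∀ m, φ m = 0 ↔ ∀ a ∈ p, a • m = 0 := by
    intro m
    constructor
    · intro h a ha
      rw [← hS] at ha
      refine Submodule.span_induction ?_ ?_ ?_ ?_ ha
      · intro x hx
        exact congrFun h ⟨x, hx⟩
      · exact zero_smul _ _
      · intro x y _ _ hx hy
        rw [add_smul, hx, hy, add_zero]
      · intro c x _ hx
        rw [smul_assoc, hx, smul_zero]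
    · intro h
      funext a
      exact h a (hS ▸ Submodule.subset_span a.2)
  set T : Submodule A M := LinearMap.ker φ with hT
  -- some `s ∉ p` kills `T`
  have hTfg : T.FG := IsNoetherian.noetherian T
  obtain ⟨G, hG⟩ := hTfg
  have hgen : ∀ g ∈ G, ∃ s : A, s ∉ p ∧ s • g = 0 := by
    intro g hg
    have hgT : g ∈ T := hG ▸ Submodule.subset_span hg
    have hle : p ≤ (⊥ : Submodule A M).colon {g} := by
      intro a ha
      rw [Submodule.mem_colon_singleton, Submodule.mem_bot]
      exact (hφ g).mp hgT a ha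
    by_contra hcon
    push Not at hcon
    apply hnot
    rw [isAssociatedPrime_iff]
    refine ⟨hprime, g, le_antisymm hle ?_⟩
    intro s hs
    by_contra hsp
    rw [Submodule.mem_colon_singleton, Submodule.mem_bot] at hs
    exact hcon s hsp hs
  choose! sf hsf using hgen
  set s := ∏ g ∈ G, sf g with hs
  have hsp : s ∉ p := by
    rw [hs, hprime.prod_mem_iff]
    push Not
    intro g hg
    exact (hsf g hg).1
  have hsT : ∀ t ∈ T, s • t = 0 := by
    intro t ht
    rw [← hG] at ht
    refine Submodule.span_induction ?_ ?_ ?_ ?_ ht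
    · intro g hg
      rw [hs, ← Finset.mul_prod_erase G sf hg, mul_comm, mul_smul, (hsf g hg).2, smul_zero]
    · exact smul_zero _
    · intro x y _ _ hx hy
      rw [smul_add, hx, hy, add_zero]
    · intro c x _ hx
      rw [smul_comm, hx, smul_zero]
  -- exactness and flatness
  have hex : Function.Exact T.subtype φ := by
    intro m
    constructor
    · intro h
      exact ⟨⟨m, h⟩, rfl⟩
    · rintro ⟨t, rfl⟩
      exact t.2
  have hex' : Function.Exact (T.subtype.lTensor F) (φ.lTensor F) :=
    Module.Flat.lTensor_exact F hex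
  have hz0 : φ.lTensor F z = 0 := by
    have hcomp : ∀ a : S, (LinearMap.proj a : (S → M) →ₗ[A] M).lTensor F ∘ₗ φ.lTensor F =
        LinearMap.lsmul A (F ⊗[A] M) (a : A) := by
      intro a
      apply TensorProduct.ext'
      intro x m
      simp [φ, TensorProduct.tmul_smul]
    apply (TensorProduct.piRight A A F (fun _ : S => M)).injective
    rw [map_zero]
    funext a
    have h1 := congrArg (fun f => f z) (hcomp a)
    simp only [LinearMap.comp_apply, LinearMap.lsmul_apply] at h1
    have h2 : (a : A) • z = 0 := by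
      have : (a : A) ∈ (⊥ : Submodule A (F ⊗[A] M)).colon {z} := by
        rw [← hz, ← hS]; exact Submodule.subset_span a.2
      rwa [Submodule.mem_colon_singleton, Submodule.mem_bot] at this
    rw [h2] at h1
    rw [Pi.zero_apply, ← h1]
    generalize (φ.lTensor F) z = y
    induction y using TensorProduct.induction_on with
    | zero => simp
    | add x y hx hy => simp only [map_add, Pi.add_apply, hx, hy]
    | tmul x m => simp
  have hsz' : ∀ z' : F ⊗[A] T, s • z' = 0 := by
    intro z'
    induction z' using TensorProduct.induction_on with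
    | zero => simp
    | add x y hx hy => rw [smul_add, hx, hy, add_zero]
    | tmul x t =>
      rw [← TensorProduct.tmul_smul]
      have : s • t = 0 := Subtype.ext (hsT t t.2)
      rw [this, TensorProduct.tmul_zero]
  obtain ⟨z', hz'⟩ := (hex' z).mp hz0
  have hsz : s • z = 0 := by
    rw [← hz', ← map_smul, hsz', map_zero]
  apply hsp
  rw [hz, Submodule.mem_colon_singleton, Submodule.mem_bot]
  exact hsz

theorem associatedPrimes_tensor_subset_of_flat :
    associatedPrimes A (F ⊗[A] M) ⊆ associatedPrimes A M :=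
  fun p hp => isAssociatedPrime_of_tensor_flat F M p hp

end F1

section LC

variable {A : Type u} [CommRing A] [IsDomain A] [IsNoetherianRing A] [IsIntegrallyClosed A]

/-- At a height-one prime `p` of a normal Noetherian domain, there is `τ ∈ p` generating `p`
locally, and every nonzero `f` is locally a unit times a power of `τ`. -/
theorem exists_local_uniformizer (p : Ideal A) [p.IsPrime] (hp : p.height = 1) (f : A)
    (hf : f ≠ 0) :
    ∃ (τ : A) (a : ℕ) (σ α : A), τ ∈ p ∧ σ ∉ p ∧ α ∉ p ∧ σ * f = α * τ ^ a ∧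
      (∀ x ∈ p, ∃ σ' c : A, σ' ∉ p ∧ σ' * x = τ * c) := by
  have hdvr : IsDiscreteValuationRing (Localization.AtPrime p) :=
    Groth.Agent.Lib.Helper28.WeakKrull.isDiscreteValuationRing_localization_of_height_one A p hp
  have hinj : Function.Injective (algebraMap A (Localization.AtPrime p)) :=
    IsLocalization.injective _ p.primeCompl_le_nonZeroDivisors
  obtain ⟨ϖ, hϖ⟩ := IsDiscreteValuationRing.exists_irreducible (Localization.AtPrime p)
  obtain ⟨τ, σ₀, rfl⟩ := IsLocalization.exists_mk'_eq p.primeCompl ϖ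
  have hτirr : Irreducible (algebraMap A (Localization.AtPrime p) τ) := by
    have hunit : IsUnit (algebraMap A (Localization.AtPrime p) σ₀) :=
      IsLocalization.map_units _ σ₀
    have : algebraMap A (Localization.AtPrime p) τ =
        IsLocalization.mk' (Localization.AtPrime p) τ σ₀ * algebraMap A (Localization.AtPrime p) σ₀ :=
      (IsLocalization.mk'_spec _ τ σ₀).symm
    rw [this]
    exact (irreducible_mul_isUnit hunit).mpr hϖ
  have hmax := hτirr.maximalIdeal_eq
  have hτp : τ ∈ p := by
    rw [← IsLocalization.AtPrime.to_map_mem_maximal_iff (Localization.AtPrime p) p, hmax]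
    exact Ideal.mem_span_singleton_self _
  have hf' : algebraMap A (Localization.AtPrime p) f ≠ 0 := by
    rw [Ne, map_eq_zero_iff _ hinj]; exact hf
  obtain ⟨a, u, hu⟩ := IsDiscreteValuationRing.eq_unit_mul_pow_irreducible hf' hτirr
  obtain ⟨α, σ, hασ⟩ := IsLocalization.exists_mk'_eq p.primeCompl (u : Localization.AtPrime p)
  have hαp : α ∉ p := by
    have h1 : IsUnit (IsLocalization.mk' (Localization.AtPrime p) α σ) := hασ ▸ u.isUnit
    rw [IsLocalization.AtPrime.isUnit_mk'_iff (Localization.AtPrime p) p] at h1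
    exact h1
  refine ⟨τ, a, σ, α, hτp, σ.2, hαp, ?_, ?_⟩
  · apply hinj
    rw [map_mul, map_mul, map_pow, hu, ← hασ, ← mul_assoc, mul_comm _ (IsLocalization.mk' _ α σ),
      IsLocalization.mk'_spec]
  · intro x hx
    have hxm : algebraMap A (Localization.AtPrime p) x ∈
        IsLocalRing.maximalIdeal (Localization.AtPrime p) :=
      (IsLocalization.AtPrime.to_map_mem_maximal_iff (Localization.AtPrime p) p x).mpr hx
    rw [hmax, Ideal.mem_span_singleton'] at hxm
    obtain ⟨r, hr⟩ := hxm
    obtain ⟨c, σ', rfl⟩ := IsLocalization.exists_mk'_eq p.primeCompl r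
    refine ⟨σ', c, σ'.2, ?_⟩
    apply hinj
    rw [map_mul, map_mul, ← hr, mul_comm (IsLocalization.mk' _ c σ'), ← mul_assoc,
      mul_comm _ (algebraMap A _ τ), mul_assoc, mul_comm _ (IsLocalization.mk' _ c σ'),
      IsLocalization.mk'_spec]

end LC

section NA

variable {A B : Type u} [CommRing A] [CommRing B] [IsDomain B] [IsNoetherianRing B]
  [Algebra A B]

theorem exists_eq_mul_of_weaklyUnramified
    (p : Ideal A) [p.IsPrime] (q : Ideal B) [q.IsPrime] (hq0 : q ≠ ⊥)
    (hqp : q.comap (algebraMap A B) = p)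
    (hmax : Ideal.map (algebraMap B (Localization.AtPrime q)) (Ideal.map (algebraMap A B) p) =
      IsLocalRing.maximalIdeal (Localization.AtPrime q))
    (τ : A) (hτ : τ ∈ p) (hgen : ∀ x ∈ p, ∃ σ' c : A, σ' ∉ p ∧ σ' * x = τ * c)
    (f : A) (a : ℕ) (σ α : A) (hσ : σ ∉ p) (hα : α ∉ p) (hfa : σ * f = α * τ ^ a)
    (h : B) (n : ℕ) (w : Bˣ) (hf : algebraMap A B f = w * h ^ n) (hh : h ≠ 0) :
    ∃ b : ℕ, a = n * b := by
  set S := Localization.AtPrime q with hS
  let ι : A →+* S := (algebraMap B S).comp (algebraMap A B)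
  have hinjS : Function.Injective (algebraMap B S) :=
    IsLocalization.injective _ q.primeCompl_le_nonZeroDivisors
  have hunitS : ∀ x : A, x ∉ p → IsUnit (ι x) := by
    intro x hx
    have : algebraMap A B x ∉ q := by
      intro hxq
      exact hx (hqp ▸ Ideal.mem_comap.mpr hxq)
    exact IsLocalization.map_units S (⟨algebraMap A B x, this⟩ : q.primeCompl)
  have hmaxeq : IsLocalRing.maximalIdeal S = Ideal.span {ι τ} := by
    apply le_antisymm
    · rw [← hmax, Ideal.map_map, Ideal.map_le_iff_le_comap]
      intro x hx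
      obtain ⟨σ', c, hσ', hxc⟩ := hgen x hx
      rw [Ideal.mem_comap, Ideal.mem_span_singleton']
      obtain ⟨v, hv⟩ := hunitS σ' hσ'
      refine ⟨↑v⁻¹ * ι c, ?_⟩
      have h1 : ι σ' * ι x = ι τ * ι c := by rw [← map_mul, hxc, map_mul]
      have h2 : ι x = ↑v⁻¹ * (ι σ' * ι x) := by
        rw [← mul_assoc, ← hv, Units.inv_mul, one_mul]
      change _ = ι x
      rw [h2, h1]
      ring
    · rw [Ideal.span_singleton_le_iff_mem, ← hmax, Ideal.map_map]
      exact Ideal.mem_map_of_mem _ hτ
  have hnf : ¬ IsField S := IsLocalization.AtPrime.not_isField B hq0 S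
  have hdvr : IsDiscreteValuationRing S :=
    ((IsDiscreteValuationRing.TFAE S hnf).out 4 0).mp
      (⟨⟨ι τ, hmaxeq⟩⟩ : (IsLocalRing.maximalIdeal S).IsPrincipal)
  have hirr : Irreducible (ι τ) := (IsDiscreteValuationRing.irreducible_iff_uniformizer _).mpr hmaxeq
  have hhS : algebraMap B S h ≠ 0 := by
    rw [Ne, map_eq_zero_iff _ hinjS]; exact hh
  obtain ⟨b, v, hv⟩ := IsDiscreteValuationRing.eq_unit_mul_pow_irreducible hhS hirr
  obtain ⟨uσ, huσ⟩ := hunitS σ hσ
  obtain ⟨uα, huα⟩ := hunitS α hα
  refine ⟨b, ?_⟩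
  have hw : IsUnit (algebraMap B S w) := w.isUnit.map _
  obtain ⟨uw, huw⟩ := hw
  have heq : ((uσ * uw * v ^ n : Sˣ) : S) * (ι τ) ^ (n * b) = (uα : S) * (ι τ) ^ a := by
    have h1 : ι σ * ι f = ι α * ι τ ^ a := by rw [← map_mul, hfa, map_mul, map_pow]
    have h2 : ι f = algebraMap B S w * (algebraMap B S h) ^ n := by
      change algebraMap B S (algebraMap A B f) = _
      rw [hf, map_mul, map_pow]
    rw [huα, ← h1, h2, hv, ← huσ, ← huw]
    push_cast
    ring
  exact (IsDiscreteValuationRing.unit_mul_pow_congr_pow hirr hirr _ _ _ _ heq).symm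

end NA

end Groth.Agent.Lib.Helper28.UnitPow
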