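import Groth.Agent.Lib.Helper28DepthBC
import Groth.Agent.Lib.Helper28DepthLoc
import Groth.Prelude.Def_W4bk5brsh7111920

/-! Adjusted depths along a surjective ring homomorphism (helper29). -/

set_option autoImplicit false
universe u
open CategoryTheory

namespace Groth.Agent.Lib.Helper29AdjDepthSurj

open Groth.Agent.Lib.Helper28

variable {S R : Type u} [CommRing S] [CommRing R] [Algebra S R]

theorem algebraMapSubmonoid_primeCompl (hπ : Function.Surjective (algebraMap S R))
    (P : Ideal S) [P.IsPrime] (p : Ideal R) [p.IsPrime] (hPp : P = p.comap (algebraMap S R)) :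
    Algebra.algebraMapSubmonoid R P.primeCompl = p.primeCompl := by
  ext t
  constructor
  · rintro ⟨s, hs, rfl⟩
    intro hmem
    apply hs
    show s ∈ P
    rw [hPp]
    exact hmem
  · intro ht
    obtain ⟨s, rfl⟩ := hπ t
    refine ⟨s, ?_, rfl⟩
    intro hs
    apply ht
    have : s ∈ P := hs
    rw [hPp] at this
    exact this

/-- The depth of `M_p` over `R_p` equals the depth of `M_P` over `S_P`, for `S → R` surjective and
`P` the preimage of `p`. -/
theorem depth_localization_eq_of_surjective [IsNoetherianRing S] [IsNoetherianRing R]
    (hπ : Function.Surjective (algebraMap S R))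
    (M : Type u) [AddCommGroup M] [Module R M] [Module S M] [IsScalarTower S R M]
    [Module.Finite S M]
    (P : Ideal S) [P.IsPrime] (p : Ideal R) [p.IsPrime] (hPp : P = p.comap (algebraMap S R)) :
    LocCoh.depth (Localization.AtPrime P) (LocalizedModule P.primeCompl M) =
      LocCoh.depth (Localization.AtPrime p) (LocalizedModule p.primeCompl M) := by
  classical
  letI : Algebra (Localization.AtPrime P) (Localization.AtPrime p) :=
    (Localization.localRingHom P p (algebraMap S R) hPp).toAlgebra
  haveI : IsLocalHom (algebraMap (Localization.AtPrime P) (Localization.AtPrime p)) :=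
    Localization.isLocalHom_localRingHom P p _ hPp
  letI : Module (Localization.AtPrime P) (LocalizedModule p.primeCompl M) :=
    Module.compHom (LocalizedModule p.primeCompl M)
      (Localization.localRingHom P p (algebraMap S R) hPp)
  haveI : IsScalarTower (Localization.AtPrime P) (Localization.AtPrime p)
      (LocalizedModule p.primeCompl M) :=
    IsScalarTower.of_algebraMap_smul fun _ _ => rfl
  haveI : IsScalarTower S (Localization.AtPrime P) (LocalizedModule p.primeCompl M) := by
    apply IsScalarTower.of_algebraMap_smul
    intro s y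
    show Localization.localRingHom P p (algebraMap S R) hPp
      (algebraMap S (Localization.AtPrime P) s) • y = s • y
    rw [Localization.localRingHom_to_map, algebraMap_smul, algebraMap_smul]
  haveI hloc : IsLocalizedModule (Algebra.algebraMapSubmonoid R P.primeCompl)
      (LocalizedModule.mkLinearMap p.primeCompl M) := by
    rw [algebraMapSubmonoid_primeCompl hπ P p hPp]
    infer_instance
  haveI : IsLocalizedModule P.primeCompl
      ((LocalizedModule.mkLinearMap p.primeCompl M).restrictScalars S) :=
    IsLocalizedModule.restrictScalars P.primeCompl (LocalizedModule.mkLinearMap p.primeCompl M)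
  let e₀ : LocalizedModule P.primeCompl M ≃ₗ[S] LocalizedModule p.primeCompl M :=
    IsLocalizedModule.iso P.primeCompl
      ((LocalizedModule.mkLinearMap p.primeCompl M).restrictScalars S)
  let e : LocalizedModule P.primeCompl M ≃ₗ[Localization.AtPrime P]
      LocalizedModule p.primeCompl M :=
    LinearEquiv.extendScalarsOfIsLocalization P.primeCompl (Localization.AtPrime P) e₀
  haveI : Module.Finite (Localization.AtPrime P) (LocalizedModule P.primeCompl M) :=
    Module.Finite.of_isLocalizedModule P.primeCompl (LocalizedModule.mkLinearMap P.primeCompl M)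
  haveI : Module.Finite (Localization.AtPrime P) (LocalizedModule p.primeCompl M) :=
    Module.Finite.equiv e
  have h1 : LocCoh.depth (Localization.AtPrime P) (LocalizedModule P.primeCompl M) =
      LocCoh.depth (Localization.AtPrime P) (LocalizedModule p.primeCompl M) :=
    idealDepth_congr e _
  rw [h1]
  exact depth_eq_depth_of_isLocalHom_of_finite (A := Localization.AtPrime P)
    (B := Localization.AtPrime p) (M := LocalizedModule p.primeCompl M)

/-- The height of `(a + p)/p` is the height of `(a' + P)/P` for preimages under a surjection. -/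
theorem height_quot_eq_of_surjective (hπ : Function.Surjective (algebraMap S R))
    (P : Ideal S) [P.IsPrime] (p : Ideal R) [p.IsPrime] (hPp : P = p.comap (algebraMap S R))
    (a : Ideal R) :
    ((a.comap (algebraMap S R) ⊔ P).map (Ideal.Quotient.mk P)).height =
      ((a ⊔ p).map (Ideal.Quotient.mk p)).height := by
  let f : S →+* R ⧸ p := (Ideal.Quotient.mk p).comp (algebraMap S R)
  have hf : Function.Surjective f := Ideal.Quotient.mk_surjective.comp hπ
  have hker : P = RingHom.ker f := by
    rw [← RingHom.comap_ker, Ideal.mk_ker]
    exact hPp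
  let e : S ⧸ P ≃+* R ⧸ p :=
    (Ideal.quotEquivOfEq hker).trans (RingHom.quotientKerEquivOfSurjective hf)
  have he : (e : S ⧸ P →+* R ⧸ p).comp (Ideal.Quotient.mk P) = f := by
    ext s
    show (RingHom.quotientKerEquivOfSurjective hf) ((Ideal.quotEquivOfEq hker)
      (Ideal.Quotient.mk P s)) = f s
    rw [Ideal.quotEquivOfEq_mk, RingHom.quotientKerEquivOfSurjective_apply_mk]
  have hmap : ((a.comap (algebraMap S R) ⊔ P).map (Ideal.Quotient.mk P)).map
      (e : S ⧸ P →+* R ⧸ p) = (a ⊔ p).map (Ideal.Quotient.mk p) := by
    rw [Ideal.map_map, he]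
    show (a.comap (algebraMap S R) ⊔ P).map ((Ideal.Quotient.mk p).comp (algebraMap S R)) = _
    rw [← Ideal.map_map, Ideal.map_sup, Ideal.map_comap_of_surjective _ hπ, hPp,
      Ideal.map_comap_of_surjective _ hπ]
  rw [← hmap]
  exact (RingEquiv.height_map e _).symm

/-- `λ` over the quotient ring is at most `λ` over the covering ring. -/
theorem minAdjDepth_le_of_surjective [IsNoetherianRing S] [IsNoetherianRing R]
    (hπ : Function.Surjective (algebraMap S R)) (a b : Ideal R)
    (M : Type u) [AddCommGroup M] [Module R M] [Module S M] [IsScalarTower S R M]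
    [Module.Finite S M] :
    LocCoh.minAdjDepth a b M ≤
      LocCoh.minAdjDepth (a.comap (algebraMap S R)) (b.comap (algebraMap S R)) M := by
  classical
  refine le_iInf₂ fun P hP => ?_
  by_cases hker : RingHom.ker (algebraMap S R) ≤ P.asIdeal
  · have hprime : (P.asIdeal.map (algebraMap S R)).IsPrime :=
      Ideal.map_isPrime_of_surjective hπ hker
    have hPp : P.asIdeal = (P.asIdeal.map (algebraMap S R)).comap (algebraMap S R) := by
      rw [Ideal.comap_map_of_surjective _ hπ, ← RingHom.ker_eq_comap_bot, sup_of_le_left hker]
    have hbp : ¬ b ≤ P.asIdeal.map (algebraMap S R) := by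
      intro hle
      apply hP
      rw [hPp]
      exact Ideal.comap_mono hle
    refine (iInf₂_le (⟨P.asIdeal.map (algebraMap S R), hprime⟩ : PrimeSpectrum R) hbp).trans ?_
    unfold LocCoh.adjDepth
    haveI := hprime
    rw [depth_localization_eq_of_surjective hπ M P.asIdeal (P.asIdeal.map (algebraMap S R)) hPp,
      height_quot_eq_of_surjective hπ P.asIdeal (P.asIdeal.map (algebraMap S R)) hPp a]
  · -- `M_P = 0`
    obtain ⟨c, hc, hcP⟩ := Set.not_subset.mp hker
    haveI : Subsingleton (LocalizedModule P.asIdeal.primeCompl M) := by
      refine ⟨fun x y => ?_⟩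
      have h0 : ∀ z : LocalizedModule P.asIdeal.primeCompl M, z = 0 := by
        intro z
        induction z using LocalizedModule.induction_on with
        | h m s =>
          rw [← LocalizedModule.mk_cancel_common_left (⟨c, hcP⟩ : P.asIdeal.primeCompl) s m]
          have : (⟨c, hcP⟩ : P.asIdeal.primeCompl) • m = 0 := by
            show c • m = 0
            rw [← algebraMap_smul R c m, (RingHom.mem_ker).mp hc, zero_smul]
          rw [this, LocalizedModule.zero_mk]
      rw [h0 x, h0 y]
    unfold LocCoh.adjDepth
    rw [depth_eq_top_of_subsingleton, top_add]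
    exact le_top

end Groth.Agent.Lib.Helper29AdjDepthSurj
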