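import Mathlib
import Groth.Agent.Lib.Helper8LocDual
import Groth.Agent.Lib.Helper8ExtLoc
import Groth.Agent.S11614
import Groth.Agent.Lib.Helper5RLR3
import Groth.Agent.Lib.Helper28FGDim

/-! Vanishing of local cohomology of a localization at a prime of a regular ring in terms of
torsion of global `Ext` (helper8). -/

set_option autoImplicit false
universe u
open CategoryTheory CategoryTheory.Abelian IsLocalRing

namespace Groth.Agent.Lib.Helper8.LocDualK
open Groth.Agent.Lib.Helper8.ExtLES Groth.Agent.Lib.Helper8.Bridge Groth.Agent.Lib.Helper8.LC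
  Groth.Agent.Lib.Helper8.ExtRep Groth.Agent.Lib.Helper8.RegHull Groth.Agent.Lib.Helper8.LocDual

section HomHull

variable {B : Type u} [CommRing B] [IsLocalRing B]

theorem subsingleton_of_hom_eq_zero (E' : Type u) [AddCommGroup E'] [Module B E']
    [Module.Injective B E'] (f : ResidueField B →ₗ[B] E') (hf : Function.Injective f)
    (X : Type u) [AddCommGroup X] [Module B X] (h : ∀ lam : X →ₗ[B] E', lam = 0) :
    Subsingleton X := by
  refine ⟨fun a b => ?_⟩
  suffices ∀ x : X, x = 0 by rw [this a, this b]
  intro x
  by_contra hx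
  let g : B →ₗ[B] X := LinearMap.toSpanSingleton B X x
  let lam : B →ₗ[B] E' := f ∘ₗ (Algebra.linearMap B (ResidueField B))
  have hker : LinearMap.ker g ≤ LinearMap.ker lam := by
    intro b hb
    rw [LinearMap.mem_ker] at hb ⊢
    have hb' : b • x = 0 := hb
    have hbm : b ∈ maximalIdeal B := by
      by_contra hbu
      have hu : IsUnit b := by
        by_contra hnu
        exact hbu ((mem_maximalIdeal b).mpr hnu)
      obtain ⟨u, rfl⟩ := hu
      apply hx
      have h2 := congrArg (fun y => ((u⁻¹ : Bˣ) : B) • y) hb'
      simpa [smul_smul] using h2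
    change f (algebraMap B (ResidueField B) b) = 0
    rw [ResidueField.algebraMap_eq, (residue_eq_zero_iff b).mpr hbm, map_zero]
  obtain ⟨μ, hμ⟩ := exists_factor g lam hker
  have h1 := LinearMap.congr_fun hμ 1
  rw [h μ] at h1
  have h2 : f 1 = 0 := by
    have h3 : lam 1 = f 1 := by
      change f (algebraMap B (ResidueField B) 1) = f 1
      rw [map_one]
    rw [← h3, ← h1]
    rfl
  exact one_ne_zero (hf (h2.trans (map_zero f).symm))

end HomHull

section Kabs

variable {R : Type u} [CommRing R] [IsNoetherianRing R] (P : Ideal R) [P.IsPrime]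
  [IsRegularLocalRing (Localization.AtPrime P)] (d : ℕ)
  (hd : ringKrullDim (Localization.AtPrime P) = d)
  (M : Type u) [AddCommGroup M] [Module R M] [Module.Finite R M]
  (N' : Type u) [AddCommGroup N'] [Module R N'] [Module (Localization.AtPrime P) N']
  [IsScalarTower R (Localization.AtPrime P) N']
  (f : M →ₗ[R] N') [IsLocalizedModule P.primeCompl f]

include hd f in
theorem K_abs (j : ℕ) :
    Subsingleton (LocCoh.H (maximalIdeal (Localization.AtPrime P)) j N') ↔
      (d < j ∨ ∀ x : Ext.{u} (ModuleCat.of R M) (ModuleCat.of R R) (d - j),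
        ∃ s : P.primeCompl, (s : R) • x = 0) := by
  have hfin : Module.Finite (Localization.AtPrime P) N' :=
    Module.Finite.of_isLocalizedModule P.primeCompl f
  by_cases hj : d < j
  · simp only [hj, true_or, iff_true]
    exact Groth.Agent.S0325.result _ _ d hd.le N' j hj
  · simp only [hj, false_or]
    obtain ⟨e⟩ := duality_regular (Localization.AtPrime P) d hd N' j (by omega)
    rw [ExtLoc.ext_loc P.primeCompl (Algebra.linearMap R (Localization.AtPrime P)) (d - j) M N' f,
      ← subsingleton_E_iff]
    constructor
    · intro h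
      have h0 : ∀ lam : E (d - j) (ModuleCat.of (Localization.AtPrime P) N')
          (ModuleCat.of (Localization.AtPrime P) (Localization.AtPrime P)) →ₗ[Localization.AtPrime P]
          Hn (Localization.AtPrime P) d, lam = 0 := fun lam =>
        e.symm.injective (Subsingleton.elim _ _)
      obtain ⟨f', hf'⟩ := exists_isInjectiveHull (Localization.AtPrime P) d hd
      have := injective_Hn (Localization.AtPrime P) d hd
      exact subsingleton_of_hom_eq_zero (Hn (Localization.AtPrime P) d) f' hf'.injective _ h0
    · intro h
      refine ⟨fun a b => e.injective ?_⟩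
      apply LinearMap.ext
      intro x
      rw [Subsingleton.elim x 0, map_zero, map_zero]

end Kabs

section Ktr

variable {R A : Type u} [CommRing R] [IsRegularRing R] [CommRing A] [IsNoetherianRing A]
  [Algebra R A]

omit [IsRegularRing R] [IsNoetherianRing A] in
theorem primeCompl_eq_algebraMapSubmonoid (hπ : Function.Surjective (algebraMap R A))
    (p : Ideal A) [p.IsPrime] (P : Ideal R) [P.IsPrime] (hP : P = p.comap (algebraMap R A)) :
    p.primeCompl = Algebra.algebraMapSubmonoid A P.primeCompl := by
  ext x
  constructor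
  · intro hx
    obtain ⟨r, rfl⟩ := hπ x
    refine ⟨r, ?_, rfl⟩
    intro hr
    apply hx
    rw [hP] at hr
    exact hr
  · rintro ⟨r, hr, rfl⟩
    intro hx
    apply hr
    rw [hP]
    exact hx

theorem K_transfer (hπ : Function.Surjective (algebraMap R A))
    (p : Ideal A) [p.IsPrime] (P : Ideal R) [P.IsPrime] (hP : P = p.comap (algebraMap R A))
    (M : Type u) [AddCommGroup M] [Module A M] [Module R M] [IsScalarTower R A M]
    [Module.Finite A M] (d : ℕ) (hd : P.height = d) (j : ℕ) :
    Subsingleton (LocCoh.H (maximalIdeal (Localization.AtPrime p)) j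
        (LocalizedModule p.primeCompl M)) ↔
      (d < j ∨ ∀ x : Ext.{u} (ModuleCat.of R M) (ModuleCat.of R R) (d - j),
        ∃ s : P.primeCompl, (s : R) • x = 0) := by
  have hRA : Module.Finite R A := Module.Finite.of_surjective (Algebra.linearMap R A) hπ
  have hRM : Module.Finite R M := Module.Finite.trans A M
  -- the localization map over `R`
  have hloc : IsLocalizedModule (Algebra.algebraMapSubmonoid A P.primeCompl)
      (LocalizedModule.mkLinearMap p.primeCompl M) := by
    rw [← primeCompl_eq_algebraMapSubmonoid hπ p P hP]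
    infer_instance
  let f : M →ₗ[R] LocalizedModule p.primeCompl M :=
    (LocalizedModule.mkLinearMap p.primeCompl M).restrictScalars R
  have hf : IsLocalizedModule P.primeCompl f :=
    IsLocalizedModule.restrictScalars P.primeCompl (LocalizedModule.mkLinearMap p.primeCompl M)
  let _ : Module (Localization.AtPrime P) (LocalizedModule p.primeCompl M) :=
    IsLocalizedModule.module P.primeCompl f
  have hst : IsScalarTower R (Localization.AtPrime P) (LocalizedModule p.primeCompl M) :=
    IsLocalizedModule.isScalarTower_module P.primeCompl f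
  have hdim : ringKrullDim (Localization.AtPrime P) = d := by
    rw [IsLocalization.AtPrime.ringKrullDim_eq_height P (Localization.AtPrime P), hd]
    rfl
  rw [← K_abs P d hdim M (LocalizedModule p.primeCompl M) f j]
  -- three base-independence isomorphisms
  obtain ⟨φ₁, _⟩ := Groth.Agent.S11614.result A (Localization.AtPrime p) p
    (LocalizedModule p.primeCompl M) j
  rw [Localization.AtPrime.map_eq_maximalIdeal] at φ₁
  obtain ⟨φ₂, _⟩ := Groth.Agent.S11614.result R A P (LocalizedModule p.primeCompl M) j
  have hmap : Ideal.map (algebraMap R A) P = p := by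
    rw [hP, Ideal.map_comap_of_surjective _ hπ]
  rw [hmap] at φ₂
  obtain ⟨φ₃, _⟩ := Groth.Agent.S11614.result R (Localization.AtPrime P) P
    (LocalizedModule p.primeCompl M) j
  rw [Localization.AtPrime.map_eq_maximalIdeal] at φ₃
  exact (φ₁.trans (φ₂.trans φ₃.symm)).toEquiv.subsingleton_congr

theorem isCohenMacaulayRing_of_isRegularRing : LocCoh.IsCohenMacaulayRing R where
  isCohenMacaulayLocalRing_localization p _ :=
    Groth.Agent.Lib.Helper5.isCohenMacaulayLocalRing_of_isRegularLocalRing (Localization.AtPrime p)

/-- Going up a cover `p ⋖ p'`: vanishing of `H^{j+1}` at `p'` forces vanishing of `H^j` at `p`. -/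
theorem cov_step (hπ : Function.Surjective (algebraMap R A))
    (M : Type u) [AddCommGroup M] [Module A M] [Module R M] [IsScalarTower R A M]
    [Module.Finite A M] {p p' : PrimeSpectrum A} (hcov : p ⋖ p') (j : ℕ)
    (h : Subsingleton (LocCoh.H (maximalIdeal (Localization.AtPrime p'.asIdeal)) (j + 1)
      (LocalizedModule p'.asIdeal.primeCompl M))) :
    Subsingleton (LocCoh.H (maximalIdeal (Localization.AtPrime p.asIdeal)) j
      (LocalizedModule p.asIdeal.primeCompl M)) := by
  have hCM : LocCoh.IsCohenMacaulayRing R := isCohenMacaulayRing_of_isRegularRing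
  have hcov' := Groth.Agent.Lib.Helper28.comap_covBy_of_surjective (algebraMap R A) hπ hcov
  have hht := Groth.Agent.Lib.Helper28.height_eq_succ_of_covBy_of_isCohenMacaulayRing hcov'
  let P := (PrimeSpectrum.comap (algebraMap R A) p).asIdeal
  let P' := (PrimeSpectrum.comap (algebraMap R A) p').asIdeal
  have hPfin : P.height ≠ ⊤ := Ideal.height_ne_top (PrimeSpectrum.comap (algebraMap R A) p).2.ne_top
  obtain ⟨d, hd⟩ := ENat.ne_top_iff_exists.mp hPfin
  have hd' : P'.height = ((d + 1 : ℕ) : ℕ∞) := by
    change P'.height = P.height + 1 at hht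
    rw [hht, ← hd]
    rfl
  rw [K_transfer hπ p'.asIdeal P' rfl M (d + 1) hd' (j + 1)] at h
  rw [K_transfer hπ p.asIdeal P rfl M d hd.symm j]
  rcases h with h | h
  · left
    omega
  · right
    rw [Nat.add_sub_add_right] at h
    intro x
    obtain ⟨s, hs⟩ := h x
    refine ⟨⟨s.1, fun hsP => s.2 ?_⟩, hs⟩
    exact hcov'.lt.le hsP

end Ktr

end Groth.Agent.Lib.Helper8.LocDualK
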