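import Mathlib
import Groth.Agent.Lib.Helper8LocDualK

/-! Finite length of `Hom(X, H^r_m(R))` versus finite length of `X` over a regular local ring,
and finite length in terms of torsion at non-maximal primes (helper8). -/

set_option autoImplicit false
universe u
open CategoryTheory CategoryTheory.Abelian IsLocalRing

namespace Groth.Agent.Lib.Helper8.Matlis
open Groth.Agent.Lib.Helper8.ExtLES Groth.Agent.Lib.Helper8.Bridge Groth.Agent.Lib.Helper8.LC
  Groth.Agent.Lib.Helper8.ExtRep Groth.Agent.Lib.Helper8.RegHull Groth.Agent.Lib.Helper8.LocDual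
  Groth.Agent.Lib.Helper8.RegDual

section Local

variable {R : Type u} [CommRing R] [IsLocalRing R]

theorem exists_pow_smul_eq_zero_of_isFiniteLength (X : Type u) [AddCommGroup X] [Module R X]
    (h : IsFiniteLength R X) : ∃ k : ℕ, ∀ a ∈ maximalIdeal R ^ k, ∀ x : X, a • x = 0 := by
  induction h with
  | @of_subsingleton M _ _ _ => exact ⟨0, fun a _ x => Subsingleton.elim _ _⟩
  | @of_simple_quotient M _ _ N hs hN ih =>
    obtain ⟨k, hk⟩ := ih
    refine ⟨k + 1, ?_⟩
    have hmN : ∀ a ∈ maximalIdeal R, ∀ x : M, a • x ∈ N := by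
      intro a ha x
      obtain ⟨I, hI, ⟨e⟩⟩ := isSimpleModule_iff_quot_maximal.mp hs
      have hIm : I = maximalIdeal R := IsLocalRing.eq_maximalIdeal hI
      rw [← Submodule.Quotient.mk_eq_zero, Submodule.Quotient.mk_smul]
      apply e.injective
      rw [map_smul, map_zero]
      obtain ⟨c, hc⟩ := Ideal.Quotient.mk_surjective (e (Submodule.Quotient.mk x))
      rw [← hc]
      change Ideal.Quotient.mk I (a * c) = 0
      rw [Ideal.Quotient.eq_zero_iff_mem, hIm]
      exact Ideal.mul_mem_right _ _ ha
    intro a ha x
    rw [pow_succ] at ha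
    refine Submodule.mul_induction_on ha ?_ ?_
    · intro b hb c hc
      rw [mul_smul]
      have h1 := hk b hb ⟨c • x, hmN c hc x⟩
      exact congrArg Subtype.val h1
    · intro y z hy hz
      rw [add_smul, hy, hz, add_zero]

theorem isFiniteLength_iff_tors [IsNoetherianRing R] (X : Type u) [AddCommGroup X] [Module R X]
    [Module.Finite R X] :
    IsFiniteLength R X ↔ ∀ P : PrimeSpectrum R, P.asIdeal ≠ maximalIdeal R →
      ∀ x : X, ∃ s ∉ P.asIdeal, s • x = 0 := by
  constructor
  · intro h P hP x
    obtain ⟨k, hk⟩ := exists_pow_smul_eq_zero_of_isFiniteLength X h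
    have hnle : ¬ maximalIdeal R ≤ P.asIdeal := fun hle =>
      hP (le_antisymm (IsLocalRing.le_maximalIdeal P.2.ne_top) hle)
    obtain ⟨a, ha, haP⟩ := Set.not_subset.mp hnle
    exact ⟨a ^ k, fun hak => haP (P.2.mem_of_pow_mem k hak), hk _ (Ideal.pow_mem_pow ha k) x⟩
  · intro h
    have hC : InC (maximalIdeal R) (ModuleCat.of R X) := by
      rw [inC_iff_support]
      refine ⟨inferInstanceAs (Module.Finite R X), ?_⟩
      intro P hPs
      by_contra hPz
      have hP : P.asIdeal ≠ maximalIdeal R := by
        intro e
        apply hPz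
        rw [PrimeSpectrum.mem_zeroLocus, e]
      exact (Module.notMem_support_iff'.mpr (h P hP)) hPs
    exact isFiniteLength_of_inC hC

end Local

section Reg

variable (R : Type u) [CommRing R] [IsRegularLocalRing R] (r : ℕ) (hr : ringKrullDim R = r)

include hr in
theorem isFiniteLength_hom_Hn_iff (X : Type u) [AddCommGroup X] [Module R X]
    [Module.Finite R X] :
    IsFiniteLength R (X →ₗ[R] Hn R r) ↔ IsFiniteLength R X := by
  have hinj := injective_Hn R r hr
  constructor
  · intro h
    obtain ⟨k, hk⟩ := exists_pow_smul_eq_zero_of_isFiniteLength _ h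
    let X' : Submodule R X := (maximalIdeal R ^ k) • (⊤ : Submodule R X)
    have hX' : Subsingleton X' := by
      obtain ⟨f', hf'⟩ := exists_isInjectiveHull R r hr
      apply Groth.Agent.Lib.Helper8.LocDualK.subsingleton_of_hom_eq_zero (Hn R r) f' hf'.injective
      intro μ
      obtain ⟨lam, hlam⟩ := Module.Injective.extension_property R (Hn R r) _ _ X'.subtype
        X'.injective_subtype μ
      apply LinearMap.ext
      intro y
      rw [← hlam, LinearMap.comp_apply, LinearMap.zero_apply]
      have hy : (y : X) ∈ X' := y.2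
      change lam (y : X) = 0
      refine Submodule.smul_induction_on hy ?_ ?_
      · intro a ha x _
        have h1 := hk a ha lam
        have h2 := LinearMap.congr_fun h1 x
        rw [LinearMap.smul_apply, ← map_smul] at h2
        exact h2
      · intro y z hy hz
        rw [map_add, hy, hz, add_zero]
    apply isFiniteLength_of_finite_of_pow_smul X k
    intro a ha x
    have h1 : a • x ∈ X' := Submodule.smul_mem_smul ha trivial
    have h2 : (⟨a • x, h1⟩ : X') = 0 := Subsingleton.elim _ _
    exact congrArg Subtype.val h2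
  · intro h
    obtain ⟨k, hk⟩ := exists_pow_smul_eq_zero_of_isFiniteLength X h
    have hC : InC (maximalIdeal R) (ModuleCat.of R X) :=
      ⟨inferInstanceAs (Module.Finite R X), k, hk⟩
    have e1 := θEquiv (hvan R r hr) hC
    have e2 := Ψ r (ModuleCat.of R X) (ModuleCat.of R R)
    have hl := (ext_finiteLength R r hr X h).2
    rw [← Module.length_ne_top_iff]
    have h3 : Module.length R (X →ₗ[R] Hn R r) = Module.length R X := by
      rw [← hl, ← e2.length_eq, e1.length_eq]
    rw [h3, Module.length_ne_top_iff]
    exact h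

end Reg

end Groth.Agent.Lib.Helper8.Matlis
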