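import Mathlib
import Groth.Agent.Lib.Helper8Matlis
import Groth.Agent.Lib.Helper8Rees
import Groth.Agent.Lib.Helper28RegLoc
import Groth.Agent.Lib.Helper28FGDim
import Groth.Agent.S0563

/-! Finite length of `H^i_m(M)` over a quotient of a regular local ring (helper8). -/

set_option autoImplicit false
universe u
open CategoryTheory CategoryTheory.Abelian IsLocalRing

namespace Groth.Agent.Lib.Helper8.FinLen
open Groth.Agent.Lib.Helper8.ExtLES Groth.Agent.Lib.Helper8.Bridge Groth.Agent.Lib.Helper8.LC
  Groth.Agent.Lib.Helper8.ExtRep Groth.Agent.Lib.Helper8.RegHull Groth.Agent.Lib.Helper8.LocDual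
  Groth.Agent.Lib.Helper8.RegDual Groth.Agent.Lib.Helper8.LocDualK Groth.Agent.Lib.Helper8.Matlis

/-- `Ext^n_R(M, R)` is torsion with respect to the complement of `P`. -/
abbrev Tors {R : Type u} [CommRing R] (M : Type u) [AddCommGroup M] [Module R M] (P : Ideal R)
    [P.IsPrime] (n : ℕ) : Prop :=
  ∀ x : Ext.{u} (ModuleCat.of R M) (ModuleCat.of R R) n, ∃ s : P.primeCompl, (s : R) • x = 0

theorem isRegularRing_of_isRegularLocalRing (R : Type u) [CommRing R] [IsRegularLocalRing R] :
    IsRegularRing R :=
  isRegularRing_iff.mpr fun p _ =>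
    Groth.Agent.Lib.Helper28.isRegularLocalRing_localization_of_isRegularLocalRing R p

theorem tors_of_height_lt {R : Type u} [CommRing R] [IsRegularRing R] (M : Type u)
    [AddCommGroup M] [Module R M] [Module.Finite R M] (P : Ideal R) [P.IsPrime] (d : ℕ)
    (hd : P.height = d) (n : ℕ) (hn : d < n) : Tors M P n := by
  have hdim : ringKrullDim (Localization.AtPrime P) = d := by
    rw [IsLocalization.AtPrime.ringKrullDim_eq_height P (Localization.AtPrime P), hd]
    rfl
  have hpd := Groth.Agent.S0563.result (Localization.AtPrime P) d hdim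
    (LocalizedModule P.primeCompl M)
  have hsub := HasProjectiveDimensionLT.subsingleton.{u}
    (ModuleCat.of (Localization.AtPrime P) (LocalizedModule P.primeCompl M)) (d + 1) n (by omega)
    (ModuleCat.of (Localization.AtPrime P) (Localization.AtPrime P))
  exact (ExtLoc.ext_loc P.primeCompl (Algebra.linearMap R (Localization.AtPrime P)) n M
    (LocalizedModule P.primeCompl M) (LocalizedModule.mkLinearMap P.primeCompl M)).mpr hsub

theorem tors_of_not_ker_le {R A : Type u} [CommRing R] [CommRing A] [Algebra R A] (M : Type u)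
    [AddCommGroup M] [Module A M] [Module R M] [IsScalarTower R A M] (P : Ideal R) [P.IsPrime]
    (h : ¬ RingHom.ker (algebraMap R A) ≤ P) (n : ℕ) : Tors M P n := by
  obtain ⟨s, hs, hsP⟩ := Set.not_subset.mp h
  intro x
  refine ⟨⟨s, hsP⟩, ?_⟩
  apply Groth.Agent.Lib.Helper8.Rees.ext_smul_eq_zero_of_mem_annihilator_left
  rw [Module.mem_annihilator]
  intro m
  change s • (m : M) = 0
  rw [← algebraMap_smul A s (m : M), (RingHom.mem_ker).mp hs, zero_smul]

section Setting

variable {R A : Type u} [CommRing R] [IsRegularLocalRing R] [CommRing A] [IsNoetherianRing A]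
  [Algebra R A] (hπ : Function.Surjective (algebraMap R A))
  (M : Type u) [AddCommGroup M] [Module A M] [Module R M] [IsScalarTower R A M]
  [Module.Finite A M] (r : ℕ) (hr : ringKrullDim R = r)

include hπ in
omit [IsRegularLocalRing R] [IsNoetherianRing A] in
theorem ringKrullDim_quotient_eq (p : Ideal A) (P : Ideal R)
    (hP : P = p.comap (algebraMap R A)) : ringKrullDim (R ⧸ P) = ringKrullDim (A ⧸ p) := by
  let φ : R ⧸ P →+* A ⧸ p := Ideal.quotientMap p (algebraMap R A) (le_of_eq hP)
  have hφi : Function.Injective φ := Ideal.quotientMap_injective' (le_of_eq hP.symm)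
  have hφs : Function.Surjective φ := Ideal.quotientMap_surjective hπ
  exact ringKrullDim_eq_of_ringEquiv (RingEquiv.ofBijective φ ⟨hφi, hφs⟩)

include hπ hr in
omit [IsNoetherianRing A] in
theorem height_add_dim (p : Ideal A) (P : Ideal R) [P.IsPrime]
    (hP : P = p.comap (algebraMap R A)) (e : ℕ) (he : ringKrullDim (A ⧸ p) = e) :
    ∃ d : ℕ, P.height = d ∧ d + e = r := by
  have hCM : LocCoh.IsCohenMacaulayLocalRing R :=
    Groth.Agent.Lib.Helper5.isCohenMacaulayLocalRing_of_isRegularLocalRing R
  have hPfin : P.height ≠ ⊤ := Ideal.height_ne_top (Ideal.IsPrime.ne_top inferInstance)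
  obtain ⟨d, hd⟩ := ENat.ne_top_iff_exists.mp hPfin
  have hsum := Groth.Agent.Lib.Helper28.height_add_ringKrullDim_quotient_eq_of_isCohenMacaulayLocalRing
    P (Ideal.IsPrime.ne_top inferInstance)
  rw [ringKrullDim_quotient_eq hπ p P hP, he, hr, ← hd] at hsum
  exact ⟨d, hd.symm, by exact_mod_cast hsum⟩

include hπ hr in
theorem stalk_iff (p : Ideal A) [p.IsPrime] (P : Ideal R) [P.IsPrime]
    (hP : P = p.comap (algebraMap R A)) (e j i : ℕ) (he : ringKrullDim (A ⧸ p) = e)
    (hj : j + e = i) :
    Subsingleton (LocCoh.H (maximalIdeal (Localization.AtPrime p)) j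
        (LocalizedModule p.primeCompl M)) ↔ (r < i ∨ Tors M P (r - i)) := by
  have hreg : IsRegularRing R := isRegularRing_of_isRegularLocalRing R
  obtain ⟨d, hd, hsum'⟩ := height_add_dim hπ r hr p P hP e he
  rw [K_transfer hπ p P hP M d hd j]
  constructor
  · rintro (h | h)
    · left
      omega
    · by_cases hlt : r < i
      · exact Or.inl hlt
      · right
        have h1 : d - j = r - i := by omega
        rwa [h1] at h
  · rintro (h | h)
    · left
      omega
    · by_cases hlt : d < j
      · exact Or.inl hlt
      · right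
        have h1 : d - j = r - i := by omega
        rwa [h1]

end Setting

theorem isFiniteLength_congr {R : Type u} [CommRing R] {M N : Type u} [AddCommGroup M]
    [Module R M] [AddCommGroup N] [Module R N] (e : M ≃ₗ[R] N) :
    IsFiniteLength R M ↔ IsFiniteLength R N :=
  ⟨fun h => h.of_injective (f := e.symm.toLinearMap) e.symm.injective,
    fun h => h.of_injective (f := e.toLinearMap) e.injective⟩

section Global

variable {R A : Type u} [CommRing R] [IsRegularLocalRing R] [CommRing A] [IsLocalRing A]
  [IsNoetherianRing A] [Algebra R A] (hπ : Function.Surjective (algebraMap R A))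
  (M : Type u) [AddCommGroup M] [Module A M] [Module R M] [IsScalarTower R A M]
  [Module.Finite A M] (r : ℕ) (hr : ringKrullDim R = r)

include hπ in
omit [IsRegularLocalRing R] [IsNoetherianRing A] in
theorem map_maximalIdeal [IsLocalRing R] :
    Ideal.map (algebraMap R A) (maximalIdeal R) = maximalIdeal A := by
  have h1 : (maximalIdeal A).comap (algebraMap R A) = maximalIdeal R :=
    IsLocalRing.eq_maximalIdeal (Ideal.comap_isMaximal_of_surjective _ hπ)
  rw [← h1, Ideal.map_comap_of_surjective _ hπ]

include hπ in
omit [IsLocalRing A] [IsNoetherianRing A] in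
theorem isFiniteLength_iff_restrict (N : Type u) [AddCommGroup N] [Module A N] [Module R N]
    [IsScalarTower R A N] : IsFiniteLength A N ↔ IsFiniteLength R N := by
  rw [isFiniteLength_iff_isNoetherian_isArtinian, isFiniteLength_iff_isNoetherian_isArtinian]
  constructor
  · rintro ⟨hN, hA⟩
    have hRA : Module.Finite R A := Module.Finite.of_surjective (Algebra.linearMap R A) hπ
    have hAN : Module.Finite A N := inferInstance
    have hRN : Module.Finite R N := Module.Finite.trans A N
    exact ⟨isNoetherian_of_isNoetherianRing_of_finite R N,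
      isArtinian_of_surjective_algebraMap hπ⟩
  · rintro ⟨hN, hA⟩
    exact ⟨isNoetherian_of_tower R hN, isArtinian_of_tower R hA⟩

include hπ in
omit [Module.Finite A M] in
theorem exists_semilinear (i : ℕ) :
    ∃ φ : LocCoh.H (maximalIdeal A) i M ≃+ LocCoh.H (maximalIdeal R) i M,
      ∀ (c : R) (x : LocCoh.H (maximalIdeal A) i M), φ (algebraMap R A c • x) = c • φ x := by
  have h := Groth.Agent.S11614.result R A (maximalIdeal R) M i
  rw [map_maximalIdeal hπ] at h
  exact h

include hπ hr in
theorem global_iff (i : ℕ) :
    IsFiniteLength A (LocCoh.H (maximalIdeal A) i M) ↔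
      (r < i ∨ ∀ P : PrimeSpectrum R, P.asIdeal ≠ maximalIdeal R → Tors M P.asIdeal (r - i)) := by
  have hRA : Module.Finite R A := Module.Finite.of_surjective (Algebra.linearMap R A) hπ
  have hRM : Module.Finite R M := Module.Finite.trans A M
  obtain ⟨φ, hφ⟩ := exists_semilinear hπ M i
  by_cases hlt : r < i
  · simp only [hlt, true_or, iff_true]
    have hsub : Subsingleton (LocCoh.H (maximalIdeal R) i M) :=
      Groth.Agent.S0325.result R (maximalIdeal R) r hr.le M i hlt
    have : Subsingleton (LocCoh.H (maximalIdeal A) i M) := φ.toEquiv.subsingleton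
    exact IsFiniteLength.of_subsingleton
  · simp only [hlt, false_or]
    let _ : Module R (LocCoh.H (maximalIdeal A) i M) :=
      Module.compHom (LocCoh.H (maximalIdeal A) i M) (algebraMap R A)
    have hst : IsScalarTower R A (LocCoh.H (maximalIdeal A) i M) :=
      IsScalarTower.of_algebraMap_smul (fun c x => rfl)
    let φl : LocCoh.H (maximalIdeal A) i M ≃ₗ[R] LocCoh.H (maximalIdeal R) i M :=
      { φ with map_smul' := fun c x => hφ c x }
    obtain ⟨e⟩ := duality_regular R r hr M i (by omega)
    have hX0 : Module.Finite R (Ext.{u} (ModuleCat.of R M) (ModuleCat.of R R) (r - i)) :=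
      ModuleCat.finite_ext R (ModuleCat.of R M) (ModuleCat.of R R) (r - i)
    have hX : Module.Finite R (E (r - i) (ModuleCat.of R M) (ModuleCat.of R R)) :=
      Module.Finite.equiv (Ψ (r - i) (ModuleCat.of R M) (ModuleCat.of R R)).symm
    rw [isFiniteLength_iff_restrict hπ (LocCoh.H (maximalIdeal A) i M), isFiniteLength_congr φl,
      isFiniteLength_congr e, isFiniteLength_hom_Hn_iff R r hr,
      isFiniteLength_congr (Ψ (r - i) (ModuleCat.of R M) (ModuleCat.of R R)),
      isFiniteLength_iff_tors]
    constructor
    · intro h P hP x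
      obtain ⟨s, hs, hsx⟩ := h P hP x
      exact ⟨⟨s, hs⟩, hsx⟩
    · intro h P hP x
      obtain ⟨s, hsx⟩ := h P hP x
      exact ⟨s.1, s.2, hsx⟩

include hπ hr in
/-- Finite length of `H^i_m(M)` in terms of vanishing of shifted local cohomology of stalks. -/
theorem finiteLength_iff (i : ℕ) :
    IsFiniteLength A (LocCoh.H (maximalIdeal A) i M) ↔
      ∀ p : PrimeSpectrum A, p.asIdeal ≠ maximalIdeal A → ∀ (e j : ℕ),
        ringKrullDim (A ⧸ p.asIdeal) = e → j + e = i →
        Subsingleton (LocCoh.H (maximalIdeal (Localization.AtPrime p.asIdeal)) j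
          (LocalizedModule p.asIdeal.primeCompl M)) := by
  have hreg : IsRegularRing R := isRegularRing_of_isRegularLocalRing R
  have hRA : Module.Finite R A := Module.Finite.of_surjective (Algebra.linearMap R A) hπ
  have hRM : Module.Finite R M := Module.Finite.trans A M
  rw [global_iff hπ M r hr i]
  constructor
  · intro h p hp e j he hj
    rw [stalk_iff hπ M r hr p.asIdeal (p.asIdeal.comap (algebraMap R A)) rfl e j i he hj]
    rcases h with h | h
    · exact Or.inl h
    · right
      refine h ⟨p.asIdeal.comap (algebraMap R A), inferInstance⟩ ?_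
      intro hc
      apply hp
      change p.asIdeal.comap (algebraMap R A) = maximalIdeal R at hc
      rw [← Ideal.map_comap_of_surjective _ hπ p.asIdeal, hc, map_maximalIdeal hπ]
  · intro h
    by_cases hlt : r < i
    · exact Or.inl hlt
    · right
      intro P hP
      by_cases hker : RingHom.ker (algebraMap R A) ≤ P.asIdeal
      · have hp : (Ideal.map (algebraMap R A) P.asIdeal).IsPrime :=
          Ideal.map_isPrime_of_surjective hπ hker
        let p : PrimeSpectrum A := ⟨Ideal.map (algebraMap R A) P.asIdeal, hp⟩
        have hPp : P.asIdeal = p.asIdeal.comap (algebraMap R A) := by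
          change P.asIdeal = (Ideal.map _ P.asIdeal).comap _
          rw [Ideal.comap_map_of_surjective _ hπ]
          exact (sup_eq_left.mpr hker).symm
        have hpm : p.asIdeal ≠ maximalIdeal A := by
          intro hc
          apply hP
          rw [hPp, hc]
          exact IsLocalRing.eq_maximalIdeal (Ideal.comap_isMaximal_of_surjective _ hπ)
        have hnt : Nontrivial (A ⧸ p.asIdeal) := Ideal.Quotient.nontrivial_iff.mpr p.2.ne_top
        have hloc : IsLocalRing (A ⧸ p.asIdeal) :=
          IsLocalRing.of_surjective' (Ideal.Quotient.mk p.asIdeal) Ideal.Quotient.mk_surjective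
        obtain ⟨e, he⟩ := Groth.Agent.Lib.Helper5.exists_nat_ringKrullDim_eq (A ⧸ p.asIdeal)
        by_cases hei : e ≤ i
        · have h1 := h p hpm e (i - e) he (by omega)
          rw [stalk_iff hπ M r hr p.asIdeal P.asIdeal hPp e (i - e) i he (by omega)] at h1
          exact h1.resolve_left hlt
        · obtain ⟨d, hd, hsum⟩ := height_add_dim hπ r hr p.asIdeal P.asIdeal hPp e he
          exact tors_of_height_lt M P.asIdeal d hd (r - i) (by omega)
      · exact tors_of_not_ker_le M P.asIdeal hker (r - i)

end Global

end Groth.Agent.Lib.Helper8.FinLen
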