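import Mathlib
import Groth.Agent.Lib.Helper29GorHull
import Groth.Agent.Lib.Helper8LocDualK
import Groth.Agent.Lib.Helper8FinLen
import Groth.Agent.S0345
import Groth.Agent.S0341
import Groth.Agent.S11681

/-! Annihilators of `H^i_m(M)` over a homomorphic image of a Gorenstein local ring, in terms of
vanishing of shifted local cohomology of the stalks (helper29). This ports helper8's
`Helper8LocDualK` / `Helper8FinLen` from regular to Gorenstein rings. -/

set_option autoImplicit false
universe u
open CategoryTheory CategoryTheory.Abelian IsLocalRing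

namespace Groth.Agent.Lib.Helper29.GorAnn
open Groth.Agent.Lib.Helper8.ExtLES Groth.Agent.Lib.Helper8.Bridge Groth.Agent.Lib.Helper8.LC
  Groth.Agent.Lib.Helper8.ExtRep Groth.Agent.Lib.Helper8.LocDual
  Groth.Agent.Lib.Helper29.GorHull

/-- A Gorenstein local ring is a Gorenstein ring. -/
theorem isGorensteinRing_of_isGorensteinLocalRing (R : Type u) [CommRing R]
    [hR : LocCoh.IsGorensteinLocalRing R] : LocCoh.IsGorensteinRing R :=
  ((Groth.Agent.S0345.result R).mp hR.exists_hasInjectiveDimensionLT).1

section Kabs

variable {R : Type u} [CommRing R] [IsNoetherianRing R] (P : Ideal R) [P.IsPrime]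
  [LocCoh.IsGorensteinLocalRing (Localization.AtPrime P)] (d : ℕ)
  (hd : ringKrullDim (Localization.AtPrime P) = d)
  (M : Type u) [AddCommGroup M] [Module R M] [Module.Finite R M]
  (N' : Type u) [AddCommGroup N'] [Module R N'] [Module (Localization.AtPrime P) N']
  [IsScalarTower R (Localization.AtPrime P) N']
  (f : M →ₗ[R] N') [IsLocalizedModule P.primeCompl f]

include hd f in
theorem K_abs (j : ℕ) :
    Subsingleton (LocCoh.H (maximalIdeal (Localization.AtPrime P)) j N') ↔
      (d < j ∨ ∀ x : Ext.{u} (ModuleCat.of R M) (ModuleCat.of R R) (d - j),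
        ∃ s : P.primeCompl, (s : R) • x = 0) := by
  have hfin : Module.Finite (Localization.AtPrime P) N' :=
    Module.Finite.of_isLocalizedModule P.primeCompl f
  by_cases hj : d < j
  · simp only [hj, true_or, iff_true]
    exact Groth.Agent.S0325.result _ _ d hd.le N' j hj
  · simp only [hj, false_or]
    obtain ⟨e⟩ := duality_gorenstein (Localization.AtPrime P) d hd N' j (by omega)
    rw [Groth.Agent.Lib.Helper8.ExtLoc.ext_loc P.primeCompl
      (Algebra.linearMap R (Localization.AtPrime P)) (d - j) M N' f, ← subsingleton_E_iff]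
    constructor
    · intro h
      have h0 : ∀ lam : E (d - j) (ModuleCat.of (Localization.AtPrime P) N')
          (ModuleCat.of (Localization.AtPrime P) (Localization.AtPrime P)) →ₗ[Localization.AtPrime P]
          Hn (Localization.AtPrime P) d, lam = 0 := fun lam =>
        e.symm.injective (Subsingleton.elim _ _)
      obtain ⟨f', hf'⟩ := exists_isInjectiveHull_of_gorenstein (Localization.AtPrime P) d hd
      have := injective_Hn (Localization.AtPrime P) d (extVan (Localization.AtPrime P) d hd)
      exact Groth.Agent.Lib.Helper8.LocDualK.subsingleton_of_hom_eq_zero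
        (Hn (Localization.AtPrime P) d) f' hf'.injective _ h0
    · intro h
      refine ⟨fun a b => e.injective ?_⟩
      apply LinearMap.ext
      intro x
      rw [Subsingleton.elim x 0, map_zero, map_zero]

end Kabs

section Ktr

variable {R A : Type u} [CommRing R] [hR : LocCoh.IsGorensteinRing R] [CommRing A]
  [IsNoetherianRing A] [Algebra R A]

theorem K_transfer (hπ : Function.Surjective (algebraMap R A))
    (p : Ideal A) [p.IsPrime] (P : Ideal R) [P.IsPrime] (hP : P = p.comap (algebraMap R A))
    (M : Type u) [AddCommGroup M] [Module A M] [Module R M] [IsScalarTower R A M]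
    [Module.Finite A M] (d : ℕ) (hd : P.height = d) (j : ℕ) :
    Subsingleton (LocCoh.H (maximalIdeal (Localization.AtPrime p)) j
        (LocalizedModule p.primeCompl M)) ↔
      (d < j ∨ ∀ x : Ext.{u} (ModuleCat.of R M) (ModuleCat.of R R) (d - j),
        ∃ s : P.primeCompl, (s : R) • x = 0) := by
  have hGP : LocCoh.IsGorensteinLocalRing (Localization.AtPrime P) :=
    hR.isGorensteinLocalRing_localization P
  have hRA : Module.Finite R A := Module.Finite.of_surjective (Algebra.linearMap R A) hπ
  have hRM : Module.Finite R M := Module.Finite.trans A M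
  have hloc : IsLocalizedModule (Algebra.algebraMapSubmonoid A P.primeCompl)
      (LocalizedModule.mkLinearMap p.primeCompl M) := by
    rw [← Groth.Agent.Lib.Helper8.LocDualK.primeCompl_eq_algebraMapSubmonoid hπ p P hP]
    infer_instance
  let f : M →ₗ[R] LocalizedModule p.primeCompl M :=
    (LocalizedModule.mkLinearMap p.primeCompl M).restrictScalars R
  have hf : IsLocalizedModule P.primeCompl f :=
    IsLocalizedModule.restrictScalars P.primeCompl (LocalizedModule.mkLinearMap p.primeCompl M)
  let _ : Module (Localization.AtPrime P) (LocalizedModule p.primeCompl M) :=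
    IsLocalizedModule.module P.primeCompl f
  have hst : IsScalarTower R (Localization.AtPrime P) (LocalizedModule p.primeCompl M) :=
    IsLocalizedModule.isScalarTower_module P.primeCompl f
  have hdim : ringKrullDim (Localization.AtPrime P) = d := by
    rw [IsLocalization.AtPrime.ringKrullDim_eq_height P (Localization.AtPrime P), hd]
    rfl
  rw [← K_abs P d hdim M (LocalizedModule p.primeCompl M) f j]
  obtain ⟨φ₁, _⟩ := Groth.Agent.S11614.result A (Localization.AtPrime p) p
    (LocalizedModule p.primeCompl M) j
  rw [Localization.AtPrime.map_eq_maximalIdeal] at φ₁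
  obtain ⟨φ₂, _⟩ := Groth.Agent.S11614.result R A P (LocalizedModule p.primeCompl M) j
  have hmap : Ideal.map (algebraMap R A) P = p := by
    rw [hP, Ideal.map_comap_of_surjective _ hπ]
  rw [hmap] at φ₂
  obtain ⟨φ₃, _⟩ := Groth.Agent.S11614.result R (Localization.AtPrime P) P
    (LocalizedModule p.primeCompl M) j
  rw [Localization.AtPrime.map_eq_maximalIdeal] at φ₃
  exact (φ₁.trans (φ₂.trans φ₃.symm)).toEquiv.subsingleton_congr

end Ktr

section Setting

open Groth.Agent.Lib.Helper8.FinLen

variable {R A : Type u} [CommRing R] [hR : LocCoh.IsGorensteinLocalRing R] [CommRing A]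
  [IsNoetherianRing A] [Algebra R A] (hπ : Function.Surjective (algebraMap R A))
  (M : Type u) [AddCommGroup M] [Module A M] [Module R M] [IsScalarTower R A M]
  [Module.Finite A M] (r : ℕ) (hr : ringKrullDim R = r)

theorem tors_of_height_lt (M : Type u)
    [AddCommGroup M] [Module R M] [Module.Finite R M] (P : Ideal R) [P.IsPrime] (d : ℕ)
    (hd : P.height = d) (n : ℕ) (hn : d < n) : Tors M P n := by
  have hG : LocCoh.IsGorensteinRing R := isGorensteinRing_of_isGorensteinLocalRing R
  have hGP : LocCoh.IsGorensteinLocalRing (Localization.AtPrime P) :=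
    hG.isGorensteinLocalRing_localization P
  have hdim : ringKrullDim (Localization.AtPrime P) = d := by
    rw [IsLocalization.AtPrime.ringKrullDim_eq_height P (Localization.AtPrime P), hd]
    rfl
  have hinj := (Groth.Agent.Lib.Helper29Gorenstein.depth_eq_and_hasInjectiveDimensionLT
    (Localization.AtPrime P) d hdim).2
  have hsub := HasInjectiveDimensionLT.subsingleton.{u}
    (ModuleCat.of (Localization.AtPrime P) (Localization.AtPrime P)) (d + 1) n (by omega)
    (ModuleCat.of (Localization.AtPrime P) (LocalizedModule P.primeCompl M))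
  exact (Groth.Agent.Lib.Helper8.ExtLoc.ext_loc P.primeCompl
    (Algebra.linearMap R (Localization.AtPrime P)) n M
    (LocalizedModule P.primeCompl M) (LocalizedModule.mkLinearMap P.primeCompl M)).mpr hsub

include hπ hr in
omit [IsNoetherianRing A] in
theorem height_add_dim (p : Ideal A) (P : Ideal R) [P.IsPrime]
    (hP : P = p.comap (algebraMap R A)) (e : ℕ) (he : ringKrullDim (A ⧸ p) = e) :
    ∃ d : ℕ, P.height = d ∧ d + e = r := by
  have hCM : LocCoh.IsCohenMacaulayLocalRing R := Groth.Agent.S0341.result R
  have hPfin : P.height ≠ ⊤ := Ideal.height_ne_top (Ideal.IsPrime.ne_top inferInstance)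
  obtain ⟨d, hd⟩ := ENat.ne_top_iff_exists.mp hPfin
  have hsum := Groth.Agent.Lib.Helper28.height_add_ringKrullDim_quotient_eq_of_isCohenMacaulayLocalRing
    P (Ideal.IsPrime.ne_top inferInstance)
  rw [ringKrullDim_quotient_eq hπ p P hP, he, hr, ← hd] at hsum
  exact ⟨d, hd.symm, by exact_mod_cast hsum⟩

include hπ hr in
theorem stalk_iff (p : Ideal A) [p.IsPrime] (P : Ideal R) [P.IsPrime]
    (hP : P = p.comap (algebraMap R A)) (e j i : ℕ) (he : ringKrullDim (A ⧸ p) = e)
    (hj : j + e = i) :
    Subsingleton (LocCoh.H (maximalIdeal (Localization.AtPrime p)) j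
        (LocalizedModule p.primeCompl M)) ↔ (r < i ∨ Tors M P (r - i)) := by
  have hG : LocCoh.IsGorensteinRing R := isGorensteinRing_of_isGorensteinLocalRing R
  obtain ⟨d, hd, hsum'⟩ := height_add_dim hπ r hr p P hP e he
  rw [K_transfer hπ p P hP M d hd j]
  constructor
  · rintro (h | h)
    · left
      omega
    · by_cases hlt : r < i
      · exact Or.inl hlt
      · right
        have h1 : d - j = r - i := by omega
        rwa [h1] at h
  · rintro (h | h)
    · left
      omega
    · by_cases hlt : d < j
      · exact Or.inl hlt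
      · right
        have h1 : d - j = r - i := by omega
        rwa [h1]

end Setting

section Supp

variable {R : Type u} [CommRing R]

/-- For a finite module `X`: `J ≤ √Ann X` iff `X` is torsion w.r.t. the complement of every prime
not containing `J`. -/
theorem le_radical_annihilator_iff (X : Type u) [AddCommGroup X] [Module R X] [Module.Finite R X]
    (J : Ideal R) :
    J ≤ (Module.annihilator R X).radical ↔
      ∀ P : PrimeSpectrum R, ¬ J ≤ P.asIdeal → ∀ x : X, ∃ s : P.asIdeal.primeCompl, (s : R) • x = 0 := by
  constructor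
  · intro h P hP x
    obtain ⟨c, hc, hcP⟩ := Set.not_subset.mp hP
    obtain ⟨k, hk⟩ := h hc
    refine ⟨⟨c ^ k, fun hck => hcP (P.2.mem_of_pow_mem k hck)⟩, ?_⟩
    exact Module.mem_annihilator.mp hk x
  · intro h
    rw [Ideal.radical_eq_sInf]
    refine le_sInf ?_
    rintro Q ⟨hQle, hQ⟩
    by_contra hJQ
    have h1 := h ⟨Q, hQ⟩ hJQ
    have h2 : (⟨Q, hQ⟩ : PrimeSpectrum R) ∉ Module.support R X := by
      rw [Module.notMem_support_iff']
      intro x
      obtain ⟨s, hs⟩ := h1 x
      exact ⟨s.1, s.2, hs⟩
    rw [Module.support_eq_zeroLocus, PrimeSpectrum.mem_zeroLocus] at h2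
    exact h2 hQle

end Supp

section Global

open Groth.Agent.Lib.Helper8.FinLen

variable {R A : Type u} [CommRing R] [hR : LocCoh.IsGorensteinLocalRing R] [CommRing A]
  [IsLocalRing A] [IsNoetherianRing A] [Algebra R A]
  (hπ : Function.Surjective (algebraMap R A))
  (M : Type u) [AddCommGroup M] [Module A M] [Module R M] [IsScalarTower R A M]
  [Module.Finite A M] (r : ℕ) (hr : ringKrullDim R = r)

include hπ in
omit [Module.Finite A M] in
theorem exists_semilinear (i : ℕ) :
    ∃ φ : LocCoh.H (maximalIdeal A) i M ≃+ LocCoh.H (maximalIdeal R) i M,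
      ∀ (c : R) (x : LocCoh.H (maximalIdeal A) i M), φ (algebraMap R A c • x) = c • φ x := by
  have h := Groth.Agent.S11614.result R A (maximalIdeal R) M i
  rw [map_maximalIdeal hπ] at h
  exact h

include hπ hr in
theorem global_iff (J : Ideal A) (i : ℕ) :
    J ≤ (Module.annihilator A (LocCoh.H (maximalIdeal A) i M)).radical ↔
      (r < i ∨ ∀ P : PrimeSpectrum R, ¬ J.comap (algebraMap R A) ≤ P.asIdeal →
        Tors M P.asIdeal (r - i)) := by
  have hRA : Module.Finite R A := Module.Finite.of_surjective (Algebra.linearMap R A) hπ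
  have hRM : Module.Finite R M := Module.Finite.trans A M
  obtain ⟨φ, hφ⟩ := exists_semilinear hπ M i
  by_cases hlt : r < i
  · simp only [hlt, true_or, iff_true]
    have hsub : Subsingleton (LocCoh.H (maximalIdeal R) i M) :=
      Groth.Agent.S0325.result R (maximalIdeal R) r hr.le M i hlt
    have : Subsingleton (LocCoh.H (maximalIdeal A) i M) := φ.toEquiv.subsingleton
    rw [Module.annihilator_eq_top_iff.mpr this, Ideal.radical_top]
    exact le_top
  · simp only [hlt, false_or]
    -- annihilators over `A` and over `R`
    have hann : ∀ c : R, algebraMap R A c ∈ Module.annihilator A (LocCoh.H (maximalIdeal A) i M) ↔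
        c ∈ Module.annihilator R (LocCoh.H (maximalIdeal R) i M) := by
      intro c
      rw [Module.mem_annihilator, Module.mem_annihilator]
      constructor
      · intro h y
        obtain ⟨x, rfl⟩ := φ.surjective y
        rw [← hφ, h x, map_zero]
      · intro h x
        apply φ.injective
        rw [hφ, h, map_zero]
    have hrad : J ≤ (Module.annihilator A (LocCoh.H (maximalIdeal A) i M)).radical ↔
        J.comap (algebraMap R A) ≤
          (Module.annihilator R (LocCoh.H (maximalIdeal R) i M)).radical := by
      constructor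
      · intro h c hc
        obtain ⟨k, hk⟩ := h (Ideal.mem_comap.mp hc)
        refine ⟨k, ?_⟩
        rw [← hann, map_pow]
        exact hk
      · intro h a ha
        obtain ⟨c, rfl⟩ := hπ a
        obtain ⟨k, hk⟩ := h (Ideal.mem_comap.mpr ha)
        refine ⟨k, ?_⟩
        rw [← map_pow, hann]
        exact hk
    obtain ⟨e⟩ := duality_gorenstein R r hr M i (by omega)
    obtain ⟨f', hf'⟩ := exists_isInjectiveHull_of_gorenstein R r hr
    have hX0 : Module.Finite R (Ext.{u} (ModuleCat.of R M) (ModuleCat.of R R) (r - i)) :=
      ModuleCat.finite_ext R (ModuleCat.of R M) (ModuleCat.of R R) (r - i)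
    have ha1 : Module.annihilator R (LocCoh.H (maximalIdeal R) i M) =
        Module.annihilator R (Ext.{u} (ModuleCat.of R M) (ModuleCat.of R R) (r - i)) := by
      rw [e.annihilator_eq,
        ← ((Groth.Agent.S11681.result R (Hn R r) f' hf').1
          (E (r - i) (ModuleCat.of R M) (ModuleCat.of R R))).2,
        (Ψ (r - i) (ModuleCat.of R M) (ModuleCat.of R R)).annihilator_eq]
    rw [hrad, ha1, le_radical_annihilator_iff]

include hπ hr in
/-- `J ≤ √Ann H^i_m(M)` in terms of vanishing of shifted local cohomology of the stalks at primes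
not containing `J`. -/
theorem annihilator_iff (J : Ideal A) (i : ℕ) :
    J ≤ (Module.annihilator A (LocCoh.H (maximalIdeal A) i M)).radical ↔
      ∀ p : PrimeSpectrum A, ¬ J ≤ p.asIdeal → ∀ (e j : ℕ),
        ringKrullDim (A ⧸ p.asIdeal) = e → j + e = i →
        Subsingleton (LocCoh.H (maximalIdeal (Localization.AtPrime p.asIdeal)) j
          (LocalizedModule p.asIdeal.primeCompl M)) := by
  have hRA : Module.Finite R A := Module.Finite.of_surjective (Algebra.linearMap R A) hπ
  have hRM : Module.Finite R M := Module.Finite.trans A M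
  rw [global_iff hπ M r hr J i]
  constructor
  · intro h p hp e j he hj
    rw [stalk_iff hπ M r hr p.asIdeal (p.asIdeal.comap (algebraMap R A)) rfl e j i he hj]
    rcases h with h | h
    · exact Or.inl h
    · right
      refine h ⟨p.asIdeal.comap (algebraMap R A), inferInstance⟩ ?_
      intro hc
      apply hp
      intro a ha
      obtain ⟨c, rfl⟩ := hπ a
      exact hc (Ideal.mem_comap.mpr ha)
  · intro h
    by_cases hlt : r < i
    · exact Or.inl hlt
    · right
      intro P hP
      by_cases hker : RingHom.ker (algebraMap R A) ≤ P.asIdeal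
      · have hp : (Ideal.map (algebraMap R A) P.asIdeal).IsPrime :=
          Ideal.map_isPrime_of_surjective hπ hker
        let p : PrimeSpectrum A := ⟨Ideal.map (algebraMap R A) P.asIdeal, hp⟩
        have hPp : P.asIdeal = p.asIdeal.comap (algebraMap R A) := by
          change P.asIdeal = (Ideal.map _ P.asIdeal).comap _
          rw [Ideal.comap_map_of_surjective _ hπ]
          exact (sup_eq_left.mpr hker).symm
        have hpJ : ¬ J ≤ p.asIdeal := by
          intro hc
          apply hP
          rw [hPp]
          exact Ideal.comap_mono hc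
        have hnt : Nontrivial (A ⧸ p.asIdeal) := Ideal.Quotient.nontrivial_iff.mpr p.2.ne_top
        have hloc : IsLocalRing (A ⧸ p.asIdeal) :=
          IsLocalRing.of_surjective' (Ideal.Quotient.mk p.asIdeal) Ideal.Quotient.mk_surjective
        obtain ⟨e, he⟩ := Groth.Agent.Lib.Helper5.exists_nat_ringKrullDim_eq (A ⧸ p.asIdeal)
        by_cases hei : e ≤ i
        · have h1 := h p hpJ e (i - e) he (by omega)
          rw [stalk_iff hπ M r hr p.asIdeal P.asIdeal hPp e (i - e) i he (by omega)] at h1
          exact h1.resolve_left hlt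
        · obtain ⟨d, hd, hsum⟩ := height_add_dim hπ r hr p.asIdeal P.asIdeal hPp e he
          exact tors_of_height_lt M P.asIdeal d hd (r - i) (by omega)
      · exact tors_of_not_ker_le M P.asIdeal hker (r - i)

end Global

end Groth.Agent.Lib.Helper29.GorAnn
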