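import Groth.Agent.Lib.Helper8CdDim

set_option autoImplicit false
universe u
open CategoryTheory CategoryTheory.Limits Opposite

/-! Every local cohomology class of a module comes from a finitely generated submodule. -/

namespace Groth.Agent.Lib.Helper8.FG

open Groth.Agent.Lib.Helper8.ExtLES Groth.Agent.Lib.Helper8.LC Groth.Agent.Lib.Helper8.MV
  Groth.Agent.Lib.Helper8.LocLES Groth.Agent.Lib.Helper8.GV Groth.Agent.Lib.Helper8.Acyc
  Groth.Agent.Lib.Helper8.CdDim

variable {R : Type u} [CommRing R]

theorem exists_fg_map_eq {E Q : Type u} [AddCommGroup E] [Module R E] [AddCommGroup Q] [Module R Q]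
    (g : E →ₗ[R] Q) (hg : Function.Surjective g) (N' : Submodule R Q) (hN' : N'.FG) :
    ∃ E' : Submodule R E, E'.FG ∧ E'.map g = N' := by
  classical
  obtain ⟨s, hs⟩ := hN'
  refine ⟨Submodule.span R ((s.image (Function.surjInv hg) : Finset E) : Set E),
    ⟨_, rfl⟩, ?_⟩
  rw [Submodule.map_span, Finset.coe_image, Set.image_image]
  have : (fun x => g (Function.surjInv hg x)) = id := funext (Function.surjInv_eq hg)
  rw [this, Set.image_id, hs]

theorem fg_of_le_fg [IsNoetherianRing R] {E : Type u} [AddCommGroup E] [Module R E]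
    (K E' : Submodule R E) (hE' : E'.FG) (hle : K ≤ E') : K.FG := by
  have hnoeth : IsNoetherian R E' := isNoetherian_of_fg_of_noetherian E' hE'
  have h1 : (K.comap E'.subtype).FG := IsNoetherian.noetherian _
  have h2 : (K.comap E'.subtype).map E'.subtype = K := by
    rw [Submodule.map_comap_eq, Submodule.range_subtype]
    exact inf_eq_right.mpr hle
  rw [← h2]
  exact h1.map _

theorem exists_fg_rep [IsNoetherianRing R] (I : Ideal R) (i : ℕ) :
    ∀ (M : Type u) [AddCommGroup M] [Module R M] (x : LocCoh.H I i M),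
      ∃ N : Submodule R M, N.FG ∧ ∃ x' : LocCoh.H I i N,
        (localCohomology I i).map (ModuleCat.ofHom N.subtype) x' = x := by
  induction i with
  | zero =>
    intro M _ _ x
    have hm := Φ_mem_torsionSub I (ModuleCat.of R M) x
    let m : M := Φ I (ModuleCat.of R M) x
    let N : Submodule R M := Submodule.span R {m}
    have hmN : m ∈ N := Submodule.mem_span_singleton_self m
    have hm' : (⟨m, hmN⟩ : N) ∈ DRing.torsionSub I N := by
      obtain ⟨n, hn⟩ := hm
      exact ⟨n, fun a ha => Subtype.ext (hn a ha)⟩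
    obtain ⟨x', hx'⟩ := exists_Φ_eq I (ModuleCat.of R N) _ hm'
    refine ⟨N, Submodule.fg_span_singleton m, x', ?_⟩
    apply Φ_injective I (ModuleCat.of R M)
    rw [Φ_naturality, hx']
    rfl
  | succ i ih =>
    intro M _ _ x
    let S := injSES (ModuleCat.of R M)
    have hS : S.ShortExact := injSES_shortExact _
    obtain ⟨z, hz⟩ := Hδ_surjective S hS I i x
    obtain ⟨N', hN', z', hz'⟩ := ih S.X₃ z
    have hf : Function.Injective S.f.hom := (ModuleCat.mono_iff_injective S.f).mp hS.mono_f
    have hg : Function.Surjective S.g.hom := (ModuleCat.epi_iff_surjective S.g).mp hS.epi_g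
    have hex : Function.Exact S.f.hom S.g.hom :=
      (ShortComplex.ShortExact.moduleCat_exact_iff_function_exact S).mp hS.exact
    obtain ⟨E', hE', hmap⟩ := exists_fg_map_eq S.g.hom hg N' hN'
    let N : Submodule R M := E'.comap S.f.hom
    have hNfg : N.FG := by
      apply Submodule.fg_of_fg_map_injective S.f.hom hf
      exact fg_of_le_fg _ E' hE' (Submodule.map_comap_le _ _)
    -- the restricted maps
    let f' : N →ₗ[R] E' := S.f.hom.restrict (fun m hm => hm)
    let g' : E' →ₗ[R] N' := S.g.hom.restrict (fun e he => hmap ▸ Submodule.mem_map_of_mem he)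
    have hf' : Function.Injective f' := by
      intro a b hab
      apply Subtype.ext
      apply hf
      exact congrArg Subtype.val hab
    have hg' : Function.Surjective g' := by
      rintro ⟨q, hq⟩
      rw [← hmap] at hq
      obtain ⟨e, he, rfl⟩ := hq
      exact ⟨⟨e, he⟩, rfl⟩
    have hex' : Function.Exact f' g' := by
      intro e
      constructor
      · intro he
        have h1 : S.g.hom e.1 = 0 := congrArg Subtype.val he
        obtain ⟨m, hm⟩ := (hex e.1).mp h1
        refine ⟨⟨m, ?_⟩, Subtype.ext hm⟩
        change S.f.hom m ∈ E'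
        rw [hm]
        exact e.2
      · rintro ⟨m, rfl⟩
        apply Subtype.ext
        exact (hex _).mpr ⟨m.1, rfl⟩
    have hS' := Sfg_shortExact f' g' hf' hg' hex'
    let φ : Sfg f' g' hex' ⟶ S :=
      { τ₁ := ModuleCat.ofHom N.subtype
        τ₂ := ModuleCat.ofHom E'.subtype
        τ₃ := ModuleCat.ofHom N'.subtype
        comm₁₂ := rfl
        comm₂₃ := rfl }
    refine ⟨N, hNfg, Hδ I i (Sfg f' g' hex') hS' z', ?_⟩
    have hnat := Hδ_naturality I i hS' hS φ z'
    refine hnat.trans ?_
    rw [← hz]
    exact congrArg _ hz'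

/-- Vanishing on finitely generated modules implies vanishing on all modules. -/
theorem eq_zero_of_fg [IsNoetherianRing R] (I : Ideal R) (i : ℕ)
    (h : ∀ (N : Type u) [AddCommGroup N] [Module R N] [Module.Finite R N]
      (y : LocCoh.H I i N), y = 0)
    (M : Type u) [AddCommGroup M] [Module R M] (x : LocCoh.H I i M) : x = 0 := by
  obtain ⟨N, hN, x', rfl⟩ := exists_fg_rep I i M x
  have : Module.Finite R N := Module.Finite.iff_fg.mpr hN
  rw [h N x', map_zero]

end Groth.Agent.Lib.Helper8.FG
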