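import Mathlib
import Groth.Agent.Lib.Helper8LocDual
import Groth.Agent.Lib.Helper1ExtCech5

/-! Watts-type theorem for top local cohomology: if `cd(R, I) ≤ r` (`R` Noetherian) then
`H^r_I(R) ⊗ M → H^r_I(M)` is bijective, naturally in `M` (helper8). -/

set_option autoImplicit false
universe u
open CategoryTheory CategoryTheory.Limits Opposite

namespace Groth.Agent.Lib.Helper8.Watts
open Groth.Agent.Lib.Helper8.ExtLES Groth.Agent.Lib.Helper8.Bridge Groth.Agent.Lib.Helper8.LC
  Groth.Agent.Lib.Helper8.ExtRep Groth.Agent.Lib.Helper8.LocDual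
open TensorProduct

section Gen

variable {R : Type u} [CommRing R] (I : Ideal R) (r : ℕ)

lemma pt_add {M : ModuleCat.{u} R} (x y : M) : pt (x + y) = pt x + pt y := by
  ext
  simp [pt]

lemma pt_smul {M : ModuleCat.{u} R} (a : R) (x : M) : pt (a • x) = a • pt x := by
  ext
  simp [pt]

/-- The comparison map `H^r_I(R) ⊗ M → H^r_I(M)`. -/
noncomputable def τ (M : ModuleCat.{u} R) :
    (Er I r) ⊗[R] M →ₗ[R] (localCohomology I r).obj M :=
  TensorProduct.lift (LinearMap.mk₂ R
    (fun (c : Er I r) (x : M) => ((localCohomology I r).map (pt x)).hom c)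
    (fun c c' x => map_add _ c c')
    (fun a c x => map_smul _ a c)
    (fun c x y => by rw [pt_add]; exact H_map_add I r _ _ c)
    (fun a c x => by rw [pt_smul]; exact H_map_smul I r a _ c))

theorem τ_tmul (M : ModuleCat.{u} R) (c : Er I r) (x : M) :
    τ I r M (c ⊗ₜ x) = (localCohomology I r).map (pt x) c := by
  simp [τ]

/-- `id ⊗ f`. -/
noncomputable abbrev L {M M' : ModuleCat.{u} R} (f : M ⟶ M') :
    (Er I r) ⊗[R] M →ₗ[R] (Er I r) ⊗[R] M' :=
  LinearMap.lTensor (Er I r) f.hom

theorem L_comp {M M' M'' : ModuleCat.{u} R} (f : M ⟶ M') (g : M' ⟶ M'') (t : (Er I r) ⊗[R] M) :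
    L I r (f ≫ g) t = L I r g (L I r f t) := by
  simp only [L, ModuleCat.hom_comp, LinearMap.lTensor_comp]
  rfl

theorem L_id {M : ModuleCat.{u} R} (t : (Er I r) ⊗[R] M) : L I r (𝟙 M) t = t := by
  simp [L]

theorem L_add {M M' : ModuleCat.{u} R} (f g : M ⟶ M') (t : (Er I r) ⊗[R] M) :
    L I r (f + g) t = L I r f t + L I r g t := by
  simp [L, LinearMap.lTensor_add]

theorem L_zero {M M' : ModuleCat.{u} R} (t : (Er I r) ⊗[R] M) :
    L I r (0 : M ⟶ M') t = 0 := by
  simp [L]

theorem L_sum {M M' : ModuleCat.{u} R} {ι : Type*} (s : Finset ι) (f : ι → (M ⟶ M'))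
    (t : (Er I r) ⊗[R] M) : L I r (∑ j ∈ s, f j) t = ∑ j ∈ s, L I r (f j) t := by
  classical
  induction s using Finset.induction_on with
  | empty => rw [Finset.sum_empty, Finset.sum_empty]; exact L_zero I r t
  | insert a s ha ih => rw [Finset.sum_insert ha, Finset.sum_insert ha, L_add, ih]

theorem τ_natural {M M' : ModuleCat.{u} R} (ψ : M ⟶ M') (t : (Er I r) ⊗[R] M) :
    (localCohomology I r).map ψ (τ I r M t) = τ I r M' (L I r ψ t) := by
  induction t using TensorProduct.induction_on with
  | zero => rw [map_zero, map_zero, map_zero, map_zero]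
  | tmul c x =>
    rw [τ_tmul, L, LinearMap.lTensor_tmul, τ_tmul, ← H_map_comp, pt_comp]
  | add t t' h h' => rw [map_add, map_add, h, h', map_add, map_add]

theorem pt_eq_smul (a : R) : pt (M := ModuleCat.of R R) a = a • 𝟙 (ModuleCat.of R R) := by
  have h := hom_self_eq_smul (pt (M := ModuleCat.of R R) a)
  rwa [pt_one] at h

theorem τ_self_eq (t : (Er I r) ⊗[R] (ModuleCat.of R R)) :
    τ I r (ModuleCat.of R R) t = TensorProduct.rid R (Er I r) t := by
  induction t using TensorProduct.induction_on with
  | zero => rw [map_zero, map_zero]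
  | tmul c a => rw [τ_tmul, pt_eq_smul, H_map_smul, H_map_id, TensorProduct.rid_tmul]
  | add t t' h h' => rw [map_add, map_add, h, h']

theorem τ_self_bijective : Function.Bijective (τ I r (ModuleCat.of R R)) := by
  have h : ⇑(τ I r (ModuleCat.of R R)) = ⇑(TensorProduct.rid R (Er I r)) :=
    funext (τ_self_eq I r)
  rw [h]
  exact (TensorProduct.rid R (Er I r)).bijective

theorem τ_pi_injective (b : ℕ) : Function.Injective (τ I r (PiQ (R := R) (Q := R) b)) := by
  rw [injective_iff_map_eq_zero]
  intro t ht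
  have h1 : ∀ j, L I r (πj (R := R) (Q := R) b j) t = 0 := by
    intro j
    apply (τ_self_bijective I r).1
    rw [map_zero, ← τ_natural, ht, map_zero]
  rw [← L_id I r t, ← sum_πj_ιj b, L_sum]
  apply Finset.sum_eq_zero
  intro j _
  rw [L_comp, h1 j, map_zero]

theorem τ_pi_surjective (b : ℕ) : Function.Surjective (τ I r (PiQ (R := R) (Q := R) b)) := by
  intro c
  have h1 : ∀ j : Fin b, ∃ tj, τ I r (ModuleCat.of R R) tj =
      (localCohomology I r).map (πj (R := R) (Q := R) b j) c :=
    fun j => (τ_self_bijective I r).2 _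
  choose tj htj using h1
  refine ⟨∑ j, L I r (ιj (R := R) (Q := R) b j) (tj j), ?_⟩
  rw [map_sum]
  conv_rhs => rw [← H_map_id I r c, ← sum_πj_ιj b, H_map_sum]
  apply Finset.sum_congr rfl
  intro j _
  rw [← τ_natural, htj, ← H_map_comp]

end Gen

section Fin

variable {R : Type u} [CommRing R] (I : Ideal R) (r : ℕ)

theorem τ_surjective_of_finite (hcd : LocCoh.CdLE R I r) (X : Type u) [AddCommGroup X] [Module R X]
    [Module.Finite R X] : Function.Surjective (τ I r (ModuleCat.of R X)) := by
  intro c
  obtain ⟨b, p, hp⟩ := Module.Finite.exists_fin' R X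
  let S := p.shortComplexKer
  have hS : S.ShortExact := LinearMap.shortExact_shortComplexKer hp
  have hsub : Subsingleton ((localCohomology I (r + 1)).obj S.X₁) :=
    hcd (LinearMap.ker p) (r + 1) (lt_add_one r)
  obtain ⟨c₀, hc₀⟩ := H_exact₃ I r S hS c (hsub.elim _ _)
  obtain ⟨t, ht⟩ := τ_pi_surjective I r b c₀
  refine ⟨L I r S.g t, ?_⟩
  rw [← τ_natural, ht]
  exact hc₀

theorem τ_injective_of_finite [IsNoetherianRing R] (hcd : LocCoh.CdLE R I r) (X : Type u)
    [AddCommGroup X] [Module R X] [Module.Finite R X] :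
    Function.Injective (τ I r (ModuleCat.of R X)) := by
  rw [injective_iff_map_eq_zero]
  intro t ht
  obtain ⟨b, p, hp⟩ := Module.Finite.exists_fin' R X
  let S := p.shortComplexKer
  have hS : S.ShortExact := LinearMap.shortExact_shortComplexKer hp
  obtain ⟨t₂, rfl⟩ := LinearMap.lTensor_surjective (Er I r) hp t
  have h0 : (localCohomology I r).map S.g (τ I r S.X₂ t₂) = 0 := by
    rw [τ_natural]
    exact ht
  obtain ⟨k, hk⟩ := H_exact₂ I r S hS _ h0
  have hfin : Module.Finite R (LinearMap.ker p) := inferInstance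
  obtain ⟨t₁, ht₁⟩ := τ_surjective_of_finite I r hcd (LinearMap.ker p) k
  have h1 : L I r S.f t₁ = t₂ := by
    apply τ_pi_injective I r b
    rw [← τ_natural]
    exact (congrArg _ ht₁).trans hk
  rw [← h1]
  change L I r S.g (L I r S.f t₁) = 0
  rw [← L_comp, S.zero, L_zero]

end Fin

section Colim

variable {R : Type u} [CommRing R] (M : ModuleCat.{u} R)

open Classical in
/-- The cocone of finitely generated submodules with point `M`. -/
noncomputable def fgCocone :
    Cocone (ModuleCat.directLimitDiagram (fun N : {N : Submodule R M // N.FG} => N.1)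
      (Module.fgSystem R M)) where
  pt := M
  ι :=
    { app := fun N => ModuleCat.ofHom N.1.subtype
      naturality := fun _ _ _ => by
        ext x
        rfl }

open Classical in
noncomputable def fgIsColimit : IsColimit (fgCocone M) :=
  IsColimit.ofIsoColimit (ModuleCat.directLimitIsColimit _ _)
    (Cocone.ext (Module.fgSystem.equiv R M).toModuleIso (fun N => by
      ext x
      exact LinearMap.congr_fun (Module.fgSystem.equiv_comp_of N) x))

end Colim

section Main

variable {R : Type u} [CommRing R] [IsNoetherianRing R] (I : Ideal R) (r : ℕ)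

open Classical in
theorem exists_fg_rep (M : ModuleCat.{u} R) (c : (localCohomology I r).obj M) :
    ∃ (N : Submodule R M) (_ : N.FG) (c' : (localCohomology I r).obj (ModuleCat.of R N)),
      (localCohomology I r).map (ModuleCat.ofHom N.subtype) c' = c := by
  have hp := Groth.Agent.Lib.Helper1.ExtCech5.preserves_localCohomology
    {N : Submodule R M // N.FG} I r
  have hc : IsColimit ((localCohomology I r).mapCocone (fgCocone M)) :=
    isColimitOfPreserves _ (fgIsColimit M)
  obtain ⟨N, c', hc'⟩ := Concrete.isColimit_exists_rep _ hc c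
  exact ⟨N.1, N.2, c', hc'⟩

open Classical in
theorem exists_fg_kill (M : ModuleCat.{u} R) (N : Submodule R M) (hN : N.FG)
    (c' : (localCohomology I r).obj (ModuleCat.of R N))
    (h : (localCohomology I r).map (ModuleCat.ofHom N.subtype) c' = 0) :
    ∃ (N' : Submodule R M) (_ : N'.FG) (hle : N ≤ N'),
      (localCohomology I r).map (ModuleCat.ofHom (Submodule.inclusion hle)) c' = 0 := by
  have hp := Groth.Agent.Lib.Helper1.ExtCech5.preserves_localCohomology
    {N : Submodule R M // N.FG} I r
  have hc : IsColimit ((localCohomology I r).mapCocone (fgCocone M)) :=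
    isColimitOfPreserves _ (fgIsColimit M)
  have hpf : PreservesColimitsOfShape {N : Submodule R M // N.FG} (forget (ModuleCat.{u} R)) :=
    PreservesFilteredColimitsOfSize.preserves_filtered_colimits _
  let N₀ : {N : Submodule R M // N.FG} := ⟨N, hN⟩
  obtain ⟨N', f, g, hfg⟩ := Concrete.isColimit_exists_of_rep_eq _ hc (i := N₀) (j := N₀) c' 0
    (by
      refine Eq.trans h ?_
      exact (map_zero _).symm)
  refine ⟨N'.1, N'.2, f.le, ?_⟩
  refine Eq.trans hfg ?_
  exact map_zero _

theorem τ_bijective (hcd : LocCoh.CdLE R I r) (M : ModuleCat.{u} R) :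
    Function.Bijective (τ I r M) := by
  constructor
  · rw [injective_iff_map_eq_zero]
    intro t ht
    obtain ⟨N, hNfin, hN⟩ := TensorProduct.exists_finite_submodule_right_of_setFinite
      ({t} : Set ((Er I r) ⊗[R] M)) (Set.finite_singleton t)
    obtain ⟨t', rfl⟩ := hN (Set.mem_singleton t)
    have hNfg : N.FG := Module.Finite.iff_fg.mp hNfin
    have h0 : (localCohomology I r).map (ModuleCat.ofHom N.subtype)
        (τ I r (ModuleCat.of R N) t') = 0 := by
      rw [τ_natural]
      exact ht
    obtain ⟨N', hN'fg, hle, h1⟩ := exists_fg_kill I r M N hNfg _ h0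
    have hN'fin : Module.Finite R N' := Module.Finite.iff_fg.mpr hN'fg
    have h2 : L I r (ModuleCat.ofHom (Submodule.inclusion hle)) t' = 0 := by
      apply τ_injective_of_finite I r hcd N'
      rw [map_zero, ← τ_natural]
      exact h1
    have h3 : (ModuleCat.ofHom N.subtype : ModuleCat.of R N ⟶ M) =
        ModuleCat.ofHom (Submodule.inclusion hle) ≫ ModuleCat.ofHom N'.subtype := rfl
    change L I r (ModuleCat.ofHom N.subtype) t' = 0
    rw [h3, L_comp, h2, map_zero]
  · intro c
    obtain ⟨N, hNfg, c', hc'⟩ := exists_fg_rep I r M c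
    have hNfin : Module.Finite R N := Module.Finite.iff_fg.mpr hNfg
    obtain ⟨t', ht'⟩ := τ_surjective_of_finite I r hcd N c'
    refine ⟨L I r (ModuleCat.ofHom N.subtype) t', ?_⟩
    rw [← τ_natural]
    exact (congrArg _ ht').trans hc'

/-- The Watts isomorphism `H^r_I(R) ⊗ M ≃ H^r_I(M)`. -/
noncomputable def τEquiv (hcd : LocCoh.CdLE R I r) (M : ModuleCat.{u} R) :
    (Er I r) ⊗[R] M ≃ₗ[R] (localCohomology I r).obj M :=
  LinearEquiv.ofBijective (τ I r M) (τ_bijective I r hcd M)

end Main

end Groth.Agent.Lib.Helper8.Watts
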