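import Mathlib
import Groth.Agent.Lib.Helper8Watts

/-! Generalized local duality: a module `K`, an injective module `Q` and a "trace"
`t : H^r_I(K) → Q` such that the induced pairing is perfect on `R`.  Then (with `cd ≤ r`)
`H^r_I(X) ≅ Hom(Hom(X, K), Q)` for finite `X`, and if moreover `H^i_I(R) = 0` for `i < r`,
`H^s_I(X) ≅ Hom(Ext^j(X, K), Q)` for `s + j = r` (helper8). -/

set_option autoImplicit false
universe u
open CategoryTheory CategoryTheory.Limits Opposite CategoryTheory.Abelian

namespace Groth.Agent.Lib.Helper8.CanonDual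
open Groth.Agent.Lib.Helper8.ExtLES Groth.Agent.Lib.Helper8.Bridge Groth.Agent.Lib.Helper8.LC
  Groth.Agent.Lib.Helper8.ExtRep Groth.Agent.Lib.Helper8.LocDual

section Gen

variable {R : Type u} [CommRing R] (I : Ideal R) (r : ℕ) (K : ModuleCat.{u} R)
  {Q : Type u} [AddCommGroup Q] [Module R Q] (t : (localCohomology I r).obj K →ₗ[R] Q)

/-- The pairing map `H^r_I(X) → Hom(Hom(X, K), Q)`. -/
noncomputable def ζ (X : ModuleCat.{u} R) :
    (localCohomology I r).obj X →ₗ[R] (E 0 X K →ₗ[R] Q) where
  toFun c :=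
    { toFun := fun ε => t ((localCohomology I r).map (θinv K X ε) c)
      map_add' := fun ε ε' => by
        have h1 : θinv K X (ε + ε') = θinv K X ε + θinv K X ε' := map_add _ _ _
        have h2 := H_map_add I r (θinv K X ε) (θinv K X ε') c
        rw [h1, h2, map_add]
      map_smul' := fun a ε => by
        have h1 : θinv K X (a • ε) = a • θinv K X ε := map_smul _ _ _
        have h2 := H_map_smul I r a (θinv K X ε) c
        rw [h1, h2, map_smul]
        rfl }
  map_add' c c' := by
    apply LinearMap.ext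
    intro ε
    change t _ = t _ + t _
    rw [← map_add]
    congr 1
    exact map_add ((localCohomology I r).map (θinv K X ε)).hom c c'
  map_smul' a c := by
    apply LinearMap.ext
    intro ε
    change t _ = a • t _
    rw [← map_smul]
    congr 1
    exact map_smul ((localCohomology I r).map (θinv K X ε)).hom a c

theorem ζ_apply (X : ModuleCat.{u} R) (c : (localCohomology I r).obj X) (ε : E 0 X K) :
    ζ I r K t X c ε = t ((localCohomology I r).map (θinv K X ε) c) := rfl

theorem ζ_natural {X X' : ModuleCat.{u} R} (ψ : X ⟶ X') (c : (localCohomology I r).obj X)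
    (ε : E 0 X' K) :
    ζ I r K t X' ((localCohomology I r).map ψ c) ε = ζ I r K t X c ((Epre 0 ψ K).hom ε) := by
  rw [ζ_apply, ζ_apply, θinv_Epre, H_map_comp]

theorem ζ_θ (X : ModuleCat.{u} R) (c : (localCohomology I r).obj X) (g : X ⟶ K) :
    ζ I r K t X c (θ X K g) = t ((localCohomology I r).map g c) := by
  rw [ζ_apply, θinv_θ]

variable (hR : Function.Bijective (ζ I r K t (ModuleCat.of R R)))

include hR in
theorem ζ_pi_injective (b : ℕ) : Function.Injective (ζ I r K t (PiQ (R := R) (Q := R) b)) := by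
  rw [injective_iff_map_eq_zero]
  intro c hc
  have h2 : ∀ j, (localCohomology I r).map (πj (R := R) (Q := R) b j) c = 0 := by
    intro j
    apply hR.1
    rw [map_zero]
    apply LinearMap.ext
    intro ε
    rw [ζ_natural, hc]
    rfl
  rw [← H_map_id I r c, ← sum_πj_ιj b, H_map_sum]
  apply Finset.sum_eq_zero
  intro j _
  rw [H_map_comp, h2 j, map_zero]

include hR in
theorem ζ_pi_surjective (b : ℕ) : Function.Surjective (ζ I r K t (PiQ (R := R) (Q := R) b)) := by
  intro lam
  have h1 : ∀ j : Fin b, ∃ cj, ζ I r K t (ModuleCat.of R R) cj =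
      lam ∘ₗ (Epre 0 (πj (R := R) (Q := R) b j) K).hom :=
    fun j => hR.2 _
  choose cj hcj using h1
  refine ⟨∑ j, (localCohomology I r).map (ιj (R := R) (Q := R) b j) (cj j), ?_⟩
  apply LinearMap.ext
  intro ε
  rw [map_sum, LinearMap.sum_apply]
  conv_rhs => rw [E_pi_sum b ε, map_sum]
  apply Finset.sum_congr rfl
  intro j _
  rw [ζ_natural, hcj j]
  rfl

include hR in
theorem ζ_surjective [Module.Injective R Q] (X : Type u) [AddCommGroup X] [Module R X]
    [Module.Finite R X] : Function.Surjective (ζ I r K t (ModuleCat.of R X)) := by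
  intro μ
  obtain ⟨b, q, hq⟩ := Module.Finite.exists_fin' R X
  let q' : PiQ (R := R) (Q := R) b ⟶ ModuleCat.of R X := ModuleCat.ofHom q
  have : Epi q' := (ModuleCat.epi_iff_surjective _).mpr hq
  have hinjq := Epre_injective_of_epi_zero K q'
  obtain ⟨lam, hlam⟩ := exists_factor (Epre 0 q' K).hom μ
    (by rw [LinearMap.ker_eq_bot.mpr hinjq]; exact bot_le)
  obtain ⟨c, hc⟩ := ζ_pi_surjective I r K t hR b lam
  refine ⟨(localCohomology I r).map q' c, ?_⟩
  apply LinearMap.ext
  intro ε
  rw [ζ_natural, hc, ← hlam]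
  rfl

include hR in
theorem ζ_injective [IsNoetherianRing R] [Module.Injective R Q] (hcd : LocCoh.CdLE R I r)
    (X : Type u) [AddCommGroup X] [Module R X]
    [Module.Finite R X] : Function.Injective (ζ I r K t (ModuleCat.of R X)) := by
  rw [injective_iff_map_eq_zero]
  intro c hc
  obtain ⟨b, p, hp⟩ := Module.Finite.exists_fin' R X
  let S := p.shortComplexKer
  have hS : S.ShortExact := LinearMap.shortExact_shortComplexKer hp
  have hsub : Subsingleton ((localCohomology I (r + 1)).obj S.X₁) :=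
    hcd (LinearMap.ker p) (r + 1) (lt_add_one r)
  obtain ⟨c₀, hc₀⟩ := H_exact₃ I r S hS c (hsub.elim _ _)
  let lam := ζ I r K t S.X₂ c₀
  have hlam : ∀ ε : E 0 S.X₃ K, lam ((Epre 0 S.g K).hom ε) = 0 := by
    intro ε
    change ζ I r K t S.X₂ c₀ _ = 0
    rw [← ζ_natural, hc₀, hc]
    rfl
  have hker : LinearMap.ker (Epre 0 S.f K).hom ≤ LinearMap.ker lam := by
    intro x₂ hx₂
    obtain ⟨x₃, rfl⟩ := pre_exact₂ S hS K 0 x₂ hx₂
    exact hlam x₃
  obtain ⟨μ, hμ⟩ := exists_factor (Epre 0 S.f K).hom lam hker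
  obtain ⟨k, hk⟩ := ζ_surjective I r K t hR (LinearMap.ker p) μ
  have h1 : (localCohomology I r).map S.f k = c₀ := by
    apply ζ_pi_injective I r K t hR b
    apply LinearMap.ext
    intro ε
    rw [ζ_natural, hk]
    exact LinearMap.congr_fun hμ ε
  rw [← hc₀, ← h1]
  exact H_map_g_map_f I r S hS k

/-- The degree-zero duality isomorphism. -/
noncomputable def ζEquiv [IsNoetherianRing R] [Module.Injective R Q] (hcd : LocCoh.CdLE R I r)
    (X : Type u) [AddCommGroup X] [Module R X] [Module.Finite R X] :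
    (localCohomology I r).obj (ModuleCat.of R X) ≃ₗ[R] (E 0 (ModuleCat.of R X) K →ₗ[R] Q) :=
  LinearEquiv.ofBijective (ζ I r K t (ModuleCat.of R X))
    ⟨ζ_injective I r K t hR hcd X, ζ_surjective I r K t hR X⟩

end Gen

section Shift

variable {R : Type u} [CommRing R] [IsNoetherianRing R] (I : Ideal R) (r : ℕ) (K : ModuleCat.{u} R)
  {Q : Type u} [AddCommGroup Q] [Module R Q] (t : (localCohomology I r).obj K →ₗ[R] Q)

/-- The hypotheses: depth, cohomological dimension, injectivity, perfectness on `R`. -/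
structure Hyp : Prop where
  vanish : ∀ i < r, ∀ x : (localCohomology I i).obj (ModuleCat.of R R), x = 0
  cd : LocCoh.CdLE R I r
  inj : Module.Injective R Q
  bij : Function.Bijective (ζ I r K t (ModuleCat.of R R))

variable {I r K t}

omit [IsNoetherianRing R] in
theorem Hyp.pi_vanish (h : Hyp I r K t) (b i : ℕ) (hi : i < r)
    (x : (localCohomology I i).obj (ModuleCat.of R (Fin b → R))) : x = 0 :=
  H_pi_eq_zero I i b (h.vanish i hi) x

theorem step_one {r : ℕ} {t : (localCohomology I (r + 1)).obj K →ₗ[R] Q} (h : Hyp I (r + 1) K t)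
    (X : Type u) [AddCommGroup X] [Module R X] [Module.Finite R X] :
    Nonempty ((localCohomology I r).obj (ModuleCat.of R X) ≃ₗ[R]
      (E 1 (ModuleCat.of R X) K →ₗ[R] Q)) := by
  have := h.inj
  obtain ⟨b, p, hp⟩ := Module.Finite.exists_fin' R X
  let S := p.shortComplexKer
  have hS : S.ShortExact := LinearMap.shortExact_shortComplexKer hp
  have hE1 : Subsingleton (E (0 + 1) S.X₂ K) := E_succ_pi_subsingleton b 0 K
  have hδsurj : Function.Surjective (preδ S hS K 0) := by
    intro x₃
    exact pre_exact₃ S hS K 0 x₃ (hE1.elim _ _)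
  refine nonempty_equiv_of_ker (Hδ I r S hS).hom ((localCohomology I (r + 1)).map S.f).hom
    (LinearMap.lcomp R Q (preδ S hS K 0))
    (LinearMap.lcomp R Q (Epre 0 S.f K).hom) ?_ ?_ ?_ ?_
    (ζEquiv I (r + 1) K t h.bij h.cd (LinearMap.ker p)) (ζ I (r + 1) K t S.X₂)
    (ζ_pi_injective I (r + 1) K t h.bij b) ?_
  · rw [injective_iff_map_eq_zero]
    intro z hz
    obtain ⟨y, rfl⟩ := H_exact₃ I r S hS z hz
    rw [h.pi_vanish b r (lt_add_one r) y, map_zero]
  · rw [injective_iff_map_eq_zero]
    intro lam hlam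
    apply LinearMap.ext
    intro x₃
    obtain ⟨x₁, rfl⟩ := hδsurj x₃
    exact LinearMap.congr_fun hlam x₁
  · ext x
    constructor
    · rintro ⟨z, rfl⟩
      exact H_map_f_Hδ I r S hS z
    · intro hx
      exact H_exact₁ I r S hS x hx
  · ext μ
    constructor
    · rintro ⟨lam, rfl⟩
      apply LinearMap.ext
      intro x₂
      change lam (preδ S hS K 0 ((Epre 0 S.f K).hom x₂)) = 0
      rw [preδ_Epre_f, map_zero]
    · intro hμ
      have hker : LinearMap.ker (preδ S hS K 0) ≤ LinearMap.ker μ := by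
        intro x₁ hx₁
        obtain ⟨x₂, rfl⟩ := pre_exact₁ S hS K 0 x₁ hx₁
        exact LinearMap.congr_fun hμ x₂
      obtain ⟨lam, hlam⟩ := exists_factor (preδ S hS K 0) μ hker
      exact ⟨lam, hlam⟩
  · intro x
    apply LinearMap.ext
    intro ε
    exact ζ_natural I (r + 1) K t S.f x ε

theorem step_succ (h : Hyp I r K t) (s j : ℕ) (hs : s + 1 < r)
    (ih : ∀ (N : Type u) [AddCommGroup N] [Module R N] [Module.Finite R N],
      Nonempty ((localCohomology I (s + 1)).obj (ModuleCat.of R N) ≃ₗ[R]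
        (E (j + 1) (ModuleCat.of R N) K →ₗ[R] Q)))
    (X : Type u) [AddCommGroup X] [Module R X] [Module.Finite R X] :
    Nonempty ((localCohomology I s).obj (ModuleCat.of R X) ≃ₗ[R]
      (E (j + 1 + 1) (ModuleCat.of R X) K →ₗ[R] Q)) := by
  obtain ⟨b, p, hp⟩ := Module.Finite.exists_fin' R X
  let S := p.shortComplexKer
  have hS : S.ShortExact := LinearMap.shortExact_shortComplexKer hp
  obtain ⟨e⟩ := ih (LinearMap.ker p)
  have hE1 : Subsingleton (E (j + 1) S.X₂ K) := E_succ_pi_subsingleton b j K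
  have hE2 : Subsingleton (E (j + 1 + 1) S.X₂ K) := E_succ_pi_subsingleton b (j + 1) K
  have hδ : Function.Bijective (preδ S hS K (j + 1)) := by
    constructor
    · rw [injective_iff_map_eq_zero]
      intro x₁ hx₁
      obtain ⟨x₂, rfl⟩ := pre_exact₁ S hS K (j + 1) x₁ hx₁
      rw [hE1.elim x₂ 0, map_zero]
    · intro x₃
      exact pre_exact₃ S hS K (j + 1) x₃ (hE2.elim _ _)
  have hH : Function.Bijective (Hδ I s S hS).hom := by
    constructor
    · rw [injective_iff_map_eq_zero]
      intro z hz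
      obtain ⟨y, rfl⟩ := H_exact₃ I s S hS z hz
      rw [h.pi_vanish b s (by omega) y, map_zero]
    · intro x
      exact H_exact₁ I s S hS x (h.pi_vanish b (s + 1) hs _)
  exact ⟨(LinearEquiv.ofBijective _ hH).trans (e.trans
    (LinearEquiv.congrLeft Q R (LinearEquiv.ofBijective _ hδ)))⟩

theorem duality (h : Hyp I r K t) : ∀ (j s : ℕ), s + j = r →
    ∀ (X : Type u) [AddCommGroup X] [Module R X] [Module.Finite R X],
    Nonempty ((localCohomology I s).obj (ModuleCat.of R X) ≃ₗ[R]
      (E j (ModuleCat.of R X) K →ₗ[R] Q)) := by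
  intro j
  induction j with
  | zero =>
    intro s hs X _ _ _
    have := h.inj
    obtain rfl : s = r := by omega
    exact ⟨ζEquiv I s K t h.bij h.cd X⟩
  | succ j ih =>
    cases j with
    | zero =>
      intro s hs X _ _ _
      obtain rfl : r = s + 1 := by omega
      exact step_one h X
    | succ j =>
      intro s hs X _ _ _
      exact step_succ h s j (by omega) (fun N _ _ _ => ih (s + 1) (by omega) N) X

end Shift

section Canon

open Groth.Agent.Lib.Helper8.Watts TensorProduct

variable {R : Type u} [CommRing R] [IsNoetherianRing R] (I : Ideal R) (r : ℕ)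
  (hcd : LocCoh.CdLE R I r) (K : ModuleCat.{u} R)
  {Q : Type u} [AddCommGroup Q] [Module R Q] (eK : (K →ₗ[R] Q) ≃ₗ[R] Er I r)

/-- Evaluation `(K → Q) ⊗ K → Q`. -/
noncomputable def evK : (K →ₗ[R] Q) ⊗[R] K →ₗ[R] Q :=
  TensorProduct.lift LinearMap.id

omit [IsNoetherianRing R] in
theorem evK_tmul (φ : K →ₗ[R] Q) (k : K) : evK K (Q := Q) (φ ⊗ₜ k) = φ k := by
  simp [evK]

/-- The trace map `H^r_I(K) → Q` attached to `eK : Hom(K, Q) ≃ H^r_I(R)`. -/
noncomputable def trK : (localCohomology I r).obj K →ₗ[R] Q :=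
  evK K ∘ₗ (LinearMap.rTensor K eK.symm.toLinearMap) ∘ₗ (τEquiv I r hcd K).symm.toLinearMap

theorem trK_τ (c : Er I r) (k : K) :
    trK I r hcd K eK ((localCohomology I r).map (pt k) c) = (eK.symm c) k := by
  have h1 : (localCohomology I r).map (pt k) c = τEquiv I r hcd K (c ⊗ₜ k) := by
    change _ = τ I r K (c ⊗ₜ k)
    rw [τ_tmul]
  rw [h1]
  simp only [trK, LinearMap.comp_apply, LinearEquiv.coe_coe, LinearEquiv.symm_apply_apply,
    LinearMap.rTensor_tmul, evK_tmul]

omit [IsNoetherianRing R] in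
theorem pt_hom_one (g : ModuleCat.of R R ⟶ K) : pt (g.hom (1 : R)) = g := by
  apply ModuleCat.hom_ext
  apply LinearMap.ext_ring
  exact pt_one (g.hom (1 : R))

theorem ζ_self_bijective :
    Function.Bijective (ζ I r K (trK I r hcd K eK) (ModuleCat.of R R)) := by
  constructor
  · rw [injective_iff_map_eq_zero]
    intro c hc
    have h1 : eK.symm c = 0 := by
      apply LinearMap.ext
      intro k
      rw [← trK_τ I r hcd K eK c k, ← ζ_θ, hc]
      rfl
    exact eK.symm.injective (by rw [h1, map_zero])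
  · intro lam
    let φ : K →ₗ[R] Q :=
      { toFun := fun k => lam (θ (ModuleCat.of R R) K (pt k))
        map_add' := fun k k' => by rw [pt_add, map_add, map_add]
        map_smul' := fun a k => by rw [pt_smul, map_smul, map_smul]; rfl }
    refine ⟨eK φ, ?_⟩
    apply LinearMap.ext
    intro ε
    obtain ⟨g, rfl⟩ := (θ_bijective _ _).2 ε
    rw [ζ_θ, ← pt_hom_one K g, trK_τ, LinearEquiv.symm_apply_apply]
    rfl

include hcd eK in
/-- `H^r_I(X) ≅ Hom(Hom(X, K), Q)` for finite `X` (here `Hom(X,K)` is `Ext^0`). -/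
theorem nonempty_top_dual [Module.Injective R Q] (X : Type u) [AddCommGroup X] [Module R X]
    [Module.Finite R X] :
    Nonempty ((localCohomology I r).obj (ModuleCat.of R X) ≃ₗ[R]
      (E 0 (ModuleCat.of R X) K →ₗ[R] Q)) :=
  ⟨ζEquiv I r K (trK I r hcd K eK) (ζ_self_bijective I r hcd K eK) hcd X⟩

theorem hyp_of_vanish [Module.Injective R Q]
    (hv : ∀ i < r, ∀ x : (localCohomology I i).obj (ModuleCat.of R R), x = 0) :
    Hyp I r K (trK I r hcd K eK) where
  vanish := hv
  cd := hcd
  inj := inferInstance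
  bij := ζ_self_bijective I r hcd K eK

end Canon

end Groth.Agent.Lib.Helper8.CanonDual
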