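import Mathlib
import Groth.Agent.S12051
import Groth.Agent.S1735
import Groth.Agent.Lib.Helper8Cd
import Groth.Agent.Lib.Helper8CdDim
import Groth.Agent.Lib.Helper8Fal
import Groth.Agent.Lib.Helper8GV
import Groth.Agent.Lib.Helper8BridgeT4
import Groth.Agent.Lib.Helper5GorRing
import Groth.Agent.Lib.Helper5IntDim
import Groth.Agent.Lib.Helper18ComplProd
import Groth.Agent.Lib.Helper28Catenary
import Groth.Agent.Lib.Helper29GorAnn
import Groth.Agent.S11614
import Groth.Agent.Lib.Helper19Normalization2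
import Groth.Agent.Lib.Helper19PsRegular

/-! # Hartshorne–Lichtenbaum vanishing (helper29)

Part A: for a complete Gorenstein local domain `A` of dimension `d` and a prime `p` with
`dim A ⧸ p = 1`, `H^i_p(M) = 0` for all modules `M` and all `i ≥ d`
(Chevalley's theorem S1735 + local duality). -/

set_option autoImplicit false
set_option linter.style.haveILetI false
universe u
open CategoryTheory CategoryTheory.Abelian IsLocalRing Polynomial

namespace Groth.Agent.Lib.Helper29.HLVT
open Groth.Agent.Lib.Helper8.ExtLES Groth.Agent.Lib.Helper8.Bridge Groth.Agent.Lib.Helper8.LC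
  Groth.Agent.Lib.Helper8.Cd

section Symbolic

variable {A : Type u} [CommRing A] (p : Ideal A) [p.IsPrime]

/-- The `m`-th symbolic power of `p`. -/
noncomputable def symb (m : ℕ) : Ideal A :=
  ((Ideal.map (algebraMap A (Localization.AtPrime p)) p) ^ m).comap
    (algebraMap A (Localization.AtPrime p))

theorem pow_le_symb (m : ℕ) : p ^ m ≤ symb p m := by
  rw [symb, ← Ideal.map_le_iff_le_comap, Ideal.map_pow]

theorem mem_symb_of_mul_mem {m : ℕ} {t a : A} (ht : t ∉ p) (h : t * a ∈ symb p m) :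
    a ∈ symb p m := by
  rw [symb, Ideal.mem_comap] at h ⊢
  rw [map_mul] at h
  have hu : IsUnit (algebraMap A (Localization.AtPrime p) t) :=
    IsLocalization.map_units (Localization.AtPrime p) (⟨t, ht⟩ : p.primeCompl)
  obtain ⟨u, hu'⟩ := hu
  have : algebraMap A (Localization.AtPrime p) a =
      (↑u⁻¹ : Localization.AtPrime p) * (algebraMap A (Localization.AtPrime p) t *
        algebraMap A (Localization.AtPrime p) a) := by
    rw [← hu', ← mul_assoc, Units.inv_mul, one_mul]
  rw [this]
  exact Ideal.mul_mem_left _ _ h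

end Symbolic

section Gor

variable (A : Type u) [CommRing A] [IsDomain A] [hG : LocCoh.IsGorensteinLocalRing A]
  [IsAdicComplete (maximalIdeal A) A] (d : ℕ) (hd : ringKrullDim A = d)
  (p : Ideal A) [p.IsPrime] (hp : ringKrullDim (A ⧸ p) = 1)

include hp in
theorem ne_maximalIdeal : p ≠ maximalIdeal A := by
  intro h
  have h1 : ringKrullDim (A ⧸ p) = 0 := by
    haveI : p.IsMaximal := h ▸ IsLocalRing.maximalIdeal.isMaximal A
    letI : Field (A ⧸ p) := Ideal.Quotient.field p
    exact ringKrullDim_eq_zero_of_field _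
  rw [hp] at h1
  exact one_ne_zero h1

include hd hp in
theorem ext_symb_subsingleton (m : ℕ) :
    Subsingleton (Ext.{u} (ModuleCat.of A (A ⧸ symb p m)) (ModuleCat.of A A) d) := by
  have hne := ne_maximalIdeal A p hp
  obtain ⟨t, htm, htp⟩ : ∃ t ∈ maximalIdeal A, t ∉ p := by
    by_contra hcon
    push_neg at hcon
    apply hne
    exact le_antisymm (IsLocalRing.le_maximalIdeal (Ideal.IsPrime.ne_top inferInstance))
      (fun t ht => hcon t ht)
  have h0 : Subsingleton ((localCohomology (maximalIdeal A) 0).obj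
      (ModuleCat.of A (A ⧸ symb p m))) := by
    refine ⟨fun x y => ?_⟩
    have key : ∀ z : LocCoh.H (maximalIdeal A) 0 (A ⧸ symb p m), z = 0 := by
      apply Groth.Agent.Lib.Helper8.Fal.H_zero_eq_zero_of_torsionSub_eq_bot
      rw [eq_bot_iff]
      rintro z ⟨n, hn⟩
      obtain ⟨a, rfl⟩ := Ideal.Quotient.mk_surjective z
      rw [Submodule.mem_bot]
      have h1 := hn (t ^ n) (Ideal.pow_mem_pow htm n)
      have h2 : Ideal.Quotient.mk (symb p m) (t ^ n * a) = 0 := h1
      rw [Ideal.Quotient.eq_zero_iff_mem] at h2 ⊢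
      exact mem_symb_of_mul_mem p (fun h => htp (Ideal.IsPrime.mem_of_pow_mem inferInstance n h)) h2
    exact (key x).trans (key y).symm
  have := (Groth.Agent.S12051.H_subsingleton_iff A d hd (A ⧸ symb p m) 0 (Nat.zero_le d)).1 h0
  rwa [Nat.sub_zero] at this

include hd hp in
/-- `H^d_p(A) = 0`. -/
theorem H_prime_self_eq_zero (x : LocCoh.H p d A) : x = 0 := by
  obtain ⟨k, e, rfl⟩ := exists_rep p d (ModuleCat.of A A) x
  -- pass to `k + 1 ≥ 1`
  rw [← cls_restrict p d (ModuleCat.of A A) (Nat.le_succ k) e]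
  set e' := (Epre d (tr p (Nat.le_succ k)) (ModuleCat.of A A)) e with he'
  obtain ⟨m, hkm, hm⟩ := Groth.Agent.S1735.result A p hp (k + 1) (Nat.succ_le_succ (Nat.zero_le k))
  rw [cls_eq_zero_iff]
  refine ⟨m, hkm, ?_⟩
  apply (Ψ d _ _).injective
  rw [map_zero, Ψ_Epre]
  -- factor the transition map through `A ⧸ symb p m`
  let α : Xk p m ⟶ ModuleCat.of A (A ⧸ symb p m) :=
    ModuleCat.ofHom (Submodule.mapQ _ _ LinearMap.id (pow_le_symb p m))
  let β : ModuleCat.of A (A ⧸ symb p m) ⟶ Xk p (k + 1) :=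
    ModuleCat.ofHom (Submodule.mapQ _ _ LinearMap.id hm)
  have hfac : tr p hkm = α ≫ β := by
    ext z
    rfl
  rw [hfac, ← Ext.mk₀_comp_mk₀, Ext.comp_assoc_of_second_deg_zero]
  have hz : (Ext.mk₀ β).comp (Ψ d (Xk p (k + 1)) (ModuleCat.of A A) e') (zero_add d) = 0 :=
    @Subsingleton.elim _ (ext_symb_subsingleton A d hd p hp m) _ _
  rw [hz, Ext.comp_zero]

include hd hp in
theorem one_le_dim : 1 ≤ d := by
  have h1 : ringKrullDim (A ⧸ p) ≤ ringKrullDim A := ringKrullDim_quotient_le p
  rw [hp, hd] at h1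
  exact_mod_cast h1

include hd hp in
/-- `H^i_p(M) = 0` for all `i ≥ d` and all modules `M` (Gorenstein case). -/
theorem bound_prime_gor : Bound p (d - 1) := by
  have h1 := one_le_dim A d hd p hp
  apply bound_of_ring
  intro i hi x
  rcases Nat.eq_or_lt_of_le (show d ≤ i by omega) with h | h
  · subst h
    exact H_prime_self_eq_zero A d hd p hp x
  · apply Groth.Agent.Lib.Helper8.GV.H_eq_zero_of_supportDim_lt p i A
    rw [Module.supportDim_self_eq_ringKrullDim, hd]
    exact_mod_cast h

end Gor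

section Aux


theorem isMaximal_of_lt_of_dim_one {A : Type*} [CommRing A] (𝔭 𝔭' : Ideal A) [𝔭.IsPrime]
    [h' : 𝔭'.IsPrime] (h : ringKrullDim (A ⧸ 𝔭) = 1) (hlt : 𝔭 < 𝔭') : 𝔭'.IsMaximal := by
  haveI : Ring.KrullDimLE 1 (A ⧸ 𝔭) := by
    rw [Ring.krullDimLE_iff, h]; rfl
  have hker : RingHom.ker (Ideal.Quotient.mk 𝔭) ≤ 𝔭' := by
    rw [Ideal.mk_ker]; exact hlt.le
  have hprime : (𝔭'.map (Ideal.Quotient.mk 𝔭)).IsPrime :=
    Ideal.map_isPrime_of_surjective Ideal.Quotient.mk_surjective hker
  have hne : 𝔭'.map (Ideal.Quotient.mk 𝔭) ≠ ⊥ := by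
    intro h0
    rw [Ideal.map_eq_bot_iff_le_ker, Ideal.mk_ker] at h0
    exact absurd h0 (not_le_of_gt hlt)
  have hmax := hprime.isMaximal_of_ne_bot hne
  have := Ideal.comap_isMaximal_of_surjective (Ideal.Quotient.mk 𝔭) Ideal.Quotient.mk_surjective
    (K := 𝔭'.map (Ideal.Quotient.mk 𝔭))
  rwa [Ideal.comap_map_of_surjective _ Ideal.Quotient.mk_surjective, ← RingHom.ker_eq_comap_bot,
    sup_eq_left.mpr hker] at this

theorem ringKrullDim_quotient_comap_of_isIntegral (B R : Type*) [CommRing B] [CommRing R]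
    [Algebra B R] [Algebra.IsIntegral B R] (P : Ideal R) :
    ringKrullDim (B ⧸ P.comap (algebraMap B R)) = ringKrullDim (R ⧸ P) := by
  have hf : ((Ideal.Quotient.mk P).comp (algebraMap B R)).IsIntegral :=
    RingHom.IsIntegral.trans _ _ (algebraMap_isIntegral_iff.mpr inferInstance)
      (RingHom.isIntegral_of_surjective _ Ideal.Quotient.mk_surjective)
  have := Groth.Agent.Lib.Helper5.ringKrullDim_eq_ringKrullDim_quotient_ker_of_isIntegral _ hf
  rw [this, ← RingHom.comap_ker, Ideal.mk_ker]



theorem isLocalRing_of_integral (B R : Type*) [CommRing B] [CommRing R] [Algebra B R]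
    [Algebra.IsIntegral B R] (hinj : Function.Injective (algebraMap B R)) [IsLocalRing R] :
    IsLocalRing B := by
  haveI : Nontrivial B := (algebraMap B R).domain_nontrivial
  apply IsLocalRing.of_unique_max_ideal
  haveI hm : ((maximalIdeal R).comap (algebraMap B R)).IsMaximal :=
    Ideal.isMaximal_comap_of_isIntegral_of_isMaximal (maximalIdeal R)
  refine ⟨(maximalIdeal R).comap (algebraMap B R), hm, ?_⟩
  intro n hn
  haveI : n.IsMaximal := hn
  have hker : RingHom.ker (algebraMap B R) ≤ n := by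
    rw [(RingHom.injective_iff_ker_eq_bot _).mp hinj]; exact bot_le
  obtain ⟨Q, hQ, hQn⟩ := Ideal.exists_ideal_over_maximal_of_isIntegral (S := R) n hker
  rw [← hQn, IsLocalRing.eq_maximalIdeal hQ]

theorem gorLocal_of_gorRing (B : Type u) [CommRing B] [IsLocalRing B] [hB : LocCoh.IsGorensteinRing B] :
    LocCoh.IsGorensteinLocalRing B := by
  haveI := hB.isGorensteinLocalRing_localization (maximalIdeal B)
  have e : B ≃ₐ[B] Localization.AtPrime (maximalIdeal B) :=
    IsLocalization.atUnits B (maximalIdeal B).primeCompl (fun x hx => by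
      by_contra h
      exact hx ((IsLocalRing.mem_maximalIdeal x).mpr h))
  exact Groth.Agent.Lib.Helper5.GorRing.gorLocal_of_ringEquiv e.symm.toRingEquiv

theorem gorRing_adjoin (A : Type u) [CommRing A] [IsDomain A] [IsIntegrallyClosed A]
    [LocCoh.IsGorensteinRing A] (R : Type u) [CommRing R] [IsDomain R] [Algebra A R]
    (hinj : Function.Injective (algebraMap A R)) (c : R) (hc : IsIntegral A c) :
    LocCoh.IsGorensteinRing (Algebra.adjoin A ({c} : Set R)) := by
  haveI : Module.IsTorsionFree A R := by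
    haveI : FaithfulSMul A R := (faithfulSMul_iff_algebraMap_injective A R).mpr hinj
    infer_instance
  haveI : LocCoh.IsGorensteinRing A[X] := Groth.Agent.Lib.Helper5.GorRing.gorRing_polynomial A
  have hreg : IsSMulRegular A[X] (minpoly A c) :=
    isLeftRegular_iff.mp (minpoly.monic hc).isRegular.left
  haveI : LocCoh.IsGorensteinRing (AdjoinRoot (minpoly A c)) :=
    Groth.Agent.Lib.Helper5.GorRing.gorRing_quotient_of_regular (minpoly A c) hreg
  exact Groth.Agent.Lib.Helper5.GorRing.gorRing_of_ringEquiv (minpoly.equivAdjoin hc).toRingEquiv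

end Aux

section Babs

variable (A : Type u) [CommRing A] [IsDomain A] [IsIntegrallyClosed A]
  [LocCoh.IsGorensteinLocalRing A] [IsAdicComplete (maximalIdeal A) A]
  (R : Type u) [CommRing R] [IsDomain R] [IsLocalRing R] [IsNoetherianRing R] [Algebra A R]
  [Module.Finite A R] (hinj : Function.Injective (algebraMap A R))
  (d : ℕ) (hd : ringKrullDim R = d) (P : Ideal R) [P.IsPrime] (hP : ringKrullDim (R ⧸ P) = 1)

include hinj hd hP in
theorem H_prime_subsingleton_of_finite : Subsingleton (LocCoh.H P d R) := by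
  classical
  haveI hGA : LocCoh.IsGorensteinRing A :=
    Groth.Agent.Lib.Helper29.GorAnn.isGorensteinRing_of_isGorensteinLocalRing A
  haveI hint : Algebra.IsIntegral A R := Algebra.IsIntegral.of_finite A R
  -- the primes to avoid
  set 𝔭 : Ideal A := P.comap (algebraMap A R) with h𝔭
  have h𝔭1 : ringKrullDim (A ⧸ 𝔭) = 1 := by
    rw [h𝔭, ringKrullDim_quotient_comap_of_isIntegral A R P, hP]
  set I0 : Ideal R := 𝔭.map (algebraMap A R) with hI0
  have hI0P : I0 ≤ P := Ideal.map_comap_le
  have hfin : (I0.minimalPrimes).Finite := Ideal.finite_minimalPrimes_of_isNoetherianRing R I0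
  let S : Finset (Ideal R) := hfin.toFinset.filter (fun Q => ¬ P ≤ Q)
  obtain ⟨c, hcP, hcS⟩ : ∃ c ∈ P, ∀ Q ∈ S, c ∉ Q := by
    by_contra hcon
    push_neg at hcon
    have hsub : (P : Set R) ⊆ ⋃ Q ∈ (S : Set (Ideal R)), (Q : Set R) := by
      intro c hc
      obtain ⟨Q, hQ, hcQ⟩ := hcon c hc
      exact Set.mem_biUnion hQ hcQ
    obtain ⟨Q, hQ, hPQ⟩ := (Ideal.subset_union_prime (s := S) (f := fun Q => Q) ⊤ ⊤
      (fun Q hQ _ _ => by
        have := (Finset.mem_filter.mp hQ).1
        rw [Set.Finite.mem_toFinset] at this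
        exact this.1.1)).mp hsub
    exact (Finset.mem_filter.mp hQ).2 hPQ
  -- the intermediate ring
  let B := Algebra.adjoin A ({c} : Set R)
  have hcint : IsIntegral A c := Algebra.IsIntegral.isIntegral c
  haveI : LocCoh.IsGorensteinRing B := gorRing_adjoin A R hinj c hcint
  haveI : IsNoetherian A R := isNoetherian_of_isNoetherianRing_of_finite A R
  haveI : Module.Finite A B := Module.Finite.of_injective (B.val.toLinearMap) Subtype.val_injective
  haveI : Algebra.IsIntegral B R := Algebra.IsIntegral.tower_top (R := A)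
  have hBinj : Function.Injective (algebraMap B R) := Subtype.val_injective
  haveI : IsLocalRing B := isLocalRing_of_integral B R hBinj
  obtain ⟨hBN, hBC⟩ := Groth.Agent.Lib.Helper18ComplProd.isAdicComplete_of_finite A B
  haveI := hBN
  haveI := hBC
  haveI : LocCoh.IsGorensteinLocalRing B := gorLocal_of_gorRing B
  have hdB : ringKrullDim B = d :=
    (Groth.Agent.Lib.Helper5.ringKrullDim_eq_of_isIntegral_of_injective B R hBinj).symm.trans hd
  set 𝔮 : Ideal B := P.comap (algebraMap B R) with h𝔮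
  have h𝔮1 : ringKrullDim (B ⧸ 𝔮) = 1 := by
    rw [h𝔮, ringKrullDim_quotient_comap_of_isIntegral B R P, hP]
  have hb : Groth.Agent.Lib.Helper8.Cd.Bound 𝔮 (d - 1) := bound_prime_gor B d hdB 𝔮 h𝔮1
  have h1 := one_le_dim B d hdB 𝔮 h𝔮1
  obtain ⟨φ, -⟩ := Groth.Agent.S11614.result B R 𝔮 R d
  have hsub : Subsingleton (LocCoh.H (𝔮.map (algebraMap B R)) d R) := by
    refine ⟨fun x y => φ.injective ?_⟩
    rw [hb R d (by omega) (φ x), hb R d (by omega) (φ y)]
  refine Groth.Agent.Lib.Helper8.Acyc.subsingleton_of_radical_eq ?_ d R hsub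
  have hqP : 𝔮.map (algebraMap B R) ≤ P := Ideal.map_comap_le
  rw [Ideal.IsPrime.radical ‹P.IsPrime›]
  refine le_antisymm ?_ ((Ideal.IsPrime.radical_le_iff ‹P.IsPrime›).mpr hqP)
  rw [Ideal.radical_eq_sInf]
  refine le_sInf ?_
  rintro Q ⟨hqQ, hQ⟩
  haveI := hQ
  by_cases hQm : Q = maximalIdeal R
  · rw [hQm]; exact IsLocalRing.le_maximalIdeal (Ideal.IsPrime.ne_top inferInstance)
  -- `c ∈ Q`
  have hcQ : c ∈ Q := by
    have hcB : c ∈ B := Algebra.subset_adjoin (Set.mem_singleton c)
    have : (⟨c, hcB⟩ : B) ∈ 𝔮 := by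
      rw [h𝔮, Ideal.mem_comap]; exact hcP
    exact hqQ (Ideal.mem_map_of_mem (algebraMap B R) this)
  -- `I0 ≤ Q`
  have h𝔭Q : 𝔭 ≤ Q.comap (algebraMap A R) := by
    intro a ha
    rw [Ideal.mem_comap]
    have h2 : algebraMap A B a ∈ 𝔮 := by
      rw [h𝔮, Ideal.mem_comap, ← IsScalarTower.algebraMap_apply]; exact ha
    have h3 := hqQ (Ideal.mem_map_of_mem (algebraMap B R) h2)
    rwa [← IsScalarTower.algebraMap_apply] at h3
  have hI0Q : I0 ≤ Q := Ideal.map_le_iff_le_comap.mpr h𝔭Q
  -- `Q` lies over `𝔭`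
  have hQ𝔭 : Q.comap (algebraMap A R) = 𝔭 := by
    by_contra hne
    have hlt : 𝔭 < Q.comap (algebraMap A R) := lt_of_le_of_ne h𝔭Q (Ne.symm hne)
    have hmax := isMaximal_of_lt_of_dim_one 𝔭 (Q.comap (algebraMap A R)) h𝔭1 hlt
    have hQmax : Q.IsMaximal := Ideal.isMaximal_of_isIntegral_of_isMaximal_comap Q hmax
    exact hQm (IsLocalRing.eq_maximalIdeal hQmax)
  -- `Q` is minimal over `I0`
  have hQmin : Q ∈ I0.minimalPrimes := by
    refine ⟨⟨hQ, hI0Q⟩, ?_⟩
    rintro Q'' ⟨hQ''p, hQ''I⟩ hle
    by_contra hnle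
    have hlt : Q'' < Q := lt_of_le_of_ne hle (fun h => hnle (h ▸ le_rfl))
    haveI := hQ''p
    have h4 := Ideal.IsIntegral.comap_lt_comap (R := A) hlt
    rw [hQ𝔭] at h4
    exact absurd (Ideal.map_le_iff_le_comap.mp hQ''I) (not_le_of_gt h4)
  by_contra hPQ
  have hQS : Q ∈ S := by
    rw [Finset.mem_filter, Set.Finite.mem_toFinset]
    exact ⟨hQmin, hPQ⟩
  exact hcS Q hQS hcQ

end Babs

section Complete


theorem ringKrullDim_quotient_eq_one {R : Type*} [CommRing R] [IsLocalRing R] (P : Ideal R)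
    [P.IsPrime] (hPm : P ≠ maximalIdeal R)
    (h : ∀ Q : Ideal R, Q.IsPrime → P < Q → Q = maximalIdeal R) :
    ringKrullDim (R ⧸ P) = 1 := by
  apply le_antisymm
  · have : Ring.KrullDimLE 1 (R ⧸ P) := by
      apply Ring.KrullDimLE.mk₁'
      intro J hJ0 hJ
      have hcomap : (J.comap (Ideal.Quotient.mk P)).IsPrime := Ideal.comap_isPrime _ _
      have hlt : P < J.comap (Ideal.Quotient.mk P) := by
        refine lt_of_le_of_ne ?_ ?_
        · conv_lhs => rw [← Ideal.mk_ker (I := P)]
          exact Ideal.comap_mono bot_le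
        · intro heq
          apply hJ0
          rw [← Ideal.map_comap_of_surjective (Ideal.Quotient.mk P) Ideal.Quotient.mk_surjective J,
            ← heq, Ideal.map_quotient_self P]
      have hm := h _ hcomap hlt
      have hmax : (J.comap (Ideal.Quotient.mk P)).IsMaximal := hm ▸ maximalIdeal.isMaximal R
      have := (Ideal.map_eq_top_or_isMaximal_of_surjective (Ideal.Quotient.mk P)
        Ideal.Quotient.mk_surjective hmax)
      rw [Ideal.map_comap_of_surjective (Ideal.Quotient.mk P) Ideal.Quotient.mk_surjective J] at this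
      exact this.resolve_left hJ.ne_top
    exact Ring.krullDimLE_iff.mp this
  · rw [ringKrullDim, Order.one_le_krullDim_iff]
    have hker : RingHom.ker (Ideal.Quotient.mk P) ≤ maximalIdeal R := by
      rw [Ideal.mk_ker]; exact IsLocalRing.le_maximalIdeal (Ideal.IsPrime.ne_top inferInstance)
    have hprime : ((maximalIdeal R).map (Ideal.Quotient.mk P)).IsPrime :=
      Ideal.map_isPrime_of_surjective Ideal.Quotient.mk_surjective hker
    refine ⟨⟨⊥, Ideal.isPrime_bot⟩, ⟨_, hprime⟩, ?_⟩
    change (⊥ : Ideal (R ⧸ P)) < _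
    refine lt_of_le_of_ne bot_le ?_
    intro h0
    have h1 := h0.symm
    rw [Ideal.map_eq_bot_iff_le_ker, Ideal.mk_ker] at h1
    exact hPm (le_antisymm (IsLocalRing.le_maximalIdeal (Ideal.IsPrime.ne_top inferInstance)) h1)

open Groth.Agent.Lib.Helper19 Groth.Agent.Lib.Helper19.Normalization in
theorem H_prime_subsingleton (R : Type u) [CommRing R] [IsDomain R] [IsLocalRing R]
    [IsNoetherianRing R] [IsAdicComplete (maximalIdeal R) R] (d : ℕ) (hd : ringKrullDim R = d)
    (P : Ideal R) [P.IsPrime] (hP : ringKrullDim (R ⧸ P) = 1) :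
    Subsingleton (LocCoh.H P d R) := by
  obtain ⟨Λ, _, n, f, hΛ, hinj, hfin, -⟩ :=
    exists_finite_injective_mvPowerSeries_of_complete_local_domain R
  have hΛ' : ∃ (_ : IsRegularLocalRing Λ), IsAdicComplete (maximalIdeal Λ) Λ := by
    rcases hΛ with h | ⟨hdom, hdvr, hcomp, -⟩
    · letI := h.toField
      refine ⟨inferInstance, ?_⟩
      rw [IsLocalRing.maximalIdeal_eq_bot]
      infer_instance
    · exact ⟨inferInstance, hcomp⟩
  obtain ⟨hreg, hcomp⟩ := hΛ'
  haveI := hreg
  haveI := hcomp
  haveI : IsRegularLocalRing (MvPowerSeries (Fin n) Λ) :=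
    isRegularLocalRing_mvPowerSeries_of_isRegularLocalRing Λ n
  haveI : IsAdicComplete (maximalIdeal (MvPowerSeries (Fin n) Λ)) (MvPowerSeries (Fin n) Λ) :=
    isAdicComplete_mvPowerSeries
  haveI : IsDomain (MvPowerSeries (Fin n) Λ) :=
    Groth.Agent.Lib.Helper5.isDomain_of_isRegularLocalRing _
  haveI : IsIntegrallyClosed (MvPowerSeries (Fin n) Λ) :=
    Groth.Agent.Lib.Helper28.isIntegrallyClosed_of_isRegularLocalRing _
  haveI : LocCoh.IsGorensteinLocalRing (MvPowerSeries (Fin n) Λ) := Groth.Agent.S0342.result _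
  letI : Algebra (MvPowerSeries (Fin n) Λ) R := f.toAlgebra
  haveI : Module.Finite (MvPowerSeries (Fin n) Λ) R := hfin
  exact H_prime_subsingleton_of_finite (MvPowerSeries (Fin n) Λ) R hinj d hd P hP


/-- One step of the localisation sequence at the top degree. -/
theorem step (R : Type u) [CommRing R] [IsNoetherianRing R] [IsLocalRing R] (d : ℕ)
    (hd : ringKrullDim R = d) (I : Ideal R) (b : R) (hb : b ∈ maximalIdeal R)
    (h : Subsingleton (LocCoh.H (I ⊔ Ideal.span {b}) d R)) : Subsingleton (LocCoh.H I d R) := by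
  refine ⟨fun x y => ?_⟩
  have key : ∀ x : LocCoh.H I d R, x = 0 := by
    intro x
    have hA := Groth.Agent.Lib.Helper8.LocLES.les_exact b I d (ModuleCat.of R R)
    have hdim : ringKrullDim (Localization (Submonoid.powers b)) < ((d : ℕ) : WithBot ℕ∞) := by
      apply Groth.Agent.Lib.Helper8.CdDim.ringKrullDim_away_lt b hb d
      rw [hd]
      exact_mod_cast Nat.lt_succ_self d
    have h0 : ((localCohomology I d).map (Groth.Agent.Lib.Helper8.LocLES.mkb b (ModuleCat.of R R))).hom x
        = 0 := by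
      obtain ⟨φ, -⟩ := Groth.Agent.S11614.result R (Localization (Submonoid.powers b)) I
        (LocalizedModule (Submonoid.powers b) R) d
      obtain ⟨z, hz⟩ := φ.surjective
        (((localCohomology I d).map (Groth.Agent.Lib.Helper8.LocLES.mkb b (ModuleCat.of R R))).hom x)
      have hz0 : z = 0 := Groth.Agent.Lib.Helper8.CdDim.Q_all d (Localization (Submonoid.powers b))
        hdim _ _ z
      rw [← hz, hz0, map_zero]
    obtain ⟨w, rfl⟩ := (hA x).mp h0
    have : w = 0 := Subsingleton.elim _ _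
    rw [this, map_zero]
  rw [key x, key y]

theorem H_subsingleton_of_complete_domain (R : Type u) [CommRing R] [IsDomain R] [IsLocalRing R]
    [IsNoetherianRing R] [IsAdicComplete (maximalIdeal R) R] (d : ℕ) (hd : ringKrullDim R = d)
    (I : Ideal R) (hI : ∃ P : Ideal R, P.IsPrime ∧ I ≤ P ∧ P ≠ maximalIdeal R) :
    Subsingleton (LocCoh.H I d R) := by
  induction I using WellFoundedGT.induction with
  | ind I ih =>
    obtain ⟨P0, hP0, hIP0, hP0m⟩ := hI
    by_cases hcase : ∃ x ∈ maximalIdeal R, x ∉ I.radical ∧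
        ∃ P : Ideal R, P.IsPrime ∧ I ⊔ Ideal.span {x} ≤ P ∧ P ≠ maximalIdeal R
    · obtain ⟨x, hxm, hxI, hex⟩ := hcase
      have hlt : I < I ⊔ Ideal.span {x} := by
        refine lt_of_le_of_ne le_sup_left ?_
        intro heq
        apply hxI
        apply Ideal.le_radical
        rw [heq]
        exact Ideal.mem_sup_right (Ideal.mem_span_singleton_self x)
      exact step R d hd I x hxm (ih _ hlt hex)
    · push_neg at hcase
      have hrad : I.radical = P0 := by
        apply le_antisymm ((hP0.radical_le_iff).mpr hIP0)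
        intro x hx
        by_contra hxI
        exact hP0m (hcase x (IsLocalRing.le_maximalIdeal hP0.ne_top hx) hxI P0 hP0
          (sup_le hIP0 ((Ideal.span_singleton_le_iff_mem _).mpr hx)))
      have hdim : ringKrullDim (R ⧸ P0) = 1 := by
        haveI := hP0
        refine ringKrullDim_quotient_eq_one P0 hP0m (fun Q hQ hlt => ?_)
        obtain ⟨x, hxQ, hxP⟩ := SetLike.exists_of_lt hlt
        exact hcase x (IsLocalRing.le_maximalIdeal hQ.ne_top hxQ) (hrad ▸ hxP) Q hQ
          (sup_le (hIP0.trans hlt.le) ((Ideal.span_singleton_le_iff_mem _).mpr hxQ))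
      haveI := hP0
      have := H_prime_subsingleton R d hd P0 hdim
      exact Groth.Agent.Lib.Helper8.Acyc.subsingleton_of_radical_eq (J := I) (K := P0)
        (by rw [hrad, hP0.radical]) d R this

/-- Hartshorne–Lichtenbaum vanishing for complete local domains. -/
theorem bound_of_complete_domain (R : Type u) [CommRing R] [IsDomain R] [IsLocalRing R]
    [IsNoetherianRing R] [IsAdicComplete (maximalIdeal R) R] (d : ℕ) (hd : ringKrullDim R = d)
    (I : Ideal R) (hI : ∃ P : Ideal R, P.IsPrime ∧ I ≤ P ∧ P ≠ maximalIdeal R) :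
    Bound I (d - 1) := by
  apply bound_of_ring
  intro i hi x
  rcases Nat.eq_or_lt_of_le (show d ≤ i by omega) with h | h
  · subst h
    haveI := H_subsingleton_of_complete_domain R d hd I hI
    exact Subsingleton.elim _ _
  · apply Groth.Agent.Lib.Helper8.GV.H_eq_zero_of_supportDim_lt I i R
    rw [Module.supportDim_self_eq_ringKrullDim, hd]
    exact_mod_cast h

theorem bound_span_range {R : Type u} [CommRing R] [IsNoetherianRing R] :
    ∀ (t : ℕ) (f : Fin t → R), Bound (Ideal.span (Set.range f)) t := by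
  intro t
  induction t with
  | zero =>
    intro f
    have : Set.range f = ∅ := Set.range_eq_empty f
    rw [this, Ideal.span_empty]
    exact bound_bot
  | succ t ih =>
    intro f
    have h := bound_sup_singleton _ (f (Fin.last t)) t (ih (fun i => f i.castSucc))
    have heq : Ideal.span (Set.range fun i : Fin t => f i.castSucc) ⊔ Ideal.span {f (Fin.last t)} =
        Ideal.span (Set.range f) := by
      rw [← Ideal.span_union]
      congr 1
      ext y
      simp only [Set.union_singleton, Set.mem_insert_iff, Set.mem_range]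
      constructor
      · rintro (rfl | ⟨i, rfl⟩)
        · exact ⟨_, rfl⟩
        · exact ⟨_, rfl⟩
      · rintro ⟨i, rfl⟩
        refine Fin.lastCases ?_ (fun j => ?_) i
        · exact Or.inl rfl
        · exact Or.inr ⟨j, rfl⟩
    rwa [heq] at h

end Complete

end Groth.Agent.Lib.Helper29.HLVT
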