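import Mathlib
import Groth.Agent.Lib.Helper8CanonDual
import Groth.Agent.Lib.Helper8LocDualK
import Groth.Agent.Lib.Helper28Depth
import Groth.Agent.S5788
import Groth.Agent.S11625
import Groth.Agent.S2935

/-! Canonical modules (finite `K` with `Hom(K, E) ≅ H^n_m(R)`): nontriviality, support dimension,
and over a Cohen–Macaulay local ring: duality in `Abelian.Ext` form, `Ext(k, K)`, depth,
injective dimension (helper8). -/

set_option autoImplicit false
set_option linter.unusedSectionVars false
universe u
open CategoryTheory CategoryTheory.Limits Opposite CategoryTheory.Abelian IsLocalRing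

namespace Groth.Agent.Lib.Helper8.CanonCM
open Groth.Agent.Lib.Helper8.ExtLES Groth.Agent.Lib.Helper8.Bridge Groth.Agent.Lib.Helper8.LC
  Groth.Agent.Lib.Helper8.ExtRep Groth.Agent.Lib.Helper8.LocDual Groth.Agent.Lib.Helper8.CanonDual

section Cogen

variable {R : Type u} [CommRing R] [IsLocalRing R] (E : Type u) [AddCommGroup E] [Module R E]
  (f : ResidueField R →ₗ[R] E) (hf : InjHull.IsInjectiveHull f)

include hf in
theorem subsingleton_of_subsingleton_hom (X : Type u) [AddCommGroup X] [Module R X]
    (h : Subsingleton (X →ₗ[R] E)) : Subsingleton X := by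
  have := hf.isInjective
  exact Groth.Agent.Lib.Helper8.LocDualK.subsingleton_of_hom_eq_zero E f hf.injective X
    (fun lam => Subsingleton.elim _ _)

include hf in
theorem nontrivial_hom (X : Type u) [AddCommGroup X] [Module R X] [Nontrivial X] :
    Nontrivial (X →ₗ[R] E) := by
  by_contra h
  rw [not_nontrivial_iff_subsingleton] at h
  exact not_subsingleton X (subsingleton_of_subsingleton_hom E f hf X h)

omit [IsLocalRing R] in
theorem subsingleton_hom_of_subsingleton (X : Type u) [AddCommGroup X] [Module R X]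
    [Subsingleton X] : Subsingleton (X →ₗ[R] E) :=
  ⟨fun a b => LinearMap.ext fun x => by rw [Subsingleton.elim x 0, map_zero, map_zero]⟩

include hf in
/-- A proper submodule is killed by a nonzero functional to `E`. -/
theorem exists_functional (V : Type u) [AddCommGroup V] [Module R V] (W : Submodule R V)
    (hW : W ≠ ⊤) : ∃ μ : V →ₗ[R] E, μ ≠ 0 ∧ ∀ w ∈ W, μ w = 0 := by
  have hnt : Nontrivial (V ⧸ W) := Submodule.Quotient.nontrivial_iff.mpr hW
  have := nontrivial_hom E f hf (V ⧸ W)
  obtain ⟨ν, hν⟩ := exists_ne (0 : (V ⧸ W) →ₗ[R] E)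
  refine ⟨ν ∘ₗ W.mkQ, ?_, ?_⟩
  · intro h0
    apply hν
    apply LinearMap.ext
    intro x
    obtain ⟨x, rfl⟩ := Submodule.Quotient.mk_surjective W x
    exact LinearMap.congr_fun h0 x
  · intro w hw
    change ν (Submodule.Quotient.mk w) = 0
    rw [(Submodule.Quotient.mk_eq_zero W).mpr hw, map_zero]

end Cogen

section Canon

variable {R : Type u} [CommRing R] [IsNoetherianRing R] [IsLocalRing R] (n : ℕ)
  (hn : ringKrullDim R = n)
  (E : Type u) [AddCommGroup E] [Module R E] (f : ResidueField R →ₗ[R] E)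
  (hf : InjHull.IsInjectiveHull f) (K : Type u) [AddCommGroup K] [Module R K] [Module.Finite R K]
  (eK : (K →ₗ[R] E) ≃ₗ[R] LocCoh.H (maximalIdeal R) n R)

include hn in
theorem hcd : LocCoh.CdLE R (maximalIdeal R) n :=
  Groth.Agent.S0325.result R (maximalIdeal R) n hn.le

/-- The trace `H^n_m(K) → E`. -/
noncomputable abbrev tr : (localCohomology (maximalIdeal R) n).obj (ModuleCat.of R K) →ₗ[R] E :=
  trK (maximalIdeal R) n (hcd n hn) (ModuleCat.of R K) eK

include hf in
omit [Module.Finite R K] in
/-- `ζ` is bijective on finite modules. -/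
theorem ζ_bijective (X : Type u) [AddCommGroup X] [Module R X] [Module.Finite R X] :
    Function.Bijective (ζ (maximalIdeal R) n (ModuleCat.of R K) (tr n hn E K eK)
      (ModuleCat.of R X)) := by
  have := hf.isInjective
  have hR := ζ_self_bijective (maximalIdeal R) n (hcd n hn) (ModuleCat.of R K) eK
  exact ⟨ζ_injective (maximalIdeal R) n (ModuleCat.of R K) _ hR (hcd n hn) X,
    ζ_surjective (maximalIdeal R) n (ModuleCat.of R K) _ hR X⟩

include hn eK in
omit [Module.Finite R K] in
theorem nontrivial_K : Nontrivial K := by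
  have h1 : Nontrivial (LocCoh.H (maximalIdeal R) n R) :=
    Groth.Agent.S2935.result R R n (by rw [Module.supportDim_self_eq_ringKrullDim, hn])
  have h2 : Nontrivial (K →ₗ[R] E) := eK.toEquiv.nontrivial
  by_contra h
  rw [not_nontrivial_iff_subsingleton] at h
  exact not_subsingleton _ (subsingleton_hom_of_subsingleton (R := R) E K)

include hn hf eK in
theorem supportDim_K : Module.supportDim R K = n := by
  have hK := nontrivial_K n hn E K eK
  have hle : Module.supportDim R K ≤ (n : WithBot ℕ∞) := by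
    rw [← hn]
    exact Module.supportDim_le_ringKrullDim R K
  refine le_antisymm hle (not_lt.mp fun hlt => ?_)
  have hsub : Subsingleton (LocCoh.H (maximalIdeal R) n K) :=
    Groth.Agent.S11625.result R (maximalIdeal R) K n hlt
  have hbij := ζ_bijective n hn E f hf K eK K
  have hsub2 : Subsingleton (Groth.Agent.Lib.Helper8.ExtLES.E 0 (ModuleCat.of R K)
      (ModuleCat.of R K) →ₗ[R] E) :=
    (Equiv.ofBijective _ hbij).symm.subsingleton
  have hsub3 := subsingleton_of_subsingleton_hom E f hf _ hsub2
  have hθ := θ_bijective (ModuleCat.of R K) (ModuleCat.of R K)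
  have h1 : θ (ModuleCat.of R K) (ModuleCat.of R K) (𝟙 _) = θ (ModuleCat.of R K) (ModuleCat.of R K) 0 :=
    Subsingleton.elim _ _
  have h2 : (𝟙 (ModuleCat.of R K)) = 0 := hθ.1 h1
  obtain ⟨k, hk⟩ := exists_ne (0 : K)
  apply hk
  have h3 := congrArg (fun φ : ModuleCat.of R K ⟶ ModuleCat.of R K => φ.hom k) h2
  exact h3

end Canon

section CM

variable {R : Type u} [CommRing R] [LocCoh.IsCohenMacaulayLocalRing R] (n : ℕ)
  (hn : ringKrullDim R = n)
  (E : Type u) [AddCommGroup E] [Module R E] (f : ResidueField R →ₗ[R] E)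
  (hf : InjHull.IsInjectiveHull f) (K : Type u) [AddCommGroup K] [Module R K] [Module.Finite R K]
  (eK : (K →ₗ[R] E) ≃ₗ[R] LocCoh.H (maximalIdeal R) n R)

include hn in
theorem depth_R : (n : ℕ∞) ≤ LocCoh.idealDepth (maximalIdeal R) R := by
  have h1 := LocCoh.IsCohenMacaulayLocalRing.supportDim_eq_depth (R := R)
  rw [Module.supportDim_self_eq_ringKrullDim, hn] at h1
  have h2 : ((n : ℕ∞) : WithBot ℕ∞) = ((LocCoh.depth R R : ℕ∞) : WithBot ℕ∞) := by
    exact_mod_cast h1
  have h3 : (n : ℕ∞) = LocCoh.depth R R := WithBot.coe_injective h2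
  rw [h3]
  rfl

theorem smul_top_ne_top : maximalIdeal R • (⊤ : Submodule R R) ≠ ⊤ := by
  rw [smul_eq_mul, Ideal.mul_top]
  exact Ideal.IsPrime.ne_top'

include hn hf in
omit [Module.Finite R K] in
theorem hyp : Hyp (maximalIdeal R) n (ModuleCat.of R K) (tr n hn E K eK) := by
  have := hf.isInjective
  exact hyp_of_vanish (maximalIdeal R) n (hcd n hn) (ModuleCat.of R K) eK
    (H_eq_zero_of_lt_depth (maximalIdeal R) n R smul_top_ne_top (depth_R n hn))

include hn hf eK in
/-- Local duality in `Abelian.Ext` form. -/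
theorem dualExt (M : Type u) [AddCommGroup M] [Module R M] [Module.Finite R M] (i : ℕ)
    (hi : i ≤ n) :
    Nonempty (LocCoh.H (maximalIdeal R) (n - i) M ≃ₗ[R]
      (Ext.{u} (ModuleCat.of R M) (ModuleCat.of R K) i →ₗ[R] E)) := by
  obtain ⟨e⟩ := duality (hyp n hn E f hf K eK) i (n - i) (by omega) M
  exact ⟨e.trans (LinearEquiv.congrLeft E R (Ψ i (ModuleCat.of R M) (ModuleCat.of R K)))⟩

theorem supportDim_residue : Module.supportDim R (R ⧸ maximalIdeal R) = 0 := by
  rw [Module.supportDim_quotient_eq_ringKrullDim]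
  let _ : Field (R ⧸ maximalIdeal R) := Ideal.Quotient.field (maximalIdeal R)
  exact ringKrullDim_eq_zero_of_field (R ⧸ maximalIdeal R)

include hn hf eK in
theorem ext_residue_subsingleton (i : ℕ) (hi : i < n) :
    Subsingleton (Ext.{u} (ModuleCat.of R (R ⧸ maximalIdeal R)) (ModuleCat.of R K) i) := by
  obtain ⟨e⟩ := dualExt n hn E f hf K eK (R ⧸ maximalIdeal R) i hi.le
  have hsub : Subsingleton (LocCoh.H (maximalIdeal R) (n - i) (R ⧸ maximalIdeal R)) :=
    Groth.Agent.S11625.result R (maximalIdeal R) (R ⧸ maximalIdeal R) (n - i) (by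
      rw [supportDim_residue]
      have : 0 < n - i := by omega
      exact_mod_cast this)
  have hsub2 : Subsingleton (Ext.{u} (ModuleCat.of R (R ⧸ maximalIdeal R))
      (ModuleCat.of R K) i →ₗ[R] E) := e.symm.toEquiv.subsingleton
  exact subsingleton_of_subsingleton_hom E f hf _ hsub2

include hn hf eK in
theorem ext_residue_nontrivial :
    Nontrivial (Ext.{u} (ModuleCat.of R (R ⧸ maximalIdeal R)) (ModuleCat.of R K) n) := by
  obtain ⟨e⟩ := dualExt n hn E f hf K eK (R ⧸ maximalIdeal R) n le_rfl
  have hnt0 : Nontrivial (R ⧸ maximalIdeal R) :=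
    Ideal.Quotient.nontrivial_iff.mpr Ideal.IsPrime.ne_top'
  have hnt : Nontrivial (LocCoh.H (maximalIdeal R) 0 (R ⧸ maximalIdeal R)) :=
    Groth.Agent.S2935.result R (R ⧸ maximalIdeal R) 0 (by rw [supportDim_residue]; rfl)
  rw [Nat.sub_self] at e
  have hnt2 : Nontrivial (Ext.{u} (ModuleCat.of R (R ⧸ maximalIdeal R))
      (ModuleCat.of R K) n →ₗ[R] E) := e.symm.toEquiv.nontrivial
  by_contra h
  rw [not_nontrivial_iff_subsingleton] at h
  exact not_subsingleton _ (subsingleton_hom_of_subsingleton (R := R) E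
    (Ext.{u} (ModuleCat.of R (R ⧸ maximalIdeal R)) (ModuleCat.of R K) n))

include hn hf eK in
theorem depth_K : LocCoh.depth R K = n := by
  change LocCoh.idealDepth (maximalIdeal R) K = n
  rw [Groth.Agent.Lib.Helper28.idealDepth_eq_natCast_iff_ext']
  exact ⟨fun i hi => ext_residue_subsingleton n hn E f hf K eK i hi,
    ext_residue_nontrivial n hn E f hf K eK⟩

include hn hf eK in
theorem isCohenMacaulayModule_K : LocCoh.IsCohenMacaulayModule R K := by
  unfold LocCoh.IsCohenMacaulayModule
  rw [supportDim_K n hn E f hf K eK, depth_K n hn E f hf K eK]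
  rfl

include hn hf eK in
theorem not_injdim : ¬ HasInjectiveDimensionLT (ModuleCat.of R K) n := by
  intro h
  have hsub := HasInjectiveDimensionLT.subsingleton.{u} (ModuleCat.of R K) n n le_rfl
    (ModuleCat.of R (R ⧸ maximalIdeal R))
  have hnt := ext_residue_nontrivial n hn E f hf K eK
  exact not_subsingleton _ hsub

/-- `H^0_I` is left exact on a monomorphism. -/
theorem H_zero_map_injective {A : Type u} [CommRing A] (I : Ideal A) {M N : ModuleCat.{u} A}
    (g : M ⟶ N) (hg : Function.Injective g.hom) :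
    Function.Injective ((localCohomology I 0).map g).hom := by
  rw [injective_iff_map_eq_zero]
  intro c hc
  apply Φ_injective I M
  rw [map_zero]
  apply hg
  have h1 := Φ_naturality I g c
  rw [map_zero]
  refine Eq.trans h1.symm ?_
  have : (localCohomology I 0).map g c = 0 := hc
  rw [this, map_zero]

include hn hf eK in
/-- `Ext^{n+1}(M, K) = 0` for finite `M`. -/
theorem ext_succ_subsingleton (M : Type u) [AddCommGroup M] [Module R M] [Module.Finite R M] :
    Subsingleton (Ext.{u} (ModuleCat.of R M) (ModuleCat.of R K) (n + 1)) := by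
  have hinjE := hf.isInjective
  obtain ⟨b, p, hp⟩ := Module.Finite.exists_fin' R M
  let S := p.shortComplexKer
  have hS : S.ShortExact := LinearMap.shortExact_shortComplexKer hp
  have hproj : Projective S.X₂ := by
    change Projective (ModuleCat.of R (Fin b → R))
    exact ModuleCat.projective_of_free (Pi.basisFun R (Fin b))
  suffices h : ∀ x₁ : Ext.{u} S.X₁ (ModuleCat.of R K) n,
      hS.extClass.comp x₁ (Nat.add_comm 1 n) = 0 by
    refine ⟨fun a' b' => ?_⟩
    suffices hz : ∀ x₃ : Ext.{u} (ModuleCat.of R M) (ModuleCat.of R K) (n + 1), x₃ = 0 by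
      rw [hz a', hz b']
    intro x₃
    have h0 : (Ext.mk₀ S.g).comp x₃ (zero_add (n + 1)) = 0 := Ext.eq_zero_of_projective _
    obtain ⟨x₁, hx₁⟩ := Ext.contravariant_sequence_exact₃ hS (ModuleCat.of R K) x₃ h0
      (Nat.add_comm 1 n)
    rw [← hx₁, h x₁]
  intro x₁
  rcases Nat.eq_zero_or_pos n with hn0 | hpos
  · -- dimension zero: `Hom(F, K) → Hom(N, K)` is surjective
    subst hn0
    have hsurj : Function.Surjective (Epre 0 S.f (ModuleCat.of R K)).hom := by
      rw [← LinearMap.range_eq_top]
      by_contra hne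
      obtain ⟨μ, hμ0, hμ⟩ := exists_functional E f hf _ _ hne
      have hfinN : Module.Finite R (LinearMap.ker p) := inferInstance
      obtain ⟨c, hc⟩ := (ζ_bijective 0 hn E f hf K eK (LinearMap.ker p)).2 μ
      have h2 : ζ (maximalIdeal R) 0 (ModuleCat.of R K) (tr 0 hn E K eK) S.X₂
          ((localCohomology (maximalIdeal R) 0).map S.f c) = 0 := by
        apply LinearMap.ext
        intro ε
        rw [ζ_natural]
        have : ζ (maximalIdeal R) 0 (ModuleCat.of R K) (tr 0 hn E K eK) S.X₁ c = μ := hc
        rw [this]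
        exact hμ _ ⟨ε, rfl⟩
      have h3 : (localCohomology (maximalIdeal R) 0).map S.f c = 0 :=
        (ζ_bijective 0 hn E f hf K eK (Fin b → R)).1 (by rw [h2, map_zero])
      have h4 : c = 0 := by
        apply H_zero_map_injective (maximalIdeal R) S.f
          ((ModuleCat.mono_iff_injective S.f).mp hS.mono_f)
        rw [map_zero]
        exact h3
      apply hμ0
      rw [← hc, h4, map_zero]
    obtain ⟨e₂, he₂⟩ := hsurj ((Ψ 0 S.X₁ (ModuleCat.of R K)).symm x₁)
    have h5 : x₁ = (Ext.mk₀ S.f).comp (Ψ 0 S.X₂ (ModuleCat.of R K) e₂) (zero_add 0) := by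
      rw [← Ψ_Epre, he₂, LinearEquiv.apply_symm_apply]
    rw [h5, ← Ext.comp_assoc_of_second_deg_zero, hS.extClass_comp, Ext.zero_comp]
  · -- positive dimension: `Ext^n(N, K) = 0`
    suffices hsub : Subsingleton (Ext.{u} S.X₁ (ModuleCat.of R K) n) by
      rw [Subsingleton.elim x₁ 0, Ext.comp_zero]
    have hfinN : Module.Finite R (LinearMap.ker p) := inferInstance
    obtain ⟨e⟩ := dualExt n hn E f hf K eK (LinearMap.ker p) n le_rfl
    rw [Nat.sub_self] at e
    have h1 : (1 : ℕ∞) ≤ LocCoh.idealDepth (maximalIdeal R) R := by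
      refine le_trans ?_ (depth_R n hn)
      exact_mod_cast hpos
    obtain ⟨x, hxm, hreg⟩ :=
      (Groth.Agent.Lib.Helper28.one_le_idealDepth_iff smul_top_ne_top).mp h1
    have hH0 : Subsingleton (LocCoh.H (maximalIdeal R) 0 (LinearMap.ker p)) := by
      refine ⟨fun a' b' => ?_⟩
      suffices hz : ∀ y : (localCohomology (maximalIdeal R) 0).obj
          (ModuleCat.of R (LinearMap.ker p)), y = 0 by
        exact (hz a').trans (hz b').symm
      intro y
      refine H_eq_zero_of_smul_injective (maximalIdeal R) 0 _ x hxm ?_ y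
      intro y hy
      apply Φ_injective (maximalIdeal R) (ModuleCat.of R (LinearMap.ker p))
      rw [map_zero]
      have h2 : x • Φ (maximalIdeal R) (ModuleCat.of R (LinearMap.ker p)) y = 0 := by
        rw [← map_smul, hy, map_zero]
      generalize Φ (maximalIdeal R) (ModuleCat.of R (LinearMap.ker p)) y = v at h2
      have hv : (v : LinearMap.ker p) = 0 := by
        apply Subtype.ext
        funext j
        have h3 := congrArg (fun w : LinearMap.ker p => (w : Fin b → R) j) h2
        have h4 : x * (v : LinearMap.ker p).1 j = 0 := h3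
        have h5 : x • (v : LinearMap.ker p).1 j = x • (0 : R) := by
          rw [smul_eq_mul, h4, smul_zero]
        exact hreg h5
      exact hv
    have hsub2 : Subsingleton (Ext.{u} (ModuleCat.of R (LinearMap.ker p))
        (ModuleCat.of R K) n →ₗ[R] E) := e.symm.toEquiv.subsingleton
    exact subsingleton_of_subsingleton_hom E f hf _ hsub2

include hn hf eK in
theorem injdim : HasInjectiveDimensionLT (ModuleCat.of R K) (n + 1) := by
  rw [Groth.Agent.S5788.result]
  intro I
  exact ext_succ_subsingleton n hn E f hf K eK (R ⧸ I)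

end CM

end Groth.Agent.Lib.Helper8.CanonCM
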