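import Mathlib
import Groth.Agent.Lib.Helper8RegHull
import Groth.Agent.Lib.Helper29GorHull
import Groth.Agent.S5168

/-! Over a Noetherian local ring, a power-torsion module `Q` with `Ext^1(k, Q) = 0` is injective
(helper29). -/

set_option autoImplicit false
set_option linter.style.haveILetI false
universe u
open CategoryTheory CategoryTheory.Abelian IsLocalRing

namespace Groth.Agent.Lib.Helper29InjOfExtResidue

variable (A : Type u) [CommRing A] [IsLocalRing A] [IsNoetherianRing A]
variable (Q : Type u) [AddCommGroup Q] [Module A Q]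

omit [IsNoetherianRing A] in
/-- `Ext^1(F, Q) = 0` for `F` of finite length as soon as `Ext^1(k, Q) = 0`. -/
theorem ext_one_finiteLength
    (hext : ∀ x : Ext.{u} (ModuleCat.of A (ResidueField A)) (ModuleCat.of A Q) 1, x = 0)
    (M : Type u) [AddCommGroup M] [Module A M] (hM : IsFiniteLength A M) :
    ∀ x : Ext.{u} (ModuleCat.of A M) (ModuleCat.of A Q) 1, x = 0 := by
  induction hM with
  | @of_subsingleton M _ _ _ =>
    intro x
    have h0 : 𝟙 (ModuleCat.of A M) = 0 := by
      ext m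
      exact Subsingleton.elim _ _
    rw [← Ext.mk₀_id_comp x, h0, Ext.mk₀_zero, Ext.zero_comp]
  | @of_simple_quotient M _ _ N _ h ih =>
    intro x
    obtain ⟨e⟩ := Groth.Agent.Lib.Helper29.GorHull.exists_equiv_kq A (M ⧸ N)
    have e' : (M ⧸ N) ≃ₗ[A] ResidueField A := e
    have hT : ∀ y : Ext.{u} (ModuleCat.of A (M ⧸ N)) (ModuleCat.of A Q) 1, y = 0 := by
      intro y
      have hs : Subsingleton (Ext.{u} (ModuleCat.of A (ResidueField A)) (ModuleCat.of A Q) 1) :=
        ⟨fun a b => by rw [hext a, hext b]⟩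
      have := (Groth.Agent.Lib.Helper29.GorHull.extCongrLeft A e'.toModuleIso
        (ModuleCat.of A Q) 1).symm.subsingleton
      exact Subsingleton.elim _ _
    have hS := Groth.Agent.Lib.Helper8.RegDual.subSC_shortExact A N
    have h1 : (Ext.mk₀ (Groth.Agent.Lib.Helper8.RegDual.subSC A N).f).comp x (zero_add 1) = 0 :=
      ih _
    obtain ⟨x₃, hx₃⟩ := Ext.contravariant_sequence_exact₂ hS (ModuleCat.of A Q) x h1
    rw [← hx₃, hT x₃, Ext.comp_zero]

/-- A power-torsion module with `Ext^1(k, Q) = 0` is injective. -/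
theorem injective_of_ext_one_residue
    (htors : LocCoh.IsPowerTorsion (maximalIdeal A) Q)
    (hext : ∀ x : Ext.{u} (ModuleCat.of A (ResidueField A)) (ModuleCat.of A Q) 1, x = 0) :
    Module.Injective A Q := by
  rw [Groth.Agent.S5168.result A (maximalIdeal A) Q htors]
  intro M _ _ hfin hk N g
  obtain ⟨k, hk⟩ := hk
  have hkM : ∀ a ∈ maximalIdeal A ^ k, ∀ x : M, a • x = 0 := by
    intro a ha x
    have : a • x ∈ (maximalIdeal A ^ k) • (⊤ : Submodule A M) :=
      Submodule.smul_mem_smul ha trivial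
    rw [hk] at this
    exact (Submodule.mem_bot A).mp this
  have hkQ : ∀ a ∈ maximalIdeal A ^ k, ∀ x : M ⧸ N, a • x = 0 := by
    intro a ha x
    obtain ⟨y, rfl⟩ := N.mkQ_surjective x
    rw [← map_smul, hkM a ha y, map_zero]
  have hflQ : IsFiniteLength A (M ⧸ N) :=
    Groth.Agent.Lib.Helper8.RegHull.isFiniteLength_of_finite_of_pow_smul (M ⧸ N) k hkQ
  have hvan := ext_one_finiteLength A Q hext (M ⧸ N) hflQ
  have hS := Groth.Agent.Lib.Helper8.RegDual.subSC_shortExact A N
  let x₁ : Ext.{u} (ModuleCat.of A N) (ModuleCat.of A Q) 0 := Ext.mk₀ (ModuleCat.ofHom g)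
  obtain ⟨x₂, hx₂⟩ := Ext.contravariant_sequence_exact₁ hS (ModuleCat.of A Q) x₁ rfl (hvan _)
  obtain ⟨g', rfl⟩ := (Ext.mk₀_bijective _ _).2 x₂
  rw [Ext.mk₀_comp_mk₀] at hx₂
  have h3 := (Ext.mk₀_bijective _ _).1 hx₂
  refine ⟨g'.hom, ?_⟩
  apply LinearMap.ext
  intro y
  have h4 := congrArg (fun φ => φ.hom y) h3
  exact h4

end Groth.Agent.Lib.Helper29InjOfExtResidue
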