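import Mathlib
import Groth.Agent.Lib.Helper8CanonCM
import Groth.Agent.Lib.Helper28DepthLoc

/-! Canonical modules, part 2: regular elements, `Ext^1(K, K) = 0`, lifting endomorphisms
(helper8). -/

set_option autoImplicit false
set_option linter.unusedSectionVars false
universe u
open CategoryTheory CategoryTheory.Limits Opposite CategoryTheory.Abelian IsLocalRing Pointwise

namespace Groth.Agent.Lib.Helper8.CanonCM
open Groth.Agent.Lib.Helper8.ExtLES Groth.Agent.Lib.Helper8.Bridge Groth.Agent.Lib.Helper8.LC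
  Groth.Agent.Lib.Helper8.ExtRep Groth.Agent.Lib.Helper8.LocDual Groth.Agent.Lib.Helper8.CanonDual

theorem lt_of_add_one_eq {x : WithBot ℕ∞} {n : ℕ} (h : x + 1 = (n : WithBot ℕ∞)) :
    x < (n : WithBot ℕ∞) := by
  induction x using WithBot.recBotCoe with
  | bot => exact WithBot.bot_lt_coe _
  | coe y =>
    have h' : ((y + 1 : ℕ∞) : WithBot ℕ∞) = ((n : ℕ∞) : WithBot ℕ∞) := by exact_mod_cast h
    have h2 : y + 1 = (n : ℕ∞) := WithBot.coe_injective h'
    have h3 : y < (n : ℕ∞) := by
      induction y using ENat.recTopCoe with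
      | top => simp at h2
      | coe k =>
        have h4 : k + 1 = n := by exact_mod_cast h2
        exact_mod_cast (by omega : k < n)
    exact_mod_cast h3

section Reg

variable {R : Type u} [CommRing R] [IsNoetherianRing R] [IsLocalRing R] (n : ℕ)
  (hn : ringKrullDim R = n)
  (E : Type u) [AddCommGroup E] [Module R E] (f : ResidueField R →ₗ[R] E)
  (hf : InjHull.IsInjectiveHull f) (K : Type u) [AddCommGroup K] [Module R K] [Module.Finite R K]
  (eK : (K →ₗ[R] E) ≃ₗ[R] LocCoh.H (maximalIdeal R) n R)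
  (a : R) (ha : a ∈ maximalIdeal R) (hreg : IsSMulRegular R a)

include hn ha hreg in
/-- A regular element of `m` acts surjectively on `H^n_m(R)`. -/
theorem smul_H_top_surjective (y : (localCohomology (maximalIdeal R) n).obj (ModuleCat.of R R)) :
    ∃ x : (localCohomology (maximalIdeal R) n).obj (ModuleCat.of R R), a • x = y := by
  have hex := LinearMap.exact_lsmul_mkQ_smul_top (R := R) R a
  have hS := Sfg_shortExact (LinearMap.lsmul R R a) (a • (⊤ : Submodule R R)).mkQ hreg
    (Submodule.mkQ_surjective _) hex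
  have hdim : Module.supportDim R (QuotSMulTop a R) < (n : WithBot ℕ∞) := by
    have h1 := Module.supportDim_quotSMulTop_succ_eq_supportDim (M := R) hreg ha
    rw [Module.supportDim_self_eq_ringKrullDim, hn] at h1
    exact lt_of_add_one_eq h1
  have hsub : Subsingleton (LocCoh.H (maximalIdeal R) n (QuotSMulTop a R)) :=
    Groth.Agent.S11625.result R (maximalIdeal R) (QuotSMulTop a R) n hdim
  obtain ⟨x, hx⟩ := H_exact₂ (maximalIdeal R) n _ hS y (hsub.elim _ _)
  refine ⟨x, ?_⟩
  rw [← hx]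
  exact (H_map_lsmul (maximalIdeal R) n R a x).symm

include hn hf eK ha hreg in
/-- A regular element of `m` is regular on a canonical module. -/
theorem isSMulRegular_K : IsSMulRegular K a := by
  have hinjE := hf.isInjective
  suffices h : ∀ k : K, a • k = 0 → k = 0 by
    intro k₁ k₂ h12
    have h3 : a • (k₁ - k₂) = 0 := by
      rw [smul_sub]
      exact sub_eq_zero.mpr h12
    exact sub_eq_zero.mp (h _ h3)
  intro k hk
  by_contra hk0
  let N : Submodule R K := LinearMap.ker (LinearMap.lsmul R K a)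
  have hkN : k ∈ N := hk
  have hnt : Nontrivial N := ⟨⟨⟨k, hkN⟩, 0, fun h0 => hk0 (congrArg Subtype.val h0)⟩⟩
  have := nontrivial_hom E f hf N
  obtain ⟨φ₀, hφ₀⟩ := exists_ne (0 : N →ₗ[R] E)
  obtain ⟨φ, hφ⟩ := Module.Injective.extension_property R E N K N.subtype
    Subtype.val_injective φ₀
  obtain ⟨x, hx⟩ := smul_H_top_surjective n hn a ha hreg (eK φ)
  have h1 : φ = a • eK.symm x := by
    rw [← map_smul, hx, LinearEquiv.symm_apply_apply]
  apply hφ₀
  apply LinearMap.ext
  intro v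
  have h2 : φ₀ v = φ v.1 := (LinearMap.congr_fun hφ v).symm
  rw [h2, h1, LinearMap.smul_apply, ← map_smul]
  have h3 : a • (v : K) = 0 := v.2
  rw [h3, map_zero, LinearMap.zero_apply]

end Reg

section CM

variable {R : Type u} [CommRing R] [LocCoh.IsCohenMacaulayLocalRing R] (n : ℕ)
  (hn : ringKrullDim R = n)
  (E : Type u) [AddCommGroup E] [Module R E] (f : ResidueField R →ₗ[R] E)
  (hf : InjHull.IsInjectiveHull f) (K : Type u) [AddCommGroup K] [Module R K] [Module.Finite R K]
  (eK : (K →ₗ[R] E) ≃ₗ[R] LocCoh.H (maximalIdeal R) n R)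

include hn in
theorem depth_R_eq : LocCoh.idealDepth (maximalIdeal R) R = n := by
  have h1 := LocCoh.IsCohenMacaulayLocalRing.supportDim_eq_depth (R := R)
  rw [Module.supportDim_self_eq_ringKrullDim, hn] at h1
  have h2 : ((n : ℕ∞) : WithBot ℕ∞) = ((LocCoh.depth R R : ℕ∞) : WithBot ℕ∞) := by
    exact_mod_cast h1
  have h3 : (n : ℕ∞) = LocCoh.depth R R := WithBot.coe_injective h2
  exact h3.symm

include hn in
/-- If `m` contains a regular element then `n ≥ 1`. -/
theorem one_le_dim (a : R) (ha : a ∈ maximalIdeal R) (hreg : IsSMulRegular R a) : 1 ≤ n := by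
  have h1 : (1 : ℕ∞) ≤ LocCoh.idealDepth (maximalIdeal R) R :=
    (Groth.Agent.Lib.Helper28.one_le_idealDepth_iff smul_top_ne_top).mpr ⟨a, ha, hreg⟩
  rw [depth_R_eq n hn] at h1
  exact_mod_cast h1

include hn hf eK in
/-- `H^i_m(K) = 0` for `i < n`. -/
theorem H_K_eq_zero (i : ℕ) (hi : i < n)
    (y : (localCohomology (maximalIdeal R) i).obj (ModuleCat.of R K)) : y = 0 := by
  have hK := nontrivial_K n hn E K eK
  have hne : maximalIdeal R • (⊤ : Submodule R K) ≠ ⊤ :=
    Groth.Agent.Lib.Helper28.maximalIdeal_smul_top_ne_top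
  have hd : (n : ℕ∞) ≤ LocCoh.idealDepth (maximalIdeal R) K :=
    le_of_eq (depth_K n hn E f hf K eK).symm
  exact H_eq_zero_of_lt_depth (maximalIdeal R) n K hne hd i hi y

include hn hf eK in
/-- `Ext^i(K, K) = 0` for `1 ≤ i ≤ n`. -/
theorem ext_KK_subsingleton (i : ℕ) (hi1 : 1 ≤ i) (hi : i ≤ n) :
    Subsingleton (Ext.{u} (ModuleCat.of R K) (ModuleCat.of R K) i) := by
  obtain ⟨e⟩ := dualExt n hn E f hf K eK K i hi
  have hsub : Subsingleton (LocCoh.H (maximalIdeal R) (n - i) K) :=
    ⟨fun x y => (H_K_eq_zero n hn E f hf K eK (n - i) (by omega) x).trans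
      (H_K_eq_zero n hn E f hf K eK (n - i) (by omega) y).symm⟩
  have hsub2 : Subsingleton (Ext.{u} (ModuleCat.of R K) (ModuleCat.of R K) i →ₗ[R] E) :=
    e.symm.toEquiv.subsingleton
  exact subsingleton_of_subsingleton_hom E f hf _ hsub2

include hn hf eK in
/-- Lifting maps `K → K/aK` to endomorphisms of `K`. -/
theorem exists_lift (a : R) (ha : a ∈ maximalIdeal R) (hreg : IsSMulRegular R a)
    (g₀ : K →ₗ[R] K ⧸ (a • (⊤ : Submodule R K))) :
    ∃ g : K →ₗ[R] K, ∀ x : K, g₀ x = Submodule.Quotient.mk (g x) := by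
  have hn1 := one_le_dim n hn a ha hreg
  have hregK := isSMulRegular_K n hn E f hf K eK a ha hreg
  have hex := LinearMap.exact_lsmul_mkQ_smul_top (R := R) K a
  have hS := Sfg_shortExact (LinearMap.lsmul R K a) (a • (⊤ : Submodule R K)).mkQ hregK
    (Submodule.mkQ_surjective _) hex
  have hsub := ext_KK_subsingleton n hn E f hf K eK 1 le_rfl hn1
  let x₃ : Ext.{u} (ModuleCat.of R K) (Sfg (LinearMap.lsmul R K a)
      (a • (⊤ : Submodule R K)).mkQ hex).X₃ 0 := Ext.mk₀ (ModuleCat.ofHom g₀)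
  obtain ⟨x₂, hx₂⟩ := Ext.covariant_sequence_exact₃ (ModuleCat.of R K) hS x₃ (zero_add 1)
    (hsub.elim _ _)
  obtain ⟨g, rfl⟩ := (Ext.mk₀_bijective _ _).2 x₂
  rw [Ext.mk₀_comp_mk₀] at hx₂
  have h1 := (Ext.mk₀_bijective _ _).1 hx₂
  refine ⟨g.hom, fun x => ?_⟩
  have h2 := congrArg (fun φ => φ.hom x) h1
  exact h2.symm

end CM

end Groth.Agent.Lib.Helper8.CanonCM
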