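import Mathlib
import Groth.Agent.Lib.Helper8CanonCM2
import Groth.Agent.Lib.Helper28DepthAss
import Groth.Agent.Lib.Helper28DepthCM
import Groth.Agent.S2935

/-! Relative canonical pairs `(A, L, d)`: `A` a Cohen–Macaulay module of dimension `d` and `L` a
finite module with `Hom(L, E) ≅ H^d_m(A)`; behaviour under regular elements (helper8). -/

set_option autoImplicit false
set_option linter.unusedSectionVars false
universe u
open CategoryTheory CategoryTheory.Limits Opposite CategoryTheory.Abelian IsLocalRing Pointwise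

namespace Groth.Agent.Lib.Helper8.CanonRel
open Groth.Agent.Lib.Helper8.ExtLES Groth.Agent.Lib.Helper8.Bridge Groth.Agent.Lib.Helper8.LC
  Groth.Agent.Lib.Helper8.ExtRep Groth.Agent.Lib.Helper8.LocDual Groth.Agent.Lib.Helper8.CanonDual
  Groth.Agent.Lib.Helper8.CanonCM

section Gen

variable {R : Type u} [CommRing R] [IsNoetherianRing R] [IsLocalRing R]

/-- A regular element of `m` acts surjectively on the top local cohomology. -/
theorem smul_H_surjective (A : Type u) [AddCommGroup A] [Module R A] [Module.Finite R A] (d : ℕ)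
    (hdim : Module.supportDim R A = (d : WithBot ℕ∞)) (a : R) (ha : a ∈ maximalIdeal R)
    (hreg : IsSMulRegular A a)
    (y : (localCohomology (maximalIdeal R) d).obj (ModuleCat.of R A)) :
    ∃ x : (localCohomology (maximalIdeal R) d).obj (ModuleCat.of R A), a • x = y := by
  have hex := LinearMap.exact_lsmul_mkQ_smul_top (R := R) A a
  have hS := Sfg_shortExact (LinearMap.lsmul R A a) (a • (⊤ : Submodule R A)).mkQ hreg
    (Submodule.mkQ_surjective _) hex
  have hdim' : Module.supportDim R (QuotSMulTop a A) < (d : WithBot ℕ∞) := by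
    have h1 := Module.supportDim_quotSMulTop_succ_eq_supportDim (M := A) hreg ha
    rw [hdim] at h1
    exact lt_of_add_one_eq h1
  have hsub : Subsingleton (LocCoh.H (maximalIdeal R) d (QuotSMulTop a A)) :=
    Groth.Agent.S11625.result R (maximalIdeal R) (QuotSMulTop a A) d hdim'
  obtain ⟨x, hx⟩ := H_exact₂ (maximalIdeal R) d _ hS y (hsub.elim _ _)
  refine ⟨x, ?_⟩
  rw [← hx]
  exact (H_map_lsmul (maximalIdeal R) d A a x).symm

/-- If `a` acts surjectively on `H^d_m(A)` (with `dim A = d`) then `H^d_m(A/aA) = 0`. -/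
theorem H_quot_eq_zero (A : Type u) [AddCommGroup A] [Module R A] (d : ℕ)
    (hdim : Module.supportDim R A = (d : WithBot ℕ∞)) (a : R)
    (hs : ∀ y : (localCohomology (maximalIdeal R) d).obj (ModuleCat.of R A),
      ∃ x : (localCohomology (maximalIdeal R) d).obj (ModuleCat.of R A), a • x = y)
    (z : (localCohomology (maximalIdeal R) d).obj (ModuleCat.of R (QuotSMulTop a A))) : z = 0 := by
  have hex : Function.Exact (a • (⊤ : Submodule R A)).subtype (a • (⊤ : Submodule R A)).mkQ := by
    intro v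
    rw [Submodule.mkQ_apply, Submodule.Quotient.mk_eq_zero]
    constructor
    · intro hv
      exact ⟨⟨v, hv⟩, rfl⟩
    · rintro ⟨w, rfl⟩
      exact w.2
  have hS := Sfg_shortExact (a • (⊤ : Submodule R A)).subtype (a • (⊤ : Submodule R A)).mkQ
    Subtype.val_injective (Submodule.mkQ_surjective _) hex
  have hdim' : Module.supportDim R (a • (⊤ : Submodule R A) : Submodule R A) <
      ((d + 1 : ℕ) : WithBot ℕ∞) := by
    refine lt_of_le_of_lt (Module.supportDim_le_of_injective
      (a • (⊤ : Submodule R A)).subtype Subtype.val_injective) ?_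
    rw [hdim]
    exact_mod_cast Nat.lt_succ_self d
  have hsub : Subsingleton (LocCoh.H (maximalIdeal R) (d + 1)
      (a • (⊤ : Submodule R A) : Submodule R A)) :=
    Groth.Agent.S11625.result R (maximalIdeal R) _ (d + 1) hdim'
  obtain ⟨y, hy⟩ := H_exact₃ (maximalIdeal R) d _ hS z (hsub.elim _ _)
  obtain ⟨x, hx⟩ := hs y
  rw [← hy, ← hx]
  change (localCohomology (maximalIdeal R) d).map
    (ModuleCat.ofHom (a • (⊤ : Submodule R A)).mkQ) (a • x) = 0
  rw [map_smul, ← H_map_lsmul (maximalIdeal R) d (QuotSMulTop a A) a]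
  have h0 : ModuleCat.ofHom (LinearMap.lsmul R (QuotSMulTop a A) a) = 0 := by
    apply ModuleCat.hom_ext
    apply LinearMap.ext
    intro w
    obtain ⟨v, rfl⟩ := Submodule.Quotient.mk_surjective _ w
    change a • (Submodule.Quotient.mk v : QuotSMulTop a A) = 0
    rw [← Submodule.Quotient.mk_smul, Submodule.Quotient.mk_eq_zero]
    exact Submodule.smul_mem_pointwise_smul _ _ _ Submodule.mem_top
  rw [h0]
  exact H_map_zero (maximalIdeal R) d _

/-- If `H^d_m(A/aA) = 0` where `A` is Cohen–Macaulay of dimension `d` then `a` is `A`-regular. -/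
theorem isSMulRegular_of_H_quot_eq_zero (A : Type u) [AddCommGroup A] [Module R A]
    [Module.Finite R A] (d : ℕ)
    (hdim : Module.supportDim R A = (d : WithBot ℕ∞))
    (hdepth : LocCoh.idealDepth (maximalIdeal R) A = (d : ℕ∞))
    (a : R) (ha : a ∈ maximalIdeal R)
    (hz : ∀ z : (localCohomology (maximalIdeal R) d).obj (ModuleCat.of R (QuotSMulTop a A)), z = 0) :
    IsSMulRegular A a := by
  have hnt : Nontrivial A := by
    rw [← Module.supportDim_ne_bot_iff_nontrivial R, hdim]
    exact WithBot.coe_ne_bot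
  have hnt' : Nontrivial (QuotSMulTop a A) := nontrivial_quotSMulTop_of_mem_maximalIdeal A ha
  have hle : Module.supportDim R (QuotSMulTop a A) ≤ (d : WithBot ℕ∞) := by
    rw [← hdim]
    exact Module.supportDim_le_of_surjective (a • (⊤ : Submodule R A)).mkQ
      (Submodule.mkQ_surjective _)
  have hlt : Module.supportDim R (QuotSMulTop a A) < (d : WithBot ℕ∞) := by
    refine lt_of_le_of_ne hle (fun heq => ?_)
    have hN := Groth.Agent.S2935.result R (QuotSMulTop a A) d heq
    obtain ⟨z, hz0⟩ := exists_ne (0 : LocCoh.H (maximalIdeal R) d (QuotSMulTop a A))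
    exact hz0 (hz z)
  have hmem : a ∈ {r : R | IsSMulRegular A r} := by
    by_contra hnot
    have h2 : a ∈ ({r : R | IsSMulRegular A r})ᶜ := hnot
    rw [← biUnion_associatedPrimes_eq_compl_regular R A] at h2
    obtain ⟨p, hp, hap⟩ := Set.mem_iUnion₂.mp h2
    have hpp : p.IsPrime := hp.isPrime
    have hsupp : (⟨p, hpp⟩ : PrimeSpectrum R) ∈ Module.support R (QuotSMulTop a A) := by
      rw [Module.support_quotSMulTop]
      refine ⟨Groth.Agent.Lib.Helper28.mem_support_of_mem_associatedPrimes hp, ?_⟩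
      rw [PrimeSpectrum.mem_zeroLocus]
      intro r hr
      rw [Set.mem_singleton_iff.mp hr]
      exact hap
    have h3 := Groth.Agent.Lib.Helper28.ringKrullDim_quotient_le_supportDim hsupp
    have h4 := Groth.Agent.Lib.Helper28.depth_le_ringKrullDim_quotient_of_mem_associatedPrimes hp
    have h5 : ((LocCoh.depth R A : ℕ∞) : WithBot ℕ∞) = (d : WithBot ℕ∞) := by
      change ((LocCoh.idealDepth (maximalIdeal R) A : ℕ∞) : WithBot ℕ∞) = _
      rw [hdepth]
      rfl
    rw [h5] at h4
    exact absurd (lt_of_le_of_lt (h4.trans h3) hlt) (lt_irrefl _)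
  exact hmem

end Gen

section Dual

variable {R : Type u} [CommRing R] [IsNoetherianRing R] [IsLocalRing R]
  (E : Type u) [AddCommGroup E] [Module R E] (f : ResidueField R →ₗ[R] E)
  (hf : InjHull.IsInjectiveHull f)

include hf in
/-- If `a` acts surjectively on `Hom(L, E)` then `a` is `L`-regular. -/
theorem isSMulRegular_of_smul_surjective (L : Type u) [AddCommGroup L] [Module R L]
    (X : Type u) [AddCommGroup X] [Module R X] (e : (L →ₗ[R] E) ≃ₗ[R] X) (a : R)
    (hs : ∀ y : X, ∃ x : X, a • x = y) : IsSMulRegular L a := by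
  have hinjE := hf.isInjective
  suffices h : ∀ k : L, a • k = 0 → k = 0 by
    intro k₁ k₂ h12
    have h3 : a • (k₁ - k₂) = 0 := by
      rw [smul_sub]
      exact sub_eq_zero.mpr h12
    exact sub_eq_zero.mp (h _ h3)
  intro k hk
  by_contra hk0
  let N : Submodule R L := LinearMap.ker (LinearMap.lsmul R L a)
  have hkN : k ∈ N := hk
  have hnt : Nontrivial N := ⟨⟨⟨k, hkN⟩, 0, fun h0 => hk0 (congrArg Subtype.val h0)⟩⟩
  have := nontrivial_hom E f hf N
  obtain ⟨φ₀, hφ₀⟩ := exists_ne (0 : N →ₗ[R] E)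
  obtain ⟨φ, hφ⟩ := Module.Injective.extension_property R E N L N.subtype
    Subtype.val_injective φ₀
  obtain ⟨x, hx⟩ := hs (e φ)
  have h1 : φ = a • e.symm x := by
    rw [← map_smul, hx, LinearEquiv.symm_apply_apply]
  apply hφ₀
  apply LinearMap.ext
  intro v
  have h2 : φ₀ v = φ v.1 := (LinearMap.congr_fun hφ v).symm
  rw [h2, h1, LinearMap.smul_apply, ← map_smul]
  have h3 : a • (v : L) = 0 := v.2
  rw [h3, map_zero, LinearMap.zero_apply]

include hf in
/-- If `a` is `L`-regular then `a` acts surjectively on `Hom(L, E)`. -/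
theorem smul_surjective_of_isSMulRegular (L : Type u) [AddCommGroup L] [Module R L]
    (X : Type u) [AddCommGroup X] [Module R X] (e : (L →ₗ[R] E) ≃ₗ[R] X) (a : R)
    (hreg : IsSMulRegular L a) (y : X) : ∃ x : X, a • x = y := by
  have hinjE := hf.isInjective
  obtain ⟨ψ, hψ⟩ := Module.Injective.extension_property R E L L (LinearMap.lsmul R L a)
    hreg (e.symm y)
  refine ⟨e ψ, ?_⟩
  rw [← map_smul]
  have h1 : a • ψ = e.symm y := by
    apply LinearMap.ext
    intro l
    rw [LinearMap.smul_apply, ← map_smul]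
    exact LinearMap.congr_fun hψ l
  rw [h1, LinearEquiv.apply_symm_apply]

variable (R) in
/-- A relative canonical pair: `A` is Cohen–Macaulay of dimension `d` and
`Hom(L, E) ≅ H^d_m(A)`. -/
structure Pair (A L : Type u) [AddCommGroup A] [Module R A] [AddCommGroup L] [Module R L]
    (d : ℕ) : Prop where
  dim : Module.supportDim R A = (d : WithBot ℕ∞)
  depth : LocCoh.idealDepth (maximalIdeal R) A = (d : ℕ∞)
  iso : Nonempty ((L →ₗ[R] E) ≃ₗ[R] LocCoh.H (maximalIdeal R) d A)

variable {E}

theorem Pair.nontrivial {A L : Type u} [AddCommGroup A] [Module R A] [AddCommGroup L] [Module R L]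
    {d : ℕ} (h : Pair R E A L d) : Nontrivial A := by
  rw [← Module.supportDim_ne_bot_iff_nontrivial R, h.dim]
  exact WithBot.coe_ne_bot

/-- Transport of `H` along a linear equivalence. -/
noncomputable def HEquiv {A A' : Type u} [AddCommGroup A] [Module R A] [AddCommGroup A']
    [Module R A'] (I : Ideal R) (i : ℕ) (e : A ≃ₗ[R] A') : LocCoh.H I i A ≃ₗ[R] LocCoh.H I i A' :=
  ((localCohomology I i).mapIso e.toModuleIso).toLinearEquiv

theorem Pair.congr {A L A' L' : Type u} [AddCommGroup A] [Module R A] [AddCommGroup L] [Module R L]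
    [AddCommGroup A'] [Module R A'] [AddCommGroup L'] [Module R L']
    {d : ℕ} (h : Pair R E A L d) (eA : A ≃ₗ[R] A') (eL : L ≃ₗ[R] L') : Pair R E A' L' d where
  dim := by rw [← Module.supportDim_eq_of_equiv eA, h.dim]
  depth := by rw [← Groth.Agent.Lib.Helper28.idealDepth_congr eA, h.depth]
  iso := by
    obtain ⟨e⟩ := h.iso
    exact ⟨((LinearEquiv.arrowCongr eL (LinearEquiv.refl R E)).symm.trans e).trans
      (HEquiv (maximalIdeal R) d eA)⟩

include hf in
theorem Pair.regular_iff {A L : Type u} [AddCommGroup A] [Module R A] [AddCommGroup L] [Module R L]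
    [Module.Finite R A] {d : ℕ} (h : Pair R E A L d) (a : R) (ha : a ∈ maximalIdeal R) :
    IsSMulRegular A a ↔ IsSMulRegular L a := by
  obtain ⟨e⟩ := h.iso
  constructor
  · intro hreg
    exact isSMulRegular_of_smul_surjective E f hf L _ e a
      (smul_H_surjective A d h.dim a ha hreg)
  · intro hreg
    have hs := smul_surjective_of_isSMulRegular E f hf L _ e a hreg
    exact isSMulRegular_of_H_quot_eq_zero A d h.dim h.depth a ha
      (H_quot_eq_zero A d h.dim a hs)

theorem nat_of_add_one_eq {x : WithBot ℕ∞} {d : ℕ} (h : x + 1 = (d : WithBot ℕ∞)) :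
    1 ≤ d ∧ x = ((d - 1 : ℕ) : WithBot ℕ∞) := by
  induction x using WithBot.recBotCoe with
  | bot => simp at h
  | coe y =>
    have h' : ((y + 1 : ℕ∞) : WithBot ℕ∞) = ((d : ℕ∞) : WithBot ℕ∞) := by exact_mod_cast h
    have h2 : y + 1 = (d : ℕ∞) := WithBot.coe_injective h'
    induction y using ENat.recTopCoe with
    | top => simp at h2
    | coe k =>
      have h4 : k + 1 = d := by exact_mod_cast h2
      refine ⟨by omega, ?_⟩
      have h5 : k = d - 1 := by omega
      rw [h5]
      rfl

theorem enat_of_add_one_eq {x : ℕ∞} {d : ℕ} (h : x + 1 = (d : ℕ∞)) :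
    1 ≤ d ∧ x = ((d - 1 : ℕ) : ℕ∞) := by
  induction x using ENat.recTopCoe with
  | top => simp at h
  | coe k =>
    have h4 : k + 1 = d := by exact_mod_cast h
    refine ⟨by omega, ?_⟩
    have h5 : k = d - 1 := by omega
    rw [h5]

include hf in
/-- Quotient of a pair by a regular element. -/
theorem Pair.quot {A L : Type u} [AddCommGroup A] [Module R A] [AddCommGroup L] [Module R L]
    [Module.Finite R A] [Module.Finite R L] {d : ℕ} (h : Pair R E A L d) (a : R)
    (ha : a ∈ maximalIdeal R) (hreg : IsSMulRegular A a) :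
    1 ≤ d ∧ Pair R E (QuotSMulTop a A) (QuotSMulTop a L) (d - 1) := by
  have hnt := h.nontrivial
  have hregL := (h.regular_iff f hf a ha).mp hreg
  have hIM : maximalIdeal R • (⊤ : Submodule R A) ≠ ⊤ :=
    Groth.Agent.Lib.Helper28.maximalIdeal_smul_top_ne_top
  have h1 := Module.supportDim_quotSMulTop_succ_eq_supportDim (M := A) hreg ha
  rw [h.dim] at h1
  obtain ⟨hd1, hdim'⟩ := nat_of_add_one_eq h1
  have h2 := Groth.Agent.Lib.Helper28.idealDepth_quotSMulTop_add_one (maximalIdeal R) A hIM a ha hreg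
  rw [h.depth] at h2
  obtain ⟨_, hdepth'⟩ := enat_of_add_one_eq h2
  refine ⟨hd1, ⟨hdim', hdepth', ?_⟩⟩
  obtain ⟨e⟩ := h.iso
  obtain ⟨d', rfl⟩ : ∃ d', d = d' + 1 := ⟨d - 1, by omega⟩
  rw [Nat.add_sub_cancel]
  -- the short exact sequence `0 → A → A → A/aA → 0`
  have hex := LinearMap.exact_lsmul_mkQ_smul_top (R := R) A a
  have hS := Sfg_shortExact (LinearMap.lsmul R A a) (a • (⊤ : Submodule R A)).mkQ hreg
    (Submodule.mkQ_surjective _) hex
  -- the left column: `Hom(L/aL, E) → Hom(L, E) → Hom(L, E)`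
  let α : (QuotSMulTop a L →ₗ[R] E) →ₗ[R] (L →ₗ[R] E) :=
    LinearMap.lcomp R E (a • (⊤ : Submodule R L)).mkQ
  let β : (L →ₗ[R] E) →ₗ[R] (L →ₗ[R] E) := LinearMap.lsmul R (L →ₗ[R] E) a
  have hα : Function.Injective α := by
    intro φ ψ hφψ
    apply LinearMap.ext
    intro w
    obtain ⟨v, rfl⟩ := Submodule.Quotient.mk_surjective _ w
    exact LinearMap.congr_fun hφψ v
  have hαβ : LinearMap.range α = LinearMap.ker β := by
    ext φ
    constructor
    · rintro ⟨ψ, rfl⟩
      rw [LinearMap.mem_ker]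
      apply LinearMap.ext
      intro v
      change a • ψ (Submodule.Quotient.mk v) = 0
      rw [← map_smul, ← Submodule.Quotient.mk_smul]
      have : (Submodule.Quotient.mk (a • v) : L ⧸ (a • (⊤ : Submodule R L))) = 0 := by
        rw [Submodule.Quotient.mk_eq_zero]
        exact Submodule.smul_mem_pointwise_smul _ _ _ Submodule.mem_top
      rw [this, map_zero]
    · intro hφ
      rw [LinearMap.mem_ker] at hφ
      have hle : a • (⊤ : Submodule R L) ≤ LinearMap.ker φ := by
        intro v hv
        obtain ⟨w, _, rfl⟩ := (Submodule.mem_smul_pointwise_iff_exists _ _ _).mp hv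
        rw [LinearMap.mem_ker, map_smul]
        exact LinearMap.congr_fun hφ w
      refine ⟨Submodule.liftQ _ φ hle, ?_⟩
      apply LinearMap.ext
      intro v
      rfl
  -- the right column: `H^{d'}(A/aA) → H^{d'+1}(A) → H^{d'+1}(A)`
  let α' : LocCoh.H (maximalIdeal R) d' (QuotSMulTop a A) →ₗ[R]
      LocCoh.H (maximalIdeal R) (d' + 1) A := (Hδ (maximalIdeal R) d' _ hS).hom
  let β' : LocCoh.H (maximalIdeal R) (d' + 1) A →ₗ[R] LocCoh.H (maximalIdeal R) (d' + 1) A :=
    LinearMap.lsmul R _ a
  have hvan : ∀ y : (localCohomology (maximalIdeal R) d').obj (ModuleCat.of R A), y = 0 :=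
    H_eq_zero_of_lt_depth (maximalIdeal R) (d' + 1) A hIM (le_of_eq h.depth.symm) d'
      (Nat.lt_succ_self d')
  have hα' : Function.Injective α' := by
    rw [← LinearMap.ker_eq_bot, LinearMap.ker_eq_bot']
    intro z hz
    obtain ⟨y, hy⟩ := H_exact₃ (maximalIdeal R) d' _ hS z hz
    rw [← hy, hvan y, map_zero]
  have hαβ' : LinearMap.range α' = LinearMap.ker β' := by
    ext x
    constructor
    · rintro ⟨z, rfl⟩
      rw [LinearMap.mem_ker]
      change a • (Hδ (maximalIdeal R) d' _ hS z) = 0
      rw [← H_map_lsmul (maximalIdeal R) (d' + 1) A a]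
      exact H_map_f_Hδ (maximalIdeal R) d' _ hS z
    · intro hx
      rw [LinearMap.mem_ker] at hx
      have hx' : (localCohomology (maximalIdeal R) (d' + 1)).map
          (ModuleCat.ofHom (LinearMap.lsmul R A a)) x = 0 := by
        rw [H_map_lsmul]
        exact hx
      obtain ⟨z, hz⟩ := H_exact₁ (maximalIdeal R) d' _ hS x hx'
      exact ⟨z, hz⟩
  exact nonempty_equiv_of_ker α β α' β' hα hα' hαβ hαβ' e e.toLinearMap e.injective
    (fun φ => by
      change e (a • φ) = a • e φ
      rw [map_smul])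

include hf in
/-- Regular sequences on a pair, and the quotient pair. -/
theorem Pair.list : ∀ (as : List R), (∀ a ∈ as, a ∈ maximalIdeal R) →
    ∀ (A L : Type u) [AddCommGroup A] [Module R A] [AddCommGroup L] [Module R L]
      [Module.Finite R A] [Module.Finite R L] (d : ℕ), Pair R E A L d →
      (RingTheory.Sequence.IsWeaklyRegular A as ↔ RingTheory.Sequence.IsWeaklyRegular L as) ∧
      (RingTheory.Sequence.IsWeaklyRegular A as → as.length ≤ d ∧
        Pair R E (A ⧸ (Ideal.ofList as • (⊤ : Submodule R A)))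
          (L ⧸ (Ideal.ofList as • (⊤ : Submodule R L))) (d - as.length)) := by
  intro as
  induction as with
  | nil =>
    intro _ A L _ _ _ _ _ _ d h
    refine ⟨⟨fun _ => RingTheory.Sequence.IsWeaklyRegular.nil R L,
      fun _ => RingTheory.Sequence.IsWeaklyRegular.nil R A⟩, fun _ => ⟨Nat.zero_le _, ?_⟩⟩
    have eA : A ≃ₗ[R] (A ⧸ (Ideal.ofList ([] : List R) • (⊤ : Submodule R A))) :=
      (Submodule.quotEquivOfEqBot _ (by rw [Ideal.ofList_nil, Submodule.bot_smul])).symm
    have eL : L ≃ₗ[R] (L ⧸ (Ideal.ofList ([] : List R) • (⊤ : Submodule R L))) :=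
      (Submodule.quotEquivOfEqBot _ (by rw [Ideal.ofList_nil, Submodule.bot_smul])).symm
    exact h.congr eA eL
  | cons a as ih =>
    intro hmem A L _ _ _ _ _ _ d h
    have ha := hmem a List.mem_cons_self
    have hmem' : ∀ b ∈ as, b ∈ maximalIdeal R := fun b hb => hmem b (List.mem_cons_of_mem _ hb)
    rw [RingTheory.Sequence.isWeaklyRegular_cons_iff, RingTheory.Sequence.isWeaklyRegular_cons_iff]
    constructor
    · constructor
      · rintro ⟨h1, h2⟩
        have h1L := (h.regular_iff f hf a ha).mp h1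
        obtain ⟨hd, hq⟩ := h.quot f hf a ha h1
        exact ⟨h1L, ((ih hmem' _ _ (d - 1) hq).1).mp h2⟩
      · rintro ⟨h1, h2⟩
        have h1A := (h.regular_iff f hf a ha).mpr h1
        obtain ⟨hd, hq⟩ := h.quot f hf a ha h1A
        exact ⟨h1A, ((ih hmem' _ _ (d - 1) hq).1).mpr h2⟩
    · rintro ⟨h1, h2⟩
      obtain ⟨hd, hq⟩ := h.quot f hf a ha h1
      obtain ⟨hlen, hp⟩ := (ih hmem' _ _ (d - 1) hq).2 h2
      have hlen' : (a :: as).length ≤ d := by
        rw [List.length_cons]
        omega
      refine ⟨hlen', ?_⟩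
      have hp' := hp.congr
        (Submodule.quotOfListConsSMulTopEquivQuotSMulTopInner A a as).symm
        (Submodule.quotOfListConsSMulTopEquivQuotSMulTopInner L a as).symm
      have hnum : d - 1 - as.length = d - (a :: as).length := by
        rw [List.length_cons]
        omega
      rw [← hnum]
      exact hp'

end Dual

end Groth.Agent.Lib.Helper8.CanonRel
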