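import Mathlib
import Groth.Agent.Lib.Helper8CanonRel
import Groth.Agent.Lib.Helper8Matlis
import Groth.Agent.Lib.Helper8LC2

/-! Endomorphisms of the dual module of a relative canonical pair with cyclic `A`:
`R → End(L)` is surjective with kernel `Ann A` (helper8). -/

set_option autoImplicit false
set_option linter.unusedSectionVars false
universe u
open CategoryTheory CategoryTheory.Limits Opposite CategoryTheory.Abelian IsLocalRing Pointwise

namespace Groth.Agent.Lib.Helper8.CanonRel
open Groth.Agent.Lib.Helper8.ExtLES Groth.Agent.Lib.Helper8.Bridge Groth.Agent.Lib.Helper8.LC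
  Groth.Agent.Lib.Helper8.ExtRep Groth.Agent.Lib.Helper8.LocDual Groth.Agent.Lib.Helper8.CanonDual
  Groth.Agent.Lib.Helper8.CanonCM

section Gen

variable {R : Type u} [CommRing R]

/-- If `a` is `L`-regular and `g(L) ⊆ aL` then `g = a g'`. -/
theorem exists_eq_smul_of_forall_mem {L : Type u} [AddCommGroup L] [Module R L] (a : R)
    (hregL : IsSMulRegular L a) (g : L →ₗ[R] L)
    (h : ∀ x : L, g x ∈ a • (⊤ : Submodule R L)) : ∃ g' : L →ₗ[R] L, g = a • g' := by
  have hex : ∀ x : L, ∃ y : L, a • y = g x := by
    intro x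
    obtain ⟨y, _, hy⟩ := (Submodule.mem_smul_pointwise_iff_exists _ _ _).mp (h x)
    exact ⟨y, hy⟩
  choose g' hg' using hex
  refine ⟨{ toFun := g', map_add' := ?_, map_smul' := ?_ }, ?_⟩
  · intro x y
    apply hregL
    show a • g' (x + y) = a • (g' x + g' y)
    rw [smul_add, hg', hg', hg', map_add]
  · intro r x
    apply hregL
    show a • g' (r • x) = a • ((RingHom.id R) r • g' x)
    rw [RingHom.id_apply, smul_comm a r, hg', hg', map_smul]
  · ext x
    show g x = a • g' x
    exact (hg' x).symm

variable [IsNoetherianRing R] [IsLocalRing R]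

/-- A finite module of support dimension `0` over a local ring is `m`-power torsion. -/
theorem torsionSub_eq_top_of_supportDim_zero (A : Type u) [AddCommGroup A] [Module R A]
    [Module.Finite R A] (hdim : Module.supportDim R A = ((0 : ℕ) : WithBot ℕ∞)) :
    DRing.torsionSub (maximalIdeal R) A = ⊤ := by
  have hfl : IsFiniteLength R A := by
    rw [Groth.Agent.Lib.Helper8.Matlis.isFiniteLength_iff_tors]
    intro P hP x
    have hnot : P ∉ Module.support R A := by
      intro hmem
      have h1 := Groth.Agent.Lib.Helper28.ringKrullDim_quotient_le_supportDim hmem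
      rw [hdim] at h1
      have hlt : P.asIdeal < maximalIdeal R :=
        lt_of_le_of_ne (IsLocalRing.le_maximalIdeal P.2.ne_top) hP
      have h2 := Groth.Agent.Lib.Helper28.ringKrullDim_quotient_succ_le_of_lt hlt
      have h3 : (0 : WithBot ℕ∞) ≤ ringKrullDim (R ⧸ maximalIdeal R) :=
        ringKrullDim_nonneg_of_nontrivial
      have h4 : (0 : WithBot ℕ∞) + 1 ≤ ((0 : ℕ) : WithBot ℕ∞) :=
        (add_le_add_left h3 1).trans (h2.trans h1)
      rw [zero_add] at h4
      have h5 : ((1 : ℕ) : WithBot ℕ∞) ≤ ((0 : ℕ) : WithBot ℕ∞) := by exact_mod_cast h4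
      have h6 : (1 : ℕ) ≤ 0 := by exact_mod_cast h5
      omega
    exact Module.notMem_support_iff'.mp hnot x
  obtain ⟨k, hk⟩ := Groth.Agent.Lib.Helper8.Matlis.exists_pow_smul_eq_zero_of_isFiniteLength A hfl
  rw [eq_top_iff]
  intro x _
  exact ⟨k, fun a ha => hk a ha x⟩

end Gen

section Dual

variable {R : Type u} [CommRing R] [IsNoetherianRing R] [IsLocalRing R]
  {E : Type u} [AddCommGroup E] [Module R E] (f : ResidueField R →ₗ[R] E)
  (hf : InjHull.IsInjectiveHull f)

include hf in
/-- An element killing all functionals `L → E` kills `L`. -/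
theorem smul_eq_zero_of_forall_functional {L : Type u} [AddCommGroup L] [Module R L] (l : L)
    (h : ∀ φ : L →ₗ[R] E, φ l = 0) : l = 0 := by
  by_contra hl
  let N : Submodule R L := Submodule.span R {l}
  have hlN : l ∈ N := Submodule.subset_span rfl
  have hnt : Nontrivial N := ⟨⟨⟨l, hlN⟩, 0, fun h0 => hl (congrArg Subtype.val h0)⟩⟩
  have hinjE := hf.isInjective
  have := nontrivial_hom E f hf N
  obtain ⟨φ₀, hφ₀⟩ := exists_ne (0 : N →ₗ[R] E)
  obtain ⟨φ, hφ⟩ := Module.Injective.extension_property R E N L N.subtype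
    Subtype.val_injective φ₀
  apply hφ₀
  apply LinearMap.ext
  intro v
  obtain ⟨r, hr⟩ := Submodule.mem_span_singleton.mp v.2
  have h2 : φ₀ v = φ v.1 := (LinearMap.congr_fun hφ v).symm
  rw [h2, ← hr, map_smul, h φ, smul_zero, LinearMap.zero_apply]

include hf in
/-- `Ann A ⊆ Ann L` for a pair. -/
theorem Pair.ann_le {A L : Type u} [AddCommGroup A] [Module R A] [AddCommGroup L] [Module R L]
    {d : ℕ} (h : Pair R E A L d) (r : R) (hr : ∀ y : A, r • y = 0) (l : L) : r • l = 0 := by
  obtain ⟨e⟩ := h.iso
  apply smul_eq_zero_of_forall_functional f hf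
  intro φ
  have h1 : r • e φ = 0 := by
    rw [← H_map_lsmul (maximalIdeal R) d A r]
    have h0 : ModuleCat.ofHom (LinearMap.lsmul R A r) = 0 := by
      apply ModuleCat.hom_ext
      apply LinearMap.ext
      intro y
      exact hr y
    rw [h0]
    exact H_map_zero (maximalIdeal R) d _
  have h2 : r • φ = 0 := by
    apply e.injective
    rw [map_smul, h1, map_zero]
  have h3 := LinearMap.congr_fun h2 l
  rw [LinearMap.smul_apply, LinearMap.zero_apply, ← map_smul] at h3
  exact h3

/-- The endomorphism statement. -/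
def EndStatement (A L : Type u) [AddCommGroup A] [Module R A] [AddCommGroup L] [Module R L] :
    Prop :=
  (∀ g : L →ₗ[R] L, ∃ r : R, g = r • (LinearMap.id : L →ₗ[R] L)) ∧
    (∀ r : R, (∀ l : L, r • l = 0) → ∀ y : A, r • y = 0)

include hf in
theorem Pair.end_base {A L : Type u} [AddCommGroup A] [Module R A] [AddCommGroup L] [Module R L]
    [Module.Finite R A] (h : Pair R E A L 0)
    (hcyc : ∃ x : A, ∀ y : A, ∃ r : R, y = r • x) : EndStatement (R := R) A L := by
  obtain ⟨e⟩ := h.iso
  have htop := torsionSub_eq_top_of_supportDim_zero A h.dim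
  let e' : (L →ₗ[R] E) ≃ₗ[R] A :=
    (e.trans (ΦEquiv (maximalIdeal R) (ModuleCat.of R A))).trans
      ((LinearEquiv.ofEq _ _ htop).trans Submodule.topEquiv)
  obtain ⟨x, hx⟩ := hcyc
  constructor
  · intro g
    obtain ⟨r, hr⟩ := hx (e' ((e'.symm x) ∘ₗ g))
    refine ⟨r, ?_⟩
    have hall : ∀ φ : L →ₗ[R] E, φ ∘ₗ g = r • φ := by
      intro φ
      obtain ⟨s, hs⟩ := hx (e' φ)
      have h1 : φ = s • e'.symm x := by
        rw [← map_smul, ← hs, LinearEquiv.symm_apply_apply]
      have h2 : (e'.symm x) ∘ₗ g = r • e'.symm x := by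
        apply e'.injective
        rw [hr, map_smul, LinearEquiv.apply_symm_apply]
      rw [h1, LinearMap.smul_comp, h2, smul_comm]
    apply LinearMap.ext
    intro l
    rw [← sub_eq_zero]
    apply smul_eq_zero_of_forall_functional f hf
    intro φ
    rw [map_sub, sub_eq_zero]
    have h3 := LinearMap.congr_fun (hall φ) l
    rw [LinearMap.comp_apply, LinearMap.smul_apply] at h3
    rw [h3, LinearMap.smul_apply, LinearMap.id_apply, map_smul]
  · intro r hr y
    obtain ⟨φ, rfl⟩ := e'.surjective y
    rw [← map_smul]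
    have h2 : r • φ = 0 := by
      apply LinearMap.ext
      intro l
      rw [LinearMap.smul_apply, ← map_smul, hr l, map_zero, LinearMap.zero_apply]
    rw [h2, map_zero]

include hf in
theorem Pair.end_step {A L : Type u} [AddCommGroup A] [Module R A] [AddCommGroup L] [Module R L]
    [Module.Finite R A] [Module.Finite R L] (d : ℕ) (h : Pair R E A L (d + 1))
    (hcyc : ∃ x : A, ∀ y : A, ∃ r : R, y = r • x)
    (ih : ∀ (A' L' : Type u) [AddCommGroup A'] [Module R A'] [AddCommGroup L'] [Module R L']
      [Module.Finite R A'] [Module.Finite R L'], Pair R E A' L' d →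
      (∃ x : A', ∀ y : A', ∃ r : R, y = r • x) → EndStatement (R := R) A' L') :
    EndStatement (R := R) A L := by
  have hnt := h.nontrivial
  have hIM : maximalIdeal R • (⊤ : Submodule R A) ≠ ⊤ :=
    Groth.Agent.Lib.Helper28.maximalIdeal_smul_top_ne_top
  have h1 : (1 : ℕ∞) ≤ LocCoh.idealDepth (maximalIdeal R) A := by
    rw [h.depth]
    exact_mod_cast Nat.succ_le_succ (Nat.zero_le d)
  obtain ⟨a, ha, hreg⟩ := (Groth.Agent.Lib.Helper28.one_le_idealDepth_iff hIM).mp h1
  have hregL := (h.regular_iff f hf a ha).mp hreg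
  obtain ⟨_, hq⟩ := h.quot f hf a ha hreg
  rw [Nat.add_sub_cancel] at hq
  obtain ⟨x, hx⟩ := hcyc
  have hcyc' : ∃ x' : QuotSMulTop a A, ∀ y : QuotSMulTop a A, ∃ r : R, y = r • x' := by
    refine ⟨Submodule.Quotient.mk x, fun y => ?_⟩
    obtain ⟨v, rfl⟩ := Submodule.Quotient.mk_surjective _ y
    obtain ⟨r, hr⟩ := hx v
    exact ⟨r, by rw [hr]; rfl⟩
  obtain ⟨ih1, ih2⟩ := ih (QuotSMulTop a A) (QuotSMulTop a L) hq hcyc'
  have hjac : maximalIdeal R ≤ (⊥ : Ideal R).jacobson := IsLocalRing.maximalIdeal_le_jacobson _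
  constructor
  · -- surjectivity via Nakayama
    let T : Submodule R (L →ₗ[R] L) := Submodule.span R {(LinearMap.id : L →ₗ[R] L)}
    have hle : (⊤ : Submodule R (L →ₗ[R] L)) ≤ T ⊔ maximalIdeal R • ⊤ := by
      intro g _
      obtain ⟨r, hr⟩ := ih1 (QuotSMulTop.map a g)
      have hmem : ∀ l : L, (g - r • (LinearMap.id : L →ₗ[R] L)) l ∈ a • (⊤ : Submodule R L) := by
        intro l
        have h2 := LinearMap.congr_fun hr (Submodule.Quotient.mk l)
        rw [QuotSMulTop.map_apply_mk, LinearMap.smul_apply, LinearMap.id_apply,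
          ← Submodule.Quotient.mk_smul] at h2
        rw [LinearMap.sub_apply, LinearMap.smul_apply, LinearMap.id_apply]
        exact (Submodule.Quotient.eq _).mp h2
      obtain ⟨g', hg'⟩ := exists_eq_smul_of_forall_mem a hregL _ hmem
      have h3 : g = r • (LinearMap.id : L →ₗ[R] L) + a • g' := by
        rw [← hg']
        abel
      rw [h3]
      refine Submodule.add_mem_sup ?_ ?_
      · exact Submodule.smul_mem _ _ (Submodule.subset_span rfl)
      · exact Submodule.smul_mem_smul ha Submodule.mem_top
    have hfin : (⊤ : Submodule R (L →ₗ[R] L)).FG := Module.Finite.fg_top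
    have hT := Submodule.le_of_le_smul_of_le_jacobson_bot hfin hjac hle
    intro g
    obtain ⟨r, hr⟩ := Submodule.mem_span_singleton.mp (hT (Submodule.mem_top : g ∈ ⊤))
    exact ⟨r, hr.symm⟩
  · -- the kernel via Nakayama
    let N : Ideal R := Module.annihilator R L
    let J : Ideal R := Module.annihilator R A
    have hJN : J ≤ N := by
      intro r hr
      rw [Module.mem_annihilator] at hr ⊢
      exact fun l => h.ann_le f hf r hr l
    have hle : N ≤ J ⊔ maximalIdeal R • N := by
      intro r hr
      have hrL : ∀ l : L, r • l = 0 := Module.mem_annihilator.mp hr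
      have hrq : ∀ w : QuotSMulTop a L, r • w = 0 := by
        intro w
        obtain ⟨v, rfl⟩ := Submodule.Quotient.mk_surjective _ w
        rw [← Submodule.Quotient.mk_smul, hrL v]
        rfl
      have h2 := ih2 r hrq (Submodule.Quotient.mk x)
      rw [← Submodule.Quotient.mk_smul] at h2
      have h3 : r • x ∈ a • (⊤ : Submodule R A) := (Submodule.Quotient.mk_eq_zero _).mp h2
      obtain ⟨y, _, hy⟩ := (Submodule.mem_smul_pointwise_iff_exists _ _ _).mp h3
      obtain ⟨s, hs⟩ := hx y
      have h4 : (r - a * s) ∈ J := by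
        rw [Module.mem_annihilator]
        intro z
        obtain ⟨t, ht⟩ := hx z
        rw [ht, smul_comm, sub_smul, mul_smul, ← hs, hy, sub_self, smul_zero]
      have h5 : a * s ∈ N := by
        have h6 : a * s = r - (r - a * s) := by ring
        rw [h6]
        exact N.sub_mem hr (hJN h4)
      have h7 : s ∈ N := by
        rw [Module.mem_annihilator]
        intro l
        apply hregL
        show a • s • l = a • (0 : L)
        rw [smul_zero, ← mul_smul]
        exact Module.mem_annihilator.mp h5 l
      have h8 : r = (r - a * s) + a • s := by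
        rw [smul_eq_mul]
        ring
      rw [h8]
      exact Submodule.add_mem_sup h4 (Submodule.smul_mem_smul ha h7)
    have hfin : (N : Submodule R R).FG := IsNoetherian.noetherian N
    have hNJ : N ≤ J := Submodule.le_of_le_smul_of_le_jacobson_bot hfin hjac hle
    intro r hr y
    have : r ∈ J := hNJ (Module.mem_annihilator.mpr hr)
    exact Module.mem_annihilator.mp this y

include hf in
/-- For a relative canonical pair with cyclic `A`: every endomorphism of `L` is a homothety and
`Ann L ⊆ Ann A`. -/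
theorem Pair.end : ∀ (d : ℕ) (A L : Type u) [AddCommGroup A] [Module R A] [AddCommGroup L]
    [Module R L] [Module.Finite R A] [Module.Finite R L], Pair R E A L d →
    (∃ x : A, ∀ y : A, ∃ r : R, y = r • x) → EndStatement (R := R) A L := by
  intro d
  induction d with
  | zero =>
    intro A L _ _ _ _ _ _ h hcyc
    exact h.end_base f hf hcyc
  | succ d ih =>
    intro A L _ _ _ _ _ _ h hcyc
    exact h.end_step f hf d hcyc (fun A' L' _ _ _ _ _ _ h' hc' => ih A' L' h' hc')

end Dual

end Groth.Agent.Lib.Helper8.CanonRel
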