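import Mathlib
import Groth.Agent.Lib.Helper5GorEquidim
import Groth.Agent.Lib.Helper28Depth
import Groth.Agent.Lib.Helper28DepthLoc

/-!
# Homogeneous Cohen–Macaulay quotients of polynomial rings; basic double links (helper5)

* `height_eq_height_map_add_of_mem_minimalPrimes`: `R`, `R/c` CM rings, `Q` minimal over `c`,
  `Q ≤ m` prime: `ht m = ht(m/c) + ht Q`.
* `height_eq_of_mem_minimalPrimes_cm`, `height_eq_height_of_mem_minimalPrimes_cm`: homogeneous
  ideals of a polynomial ring with CM quotient are equidimensional.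
* `height_eq_height_map_add_height_of_le`: `ht P = ht(P/c) + ht c`.
* `height_map_eq_one_of_mem_associatedPrimes`: `R/J` CM, `f` regular mod `J`,
  `P ∈ Ass(R/(J+(f)))` implies `ht(P/J) = 1`.
* `unmixed_basicDoubleLink_iff`.
-/

set_option autoImplicit false
universe u

namespace Groth.Agent.Lib.Helper5.CMEquidim

open IsLocalRing Groth.Agent.Lib.Helper5.GorUnmixed

section General

variable {R : Type u} [CommRing R]

theorem height_eq_height_map_add_of_mem_minimalPrimes [hR : LocCoh.IsCohenMacaulayRing R]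
    (c : Ideal R) [hB : LocCoh.IsCohenMacaulayRing (R ⧸ c)] {Q : Ideal R}
    (hQ : Q ∈ c.minimalPrimes) (m : Ideal R) [hm : m.IsPrime] (hQm : Q ≤ m) :
    m.height = (m.map (Ideal.Quotient.mk c)).height + Q.height := by
  have hQp : Q.IsPrime := hQ.1.1
  have hcQ : c ≤ Q := hQ.1.2
  obtain ⟨Q', hQ'min, hQ'eq⟩ := exists_of_mem_minimalPrimes c hQ
  have hQ'p : Q'.IsPrime := hQ'min.1.1
  have hmapQ : Q.map (Ideal.Quotient.mk c) = Q' := by
    rw [← hQ'eq, Ideal.map_comap_of_surjective _ Ideal.Quotient.mk_surjective]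
  have h1 := height_eq_height_map_add_height Q m hQm
  have hQ'm : Q' ≤ m.map (Ideal.Quotient.mk c) := by
    rw [← hmapQ]
    exact Ideal.map_mono hQm
  have hm' : (m.map (Ideal.Quotient.mk c)).IsPrime :=
    Ideal.map_isPrime_of_surjective Ideal.Quotient.mk_surjective
      (by rw [Ideal.mk_ker]; exact hcQ.trans hQm)
  have h2 := height_eq_height_map_add_height Q' (m.map (Ideal.Quotient.mk c)) hQ'm
  have h0 : Q'.height = 0 := Ideal.height_eq_zero_iff.mpr hQ'min
  have hT := height_map_map_eq' c Q m Q' hmapQ hcQ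
  rw [h0, add_zero, hT] at h2
  rw [h2]
  exact h1

theorem mem_sup_span_singleton_iff (J : Ideal R) (f r : R) :
    r ∈ J ⊔ Ideal.span {f} ↔
      ∃ g : R, Ideal.Quotient.mk J r = Ideal.Quotient.mk J f * Ideal.Quotient.mk J g := by
  rw [Submodule.mem_sup]
  constructor
  · rintro ⟨a, ha, b, hb, rfl⟩
    obtain ⟨g, rfl⟩ := Ideal.mem_span_singleton'.mp hb
    refine ⟨g, ?_⟩
    rw [map_add, Ideal.Quotient.eq_zero_iff_mem.mpr ha, zero_add, map_mul, mul_comm]
  · rintro ⟨g, hg⟩
    rw [← map_mul, Ideal.Quotient.eq] at hg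
    exact ⟨r - f * g, hg, f * g, Ideal.mul_mem_right _ _ (Ideal.mem_span_singleton_self f),
      sub_add_cancel _ _⟩

/-- `R/J` CM, `f` a nonzerodivisor mod `J`, `P ∈ Ass(R/(J+(f)))`: then `ht(P/J) = 1`. -/
theorem height_map_eq_one_of_mem_associatedPrimes [IsNoetherianRing R] (J : Ideal R)
    [hB : LocCoh.IsCohenMacaulayRing (R ⧸ J)] (f : R) (hJf : J.colon {f} = J) {P : Ideal R}
    (hP : P ∈ associatedPrimes R (R ⧸ (J ⊔ Ideal.span {f}))) :
    (P.map (Ideal.Quotient.mk J)).height = 1 := by
  rw [AssociatedPrimes.mem_iff, isAssociatedPrime_iff] at hP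
  obtain ⟨hPp, y, hy⟩ := hP
  obtain ⟨y, rfl⟩ := Ideal.Quotient.mk_surjective y
  have hmemP : ∀ r : R, r ∈ P ↔ r * y ∈ J ⊔ Ideal.span {f} := by
    intro r
    rw [hy, Submodule.mem_colon_singleton, Submodule.mem_bot]
    have h1 : r • (Ideal.Quotient.mk (J ⊔ Ideal.span {f}) y) =
        Ideal.Quotient.mk (J ⊔ Ideal.span {f}) (r * y) := rfl
    rw [h1, Ideal.Quotient.eq_zero_iff_mem]
  have hJfP : J ⊔ Ideal.span {f} ≤ P := fun r hr => (hmemP r).mpr (Ideal.mul_mem_right _ _ hr)
  have hJP : J ≤ P := le_sup_left.trans hJfP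
  have hfP : f ∈ P := hJfP (Ideal.mem_sup_right (Ideal.mem_span_singleton_self f))
  obtain ⟨P', hP'def⟩ : ∃ P' : Ideal (R ⧸ J), P' = P.map (Ideal.Quotient.mk J) := ⟨_, rfl⟩
  rw [← hP'def]
  have hP'p : P'.IsPrime := by
    rw [hP'def]
    exact Ideal.map_isPrime_of_surjective Ideal.Quotient.mk_surjective (by rwa [Ideal.mk_ker])
  have hcomap : P'.comap (Ideal.Quotient.mk J) = P := by
    rw [hP'def, Ideal.comap_map_of_surjective _ Ideal.Quotient.mk_surjective,
      ← RingHom.ker_eq_comap_bot, Ideal.mk_ker, sup_eq_left.mpr hJP]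
  have hA : LocCoh.IsCohenMacaulayLocalRing (Localization.AtPrime P') :=
    hB.isCohenMacaulayLocalRing_localization P'
  have hfP' : Ideal.Quotient.mk J f ∈ P' := by
    rw [hP'def]
    exact Ideal.mem_map_of_mem _ hfP
  obtain ⟨x, hxdef⟩ : ∃ x : Localization.AtPrime P',
      x = algebraMap (R ⧸ J) (Localization.AtPrime P') (Ideal.Quotient.mk J f) := ⟨_, rfl⟩
  have hxm : x ∈ maximalIdeal (Localization.AtPrime P') := by
    rw [hxdef, ← Localization.AtPrime.map_eq_maximalIdeal]
    exact Ideal.mem_map_of_mem _ hfP'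
  have hfreg : ∀ b : R ⧸ J, Ideal.Quotient.mk J f * b = 0 → b = 0 := by
    intro b hb
    obtain ⟨r, rfl⟩ := Ideal.Quotient.mk_surjective b
    rw [← map_mul, Ideal.Quotient.eq_zero_iff_mem] at hb
    rw [Ideal.Quotient.eq_zero_iff_mem, ← hJf, Submodule.mem_colon_singleton, smul_eq_mul,
      mul_comm]
    exact hb
  have hreg : IsSMulRegular (Localization.AtPrime P') x := by
    intro a a' haa'
    have hd : x * (a - a') = 0 := by
      rw [mul_sub, sub_eq_zero]
      exact haa'
    rw [← sub_eq_zero]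
    obtain ⟨⟨b, s⟩, hb⟩ := IsLocalization.surj P'.primeCompl (a - a')
    simp only at hb
    have h0 : algebraMap (R ⧸ J) (Localization.AtPrime P') (Ideal.Quotient.mk J f * b) = 0 := by
      rw [map_mul, ← hb, ← hxdef, ← mul_assoc, hd, zero_mul]
    obtain ⟨t, ht⟩ := (IsLocalization.map_eq_zero_iff P'.primeCompl
      (Localization.AtPrime P') _).mp h0
    have htb : (t : R ⧸ J) * b = 0 := hfreg _ (by rw [← ht]; ring)
    have hb0 : algebraMap (R ⧸ J) (Localization.AtPrime P') b = 0 :=
      (IsLocalization.map_eq_zero_iff P'.primeCompl (Localization.AtPrime P') b).mpr ⟨t, htb⟩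
    rw [hb0] at hb
    exact (IsLocalization.map_units (Localization.AtPrime P') s).mul_left_eq_zero.mp hb
  have hkill : ∀ z ∈ maximalIdeal (Localization.AtPrime P'), ∃ w : Localization.AtPrime P',
      z * algebraMap (R ⧸ J) (Localization.AtPrime P') (Ideal.Quotient.mk J y) = x * w := by
    have hle : P'.map (algebraMap (R ⧸ J) (Localization.AtPrime P')) ≤
        (Ideal.span {x}).colon
          {algebraMap (R ⧸ J) (Localization.AtPrime P') (Ideal.Quotient.mk J y)} := by
      rw [Ideal.map_le_iff_le_comap]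
      intro b hb
      rw [Ideal.mem_comap, Submodule.mem_colon_singleton, smul_eq_mul]
      obtain ⟨r, rfl⟩ := Ideal.Quotient.mk_surjective b
      have hr : r ∈ P := by
        rw [← hcomap]
        exact hb
      obtain ⟨g, hg⟩ := (mem_sup_span_singleton_iff J f _).mp ((hmemP r).mp hr)
      rw [Ideal.mem_span_singleton']
      refine ⟨algebraMap (R ⧸ J) (Localization.AtPrime P') (Ideal.Quotient.mk J g), ?_⟩
      have h5 : Ideal.Quotient.mk J r * Ideal.Quotient.mk J y =
          Ideal.Quotient.mk J f * Ideal.Quotient.mk J g := by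
        rw [← map_mul]
        exact hg
      calc algebraMap (R ⧸ J) (Localization.AtPrime P') (Ideal.Quotient.mk J g) * x
          = algebraMap (R ⧸ J) (Localization.AtPrime P')
              (Ideal.Quotient.mk J f * Ideal.Quotient.mk J g) := by
            rw [hxdef, map_mul, mul_comm]
        _ = algebraMap (R ⧸ J) (Localization.AtPrime P')
              (Ideal.Quotient.mk J r * Ideal.Quotient.mk J y) := by rw [h5]
        _ = _ := map_mul _ _ _
    intro z hz
    rw [← Localization.AtPrime.map_eq_maximalIdeal] at hz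
    have := hle hz
    rw [Submodule.mem_colon_singleton, smul_eq_mul, Ideal.mem_span_singleton'] at this
    obtain ⟨w, hw⟩ := this
    exact ⟨w, by rw [← hw, mul_comm]⟩
  have hnot : ¬ ∃ w : Localization.AtPrime P',
      algebraMap (R ⧸ J) (Localization.AtPrime P') (Ideal.Quotient.mk J y) = x * w := by
    rintro ⟨w, hw⟩
    obtain ⟨⟨b, s⟩, hb⟩ := IsLocalization.surj P'.primeCompl w
    simp only at hb
    have h0 : algebraMap (R ⧸ J) (Localization.AtPrime P')
        ((s : R ⧸ J) * Ideal.Quotient.mk J y - Ideal.Quotient.mk J f * b) = 0 := by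
      rw [map_sub, map_mul, map_mul, hw, ← hb, ← hxdef]
      ring
    obtain ⟨t, ht⟩ := (IsLocalization.map_eq_zero_iff P'.primeCompl
      (Localization.AtPrime P') _).mp h0
    obtain ⟨r, hr⟩ := Ideal.Quotient.mk_surjective ((t : R ⧸ J) * (s : R ⧸ J))
    obtain ⟨g, hg⟩ := Ideal.Quotient.mk_surjective ((t : R ⧸ J) * b)
    have hrP : r ∉ P := by
      rw [← hcomap, Ideal.mem_comap, hr]
      exact P'.primeCompl.mul_mem t.2 s.2
    apply hrP
    rw [hmemP, mem_sup_span_singleton_iff]
    refine ⟨g, ?_⟩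
    rw [map_mul, hr, hg]
    rw [mul_sub, sub_eq_zero] at ht
    rw [mul_assoc, ht]
    ring
  have hIM : maximalIdeal (Localization.AtPrime P') •
      (⊤ : Submodule (Localization.AtPrime P') (Localization.AtPrime P')) ≠ ⊤ :=
    Groth.Agent.Lib.Helper28.maximalIdeal_smul_top_ne_top
  have hdepthQ : LocCoh.idealDepth (maximalIdeal (Localization.AtPrime P'))
      (QuotSMulTop x (Localization.AtPrime P')) = 0 := by
    apply Groth.Agent.Lib.Helper28.idealDepth_eq_zero_of_forall_not_isSMulRegular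
      (Groth.Agent.Lib.Helper28.smul_top_quotSMulTop_ne_top hxm hIM)
    intro z hz hzreg
    obtain ⟨w, hw⟩ := hkill z hz
    have hη : z • (Submodule.Quotient.mk
        (algebraMap (R ⧸ J) (Localization.AtPrime P') (Ideal.Quotient.mk J y)) :
        QuotSMulTop x (Localization.AtPrime P')) = z • 0 := by
      rw [smul_zero, ← Submodule.Quotient.mk_smul, Submodule.Quotient.mk_eq_zero, smul_eq_mul, hw]
      exact Submodule.smul_mem_pointwise_smul w x ⊤ trivial
    have h2 := hzreg hη
    rw [Submodule.Quotient.mk_eq_zero, Submodule.mem_smul_pointwise_iff_exists] at h2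
    obtain ⟨w', -, hw'⟩ := h2
    exact hnot ⟨w', hw'.symm⟩
  have hdepth : LocCoh.idealDepth (maximalIdeal (Localization.AtPrime P'))
      (Localization.AtPrime P') = 1 := by
    have := Groth.Agent.Lib.Helper28.idealDepth_quotSMulTop_add_one
      (maximalIdeal (Localization.AtPrime P')) (Localization.AtPrime P') hIM x hxm hreg
    rw [hdepthQ, zero_add] at this
    exact this.symm
  have hcm := hA.supportDim_eq_depth
  rw [Module.supportDim_self_eq_ringKrullDim,
    IsLocalization.AtPrime.ringKrullDim_eq_height P'] at hcm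
  have h3 : P'.height = LocCoh.depth (Localization.AtPrime P') (Localization.AtPrime P') :=
    WithBot.coe_injective hcm
  rw [h3]
  exact hdepth

end General

section Poly

variable (K : Type u) [Field K] (n : ℕ)

/-- All minimal primes over a homogeneous ideal with CM quotient have the same height. -/
theorem height_eq_of_mem_minimalPrimes_cm (c : Ideal (MvPolynomial (Fin n) K))
    (hc : c.IsHomogeneous (GrSyz.stdGr K (Fin n)))
    [LocCoh.IsCohenMacaulayRing (MvPolynomial (Fin n) K ⧸ c)]
    {P Q : Ideal (MvPolynomial (Fin n) K)} (hP : P ∈ c.minimalPrimes)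
    (hQ : Q ∈ c.minimalPrimes) : P.height = Q.height := by
  have hsurj : Function.Surjective
      (MvPolynomial.constantCoeff : MvPolynomial (Fin n) K →+* K) :=
    fun a => ⟨MvPolynomial.C a, MvPolynomial.constantCoeff_C _ a⟩
  obtain ⟨m, hmdef⟩ : ∃ m : Ideal (MvPolynomial (Fin n) K),
      m = RingHom.ker (MvPolynomial.constantCoeff : MvPolynomial (Fin n) K →+* K) := ⟨_, rfl⟩
  have hmmax : m.IsMaximal := by
    rw [hmdef]
    exact RingHom.ker_isMaximal_of_surjective _ hsurj
  have hmp : m.IsPrime := hmmax.isPrime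
  have hR : LocCoh.IsCohenMacaulayRing (MvPolynomial (Fin n) K) :=
    @Groth.Agent.Lib.Helper28.isCohenMacaulayRing_mvPolynomial_fin K _
      (Groth.Agent.Lib.Helper28.isCohenMacaulayRing_of_field K) n
  have hle : ∀ P ∈ c.minimalPrimes, P ≤ m := by
    intro P hP
    rw [hmdef]
    exact le_ker_constantCoeff_of_isHomogeneous K n P
      (isHomogeneous_of_mem_minimalPrimes K n c hc hP) hP.1.1.ne_top
  have h1 := height_eq_height_map_add_of_mem_minimalPrimes c hP m (hle P hP)
  have h2 := height_eq_height_map_add_of_mem_minimalPrimes c hQ m (hle Q hQ)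
  have hcm : c ≤ m := hP.1.2.trans (hle P hP)
  have hm' : (m.map (Ideal.Quotient.mk c)).IsPrime :=
    Ideal.map_isPrime_of_surjective Ideal.Quotient.mk_surjective
      (by rw [Ideal.mk_ker]; exact hcm)
  have hfin : (m.map (Ideal.Quotient.mk c)).height ≠ ⊤ := Ideal.height_ne_top_of_isPrime
  rw [h1] at h2
  exact WithTop.add_left_cancel hfin h2

theorem height_eq_height_of_mem_minimalPrimes_cm (c : Ideal (MvPolynomial (Fin n) K))
    (hc : c.IsHomogeneous (GrSyz.stdGr K (Fin n)))
    [LocCoh.IsCohenMacaulayRing (MvPolynomial (Fin n) K ⧸ c)]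
    {P : Ideal (MvPolynomial (Fin n) K)} (hP : P ∈ c.minimalPrimes) : P.height = c.height := by
  apply le_antisymm
  · rw [Ideal.height_eq_inf_minimalPrimes c]
    exact le_iInf₂ (fun Q hQ => (height_eq_of_mem_minimalPrimes_cm K n c hc hP hQ).le)
  · exact Ideal.height_mono hP.1.2

/-- `ht P = ht(P/c) + ht c` for a prime `P ⊇ c`, `c` homogeneous with CM quotient. -/
theorem height_eq_height_map_add_height_of_le (c : Ideal (MvPolynomial (Fin n) K))
    (hc : c.IsHomogeneous (GrSyz.stdGr K (Fin n)))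
    [LocCoh.IsCohenMacaulayRing (MvPolynomial (Fin n) K ⧸ c)]
    (P : Ideal (MvPolynomial (Fin n) K)) [hP : P.IsPrime] (hcP : c ≤ P) :
    P.height = (P.map (Ideal.Quotient.mk c)).height + c.height := by
  have hR : LocCoh.IsCohenMacaulayRing (MvPolynomial (Fin n) K) :=
    @Groth.Agent.Lib.Helper28.isCohenMacaulayRing_mvPolynomial_fin K _
      (Groth.Agent.Lib.Helper28.isCohenMacaulayRing_of_field K) n
  obtain ⟨Q, hQ, hQP⟩ := Ideal.exists_minimalPrimes_le hcP
  rw [height_eq_height_map_add_of_mem_minimalPrimes c hQ P hQP,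
    height_eq_height_of_mem_minimalPrimes_cm K n c hc hQ]

/-- Basic double links preserve unmixedness (both directions). -/
theorem unmixed_basicDoubleLink_iff (h : ℕ) (J I : Ideal (MvPolynomial (Fin n) K))
    (hJ : J.IsHomogeneous (GrSyz.stdGr K (Fin n))) (hJI : J ≤ I) (hJh : J.height = h)
    [LocCoh.IsCohenMacaulayRing (MvPolynomial (Fin n) K ⧸ J)]
    (f : MvPolynomial (Fin n) K) (hJf : J.colon {f} = J) :
    (∀ p ∈ associatedPrimes (MvPolynomial (Fin n) K) (MvPolynomial (Fin n) K ⧸ I),
        p.height = h + 1) ↔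
      ∀ p ∈ associatedPrimes (MvPolynomial (Fin n) K)
        (MvPolynomial (Fin n) K ⧸ (J ⊔ Ideal.span {f} * I)), p.height = h + 1 := by
  have hN : IsNoetherianRing (MvPolynomial (Fin n) K) := inferInstance
  -- the exact sequence `0 → R/I → R/Ĩ → R/(J+(f)) → 0`
  have hle1 : I ≤ Submodule.comap (LinearMap.mulLeft (MvPolynomial (Fin n) K) f)
      (J ⊔ Ideal.span {f} * I) := by
    intro i hi
    rw [Submodule.mem_comap, LinearMap.mulLeft_apply]
    exact Ideal.mem_sup_right (Ideal.mul_mem_mul (Ideal.mem_span_singleton_self f) hi)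
  have hle2 : (J ⊔ Ideal.span {f} * I) ≤ Submodule.comap
      (LinearMap.id : MvPolynomial (Fin n) K →ₗ[MvPolynomial (Fin n) K] _)
      (J ⊔ Ideal.span {f}) := by
    intro r hr
    rw [Submodule.mem_comap, LinearMap.id_apply]
    exact (sup_le_sup_left Ideal.mul_le_left J) hr
  obtain ⟨φ, hφ⟩ : ∃ φ : (MvPolynomial (Fin n) K ⧸ I) →ₗ[MvPolynomial (Fin n) K]
      (MvPolynomial (Fin n) K ⧸ (J ⊔ Ideal.span {f} * I)),
      φ = Submodule.mapQ I (J ⊔ Ideal.span {f} * I)
        (LinearMap.mulLeft (MvPolynomial (Fin n) K) f) hle1 := ⟨_, rfl⟩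
  obtain ⟨ψ, hψ⟩ : ∃ ψ : (MvPolynomial (Fin n) K ⧸ (J ⊔ Ideal.span {f} * I)) →ₗ[MvPolynomial (Fin n) K]
      (MvPolynomial (Fin n) K ⧸ (J ⊔ Ideal.span {f})),
      ψ = Submodule.mapQ (J ⊔ Ideal.span {f} * I) (J ⊔ Ideal.span {f}) LinearMap.id hle2 :=
    ⟨_, rfl⟩
  have hφmk : ∀ r, φ (Submodule.Quotient.mk r) = Submodule.Quotient.mk (f * r) := by
    intro r
    rw [hφ, Submodule.mapQ_apply, LinearMap.mulLeft_apply]
  have hψmk : ∀ r, ψ (Submodule.Quotient.mk r) = Submodule.Quotient.mk r := by
    intro r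
    rw [hψ, Submodule.mapQ_apply, LinearMap.id_apply]
  have hφinj : Function.Injective φ := by
    rw [← LinearMap.ker_eq_bot, Submodule.eq_bot_iff]
    intro z hz
    obtain ⟨r, rfl⟩ := Submodule.Quotient.mk_surjective _ z
    rw [LinearMap.mem_ker, hφmk, Submodule.Quotient.mk_eq_zero, Submodule.mem_sup] at hz
    obtain ⟨j, hj, b, hb, hjb⟩ := hz
    obtain ⟨i', hi', rfl⟩ := Ideal.mem_span_singleton_mul.mp hb
    rw [Submodule.Quotient.mk_eq_zero]
    have h1 : r - i' ∈ J := by
      rw [← hJf, Submodule.mem_colon_singleton, smul_eq_mul]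
      have : (r - i') * f = j := by
        rw [← eq_sub_iff_add_eq] at hjb
        rw [hjb]
        ring
      rw [this]
      exact hj
    have := I.add_mem (hJI h1) hi'
    rwa [sub_add_cancel] at this
  have hex : Function.Exact φ ψ := by
    intro z
    obtain ⟨s, rfl⟩ := Submodule.Quotient.mk_surjective _ z
    rw [hψmk, Submodule.Quotient.mk_eq_zero]
    constructor
    · intro hs
      rw [Submodule.mem_sup] at hs
      obtain ⟨j, hj, b, hb, rfl⟩ := hs
      obtain ⟨g, rfl⟩ := Ideal.mem_span_singleton'.mp hb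
      refine ⟨Submodule.Quotient.mk g, ?_⟩
      rw [hφmk, Submodule.Quotient.eq]
      have : f * g - (j + g * f) = -j := by ring
      rw [this]
      exact Ideal.mem_sup_left (J.neg_mem hj)
    · rintro ⟨w, hw⟩
      obtain ⟨g, rfl⟩ := Submodule.Quotient.mk_surjective _ w
      rw [hφmk, Submodule.Quotient.eq] at hw
      have h1 : f * g - s ∈ J ⊔ Ideal.span {f} := (sup_le_sup_left Ideal.mul_le_left J) hw
      have h2 : f * g ∈ J ⊔ Ideal.span {f} :=
        Ideal.mem_sup_right (Ideal.mul_mem_right _ _ (Ideal.mem_span_singleton_self f))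
      have := (J ⊔ Ideal.span {f}).sub_mem h2 h1
      rwa [sub_sub_cancel] at this
  have hB : ∀ P ∈ associatedPrimes (MvPolynomial (Fin n) K)
      (MvPolynomial (Fin n) K ⧸ (J ⊔ Ideal.span {f})), P.height = h + 1 := by
    intro P hP
    have hPp : P.IsPrime := hP.isPrime
    have hJP : J ≤ P := by
      have h1 := hP.annihilator_le
      rw [Submodule.annihilator_top, Ideal.annihilator_quotient] at h1
      exact le_sup_left.trans h1
    rw [height_eq_height_map_add_height_of_le K n J hJ P hJP,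
      height_map_eq_one_of_mem_associatedPrimes J f hJf hP, hJh, add_comm]
  constructor
  · intro hI P hP
    rcases associatedPrimes.subset_union_of_exact hφinj hex hP with h1 | h1
    · exact hI P h1
    · exact hB P h1
  · intro hI P hP
    exact hI P (associatedPrimes.subset_of_injective hφinj hP)

end Poly

end Groth.Agent.Lib.Helper5.CMEquidim
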