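import Mathlib
import Groth.Agent.Lib.Helper29GorLink
import Groth.Agent.Lib.Helper28DepthBC
import Groth.Agent.Lib.Helper5CMEquidim

/-! Geometric linkage: if `a = ann b`, `b = ann a`, `a ∩ b = 0` in a Gorenstein ring with `S/a`,
`S/b` Cohen–Macaulay, then `S/(a + b)` is Gorenstein of codimension one (helper29). -/

set_option autoImplicit false
set_option linter.style.haveILetI false
universe u
open CategoryTheory CategoryTheory.Abelian IsLocalRing

namespace Groth.Agent.Lib.Helper29GorLinkSup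

open Groth.Agent.Lib.Helper28 Groth.Agent.Lib.Helper29MCMDual Groth.Agent.Lib.Helper29GorLink

section RegEl

/-- An ideal with zero annihilator in a Noetherian ring contains a non-zero-divisor. -/
theorem exists_isSMulRegular_mem {A : Type u} [CommRing A] [IsNoetherianRing A] (I : Ideal A)
    (h : ∀ r : A, (∀ y ∈ I, r * y = 0) → r = 0) : ∃ x ∈ I, IsSMulRegular A x := by
  by_contra hcon
  push_neg at hcon
  have hsub : (I : Set A) ⊆ ⋃ p ∈ associatedPrimes A A, (p : Set A) := by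
    rw [biUnion_associatedPrimes_eq_compl_regular A A]
    intro x hx
    exact hcon x hx
  obtain ⟨P, hP, hIP⟩ := (Ideal.subset_union_prime_finite (associatedPrimes.finite A A)
    (f := fun p : Ideal A => p) ⊥ ⊥ (fun p hp _ _ => IsAssociatedPrime.isPrime hp)).mp hsub
  rw [AssociatedPrimes.mem_iff, isAssociatedPrime_iff] at hP
  obtain ⟨hPp, z, hz⟩ := hP
  have hz0 : z = 0 := by
    apply h z
    intro y hy
    have := hIP hy
    rw [hz, Submodule.mem_colon_singleton, Submodule.mem_bot, smul_eq_mul] at this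
    rw [mul_comm]
    exact this
  apply hPp.ne_top
  rw [hz, hz0, Ideal.eq_top_iff_one, Submodule.mem_colon_singleton, smul_zero]
  exact Submodule.zero_mem _

end RegEl

section LinkAlg

variable {A : Type u} [CommRing A] (a b : Ideal A)

/-- `ann α = b` when `α + β` is regular, `β ∈ b`, `b = ann a`, `a b = 0`. -/
theorem mem_of_mul_eq_zero (hb : ∀ r, r ∈ b ↔ ∀ y ∈ a, r * y = 0)
    (α β : A) (hβ : β ∈ b) (hreg : IsSMulRegular A (α + β)) (t : A) (h : t * α = 0) : t ∈ b := by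
  rw [hb]
  intro y hy
  apply hreg
  change (α + β) • (t * y) = (α + β) • 0
  rw [smul_zero, smul_eq_mul]
  have h1 : β * y = 0 := (hb β).mp hβ y hy
  calc (α + β) * (t * y) = (t * α) * y + t * (β * y) := by ring
    _ = 0 := by rw [h, h1, zero_mul, mul_zero, add_zero]

variable (hb : ∀ r, r ∈ b ↔ ∀ y ∈ a, r * y = 0) (ha : ∀ r, r ∈ a ↔ ∀ y ∈ b, r * y = 0)
  (hab : a ⊓ b = ⊥) (α β : A) (hα : α ∈ a) (hβ : β ∈ b) (hreg : IsSMulRegular A (α + β))

include hb ha hab hα hβ hreg in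
/-- if `r α ∈ (α + β)` then `r = s + (r - s)` with `s ∈ a`, `r - s ∈ b`, `r α = s (α + β)`. -/
theorem split_of_mul_alpha (r s : A) (h : r * α = s * (α + β)) : s ∈ a ∧ r - s ∈ b := by
  have h1 : (r - s) * α = s * β := by
    have : (r - s) * α = r * α - s * α := by ring
    rw [this, h]
    ring
  have h2 : s * β ∈ a ⊓ b :=
    ⟨h1 ▸ Ideal.mul_mem_left _ _ hα, Ideal.mul_mem_left _ _ hβ⟩
  rw [hab, Ideal.mem_bot] at h2
  have hreg' : IsSMulRegular A (β + α) := by rwa [add_comm]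
  refine ⟨mem_of_mul_eq_zero b a ha β α hα hreg' s h2, ?_⟩
  rw [h2] at h1
  exact mem_of_mul_eq_zero a b hb α β hβ hreg (r - s) h1

include hb ha hab hα hβ hreg in
/-- `(α + β) : α = a + b`. -/
theorem mem_sup_iff (r : A) : r ∈ a ⊔ b ↔ ∃ s, r * α = s * (α + β) := by
  constructor
  · intro hr
    obtain ⟨y, hy, z, hz, rfl⟩ := Submodule.mem_sup.mp hr
    refine ⟨y, ?_⟩
    have h1 : z * α = 0 := (hb z).mp hz α hα
    have h2 : y * β = 0 := (ha y).mp hy β hβ
    rw [add_mul, h1, add_zero, mul_add, h2, add_zero]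
  · rintro ⟨s, hs⟩
    obtain ⟨h1, h2⟩ := split_of_mul_alpha a b hb ha hab α β hα hβ hreg r s hs
    have : r = s + (r - s) := by ring
    rw [this]
    exact Submodule.add_mem_sup h1 h2

include hb hab hα hβ hreg in
/-- if `s ∈ a` and `s a ⊆ (α + β)` then `s ∈ (α)`, provided every map `a → A` is a
multiplication. -/
theorem exists_eq_mul_alpha (hsurj : Function.Surjective (mulRestrict A a)) (s : A) (hs : s ∈ a)
    (h : ∀ y ∈ a, ∃ t, s * y = t * (α + β)) : ∃ ρ, s = ρ * α := by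
  have hinj : Function.Injective (LinearMap.lsmul A A (α + β)) := hreg
  let e := LinearEquiv.ofInjective (LinearMap.lsmul A A (α + β)) hinj
  let g : a →ₗ[A] A := (LinearMap.lsmul A A s) ∘ₗ a.subtype
  have hmem : ∀ y, g y ∈ LinearMap.range (LinearMap.lsmul A A (α + β)) := by
    intro y
    obtain ⟨t, ht⟩ := h y y.2
    refine ⟨t, ?_⟩
    change (α + β) * t = s * (y : A)
    rw [ht, mul_comm]
  let θ : a →ₗ[A] A := e.symm.toLinearMap ∘ₗ g.codRestrict _ hmem
  have hθ : ∀ y : a, (α + β) * θ y = s * (y : A) := by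
    intro y
    have h1 : e (θ y) = g.codRestrict _ hmem y := e.apply_symm_apply _
    have h2 : ((e (θ y) : LinearMap.range (LinearMap.lsmul A A (α + β))) : A) =
        (α + β) * θ y := rfl
    rw [← h2, h1]
    rfl
  obtain ⟨ρ, hρ⟩ := hsurj θ
  refine ⟨ρ, ?_⟩
  have h3 : s - ρ * α ∈ a ⊓ b := by
    refine ⟨Ideal.sub_mem _ hs (Ideal.mul_mem_left _ _ hα), (hb _).mpr ?_⟩
    intro y hy
    have h4 : θ ⟨y, hy⟩ = ρ * y := by
      rw [← hρ]
      rfl
    have h5 := hθ ⟨y, hy⟩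
    rw [h4] at h5
    have h6 : β * y = 0 := (hb β).mp hβ y hy
    have : (s - ρ * α) * y = s * y - (α + β) * (ρ * y) + ρ * (β * y) := by ring
    rw [this, h5, h6]
    simp
  rw [hab, Ideal.mem_bot, sub_eq_zero] at h3
  exact h3

include hb ha hab hα hβ hreg in
/-- `(α + β) : (a + b) = (α, β)`. -/
theorem exists_eq_mul_alpha_add (hsurja : Function.Surjective (mulRestrict A a))
    (hsurjb : Function.Surjective (mulRestrict A b)) (r : A)
    (h : ∀ z ∈ a ⊔ b, ∃ t, r * z = t * (α + β)) : ∃ s t, r = s * α + t * (α + β) := by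
  have hreg' : IsSMulRegular A (β + α) := by rwa [add_comm]
  have hab' : b ⊓ a = ⊥ := by rwa [inf_comm]
  obtain ⟨s, hs⟩ := h α (Ideal.mem_sup_left hα)
  obtain ⟨s', hs'⟩ := h β (Ideal.mem_sup_right hβ)
  rw [add_comm α β] at hs'
  obtain ⟨h1, h2⟩ := split_of_mul_alpha a b hb ha hab α β hα hβ hreg r s hs
  obtain ⟨h1', h2'⟩ := split_of_mul_alpha b a ha hb hab' β α hβ hα hreg' r s' hs'
  have hsum : r = s + s' := by
    have h3 : s - (r - s') ∈ a ⊓ b := by
      refine ⟨Ideal.sub_mem _ h1 h2', ?_⟩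
      have : s - (r - s') = s' - (r - s) := by ring
      rw [this]
      exact Ideal.sub_mem _ h1' h2
    rw [hab, Ideal.mem_bot, sub_eq_zero] at h3
    rw [h3]
    ring
  obtain ⟨ρ, hρ⟩ := exists_eq_mul_alpha a b hb hab α β hα hβ hreg hsurja s h1 (by
    intro y hy
    obtain ⟨t, ht⟩ := h y (Ideal.mem_sup_left hy)
    refine ⟨t, ?_⟩
    have h4 : (r - s) * y = 0 := (hb _).mp h2 y hy
    have : s * y = r * y - (r - s) * y := by ring
    rw [this, h4, sub_zero, ht])
  obtain ⟨ρ', hρ'⟩ := exists_eq_mul_alpha b a ha hab' β α hβ hα hreg' hsurjb s' h1' (by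
    intro y hy
    obtain ⟨t, ht⟩ := h y (Ideal.mem_sup_right hy)
    refine ⟨t, ?_⟩
    have h4 : (r - s') * y = 0 := (ha _).mp h2' y hy
    have : s' * y = r * y - (r - s') * y := by ring
    rw [this, h4, sub_zero, ht, add_comm])
  refine ⟨ρ - ρ', ρ', ?_⟩
  rw [hsum, hρ, hρ']
  ring

end LinkAlg

section SES

variable {A : Type u} [CommRing A] (a b : Ideal A)

/-- `(A/I)/(J/I) ≃ A/J` as `A`-modules. -/
noncomputable def quotQuotLinearEquiv (I J : Ideal A) (h : I ≤ J) :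
    ((A ⧸ I) ⧸ J.map (Ideal.Quotient.mk I)) ≃ₗ[A] (A ⧸ J) :=
  { (DoubleQuot.quotQuotEquivQuotOfLE h).toAddEquiv with
    map_smul' := by
      intro r m
      obtain ⟨m, rfl⟩ := Ideal.Quotient.mk_surjective m
      obtain ⟨m, rfl⟩ := Ideal.Quotient.mk_surjective m
      rfl }

/-- the diagonal `A → A/a × A/b` -/
noncomputable def diagMap : A →ₗ[A] (A ⧸ a) × (A ⧸ b) := LinearMap.prod a.mkQ b.mkQ

/-- the difference `A/a × A/b → A/(a + b)` -/
noncomputable def diffMap : (A ⧸ a) × (A ⧸ b) →ₗ[A] A ⧸ (a ⊔ b) :=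
  LinearMap.coprod
    (Submodule.mapQ a (a ⊔ b) LinearMap.id (by rw [Submodule.comap_id]; exact le_sup_left))
    (-(Submodule.mapQ b (a ⊔ b) LinearMap.id (by rw [Submodule.comap_id]; exact le_sup_right)))

theorem diffMap_mk (u v : A) :
    diffMap a b (Submodule.Quotient.mk u, Submodule.Quotient.mk v) =
      Submodule.Quotient.mk (u - v) := by
  simp [diffMap, sub_eq_add_neg]

theorem diagMap_injective (hab : a ⊓ b = ⊥) : Function.Injective (diagMap a b) := by
  rw [← LinearMap.ker_eq_bot, LinearMap.ker_eq_bot']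
  intro r hr
  have h1 : (Submodule.Quotient.mk r : A ⧸ a) = 0 := congrArg Prod.fst hr
  have h2 : (Submodule.Quotient.mk r : A ⧸ b) = 0 := congrArg Prod.snd hr
  rw [Submodule.Quotient.mk_eq_zero] at h1 h2
  have : r ∈ a ⊓ b := ⟨h1, h2⟩
  rwa [hab, Ideal.mem_bot] at this

theorem diffMap_surjective : Function.Surjective (diffMap a b) := by
  intro d
  obtain ⟨r, rfl⟩ := Submodule.Quotient.mk_surjective _ d
  refine ⟨(Submodule.Quotient.mk r, Submodule.Quotient.mk 0), ?_⟩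
  rw [diffMap_mk, sub_zero]

theorem exact_diagMap_diffMap : Function.Exact (diagMap a b) (diffMap a b) := by
  rintro ⟨u, v⟩
  obtain ⟨u, rfl⟩ := Submodule.Quotient.mk_surjective _ u
  obtain ⟨v, rfl⟩ := Submodule.Quotient.mk_surjective _ v
  rw [diffMap_mk, Submodule.Quotient.mk_eq_zero]
  constructor
  · intro h
    obtain ⟨y, hy, z, hz, hyz⟩ := Submodule.mem_sup.mp h
    refine ⟨u - y, ?_⟩
    change ((Submodule.Quotient.mk (u - y) : A ⧸ a), (Submodule.Quotient.mk (u - y) : A ⧸ b)) = _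
    refine Prod.ext ?_ ?_
    · change (Submodule.Quotient.mk (u - y) : A ⧸ a) = Submodule.Quotient.mk u
      rw [Submodule.Quotient.eq]
      have : u - y - u = -y := by ring
      rw [this]
      exact a.neg_mem hy
    · change (Submodule.Quotient.mk (u - y) : A ⧸ b) = Submodule.Quotient.mk v
      rw [Submodule.Quotient.eq]
      have : u - y - v = z := by
        have h5 : u - y - v = (u - v) - y := by ring
        rw [h5, ← hyz]
        ring
      rw [this]
      exact hz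
  · rintro ⟨r, hr⟩
    have h1 : (Submodule.Quotient.mk r : A ⧸ a) = Submodule.Quotient.mk u := congrArg Prod.fst hr
    have h2 : (Submodule.Quotient.mk r : A ⧸ b) = Submodule.Quotient.mk v := congrArg Prod.snd hr
    rw [Submodule.Quotient.eq] at h1 h2
    have : u - v = -(r - u) + (r - v) := by ring
    rw [this]
    exact Submodule.add_mem_sup (a.neg_mem h1) h2

end SES

section Local

variable (A : Type u) [CommRing A] [hA : LocCoh.IsGorensteinLocalRing A] (n : ℕ)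
  (hn : ringKrullDim A = n)

include hn in
theorem le_depth_sup_add_one (a b : Ideal A) (hab : a ⊓ b = ⊥)
    (hda : (n : ℕ∞) ≤ LocCoh.depth A (A ⧸ a)) (hdb : (n : ℕ∞) ≤ LocCoh.depth A (A ⧸ b)) :
    (n : ℕ∞) ≤ LocCoh.depth A (A ⧸ (a ⊔ b)) + 1 := by
  have hprod : (n : ℕ∞) ≤ LocCoh.depth A ((A ⧸ a) × (A ⧸ b)) :=
    le_trans (le_min hda hdb) (min_idealDepth_le_mid (maximalIdeal A)
      (LinearMap.inl A (A ⧸ a) (A ⧸ b)) (LinearMap.snd A (A ⧸ a) (A ⧸ b))
      LinearMap.inl_injective LinearMap.snd_surjective Function.Exact.inl_snd)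
  have h1 := min_idealDepth_le_right (maximalIdeal A) (diagMap a b) (diffMap a b)
    (diagMap_injective a b hab) (diffMap_surjective a b) (exact_diagMap_diffMap a b)
  have hdA : LocCoh.idealDepth (maximalIdeal A) A = n := depth_self_eq A n hn
  rw [hdA] at h1
  have h2 : (n : ℕ∞) - 1 ≤ LocCoh.depth A (A ⧸ (a ⊔ b)) :=
    le_trans (le_min (le_trans tsub_le_self hprod) le_rfl) h1
  exact tsub_le_iff_right.mp h2

include hn in
/-- Local statement: if `a = ann b`, `b = ann a`, `a ∩ b = 0` in a Gorenstein local ring and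
`A/a`, `A/b` are maximal Cohen–Macaulay, then `A/(a + b)` is Gorenstein. -/
theorem gorLocal_quotient_sup_of_link (a b : Ideal A) (hb : ∀ r, r ∈ b ↔ ∀ y ∈ a, r * y = 0)
    (ha : ∀ r, r ∈ a ↔ ∀ y ∈ b, r * y = 0) (hab : a ⊓ b = ⊥)
    (hda : (n : ℕ∞) ≤ LocCoh.depth A (A ⧸ a)) (hdb : (n : ℕ∞) ≤ LocCoh.depth A (A ⧸ b))
    (hne : a ⊔ b ≠ ⊤) : LocCoh.IsGorensteinLocalRing (A ⧸ (a ⊔ b)) := by
  haveI : IsNoetherianRing A := inferInstance
  obtain ⟨x, hx, hreg⟩ := exists_isSMulRegular_mem (a ⊔ b) (by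
    intro r hr
    have h1 : r ∈ b := (hb r).mpr (fun y hy => hr y (Ideal.mem_sup_left hy))
    have h2 : r ∈ a := (ha r).mpr (fun y hy => hr y (Ideal.mem_sup_right hy))
    have : r ∈ a ⊓ b := ⟨h2, h1⟩
    rwa [hab, Ideal.mem_bot] at this)
  obtain ⟨α, hα, β, hβ, rfl⟩ := Submodule.mem_sup.mp hx
  have hxm : α + β ∈ maximalIdeal A := IsLocalRing.le_maximalIdeal hne hx
  haveI hG' : LocCoh.IsGorensteinLocalRing (A ⧸ Ideal.span {α + β}) :=
    (Groth.Agent.S0343.result A _ hxm hreg).mp hA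
  have hle : Ideal.span {α + β} ≤ a ⊔ b := (Ideal.span_singleton_le_iff_mem _).mpr hx
  obtain ⟨n', hn'⟩ := Groth.Agent.Lib.Helper5.exists_nat_ringKrullDim_eq
    (A ⧸ Ideal.span {α + β})
  have hnn' : n' + 1 = n := by
    have h1 := ringKrullDim_quotient_span_singleton_succ_eq_ringKrullDim hreg hxm
    rw [hn, hn'] at h1
    exact_mod_cast h1
  have hD := le_depth_sup_add_one A n hn a b hab hda hdb
  have hsurja := mulRestrict_surjective A n hn a hda
  have hsurjb := mulRestrict_surjective A n hn b hdb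
  have hbtop' : (a ⊔ b).map (Ideal.Quotient.mk (Ideal.span {α + β})) ≠ ⊤ := by
    intro htop
    apply hne
    rw [Ideal.eq_top_iff_one, ← Ideal.mem_quotient_iff_mem hle, htop]
    trivial
  have hbx' : ∀ r' : A ⧸ Ideal.span {α + β},
      r' ∈ (a ⊔ b).map (Ideal.Quotient.mk (Ideal.span {α + β})) ↔
        r' * Ideal.Quotient.mk (Ideal.span {α + β}) α = 0 := by
    intro r'
    obtain ⟨r, rfl⟩ := Ideal.Quotient.mk_surjective r'
    rw [Ideal.mem_quotient_iff_mem hle, ← map_mul, Ideal.Quotient.eq_zero_iff_mem,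
      Ideal.mem_span_singleton', mem_sup_iff a b hb ha hab α β hα hβ hreg r]
    constructor
    · rintro ⟨s, hs⟩
      exact ⟨s, hs.symm⟩
    · rintro ⟨s, hs⟩
      exact ⟨s, hs.symm⟩
  have hxb' : ∀ r' : A ⧸ Ideal.span {α + β},
      (∀ z' ∈ (a ⊔ b).map (Ideal.Quotient.mk (Ideal.span {α + β})), r' * z' = 0) →
        ∃ s', r' = s' * Ideal.Quotient.mk (Ideal.span {α + β}) α := by
    intro r' h
    obtain ⟨r, rfl⟩ := Ideal.Quotient.mk_surjective r'
    have h1 : ∀ z ∈ a ⊔ b, ∃ t, r * z = t * (α + β) := by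
      intro z hz
      have := h (Ideal.Quotient.mk _ z) (Ideal.mem_map_of_mem _ hz)
      rw [← map_mul, Ideal.Quotient.eq_zero_iff_mem, Ideal.mem_span_singleton'] at this
      obtain ⟨t, ht⟩ := this
      exact ⟨t, ht.symm⟩
    obtain ⟨s, t, hst⟩ := exists_eq_mul_alpha_add a b hb ha hab α β hα hβ hreg hsurja hsurjb r h1
    refine ⟨Ideal.Quotient.mk _ s, ?_⟩
    rw [← map_mul, Ideal.Quotient.eq, hst, Ideal.mem_span_singleton']
    exact ⟨t, by ring⟩
  have hdepth' : (n' : ℕ∞) ≤ LocCoh.depth (A ⧸ Ideal.span {α + β})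
      ((A ⧸ Ideal.span {α + β}) ⧸ (a ⊔ b).map (Ideal.Quotient.mk (Ideal.span {α + β}))) := by
    haveI : IsLocalHom (algebraMap A (A ⧸ Ideal.span {α + β})) :=
      isLocalHom_of_le_jacobson_bot _ ((Ideal.span_singleton_le_iff_mem _).mpr
        (IsLocalRing.maximalIdeal_le_jacobson ⊥ hxm))
    haveI : Module.Finite A
        ((A ⧸ Ideal.span {α + β}) ⧸ (a ⊔ b).map (Ideal.Quotient.mk (Ideal.span {α + β}))) :=
      Module.Finite.trans (A ⧸ Ideal.span {α + β}) _
    rw [← depth_eq_depth_of_isLocalHom_of_finite (A := A) (B := A ⧸ Ideal.span {α + β})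
      (M := (A ⧸ Ideal.span {α + β}) ⧸ (a ⊔ b).map (Ideal.Quotient.mk (Ideal.span {α + β})))]
    have h1 : LocCoh.depth A
        ((A ⧸ Ideal.span {α + β}) ⧸ (a ⊔ b).map (Ideal.Quotient.mk (Ideal.span {α + β}))) =
        LocCoh.depth A (A ⧸ (a ⊔ b)) :=
      idealDepth_congr (quotQuotLinearEquiv _ _ hle) (maximalIdeal A)
    rw [h1]
    have h2 := enat_pred_le_of_le_add_one hD
    have h3 : n - 1 = n' := by omega
    rwa [h3] at h2
  haveI := gorLocal_quotient_of_depth (A ⧸ Ideal.span {α + β}) n' hn'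
    ((a ⊔ b).map (Ideal.Quotient.mk (Ideal.span {α + β})))
    (Ideal.Quotient.mk (Ideal.span {α + β}) α) hbtop' hbx' hxb' hdepth'
  exact Groth.Agent.Lib.Helper5.GorRing.gorLocal_of_ringEquiv
    (DoubleQuot.quotQuotEquivQuotOfLE hle)

end Local

section LocalCM

variable (A : Type u) [CommRing A] [hA : LocCoh.IsGorensteinLocalRing A] (n : ℕ)
  (hn : ringKrullDim A = n)

include hn in
/-- If `a = ann b`, `b = ann a` in a Gorenstein local ring and `A/a` is Cohen–Macaulay (or zero),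
then `A/a` is maximal Cohen–Macaulay. -/
theorem le_depth_of_cm_of_link (a b : Ideal A) (hb : ∀ r, r ∈ b ↔ ∀ y ∈ a, r * y = 0)
    (ha : ∀ r, r ∈ a ↔ ∀ y ∈ b, r * y = 0)
    (hCM : a = ⊤ ∨ Module.supportDim A (A ⧸ a) = ((LocCoh.depth A (A ⧸ a) : ℕ∞) : WithBot ℕ∞)) :
    (n : ℕ∞) ≤ LocCoh.depth A (A ⧸ a) := by
  have hdA := depth_self_eq A n hn
  have htopcase : a = ⊤ → (n : ℕ∞) ≤ LocCoh.depth A (A ⧸ a) := by
    intro h
    have : Subsingleton (A ⧸ a) := by
      rw [h]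
      exact Submodule.Quotient.subsingleton_iff.mpr rfl
    rw [depth_eq_top_of_subsingleton]
    exact le_top
  rcases hCM with h | h
  · exact htopcase h
  · by_cases hatop : a = ⊤
    · exact htopcase hatop
    have hCMA : LocCoh.IsCohenMacaulayModule A A :=
      (isCohenMacaulayLocalRing A n hn).supportDim_eq_depth
    have h1 := supportDim_eq_add_idealDepth_of_isCohenMacaulayModule (M := A) a hatop hCMA
    have haM : a • (⊤ : Submodule A A) = a := by
      rw [smul_eq_mul, Ideal.mul_top]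
    by_cases hd : 1 ≤ LocCoh.idealDepth a A
    · have hIM : a • (⊤ : Submodule A A) ≠ ⊤ := by rwa [haM]
      obtain ⟨x, hx, hreg⟩ := (one_le_idealDepth_iff hIM).mp hd
      have hbbot : ∀ r ∈ b, r = 0 := by
        intro r hr
        have h2 := (hb r).mp hr x hx
        apply hreg
        change x • r = x • 0
        rw [smul_zero, smul_eq_mul, mul_comm]
        exact h2
      have : (1 : A) ∈ a := by
        rw [ha]
        intro y hy
        rw [hbbot y hy, mul_zero]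
      exact absurd ((Ideal.eq_top_iff_one a).mpr this) hatop
    · have hd0 : LocCoh.idealDepth a A = 0 := by
        by_contra hne
        exact hd (Order.one_le_iff_ne_zero.mpr hne)
      rw [hd0, Module.supportDim_self_eq_ringKrullDim, hn] at h1
      have h2 : Module.supportDim A (A ⧸ (a • ⊤ : Submodule A A)) = (n : WithBot ℕ∞) := by
        rw [h1]
        simp
      have h3 : Module.supportDim A (A ⧸ a) = (n : WithBot ℕ∞) := by
        rw [← h2]
        rw [Module.supportDim_quotient_eq_ringKrullDim]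
        have e : (A ⧸ (a • ⊤ : Submodule A A)) ≃ₗ[A] (A ⧸ a) :=
          Submodule.quotEquivOfEq _ _ haM
        rw [Module.supportDim_eq_of_equiv e, Module.supportDim_quotient_eq_ringKrullDim]
      rw [h3] at h
      have h4 : ((n : ℕ∞) : WithBot ℕ∞) = ((LocCoh.depth A (A ⧸ a) : ℕ∞) : WithBot ℕ∞) := h
      exact le_of_eq (WithBot.coe_injective h4)

include hn in
/-- Codimension one: `ht (a + b) ≤ 1` under the hypotheses of `gorLocal_quotient_sup_of_link`. -/
theorem height_sup_le_one (a b : Ideal A) (hab : a ⊓ b = ⊥)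
    (hda : (n : ℕ∞) ≤ LocCoh.depth A (A ⧸ a)) (hdb : (n : ℕ∞) ≤ LocCoh.depth A (A ⧸ b))
    (hne : a ⊔ b ≠ ⊤) : (a ⊔ b).height ≤ 1 := by
  have hD := le_depth_sup_add_one A n hn a b hab hda hdb
  haveI hnt : Nontrivial (A ⧸ (a ⊔ b)) := Submodule.Quotient.nontrivial_iff.mpr hne
  have h1 : ((LocCoh.depth A (A ⧸ (a ⊔ b)) : ℕ∞) : WithBot ℕ∞) ≤
      Module.supportDim A (A ⧸ (a ⊔ b)) := depth_le_supportDim
  rw [Module.supportDim_quotient_eq_ringKrullDim] at h1
  have h2 := height_add_ringKrullDim_quotient_le (a ⊔ b) hne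
  rw [hn] at h2
  have h3 : (((a ⊔ b).height + LocCoh.depth A (A ⧸ (a ⊔ b)) : ℕ∞) : WithBot ℕ∞) ≤
      ((n : ℕ∞) : WithBot ℕ∞) := by
    rw [WithBot.coe_add]
    exact le_trans (add_le_add le_rfl h1) h2
  have h4 : (a ⊔ b).height + LocCoh.depth A (A ⧸ (a ⊔ b)) ≤ (n : ℕ∞) := WithBot.coe_le_coe.mp h3
  have hfin : LocCoh.depth A (A ⧸ (a ⊔ b)) ≠ ⊤ := by
    intro htop
    rw [htop, add_top] at h4
    exact absurd (top_le_iff.mp h4) (ENat.natCast_ne_top n)
  have h5 : (a ⊔ b).height + LocCoh.depth A (A ⧸ (a ⊔ b)) ≤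
      1 + LocCoh.depth A (A ⧸ (a ⊔ b)) := by
    rw [add_comm 1]
    exact le_trans h4 hD
  exact (ENat.add_le_add_iff_right hfin).mp h5

end LocalCM

section Global

open Groth.Agent.Lib.Helper5 Groth.Agent.Lib.Helper5.GenDepth
  Groth.Agent.Lib.Helper25.GrGlob Groth.Agent.Lib.Helper25.GrVertex Groth.Agent.Lib.Helper29Liaison
  Groth.Agent.Lib.Helper5.GorRing

variable (S : Type u) [CommRing S] [hS : LocCoh.IsGorensteinRing S]

/-- the local data at a prime `q ⊇ a + b` -/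
theorem local_data (a b : Ideal S)
    (hb : ∀ r, r ∈ b ↔ ∀ y ∈ a, r * y = 0) (ha : ∀ r, r ∈ a ↔ ∀ y ∈ b, r * y = 0)
    (hab : a ⊓ b = ⊥)
    (hCMa : LocCoh.IsCohenMacaulayRing (S ⧸ a)) (hCMb : LocCoh.IsCohenMacaulayRing (S ⧸ b))
    (q : Ideal S) [hq : q.IsPrime] (hq' : a ⊔ b ≤ q) (n : ℕ)
    (hn : ringKrullDim (Localization.AtPrime q) = n) :
    (∀ r, r ∈ b.map (algebraMap S (Localization.AtPrime q)) ↔
      ∀ y ∈ a.map (algebraMap S (Localization.AtPrime q)), r * y = 0) ∧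
    (∀ r, r ∈ a.map (algebraMap S (Localization.AtPrime q)) ↔
      ∀ y ∈ b.map (algebraMap S (Localization.AtPrime q)), r * y = 0) ∧
    a.map (algebraMap S (Localization.AtPrime q)) ⊓
      b.map (algebraMap S (Localization.AtPrime q)) = ⊥ ∧
    (n : ℕ∞) ≤ LocCoh.depth (Localization.AtPrime q)
      (Localization.AtPrime q ⧸ a.map (algebraMap S (Localization.AtPrime q))) ∧
    (n : ℕ∞) ≤ LocCoh.depth (Localization.AtPrime q)
      (Localization.AtPrime q ⧸ b.map (algebraMap S (Localization.AtPrime q))) ∧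
    a.map (algebraMap S (Localization.AtPrime q)) ⊔
      b.map (algebraMap S (Localization.AtPrime q)) ≠ ⊤ := by
  haveI : IsNoetherianRing S := inferInstance
  haveI hG : LocCoh.IsGorensteinLocalRing (Localization.AtPrime q) :=
    hS.isGorensteinLocalRing_localization q
  have hb' := map_ann q.primeCompl (Localization.AtPrime q) a b hb
  have ha' := map_ann q.primeCompl (Localization.AtPrime q) b a ha
  have h0 : ∀ r, r ∈ (⊥ : Ideal S) ↔ ∀ y ∈ a ⊔ b, r * y = 0 := by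
    intro r
    constructor
    · intro hr y _
      rw [Ideal.mem_bot.mp hr, zero_mul]
    · intro hr
      have h1 : r ∈ b := (hb r).mpr (fun y hy => hr y (Ideal.mem_sup_left hy))
      have h2 : r ∈ a := (ha r).mpr (fun y hy => hr y (Ideal.mem_sup_right hy))
      have : r ∈ a ⊓ b := ⟨h2, h1⟩
      rwa [hab] at this
  have h0' := map_ann q.primeCompl (Localization.AtPrime q) (a ⊔ b) ⊥ h0
  have hab' : a.map (algebraMap S (Localization.AtPrime q)) ⊓
      b.map (algebraMap S (Localization.AtPrime q)) = ⊥ := by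
    rw [eq_bot_iff]
    intro r hr
    have h1 := (h0' r).mpr (by
      intro y hy
      rw [Ideal.map_sup] at hy
      obtain ⟨y1, hy1, y2, hy2, rfl⟩ := Submodule.mem_sup.mp hy
      rw [mul_add, (hb' r).mp hr.2 y1 hy1, (ha' r).mp hr.1 y2 hy2, add_zero])
    rwa [Ideal.map_bot] at h1
  have hcm : ∀ (a₁ : Ideal S), a₁ ≤ q → LocCoh.IsCohenMacaulayRing (S ⧸ a₁) →
      Module.supportDim (Localization.AtPrime q)
        (Localization.AtPrime q ⧸ a₁.map (algebraMap S (Localization.AtPrime q))) =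
      ((LocCoh.depth (Localization.AtPrime q)
        (Localization.AtPrime q ⧸ a₁.map (algebraMap S (Localization.AtPrime q))) : ℕ∞) :
          WithBot ℕ∞) := by
    intro a₁ haq hCM
    have hprime : (q.map (Ideal.Quotient.mk a₁)).IsPrime := by
      apply Ideal.map_isPrime_of_surjective Ideal.Quotient.mk_surjective
      rw [Ideal.mk_ker]
      exact haq
    have h := hCM.isCohenMacaulayLocalRing_localization (q.map (Ideal.Quotient.mk a₁))
    have h2 := isCohenMacaulayModule_of_isCohenMacaulayLocalRing q a₁ haq h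
    have h3 : dm q (S ⧸ a₁) = ((dep q (S ⧸ a₁) : ℕ∞) : WithBot ℕ∞) := h2
    rw [(dep_dm_quotient q a₁).1, (dep_dm_quotient q a₁).2] at h3
    exact h3
  refine ⟨hb', ha', hab', ?_, ?_, ?_⟩
  · exact le_depth_of_cm_of_link _ n hn _ _ hb' ha'
      (Or.inr (hcm a (le_trans le_sup_left hq') hCMa))
  · exact le_depth_of_cm_of_link _ n hn _ _ ha' hb'
      (Or.inr (hcm b (le_trans le_sup_right hq') hCMb))
  · rw [← Ideal.map_sup, IsLocalization.map_algebraMap_ne_top_iff_disjoint q.primeCompl,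
      Set.disjoint_left]
    intro y hy hyb
    exact hy (hq' hyb)

/-- If `a = ann b`, `b = ann a`, `a ∩ b = 0` in a Gorenstein ring and `S/a`, `S/b` are
Cohen–Macaulay, then `S/(a + b)` is Gorenstein, and `ht (a + b) ≤ 1` if `a + b` is proper. -/
theorem gorRing_quotient_sup_of_link (a b : Ideal S)
    (hb : ∀ r, r ∈ b ↔ ∀ y ∈ a, r * y = 0) (ha : ∀ r, r ∈ a ↔ ∀ y ∈ b, r * y = 0)
    (hab : a ⊓ b = ⊥)
    (hCMa : LocCoh.IsCohenMacaulayRing (S ⧸ a)) (hCMb : LocCoh.IsCohenMacaulayRing (S ⧸ b)) :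
    LocCoh.IsGorensteinRing (S ⧸ (a ⊔ b)) ∧ (a ⊔ b ≠ ⊤ → (a ⊔ b).height ≤ 1) := by
  haveI : IsNoetherianRing S := inferInstance
  constructor
  · refine { isGorensteinLocalRing_localization := fun Q hQ => ?_ }
    haveI := hQ
    have hq : (Q.comap (Ideal.Quotient.mk (a ⊔ b))).IsPrime := Ideal.comap_isPrime _ _
    set q := Q.comap (Ideal.Quotient.mk (a ⊔ b)) with hqdef
    have hq' : a ⊔ b ≤ q := by
      intro y hy
      rw [hqdef, Ideal.mem_comap, Ideal.Quotient.eq_zero_iff_mem.mpr hy]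
      exact Q.zero_mem
    haveI hG : LocCoh.IsGorensteinLocalRing (Localization.AtPrime q) :=
      hS.isGorensteinLocalRing_localization q
    obtain ⟨n, hn⟩ := Groth.Agent.Lib.Helper5.exists_nat_ringKrullDim_eq (Localization.AtPrime q)
    obtain ⟨hb', ha', hab', hda, hdb, hne⟩ := local_data S a b hb ha hab hCMa hCMb q hq' n hn
    have hG' := gorLocal_quotient_sup_of_link _ n hn _ _ hb' ha' hab' hda hdb hne
    rw [← Ideal.map_sup] at hG'
    exact gorLocal_of_ringEquiv (localizationQuotientEquiv (a ⊔ b) Q).symm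
  · intro hne
    obtain ⟨q, hqmax, hq'⟩ := Ideal.exists_le_maximal (a ⊔ b) hne
    haveI hq : q.IsPrime := hqmax.isPrime
    haveI hG : LocCoh.IsGorensteinLocalRing (Localization.AtPrime q) :=
      hS.isGorensteinLocalRing_localization q
    obtain ⟨n, hn⟩ := Groth.Agent.Lib.Helper5.exists_nat_ringKrullDim_eq (Localization.AtPrime q)
    obtain ⟨hb', ha', hab', hda, hdb, hne'⟩ := local_data S a b hb ha hab hCMa hCMb q hq' n hn
    have h1 := height_sup_le_one _ n hn _ _ hab' hda hdb hne'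
    rw [← Ideal.map_sup, ← IsLocalization.height_under q.primeCompl] at h1
    exact le_trans (Ideal.height_mono Ideal.le_comap_map) h1

end Global

section Colon

variable {R : Type u} [CommRing R] [IsNoetherianRing R]

/-- If no associated prime of `R/I₂` contains `I₁`, then `(I₁ ∩ I₂) : I₁ = I₂`. -/
theorem colon_inf_eq (I₁ I₂ : Ideal R)
    (h : ∀ P ∈ associatedPrimes R (R ⧸ I₂), ¬ I₁ ≤ P) :
    (I₁ ⊓ I₂).colon (I₁ : Set R) = I₂ := by
  ext r
  rw [Submodule.mem_colon]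
  constructor
  · intro hr
    by_contra hrI
    have hx0 : (Ideal.Quotient.mk I₂ r) ≠ 0 := by
      rwa [Ne, Ideal.Quotient.eq_zero_iff_mem]
    obtain ⟨P, hP, hle⟩ := exists_le_isAssociatedPrime_of_isNoetherianRing R
      (Ideal.Quotient.mk I₂ r) hx0
    apply h P hP
    intro i hi
    apply hle
    rw [Submodule.mem_colon_singleton, Submodule.mem_bot]
    have h1 : i • (Ideal.Quotient.mk I₂ r) = Ideal.Quotient.mk I₂ (i * r) := rfl
    rw [h1, Ideal.Quotient.eq_zero_iff_mem, mul_comm]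
    exact (hr i hi).2
  · intro hr i hi
    rw [smul_eq_mul]
    exact ⟨Ideal.mul_mem_left _ _ hi, Ideal.mul_mem_right _ _ hr⟩

end Colon

section Poly

open Groth.Agent.Lib.Helper5.GorUnmixed Groth.Agent.Lib.Helper5.CMEquidim
  Groth.Agent.Lib.Helper29Liaison Groth.Agent.Lib.Helper5.GorRing

variable (K : Type u) [Field K] (n c : ℕ)

theorem not_le_of_mem_associatedPrimes (I₁ I₂ : Ideal (MvPolynomial (Fin n) K))
    (hI₁ : I₁.IsHomogeneous (GrSyz.stdGr K (Fin n)))
    (hI₂ : I₂.IsHomogeneous (GrSyz.stdGr K (Fin n)))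
    [LocCoh.IsCohenMacaulayRing (MvPolynomial (Fin n) K ⧸ I₁)]
    [LocCoh.IsCohenMacaulayRing (MvPolynomial (Fin n) K ⧸ I₂)]
    (h₁ : I₁.height = c) (h₂ : I₂.height = c)
    (hdisj : Disjoint I₁.minimalPrimes I₂.minimalPrimes) :
    ∀ P ∈ associatedPrimes (MvPolynomial (Fin n) K) (MvPolynomial (Fin n) K ⧸ I₂),
      ¬ I₁ ≤ P := by
  intro P hP hle
  haveI hPp : P.IsPrime := IsAssociatedPrime.isPrime hP
  have hPmin := mem_minimalPrimes_of_mem_associatedPrimes_quotient_cm I₂ hP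
  have hPht := height_eq_height_of_mem_minimalPrimes_cm K n I₂ hI₂ hPmin
  obtain ⟨P₁, hP₁, hP₁le⟩ := Ideal.exists_minimalPrimes_le hle
  have hP₁ht := height_eq_height_of_mem_minimalPrimes_cm K n I₁ hI₁ hP₁
  haveI : P₁.IsPrime := hP₁.1.1
  have heq : P₁ = P := Ideal.eq_of_le_of_height_le P₁ hP₁le (by rw [hPht, hP₁ht, h₁, h₂])
  rw [heq] at hP₁
  exact Set.disjoint_left.mp hdisj hP₁ hPmin

/-- Geometric linkage: the sum of two geometrically linked arithmetically Cohen–Macaulay ideals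
is arithmetically Gorenstein of codimension one more. -/
theorem sup_gorenstein (I₁ I₂ : Ideal (MvPolynomial (Fin n) K))
    (hI₁ : I₁.IsHomogeneous (GrSyz.stdGr K (Fin n)))
    (hI₂ : I₂.IsHomogeneous (GrSyz.stdGr K (Fin n)))
    [hCM₁ : LocCoh.IsCohenMacaulayRing (MvPolynomial (Fin n) K ⧸ I₁)]
    [hCM₂ : LocCoh.IsCohenMacaulayRing (MvPolynomial (Fin n) K ⧸ I₂)]
    (h₁ : I₁.height = c) (h₂ : I₂.height = c)
    (hdisj : Disjoint I₁.minimalPrimes I₂.minimalPrimes)
    [hG : LocCoh.IsGorensteinRing (MvPolynomial (Fin n) K ⧸ (I₁ ⊓ I₂))] :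
    (I₁ ⊔ I₂).height = c + 1 ∧ LocCoh.IsGorensteinRing (MvPolynomial (Fin n) K ⧸ (I₁ ⊔ I₂)) := by
  have hN : IsNoetherianRing (MvPolynomial (Fin n) K) := inferInstance
  have h12 : (I₁ ⊓ I₂).colon (I₁ : Set (MvPolynomial (Fin n) K)) = I₂ :=
    colon_inf_eq I₁ I₂ (not_le_of_mem_associatedPrimes K n c I₁ I₂ hI₁ hI₂ h₁ h₂ hdisj)
  have h21 : (I₁ ⊓ I₂).colon (I₂ : Set (MvPolynomial (Fin n) K)) = I₁ := by
    rw [inf_comm]
    exact colon_inf_eq I₂ I₁
      (not_le_of_mem_associatedPrimes K n c I₂ I₁ hI₂ hI₁ h₂ h₁ hdisj.symm)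
  have hc1 : I₁ ⊓ I₂ ≤ I₁ := inf_le_left
  have hc2 : I₁ ⊓ I₂ ≤ I₂ := inf_le_right
  have hcs : I₁ ⊓ I₂ ≤ I₁ ⊔ I₂ := le_trans hc1 le_sup_left
  have hb := map_mk_ann (I₁ ⊓ I₂) I₁ I₂ h12 hc1 hc2
  have ha := map_mk_ann (I₁ ⊓ I₂) I₂ I₁ h21 hc2 hc1
  have hab : I₁.map (Ideal.Quotient.mk (I₁ ⊓ I₂)) ⊓ I₂.map (Ideal.Quotient.mk (I₁ ⊓ I₂)) = ⊥ := by
    rw [eq_bot_iff]
    rintro r ⟨hr1, hr2⟩
    obtain ⟨r, rfl⟩ := Ideal.Quotient.mk_surjective r
    rw [SetLike.mem_coe, Ideal.mem_quotient_iff_mem hc1] at hr1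
    rw [SetLike.mem_coe, Ideal.mem_quotient_iff_mem hc2] at hr2
    rw [Ideal.mem_bot, Ideal.Quotient.eq_zero_iff_mem]
    exact ⟨hr1, hr2⟩
  have hcm1 : LocCoh.IsCohenMacaulayRing ((MvPolynomial (Fin n) K ⧸ (I₁ ⊓ I₂)) ⧸
      I₁.map (Ideal.Quotient.mk (I₁ ⊓ I₂))) :=
    Groth.Agent.Lib.Helper28.isCohenMacaulayRing_of_ringEquiv
      (DoubleQuot.quotQuotEquivQuotOfLE hc1).symm
  have hcm2 : LocCoh.IsCohenMacaulayRing ((MvPolynomial (Fin n) K ⧸ (I₁ ⊓ I₂)) ⧸
      I₂.map (Ideal.Quotient.mk (I₁ ⊓ I₂))) :=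
    Groth.Agent.Lib.Helper28.isCohenMacaulayRing_of_ringEquiv
      (DoubleQuot.quotQuotEquivQuotOfLE hc2).symm
  obtain ⟨hGsup, hht⟩ := gorRing_quotient_sup_of_link (MvPolynomial (Fin n) K ⧸ (I₁ ⊓ I₂))
    _ _ hb ha hab hcm1 hcm2
  rw [← Ideal.map_sup] at hGsup hht
  -- properness
  have hne1 : I₁ ≠ ⊤ := by
    intro h
    rw [h, Ideal.height_top] at h₁
    exact ENat.top_ne_natCast c h₁
  have hne2 : I₂ ≠ ⊤ := by
    intro h
    rw [h, Ideal.height_top] at h₂
    exact ENat.top_ne_natCast c h₂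
  have hm : I₁ ⊔ I₂ ≤ RingHom.ker
      (MvPolynomial.constantCoeff : MvPolynomial (Fin n) K →+* K) :=
    sup_le (le_ker_constantCoeff_of_isHomogeneous K n I₁ hI₁ hne1)
      (le_ker_constantCoeff_of_isHomogeneous K n I₂ hI₂ hne2)
  have hne : I₁ ⊔ I₂ ≠ ⊤ := by
    intro h
    rw [h] at hm
    exact (RingHom.ker_ne_top _) (top_le_iff.mp hm)
  have hne' : (I₁ ⊔ I₂).map (Ideal.Quotient.mk (I₁ ⊓ I₂)) ≠ ⊤ := by
    intro htop
    apply hne
    rw [Ideal.eq_top_iff_one, ← Ideal.mem_quotient_iff_mem hcs, htop]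
    trivial
  have hht1 := hht hne'
  refine ⟨?_, ?_⟩
  · apply le_antisymm
    · -- upper bound
      haveI hCMc : LocCoh.IsCohenMacaulayRing (MvPolynomial (Fin n) K ⧸ (I₁ ⊓ I₂)) :=
        isCohenMacaulayRing_of_isGorensteinRing _
      have hhom : (I₁ ⊓ I₂).IsHomogeneous (GrSyz.stdGr K (Fin n)) := hI₁.inf hI₂
      have hcht : (I₁ ⊓ I₂).height = c := by
        apply le_antisymm
        · rw [← h₁]
          exact Ideal.height_mono hc1
        · rw [Ideal.height_eq_inf_minimalPrimes]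
          refine le_iInf₂ fun P hP => ?_
          rcases (Ideal.IsPrime.inf_le hP.1.1).mp hP.1.2 with h | h
          · rw [← h₁]
            exact Ideal.height_mono h
          · rw [← h₂]
            exact Ideal.height_mono h
      have hfin : ((I₁ ⊔ I₂).map (Ideal.Quotient.mk (I₁ ⊓ I₂))).height ≠ ⊤ :=
        ne_top_of_le_ne_top ENat.one_ne_top hht1
      obtain ⟨k, hk⟩ := ENat.ne_top_iff_exists.mp hfin
      obtain ⟨P', hP'p, hP'le, hP'ht⟩ := Ideal.exists_isPrime_height_eq hk.symm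
      haveI := hP'p
      haveI hPp : (P'.comap (Ideal.Quotient.mk (I₁ ⊓ I₂))).IsPrime := Ideal.comap_isPrime _ _
      have hcP : I₁ ⊓ I₂ ≤ P'.comap (Ideal.Quotient.mk (I₁ ⊓ I₂)) := by
        intro y hy
        rw [Ideal.mem_comap, Ideal.Quotient.eq_zero_iff_mem.mpr hy]
        exact P'.zero_mem
      have hsP : I₁ ⊔ I₂ ≤ P'.comap (Ideal.Quotient.mk (I₁ ⊓ I₂)) :=
        Ideal.map_le_iff_le_comap.mp hP'le
      have h3 := height_eq_height_map_add_height_of_le K n (I₁ ⊓ I₂) hhom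
        (P'.comap (Ideal.Quotient.mk (I₁ ⊓ I₂))) hcP
      rw [Ideal.map_comap_of_surjective _ Ideal.Quotient.mk_surjective, hcht, hP'ht] at h3
      refine le_trans (Ideal.height_mono hsP) ?_
      rw [h3, add_comm]
      refine add_le_add le_rfl ?_
      rw [hk]
      exact hht1
    · -- lower bound
      rw [Ideal.height_eq_inf_minimalPrimes]
      refine le_iInf₂ fun P hP => ?_
      haveI hPp : P.IsPrime := hP.1.1
      by_contra hlt
      rw [not_le, ENat.lt_add_one_iff (ENat.natCast_ne_top c)] at hlt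
      obtain ⟨P₁, hP₁, hP₁le⟩ := Ideal.exists_minimalPrimes_le (le_trans le_sup_left hP.1.2)
      obtain ⟨P₂, hP₂, hP₂le⟩ := Ideal.exists_minimalPrimes_le (le_trans le_sup_right hP.1.2)
      haveI : P₁.IsPrime := hP₁.1.1
      haveI : P₂.IsPrime := hP₂.1.1
      have hP₁ht := height_eq_height_of_mem_minimalPrimes_cm K n I₁ hI₁ hP₁
      have hP₂ht := height_eq_height_of_mem_minimalPrimes_cm K n I₂ hI₂ hP₂
      have heq1 : P₁ = P := Ideal.eq_of_le_of_height_le P₁ hP₁le (by rw [hP₁ht, h₁]; exact hlt)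
      have heq2 : P₂ = P := Ideal.eq_of_le_of_height_le P₂ hP₂le (by rw [hP₂ht, h₂]; exact hlt)
      rw [heq1] at hP₁
      rw [heq2] at hP₂
      exact Set.disjoint_left.mp hdisj hP₁ hP₂
  · haveI := hGsup
    exact gorRing_of_ringEquiv (DoubleQuot.quotQuotEquivQuotOfLE hcs)

end Poly

end Groth.Agent.Lib.Helper29GorLinkSup
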