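import Mathlib
import Groth.Agent.Lib.Helper5GorEquidim

/-!
# Double annihilators in zero-dimensional Gorenstein local rings, and linkage (helper5)

* `mem_of_forall_annihilator`: in a zero-dimensional Gorenstein local ring, `0 : (0 : J) ⊆ J`.
* `colon_colon_eq`: if `R/c` is Gorenstein, `c ≤ I` and every associated prime of `R/I` has
  height at most `ht c`, then `c : (c : I) = I`.
-/

set_option autoImplicit false
universe u

namespace Groth.Agent.Lib.Helper5.GorUnmixed

open IsLocalRing

/-- In a zero-dimensional Gorenstein local ring, the double annihilator of an ideal is the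
ideal itself. -/
theorem mem_of_forall_annihilator (A : Type u) [CommRing A] [hA : LocCoh.IsGorensteinLocalRing A]
    (hdim : ringKrullDim A = 0) (J : Ideal A) (x : A)
    (hx : ∀ a : A, (∀ j ∈ J, a * j = 0) → a * x = 0) : x ∈ J := by
  by_contra hxJ
  have hinj : Module.Injective A A := by
    have h1 := (Groth.Agent.Lib.Helper29Gorenstein.depth_eq_and_hasInjectiveDimensionLT A 0
      (by rw [hdim]; rfl)).2
    have h2 : CategoryTheory.Injective (ModuleCat.of A A) :=
      CategoryTheory.injective_iff_hasInjectiveDimensionLT_one.mpr h1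
    exact (Module.injective_iff_injective_object A A).mpr h2
  -- a socle element
  obtain ⟨z, hz0, hz⟩ : ∃ z : A, z ≠ 0 ∧ ∀ a ∈ maximalIdeal A, a * z = 0 := by
    obtain ⟨Q, hQ⟩ := associatedPrimes.nonempty A A
    have hQp : Q.IsPrime := hQ.isPrime
    have hQm : Q = maximalIdeal A := by
      have : Ring.KrullDimLE 0 A := by
        rw [Ring.krullDimLE_iff]
        exact hdim.le
      exact Ring.KrullDimLE.eq_maximalIdeal_of_isPrime Q
    rw [AssociatedPrimes.mem_iff, isAssociatedPrime_iff] at hQ
    obtain ⟨_, z, hz⟩ := hQ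
    refine ⟨z, ?_, ?_⟩
    · rintro rfl
      apply hQp.ne_top
      rw [hz, Ideal.eq_top_iff_one, Submodule.mem_colon_singleton, smul_zero]
      exact Submodule.zero_mem _
    · intro a ha
      rw [← hQm, hz, Submodule.mem_colon_singleton, Submodule.mem_bot] at ha
      exact ha
  have hQm : J.colon {x} ≤ maximalIdeal A := by
    apply IsLocalRing.le_maximalIdeal
    intro htop
    apply hxJ
    have h1 : (1 : A) ∈ J.colon {x} := by rw [htop]; trivial
    rw [Submodule.mem_colon_singleton, one_smul] at h1
    exact h1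
  have hker : J.colon {x} = LinearMap.ker (J.mkQ ∘ₗ LinearMap.toSpanSingleton A A x) := by
    ext a
    rw [Submodule.mem_colon_singleton, LinearMap.mem_ker, LinearMap.comp_apply,
      LinearMap.toSpanSingleton_apply, Submodule.mkQ_apply, Submodule.Quotient.mk_eq_zero]
  have hle' : J.colon {x} ≤ LinearMap.ker (LinearMap.toSpanSingleton A A z) := by
    intro a ha
    rw [LinearMap.mem_ker, LinearMap.toSpanSingleton_apply, smul_eq_mul]
    exact hz a (hQm ha)
  have hfinj : Function.Injective ((J.colon {x}).liftQ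
      (J.mkQ ∘ₗ LinearMap.toSpanSingleton A A x) hker.le) := by
    rw [← LinearMap.ker_eq_bot]
    exact Submodule.ker_liftQ_eq_bot' _ _ hker
  obtain ⟨h, hh⟩ := hinj.out ((J.colon {x}).liftQ
      (J.mkQ ∘ₗ LinearMap.toSpanSingleton A A x) hker.le) hfinj
    ((J.colon {x}).liftQ (LinearMap.toSpanSingleton A A z) hle')
  have h1 := hh (Submodule.Quotient.mk 1)
  rw [Submodule.liftQ_apply, Submodule.liftQ_apply, LinearMap.comp_apply,
    LinearMap.toSpanSingleton_apply, LinearMap.toSpanSingleton_apply, one_smul, one_smul,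
    Submodule.mkQ_apply] at h1
  -- `a := h (mk 1)`
  have hxa : h (Submodule.Quotient.mk 1) * x = z := by
    rw [mul_comm, ← smul_eq_mul, ← map_smul, ← Submodule.Quotient.mk_smul, smul_eq_mul, mul_one]
    exact h1
  have hJa : ∀ j ∈ J, h (Submodule.Quotient.mk 1) * j = 0 := by
    intro j hj
    rw [mul_comm, ← smul_eq_mul, ← map_smul, ← Submodule.Quotient.mk_smul, smul_eq_mul, mul_one,
      (Submodule.Quotient.mk_eq_zero J).mpr hj, map_zero]
  exact hz0 (hxa ▸ hx _ hJa)

theorem exists_mul_eq_zero_of_finset {B : Type u} [CommRing B] (S : Submonoid B) (A : Type u)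
    [CommRing A] [Algebra B A] [IsLocalization S A] (b : B) (s : Finset B)
    (h : ∀ y ∈ s, algebraMap B A (b * y) = 0) : ∃ t ∈ S, ∀ y ∈ s, t * (b * y) = 0 := by
  classical
  induction s using Finset.induction_on with
  | empty => exact ⟨1, S.one_mem, fun y hy => absurd hy (Finset.notMem_empty y)⟩
  | insert y0 s hy0 ih =>
    obtain ⟨t, ht, hts⟩ := ih (fun y hy => h y (Finset.mem_insert_of_mem hy))
    obtain ⟨m, hm⟩ := (IsLocalization.map_eq_zero_iff S A (b * y0)).mp
      (h y0 (Finset.mem_insert_self y0 s))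
    refine ⟨m * t, S.mul_mem m.2 ht, fun y hy => ?_⟩
    rcases Finset.mem_insert.mp hy with rfl | hy
    · rw [mul_right_comm, hm, zero_mul]
    · rw [mul_assoc, hts y hy, mul_zero]

/-- Linkage: `c : (c : I) = I` for unmixed `I ⊇ c` of the same height with `R/c` Gorenstein. -/
theorem colon_colon_eq {R : Type u} [CommRing R] [IsNoetherianRing R] (c I : Ideal R)
    [LocCoh.IsGorensteinRing (R ⧸ c)] (hcI : c ≤ I)
    (hIu : ∀ p ∈ associatedPrimes R (R ⧸ I), p.height ≤ c.height) :
    c.colon ((c.colon (I : Set R) : Ideal R) : Set R) = I := by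
  apply le_antisymm
  swap
  · intro i hi
    rw [Submodule.mem_colon]
    intro j hj
    rw [SetLike.mem_coe, Submodule.mem_colon] at hj
    have := hj i hi
    rw [smul_eq_mul] at this ⊢
    rw [mul_comm]
    exact this
  intro x hx
  by_contra hxI
  have hx0 : (Ideal.Quotient.mk I x) ≠ 0 := by
    rwa [Ne, Ideal.Quotient.eq_zero_iff_mem]
  obtain ⟨P, hP, hle⟩ := exists_le_isAssociatedPrime_of_isNoetherianRing R
    (Ideal.Quotient.mk I x) hx0
  have hPp : P.IsPrime := hP.isPrime
  have hIP : I ≤ P := by
    intro i hi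
    apply hle
    rw [Submodule.mem_colon_singleton, Submodule.mem_bot]
    have h1 : i • (Ideal.Quotient.mk I x) = Ideal.Quotient.mk I (i * x) := rfl
    rw [h1, Ideal.Quotient.eq_zero_iff_mem]
    exact I.mul_mem_right _ hi
  have hPmin : P ∈ c.minimalPrimes :=
    Ideal.mem_minimalPrimes_of_height_le (hcI.trans hIP) (hIu P hP)
  obtain ⟨P', hP'min, hP'eq⟩ := exists_of_mem_minimalPrimes c hPmin
  have hP'p : P'.IsPrime := hP'min.1.1
  have hG : LocCoh.IsGorensteinLocalRing (Localization.AtPrime P') :=
    LocCoh.IsGorensteinRing.isGorensteinLocalRing_localization P'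
  have hdim : ringKrullDim (Localization.AtPrime P') = 0 := by
    rw [IsLocalization.AtPrime.ringKrullDim_eq_height P', Ideal.height_eq_zero_iff.mpr hP'min]
    rfl
  -- generators of `I/c`
  obtain ⟨s, hs⟩ := (isNoetherianRing_iff_ideal_fg (R ⧸ c)).mp inferInstance
    (I.map (Ideal.Quotient.mk c))
  have hmem := mem_of_forall_annihilator (Localization.AtPrime P') hdim
    ((I.map (Ideal.Quotient.mk c)).map (algebraMap (R ⧸ c) (Localization.AtPrime P')))
    (algebraMap (R ⧸ c) (Localization.AtPrime P') (Ideal.Quotient.mk c x)) ?_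
  · rw [IsLocalization.mem_map_algebraMap_iff P'.primeCompl] at hmem
    obtain ⟨⟨⟨i', hi'⟩, ⟨s', hs'⟩⟩, he⟩ := hmem
    simp only at he
    rw [← map_mul, ← sub_eq_zero, ← map_sub,
      IsLocalization.map_eq_zero_iff P'.primeCompl (Localization.AtPrime P')] at he
    obtain ⟨⟨t, ht⟩, he⟩ := he
    simp only at he
    rw [mul_sub, sub_eq_zero] at he
    obtain ⟨r, hr⟩ := Ideal.Quotient.mk_surjective (t * s')
    have hrP : r ∉ P := by
      rw [← hP'eq, Ideal.mem_comap, hr]
      exact P'.primeCompl.mul_mem ht hs'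
    apply hrP
    apply hle
    rw [Submodule.mem_colon_singleton, Submodule.mem_bot]
    have h1 : r • (Ideal.Quotient.mk I x) = Ideal.Quotient.mk I (r * x) := rfl
    rw [h1, Ideal.Quotient.eq_zero_iff_mem]
    have h2 : Ideal.Quotient.mk c (r * x) ∈ I.map (Ideal.Quotient.mk c) := by
      have h2' : t * s' * Ideal.Quotient.mk c x = t * i' := by
        rw [← he]
        ring
      rw [map_mul, hr, h2']
      exact Ideal.mul_mem_left _ _ hi'
    have h3 : r * x ∈ (I.map (Ideal.Quotient.mk c)).comap (Ideal.Quotient.mk c) := h2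
    rw [Ideal.comap_map_of_surjective _ Ideal.Quotient.mk_surjective,
      ← RingHom.ker_eq_comap_bot, Ideal.mk_ker, sup_eq_left.mpr hcI] at h3
    exact h3
  · intro a ha
    obtain ⟨⟨b, ⟨s', hs'⟩⟩, hab⟩ := IsLocalization.surj P'.primeCompl a
    simp only at hab
    have hzero : ∀ y ∈ s, algebraMap (R ⧸ c) (Localization.AtPrime P') (b * y) = 0 := by
      intro y hy
      have hyI : y ∈ I.map (Ideal.Quotient.mk c) := by
        rw [← hs]
        exact Ideal.subset_span hy
      rw [map_mul, ← hab, mul_right_comm, ha _ (Ideal.mem_map_of_mem _ hyI), zero_mul]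
    obtain ⟨t, ht, hts⟩ := exists_mul_eq_zero_of_finset P'.primeCompl
      (Localization.AtPrime P') b s hzero
    have hall : ∀ y ∈ I.map (Ideal.Quotient.mk c), t * b * y = 0 := by
      have hle2 : I.map (Ideal.Quotient.mk c) ≤ (⊥ : Ideal (R ⧸ c)).colon {t * b} := by
        rw [← hs, Ideal.span_le]
        intro y hy
        rw [SetLike.mem_coe, Submodule.mem_colon_singleton, Submodule.mem_bot, smul_eq_mul,
          mul_comm, mul_assoc]
        exact hts y hy
      intro y hy
      have := hle2 hy
      rw [Submodule.mem_colon_singleton, Submodule.mem_bot, smul_eq_mul, mul_comm] at this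
      exact this
    obtain ⟨r, hr⟩ := Ideal.Quotient.mk_surjective (t * b)
    have hrc : r ∈ c.colon (I : Set R) := by
      rw [Submodule.mem_colon]
      intro i hi
      rw [smul_eq_mul, ← Ideal.Quotient.eq_zero_iff_mem, map_mul, hr]
      exact hall _ (Ideal.mem_map_of_mem _ hi)
    have hxr : x * r ∈ c := by
      rw [Submodule.mem_colon] at hx
      exact hx r hrc
    have hzero2 : t * b * Ideal.Quotient.mk c x = 0 := by
      rw [← hr, ← map_mul, Ideal.Quotient.eq_zero_iff_mem, mul_comm]
      exact hxr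
    have hu : IsUnit (algebraMap (R ⧸ c) (Localization.AtPrime P') (s' * t)) :=
      IsLocalization.map_units (Localization.AtPrime P')
        (⟨s' * t, P'.primeCompl.mul_mem hs' ht⟩ : P'.primeCompl)
    apply (hu.mul_right_eq_zero).mp
    rw [map_mul, mul_comm (algebraMap _ _ s'), mul_assoc, ← mul_assoc (algebraMap _ _ s'),
      mul_comm (algebraMap _ _ s') a, hab, ← map_mul, ← map_mul, ← mul_assoc, hzero2, map_zero]

end Groth.Agent.Lib.Helper5.GorUnmixed
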