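import Mathlib
import Groth.Agent.Lib.Helper29GorLinkSup
import Groth.Agent.S0342
import Groth.Agent.Lib.Helper29GorAnn
import Groth.Agent.Lib.Helper5GorDual

/-! Murthy's theorem: a Cohen–Macaulay unique factorization domain which is a quotient of a
Gorenstein local ring is Gorenstein (helper29). -/

set_option autoImplicit false
set_option linter.style.haveILetI false
universe u
open CategoryTheory CategoryTheory.Abelian IsLocalRing

namespace Groth.Agent.Lib.Helper29Murthy

open Groth.Agent.Lib.Helper28 Groth.Agent.Lib.Helper29MCMDual Groth.Agent.Lib.Helper29GorLink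
  Groth.Agent.Lib.Helper29GorLinkSup

section HeightOne

variable (A : Type u) [CommRing A] [IsNoetherianRing A] [IsLocalRing A] (n : ℕ)
  (hn : ringKrullDim A = n)

include hn in
theorem height_le_one_of_le_depth_add_one (I : Ideal A) (hne : I ≠ ⊤)
    (hD : (n : ℕ∞) ≤ LocCoh.depth A (A ⧸ I) + 1) : I.height ≤ 1 := by
  haveI hnt : Nontrivial (A ⧸ I) := Submodule.Quotient.nontrivial_iff.mpr hne
  have h1 : ((LocCoh.depth A (A ⧸ I) : ℕ∞) : WithBot ℕ∞) ≤
      Module.supportDim A (A ⧸ I) := depth_le_supportDim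
  rw [Module.supportDim_quotient_eq_ringKrullDim] at h1
  have h2 := height_add_ringKrullDim_quotient_le I hne
  rw [hn] at h2
  have h3 : ((I.height + LocCoh.depth A (A ⧸ I) : ℕ∞) : WithBot ℕ∞) ≤
      ((n : ℕ∞) : WithBot ℕ∞) := by
    rw [WithBot.coe_add]
    exact le_trans (add_le_add le_rfl h1) h2
  have h4 : I.height + LocCoh.depth A (A ⧸ I) ≤ (n : ℕ∞) := WithBot.coe_le_coe.mp h3
  have hfin : LocCoh.depth A (A ⧸ I) ≠ ⊤ := by
    intro htop
    rw [htop, add_top] at h4
    exact absurd (top_le_iff.mp h4) (ENat.natCast_ne_top n)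
  have h5 : I.height + LocCoh.depth A (A ⧸ I) ≤ 1 + LocCoh.depth A (A ⧸ I) := by
    rw [add_comm 1]
    exact le_trans h4 hD
  exact (ENat.add_le_add_iff_right hfin).mp h5

include hn in
/-- A proper ideal which is maximal Cohen–Macaulay as a module, in a local ring of depth `≥ n`
and dimension `n`, has height at most one. -/
theorem height_le_one_of_depth (I : Ideal A) (hne : I ≠ ⊤)
    (hdA : (n : ℕ∞) ≤ LocCoh.depth A A) (hdI : (n : ℕ∞) ≤ LocCoh.depth A I) : I.height ≤ 1 := by
  apply height_le_one_of_le_depth_add_one A n hn I hne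
  have h1 := min_idealDepth_le_right (maximalIdeal A) (Submodule.subtype I) (Submodule.mkQ I)
    (Submodule.injective_subtype I) (Submodule.mkQ_surjective I) (LinearMap.exact_subtype_mkQ I)
  have h2 : (n : ℕ∞) - 1 ≤ LocCoh.depth A (A ⧸ I) :=
    le_trans (le_min (le_trans tsub_le_self hdA) (tsub_le_tsub_right hdI 1)) h1
  exact tsub_le_iff_right.mp h2

end HeightOne

section UFD

variable {A : Type u} [CommRing A] [IsDomain A] [UniqueFactorizationMonoid A]

/-- In a UFD, a nonzero ideal `I` has a "greatest common divisor" `g`: `I ⊆ (g)` and `I : g` is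
contained in no principal prime ideal. -/
theorem exists_gcd (I : Ideal A) (hI : I ≠ ⊥) :
    ∃ g : A, g ≠ 0 ∧ I ≤ Ideal.span {g} ∧
      ∀ π : A, Prime π → ¬ (I.colon {g} ≤ Ideal.span {π}) := by
  obtain ⟨y₀, hy₀I, hy₀⟩ := Submodule.exists_mem_ne_zero_of_ne_bot hI
  let 𝒮 : Set A := {h | ∃ g, y₀ = g * h ∧ I ≤ Ideal.span {g}}
  have hne : 𝒮.Nonempty := ⟨y₀, 1, (one_mul _).symm, by rw [Ideal.span_singleton_one]; exact le_top⟩
  obtain ⟨h, ⟨g, hgh, hIg⟩, hmin⟩ := (wellFounded_dvdNotUnit (α := A)).has_min 𝒮 hne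
  have hg0 : g ≠ 0 := by
    rintro rfl
    rw [zero_mul] at hgh
    exact hy₀ hgh
  have hh0 : h ≠ 0 := by
    rintro rfl
    rw [mul_zero] at hgh
    exact hy₀ hgh
  refine ⟨g, hg0, hIg, fun π hπ hle => ?_⟩
  have hI2 : I ≤ Ideal.span {g * π} := by
    intro y hy
    obtain ⟨x, hx⟩ := Ideal.mem_span_singleton'.mp (hIg hy)
    have hxI : x ∈ I.colon {g} := by
      rw [Submodule.mem_colon_singleton, smul_eq_mul, hx]
      exact hy
    obtain ⟨x', hx'⟩ := Ideal.mem_span_singleton'.mp (hle hxI)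
    rw [Ideal.mem_span_singleton']
    refine ⟨x', ?_⟩
    rw [← hx, ← hx']
    ring
  obtain ⟨h', hh'⟩ := Ideal.mem_span_singleton'.mp (hI2 hy₀I)
  have hh : h = π * h' := by
    apply mul_left_cancel₀ hg0
    rw [← hgh, ← hh']
    ring
  have hh'0 : h' ≠ 0 := by
    rintro rfl
    rw [mul_zero] at hh
    exact hh0 hh
  apply hmin h' ⟨g * π, by rw [← hh']; ring, hI2⟩
  exact ⟨hh'0, π, hπ.not_unit, by rw [hh]; ring⟩

/-- In a Noetherian UFD, a nonzero ideal `I` is isomorphic (by division by `g`) to an ideal `I : g`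
which is the unit ideal as soon as it has height at most one. -/
theorem colon_eq_top_of_height_le_one [IsNoetherianRing A] (I : Ideal A) (g : A)
    (hIne : I ≠ ⊥) (hIg : I ≤ Ideal.span {g})
    (hπ : ∀ π : A, Prime π → ¬ (I.colon {g} ≤ Ideal.span {π}))
    (hht : (I.colon {g}).height ≤ 1) : I.colon {g} = ⊤ := by
  by_contra hne
  have hfin : (I.colon {g}).height ≠ ⊤ := ne_top_of_le_ne_top ENat.one_ne_top hht
  obtain ⟨k, hk⟩ := ENat.ne_top_iff_exists.mp hfin
  obtain ⟨Q, hQp, hQle, hQht⟩ := Ideal.exists_isPrime_height_eq hk.symm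
  haveI := hQp
  have hI''ne : I.colon {g} ≠ ⊥ := by
    obtain ⟨y, hyI, hy0⟩ := Submodule.exists_mem_ne_zero_of_ne_bot hIne
    obtain ⟨x, hx⟩ := Ideal.mem_span_singleton'.mp (hIg hyI)
    intro hbot
    have hxI : x ∈ I.colon {g} := by
      rw [Submodule.mem_colon_singleton, smul_eq_mul, hx]
      exact hyI
    rw [hbot, Ideal.mem_bot] at hxI
    rw [hxI, zero_mul] at hx
    exact hy0 hx.symm
  have hQne : Q ≠ ⊥ := by
    intro hbot
    rw [hbot] at hQle
    exact hI''ne (le_bot_iff.mp hQle)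
  obtain ⟨π, hπQ, hπp⟩ := Ideal.IsPrime.exists_mem_prime_of_ne_bot hQp hQne
  haveI hspp : (Ideal.span {π}).IsPrime := (Ideal.span_singleton_prime hπp.ne_zero).mpr hπp
  have hsple : Ideal.span {π} ≤ Q := (Ideal.span_singleton_le_iff_mem _).mpr hπQ
  have hspht : 1 ≤ (Ideal.span {π}).height := by
    have hbotp : (⊥ : Ideal A).IsPrime := Ideal.isPrime_bot
    have hlt : (⊥ : Ideal A) < Ideal.span {π} := by
      rw [bot_lt_iff_ne_bot, Ne, Ideal.span_singleton_eq_bot]
      exact hπp.ne_zero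
    have := Ideal.height_strict_mono_of_isPrime hlt
    exact Order.one_le_iff_pos.mpr (lt_of_le_of_lt bot_le this)
  have heq : Ideal.span {π} = Q := Ideal.eq_of_le_of_height_le _ hsple (by
    rw [hQht, hk]
    exact le_trans hht hspht)
  apply hπ π hπp
  rw [heq]
  exact hQle

end UFD

section Pieces

variable {B : Type u} [CommRing B] (p : Ideal B)

/-- `Hom_B(B/p, B) ≃ ann p`. -/
noncomputable def dualEquivAnn [IsNoetherianRing B] :
    ((B ⧸ p) →ₗ[B] B) ≃ₗ[B] ((⊥ : Ideal B).colon (p : Set B) : Ideal B) := by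
  let ev : ((B ⧸ p) →ₗ[B] B) →ₗ[B] B := LinearMap.applyₗ (Submodule.Quotient.mk 1 : B ⧸ p)
  have hinj : Function.Injective ev := by
    rw [← LinearMap.ker_eq_bot, LinearMap.ker_eq_bot']
    intro f hf
    have hf1 : f (Submodule.Quotient.mk 1) = 0 := hf
    apply LinearMap.ext
    intro x
    obtain ⟨x, rfl⟩ := Submodule.Quotient.mk_surjective _ x
    have : (Submodule.Quotient.mk x : B ⧸ p) = x • Submodule.Quotient.mk 1 := by
      rw [← Submodule.Quotient.mk_smul, smul_eq_mul, mul_one]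
    rw [this, map_smul, hf1, smul_zero, LinearMap.zero_apply]
  have hrange : LinearMap.range ev = ((⊥ : Ideal B).colon (p : Set B) : Ideal B) := by
    ext r
    rw [Submodule.mem_colon]
    constructor
    · rintro ⟨f, rfl⟩ y hy
      rw [Submodule.mem_bot, smul_eq_mul, mul_comm]
      change y • f (Submodule.Quotient.mk 1) = 0
      rw [← map_smul, ← Submodule.Quotient.mk_smul, smul_eq_mul, mul_one,
        (Submodule.Quotient.mk_eq_zero p).mpr hy, map_zero]
    · intro hr
      have hbx : ∀ y ∈ p, y * r = 0 := by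
        intro y hy
        have := hr y hy
        rwa [Submodule.mem_bot, smul_eq_mul, mul_comm] at this
      refine ⟨mulX B p r hbx, ?_⟩
      change mulX B p r hbx (Ideal.Quotient.mk p 1) = r
      rw [mulX_mk, one_mul]
  exact (LinearEquiv.ofInjective ev hinj).trans (LinearEquiv.ofEq _ _ hrange)

/-- torsion-freeness: if all associated primes of `B` are minimal, `p` is prime and `z ≠ 0` is
killed by `p`, then `ann z ⊆ p`. -/
theorem mem_of_mul_eq_zero [IsNoetherianRing B] [hp : p.IsPrime]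
    (hAss : ∀ Q ∈ associatedPrimes B B, Q ∈ minimalPrimes B) (z : B) (hz : z ≠ 0)
    (hzp : ∀ y ∈ p, y * z = 0) (t : B) (ht : t * z = 0) : t ∈ p := by
  obtain ⟨Q, hQ, hle⟩ := exists_le_isAssociatedPrime_of_isNoetherianRing B z hz
  have hQmin := hAss Q hQ
  have hpQ : p ≤ Q := by
    intro y hy
    apply hle
    rw [Submodule.mem_colon_singleton, Submodule.mem_bot, smul_eq_mul]
    exact hzp y hy
  have hQp : Q ≤ p := hQmin.2 ⟨hp, bot_le⟩ hpQ
  apply hQp
  apply hle
  rw [Submodule.mem_colon_singleton, Submodule.mem_bot, smul_eq_mul]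
  exact ht

/-- rank one: the annihilator of a height zero prime `p` in a Gorenstein ring is generically
generated by any `z` with `ann z = p`. -/
theorem exists_mul_eq_mul [hB : LocCoh.IsGorensteinRing B] [hp : p.IsPrime] (hpht : p.height = 0)
    (z : B) (hz : ∀ t, t * z = 0 → t ∈ p) (w : B) (hw : ∀ y ∈ p, y * w = 0) :
    ∃ s, s ∉ p ∧ ∃ r, s * w = r * z := by
  haveI hG : LocCoh.IsGorensteinLocalRing (Localization.AtPrime p) :=
    hB.isGorensteinLocalRing_localization p
  have hdim : ringKrullDim (Localization.AtPrime p) = 0 := by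
    rw [IsLocalization.AtPrime.ringKrullDim_eq_height p, hpht]
    rfl
  have hmem := Groth.Agent.Lib.Helper5.GorUnmixed.mem_of_forall_annihilator
    (Localization.AtPrime p) hdim
    (Ideal.span {algebraMap B (Localization.AtPrime p) z})
    (algebraMap B (Localization.AtPrime p) w) ?_
  · obtain ⟨c, hc⟩ := Ideal.mem_span_singleton'.mp hmem
    obtain ⟨r, s, rfl⟩ := IsLocalization.exists_mk'_eq p.primeCompl c
    have h1 : algebraMap B (Localization.AtPrime p) (r * z) =
        algebraMap B (Localization.AtPrime p) (s * w) := by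
      rw [map_mul, map_mul, ← hc, ← mul_assoc, IsLocalization.mk'_spec']
    rw [← sub_eq_zero, ← map_sub,
      IsLocalization.map_eq_zero_iff p.primeCompl (Localization.AtPrime p)] at h1
    obtain ⟨t, ht⟩ := h1
    refine ⟨t * s, p.primeCompl.mul_mem t.2 s.2, t * r, ?_⟩
    rw [mul_sub, sub_eq_zero] at ht
    rw [mul_assoc, mul_assoc, ht]
  · intro a ha
    have haz : a * algebraMap B (Localization.AtPrime p) z = 0 :=
      ha _ (Ideal.subset_span rfl)
    have hamax : a ∈ maximalIdeal (Localization.AtPrime p) := by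
      rw [mem_maximalIdeal, mem_nonunits_iff]
      intro hu
      have hz0 : algebraMap B (Localization.AtPrime p) z = 0 := (hu.mul_right_eq_zero).mp haz
      rw [IsLocalization.map_eq_zero_iff p.primeCompl (Localization.AtPrime p)] at hz0
      obtain ⟨t, ht⟩ := hz0
      exact t.2 (hz t ht)
    rw [← Localization.AtPrime.map_eq_maximalIdeal] at hamax
    have hle : p.map (algebraMap B (Localization.AtPrime p)) ≤
        (⊥ : Ideal (Localization.AtPrime p)).colon
          {algebraMap B (Localization.AtPrime p) w} := by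
      rw [Ideal.map_le_iff_le_comap]
      intro y hy
      rw [Ideal.mem_comap, Submodule.mem_colon_singleton, Submodule.mem_bot, smul_eq_mul,
        ← map_mul, hw y hy, map_zero]
    have := hle hamax
    rwa [Submodule.mem_colon_singleton, Submodule.mem_bot, smul_eq_mul] at this

/-- a common denominator -/
theorem exists_common_mul [IsNoetherianRing B] [hp : p.IsPrime] (b : Ideal B) (z : B)
    (h : ∀ w ∈ b, ∃ s, s ∉ p ∧ ∃ r, s * w = r * z) :
    ∃ s, s ∉ p ∧ ∀ w ∈ b, ∃ r, s * w = r * z := by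
  classical
  obtain ⟨S, hS⟩ : b.FG := IsNoetherian.noetherian b
  have key : ∀ T : Finset B, (∀ w ∈ T, w ∈ b) → ∃ s, s ∉ p ∧ ∀ w ∈ T, ∃ r, s * w = r * z := by
    intro T
    induction T using Finset.induction_on with
    | empty => intro _; exact ⟨1, hp.one_notMem, fun w hw => absurd hw (Finset.notMem_empty w)⟩
    | insert w T hw ih =>
      intro hT
      obtain ⟨s1, hs1, h1⟩ := ih (fun w' hw' => hT w' (Finset.mem_insert_of_mem hw'))
      obtain ⟨s2, hs2, r2, h2⟩ := h w (hT w (Finset.mem_insert_self w T))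
      refine ⟨s1 * s2, fun hmem => (hp.mem_or_mem hmem).elim hs1 hs2, fun w' hw' => ?_⟩
      rcases Finset.mem_insert.mp hw' with rfl | hw''
      · exact ⟨s1 * r2, by rw [mul_assoc, h2, mul_assoc]⟩
      · obtain ⟨r1, hr1⟩ := h1 w' hw''
        exact ⟨s2 * r1, by rw [mul_comm s1 s2, mul_assoc, hr1, mul_assoc]⟩
  obtain ⟨s, hs, hsS⟩ := key S (fun w hw => hS ▸ Ideal.subset_span hw)
  refine ⟨s, hs, fun w hw => ?_⟩
  rw [← hS] at hw
  refine Submodule.span_induction (p := fun w _ => ∃ r, s * w = r * z) ?_ ?_ ?_ ?_ hw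
  · intro w hw
    exact hsS w hw
  · exact ⟨0, by rw [mul_zero, zero_mul]⟩
  · rintro w1 w2 _ _ ⟨r1, h1⟩ ⟨r2, h2⟩
    exact ⟨r1 + r2, by rw [mul_add, h1, h2, add_mul]⟩
  · rintro c w _ ⟨r, h1⟩
    exact ⟨c * r, by rw [smul_eq_mul, mul_left_comm, h1, mul_assoc]⟩

/-- the embedding of `b` into `B/p` -/
theorem exists_embedding [IsNoetherianRing B] (b : Ideal B) (z s : B)
    (hbx : ∀ r, r ∈ p ↔ r * z = 0) (hs : ∀ w ∈ b, ∃ r, s * w = r * z)
    (htf : ∀ w ∈ b, s * w = 0 → w = 0) :
    ∃ φ : b →ₗ[B] (B ⧸ p), Function.Injective φ := by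
  have hμ := mulX_injective B p z hbx
  set μ := mulX B p z (fun r hr => (hbx r).mp hr) with hμdef
  let e := LinearEquiv.ofInjective μ hμ
  let g : b →ₗ[B] B := (LinearMap.lsmul B B s) ∘ₗ b.subtype
  have hmem : ∀ w, g w ∈ LinearMap.range μ := by
    intro w
    obtain ⟨r, hr⟩ := hs w w.2
    refine ⟨Ideal.Quotient.mk p r, ?_⟩
    change μ (Ideal.Quotient.mk p r) = s * (w : B)
    rw [hr]
    rfl
  let φ : b →ₗ[B] (B ⧸ p) := e.symm.toLinearMap ∘ₗ g.codRestrict _ hmem
  have hφ : ∀ w : b, μ (φ w) = s * (w : B) := by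
    intro w
    have h1 : e (φ w) = g.codRestrict _ hmem w := e.apply_symm_apply _
    have h2 : ((e (φ w) : LinearMap.range μ) : B) = μ (φ w) := rfl
    rw [← h2, h1]
    rfl
  refine ⟨φ, ?_⟩
  rw [← LinearMap.ker_eq_bot, LinearMap.ker_eq_bot']
  intro w hw
  have h3 := hφ w
  rw [hw, map_zero] at h3
  exact Subtype.ext (htf w w.2 h3.symm)

end Pieces

section Base

variable (B : Type u) [CommRing B] [hB : LocCoh.IsGorensteinLocalRing B] (n : ℕ)
  (hn : ringKrullDim B = n)

include hn in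
/-- Base case: `p` an associated (hence minimal) prime of the Gorenstein local ring `B` with `B/p`
a Cohen–Macaulay UFD. Then `B/p` is Gorenstein. -/
theorem gorLocal_quotient_of_mem_associatedPrimes (p : Ideal B) [hp : p.IsPrime]
    (hpass : p ∈ associatedPrimes B B) [hU : UniqueFactorizationMonoid (B ⧸ p)]
    [hCM : LocCoh.IsCohenMacaulayLocalRing (B ⧸ p)] : LocCoh.IsGorensteinLocalRing (B ⧸ p) := by
  haveI hN : IsNoetherianRing B := inferInstance
  haveI hGR : LocCoh.IsGorensteinRing B :=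
    Groth.Agent.Lib.Helper29.GorAnn.isGorensteinRing_of_isGorensteinLocalRing B
  haveI hCMR : LocCoh.IsCohenMacaulayRing B :=
    Groth.Agent.Lib.Helper5.GorUnmixed.isCohenMacaulayRing_of_isGorensteinRing B
  have hAss : ∀ Q ∈ associatedPrimes B B, Q ∈ minimalPrimes B := fun Q hQ =>
    mem_minimalPrimes_of_mem_associatedPrimes_cm B hQ
  have hpmin : p ∈ minimalPrimes B := hAss p hpass
  have hpht : p.height = 0 := Ideal.height_eq_zero_iff.mpr hpmin
  -- dimension and depth of `B/p`
  have hdB : LocCoh.depth B B = n := depth_self_eq B n hn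
  have h1 := Groth.Agent.Lib.Helper5.depth_le_ringKrullDim_quotient (A := B) (M := B) hpass
  rw [hdB] at h1
  have hnA : ringKrullDim (B ⧸ p) = n := by
    apply le_antisymm _ h1
    have h2 := ringKrullDim_le_of_surjective (Ideal.Quotient.mk p) Ideal.Quotient.mk_surjective
    rw [hn] at h2
    exact h2
  have hdAA : LocCoh.depth (B ⧸ p) (B ⧸ p) = n := by
    have h2 := hCM.supportDim_eq_depth
    rw [Module.supportDim_self_eq_ringKrullDim, hnA] at h2
    have h3 : ((n : ℕ∞) : WithBot ℕ∞) =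
        ((LocCoh.depth (B ⧸ p) (B ⧸ p) : ℕ∞) : WithBot ℕ∞) := h2
    exact (WithBot.coe_injective h3).symm
  have hdepth : (n : ℕ∞) ≤ LocCoh.depth B (B ⧸ p) := by
    rw [← depth_quotient_self_eq p, hdAA]
  -- the annihilator `b` of `p`
  obtain ⟨b, hbdef⟩ : ∃ b : Ideal B, b = ((⊥ : Ideal B).colon (p : Set B) : Ideal B) := ⟨_, rfl⟩
  have hbmem : ∀ r, r ∈ b ↔ ∀ y ∈ p, y * r = 0 := by
    intro r
    rw [hbdef, Submodule.mem_colon]
    constructor
    · intro h y hy
      have := h y hy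
      rwa [Submodule.mem_bot, smul_eq_mul, mul_comm] at this
    · intro h y hy
      rw [Submodule.mem_bot, smul_eq_mul, mul_comm]
      exact h y hy
  have hdb : (n : ℕ∞) ≤ LocCoh.depth B b := by
    have h2 := le_depth_dual B n hn (B ⧸ p) hdepth
    have h3 : LocCoh.depth B ((B ⧸ p) →ₗ[B] B) = LocCoh.depth B b := by
      rw [hbdef]
      exact idealDepth_congr (dualEquivAnn p) (maximalIdeal B)
    rwa [h3] at h2
  -- a generator of the generic socle
  rw [AssociatedPrimes.mem_iff, isAssociatedPrime_iff] at hpass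
  obtain ⟨-, z, hz⟩ := hpass
  have hzann : ∀ r, r ∈ p ↔ r * z = 0 := by
    intro r
    rw [hz, Submodule.mem_colon_singleton, Submodule.mem_bot, smul_eq_mul]
  have hz0 : z ≠ 0 := by
    rintro rfl
    apply hp.ne_top
    rw [Ideal.eq_top_iff_one, hzann, mul_zero]
  have hrank : ∀ w ∈ b, ∃ s, s ∉ p ∧ ∃ r, s * w = r * z := fun w hw =>
    exists_mul_eq_mul p hpht z (fun t ht => (hzann t).mpr ht) w ((hbmem w).mp hw)
  obtain ⟨s, hsp, hs⟩ := exists_common_mul p b z hrank
  have htf : ∀ w ∈ b, s * w = 0 → w = 0 := by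
    intro w hw hsw
    by_contra hw0
    exact hsp (mem_of_mul_eq_zero p hAss w hw0 ((hbmem w).mp hw) s hsw)
  obtain ⟨φ, hφ⟩ := exists_embedding p b z s hzann hs htf
  -- the image ideal
  haveI : IsDomain (B ⧸ p) := Ideal.Quotient.isDomain p
  let I : Ideal (B ⧸ p) :=
    { carrier := Set.range φ
      add_mem' := by
        rintro _ _ ⟨w1, rfl⟩ ⟨w2, rfl⟩
        exact ⟨w1 + w2, map_add _ _ _⟩
      zero_mem' := ⟨0, map_zero _⟩
      smul_mem' := by
        rintro c _ ⟨w, rfl⟩
        obtain ⟨c, rfl⟩ := Ideal.Quotient.mk_surjective c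
        exact ⟨c • w, by rw [map_smul]; rfl⟩ }
  have hImem : ∀ x, x ∈ I ↔ ∃ w, φ w = x := fun x => Iff.rfl
  have hzb : z ∈ b := (hbmem z).mpr (fun y hy => (hzann y).mp hy)
  have hIne : I ≠ ⊥ := by
    intro hbot
    have h2 : φ ⟨z, hzb⟩ ∈ I := ⟨_, rfl⟩
    rw [hbot, Ideal.mem_bot] at h2
    have h3 : (⟨z, hzb⟩ : b) = 0 := hφ (by rw [h2, map_zero])
    exact hz0 (congrArg Subtype.val h3)
  obtain ⟨g, hg0, hIg, hπ⟩ := exists_gcd I hIne
  -- `b ≃ I : g`
  let mg : (I.colon {g} : Ideal (B ⧸ p)) →ₗ[B] (B ⧸ p) :=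
    ((LinearMap.lsmul (B ⧸ p) (B ⧸ p) g).restrictScalars B) ∘ₗ
      ((I.colon {g}).subtype.restrictScalars B)
  have hmg : ∀ x : (I.colon {g} : Ideal (B ⧸ p)), mg x = g * (x : B ⧸ p) := fun x => rfl
  have hmginj : Function.Injective mg := by
    rw [← LinearMap.ker_eq_bot, LinearMap.ker_eq_bot']
    intro x hx
    rw [hmg] at hx
    exact Subtype.ext ((mul_eq_zero.mp hx).resolve_left hg0)
  have hrange : LinearMap.range φ = LinearMap.range mg := by
    ext y
    constructor
    · rintro ⟨w, rfl⟩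
      have hyI : φ w ∈ I := ⟨w, rfl⟩
      obtain ⟨x, hx⟩ := Ideal.mem_span_singleton'.mp (hIg hyI)
      have hxI : x ∈ I.colon {g} := by
        rw [Submodule.mem_colon_singleton, smul_eq_mul, hx]
        exact hyI
      exact ⟨⟨x, hxI⟩, by rw [hmg, ← hx, mul_comm]⟩
    · rintro ⟨x, rfl⟩
      have := x.2
      rw [Submodule.mem_colon_singleton, smul_eq_mul] at this
      obtain ⟨w, hw⟩ := this
      exact ⟨w, by rw [hw, hmg, mul_comm]⟩
  let e : b ≃ₗ[B] (I.colon {g} : Ideal (B ⧸ p)) :=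
    (LinearEquiv.ofInjective φ hφ).trans ((LinearEquiv.ofEq _ _ hrange).trans
      (LinearEquiv.ofInjective mg hmginj).symm)
  have hdI : (n : ℕ∞) ≤ LocCoh.depth (B ⧸ p) (I.colon {g} : Ideal (B ⧸ p)) := by
    haveI : IsLocalHom (algebraMap B (B ⧸ p)) :=
      isLocalHom_of_le_jacobson_bot _ (le_trans (IsLocalRing.le_maximalIdeal hp.ne_top)
        (IsLocalRing.maximalIdeal_le_jacobson ⊥))
    haveI : Module.Finite B (I.colon {g} : Ideal (B ⧸ p)) := Module.Finite.trans (B ⧸ p) _
    rw [← depth_eq_depth_of_isLocalHom_of_finite (A := B) (B := B ⧸ p)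
      (M := (I.colon {g} : Ideal (B ⧸ p)))]
    have h2 : LocCoh.depth B b = LocCoh.depth B (I.colon {g} : Ideal (B ⧸ p)) :=
      idealDepth_congr e (maximalIdeal B)
    rw [← h2]
    exact hdb
  have htop : I.colon {g} = ⊤ := by
    by_contra hne
    have hht := height_le_one_of_depth (B ⧸ p) n hnA (I.colon {g}) hne (le_of_eq hdAA.symm) hdI
    exact hne (colon_eq_top_of_height_le_one I g hIne hIg hπ hht)
  -- the generator `y`
  have hgI : g ∈ I := by
    have h2 : (1 : B ⧸ p) ∈ I.colon {g} := by rw [htop]; trivial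
    rwa [Submodule.mem_colon_singleton, one_smul] at h2
  obtain ⟨y, hy⟩ := hgI
  have hbx : ∀ r, r ∈ p ↔ r * (y : B) = 0 := by
    intro r
    constructor
    · intro hr
      have := (hbmem y).mp y.2 r hr
      exact this
    · intro hr
      have h2 : φ (r • y) = 0 := by
        have : r • y = 0 := Subtype.ext (by rw [Submodule.coe_smul, smul_eq_mul, hr]; rfl)
        rw [this, map_zero]
      rw [map_smul, hy] at h2
      have h3 : Ideal.Quotient.mk p r * g = 0 := h2
      exact Ideal.Quotient.eq_zero_iff_mem.mp ((mul_eq_zero.mp h3).resolve_right hg0)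
  have hxb : ∀ r : B, (∀ t ∈ p, r * t = 0) → ∃ c, r = c * (y : B) := by
    intro r hr
    have hrb : r ∈ b := (hbmem r).mpr (fun t ht => by rw [mul_comm]; exact hr t ht)
    have h2 : φ ⟨r, hrb⟩ ∈ I := ⟨_, rfl⟩
    obtain ⟨c, hc⟩ := Ideal.mem_span_singleton'.mp (hIg h2)
    obtain ⟨c, rfl⟩ := Ideal.Quotient.mk_surjective c
    refine ⟨c, ?_⟩
    have h3 : φ ⟨r, hrb⟩ = φ (c • y) := by
      rw [map_smul, hy, ← hc]
      rfl
    have h4 := hφ h3
    have h5 := congrArg Subtype.val h4
    exact h5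
  exact gorLocal_quotient_of_depth B n hn p (y : B) hp.ne_top hbx hxb hdepth

end Base

section Induction

theorem mem_associatedPrimes_of_no_regular {B : Type u} [CommRing B] [IsNoetherianRing B]
    (p : Ideal B) [hp : p.IsPrime]
    (hAss : ∀ Q ∈ associatedPrimes B B, Q ∈ minimalPrimes B)
    (h : ∀ x ∈ p, ¬ IsSMulRegular B x) : p ∈ associatedPrimes B B := by
  have hsub : (p : Set B) ⊆ ⋃ Q ∈ associatedPrimes B B, (Q : Set B) := by
    rw [biUnion_associatedPrimes_eq_compl_regular B B]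
    exact fun x hx => h x hx
  obtain ⟨Q, hQ, hpQ⟩ := (Ideal.subset_union_prime_finite (associatedPrimes.finite B B)
    (f := fun q : Ideal B => q) ⊥ ⊥ (fun q hq _ _ => IsAssociatedPrime.isPrime hq)).mp hsub
  have hQp : Q ≤ p := (hAss Q hQ).2 ⟨hp, bot_le⟩ hpQ
  rwa [le_antisymm hpQ hQp]

/-- Murthy's theorem over a Gorenstein local ring. -/
theorem gorLocal_quotient_prime_of_ufd (d : ℕ) :
    ∀ (B : Type u) [CommRing B] [LocCoh.IsGorensteinLocalRing B], ringKrullDim B = d →
      ∀ (p : Ideal B) [p.IsPrime] [UniqueFactorizationMonoid (B ⧸ p)]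
        [LocCoh.IsCohenMacaulayLocalRing (B ⧸ p)], LocCoh.IsGorensteinLocalRing (B ⧸ p) := by
  induction d using Nat.strong_induction_on with
  | _ d ih =>
    intro B _ hB hd p hp hU hCM
    haveI hN : IsNoetherianRing B := inferInstance
    by_cases h : ∃ x ∈ p, IsSMulRegular B x
    · obtain ⟨x, hx, hreg⟩ := h
      have hxm : x ∈ maximalIdeal B := IsLocalRing.le_maximalIdeal hp.ne_top hx
      haveI hG₁ : LocCoh.IsGorensteinLocalRing (B ⧸ Ideal.span {x}) :=
        (Groth.Agent.S0343.result B x hxm hreg).mp hB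
      have hdim := ringKrullDim_quotient_span_singleton_succ_eq_ringKrullDim hreg hxm
      obtain ⟨d₁, hd₁⟩ := Groth.Agent.Lib.Helper5.exists_nat_ringKrullDim_eq
        (B ⧸ Ideal.span {x})
      have hlt : d₁ < d := by
        rw [hd, hd₁] at hdim
        have : d₁ + 1 = d := by exact_mod_cast hdim
        omega
      have hle : Ideal.span {x} ≤ p := (Ideal.span_singleton_le_iff_mem _).mpr hx
      haveI hp₁ : (p.map (Ideal.Quotient.mk (Ideal.span {x}))).IsPrime :=
        Ideal.map_isPrime_of_surjective Ideal.Quotient.mk_surjective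
          (by rw [Ideal.mk_ker]; exact hle)
      let e := DoubleQuot.quotQuotEquivQuotOfLE hle
      haveI hU₁ : UniqueFactorizationMonoid
          ((B ⧸ Ideal.span {x}) ⧸ p.map (Ideal.Quotient.mk (Ideal.span {x}))) :=
        e.symm.toMulEquiv.uniqueFactorizationMonoid hU
      haveI hCM₁ : LocCoh.IsCohenMacaulayLocalRing
          ((B ⧸ Ideal.span {x}) ⧸ p.map (Ideal.Quotient.mk (Ideal.span {x}))) :=
        isCohenMacaulayLocalRing_of_ringEquiv e.symm
      haveI := ih d₁ hlt (B ⧸ Ideal.span {x}) hd₁ (p.map (Ideal.Quotient.mk (Ideal.span {x})))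
      exact Groth.Agent.Lib.Helper5.GorRing.gorLocal_of_ringEquiv e
    · push_neg at h
      haveI hGR : LocCoh.IsGorensteinRing B :=
        Groth.Agent.Lib.Helper29.GorAnn.isGorensteinRing_of_isGorensteinLocalRing B
      haveI hCMR : LocCoh.IsCohenMacaulayRing B :=
        Groth.Agent.Lib.Helper5.GorUnmixed.isCohenMacaulayRing_of_isGorensteinRing B
      have hAss : ∀ Q ∈ associatedPrimes B B, Q ∈ minimalPrimes B := fun Q hQ =>
        mem_minimalPrimes_of_mem_associatedPrimes_cm B hQ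
      exact gorLocal_quotient_of_mem_associatedPrimes B d hd p
        (mem_associatedPrimes_of_no_regular p hAss h)

end Induction

end Groth.Agent.Lib.Helper29Murthy
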