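import Mathlib
import Groth.Agent.Lib.Helper29Murthy
import Groth.Agent.Lib.Helper8BridgeT4
import Groth.Agent.Lib.Helper8Rees

/-! The canonical module `Ext^r_B(B/p, B)` of a Cohen–Macaulay quotient domain of a Gorenstein
local ring is isomorphic to `B/p` or to an unmixed height one ideal of `B/p` (helper29). -/

set_option autoImplicit false
set_option linter.style.haveILetI false
universe u
open CategoryTheory CategoryTheory.Abelian IsLocalRing

namespace Groth.Agent.Lib.Helper29CanonIdeal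

open Groth.Agent.Lib.Helper28 Groth.Agent.Lib.Helper29MCMDual Groth.Agent.Lib.Helper29GorLink
  Groth.Agent.Lib.Helper29GorLinkSup Groth.Agent.Lib.Helper29Murthy

section Base

variable (B : Type u) [CommRing B] [hB : LocCoh.IsGorensteinLocalRing B] (n : ℕ)
  (hn : ringKrullDim B = n)

include hn in
/-- For an associated prime `p` of the Gorenstein local ring `B` with `B/p` Cohen–Macaulay, the
annihilator of `p` is maximal Cohen–Macaulay and embeds into `B/p`. -/
theorem exists_embedding_ann (p : Ideal B) [hp : p.IsPrime]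
    (hpass : p ∈ associatedPrimes B B)
    [hCM : LocCoh.IsCohenMacaulayLocalRing (B ⧸ p)] :
    ringKrullDim (B ⧸ p) = n ∧ LocCoh.depth (B ⧸ p) (B ⧸ p) = n ∧
      (n : ℕ∞) ≤ LocCoh.depth B ((⊥ : Ideal B).colon (p : Set B) : Ideal B) ∧
      ((⊥ : Ideal B).colon (p : Set B) : Ideal B) ≠ ⊥ ∧
      ∃ φ : ((⊥ : Ideal B).colon (p : Set B) : Ideal B) →ₗ[B] (B ⧸ p), Function.Injective φ := by
  haveI hN : IsNoetherianRing B := inferInstance
  haveI hGR : LocCoh.IsGorensteinRing B :=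
    Groth.Agent.Lib.Helper29.GorAnn.isGorensteinRing_of_isGorensteinLocalRing B
  haveI hCMR : LocCoh.IsCohenMacaulayRing B :=
    Groth.Agent.Lib.Helper5.GorUnmixed.isCohenMacaulayRing_of_isGorensteinRing B
  have hAss : ∀ Q ∈ associatedPrimes B B, Q ∈ minimalPrimes B := fun Q hQ =>
    mem_minimalPrimes_of_mem_associatedPrimes_cm B hQ
  have hpmin : p ∈ minimalPrimes B := hAss p hpass
  have hpht : p.height = 0 := Ideal.height_eq_zero_iff.mpr hpmin
  have hdB : LocCoh.depth B B = n := depth_self_eq B n hn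
  have h1 := Groth.Agent.Lib.Helper5.depth_le_ringKrullDim_quotient (A := B) (M := B) hpass
  rw [hdB] at h1
  have hnA : ringKrullDim (B ⧸ p) = n := by
    apply le_antisymm _ h1
    have h2 := ringKrullDim_le_of_surjective (Ideal.Quotient.mk p) Ideal.Quotient.mk_surjective
    rw [hn] at h2
    exact h2
  have hdAA : LocCoh.depth (B ⧸ p) (B ⧸ p) = n := by
    have h2 := hCM.supportDim_eq_depth
    rw [Module.supportDim_self_eq_ringKrullDim, hnA] at h2
    have h3 : ((n : ℕ∞) : WithBot ℕ∞) =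
        ((LocCoh.depth (B ⧸ p) (B ⧸ p) : ℕ∞) : WithBot ℕ∞) := h2
    exact (WithBot.coe_injective h3).symm
  have hdepth : (n : ℕ∞) ≤ LocCoh.depth B (B ⧸ p) := by
    rw [← depth_quotient_self_eq p, hdAA]
  obtain ⟨b, hbdef⟩ : ∃ b : Ideal B, b = ((⊥ : Ideal B).colon (p : Set B) : Ideal B) := ⟨_, rfl⟩
  rw [← hbdef]
  have hbmem : ∀ r, r ∈ b ↔ ∀ y ∈ p, y * r = 0 := by
    intro r
    rw [hbdef, Submodule.mem_colon]
    constructor
    · intro h y hy
      have := h y hy
      rwa [Submodule.mem_bot, smul_eq_mul, mul_comm] at this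
    · intro h y hy
      rw [Submodule.mem_bot, smul_eq_mul, mul_comm]
      exact h y hy
  have hdb : (n : ℕ∞) ≤ LocCoh.depth B b := by
    have h2 := le_depth_dual B n hn (B ⧸ p) hdepth
    have h3 : LocCoh.depth B ((B ⧸ p) →ₗ[B] B) = LocCoh.depth B b := by
      rw [hbdef]
      exact idealDepth_congr (dualEquivAnn p) (maximalIdeal B)
    rwa [h3] at h2
  rw [AssociatedPrimes.mem_iff, isAssociatedPrime_iff] at hpass
  obtain ⟨-, z, hz⟩ := hpass
  have hzann : ∀ r, r ∈ p ↔ r * z = 0 := by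
    intro r
    rw [hz, Submodule.mem_colon_singleton, Submodule.mem_bot, smul_eq_mul]
  have hz0 : z ≠ 0 := by
    rintro rfl
    apply hp.ne_top
    rw [Ideal.eq_top_iff_one, hzann, mul_zero]
  have hzb : z ∈ b := (hbmem z).mpr (fun y hy => (hzann y).mp hy)
  have hrank : ∀ w ∈ b, ∃ s, s ∉ p ∧ ∃ r, s * w = r * z := fun w hw =>
    exists_mul_eq_mul p hpht z (fun t ht => (hzann t).mpr ht) w ((hbmem w).mp hw)
  obtain ⟨s, hsp, hs⟩ := exists_common_mul p b z hrank
  have htf : ∀ w ∈ b, s * w = 0 → w = 0 := by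
    intro w hw hsw
    by_contra hw0
    exact hsp (mem_of_mul_eq_zero p hAss w hw0 ((hbmem w).mp hw) s hsw)
  refine ⟨hnA, hdAA, hdb, ?_, exists_embedding p b z s hzann hs htf⟩
  intro hbot
  rw [hbot, Ideal.mem_bot] at hzb
  exact hz0 hzb

end Base

section HomEquiv

variable {B : Type u} [CommRing B] (p c : Ideal B)

/-- `Hom_B(B/p, B/c) ≃ ann_{B/c}(p (B/c))`. -/
noncomputable def homEquivAnn :
    ((B ⧸ p) →ₗ[B] (B ⧸ c)) ≃ₗ[B]
      ((⊥ : Ideal (B ⧸ c)).colon
        ((p.map (Ideal.Quotient.mk c) : Ideal (B ⧸ c)) : Set (B ⧸ c)) : Ideal (B ⧸ c)) := by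
  have hmem : ∀ f : (B ⧸ p) →ₗ[B] (B ⧸ c), f (Submodule.Quotient.mk 1) ∈
      ((⊥ : Ideal (B ⧸ c)).colon
        ((p.map (Ideal.Quotient.mk c) : Ideal (B ⧸ c)) : Set (B ⧸ c)) : Ideal (B ⧸ c)) := by
    intro f
    rw [Submodule.mem_colon]
    intro y' hy'
    obtain ⟨y, hy, rfl⟩ :=
      (Ideal.mem_map_iff_of_surjective _ Ideal.Quotient.mk_surjective).mp hy'
    rw [Submodule.mem_bot, smul_eq_mul, mul_comm]
    change y • f (Submodule.Quotient.mk 1) = 0
    rw [← map_smul, ← Submodule.Quotient.mk_smul, smul_eq_mul, mul_one,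
      (Submodule.Quotient.mk_eq_zero p).mpr hy, map_zero]
  let evb : ((B ⧸ p) →ₗ[B] (B ⧸ c)) →ₗ[B]
      ((⊥ : Ideal (B ⧸ c)).colon
        ((p.map (Ideal.Quotient.mk c) : Ideal (B ⧸ c)) : Set (B ⧸ c)) : Ideal (B ⧸ c)) :=
    { toFun := fun f => ⟨f (Submodule.Quotient.mk 1), hmem f⟩
      map_add' := fun f g => rfl
      map_smul' := fun r f => rfl }
  refine LinearEquiv.ofBijective evb ⟨?_, ?_⟩
  · rw [← LinearMap.ker_eq_bot, LinearMap.ker_eq_bot']
    intro f hf
    have hf1 : f (Submodule.Quotient.mk 1) = 0 := congrArg Subtype.val hf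
    apply LinearMap.ext
    intro x
    obtain ⟨x, rfl⟩ := Submodule.Quotient.mk_surjective _ x
    have : (Submodule.Quotient.mk x : B ⧸ p) = x • Submodule.Quotient.mk 1 := by
      rw [← Submodule.Quotient.mk_smul, smul_eq_mul, mul_one]
    rw [this, map_smul, hf1, smul_zero, LinearMap.zero_apply]
  · rintro ⟨r', hr'⟩
    rw [Submodule.mem_colon] at hr'
    have hker : p ≤ LinearMap.ker (LinearMap.toSpanSingleton B (B ⧸ c) r') := by
      intro y hy
      rw [LinearMap.mem_ker, LinearMap.toSpanSingleton_apply]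
      have := hr' (Ideal.Quotient.mk c y) (Ideal.mem_map_of_mem _ hy)
      rw [Submodule.mem_bot, smul_eq_mul, mul_comm] at this
      exact this
    refine ⟨Submodule.liftQ p (LinearMap.toSpanSingleton B (B ⧸ c) r') hker, ?_⟩
    apply Subtype.ext
    change Submodule.liftQ p (LinearMap.toSpanSingleton B (B ⧸ c) r') hker
      (Submodule.Quotient.mk 1) = r'
    rw [Submodule.liftQ_apply, LinearMap.toSpanSingleton_apply, one_smul]

end HomEquiv

section Unmixed

variable (A : Type u) [CommRing A] [IsDomain A] [IsNoetherianRing A] [IsLocalRing A] (m : ℕ)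
  (hm : ringKrullDim A = m)

include hm in
/-- A proper nonzero ideal of a local domain of dimension `m` and depth `≥ m`, which is maximal
Cohen–Macaulay as a module, is unmixed of height one. -/
theorem height_eq_one_of_mem_associatedPrimes (I : Ideal A) (hI0 : I ≠ ⊥)
    (hdA : (m : ℕ∞) ≤ LocCoh.depth A A) (hdI : (m : ℕ∞) ≤ LocCoh.depth A I)
    {q : Ideal A} (hq : q ∈ associatedPrimes A (A ⧸ I)) : q.height = 1 := by
  haveI hqp : q.IsPrime := IsAssociatedPrime.isPrime hq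
  have h0 := min_idealDepth_le_right (maximalIdeal A) (Submodule.subtype I) (Submodule.mkQ I)
    (Submodule.injective_subtype I) (Submodule.mkQ_surjective I) (LinearMap.exact_subtype_mkQ I)
  have hD' : (m : ℕ∞) - 1 ≤ LocCoh.depth A (A ⧸ I) :=
    le_trans (le_min (le_trans tsub_le_self hdA) (tsub_le_tsub_right hdI 1)) h0
  have hD : (m : ℕ∞) ≤ LocCoh.depth A (A ⧸ I) + 1 := tsub_le_iff_right.mp hD'
  have h1 := Groth.Agent.Lib.Helper5.depth_le_ringKrullDim_quotient (A := A) (M := A ⧸ I) hq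
  have h2 := height_add_ringKrullDim_quotient_le q hqp.ne_top
  rw [hm] at h2
  have h3 : ((q.height + LocCoh.depth A (A ⧸ I) : ℕ∞) : WithBot ℕ∞) ≤
      ((m : ℕ∞) : WithBot ℕ∞) := by
    rw [WithBot.coe_add]
    exact le_trans (add_le_add le_rfl h1) h2
  have h4 : q.height + LocCoh.depth A (A ⧸ I) ≤ (m : ℕ∞) := WithBot.coe_le_coe.mp h3
  have hfin : LocCoh.depth A (A ⧸ I) ≠ ⊤ := by
    intro htop
    rw [htop, add_top] at h4
    exact absurd (top_le_iff.mp h4) (ENat.natCast_ne_top m)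
  have h5 : q.height + LocCoh.depth A (A ⧸ I) ≤ 1 + LocCoh.depth A (A ⧸ I) := by
    rw [add_comm 1]
    exact le_trans h4 hD
  have hle : q.height ≤ 1 := (ENat.add_le_add_iff_right hfin).mp h5
  apply le_antisymm hle
  have hIq : I ≤ q := by
    have := IsAssociatedPrime.annihilator_le hq
    rwa [Submodule.annihilator_top, Ideal.annihilator_quotient] at this
  have hq0 : q ≠ ⊥ := by
    intro h
    rw [h] at hIq
    exact hI0 (le_bot_iff.mp hIq)
  have hbotp : (⊥ : Ideal A).IsPrime := Ideal.isPrime_bot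
  have hlt : (⊥ : Ideal A) < q := bot_lt_iff_ne_bot.mpr hq0
  have := Ideal.height_strict_mono_of_isPrime hlt
  exact Order.one_le_iff_pos.mpr (lt_of_le_of_lt bot_le this)

end Unmixed

section Main

open Groth.Agent.Lib.Helper8.Bridge Groth.Agent.Lib.Helper8.ExtLES

variable (B : Type u) [CommRing B] [hB : LocCoh.IsGorensteinLocalRing B]

/-- `Ext^r_B(B/p, B)` for `B` Gorenstein local, `r = ht p`, `B/p` Cohen–Macaulay: it is isomorphic
to `B/p` or to an unmixed proper ideal of height one. -/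
theorem ext_quotient_prime (p : Ideal B) [hp : p.IsPrime]
    [hCM : LocCoh.IsCohenMacaulayLocalRing (B ⧸ p)] (r : ℕ) (hr : p.height = r) :
    Nonempty (E r (ModuleCat.of B (B ⧸ p)) (ModuleCat.of B B) ≃ₗ[B] (B ⧸ p)) ∨
      ∃ I : Ideal (B ⧸ p), I ≠ ⊤ ∧
        (∀ q ∈ associatedPrimes (B ⧸ p) ((B ⧸ p) ⧸ I), q.height = 1) ∧
        Nonempty (E r (ModuleCat.of B (B ⧸ p)) (ModuleCat.of B B) ≃ₗ[B] I) := by
  haveI hN : IsNoetherianRing B := inferInstance
  haveI : IsDomain (B ⧸ p) := Ideal.Quotient.isDomain p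
  obtain ⟨n, hn⟩ := Groth.Agent.Lib.Helper5.exists_nat_ringKrullDim_eq B
  haveI hCMB : LocCoh.IsCohenMacaulayLocalRing B := isCohenMacaulayLocalRing B n hn
  have hpne : p ≠ ⊤ := hp.ne_top
  obtain ⟨m, hmA⟩ := Groth.Agent.Lib.Helper5.exists_nat_ringKrullDim_eq (B ⧸ p)
  have h2 := height_add_ringKrullDim_quotient_eq_of_isCohenMacaulayLocalRing p hpne
  rw [hr, hmA, hn] at h2
  have hrmn : r + m = n := by exact_mod_cast h2
  have hIM : p • (⊤ : Submodule B B) ≠ ⊤ := by
    rw [smul_eq_mul, Ideal.mul_top]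
    exact hpne
  have h1 := supportDim_eq_add_idealDepth_of_isCohenMacaulayModule (M := B) p hpne
    hCMB.supportDim_eq_depth
  have e0 : (B ⧸ (p • ⊤ : Submodule B B)) ≃ₗ[B] (B ⧸ p) :=
    Submodule.quotEquivOfEq _ _ (by rw [smul_eq_mul, Ideal.mul_top])
  rw [Module.supportDim_self_eq_ringKrullDim, hn, Module.supportDim_eq_of_equiv e0,
    Module.supportDim_quotient_eq_ringKrullDim, hmA] at h1
  obtain ⟨d, hd⟩ := ENat.ne_top_iff_exists.mp (idealDepth_ne_top hIM)
  rw [← hd] at h1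
  have hd' : n = m + d := by exact_mod_cast h1
  have hdr : d = r := by omega
  obtain ⟨rs, hlen, hmem, hreg⟩ := (natCast_le_idealDepth_iff hIM r).mp (by rw [← hd, hdr])
  subst hlen
  -- the complete intersection `B' = B/(rs)`
  have hmem' : ∀ y ∈ rs, y ∈ maximalIdeal B := fun y hy =>
    IsLocalRing.le_maximalIdeal hpne (hmem y hy)
  haveI hG' : LocCoh.IsGorensteinLocalRing (B ⧸ Ideal.ofList rs) :=
    gorLocal_quotient_ofList rs.length B rs rfl hmem' hreg.toIsWeaklyRegular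
  have h3 := Module.supportDim_add_length_eq_supportDim_of_isRegular rs hreg
  have e1 : (B ⧸ (Ideal.ofList rs • ⊤ : Submodule B B)) ≃ₗ[B] (B ⧸ Ideal.ofList rs) :=
    Submodule.quotEquivOfEq _ _ (by rw [smul_eq_mul, Ideal.mul_top])
  rw [Module.supportDim_eq_of_equiv e1, Module.supportDim_quotient_eq_ringKrullDim,
    Module.supportDim_self_eq_ringKrullDim, hn] at h3
  obtain ⟨m', hm'⟩ := Groth.Agent.Lib.Helper5.exists_nat_ringKrullDim_eq (B ⧸ Ideal.ofList rs)
  rw [hm'] at h3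
  have hm'r : m' + rs.length = n := by exact_mod_cast h3
  have hm'm : m' = m := by omega
  rw [hm'm] at hm'
  -- the prime `p' = p/(rs)`
  have hle : Ideal.ofList rs ≤ p := ofList_le_of_forall_mem hmem
  haveI hp' : (p.map (Ideal.Quotient.mk (Ideal.ofList rs))).IsPrime :=
    Ideal.map_isPrime_of_surjective Ideal.Quotient.mk_surjective
      (by rw [Ideal.mk_ker]; exact hle)
  let e := DoubleQuot.quotQuotEquivQuotOfLE hle
  haveI hCM' : LocCoh.IsCohenMacaulayLocalRing
      ((B ⧸ Ideal.ofList rs) ⧸ p.map (Ideal.Quotient.mk (Ideal.ofList rs))) :=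
    isCohenMacaulayLocalRing_of_ringEquiv e.symm
  have hdimA' : ringKrullDim
      ((B ⧸ Ideal.ofList rs) ⧸ p.map (Ideal.Quotient.mk (Ideal.ofList rs))) = m := by
    rw [ringKrullDim_eq_of_ringEquiv e, hmA]
  have hp'ht : (p.map (Ideal.Quotient.mk (Ideal.ofList rs))).height = 0 := by
    have h4 := height_add_ringKrullDim_quotient_le
      (p.map (Ideal.Quotient.mk (Ideal.ofList rs))) hp'.ne_top
    rw [hdimA', hm'] at h4
    have hfin : (p.map (Ideal.Quotient.mk (Ideal.ofList rs))).height ≠ ⊤ :=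
      Ideal.height_ne_top hp'.ne_top
    obtain ⟨k, hk⟩ := ENat.ne_top_iff_exists.mp hfin
    rw [← hk] at h4 ⊢
    have h5 : k + m ≤ m := by exact_mod_cast h4
    have h6 : k = 0 := by omega
    rw [h6]
    rfl
  have hp'min : p.map (Ideal.Quotient.mk (Ideal.ofList rs)) ∈
      minimalPrimes (B ⧸ Ideal.ofList rs) := Ideal.height_eq_zero_iff.mp hp'ht
  have hp'ass : p.map (Ideal.Quotient.mk (Ideal.ofList rs)) ∈
      associatedPrimes (B ⧸ Ideal.ofList rs) (B ⧸ Ideal.ofList rs) := by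
    apply Module.associatedPrimes.minimalPrimes_annihilator_subset_associatedPrimes
      (B ⧸ Ideal.ofList rs) (B ⧸ Ideal.ofList rs)
    have hann0 : Module.annihilator (B ⧸ Ideal.ofList rs) (B ⧸ Ideal.ofList rs) = ⊥ := by
      rw [eq_bot_iff]
      intro x hx
      have := Module.mem_annihilator.mp hx 1
      rw [smul_eq_mul, mul_one] at this
      rw [this]
      exact Submodule.zero_mem _
    rw [hann0]
    exact hp'min
  obtain ⟨-, -, hdb', hb'ne, φ, hφ⟩ := exists_embedding_ann (B ⧸ Ideal.ofList rs) m hm'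
    (p.map (Ideal.Quotient.mk (Ideal.ofList rs))) hp'ass
  -- transfer to `B/p`
  let eA : ((B ⧸ Ideal.ofList rs) ⧸ p.map (Ideal.Quotient.mk (Ideal.ofList rs))) ≃ₗ[B] (B ⧸ p) :=
    quotQuotLinearEquiv (Ideal.ofList rs) p hle
  let ψ : ((⊥ : Ideal (B ⧸ Ideal.ofList rs)).colon
      ((p.map (Ideal.Quotient.mk (Ideal.ofList rs)) : Ideal (B ⧸ Ideal.ofList rs)) :
        Set (B ⧸ Ideal.ofList rs)) : Ideal (B ⧸ Ideal.ofList rs)) →ₗ[B] (B ⧸ p) :=
    eA.toLinearMap ∘ₗ (φ.restrictScalars B)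
  have hψ : Function.Injective ψ := eA.injective.comp hφ
  obtain ⟨I, hIdef⟩ : ∃ I : Ideal (B ⧸ p), ∀ y, y ∈ I ↔ ∃ w, ψ w = y :=
    ⟨{ carrier := Set.range ψ
       add_mem' := by
         rintro _ _ ⟨w1, rfl⟩ ⟨w2, rfl⟩
         exact ⟨w1 + w2, map_add _ _ _⟩
       zero_mem' := ⟨0, map_zero _⟩
       smul_mem' := by
         rintro c _ ⟨w, rfl⟩
         obtain ⟨c, rfl⟩ := Ideal.Quotient.mk_surjective c
         exact ⟨c • w, by rw [map_smul]; rfl⟩ }, fun y => Iff.rfl⟩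
  have ψI : ((⊥ : Ideal (B ⧸ Ideal.ofList rs)).colon
      ((p.map (Ideal.Quotient.mk (Ideal.ofList rs)) : Ideal (B ⧸ Ideal.ofList rs)) :
        Set (B ⧸ Ideal.ofList rs)) : Ideal (B ⧸ Ideal.ofList rs)) ≃ₗ[B] I :=
    LinearEquiv.ofBijective
      (LinearMap.codRestrict (I.restrictScalars B) ψ (fun w => (hIdef _).mpr ⟨w, rfl⟩))
      ⟨fun w1 w2 h => hψ (congrArg Subtype.val h), fun ⟨y, hy⟩ => by
        obtain ⟨w, hw⟩ := (hIdef y).mp hy
        exact ⟨w, Subtype.ext hw⟩⟩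
  have hIne : I ≠ ⊥ := by
    obtain ⟨w, hw, hw0⟩ := Submodule.exists_mem_ne_zero_of_ne_bot hb'ne
    intro hbot
    have h4 : ψ ⟨w, hw⟩ ∈ I := (hIdef _).mpr ⟨_, rfl⟩
    rw [hbot, Ideal.mem_bot] at h4
    have h5 : (⟨w, hw⟩ : ((⊥ : Ideal (B ⧸ Ideal.ofList rs)).colon
      ((p.map (Ideal.Quotient.mk (Ideal.ofList rs)) : Ideal (B ⧸ Ideal.ofList rs)) :
        Set (B ⧸ Ideal.ofList rs)) : Ideal (B ⧸ Ideal.ofList rs))) = 0 :=
      hψ (by rw [h4, map_zero])
    exact hw0 (congrArg Subtype.val h5)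
  -- the chain of isomorphisms
  have hann : ∀ x ∈ rs, x ∈ Module.annihilator B (ModuleCat.of B (B ⧸ p)) := by
    intro x hx
    change x ∈ Module.annihilator B (B ⧸ p)
    rw [Ideal.annihilator_quotient]
    exact hmem x hx
  obtain ⟨-, ⟨eR⟩⟩ := Groth.Agent.Lib.Helper8.Rees.rees (ModuleCat.of B (B ⧸ p)) rs
    (ModuleCat.of B B) hann hreg.toIsWeaklyRegular
  have chain : E rs.length (ModuleCat.of B (B ⧸ p)) (ModuleCat.of B B) ≃ₗ[B] I :=
    (Ψ rs.length (ModuleCat.of B (B ⧸ p)) (ModuleCat.of B B)).trans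
      (eR.trans ((LinearEquiv.congrRight e1).trans
        ((homEquivAnn p (Ideal.ofList rs)).trans ψI)))
  -- depth of `I`
  have hdAA : LocCoh.depth (B ⧸ p) (B ⧸ p) = m := by
    have h4 := hCM.supportDim_eq_depth
    rw [Module.supportDim_self_eq_ringKrullDim, hmA] at h4
    have h5 : ((m : ℕ∞) : WithBot ℕ∞) =
        ((LocCoh.depth (B ⧸ p) (B ⧸ p) : ℕ∞) : WithBot ℕ∞) := h4
    exact (WithBot.coe_injective h5).symm
  have hdI : (m : ℕ∞) ≤ LocCoh.depth (B ⧸ p) I := by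
    haveI : IsLocalHom (algebraMap B (B ⧸ p)) :=
      isLocalHom_of_le_jacobson_bot _ (le_trans (IsLocalRing.le_maximalIdeal hpne)
        (IsLocalRing.maximalIdeal_le_jacobson ⊥))
    haveI : Module.Finite B I := Module.Finite.trans (B ⧸ p) _
    rw [← depth_eq_depth_of_isLocalHom_of_finite (A := B) (B := B ⧸ p) (M := I)]
    have h4 : LocCoh.depth B I = LocCoh.depth B ((⊥ : Ideal (B ⧸ Ideal.ofList rs)).colon
      ((p.map (Ideal.Quotient.mk (Ideal.ofList rs)) : Ideal (B ⧸ Ideal.ofList rs)) :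
        Set (B ⧸ Ideal.ofList rs)) : Ideal (B ⧸ Ideal.ofList rs)) :=
      idealDepth_congr ψI.symm (maximalIdeal B)
    rw [h4]
    have hne' : Ideal.ofList rs ≠ ⊤ := fun h => hpne (top_le_iff.mp (h ▸ hle))
    haveI : IsLocalHom (algebraMap B (B ⧸ Ideal.ofList rs)) :=
      isLocalHom_of_le_jacobson_bot _ (le_trans (IsLocalRing.le_maximalIdeal hne')
        (IsLocalRing.maximalIdeal_le_jacobson ⊥))
    haveI : Module.Finite B ((⊥ : Ideal (B ⧸ Ideal.ofList rs)).colon
      ((p.map (Ideal.Quotient.mk (Ideal.ofList rs)) : Ideal (B ⧸ Ideal.ofList rs)) :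
        Set (B ⧸ Ideal.ofList rs)) : Ideal (B ⧸ Ideal.ofList rs)) :=
      Module.Finite.trans (B ⧸ Ideal.ofList rs) _
    rw [depth_eq_depth_of_isLocalHom_of_finite (A := B) (B := B ⧸ Ideal.ofList rs)
      (M := ((⊥ : Ideal (B ⧸ Ideal.ofList rs)).colon
      ((p.map (Ideal.Quotient.mk (Ideal.ofList rs)) : Ideal (B ⧸ Ideal.ofList rs)) :
        Set (B ⧸ Ideal.ofList rs)) : Ideal (B ⧸ Ideal.ofList rs)))]
    exact hdb'
  by_cases hItop : I = ⊤
  · left
    refine ⟨chain.trans (LinearEquiv.ofBijective ((Submodule.subtype I).restrictScalars B)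
      ⟨Subtype.val_injective, fun x => ⟨⟨x, by rw [hItop]; trivial⟩, rfl⟩⟩)⟩
  · right
    refine ⟨I, hItop, fun q hq => ?_, ⟨chain⟩⟩
    exact height_eq_one_of_mem_associatedPrimes (B ⧸ p) m hmA I hIne (le_of_eq hdAA.symm) hdI hq

end Main

end Groth.Agent.Lib.Helper29CanonIdeal
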