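import Mathlib

/-!
# The (augmented, non-alternating) algebraic Čech complex of a module with respect to a family of
elements: restriction maps between localizations, the cochain modules, the differential and
`d ∘ d = 0` (helper29).

For `x : κ → R` and `σ : Fin j → κ` we localize at `Sσ x σ`, the submonoid generated by the `x (σ k)`.
`j = 0` gives the module itself (localized at the trivial submonoid), so that the complex
`C x M 0 → C x M 1 → …` is the Čech complex augmented by `M`.
-/

set_option autoImplicit false
set_option linter.style.haveILetI false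

universe u

namespace Groth.Agent.Lib.Helper29.CechAlg

variable {R : Type u} [CommRing R]

section Res

variable {M : Type u} [AddCommGroup M] [Module R M]

/-- The canonical map between localizations for `S ≤ S'`. -/
noncomputable def resL {S S' : Submonoid R} (h : S ≤ S') :
    LocalizedModule S M →ₗ[R] LocalizedModule S' M :=
  LocalizedModule.lift S (LocalizedModule.mkLinearMap S' M)
    (fun s => IsLocalizedModule.map_units (LocalizedModule.mkLinearMap S' M) ⟨s.1, h s.2⟩)

theorem resL_mk {S S' : Submonoid R} (h : S ≤ S') (m : M) (s : S) :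
    resL h (LocalizedModule.mk m s) = LocalizedModule.mk m ⟨s.1, h s.2⟩ := by
  unfold resL
  rw [LocalizedModule.lift_mk]
  have hu := IsLocalizedModule.map_units (LocalizedModule.mkLinearMap S' M) (⟨s.1, h s.2⟩ : S')
  have key : (algebraMap R (Module.End R (LocalizedModule S' M)) s.1)
      (LocalizedModule.mk m ⟨s.1, h s.2⟩) = LocalizedModule.mkLinearMap S' M m := by
    rw [Module.algebraMap_end_apply, LocalizedModule.smul'_mk, LocalizedModule.mkLinearMap_apply]
    exact LocalizedModule.mk_cancel (⟨s.1, h s.2⟩ : S') m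
  rw [← key]
  exact Module.End.isUnit_inv_apply_apply_of_isUnit hu _

theorem resL_resL {S S' S'' : Submonoid R} (h : S ≤ S') (h' : S' ≤ S'')
    (y : LocalizedModule S M) : resL h' (resL h y) = resL (h.trans h') y := by
  induction y using LocalizedModule.induction_on with
  | h m s => rw [resL_mk, resL_mk, resL_mk]

theorem resL_self {S : Submonoid R} (y : LocalizedModule S M) : resL (le_refl S) y = y := by
  induction y using LocalizedModule.induction_on with
  | h m s => rw [resL_mk]

/-- `resL` does not depend on the source index up to equality of submonoids-with-elements. -/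
theorem resL_congr {α : Type*} (T : α → Submonoid R) (c : ∀ a, LocalizedModule (T a) M)
    {S' : Submonoid R} {a b : α} (hab : a = b) (ha : T a ≤ S') (hb : T b ≤ S') :
    resL ha (c a) = resL hb (c b) := by
  subst hab
  rfl

variable {M' : Type u} [AddCommGroup M'] [Module R M']

/-- The localization of a linear map, as an `R`-linear map. -/
noncomputable def mapL (S : Submonoid R) (f : M →ₗ[R] M') :
    LocalizedModule S M →ₗ[R] LocalizedModule S M' :=
  (LocalizedModule.map S f).restrictScalars R

theorem mapL_mk (S : Submonoid R) (f : M →ₗ[R] M') (m : M) (s : S) :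
    mapL S f (LocalizedModule.mk m s) = LocalizedModule.mk (f m) s :=
  LocalizedModule.map_mk S f m s

theorem mapL_injective (S : Submonoid R) (f : M →ₗ[R] M') (hf : Function.Injective f) :
    Function.Injective (mapL S f) :=
  LocalizedModule.map_injective S f hf

theorem resL_map {S S' : Submonoid R} (h : S ≤ S') (f : M →ₗ[R] M') (y : LocalizedModule S M) :
    resL h (mapL S f y) = mapL S' f (resL h y) := by
  induction y using LocalizedModule.induction_on with
  | h m s => rw [mapL_mk, resL_mk, resL_mk, mapL_mk]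

end Res

section Complex

variable {κ : Type} (x : κ → R)

/-- The submonoid generated by the `x (σ k)`. -/
def Sσ {j : ℕ} (σ : Fin j → κ) : Submonoid R := Submonoid.closure (Set.range (x ∘ σ))

theorem Sσ_comp_le {j j' : ℕ} (τ : Fin j' → κ) (f : Fin j → Fin j') : Sσ x (τ ∘ f) ≤ Sσ x τ := by
  apply Submonoid.closure_mono
  rintro _ ⟨k, rfl⟩
  exact ⟨f k, rfl⟩

theorem x_mem_Sσ {j : ℕ} (σ : Fin j → κ) (k : Fin j) : x (σ k) ∈ Sσ x σ :=
  Submonoid.subset_closure ⟨k, rfl⟩

variable (M : Type u) [AddCommGroup M] [Module R M]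

/-- The cochains. -/
abbrev C (j : ℕ) : Type u := (σ : Fin j → κ) → LocalizedModule (Sσ x σ) M

variable {M}

/-- The restriction of the `σ ∘ f`-component to `τ`. -/
noncomputable def face {j j' : ℕ} (f : Fin j → Fin j') (τ : Fin j' → κ) :
    C x M j →ₗ[R] LocalizedModule (Sσ x τ) M :=
  resL (Sσ_comp_le x τ f) ∘ₗ LinearMap.proj (τ ∘ f)

theorem face_apply {j j' : ℕ} (f : Fin j → Fin j') (τ : Fin j' → κ) (c : C x M j) :
    face x f τ c = resL (Sσ_comp_le x τ f) (c (τ ∘ f)) := rfl

/-- The Čech differential. -/
noncomputable def dC [Fintype κ] (j : ℕ) : C x M j →ₗ[R] C x M (j + 1) :=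
  LinearMap.pi fun τ => ∑ k : Fin (j + 1), ((-1 : R) ^ (k : ℕ)) • face x k.succAbove τ

theorem dC_apply [Fintype κ] (j : ℕ) (c : C x M j) (τ : Fin (j + 1) → κ) :
    dC x j c τ = ∑ k : Fin (j + 1), ((-1 : R) ^ (k : ℕ)) •
      resL (Sσ_comp_le x τ k.succAbove) (c (τ ∘ k.succAbove)) := by
  unfold dC
  rw [LinearMap.pi_apply, LinearMap.sum_apply]
  rfl

end Complex

section Comb

/-- The sign-reversing involution behind `d ∘ d = 0`. -/
theorem alt_sum_zero {G : Type*} [AddCommGroup G] [Module R G] (j : ℕ)
    (F : (Fin j → Fin (j + 2)) → G) :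
    ∑ k : Fin (j + 2), ∑ l : Fin (j + 1),
      (((-1 : R) ^ (k : ℕ)) * ((-1 : R) ^ (l : ℕ))) • F (k.succAbove ∘ l.succAbove) = 0 := by
  rw [← Finset.sum_product']
  refine Finset.sum_involution (fun p _ => (p.1.succAbove p.2, p.2.predAbove p.1)) ?_ ?_ ?_ ?_
  · rintro ⟨k, l⟩ _
    have hF : F ((k.succAbove l).succAbove ∘ (l.predAbove k).succAbove) =
        F (k.succAbove ∘ l.succAbove) := by
      congr 1
      funext a
      exact Fin.succAbove_succAbove_succAbove_predAbove k l a
    simp only [hF]
    rw [← add_smul]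
    have hs : ((-1 : R) ^ (k : ℕ)) * ((-1 : R) ^ (l : ℕ)) +
        ((-1 : R) ^ ((k.succAbove l : Fin (j + 2)) : ℕ)) *
          ((-1 : R) ^ ((l.predAbove k : Fin (j + 1)) : ℕ)) = 0 := by
      rw [← pow_add, ← pow_add]
      by_cases h : l.castSucc < k
      · have h1 : ((k.succAbove l : Fin (j + 2)) : ℕ) = l := by
          rw [Fin.succAbove_of_castSucc_lt _ _ h]; rfl
        have h2 : ((l.predAbove k : Fin (j + 1)) : ℕ) = (k : ℕ) - 1 := by
          rw [Fin.predAbove_of_castSucc_lt _ _ h]; rfl
        have hk : 1 ≤ (k : ℕ) := by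
          have : (l.castSucc : ℕ) < k := h
          omega
        rw [h1, h2]
        have : (k : ℕ) + l = ((l : ℕ) + ((k : ℕ) - 1)) + 1 := by omega
        rw [this, pow_succ]
        ring
      · have h' : k ≤ l.castSucc := not_lt.mp h
        have h1 : ((k.succAbove l : Fin (j + 2)) : ℕ) = (l : ℕ) + 1 := by
          rw [Fin.succAbove_of_le_castSucc _ _ h']; rfl
        have h2 : ((l.predAbove k : Fin (j + 1)) : ℕ) = k := by
          rw [Fin.predAbove_of_le_castSucc _ _ h']; rfl
        rw [h1, h2]
        have : (l : ℕ) + 1 + k = ((k : ℕ) + l) + 1 := by omega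
        rw [this, pow_succ]
        ring
    rw [hs, zero_smul]
  · rintro ⟨k, l⟩ _ _ heq
    have h1 : k.succAbove l = k := congrArg Prod.fst heq
    exact Fin.succAbove_ne k l h1
  · intro p _
    exact Finset.mem_univ _
  · rintro ⟨k, l⟩ _
    refine Prod.ext ?_ ?_
    · change (k.succAbove l).succAbove (l.predAbove k) = k
      exact Fin.succAbove_succAbove_predAbove k l
    · change (l.predAbove k).predAbove (k.succAbove l) = l
      exact Fin.predAbove_predAbove_succAbove k l

end Comb

section DD

variable {κ : Type} [Fintype κ] (x : κ → R) {M : Type u} [AddCommGroup M] [Module R M]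

theorem dC_dC (j : ℕ) (c : C x M j) : dC x (j + 1) (dC x j c) = 0 := by
  funext τ
  rw [dC_apply]
  have h1 : ∀ k : Fin (j + 2),
      resL (Sσ_comp_le x τ k.succAbove) (dC x j c (τ ∘ k.succAbove)) =
        ∑ l : Fin (j + 1), ((-1 : R) ^ (l : ℕ)) •
          resL (Sσ_comp_le x τ (k.succAbove ∘ l.succAbove)) (c (τ ∘ (k.succAbove ∘ l.succAbove))) := by
    intro k
    rw [dC_apply, map_sum]
    refine Finset.sum_congr rfl (fun l _ => ?_)
    rw [map_smul, resL_resL]
    rfl
  rw [Pi.zero_apply]
  refine (Finset.sum_congr rfl (fun k _ => ?_)).trans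
    (alt_sum_zero (R := R) j (fun f => resL (Sσ_comp_le x τ f) (c (τ ∘ f))))
  rw [h1 k, Finset.smul_sum]
  refine Finset.sum_congr rfl (fun l _ => ?_)
  rw [smul_smul]

end DD

end Groth.Agent.Lib.Helper29.CechAlg
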