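import Mathlib

/-! Homogeneous submodules: spans, kernels (helper29). -/

set_option autoImplicit false
open DirectSum

namespace Groth.Agent.Lib.Helper29GrHom

universe u

variable {ι : Type} [AddCommGroup ι] [DecidableEq ι]
variable {R : Type u} [CommRing R] (𝒜 : ι → AddSubgroup R) [GradedRing 𝒜]
variable {F : Type u} [AddCommGroup F] [Module R F] (𝓕 : ι → AddSubgroup F)
  [DirectSum.Decomposition 𝓕] [SetLike.GradedSMul 𝒜 𝓕]

include 𝒜 in
/-- The submodule spanned by one homogeneous element is homogeneous. -/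
theorem span_singleton_isHomogeneous {y : F} {d : ι} (hy : y ∈ 𝓕 d) :
    (Submodule.span R {y}).IsHomogeneous 𝓕 := by
  classical
  intro i m hm
  obtain ⟨r, rfl⟩ := Submodule.mem_span_singleton.mp hm
  have hr : r = ∑ j ∈ (decompose 𝒜 r).support, (decompose 𝒜 r j : R) :=
    (DirectSum.sum_support_decompose 𝒜 r).symm
  rw [hr, Finset.sum_smul, DirectSum.decompose_sum, DFinsupp.finsetSum_apply,
    AddSubmonoidClass.coe_finsetSum]
  apply Submodule.sum_mem
  intro j _
  have hmem : (decompose 𝒜 r j : R) • y ∈ 𝓕 (j + d) :=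
    SetLike.GradedSMul.smul_mem (A := 𝒜) (B := 𝓕) (i := j) (j := d)
      (SetLike.coe_mem (decompose 𝒜 r j)) hy
  by_cases h : j + d = i
  · subst h
    rw [DirectSum.decompose_of_mem_same _ hmem]
    exact Submodule.smul_mem _ _ (Submodule.mem_span_singleton_self y)
  · rw [DirectSum.decompose_of_mem_ne _ hmem h]
    exact zero_mem _

section Ker

variable {E : Type u} [AddCommGroup E] [Module R E] (𝓔 : ι → AddSubgroup E)
  [DirectSum.Decomposition 𝓔]

/-- A homogeneous map commutes with taking homogeneous components. -/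
theorem decompose_map (β : E →ₗ[R] F) (hβ : ∀ (g : ι) (m : E), m ∈ 𝓔 g → β m ∈ 𝓕 g) (x : E) (i : ι) :
    ((decompose 𝓕 (β x)) i : F) = β ((decompose 𝓔 x) i) := by
  classical
  induction x using DirectSum.Decomposition.inductionOn 𝓔 with
  | zero => simp
  | homogeneous m =>
    rename_i j
    have hm : β (m : E) ∈ 𝓕 j := hβ j m m.2
    by_cases h : j = i
    · subst h
      rw [DirectSum.decompose_of_mem_same _ hm, DirectSum.decompose_of_mem_same _ m.2]
    · rw [DirectSum.decompose_of_mem_ne _ hm h, DirectSum.decompose_of_mem_ne _ m.2 h, map_zero]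
  | add m m' hm hm' =>
    rw [map_add, DirectSum.decompose_add, DirectSum.decompose_add, DirectSum.add_apply,
      DirectSum.add_apply, AddSubgroup.coe_add, AddSubgroup.coe_add, map_add, hm, hm']

/-- The kernel of a homogeneous map is a homogeneous submodule. -/
theorem ker_isHomogeneous (β : E →ₗ[R] F) (hβ : ∀ (g : ι) (m : E), m ∈ 𝓔 g → β m ∈ 𝓕 g) :
    (LinearMap.ker β).IsHomogeneous 𝓔 := by
  intro i x hx
  rw [LinearMap.mem_ker] at hx ⊢
  rw [← decompose_map 𝓕 𝓔 β hβ x i, hx, DirectSum.decompose_zero]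
  rfl

end Ker

end Groth.Agent.Lib.Helper29GrHom
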