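import Groth.Agent.Lib.Helper29GrSerre1
import Groth.Agent.S13215
import Groth.Agent.S0323

/-! Vanishing of graded pieces of graded local cohomology for bundled graded modules, independent
of the resolution; transfer along graded short exact sequences; sub- and quotient objects
(helper29). -/

set_option autoImplicit false
set_option linter.style.haveILetI false
set_option linter.unusedSectionVars false
open DirectSum

noncomputable section

namespace Groth.Agent.Lib.Helper29GrHV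

open Groth.Agent.Lib.Helper29GrResCompare Groth.Agent.Lib.Helper29GrConeLES
  Groth.Agent.Lib.Helper29GrConeLES2 Groth.Agent.Lib.Helper29GrCompareMap
  Groth.Agent.Lib.Helper29GrSub Groth.Agent.Lib.Helper29GrQuot Groth.Agent.Lib.Helper29GrHom
  Groth.Agent.Lib.Helper29GrSerre Groth.Agent.Lib.Helper29GrShift
  Groth.Agent.Lib.Helper29GrShiftInj Groth.Agent.Lib.Helper29GrMulLES
  Groth.Agent.Lib.Helper29GrProd

universe u

variable {R : Type u} [CommRing R] [IsNoetherianRing R] {𝒜 : ℤ → AddSubgroup R} [GradedRing 𝒜]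
variable (a : HomogeneousIdeal 𝒜)

/-- `H^i_a(X)_γ = 0`, for every *injective resolution. -/
def HV (X : GrLC.GMod.{u} 𝒜) (i : ℕ) (γ : ℤ) : Prop :=
  ∀ E : GrLC.StarInjRes 𝒜 X.gr, E.Hcomp a i γ = ⊥

theorem HV_iff (X : GrLC.GMod.{u} 𝒜) (E : GrLC.StarInjRes 𝒜 X.gr) (i : ℕ) (γ : ℤ) :
    HV a X i γ ↔ E.Hcomp a i γ = ⊥ :=
  ⟨fun h => h E, fun h F => (Hcomp_eq_bot_iff F E a i γ).mpr h⟩

theorem exists_res (X : GrLC.GMod.{u} 𝒜) : Nonempty (GrLC.StarInjRes 𝒜 X.gr) :=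
  Groth.Agent.S13215.result R 𝒜 X.carrier X.gr

/-- A graded short exact sequence of bundled graded modules. -/
structure GSES (X' X X'' : GrLC.GMod.{u} 𝒜) where
  f : X'.carrier →ₗ[R] X.carrier
  g : X.carrier →ₗ[R] X''.carrier
  hfi : Function.Injective f
  hgs : Function.Surjective g
  hfg : LinearMap.ker g = LinearMap.range f
  hf : GrLC.IsGrHom X'.gr X.gr f
  hg : GrLC.IsGrHom X.gr X''.gr g

variable {a}

/-- `H^{n+1}(X')_γ = 0` and `H^n(X)_γ = 0` imply `H^n(X'')_γ = 0`. -/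
theorem HV_right {X' X X'' : GrLC.GMod.{u} 𝒜} (S : GSES X' X X'') (n : ℕ) (γ : ℤ)
    (h1 : HV a X' (n + 1) γ) (h2 : HV a X n γ) : HV a X'' n γ := by
  obtain ⟨E'⟩ := exists_res X'
  obtain ⟨E⟩ := exists_res X
  intro F
  obtain ⟨φ, hφ, hφ0, hφd⟩ := exists_comparison_over E' E S.f S.hf
  exact T1 E' E S.f S.g φ S.hfi S.hgs S.hfg S.hg hφ hφ0 hφd a F n γ (h1 E') (h2 E)

/-- `H^n(X')_γ = 0` and `H^n(X'')_γ = 0` imply `H^n(X)_γ = 0`. -/
theorem HV_mid {X' X X'' : GrLC.GMod.{u} 𝒜} (S : GSES X' X X'') (n : ℕ) (γ : ℤ)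
    (h1 : HV a X' n γ) (h2 : HV a X'' n γ) : HV a X n γ := by
  obtain ⟨E'⟩ := exists_res X'
  obtain ⟨E⟩ := exists_res X
  rw [HV_iff a X E]
  obtain ⟨φ, hφ, hφ0, hφd⟩ := exists_comparison_over E' E S.f S.hf
  obtain ⟨ρ0, hρ0, hρε⟩ := exists_retraction E' E S.f φ S.hfi hφ hφ0
  have hCR := h2 (Groth.Agent.Lib.Helper29GrConeRes.coneRes E' E S.f S.g φ S.hfi S.hgs S.hfg S.hg
    hφ hφ0 hφd ρ0 hρ0 hρε)
  have hCR0 : ∀ w ∈ (Groth.Agent.Lib.Helper29GrConeRes.coneRes E' E S.f S.g φ S.hfi S.hgs S.hfg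
      S.hg hφ hφ0 hφd ρ0 hρ0 hρε).Hcomp a n γ, w = 0 := by
    intro w hw
    rw [hCR] at hw
    exact (Submodule.mem_bot _).mp hw
  have hE'0 : ∀ w ∈ E'.Hcomp a n γ, w = 0 := by
    intro w hw
    rw [h1 E'] at hw
    exact (Submodule.mem_bot _).mp hw
  rw [eq_bot_iff]
  intro y hy
  have hker : (⟨y, hy⟩ : E.Hcomp a n γ) ∈ LinearMap.ker
      (mI E' E S.f S.g φ S.hfi S.hgs S.hfg S.hg hφ hφ0 hφd ρ0 hρ0 hρε a n γ) := by
    rw [LinearMap.mem_ker]
    apply Subtype.ext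
    exact hCR0 _ (mI E' E S.f S.g φ S.hfi S.hgs S.hfg S.hg hφ hφ0 hφd ρ0 hρ0 hρε a n γ ⟨y, hy⟩).2
  rw [ker_mI] at hker
  obtain ⟨y', hy'⟩ := hker
  have hy'0 : y' = 0 := Subtype.ext (hE'0 _ y'.2)
  rw [hy'0, map_zero] at hy'
  rw [Submodule.mem_bot]
  exact (congrArg Subtype.val hy').symm

/-- Higher graded local cohomology of a torsion module vanishes. -/
theorem HV_of_torsion (X : GrLC.GMod.{u} 𝒜) (htors : GrLC.gam a.toIdeal X.carrier = ⊤) (i : ℕ)
    (γ : ℤ) : HV a X (i + 1) γ := by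
  intro E
  have htors' : LocCoh.IsPowerTorsion a.toIdeal X.carrier := by
    intro x
    have : x ∈ GrLC.gam a.toIdeal X.carrier := htors ▸ Submodule.mem_top
    exact this
  have hvan : ∀ y : LocCoh.H a.toIdeal (i + 1) X.carrier, y = 0 := by
    intro y
    have := (Groth.Agent.S0323.result R a.toIdeal X.carrier htors').2 (i + 1) (Nat.succ_pos i)
    exact Subsingleton.elim _ _
  exact Groth.Agent.Lib.Helper29GrCMEnd.Hcomp_eq_bot_of_H_eq_zero a E (i + 1) hvan γ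

/-- For a torsion module, `H^0(X)_γ = 0` forces `X_γ = 0`. -/
theorem eq_zero_of_HV_zero_of_torsion (X : GrLC.GMod.{u} 𝒜)
    (htors : GrLC.gam a.toIdeal X.carrier = ⊤) (γ : ℤ) (h : HV a X 0 γ) (z : X.carrier)
    (hz : z ∈ X.gr γ) : z = 0 := by
  obtain ⟨E⟩ := exists_res X
  have hzg : z ∈ GrLC.gam a.toIdeal X.carrier := htors ▸ Submodule.mem_top
  have hcoc : E.ε z ∈ E.cocyc a 0 := by
    refine ⟨map_mem_gam a.toIdeal E.ε hzg, ?_⟩
    have : E.ε z ∈ LinearMap.ker (E.d 0) := by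
      rw [E.exact_zero]
      exact ⟨z, rfl⟩
    exact this
  have hmem : E.toH a 0 ⟨E.ε z, hcoc⟩ ∈ E.Hcomp a 0 γ :=
    ⟨⟨E.ε z, hcoc⟩, E.ε_grHom γ z hz, rfl⟩
  rw [h E, Submodule.mem_bot, toH_eq_zero_iff] at hmem
  have h0 : E.ε z = 0 := (Submodule.mem_bot R).mp hmem
  exact E.ε_injective (h0.trans (map_zero E.ε).symm)

/-! ### Sub- and quotient objects -/

omit [IsNoetherianRing R] in
theorem gam_quot_eq_top {M : Type u} [AddCommGroup M] [Module R M] (I : Ideal R)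
    (P : Submodule R M) (htors : ∀ z : M, ∃ N : ℕ, ∀ r ∈ I ^ N, r • z ∈ P) :
    GrLC.gam I (M ⧸ P) = ⊤ := by
  rw [eq_top_iff]
  intro w _
  obtain ⟨z, rfl⟩ := P.mkQ_surjective w
  obtain ⟨N, hN⟩ := htors z
  refine ⟨N, fun r hr => ?_⟩
  rw [← map_smul, Submodule.mkQ_apply, Submodule.Quotient.mk_eq_zero]
  exact hN r hr

omit [IsNoetherianRing R] in
theorem ker_mkQ_eq_range_subtype {M : Type u} [AddCommGroup M] [Module R M] (P : Submodule R M) :
    LinearMap.ker P.mkQ = LinearMap.range P.subtype := by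
  rw [Submodule.ker_mkQ, Submodule.range_subtype]

omit [IsNoetherianRing R] in
theorem ker_rangeRestrict_eq_range_subtype {M N : Type u} [AddCommGroup M] [Module R M]
    [AddCommGroup N] [Module R N] (d : M →ₗ[R] N) :
    LinearMap.ker d.rangeRestrict = LinearMap.range (LinearMap.ker d).subtype := by
  rw [LinearMap.ker_rangeRestrict, Submodule.range_subtype]

/-- A homogeneous submodule as a bundled graded module. -/
def subGMod (X : GrLC.GMod.{u} 𝒜) (P : Submodule R X.carrier) (hP : P.IsHomogeneous X.gr) :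
    GrLC.GMod.{u} 𝒜 :=
  { carrier := ↥P
    gr := subGr X.gr P
    dec := subDecomposition X.gr P hP
    gsmul := sub_gradedSMul X.gr P 𝒜 }

/-- The quotient by a homogeneous submodule as a bundled graded module. -/
def quotGMod (X : GrLC.GMod.{u} 𝒜) (P : Submodule R X.carrier) (hP : P.IsHomogeneous X.gr) :
    GrLC.GMod.{u} 𝒜 :=
  { carrier := X.carrier ⧸ P
    gr := quotGr X.gr P
    dec := quotDecomposition X.gr P hP
    gsmul := quot_gradedSMul X.gr P 𝒜 }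

/-- The tautological short exact sequence `P → X → X ⧸ P`. -/
def sesSubQuot (X : GrLC.GMod.{u} 𝒜) (P : Submodule R X.carrier) (hP : P.IsHomogeneous X.gr) :
    GSES (subGMod X P hP) X (quotGMod X P hP) where
  f := P.subtype
  g := P.mkQ
  hfi := P.subtype_injective
  hgs := P.mkQ_surjective
  hfg := ker_mkQ_eq_range_subtype P
  hf := fun _ _ hx => hx
  hg := fun _ x hx => ⟨x, hx, rfl⟩

/-- The short exact sequence `ker d → X₁ → range d`. -/
def sesKerRange {X₁ X₀ : GrLC.GMod.{u} 𝒜} (d : X₁.carrier →ₗ[R] X₀.carrier)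
    (hd : GrLC.IsGrHom X₁.gr X₀.gr d) (hk : (LinearMap.ker d).IsHomogeneous X₁.gr)
    (hr : (LinearMap.range d).IsHomogeneous X₀.gr) :
    GSES (subGMod X₁ (LinearMap.ker d) hk) X₁ (subGMod X₀ (LinearMap.range d) hr) where
  f := (LinearMap.ker d).subtype
  g := d.rangeRestrict
  hfi := (LinearMap.ker d).subtype_injective
  hgs := d.surjective_rangeRestrict
  hfg := ker_rangeRestrict_eq_range_subtype d
  hf := fun _ _ hx => hx
  hg := fun γ x hx => hd γ x hx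

theorem ker_hom {X₁ X₀ : GrLC.GMod.{u} 𝒜} (d : X₁.carrier →ₗ[R] X₀.carrier)
    (hd : GrLC.IsGrHom X₁.gr X₀.gr d) : (LinearMap.ker d).IsHomogeneous X₁.gr :=
  ker_isHomogeneous X₀.gr X₁.gr d hd

theorem range_hom {X₁ X₀ : GrLC.GMod.{u} 𝒜} (d : X₁.carrier →ₗ[R] X₀.carrier)
    (hd : GrLC.IsGrHom X₁.gr X₀.gr d) : (LinearMap.range d).IsHomogeneous X₀.gr :=
  Groth.Agent.Lib.Helper29GrEss.range_isHomogeneous X₀.gr X₁.gr d hd

/-- One step of the chase: for `d : X₁ → X₀` with `a`-torsion cokernel and `i ≥ 1`,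
`H^i(X₁)_γ = 0` and `H^{i+1}(ker d)_γ = 0` imply `H^i(X₀)_γ = 0`. -/
theorem HV_of_torsion_coker {X₁ X₀ : GrLC.GMod.{u} 𝒜} (d : X₁.carrier →ₗ[R] X₀.carrier)
    (hd : GrLC.IsGrHom X₁.gr X₀.gr d)
    (htors : ∀ z : X₀.carrier, ∃ N : ℕ, ∀ r ∈ a.toIdeal ^ N, r • z ∈ LinearMap.range d)
    (i : ℕ) (γ : ℤ) (h1 : HV a X₁ (i + 1) γ)
    (h2 : HV a (subGMod X₁ (LinearMap.ker d) (ker_hom d hd)) (i + 2) γ) :
    HV a X₀ (i + 1) γ := by
  have hB : HV a (subGMod X₀ (LinearMap.range d) (range_hom d hd)) (i + 1) γ :=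
    HV_right (sesKerRange d hd (ker_hom d hd) (range_hom d hd)) (i + 1) γ h2 h1
  have hQ : GrLC.gam a.toIdeal (quotGMod X₀ (LinearMap.range d) (range_hom d hd)).carrier = ⊤ :=
    gam_quot_eq_top a.toIdeal (LinearMap.range d) htors
  exact HV_mid (sesSubQuot X₀ (LinearMap.range d) (range_hom d hd)) (i + 1) γ hB
    (HV_of_torsion _ hQ i γ)

/-- The degree-zero step of the chase: for `d : X₁ → X₀` with `a`-torsion cokernel,
`H^0(X₀)_γ = 0`, `H^1(X₁)_γ = 0` and `H^2(ker d)_γ = 0` imply that `d` is onto in degree `γ`. -/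
theorem mem_range_of_HV {X₁ X₀ : GrLC.GMod.{u} 𝒜} (d : X₁.carrier →ₗ[R] X₀.carrier)
    (hd : GrLC.IsGrHom X₁.gr X₀.gr d)
    (htors : ∀ z : X₀.carrier, ∃ N : ℕ, ∀ r ∈ a.toIdeal ^ N, r • z ∈ LinearMap.range d)
    (γ : ℤ) (h0 : HV a X₀ 0 γ) (h1 : HV a X₁ 1 γ)
    (h2 : HV a (subGMod X₁ (LinearMap.ker d) (ker_hom d hd)) 2 γ)
    (z : X₀.carrier) (hz : z ∈ X₀.gr γ) : z ∈ LinearMap.range d := by
  have hB : HV a (subGMod X₀ (LinearMap.range d) (range_hom d hd)) 1 γ :=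
    HV_right (sesKerRange d hd (ker_hom d hd) (range_hom d hd)) 1 γ h2 h1
  have hQ : GrLC.gam a.toIdeal (quotGMod X₀ (LinearMap.range d) (range_hom d hd)).carrier = ⊤ :=
    gam_quot_eq_top a.toIdeal (LinearMap.range d) htors
  have hQ0 : HV a (quotGMod X₀ (LinearMap.range d) (range_hom d hd)) 0 γ :=
    HV_right (sesSubQuot X₀ (LinearMap.range d) (range_hom d hd)) 0 γ hB h0
  have h3 := eq_zero_of_HV_zero_of_torsion (quotGMod X₀ (LinearMap.range d) (range_hom d hd)) hQ γ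
    hQ0 ((LinearMap.range d).mkQ z) ⟨z, hz, rfl⟩
  have h4 : (LinearMap.range d).mkQ z = 0 := h3
  rwa [Submodule.mkQ_apply, Submodule.Quotient.mk_eq_zero] at h4

end Groth.Agent.Lib.Helper29GrHV
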