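import Groth.Agent.Lib.Helper29GrKoszulCone
import Groth.Agent.Lib.Helper29GrConv

/-! More transfer lemmas for vanishing of graded pieces of graded local cohomology (helper29). -/

set_option autoImplicit false
set_option linter.style.haveILetI false
set_option linter.unusedSectionVars false
open DirectSum

noncomputable section

namespace Groth.Agent.Lib.Helper29GrHV2

open Groth.Agent.Lib.Helper29GrHV Groth.Agent.Lib.Helper29GrKoszulCone
  Groth.Agent.Lib.Helper29GrResCompare Groth.Agent.Lib.Helper29GrConeLES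
  Groth.Agent.Lib.Helper29GrCompareMap Groth.Agent.Lib.Helper29GrShift
  Groth.Agent.Lib.Helper29GrShiftInj Groth.Agent.Lib.Helper29GrMulLES


universe u

variable {R : Type u} [CommRing R] [IsNoetherianRing R] {𝒜 : ℤ → AddSubgroup R} [GradedRing 𝒜]
variable {a : HomogeneousIdeal 𝒜}

/-- `H^n(X'')_γ = 0` and `H^{n+1}(X)_γ = 0` imply `H^{n+1}(X')_γ = 0`. -/
theorem HV_left {X' X X'' : GrLC.GMod.{u} 𝒜} (S : GSES X' X X'') (n : ℕ) (γ : ℤ)
    (h1 : HV a X'' n γ) (h2 : HV a X (n + 1) γ) : HV a X' (n + 1) γ := by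
  obtain ⟨E'⟩ := exists_res X'
  obtain ⟨E⟩ := exists_res X
  obtain ⟨F⟩ := exists_res X''
  rw [HV_iff a X' E']
  obtain ⟨φ, hφ, hφ0, hφd⟩ := exists_comparison_over E' E S.f S.hf
  rw [Hcomp_eq_bot_iff_forall]
  intro u hu huγ
  apply T2 E' E S.f S.g φ S.hfi S.hgs S.hfg S.hg hφ hφ0 hφd a F n γ (h1 F) u hu huγ
  have hcoc : φ (n + 1) u ∈ E.cocyc a (n + 1) := by
    refine ⟨map_mem_gam a.toIdeal (φ (n + 1)) hu.1, ?_⟩
    have hk : E'.d (n + 1) u = 0 := hu.2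
    show E.d (n + 1) (φ (n + 1) u) = 0
    rw [← hφd, hk, map_zero]
  exact (Hcomp_eq_bot_iff_forall E a (n + 1) γ).mp (h2 E) _ hcoc (hφ (n + 1) γ u huγ)

theorem HV_shift_iff (X : GrLC.GMod.{u} 𝒜) (d : ℤ) (i : ℕ) (γ : ℤ) :
    HV a (shiftGMod 𝒜 X d) i γ ↔ HV a X i (γ + d) := by
  obtain ⟨E⟩ := exists_res X
  rw [HV_iff a (shiftGMod 𝒜 X d) (shiftRes E d), HV_iff a X E]
  exact Hcomp_shiftRes_eq_bot_iff E a d i γ

/-- `H^0(X)_γ = 0` when `X_γ = 0`. -/
theorem HV_zero_of_piece (X : GrLC.GMod.{u} 𝒜) (γ : ℤ) (h : ∀ z ∈ X.gr γ, z = 0) :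
    HV a X 0 γ := by
  intro E
  rw [Hcomp_eq_bot_iff_forall]
  intro z hz hzγ
  have hzk : z ∈ LinearMap.range E.ε := E.exact_zero ▸ hz.2
  obtain ⟨m, rfl⟩ := hzk
  have hmn : m ∈ X.gr γ :=
    Groth.Agent.Lib.Helper29GrTorsBound.mem_of_map_mem X.gr (E.X 0).gr E.ε E.ε_grHom
      E.ε_injective hzγ
  rw [h m hmn, map_zero]
  exact zero_mem _

/-- `H^0(X) = 0` when `a` contains an `X`-regular element. -/
theorem HV_zero_of_regular (X : GrLC.GMod.{u} 𝒜) (x : R) (hxa : x ∈ a.toIdeal)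
    (hreg : IsSMulRegular X.carrier x) (γ : ℤ) : HV a X 0 γ := by
  intro E
  rw [Hcomp_eq_bot_iff_forall]
  intro z hz _
  have hzk : z ∈ LinearMap.range E.ε := E.exact_zero ▸ hz.2
  obtain ⟨m, rfl⟩ := hzk
  obtain ⟨k, hk⟩ := hz.1
  have h1 : x ^ k • m = 0 := by
    apply E.ε_injective
    rw [map_smul, hk _ (Ideal.pow_mem_pow hxa k), map_zero]
  have h2 : m = 0 := (hreg.pow k) (h1.trans (smul_zero _).symm)
  rw [h2, map_zero]
  exact zero_mem _

theorem HV_subGMod_congr (X : GrLC.GMod.{u} 𝒜) {P Q : Submodule R X.carrier} (h : P = Q)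
    (hP : P.IsHomogeneous X.gr) (hQ : Q.IsHomogeneous X.gr) (i : ℕ) (γ : ℤ) :
    HV a (subGMod X P hP) i γ ↔ HV a (subGMod X Q hQ) i γ := by
  subst h
  exact Iff.rfl

/-- Transfer along a graded isomorphism. -/
theorem HV_of_equiv {X Y : GrLC.GMod.{u} 𝒜} (e : X.carrier ≃ₗ[R] Y.carrier)
    (he : GrLC.IsGrHom X.gr Y.gr e.toLinearMap) (i : ℕ) (γ : ℤ) (h : HV a X i γ) :
    HV a Y i γ := by
  let Z : GrLC.GMod.{u} 𝒜 := subGMod Y ⊥ (Groth.Agent.Lib.Helper29GrSub.IsHomogeneous.bot Y.gr)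
  have hZ : Subsingleton Z.carrier :=
    inferInstanceAs (Subsingleton ↥(⊥ : Submodule R Y.carrier))
  let S : GSES X Y Z :=
    { f := e.toLinearMap
      g := 0
      hfi := e.injective
      hgs := fun z => ⟨0, Subsingleton.elim _ _⟩
      hfg := by
        rw [LinearMap.ker_zero, LinearEquiv.range]
      hf := he
      hg := fun γ z _ => by
        rw [LinearMap.zero_apply]
        exact zero_mem _ }
  exact HV_mid S i γ h (HV_of_subsingleton Z i γ)

end Groth.Agent.Lib.Helper29GrHV2
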