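import Groth.Agent.Lib.Helper29GrKoszulList
import Groth.Agent.Lib.Helper29GrStd

/-! Mumford's regularity lemma and generation in degrees `≤ reg` via the Koszul chase
(helper29). -/

set_option autoImplicit false
set_option linter.style.haveILetI false
set_option linter.unusedSectionVars false
open DirectSum

noncomputable section

namespace Groth.Agent.Lib.Helper29GrMumford

open Groth.Agent.Lib.Helper29GrHV Groth.Agent.Lib.Helper29GrKoszulChase
  Groth.Agent.Lib.Helper29GrKoszulCone Groth.Agent.Lib.Helper29GrKoszulList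
  Groth.Agent.Lib.Helper29GrEss Groth.Agent.Lib.Helper29GrStd Groth.Agent.Lib.Helper29GrBaer

universe u

variable {R : Type u} [CommRing R] [IsNoetherianRing R] {𝒜 : ℤ → AddSubgroup R} [GradedRing 𝒜]
variable {a : HomogeneousIdeal 𝒜}

/-- Finitely many degree-one generators. -/
theorem exists_list_gens (hhom : a.toIdeal = Ideal.span ((𝒜 1 : AddSubgroup R) : Set R)) :
    ∃ xs : List R, (∀ x ∈ xs, x ∈ 𝒜 1) ∧ a.toIdeal = Ideal.span {x | x ∈ xs} := by
  have hfg : (Submodule.span R ((𝒜 1 : AddSubgroup R) : Set R)).FG :=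
    IsNoetherian.noetherian _
  obtain ⟨s', hs', hspan⟩ := (Submodule.fg_span_iff_fg_span_finset_subset _).mp hfg
  refine ⟨s'.toList, fun x hx => hs' (Finset.mem_toList.mp hx), ?_⟩
  rw [hhom]
  have : {x | x ∈ s'.toList} = (s' : Set R) := by
    ext x
    simp [Finset.mem_toList]
  rw [this]
  exact hspan

/-- One step of Mumford's lemma. -/
theorem diag_step (X : GrLC.GMod.{u} 𝒜) (xs : List R) (hxs : ∀ x ∈ xs, x ∈ 𝒜 1)
    (ha : a.toIdeal = Ideal.span {x | x ∈ xs}) (l : ℕ) (hl : 1 ≤ l) (t : ℤ)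
    (h : ∀ i : ℕ, l ≤ i → HV a X i (t - 1 - i)) : ∀ i : ℕ, l ≤ i → HV a X i (t - i) := by
  intro i hi
  obtain ⟨K, rfl, hK⟩ := exists_koszul (a := a) X xs hxs
  obtain ⟨i₀, rfl⟩ : ∃ i₀, i = i₀ + 1 := ⟨i - 1, by omega⟩
  apply chase xs.length K (torsH_of_kills K xs ha hK.kills) hK.bdd i₀
  intro j
  apply hK.q (j + 1) (i₀ + 1 + j)
  have := h (i₀ + 1 + j) (by omega)
  rw [show t - ((i₀ + 1 : ℕ) : ℤ) - ((j + 1 : ℕ) : ℤ) = t - 1 - ((i₀ + 1 + j : ℕ) : ℤ) by
    push_cast; ring]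
  exact this

/-- Mumford's lemma for bundled graded modules. -/
theorem diag_vanishing (X : GrLC.GMod.{u} 𝒜) (xs : List R) (hxs : ∀ x ∈ xs, x ∈ 𝒜 1)
    (ha : a.toIdeal = Ideal.span {x | x ∈ xs}) (l : ℕ) (hl : 1 ≤ l) (r : ℤ)
    (hvan : ∀ i : ℕ, l ≤ i → HV a X i (r + 1 - i)) (k : ℕ) :
    ∀ i : ℕ, l ≤ i → HV a X i (r + 1 + k - i) := by
  induction k with
  | zero =>
    intro i hi
    rw [Nat.cast_zero, add_zero]
    exact hvan i hi
  | succ k ih =>
    apply diag_step X xs hxs ha l hl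
    intro i hi
    rw [show r + 1 + ((k + 1 : ℕ) : ℤ) - 1 - (i : ℤ) = r + 1 + (k : ℤ) - i by push_cast; ring]
    exact ih i hi

/-- If `H^j(X)_{t-j} = 0` for all `j` then `X_t ⊆ a X`. -/
theorem piece_le_smul_top (X : GrLC.GMod.{u} 𝒜) (xs : List R) (hxs : ∀ x ∈ xs, x ∈ 𝒜 1)
    (ha : a.toIdeal = Ideal.span {x | x ∈ xs}) (t : ℤ) (h : ∀ j : ℕ, HV a X j (t - j))
    (z : X.carrier) (hz : z ∈ X.gr t) : z ∈ a.toIdeal • (⊤ : Submodule R X.carrier) := by
  obtain ⟨K, rfl, hK⟩ := exists_koszul (a := a) X xs hxs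
  have h1 := chase_zero xs.length K (torsH_of_kills K xs ha hK.kills) hK.bdd t
    (fun j => hK.q j j t (h j)) z hz
  rw [ha]
  exact hK.rng h1

section Nakayama

variable {M : Type u} [AddCommGroup M] [Module R M] (ℳ : ℤ → AddSubgroup M)
  [DirectSum.Decomposition ℳ] [SetLike.GradedSMul 𝒜 ℳ]

omit [IsNoetherianRing R] in
/-- The degree `n` component of an element of `𝔞 M` lies in `R_1 M_{n-1}`. -/
theorem proj_mem_of_mem_smul_top (𝔞 : Ideal R) (h1 : 𝔞 = Ideal.span (𝒜 1 : Set R))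
    (G : Submodule R M) (n : ℤ) (hprev : ∀ z ∈ ℳ (n - 1), z ∈ G) :
    ∀ x ∈ 𝔞 • (⊤ : Submodule R M), ((decompose ℳ x) n : M) ∈ G := by
  intro x hx
  refine Submodule.smul_induction_on hx ?_ ?_
  · intro r hr y _
    rw [h1] at hr
    suffices hsuf : ∀ y : M, ((decompose ℳ (r • y)) n : M) ∈ G from hsuf y
    refine Submodule.span_induction
      (p := fun r _ => ∀ y : M, ((decompose ℳ (r • y)) n : M) ∈ G) ?_ ?_ ?_ ?_ hr
    · intro p hp y
      rw [decompose_smul_of_mem 𝒜 ℳ hp y n]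
      exact G.smul_mem _ (hprev _ (SetLike.coe_mem _))
    · intro y
      rw [zero_smul, DirectSum.decompose_zero]
      exact zero_mem _
    · intro r r' _ _ hr hr' y
      rw [add_smul, DirectSum.decompose_add, DirectSum.add_apply, AddSubgroup.coe_add]
      exact add_mem (hr y) (hr' y)
    · intro c r _ hr y
      rw [smul_eq_mul, mul_comm, mul_smul]
      exact hr (c • y)
  · intro x y hx hy
    rw [DirectSum.decompose_add, DirectSum.add_apply, AddSubgroup.coe_add]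
    exact add_mem hx hy

omit [IsNoetherianRing R] in
/-- Graded Nakayama in the form: a submodule containing all pieces `M_n` with `P n`, where the
pieces `M_t` with `¬ P t` lie in `𝔞 M`, is everything. -/
theorem eq_top_of_pieces [Module.Finite R M] (hpos : ∀ n : ℤ, n < 0 → 𝒜 n = ⊥) (𝔞 : Ideal R)
    (h1 : 𝔞 = Ideal.span (𝒜 1 : Set R)) (P : ℤ → Prop) (G : Submodule R M)
    (hG : ∀ n, P n → ∀ z ∈ ℳ n, z ∈ G)
    (hstep : ∀ t, ¬ P t → ∀ z ∈ ℳ t, z ∈ 𝔞 • (⊤ : Submodule R M)) : G = ⊤ := by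
  classical
  obtain ⟨S, hS, hspan⟩ := exists_homogeneous_generators (R := R) ℳ
  choose! deg hdeg using hS
  obtain ⟨j₀, hj₀⟩ : ∃ j₀ : ℤ, ∀ s ∈ S, j₀ ≤ deg s := by
    obtain ⟨j, hj⟩ := Finset.exists_le (S.image fun s => -deg s)
    refine ⟨-j, fun s hs => ?_⟩
    have := hj _ (Finset.mem_image_of_mem (fun s => -deg s) hs)
    omega
  have hlow : ∀ n < j₀, ℳ n = ⊥ := piece_eq_bot_of_lt 𝒜 ℳ hpos S deg hdeg hspan j₀ hj₀
  have hall : ∀ n, ∀ z ∈ ℳ n, z ∈ G := by
    intro n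
    by_cases hn : n < j₀
    · intro z hz
      rw [eq_zero_of_mem_of_eq_bot (hlow n hn) hz]
      exact zero_mem _
    · have hn' : j₀ - 1 ≤ n := by omega
      refine Int.leInduction (m := j₀ - 1) (motive := fun n _ => ∀ z ∈ ℳ n, z ∈ G) ?_ ?_ n hn'
      · intro z hz
        rw [eq_zero_of_mem_of_eq_bot (hlow (j₀ - 1) (by omega)) hz]
        exact zero_mem _
      · intro k _ hk z hz
        by_cases hP : P (k + 1)
        · exact hG _ hP z hz
        · have h2 := proj_mem_of_mem_smul_top ℳ 𝔞 h1 G (k + 1)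
            (by rwa [add_sub_cancel_right]) z (hstep _ hP z hz)
          rwa [DirectSum.decompose_of_mem_same ℳ hz] at h2
  rw [eq_top_iff]
  intro x _
  rw [← DirectSum.sum_support_decompose ℳ x]
  exact G.sum_mem fun n _ => hall n _ (SetLike.coe_mem _)

end Nakayama

end Groth.Agent.Lib.Helper29GrMumford
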