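import Groth.Agent.Lib.Helper29GrPi
import Groth.Agent.Lib.Helper29GrHV2
import Groth.Agent.Lib.Helper29GrMumford

/-! Graded free modules of finite rank as bundled graded modules; their graded local cohomology
from that of the ring; the syzygy step for regularity (helper29). -/

set_option autoImplicit false
set_option linter.style.haveILetI false
set_option linter.unusedSectionVars false
open DirectSum

noncomputable section

namespace Groth.Agent.Lib.Helper29GrFree

open Groth.Agent.Lib.Helper29GrHV Groth.Agent.Lib.Helper29GrHV2 Groth.Agent.Lib.Helper29GrPi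
  Groth.Agent.Lib.Helper29GrShift Groth.Agent.Lib.Helper29GrShiftInj
  Groth.Agent.Lib.Helper29GrKoszulCone Groth.Agent.Lib.Helper29GrMumford
  Groth.Agent.Lib.Helper29GrConv

universe u

variable {R : Type u} [CommRing R] [IsNoetherianRing R] (𝒜 : ℤ → AddSubgroup R) [GradedRing 𝒜]

/-- The ring as a graded module over itself. -/
def ringGMod : GrLC.GMod.{u} 𝒜 := { carrier := R, gr := 𝒜 }

/-- Pieces of the graded free module with basis degrees `deg`. -/
def freeGr {m : ℕ} (deg : Fin m → ℤ) : ℤ → AddSubgroup (Fin m → R) :=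
  piGr (fun b => shiftGr 𝒜 (-deg b))

theorem mem_freeGr {m : ℕ} (deg : Fin m → ℤ) (γ : ℤ) (v : Fin m → R) :
    v ∈ freeGr 𝒜 deg γ ↔ ∀ b, v b ∈ 𝒜 (γ - deg b) := Iff.rfl

/-- The graded free module with basis degrees `deg`. -/
def freeGMod {m : ℕ} (deg : Fin m → ℤ) : GrLC.GMod.{u} 𝒜 :=
  letI : ∀ b, DirectSum.Decomposition (shiftGr 𝒜 (-deg b)) :=
    fun b => shiftDecomposition 𝒜 (-deg b)
  letI : ∀ b, SetLike.GradedSMul 𝒜 (shiftGr 𝒜 (-deg b)) :=
    fun b => shift_gradedSMul 𝒜 𝒜 (-deg b)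
  { carrier := Fin m → R
    gr := freeGr 𝒜 deg
    dec := piDecomposition (fun b => shiftGr 𝒜 (-deg b))
    gsmul := pi_gradedSMul (fun b => shiftGr 𝒜 (-deg b)) 𝒜 }

variable {𝒜} {a : HomogeneousIdeal 𝒜}

/-- `H^0(X)_γ = 0` iff `Γ_a(X)_γ = 0`. -/
theorem HV_zero_iff (X : GrLC.GMod.{u} 𝒜) (γ : ℤ) :
    HV a X 0 γ ↔ ∀ z ∈ X.gr γ, z ∈ GrLC.gam a.toIdeal X.carrier → z = 0 := by
  obtain ⟨E⟩ := exists_res X
  rw [HV_iff a X E]
  constructor
  · intro h z hz hzg
    have hcoc : E.ε z ∈ E.cocyc a 0 := by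
      refine ⟨Groth.Agent.Lib.Helper29GrConeLES.map_mem_gam a.toIdeal E.ε hzg, ?_⟩
      have : E.ε z ∈ LinearMap.ker (E.d 0) := by
        rw [E.exact_zero]
        exact ⟨z, rfl⟩
      exact this
    have h1 := (Hcomp_eq_bot_iff_forall E a 0 γ).mp h (E.ε z) hcoc (E.ε_grHom γ z hz)
    have h0 : E.ε z = 0 := (Submodule.mem_bot R).mp h1
    exact E.ε_injective (h0.trans (map_zero E.ε).symm)
  · intro h
    rw [Hcomp_eq_bot_iff_forall]
    intro z hz hzγ
    have hzk : z ∈ LinearMap.range E.ε := E.exact_zero ▸ hz.2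
    obtain ⟨m, rfl⟩ := hzk
    have hmn : m ∈ X.gr γ :=
      Groth.Agent.Lib.Helper29GrTorsBound.mem_of_map_mem X.gr (E.X 0).gr E.ε E.ε_grHom
        E.ε_injective hzγ
    have hmg : m ∈ GrLC.gam a.toIdeal X.carrier := by
      obtain ⟨k, hk⟩ := hz.1
      refine ⟨k, fun r hr => ?_⟩
      apply E.ε_injective
      rw [map_smul, hk r hr, map_zero]
    rw [h m hmn hmg, map_zero]
    exact zero_mem _

/-- `H^0` is left exact. -/
theorem HV_zero_of_injective {X' X : GrLC.GMod.{u} 𝒜} (f : X'.carrier →ₗ[R] X.carrier)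
    (hf : GrLC.IsGrHom X'.gr X.gr f) (hfi : Function.Injective f) (γ : ℤ) (h : HV a X 0 γ) :
    HV a X' 0 γ := by
  rw [HV_zero_iff] at h ⊢
  intro z hz hzg
  apply hfi
  rw [map_zero]
  exact h (f z) (hf γ z hz) (Groth.Agent.Lib.Helper29GrConeLES.map_mem_gam a.toIdeal f hzg)

/-- The graded local cohomology of a graded free module with basis degrees `≤ D`, when the ring
is `0`-regular. -/
theorem HV_free (hS : ∀ (q : ℕ) (e : ℤ), -(q : ℤ) < e → HV a (ringGMod 𝒜) q e) :
    ∀ (m : ℕ) (deg : Fin m → ℤ) (D : ℤ), (∀ b, deg b ≤ D) → ∀ (q : ℕ) (e : ℤ), D - q < e →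
      HV a (freeGMod 𝒜 deg) q e := by
  intro m
  induction m with
  | zero =>
    intro deg D _ q e _
    have : Subsingleton (freeGMod 𝒜 deg).carrier :=
      inferInstanceAs (Subsingleton (Fin 0 → R))
    exact HV_of_subsingleton _ q e
  | succ m ih =>
    intro deg D hdeg q e he
    let S : GSES (shiftGMod 𝒜 (ringGMod 𝒜) (-deg 0)) (freeGMod 𝒜 deg)
        (freeGMod 𝒜 (fun b => deg (Fin.succ b))) :=
      { f := LinearMap.single R (fun _ : Fin (m + 1) => R) 0
        g := LinearMap.funLeft R R Fin.succ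
        hfi := Pi.single_injective (M := fun _ : Fin (m + 1) => R) 0
        hgs := by
          intro w
          refine ⟨Fin.cons 0 w, ?_⟩
          funext b
          show (Fin.cons 0 w : Fin (m + 1) → R) (Fin.succ b) = w b
          rw [Fin.cons_succ]
        hfg := by
          ext v
          rw [LinearMap.mem_ker, LinearMap.mem_range]
          constructor
          · intro hv
            refine ⟨v 0, ?_⟩
            funext b
            refine Fin.cases ?_ (fun b' => ?_) b
            · show (Pi.single 0 (v 0) : Fin (m + 1) → R) 0 = v 0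
              rw [Pi.single_eq_same]
            · show (Pi.single 0 (v 0) : Fin (m + 1) → R) (Fin.succ b') = v (Fin.succ b')
              rw [Pi.single_eq_of_ne (Fin.succ_ne_zero b')]
              exact (congrFun hv b').symm
          · rintro ⟨r, rfl⟩
            funext b
            show (Pi.single 0 r : Fin (m + 1) → R) (Fin.succ b) = 0
            rw [Pi.single_eq_of_ne (Fin.succ_ne_zero b)]
        hf := by
          intro γ r hr
          exact single_mem (fun b => shiftGr 𝒜 (-deg b)) 0 γ hr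
        hg := by
          intro γ v hv b
          exact hv (Fin.succ b) }
    refine HV_mid S q e ?_ (ih _ D (fun b => hdeg _) q e he)
    rw [HV_shift_iff]
    apply hS
    have := hdeg 0
    omega

/-- Coordinates of elements of `I F` lie in `I`. -/
theorem coord_mem_of_mem_smul_top {m : ℕ} (I : Ideal R) (v : Fin m → R)
    (hv : v ∈ I • (⊤ : Submodule R (Fin m → R))) (b : Fin m) : v b ∈ I := by
  refine Submodule.smul_induction_on hv ?_ ?_
  · intro r hr w _
    exact I.mul_mem_right _ hr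
  · intro x y hx hy
    exact I.add_mem hx hy

/-- All `H^j(W)_{t-j}` vanish for `t > D`. -/
def Reg (a : HomogeneousIdeal 𝒜) (W : GrLC.GMod.{u} 𝒜) (D : ℤ) : Prop :=
  ∀ t : ℤ, D < t → ∀ j : ℕ, HV a W j (t - j)

/-- A minimal graded free cover of a module regular in degrees `> D` has basis degrees `≤ D`. -/
theorem deg_le_of_reg (xs : List R) (hxs : ∀ x ∈ xs, x ∈ 𝒜 1)
    (hxa : a.toIdeal = Ideal.span {x | x ∈ xs}) (hne : a.toIdeal ≠ ⊤) (W : GrLC.GMod.{u} 𝒜)
    {m : ℕ} (deg : Fin m → ℤ) (π : (Fin m → R) →ₗ[R] W.carrier)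
    (hπg : GrLC.IsGrHom (freeGr 𝒜 deg) W.gr π) (hπs : Function.Surjective π)
    (hker : ∀ v, π v = 0 → ∀ b, v b ∈ a.toIdeal) (D : ℤ) (hW : Reg a W D) :
    ∀ b, deg b ≤ D := by
  intro b₀
  by_contra hlt
  have ht : D < deg b₀ := by omega
  have h1 : (1 : R) ∈ shiftGr 𝒜 (-deg b₀) (deg b₀) := by
    show (1 : R) ∈ 𝒜 (deg b₀ + -deg b₀)
    rw [add_neg_cancel]
    exact SetLike.one_mem_graded 𝒜
  have he : (Pi.single b₀ 1 : Fin m → R) ∈ freeGr 𝒜 deg (deg b₀) :=
    single_mem (fun b => shiftGr 𝒜 (-deg b)) b₀ (deg b₀) h1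
  have h2 := piece_le_smul_top W xs hxs hxa (deg b₀) (hW _ ht) (π (Pi.single b₀ 1))
    (hπg _ _ he)
  have h3 : (a.toIdeal • (⊤ : Submodule R (Fin m → R))).map π =
      a.toIdeal • (⊤ : Submodule R W.carrier) := by
    rw [Submodule.map_smul'', Submodule.map_top, LinearMap.range_eq_top.mpr hπs]
  rw [← h3] at h2
  obtain ⟨w, hw, hwe⟩ := h2
  have h4 := hker (Pi.single b₀ 1 - w) (by rw [map_sub, hwe, sub_self]) b₀
  have h5 := coord_mem_of_mem_smul_top a.toIdeal w hw b₀
  have h6 : (1 : R) ∈ a.toIdeal := by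
    have : ((Pi.single b₀ 1 - w : Fin m → R)) b₀ + w b₀ = 1 := by
      rw [Pi.sub_apply, Pi.single_eq_same, sub_add_cancel]
    rw [← this]
    exact a.toIdeal.add_mem h4 h5
  exact hne ((Ideal.eq_top_iff_one _).mpr h6)

section Step

variable (hS : ∀ (q : ℕ) (e : ℤ), -(q : ℤ) < e → HV a (ringGMod 𝒜) q e)
  (W : GrLC.GMod.{u} 𝒜) {m : ℕ} (deg : Fin m → ℤ) (π : (Fin m → R) →ₗ[R] W.carrier)
  (hπg : GrLC.IsGrHom (freeGr 𝒜 deg) W.gr π) (hπs : Function.Surjective π)

/-- The short exact sequence `ker π → F → W`. -/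
def sesKer : GSES (subGMod (freeGMod 𝒜 deg) (LinearMap.ker π)
    (ker_hom (X₁ := freeGMod 𝒜 deg) (X₀ := W) π hπg)) (freeGMod 𝒜 deg) W where
  f := (LinearMap.ker π).subtype
  g := π
  hfi := (LinearMap.ker π).subtype_injective
  hgs := hπs
  hfg := (Submodule.range_subtype _).symm
  hf := fun _ _ hx => hx
  hg := hπg

include hS hπs in
/-- Regularity passes to the syzygy module with a shift by one. -/
theorem reg_ker (D : ℤ) (hdeg : ∀ b, deg b ≤ D) (hW : Reg a W D) :
    Reg a (subGMod (freeGMod 𝒜 deg) (LinearMap.ker π)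
      (ker_hom (X₁ := freeGMod 𝒜 deg) (X₀ := W) π hπg)) (D + 1) := by
  intro t ht j
  cases j with
  | zero =>
    rw [Nat.cast_zero, sub_zero]
    refine HV_zero_of_injective (X := freeGMod 𝒜 deg) (LinearMap.ker π).subtype
      (fun _ _ hx => hx) (LinearMap.ker π).subtype_injective t ?_
    exact HV_free hS m deg D hdeg 0 t (by rw [Nat.cast_zero, sub_zero]; omega)
  | succ n =>
    refine HV_left (sesKer W deg π hπg hπs) n _ ?_ ?_
    · have := hW (t - 1) (by omega) n
      rw [show t - ((n + 1 : ℕ) : ℤ) = t - 1 - (n : ℤ) by push_cast; ring]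
      exact this
    · exact HV_free hS m deg D hdeg (n + 1) _ (by omega)

include hS hπs in
/-- Regularity passes from the syzygy module to the module. -/
theorem reg_quot (D : ℤ) (hdeg : ∀ b, deg b ≤ D)
    (hZ : Reg a (subGMod (freeGMod 𝒜 deg) (LinearMap.ker π)
      (ker_hom (X₁ := freeGMod 𝒜 deg) (X₀ := W) π hπg)) (D + 1)) : Reg a W D := by
  intro t ht j
  refine HV_right (sesKer W deg π hπg hπs) j _ ?_ ?_
  · have := hZ (t + 1) (by omega) (j + 1)
    rw [show t + 1 - ((j + 1 : ℕ) : ℤ) = t - (j : ℤ) by push_cast; ring] at this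
    exact this
  · exact HV_free hS m deg D hdeg j _ (by omega)

end Step

end Groth.Agent.Lib.Helper29GrFree
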