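import Groth.Agent.Lib.Helper29CechAlgD
import Groth.Agent.Lib.Helper29GrBaer
import Groth.Agent.Lib.Helper29GrFree

/-!
# The algebraic Čech complex of a *injective graded module over a Noetherian graded ring is exact
in every degree, at every spot `≥ 1` (helper29).
-/

set_option autoImplicit false
set_option linter.style.haveILetI false
set_option linter.unusedSectionVars false

universe u

open DirectSum

namespace Groth.Agent.Lib.Helper29.CechAlg

open Groth.Agent.Lib.Helper29GrHV Groth.Agent.Lib.Helper29GrEss Groth.Agent.Lib.Helper29GrSub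
  Groth.Agent.Lib.Helper29GrQuot Groth.Agent.Lib.Helper29GrFree

variable {R : Type u} [CommRing R] {𝒜 : ℤ → AddSubgroup R} [GradedRing 𝒜]

/-- The `u`-power torsion submodule. -/
def torsU (u : R) (Y : GrLC.GMod.{u} 𝒜) : Submodule R Y.carrier where
  carrier := {y | ∃ N : ℕ, u ^ N • y = 0}
  zero_mem' := ⟨0, smul_zero _⟩
  add_mem' := by
    rintro a b ⟨N, hN⟩ ⟨N', hN'⟩
    refine ⟨N + N', ?_⟩
    rw [smul_add, pow_add, mul_smul, mul_smul, hN', smul_zero, smul_comm, hN, smul_zero, add_zero]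
  smul_mem' := by
    rintro c a ⟨N, hN⟩
    exact ⟨N, by rw [smul_comm, hN, smul_zero]⟩

theorem mem_torsU {u : R} {Y : GrLC.GMod.{u} 𝒜} {y : Y.carrier} :
    y ∈ torsU u Y ↔ ∃ N : ℕ, u ^ N • y = 0 := Iff.rfl

theorem torsU_isHomogeneous {t : ℤ} {u : R} (hu : u ∈ 𝒜 t) (Y : GrLC.GMod.{u} 𝒜) :
    (torsU u Y).IsHomogeneous Y.gr := by
  rintro g y ⟨N, hN⟩
  refine ⟨N, ?_⟩
  have h1 := decompose_smul_of_mem 𝒜 Y.gr (pow_mem_gr hu N) y ((N : ℤ) * t + g)
  rw [hN, DirectSum.decompose_zero, add_sub_cancel_left] at h1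
  exact h1.symm

/-- The divisibility property shared by *injective modules and their torsion submodules. -/
def Div (Y : GrLC.GMod.{u} 𝒜) : Prop :=
  ∀ (J : Ideal R), J.IsHomogeneous 𝒜 → ∀ (t : ℤ) (u : R), u ∈ 𝒜 t → ∀ (d : ℤ) (y : Y.carrier),
    y ∈ Y.gr d → (∀ r ∈ J, r • y = 0) →
      ∃ z ∈ Y.gr (d - t), (∀ r ∈ J, r • z = 0) ∧ ∃ m : ℕ, u ^ m • (u • z - y) = 0

/-- The divisibility property passes to torsion submodules. -/
theorem Div.torsU {Y : GrLC.GMod.{u} 𝒜} (hY : Div Y) {t' : ℤ} {u' : R} (hu' : u' ∈ 𝒜 t') :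
    Div (subGMod Y (torsU u' Y) (torsU_isHomogeneous hu' Y)) := by
  intro J hJ t u hu d y hy hJy
  obtain ⟨y, ⟨N, hN⟩⟩ := y
  have hy : y ∈ Y.gr d := hy
  have hJy : ∀ r ∈ J, r • y = 0 := fun r hr => congrArg Subtype.val (hJy r hr)
  have hJ' : (J ⊔ Ideal.span {u' ^ N}).IsHomogeneous 𝒜 :=
    hJ.sup (Ideal.homogeneous_span 𝒜 _ (by
      rintro _ rfl
      exact ⟨_, pow_mem_gr hu' N⟩))
  have hJy' : ∀ r ∈ J ⊔ Ideal.span {u' ^ N}, r • y = 0 := by
    intro r hr
    obtain ⟨a, ha, b, hb, rfl⟩ := Submodule.mem_sup.mp hr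
    obtain ⟨c, rfl⟩ := Ideal.mem_span_singleton'.mp hb
    rw [add_smul, hJy a ha, zero_add, mul_smul, hN, smul_zero]
  obtain ⟨z, hz, hJz, m, hm⟩ := hY _ hJ' t u hu d y hy hJy'
  have hzt : z ∈ CechAlg.torsU u' Y :=
    ⟨N, hJz _ (Submodule.mem_sup_right (Ideal.subset_span rfl))⟩
  refine ⟨⟨z, hzt⟩, hz, fun r hr => ?_, m, ?_⟩
  · apply Subtype.ext
    exact hJz r (Submodule.mem_sup_left hr)
  · apply Subtype.ext
    exact hm

/-- On the quotient by the `u`-torsion, `u` acts bijectively, provided `Y` is divisible. -/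
theorem bijective_smul_quot_aux {Y : GrLC.GMod.{u} 𝒜} (hY : Div Y) {t : ℤ} {u : R}
    (hu : u ∈ 𝒜 t) :
    Function.Bijective fun q : Y.carrier ⧸ torsU u Y => u • q := by
  constructor
  · intro q q' h
    have h' : u • q = u • q' := h
    have h0 : u • (q - q') = 0 := by rw [smul_sub, h', sub_self]
    obtain ⟨y, hy⟩ := (torsU u Y).mkQ_surjective (q - q')
    rw [← hy, ← map_smul, Submodule.mkQ_apply, Submodule.Quotient.mk_eq_zero] at h0
    obtain ⟨N, hN⟩ := h0
    have hyT : y ∈ torsU u Y := ⟨N + 1, by rw [pow_succ, mul_smul]; exact hN⟩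
    have : q - q' = 0 := by
      rw [← hy, Submodule.mkQ_apply, Submodule.Quotient.mk_eq_zero]
      exact hyT
    exact sub_eq_zero.mp this
  · intro q
    obtain ⟨y, rfl⟩ := (torsU u Y).mkQ_surjective q
    induction y using DirectSum.Decomposition.inductionOn Y.gr with
    | zero => exact ⟨0, by rw [map_zero]; exact smul_zero u⟩
    | homogeneous y =>
      rename_i d
      obtain ⟨z, -, -, m, hm⟩ := hY ⊥ (Ideal.IsHomogeneous.bot 𝒜) t u hu d (y : Y.carrier) y.2
        (fun r hr => by rw [(Submodule.mem_bot R).mp hr, zero_smul])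
      refine ⟨(torsU u Y).mkQ z, ?_⟩
      change u • (torsU u Y).mkQ z = (torsU u Y).mkQ (y : Y.carrier)
      rw [← map_smul, ← sub_eq_zero, ← map_sub, Submodule.mkQ_apply,
        Submodule.Quotient.mk_eq_zero]
      exact ⟨m, hm⟩
    | add y y' hy hy' =>
      obtain ⟨w, hw⟩ := hy
      obtain ⟨w', hw'⟩ := hy'
      refine ⟨w + w', ?_⟩
      change u • (w + w') = _
      rw [smul_add, map_add]
      exact congrArg₂ (· + ·) hw hw'

theorem bijective_smul_quot {Y : GrLC.GMod.{u} 𝒜} (hY : Div Y) {t : ℤ} {u : R} (hu : u ∈ 𝒜 t) :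
    Function.Bijective fun q : (quotGMod Y (torsU u Y) (torsU_isHomogeneous hu Y)).carrier =>
      u • q :=
  bijective_smul_quot_aux hY hu

section Acyclic

variable {κ : Type} [Fintype κ] (x : κ → R) (hx : ∀ i, ∃ t : ℤ, x i ∈ 𝒜 t)

include hx in
/-- Divisible modules have exact Čech complexes (induction over the elements not yet known to act
nilpotently). -/
theorem cechEx_of_div_aux (l : List κ) : ∀ Y : GrLC.GMod.{u} 𝒜, Div Y →
    (∀ i, i ∉ l → ∀ y : Y.carrier, ∃ N : ℕ, x i ^ N • y = 0) → ∀ (j : ℕ) (e : ℤ),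
      CechEx x Y j e := by
  induction l with
  | nil =>
    intro Y _ h j e
    exact cechEx_of_torsion x (fun i y => h i (List.not_mem_nil) y) j e
  | cons i l ih =>
    intro Y hY h j e
    obtain ⟨t, ht⟩ := hx i
    have hT := torsU_isHomogeneous ht Y
    have h1 : CechEx x (subGMod Y (torsU (x i) Y) hT) j e := by
      refine ih _ (hY.torsU ht) (fun i' hi' y => ?_) j e
      obtain ⟨y, hyT⟩ := y
      by_cases hii : i' = i
      · subst hii
        obtain ⟨N, hN⟩ := hyT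
        exact ⟨N, Subtype.ext hN⟩
      · obtain ⟨N, hN⟩ := h i' (by
          intro hmem
          rcases List.mem_cons.mp hmem with h' | h'
          · exact hii h'
          · exact hi' h') y
        exact ⟨N, Subtype.ext hN⟩
    have h2 : CechEx x (quotGMod Y (torsU (x i) Y) hT) j e :=
      cechEx_of_bijective x i hx (bijective_smul_quot hY ht) j e
    exact cechEx_mid x (sesSubQuot Y (torsU (x i) Y) hT) hx j e h1 h2

include hx in
theorem cechEx_of_div (Y : GrLC.GMod.{u} 𝒜) (hY : Div Y) (j : ℕ) (e : ℤ) : CechEx x Y j e :=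
  cechEx_of_div_aux x hx Finset.univ.toList Y hY
    (fun i hi => absurd (Finset.mem_toList.mpr (Finset.mem_univ i)) hi) j e

end Acyclic

/-- The chain of colon ideals `(J : u^m)`. -/
def colonChain (J : Ideal R) (u : R) : ℕ →o Submodule R R where
  toFun m := Submodule.comap ((u ^ m) • (LinearMap.id : R →ₗ[R] R)) J
  monotone' := by
    intro m m' hmm' r hr
    rw [Submodule.mem_comap, LinearMap.smul_apply, LinearMap.id_apply, smul_eq_mul] at hr ⊢
    obtain ⟨k, rfl⟩ := Nat.exists_eq_add_of_le hmm'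
    rw [pow_add, mul_comm (u ^ m), mul_assoc]
    exact J.mul_mem_left _ hr

theorem mem_colonChain {J : Ideal R} {u : R} {m : ℕ} {r : R} :
    r ∈ colonChain J u m ↔ u ^ m * r ∈ J := Iff.rfl

/-- The range of `r ↦ r • v` is homogeneous for homogeneous `v`. -/
theorem range_toSpanSingleton_isHomogeneous {L : Type u} [AddCommGroup L] [Module R L]
    (𝓛 : ℤ → AddSubgroup L) [DirectSum.Decomposition 𝓛] [SetLike.GradedSMul 𝒜 𝓛] {δ : ℤ} {v : L}
    (hv : v ∈ 𝓛 δ) : (LinearMap.range (LinearMap.toSpanSingleton R L v)).IsHomogeneous 𝓛 := by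
  rintro g _ ⟨r, rfl⟩
  rw [LinearMap.toSpanSingleton_apply, decompose_smul_of_mem_right 𝒜 𝓛 hv r g]
  exact ⟨_, rfl⟩

/-- *Injective modules over a Noetherian graded ring are divisible. -/
theorem div_of_starInj [IsNoetherianRing R] (E : GrLC.GMod.{u} 𝒜) (hE : GrLC.IsStarInj 𝒜 E.gr) :
    Div E := by
  intro J hJ t u hu d y hy hJy
  obtain ⟨m, hm⟩ := (monotone_stabilizes_iff_noetherian (R := R) (M := R)).mpr inferInstance
    (colonChain J u)
  have hstab : ∀ r : R, u ^ (m + 1) * r ∈ J → u ^ m * r ∈ J := by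
    intro r hr
    have h1 : r ∈ colonChain J u (m + 1) := hr
    rw [← hm (m + 1) (Nat.le_succ m)] at h1
    exact h1
  letI : DirectSum.Decomposition (quotGr 𝒜 (J : Submodule R R)) := quotDecomposition 𝒜 J hJ
  haveI : SetLike.GradedSMul 𝒜 (quotGr 𝒜 (J : Submodule R R)) := quot_gradedSMul 𝒜 J 𝒜
  let v : R ⧸ (J : Submodule R R) := Submodule.mkQ (p := (J : Submodule R R)) (u ^ (m + 1))
  have hv : v ∈ quotGr 𝒜 (J : Submodule R R) (((m + 1 : ℕ) : ℤ) * t) :=
    ⟨u ^ (m + 1), pow_mem_gr hu (m + 1), rfl⟩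
  let g : R →ₗ[R] (R ⧸ (J : Submodule R R)) := LinearMap.toSpanSingleton R _ v
  have hA := range_toSpanSingleton_isHomogeneous (𝒜 := 𝒜) (quotGr 𝒜 (J : Submodule R R)) hv
  let ψ₀ : R →ₗ[R] E.carrier := LinearMap.toSpanSingleton R E.carrier (u ^ m • y)
  have hgr : ∀ r : R, g r = Submodule.mkQ (p := (J : Submodule R R)) (r * u ^ (m + 1)) := by
    intro r
    change r • v = _
    rw [← smul_eq_mul, map_smul]
  have hker : LinearMap.ker g ≤ LinearMap.ker ψ₀ := by
    intro r hr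
    rw [LinearMap.mem_ker] at hr ⊢
    rw [hgr, Submodule.mkQ_apply, Submodule.Quotient.mk_eq_zero, mul_comm] at hr
    have h2 := hJy _ (hstab r hr)
    rw [mul_comm, mul_smul] at h2
    exact h2
  let φ : ↥(LinearMap.range g) →ₗ[R] E.carrier :=
    ((LinearMap.ker g).liftQ ψ₀ hker) ∘ₗ g.quotKerEquivRange.symm.toLinearMap
  have hφ : ∀ r : R, φ ⟨g r, LinearMap.mem_range_self g r⟩ = ψ₀ r := by
    intro r
    change ((LinearMap.ker g).liftQ ψ₀ hker) (g.quotKerEquivRange.symm ⟨g r, _⟩) = _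
    rw [LinearMap.quotKerEquivRange_symm_apply_image g r (LinearMap.mem_range_self g r)]
    rfl
  haveI : Module.Finite R ↥(LinearMap.range g) := by
    haveI : IsNoetherian R (R ⧸ (J : Submodule R R)) := inferInstance
    infer_instance
  letI : DirectSum.Decomposition (subGr (quotGr 𝒜 (J : Submodule R R)) (LinearMap.range g)) :=
    subDecomposition _ _ hA
  haveI : SetLike.GradedSMul 𝒜 (subGr (quotGr 𝒜 (J : Submodule R R)) (LinearMap.range g)) :=
    sub_gradedSMul _ _ 𝒜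
  obtain ⟨ψ, hψ⟩ := Groth.Agent.Lib.Helper29GrBaer.exists_extension 𝒜
    (subGr (quotGr 𝒜 (J : Submodule R R)) (LinearMap.range g)) E.gr
    (quotGr 𝒜 (J : Submodule R R)) hE (LinearMap.range g).subtype
    (fun _ _ h => h) (LinearMap.range g).subtype_injective φ
  have hψg : ∀ r : R, ψ (g r) = ψ₀ r := by
    intro r
    rw [← hφ r, ← hψ]
    rfl
  let z₀ : E.carrier := ψ (Submodule.mkQ (p := (J : Submodule R R)) 1)
  have hz₀ : ∀ r : R, r • z₀ = ψ (Submodule.mkQ (p := (J : Submodule R R)) r) := by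
    intro r
    rw [← map_smul, ← map_smul, smul_eq_mul, mul_one]
  have hJz₀ : ∀ r ∈ J, r • z₀ = 0 := by
    intro r hr
    rw [hz₀, Submodule.mkQ_apply, (Submodule.Quotient.mk_eq_zero _).mpr hr, map_zero]
  have huz₀ : u ^ (m + 1) • z₀ = u ^ m • y := by
    rw [hz₀]
    have h1 := hψg 1
    rw [hgr, one_mul] at h1
    rw [h1]
    exact one_smul R _
  refine ⟨(decompose E.gr z₀ (d - t) : E.carrier), SetLike.coe_mem _, ?_, m, ?_⟩
  · intro r hr
    classical
    rw [← DirectSum.sum_support_decompose 𝒜 r, Finset.sum_smul]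
    apply Finset.sum_eq_zero
    intro h _
    have hrh : ((decompose 𝒜 r) h : R) ∈ J := hJ h hr
    have h1 := decompose_smul_of_mem 𝒜 E.gr (SetLike.coe_mem ((decompose 𝒜 r) h)) z₀
      (h + (d - t))
    rw [hJz₀ _ hrh, DirectSum.decompose_zero, add_sub_cancel_left] at h1
    exact h1.symm
  · have h1 := decompose_smul_of_mem 𝒜 E.gr (pow_mem_gr hu (m + 1)) z₀ ((m : ℤ) * t + d)
    have hmy : u ^ m • y ∈ E.gr ((m : ℤ) * t + d) := smul_mem_gr E (pow_mem_gr hu m) hy rfl
    rw [huz₀, DirectSum.decompose_of_mem_same _ hmy] at h1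
    have h2 : (m : ℤ) * t + d - ((m + 1 : ℕ) : ℤ) * t = d - t := by push_cast; ring
    rw [h2] at h1
    rw [smul_sub, ← mul_smul, ← pow_succ, ← h1, sub_self]

/-- The degree `e` Čech complex of a *injective module over a Noetherian graded ring is exact at
every spot `j + 1`. -/
theorem cechEx_of_starInj [IsNoetherianRing R] {κ : Type} [Fintype κ] (x : κ → R)
    (hx : ∀ i, ∃ t : ℤ, x i ∈ 𝒜 t) (E : GrLC.GMod.{u} 𝒜) (hE : GrLC.IsStarInj 𝒜 E.gr) (j : ℕ)
    (e : ℤ) : CechEx x E j e :=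
  cechEx_of_div x hx E (div_of_starInj E hE) j e

end Groth.Agent.Lib.Helper29.CechAlg
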