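import Groth.Agent.S13243
import Groth.Agent.Lib.Helper29GrGam

/-! Vanishing of a graded piece of `*H^i_a(M)` does not depend on the *injective resolution;
homogeneous coboundaries have homogeneous primitives (helper29). -/

set_option autoImplicit false
set_option linter.style.haveILetI false
open DirectSum

namespace Groth.Agent.Lib.Helper29GrResCompare

open Groth.Agent.Lib.Helper29GrGam Groth.Agent.Lib.Helper29GrHom

universe u

variable {ι : Type} [AddCommGroup ι] [DecidableEq ι]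
variable {R : Type u} [CommRing R] {𝒜 : ι → AddSubgroup R} [GradedRing 𝒜]
variable {M : Type u} [AddCommGroup M] [Module R M] {ℳ : ι → AddSubgroup M}
  [DirectSum.Decomposition ℳ] [SetLike.GradedSMul 𝒜 ℳ]

section One

variable (E : GrLC.StarInjRes 𝒜 ℳ) (a : HomogeneousIdeal 𝒜)

theorem Hcomp_eq_bot_iff_forall (n : ℕ) (γ : ι) :
    E.Hcomp a n γ = ⊥ ↔ ∀ z ∈ E.cocyc a n, z ∈ (E.X n).gr γ → z ∈ E.cobdy a n := by
  constructor
  · intro h z hz hzγ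
    have h1 : E.toH a n ⟨z, hz⟩ ∈ E.Hcomp a n γ := ⟨⟨z, hz⟩, hzγ, rfl⟩
    rw [h] at h1
    have h2 : E.toH a n ⟨z, hz⟩ = 0 := (Submodule.mem_bot _).mp h1
    rw [Submodule.mkQ_apply, Submodule.Quotient.mk_eq_zero] at h2
    exact h2
  · intro h
    rw [eq_bot_iff]
    rintro _ ⟨z, hzγ, rfl⟩
    rw [Submodule.mem_bot, Submodule.mkQ_apply, Submodule.Quotient.mk_eq_zero]
    exact h z z.2 hzγ

theorem mem_Hcomp_iff (n : ℕ) (γ : ι) (y : E.H a n) :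
    y ∈ E.Hcomp a n γ ↔ ∃ z : ↥(E.cocyc a n), (z : (E.X n).carrier) ∈ (E.X n).gr γ ∧
      E.toH a n z = y := Iff.rfl

theorem toH_eq_zero_iff (n : ℕ) (z : ↥(E.cocyc a n)) :
    E.toH a n z = 0 ↔ (z : (E.X n).carrier) ∈ E.cobdy a n := by
  rw [Submodule.mkQ_apply, Submodule.Quotient.mk_eq_zero]
  rfl

/-- A homogeneous coboundary has a homogeneous torsion primitive. -/
theorem exists_homog_primitive (n : ℕ) (γ : ι) (v : (E.X (n + 1)).carrier)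
    (hv : v ∈ E.cobdy a (n + 1)) (hvγ : v ∈ (E.X (n + 1)).gr γ) :
    ∃ y ∈ GrLC.gam a.toIdeal (E.X n).carrier, y ∈ (E.X n).gr γ ∧ E.d n y = v := by
  classical
  obtain ⟨y, hy, rfl⟩ := hv
  refine ⟨((decompose (E.X n).gr y) γ : (E.X n).carrier),
    gam_isHomogeneous 𝒜 (E.X n).gr a γ hy, SetLike.coe_mem _, ?_⟩
  rw [← decompose_map (E.X (n + 1)).gr (E.X n).gr (E.d n) (E.d_grHom n) y γ,
    DirectSum.decompose_of_mem_same _ hvγ]

end One

section Two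

variable [Module.Free ℤ ι] [Module.Finite ℤ ι] [IsNoetherianRing R]
variable (D F : GrLC.StarInjRes 𝒜 ℳ) (a : HomogeneousIdeal 𝒜)

theorem Hcomp_eq_bot_of (n : ℕ) (γ : ι) (h : F.Hcomp a n γ = ⊥) : D.Hcomp a n γ = ⊥ := by
  classical
  obtain ⟨ψ, hψ⟩ := Groth.Agent.S13243.result (AddMonoidHom.id ι) R 𝒜 𝒜
    (fun h => by simp) a a rfl M ℳ ℳ (fun h => by simp) D F n
  rw [eq_bot_iff]
  intro x hx
  have hx' : x ∈ ⨆ g ∈ (AddMonoidHom.id ι) ⁻¹' {γ}, D.Hgr a n g := by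
    have : D.Hgr a n γ ≤ ⨆ g ∈ (AddMonoidHom.id ι) ⁻¹' {γ}, D.Hgr a n g :=
      le_iSup₂ (f := fun g (_ : g ∈ (AddMonoidHom.id ι) ⁻¹' {γ}) => D.Hgr a n g) γ rfl
    exact this hx
  have h1 : ψ.toLinearMap x ∈ F.Hgr a n γ := hψ γ x hx'
  have h2 : ψ x ∈ F.Hcomp a n γ := h1
  rw [h] at h2
  have h3 : ψ x = 0 := (Submodule.mem_bot _).mp h2
  rw [Submodule.mem_bot]
  exact ψ.injective (h3.trans (map_zero ψ).symm)

theorem Hcomp_eq_bot_iff (n : ℕ) (γ : ι) : D.Hcomp a n γ = ⊥ ↔ F.Hcomp a n γ = ⊥ :=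
  ⟨Hcomp_eq_bot_of F D a n γ, Hcomp_eq_bot_of D F a n γ⟩

end Two

end Groth.Agent.Lib.Helper29GrResCompare
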