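import Groth.Agent.Lib.Helper29CechAlgUA
import Groth.Agent.Lib.Helper29GrHom
import Groth.Prelude.Def_GrLC

/-!
# Degree-`e` parts of the algebraic Čech complex of a graded module, functoriality and exactness
in short exact sequences (helper29).
-/

set_option autoImplicit false
set_option linter.style.haveILetI false
set_option linter.unusedSectionVars false

universe u w

open DirectSum

namespace Groth.Agent.Lib.Helper29.CechAlgU

variable {R : Type u} [CommRing R] {𝒜 : ℤ → AddSubgroup R} [GradedRing 𝒜]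

/-- Every element of the submonoid is homogeneous. -/
def HomSub (𝒜 : ℤ → AddSubgroup R) (S : Submonoid R) : Prop := ∀ s ∈ S, ∃ t : ℤ, s ∈ 𝒜 t

theorem homSub_closure {T : Set R} (hT : ∀ s ∈ T, ∃ t : ℤ, s ∈ 𝒜 t) :
    HomSub 𝒜 (Submonoid.closure T) := by
  intro s hs
  induction hs using Submonoid.closure_induction with
  | mem s hs => exact hT s hs
  | one => exact ⟨0, SetLike.GradedOne.one_mem⟩
  | mul a b _ _ ha hb =>
    obtain ⟨t, ht⟩ := ha
    obtain ⟨t', ht'⟩ := hb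
    exact ⟨t + t', SetLike.GradedMul.mul_mem ht ht'⟩

theorem homSub_Sσ {κ : Type w} (x : κ → R) (hx : ∀ i, ∃ t : ℤ, x i ∈ 𝒜 t) {j : ℕ} (σ : Fin j → κ) :
    HomSub 𝒜 (Sσ x σ) :=
  homSub_closure (by rintro _ ⟨k, rfl⟩; exact hx (σ k))

section LocDeg

variable (X : GrLC.GMod.{u} 𝒜)

theorem smul_mem_gr {t d d' : ℤ} {s : R} (hs : s ∈ 𝒜 t) {m : X.carrier} (hm : m ∈ X.gr d)
    (h : t + d = d') : s • m ∈ X.gr d' := by
  have := SetLike.GradedSMul.smul_mem (A := 𝒜) (B := X.gr) hs hm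
  rw [vadd_eq_add, h] at this
  exact this

/-- The degree `e` part of the localization: fractions `m / s` with `deg m = e + deg s`. -/
def LocDeg (S : Submonoid R) (e : ℤ) : AddSubgroup (LocalizedModule S X.carrier) where
  carrier := {y | ∃ (t : ℤ) (s : S) (m : X.carrier), (s : R) ∈ 𝒜 t ∧ m ∈ X.gr (e + t) ∧
    y = LocalizedModule.mk m s}
  zero_mem' := ⟨0, 1, 0, SetLike.GradedOne.one_mem, zero_mem _, (LocalizedModule.zero_mk 1).symm⟩
  add_mem' := by
    rintro _ _ ⟨t, s, m, hs, hm, rfl⟩ ⟨t', s', m', hs', hm', rfl⟩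
    refine ⟨t + t', s * s', (s' : R) • m + (s : R) • m', SetLike.GradedMul.mul_mem hs hs', ?_, ?_⟩
    · exact add_mem (smul_mem_gr X hs' hm (by ring)) (smul_mem_gr X hs hm' (by ring))
    · rw [LocalizedModule.mk_add_mk]
      rfl
  neg_mem' := by
    rintro _ ⟨t, s, m, hs, hm, rfl⟩
    exact ⟨t, s, -m, hs, neg_mem hm, LocalizedModule.mk_neg.symm⟩

variable {X}

theorem mk_mem_LocDeg {S : Submonoid R} {e t : ℤ} {s : S} {m : X.carrier} (hs : (s : R) ∈ 𝒜 t)
    (hm : m ∈ X.gr (e + t)) : LocalizedModule.mk m s ∈ LocDeg X S e :=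
  ⟨t, s, m, hs, hm, rfl⟩

theorem resL_mem_LocDeg {S S' : Submonoid R} (h : S ≤ S') {e : ℤ} {y : LocalizedModule S X.carrier}
    (hy : y ∈ LocDeg X S e) : resL h y ∈ LocDeg X S' e := by
  obtain ⟨t, s, m, hs, hm, rfl⟩ := hy
  rw [resL_mk]
  exact ⟨t, ⟨s.1, h s.2⟩, m, hs, hm, rfl⟩

theorem smul_mem_LocDeg {S : Submonoid R} {e : ℤ} {r : R} (hr : r ∈ 𝒜 0)
    {y : LocalizedModule S X.carrier} (hy : y ∈ LocDeg X S e) : r • y ∈ LocDeg X S e := by
  obtain ⟨t, s, m, hs, hm, rfl⟩ := hy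
  rw [LocalizedModule.smul'_mk]
  exact ⟨t, s, r • m, hs, smul_mem_gr X hr hm (by ring), rfl⟩

theorem neg_one_pow_mem_zero (k : ℕ) : ((-1 : R) ^ k) ∈ 𝒜 0 := by
  have h1 : (1 : R) ∈ 𝒜 0 := SetLike.GradedOne.one_mem
  have h2 : (-1 : R) ∈ 𝒜 0 := neg_mem h1
  induction k with
  | zero => rw [pow_zero]; exact h1
  | succ k ih =>
    rw [pow_succ]
    have := SetLike.GradedMul.mul_mem ih h2
    rwa [add_zero] at this

variable {Y : GrLC.GMod.{u} 𝒜}

theorem map_mem_LocDeg {S : Submonoid R} {e : ℤ} (f : X.carrier →ₗ[R] Y.carrier)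
    (hf : GrLC.IsGrHom X.gr Y.gr f) {y : LocalizedModule S X.carrier} (hy : y ∈ LocDeg X S e) :
    mapL S f y ∈ LocDeg Y S e := by
  obtain ⟨t, s, m, hs, hm, rfl⟩ := hy
  rw [mapL_mk]
  exact ⟨t, s, f m, hs, hf _ m hm, rfl⟩

end LocDeg

section Cochains

variable {κ : Type w} (x : κ → R)

/-- A cochain of degree `e`. -/
def IsDeg (X : GrLC.GMod.{u} 𝒜) (j : ℕ) (e : ℤ) (c : C x X.carrier j) : Prop :=
  ∀ σ : Fin j → κ, c σ ∈ LocDeg X (Sσ x σ) e

variable {X Y : GrLC.GMod.{u} 𝒜}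

theorem isDeg_zero (j : ℕ) (e : ℤ) : IsDeg x X j e (0 : C x X.carrier j) := fun _ => zero_mem _

theorem isDeg_add {j : ℕ} {e : ℤ} {c c' : C x X.carrier j} (h : IsDeg x X j e c)
    (h' : IsDeg x X j e c') : IsDeg x X j e (c + c') := fun σ => add_mem (h σ) (h' σ)

theorem isDeg_sub {j : ℕ} {e : ℤ} {c c' : C x X.carrier j} (h : IsDeg x X j e c)
    (h' : IsDeg x X j e c') : IsDeg x X j e (c - c') := fun σ => sub_mem (h σ) (h' σ)

theorem isDeg_dC [Fintype κ] {j : ℕ} {e : ℤ} {c : C x X.carrier j} (h : IsDeg x X j e c) :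
    IsDeg x X (j + 1) e (dC x j c) := by
  intro τ
  rw [dC_apply]
  refine sum_mem (fun k _ => ?_)
  exact smul_mem_LocDeg (neg_one_pow_mem_zero (k : ℕ)) (resL_mem_LocDeg _ (h _))

/-- Functoriality of cochains. -/
noncomputable def mapC (f : X.carrier →ₗ[R] Y.carrier) (j : ℕ) :
    C x X.carrier j →ₗ[R] C x Y.carrier j :=
  LinearMap.pi fun σ => mapL (Sσ x σ) f ∘ₗ LinearMap.proj σ

theorem mapC_apply (f : X.carrier →ₗ[R] Y.carrier) (j : ℕ) (c : C x X.carrier j)
    (σ : Fin j → κ) : mapC x f j c σ = mapL (Sσ x σ) f (c σ) := rfl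

theorem isDeg_mapC (f : X.carrier →ₗ[R] Y.carrier) (hf : GrLC.IsGrHom X.gr Y.gr f) {j : ℕ} {e : ℤ}
    {c : C x X.carrier j} (h : IsDeg x X j e c) : IsDeg x Y j e (mapC x f j c) :=
  fun σ => map_mem_LocDeg f hf (h σ)

theorem mapC_dC [Fintype κ] (f : X.carrier →ₗ[R] Y.carrier) (j : ℕ) (c : C x X.carrier j) :
    mapC x f (j + 1) (dC x j c) = dC x j (mapC x f j c) := by
  funext τ
  rw [mapC_apply, dC_apply, dC_apply, map_sum]
  refine Finset.sum_congr rfl (fun k _ => ?_)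
  rw [map_smul, mapC_apply, resL_map]

theorem mapC_injective (f : X.carrier →ₗ[R] Y.carrier) (hf : Function.Injective f) (j : ℕ) :
    Function.Injective (mapC x f j) := by
  intro c c' h
  funext σ
  have := congrFun h σ
  rw [mapC_apply, mapC_apply] at this
  exact mapL_injective _ f hf this

end Cochains

section Exact

variable {X' X X'' : GrLC.GMod.{u} 𝒜} (f : X'.carrier →ₗ[R] X.carrier)
  (g : X.carrier →ₗ[R] X''.carrier) (hf : GrLC.IsGrHom X'.gr X.gr f)
  (hg : GrLC.IsGrHom X.gr X''.gr g)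

include hf in
/-- Exactness in the middle, degree by degree. -/
theorem exists_of_map_eq_zero (hfg : LinearMap.ker g = LinearMap.range f) {S : Submonoid R}
    (hS : HomSub 𝒜 S) {e : ℤ} {y : LocalizedModule S X.carrier} (hy : y ∈ LocDeg X S e)
    (h0 : mapL S g y = 0) :
    ∃ y' ∈ LocDeg X' S e, mapL S f y' = y := by
  obtain ⟨t, s, m, hs, hm, rfl⟩ := hy
  rw [mapL_mk, ← LocalizedModule.zero_mk (1 : S), LocalizedModule.mk_eq] at h0
  obtain ⟨u, hu⟩ := h0
  obtain ⟨tu, htu⟩ := hS u u.2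
  have hum : g ((u : R) • m) = 0 := by
    rw [map_smul]
    have : (u : R) • g m = u • (1 : S) • g m := by
      rw [one_smul]; rfl
    rw [this, hu, smul_zero, smul_zero]
  have hmem : (u : R) • m ∈ LinearMap.ker g := hum
  rw [hfg] at hmem
  obtain ⟨m', hm'⟩ := hmem
  have hdeg : (u : R) • m ∈ X.gr (e + (tu + t)) := smul_mem_gr X htu hm (by ring)
  let m'h : X'.carrier := (decompose X'.gr m' (e + (tu + t)) : X'.carrier)
  have hfm : f m'h = (u : R) • m := by
    have := Groth.Agent.Lib.Helper29GrHom.decompose_map X.gr X'.gr f hf m' (e + (tu + t))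
    rw [hm', DirectSum.decompose_of_mem_same _ hdeg] at this
    exact this.symm
  refine ⟨LocalizedModule.mk m'h (u * s), mk_mem_LocDeg (SetLike.GradedMul.mul_mem htu hs)
    (SetLike.coe_mem _), ?_⟩
  rw [mapL_mk, hfm]
  exact LocalizedModule.mk_cancel_common_left u s m

include hg in
/-- Surjectivity, degree by degree. -/
theorem exists_lift_LocDeg (hgs : Function.Surjective g) {S : Submonoid R} {e : ℤ}
    {y : LocalizedModule S X''.carrier} (hy : y ∈ LocDeg X'' S e) :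
    ∃ y' ∈ LocDeg X S e, mapL S g y' = y := by
  obtain ⟨t, s, m, hs, hm, rfl⟩ := hy
  obtain ⟨m₀, hm₀⟩ := hgs m
  let mh : X.carrier := (decompose X.gr m₀ (e + t) : X.carrier)
  have hgm : g mh = m := by
    have := Groth.Agent.Lib.Helper29GrHom.decompose_map X''.gr X.gr g hg m₀ (e + t)
    rw [hm₀, DirectSum.decompose_of_mem_same _ hm] at this
    exact this.symm
  refine ⟨LocalizedModule.mk mh s, mk_mem_LocDeg hs (SetLike.coe_mem _), ?_⟩
  rw [mapL_mk, hgm]

variable {κ : Type w} (x : κ → R) (hx : ∀ i, ∃ t : ℤ, x i ∈ 𝒜 t)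

include hf hx in
theorem exists_of_mapC_eq_zero (hfg : LinearMap.ker g = LinearMap.range f) {j : ℕ} {e : ℤ}
    {c : C x X.carrier j} (hc : IsDeg x X j e c) (h0 : mapC x g j c = 0) :
    ∃ c' : C x X'.carrier j, IsDeg x X' j e c' ∧ mapC x f j c' = c := by
  have h : ∀ σ : Fin j → κ, ∃ y' ∈ LocDeg X' (Sσ x σ) e,
      mapL (Sσ x σ) f y' = c σ := fun σ =>
    exists_of_map_eq_zero f g hf hfg (homSub_Sσ x hx σ) (hc σ) (congrFun h0 σ)
  choose c' hc' hc'' using h
  exact ⟨c', hc', funext hc''⟩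

include hg in
theorem exists_lift_isDeg (hgs : Function.Surjective g) {j : ℕ} {e : ℤ}
    {c : C x X''.carrier j} (hc : IsDeg x X'' j e c) :
    ∃ c' : C x X.carrier j, IsDeg x X j e c' ∧ mapC x g j c' = c := by
  have h : ∀ σ : Fin j → κ, ∃ y' ∈ LocDeg X (Sσ x σ) e,
      mapL (Sσ x σ) g y' = c σ := fun σ =>
    exists_lift_LocDeg g hg hgs (hc σ)
  choose c' hc' hc'' using h
  exact ⟨c', hc', funext hc''⟩

theorem mapC_comp_eq_zero (hfg : LinearMap.ker g = LinearMap.range f) (j : ℕ)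
    (c : C x X'.carrier j) : mapC x g j (mapC x f j c) = 0 := by
  funext σ
  rw [mapC_apply, mapC_apply]
  have hgf : g ∘ₗ f = 0 := by
    ext m
    have : f m ∈ LinearMap.ker g := hfg ▸ LinearMap.mem_range_self f m
    exact this
  induction c σ using LocalizedModule.induction_on with
  | h m s =>
    rw [mapL_mk, mapL_mk]
    have : g (f m) = 0 := LinearMap.congr_fun hgf m
    rw [this, LocalizedModule.zero_mk]
    rfl

end Exact

end Groth.Agent.Lib.Helper29.CechAlgU
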