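import Groth.Agent.Lib.Helper29CechAlgUB
import Groth.Agent.Lib.Helper29GrHV

/-!
# Exactness of the degree-`e` algebraic Čech complex: the diagram chases for a graded short exact
sequence (helper29).
-/

set_option autoImplicit false
set_option linter.style.haveILetI false
set_option linter.unusedSectionVars false

universe u w

open DirectSum

namespace Groth.Agent.Lib.Helper29.CechAlgU

open Groth.Agent.Lib.Helper29GrHV

variable {R : Type u} [CommRing R] {𝒜 : ℤ → AddSubgroup R} [GradedRing 𝒜]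
variable {κ : Type w} [Fintype κ] (x : κ → R)

/-- The degree `e` Čech complex of `X` is exact at the spot `j + 1`. -/
def CechEx (X : GrLC.GMod.{u} 𝒜) (j : ℕ) (e : ℤ) : Prop :=
  ∀ c : C x X.carrier (j + 1), IsDeg x X (j + 1) e c → dC x (j + 1) c = 0 →
    ∃ b : C x X.carrier j, IsDeg x X j e b ∧ dC x j b = c

/-- The degree `e` Čech complex of `X` is exact at the spot `0`. -/
def CechEx0 (X : GrLC.GMod.{u} 𝒜) (e : ℤ) : Prop :=
  ∀ c : C x X.carrier 0, IsDeg x X 0 e c → dC x 0 c = 0 → c = 0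

/-- Degree `e` sections of `Γ` lift along `X → X''`. -/
def SurjGam {X X'' : GrLC.GMod.{u} 𝒜} (g : X.carrier →ₗ[R] X''.carrier) (e : ℤ) : Prop :=
  ∀ z : C x X''.carrier 0, IsDeg x X'' 0 e z → dC x 0 z = 0 →
    ∃ w : C x X.carrier 0, IsDeg x X 0 e w ∧ dC x 0 w = 0 ∧ mapC x g 0 w = z

variable {X' X X'' : GrLC.GMod.{u} 𝒜} (S : GSES X' X X'') (hx : ∀ i, ∃ t : ℤ, x i ∈ 𝒜 t)

include hx S

/-- Middle term. -/
theorem cechEx_mid (j : ℕ) (e : ℤ) (h' : CechEx x X' j e) (h'' : CechEx x X'' j e) :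
    CechEx x X j e := by
  intro c hc hdc
  have hgc : IsDeg x X'' (j + 1) e (mapC x S.g (j + 1) c) := isDeg_mapC x S.g S.hg hc
  have hdgc : dC x (j + 1) (mapC x S.g (j + 1) c) = 0 := by
    rw [← mapC_dC, hdc, map_zero]
  obtain ⟨b'', hb'', hdb''⟩ := h'' _ hgc hdgc
  obtain ⟨b, hb, hgb⟩ := exists_lift_isDeg S.g S.hg x S.hgs hb''
  have h0 : mapC x S.g (j + 1) (c - dC x j b) = 0 := by
    rw [map_sub, mapC_dC, hgb, hdb'', sub_self]
  obtain ⟨a', ha', hfa'⟩ := exists_of_mapC_eq_zero S.f S.g S.hf x hx S.hfg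
    (isDeg_sub x hc (isDeg_dC x hb)) h0
  have hda' : dC x (j + 1) a' = 0 := by
    apply mapC_injective x S.f S.hfi
    rw [mapC_dC, hfa', map_sub, hdc, dC_dC, sub_zero, map_zero]
  obtain ⟨a'', ha'', hda''⟩ := h' _ ha' hda'
  refine ⟨b + mapC x S.f j a'', isDeg_add x hb (isDeg_mapC x S.f S.hf ha''), ?_⟩
  rw [map_add, ← mapC_dC, hda'', hfa']
  abel

/-- Shifting: from the sub to the quotient. -/
theorem cechEx_quot_of_sub (j : ℕ) (e : ℤ) (hX : CechEx x X j e)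
    (h' : CechEx x X' (j + 1) e) : CechEx x X'' j e := by
  intro c hc hdc
  obtain ⟨b, hb, hgb⟩ := exists_lift_isDeg S.g S.hg x S.hgs hc
  have h0 : mapC x S.g (j + 2) (dC x (j + 1) b) = 0 := by
    rw [mapC_dC, hgb, hdc]
  obtain ⟨a, ha, hfa⟩ := exists_of_mapC_eq_zero S.f S.g S.hf x hx S.hfg (isDeg_dC x hb) h0
  have hda : dC x (j + 2) a = 0 := by
    apply mapC_injective x S.f S.hfi
    rw [mapC_dC, hfa, dC_dC, map_zero]
  obtain ⟨a', ha', hda'⟩ := h' _ ha hda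
  have hcoc : dC x (j + 1) (b - mapC x S.f (j + 1) a') = 0 := by
    rw [map_sub, ← mapC_dC, hda', hfa, sub_self]
  obtain ⟨b', hb', hdb'⟩ := hX _ (isDeg_sub x hb (isDeg_mapC x S.f S.hf ha')) hcoc
  refine ⟨mapC x S.g j b', isDeg_mapC x S.g S.hg hb', ?_⟩
  rw [← mapC_dC, hdb', map_sub, hgb, mapC_comp_eq_zero S.f S.g x S.hfg, sub_zero]

/-- Shifting: from the quotient to the sub. -/
theorem cechEx_sub_of_quot (j : ℕ) (e : ℤ) (hX : CechEx x X (j + 1) e)
    (h'' : CechEx x X'' j e) : CechEx x X' (j + 1) e := by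
  intro a ha hda
  have hfa : IsDeg x X (j + 2) e (mapC x S.f (j + 2) a) := isDeg_mapC x S.f S.hf ha
  have hdfa : dC x (j + 2) (mapC x S.f (j + 2) a) = 0 := by
    rw [← mapC_dC, hda, map_zero]
  obtain ⟨b, hb, hdb⟩ := hX _ hfa hdfa
  have hgb : IsDeg x X'' (j + 1) e (mapC x S.g (j + 1) b) := isDeg_mapC x S.g S.hg hb
  have hdgb : dC x (j + 1) (mapC x S.g (j + 1) b) = 0 := by
    rw [← mapC_dC, hdb, mapC_comp_eq_zero S.f S.g x S.hfg]
  obtain ⟨c', hc', hdc'⟩ := h'' _ hgb hdgb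
  obtain ⟨b', hb', hgb'⟩ := exists_lift_isDeg S.g S.hg x S.hgs hc'
  have h0 : mapC x S.g (j + 1) (b - dC x j b') = 0 := by
    rw [map_sub, mapC_dC, hgb', hdc', sub_self]
  obtain ⟨a', ha', hfa'⟩ := exists_of_mapC_eq_zero S.f S.g S.hf x hx S.hfg
    (isDeg_sub x hb (isDeg_dC x hb')) h0
  refine ⟨a', ha', ?_⟩
  apply mapC_injective x S.f S.hfi
  rw [mapC_dC, hfa', map_sub, hdb, dC_dC, sub_zero]

/-- The bottom of the long exact sequence. -/
theorem cechEx_zero_iff (e : ℤ) (hX : CechEx x X 0 e) :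
    CechEx x X' 0 e ↔ SurjGam x S.g e := by
  constructor
  · intro h' z hz hdz
    obtain ⟨b, hb, hgb⟩ := exists_lift_isDeg S.g S.hg x S.hgs hz
    have h0 : mapC x S.g 1 (dC x 0 b) = 0 := by
      rw [mapC_dC, hgb, hdz]
    obtain ⟨a, ha, hfa⟩ := exists_of_mapC_eq_zero S.f S.g S.hf x hx S.hfg (isDeg_dC x hb) h0
    have hda : dC x 1 a = 0 := by
      apply mapC_injective x S.f S.hfi
      rw [mapC_dC, hfa, dC_dC, map_zero]
    obtain ⟨a', ha', hda'⟩ := h' _ ha hda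
    refine ⟨b - mapC x S.f 0 a', isDeg_sub x hb (isDeg_mapC x S.f S.hf ha'), ?_, ?_⟩
    · rw [map_sub, ← mapC_dC, hda', hfa, sub_self]
    · rw [map_sub, hgb, mapC_comp_eq_zero S.f S.g x S.hfg, sub_zero]
  · intro hs a ha hda
    have hfa : IsDeg x X 1 e (mapC x S.f 1 a) := isDeg_mapC x S.f S.hf ha
    have hdfa : dC x 1 (mapC x S.f 1 a) = 0 := by
      rw [← mapC_dC, hda, map_zero]
    obtain ⟨b, hb, hdb⟩ := hX _ hfa hdfa
    have hgb : IsDeg x X'' 0 e (mapC x S.g 0 b) := isDeg_mapC x S.g S.hg hb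
    have hdgb : dC x 0 (mapC x S.g 0 b) = 0 := by
      rw [← mapC_dC, hdb, mapC_comp_eq_zero S.f S.g x S.hfg]
    obtain ⟨w, hw, hdw, hgw⟩ := hs _ hgb hdgb
    have h0 : mapC x S.g 0 (b - w) = 0 := by
      rw [map_sub, hgw, sub_self]
    obtain ⟨a', ha', hfa'⟩ := exists_of_mapC_eq_zero S.f S.g S.hf x hx S.hfg
      (isDeg_sub x hb hw) h0
    refine ⟨a', ha', ?_⟩
    apply mapC_injective x S.f S.hfi
    rw [mapC_dC, hfa', map_sub, hdb, hdw, sub_zero]

end Groth.Agent.Lib.Helper29.CechAlgU
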