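import Groth.Agent.Lib.Helper29CechAlgUC
import Groth.Agent.Lib.Helper29GrEss

/-!
# The algebraic Čech complex of a graded module on which one of the elements acts bijectively is
exact in every degree (helper29).
-/

set_option autoImplicit false
set_option linter.style.haveILetI false
set_option linter.unusedSectionVars false

universe u w

open DirectSum

namespace Groth.Agent.Lib.Helper29.CechAlgU

variable {R : Type u} [CommRing R] {𝒜 : ℤ → AddSubgroup R} [GradedRing 𝒜]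
variable {κ : Type w} (x : κ → R)

/-- Elements of the submonoid for `i₀ :: σ` are powers of `x i₀` times elements of the submonoid
for `σ`. -/
theorem exists_pow_mul_of_mem_cons {j : ℕ} (i₀ : κ) (σ : Fin j → κ) (s : R)
    (hs : s ∈ Sσ x (Fin.cons i₀ σ : Fin (j + 1) → κ)) :
    ∃ (N : ℕ) (s' : R), s' ∈ Sσ x σ ∧ s = x i₀ ^ N * s' := by
  induction hs using Submonoid.closure_induction with
  | mem s hs =>
    obtain ⟨k, rfl⟩ := hs
    refine Fin.cases ?_ (fun l => ?_) k
    · exact ⟨1, 1, one_mem _, by simp⟩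
    · exact ⟨0, x (σ l), x_mem_Sσ x σ l, by simp⟩
  | one => exact ⟨0, 1, one_mem _, by simp⟩
  | mul a b _ _ ha hb =>
    obtain ⟨N, a', ha', rfl⟩ := ha
    obtain ⟨N', b', hb', rfl⟩ := hb
    exact ⟨N + N', a' * b', mul_mem ha' hb', by ring⟩

theorem Sσ_le_cons {j : ℕ} (i₀ : κ) (σ : Fin j → κ) :
    Sσ x σ ≤ Sσ x (Fin.cons i₀ σ : Fin (j + 1) → κ) := by
  apply Submonoid.closure_mono
  rintro _ ⟨k, rfl⟩
  exact ⟨k.succ, by simp⟩

theorem x_mem_Sσ_cons {j : ℕ} (i₀ : κ) (σ : Fin j → κ) :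
    x i₀ ∈ Sσ x (Fin.cons i₀ σ : Fin (j + 1) → κ) :=
  Submonoid.subset_closure ⟨0, by simp⟩

section Bij

variable {Q : GrLC.GMod.{u} 𝒜} (i₀ : κ)

/-- Injectivity of the restriction map to the localization where `x i₀` is inverted too. -/
theorem resL_cons_injective (hinj : Function.Injective fun q : Q.carrier => x i₀ • q) {j : ℕ}
    (σ : Fin j → κ) :
    Function.Injective (resL (M := Q.carrier) (Sσ_le_cons x i₀ σ)) := by
  have hpow : ∀ (N : ℕ) (q : Q.carrier), x i₀ ^ N • q = 0 → q = 0 := by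
    intro N
    induction N with
    | zero => intro q hq; simpa using hq
    | succ N ih =>
      intro q hq
      rw [pow_succ, mul_smul] at hq
      have := ih _ hq
      apply hinj
      simpa using this
  rw [injective_iff_map_eq_zero]
  intro y hy
  induction y using LocalizedModule.induction_on with
  | h m s =>
    rw [resL_mk, ← LocalizedModule.zero_mk (1 : Sσ x (Fin.cons i₀ σ : Fin (j + 1) → κ)),
      LocalizedModule.mk_eq] at hy
    obtain ⟨u, hu⟩ := hy
    obtain ⟨N, s', hs', hus⟩ := exists_pow_mul_of_mem_cons x i₀ σ u.1 u.2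
    have h1 : (u : R) • m = 0 := by
      have : u • (1 : Sσ x (Fin.cons i₀ σ : Fin (j + 1) → κ)) • m = (u : R) • m := by
        rw [one_smul]; rfl
      rw [← this, hu, smul_zero, smul_zero]
    rw [hus, mul_smul] at h1
    have h2 : s' • m = 0 := hpow N _ h1
    rw [← LocalizedModule.zero_mk (1 : Sσ x σ), LocalizedModule.mk_eq]
    refine ⟨⟨s', hs'⟩, ?_⟩
    rw [smul_zero, smul_zero]
    change s' • ((1 : Sσ x σ) • m) = 0
    rw [one_smul]
    exact h2

theorem pow_mem_gr {t₀ : ℤ} {u : R} (hu : u ∈ 𝒜 t₀) (N : ℕ) : u ^ N ∈ 𝒜 ((N : ℤ) * t₀) := by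
  induction N with
  | zero =>
    rw [pow_zero, Nat.cast_zero, zero_mul]
    exact SetLike.GradedOne.one_mem
  | succ N ih =>
    rw [pow_succ]
    have := SetLike.GradedMul.mul_mem ih hu
    have h : (N : ℤ) * t₀ + t₀ = ((N + 1 : ℕ) : ℤ) * t₀ := by push_cast; ring
    rwa [h] at this

theorem pow_smul_bijective (hbij : Function.Bijective fun q : Q.carrier => x i₀ • q) (N : ℕ) :
    Function.Bijective fun q : Q.carrier => x i₀ ^ N • q := by
  induction N with
  | zero =>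
    have : (fun q : Q.carrier => x i₀ ^ 0 • q) = id := by
      funext q; simp
    rw [this]
    exact Function.bijective_id
  | succ N ih =>
    have : (fun q : Q.carrier => x i₀ ^ (N + 1) • q) =
        (fun q : Q.carrier => x i₀ ^ N • q) ∘ (fun q : Q.carrier => x i₀ • q) := by
      funext q
      simp only [Function.comp_apply]
      rw [pow_succ, mul_smul]
    rw [this]
    exact ih.comp hbij

/-- Surjectivity in degree `e` of the restriction map to the localization where `x i₀` is inverted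
too. -/
theorem exists_resL_cons_eq (hx : ∀ i, ∃ t : ℤ, x i ∈ 𝒜 t)
    (hbij : Function.Bijective fun q : Q.carrier => x i₀ • q) {j : ℕ} (σ : Fin j → κ) (e : ℤ)
    (y' : LocalizedModule (Sσ x (Fin.cons i₀ σ : Fin (j + 1) → κ)) Q.carrier)
    (hy' : y' ∈ LocDeg Q (Sσ x (Fin.cons i₀ σ : Fin (j + 1) → κ)) e) :
    ∃ y ∈ LocDeg Q (Sσ x σ) e, resL (Sσ_le_cons x i₀ σ) y = y' := by
  obtain ⟨t, s', m, hs', hm, rfl⟩ := hy'
  by_cases hs0 : (s' : R) = 0
  · refine ⟨0, zero_mem _, ?_⟩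
    rw [map_zero, ← LocalizedModule.zero_mk (1 : Sσ x (Fin.cons i₀ σ : Fin (j + 1) → κ)),
      eq_comm, LocalizedModule.mk_eq]
    refine ⟨s', ?_⟩
    have h0 : ∀ z : Q.carrier, s' • z = 0 := by
      intro z
      change (s' : R) • z = 0
      rw [hs0, zero_smul]
    rw [h0, h0]
  · obtain ⟨N, s'', hs'', hss⟩ := exists_pow_mul_of_mem_cons x i₀ σ s'.1 s'.2
    obtain ⟨t₀, ht₀⟩ := hx i₀
    obtain ⟨t'', ht''⟩ := homSub_Sσ x hx σ s'' hs''
    have hpow : x i₀ ^ N ∈ 𝒜 ((N : ℤ) * t₀) := pow_mem_gr ht₀ N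
    have hdeg : t = (N : ℤ) * t₀ + t'' := by
      have h1 : (s' : R) ∈ 𝒜 ((N : ℤ) * t₀ + t'') := by
        rw [hss]
        exact SetLike.GradedMul.mul_mem hpow ht''
      exact DirectSum.degree_eq_of_mem_mem 𝒜 hs' h1 hs0
    obtain ⟨m', hm'⟩ := (pow_smul_bijective x i₀ hbij N).2 m
    have hm'' : x i₀ ^ N • m' = m := hm'
    let mh : Q.carrier := (decompose Q.gr m' (e + t'') : Q.carrier)
    have hmh : x i₀ ^ N • mh = m := by
      have h1 := Groth.Agent.Lib.Helper29GrEss.decompose_smul_of_mem 𝒜 Q.gr hpow m' (e + t)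
      rw [hm'', DirectSum.decompose_of_mem_same _ hm] at h1
      have h2 : e + t - (N : ℤ) * t₀ = e + t'' := by rw [hdeg]; ring
      rw [h2] at h1
      exact h1.symm
    refine ⟨LocalizedModule.mk mh ⟨s'', hs''⟩, mk_mem_LocDeg ht'' (SetLike.coe_mem _), ?_⟩
    rw [resL_mk, LocalizedModule.mk_eq]
    refine ⟨1, ?_⟩
    rw [one_smul, one_smul]
    change (s' : R) • mh = s'' • m
    rw [hss, mul_comm, mul_smul, hmh]

end Bij

theorem cons_comp_succAbove_zero {α : Type*} {m : ℕ} (a : α) (y : Fin (m + 1) → α) :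
    (Fin.cons a y : Fin (m + 2) → α) ∘ (0 : Fin (m + 2)).succAbove = y := by
  funext l
  simp [Fin.succAbove_zero]

theorem cons_comp_succAbove_succ {α : Type*} {m : ℕ} (a : α) (y : Fin (m + 1) → α)
    (k : Fin (m + 1)) :
    (Fin.cons a y : Fin (m + 2) → α) ∘ (k.succ).succAbove =
      (Fin.cons a (y ∘ k.succAbove) : Fin (m + 1) → α) := by
  funext l
  refine Fin.cases ?_ (fun l' => ?_) l
  · simp
  · simp [Fin.succ_succAbove_succ]

section Main

variable [Fintype κ] {Q : GrLC.GMod.{u} 𝒜} (i₀ : κ)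

/-- If `x i₀` acts bijectively on `Q`, the degree `e` Čech complex of `Q` is exact at every spot
`j + 1`. -/
theorem cechEx_of_bijective (hx : ∀ i, ∃ t : ℤ, x i ∈ 𝒜 t)
    (hbij : Function.Bijective fun q : Q.carrier => x i₀ • q) (j : ℕ) (e : ℤ) :
    CechEx x Q j e := by
  intro c hc hdc
  choose b hb hbres using fun τ : Fin j → κ =>
    exists_resL_cons_eq x i₀ hx hbij τ e (c (Fin.cons i₀ τ)) (hc _)
  refine ⟨b, hb, ?_⟩
  funext σ
  apply resL_cons_injective x i₀ hbij.1 σ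
  have hcoc := congrFun hdc (Fin.cons i₀ σ : Fin (j + 2) → κ)
  rw [dC_apply, Pi.zero_apply, Fin.sum_univ_succ] at hcoc
  have h0 : resL (Sσ_comp_le x (Fin.cons i₀ σ : Fin (j + 2) → κ) (0 : Fin (j + 2)).succAbove)
      (c ((Fin.cons i₀ σ : Fin (j + 2) → κ) ∘ (0 : Fin (j + 2)).succAbove)) =
      resL (Sσ_le_cons x i₀ σ) (c σ) :=
    resL_congr (fun ρ : Fin (j + 1) → κ => Sσ x ρ) c (cons_comp_succAbove_zero i₀ σ) _ _
  have hk : ∀ k : Fin (j + 1),
      resL (Sσ_comp_le x (Fin.cons i₀ σ : Fin (j + 2) → κ) (k.succ).succAbove)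
        (c ((Fin.cons i₀ σ : Fin (j + 2) → κ) ∘ (k.succ).succAbove)) =
      resL (Sσ_le_cons x i₀ σ) (resL (Sσ_comp_le x σ k.succAbove) (b (σ ∘ k.succAbove))) := by
    intro k
    have hle : Sσ x (Fin.cons i₀ (σ ∘ k.succAbove) : Fin (j + 1) → κ) ≤
        Sσ x (Fin.cons i₀ σ : Fin (j + 2) → κ) := by
      rw [← cons_comp_succAbove_succ i₀ σ k]
      exact Sσ_comp_le x _ _
    rw [resL_congr (fun ρ : Fin (j + 1) → κ => Sσ x ρ) c (cons_comp_succAbove_succ i₀ σ k) _ hle,
      ← hbres (σ ∘ k.succAbove), resL_resL, resL_resL]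
  rw [h0, Fin.val_zero, pow_zero, one_smul] at hcoc
  rw [dC_apply, map_sum]
  have hsum : ∑ k : Fin (j + 1), resL (Sσ_le_cons x i₀ σ)
      (((-1 : R) ^ (k : ℕ)) • resL (Sσ_comp_le x σ k.succAbove) (b (σ ∘ k.succAbove))) =
      - ∑ k : Fin (j + 1), ((-1 : R) ^ ((k.succ : Fin (j + 2)) : ℕ)) •
        resL (Sσ_comp_le x (Fin.cons i₀ σ : Fin (j + 2) → κ) (k.succ).succAbove)
          (c ((Fin.cons i₀ σ : Fin (j + 2) → κ) ∘ (k.succ).succAbove)) := by
    rw [← Finset.sum_neg_distrib]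
    refine Finset.sum_congr rfl (fun k _ => ?_)
    rw [map_smul, hk k, Fin.val_succ, pow_succ, mul_neg_one, neg_smul, neg_neg]
  rw [hsum]
  exact (eq_neg_of_add_eq_zero_left hcoc).symm

/-- If every element of `Y` is killed by a power of each `x i`, the Čech complex of `Y` vanishes at
the spots `≥ 1`, so it is exact there. -/
theorem cechEx_of_torsion {Y : GrLC.GMod.{u} 𝒜}
    (h : ∀ (i : κ) (y : Y.carrier), ∃ N : ℕ, x i ^ N • y = 0) (j : ℕ) (e : ℤ) :
    CechEx x Y j e := by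
  intro c _ _
  refine ⟨0, isDeg_zero x j e, ?_⟩
  rw [map_zero]
  funext σ
  rw [Pi.zero_apply]
  induction c σ using LocalizedModule.induction_on with
  | h m s =>
    obtain ⟨N, hN⟩ := h (σ 0) m
    rw [eq_comm, ← LocalizedModule.zero_mk (1 : Sσ x σ), eq_comm, LocalizedModule.mk_eq]
    refine ⟨⟨x (σ 0) ^ N, pow_mem (x_mem_Sσ x σ 0) N⟩, ?_⟩
    rw [smul_zero, smul_zero, eq_comm]
    change x (σ 0) ^ N • ((1 : Sσ x σ) • m) = 0
    rw [one_smul]
    exact hN

end Main

end Groth.Agent.Lib.Helper29.CechAlgU
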