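import Groth.Agent.Lib.Helper29CechAlgUE
import Groth.Agent.Lib.Helper29GrResCompare

/-!
# Graded local cohomology computed by the algebraic Čech complex, in the form of vanishing
statements: `H^{p+1}_a(X)_e = 0` iff the degree `e` Čech complex of `X` is exact at the spot `p + 1`
(helper29).
-/

set_option autoImplicit false
set_option linter.style.haveILetI false
set_option linter.unusedSectionVars false

universe u w

open DirectSum

namespace Groth.Agent.Lib.Helper29.CechAlgU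

open Groth.Agent.Lib.Helper29GrHV Groth.Agent.Lib.Helper29GrEss Groth.Agent.Lib.Helper29GrSub
  Groth.Agent.Lib.Helper29GrQuot Groth.Agent.Lib.Helper29GrResCompare

variable {R : Type u} [CommRing R] {𝒜 : ℤ → AddSubgroup R} [GradedRing 𝒜]
variable {κ : Type w} (x : κ → R)

section Zero

variable (Y : GrLC.GMod.{u} 𝒜)

/-- The identification of `Y` with the `0`-cochains. -/
noncomputable def iota0 : Y.carrier →ₗ[R] C x Y.carrier 0 :=
  LinearMap.pi fun σ => LocalizedModule.mkLinearMap (Sσ x σ) Y.carrier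

variable {Y}

theorem iota0_apply (y : Y.carrier) (σ : Fin 0 → κ) :
    iota0 x Y y σ = LocalizedModule.mk y 1 := rfl

theorem Sσ_zero (σ : Fin 0 → κ) : Sσ x σ = ⊥ := by
  unfold Sσ
  rw [Set.range_eq_empty, Submonoid.closure_empty]

theorem eq_one_of_mem_Sσ_zero (σ : Fin 0 → κ) (s : Sσ x σ) : s = 1 := by
  have h : (s : R) ∈ (⊥ : Submonoid R) := Sσ_zero x σ ▸ s.2
  exact Subtype.ext (Submonoid.mem_bot.mp h)

theorem iota0_injective : Function.Injective (iota0 x Y) := by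
  intro y y' h
  have h1 := congrFun h Fin.elim0
  rw [iota0_apply, iota0_apply, LocalizedModule.mk_eq] at h1
  obtain ⟨u, hu⟩ := h1
  rw [eq_one_of_mem_Sσ_zero x _ u, one_smul, one_smul, one_smul, one_smul] at hu
  exact hu

theorem exists_iota0_eq (z : C x Y.carrier 0) : ∃ y : Y.carrier, iota0 x Y y = z := by
  have h : ∃ y : Y.carrier, LocalizedModule.mk y 1 = z Fin.elim0 := by
    induction z Fin.elim0 using LocalizedModule.induction_on with
    | h m s => exact ⟨m, by rw [eq_one_of_mem_Sσ_zero x _ s]⟩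
  obtain ⟨y, hy⟩ := h
  refine ⟨y, ?_⟩
  funext σ
  obtain rfl : σ = Fin.elim0 := Subsingleton.elim _ _
  rw [iota0_apply, hy]

theorem isDeg_iota0_iff (y : Y.carrier) (e : ℤ) : IsDeg x Y 0 e (iota0 x Y y) ↔ y ∈ Y.gr e := by
  constructor
  · intro h
    obtain ⟨t, s, m, hs, hm, heq⟩ := h Fin.elim0
    rw [iota0_apply, LocalizedModule.mk_eq] at heq
    obtain ⟨u, hu⟩ := heq
    rw [eq_one_of_mem_Sσ_zero x _ u, eq_one_of_mem_Sσ_zero x _ s, one_smul, one_smul, one_smul,
      one_smul] at hu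
    rw [eq_one_of_mem_Sσ_zero x _ s] at hs
    have hs' : (1 : R) ∈ 𝒜 t := hs
    by_cases h1 : (1 : R) = 0
    · have : y = 0 := by rw [← one_smul R y, h1, zero_smul]
      rw [this]
      exact zero_mem _
    · have ht : t = 0 :=
        DirectSum.degree_eq_of_mem_mem 𝒜 hs' SetLike.GradedOne.one_mem h1
      rw [ht, add_zero] at hm
      rw [hu]
      exact hm
  · intro h σ
    rw [iota0_apply]
    refine mk_mem_LocDeg (t := 0) ?_ ?_
    · exact SetLike.GradedOne.one_mem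
    · rw [add_zero]
      exact h

variable {Y' : GrLC.GMod.{u} 𝒜}

theorem mapC_iota0 (f : Y.carrier →ₗ[R] Y'.carrier) (y : Y.carrier) :
    mapC x f 0 (iota0 x Y y) = iota0 x Y' (f y) := by
  funext σ
  rw [mapC_apply, iota0_apply, iota0_apply, mapL_mk]

variable [Fintype κ]

theorem dC_iota0_apply (y : Y.carrier) (τ : Fin 1 → κ) :
    dC x 0 (iota0 x Y y) τ = LocalizedModule.mk y 1 := by
  rw [dC_apply, Fin.sum_univ_succ, Fin.sum_univ_zero, add_zero, Fin.val_zero, pow_zero, one_smul,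
    iota0_apply, resL_mk]
  rfl

theorem dC_iota0_eq_zero_iff (y : Y.carrier) :
    dC x 0 (iota0 x Y y) = 0 ↔ ∀ i : κ, ∃ N : ℕ, x i ^ N • y = 0 := by
  have hS : ∀ τ : Fin 1 → κ, ∀ s : R, s ∈ Sσ x τ ↔ ∃ N : ℕ, x (τ 0) ^ N = s := by
    intro τ s
    unfold Sσ
    rw [Set.range_unique, ← Submonoid.mem_closure_singleton]
    rfl
  constructor
  · intro h i
    have h1 := congrFun h (fun _ => i)
    rw [dC_iota0_apply, Pi.zero_apply, ← LocalizedModule.zero_mk (1 : Sσ x (fun _ : Fin 1 => i)),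
      LocalizedModule.mk_eq] at h1
    obtain ⟨u, hu⟩ := h1
    obtain ⟨N, hN⟩ := (hS _ u.1).mp u.2
    refine ⟨N, ?_⟩
    rw [one_smul, smul_zero, smul_zero] at hu
    rw [hN]
    exact hu
  · intro h
    funext τ
    obtain ⟨N, hN⟩ := h (τ 0)
    rw [dC_iota0_apply, Pi.zero_apply, ← LocalizedModule.zero_mk (1 : Sσ x τ),
      LocalizedModule.mk_eq]
    refine ⟨⟨x (τ 0) ^ N, (hS τ _).mpr ⟨N, rfl⟩⟩, ?_⟩
    rw [one_smul, smul_zero, smul_zero]
    exact hN

end Zero

section Gam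

variable [Fintype κ]

/-- Lifting of degree `e` torsion elements, in elementary terms. -/
theorem surjGam_iff {X X'' : GrLC.GMod.{u} 𝒜} (g : X.carrier →ₗ[R] X''.carrier) (e : ℤ) :
    SurjGam x g e ↔ ∀ z ∈ X''.gr e, (∀ i : κ, ∃ N : ℕ, x i ^ N • z = 0) →
      ∃ w ∈ X.gr e, (∀ i : κ, ∃ N : ℕ, x i ^ N • w = 0) ∧ g w = z := by
  constructor
  · intro h z hz hzt
    obtain ⟨w, hw, hdw, hgw⟩ := h (iota0 x X'' z) ((isDeg_iota0_iff x z e).mpr hz)
      ((dC_iota0_eq_zero_iff x z).mpr hzt)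
    obtain ⟨w₀, rfl⟩ := exists_iota0_eq x w
    refine ⟨w₀, (isDeg_iota0_iff x w₀ e).mp hw, (dC_iota0_eq_zero_iff x w₀).mp hdw, ?_⟩
    rw [mapC_iota0] at hgw
    exact iota0_injective x hgw
  · intro h z hz hdz
    obtain ⟨z₀, rfl⟩ := exists_iota0_eq x z
    obtain ⟨w, hw, hwt, hgw⟩ := h z₀ ((isDeg_iota0_iff x z₀ e).mp hz)
      ((dC_iota0_eq_zero_iff x z₀).mp hdz)
    refine ⟨iota0 x X w, (isDeg_iota0_iff x w e).mpr hw, (dC_iota0_eq_zero_iff x w).mpr hwt, ?_⟩
    rw [mapC_iota0, hgw]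

/-- Torsion for the ideal generated by the `x i`, elementwise. -/
theorem mem_gam_iff {a : Ideal R} (ha : a = Ideal.span (Set.range x)) {L : Type u}
    [AddCommGroup L] [Module R L] (y : L) :
    y ∈ GrLC.gam a L ↔ ∀ i : κ, ∃ N : ℕ, x i ^ N • y = 0 := by
  constructor
  · rintro ⟨n, hn⟩ i
    refine ⟨n, hn _ (Ideal.pow_mem_pow ?_ n)⟩
    rw [ha]
    exact Ideal.subset_span ⟨i, rfl⟩
  · intro h
    have hle : a ≤ (Ideal.torsionOf R L y).radical := by
      rw [ha, Ideal.span_le]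
      rintro _ ⟨i, rfl⟩
      obtain ⟨N, hN⟩ := h i
      exact ⟨N, (Ideal.mem_torsionOf_iff _ _).mpr hN⟩
    have hfg : a.FG := by
      rw [ha]
      exact Submodule.fg_span (Set.finite_range x)
    obtain ⟨n, hn⟩ := Ideal.exists_pow_le_of_le_radical_of_fg hle hfg
    exact ⟨n, fun r hr => (Ideal.mem_torsionOf_iff _ _).mp (hn hr)⟩

end Gam

section Main

variable [Fintype κ] [IsNoetherianRing R]

theorem cechEx_subGMod_congr (Y : GrLC.GMod.{u} 𝒜) {P P' : Submodule R Y.carrier} (h : P = P')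
    (hP : P.IsHomogeneous Y.gr) (hP' : P'.IsHomogeneous Y.gr) (j : ℕ) (e : ℤ) :
    CechEx x (subGMod Y P hP) j e ↔ CechEx x (subGMod Y P' hP') j e := by
  subst h
  rfl

/-- Dimension shifting along a short exact sequence with acyclic middle term. -/
theorem cechEx_shift {X' X X'' : GrLC.GMod.{u} 𝒜} (S : GSES X' X X'')
    (hx : ∀ i, ∃ t : ℤ, x i ∈ 𝒜 t) (j : ℕ) (e : ℤ) (h1 : CechEx x X j e)
    (h2 : CechEx x X (j + 1) e) : CechEx x X' (j + 1) e ↔ CechEx x X'' j e :=
  ⟨fun h => cechEx_quot_of_sub x S hx j e h1 h, fun h => cechEx_sub_of_quot x S hx j e h2 h⟩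

variable {X : GrLC.GMod.{u} 𝒜} (E : GrLC.StarInjRes 𝒜 X.gr) (a : HomogeneousIdeal 𝒜)
  (ha : a.toIdeal = Ideal.span (Set.range x)) (hx : ∀ i, ∃ t : ℤ, x i ∈ 𝒜 t)

/-- The image of `d n` as a graded module. -/
noncomputable def Zr (n : ℕ) : GrLC.GMod.{u} 𝒜 :=
  subGMod (E.X (n + 1)) (LinearMap.range (E.d n)) (range_hom (E.d n) (E.d_grHom n))

/-- The kernel of `d n` as a graded module. -/
noncomputable def Zk (n : ℕ) : GrLC.GMod.{u} 𝒜 :=
  subGMod (E.X n) (LinearMap.ker (E.d n)) (ker_hom (E.d n) (E.d_grHom n))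

/-- `dⁿ` as a map onto its image. -/
noncomputable def gN (n : ℕ) : (E.X n).carrier →ₗ[R] (Zr E n).carrier :=
  (E.d n).rangeRestrict

theorem val_gN (n : ℕ) (w : (E.X n).carrier) :
    Subtype.val (p := fun z => z ∈ LinearMap.range (E.d n)) (gN E n w) = E.d n w := rfl

/-- The sequence `X → E⁰ → im d⁰`. -/
noncomputable def ses0 : GSES X (E.X 0) (Zr E 0) where
  f := E.ε
  g := gN E 0
  hfi := E.ε_injective
  hgs := (E.d 0).surjective_rangeRestrict
  hfg := (LinearMap.ker_rangeRestrict (E.d 0)).trans E.exact_zero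
  hf := E.ε_grHom
  hg := fun γ y hy => E.d_grHom 0 γ y hy

/-- The sequence `ker dⁿ → Eⁿ → im dⁿ`. -/
noncomputable def sesN (n : ℕ) : GSES (Zk E n) (E.X n) (Zr E n) where
  f := (LinearMap.ker (E.d n)).subtype
  g := gN E n
  hfi := (LinearMap.ker (E.d n)).subtype_injective
  hgs := (E.d n).surjective_rangeRestrict
  hfg := ker_rangeRestrict_eq_range_subtype (E.d n)
  hf := fun _ _ hy => hy
  hg := fun γ y hy => E.d_grHom n γ y hy

include ha in
/-- Vanishing of `H^{n+1}` in degree `e` is the lifting property of torsion elements along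
`dⁿ`. -/
theorem surjGam_iff_Hcomp (n : ℕ) (e : ℤ) :
    SurjGam x (gN E n) e ↔ E.Hcomp a (n + 1) e = ⊥ := by
  rw [surjGam_iff, Hcomp_eq_bot_iff_forall]
  constructor
  · intro h z hz hze
    have hzr : z ∈ LinearMap.range (E.d n) := by
      rw [← E.exact_succ n]
      exact hz.2
    obtain ⟨w, hw, hwt, hgw⟩ := h ⟨z, hzr⟩ hze (fun i => by
      obtain ⟨N, hN⟩ := (mem_gam_iff x ha z).mp hz.1 i
      exact ⟨N, Subtype.ext hN⟩)
    exact ⟨w, (mem_gam_iff x ha w).mpr hwt, congrArg Subtype.val hgw⟩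
  · intro h z hze hzt
    obtain ⟨z, hzr⟩ := z
    have hzg : z ∈ GrLC.gam a.toIdeal (E.X (n + 1)).carrier := by
      rw [mem_gam_iff x ha]
      intro i
      obtain ⟨N, hN⟩ := hzt i
      exact ⟨N, congrArg Subtype.val hN⟩
    have hzk : z ∈ LinearMap.ker (E.d (n + 1)) := by
      rw [E.exact_succ n]
      exact hzr
    have hzc : z ∈ E.cobdy a (n + 1) := h z ⟨hzg, hzk⟩ hze
    obtain ⟨y, hyg, hye, hdy⟩ := exists_homog_primitive E a n e z hzc hze
    exact ⟨y, hye, (mem_gam_iff x ha y).mp hyg, Subtype.ext hdy⟩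

include ha hx in
theorem cechEx_Zr_iff (q : ℕ) : ∀ (i n : ℕ), n = i + q + 2 → ∀ e : ℤ,
    (CechEx x (Zr E i) q e ↔ E.Hcomp a n e = ⊥) := by
  induction q with
  | zero =>
    intro i n hn e
    subst hn
    have h1 : CechEx x (Zr E i) 0 e ↔ CechEx x (Zk E (i + 1)) 0 e :=
      cechEx_subGMod_congr x (E.X (i + 1)) (E.exact_succ i).symm _ _ 0 e
    rw [h1, cechEx_zero_iff x (sesN E (i + 1)) hx e
      (cechEx_of_starInj x hx (E.X (i + 1)) (E.starInj (i + 1)) 0 e)]
    exact surjGam_iff_Hcomp x E a ha (i + 1) e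
  | succ q ih =>
    intro i n hn e
    have h1 : CechEx x (Zr E i) (q + 1) e ↔ CechEx x (Zk E (i + 1)) (q + 1) e :=
      cechEx_subGMod_congr x (E.X (i + 1)) (E.exact_succ i).symm _ _ (q + 1) e
    rw [h1, cechEx_shift x (sesN E (i + 1)) hx q e
      (cechEx_of_starInj x hx (E.X (i + 1)) (E.starInj (i + 1)) q e)
      (cechEx_of_starInj x hx (E.X (i + 1)) (E.starInj (i + 1)) (q + 1) e)]
    exact ih (i + 1) n (by omega) e

include ha hx in
/-- **Graded local cohomology is Čech cohomology**, in the form of vanishing statements: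
`H^{p+1}_a(X)_e = 0` iff the degree `e` part of the Čech complex of `X` on the generators `x i` of
`a` is exact at the spot `p + 1`. -/
theorem Hcomp_succ_eq_bot_iff (p : ℕ) (e : ℤ) :
    E.Hcomp a (p + 1) e = ⊥ ↔ CechEx x X p e := by
  cases p with
  | zero =>
    rw [cechEx_zero_iff x (ses0 E) hx e (cechEx_of_starInj x hx (E.X 0) (E.starInj 0) 0 e)]
    exact (surjGam_iff_Hcomp x E a ha 0 e).symm
  | succ q =>
    rw [cechEx_shift x (ses0 E) hx q e (cechEx_of_starInj x hx (E.X 0) (E.starInj 0) q e)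
      (cechEx_of_starInj x hx (E.X 0) (E.starInj 0) (q + 1) e)]
    exact (cechEx_Zr_iff x E a ha hx q 0 (q + 1 + 1) (by omega) e).symm

end Main

end Groth.Agent.Lib.Helper29.CechAlgU
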