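import Mathlib
set_option autoImplicit false
set_option linter.style.haveILetI false
universe u
open DirectSum
open scoped LaurentPolynomial

namespace Groth.Agent.Lib.Helper29.Coaction

variable {B : Type u} [CommRing B] (Φ : B →+* B[T;T⁻¹])

/-- the `n`-th graded piece defined by a "coaction" `Φ : B → B[T;T⁻¹]`. -/
def grd (n : ℤ) : AddSubgroup B where
  carrier := {x | Φ x = LaurentPolynomial.C x * LaurentPolynomial.T n}
  zero_mem' := by simp
  add_mem' := by
    intro x y hx hy
    change _ = _ at hx hy ⊢
    rw [map_add, hx, hy, map_add, add_mul]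
  neg_mem' := by
    intro x hx
    change _ = _ at hx ⊢
    rw [map_neg, hx, map_neg, neg_mul]

theorem mem_grd {n : ℤ} {x : B} :
    x ∈ grd Φ n ↔ Φ x = LaurentPolynomial.C x * LaurentPolynomial.T n := Iff.rfl

theorem coeff_of_mem {n : ℤ} {x : B} (hx : x ∈ grd Φ n) (m : ℤ) :
    (Φ x).coeff m = if m = n then x else 0 := by
  rw [mem_grd] at hx
  rw [hx, ← LaurentPolynomial.single_eq_C_mul_T, AddMonoidAlgebra.coeff_single,
    Finsupp.single_apply]
  simp only [eq_comm]

instance : SetLike.GradedMonoid (grd Φ) where
  one_mem := by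
    rw [mem_grd, map_one, map_one, LaurentPolynomial.T_zero, mul_one]
  mul_mem := by
    intro i j x y hx hy
    rw [mem_grd] at hx hy ⊢
    rw [map_mul, hx, hy, map_mul, LaurentPolynomial.T_add]
    ring

variable (hspan : ∀ x : B, x ∈ AddSubgroup.closure (⋃ n, (grd Φ n : Set B)))

include hspan in
theorem coeff_mem (x : B) (n : ℤ) : (Φ x).coeff n ∈ grd Φ n := by
  induction hspan x using AddSubgroup.closure_induction with
  | mem y hy =>
    obtain ⟨m, hm⟩ := Set.mem_iUnion.mp hy
    rw [coeff_of_mem Φ hm]
    split_ifs with h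
    · subst h; exact hm
    · exact zero_mem _
  | zero => simp
  | add y z _ _ hy hz =>
    rw [map_add]
    have : (Φ y + Φ z).coeff n = (Φ y).coeff n + (Φ z).coeff n := rfl
    rw [this]
    exact add_mem hy hz
  | neg y _ hy =>
    rw [map_neg]
    have : (-Φ y).coeff n = -(Φ y).coeff n := rfl
    rw [this]
    exact neg_mem hy

include hspan in
theorem sum_coeff (x : B) : ((Φ x).coeff.sum fun _ b => b) = x := by
  induction hspan x using AddSubgroup.closure_induction with
  | mem y hy =>
    obtain ⟨m, hm⟩ := Set.mem_iUnion.mp hy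
    rw [SetLike.mem_coe, mem_grd] at hm
    rw [hm, ← LaurentPolynomial.single_eq_C_mul_T]
    change (Finsupp.single m y).sum (fun _ b => b) = y
    rw [Finsupp.sum_single_index rfl]
  | zero => simp
  | add y z _ _ hy hz =>
    rw [map_add]
    have : (Φ y + Φ z).coeff = (Φ y).coeff + (Φ z).coeff := rfl
    rw [this, Finsupp.sum_add_index' (fun _ => rfl) (fun _ _ _ => rfl), hy, hz]
  | neg y _ hy =>
    rw [map_neg]
    have : (-Φ y).coeff = -(Φ y).coeff := rfl
    rw [this, Finsupp.sum_neg_index (fun _ => rfl), Finsupp.sum_neg, hy]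

/-- the decomposition map. -/
noncomputable def dec (x : B) : ⨁ n, grd Φ n :=
  (Φ x).coeff.sum fun n _ => DirectSum.of (fun n => grd Φ n) n ⟨(Φ x).coeff n, coeff_mem Φ hspan x n⟩

theorem coeff_coe (y : ⨁ n, grd Φ n) (m : ℤ) :
    (Φ (DirectSum.coeAddMonoidHom (grd Φ) y)).coeff m = (y m : B) := by
  classical
  induction y using DirectSum.induction_on with
  | zero => simp
  | of i z =>
    rw [DirectSum.coeAddMonoidHom_of, coeff_of_mem Φ z.2]
    by_cases h : m = i
    · subst h; rw [if_pos rfl, DirectSum.of_eq_same]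
    · rw [if_neg h, DirectSum.of_eq_of_ne _ _ _ h]; rfl
  | add y z hy hz =>
    rw [map_add, map_add, DirectSum.add_apply, AddSubgroup.coe_add, ← hy, ← hz]
    rfl

theorem coe_injective : Function.Injective (DirectSum.coeAddMonoidHom (grd Φ)) := by
  intro y z hyz
  apply DirectSum.ext_iff.mpr  
  intro m
  apply Subtype.ext
  rw [← coeff_coe, ← coeff_coe, hyz]

@[reducible] noncomputable def decomposition : DirectSum.Decomposition (grd Φ) where
  decompose' := dec Φ hspan
  left_inv := by
    intro x
    unfold dec
    rw [Finsupp.sum, map_sum]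
    simp only [DirectSum.coeAddMonoidHom_of]
    exact sum_coeff Φ hspan x
  right_inv := by
    intro y
    apply coe_injective Φ
    unfold dec
    rw [Finsupp.sum, map_sum]
    simp only [DirectSum.coeAddMonoidHom_of]
    exact sum_coeff Φ hspan _

/-- the graded ring structure defined by a coaction. -/
@[reducible] noncomputable def gradedRing : GradedRing (grd Φ) :=
  { (inferInstance : SetLike.GradedMonoid (grd Φ)) with
    toDecomposition := decomposition Φ hspan }

theorem decompose_coe (x : B) (n : ℤ) :
    letI := gradedRing Φ hspan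
    ((DirectSum.decompose (grd Φ) x) n : B) = (Φ x).coeff n := by
  letI := gradedRing Φ hspan
  have h1 := coeff_coe Φ (DirectSum.decompose (grd Φ) x) n
  have h2 : DirectSum.coeAddMonoidHom (grd Φ) (DirectSum.decompose (grd Φ) x) = x :=
    DirectSum.Decomposition.left_inv x
  rw [h2] at h1
  exact h1.symm

end Groth.Agent.Lib.Helper29.Coaction
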