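import Groth.Agent.Lib.Helper29GrGam

/-! Coarsening a grading along a group homomorphism (helper29). -/

set_option autoImplicit false
set_option linter.unusedSectionVars false
open DirectSum

noncomputable section

namespace Groth.Agent.Lib.Helper29Coarsen

universe u

variable {ι κ : Type} [AddCommGroup ι] [DecidableEq ι] [AddCommGroup κ] [DecidableEq κ]
  (φ : ι →+ κ)

section Family

variable {L : Type u} [AddCommGroup L] (𝓛 : ι → AddSubgroup L)

/-- The coarsened family of pieces. -/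
def coarse : κ → AddSubgroup L := fun h => ⨆ g ∈ φ ⁻¹' {h}, 𝓛 g

theorem le_coarse (g : ι) : 𝓛 g ≤ coarse φ 𝓛 (φ g) := by
  unfold coarse
  exact le_iSup₂ (f := fun g' (_ : g' ∈ φ ⁻¹' {φ g}) => 𝓛 g') g rfl

theorem le_coarse_of_eq {g : ι} {h : κ} (hg : φ g = h) : 𝓛 g ≤ coarse φ 𝓛 h :=
  hg ▸ le_coarse φ 𝓛 g

theorem coarse_induction {h : κ} {C : L → Prop} (hmem : ∀ g, φ g = h → ∀ x ∈ 𝓛 g, C x)
    (h0 : C 0) (hadd : ∀ x y, C x → C y → C (x + y)) {x : L} (hx : x ∈ coarse φ 𝓛 h) : C x := by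
  refine AddSubgroup.iSup_induction (C := C) _ hx ?_ h0 hadd
  intro g y hy
  refine AddSubgroup.iSup_induction (C := C) _ hy ?_ h0 hadd
  intro hg z hz
  exact hmem g hg z hz

variable [DirectSum.Decomposition 𝓛]

/-- inclusion of a piece into its coarse piece -/
def incl (g : ι) : ↥(𝓛 g) →+ ↥(coarse φ 𝓛 (φ g)) :=
  AddSubgroup.inclusion (le_coarse φ 𝓛 g)

/-- regrouping map -/
def regroup : (⨁ g, 𝓛 g) →+ ⨁ h, coarse φ 𝓛 h :=
  DirectSum.toAddMonoid fun g => (DirectSum.of (fun h => coarse φ 𝓛 h) (φ g)).comp (incl φ 𝓛 g)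

theorem regroup_of (g : ι) (y : 𝓛 g) :
    regroup φ 𝓛 (DirectSum.of (fun g => 𝓛 g) g y) =
      DirectSum.of (fun h => coarse φ 𝓛 h) (φ g) (incl φ 𝓛 g y) := by
  rw [regroup, DirectSum.toAddMonoid_of]
  rfl

theorem coe_regroup (x : ⨁ g, 𝓛 g) :
    DirectSum.coeAddMonoidHom (coarse φ 𝓛) (regroup φ 𝓛 x) = DirectSum.coeAddMonoidHom 𝓛 x := by
  have : (DirectSum.coeAddMonoidHom (coarse φ 𝓛)).comp (regroup φ 𝓛) =
      DirectSum.coeAddMonoidHom 𝓛 := by
    apply DirectSum.addHom_ext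
    intro g y
    rw [AddMonoidHom.comp_apply, regroup_of, DirectSum.coeAddMonoidHom_of,
      DirectSum.coeAddMonoidHom_of]
    rfl
  exact DFunLike.congr_fun this x

/-- The coarsened decomposition. -/
@[instance_reducible]
def coarseDecomposition : DirectSum.Decomposition (coarse φ 𝓛) :=
  DirectSum.Decomposition.ofAddHom (coarse φ 𝓛)
    ((regroup φ 𝓛).comp (DirectSum.decomposeAddEquiv 𝓛).toAddMonoidHom)
    (by
      apply AddMonoidHom.ext
      intro x
      rw [AddMonoidHom.comp_apply, AddMonoidHom.comp_apply, coe_regroup]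
      exact DirectSum.Decomposition.left_inv x)
    (by
      apply DirectSum.addHom_ext
      rintro h ⟨m, hm⟩
      rw [AddMonoidHom.comp_apply, DirectSum.coeAddMonoidHom_of]
      have key : ∃ hm' : m ∈ coarse φ 𝓛 h,
          regroup φ 𝓛 (DirectSum.decompose 𝓛 m) =
            DirectSum.of (fun h => coarse φ 𝓛 h) h ⟨m, hm'⟩ := by
        refine coarse_induction φ 𝓛 (C := fun m => ∃ hm' : m ∈ coarse φ 𝓛 h,
          regroup φ 𝓛 (DirectSum.decompose 𝓛 m) =
            DirectSum.of (fun h => coarse φ 𝓛 h) h ⟨m, hm'⟩) ?_ ?_ ?_ hm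
        · intro g hg x hx
          subst hg
          refine ⟨le_coarse φ 𝓛 g hx, ?_⟩
          rw [DirectSum.decompose_of_mem 𝓛 hx, regroup_of]
          rfl
        · refine ⟨zero_mem _, ?_⟩
          rw [DirectSum.decompose_zero, map_zero]
          exact (map_zero (DirectSum.of (fun h => coarse φ 𝓛 h) h)).symm
        · rintro x y ⟨hx, hx'⟩ ⟨hy, hy'⟩
          refine ⟨add_mem hx hy, ?_⟩
          rw [DirectSum.decompose_add, map_add, hx', hy', ← map_add]
          rfl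
      obtain ⟨hm', hkey⟩ := key
      exact hkey)

end Family

section Module

variable {R : Type u} [CommRing R] (𝒜 : ι → AddSubgroup R) [GradedRing 𝒜]
  (𝒜' : κ → AddSubgroup R) [GradedRing 𝒜'] (h𝒜 : ∀ h : κ, 𝒜' h = ⨆ g ∈ φ ⁻¹' {h}, 𝒜 g)
variable {L : Type u} [AddCommGroup L] [Module R L] (𝓛 : ι → AddSubgroup L)
  [DirectSum.Decomposition 𝓛] [SetLike.GradedSMul 𝒜 𝓛]

include h𝒜 in
theorem coarse_gradedSMul : SetLike.GradedSMul 𝒜' (coarse φ 𝓛) where
  smul_mem := by
    intro h h' r x hr hx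
    have hr' : r ∈ coarse φ 𝒜 h := by rw [coarse, ← h𝒜 h]; exact hr
    refine coarse_induction φ 𝒜 (C := fun r => r • x ∈ coarse φ 𝓛 (h +ᵥ h')) ?_ ?_ ?_ hr'
    · intro g hg s hs
      refine coarse_induction φ 𝓛 (C := fun x => s • x ∈ coarse φ 𝓛 (h +ᵥ h')) ?_ ?_ ?_ hx
      · intro g' hg' y hy
        have := SetLike.GradedSMul.smul_mem (A := 𝒜) (B := 𝓛) hs hy
        refine le_coarse_of_eq φ 𝓛 ?_ this
        rw [vadd_eq_add, vadd_eq_add, map_add, hg, hg']
      · rw [smul_zero]; exact zero_mem _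
      · intro y z hy hz
        rw [smul_add]; exact add_mem hy hz
    · rw [zero_smul]; exact zero_mem _
    · intro s t hs ht
      rw [add_smul]; exact add_mem hs ht

end Module

section Hom

variable {R : Type u} [CommRing R]
variable {L : Type u} [AddCommGroup L] [Module R L] (𝓛 : ι → AddSubgroup L)
variable {L' : Type u} [AddCommGroup L'] [Module R L'] (𝓛' : ι → AddSubgroup L')

theorem isGrHom_coarse (f : L →ₗ[R] L') (hf : GrLC.IsGrHom 𝓛 𝓛' f) :
    GrLC.IsGrHom (coarse φ 𝓛) (coarse φ 𝓛') f := by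
  intro h x hx
  refine coarse_induction φ 𝓛 (C := fun x => f x ∈ coarse φ 𝓛' h) ?_ ?_ ?_ hx
  · intro g hg y hy
    exact le_coarse_of_eq φ 𝓛' hg (hf g y hy)
  · rw [map_zero]; exact zero_mem _
  · intro y z hy hz
    rw [map_add]; exact add_mem hy hz

end Hom

end Groth.Agent.Lib.Helper29Coarsen
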