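import Mathlib

/-!
# Comparison theorem: degreewise projective complex into an arbitrary resolution

Mathlib's `ProjectiveResolution.lift` / `liftHomotopy` only use projectivity of the source terms and
exactness of the target.  We restate them in that generality.
-/

set_option autoImplicit false

open CategoryTheory CategoryTheory.Limits HomologicalComplex ChainComplex Category

namespace Groth.Agent.Lib.Helper29CompareProj

universe v u
variable {C : Type u} [Category.{v} C] [Abelian C]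

section resolution

variable {Z : C} (Q : ChainComplex C ℕ) (π : Q ⟶ (ChainComplex.single₀ C).obj Z) [QuasiIso π]

include π in
lemma exactAt_succ (n : ℕ) : Q.ExactAt (n + 1) := by
  rw [← quasiIsoAt_iff_exactAt' π (n + 1) (exactAt_succ_single_obj _ _)]
  infer_instance

include π in
lemma exact_succ (n : ℕ) : (ShortComplex.mk _ _ (Q.d_comp_d (n + 2) (n + 1) n)).Exact :=
  ((HomologicalComplex.exactAt_iff' _ (n + 2) (n + 1) n) (by simp only [ChainComplex.prev]; rfl)
    (by simp)).1 (exactAt_succ Q π n)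

omit [QuasiIso π] in
@[simp]
theorem π_f_succ (n : ℕ) : π.f (n + 1) = 0 :=
  (isZero_single_obj_X _ _ _ _ (by simp)).eq_of_tgt _ _

omit [QuasiIso π] in
@[reassoc (attr := simp)]
theorem d_comp_π_f_zero : Q.d 1 0 ≫ π.f 0 = 0 := by
  rw [← π.comm 1 0, single_obj_d, comp_zero]

set_option backward.isDefEq.respectTransparency.types false in
set_option backward.defeqAttrib.useBackward true in
noncomputable def isColimitCokernelCofork :
    IsColimit (CokernelCofork.ofπ _ (d_comp_π_f_zero Q π)) := by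
  refine IsColimit.ofIsoColimit (Q.opcyclesIsCokernel 1 0 (by simp)) ?_
  refine Cofork.ext (Q.isoHomologyι₀.symm ≪≫ isoOfQuasiIsoAt π 0 ≪≫
    singleObjHomologySelfIso _ _ _) ?_
  rw [← cancel_mono (singleObjHomologySelfIso (ComplexShape.down ℕ) 0 _).inv,
    ← cancel_mono (isoHomologyι₀ _).hom]
  dsimp
  simp only [isoHomologyι₀_inv_naturality_assoc, p_opcyclesMap_assoc, single₀_obj_zero, assoc,
    Iso.hom_inv_id, comp_id, isoHomologyι_inv_hom_id, singleObjHomologySelfIso_inv_homologyι,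
    singleObjOpcyclesSelfIso_hom, single₀ObjXSelf, Iso.refl_inv, id_comp]

lemma exact₀ : (ShortComplex.mk _ _ (d_comp_π_f_zero Q π)).Exact :=
  ShortComplex.exact_of_g_is_cokernel _ (isColimitCokernelCofork Q π)

lemma epi_π_f_zero : Epi (π.f 0) :=
  epi_of_isColimit_cofork (isColimitCokernelCofork Q π)

end resolution

section lift

variable {Y Z : C} (f : Y ⟶ Z) (P : ChainComplex C ℕ) [∀ n, Projective (P.X n)]
  (πP : P ⟶ (ChainComplex.single₀ C).obj Y)
  (Q : ChainComplex C ℕ) (πQ : Q ⟶ (ChainComplex.single₀ C).obj Z) [QuasiIso πQ]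

set_option backward.isDefEq.respectTransparency false in
/-- Auxiliary construction for `lift`. -/
noncomputable def liftFZero : P.X 0 ⟶ Q.X 0 :=
  haveI := epi_π_f_zero Q πQ
  Projective.factorThru (πP.f 0 ≫ f) (πQ.f 0)

lemma liftFZero_comp : liftFZero f P πP Q πQ ≫ πQ.f 0 = πP.f 0 ≫ f := by
  haveI := epi_π_f_zero Q πQ
  exact Projective.factorThru_comp _ _

set_option backward.isDefEq.respectTransparency false in
/-- Auxiliary construction for `lift`. -/
noncomputable def liftFOne : P.X 1 ⟶ Q.X 1 :=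
  (exact₀ Q πQ).liftFromProjective (P.d 1 0 ≫ liftFZero f P πP Q πQ) (by
    dsimp
    rw [assoc, liftFZero_comp, d_comp_π_f_zero_assoc, zero_comp])

@[simp]
theorem liftFOne_zero_comm :
    liftFOne f P πP Q πQ ≫ Q.d 1 0 = P.d 1 0 ≫ liftFZero f P πP Q πQ := by
  apply (exact₀ Q πQ).liftFromProjective_comp

/-- Auxiliary construction for `lift`. -/
noncomputable def liftFSucc (n : ℕ)
    (g : P.X n ⟶ Q.X n) (g' : P.X (n + 1) ⟶ Q.X (n + 1))
    (w : g' ≫ Q.d (n + 1) n = P.d (n + 1) n ≫ g) :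
    Σ' g'' : P.X (n + 2) ⟶ Q.X (n + 2),
      g'' ≫ Q.d (n + 2) (n + 1) = P.d (n + 2) (n + 1) ≫ g' :=
  ⟨(exact_succ Q πQ n).liftFromProjective
    (P.d (n + 2) (n + 1) ≫ g') (by simp [w]),
      (exact_succ Q πQ n).liftFromProjective_comp _ _⟩

/-- A morphism lifts to a chain map from a degreewise projective complex to a resolution. -/
noncomputable def lift : P ⟶ Q :=
  ChainComplex.mkHom _ _ (liftFZero f P πP Q πQ) (liftFOne f P πP Q πQ)
    (liftFOne_zero_comm f P πP Q πQ)
    fun n ⟨g, g', w⟩ => ⟨(liftFSucc P Q πQ n g g' w).1, (liftFSucc P Q πQ n g g' w).2⟩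

set_option backward.isDefEq.respectTransparency.types false in
theorem lift_commutes : lift f P πP Q πQ ≫ πQ = πP ≫ (ChainComplex.single₀ C).map f := by
  apply HomologicalComplex.to_single_hom_ext (j := 0)
  simp [lift]
  exact liftFZero_comp f P πP Q πQ

end lift

section homotopy

variable {Z : C} (P : ChainComplex C ℕ) [∀ n, Projective (P.X n)]
  (Q : ChainComplex C ℕ) (πQ : Q ⟶ (ChainComplex.single₀ C).obj Z) [QuasiIso πQ]

/-- An auxiliary definition for `liftHomotopyZero`. -/
noncomputable def liftHomotopyZeroZero (f : P ⟶ Q) (comm : f ≫ πQ = 0) : P.X 0 ⟶ Q.X 1 :=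
  (exact₀ Q πQ).liftFromProjective (f.f 0)
    (congr_fun (congr_arg HomologicalComplex.Hom.f comm) 0)

@[reassoc (attr := simp)]
lemma liftHomotopyZeroZero_comp (f : P ⟶ Q) (comm : f ≫ πQ = 0) :
    liftHomotopyZeroZero P Q πQ f comm ≫ Q.d 1 0 = f.f 0 :=
  (exact₀ Q πQ).liftFromProjective_comp _ _

/-- An auxiliary definition for `liftHomotopyZero`. -/
noncomputable def liftHomotopyZeroOne (f : P ⟶ Q) (comm : f ≫ πQ = 0) : P.X 1 ⟶ Q.X 2 :=
  (exact_succ Q πQ 0).liftFromProjective (f.f 1 - P.d 1 0 ≫ liftHomotopyZeroZero P Q πQ f comm)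
    (by rw [Preadditive.sub_comp, assoc, HomologicalComplex.Hom.comm,
              liftHomotopyZeroZero_comp, sub_self])

@[reassoc (attr := simp)]
lemma liftHomotopyZeroOne_comp (f : P ⟶ Q) (comm : f ≫ πQ = 0) :
    liftHomotopyZeroOne P Q πQ f comm ≫ Q.d 2 1 =
      f.f 1 - P.d 1 0 ≫ liftHomotopyZeroZero P Q πQ f comm :=
  (exact_succ Q πQ 0).liftFromProjective_comp _ _

/-- An auxiliary definition for `liftHomotopyZero`. -/
noncomputable def liftHomotopyZeroSucc (f : P ⟶ Q) (n : ℕ) (g : P.X n ⟶ Q.X (n + 1))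
    (g' : P.X (n + 1) ⟶ Q.X (n + 2))
    (w : f.f (n + 1) = P.d (n + 1) n ≫ g + g' ≫ Q.d (n + 2) (n + 1)) :
    P.X (n + 2) ⟶ Q.X (n + 3) :=
  (exact_succ Q πQ (n + 1)).liftFromProjective (f.f (n + 2) - P.d _ _ ≫ g') (by simp [w])

@[reassoc (attr := simp)]
lemma liftHomotopyZeroSucc_comp (f : P ⟶ Q) (n : ℕ) (g : P.X n ⟶ Q.X (n + 1))
    (g' : P.X (n + 1) ⟶ Q.X (n + 2))
    (w : f.f (n + 1) = P.d (n + 1) n ≫ g + g' ≫ Q.d (n + 2) (n + 1)) :
    liftHomotopyZeroSucc P Q πQ f n g g' w ≫ Q.d (n + 3) (n + 2) =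
      f.f (n + 2) - P.d _ _ ≫ g' :=
  (exact_succ Q πQ (n + 1)).liftFromProjective_comp _ _

/-- Any chain map killed by the augmentation is homotopic to zero. -/
noncomputable def liftHomotopyZero (f : P ⟶ Q) (comm : f ≫ πQ = 0) : Homotopy f 0 :=
  Homotopy.mkInductive _ (liftHomotopyZeroZero P Q πQ f comm) (by simp)
    (liftHomotopyZeroOne P Q πQ f comm) (by simp) fun n ⟨g, g', w⟩ =>
    ⟨liftHomotopyZeroSucc P Q πQ f n g g' w, by simp⟩

/-- Two chain maps with the same composite to the augmentation are homotopic. -/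
noncomputable def liftHomotopy (g h : P ⟶ Q) (comm : g ≫ πQ = h ≫ πQ) : Homotopy g h :=
  Homotopy.equivSubZero.invFun (liftHomotopyZero P Q πQ _ (by simp [comm]))

end homotopy

end Groth.Agent.Lib.Helper29CompareProj
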