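import Groth.Agent.Lib.Helper29LCAcyclic
import Groth.Agent.Lib.Helper8LC2

/-! Comparison of two `Γ_I`-acyclic resolutions through a chain map over the identity: the induced
map on the cohomology of `Γ_I` is bijective (mapping cone argument, helper29). -/

set_option autoImplicit false
open CategoryTheory

noncomputable section

namespace Groth.Agent.Lib.Helper29Cone

open Groth.Agent.Lib.Helper8.LC Groth.Agent.Lib.Helper29LCAcyclic

universe u

variable {R : Type u} [CommRing R] (I : Ideal R)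

section Prod

variable (A B : Type u) [AddCommGroup A] [Module R A] [AddCommGroup B] [Module R B]

/-- Higher local cohomology of a product vanishes if it does for the factors. -/
theorem LC_prod_eq_zero (j : ℕ) (hA : ∀ x : LC I j A, x = 0) (hB : ∀ x : LC I j B, x = 0)
    (x : LC I j (A × B)) : x = 0 := by
  have hex : Function.Exact (LinearMap.inl R A B) (LinearMap.snd R A B) := by
    intro p
    constructor
    · intro hp
      exact ⟨p.1, Prod.ext rfl hp.symm⟩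
    · rintro ⟨a, rfl⟩
      rfl
  have hS := Groth.Agent.Lib.Helper8.LC.Sfg_shortExact (LinearMap.inl R A B) (LinearMap.snd R A B)
    LinearMap.inl_injective LinearMap.snd_surjective hex
  obtain ⟨w, hw⟩ := H_exact₂ I j (Sfg (LinearMap.inl R A B) (LinearMap.snd R A B) hex) hS x
    (hB _)
  rw [← hw, hA w, map_zero]

end Prod

variable {M : Type u} [AddCommGroup M] [Module R M]
variable (X : ℕ → Type u) [∀ n, AddCommGroup (X n)] [∀ n, Module R (X n)]
variable (d : ∀ n, X n →ₗ[R] X (n + 1)) (ε : M →ₗ[R] X 0)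
variable (hs : ∀ n, LinearMap.ker (d (n + 1)) = LinearMap.range (d n))
variable (hε : Function.Injective ε) (h0 : LinearMap.ker (d 0) = LinearMap.range ε)
variable (hacyc : ∀ (n j : ℕ) (x : LC I (j + 1) (X n)), x = 0)
variable (X' : ℕ → Type u) [∀ n, AddCommGroup (X' n)] [∀ n, Module R (X' n)]
variable (d' : ∀ n, X' n →ₗ[R] X' (n + 1)) (ε' : M →ₗ[R] X' 0)
variable (hs' : ∀ n, LinearMap.ker (d' (n + 1)) = LinearMap.range (d' n))
variable (hε' : Function.Injective ε') (h0' : LinearMap.ker (d' 0) = LinearMap.range ε')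
variable (hacyc' : ∀ (n j : ℕ) (x : LC I (j + 1) (X' n)), x = 0)
variable (θ : ∀ n, X n →ₗ[R] X' n) (hθ0 : ∀ m : M, θ 0 (ε m) = ε' m)
variable (hθ : ∀ (n : ℕ) (x : X n), θ (n + 1) (d n x) = d' n (θ n x))

/-- The terms of the cone. -/
abbrev C (n : ℕ) : Type u := X (n + 1) × X' n

/-- The differential of the cone. -/
def dC (n : ℕ) : C X X' n →ₗ[R] C X X' (n + 1) :=
  LinearMap.prod (-(d (n + 1)) ∘ₗ LinearMap.fst R _ _)
    (θ (n + 1) ∘ₗ LinearMap.fst R _ _ + d' n ∘ₗ LinearMap.snd R _ _)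

theorem dC_apply (n : ℕ) (x : X (n + 1)) (y : X' n) :
    dC X d X' d' θ n (x, y) = (-(d (n + 1) x), θ (n + 1) x + d' n y) := rfl

/-- The augmentation of the cone. -/
def εC : X 0 →ₗ[R] C X X' 0 := LinearMap.prod (-(d 0)) (θ 0)

theorem εC_apply (x : X 0) : εC X d X' θ x = (-(d 0 x), θ 0 x) := rfl

include hs in
theorem d_d (n : ℕ) (x : X n) : d (n + 1) (d n x) = 0 := by
  have : d n x ∈ LinearMap.ker (d (n + 1)) := by rw [hs n]; exact LinearMap.mem_range_self _ x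
  exact this

include h0 in
theorem d_ε (m : M) : d 0 (ε m) = 0 := by
  have : ε m ∈ LinearMap.ker (d 0) := by rw [h0]; exact LinearMap.mem_range_self _ m
  exact this

include h0 hε' hθ0 in
theorem εC_injective : Function.Injective (εC X d X' θ) := by
  rw [injective_iff_map_eq_zero]
  intro x hx
  rw [εC_apply, Prod.mk_eq_zero, neg_eq_zero] at hx
  have hx1 : x ∈ LinearMap.range ε := by rw [← h0]; exact hx.1
  obtain ⟨m, rfl⟩ := hx1
  have hm : ε' m = 0 := by rw [← hθ0 m]; exact hx.2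
  have : m = 0 := hε' (by rw [hm, map_zero])
  rw [this, map_zero]

include hs h0 hs' h0' hθ0 hθ in
theorem exactC_zero :
    LinearMap.ker (dC X d X' d' θ 0) = LinearMap.range (εC X d X' θ) := by
  apply le_antisymm
  · rintro ⟨x, y⟩ hxy
    rw [LinearMap.mem_ker, dC_apply, Prod.mk_eq_zero, neg_eq_zero] at hxy
    have hx : x ∈ LinearMap.range (d 0) := by rw [← hs 0]; exact hxy.1
    obtain ⟨x0, rfl⟩ := hx
    have h1 : d' 0 (θ 0 x0 + y) = 0 := by
      rw [map_add, ← hθ 0 x0]; exact hxy.2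
    have h2 : θ 0 x0 + y ∈ LinearMap.range ε' := by rw [← h0']; exact h1
    obtain ⟨m, hm⟩ := h2
    refine ⟨ε m - x0, ?_⟩
    rw [εC_apply, map_sub, map_sub, d_ε X d ε h0 m, hθ0 m, hm]
    ext <;> simp
  · rintro _ ⟨x, rfl⟩
    rw [LinearMap.mem_ker, εC_apply, dC_apply, map_neg, d_d X d hs 0 x, neg_zero, map_neg,
      hθ 0 x, neg_add_cancel]
    simp

include hs hs' hθ in
theorem exactC_succ (n : ℕ) :
    LinearMap.ker (dC X d X' d' θ (n + 1)) = LinearMap.range (dC X d X' d' θ n) := by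
  apply le_antisymm
  · rintro ⟨x, y⟩ hxy
    rw [LinearMap.mem_ker, dC_apply, Prod.mk_eq_zero, neg_eq_zero] at hxy
    have hx : x ∈ LinearMap.range (d (n + 1)) := by rw [← hs (n + 1)]; exact hxy.1
    obtain ⟨x0, rfl⟩ := hx
    have h1 : d' (n + 1) (θ (n + 1) x0 + y) = 0 := by
      rw [map_add, ← hθ (n + 1) x0]; exact hxy.2
    have h2 : θ (n + 1) x0 + y ∈ LinearMap.range (d' n) := by rw [← hs' n]; exact h1
    obtain ⟨y0, hy0⟩ := h2
    refine ⟨(-x0, y0), ?_⟩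
    rw [dC_apply, map_neg, neg_neg, map_neg, hy0]
    ext <;> simp
  · rintro _ ⟨⟨x, y⟩, rfl⟩
    rw [LinearMap.mem_ker, dC_apply, dC_apply, map_neg, d_d X d hs (n + 1) x, neg_zero, map_neg,
      map_add, hθ (n + 1) x, d_d X' d' hs' n y, add_zero, neg_add_cancel]
    simp

include hacyc hacyc' in
theorem hacycC (n j : ℕ) (x : LC I (j + 1) (C X X' n)) : x = 0 :=
  LC_prod_eq_zero I (X (n + 1)) (X' n) (j + 1) (hacyc (n + 1) j) (hacyc' n j) x

theorem mem_gam_prod {A B : Type u} [AddCommGroup A] [Module R A] [AddCommGroup B] [Module R B]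
    (p : A × B) : p ∈ GrLC.gam I (A × B) ↔ p.1 ∈ GrLC.gam I A ∧ p.2 ∈ GrLC.gam I B := by
  constructor
  · rintro ⟨n, hn⟩
    exact ⟨⟨n, fun r hr => congrArg Prod.fst (hn r hr)⟩, ⟨n, fun r hr => congrArg Prod.snd (hn r hr)⟩⟩
  · rintro ⟨⟨n, hn⟩, ⟨k, hk⟩⟩
    refine ⟨n + k, fun r hr => ?_⟩
    ext
    · exact hn r (Ideal.pow_le_pow_right (Nat.le_add_right n k) hr)
    · exact hk r (Ideal.pow_le_pow_right (Nat.le_add_left k n) hr)

include hs h0 hacyc hs' hε' h0' hacyc' hθ0 hθ in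
/-- Every torsion cocycle of the cone in degree `n+1` is the image of a torsion element. -/
theorem coneΓ_exact_succ (n : ℕ) (z : C X X' (n + 1)) (hz : z ∈ GrLC.gam I (C X X' (n + 1)))
    (hdz : dC X d X' d' θ (n + 1) z = 0) :
    ∃ w : C X X' n, w ∈ GrLC.gam I (C X X' n) ∧ dC X d X' d' θ n w = z := by
  obtain ⟨e⟩ := nonempty_succ I (C X X') (dC X d X' d' θ) (εC X d X' θ)
    (exactC_succ X d hs X' d' hs' θ hθ) (hacycC I X hacyc X' hacyc')
    (εC_injective X d ε h0 X' ε' hε' θ hθ0)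
    (exactC_zero X d ε hs h0 X' d' ε' hs' h0' θ hθ0 hθ) n
  have hsub : Subsingleton (LC I (n + 1) (X 0)) := ⟨fun a b => by rw [hacyc 0 n a, hacyc 0 n b]⟩
  have hq := e.toEquiv.subsingleton
  have hzc : z ∈ Groth.Agent.Lib.Helper29LCAcyclic.cocyc I (C X X') (dC X d X' d' θ) (n + 1) :=
    ⟨hz, hdz⟩
  have h1 : (Submodule.Quotient.mk ⟨z, hzc⟩ :
      _ ⧸ ((GrLC.gam I (C X X' n)).map (dC X d X' d' θ n)).comap
        (Groth.Agent.Lib.Helper29LCAcyclic.cocyc I (C X X') (dC X d X' d' θ) (n + 1)).subtype) = 0 :=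
    Subsingleton.elim _ _
  rw [Submodule.Quotient.mk_eq_zero] at h1
  obtain ⟨w, hw, hwz⟩ := h1
  exact ⟨w, hw, hwz⟩

include h0 hε' hs h0' hs' hθ0 hθ in
/-- Every torsion cocycle of the cone in degree `0` comes from a torsion element of `X 0`. -/
theorem coneΓ_exact_zero (z : C X X' 0) (hz : z ∈ GrLC.gam I (C X X' 0))
    (hdz : dC X d X' d' θ 0 z = 0) :
    ∃ w : X 0, w ∈ GrLC.gam I (X 0) ∧ εC X d X' θ w = z := by
  have hzr : z ∈ LinearMap.range (εC X d X' θ) := by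
    rw [← exactC_zero X d ε hs h0 X' d' ε' hs' h0' θ hθ0 hθ]; exact hdz
  obtain ⟨w, rfl⟩ := hzr
  refine ⟨w, ?_, rfl⟩
  obtain ⟨n, hn⟩ := hz
  refine ⟨n, fun r hr => ?_⟩
  apply εC_injective X d ε h0 X' ε' hε' θ hθ0
  rw [map_smul, hn r hr, map_zero]

/-- The coboundaries of `Γ_I(X_•)`. -/
def cobdy : (i : ℕ) → Submodule R (X i)
  | 0 => ⊥
  | n + 1 => (GrLC.gam I (X n)).map (d n)

include hs h0 hacyc hs' hε' h0' hacyc' hθ0 hθ in
/-- Surjectivity of the comparison map on the cohomology of `Γ_I`. -/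
theorem comparison_surj (i : ℕ) (y : X' i) (hy : y ∈ GrLC.gam I (X' i)) (hdy : d' i y = 0) :
    ∃ x : X i, x ∈ GrLC.gam I (X i) ∧ d i x = 0 ∧ y - θ i x ∈ cobdy I X' d' i := by
  cases i with
  | zero =>
    have hz : ((0 : X 1), y) ∈ GrLC.gam I (C X X' 0) :=
      (mem_gam_prod I _).mpr ⟨zero_mem _, hy⟩
    have hdz : dC X d X' d' θ 0 ((0 : X 1), y) = 0 := by
      rw [dC_apply]
      ext
      · simp
      · simp [hdy]
    obtain ⟨w, hw, hwz⟩ := coneΓ_exact_zero I X d ε hs h0 X' d' ε' hs' hε' h0' θ hθ0 hθ _ hz hdz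
    rw [εC_apply, Prod.mk.injEq, neg_eq_zero] at hwz
    refine ⟨w, hw, hwz.1, ?_⟩
    rw [hwz.2, sub_self]
    exact zero_mem _
  | succ n =>
    have hz : ((0 : X (n + 2)), y) ∈ GrLC.gam I (C X X' (n + 1)) :=
      (mem_gam_prod I _).mpr ⟨zero_mem _, hy⟩
    have hdz : dC X d X' d' θ (n + 1) ((0 : X (n + 2)), y) = 0 := by
      rw [dC_apply]
      ext
      · simp
      · simp [hdy]
    obtain ⟨⟨x', y'⟩, hw, hwz⟩ := coneΓ_exact_succ I X d ε hs h0 hacyc X' d' ε' hs' hε' h0' hacyc'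
      θ hθ0 hθ n _ hz hdz
    rw [dC_apply, Prod.mk.injEq, neg_eq_zero] at hwz
    have hw' := (mem_gam_prod I _).mp hw
    refine ⟨x', hw'.1, hwz.1, ?_⟩
    rw [← hwz.2, add_sub_cancel_left]
    exact ⟨y', hw'.2, rfl⟩

include hs h0 hacyc hs' hε' h0' hacyc' hθ0 hθ in
/-- Injectivity of the comparison map on the cohomology of `Γ_I`. -/
theorem comparison_inj (i : ℕ) (x : X i) (hx : x ∈ GrLC.gam I (X i)) (hdx : d i x = 0)
    (hθx : θ i x ∈ cobdy I X' d' i) : x ∈ cobdy I X d i := by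
  match i, x, hx, hdx, hθx with
  | 0, x, hx, hdx, hθx =>
    have hθ0x : θ 0 x = 0 := (Submodule.mem_bot R).mp hθx
    have : εC X d X' θ x = 0 := by
      rw [εC_apply, hdx, hθ0x, neg_zero]; rfl
    have hx0 : x = 0 := εC_injective X d ε h0 X' ε' hε' θ hθ0 (by rw [this, map_zero])
    rw [hx0]
    exact zero_mem _
  | 1, x, hx, hdx, hθx =>
    obtain ⟨y', hy', hy'x⟩ := hθx
    have hz : (x, -y') ∈ GrLC.gam I (C X X' 0) :=
      (mem_gam_prod I _).mpr ⟨hx, neg_mem hy'⟩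
    have hdz : dC X d X' d' θ 0 (x, -y') = 0 := by
      rw [dC_apply]
      ext
      · simp [hdx]
      · simp [hy'x]
    obtain ⟨w, hw, hwz⟩ := coneΓ_exact_zero I X d ε hs h0 X' d' ε' hs' hε' h0' θ hθ0 hθ _ hz hdz
    rw [εC_apply, Prod.mk.injEq] at hwz
    refine ⟨-w, neg_mem hw, ?_⟩
    rw [map_neg]; exact hwz.1
  | n + 2, x, hx, hdx, hθx =>
    obtain ⟨y', hy', hy'x⟩ := hθx
    have hz : (x, -y') ∈ GrLC.gam I (C X X' (n + 1)) :=
      (mem_gam_prod I _).mpr ⟨hx, neg_mem hy'⟩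
    have hdz : dC X d X' d' θ (n + 1) (x, -y') = 0 := by
      rw [dC_apply]
      ext
      · simp [hdx]
      · simp [hy'x]
    obtain ⟨⟨x'', y''⟩, hw, hwz⟩ := coneΓ_exact_succ I X d ε hs h0 hacyc X' d' ε' hs' hε' h0' hacyc'
      θ hθ0 hθ n _ hz hdz
    rw [dC_apply, Prod.mk.injEq] at hwz
    have hw' := (mem_gam_prod I _).mp hw
    refine ⟨-x'', neg_mem hw'.1, ?_⟩
    rw [map_neg]; exact hwz.1

end Groth.Agent.Lib.Helper29Cone
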