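import Mathlib.Topology.Connected.TotallyDisconnected
import Mathlib.Topology.Connected.Clopen
import Mathlib.Topology.LocallyConstant.Basic

/-! helper29: a criterion for an open dense subset to have the same connected components. -/

namespace Groth.Agent.Lib.Helper29.ConnComp

open TopologicalSpace

variable {X : Type*} [TopologicalSpace X]

/-- If `U` is a dense subset such that every point of `X` has an open neighbourhood `W` with
`W ∩ U` preconnected, then `π₀(U) → π₀(X)` is bijective. -/
theorem connectedComponentsMap_bijective (U : Set X) (hd : Dense U)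
    (hloc : ∀ x : X, ∃ W : Set X, IsOpen W ∧ x ∈ W ∧ IsPreconnected (W ∩ U)) :
    Function.Bijective (Continuous.connectedComponentsMap
      (continuous_subtype_val : Continuous (fun x : U => (x : X)))) := by
  classical
  choose W hWo hxW hWU using hloc
  have hne : ∀ V : Set X, IsOpen V → V.Nonempty → (V ∩ U).Nonempty := fun V hV hVn =>
    hd.inter_open_nonempty V hV hVn |>.mono (by intro z hz; exact ⟨hz.1, hz.2⟩)
  have hWpre : ∀ x, IsPreconnected (W x) := fun x =>
    (hWU x).subset_closure Set.inter_subset_left (hd.open_subset_closure_inter (hWo x))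
  constructor
  · -- injectivity
    have hy : ∀ x, ∃ y : X, y ∈ W x ∩ U := fun x => hne (W x) (hWo x) ⟨x, hxW x⟩
    choose y hy using hy
    let g : X → ConnectedComponents U := fun x => (⟨y x, (hy x).2⟩ : U)
    -- key property
    have hkey : ∀ x (u : X) (hu : u ∈ W x ∩ U), g x = ((⟨u, hu.2⟩ : U) : ConnectedComponents U) := by
      intro x u hu
      have hpre : IsPreconnected ((Subtype.val : U → X) ⁻¹' (W x ∩ U)) := by
        rw [← Topology.IsInducing.subtypeVal.isPreconnected_image]
        rw [Subtype.image_preimage_coe]
        have : U ∩ (W x ∩ U) = W x ∩ U := by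
          ext z; constructor
          · rintro ⟨_, h⟩; exact h
          · intro h; exact ⟨h.2, h⟩
        rw [this]; exact hWU x
      change ((⟨y x, (hy x).2⟩ : U) : ConnectedComponents U) = _
      rw [ConnectedComponents.coe_eq_coe']
      exact hpre.subset_connectedComponent (x := (⟨u, hu.2⟩ : U)) hu (hy x)
    have hlc : IsLocallyConstant g := by
      rw [IsLocallyConstant.iff_exists_open]
      intro x
      refine ⟨W x, hWo x, hxW x, ?_⟩
      intro x' hx'
      obtain ⟨u, hu⟩ := hne (W x ∩ W x') ((hWo x).inter (hWo x')) ⟨x', hx', hxW x'⟩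
      rw [hkey x u ⟨hu.1.1, hu.2⟩, hkey x' u ⟨hu.1.2, hu.2⟩]
    have hgU : ∀ u : U, g u = (u : ConnectedComponents U) := fun u =>
      hkey u u ⟨hxW u, u.2⟩
    intro a b hab
    obtain ⟨a, rfl⟩ := ConnectedComponents.surjective_coe a
    obtain ⟨b, rfl⟩ := ConnectedComponents.surjective_coe b
    change ((a : X) : ConnectedComponents X) = ((b : X) : ConnectedComponents X) at hab
    rw [ConnectedComponents.coe_eq_coe'] at hab
    rw [← hgU a, ← hgU b]
    exact hlc.apply_eq_of_isPreconnected isPreconnected_connectedComponent hab mem_connectedComponent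
  · -- surjectivity
    intro c
    obtain ⟨x, rfl⟩ := ConnectedComponents.surjective_coe c
    obtain ⟨u, hu⟩ := hne (W x) (hWo x) ⟨x, hxW x⟩
    refine ⟨((⟨u, hu.2⟩ : U) : ConnectedComponents U), ?_⟩
    change ((u : X) : ConnectedComponents X) = (x : ConnectedComponents X)
    rw [ConnectedComponents.coe_eq_coe']
    exact (hWpre x).subset_connectedComponent (hxW x) hu.1

end Groth.Agent.Lib.Helper29.ConnComp
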