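import Mathlib
import Groth.Prelude.Def_CAlg
import Groth.Agent.Lib.Helper28SkLift
import Groth.Agent.Lib.Helper28Normal
import Groth.Agent.Lib.Helper28DepthMore
import Groth.Agent.Lib.Helper5GenDepth

set_option autoImplicit false
set_option linter.style.haveILetI false
universe u

namespace Groth.Agent.Lib.Helper29LocQuotNum

open Groth.Agent.Lib.Helper28 IsLocalRing LocCoh Groth.Agent.Lib.Helper5.GenDepth

section Basic

variable {R : Type u} [CommRing R]

theorem dm_self (p : Ideal R) [p.IsPrime] :
    dm p R = ((p.height : ℕ∞) : WithBot ℕ∞) := by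
  unfold dm
  rw [Module.supportDim_eq_of_equiv (localizedModuleSelfEquiv p), supportDim_localization_self]

theorem dep_self (p : Ideal R) [p.IsPrime] :
    dep p R = LocCoh.depth (Localization.AtPrime p) (Localization.AtPrime p) :=
  depth_localizedModule_self p

theorem height_eq_ringKrullDim (p : Ideal R) [p.IsPrime] :
    ((p.height : ℕ∞) : WithBot ℕ∞) = ringKrullDim (Localization.AtPrime p) :=
  (IsLocalization.AtPrime.ringKrullDim_eq_height p (Localization.AtPrime p)).symm

/-- `R_p` is Cohen–Macaulay iff `ht p = depth R_p`. -/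
theorem cm_iff [IsNoetherianRing R] (p : Ideal R) [p.IsPrime] :
    IsCohenMacaulayLocalRing (Localization.AtPrime p) ↔ p.height = dep p R := by
  haveI : IsNoetherianRing (Localization.AtPrime p) :=
    IsLocalization.isNoetherianRing p.primeCompl _ inferInstance
  constructor
  · intro h
    have h1 := h.supportDim_eq_depth
    rw [supportDim_localization_self, ← dep_self] at h1
    exact WithBot.coe_injective h1
  · intro h
    refine { supportDim_eq_depth := ?_ }
    rw [supportDim_localization_self, ← dep_self, h]

/-- Serre's condition `(S_k)` for a ring in terms of heights and depths. -/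
theorem hasSk_iff (k : ℕ) :
    HasSk k R R ↔ ∀ (p : Ideal R) [p.IsPrime], min (k : ℕ∞) p.height ≤ dep p R := by
  unfold HasSk
  refine forall_congr' fun p => forall_congr' fun hp => ?_
  have h1 : Module.supportDim (Localization.AtPrime p) (LocalizedModule p.primeCompl R) =
      ((p.height : ℕ∞) : WithBot ℕ∞) := dm_self p
  rw [h1]
  have h2 : ((k : ℕ) : WithBot ℕ∞) = (((k : ℕ) : ℕ∞) : WithBot ℕ∞) := rfl
  rw [h2, ← WithBot.coe_min, WithBot.coe_le_coe]
  rfl

end Basic

section Quot

variable {B : Type u} [CommRing B] [IsNoetherianRing B]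

/-- heights and depths drop by one modulo a non-zero-divisor -/
theorem height_dep_quotient_span_singleton (x : B) (hx : x ∈ nonZeroDivisors B)
    (Qb : Ideal (B ⧸ Ideal.span {x})) [Qb.IsPrime] :
    (Qb.comap (Ideal.Quotient.mk (Ideal.span {x}))).height = Qb.height + 1 ∧
      dep (Qb.comap (Ideal.Quotient.mk (Ideal.span {x}))) B = dep Qb (B ⧸ Ideal.span {x}) + 1 := by
  have hxQ : x ∈ Qb.comap (Ideal.Quotient.mk (Ideal.span {x})) := by
    have h0 : Ideal.Quotient.mk (Ideal.span {x}) x = 0 :=
      Ideal.Quotient.eq_zero_iff_mem.mpr (Ideal.subset_span rfl)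
    rw [Ideal.mem_comap, h0]
    exact Qb.zero_mem
  haveI hN1 : IsNoetherianRing (Localization.AtPrime Qb) :=
    IsLocalization.isNoetherianRing Qb.primeCompl _ inferInstance
  haveI hN2 : IsNoetherianRing (Localization.AtPrime
      (Qb.comap (Ideal.Quotient.mk (Ideal.span {x})))) :=
    IsLocalization.isNoetherianRing (Qb.comap (Ideal.Quotient.mk (Ideal.span {x}))).primeCompl _
      inferInstance
  have e1 := localizationQuotientEquiv (Ideal.span {x}) Qb
  have hmap : (Ideal.span {x}).map (algebraMap B (Localization.AtPrime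
      (Qb.comap (Ideal.Quotient.mk (Ideal.span {x}))))) =
      Ideal.span {algebraMap B (Localization.AtPrime
        (Qb.comap (Ideal.Quotient.mk (Ideal.span {x})))) x} := by
    rw [Ideal.map_span, Set.image_singleton]
  have e2 := Ideal.quotEquivOfEq hmap
  haveI hloc : IsLocalRing (Localization.AtPrime
      (Qb.comap (Ideal.Quotient.mk (Ideal.span {x}))) ⧸
      Ideal.span {algebraMap B (Localization.AtPrime
        (Qb.comap (Ideal.Quotient.mk (Ideal.span {x})))) x}) := (e1.trans e2).isLocalRing
  have hxm : algebraMap B (Localization.AtPrime (Qb.comap (Ideal.Quotient.mk (Ideal.span {x})))) x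
      ∈ IsLocalRing.maximalIdeal _ := by
    rw [← Localization.AtPrime.map_eq_maximalIdeal]
    exact Ideal.mem_map_of_mem _ hxQ
  have hreg0 : IsSMulRegular B x := Module.Flat.isSMulRegular_of_nonZeroDivisors hx
  have hxreg : IsSMulRegular (Localization.AtPrime
      (Qb.comap (Ideal.Quotient.mk (Ideal.span {x}))))
      (algebraMap B (Localization.AtPrime
        (Qb.comap (Ideal.Quotient.mk (Ideal.span {x})))) x) := hreg0.of_flat
  have h1 := depth_quotient_span_singleton_add_one _ hxm hxreg
  have h2 := ringKrullDim_quotient_span_singleton_succ_eq_ringKrullDim hxreg hxm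
  have h3 := depth_self_eq_of_ringEquiv (e1.trans e2)
  have h4 := ringKrullDim_eq_of_ringEquiv (e1.trans e2)
  constructor
  · have : ((((Qb.comap (Ideal.Quotient.mk (Ideal.span {x}))).height : ℕ∞)) : WithBot ℕ∞) =
        ((Qb.height + 1 : ℕ∞) : WithBot ℕ∞) := by
      rw [height_eq_ringKrullDim, ← h2, ← h4, ← height_eq_ringKrullDim]
      rfl
    exact WithBot.coe_injective this
  · rw [dep_self, dep_self, h3, h1]

theorem height_congr_ideal {R : Type u} [CommRing R] {q1 q2 : Ideal R} (h : q1 = q2) :
    q1.height = q2.height := by rw [h]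

theorem dep_congr_ideal {R : Type u} [CommRing R] {q1 q2 : Ideal R} [q1.IsPrime] [q2.IsPrime]
    (h : q1 = q2) (X : Type u) [AddCommGroup X] [Module R X] : dep q1 X = dep q2 X := by
  subst h
  rfl

/-- primes of `B` containing the non-zero-divisor `x` -/
theorem case_mem (x : B) (hx : x ∈ nonZeroDivisors B) (P : Ideal B) [P.IsPrime] (hu : x ∈ P) :
    ∃ (Qb : Ideal (B ⧸ Ideal.span {x})) (_ : Qb.IsPrime),
      Qb = P.map (Ideal.Quotient.mk (Ideal.span {x})) ∧
      Qb.comap (Ideal.Quotient.mk (Ideal.span {x})) = P ∧
      P.height = Qb.height + 1 ∧ dep P B = dep Qb (B ⧸ Ideal.span {x}) + 1 := by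
  have hle : Ideal.span {x} ≤ P := (Ideal.span_singleton_le_iff_mem _).mpr hu
  have hQb : (P.map (Ideal.Quotient.mk (Ideal.span {x}))).IsPrime :=
    Ideal.map_isPrime_of_surjective Ideal.Quotient.mk_surjective (by rwa [Ideal.mk_ker])
  have hcm : (P.map (Ideal.Quotient.mk (Ideal.span {x}))).comap
      (Ideal.Quotient.mk (Ideal.span {x})) = P := by
    rw [Ideal.comap_map_of_surjective _ Ideal.Quotient.mk_surjective, ← RingHom.ker_eq_comap_bot,
      Ideal.mk_ker]
    exact sup_eq_left.mpr hle
  refine ⟨_, hQb, rfl, hcm, ?_, ?_⟩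
  · rw [← (height_dep_quotient_span_singleton x hx _).1]
    exact height_congr_ideal hcm.symm
  · rw [← (height_dep_quotient_span_singleton x hx _).2]
    exact dep_congr_ideal hcm.symm _

end Quot

section Arith
theorem ar1 (a b : ℕ∞) (h : min 2 (a + 1) ≤ b + 1) : min 1 a ≤ b := by
  rw [min_le_iff] at h ⊢
  induction b using ENat.recTopCoe with
  | top => exact Or.inl le_top
  | coe m =>
    rcases h with h | h
    · left
      have h' : (2 : ℕ) ≤ m + 1 := by exact_mod_cast h
      exact_mod_cast (by omega : 1 ≤ m)
    · induction a using ENat.recTopCoe with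
      | top =>
        exfalso
        rw [top_add, top_le_iff] at h
        exact ENat.natCast_ne_top (m + 1) (by exact_mod_cast h)
      | coe n =>
        right
        have h' : n + 1 ≤ m + 1 := by exact_mod_cast h
        exact_mod_cast (by omega : n ≤ m)

theorem ar2 (a b : ℕ∞) (h : min 1 a ≤ b) : min 2 (a + 1) ≤ b + 1 := by
  rw [min_le_iff] at h ⊢
  induction b using ENat.recTopCoe with
  | top => left; simp
  | coe m =>
    rcases h with h | h
    · left
      have h' : (1 : ℕ) ≤ m := by exact_mod_cast h
      exact_mod_cast (by omega : 2 ≤ m + 1)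
    · induction a using ENat.recTopCoe with
      | top =>
        exfalso
        rw [top_le_iff] at h
        exact ENat.natCast_ne_top m h
      | coe n =>
        right
        have h' : n ≤ m := by exact_mod_cast h
        exact_mod_cast (by omega : n + 1 ≤ m + 1)

theorem ar3 (k : ℕ) (a b : ℕ∞) (c : ℕ) (h : min (k : ℕ∞) a ≤ b) :
    min (k : ℕ∞) (a + c) ≤ b + c := by
  rw [min_le_iff] at h ⊢
  induction b using ENat.recTopCoe with
  | top => left; simp
  | coe m =>
    rcases h with h | h
    · left
      have h' : k ≤ m := by exact_mod_cast h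
      exact_mod_cast (by omega : k ≤ m + c)
    · induction a using ENat.recTopCoe with
      | top =>
        exfalso
        rw [top_le_iff] at h
        exact ENat.natCast_ne_top m h
      | coe n =>
        right
        have h' : n ≤ m := by exact_mod_cast h
        exact_mod_cast (by omega : n + c ≤ m + c)

end Arith

end Groth.Agent.Lib.Helper29LocQuotNum
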