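import Mathlib
import Groth.Prelude.Def_CAlg
import Groth.Agent.Lib.Helper29LocQuotNum

set_option autoImplicit false
set_option linter.style.haveILetI false
universe u

namespace Groth.Agent.Lib.Helper29DepthTwo

open Groth.Agent.Lib.Helper28 IsLocalRing LocCoh Groth.Agent.Lib.Helper5.GenDepth
  Groth.Agent.Lib.Helper29LocQuotNum

theorem mem_ofList_smul_top {R : Type u} [CommRing R] (x z : R) :
    z ∈ (Ideal.ofList [x] • ⊤ : Submodule R R) ↔ ∃ y, z = x * y := by
  rw [Ideal.ofList_singleton, smul_eq_mul, Ideal.mul_top, Ideal.mem_span_singleton']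
  constructor
  · rintro ⟨a, rfl⟩
    exact ⟨a, mul_comm _ _⟩
  · rintro ⟨y, rfl⟩
    exact ⟨y, mul_comm _ _⟩

theorem enat_eq_zero_of_add_one {a D : ℕ∞} (h : a + 1 = D) (hD : ¬ (2 : ℕ∞) ≤ D) : a = 0 := by
  induction a using ENat.recTopCoe with
  | top =>
    exfalso
    apply hD
    rw [← h, top_add]
    exact le_top
  | coe n =>
    rcases Nat.eq_zero_or_pos n with rfl | hn
    · rfl
    · exfalso
      apply hD
      rw [← h]
      have : ((2 : ℕ) : ℕ∞) ≤ ((n + 1 : ℕ) : ℕ∞) := by exact_mod_cast (by omega : 2 ≤ n + 1)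
      exact_mod_cast this

variable {R R' : Type u} [CommRing R] [CommRing R'] [IsNoetherianRing R] [IsNoetherianRing R']

/-- An abstract criterion for `depth R_p ≥ 2` by comparison with an `(S_2)` overring. -/
theorem two_le_dep (φ : R →+* R') (X : R) (p : Ideal R) [p.IsPrime] (hXp : X ∈ p)
    (hregR : IsSMulRegular R X) (hregR' : IsSMulRegular R' (φ X))
    (hcontr : ∀ (z : R) (g' : R'), φ z = φ X * g' → ∃ g : R, z = X * g)
    (h : ∀ (P : Ideal R') [P.IsPrime], min ((2 : ℕ) : ℕ∞) P.height ≤ dep P R')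
    (hht : ∀ (P : Ideal R') [P.IsPrime], (∀ r ∈ p, φ r ∈ P) → 2 ≤ P.height) :
    (2 : ℕ∞) ≤ dep p R := by
  have hsuppR : (⟨p, inferInstance⟩ : PrimeSpectrum R) ∈ Module.support R R :=
    Module.mem_support_iff.mpr ((localizedModuleSelfEquiv p).toEquiv.nontrivial)
  have hreg1 := IsSMulRegular.of_isLocalizedModule (Localization.AtPrime p) p.primeCompl
    (LocalizedModule.mkLinearMap p.primeCompl R) hregR
  obtain ⟨d1, -⟩ := dep_dm_quot_of_regular p R hsuppR _ hXp hreg1
  by_contra hlt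
  have hzero := enat_eq_zero_of_add_one d1 hlt
  obtain ⟨ι, hι⟩ := exists_injective_of_dep_eq_zero p _ hzero
  obtain ⟨z₀, hz₀⟩ := Submodule.Quotient.mk_surjective _ (ι 1)
  have hz₀not : z₀ ∉ (Ideal.ofList [X] • ⊤ : Submodule R R) := by
    intro hmem
    have h1 : ι 1 = 0 := by
      rw [← hz₀]
      exact (Submodule.Quotient.mk_eq_zero _).mpr hmem
    have h2 : (1 : R ⧸ p) = 0 := hι (by rw [h1, map_zero])
    have h3 : Ideal.Quotient.mk p 1 = 0 := h2
    exact (inferInstance : p.IsPrime).ne_top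
      ((Ideal.eq_top_iff_one _).mpr (Ideal.Quotient.eq_zero_iff_mem.mp h3))
  have hpz : ∀ r ∈ p, r * z₀ ∈ (Ideal.ofList [X] • ⊤ : Submodule R R) := by
    intro r hr
    rw [← Submodule.Quotient.mk_eq_zero, ← smul_eq_mul, Submodule.Quotient.mk_smul, hz₀,
      ← map_smul]
    have h1 : r • (1 : R ⧸ p) = 0 := by
      have h2 : r • (1 : R ⧸ p) = Submodule.Quotient.mk (r • (1 : R)) :=
        (Submodule.Quotient.mk_smul p r 1).symm
      rw [h2, Submodule.Quotient.mk_eq_zero, smul_eq_mul, mul_one]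
      exact hr
    rw [h1, map_zero]
  have hw₀not : φ z₀ ∉ (Ideal.ofList [φ X] • ⊤ : Submodule R' R') := by
    intro hmem
    obtain ⟨g', hg'⟩ := (mem_ofList_smul_top _ _).mp hmem
    obtain ⟨g, hg⟩ := hcontr z₀ g' hg'
    exact hz₀not ((mem_ofList_smul_top _ _).mpr ⟨g, hg⟩)
  have hw : (Submodule.Quotient.mk (φ z₀) :
      R' ⧸ (Ideal.ofList [φ X] • ⊤ : Submodule R' R')) ≠ 0 :=
    fun h0 => hw₀not ((Submodule.Quotient.mk_eq_zero _).mp h0)
  obtain ⟨P, hPass, hPle⟩ := exists_le_isAssociatedPrime_of_isNoetherianRing R' _ hw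
  haveI hPprime : P.IsPrime := hPass.isPrime
  have hφp : ∀ r ∈ p, φ r ∈ P := by
    intro r hr
    apply hPle
    rw [Submodule.mem_colon_singleton, Submodule.mem_bot]
    obtain ⟨y, hy⟩ := (mem_ofList_smul_top _ _).mp (hpz r hr)
    rw [← Submodule.Quotient.mk_smul, Submodule.Quotient.mk_eq_zero, mem_ofList_smul_top]
    exact ⟨φ y, by rw [smul_eq_mul, ← map_mul, hy, map_mul]⟩
  have hX'P : φ X ∈ P := hφp _ hXp
  have hsuppR' : (⟨P, inferInstance⟩ : PrimeSpectrum R') ∈ Module.support R' R' :=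
    Module.mem_support_iff.mpr ((localizedModuleSelfEquiv P).toEquiv.nontrivial)
  have hreg2 := IsSMulRegular.of_isLocalizedModule (Localization.AtPrime P) P.primeCompl
    (LocalizedModule.mkLinearMap P.primeCompl R') hregR'
  obtain ⟨d2, -⟩ := dep_dm_quot_of_regular P R' hsuppR' _ hX'P hreg2
  haveI : IsNoetherianRing (Localization.AtPrime P) :=
    IsLocalization.isNoetherianRing P.primeCompl _ inferInstance
  have hdepM' : dep P (R' ⧸ (Ideal.ofList [φ X] • ⊤ : Submodule R' R')) = 0 :=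
    depth_eq_zero_iff.mpr
      (Module.associatedPrimes.mem_associatedPrimes_atPrime_of_mem_associatedPrimes hPass)
  rw [hdepM', zero_add] at d2
  have hS2 := h P
  rw [← d2] at hS2
  have hPht : P.height ≤ 1 := by
    rw [min_le_iff] at hS2
    rcases hS2 with h' | h'
    · exfalso
      have : ((2 : ℕ) : ℕ∞) ≤ ((1 : ℕ) : ℕ∞) := h'
      have h2 : (2 : ℕ) ≤ 1 := by exact_mod_cast this
      omega
    · exact h'
  have h6 : (2 : ℕ∞) ≤ 1 := (hht P hφp).trans hPht
  have h7 : ((2 : ℕ) : ℕ∞) ≤ ((1 : ℕ) : ℕ∞) := h6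
  have h8 : (2 : ℕ) ≤ 1 := by exact_mod_cast h7
  omega

end Groth.Agent.Lib.Helper29DepthTwo
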