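import Mathlib

/-!
# Rigidity of automorphisms of elliptic Weierstrass cubics (helper29)

* `lin_rigid`: the linearised automorphism equations have only the trivial solution when the
  discriminant is a unit (pure commutative algebra, characteristic case split).
* `eqs_of_smul_eq`: polynomial form of `C • W = W'`.
* `span_le_sq`: for `D` fixing an elliptic `W` over a local ring `R` in an `R/m`-algebra, the ideal
  generated by the entries of `D - 1` is idempotent (i.e. `Aut(E)` is unramified).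
-/

set_option autoImplicit false

namespace Groth.Agent.Lib.Helper29.EllA

variable {Q : Type*} [CommRing Q]

/-- Linear rigidity: the linearised automorphism equations of a Weierstrass cubic with unit
discriminant have only the trivial solution, provided the few relevant scalars are each zero or a
unit (as is the case for images of elements of a field or of a local ring killed on its maximal
ideal). -/
theorem lin_rigid (a₁ a₂ a₃ a₄ a₆ α β γ θ : Q)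
    (hΔ : IsUnit (-(a₁ ^ 2 + 4 * a₂) ^ 2 *
        (a₁ ^ 2 * a₆ + 4 * a₂ * a₆ - a₁ * a₃ * a₄ + a₂ * a₃ ^ 2 - a₄ ^ 2)
      - 8 * (2 * a₄ + a₁ * a₃) ^ 3 - 27 * (a₃ ^ 2 + 4 * a₆) ^ 2
      + 9 * (a₁ ^ 2 + 4 * a₂) * (2 * a₄ + a₁ * a₃) * (a₃ ^ 2 + 4 * a₆)))
    (h2 : (2 : Q) = 0 ∨ IsUnit (2 : Q)) (h3 : (3 : Q) = 0 ∨ IsUnit (3 : Q))
    (h1 : a₁ = 0 ∨ IsUnit a₁) (hb₂ : a₁ ^ 2 + 4 * a₂ = 0 ∨ IsUnit (a₁ ^ 2 + 4 * a₂))
    (ℓ₁ : 2 * γ - α * a₁ = 0)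
    (ℓ₂ : 3 * β - γ * a₁ - 2 * α * a₂ = 0)
    (ℓ₃ : 2 * θ + β * a₁ - 3 * α * a₃ = 0)
    (ℓ₄ : 2 * β * a₂ - γ * a₃ - θ * a₁ - 4 * α * a₄ = 0)
    (ℓ₆ : β * a₄ - θ * a₃ - 6 * α * a₆ = 0) :
    α = 0 ∧ β = 0 ∧ γ = 0 ∧ θ = 0 := by
  set b₂ := a₁ ^ 2 + 4 * a₂ with hb₂def
  set b₄ := 2 * a₄ + a₁ * a₃ with hb₄def
  set b₆ := a₃ ^ 2 + 4 * a₆ with hb₆def
  set b₈ := a₁ ^ 2 * a₆ + 4 * a₂ * a₆ - a₁ * a₃ * a₄ + a₂ * a₃ ^ 2 - a₄ ^ 2 with hb₈def
  have m₂ : 12 * β - 2 * α * b₂ = 0 := by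
    rw [hb₂def]; linear_combination 2 * a₁ * ℓ₁ + 4 * ℓ₂
  have m₄ : β * b₂ - 4 * α * b₄ = 0 := by
    rw [hb₂def, hb₄def]; linear_combination 2 * ℓ₄ + a₃ * ℓ₁ + a₁ * ℓ₃
  have m₆ : 2 * β * b₄ - 6 * α * b₆ = 0 := by
    rw [hb₄def, hb₆def]; linear_combination 2 * a₃ * ℓ₃ + 4 * ℓ₆
  have m₈ : 3 * β * b₆ - 8 * α * b₈ = 0 := by
    rw [hb₆def, hb₈def]
    linear_combination (2 * a₁ * a₆ - a₃ * a₄) * ℓ₁ + (4 * a₆ + a₃ ^ 2) * ℓ₂
      + (2 * a₂ * a₃ - a₁ * a₄) * ℓ₃ - (a₁ * a₃ + 2 * a₄) * ℓ₄ + (a₁ ^ 2 + 4 * a₂) * ℓ₆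
  have hrel : 4 * b₈ = b₂ * b₆ - b₄ ^ 2 := by
    rw [hb₂def, hb₄def, hb₆def, hb₈def]; ring
  have hαΔ : α * (12 * (-b₂ ^ 2 * b₈ - 8 * b₄ ^ 3 - 27 * b₆ ^ 2 + 9 * b₂ * b₄ * b₆)) = 0 := by
    linear_combination (-1 : Q) * ((-2 * b₂ * b₈ + 9 * b₄ * b₆) * m₂
      + (-24 * b₄ ^ 2 + 9 * b₂ * b₆) * m₄ + (-54 * b₆ + 9 * b₂ * b₄) * m₆ - b₂ ^ 2 * m₈)
      + (3 * β * b₂) * hrel
  have hαc₄ : α * (4 * (b₂ ^ 2 - 24 * b₄)) = 0 := by
    linear_combination (-1 : Q) * (2 * b₂ * m₂ - 24 * m₄)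
  -- `α = 0` and `β = 0` first
  have key : α = 0 ∧ β = 0 := by
    rcases h2 with h2 | h2
    · -- characteristic two
      rcases h1 with h1 | h1
      · -- `a₁ = 0`, so `a₃` is a unit
        have ha₃ : IsUnit a₃ := by
          have : a₃ * (a₃ ^ 3 * (-27)) =
              -b₂ ^ 2 * b₈ - 8 * b₄ ^ 3 - 27 * b₆ ^ 2 + 9 * b₂ * b₄ * b₆ := by
            rw [hb₂def, hb₄def, hb₆def, hb₈def, h1]
            linear_combination (-(-4 * (2 * a₄) ^ 3 - 108 * a₃ ^ 2 * a₆ - 216 * a₆ ^ 2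
              + 2 * a₂ * (-(4 * a₂) * (4 * a₂ * a₆ + a₂ * a₃ ^ 2 - a₄ ^ 2)
                + 9 * (2 * a₄) * (a₃ ^ 2 + 4 * a₆)))) * h2
          exact isUnit_of_mul_isUnit_left (this ▸ hΔ)
        have hβ : β = 0 := by
          linear_combination ℓ₂ + γ * h1 + (α * a₂ - β) * h2
        have hα : α * a₃ = 0 := by
          linear_combination (-1 : Q) * ℓ₃ + (θ - α * a₃) * h2 + a₁ * hβ
        exact ⟨ha₃.mul_left_eq_zero.mp hα, hβ⟩
      · -- `a₁` a unit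
        have hα : α = 0 := by
          have : α * a₁ = 0 := by linear_combination (-1 : Q) * ℓ₁ + γ * h2
          exact h1.mul_left_eq_zero.mp this
        have hβ : β * a₁ = 0 := by
          linear_combination ℓ₃ - θ * h2 + 3 * a₃ * hα
        exact ⟨hα, h1.mul_left_eq_zero.mp hβ⟩
    · rcases h3 with h3 | h3
      · -- characteristic three
        rcases hb₂ with hb₂ | hb₂
        · -- `b₂ = 0`, so `b₄` is a unit
          have hb₄ : IsUnit b₄ := by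
            have : b₄ * (-8 * b₄ ^ 2) =
                -b₂ ^ 2 * b₈ - 8 * b₄ ^ 3 - 27 * b₆ ^ 2 + 9 * b₂ * b₄ * b₆ := by
              linear_combination (b₂ * b₈ - 9 * b₄ * b₆) * hb₂ + (9 * b₆ ^ 2) * h3
            exact isUnit_of_mul_isUnit_left (this ▸ hΔ)
          have hα : α * (2 * 2 * b₄) = 0 := by
            linear_combination (-1 : Q) * m₄ + β * hb₂
          have hα0 : α = 0 := ((h2.mul h2).mul hb₄).mul_left_eq_zero.mp hα
          have hβ : β * (2 * b₄) = 0 := by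
            linear_combination m₆ + 6 * b₆ * hα0
          exact ⟨hα0, (h2.mul hb₄).mul_left_eq_zero.mp hβ⟩
        · -- `b₂` a unit
          have hα : α * (2 * 2 * (b₂ * b₂)) = 0 := by
            linear_combination hαc₄ + (32 * α * b₄) * h3
          have hα0 : α = 0 := ((h2.mul h2).mul (hb₂.mul hb₂)).mul_left_eq_zero.mp hα
          have hβ : β * b₂ = 0 := by
            linear_combination m₄ + 4 * b₄ * hα0
          exact ⟨hα0, hb₂.mul_left_eq_zero.mp hβ⟩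
      · -- `6` invertible
        have hα : α * (2 * 2 * 3 *
            (-b₂ ^ 2 * b₈ - 8 * b₄ ^ 3 - 27 * b₆ ^ 2 + 9 * b₂ * b₄ * b₆)) = 0 := by
          linear_combination hαΔ
        have hα0 : α = 0 := (((h2.mul h2).mul h3).mul hΔ).mul_left_eq_zero.mp hα
        have hβ : β * (2 * 2 * 3) = 0 := by
          linear_combination m₂ + 2 * b₂ * hα0
        exact ⟨hα0, ((h2.mul h2).mul h3).mul_left_eq_zero.mp hβ⟩
  obtain ⟨hα, hβ⟩ := key
  refine ⟨hα, hβ, ?_⟩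
  rcases h2 with h2 | h2
  · rcases h1 with h1 | h1
    · have ha₃ : IsUnit a₃ := by
        have : a₃ * (a₃ ^ 3 * (-27)) =
            -b₂ ^ 2 * b₈ - 8 * b₄ ^ 3 - 27 * b₆ ^ 2 + 9 * b₂ * b₄ * b₆ := by
          rw [hb₂def, hb₄def, hb₆def, hb₈def, h1]
          linear_combination (-(-4 * (2 * a₄) ^ 3 - 108 * a₃ ^ 2 * a₆ - 216 * a₆ ^ 2
            + 2 * a₂ * (-(4 * a₂) * (4 * a₂ * a₆ + a₂ * a₃ ^ 2 - a₄ ^ 2)
              + 9 * (2 * a₄) * (a₃ ^ 2 + 4 * a₆)))) * h2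
        exact isUnit_of_mul_isUnit_left (this ▸ hΔ)
      have hγ : γ * a₃ = 0 := by
        linear_combination (-1 : Q) * ℓ₄ + 2 * a₂ * hβ - θ * h1 - 4 * a₄ * hα
      have hθ : θ * a₃ = 0 := by
        linear_combination (-1 : Q) * ℓ₆ + a₄ * hβ - 6 * a₆ * hα
      exact ⟨ha₃.mul_left_eq_zero.mp hγ, ha₃.mul_left_eq_zero.mp hθ⟩
    · have hγ : γ * a₁ = 0 := by
        linear_combination (-1 : Q) * ℓ₂ + 3 * hβ - 2 * a₂ * hα
      have hγ0 : γ = 0 := h1.mul_left_eq_zero.mp hγ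
      have hθ : θ * a₁ = 0 := by
        linear_combination (-1 : Q) * ℓ₄ + 2 * a₂ * hβ - a₃ * hγ0 - 4 * a₄ * hα
      exact ⟨hγ0, h1.mul_left_eq_zero.mp hθ⟩
  · have hγ : γ * 2 = 0 := by linear_combination ℓ₁ + a₁ * hα
    have hθ : θ * 2 = 0 := by linear_combination ℓ₃ - a₁ * hβ + 3 * a₃ * hα
    exact ⟨h2.mul_left_eq_zero.mp hγ, h2.mul_left_eq_zero.mp hθ⟩


open WeierstrassCurve

/-- The polynomial identities (inverse of `u` cleared) expressing `C • W = W'`. -/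
theorem eqs_of_smul_eq {S : Type*} [CommRing S] (W W' : WeierstrassCurve S)
    (C : VariableChange S) (h : C • W = W') :
    W.a₁ + 2 * C.s = C.u * W'.a₁ ∧
    W.a₂ - C.s * W.a₁ + 3 * C.r - C.s ^ 2 = (C.u : S) ^ 2 * W'.a₂ ∧
    W.a₃ + C.r * W.a₁ + 2 * C.t = (C.u : S) ^ 3 * W'.a₃ ∧
    W.a₄ - C.s * W.a₃ + 2 * C.r * W.a₂ - (C.t + C.r * C.s) * W.a₁ + 3 * C.r ^ 2
      - 2 * C.s * C.t = (C.u : S) ^ 4 * W'.a₄ ∧
    W.a₆ + C.r * W.a₄ + C.r ^ 2 * W.a₂ + C.r ^ 3 - C.t * W.a₃ - C.t ^ 2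
      - C.r * C.t * W.a₁ = (C.u : S) ^ 6 * W'.a₆ := by
  subst h
  have key : ∀ (n : ℕ) (X : S), (C.u : S) ^ n * ((C.u⁻¹ : Sˣ) ^ n * X) = X := by
    intro n X
    rw [← mul_assoc, ← mul_pow, Units.mul_inv, one_pow, one_mul]
  refine ⟨?_, ?_, ?_, ?_, ?_⟩
  · rw [variableChange_a₁]
    have := key 1 (W.a₁ + 2 * C.s)
    simp only [pow_one] at this
    exact this.symm
  · rw [variableChange_a₂]; exact (key 2 _).symm
  · rw [variableChange_a₃]; exact (key 3 _).symm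
  · rw [variableChange_a₄]; exact (key 4 _).symm
  · rw [variableChange_a₆]; exact (key 6 _).symm

/-- Rigidity of automorphisms: if `D` fixes (the image of) an elliptic Weierstrass cubic `W` over
a local ring `R` in an `R/m`-algebra `T`, then the ideal `J` of `T` generated by the entries of
`D - 1` is idempotent. -/
theorem span_le_sq {R : Type*} [CommRing R] [IsLocalRing R] {T : Type*} [CommRing T]
    (f : R →+* T) (hf : ∀ x ∈ IsLocalRing.maximalIdeal R, f x = 0)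
    (W : WeierstrassCurve R) [W.IsElliptic] (D : VariableChange T)
    (hD : D • W.map f = W.map f) :
    Ideal.span {(D.u : T) - 1, D.r, D.s, D.t} ≤
      Ideal.span {(D.u : T) - 1, D.r, D.s, D.t} * Ideal.span {(D.u : T) - 1, D.r, D.s, D.t} := by
  set J : Ideal T := Ideal.span {(D.u : T) - 1, D.r, D.s, D.t} with hJ
  set q := Ideal.Quotient.mk (J * J) with hq
  have dich : ∀ x : R, q (f x) = 0 ∨ IsUnit (q (f x)) := by
    intro x
    by_cases hx : x ∈ IsLocalRing.maximalIdeal R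
    · left; rw [hf x hx, map_zero]
    · right
      exact ((IsLocalRing.notMem_maximalIdeal.mp hx).map f).map q
  have hαJ : (D.u : T) - 1 ∈ J := Ideal.subset_span (by simp)
  have hβJ : D.r ∈ J := Ideal.subset_span (by simp)
  have hγJ : D.s ∈ J := Ideal.subset_span (by simp)
  have hθJ : D.t ∈ J := Ideal.subset_span (by simp)
  have prod0 : ∀ {x y : T}, x ∈ J → y ∈ J → q x * q y = 0 := by
    intro x y hx hy
    rw [← map_mul]
    exact Ideal.Quotient.eq_zero_iff_mem.mpr (Ideal.mul_mem_mul hx hy)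
  obtain ⟨E₁, E₂, E₃, E₄, E₆⟩ := eqs_of_smul_eq _ _ D hD
  simp only [map_a₁, map_a₂, map_a₃, map_a₄, map_a₆] at E₁ E₂ E₃ E₄ E₆
  set α := q ((D.u : T) - 1) with hα
  set β := q D.r with hβ
  set γ := q D.s with hγ
  set θ := q D.t with hθ
  have hu : q (D.u : T) = 1 + α := by rw [hα, map_sub, map_one]; ring
  set A₁ := q (f W.a₁) with hA₁
  set A₂ := q (f W.a₂) with hA₂
  set A₃ := q (f W.a₃) with hA₃
  set A₄ := q (f W.a₄) with hA₄
  set A₆ := q (f W.a₆) with hA₆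
  have F₁ : A₁ + 2 * γ = (1 + α) * A₁ := by
    have := congr_arg q E₁
    simpa only [map_add, map_mul, map_ofNat, hu] using this
  have F₂ : A₂ - γ * A₁ + 3 * β - γ ^ 2 = (1 + α) ^ 2 * A₂ := by
    have := congr_arg q E₂
    simpa only [map_add, map_sub, map_mul, map_pow, map_ofNat, hu] using this
  have F₃ : A₃ + β * A₁ + 2 * θ = (1 + α) ^ 3 * A₃ := by
    have := congr_arg q E₃
    simpa only [map_add, map_sub, map_mul, map_pow, map_ofNat, hu] using this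
  have F₄ : A₄ - γ * A₃ + 2 * β * A₂ - (θ + β * γ) * A₁ + 3 * β ^ 2 - 2 * γ * θ
      = (1 + α) ^ 4 * A₄ := by
    have := congr_arg q E₄
    simpa only [map_add, map_sub, map_mul, map_pow, map_ofNat, hu] using this
  have F₆ : A₆ + β * A₄ + β ^ 2 * A₂ + β ^ 3 - θ * A₃ - θ ^ 2 - β * θ * A₁
      = (1 + α) ^ 6 * A₆ := by
    have := congr_arg q E₆
    simpa only [map_add, map_sub, map_mul, map_pow, map_ofNat, hu] using this
  have hαα : α * α = 0 := prod0 hαJ hαJ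
  have hββ : β * β = 0 := prod0 hβJ hβJ
  have hγγ : γ * γ = 0 := prod0 hγJ hγJ
  have hθθ : θ * θ = 0 := prod0 hθJ hθJ
  have hβγ : β * γ = 0 := prod0 hβJ hγJ
  have hβθ : β * θ = 0 := prod0 hβJ hθJ
  have hγθ : γ * θ = 0 := prod0 hγJ hθJ
  have ℓ₁ : 2 * γ - α * A₁ = 0 := by linear_combination F₁
  have ℓ₂ : 3 * β - γ * A₁ - 2 * α * A₂ = 0 := by
    linear_combination F₂ + A₂ * hαα + hγγ
  have ℓ₃ : 2 * θ + β * A₁ - 3 * α * A₃ = 0 := by
    linear_combination F₃ + (3 + α) * A₃ * hαα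
  have ℓ₄ : 2 * β * A₂ - γ * A₃ - θ * A₁ - 4 * α * A₄ = 0 := by
    linear_combination F₄ + A₁ * hβγ - 3 * hββ + 2 * hγθ + (6 + 4 * α + α ^ 2) * A₄ * hαα
  have ℓ₆ : β * A₄ - θ * A₃ - 6 * α * A₆ = 0 := by
    linear_combination F₆ - (A₂ + β) * hββ + hθθ + A₁ * hβθ
      + (15 + 20 * α + 15 * α ^ 2 + 6 * α ^ 3 + α ^ 4) * A₆ * hαα
  have hΔ : IsUnit (-(A₁ ^ 2 + 4 * A₂) ^ 2 *
        (A₁ ^ 2 * A₆ + 4 * A₂ * A₆ - A₁ * A₃ * A₄ + A₂ * A₃ ^ 2 - A₄ ^ 2)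
      - 8 * (2 * A₄ + A₁ * A₃) ^ 3 - 27 * (A₃ ^ 2 + 4 * A₆) ^ 2
      + 9 * (A₁ ^ 2 + 4 * A₂) * (2 * A₄ + A₁ * A₃) * (A₃ ^ 2 + 4 * A₆)) := by
    have h := (W.isUnit_Δ.map f).map q
    convert h using 1
    simp only [WeierstrassCurve.Δ, WeierstrassCurve.b₂, WeierstrassCurve.b₄, WeierstrassCurve.b₆,
      WeierstrassCurve.b₈, map_add, map_sub, map_mul, map_pow, map_neg, map_ofNat, hA₁, hA₂, hA₃,
      hA₄, hA₆]
  have h2 : (2 : T ⧸ (J * J)) = 0 ∨ IsUnit (2 : T ⧸ (J * J)) := by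
    simpa only [map_ofNat] using dich 2
  have h3 : (3 : T ⧸ (J * J)) = 0 ∨ IsUnit (3 : T ⧸ (J * J)) := by
    simpa only [map_ofNat] using dich 3
  have h1 : A₁ = 0 ∨ IsUnit A₁ := dich _
  have hb₂ : A₁ ^ 2 + 4 * A₂ = 0 ∨ IsUnit (A₁ ^ 2 + 4 * A₂) := by
    have := dich (W.a₁ ^ 2 + 4 * W.a₂)
    rw [map_add, map_mul, map_pow, map_ofNat, map_add, map_mul, map_pow, map_ofNat] at this
    exact this
  obtain ⟨h0α, h0β, h0γ, h0θ⟩ :=
    lin_rigid A₁ A₂ A₃ A₄ A₆ α β γ θ hΔ h2 h3 h1 hb₂ ℓ₁ ℓ₂ ℓ₃ ℓ₄ ℓ₆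
  rw [hJ, Ideal.span_le]
  intro x hx
  simp only [Set.mem_insert_iff, Set.mem_singleton_iff] at hx
  rcases hx with rfl | rfl | rfl | rfl
  · exact Ideal.Quotient.eq_zero_iff_mem.mp h0α
  · exact Ideal.Quotient.eq_zero_iff_mem.mp h0β
  · exact Ideal.Quotient.eq_zero_iff_mem.mp h0γ
  · exact Ideal.Quotient.eq_zero_iff_mem.mp h0θ

end Groth.Agent.Lib.Helper29.EllA
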