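import Mathlib
import Groth.Agent.Lib.Helper29EllA

/-!
# Integrality of the entries of a change of variables between elliptic Weierstrass cubics (helper29)

If `W, W'` are elliptic Weierstrass cubics over `R` and `C` is a change of variables over an
`R`-algebra `S` carrying `W` to `W'`, then `u, u⁻¹, r, s, t` are all integral over `R`.
-/

set_option autoImplicit false

namespace Groth.Agent.Lib.Helper29.EllB

open WeierstrassCurve Polynomial

/-- A root of a monic relation with integral coefficients is integral. -/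
theorem isIntegral_of_pow_eq_sum {R S : Type*} [CommRing R] [CommRing S] [Algebra R S] {n : ℕ}
    (x : S) (c : Fin n → S) (hc : ∀ i, IsIntegral R (c i))
    (h : x ^ n = ∑ i : Fin n, c i * x ^ (i : ℕ)) : IsIntegral R x := by
  let A := integralClosure R S
  let c' : Fin n → A := fun i => ⟨c i, hc i⟩
  let p : A[X] := X ^ n - ∑ i : Fin n, C (c' i) * X ^ (i : ℕ)
  have hp : p.Monic := monic_X_pow_sub (degree_sum_fin_lt c')
  have hx : IsIntegral A x := by
    refine ⟨p, hp, ?_⟩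
    simp only [p, eval₂_sub, eval₂_X_pow, eval₂_finsetSum, eval₂_mul, eval₂_C, h]
    simp [c', A]
  exact isIntegral_trans x hx

theorem b_eqs_of_smul_eq {S : Type*} [CommRing S] (W W' : WeierstrassCurve S)
    (C : VariableChange S) (h : C • W = W') :
    W.b₆ + 2 * C.r * W.b₄ + C.r ^ 2 * W.b₂ + 4 * C.r ^ 3 = (C.u : S) ^ 6 * W'.b₆ ∧
    W.b₈ + 3 * C.r * W.b₆ + 3 * C.r ^ 2 * W.b₄ + C.r ^ 3 * W.b₂ + 3 * C.r ^ 4
      = (C.u : S) ^ 8 * W'.b₈ ∧
    W.Δ = (C.u : S) ^ 12 * W'.Δ := by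
  subst h
  have key : ∀ (n : ℕ) (X : S), (C.u : S) ^ n * ((C.u⁻¹ : Sˣ) ^ n * X) = X := by
    intro n X
    rw [← mul_assoc, ← mul_pow, Units.mul_inv, one_pow, one_mul]
  refine ⟨?_, ?_, ?_⟩
  · rw [variableChange_b₆]; exact (key 6 _).symm
  · rw [variableChange_b₈]; exact (key 8 _).symm
  · rw [variableChange_Δ]; exact (key 12 _).symm

theorem isIntegral_entries {R S : Type*} [CommRing R] [CommRing S] [Algebra R S]
    (W W' : WeierstrassCurve R) [W.IsElliptic] [W'.IsElliptic] (C : VariableChange S)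
    (h : C • W.map (algebraMap R S) = W'.map (algebraMap R S)) :
    IsIntegral R (C.u : S) ∧ IsIntegral R ((C.u⁻¹ : Sˣ) : S) ∧ IsIntegral R C.r ∧
      IsIntegral R C.s ∧ IsIntegral R C.t := by
  set φ := algebraMap R S with hφ
  have iφ : ∀ x : R, IsIntegral R (φ x) := fun x => isIntegral_algebraMap
  have i2 : IsIntegral R (2 : S) := by have := iφ 2; rwa [map_ofNat] at this
  have i3 : IsIntegral R (3 : S) := by have := iφ 3; rwa [map_ofNat] at this
  obtain ⟨-, E₂, -, -, E₆⟩ := Groth.Agent.Lib.Helper29.EllA.eqs_of_smul_eq _ _ C h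
  obtain ⟨B₆, B₈, BΔ⟩ := b_eqs_of_smul_eq _ _ C h
  simp only [map_a₁, map_a₂, map_a₃, map_a₄, map_a₆] at E₂ E₆
  simp only [map_b₂, map_b₄, map_b₆, map_b₈, map_Δ] at B₆ B₈ BΔ
  -- `u`
  have hu : IsIntegral R (C.u : S) := by
    have h12 : (C.u : S) ^ 12 = φ (W.Δ * ((W'.Δ'⁻¹ : Rˣ) : R)) := by
      rw [map_mul, BΔ, mul_assoc, ← map_mul, ← W'.coe_Δ', Units.mul_inv, map_one, mul_one]
    exact IsIntegral.of_pow (n := 12) (by norm_num) (h12 ▸ iφ _)
  have hv : IsIntegral R ((C.u⁻¹ : Sˣ) : S) := by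
    have h12 : ((C.u⁻¹ : Sˣ) : S) ^ 12 = φ (W'.Δ * ((W.Δ'⁻¹ : Rˣ) : R)) := by
      have h1 : φ W.Δ * φ ((W.Δ'⁻¹ : Rˣ) : R) = 1 := by
        rw [← map_mul, ← W.coe_Δ', Units.mul_inv, map_one]
      have h2 : ((C.u⁻¹ : Sˣ) : S) ^ 12 * (C.u : S) ^ 12 = 1 := by
        rw [← mul_pow, Units.inv_mul, one_pow]
      rw [map_mul]
      linear_combination (φ W'.Δ * φ ((W.Δ'⁻¹ : Rˣ) : R)) * h2
        + (((C.u⁻¹ : Sˣ) : S) ^ 12 * φ ((W.Δ'⁻¹ : Rˣ) : R)) * BΔ
        - (((C.u⁻¹ : Sˣ) : S) ^ 12) * h1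
    exact IsIntegral.of_pow (n := 12) (by norm_num) (h12 ▸ iφ _)
  -- `r`
  have hr : IsIntegral R C.r := by
    refine isIntegral_of_pow_eq_sum (n := 4) C.r
      ![φ W.b₈ - (C.u : S) ^ 8 * φ W'.b₈, 2 * φ W.b₆ + (C.u : S) ^ 6 * φ W'.b₆, φ W.b₄, 0] ?_ ?_
    · intro i
      fin_cases i
      · exact (iφ _).sub ((hu.pow 8).mul (iφ _))
      · exact (i2.mul (iφ _)).add ((hu.pow 6).mul (iφ _))
      · exact iφ _
      · exact isIntegral_zero
    · simp only [Fin.sum_univ_four, Matrix.cons_val_zero, Matrix.cons_val_one,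
        Matrix.cons_val_two, Matrix.cons_val_three, Fin.val_zero, Fin.val_one, Fin.val_two,
        pow_zero, pow_one]
      simp
      linear_combination C.r * B₆ - B₈
  have hs : IsIntegral R C.s := by
    refine isIntegral_of_pow_eq_sum (n := 2) C.s
      ![φ W.a₂ + 3 * C.r - (C.u : S) ^ 2 * φ W'.a₂, -φ W.a₁] ?_ ?_
    · intro i
      fin_cases i
      · exact ((iφ _).add (i3.mul hr)).sub ((hu.pow 2).mul (iφ _))
      · exact (iφ _).neg
    · simp only [Fin.sum_univ_two, Matrix.cons_val_zero, Matrix.cons_val_one,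
        Fin.val_zero, Fin.val_one, pow_zero, pow_one]
      simp
      linear_combination (-1 : S) * E₂
  have ht : IsIntegral R C.t := by
    refine isIntegral_of_pow_eq_sum (n := 2) C.t
      ![φ W.a₆ + C.r * φ W.a₄ + C.r ^ 2 * φ W.a₂ + C.r ^ 3 - (C.u : S) ^ 6 * φ W'.a₆,
        -(φ W.a₃ + C.r * φ W.a₁)] ?_ ?_
    · intro i
      fin_cases i
      · exact (((((iφ _).add (hr.mul (iφ _))).add ((hr.pow 2).mul (iφ _))).add (hr.pow 3)).sub
          ((hu.pow 6).mul (iφ _)))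
      · exact ((iφ _).add (hr.mul (iφ _))).neg
    · simp only [Fin.sum_univ_two, Matrix.cons_val_zero, Matrix.cons_val_one,
        Fin.val_zero, Fin.val_one, pow_zero, pow_one]
      simp
      linear_combination (-1 : S) * E₆
  exact ⟨hu, hv, hr, hs, ht⟩

end Groth.Agent.Lib.Helper29.EllB
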