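import Mathlib
import Groth.Agent.Lib.Helper29EllA
import Groth.Agent.Lib.Helper26HenselIdem

/-!
# Descent of a change of variables along a finite domain over a complete local ring (helper29)

`core`: `R` complete local with algebraically closed residue field, `S` a finite `R`-algebra that
is a domain and is generated by the entries of a change of variables `C` between two elliptic
Weierstrass cubics over `R`.  Then `R → S` is surjective.
-/

set_option autoImplicit false
set_option linter.style.haveILetI false
set_option linter.unusedSectionVars false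

universe u

namespace Groth.Agent.Lib.Helper29.EllC

open WeierstrassCurve

/-- If `R` is local with algebraically closed residue field, `S` is an integral `R`-algebra and
`m'` a maximal ideal of `S`, then `R → S / m'` is surjective. -/
theorem exists_sub_mem_of_isMaximal (R : Type u) [CommRing R] [IsLocalRing R]
    [IsAlgClosed (IsLocalRing.ResidueField R)]
    (S : Type u) [CommRing S] [Algebra R S] [Algebra.IsIntegral R S]
    (m' : Ideal S) [hm' : m'.IsMaximal] (y : S) :
    ∃ a : R, algebraMap R S a - y ∈ m' := by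
  have hcomap : m'.comap (algebraMap R S) = IsLocalRing.maximalIdeal R :=
    IsLocalRing.eq_maximalIdeal (Ideal.isMaximal_comap_of_isIntegral_of_isMaximal m')
  haveI : m'.LiesOver (IsLocalRing.maximalIdeal R) := ⟨hcomap.symm⟩
  letI : Field (R ⧸ IsLocalRing.maximalIdeal R) := Ideal.Quotient.field _
  haveI : IsAlgClosed (R ⧸ IsLocalRing.maximalIdeal R) :=
    ‹IsAlgClosed (IsLocalRing.ResidueField R)›
  letI : Field (S ⧸ m') := Ideal.Quotient.field m'
  have hsurj : Function.Surjective
      (algebraMap (R ⧸ IsLocalRing.maximalIdeal R) (S ⧸ m')) :=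
    (IsAlgClosed.algebraMap_bijective_of_isIntegral).2
  obtain ⟨a', ha'⟩ := hsurj (Ideal.Quotient.mk m' y)
  obtain ⟨a, rfl⟩ := Ideal.Quotient.mk_surjective a'
  refine ⟨a, ?_⟩
  rw [Ideal.Quotient.algebraMap_mk_of_liesOver] at ha'
  exact Ideal.Quotient.eq.mp ha'


/-- `mapHom` is `map`. -/
theorem mapHom_apply {A B : Type*} [CommRing A] [CommRing B] (f : A →+* B)
    (C : VariableChange A) : VariableChange.mapHom f C = C.map f := rfl

theorem map_mul' {A B : Type*} [CommRing A] [CommRing B] (f : A →+* B)
    (C C' : VariableChange A) : (C * C').map f = C.map f * C'.map f :=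
  map_mul (VariableChange.mapHom f) C C'

theorem map_inv' {A B : Type*} [CommRing A] [CommRing B] (f : A →+* B)
    (C : VariableChange A) : (C⁻¹).map f = (C.map f)⁻¹ :=
  map_inv (VariableChange.mapHom f) C

theorem map_one' {A B : Type*} [CommRing A] [CommRing B] (f : A →+* B) :
    (1 : VariableChange A).map f = 1 :=
  map_one (VariableChange.mapHom f)

/-- The entries of `D` differ from those of `1` by elements of `ker f` iff `D.map f = 1`. -/
theorem map_eq_one_iff {A B : Type*} [CommRing A] [CommRing B] (f : A →+* B)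
    (D : VariableChange A) :
    D.map f = 1 ↔ f (D.u : A) = 1 ∧ f D.r = 0 ∧ f D.s = 0 ∧ f D.t = 0 := by
  constructor
  · intro h
    refine ⟨?_, ?_, ?_, ?_⟩
    · have := congr_arg (fun C : VariableChange B => (C.u : B)) h
      simpa [VariableChange.one_def] using this
    · have := congr_arg VariableChange.r h
      simpa [VariableChange.one_def] using this
    · have := congr_arg VariableChange.s h
      simpa [VariableChange.one_def] using this
    · have := congr_arg VariableChange.t h
      simpa [VariableChange.one_def] using this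
  · rintro ⟨h1, h2, h3, h4⟩
    rw [VariableChange.one_def]
    ext
    · simpa using h1
    · simpa using h2
    · simpa using h3
    · simpa using h4

theorem core (R : Type u) [CommRing R] [IsLocalRing R]
    [IsAdicComplete (IsLocalRing.maximalIdeal R) R] [IsAlgClosed (IsLocalRing.ResidueField R)]
    (S : Type u) [CommRing S] [IsDomain S] [Algebra R S] [Module.Finite R S]
    (W₁ W₂ : WeierstrassCurve R) [W₁.IsElliptic] [W₂.IsElliptic]
    (C : VariableChange S) (hC : C • W₁.map (algebraMap R S) = W₂.map (algebraMap R S))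
    (hgen : Algebra.adjoin R {(C.u : S), ((C.u⁻¹ : Sˣ) : S), C.r, C.s, C.t} = ⊤) :
    Function.Surjective (algebraMap R S) := by
  classical
  set m := IsLocalRing.maximalIdeal R with hm
  set φ := algebraMap R S with hφ
  haveI : Algebra.IsIntegral R S := inferInstance
  -- a maximal ideal of `S`
  obtain ⟨m', hm'⟩ := Ideal.exists_maximal S
  haveI := hm'
  have hcomap : m'.comap φ = m :=
    IsLocalRing.eq_maximalIdeal (Ideal.isMaximal_comap_of_isIntegral_of_isMaximal m')
  have hmm' : m.map φ ≤ m' := by
    rw [Ideal.map_le_iff_le_comap, hcomap]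
  -- approximate the entries of `C` modulo `m'`
  obtain ⟨au, hau⟩ := exists_sub_mem_of_isMaximal R S m' (C.u : S)
  obtain ⟨ar, har⟩ := exists_sub_mem_of_isMaximal R S m' C.r
  obtain ⟨as, has⟩ := exists_sub_mem_of_isMaximal R S m' C.s
  obtain ⟨at', hat⟩ := exists_sub_mem_of_isMaximal R S m' C.t
  have hau_unit : IsUnit au := by
    by_contra h
    have h1 : au ∈ m := (IsLocalRing.mem_maximalIdeal _).mpr h
    have h2 : φ au ∈ m' := by
      rw [← hcomap] at h1; exact h1
    have h3 : (C.u : S) ∈ m' := by
      have h4 := m'.sub_mem h2 hau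
      have h5 : φ au - (algebraMap R S au - (C.u : S)) = (C.u : S) := by rw [hφ]; ring
      rw [h5] at h4
      exact h4
    exact hm'.ne_top (Ideal.eq_top_of_isUnit_mem _ h3 C.u.isUnit)
  set C₁ : VariableChange R := ⟨hau_unit.unit, ar, as, at'⟩ with hC₁
  set π := Ideal.Quotient.mk m' with hπ
  have hCπ : C.map π = (C₁.map φ).map π := by
    ext
    · simp only [VariableChange.map_u, Units.coe_map, MonoidHom.coe_coe, hC₁, IsUnit.unit_spec]
      exact (Ideal.Quotient.eq.mpr hau).symm
    · simp only [VariableChange.map_r, hC₁]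
      exact (Ideal.Quotient.eq.mpr har).symm
    · simp only [VariableChange.map_s, hC₁]
      exact (Ideal.Quotient.eq.mpr has).symm
    · simp only [VariableChange.map_t, hC₁]
      exact (Ideal.Quotient.eq.mpr hat).symm
  set D : VariableChange S := C * (C₁.map φ)⁻¹ with hD
  have hDπ : D.map π = 1 := by
    rw [hD, map_mul', map_inv', hCπ, mul_inv_cancel]
  have hDC : D * C₁.map φ = C := inv_mul_cancel_right _ _
  have hDW : D • (C₁ • W₁).map φ = W₂.map φ := by
    rw [← map_variableChange, ← mul_smul, hDC, hC]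
  -- the two curves agree modulo `m`
  have hred : (C₁ • W₁).map (π.comp φ) = W₂.map (π.comp φ) := by
    have := congr_arg (fun W => W.map π) hDW
    rw [← map_variableChange, hDπ, one_smul, WeierstrassCurve.map_map,
      WeierstrassCurve.map_map] at this
    exact this
  have hker : ∀ x y : R, π (φ x) = π (φ y) → x - y ∈ m := by
    intro x y hxy
    rw [← hcomap, Ideal.mem_comap, map_sub]
    exact Ideal.Quotient.eq.mp hxy
  -- pass to `T = S / mS`
  set ψ := Ideal.Quotient.mk (m.map φ) with hψ
  have hψm : ∀ x ∈ m, (ψ.comp φ) x = 0 := by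
    intro x hx
    exact Ideal.Quotient.eq_zero_iff_mem.mpr (Ideal.mem_map_of_mem _ hx)
  have hψeq : ∀ x y : R, x - y ∈ m → ψ (φ x) = ψ (φ y) := by
    intro x y hxy
    have := hψm _ hxy
    rw [RingHom.comp_apply, map_sub, map_sub, sub_eq_zero] at this
    exact this
  have hredT : (C₁ • W₁).map (ψ.comp φ) = W₂.map (ψ.comp φ) := by
    ext
    · exact hψeq _ _ (hker _ _ (congr_arg WeierstrassCurve.a₁ hred))
    · exact hψeq _ _ (hker _ _ (congr_arg WeierstrassCurve.a₂ hred))
    · exact hψeq _ _ (hker _ _ (congr_arg WeierstrassCurve.a₃ hred))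
    · exact hψeq _ _ (hker _ _ (congr_arg WeierstrassCurve.a₄ hred))
    · exact hψeq _ _ (hker _ _ (congr_arg WeierstrassCurve.a₆ hred))
  have hDT : (D.map ψ) • W₂.map (ψ.comp φ) = W₂.map (ψ.comp φ) := by
    have := congr_arg (fun W => W.map ψ) hDW
    rw [← map_variableChange, WeierstrassCurve.map_map, WeierstrassCurve.map_map, hredT] at this
    exact this
  -- rigidity: the ideal `J` is idempotent
  set J : Ideal (S ⧸ m.map φ) :=
    Ideal.span {((D.map ψ).u : S ⧸ m.map φ) - 1, (D.map ψ).r, (D.map ψ).s, (D.map ψ).t} with hJ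
  have hJJ : J ≤ J * J := Groth.Agent.Lib.Helper29.EllA.span_le_sq (ψ.comp φ) hψm W₂ (D.map ψ) hDT
  have hJidem : IsIdempotentElem J := le_antisymm Ideal.mul_le_right hJJ
  have hJfg : J.FG := by
    rw [hJ]
    exact Submodule.fg_span (Set.toFinite _)
  obtain ⟨e, he, hJe⟩ := (Ideal.isIdempotentElem_iff_of_fg J hJfg).mp hJidem
  -- lift the idempotent
  haveI : HenselianRing R m := IsAdicComplete.henselianRing R m
  obtain ⟨e', he', hee'⟩ := Groth.Agent.Lib.Helper26.HenselIdem.idem_surjOn R m S he
  have he'01 : e' = 0 ∨ e' = 1 := IsIdempotentElem.iff_eq_zero_or_one.mp he'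
  -- `J` is a proper ideal
  have hDπ' := (map_eq_one_iff π D).mp hDπ
  have hJle : J ≤ m'.map ψ := by
    rw [hJ, Ideal.span_le]
    intro x hx
    simp only [Set.mem_insert_iff, Set.mem_singleton_iff] at hx
    rcases hx with rfl | rfl | rfl | rfl
    · have : (D.u : S) - 1 ∈ m' := by
        rw [← Ideal.Quotient.eq_zero_iff_mem, map_sub, map_one, sub_eq_zero]
        exact hDπ'.1
      have h2 := Ideal.mem_map_of_mem ψ this
      simpa using h2
    · exact Ideal.mem_map_of_mem ψ (Ideal.Quotient.eq_zero_iff_mem.mp hDπ'.2.1)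
    · exact Ideal.mem_map_of_mem ψ (Ideal.Quotient.eq_zero_iff_mem.mp hDπ'.2.2.1)
    · exact Ideal.mem_map_of_mem ψ (Ideal.Quotient.eq_zero_iff_mem.mp hDπ'.2.2.2)
  have hm'ψ : m'.map ψ ≠ ⊤ := by
    intro htop
    have h1 : Ideal.comap ψ (m'.map ψ) = m' := by
      rw [Ideal.comap_map_of_surjective ψ Ideal.Quotient.mk_surjective, ← RingHom.ker_eq_comap_bot,
        Ideal.mk_ker]
      exact sup_eq_left.mpr hmm'
    rw [htop, Ideal.comap_top] at h1
    exact hm'.ne_top h1.symm
  have hJbot : J = ⊥ := by
    rcases he'01 with h0 | h1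
    · rw [hJe, ← hee', h0, map_zero]
      simp
    · exfalso
      apply hm'ψ
      rw [eq_top_iff]
      refine le_trans ?_ hJle
      rw [hJe, ← hee', h1, map_one]
      simp
  -- hence `D ≡ 1` modulo `mS`
  have hDψ : D.map ψ = 1 := by
    have hmem : ∀ x ∈ ({((D.map ψ).u : S ⧸ m.map φ) - 1, (D.map ψ).r, (D.map ψ).s,
        (D.map ψ).t} : Set (S ⧸ m.map φ)), x = 0 := by
      intro x hx
      have : x ∈ J := Ideal.subset_span hx
      rw [hJbot] at this
      exact this
    rw [VariableChange.one_def]
    ext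
    · have := hmem (((D.map ψ).u : S ⧸ m.map φ) - 1) (by simp)
      rw [sub_eq_zero] at this
      simpa using this
    · exact hmem (D.map ψ).r (by simp)
    · exact hmem (D.map ψ).s (by simp)
    · exact hmem (D.map ψ).t (by simp)
  have hCψ : C.map ψ = C₁.map (ψ.comp φ) := by
    rw [← hDC, map_mul', hDψ, one_mul, VariableChange.map_map]
  -- `R → S / mS` is surjective
  have hsurjT : Function.Surjective (algebraMap R (S ⧸ m.map φ)) := by
    have hle : (Algebra.adjoin R {(C.u : S), ((C.u⁻¹ : Sˣ) : S), C.r, C.s, C.t}).map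
        (Ideal.Quotient.mkₐ R (m.map φ)) ≤ ⊥ := by
      rw [AlgHom.map_adjoin, Algebra.adjoin_le_iff]
      rintro _ ⟨x, hx, rfl⟩
      simp only [Set.mem_insert_iff, Set.mem_singleton_iff] at hx
      rw [SetLike.mem_coe, Algebra.mem_bot]
      rcases hx with rfl | rfl | rfl | rfl | rfl
      · refine ⟨au, ?_⟩
        have := congr_arg (fun C : VariableChange (S ⧸ m.map φ) => (C.u : S ⧸ m.map φ)) hCψ
        simp only [VariableChange.map_u, Units.coe_map, MonoidHom.coe_coe, hC₁,
          IsUnit.unit_spec] at this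
        exact this.symm
      · refine ⟨((hau_unit.unit⁻¹ : Rˣ) : R), ?_⟩
        have := congr_arg (fun C : VariableChange (S ⧸ m.map φ) =>
          ((C.u⁻¹ : (S ⧸ m.map φ)ˣ) : S ⧸ m.map φ)) hCψ
        simp only [VariableChange.map_u, ← map_inv, Units.coe_map, MonoidHom.coe_coe, hC₁] at this
        exact this.symm
      · exact ⟨ar, (congr_arg VariableChange.r hCψ).symm⟩
      · exact ⟨as, (congr_arg VariableChange.s hCψ).symm⟩
      · exact ⟨at', (congr_arg VariableChange.t hCψ).symm⟩
    rw [hgen, Algebra.map_top, (AlgHom.range_eq_top _).mpr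
      (Ideal.Quotient.mkₐ_surjective R (m.map φ))] at hle
    intro t
    have : t ∈ (⊥ : Subalgebra R (S ⧸ m.map φ)) := hle Algebra.mem_top
    exact Algebra.mem_bot.mp this
  -- Nakayama
  have hN : (⊤ : Submodule R S) ≤ LinearMap.range (Algebra.linearMap R S) := by
    refine Submodule.le_of_le_smul_of_le_jacobson_bot (I := m) Module.Finite.fg_top
      (IsLocalRing.maximalIdeal_le_jacobson ⊥) ?_
    intro x _
    obtain ⟨a, ha⟩ := hsurjT (ψ x)
    have hxa : x - φ a ∈ m.map φ := by
      rw [← Ideal.Quotient.eq_zero_iff_mem, map_sub, sub_eq_zero]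
      exact ha.symm
    have : x = φ a + (x - φ a) := by ring
    rw [this]
    refine Submodule.add_mem_sup ⟨a, rfl⟩ ?_
    rw [Ideal.smul_top_eq_map]
    exact hxa
  intro x
  obtain ⟨a, ha⟩ := hN (Submodule.mem_top (x := x))
  exact ⟨a, ha⟩

end Groth.Agent.Lib.Helper29.EllC
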