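import Mathlib
import Groth.Agent.Lib.Helper29EllB
import Groth.Agent.Lib.Helper29EllC

/-!
# Elliptic curves with equal `j` over a complete local domain with algebraically closed residue
field are isomorphic (helper29)
-/

set_option autoImplicit false
set_option linter.style.haveILetI false
set_option linter.unusedSectionVars false

universe u

namespace Groth.Agent.Lib.Helper29.EllD

open WeierstrassCurve

/-- A change of variables between elliptic cubics over `R`, defined over an extension field of the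
complete local domain `R` (algebraically closed residue field), is already defined over `R`. -/
theorem exists_map_eq (R : Type u) [CommRing R] [IsDomain R] [IsLocalRing R]
    [IsAdicComplete (IsLocalRing.maximalIdeal R) R] [IsAlgClosed (IsLocalRing.ResidueField R)]
    (L : Type u) [Field L] [Algebra R L] (hinj : Function.Injective (algebraMap R L))
    (W₁ W₂ : WeierstrassCurve R) [W₁.IsElliptic] [W₂.IsElliptic]
    (C₀ : VariableChange L) (hC₀ : C₀ • W₁.map (algebraMap R L) = W₂.map (algebraMap R L)) :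
    ∃ C : VariableChange R, C.map (algebraMap R L) = C₀ := by
  classical
  obtain ⟨iu, iv, ir, is, it⟩ := Groth.Agent.Lib.Helper29.EllB.isIntegral_entries W₁ W₂ C₀ hC₀
  set gens : Set L := {(C₀.u : L), ((C₀.u⁻¹ : Lˣ) : L), C₀.r, C₀.s, C₀.t} with hgens
  set S : Subalgebra R L := Algebra.adjoin R gens with hS
  have hfin : (Algebra.adjoin R gens).toSubmodule.FG := by
    refine fg_adjoin_of_finite (Set.toFinite _) ?_
    intro x hx
    simp only [hgens, Set.mem_insert_iff, Set.mem_singleton_iff] at hx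
    rcases hx with rfl | rfl | rfl | rfl | rfl <;> assumption
  haveI : Module.Finite R S :=
    (Module.Finite.iff_fg (N := Subalgebra.toSubmodule (Algebra.adjoin R gens))).mpr hfin
  have hmem : ∀ x ∈ gens, x ∈ S := fun x hx => Algebra.subset_adjoin hx
  have hu : (C₀.u : L) ∈ S := hmem _ (by simp [hgens])
  have hv : ((C₀.u⁻¹ : Lˣ) : L) ∈ S := hmem _ (by simp [hgens])
  have hr : C₀.r ∈ S := hmem _ (by simp [hgens])
  have hs : C₀.s ∈ S := hmem _ (by simp [hgens])
  have ht : C₀.t ∈ S := hmem _ (by simp [hgens])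
  let uS : Sˣ := ⟨⟨(C₀.u : L), hu⟩, ⟨((C₀.u⁻¹ : Lˣ) : L), hv⟩,
    Subtype.ext (by simp), Subtype.ext (by simp)⟩
  let Ĉ : VariableChange S := ⟨uS, ⟨C₀.r, hr⟩, ⟨C₀.s, hs⟩, ⟨C₀.t, ht⟩⟩
  have hĈ : Ĉ.map (algebraMap S L) = C₀ := by
    ext <;> rfl
  have hcomp : (algebraMap S L).comp (algebraMap R S) = algebraMap R L := rfl
  have hSinj : Function.Injective (algebraMap S L) := Subtype.val_injective
  have hĈW : Ĉ • W₁.map (algebraMap R S) = W₂.map (algebraMap R S) := by
    apply WeierstrassCurve.map_injective hSinj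
    show (Ĉ • W₁.map (algebraMap R S)).map (algebraMap S L)
      = (W₂.map (algebraMap R S)).map (algebraMap S L)
    rw [← map_variableChange, hĈ, WeierstrassCurve.map_map, WeierstrassCurve.map_map, hcomp, hC₀]
  have hgenS : Algebra.adjoin R {(Ĉ.u : S), ((Ĉ.u⁻¹ : Sˣ) : S), Ĉ.r, Ĉ.s, Ĉ.t} = ⊤ := by
    have h1 := Algebra.adjoin_adjoin_coe_preimage (R := R) (s := gens)
    have h2 : ({(Ĉ.u : S), ((Ĉ.u⁻¹ : Sˣ) : S), Ĉ.r, Ĉ.s, Ĉ.t} : Set S) =
        ((↑) : S → L) ⁻¹' gens := by
      ext x
      simp only [Set.mem_insert_iff, Set.mem_singleton_iff, Set.mem_preimage, hgens,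
        Subtype.ext_iff]
      rfl
    rw [h2]
    exact h1
  have hsurj := Groth.Agent.Lib.Helper29.EllC.core R S W₁ W₂ Ĉ hĈW hgenS
  obtain ⟨au, hau⟩ := hsurj (Ĉ.u : S)
  obtain ⟨av, hav⟩ := hsurj ((Ĉ.u⁻¹ : Sˣ) : S)
  obtain ⟨ar, har⟩ := hsurj Ĉ.r
  obtain ⟨as, has⟩ := hsurj Ĉ.s
  obtain ⟨at', hat⟩ := hsurj Ĉ.t
  have hRSinj : Function.Injective (algebraMap R S) := by
    intro x y hxy
    apply hinj
    rw [← hcomp, RingHom.comp_apply, RingHom.comp_apply, hxy]
  have huv : au * av = 1 := by
    apply hRSinj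
    rw [map_mul, hau, hav, map_one, Units.mul_inv]
  have hvu : av * au = 1 := by rw [mul_comm, huv]
  refine ⟨⟨⟨au, av, huv, hvu⟩, ar, as, at'⟩, ?_⟩
  rw [← hĈ]
  have : (⟨⟨au, av, huv, hvu⟩, ar, as, at'⟩ : VariableChange R).map (algebraMap R S) = Ĉ := by
    ext
    · exact congr_arg Subtype.val hau
    · exact congr_arg Subtype.val har
    · exact congr_arg Subtype.val has
    · exact congr_arg Subtype.val hat
  rw [← this, VariableChange.map_map, hcomp]

/-- **Elliptic curves over a complete local domain with algebraically closed residue field having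
the same `j`-invariant are related by a change of variables.** -/
theorem main (R : Type u) [CommRing R] [IsDomain R] [IsLocalRing R]
    [IsAdicComplete (IsLocalRing.maximalIdeal R) R] [IsAlgClosed (IsLocalRing.ResidueField R)]
    (W₁ W₂ : WeierstrassCurve R) [W₁.IsElliptic] [W₂.IsElliptic] (hj : W₁.j = W₂.j) :
    ∃ C : VariableChange R, C • W₁ = W₂ := by
  let K := FractionRing R
  let L := AlgebraicClosure K
  have hinj : Function.Injective (algebraMap R L) := by
    rw [IsScalarTower.algebraMap_eq R K L]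
    exact (algebraMap K L).injective.comp (IsFractionRing.injective R K)
  have hj' : (W₁.map (algebraMap R L)).j = (W₂.map (algebraMap R L)).j := by
    rw [map_j, map_j, hj]
  obtain ⟨C₀, hC₀⟩ := exists_variableChange_of_j_eq _ _ hj'
  obtain ⟨C, hC⟩ := exists_map_eq R L hinj W₁ W₂ C₀ hC₀
  refine ⟨C, ?_⟩
  apply WeierstrassCurve.map_injective hinj
  show (C • W₁).map (algebraMap R L) = W₂.map (algebraMap R L)
  rw [← map_variableChange, hC, hC₀]

end Groth.Agent.Lib.Helper29.EllD
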