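import Mathlib

/-! Euler characteristic of a long exact sequence of finite-length modules arranged in three
interleaved families `A n → B n → C n → A (n+1)` (helper29). -/

set_option autoImplicit false
open Module

namespace Groth.Agent.Lib.Helper29EulerLES

universe v

variable {R₀ : Type*} [Ring R₀]

/-- Rank–nullity for lengths, in `ℕ`. -/
theorem toNat_length_eq {X Y : Type*} [AddCommGroup X] [Module R₀ X] [AddCommGroup Y]
    [Module R₀ Y] (f : X →ₗ[R₀] Y) (hX : Module.length R₀ X ≠ ⊤) :
    (Module.length R₀ X).toNat =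
      (Module.length R₀ (LinearMap.ker f)).toNat + (Module.length R₀ (LinearMap.range f)).toNat := by
  have h := Module.length_eq_add_of_exact (LinearMap.ker f).subtype f.rangeRestrict
    (Submodule.subtype_injective _) f.surjective_rangeRestrict
    (by
      intro x
      constructor
      · intro hx
        have : f x = 0 := congrArg Subtype.val hx
        exact ⟨⟨x, this⟩, rfl⟩
      · rintro ⟨y, rfl⟩
        exact Subtype.ext y.2)
  rw [h] at hX ⊢
  rw [ENat.toNat_add (fun h0 => hX (by rw [h0, top_add])) (fun h0 => hX (by rw [h0, add_top]))]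

theorem toNat_length_congr {X : Type*} [AddCommGroup X] [Module R₀ X] {p q : Submodule R₀ X}
    (h : p = q) : (Module.length R₀ p).toNat = (Module.length R₀ q).toNat := by
  subst h; rfl

variable (A B C : ℕ → Type v) [∀ n, AddCommGroup (A n)] [∀ n, Module R₀ (A n)]
  [∀ n, AddCommGroup (B n)] [∀ n, Module R₀ (B n)] [∀ n, AddCommGroup (C n)]
  [∀ n, Module R₀ (C n)]
  (F : ∀ n, A n →ₗ[R₀] B n) (I : ∀ n, B n →ₗ[R₀] C n) (P : ∀ n, C n →ₗ[R₀] A (n + 1))

/-- The alternating sum of lengths along a long exact sequence vanishes. -/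
theorem euler_les (hF0 : Function.Injective (F 0))
    (hI : ∀ n, LinearMap.ker (I n) = LinearMap.range (F n))
    (hP : ∀ n, LinearMap.ker (P n) = LinearMap.range (I n))
    (hF : ∀ n, LinearMap.ker (F (n + 1)) = LinearMap.range (P n))
    (hA : ∀ n, Module.length R₀ (A n) ≠ ⊤) (hB : ∀ n, Module.length R₀ (B n) ≠ ⊤)
    (hC : ∀ n, Module.length R₀ (C n) ≠ ⊤) (N : ℕ) (hN : Subsingleton (A (N + 1))) :
    ∑ n ∈ Finset.range (N + 1), (-1 : ℤ) ^ n *
      (((Module.length R₀ (A n)).toNat : ℤ) - ((Module.length R₀ (B n)).toNat : ℤ) +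
        ((Module.length R₀ (C n)).toNat : ℤ)) = 0 := by
  set rF : ℕ → ℕ := fun n => (Module.length R₀ (LinearMap.range (F n))).toNat with hrF
  set rI : ℕ → ℕ := fun n => (Module.length R₀ (LinearMap.range (I n))).toNat with hrI
  set rP : ℕ → ℕ := fun n => (Module.length R₀ (LinearMap.range (P n))).toNat with hrP
  have e1 : (Module.length R₀ (A 0)).toNat = rF 0 := by
    rw [toNat_length_eq (F 0) (hA 0)]
    have : LinearMap.ker (F 0) = ⊥ := LinearMap.ker_eq_bot.mpr hF0
    rw [toNat_length_congr this, Module.length_bot, ENat.toNat_zero, zero_add]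
  have e2 : ∀ n, (Module.length R₀ (A (n + 1))).toNat = rP n + rF (n + 1) := by
    intro n
    rw [toNat_length_eq (F (n + 1)) (hA (n + 1)), toNat_length_congr (hF n)]
  have e3 : ∀ n, (Module.length R₀ (B n)).toNat = rF n + rI n := by
    intro n
    rw [toNat_length_eq (I n) (hB n), toNat_length_congr (hI n)]
  have e4 : ∀ n, (Module.length R₀ (C n)).toNat = rI n + rP n := by
    intro n
    rw [toNat_length_eq (P n) (hC n), toNat_length_congr (hP n)]
  have key : ∀ N : ℕ, ∑ n ∈ Finset.range (N + 1), (-1 : ℤ) ^ n *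
      (((Module.length R₀ (A n)).toNat : ℤ) - ((Module.length R₀ (B n)).toNat : ℤ) +
        ((Module.length R₀ (C n)).toNat : ℤ)) = (-1 : ℤ) ^ N * (rP N : ℤ) := by
    intro N
    induction N with
    | zero =>
      rw [Finset.sum_range_one, e1, e3 0, e4 0]
      push_cast
      ring
    | succ N ih =>
      rw [Finset.sum_range_succ, ih, e2 N, e3 (N + 1), e4 (N + 1)]
      push_cast
      ring
  rw [key N]
  have : rP N = 0 := by
    have hsub : Subsingleton (LinearMap.range (P N)) :=
      ⟨fun x y => Subtype.ext (Subsingleton.elim _ _)⟩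
    show (Module.length R₀ (LinearMap.range (P N))).toNat = 0
    rw [Module.length_eq_zero, ENat.toNat_zero]
  rw [this, Nat.cast_zero, mul_zero]

end Groth.Agent.Lib.Helper29EulerLES
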