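import Mathlib
import Groth.Agent.Lib.Helper8RegHull
import Groth.Agent.S17759
import Groth.Agent.S3262
import Groth.Agent.S0317
import Groth.Agent.S11681
import Groth.Agent.S0299
import Groth.Agent.Lib.Helper8GV

/-! `Ext^i(X, Y)` for `X` finite and `Y` Artinian: Artinian, killed by `Ann X + Ann Y`; finite length of
`Ext^i(X, H^n_I(M))` over a complete local ring when `I ≤ Ann X` and `dim M ≤ n` (helper29). -/

set_option autoImplicit false
set_option linter.style.haveILetI false
universe u
open CategoryTheory Abelian IsLocalRing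

namespace Groth.Agent.Lib.Helper29.ExtArt

variable {R : Type u} [CommRing R]

theorem smul_ext_eq_zero_of_left {X Y : ModuleCat.{u} R} (r : R) (hr : ∀ x : X, r • x = 0)
    (n : ℕ) (α : Ext X Y n) : r • α = 0 := by
  have h1 : r • 𝟙 X = 0 := by
    apply ModuleCat.hom_ext
    apply LinearMap.ext
    intro x
    exact hr x
  have h2 : α = (Ext.mk₀ (𝟙 X)).comp α (zero_add n) := by simp
  rw [h2, ← Ext.smul_comp, ← Ext.mk₀_smul, h1, Ext.mk₀_zero, Ext.zero_comp]

theorem smul_ext_eq_zero_of_right {X Y : ModuleCat.{u} R} (r : R) (hr : ∀ y : Y, r • y = 0)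
    (n : ℕ) (α : Ext X Y n) : r • α = 0 := by
  have h1 : r • 𝟙 Y = 0 := by
    apply ModuleCat.hom_ext
    apply LinearMap.ext
    intro x
    exact hr x
  rw [Ext.smul_eq_comp_mk₀, h1, Ext.mk₀_zero, Ext.comp_zero]

theorem isArtinian_ext [IsNoetherianRing R] (M : ModuleCat.{u} R) [IsArtinian R M] (i : ℕ)
    (N : ModuleCat.{u} R) [Module.Finite R N] : IsArtinian R (Ext N M i) := by
  induction i generalizing N with
  | zero =>
    obtain ⟨b, p, hp⟩ := Module.Finite.exists_fin' R N
    let e1 : Ext N M 0 ≃ₗ[R] (N →ₗ[R] M) := Ext.linearEquiv₀.trans ModuleCat.homLinearEquiv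
    let g : (N →ₗ[R] M) →ₗ[R] ((Fin b → R) →ₗ[R] M) := LinearMap.lcomp R M p
    have hg : Function.Injective g := by
      intro a c hac
      apply LinearMap.ext
      intro x
      obtain ⟨y, rfl⟩ := hp x
      exact LinearMap.congr_fun hac y
    let e2 : ((Fin b → R) →ₗ[R] M) ≃ₗ[R] (Fin b → M) :=
      (LinearMap.lsum R (fun _ : Fin b => R) R).symm.trans
        (LinearEquiv.piCongrRight fun _ => LinearMap.ringLmapEquivSelf R R M)
    exact isArtinian_of_injective (e2.toLinearMap ∘ₗ g ∘ₗ e1.toLinearMap)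
      (e2.injective.comp (hg.comp e1.injective))
  | succ n ih =>
    obtain ⟨N', _, _, _, _, f, surjf⟩ := Module.exists_finite_presentation R N
    let exac := LinearMap.shortExact_shortComplexKer surjf
    have : Module.Finite R (LinearMap.ker f) := inferInstance
    have := ih (ModuleCat.of R (LinearMap.ker f))
    exact isArtinian_of_surjective _ (exac.extClass.precompOfLinear R M (add_comm 1 n))
      (precomp_extClass_surjective_of_projective_X₂ M exac n)

theorem isFiniteLength_of_isArtinian_of_pow_smul [IsLocalRing R] [IsNoetherianRing R]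
    (F : Type*) [AddCommGroup F] [Module R F] [IsArtinian R F] (k : ℕ)
    (hk : ∀ a ∈ maximalIdeal R ^ k, ∀ x : F, a • x = 0) : IsFiniteLength R F := by
  by_cases hF : Subsingleton F
  · exact IsFiniteLength.of_subsingleton
  have hk0 : k ≠ 0 := by
    rintro rfl
    apply hF
    refine ⟨fun x y => ?_⟩
    have h1 := hk 1 (by simp) x
    have h2 := hk 1 (by simp) y
    rw [one_smul] at h1 h2
    rw [h1, h2]
  have hp : maximalIdeal R ∈ (maximalIdeal R ^ k).minimalPrimes := by
    refine ⟨⟨inferInstance, Ideal.pow_le_self hk0⟩, fun q hq _ => ?_⟩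
    exact hq.1.le_of_pow_le hq.2
  have hart : IsArtinianRing (R ⧸ maximalIdeal R ^ k) :=
    IsLocalRing.quotient_artinian_of_mem_minimalPrimes_of_isLocalRing _ hp
  have hM : Module.IsTorsionBySet R F (maximalIdeal R ^ k : Ideal R) := fun x a => hk a.1 a.2 x
  let _ : Module (R ⧸ maximalIdeal R ^ k) F := hM.module
  have : IsScalarTower R (R ⧸ maximalIdeal R ^ k) F := hM.isScalarTower
  have hA' : IsArtinian (R ⧸ maximalIdeal R ^ k) F := isArtinian_of_tower R inferInstance
  have hfin' : Module.Finite (R ⧸ maximalIdeal R ^ k) F :=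
    ((IsArtinianRing.tfae (R ⧸ maximalIdeal R ^ k) F).out 0 2).mpr hA'
  have hfin : Module.Finite R F := Module.Finite.trans (R ⧸ maximalIdeal R ^ k) F
  have hN : IsNoetherian R F := isNoetherian_of_isNoetherianRing_of_finite R F
  exact isFiniteLength_iff_isNoetherian_isArtinian.mpr ⟨hN, inferInstance⟩


section Complete

variable (R : Type u) [CommRing R] [IsNoetherianRing R] [IsLocalRing R]
  [IsAdicComplete (maximalIdeal R) R] (I : Ideal R)
  (M : Type u) [AddCommGroup M] [Module R M] [Module.Finite R M] (n : ℕ)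

theorem isArtinian_H (hn : Module.supportDim R M ≤ n) : IsArtinian R (LocCoh.H I n M) := by
  rcases lt_or_eq_of_le hn with hlt | heq
  · have h0 := Groth.Agent.Lib.Helper8.GV.H_eq_zero_of_supportDim_lt I n M hlt
    have : Subsingleton (LocCoh.H I n M) := ⟨fun a b => (h0 a).trans (h0 b).symm⟩
    infer_instance
  · have hnt : Nontrivial M := by
      by_contra hns
      rw [not_nontrivial_iff_subsingleton] at hns
      rw [Module.supportDim_eq_bot_of_subsingleton] at heq
      exact absurd heq (by simp)
    exact Groth.Agent.S3262.result R I M n heq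

theorem exists_pow_le (hn : Module.supportDim R M ≤ n) :
    ∃ k : ℕ, maximalIdeal R ^ k ≤ I ⊔ Module.annihilator R (LocCoh.H I n M) := by
  rcases lt_or_eq_of_le hn with hlt | heq
  · have h0 := Groth.Agent.Lib.Helper8.GV.H_eq_zero_of_supportDim_lt I n M hlt
    refine ⟨0, ?_⟩
    have : Module.annihilator R (LocCoh.H I n M) = ⊤ := by
      rw [Module.annihilator_eq_top_iff]
      exact ⟨fun a b => (h0 a).trans (h0 b).symm⟩
    rw [this]
    simp
  · haveI := isArtinian_H R I M n hn
    obtain ⟨E, _, _, f, hf⟩ := Groth.Agent.S0299.result R (ResidueField R)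
    have hD := (Groth.Agent.S0317.result R E f hf (LocCoh.H I n M)).1
    have hAnn := ((Groth.Agent.S11681.result R E f hf).1 (LocCoh.H I n M)).2
    rw [hAnn]
    set D := (LocCoh.H I n M →ₗ[R] E) with hDdef
    apply Ideal.exists_pow_le_of_le_radical_of_fg _ (IsNoetherian.noetherian _)
    rw [Ideal.radical_eq_sInf]
    refine le_sInf ?_
    rintro P ⟨hJP, hP⟩
    haveI := hP
    have hAP : Module.annihilator R D ≤ P := le_sup_right.trans hJP
    obtain ⟨q, hq, hqP⟩ := Ideal.exists_minimalPrimes_le hAP
    have hqA : q ∈ associatedPrimes R D :=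
      Module.associatedPrimes.minimalPrimes_annihilator_subset_associatedPrimes R D hq
    obtain ⟨-, -, h3⟩ := Groth.Agent.S17759.dir2 R E I M n heq q hqA
    rw [← h3]
    have : I ⊔ q ≤ P := sup_le (le_sup_left.trans hJP) hqP
    exact (Ideal.radical_mono this).trans hP.radical.le

theorem isFiniteLength_ext_complete (hn : Module.supportDim R M ≤ n) (X Y : ModuleCat.{u} R)
    [Module.Finite R X] (hX : ∀ a ∈ I, ∀ x : X, a • x = 0) (e : Y ≃ₗ[R] LocCoh.H I n M) (i : ℕ) :
    IsFiniteLength R (Ext X Y i) := by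
  haveI := isArtinian_H R I M n hn
  haveI : IsArtinian R Y := isArtinian_of_injective e.toLinearMap e.injective
  haveI := isArtinian_ext Y i X
  obtain ⟨k, hk⟩ := exists_pow_le R I M n hn
  refine isFiniteLength_of_isArtinian_of_pow_smul _ k ?_
  intro a ha α
  obtain ⟨b, hb, c, hc, rfl⟩ := Submodule.mem_sup.mp (hk ha)
  rw [add_smul, smul_ext_eq_zero_of_left b (hX b hb), zero_add]
  refine smul_ext_eq_zero_of_right c ?_ i α
  intro y
  apply e.injective
  rw [map_smul, map_zero]
  exact Module.mem_annihilator.mp hc _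

end Complete

end Groth.Agent.Lib.Helper29.ExtArt
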