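import Mathlib
import Groth.Prelude.Def_Coh
import Groth.Prelude.Def_CohB1
import Groth.Agent.Lib.Helper14DepthAlongB

/-!
# Depth of stalks along a closed subset versus vanishing of `Ext` on affine opens (helper29)

For a locally Noetherian scheme `X`, coherent `F`, `G`, an affine open `W` with `R = Γ(X, W)`,
`M = Γ(F, W)`, `N = Γ(G, W)`, and an open `U` with closed complement `Y`:

* `depth_ge_of_ext_vanish`: if `Supp G = Y` and `Ext^i_R(N, M) = 0` for `i < n`, then
  `depth F_x ≥ n` for `x ∈ Y ∩ W`;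
* `ext_vanish_of_depth_ge`: if `Supp G ⊆ Y` and `depth F_x ≥ n` for all `x ∈ Y ∩ W`, then
  `Ext^i_R(N, M) = 0` for `i < n`.
-/

set_option autoImplicit false
set_option linter.unusedVariables false
set_option linter.unusedSectionVars false
set_option linter.style.haveILetI false
set_option maxHeartbeats 400000
universe u
open CategoryTheory CategoryTheory.Limits AlgebraicGeometry TopologicalSpace Opposite

namespace Groth.Agent.Lib.Helper29.ExtDepthA

open Groth.Agent.Lib.Helper2.FlatOver Groth.Agent.Lib.Helper28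
  Groth.Agent.Lib.Helper14.DepthAlongB Groth.Agent.Lib.Helper14.SheafHomDepth

variable {X : Scheme.{u}}

/-- membership in the support of a quasi-coherent module via sections on an affine open. -/
theorem mem_support_iff (G : X.Modules) [G.IsQuasicoherent] {W : X.Opens} (hW : IsAffineOpen W)
    (x : X) (hx : x ∈ W) :
    x ∈ CohB1.support G ↔ hW.primeIdealOf ⟨x, hx⟩ ∈ Module.support Γ(X, W) Γ(G, W) := by
  letI := moduleStalkSections G W x hx
  haveI := isLocalizedModule_germ hW G x hx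
  rw [← not_iff_not, Module.notMem_support_iff]
  have h1 : x ∉ CohB1.support G ↔ Subsingleton (G.presheaf.stalk x) := by
    unfold CohB1.support
    exact not_not
  rw [h1]
  exact (IsLocalizedModule.iso (hW.primeIdealOf ⟨x, hx⟩).asIdeal.primeCompl
    (germₗ G W x hx)).toEquiv.subsingleton_congr.symm

variable [IsLocallyNoetherian X]

section

variable (U : X.Opens) (F G : X.Modules) (hF : Coh.IsCoh F) (hG : Coh.IsCoh G) (n : ℕ)
  {W : X.Opens} (hW : IsAffineOpen W)

include hF hG hW in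
/-- `Ext` vanishing on an affine open gives the depth bound along `Y ∩ W`. -/
theorem depth_ge_of_ext_vanish (hsupp : CohB1.support G = (U : Set X)ᶜ)
    (hext : ∀ i < n, Subsingleton (Abelian.Ext (ModuleCat.of Γ(X, W) Γ(G, W))
      (ModuleCat.of Γ(X, W) Γ(F, W)) i))
    (x : X) (hxW : x ∈ W) (hxU : x ∉ (U : Set X)) :
    (n : ℕ∞) ≤ LocCoh.depth (X.presheaf.stalk x) (F.presheaf.stalk x) := by
  haveI : F.IsQuasicoherent := hF.1
  haveI : SheafOfModules.IsFiniteType (R := X.ringCatSheaf) F := hF.2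
  haveI : G.IsQuasicoherent := hG.1
  haveI : SheafOfModules.IsFiniteType (R := X.ringCatSheaf) G := hG.2
  haveI : IsNoetherianRing Γ(X, W) := IsLocallyNoetherian.component_noetherian ⟨W, hW⟩
  haveI : Module.Finite Γ(X, W) Γ(F, W) :=
    Groth.Agent.Lib.Helper23.FinType.finite_of_isFiniteType F hW
  haveI : Module.Finite Γ(X, W) Γ(G, W) :=
    Groth.Agent.Lib.Helper23.FinType.finite_of_isFiniteType G hW
  obtain ⟨I, hI⟩ := exists_ideal_of_isClosed ((U : Set X)ᶜ) U.isOpen.isClosed_compl hW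
  -- the support of `N`
  have hsuppN : Module.support Γ(X, W) Γ(G, W) = PrimeSpectrum.zeroLocus (I : Set Γ(X, W)) := by
    ext p
    obtain ⟨z, hz, rfl⟩ := exists_primeIdealOf_eq hW p
    rw [← mem_support_iff G hW z hz, hsupp, PrimeSpectrum.mem_zeroLocus, hI z hz]
    rfl
  rw [(stalk_eq F hF hW x hxW).1]
  refine le_trans ?_ (idealDepth_le_depth_localization (hW.primeIdealOf ⟨x, hxW⟩).asIdeal
    Γ(F, W) ((hI x hxW).mp hxU))
  by_cases hIM : I • (⊤ : Submodule Γ(X, W) Γ(F, W)) = ⊤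
  · rw [idealDepth_eq_top_of_smul_top_eq_top I _ hIM]
    exact le_top
  · obtain ⟨rs, hlen, hmem, hreg⟩ := ModuleCat.exists_isRegular_of_exists_subsingleton_ext I n
      (ModuleCat.of Γ(X, W) Γ(F, W)) (lt_top_iff_ne_top.mpr hIM)
      (ModuleCat.of Γ(X, W) Γ(G, W)) hsuppN hext
    rw [← hlen]
    exact length_le_idealDepth hreg.toIsWeaklyRegular hmem

include hF hG hW in
/-- the depth bound along `Y ∩ W` gives `Ext` vanishing on the affine open `W`. -/
theorem ext_vanish_of_depth_ge (hsupp : CohB1.support G ⊆ (U : Set X)ᶜ)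
    (hdepth : ∀ x : X, x ∈ W → x ∉ (U : Set X) →
      (n : ℕ∞) ≤ LocCoh.depth (X.presheaf.stalk x) (F.presheaf.stalk x))
    (i : ℕ) (hi : i < n) :
    Subsingleton (Abelian.Ext (ModuleCat.of Γ(X, W) Γ(G, W))
      (ModuleCat.of Γ(X, W) Γ(F, W)) i) := by
  haveI : F.IsQuasicoherent := hF.1
  haveI : SheafOfModules.IsFiniteType (R := X.ringCatSheaf) F := hF.2
  haveI : G.IsQuasicoherent := hG.1
  haveI : SheafOfModules.IsFiniteType (R := X.ringCatSheaf) G := hG.2
  haveI : IsNoetherianRing Γ(X, W) := IsLocallyNoetherian.component_noetherian ⟨W, hW⟩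
  haveI : Module.Finite Γ(X, W) Γ(F, W) :=
    Groth.Agent.Lib.Helper23.FinType.finite_of_isFiniteType F hW
  haveI : Module.Finite Γ(X, W) Γ(G, W) :=
    Groth.Agent.Lib.Helper23.FinType.finite_of_isFiniteType G hW
  obtain ⟨I, hI⟩ := exists_ideal_of_isClosed ((U : Set X)ᶜ) U.isOpen.isClosed_compl hW
  have hsuppN : Module.support Γ(X, W) Γ(G, W) ⊆ PrimeSpectrum.zeroLocus (I : Set Γ(X, W)) := by
    intro p hp
    obtain ⟨z, hz, rfl⟩ := exists_primeIdealOf_eq hW p
    rw [← mem_support_iff G hW z hz] at hp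
    rw [PrimeSpectrum.mem_zeroLocus]
    exact (hI z hz).mp (hsupp hp)
  -- the `I`-depth of `M`
  have hdepthI : (n : ℕ∞) ≤ LocCoh.idealDepth I Γ(F, W) := by
    rw [idealDepth_eq_iInf_depth_localization I Γ(F, W)]
    refine le_iInf₂ fun p hp => ?_
    obtain ⟨z, hz, rfl⟩ := exists_primeIdealOf_eq hW p
    rw [← (stalk_eq F hF hW z hz).1]
    exact hdepth z hz ((hI z hz).mpr hp)
  by_cases hIM : I • (⊤ : Submodule Γ(X, W) Γ(F, W)) = ⊤
  · -- `Supp N ∩ Supp M = ∅`
    obtain ⟨r, hr1, hr0⟩ := Submodule.exists_sub_one_mem_and_smul_eq_zero_of_fg_of_le_smul I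
      (⊤ : Submodule Γ(X, W) Γ(F, W)) Module.Finite.fg_top hIM.ge
    -- `r - 1 ∈ I ⊆ rad(Ann N)`
    have hrad : I ≤ (Module.annihilator Γ(X, W) Γ(G, W)).radical := by
      have := hsuppN
      rw [Module.support_eq_zeroLocus, PrimeSpectrum.zeroLocus_subset_zeroLocus_iff] at this
      exact this
    obtain ⟨k, hk⟩ := hrad hr1
    refine ⟨fun a b => ?_⟩
    have key : ∀ z : Abelian.Ext (ModuleCat.of Γ(X, W) Γ(G, W))
        (ModuleCat.of Γ(X, W) Γ(F, W)) i, z = 0 := by
      intro z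
      have hann : r ∈ Module.annihilator Γ(X, W) (ModuleCat.of Γ(X, W) Γ(F, W)) :=
        Module.mem_annihilator.mpr fun m => hr0 m trivial
      have h1 : r • z = 0 := ext_smul_eq_zero_of_mem_annihilator_right
        (R := Γ(X, W)) (N := ModuleCat.of Γ(X, W) Γ(G, W)) (M := ModuleCat.of Γ(X, W) Γ(F, W))
        hann z
      have hann2 : (r - 1) ^ k ∈ Module.annihilator Γ(X, W) (ModuleCat.of Γ(X, W) Γ(G, W)) := hk
      have h2 : (r - 1) ^ k • z = 0 := ext_smul_eq_zero_of_mem_annihilator_left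
        (R := Γ(X, W)) (N := ModuleCat.of Γ(X, W) Γ(G, W)) (M := ModuleCat.of Γ(X, W) Γ(F, W))
        hann2 z
      have h2' : (1 - r) ^ k • z = 0 := by
        have : (1 - r) ^ k = (-1) ^ k * (r - 1) ^ k := by
          rw [← mul_pow]; congr 1; ring
        rw [this, mul_smul, h2, smul_zero]
      obtain ⟨u, hu⟩ := sub_dvd_pow_sub_pow (1 : Γ(X, W)) (1 - r) k
      have h1u : (1 : Γ(X, W)) = u * r + (1 - r) ^ k := by
        rw [one_pow] at hu
        linear_combination hu
      calc z = (1 : Γ(X, W)) • z := (one_smul _ z).symm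
        _ = (u * r + (1 - r) ^ k) • z := by rw [← h1u]
        _ = u • (r • z) + (1 - r) ^ k • z := by rw [add_smul, mul_smul]
        _ = 0 := by rw [h1, h2', smul_zero, add_zero]
    rw [key a, key b]
  · obtain ⟨rs, hlen, hmem, hreg⟩ := (natCast_le_idealDepth_iff hIM n).mp hdepthI
    exact ModuleCat.subsingleton_ext_of_exists_isRegular I (ModuleCat.of Γ(X, W) Γ(G, W)) hsuppN
      (ModuleCat.of Γ(X, W) Γ(F, W)) (lt_top_iff_ne_top.mpr hIM) rs hmem hreg i (hlen ▸ hi)

end

end Groth.Agent.Lib.Helper29.ExtDepthA
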