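import Mathlib
import Groth.Prelude.Def_Coh
import Groth.Prelude.Def_CohB1
import Groth.Agent.Lib.Helper4DevI

/-!
# A coherent module with prescribed closed support (helper29)

`exists_coh_support_eq`: on a locally Noetherian scheme, for every open `U` there is a coherent
module whose support is exactly the closed complement of `U` (the structure sheaf of the reduced
induced closed subscheme, pushed forward).
-/

set_option autoImplicit false
set_option linter.unusedVariables false
set_option linter.unusedSectionVars false
set_option linter.style.haveILetI false
universe u
open CategoryTheory CategoryTheory.Limits AlgebraicGeometry TopologicalSpace Opposite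

namespace Groth.Agent.Lib.Helper29.ExtDepthB

open Groth.Agent.Lib.Helper4.Dev

theorem exists_coh_support_eq (X : Scheme.{u}) [IsLocallyNoetherian X] (U : X.Opens) :
    ∃ G : X.Modules, Coh.IsCoh G ∧ CohB1.support G = (U : Set X)ᶜ := by
  let Z : Closeds X := ⟨(U : Set X)ᶜ, U.isOpen.isClosed_compl⟩
  let I := Scheme.IdealSheafData.vanishingIdeal Z
  have hrange : Set.range I.subschemeι = (U : Set X)ᶜ := by
    rw [I.range_subschemeι, Scheme.IdealSheafData.coe_support_vanishingIdeal]
    rfl
  refine ⟨(Scheme.Modules.pushforward I.subschemeι).obj (Coh.structureModule I.subscheme),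
    isCoh_push_closed I.subschemeι _ (isCoh_structureModule _), ?_⟩
  apply Set.Subset.antisymm
  · exact (support_push_subset I.subschemeι _).trans hrange.le
  · intro x hx
    rw [← hrange] at hx
    obtain ⟨z, rfl⟩ := hx
    intro hsub
    exact germ_pushOne_ne_zero I.subschemeι z (@Subsingleton.elim _ hsub _ _)

end Groth.Agent.Lib.Helper29.ExtDepthB
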