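import Mathlib
import Groth.Prelude.Def_Coh
import Groth.Prelude.Def_CohB1
import Groth.Prelude.Def_ModSite2
import Groth.Agent.Lib.Helper29ExtDepthA
import Groth.Agent.Lib.Helper29ExtDepthB
import Groth.Agent.Lib.Helper20OmegaUnr

/-!
# Depth of stalks along a closed subset versus vanishing of the local `Ext` sheaves (helper29)

Assuming the comparison `HSec F` between sections of `ℰxt^i(G, F)` over affine opens and
`Ext^i` of the modules of sections (S14409-type statement), for a locally Noetherian scheme `X`,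
an open `U` with closed complement `Y` and a coherent `F`:

* `depth_ge_of_exists`: if some coherent `G` with `Supp G = Y` has `ℰxt^i(G, F) = 0` for `i < n`
  then `depth F_x ≥ n` on `Y`;
* `isZero_of_depth_ge`: if `depth F_x ≥ n` on `Y` then `ℰxt^i(G, F) = 0` for `i < n` and every
  coherent `G` supported in `Y`.
-/

set_option autoImplicit false
set_option linter.unusedVariables false
set_option linter.unusedSectionVars false
set_option linter.style.haveILetI false
set_option maxHeartbeats 400000
universe u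
open CategoryTheory CategoryTheory.Limits AlgebraicGeometry TopologicalSpace Opposite
open Coherent

namespace Groth.Agent.Lib.Helper29.ExtDepthC

open Groth.Agent.Lib.Helper29.ExtDepthA Groth.Agent.Lib.Helper29.ExtDepthB
  Groth.Agent.Lib.Helper14.SheafHomDepth

variable {X : Scheme.{u}} [IsLocallyNoetherian X]
  [HasInjectiveResolutions (ModSite.Mod X.sheaf)]

/-- the comparison of sections of the local `Ext` sheaves `ℰxt^i(G, F)` over affine opens with
`Ext` of the modules of sections. -/
def HSec (G F : X.Modules) [ModSite.HasSheafHom (O := X.sheaf) G] : Prop :=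
  ∀ (W : X.Opens), IsAffineOpen W → ∀ i : ℕ,
    Nonempty (((ModSite.extSh (O := X.sheaf) G i).obj F).val.obj (op W) ≃ₗ[Γ(X, W)]
      Abelian.Ext (ModuleCat.of Γ(X, W) (G.val.obj (op W)))
        (ModuleCat.of Γ(X, W) (F.val.obj (op W))) i)

variable (U : X.Opens) (F : X.Modules) (hF : Coh.IsCoh F) (n : ℕ)

include hF in
theorem depth_ge_of_isZero (G : X.Modules) [ModSite.HasSheafHom (O := X.sheaf) G]
    (hG : Coh.IsCoh G) (hsec : HSec G F) (hsupp : CohB1.support G = (U : Set X)ᶜ)
    (hz : ∀ i : ℕ, i < n → IsZero ((ModSite.extSh (O := X.sheaf) G i).obj F))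
    (x : X) (hx : x ∉ (U : Set X)) :
    (n : ℕ∞) ≤ LocCoh.depth (X.presheaf.stalk x) (F.presheaf.stalk x) := by
  obtain ⟨W, hW, hxW⟩ := exists_affine_mem x
  refine depth_ge_of_ext_vanish U F G hF hG n hW hsupp ?_ x hxW hx
  intro i hi
  obtain ⟨e⟩ := hsec W hW i
  haveI : Subsingleton (((ModSite.extSh (O := X.sheaf) G i).obj F).val.obj (op W)) :=
    Groth.Agent.Lib.Helper20.OmegaUnr.subsingleton_sections_of_isZero
      (M := (ModSite.extSh (O := X.sheaf) G i).obj F) (hz i hi) W
  exact e.symm.toEquiv.subsingleton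

include hF in
theorem isZero_of_depth_ge (G : X.Modules) [ModSite.HasSheafHom (O := X.sheaf) G]
    (hG : Coh.IsCoh G) (hsec : HSec G F)
    (hdepth : ∀ x : X, x ∉ (U : Set X) →
      (n : ℕ∞) ≤ LocCoh.depth (X.presheaf.stalk x) (F.presheaf.stalk x))
    (hsupp : ∀ x ∈ CohB1.support G, x ∉ (U : Set X))
    (i : ℕ) (hi : i < n) :
    IsZero ((ModSite.extSh (O := X.sheaf) G i).obj F) := by
  refine Groth.Agent.Lib.Helper20.OmegaUnr.isZero_of_basis
    (M := (ModSite.extSh (O := X.sheaf) G i).obj F) {W : X.Opens | IsAffineOpen W}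
    X.isBasis_affineOpens ?_
  intro W hW
  obtain ⟨e⟩ := hsec W hW i
  haveI : Subsingleton (Abelian.Ext (ModuleCat.of Γ(X, W) (G.val.obj (op W)))
      (ModuleCat.of Γ(X, W) (F.val.obj (op W))) i) :=
    ext_vanish_of_depth_ge U F G hF hG n hW (fun x hx => hsupp x hx)
      (fun x _ hxU => hdepth x hxU) i hi
  exact e.toEquiv.subsingleton

include hF in
theorem depth_ge_iff [∀ M : X.Modules, ModSite.HasSheafHom (O := X.sheaf) M]
    (hsec : ∀ G : X.Modules, Coh.IsCoh G → HSec G F) :
    (∀ x : X, x ∉ (U : Set X) →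
      (n : ℕ∞) ≤ LocCoh.depth (X.presheaf.stalk x) (F.presheaf.stalk x)) ↔
      ∀ G : X.Modules, Coh.IsCoh G → (∀ x ∈ CohB1.support G, x ∉ (U : Set X)) →
        ∀ i : ℕ, i < n → IsZero ((ModSite.extSh (O := X.sheaf) G i).obj F) := by
  constructor
  · intro hdepth G hG hsupp i hi
    exact isZero_of_depth_ge U F hF n G hG (hsec G hG) hdepth hsupp i hi
  · intro h x hx
    obtain ⟨G, hG, hsupp⟩ := exists_coh_support_eq X U
    refine depth_ge_of_isZero U F hF n G hG (hsec G hG) hsupp (fun i hi => ?_) x hx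
    exact h G hG (fun y hy => by rw [hsupp] at hy; exact hy) i hi

end Groth.Agent.Lib.Helper29.ExtDepthC
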