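import Mathlib
import Groth.Prelude.Def_SpSeq

/-!
# Vanishing of an abutment from vanishing of one anti-diagonal of a page (helper29)

`isZero_abutment`: if all terms `E_r^{p, n-p}` of total degree `n` of some page of a cohomological
spectral sequence vanish and the filtration on `H n` is finite, then `H n = 0`.
(Adapted from helper17's `Helper17SSSerre.prop_abutment`, which needs the whole page in the class.)
-/

set_option autoImplicit false
universe v u
open CategoryTheory Limits

namespace Groth.Agent.Lib.Helper29.SSVanish

variable {C : Type u} [Category.{v} C] [Abelian C] {r₀ : ℤ}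

/-- vanishing of the terms of total degree `n` propagates to later pages. -/
theorem isZero_page (E : CohomologicalSpectralSequence C r₀) (r : ℤ) (hr : r₀ ≤ r) (pq : ℤ × ℤ)
    (h : IsZero ((E.page r hr).X pq)) :
    ∀ (k : ℤ) (hk : r ≤ k), IsZero ((E.page k (hr.trans hk)).X pq) := by
  intro k hk
  induction k, hk using Int.leInduction with
  | base => exact h
  | succ k hk ih =>
    refine IsZero.of_iso ?_ (E.iso k (k + 1) pq rfl (hr.trans hk)).symm
    exact ShortComplex.isZero_homology_of_isZero_X₂ _ ih

/-- vanishing of a term on some page gives vanishing of the corresponding graded piece. -/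
theorem isZero_grPiece (E : CohomologicalSpectralSequence C r₀) {H : ℤ → C}
    (a : SpSeq.Abutment E H) (r : ℤ) (hr : r₀ ≤ r) (n p : ℤ)
    (h : IsZero ((E.page r hr).X (p, n - p))) :
    IsZero (SpSeq.grPiece (a.fil n) (a.anti n) p) := by
  have h1 : IsZero ((E.page (a.rk (p, n - p)) (a.stat (p, n - p)).1).X (p, n - p)) := by
    by_cases hle : r ≤ a.rk (p, n - p)
    · exact isZero_page E r hr _ h _ hle
    · rw [not_le] at hle
      have key : ∀ (k : ℤ) (hk : a.rk (p, n - p) ≤ k),
          IsZero ((E.page k ((a.stat (p, n - p)).1.trans hk)).X (p, n - p)) →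
          IsZero ((E.page (a.rk (p, n - p)) (a.stat (p, n - p)).1).X (p, n - p)) := by
        intro k hk
        induction k, hk using Int.leInduction with
        | base => exact id
        | succ k hk ih =>
          intro hz
          apply ih
          obtain ⟨h1, h2⟩ := (a.stat (p, n - p)).2 k ((a.stat (p, n - p)).1.trans hk) hk
          have hprev : (ComplexShape.up' (⟨k, 1 - k⟩ : ℤ × ℤ)).prev (p, n - p) =
              (p, n - p) - (k, 1 - k) :=
            (ComplexShape.up' (⟨k, 1 - k⟩ : ℤ × ℤ)).prev_eq' (by
              change (p, n - p) - (k, 1 - k) + (k, 1 - k) = (p, n - p)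
              simp)
          have hnext : (ComplexShape.up' (⟨k, 1 - k⟩ : ℤ × ℤ)).next (p, n - p) =
              (p, n - p) + (k, 1 - k) :=
            (ComplexShape.up' (⟨k, 1 - k⟩ : ℤ × ℤ)).next_eq' (by
              change (p, n - p) + (k, 1 - k) = (p, n - p) + (k, 1 - k)
              rfl)
          have hf : ((E.page k ((a.stat (p, n - p)).1.trans hk)).sc (p, n - p)).f = 0 := by
            change (E.page k ((a.stat (p, n - p)).1.trans hk)).d
              ((ComplexShape.up' (⟨k, 1 - k⟩ : ℤ × ℤ)).prev (p, n - p)) (p, n - p) = 0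
            rw [hprev]; exact h1
          have hg : ((E.page k ((a.stat (p, n - p)).1.trans hk)).sc (p, n - p)).g = 0 := by
            change (E.page k ((a.stat (p, n - p)).1.trans hk)).d (p, n - p)
              ((ComplexShape.up' (⟨k, 1 - k⟩ : ℤ × ℤ)).next (p, n - p)) = 0
            rw [hnext]; exact h2
          have e : (E.page k ((a.stat (p, n - p)).1.trans hk)).homology (p, n - p) ≅
              (E.page k ((a.stat (p, n - p)).1.trans hk)).X (p, n - p) :=
            (ShortComplex.HomologyData.ofZeros
              ((E.page k ((a.stat (p, n - p)).1.trans hk)).sc (p, n - p)) hf hg).left.homologyIso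
          exact IsZero.of_iso hz
            (e.symm ≪≫ E.iso k (k + 1) (p, n - p) rfl ((a.stat (p, n - p)).1.trans hk))
      exact key r hle.le h
  have h2 := IsZero.of_iso h1 (a.β (p, n - p)).symm
  have e : p + (n - p) = n := by ring
  simp only at h2
  rw [e] at h2
  exact h2

/-- **Vanishing of the abutment in degree `n`** from vanishing of the anti-diagonal `p + q = n`
of one page. -/
theorem isZero_abutment (E : CohomologicalSpectralSequence C r₀) {H : ℤ → C}
    (a : SpSeq.Abutment E H) (r : ℤ) (hr : r₀ ≤ r) (n : ℤ)
    (h : ∀ p : ℤ, IsZero ((E.page r hr).X (p, n - p))) (hfin : a.IsFinite n) :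
    IsZero (H n) := by
  obtain ⟨⟨a₀, ha₀⟩, ⟨b₀, hb₀⟩⟩ := hfin
  let F : ℤ → Subobject (H n) := a.fil n
  have hanti : Antitone F := a.anti n
  have ha₀' : F a₀ = ⊤ := ha₀
  have hb₀' : F b₀ = ⊥ := hb₀
  set b : ℤ := max a₀ b₀ with hb
  have hFb : F b = ⊥ := le_bot_iff.1 (hb₀' ▸ hanti (le_max_right a₀ b₀))
  have hgr : ∀ p, IsZero (SpSeq.grPiece F hanti p) := fun p =>
    isZero_grPiece E a r hr n p (h p)
  have key : ∀ p : ℤ, p ≤ b → IsZero ((F p : C)) := by
    intro p hp
    induction p, hp using Int.leInductionDown with
    | base =>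
      rw [hFb]
      exact (Subobject.botCoeIsoZero (B := H n)).isZero_iff.2 (isZero_zero C)
    | pred p hp ih =>
      have hg := hgr (p - 1)
      unfold SpSeq.grPiece SpSeq.subquot at hg
      have hS : (ShortComplex.mk ((F (p - 1 + 1)).ofLE (F (p - 1)) (hanti (Int.le_add_one le_rfl)))
          (cokernel.π _) (cokernel.condition _)).ShortExact :=
        { exact := ShortComplex.exact_cokernel _
          mono_f := by dsimp; infer_instance
          epi_g := by dsimp; infer_instance }
      have hp1 : IsZero ((F (p - 1 + 1) : C)) := by rw [sub_add_cancel]; exact ih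
      exact hS.exact.isZero_X₂ (hp1.eq_of_src _ _) (hg.eq_of_tgt _ _)
  have htop : IsZero ((F a₀ : C)) := key a₀ (le_max_left a₀ b₀)
  rw [ha₀'] at htop
  exact IsZero.of_iso htop (asIso (⊤ : Subobject (H n)).arrow).symm

end Groth.Agent.Lib.Helper29.SSVanish
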