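import Mathlib
import Groth.Prelude.Def_ModSite2
import Groth.Prelude.Def_SpSeq
import Groth.Agent.Lib.Helper29SSVanish
import Groth.Agent.S12895

/-!
# Global `Ext` vanishes below `r` if the local `Ext` sheaves do (helper29)

`ext_subsingleton_of_isZero_extSh`: on a small ringed site, if `ℰxt^q(M, N) = 0` for all `q < r`
then `Ext^i(M, N) = 0` for all `i < r` (from helper21's local-to-global spectral sequence S12895).
-/

set_option autoImplicit false
set_option linter.unusedVariables false
set_option linter.unusedSectionVars false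
universe u
open CategoryTheory CategoryTheory.Limits Opposite

namespace Groth.Agent.Lib.Helper29.ExtLocGlob

variable {C : Type u} [SmallCategory C] {J : GrothendieckTopology C}
  (O : Sheaf J CommRingCat.{u})

/-- the cohomology of a zero module vanishes. -/
theorem subsingleton_HC_of_isZero (F : ModSite.Mod O) (hF : IsZero F) (p : ℕ) :
    Subsingleton (ModSite.HC O F p) := by
  have hz : IsZero (ModSite.toAb F) :=
    (SheafOfModules.toSheaf (ModSite.ringSh O)).map_isZero hF
  refine ⟨fun a b => ?_⟩
  have key : ∀ c : ModSite.HC O F p, c = 0 := by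
    intro c
    have h0 : 𝟙 (ModSite.toAb F) = 0 := hz.eq_of_src _ _
    have h1 : c = c.comp (Abelian.Ext.mk₀ (𝟙 (ModSite.toAb F))) (add_zero p) :=
      (Abelian.Ext.comp_mk₀_id c).symm
    rw [h1, h0, Abelian.Ext.mk₀_zero, Abelian.Ext.comp_zero]
  rw [key a, key b]

theorem ext_subsingleton_of_isZero_extSh (M N : ModSite.Mod O)
    [ModSite.HasSheafHom M] [HasInjectiveResolutions (ModSite.Mod O)] [HasExt.{u} (ModSite.Mod O)]
    (r : ℕ) (hz : ∀ q : ℕ, q < r → IsZero ((ModSite.extSh M q).obj N)) (i : ℕ) (hi : i < r) :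
    Subsingleton (Abelian.Ext.{u} M N i) := by
  obtain ⟨E, a, hfin, -, hE2⟩ := Groth.Agent.S12895.result O M N
  have h := Groth.Agent.Lib.Helper29.SSVanish.isZero_abutment E a 2 le_rfl (i : ℤ) ?_ (hfin i)
  · rw [if_pos (Int.natCast_nonneg i)] at h
    have h2 := AddCommGrpCat.subsingleton_of_isZero h
    rw [Int.toNat_natCast] at h2
    exact h2
  · intro p
    obtain ⟨e⟩ := hE2 p ((i : ℤ) - p)
    refine IsZero.of_iso ?_ e
    by_cases hpq : 0 ≤ p ∧ 0 ≤ (i : ℤ) - p
    · rw [if_pos hpq]
      have hq : ((i : ℤ) - p).toNat < r := by omega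
      haveI := subsingleton_HC_of_isZero O _ (hz _ hq) p.toNat
      exact AddCommGrpCat.isZero_of_subsingleton _
    · rw [if_neg hpq]
      exact AddCommGrpCat.isZero_of_subsingleton _

end Groth.Agent.Lib.Helper29.ExtLocGlob
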