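import Mathlib
import Groth.Prelude.Def_W4c2filtblowupsingRees

set_option autoImplicit false
set_option linter.style.haveILetI false
universe u

namespace Groth.Agent.Lib.Helper29ExtRees

open Polynomial LaurentPolynomial FiltBl

variable {A : Type u} [CommRing A] (𝓕 : FiltBl.IdealFiltration A)

theorem single_mem {n : ℤ} {a : A} (ha : a ∈ 𝓕.F n.toNat) :
    (AddMonoidAlgebra.single n a : A[T;T⁻¹]) ∈ 𝓕.extRees := by
  intro m
  rw [AddMonoidAlgebra.coeff_single, Finsupp.single_apply]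
  split_ifs with h
  · subst h; exact ha
  · exact Ideal.zero_mem _

/-- the homogeneous component of degree `n` -/
noncomputable def comp (f : 𝓕.extRees) (n : ℤ) : 𝓕.extRees :=
  ⟨AddMonoidAlgebra.single n ((f : A[T;T⁻¹]).coeff n), single_mem 𝓕 (f.2 n)⟩

/-- the `ℤ`-grading of the extended Rees algebra -/
def grd (n : ℤ) : AddSubgroup 𝓕.extRees where
  carrier := {f | ∀ m, m ≠ n → (f : A[T;T⁻¹]).coeff m = 0}
  zero_mem' := fun m _ => rfl
  add_mem' := by
    intro f g hf hg m hm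
    have : ((f + g : 𝓕.extRees) : A[T;T⁻¹]).coeff m = (f : A[T;T⁻¹]).coeff m +
      (g : A[T;T⁻¹]).coeff m := rfl
    rw [this, hf m hm, hg m hm, add_zero]
  neg_mem' := by
    intro f hf m hm
    have : ((-f : 𝓕.extRees) : A[T;T⁻¹]).coeff m = - (f : A[T;T⁻¹]).coeff m := rfl
    rw [this, hf m hm, neg_zero]

theorem mem_grd {n : ℤ} {f : 𝓕.extRees} :
    f ∈ grd 𝓕 n ↔ ∀ m, m ≠ n → (f : A[T;T⁻¹]).coeff m = 0 := Iff.rfl

theorem comp_mem (f : 𝓕.extRees) (n : ℤ) : comp 𝓕 f n ∈ grd 𝓕 n := by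
  intro m hm
  show (AddMonoidAlgebra.single n ((f : A[T;T⁻¹]).coeff n) : A[T;T⁻¹]).coeff m = 0
  rw [AddMonoidAlgebra.coeff_single, Finsupp.single_apply, if_neg (Ne.symm hm)]

theorem coe_eq_single_of_mem {n : ℤ} {f : 𝓕.extRees} (hf : f ∈ grd 𝓕 n) :
    (f : A[T;T⁻¹]) = AddMonoidAlgebra.single n ((f : A[T;T⁻¹]).coeff n) := by
  apply LaurentPolynomial.ext
  intro m
  rw [AddMonoidAlgebra.coeff_single, Finsupp.single_apply]
  split_ifs with h
  · subst h; rfl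
  · exact hf m (Ne.symm h)

theorem eq_comp_of_mem {n : ℤ} {f : 𝓕.extRees} (hf : f ∈ grd 𝓕 n) : f = comp 𝓕 f n :=
  Subtype.ext (coe_eq_single_of_mem 𝓕 hf)

instance : SetLike.GradedMonoid (grd 𝓕) where
  one_mem := by
    intro m hm
    show (1 : A[T;T⁻¹]).coeff m = 0
    rw [← LaurentPolynomial.T_zero, LaurentPolynomial.T_apply, if_neg (Ne.symm hm)]
  mul_mem := by
    intro i j f g hf hg m hm
    show ((f : A[T;T⁻¹]) * (g : A[T;T⁻¹])).coeff m = 0
    rw [coe_eq_single_of_mem 𝓕 hf, coe_eq_single_of_mem 𝓕 hg, AddMonoidAlgebra.single_mul_single,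
      AddMonoidAlgebra.coeff_single, Finsupp.single_apply, if_neg (Ne.symm hm)]


section Decomp
open DirectSum

theorem comp_eq_zero_of_notMem (f : 𝓕.extRees) {n : ℤ}
    (hn : n ∉ (f : A[T;T⁻¹]).coeff.support) : comp 𝓕 f n = 0 := by
  apply Subtype.ext
  show (AddMonoidAlgebra.single n ((f : A[T;T⁻¹]).coeff n) : A[T;T⁻¹]) = 0
  rw [Finsupp.notMem_support_iff.mp hn, AddMonoidAlgebra.single_zero]

/-- the decomposition map -/
noncomputable def dec (f : 𝓕.extRees) : ⨁ n, grd 𝓕 n :=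
  DirectSum.mk (fun n => grd 𝓕 n) (f : A[T;T⁻¹]).coeff.support
    (fun n => ⟨comp 𝓕 f n, comp_mem 𝓕 f n⟩)

theorem dec_apply (f : 𝓕.extRees) (n : ℤ) : ((dec 𝓕 f) n : 𝓕.extRees) = comp 𝓕 f n := by
  classical
  by_cases hn : n ∈ (f : A[T;T⁻¹]).coeff.support
  · unfold dec
    rw [DirectSum.mk_apply_of_mem hn]
  · unfold dec
    rw [DirectSum.mk_apply_of_notMem hn, comp_eq_zero_of_notMem 𝓕 f hn]
    rfl

theorem coeff_coe (x : ⨁ n, grd 𝓕 n) (m : ℤ) :
    ((DirectSum.coeAddMonoidHom (grd 𝓕) x : 𝓕.extRees) : A[T;T⁻¹]).coeff m =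
      (((x m : grd 𝓕 m) : 𝓕.extRees) : A[T;T⁻¹]).coeff m := by
  classical
  induction x using DirectSum.induction_on with
  | zero => simp
  | of i y =>
    rw [DirectSum.coeAddMonoidHom_of]
    by_cases h : i = m
    · subst h
      rw [DirectSum.of_eq_same]
    · rw [DirectSum.of_eq_of_ne _ _ _ (Ne.symm h)]
      exact y.2 m (Ne.symm h)
  | add x y hx hy =>
    rw [map_add, DirectSum.add_apply]
    have e1 : ((((DirectSum.coeAddMonoidHom (grd 𝓕)) x + (DirectSum.coeAddMonoidHom (grd 𝓕)) y :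
      𝓕.extRees) : A[T;T⁻¹])).coeff m = ((DirectSum.coeAddMonoidHom (grd 𝓕) x : 𝓕.extRees) :
        A[T;T⁻¹]).coeff m + ((DirectSum.coeAddMonoidHom (grd 𝓕) y : 𝓕.extRees) :
        A[T;T⁻¹]).coeff m := rfl
    rw [e1, hx, hy]
    rfl

noncomputable instance : DirectSum.Decomposition (grd 𝓕) where
  decompose' := dec 𝓕
  left_inv := by
    intro f
    apply Subtype.ext
    apply LaurentPolynomial.ext
    intro m
    rw [coeff_coe, dec_apply]
    show (AddMonoidAlgebra.single m ((f : A[T;T⁻¹]).coeff m) : A[T;T⁻¹]).coeff m = _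
    rw [AddMonoidAlgebra.coeff_single, Finsupp.single_eq_same]
  right_inv := by
    intro x
    apply DirectSum.ext_iff.mpr  -- placeholder
    intro n
    apply Subtype.ext
    rw [dec_apply]
    apply Subtype.ext
    show (AddMonoidAlgebra.single n (((DirectSum.coeAddMonoidHom (grd 𝓕) x : 𝓕.extRees) :
      A[T;T⁻¹]).coeff n) : A[T;T⁻¹]) = _
    rw [coeff_coe]
    exact (coe_eq_single_of_mem 𝓕 (x n).2).symm

noncomputable instance : GradedRing (grd 𝓕) where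

end Decomp


section Basic

theorem coe_u : ((𝓕.u : 𝓕.extRees) : A[T;T⁻¹]) = T (-1) := rfl

theorem u_mem_grd : 𝓕.u ∈ grd 𝓕 (-1) := by
  intro m hm
  rw [coe_u, LaurentPolynomial.T_apply, if_neg (Ne.symm hm)]

theorem u_mem_nonZeroDivisors : 𝓕.u ∈ nonZeroDivisors 𝓕.extRees := by
  rw [mem_nonZeroDivisors_iff_right]
  intro z hz
  apply Subtype.ext
  have h1 : (z : A[T;T⁻¹]) * T (-1) = 0 := congrArg Subtype.val hz
  have h2 : (z : A[T;T⁻¹]) = (z : A[T;T⁻¹]) * T (-1) * T 1 := by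
    rw [mul_assoc, ← T_add]; simp
  rw [h2, h1, zero_mul]
  rfl

theorem algebraMap_eq (x : 𝓕.extRees) : algebraMap 𝓕.extRees A[T;T⁻¹] x = (x : A[T;T⁻¹]) := rfl

theorem coeff_mul_T (z : A[T;T⁻¹]) (k n : ℤ) : (z * T k).coeff n = z.coeff (n - k) := by
  have : (T k : A[T;T⁻¹]) = AddMonoidAlgebra.single k 1 := rfl
  rw [this, AddMonoidAlgebra.coeff_mul_single_apply, mul_one, sub_eq_add_neg]

instance : IsLocalization.Away 𝓕.u A[T;T⁻¹] where
  map_units := by
    rintro ⟨y, k, rfl⟩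
    rw [map_pow, algebraMap_eq, coe_u]
    exact (isUnit_T (-1)).pow k
  surj := by
    intro z
    obtain ⟨M, hM⟩ := z.coeff.support.exists_le
    have hmem : z * T (-(M.toNat : ℤ)) ∈ 𝓕.extRees := by
      intro n
      rw [coeff_mul_T]
      by_cases hn : n ≤ 0
      · have : n.toNat = 0 := by omega
        rw [this, 𝓕.zero_eq]
        exact Submodule.mem_top
      · have hns : n - -(M.toNat : ℤ) ∉ z.coeff.support := by
          intro h
          have := hM _ h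
          omega
        rw [Finsupp.notMem_support_iff.mp hns]
        exact Ideal.zero_mem _
    refine ⟨(⟨z * T (-(M.toNat : ℤ)), hmem⟩, ⟨𝓕.u ^ M.toNat, M.toNat, rfl⟩), ?_⟩
    show z * algebraMap 𝓕.extRees A[T;T⁻¹] (𝓕.u ^ M.toNat) = z * T (-(M.toNat : ℤ))
    rw [map_pow, algebraMap_eq, coe_u, T_pow]
    simp
  exists_of_eq := by
    intro x y h
    exact ⟨1, by rw [Subtype.ext h]⟩

end Basic


section Noeth

theorem toLaurent_mem {f : A[X]} (hf : f ∈ 𝓕.rees) : toLaurent f ∈ 𝓕.extRees := by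
  rw [f.as_sum_support, map_sum]
  refine Subalgebra.sum_mem _ fun n _ => ?_
  rw [← Polynomial.C_mul_X_pow_eq_monomial, Polynomial.toLaurent_C_mul_X_pow,
    ← LaurentPolynomial.single_eq_C_mul_T]
  apply single_mem
  simpa using hf n

/-- the inclusion of the Rees algebra into the extended Rees algebra -/
noncomputable def reesToExt : 𝓕.rees →+* 𝓕.extRees where
  toFun f := ⟨toLaurent (f : A[X]), toLaurent_mem 𝓕 f.2⟩
  map_one' := Subtype.ext (by simp)
  map_mul' f g := Subtype.ext (by simp)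
  map_zero' := Subtype.ext (by simp)
  map_add' f g := Subtype.ext (by simp)

theorem coe_reesToExt (f : 𝓕.rees) : ((reesToExt 𝓕 f : 𝓕.extRees) : A[T;T⁻¹]) =
    toLaurent (f : A[X]) := rfl

theorem monomial_mem {n : ℕ} {a : A} (ha : a ∈ 𝓕.F n) : Polynomial.monomial n a ∈ 𝓕.rees := by
  intro m
  rw [Polynomial.coeff_monomial]
  split_ifs with h
  · subst h; exact ha
  · exact Ideal.zero_mem _

/-- the surjection `R[Y] → R'`, `Y ↦ u` -/
noncomputable def evalHom : (𝓕.rees)[X] →+* 𝓕.extRees :=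
  Polynomial.eval₂RingHom (reesToExt 𝓕) 𝓕.u

theorem evalHom_surjective : Function.Surjective (evalHom 𝓕) := by
  intro f
  refine DirectSum.Decomposition.inductionOn (grd 𝓕)
    (motive := fun f => ∃ a, evalHom 𝓕 a = f) ⟨0, map_zero _⟩
    ?_ (fun m m' hm hm' => by
      obtain ⟨a, rfl⟩ := hm
      obtain ⟨b, rfl⟩ := hm'
      exact ⟨a + b, map_add _ _ _⟩) f
  intro i m
  have hm := m.2
  have ha : ((m : 𝓕.extRees) : A[T;T⁻¹]).coeff i ∈ 𝓕.F i.toNat := (m : 𝓕.extRees).2 i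
  set a := ((m : 𝓕.extRees) : A[T;T⁻¹]).coeff i with hadef
  rcases le_or_gt 0 i with hi | hi
  · refine ⟨Polynomial.C ⟨Polynomial.monomial i.toNat a, monomial_mem 𝓕 ha⟩, ?_⟩
    apply Subtype.ext
    unfold evalHom
    rw [Polynomial.coe_eval₂RingHom, Polynomial.eval₂_C, coe_reesToExt,
      coe_eq_single_of_mem 𝓕 hm, ← hadef]
    show toLaurent (Polynomial.monomial i.toNat a) = _
    rw [← Polynomial.C_mul_X_pow_eq_monomial, Polynomial.toLaurent_C_mul_X_pow,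
      ← LaurentPolynomial.single_eq_C_mul_T, Int.toNat_of_nonneg hi]
  · have h0 : (0 : ℕ) = (0 : ℤ).toNat := rfl
    refine ⟨Polynomial.C ⟨Polynomial.monomial 0 a, monomial_mem 𝓕 (by
      rw [𝓕.zero_eq]; exact Submodule.mem_top)⟩ * Polynomial.X ^ (-i).toNat, ?_⟩
    apply Subtype.ext
    unfold evalHom
    rw [Polynomial.coe_eval₂RingHom, Polynomial.eval₂_mul, Polynomial.eval₂_C,
      Polynomial.eval₂_pow, Polynomial.eval₂_X]
    show ((reesToExt 𝓕 _ : 𝓕.extRees) : A[T;T⁻¹]) * ((𝓕.u : 𝓕.extRees) : A[T;T⁻¹]) ^ (-i).toNat = _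
    rw [coe_reesToExt, coe_u, coe_eq_single_of_mem 𝓕 hm, ← hadef]
    show toLaurent (Polynomial.monomial 0 a) * _ = _
    rw [Polynomial.monomial_zero_left, Polynomial.toLaurent_C, T_pow,
      LaurentPolynomial.single_eq_C_mul_T]
    congr 2
    rw [Int.toNat_of_nonneg (by omega)]
    ring

theorem isNoetherianRing_extRees [IsNoetherianRing A] (hfg : Algebra.FiniteType A 𝓕.rees) :
    IsNoetherianRing 𝓕.extRees := by
  haveI : IsNoetherianRing 𝓕.rees := Algebra.FiniteType.isNoetherianRing A 𝓕.rees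
  exact isNoetherianRing_of_surjective _ _ _ (evalHom_surjective 𝓕)

end Noeth


section Mst

theorem F_le_one {n : ℤ} (hn : 0 < n) : 𝓕.F n.toNat ≤ 𝓕.F 1 :=
  𝓕.antitone (by omega)

theorem coeff_zero_mul (f g : 𝓕.extRees) :
    ((f * g : 𝓕.extRees) : A[T;T⁻¹]).coeff 0 -
      (f : A[T;T⁻¹]).coeff 0 * (g : A[T;T⁻¹]).coeff 0 ∈ 𝓕.F 1 := by
  classical
  have h1 : ((f * g : 𝓕.extRees) : A[T;T⁻¹]).coeff 0 =
      ∑ h ∈ insert 0 (f : A[T;T⁻¹]).coeff.support,
        (f : A[T;T⁻¹]).coeff h * (g : A[T;T⁻¹]).coeff (-h + 0) := by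
    show ((f : A[T;T⁻¹]) * (g : A[T;T⁻¹])).coeff 0 = _
    rw [AddMonoidAlgebra.coeff_mul_apply_left, Finsupp.sum]
    by_cases h0 : (0 : ℤ) ∈ (f : A[T;T⁻¹]).coeff.support
    · rw [Finset.insert_eq_of_mem h0]
    · rw [Finset.sum_insert h0, Finsupp.notMem_support_iff.mp h0, zero_mul, zero_add]
  rw [h1, ← Finset.add_sum_erase _ _ (Finset.mem_insert_self 0 _)]
  simp only [neg_zero, zero_add, add_sub_cancel_left]
  refine Ideal.sum_mem _ fun h hh => ?_
  have hne : h ≠ 0 := (Finset.mem_erase.mp hh).1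
  rcases lt_or_gt_of_ne hne with hlt | hgt
  · apply Ideal.mul_mem_left
    exact F_le_one 𝓕 (by omega) ((g : 𝓕.extRees).2 (-h + 0))
  · apply Ideal.mul_mem_right
    exact F_le_one 𝓕 hgt ((f : 𝓕.extRees).2 h)

variable (m : Ideal A)

/-- the ideal of elements of the extended Rees algebra whose constant coefficient lies in `m` -/
def Mst (hm : 𝓕.F 1 ≤ m) : Ideal 𝓕.extRees where
  carrier := {f | (f : A[T;T⁻¹]).coeff 0 ∈ m}
  zero_mem' := m.zero_mem
  add_mem' := by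
    intro f g hf hg
    exact m.add_mem hf hg
  smul_mem' := by
    intro c x hx
    have h1 := hm (coeff_zero_mul 𝓕 c x)
    have h2 : (c : A[T;T⁻¹]).coeff 0 * (x : A[T;T⁻¹]).coeff 0 ∈ m := m.mul_mem_left _ hx
    have h3 := m.add_mem h1 h2
    rw [sub_add_cancel] at h3
    exact h3

theorem mem_Mst (hm : 𝓕.F 1 ≤ m) {f : 𝓕.extRees} :
    f ∈ Mst 𝓕 m hm ↔ (f : A[T;T⁻¹]).coeff 0 ∈ m := Iff.rfl

theorem Mst_isPrime (hm : 𝓕.F 1 ≤ m) [hp : m.IsPrime] : (Mst 𝓕 m hm).IsPrime := by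
  refine ⟨?_, ?_⟩
  · intro h
    have h1 : (1 : 𝓕.extRees) ∈ Mst 𝓕 m hm := by rw [h]; exact Submodule.mem_top
    rw [mem_Mst] at h1
    have h2 : ((1 : 𝓕.extRees) : A[T;T⁻¹]).coeff 0 = 1 := by
      show (1 : A[T;T⁻¹]).coeff 0 = 1
      rw [← LaurentPolynomial.T_zero, LaurentPolynomial.T_apply, if_pos rfl]
    rw [h2] at h1
    exact hp.ne_top ((Ideal.eq_top_iff_one _).mpr h1)
  · intro f g hfg
    rw [mem_Mst] at hfg
    have h1 := hm (coeff_zero_mul 𝓕 f g)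
    have h3 := m.sub_mem hfg h1
    rw [sub_sub_cancel] at h3
    exact hp.mem_or_mem h3

theorem u_mem_Mst (hm : 𝓕.F 1 ≤ m) : 𝓕.u ∈ Mst 𝓕 m hm := by
  rw [mem_Mst, coe_u, LaurentPolynomial.T_apply, if_neg (by decide)]
  exact m.zero_mem

theorem coe_algebraMap (a : A) :
    ((algebraMap A 𝓕.extRees a : 𝓕.extRees) : A[T;T⁻¹]) = LaurentPolynomial.C a := rfl

/-- every proper homogeneous ideal lies in `Mst (maximalIdeal A)` -/
theorem le_Mst_of_isHomogeneous [IsLocalRing A] (hm : 𝓕.F 1 ≤ IsLocalRing.maximalIdeal A)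
    (J : Ideal 𝓕.extRees) (hJ : J.IsHomogeneous (grd 𝓕)) (hne : J ≠ ⊤) :
    J ≤ Mst 𝓕 (IsLocalRing.maximalIdeal A) hm := by
  intro f hf
  rw [mem_Mst]
  by_contra hnot
  have hunit : IsUnit ((f : A[T;T⁻¹]).coeff 0) := by
    by_contra h
    exact hnot ((IsLocalRing.mem_maximalIdeal _).mpr h)
  have h0 := hJ 0 hf
  have h1 : ((DirectSum.decompose (grd 𝓕) f 0 : grd 𝓕 0) : 𝓕.extRees) =
      algebraMap A 𝓕.extRees ((f : A[T;T⁻¹]).coeff 0) := by
    show ((dec 𝓕 f 0 : grd 𝓕 0) : 𝓕.extRees) = _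
    rw [dec_apply]
    apply Subtype.ext
    rw [coe_algebraMap]
    rfl
  rw [h1] at h0
  exact hne (Ideal.eq_top_of_isUnit_mem _ h0 (hunit.map (algebraMap A 𝓕.extRees)))

theorem F_one_le_maximalIdeal [IsLocalRing A] (hsep : ⨅ n, 𝓕.F n = ⊥) :
    𝓕.F 1 ≤ IsLocalRing.maximalIdeal A := by
  apply IsLocalRing.le_maximalIdeal
  intro h1
  have hall : ∀ n, 𝓕.F n = ⊤ := by
    intro n
    induction n with
    | zero => exact 𝓕.zero_eq
    | succ n ih =>
      have := 𝓕.mul_le n 1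
      rw [ih, h1, Ideal.top_mul] at this
      exact top_le_iff.mp this
  have : (⨅ n, 𝓕.F n) = ⊤ := by simp [hall]
  rw [hsep] at this
  exact bot_ne_top this

end Mst

end Groth.Agent.Lib.Helper29ExtRees
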