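import Mathlib
import Groth.Prelude.Def_CAlg
import Groth.Agent.Lib.Helper29ExtRees
import Groth.Agent.Lib.Helper29LocQuotNum
import Groth.Agent.Lib.Helper5GrLoc
import Groth.Agent.Lib.Helper5FinDimDepth

set_option autoImplicit false
set_option linter.style.haveILetI false
universe u

namespace Groth.Agent.Lib.Helper29ExtReesLoc

open Polynomial LaurentPolynomial FiltBl TensorProduct
open Groth.Agent.Lib.Helper28 IsLocalRing LocCoh Groth.Agent.Lib.Helper5.GenDepth
  Groth.Agent.Lib.Helper29ExtRees Groth.Agent.Lib.Helper29LocQuotNum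
  Groth.Agent.Lib.Helper5 Groth.Agent.Lib.Helper5.FBC Groth.Agent.Lib.Helper5.GrLoc
  Groth.Agent.Lib.Helper5.Coact

variable {A : Type u} [CommRing A] (𝓕 : FiltBl.IdealFiltration A)

section Away

variable [IsNoetherianRing 𝓕.extRees]

/-- the local ring of `R'` at the contraction of a prime `Q` of `A[T,T⁻¹]` has the same height
and depth as `A[T,T⁻¹]_Q`. -/
theorem height_dep_comap (Q : Ideal A[T;T⁻¹]) [Q.IsPrime] :
    (Q.comap (algebraMap 𝓕.extRees A[T;T⁻¹])).height = Q.height ∧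
      dep (Q.comap (algebraMap 𝓕.extRees A[T;T⁻¹])) 𝓕.extRees = dep Q A[T;T⁻¹] := by
  haveI : IsLocalization.AtPrime (Localization.AtPrime Q)
      (Q.comap (algebraMap 𝓕.extRees A[T;T⁻¹])) :=
    IsLocalization.isLocalization_isLocalization_atPrime_isLocalization (Submonoid.powers 𝓕.u)
      (Localization.AtPrime Q) Q
  haveI : IsLocalizedModule (Q.comap (algebraMap 𝓕.extRees A[T;T⁻¹])).primeCompl
      (Algebra.linearMap 𝓕.extRees (Localization.AtPrime Q)) :=
    isLocalizedModule_iff_isLocalization.mpr inferInstance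
  obtain ⟨h1, h2⟩ := FinDimDepth.transport_aux (Q.comap (algebraMap 𝓕.extRees A[T;T⁻¹]))
    𝓕.extRees (Localization.AtPrime Q) (Localization.AtPrime Q)
    (Algebra.linearMap 𝓕.extRees (Localization.AtPrime Q))
  constructor
  · have h3 : dm (Q.comap (algebraMap 𝓕.extRees A[T;T⁻¹])) 𝓕.extRees =
        Module.supportDim (Localization.AtPrime Q) (Localization.AtPrime Q) := h2.symm
    rw [dm_self, supportDim_localization_self] at h3
    exact WithBot.coe_injective h3
  · rw [dep_self Q]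
    exact h1.symm

end Away


section Laurent

variable [IsNoetherianRing A]

theorem exists_fib_nat (Q : Ideal A[T;T⁻¹]) [Q.IsPrime]
    [IsLocalRing (EGA4.FibLocRing A A[T;T⁻¹] Q)] :
    ∃ c : ℕ, ringKrullDim (EGA4.FibLocRing A A[T;T⁻¹] Q) = c ∧
      LocCoh.depth (EGA4.FibLocRing A A[T;T⁻¹] Q) (EGA4.FibLocRing A A[T;T⁻¹] Q) = c := by
  have cm1 := cm_fibLocRing ℤ A Q
  have k1 := cm1.supportDim_eq_depth
  rw [Module.supportDim_self_eq_ringKrullDim] at k1
  haveI : IsNoetherianRing (EGA4.FibLocRing A A[T;T⁻¹] Q) := cm1.1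
  have hnt : ringKrullDim (EGA4.FibLocRing A A[T;T⁻¹] Q) ≠ ⊤ := ringKrullDim_ne_top
  have hnb : ringKrullDim (EGA4.FibLocRing A A[T;T⁻¹] Q) ≠ ⊥ := ringKrullDim_ne_bot
  obtain ⟨d, hd⟩ := WithBot.ne_bot_iff_exists.mp hnb
  have hd' : d ≠ ⊤ := by
    intro h
    rw [h] at hd
    exact hnt hd.symm
  obtain ⟨c, hc⟩ := ENat.ne_top_iff_exists.mp hd'
  refine ⟨c, ?_, ?_⟩
  · rw [← hd, ← hc]; rfl
  · rw [← hd, ← hc] at k1
    exact (WithBot.coe_injective k1).symm

/-- flat base change along `A → A[T,T⁻¹]` -/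
theorem height_dep_laurent (Q : Ideal A[T;T⁻¹]) [Q.IsPrime] :
    ∃ c : ℕ, Q.height = (Q.comap (algebraMap A A[T;T⁻¹])).height + c ∧
      dep Q A[T;T⁻¹] = dep (Q.comap (algebraMap A A[T;T⁻¹])) A + c ∧
      ringKrullDim (EGA4.FibLocRing A A[T;T⁻¹] Q) = c := by
  haveI hN := isNoetherianRing_addMonoidAlgebra ℤ A
  haveI hl1 := isLocalRing_fibLocRing (A := A) Q
  obtain ⟨c, hc1, hc2⟩ := exists_fib_nat Q
  obtain ⟨a1, a2⟩ := fbc Q (Q.comap (algebraMap A A[T;T⁻¹])) rfl A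
  obtain ⟨b1, b2⟩ := dep_dm_congr Q (TensorProduct.AlgebraTensorModule.rid A A[T;T⁻¹] A[T;T⁻¹])
  refine ⟨c, ?_, ?_, hc1⟩
  · rw [b2, dm_self, dm_self, hc1] at a2
    exact WithBot.coe_injective a2
  · rw [b1, hc2] at a1
    exact a1

end Laurent


section LaurentMap

variable [IsNoetherianRing A]

theorem ringKrullDim_quotient_eq_zero {R : Type u} [CommRing R] [IsLocalRing R] (I : Ideal R)
    (hI : I = maximalIdeal R) : ringKrullDim (R ⧸ I) = 0 := by
  subst hI
  letI : Field (R ⧸ maximalIdeal R) := Ideal.Quotient.field (maximalIdeal R)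
  exact ringKrullDim_eq_zero_of_field _

/-- the extension of a prime `q` of `A` to `A[T,T⁻¹]` has the same height and depth -/
theorem height_dep_laurent_map (q : Ideal A) [q.IsPrime]
    [hQ : (q.map (algebraMap A A[T;T⁻¹])).IsPrime] :
    (q.map (algebraMap A A[T;T⁻¹])).height = q.height ∧
      dep (q.map (algebraMap A A[T;T⁻¹])) A[T;T⁻¹] = dep q A := by
  obtain ⟨c, h1, h2, h3⟩ := height_dep_laurent (q.map (algebraMap A A[T;T⁻¹]))
  have hcm : (q.map (algebraMap A A[T;T⁻¹])).comap (algebraMap A A[T;T⁻¹]) = q :=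
    comap_map_eq (ι := ℤ) q
  have h0 : ringKrullDim (EGA4.FibLocRing A A[T;T⁻¹] (q.map (algebraMap A A[T;T⁻¹]))) = 0 := by
    apply ringKrullDim_quotient_eq_zero
    rw [hcm, ← Localization.AtPrime.map_eq_maximalIdeal,
      IsScalarTower.algebraMap_eq A A[T;T⁻¹]
        (Localization.AtPrime (q.map (algebraMap A A[T;T⁻¹]))), ← Ideal.map_map]
  rw [h0] at h3
  have hc : c = 0 := by exact_mod_cast h3.symm
  subst hc
  constructor
  · rw [h1, Nat.cast_zero, add_zero]
    congr 1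
  · rw [h2, Nat.cast_zero, add_zero]
    exact dep_congr_ideal hcm A

end LaurentMap


section Cases

variable [IsNoetherianRing A] [IsNoetherianRing 𝓕.extRees]

/-- primes of `R'` not containing `u` -/
theorem case_notMem (P : Ideal 𝓕.extRees) [P.IsPrime] (hu : 𝓕.u ∉ P) :
    ∃ c : ℕ, P.height = (P.comap (algebraMap A 𝓕.extRees)).height + c ∧
      dep P 𝓕.extRees = dep (P.comap (algebraMap A 𝓕.extRees)) A + c := by
  have hdisj : Disjoint (Submonoid.powers 𝓕.u : Set 𝓕.extRees) (P : Set 𝓕.extRees) := by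
    rw [Set.disjoint_left]
    rintro x ⟨k, rfl⟩ hx
    exact hu (Ideal.IsPrime.mem_of_pow_mem inferInstance k hx)
  haveI hQ : (P.map (algebraMap 𝓕.extRees A[T;T⁻¹])).IsPrime :=
    IsLocalization.isPrime_of_isPrime_disjoint (Submonoid.powers 𝓕.u) _ P inferInstance hdisj
  have hcm : (P.map (algebraMap 𝓕.extRees A[T;T⁻¹])).comap (algebraMap 𝓕.extRees A[T;T⁻¹]) = P :=
    IsLocalization.under_map_of_isPrime_disjoint (Submonoid.powers 𝓕.u) _ inferInstance hdisj
  obtain ⟨h1, h2⟩ := height_dep_comap 𝓕 (P.map (algebraMap 𝓕.extRees A[T;T⁻¹]))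
  obtain ⟨c, h3, h4, -⟩ := height_dep_laurent (P.map (algebraMap 𝓕.extRees A[T;T⁻¹]))
  have hq : (P.map (algebraMap 𝓕.extRees A[T;T⁻¹])).comap (algebraMap A A[T;T⁻¹]) =
      P.comap (algebraMap A 𝓕.extRees) := by
    rw [IsScalarTower.algebraMap_eq A 𝓕.extRees A[T;T⁻¹], ← Ideal.comap_comap, hcm]
  refine ⟨c, ?_, ?_⟩
  · rw [← height_congr_ideal hcm, h1, h3, height_congr_ideal hq]
  · rw [← dep_congr_ideal hcm, h2, h4, dep_congr_ideal hq]

/-- the prime of `R'` over a prime `q` of `A` corresponding to the generic point of the fibre -/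
theorem case_base (q : Ideal A) [q.IsPrime] :
    ∃ (P : Ideal 𝓕.extRees) (_ : P.IsPrime),
      (∀ x : 𝓕.extRees, x ∈ P ↔ ∀ n : ℤ, (x : A[T;T⁻¹]).coeff n ∈ q) ∧
      P.height = q.height ∧ dep P 𝓕.extRees = dep q A := by
  haveI hU := uniqueSums ℤ
  haveI hQ : (q.map (algebraMap A A[T;T⁻¹])).IsPrime := map_isPrime q
  obtain ⟨h1, h2⟩ := height_dep_comap 𝓕 (q.map (algebraMap A A[T;T⁻¹]))
  obtain ⟨h3, h4⟩ := height_dep_laurent_map q
  refine ⟨(q.map (algebraMap A A[T;T⁻¹])).comap (algebraMap 𝓕.extRees A[T;T⁻¹]),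
    Ideal.comap_isPrime _ _, ?_, ?_, ?_⟩
  · intro x
    rw [Ideal.mem_comap, mem_map_iff]
    rfl
  · rw [h1, h3]
  · rw [h2, h4]

end Cases

end Groth.Agent.Lib.Helper29ExtReesLoc
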