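import Mathlib

set_option autoImplicit false
universe u

namespace Groth.Agent.Lib.Helper29LaurentMono

open LaurentPolynomial

variable {A : Type u} [CommRing A] [IsDomain A]

/-- if a product of Laurent polynomials over a domain is a nonzero monomial, the first factor is a
monomial -/
theorem eq_single_of_mul_eq_single {f g : A[T;T⁻¹]} {n : ℤ} {c : A} (hc : c ≠ 0)
    (h : f * g = AddMonoidAlgebra.single n c) :
    ∃ (i : ℤ) (a : A) (j : ℤ) (b : A), f = AddMonoidAlgebra.single i a ∧
      g = AddMonoidAlgebra.single j b ∧ i + j = n ∧ a * b = c := by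
  classical
  have hfg : f * g ≠ 0 := by
    rw [h]
    intro h0
    have := congrArg (fun x : A[T;T⁻¹] => x.coeff n) h0
    simp only [AddMonoidAlgebra.coeff_single, Finsupp.single_eq_same] at this
    exact hc this
  have hf : f ≠ 0 := fun h0 => hfg (by rw [h0, zero_mul])
  have hg : g ≠ 0 := fun h0 => hfg (by rw [h0, mul_zero])
  have hfs : f.coeff.support.Nonempty := by
    rw [Finsupp.support_nonempty_iff]
    exact fun h0 => hf (AddMonoidAlgebra.coeff_eq_zero.mp h0)
  have hgs : g.coeff.support.Nonempty := by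
    rw [Finsupp.support_nonempty_iff]
    exact fun h0 => hg (AddMonoidAlgebra.coeff_eq_zero.mp h0)
  set i0 := f.coeff.support.min' hfs with hi0
  set i1 := f.coeff.support.max' hfs with hi1
  set j0 := g.coeff.support.min' hgs with hj0
  set j1 := g.coeff.support.max' hgs with hj1
  have hi0m : i0 ∈ f.coeff.support := Finset.min'_mem _ _
  have hi1m : i1 ∈ f.coeff.support := Finset.max'_mem _ _
  have hj0m : j0 ∈ g.coeff.support := Finset.min'_mem _ _
  have hj1m : j1 ∈ g.coeff.support := Finset.max'_mem _ _
  have hlow : (f * g).coeff (i0 + j0) = f.coeff i0 * g.coeff j0 := by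
    apply AddMonoidAlgebra.coeff_mul_add_of_uniqueAdd
    intro a b ha hb hab
    have h1 : i0 ≤ a := Finset.min'_le _ _ ha
    have h2 : j0 ≤ b := Finset.min'_le _ _ hb
    constructor <;> omega
  have hhigh : (f * g).coeff (i1 + j1) = f.coeff i1 * g.coeff j1 := by
    apply AddMonoidAlgebra.coeff_mul_add_of_uniqueAdd
    intro a b ha hb hab
    have h1 : a ≤ i1 := Finset.le_max' _ _ ha
    have h2 : b ≤ j1 := Finset.le_max' _ _ hb
    constructor <;> omega
  have hne0 : f.coeff i0 * g.coeff j0 ≠ 0 :=
    mul_ne_zero (Finsupp.mem_support_iff.mp hi0m) (Finsupp.mem_support_iff.mp hj0m)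
  have hne1 : f.coeff i1 * g.coeff j1 ≠ 0 :=
    mul_ne_zero (Finsupp.mem_support_iff.mp hi1m) (Finsupp.mem_support_iff.mp hj1m)
  rw [h, AddMonoidAlgebra.coeff_single, Finsupp.single_apply] at hlow hhigh
  have e0 : n = i0 + j0 := by
    by_contra hne
    rw [if_neg hne] at hlow
    exact hne0 hlow.symm
  have e1 : n = i1 + j1 := by
    by_contra hne
    rw [if_neg hne] at hhigh
    exact hne1 hhigh.symm
  have hi01 : i0 ≤ i1 := Finset.min'_le _ _ hi1m
  have hj01 : j0 ≤ j1 := Finset.min'_le _ _ hj1m
  have hi : i0 = i1 := by omega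
  have hj : j0 = j1 := by omega
  have hfsingle : f = AddMonoidAlgebra.single i0 (f.coeff i0) := by
    apply LaurentPolynomial.ext
    intro m
    rw [AddMonoidAlgebra.coeff_single, Finsupp.single_apply]
    split_ifs with hm
    · rw [hm]
    · by_contra hne
      have hm' : m ∈ f.coeff.support := Finsupp.mem_support_iff.mpr hne
      have h1 : i0 ≤ m := Finset.min'_le _ _ hm'
      have h2 : m ≤ i1 := Finset.le_max' _ _ hm'
      exact hm (by omega)
  have hgsingle : g = AddMonoidAlgebra.single j0 (g.coeff j0) := by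
    apply LaurentPolynomial.ext
    intro m
    rw [AddMonoidAlgebra.coeff_single, Finsupp.single_apply]
    split_ifs with hm
    · rw [hm]
    · by_contra hne
      have hm' : m ∈ g.coeff.support := Finsupp.mem_support_iff.mpr hne
      have h1 : j0 ≤ m := Finset.min'_le _ _ hm'
      have h2 : m ≤ j1 := Finset.le_max' _ _ hm'
      exact hm (by omega)
  refine ⟨i0, f.coeff i0, j0, g.coeff j0, hfsingle, hgsingle, e0.symm, ?_⟩
  rw [if_pos e0] at hlow
  exact hlow.symm

end Groth.Agent.Lib.Helper29LaurentMono
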