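import Mathlib
import Groth.Prelude.Def_W4c2filtblowupsingRees
import Groth.Agent.Lib.Helper29ExtRees
import Groth.Agent.Lib.Helper29LaurentMono

set_option autoImplicit false
set_option linter.style.haveILetI false
universe u

namespace Groth.Agent.Lib.Helper29ExtReesUFD

open Polynomial LaurentPolynomial FiltBl Groth.Agent.Lib.Helper29ExtRees
  Groth.Agent.Lib.Helper29LaurentMono

section Laurent

variable {A : Type u} [CommRing A]

theorem isUnit_single {i : ℤ} {c : A} (hc : IsUnit c) :
    IsUnit (AddMonoidAlgebra.single i c : A[T;T⁻¹]) := by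
  obtain ⟨c', hc'⟩ := hc.exists_right_inv
  refine IsUnit.of_mul_eq_one (AddMonoidAlgebra.single (-i) c') ?_
  rw [AddMonoidAlgebra.single_mul_single, hc', add_neg_cancel]
  rfl

theorem C_eq_single (a : A) : (LaurentPolynomial.C a : A[T;T⁻¹]) = AddMonoidAlgebra.single 0 a :=
  rfl

theorem one_eq_single : (1 : A[T;T⁻¹]) = AddMonoidAlgebra.single 0 1 := rfl

/-- `A[T,T⁻¹]` is a UFD if `A` is. -/
theorem ufm_laurent [IsDomain A] [UniqueFactorizationMonoid A] : UniqueFactorizationMonoid A[T;T⁻¹] :=
  UniqueFactorizationMonoid.of_isLocalization (Submonoid.powers (Polynomial.X : A[X])) A[T;T⁻¹]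

variable [IsDomain A]

/-- `A` is a UFD if `A[T,T⁻¹]` is. -/
theorem ufm_of_laurent [WfDvdMonoid A] [hL : UniqueFactorizationMonoid A[T;T⁻¹]] :
    UniqueFactorizationMonoid A :=
  { (inferInstance : WfDvdMonoid A) with
    irreducible_iff_prime := by
      intro a
      refine ⟨fun ha => ?_, Prime.irreducible⟩
      have ha0 : a ≠ 0 := ha.ne_zero
      have hirr : Irreducible (LaurentPolynomial.C a : A[T;T⁻¹]) := by
        refine ⟨?_, ?_⟩
        · intro hu
          obtain ⟨g, hg⟩ := hu.exists_right_inv
          rw [C_eq_single, one_eq_single] at hg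
          obtain ⟨i, c, j, d, h1, h2, h3, h4⟩ := eq_single_of_mul_eq_single one_ne_zero hg
          have h5 := congrArg (fun x : A[T;T⁻¹] => x.coeff 0) h1
          simp only [AddMonoidAlgebra.coeff_single, Finsupp.single_eq_same] at h5
          by_cases hi : i = 0
          · subst hi
            rw [Finsupp.single_eq_same] at h5
            exact ha.not_isUnit (IsUnit.of_mul_eq_one d (by rw [h5]; exact h4))
          · rw [Finsupp.single_eq_of_ne' hi] at h5
            exact ha0 h5
        · intro f g hfg
          rw [C_eq_single] at hfg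
          obtain ⟨i, c, j, d, h1, h2, h3, h4⟩ := eq_single_of_mul_eq_single ha0 hfg.symm
          rcases ha.isUnit_or_isUnit h4.symm with hu | hu
          · left; rw [h1]; exact isUnit_single hu
          · right; rw [h2]; exact isUnit_single hu
      have hprime : Prime (LaurentPolynomial.C a : A[T;T⁻¹]) :=
        UniqueFactorizationMonoid.irreducible_iff_prime.mp hirr
      refine ⟨ha0, ha.not_isUnit, fun b c hbc => ?_⟩
      have key : ∀ b : A, (LaurentPolynomial.C a : A[T;T⁻¹]) ∣ LaurentPolynomial.C b → a ∣ b := by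
        rintro b ⟨h, hh⟩
        refine ⟨h.coeff 0, ?_⟩
        have h5 : (LaurentPolynomial.C b : A[T;T⁻¹]).coeff 0 =
            (LaurentPolynomial.C a * h).coeff 0 := by rw [hh]
        rw [LaurentPolynomial.C_apply, if_pos rfl, C_eq_single,
          AddMonoidAlgebra.coeff_single_mul_apply] at h5
        rw [h5]
        simp
      have h1 : (LaurentPolynomial.C a : A[T;T⁻¹]) ∣ LaurentPolynomial.C b * LaurentPolynomial.C c := by
        rw [← map_mul]
        exact map_dvd _ hbc
      rcases hprime.dvd_or_dvd h1 with h | h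
      · exact Or.inl (key b h)
      · exact Or.inr (key c h) }


end Laurent


section ExtRees

variable {A : Type u} [CommRing A] (𝓕 : FiltBl.IdealFiltration A)

theorem u_ne_zero [Nontrivial A] : 𝓕.u ≠ 0 := by
  intro h
  have := congrArg (fun x : 𝓕.extRees => (x : A[T;T⁻¹]).coeff (-1)) h
  simp only [coe_u, LaurentPolynomial.T_apply] at this
  exact one_ne_zero this

theorem isUnit_of_coe_eq_single_zero {a : 𝓕.extRees} {c : A} (hc : IsUnit c)
    (h : (a : A[T;T⁻¹]) = AddMonoidAlgebra.single 0 c) : IsUnit a := by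
  have : a = algebraMap A 𝓕.extRees c := Subtype.ext (by rw [h, coe_algebraMap]; rfl)
  rw [this]
  exact hc.map _

variable [IsDomain A] [IsLocalRing A]

theorem irreducible_u (hm : 𝓕.F 1 ≤ IsLocalRing.maximalIdeal A) : Irreducible 𝓕.u := by
  haveI hMp := Mst_isPrime 𝓕 (IsLocalRing.maximalIdeal A) hm
  refine ⟨?_, ?_⟩
  · intro hu
    exact hMp.ne_top (Ideal.eq_top_of_isUnit_mem _ (u_mem_Mst 𝓕 _ hm) hu)
  · intro a b hab
    have h1 : (a : A[T;T⁻¹]) * (b : A[T;T⁻¹]) = AddMonoidAlgebra.single (-1) 1 :=
      (congrArg Subtype.val hab).symm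
    obtain ⟨i, c, j, d, e1, e2, e3, e4⟩ := eq_single_of_mul_eq_single one_ne_zero h1
    have hc : IsUnit c := IsUnit.of_mul_eq_one d e4
    have hd : IsUnit d := IsUnit.of_mul_eq_one c (by rw [mul_comm]; exact e4)
    have hi : i ≤ 0 := by
      by_contra hpos
      push Not at hpos
      have hmem : c ∈ 𝓕.F i.toNat := by
        have := a.2 i
        rwa [e1, AddMonoidAlgebra.coeff_single, Finsupp.single_eq_same] at this
      have hcm : c ∈ IsLocalRing.maximalIdeal A := hm (F_le_one 𝓕 hpos hmem)
      exact (IsLocalRing.mem_maximalIdeal _).mp hcm hc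
    have hj : j ≤ 0 := by
      by_contra hpos
      push Not at hpos
      have hmem : d ∈ 𝓕.F j.toNat := by
        have := b.2 j
        rwa [e2, AddMonoidAlgebra.coeff_single, Finsupp.single_eq_same] at this
      have hdm : d ∈ IsLocalRing.maximalIdeal A := hm (F_le_one 𝓕 hpos hmem)
      exact (IsLocalRing.mem_maximalIdeal _).mp hdm hd
    rcases (by omega : i = 0 ∨ j = 0) with h0 | h0
    · left
      subst h0
      exact isUnit_of_coe_eq_single_zero 𝓕 hc e1
    · right
      subst h0
      exact isUnit_of_coe_eq_single_zero 𝓕 hd e2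

end ExtRees

end Groth.Agent.Lib.Helper29ExtReesUFD
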