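import Groth.Agent.Lib.Helper8ExtPres

/-! Dimension shifting for `Ext` in the first variable, as linear equivalences (helper29). -/

set_option autoImplicit false
set_option linter.style.haveILetI false
set_option linter.unusedSectionVars false
open CategoryTheory

noncomputable section

namespace Groth.Agent.Lib.Helper29.ExtShiftEquiv

open Groth.Agent.Lib.Helper8.TFDual

universe u

variable {O : Type u} [CommRing O]

theorem precomp_extClass_bijective {S : ShortComplex (ModuleCat.{u} O)} (hS : S.ShortExact)
    [Projective S.X₂] (Y : ModuleCat.{u} O) (i : ℕ) :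
    Function.Bijective (Abelian.Ext.precompOfLinear hS.extClass O Y
      (show 1 + (i + 1) = i + 1 + 1 by omega)) := by
  constructor
  · rw [injective_iff_map_eq_zero]
    intro x hx
    have hx' : hS.extClass.comp x (show 1 + (i + 1) = i + 1 + 1 by omega) = 0 := hx
    obtain ⟨x₂, hx₂⟩ := Abelian.Ext.contravariant_sequence_exact₁ hS Y x
      (show 1 + (i + 1) = i + 1 + 1 by omega) hx'
    rw [← hx₂, Abelian.Ext.eq_zero_of_projective x₂, Abelian.Ext.comp_zero]
  · intro x₃
    obtain ⟨x₁, hx₁⟩ := Abelian.Ext.contravariant_sequence_exact₃ hS Y x₃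
      (Abelian.Ext.eq_zero_of_projective _) (show 1 + (i + 1) = i + 1 + 1 by omega)
    exact ⟨x₁, hx₁⟩

variable {F M : Type u} [AddCommGroup F] [Module O F] [Module.Projective O F] [AddCommGroup M]
  [Module O M] (p : F →ₗ[O] M) (hp : Function.Surjective p) (N : Type u) [AddCommGroup N]
  [Module O N]

/-- `Ext^{i+1}(ker p, N) ≃ₗ Ext^{i+2}(M, N)` for a surjection `p : F → M` from a projective. -/
def extShiftEquiv (i : ℕ) :
    Abelian.Ext (ModuleCat.of O (LinearMap.ker p)) (ModuleCat.of O N) (i + 1) ≃ₗ[O]
      Abelian.Ext (ModuleCat.of O M) (ModuleCat.of O N) (i + 1 + 1) :=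
  haveI : Projective (sesSurj p).X₂ := (IsProjective.iff_projective (R := O) F).mp inferInstance
  LinearEquiv.ofBijective
    (Abelian.Ext.precompOfLinear (sesSurj_shortExact p hp).extClass O (ModuleCat.of O N)
      (show 1 + (i + 1) = i + 1 + 1 by omega))
    (precomp_extClass_bijective (sesSurj_shortExact p hp) (ModuleCat.of O N) i)

end Groth.Agent.Lib.Helper29.ExtShiftEquiv
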