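import Groth.Prelude.Def_W4c6instabfans3Fan
import Mathlib.Algebra.BigOperators.Pi
import Mathlib.Algebra.Order.BigOperators.Ring.Finset
import Mathlib.Data.Real.Basic

/-!
Basic API for formal fans and their projective realization (helper29).
-/

universe u

namespace Groth.Agent.Lib.Helper29

open CategoryTheory Opposite Instab Instab.Fan

theorem realMap_id (n : ICone) (v : Fin n.dim → ℝ) : (𝟙 n : n ⟶ n).realMap v = v := by
  funext j
  have h : ∀ i, ((𝟙 n : n ⟶ n).toLin (Pi.single i 1) j : ℝ) = if i = j then 1 else 0 := by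
    intro i
    change (((Pi.single i 1 : Fin n.dim → ℤ) j : ℤ) : ℝ) = _
    rw [Pi.single_apply]
    by_cases hij : i = j
    · simp [hij]
    · have : ¬ j = i := fun h => hij h.symm
      simp [hij, this]
  simp only [ICone.Hom.realMap, h]
  simp

theorem mk_glue {F : Fan.{u}} {k n : ICone} (φ : k ⟶ n) (ξ : F.obj (op n)) (v : Orth k)
    (w : Orth n) (c : ℝ) (hc : 0 < c) (h : w.1 = c • φ.realMap v.1) :
    P.mk (F.map φ.op ξ) v = P.mk ξ w :=
  Quot.sound (Rel.glue φ ξ v w c hc h)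

theorem mk_smul {F : Fan.{u}} {n : ICone} (ξ : F.obj (op n)) (v w : Orth n) (c : ℝ) (hc : 0 < c)
    (h : w.1 = c • v.1) : P.mk ξ v = P.mk ξ w := by
  have e : F.map (𝟙 n : n ⟶ n).op ξ = ξ := by simp
  have := mk_glue (F := F) (𝟙 n) ξ v w c hc (by rw [realMap_id]; exact h)
  rwa [e] at this

theorem mk_surjective {F : Fan.{u}} (x : P F) :
    ∃ (n : ICone) (ξ : F.obj (op n)) (v : Orth n), x = P.mk ξ v := by
  induction x using Quot.ind with
  | mk a =>
    obtain ⟨⟨n, ξ⟩, v⟩ := a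
    exact ⟨n, ξ, v, rfl⟩

theorem map_mk {F G : Fan.{u}} (f : F ⟶ G) {n : ICone} (ξ : F.obj (op n)) (v : Orth n) :
    P.map f (P.mk ξ v) = P.mk (f.app _ ξ) v := rfl

end Groth.Agent.Lib.Helper29
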