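import Mathlib

/-!
Field theory lemmas (helper29): `K ⊗_F L ≅ ∏_σ L` for `K/F` finite separable, `L` algebraically closed.
-/

set_option autoImplicit false
set_option linter.unusedSectionVars false
universe u

namespace Groth.Agent.Lib.Helper29.Fields

open scoped TensorProduct

section
variable {F K L : Type u} [Field F] [Field K] [Field L]
    [Algebra F K] [Algebra F L] [FiniteDimensional F K] [Algebra.IsSeparable F K] [IsAlgClosed L]

/-- evaluation at all embeddings -/
noncomputable def evalAll : K →ₐ[F] ((K →ₐ[F] L) → L) :=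
  AlgHom.pi (fun σ => σ)

noncomputable def PsiHom : L ⊗[F] K →ₐ[L] ((K →ₐ[F] L) → L) :=
  Algebra.TensorProduct.lift (Algebra.ofId L _) (evalAll (F := F) (K := K) (L := L))
    (fun _ _ => Commute.all _ _)

theorem PsiHom_tmul (l : L) (a : K) (σ : K →ₐ[F] L) :
    PsiHom (F := F) (l ⊗ₜ[F] a) σ = l * σ a := by
  simp [PsiHom, evalAll, Algebra.ofId_apply]

theorem PsiHom_surjective : Function.Surjective (PsiHom (F := F) (K := K) (L := L)) := by
  classical
  change Function.Surjective (PsiHom (F := F) (K := K) (L := L)).toLinearMap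
  rw [← LinearMap.range_eq_top]
  by_contra hne
  obtain ⟨f, hf0, hf⟩ := Submodule.exists_le_ker_of_lt_top _ (lt_top_iff_ne_top.mpr hne)
  apply hf0
  have hli := linearIndependent_algHom_toLinearMap F K L
  have hsum : ∑ σ : K →ₐ[F] L, f (Pi.single σ 1) • σ.toLinearMap = 0 := by
    ext a
    have h1 : f (PsiHom (F := F) ((1 : L) ⊗ₜ[F] a)) = 0 :=
      hf (LinearMap.mem_range.mpr ⟨(1 : L) ⊗ₜ[F] a, rfl⟩)
    have h2 : PsiHom (F := F) ((1 : L) ⊗ₜ[F] a) = ∑ σ : K →ₐ[F] L, (σ a) • Pi.single σ (1 : L) := by
      ext τ
      rw [PsiHom_tmul, one_mul, Finset.sum_apply]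
      simp [Pi.single_apply]
    rw [h2, map_sum] at h1
    simp only [map_smul, smul_eq_mul] at h1
    rw [LinearMap.sum_apply, LinearMap.zero_apply, ← h1]
    refine Finset.sum_congr rfl fun σ _ => ?_
    rw [LinearMap.smul_apply, AlgHom.toLinearMap_apply, smul_eq_mul, mul_comm]
  have hc := Fintype.linearIndependent_iff.mp hli _ hsum
  apply LinearMap.ext
  intro v
  have hv : v = ∑ σ : K →ₐ[F] L, v σ • Pi.single σ (1 : L) := by
    ext τ
    rw [Finset.sum_apply]
    simp [Pi.single_apply]
  rw [hv, map_sum]
  simp [hc]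

theorem PsiHom_bijective : Function.Bijective (PsiHom (F := F) (K := K) (L := L)) := by
  classical
  refine ⟨?_, PsiHom_surjective⟩
  have h1 : Module.finrank L (L ⊗[F] K) = Module.finrank L ((K →ₐ[F] L) → L) := by
    rw [Module.finrank_baseChange, Module.finrank_fintype_fun_eq_card,
      ← Field.finSepDegree_eq_finrank_of_isSeparable F K,
      Field.finSepDegree_eq_of_isAlgClosed F K L, Nat.card_eq_fintype_card]
  exact (LinearMap.injective_iff_surjective_of_finrank_eq_finrank
    (f := (PsiHom (F := F) (K := K) (L := L)).toLinearMap) h1).mpr PsiHom_surjective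

theorem tensor_algClosed_bijective :
    Function.Bijective (fun x : K ⊗[F] L => fun σ : K →ₐ[F] L =>
      Algebra.TensorProduct.lift σ (AlgHom.id F L) (fun a b => Commute.all (σ a) b) x) := by
  have h : (fun x : K ⊗[F] L => fun σ : K →ₐ[F] L =>
      Algebra.TensorProduct.lift σ (AlgHom.id F L) (fun a b => Commute.all (σ a) b) x) =
      (PsiHom (F := F) (K := K) (L := L)) ∘ (Algebra.TensorProduct.comm F K L) := by
    funext x
    induction x using TensorProduct.induction_on with
    | zero => funext σ; simp
    | tmul a b =>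
      funext σ
      rw [Function.comp_apply, Algebra.TensorProduct.comm_tmul, PsiHom_tmul, mul_comm]
      rfl
    | add x y hx hy =>
      funext σ
      have hx' := congrFun hx σ
      have hy' := congrFun hy σ
      simp only [Function.comp_apply, map_add, Pi.add_apply] at hx' hy' ⊢
      rw [hx', hy']
  rw [h]
  exact PsiHom_bijective.comp (Algebra.TensorProduct.comm F K L).bijective
end

end Groth.Agent.Lib.Helper29.Fields
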