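import Mathlib

/-!
Field theory lemmas (helper29): additive Hilbert 90 for cyclic extensions and Artin–Schreier generators.
-/

set_option autoImplicit false
set_option linter.unusedSectionVars false
universe u

namespace Groth.Agent.Lib.Helper29.Fields

open IntermediateField

section
variable {K L : Type u} [Field K] [Field L] [Algebra K L] [FiniteDimensional K L] [IsGalois K L]

theorem mem_range_of_fixed' (σ : L ≃ₐ[K] L) (hσ : ∀ τ : L ≃ₐ[K] L, τ ∈ Subgroup.zpowers σ)
    (z : L) (hz : σ z = z) : z ∈ Set.range (algebraMap K L) := by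
  rw [IsGalois.mem_range_algebraMap_iff_fixed]
  intro τ
  obtain ⟨m, rfl⟩ := hσ τ
  have hstab : σ ∈ MulAction.stabilizer (L ≃ₐ[K] L) z := hz
  exact (Subgroup.zpow_mem _ hstab m : σ ^ m ∈ MulAction.stabilizer (L ≃ₐ[K] L) z)

/-- additive Hilbert 90 for a cyclic extension -/
theorem exists_sub_eq_of_trace_eq_zero (σ : L ≃ₐ[K] L) (hσ : ∀ τ : L ≃ₐ[K] L, τ ∈ Subgroup.zpowers σ)
    (y : L) (hy : Algebra.trace K L y = 0) : ∃ z : L, σ z - z = y := by
  let f : L →ₗ[K] L := σ.toLinearMap - LinearMap.id
  have hfx : ∀ x, f x = σ x - x := fun x => rfl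
  let T : L →ₗ[K] K := Algebra.trace K L
  have hker : LinearMap.ker f = LinearMap.range (Algebra.linearMap K L) := by
    ext x
    rw [LinearMap.mem_ker, hfx, sub_eq_zero, LinearMap.mem_range]
    constructor
    · intro h
      exact mem_range_of_fixed' σ hσ x h
    · rintro ⟨c, rfl⟩
      exact σ.commutes c
  have h1 : Module.finrank K (LinearMap.ker f) = 1 := by
    rw [hker, LinearMap.finrank_range_of_inj (algebraMap K L).injective, Module.finrank_self]
  have h2 := LinearMap.finrank_range_add_finrank_ker f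
  have hTs : Function.Surjective T := Algebra.trace_surjective K L
  have h3 := LinearMap.finrank_range_add_finrank_ker T
  rw [LinearMap.range_eq_top.mpr hTs, finrank_top, Module.finrank_self] at h3
  have hle : LinearMap.range f ≤ LinearMap.ker T := by
    rintro _ ⟨x, rfl⟩
    rw [LinearMap.mem_ker, hfx, map_sub]
    change Algebra.trace K L (σ x) - Algebra.trace K L x = 0
    rw [Algebra.trace_eq_of_algEquiv σ x, sub_self]
  have heq : LinearMap.range f = LinearMap.ker T :=
    Submodule.eq_of_le_of_finrank_eq hle (by omega)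
  have : y ∈ LinearMap.range f := by rw [heq]; exact hy
  obtain ⟨z, hz⟩ := this
  exact ⟨z, hz⟩

theorem artin_schreier_generator (p : ℕ) [Fact p.Prime] [CharP K p] (hdeg : Module.finrank K L = p) :
    ∃ z : L, z ^ p - z ∈ Set.range (algebraMap K L) ∧ K⟮z⟯ = ⊤ := by
  have hp : p.Prime := Fact.out
  have : CharP L p := charP_of_injective_algebraMap (algebraMap K L).injective p
  have hcard : Nat.card (L ≃ₐ[K] L) = p := by rw [IsGalois.card_aut_eq_finrank, hdeg]
  have : Fact (Nat.card (L ≃ₐ[K] L)).Prime := ⟨by rw [hcard]; exact hp⟩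
  have hnt : Nontrivial (L ≃ₐ[K] L) := by
    rw [← Finite.one_lt_card_iff_nontrivial, hcard]; exact hp.one_lt
  obtain ⟨σ, hσ1⟩ := exists_ne (1 : L ≃ₐ[K] L)
  have hσ : ∀ τ : L ≃ₐ[K] L, τ ∈ Subgroup.zpowers σ := by
    intro τ
    rw [zpowers_eq_top_of_prime_card (by rw [hcard]) hσ1]
    trivial
  have htr : Algebra.trace K L (1 : L) = 0 := by
    have := Algebra.trace_algebraMap (S := L) (1 : K)
    rw [map_one, hdeg] at this
    rw [this, nsmul_one, CharP.cast_eq_zero]
  obtain ⟨z, hz⟩ := exists_sub_eq_of_trace_eq_zero σ hσ 1 htr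
  have hσz : σ z = z + 1 := by rw [← hz]; ring
  refine ⟨z, ?_, ?_⟩
  · apply mem_range_of_fixed' σ hσ
    rw [map_sub, map_pow, hσz, add_pow_char, one_pow]
    ring
  · have hsimple := IntermediateField.isSimpleOrder_of_finrank_prime K L (by rw [hdeg]; exact hp)
    rcases eq_bot_or_eq_top K⟮z⟯ with h | h
    · exfalso
      rw [IntermediateField.adjoin_simple_eq_bot_iff, IntermediateField.mem_bot] at h
      obtain ⟨c, rfl⟩ := h
      rw [σ.commutes] at hσz
      exact one_ne_zero (α := L) (by linear_combination -hσz)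
    · exact h
end

end Groth.Agent.Lib.Helper29.Fields
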