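import Mathlib

/-!
Field theory lemmas (helper29): roots of separable polynomials with p-th power coefficients.
-/

set_option autoImplicit false
universe u

namespace Groth.Agent.Lib.Helper29.Fields

open Polynomial

theorem aeval_pow_char {K M : Type*} [Field K] [Field M] [Algebra K M] (p : ℕ) [Fact p.Prime]
    [CharP K p] [CharP M p] (c : M) (f : K[X]) :
    (aeval c f) ^ p = aeval (c ^ p) (f.map (frobenius K p)) := by
  rw [aeval_def, aeval_def, eval₂_map, ← frobenius_def, hom_eval₂, frobenius_def]
  congr 1
  ext x
  simp [frobenius_def]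

theorem isPthPower_of_root {K L : Type u} [Field K] [Field L] [Algebra K L]
    (p : ℕ) [Fact p.Prime] [CharP K p] [Algebra.IsSeparable K L] (a : L) (P : Polynomial K)
    (hroot : Polynomial.aeval a P = 0) (hsep : P.Separable) (hcoeff : ∀ i : ℕ, ∃ b : K, b ^ p = P.coeff i) :
    ∃ c : L, c ^ p = a := by
  classical
  have hp : p.Prime := Fact.out
  have : CharP L p := charP_of_injective_algebraMap (algebraMap K L).injective p
  let M := AlgebraicClosure L
  have : CharP M p := charP_of_injective_algebraMap (algebraMap L M).injective p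
  have : ExpChar L p := ExpChar.prime hp
  choose b hb using hcoeff
  let Q : K[X] := ∑ i ∈ Finset.range (P.natDegree + 1), C (b i) * X ^ i
  have hQP : Q.map (frobenius K p) = P := by
    ext i
    rw [coeff_map, finset_sum_coeff]
    simp only [coeff_C_mul, coeff_X_pow]
    rw [Finset.sum_eq_single i]
    · by_cases hi : i ∈ Finset.range (P.natDegree + 1)
      · simp [frobenius_def, hb]
      · rw [Finset.mem_range, not_lt] at hi
        simp [frobenius_def, hb]
    · intro j _ hj
      rw [if_neg (Ne.symm hj), mul_zero]
    · intro hi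
      rw [Finset.mem_range, not_lt] at hi
      have : P.coeff i = 0 := coeff_eq_zero_of_natDegree_lt (by omega)
      simp only [if_true, mul_one]
      have h0 := hb i
      rw [this] at h0
      exact pow_eq_zero_iff hp.ne_zero |>.mp h0
  obtain ⟨c, hc⟩ := IsAlgClosed.exists_pow_nat_eq (algebraMap L M a) hp.pos
  have hQc : aeval c Q = 0 := by
    have h1 := aeval_pow_char (K := K) p c Q
    rw [hQP, hc, aeval_algebraMap_apply, hroot, map_zero] at h1
    exact pow_eq_zero_iff hp.ne_zero |>.mp h1
  have hQsep : Q.Separable := (Polynomial.separable_map (frobenius K p)).mp (hQP ▸ hsep)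
  have hQ0 : Q ≠ 0 := hQsep.ne_zero
  have hcK : IsSeparable K c := hQsep.of_dvd (minpoly.dvd K c hQc)
  have hcL : IsSeparable L c := hcK.tower_top L
  have hmem : c ∈ separableClosure L M ⊓ perfectClosure L M := by
    have h2 : c ∈ perfectClosure L M := by
      rw [mem_perfectClosure_iff_pow_mem p]
      exact ⟨1, by rw [pow_one, hc]; exact ⟨a, rfl⟩⟩
    exact ⟨hcL, h2⟩
  rw [separableClosure_inf_perfectClosure, IntermediateField.mem_bot] at hmem
  obtain ⟨c₀, rfl⟩ := hmem
  refine ⟨c₀, ?_⟩
  apply (algebraMap L M).injective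
  rw [map_pow, hc]

end Groth.Agent.Lib.Helper29.Fields
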