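import Groth.Agent.Lib.Helper29GrVanishZ
import Groth.Agent.Lib.Helper29GrHmod

/-! If a homogeneous element `u` of degree `-1` acts surjectively on the graded local cohomology
`H^q_a(M)` of a finitely generated graded module over a `ℤ`-graded Noetherian ring (`a` generated by
the homogeneous elements of positive degree), then `H^q_a(M) = 0` (helper29). -/

set_option autoImplicit false
set_option linter.style.haveILetI false
set_option linter.unusedSectionVars false
open DirectSum

noncomputable section

namespace Groth.Agent.Lib.Helper29.GrSurjVanish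

open Groth.Agent.Lib.Helper29GrVanishZ Groth.Agent.Lib.Helper29.GrHmod

universe u

variable {R : Type u} [CommRing R] [IsNoetherianRing R] {𝒜 : ℤ → AddSubgroup R} [GradedRing 𝒜]
  (a : HomogeneousIdeal 𝒜)
  {M : Type u} [AddCommGroup M] [Module R M] [Module.Finite R M] {ℳ : ℤ → AddSubgroup M}
  [DirectSum.Decomposition ℳ] [SetLike.GradedSMul 𝒜 ℳ] (E : GrLC.StarInjRes 𝒜 ℳ)

theorem H_eq_zero_of_surjective_smul
    (ha : a.toIdeal = Ideal.span (⋃ n ∈ Set.Ioi (0 : ℤ), (𝒜 n : Set R)))
    (q : ℕ) (u : R) (hu : u ∈ 𝒜 (-1))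
    (hsurj : ∀ y : E.H a q, ∃ z : E.H a q, u • z = y) : ∀ x : E.H a q, x = 0 := by
  classical
  letI dec : DirectSum.Decomposition (E.Hgr a q) :=
    (Groth.Agent.S13225.result R 𝒜 a M ℳ E q).chooseDecomposition
  obtain ⟨r, hr⟩ := exists_bound' a ha q M ℳ E
  have hgr_bot : ∀ n, E.Hcomp a q n = ⊥ → ∀ y ∈ E.Hgr a q n, y = 0 := by
    intro n hn y hy
    have h1 : y ∈ E.Hcomp a q n := hy
    rw [hn] at h1
    exact (Submodule.mem_bot _).mp h1
  have key : ∀ (k : ℕ) (n : ℤ), r - k ≤ n → ∀ y ∈ E.Hgr a q n, y = 0 := by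
    intro k
    induction k with
    | zero =>
      intro n hn y hy
      exact hgr_bot n (hr n (by simpa using hn)) y hy
    | succ k ih =>
      intro n hn y hy
      obtain ⟨z, rfl⟩ := hsurj y
      have hz := (DirectSum.sum_support_decompose (E.Hgr a q) z).symm
      have h1 : u • z = ∑ m ∈ (decompose (E.Hgr a q) z).support,
          u • ((decompose (E.Hgr a q) z m : E.H a q)) := by
        conv_lhs => rw [hz]
        rw [Finset.smul_sum]
      have h2 : (decompose (E.Hgr a q) (u • z) n : E.H a q) = u • z :=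
        DirectSum.decompose_of_mem_same _ hy
      rw [← h2, h1, DirectSum.decompose_sum, DFinsupp.finsetSum_apply,
        AddSubmonoidClass.coe_finsetSum]
      refine Finset.sum_eq_zero fun m _ => ?_
      have hm : u • ((decompose (E.Hgr a q) z m : E.H a q)) ∈ E.Hgr a q (-1 + m) :=
        smul_mem_Hgr E a q hu (SetLike.coe_mem _)
      by_cases hmn : -1 + m = n
      · have h3 : ((decompose (E.Hgr a q) z m : E.H a q)) = 0 :=
          ih m (by push_cast at hn ⊢; omega) _ (SetLike.coe_mem _)
        rw [h3, smul_zero, DirectSum.decompose_zero]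
        rfl
      · rw [DirectSum.decompose_of_mem_ne _ hm hmn]
  intro x
  rw [← DirectSum.sum_support_decompose (E.Hgr a q) x]
  refine Finset.sum_eq_zero fun m _ => ?_
  exact key (r - m).toNat m (by have := Int.self_le_toNat (r - m); omega) _ (SetLike.coe_mem _)

end Groth.Agent.Lib.Helper29.GrSurjVanish
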