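import Mathlib
import Groth.Agent.Lib.Helper29GrSurjVanish
import Groth.Agent.Lib.Helper29ExtRees
import Groth.Agent.S13224
import Groth.Agent.S11614
import Groth.Agent.S11617
import Groth.Agent.Lib.Helper8LCAdd
import Groth.Agent.Lib.Helper8LC2

/-! # Local cohomology of a filtered ring and of its associated graded ring (helper29)

For a filtration `𝓕` of ideals of a Noetherian ring `A` with finitely generated Rees algebra, with
extended Rees algebra `R' = ⊕ F^n T^n`, `u = T⁻¹`, `G = R'/uR'` and `G_+` the ideal of forms of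
positive degree: `H^q_{G_+}(G) = 0` implies `H^q_{F^1}(A) = 0`.

Proof: the sequence `0 → R' --u--> R' → G → 0` shows that `u` acts surjectively on `H^q_{R'_+}(R')`;
this module is graded with vanishing pieces in high degrees and `u` has degree `-1`, so it is zero;
flat base change along `R' → R'_u = A[T,T⁻¹] ← A` gives the claim. -/

set_option autoImplicit false
set_option linter.unusedSectionVars false
set_option linter.style.haveILetI false
universe u
open LaurentPolynomial FiltBl CategoryTheory TensorProduct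

noncomputable section

namespace Groth.Agent.Lib.Helper29.FiltLC

open Groth.Agent.Lib.Helper29ExtRees Groth.Agent.Lib.Helper8.LC Groth.Agent.Lib.Helper29.GrHmod
  Groth.Agent.Lib.Helper29.GrSurjVanish Groth.Agent.Lib.Helper29GrRes

section General

variable {R : Type u} [CommRing R] [IsNoetherianRing R]

theorem subsingleton_H_congr (I : Ideal R) (q : ℕ) {M N : Type u} [AddCommGroup M] [Module R M]
    [AddCommGroup N] [Module R N] (e : M ≃ₗ[R] N) (h : Subsingleton (LocCoh.H I q M)) :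
    Subsingleton (LocCoh.H I q N) := by
  have e' := ((localCohomology I q).mapIso e.toModuleIso).toLinearEquiv
  exact e'.symm.toEquiv.subsingleton

theorem subsingleton_H_baseChange (R' : Type u) [CommRing R'] [IsNoetherianRing R'] [Algebra R R']
    [Module.Flat R R'] (I : Ideal R) (q : ℕ) (M : Type u) [AddCommGroup M] [Module R M]
    (h : Subsingleton (LocCoh.H I q M)) :
    Subsingleton (LocCoh.H (I.map (algebraMap R R')) q (R' ⊗[R] M)) := by
  obtain ⟨e⟩ := Groth.Agent.S11617.result R R' I M q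
  have hz : ∀ z : R' ⊗[R] LocCoh.H I q M, z = 0 := fun z => by
    induction z using TensorProduct.induction_on with
    | zero => rfl
    | tmul r m => rw [Subsingleton.elim m 0, TensorProduct.tmul_zero]
    | add a b ha hb => rw [ha, hb, add_zero]
  haveI : Subsingleton (R' ⊗[R] LocCoh.H I q M) := ⟨fun x y => by rw [hz x, hz y]⟩
  exact e.symm.toEquiv.subsingleton

theorem subsingleton_of_tensor {A B : Type u} [CommRing A] [CommRing B] [Algebra A B]
    (ρ : B →ₗ[A] A) (hρ : ρ 1 = 1) (N : Type u) [AddCommGroup N] [Module A N]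
    (h : Subsingleton (B ⊗[A] N)) : Subsingleton N := by
  refine ⟨fun x y => ?_⟩
  have key : ∀ n : N, (TensorProduct.lid A N) (LinearMap.rTensor N ρ ((1 : B) ⊗ₜ[A] n)) = n := by
    intro n
    rw [LinearMap.rTensor_tmul, hρ, TensorProduct.lid_tmul, one_smul]
  rw [← key x, ← key y, Subsingleton.elim ((1 : B) ⊗ₜ[A] x) ((1 : B) ⊗ₜ[A] y)]

end General

section Concrete

variable {A : Type u} [CommRing A] (𝓕 : FiltBl.IdealFiltration A)

/-- The ideal generated by the homogeneous elements of positive degree, as a homogeneous ideal. -/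
def posH : HomogeneousIdeal (grd 𝓕) := ⟨Rp (grd 𝓕), Rp_isHomogeneous (grd 𝓕)⟩

theorem posH_toIdeal : (posH 𝓕).toIdeal =
    Ideal.span (⋃ n ∈ Set.Ioi (0 : ℤ), (grd 𝓕 n : Set 𝓕.extRees)) := rfl

theorem pos₀_eq : Ideal.span {x : 𝓕.extRees | ∃ n : ℤ, 0 < n ∧ ∃ a : A,
    (x : A[T;T⁻¹]) = C a * T n} = (posH 𝓕).toIdeal := by
  rw [posH_toIdeal]
  congr 1
  ext x
  simp only [Set.mem_ofPred_eq, Set.mem_iUnion, Set.mem_Ioi, SetLike.mem_coe, exists_prop]
  constructor
  · rintro ⟨n, hn, a, hx⟩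
    refine ⟨n, hn, fun m hm => ?_⟩
    rw [hx, ← LaurentPolynomial.single_eq_C_mul_T, AddMonoidAlgebra.coeff_single,
      Finsupp.single_apply, if_neg (Ne.symm hm)]
  · rintro ⟨n, hn, hx⟩
    exact ⟨n, hn, (x : A[T;T⁻¹]).coeff n, by
      rw [← LaurentPolynomial.single_eq_C_mul_T]
      exact coe_eq_single_of_mem 𝓕 hx⟩

/-- The coefficient of `T^0`. -/
def coeff0 : A[T;T⁻¹] →ₗ[A] A where
  toFun f := f.coeff 0
  map_add' f g := by
    show (f + g).coeff 0 = f.coeff 0 + g.coeff 0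
    rw [AddMonoidAlgebra.coeff_add, Finsupp.add_apply]
  map_smul' r f := by
    show (r • f).coeff 0 = r • f.coeff 0
    rw [AddMonoidAlgebra.coeff_smul, Finsupp.smul_apply]

theorem coeff0_one : coeff0 (A := A) 1 = 1 := by
  show (1 : A[T;T⁻¹]).coeff 0 = 1
  rw [← LaurentPolynomial.T_zero, LaurentPolynomial.T_apply, if_pos rfl]

theorem map_posH_eq : (posH 𝓕).toIdeal.map (algebraMap 𝓕.extRees A[T;T⁻¹]) =
    (𝓕.F 1).map (algebraMap A A[T;T⁻¹]) := by
  apply le_antisymm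
  · rw [posH_toIdeal, Ideal.map_span, Ideal.span_le]
    rintro _ ⟨x, hx, rfl⟩
    simp only [Set.mem_iUnion, Set.mem_Ioi, SetLike.mem_coe, exists_prop] at hx
    obtain ⟨n, hn, hxn⟩ := hx
    rw [Groth.Agent.Lib.Helper29ExtRees.algebraMap_eq, coe_eq_single_of_mem 𝓕 hxn, LaurentPolynomial.single_eq_C_mul_T,
      LaurentPolynomial.C_eq_algebraMap]
    exact Ideal.mul_mem_right _ _ (Ideal.mem_map_of_mem _ (F_le_one 𝓕 hn (x.2 n)))
  · rw [Ideal.map_le_iff_le_comap]
    intro a ha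
    rw [Ideal.mem_comap]
    have ha1 : a ∈ 𝓕.F (1 : ℤ).toNat := ha
    have hmem : (⟨AddMonoidAlgebra.single 1 a, single_mem 𝓕 ha1⟩ : 𝓕.extRees) ∈
        (posH 𝓕).toIdeal := by
      rw [posH_toIdeal]
      apply Ideal.subset_span
      simp only [Set.mem_iUnion, Set.mem_Ioi, SetLike.mem_coe, exists_prop]
      refine ⟨1, one_pos, fun m hm => ?_⟩
      show (AddMonoidAlgebra.single (1 : ℤ) a : A[T;T⁻¹]).coeff m = 0
      rw [AddMonoidAlgebra.coeff_single, Finsupp.single_apply, if_neg (Ne.symm hm)]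
    have h1 := Ideal.mul_mem_right (T (-1) : A[T;T⁻¹]) _
      (Ideal.mem_map_of_mem (algebraMap 𝓕.extRees A[T;T⁻¹]) hmem)
    have h2 : algebraMap 𝓕.extRees A[T;T⁻¹]
        (⟨AddMonoidAlgebra.single 1 a, single_mem 𝓕 ha1⟩ : 𝓕.extRees) * T (-1) =
        algebraMap A A[T;T⁻¹] a := by
      rw [Groth.Agent.Lib.Helper29ExtRees.algebraMap_eq]
      show (AddMonoidAlgebra.single (1 : ℤ) a : A[T;T⁻¹]) * T (-1) = _
      rw [LaurentPolynomial.single_eq_C_mul_T, mul_assoc, ← LaurentPolynomial.T_add,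
        ← LaurentPolynomial.C_eq_algebraMap]
      simp
    rwa [h2] at h1

variable [IsNoetherianRing 𝓕.extRees]

set_option synthInstance.maxHeartbeats 400000 in
set_option maxHeartbeats 1000000 in
/-- `u` acts surjectively on `H^q_I(R')` when `H^q_{IG}(G) = 0`. -/
theorem exists_smul_u_eq (I : Ideal 𝓕.extRees) (q : ℕ)
    (hG : Subsingleton (LocCoh.H (I.map (Ideal.Quotient.mk (Ideal.span {𝓕.u}))) q 𝓕.Gr))
    (y : LocCoh.H I q 𝓕.extRees) : ∃ z : LocCoh.H I q 𝓕.extRees, 𝓕.u • z = y := by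
  have hex : Function.Exact (LinearMap.lsmul 𝓕.extRees 𝓕.extRees 𝓕.u)
      (Ideal.span {𝓕.u}).mkQ := by
    intro x
    rw [Submodule.mkQ_apply, Submodule.Quotient.mk_eq_zero, Ideal.mem_span_singleton']
    constructor
    · rintro ⟨a, rfl⟩
      exact ⟨a, by simp [mul_comm]⟩
    · rintro ⟨a, rfl⟩
      exact ⟨a, by simp [mul_comm]⟩
  have hinj : Function.Injective (LinearMap.lsmul 𝓕.extRees 𝓕.extRees 𝓕.u) := by
    intro x y hxy
    have h1 : 𝓕.u * x = 𝓕.u * y := hxy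
    have h2 : (x - y) * 𝓕.u = 0 := by
      rw [sub_mul, mul_comm x, mul_comm y, h1, sub_self]
    exact sub_eq_zero.mp ((mem_nonZeroDivisors_iff_right.mp (u_mem_nonZeroDivisors 𝓕)) _ h2)
  have hS := Sfg_shortExact _ _ hinj (Submodule.mkQ_surjective _) hex
  obtain ⟨φ, -⟩ := Groth.Agent.S11614.result 𝓕.extRees 𝓕.Gr I 𝓕.Gr q
  haveI hsub : Subsingleton (LocCoh.H I q 𝓕.Gr) := φ.symm.toEquiv.subsingleton
  obtain ⟨x, hx⟩ := H_exact₂ I q _ hS y (Subsingleton.elim _ _)
  refine ⟨x, ?_⟩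
  rw [← hx]
  exact (H_map_lsmul I q 𝓕.extRees 𝓕.u x).symm

end Concrete

section Main

variable {A : Type u} [CommRing A] [IsNoetherianRing A] (𝓕 : FiltBl.IdealFiltration A)

set_option synthInstance.maxHeartbeats 400000 in
set_option maxHeartbeats 1000000 in
theorem main (hfg : Algebra.FiniteType A 𝓕.rees) (q : ℕ)
    (hG : Subsingleton (LocCoh.H
      ((Ideal.span {x : 𝓕.extRees | ∃ n : ℤ, 0 < n ∧ ∃ a : A, (x : A[T;T⁻¹]) = C a * T n}).map
        (Ideal.Quotient.mk (Ideal.span {𝓕.u}))) q 𝓕.Gr)) :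
    Subsingleton (LocCoh.H (𝓕.F 1) q A) := by
  haveI := isNoetherianRing_extRees 𝓕 hfg
  rw [pos₀_eq] at hG
  -- Step 1: `H^q_{R'_+}(R') = 0`
  obtain ⟨E, hE⟩ : ∃ E : GrLC.StarInjRes (grd 𝓕) (grd 𝓕), E = starInjRes (grd 𝓕) (grd 𝓕) :=
    ⟨_, rfl⟩
  obtain ⟨ψ⟩ := Groth.Agent.S13224.result 𝓕.extRees (grd 𝓕) (posH 𝓕) 𝓕.extRees (grd 𝓕) E q
  have hsurj : ∀ y : E.H (posH 𝓕) q, ∃ z : E.H (posH 𝓕) q, 𝓕.u • z = y := by
    intro y
    obtain ⟨z, hz⟩ := exists_smul_u_eq 𝓕 (posH 𝓕).toIdeal q hG (ψ y)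
    exact ⟨ψ.symm z, by rw [← map_smul, hz, LinearEquiv.symm_apply_apply]⟩
  have hzero := H_eq_zero_of_surjective_smul (posH 𝓕) E (posH_toIdeal 𝓕) q 𝓕.u (u_mem_grd 𝓕) hsurj
  have h1 : Subsingleton (LocCoh.H (posH 𝓕).toIdeal q 𝓕.extRees) := ⟨fun x y => by
    rw [← ψ.apply_symm_apply x, ← ψ.apply_symm_apply y, hzero (ψ.symm x), hzero (ψ.symm y)]⟩
  -- Step 2: base change to `A[T,T⁻¹]`
  haveI : Module.Flat 𝓕.extRees A[T;T⁻¹] := IsLocalization.flat A[T;T⁻¹] (Submonoid.powers 𝓕.u)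
  haveI : IsNoetherianRing A[T;T⁻¹] :=
    IsLocalization.isNoetherianRing (Submonoid.powers 𝓕.u) A[T;T⁻¹] inferInstance
  have h2 := subsingleton_H_baseChange A[T;T⁻¹] (posH 𝓕).toIdeal q 𝓕.extRees h1
  have h3 := subsingleton_H_congr _ q
    (TensorProduct.AlgebraTensorModule.rid 𝓕.extRees A[T;T⁻¹] A[T;T⁻¹]) h2
  rw [map_posH_eq] at h3
  -- Step 3: descend to `A`
  have h4 := subsingleton_H_congr _ q
    (TensorProduct.AlgebraTensorModule.rid A A[T;T⁻¹] A[T;T⁻¹]).symm h3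
  obtain ⟨e⟩ := Groth.Agent.S11617.result A A[T;T⁻¹] (𝓕.F 1) A q
  have h5 : Subsingleton (A[T;T⁻¹] ⊗[A] LocCoh.H (𝓕.F 1) q A) := e.toEquiv.subsingleton
  exact subsingleton_of_tensor coeff0 coeff0_one _ h5

end Main

end Groth.Agent.Lib.Helper29.FiltLC
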