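import Mathlib
import Groth.Prelude.Def_Wider
import Groth.Agent.Lib.Helper1Devissage

/-! Finiteness of `Hom_{D(R)}(K, W)` by dévissage on the cohomology of a bounded `K` (helper29). -/

set_option autoImplicit false
set_option linter.style.haveILetI false
set_option linter.unusedSectionVars false
universe u
open CategoryTheory CategoryTheory.Limits DerivedCategory Pretriangulated

attribute [local instance] HasDerivedCategory.standard

namespace Groth.Agent.Lib.Helper29.FinExtA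

variable {R : Type u} [CommRing R] [IsNoetherianRing R]

/-- finiteness of `Hom(-, W)` is closed under extensions -/
theorem finite_hom_of_distTriang (W : Dual.D R) (T : Triangle (Dual.D R))
    (hT : T ∈ distTriang (Dual.D R))
    (h1 : Module.Finite R (T.obj₁ ⟶ W)) (h3 : Module.Finite R (T.obj₃ ⟶ W)) :
    Module.Finite R (T.obj₂ ⟶ W) := by
  let f : (T.obj₃ ⟶ W) →ₗ[R] (T.obj₂ ⟶ W) := Linear.leftComp R W T.mor₂
  let g : (T.obj₂ ⟶ W) →ₗ[R] (T.obj₁ ⟶ W) := Linear.leftComp R W T.mor₁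
  have hfg : LinearMap.range f = LinearMap.ker g := by
    ext y
    constructor
    · rintro ⟨x, rfl⟩
      change T.mor₁ ≫ T.mor₂ ≫ x = 0
      rw [← Category.assoc, comp_distTriang_mor_zero₁₂ T hT, zero_comp]
    · intro hy
      obtain ⟨x, hx⟩ := Triangle.yoneda_exact₂ T hT y hy
      exact ⟨x, hx.symm⟩
  haveI : IsNoetherian R (T.obj₃ ⟶ W) := isNoetherian_of_isNoetherianRing_of_finite R _
  haveI : IsNoetherian R (T.obj₁ ⟶ W) := isNoetherian_of_isNoetherianRing_of_finite R _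
  haveI := isNoetherian_of_range_eq_ker f g hfg
  exact Module.IsNoetherian.finite R _

theorem finite_hom_of_iso (W : Dual.D R) {K L : Dual.D R} (e : K ≅ L)
    (h : Module.Finite R (K ⟶ W)) : Module.Finite R (L ⟶ W) := by
  let f : (K ⟶ W) →ₗ[R] (L ⟶ W) := Linear.leftComp R W e.inv
  have hf : Function.Surjective f := by
    intro y
    exact ⟨e.hom ≫ y, by change e.inv ≫ e.hom ≫ y = y; rw [Iso.inv_hom_id_assoc]⟩
  exact Module.Finite.of_surjective f hf

theorem finite_hom_of_isZero (W : Dual.D R) {K : Dual.D R} (hK : IsZero K) :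
    Module.Finite R (K ⟶ W) := by
  haveI : Subsingleton (K ⟶ W) := ⟨fun a b => hK.eq_of_src a b⟩
  infer_instance

/-- dévissage: `Hom(K, W)` is finite if `Hom(H^j(K)[-j], W)` is finite for all `j`, for a
cohomologically bounded `K`. -/
theorem finite_hom_of_bounded (W : Dual.D R) (K : Dual.D R) (a b : ℤ)
    (hK : ∀ i : ℤ, (i < a ∨ b < i) → IsZero ((homologyFunctor (ModuleCat.{u} R) i).obj K))
    (h : ∀ j : ℤ, a ≤ j → j ≤ b → Module.Finite R
      ((singleFunctor (ModuleCat.{u} R) j).obj ((homologyFunctor (ModuleCat.{u} R) j).obj K) ⟶ W)) :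
    Module.Finite R (K ⟶ W) := by
  let P : ObjectProperty (Dual.D R) := fun K => Module.Finite R (K ⟶ W)
  haveI : P.IsClosedUnderIsomorphisms := ⟨fun e h => finite_hom_of_iso W e h⟩
  exact Groth.Agent.Lib.Helper1.Devissage.induction_homology' P
    (fun K hK => finite_hom_of_isZero W hK)
    (fun T hT h1 h3 => finite_hom_of_distTriang W T hT h1 h3) K a b hK h

/-- shifting: `Hom(X[-j], W[i])` embeds into `Hom(X, W[i + j])` -/
theorem finite_hom_single_shift (X : ModuleCat.{u} R) (W : Dual.D R) (j i m : ℤ) (hm : i + j = m)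
    (h : Module.Finite R ((singleFunctor (ModuleCat.{u} R) 0).obj X ⟶ W⟦m⟧)) :
    Module.Finite R ((singleFunctor (ModuleCat.{u} R) j).obj X ⟶ W⟦i⟧) := by
  let e₁ : ((singleFunctor (ModuleCat.{u} R) 0).obj X)⟦-j⟧ ≅ (singleFunctor (ModuleCat.{u} R) j).obj X :=
    ((singleFunctors (ModuleCat.{u} R)).shiftIso (-j) j 0 (by omega)).app X
  let e₀ : ((singleFunctor (ModuleCat.{u} R) 0).obj X)⟦-j⟧⟦j⟧ ≅ (singleFunctor (ModuleCat.{u} R) 0).obj X :=
    (shiftFunctorCompIsoId (Dual.D R) (-j) j (by omega)).app _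
  let a : (W⟦i⟧)⟦j⟧ ≅ W⟦m⟧ := ((shiftFunctorAdd' (Dual.D R) i j m hm).app W).symm
  let φ : ((singleFunctor (ModuleCat.{u} R) j).obj X ⟶ W⟦i⟧) →ₗ[R]
      ((singleFunctor (ModuleCat.{u} R) 0).obj X ⟶ W⟦m⟧) :=
    (Linear.rightComp R _ a.hom) ∘ₗ (Linear.leftComp R _ e₀.inv) ∘ₗ
      ((shiftFunctor (Dual.D R) j).mapLinearMap R) ∘ₗ (Linear.leftComp R _ e₁.hom)
  have hφ : Function.Injective φ := by
    intro x y hxy
    have h1 : e₀.inv ≫ (e₁.hom ≫ x)⟦j⟧' ≫ a.hom = e₀.inv ≫ (e₁.hom ≫ y)⟦j⟧' ≫ a.hom := by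
      simpa [φ] using hxy
    have h2 : (e₁.hom ≫ x)⟦j⟧' = (e₁.hom ≫ y)⟦j⟧' := by
      have := (cancel_epi e₀.inv).mp h1
      exact (cancel_mono a.hom).mp this
    have h3 := (shiftFunctor (Dual.D R) j).map_injective h2
    exact (cancel_epi e₁.hom).mp h3
  haveI : IsNoetherian R ((singleFunctor (ModuleCat.{u} R) 0).obj X ⟶ W⟦m⟧) :=
    isNoetherian_of_isNoetherianRing_of_finite R _
  exact Module.Finite.of_injective φ hφ

end Groth.Agent.Lib.Helper29.FinExtA
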