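import Mathlib
import Groth.Agent.Lib.Helper8FinLen
import Groth.Agent.Lib.Helper8LocDualK
import Groth.Agent.Lib.Helper28FGDim
import Groth.Agent.Lib.Helper28DepthCM
import Groth.Agent.S11625

/-! Vanishing of `Ext^t_R(N, R)` over a regular ring when the support of `N` contains no prime of
height exactly `t` (helper29). -/

set_option autoImplicit false
set_option linter.style.haveILetI false
universe u
open CategoryTheory CategoryTheory.Abelian IsLocalRing

namespace Groth.Agent.Lib.Helper29.FinExtB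

variable {R : Type u} [CommRing R]

/-- along a strictly increasing chain of primes the height grows at least by the length -/
theorem height_head_add_length_le (p : LTSeries (PrimeSpectrum R)) :
    Order.height p.head + p.length ≤ Order.height p.last := by
  by_cases htop : Order.height p.head = ⊤
  · have h1 : Order.height p.head ≤ Order.height p.last :=
      Order.height_mono (LTSeries.head_le_last p)
    rw [htop] at h1 ⊢
    rw [top_add]
    exact h1
  · obtain ⟨n, hn⟩ := ENat.ne_top_iff_exists.mp htop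
    obtain ⟨q, hq1, hq2⟩ := Order.exists_series_of_le_height p.head (n := n) (by rw [← hn])
    have h := Order.length_le_height_last (p := q.smash p hq1)
    rw [RelSeries.last_smash] at h
    rw [← hn]
    refine le_trans ?_ h
    rw [show (q.smash p hq1).length = q.length + p.length from rfl, hq2]
    push_cast
    exact le_rfl

/-- intermediate value property for heights of primes in a Cohen–Macaulay ring -/
theorem exists_prime_height_eq [hR : LocCoh.IsCohenMacaulayRing R] (t : ℕ) :
    ∀ (n : ℕ) (P Q : PrimeSpectrum R), P ≤ Q → Q.asIdeal.height = n → P.asIdeal.height ≤ t →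
      t ≤ n → ∃ P' : PrimeSpectrum R, P ≤ P' ∧ P' ≤ Q ∧ P'.asIdeal.height = t := by
  intro n
  induction n with
  | zero =>
    intro P Q hPQ hQ hP ht
    obtain rfl : t = 0 := by omega
    exact ⟨Q, hPQ, le_rfl, hQ⟩
  | succ n ih =>
    intro P Q hPQ hQ hP ht
    by_cases htn : t = n + 1
    · exact ⟨Q, hPQ, le_rfl, by rw [hQ, htn]⟩
    have htn' : t ≤ n := by omega
    have hne : P ≠ Q := by
      rintro rfl
      rw [hQ] at hP
      have : n + 1 ≤ t := by exact_mod_cast hP
      omega
    have hlt : P < Q := lt_of_le_of_ne hPQ hne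
    obtain ⟨s, ⟨hsprime, hps, hsq⟩, hmax⟩ := (wellFounded_gt (α := Ideal R)).has_min
      {J : Ideal R | J.IsPrime ∧ P.asIdeal ≤ J ∧ J < Q.asIdeal} ⟨P.asIdeal, P.2, le_rfl, hlt⟩
    let S : PrimeSpectrum R := ⟨s, hsprime⟩
    have hcov : S ⋖ Q := by
      refine ⟨hsq, fun T hST hTQ => ?_⟩
      exact hmax T.asIdeal ⟨T.2, le_trans hps (le_of_lt hST), hTQ⟩ hST
    have hht := Groth.Agent.Lib.Helper28.height_eq_succ_of_covBy_of_isCohenMacaulayRing hcov
    have hS : S.asIdeal.height = n := by
      rw [hQ] at hht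
      have hfin : S.asIdeal.height ≠ ⊤ := Ideal.height_ne_top S.2.ne_top
      obtain ⟨m, hm⟩ := ENat.ne_top_iff_exists.mp hfin
      rw [← hm] at hht ⊢
      have : n + 1 = m + 1 := by exact_mod_cast hht
      congr 1
      omega
    obtain ⟨P', h1, h2, h3⟩ := ih P S hps hS hP htn'
    exact ⟨P', h1, h2.trans (le_of_lt hsq), h3⟩

/-- Over a regular ring, `Ext^t_R(N, R) = 0` as soon as the support of the finite module `N`
contains no prime of height exactly `t`. -/
theorem subsingleton_ext_of_forall_height_ne [IsRegularRing R] (N : Type u) [AddCommGroup N]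
    [Module R N] [Module.Finite R N] (t : ℕ)
    (h : ∀ P : PrimeSpectrum R, P ∈ Module.support R N → P.asIdeal.height ≠ t) :
    Subsingleton (Ext.{u} (ModuleCat.of R N) (ModuleCat.of R R) t) := by
  haveI hCM : LocCoh.IsCohenMacaulayRing R :=
    Groth.Agent.Lib.Helper8.LocDualK.isCohenMacaulayRing_of_isRegularRing
  suffices H : ∀ x : Ext.{u} (ModuleCat.of R N) (ModuleCat.of R R) t, x = 0 from
    ⟨fun a b => (H a).trans (H b).symm⟩
  intro x
  by_contra hx
  let 𝔞 : Ideal R := LinearMap.ker (LinearMap.toSpanSingleton R _ x)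
  have h𝔞 : 𝔞 ≠ ⊤ := by
    intro htop
    have h1 : (1 : R) ∈ 𝔞 := htop ▸ Submodule.mem_top
    rw [LinearMap.mem_ker, LinearMap.toSpanSingleton_apply, one_smul] at h1
    exact hx h1
  obtain ⟨𝔮, h𝔮max, h𝔞𝔮⟩ := Ideal.exists_le_maximal 𝔞 h𝔞
  haveI h𝔮 : 𝔮.IsPrime := h𝔮max.isPrime
  have hsx : ∀ s : 𝔮.primeCompl, (s : R) • x ≠ 0 := by
    intro s hs
    apply s.2
    apply h𝔞𝔮
    rw [LinearMap.mem_ker, LinearMap.toSpanSingleton_apply]
    exact hs
  obtain ⟨d, hd⟩ := ENat.ne_top_iff_exists.mp (Ideal.height_ne_top h𝔮.ne_top)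
  have htd : t ≤ d := by
    by_contra hlt
    obtain ⟨s, hs⟩ := Groth.Agent.Lib.Helper8.FinLen.tors_of_height_lt N 𝔮 d hd.symm t
      (by omega) x
    exact hsx s hs
  haveI : IsRegularLocalRing (Localization.AtPrime 𝔮) :=
    IsRegularRing.isRegularLocalRing_localization 𝔮
  have hdim : ringKrullDim (Localization.AtPrime 𝔮) = d := by
    rw [IsLocalization.AtPrime.ringKrullDim_eq_height 𝔮 (Localization.AtPrime 𝔮), ← hd]
    rfl
  have hK := Groth.Agent.Lib.Helper8.LocDualK.K_abs 𝔮 d hdim N (LocalizedModule 𝔮.primeCompl N)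
    (LocalizedModule.mkLinearMap 𝔮.primeCompl N) (d - t)
  have hdt : d - (d - t) = t := by omega
  rw [hdt] at hK
  have hns : ¬ Subsingleton (LocCoh.H (maximalIdeal (Localization.AtPrime 𝔮)) (d - t)
      (LocalizedModule 𝔮.primeCompl N)) := by
    intro hsub
    rcases hK.mp hsub with h1 | h1
    · omega
    · obtain ⟨s, hs⟩ := h1 x
      exact hsx s hs
  have hsd : ¬ (Module.supportDim (Localization.AtPrime 𝔮) (LocalizedModule 𝔮.primeCompl N) <
      ((d - t : ℕ) : WithBot ℕ∞)) :=
    fun hlt => hns (Groth.Agent.S11625.result _ _ _ _ hlt)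
  by_cases hmem : (⟨𝔮, h𝔮⟩ : PrimeSpectrum R) ∈ Module.support R N
  swap
  · apply hsd
    rw [Module.notMem_support_iff] at hmem
    haveI := hmem
    rw [Module.supportDim_eq_bot_of_subsingleton]
    exact WithBot.bot_lt_coe _
  rw [Groth.Agent.Lib.Helper28.supportDim_localization_eq_height 𝔮 N hmem] at hsd
  have hle : ((d - t : ℕ) : ℕ∞) ≤
      Order.height (⟨⟨𝔮, h𝔮⟩, hmem⟩ : Module.support R N) := by
    by_contra hlt
    apply hsd
    have h1 := not_le.mp hlt
    exact WithBot.coe_lt_coe.mpr h1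
  obtain ⟨p, hp1, hp2⟩ := Order.exists_series_of_le_height _ hle
  have hsm : StrictMono (Subtype.val : Module.support R N → PrimeSpectrum R) :=
    fun _ _ hab => hab
  obtain ⟨p', hp'⟩ : ∃ p' : LTSeries (PrimeSpectrum R), p' = p.map Subtype.val hsm := ⟨_, rfl⟩
  have hchain := height_head_add_length_le p'
  have hlast : p'.last = ⟨𝔮, h𝔮⟩ := by
    rw [hp', LTSeries.last_map, hp1]
  have hlen : p'.length = d - t := by
    rw [hp']
    exact hp2
  have hQ : Order.height (⟨𝔮, h𝔮⟩ : PrimeSpectrum R) = d := by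
    rw [hd, ← PrimeSpectrum.height_eq_orderHeight]
  rw [hlast, hlen, hQ] at hchain
  have hP0 : p'.head.asIdeal.height ≤ t := by
    rw [PrimeSpectrum.height_eq_orderHeight]
    by_contra hgt
    have h1 : ((t + 1 : ℕ) : ℕ∞) ≤ Order.height p'.head := by
      have := not_le.mp hgt
      exact_mod_cast Order.add_one_le_of_lt this
    have h2 : ((t + 1 : ℕ) : ℕ∞) + ((d - t : ℕ) : ℕ∞) ≤ d :=
      le_trans (add_le_add h1 le_rfl) hchain
    have h3 : t + 1 + (d - t) ≤ d := by exact_mod_cast h2
    omega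
  have hP0Q : p'.head ≤ (⟨𝔮, h𝔮⟩ : PrimeSpectrum R) := by
    rw [← hlast]
    exact LTSeries.head_le_last p'
  obtain ⟨P', h1, h2, h3⟩ := exists_prime_height_eq t d p'.head ⟨𝔮, h𝔮⟩ hP0Q hd.symm hP0 htd
  have hP0mem : p'.head ∈ Module.support R N := by
    rw [hp', LTSeries.head_map]
    exact p.head.2
  exact h P' (Module.mem_support_mono h1 hP0mem) h3

end Groth.Agent.Lib.Helper29.FinExtB
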