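import Mathlib
import Groth.Agent.Lib.Helper10PunctJac
import Groth.Agent.Lib.Helper28Normal
import Groth.Agent.Lib.Helper28FGDim

/-! Primes just below a prime of `V(I)` and not in `V(I)` (helper29). -/

set_option autoImplicit false
set_option linter.style.haveILetI false
universe u

namespace Groth.Agent.Lib.Helper29.FinExtC

variable {R : Type u} [CommRing R]

/-- In a Noetherian ring, for primes `P ≤ Q` with `I ⊄ P`, `I ⊆ Q` there is a prime `P'` with
`P ≤ P' ⋖ Q` and `I ⊄ P'`. -/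
theorem exists_covBy_not_le [IsNoetherianRing R] (I : Ideal R) (P Q : PrimeSpectrum R) (hPQ : P ≤ Q)
    (hIP : ¬ I ≤ P.asIdeal) (hIQ : I ≤ Q.asIdeal) :
    ∃ P' : PrimeSpectrum R, P ≤ P' ∧ P' ⋖ Q ∧ ¬ I ≤ P'.asIdeal := by
  obtain ⟨s, ⟨hsprime, hPs, hsQ, hIs⟩, hmax⟩ := (wellFounded_gt (α := Ideal R)).has_min
    {J : Ideal R | J.IsPrime ∧ P.asIdeal ≤ J ∧ J ≤ Q.asIdeal ∧ ¬ I ≤ J} ⟨P.asIdeal, P.2, le_rfl, hPQ, hIP⟩
  haveI := hsprime
  haveI hQprime : Q.asIdeal.IsPrime := Q.2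
  let S : PrimeSpectrum R := ⟨s, hsprime⟩
  have hsne : s ≠ Q.asIdeal := fun h => hIs (h ▸ hIQ)
  have hslt : s < Q.asIdeal := lt_of_le_of_ne hsQ hsne
  refine ⟨S, hPs, ⟨hslt, ?_⟩, hIs⟩
  intro T hST hTQ
  obtain ⟨g, hgI, hgs⟩ := Set.not_subset.mp hIs
  -- localize at Q
  let B := Localization.AtPrime Q.asIdeal
  have hmQ : (IsLocalRing.maximalIdeal B).comap (algebraMap R B) = Q.asIdeal :=
    IsLocalization.AtPrime.under_maximalIdeal B Q.asIdeal
  have hmc : ∀ q : Ideal B, (q.comap (algebraMap R B)).map (algebraMap R B) = q := fun q =>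
    IsLocalization.map_under Q.asIdeal.primeCompl B q
  obtain ⟨hp', hcomap⟩ := Groth.Agent.Lib.Helper28.isPrime_map_and_comap_map_of_le Q.asIdeal hsQ
  haveI := hp'
  have hgp : algebraMap R B g ∉ s.map (algebraMap R B) := by
    intro hmem
    apply hgs
    rw [← hcomap]
    exact hmem
  have key : ∀ q : Ideal B, q.IsPrime → s.map (algebraMap R B) ≤ q → algebraMap R B g ∉ q →
      q = s.map (algebraMap R B) := by
    intro q hq hle hg
    haveI := hq
    have hcq : (q.comap (algebraMap R B)).IsPrime := Ideal.comap_isPrime _ q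
    have h1 : s ≤ q.comap (algebraMap R B) := by
      rw [← hcomap]
      exact Ideal.comap_mono hle
    have h2 : q.comap (algebraMap R B) ≤ Q.asIdeal := by
      have hqm : q ≤ IsLocalRing.maximalIdeal B := IsLocalRing.le_maximalIdeal hq.ne_top
      have := Ideal.comap_mono (f := algebraMap R B) hqm
      rwa [hmQ] at this
    have h3 : ¬ I ≤ q.comap (algebraMap R B) := fun hI => hg (hI hgI)
    have h4 : q.comap (algebraMap R B) = s := by
      by_contra hne
      exact hmax (q.comap (algebraMap R B)) ⟨hcq, hPs.trans h1, h2, h3⟩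
        (lt_of_le_of_ne h1 (Ne.symm hne))
    rw [← h4, hmc q]
  obtain ⟨hT', hTcomap⟩ :=
    Groth.Agent.Lib.Helper28.isPrime_map_and_comap_map_of_le Q.asIdeal (q := T.asIdeal)
      (le_of_lt hTQ)
  haveI := hT'
  have hlt : s.map (algebraMap R B) < T.asIdeal.map (algebraMap R B) := by
    refine lt_of_le_of_ne (Ideal.map_mono (le_of_lt hST)) ?_
    intro heq
    have : s = T.asIdeal := by rw [← hcomap, heq, hTcomap]
    exact (ne_of_lt hST) (PrimeSpectrum.ext this)
  have hTmax := Groth.Agent.Lib.Helper10.PunctJac.isMaximal_of_lt_of_forall_eq hgp key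
    (T.asIdeal.map (algebraMap R B)) hlt
  have hTeq : T.asIdeal.map (algebraMap R B) = IsLocalRing.maximalIdeal B :=
    IsLocalRing.eq_maximalIdeal hTmax
  have : T.asIdeal = Q.asIdeal := by
    rw [← hTcomap, hTeq, hmQ]
  exact (ne_of_lt hTQ) (PrimeSpectrum.ext this)

/-- In a Cohen–Macaulay ring: if `Q ⊇ P + I` has height `t` and `I ⊄ P`, some prime `P' ⊇ P` not
containing `I` has `ht (P' + I) = t`. -/
theorem exists_height_sup_eq [hR : LocCoh.IsCohenMacaulayRing R] (I : Ideal R)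
    (P Q : PrimeSpectrum R) (hPQ : P ≤ Q) (hIP : ¬ I ≤ P.asIdeal) (hIQ : I ≤ Q.asIdeal) (t : ℕ)
    (ht : Q.asIdeal.height = t) :
    ∃ P' : PrimeSpectrum R, P ≤ P' ∧ ¬ I ≤ P'.asIdeal ∧ (P'.asIdeal ⊔ I).height = t := by
  obtain ⟨P', h1, hcov, h3⟩ := exists_covBy_not_le I P Q hPQ hIP hIQ
  have hht := Groth.Agent.Lib.Helper28.height_eq_succ_of_covBy_of_isCohenMacaulayRing hcov
  refine ⟨P', h1, h3, le_antisymm ?_ ?_⟩
  · rw [← ht]
    exact Ideal.height_mono (sup_le (le_of_lt hcov.lt) hIQ)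
  · rw [Ideal.height_eq_inf_minimalPrimes]
    refine le_iInf₂ fun J hJ => ?_
    haveI : J.IsPrime := hJ.1.1
    haveI : P'.asIdeal.IsPrime := P'.2
    have hle : P'.asIdeal ≤ J := le_sup_left.trans hJ.1.2
    have hne : P'.asIdeal ≠ J := fun h => h3 (h ▸ le_sup_right.trans hJ.1.2)
    have := Ideal.height_add_one_le_of_lt_of_isPrime (lt_of_le_of_ne hle hne)
    rw [← ht, hht]
    exact this

end Groth.Agent.Lib.Helper29.FinExtC
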