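import Mathlib
import Groth.Prelude.Def_DerCA
import Groth.Prelude.Def_DRing3
import Groth.Prelude.Def_Wider
import Groth.Agent.Lib.Helper10RGamA
import Groth.Agent.Lib.Helper23InjAmp
import Groth.Agent.Lib.Helper29FinExtA
import Groth.Agent.Lib.Helper29FinExtB
import Groth.Agent.Lib.Helper29FinExtC

/-! Core finiteness of `Hom_{D(R)}(E, RΓ_I(R)[n])` for finite modules over a regular ring under a
height condition on the support (helper29). -/

set_option autoImplicit false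
set_option linter.style.haveILetI false
set_option linter.unusedSectionVars false
set_option linter.overlappingInstances false
universe u
open CategoryTheory CategoryTheory.Limits DerivedCategory Pretriangulated
open CochainComplex HomComplex

attribute [local instance] HasDerivedCategory.standard

namespace Groth.Agent.Lib.Helper29.FinExtD

open Groth.Agent.Lib.Helper10.RGamA Groth.Agent.Lib.Helper23InjAmp

variable {R : Type u} [CommRing R] (I : Ideal R)

/-- a map from a module killed by `I ^ k` into `C^m` factors through `Γ_I (C^m)`. -/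
lemma exists_lift_torsion (C : DRing.Cx R) {N : ModuleCat.{u} R} (k : ℕ)
    (hN : ∀ (a : R) (x : N), a ∈ I ^ k → a • x = 0) (m : ℤ) (g : N ⟶ C.X m) :
    ∃ g' : N ⟶ ((G I).obj C).X m, g' ≫ (ιC I C).f m = g := by
  refine ⟨ModuleCat.ofHom (LinearMap.codRestrict (DRing.torsionSub I (C.X m)) g.hom
    (fun x => ⟨k, fun a ha => by rw [← map_smul, hN a x ha, map_zero]⟩)), ?_⟩
  ext x
  rfl

lemma ιC_f_injective (C : DRing.Cx R) (m : ℤ) : Function.Injective ((ιC I C).f m) :=
  fun _ _ h => Subtype.ext h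

instance (C : DRing.Cx R) (m : ℤ) : Mono ((ιC I C).f m) :=
  (ModuleCat.mono_iff_injective _).2 (ιC_f_injective I C m)

/-- a linear map from a finite module to `Γ_I M` is killed by a power of `I`. -/
lemma exists_pow_kill {E M : Type u} [AddCommGroup E] [Module R E] [Module.Finite R E]
    [AddCommGroup M] [Module R M] (f : E →ₗ[R] DRing.torsionSub I M) :
    ∃ k : ℕ, ∀ (a : R) (x : E), a ∈ I ^ k → a • f x = 0 := by
  obtain ⟨s, hs⟩ := Module.Finite.fg_top (R := R) (M := E)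
  have h1 : ∀ x : E, ∃ n : ℕ, ∀ a ∈ I ^ n, a • f x = 0 := by
    intro x
    obtain ⟨n, hn⟩ := (f x).2
    exact ⟨n, fun a ha => Subtype.ext (hn a ha)⟩
  choose n hn using h1
  refine ⟨s.sup n, fun a x ha => ?_⟩
  have hx : x ∈ Submodule.span R (s : Set E) := by rw [hs]; trivial
  induction hx using Submodule.span_induction with
  | mem y hy => exact hn y a (Ideal.pow_le_pow_right (Finset.le_sup hy) ha)
  | zero => rw [map_zero, smul_zero]
  | add y z _ _ hy hz => rw [map_add, smul_add, hy, hz, add_zero]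
  | smul c y _ hy => rw [map_smul, smul_comm, hy, smul_zero]

theorem Ψ_mk (K L : DRing.Cx R) (n : ℤ) (z : Cocycle K L n) :
    Ψ K L n (CohomologyClass.mk z) =
      Q.map (Cocycle.equivHomShift.symm z) ≫ (Q.commShiftIso n).hom.app L := by
  have h := (quotientCompQhIso (ModuleCat.{u} R)).hom.naturality (Cocycle.equivHomShift.symm z)
  simp only [Ψ, CohomologyClass.toHom_mk, Iso.homCongr_symm, Iso.homCongr_apply, Iso.symm_inv,
    Iso.symm_hom, Iso.app_hom, Iso.app_inv, Iso.trans_inv]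
  rw [Functor.comp_map] at h
  rw [reassoc_of% h, Iso.inv_hom_id_app_assoc]

theorem Ψ_mk_comp (K L L' : DRing.Cx R) (n : ℤ) (z : Cocycle K L n) (g : L ⟶ L') :
    Ψ K L n (CohomologyClass.mk z) ≫ (Q.map g)⟦n⟧' = Ψ K L' n (CohomologyClass.mk (z.postcomp g)) := by
  rw [Ψ_mk, Ψ_mk, Cocycle.equivHomShift_symm_postcomp, Functor.map_comp, Category.assoc,
    Category.assoc]
  congr 1
  exact ((Q.commShiftIso n).hom.naturality g).symm

variable (Jc : DRing.Cx R) [Jc.IsKInjective] [((G I).obj Jc).IsKInjective]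

/-- Lemma V: vanishing of `Hom(E, RΓ_I R [n])` from vanishing of `Ext^n(E/I^k E, R)` for all `k`. -/
theorem forall_eq_zero_of_quot (E : ModuleCat.{u} R) [Module.Finite R E] (n : ℤ)
    (h : ∀ k : ℕ, ∀ φ : (DerivedCategory.singleFunctor (ModuleCat.{u} R) 0).obj
        (ModuleCat.of R (E ⧸ ((I ^ k) • (⊤ : Submodule R E)))) ⟶ (Q.obj Jc)⟦n⟧, φ = 0) :
    ∀ φ : (DerivedCategory.singleFunctor (ModuleCat.{u} R) 0).obj E ⟶
      (Q.obj ((G I).obj Jc))⟦n⟧, φ = 0 := by
  rw [single_forall_eq_zero_iff E ((G I).obj Jc) n (n - 1) (n + 1) (by omega) rfl]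
  intro f hf
  obtain ⟨k, hk⟩ := exists_pow_kill I (E := E) (M := Jc.X n) f.hom
  let S : Submodule R E := (I ^ k) • (⊤ : Submodule R E)
  let fι : E →ₗ[R] Jc.X n := (f ≫ (ιC I Jc).f n).hom
  have hS : S ≤ LinearMap.ker fι := by
    rw [Submodule.smul_le]
    intro a ha x _
    rw [LinearMap.mem_ker]
    change ((ιC I Jc).f n) (f.hom (a • x)) = 0
    rw [map_smul]
    exact (congrArg ((ιC I Jc).f n) (hk a x ha)).trans (map_zero _)
  let fbar : ModuleCat.of R (E ⧸ S) ⟶ Jc.X n := ModuleCat.ofHom (S.liftQ fι hS)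
  have hq : ModuleCat.ofHom S.mkQ ≫ fbar = f ≫ (ιC I Jc).f n := by
    ext x
    rfl
  haveI : Epi (ModuleCat.ofHom S.mkQ) :=
    (ModuleCat.epi_iff_surjective _).2 S.mkQ_surjective
  have hfbar : fbar ≫ Jc.d n (n + 1) = 0 := by
    rw [← cancel_epi (ModuleCat.ofHom S.mkQ), reassoc_of% hq, (ιC I Jc).comm, reassoc_of% hf,
      zero_comp, comp_zero]
  obtain ⟨g', hg'⟩ := (single_forall_eq_zero_iff _ Jc n (n - 1) (n + 1) (by omega) rfl).1 (h k)
    fbar hfbar
  obtain ⟨g'', hg''⟩ := exists_lift_torsion I Jc (N := ModuleCat.of R (E ⧸ S)) k (by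
    intro a x ha
    obtain ⟨y, rfl⟩ := S.mkQ_surjective x
    rw [← map_smul, Submodule.mkQ_apply, Submodule.Quotient.mk_eq_zero]
    exact Submodule.smul_mem_smul ha trivial) (n - 1) g'
  refine ⟨ModuleCat.ofHom S.mkQ ≫ g'', ?_⟩
  rw [← cancel_mono ((ιC I Jc).f n), Category.assoc, Category.assoc, ← (ιC I Jc).comm,
    reassoc_of% hg'', hg', hq]

/-- Lemma F: for a module killed by a power of `I`, `Hom(E, RΓ_I R[n]) → Hom(E, R[n])` is
injective. -/
theorem eq_zero_of_comp_ι_eq_zero (E : ModuleCat.{u} R) (k : ℕ)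
    (hE : ∀ (a : R) (x : E), a ∈ I ^ k → a • x = 0) (n : ℤ)
    (φ : (DerivedCategory.singleFunctor (ModuleCat.{u} R) 0).obj E ⟶ (Q.obj ((G I).obj Jc))⟦n⟧)
    (hφ : φ ≫ (Q.map (ιC I Jc))⟦n⟧' = 0) : φ = 0 := by
  obtain ⟨x, rfl⟩ := (Ψ_bijective ((CochainComplex.singleFunctor (ModuleCat.{u} R) 0).obj E)
    ((G I).obj Jc) n).2 φ
  obtain ⟨z, rfl⟩ := x.mk_surjective
  obtain ⟨f, hf, rfl⟩ := Cocycle.fromSingleMk_surjective z n (zero_add n) (n + 1) rfl
  have h1 : Ψ _ ((G I).obj Jc) n (CohomologyClass.mk (Cocycle.fromSingleMk f (zero_add n) (n + 1) rfl hf)) ≫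
      (Q.map (ιC I Jc))⟦n⟧' = Ψ _ Jc n (CohomologyClass.mk (Cocycle.fromSingleMk (f ≫ (ιC I Jc).f n)
        (zero_add n) (n + 1) rfl (by rw [Category.assoc, (ιC I Jc).comm, reassoc_of% hf, zero_comp]))) := by
    rw [Ψ_mk_comp, Cocycle.fromSingleMk_postcomp]
  have h2 : Ψ ((CochainComplex.singleFunctor (ModuleCat.{u} R) 0).obj E) Jc n
      (CohomologyClass.mk (Cocycle.fromSingleMk (f ≫ (ιC I Jc).f n)
        (zero_add n) (n + 1) rfl (by rw [Category.assoc, (ιC I Jc).comm, reassoc_of% hf, zero_comp]))) = 0 := by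
    rw [← h1]; exact hφ
  rw [← Ψ_zero _ Jc n] at h2
  have h3 := (Ψ_bijective _ Jc n).1 h2
  rw [CohomologyClass.mk_eq_zero_iff,
    Cocycle.fromSingleMk_mem_coboundaries_iff _ _ _ _ _ (n - 1) (by omega)] at h3
  obtain ⟨g', hg'⟩ := h3
  obtain ⟨g'', hg''⟩ := exists_lift_torsion I Jc k hE (n - 1) g'
  have h4 : Cocycle.fromSingleMk f (zero_add n) (n + 1) rfl hf ∈ coboundaries _ _ _ := by
    rw [Cocycle.fromSingleMk_mem_coboundaries_iff _ _ _ _ _ (n - 1) (by omega)]
    refine ⟨g'', ?_⟩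
    rw [← cancel_mono ((ιC I Jc).f n), Category.assoc, ← (ιC I Jc).comm, reassoc_of% hg'', hg']
  rw [(CohomologyClass.mk_eq_zero_iff _).2 h4, Ψ_zero]
  rfl

omit [Jc.IsKInjective] [((G I).obj Jc).IsKInjective] in
lemma mem_support_quot_iff (p Q : PrimeSpectrum R) :
    Q ∈ Module.support R (R ⧸ p.asIdeal) ↔ p ≤ Q := by
  rw [Module.mem_support_iff_of_finite, Ideal.annihilator_quotient]
  rfl

section Core

variable [IsNoetherianRing R]
  (e : (DerivedCategory.singleFunctor (ModuleCat.{u} R) 0).obj (ModuleCat.of R R) ≅ Q.obj Jc)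

include e

lemma finite_hom_Jc (E : ModuleCat.{u} R) [Module.Finite R E] (n : ℕ) :
    Module.Finite R ((DerivedCategory.singleFunctor (ModuleCat.{u} R) 0).obj E ⟶
      (Q.obj Jc)⟦(n : ℤ)⟧) := by
  haveI : Module.Finite R ((DerivedCategory.singleFunctor (ModuleCat.{u} R) 0).obj E ⟶
      ((DerivedCategory.singleFunctor (ModuleCat.{u} R) 0).obj (ModuleCat.of R R))⟦(n : ℤ)⟧) :=
    Module.Finite.equiv (Abelian.Ext.homLinearEquiv (R := R) (X := E) (Y := ModuleCat.of R R)
      (n := n))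
  let f := Linear.rightComp R ((DerivedCategory.singleFunctor (ModuleCat.{u} R) 0).obj E)
    (e.hom⟦(n : ℤ)⟧')
  refine Module.Finite.of_surjective f (fun y => ⟨y ≫ e.inv⟦(n : ℤ)⟧', ?_⟩)
  change (y ≫ e.inv⟦(n : ℤ)⟧') ≫ e.hom⟦(n : ℤ)⟧' = y
  rw [Category.assoc, ← Functor.map_comp, Iso.inv_hom_id, CategoryTheory.Functor.map_id, Category.comp_id]

lemma forall_eq_zero_Jc (N : ModuleCat.{u} R) (n : ℕ)
    (h : Subsingleton (Abelian.Ext.{u} N (ModuleCat.of R R) n)) :
    ∀ φ : (DerivedCategory.singleFunctor (ModuleCat.{u} R) 0).obj N ⟶ (Q.obj Jc)⟦(n : ℤ)⟧,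
      φ = 0 := by
  intro φ
  haveI : Subsingleton ((DerivedCategory.singleFunctor (ModuleCat.{u} R) 0).obj N ⟶
      ((DerivedCategory.singleFunctor (ModuleCat.{u} R) 0).obj (ModuleCat.of R R))⟦(n : ℤ)⟧) :=
    (Abelian.Ext.homLinearEquiv (R := R) (X := N) (Y := ModuleCat.of R R)
      (n := n)).symm.toEquiv.subsingleton
  have h1 : φ ≫ e.inv⟦(n : ℤ)⟧' = 0 := Subsingleton.elim _ _
  have h2 : φ = (φ ≫ e.inv⟦(n : ℤ)⟧') ≫ e.hom⟦(n : ℤ)⟧' := by
    rw [Category.assoc, ← Functor.map_comp, Iso.inv_hom_id, CategoryTheory.Functor.map_id, Category.comp_id]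
  rw [h2, h1, zero_comp]

/-- the case of a module killed by a power of `I` -/
lemma finite_hom_of_torsion (E : ModuleCat.{u} R) [Module.Finite R E] (k : ℕ)
    (hE : ∀ (a : R) (x : E), a ∈ I ^ k → a • x = 0) (n : ℕ) :
    Module.Finite R ((DerivedCategory.singleFunctor (ModuleCat.{u} R) 0).obj E ⟶
      (Q.obj ((G I).obj Jc))⟦(n : ℤ)⟧) := by
  haveI := finite_hom_Jc Jc e E n
  haveI : IsNoetherian R ((DerivedCategory.singleFunctor (ModuleCat.{u} R) 0).obj E ⟶
      (Q.obj Jc)⟦(n : ℤ)⟧) := isNoetherian_of_isNoetherianRing_of_finite R _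
  let f := Linear.rightComp R ((DerivedCategory.singleFunctor (ModuleCat.{u} R) 0).obj E)
    ((Q.map (ιC I Jc))⟦(n : ℤ)⟧')
  refine Module.Finite.of_injective f ?_
  rw [← LinearMap.ker_eq_bot, LinearMap.ker_eq_bot']
  intro φ hφ
  exact eq_zero_of_comp_ι_eq_zero I Jc E k hE n φ hφ

/-- the case `R ⧸ p` with `I ⊄ p` -/
lemma forall_eq_zero_quot_prime [IsRegularRing R] (p : PrimeSpectrum R)
    (hIp : ¬ I ≤ p.asIdeal) (n : ℕ)
    (h : ∀ P : PrimeSpectrum R, p ≤ P → ¬ I ≤ P.asIdeal → (P.asIdeal ⊔ I).height ≠ n) :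
    ∀ φ : (DerivedCategory.singleFunctor (ModuleCat.{u} R) 0).obj
      (ModuleCat.of R (R ⧸ p.asIdeal)) ⟶ (Q.obj ((G I).obj Jc))⟦(n : ℤ)⟧, φ = 0 := by
  haveI hCM : LocCoh.IsCohenMacaulayRing R :=
    Groth.Agent.Lib.Helper8.LocDualK.isCohenMacaulayRing_of_isRegularRing
  apply forall_eq_zero_of_quot I Jc (ModuleCat.of R (R ⧸ p.asIdeal)) n
  intro k
  apply forall_eq_zero_Jc Jc e
  apply FinExtB.subsingleton_ext_of_forall_height_ne
  intro Q hQ hht
  rw [Module.support_quotient] at hQ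
  obtain ⟨hQ1, hQ2⟩ := hQ
  have hpQ : p ≤ Q := (mem_support_quot_iff p Q).1 hQ1
  haveI := Q.2
  have hIQ : I ≤ Q.asIdeal := Ideal.IsPrime.le_of_pow_le (n := k) hQ2
  obtain ⟨P', h1, h2, h3⟩ := FinExtC.exists_height_sup_eq I p Q hpQ hIp hIQ n hht
  exact h P' h1 h2 h3

/-- **Core finiteness**: over a regular ring `R`, for a finite module `E` such that no prime
`P ∈ Supp E ∖ V(I)` has `ht (P + I) = n`, the module `Hom_{D(R)}(E, RΓ_I(R)[n])` is finite. -/
theorem finite_hom_of_height_ne [IsRegularRing R] (n : ℕ)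
    (E : Type u) [AddCommGroup E] [Module R E] [Module.Finite R E]
    (h : ∀ P : PrimeSpectrum R, P ∈ Module.support R E → ¬ I ≤ P.asIdeal →
      (P.asIdeal ⊔ I).height ≠ n) :
    Module.Finite R ((DerivedCategory.singleFunctor (ModuleCat.{u} R) 0).obj (ModuleCat.of R E) ⟶
      (Q.obj ((G I).obj Jc))⟦(n : ℤ)⟧) := by
  revert h
  refine IsNoetherianRing.induction_on_isQuotientEquivQuotientPrime R (M := E) inferInstance
    (motive := fun N _ _ _ => (∀ P : PrimeSpectrum R, P ∈ Module.support R N → ¬ I ≤ P.asIdeal →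
      (P.asIdeal ⊔ I).height ≠ n) →
      Module.Finite R ((DerivedCategory.singleFunctor (ModuleCat.{u} R) 0).obj (ModuleCat.of R N) ⟶
        (Q.obj ((G I).obj Jc))⟦(n : ℤ)⟧)) ?_ ?_ ?_
  · intro N _ _ _ _ _
    refine FinExtA.finite_hom_of_isZero _ ?_
    exact Functor.map_isZero _ (ModuleCat.isZero_of_subsingleton _)
  · intro N _ _ _ p eN hN
    let eN' : ModuleCat.of R N ≅ ModuleCat.of R (R ⧸ p.asIdeal) := eN.toModuleIso
    refine FinExtA.finite_hom_of_iso _
      ((DerivedCategory.singleFunctor (ModuleCat.{u} R) 0).mapIso eN'.symm) ?_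
    by_cases hIp : I ≤ p.asIdeal
    · refine finite_hom_of_torsion I Jc e (ModuleCat.of R (R ⧸ p.asIdeal)) 1 ?_ n
      intro a x ha
      obtain ⟨y, rfl⟩ := Ideal.Quotient.mk_surjective x
      rw [pow_one] at ha
      change Ideal.Quotient.mk p.asIdeal (a * y) = 0
      rw [Ideal.Quotient.eq_zero_iff_mem]
      exact Ideal.mul_mem_right _ _ (hIp ha)
    · have hz := forall_eq_zero_quot_prime I Jc e p hIp n (fun P hP hIP => by
        refine hN P ?_ hIP
        rw [eN.support_eq]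
        exact (mem_support_quot_iff p P).2 hP)
      haveI : Subsingleton ((DerivedCategory.singleFunctor (ModuleCat.{u} R) 0).obj
          (ModuleCat.of R (R ⧸ p.asIdeal)) ⟶ (Q.obj ((G I).obj Jc))⟦(n : ℤ)⟧) :=
        ⟨fun a b => by rw [hz a, hz b]⟩
      infer_instance
  · intro N₁ _ _ _ N₂ _ _ _ N₃ _ _ _ f g hf hg hfg h1 h3 h2
    have hsupp := Module.support_of_exact hfg hf hg
    have h1' := h1 (fun P hP => h2 P (by rw [hsupp]; exact Or.inl hP))
    have h3' := h3 (fun P hP => h2 P (by rw [hsupp]; exact Or.inr hP))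
    let S : ShortComplex (ModuleCat.{u} R) :=
      ShortComplex.mk (ModuleCat.ofHom f) (ModuleCat.ofHom g) (by
        ext x
        exact hfg.apply_apply_eq_zero x)
    have hS : S.ShortExact := by
      refine ShortComplex.ShortExact.mk' ?_ ?_ ?_
      · rw [ShortComplex.ShortExact.moduleCat_exact_iff_function_exact]
        exact hfg
      · exact (ModuleCat.mono_iff_injective _).2 hf
      · exact (ModuleCat.epi_iff_surjective _).2 hg
    exact FinExtA.finite_hom_of_distTriang _ hS.singleTriangle hS.singleTriangle_distinguished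
      h1' h3'

end Core

end Groth.Agent.Lib.Helper29.FinExtD
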